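import Groth.Agent.Lib.LamModel99e

/-!
# The universal polynomial for `γ^i(z z')` and its weight (helper99)

* `Pγ N i`: an integer polynomial in `X_1..X_N, Y_1..Y_N` with
  `γ^i(z z') = Pγ N i (γ^1 z, …; γ^1 z', …)` in every special λ-ring (`1 ≤ i ≤ N`): `gamma_mul_eq`;
* `Pγ_weight`: all monomials of `Pγ N i` have total weight `≥ i`;
* `TF_mul`: for a multiplicative filtration `F`, `γ`-boundedness is stable under products.
-/

set_option autoImplicit false

namespace Groth.Agent.Lib.LamModel99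

open MvPolynomial Finset _root_.LambdaRing Groth.Agent.Lib.LambdaRing
  Groth.Agent.Lib.LambdaGamma Groth.Agent.Lib.LambdaGamma6 Groth.Agent.Lib.LamFil99
  Groth.Agent.Lib.MulPoly6 Groth.Agent.Lib.SpecialLam6 Groth.Agent.S8687

universe u v

section Def

variable (N : ℕ)

/-- the linear form expressing `λ^a` through the `γ^r`, in the variables `X` -/
noncomputable def LX (a : ℕ) : MvPolynomial (Fin N ⊕ Fin N) ℤ :=
  ∑ r ∈ range (a + 1), C ((-1 : ℤ) ^ (a - r) * ((a - 1).choose (a - r) : ℤ)) * ξ N r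

/-- the linear form expressing `λ^a` through the `γ^r`, in the variables `Y` -/
noncomputable def LY (a : ℕ) : MvPolynomial (Fin N ⊕ Fin N) ℤ :=
  ∑ r ∈ range (a + 1), C ((-1 : ℤ) ^ (a - r) * ((a - 1).choose (a - r) : ℤ)) * η N r

/-- the substitution `λ ↦ γ` -/
noncomputable def subγ : MvPolynomial (Fin N ⊕ Fin N) ℤ →ₐ[ℤ] MvPolynomial (Fin N ⊕ Fin N) ℤ :=
  aeval (Sum.elim (fun k : Fin N => LX N ((k : ℕ) + 1)) (fun k : Fin N => LY N ((k : ℕ) + 1)))

/-- the universal polynomial for `γ^i(z z')` -/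
noncomputable def Pγ (i : ℕ) : MvPolynomial (Fin N ⊕ Fin N) ℤ :=
  ∑ j ∈ range (i + 1), C (((i - 1).choose (j - 1) : ℕ) : ℤ) *
    (if j = 0 then 0 else subγ N (π N j))

end Def

section U1

variable {B : Type*} [CommRing B] [LambdaOps B] (hB : IsSpecial B) (N : ℕ) (z z' : B)

/-- the vector of the `γ^{k+1} z`, `γ^{k+1} z'` -/
def gv : Fin N ⊕ Fin N → B :=
  Sum.elim (fun k : Fin N => gamma ((k : ℕ) + 1) z) (fun k : Fin N => gamma ((k : ℕ) + 1) z')

/-- the vector of the `λ^{k+1} z`, `λ^{k+1} z'` -/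
def lv : Fin N ⊕ Fin N → B :=
  Sum.elim (fun k : Fin N => LambdaOps.lam ((k : ℕ) + 1) z)
    (fun k : Fin N => LambdaOps.lam ((k : ℕ) + 1) z')

lemma aeval_gv_ξ (r : ℕ) (hr : r ≤ N) : aeval (gv N z z') (ξ N r) = gamma r z := by
  rcases r with _ | j
  · rw [ξ, map_one, gamma_zero_eq]
  · rw [ξ, dif_pos (by omega), aeval_X]
    rfl

lemma aeval_gv_η (r : ℕ) (hr : r ≤ N) : aeval (gv N z z') (η N r) = gamma r z' := by
  rcases r with _ | j
  · rw [η, map_one, gamma_zero_eq]
  · rw [η, dif_pos (by omega), aeval_X]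
    rfl

include hB in
lemma aeval_gv_LX (a : ℕ) (ha : 1 ≤ a) (haN : a ≤ N) :
    aeval (gv N z z') (LX N a) = LambdaOps.lam a z := by
  rw [lam_eq_sum_gamma hB.lam_one_eq_zero a ha, LX, map_sum]
  refine Finset.sum_congr rfl fun r hr => ?_
  have hr' : r ≤ N := by have := Finset.mem_range.1 hr; omega
  rw [map_mul, aeval_C, aeval_gv_ξ N z z' r hr']
  congr 1
  simp

include hB in
lemma aeval_gv_LY (a : ℕ) (ha : 1 ≤ a) (haN : a ≤ N) :
    aeval (gv N z z') (LY N a) = LambdaOps.lam a z' := by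
  rw [lam_eq_sum_gamma hB.lam_one_eq_zero a ha, LY, map_sum]
  refine Finset.sum_congr rfl fun r hr => ?_
  have hr' : r ≤ N := by have := Finset.mem_range.1 hr; omega
  rw [map_mul, aeval_C, aeval_gv_η N z z' r hr']
  congr 1
  simp

include hB in
lemma aeval_gv_subγ (p : MvPolynomial (Fin N ⊕ Fin N) ℤ) :
    aeval (gv N z z') (subγ N p) = aeval (lv N z z') p := by
  have h := comp_aeval (R := ℤ)
    (Sum.elim (fun k : Fin N => LX N ((k : ℕ) + 1)) (fun k : Fin N => LY N ((k : ℕ) + 1)))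
    (aeval (R := ℤ) (gv N z z'))
  have h2 := AlgHom.congr_fun h p
  rw [AlgHom.comp_apply] at h2
  rw [subγ, h2]
  congr 2
  funext s
  rcases s with k | k
  · exact aeval_gv_LX hB N z z' _ (by omega) (by have := k.2; omega)
  · exact aeval_gv_LY hB N z z' _ (by omega) (by have := k.2; omega)

include hB in
lemma aeval_lv_π (j : ℕ) (hj : j ≤ N) :
    aeval (lv N z z') (π N j) = LambdaOps.lam j (z * z') := by
  rw [π, dif_pos hj, ι, aeval_rename, hB.lam_mul j (Pst N j hj) (Pst_isMulPoly N j hj)]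
  congr 2
  funext s
  rcases s with k | k <;> rfl

include hB in
/-- **`γ^i(z z') = Pγ(γ z; γ z')`** -/
theorem gamma_mul_eq (i : ℕ) (hi : 1 ≤ i) (hiN : i ≤ N) :
    gamma i (z * z') = aeval (gv N z z') (Pγ N i) := by
  rw [gamma, if_neg (by omega), Pγ, map_sum]
  refine Finset.sum_congr rfl fun j hj => ?_
  have hj' : j ≤ N := by have := Finset.mem_range.1 hj; omega
  rw [map_mul, aeval_C]
  congr 1
  · simp
  · split_ifs with h0
    · rw [map_zero]
    · rw [aeval_gv_subγ hB, aeval_lv_π hB N z z' j hj']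

end U1

/-! ## weights and `Φ` -/

section PhiWeight

lemma fst_add_snd_weight {σ : Type*} (W : σ → ℕ × ℕ) (d : σ →₀ ℕ) :
    (Finsupp.weight W d).1 + (Finsupp.weight W d).2 =
      d.sum fun s k => k * ((W s).1 + (W s).2) := by
  rw [Finsupp.weight_apply, Finsupp.sum, Prod.fst_sum, Prod.snd_sum, ← Finset.sum_add_distrib,
    Finsupp.sum]
  refine Finset.sum_congr rfl fun s _ => ?_
  simp [Nat.mul_add]

variable (N : ℕ)

/-- total weight of an exponent vector: `X_k`, `Y_k` have weight `k + 1` -/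
noncomputable def wt2 (d : Fin N ⊕ Fin N →₀ ℕ) : ℕ :=
  (Finsupp.weight (w N) d).1 + (Finsupp.weight (w N) d).2

lemma degree_eq_of_weight_ω (x : Fin N ⊕ Fin N →₀ ℕ) :
    x.degree = (Finsupp.weight (ω N) x).1 + (Finsupp.weight (ω N) x).2 := by
  rw [fst_add_snd_weight, Finsupp.degree, Finsupp.sum]
  refine Finset.sum_congr rfl fun s _ => ?_
  rcases s with k | k <;> simp [ω]

lemma coeff_Φ_monomial_eq_zero (d : Fin N ⊕ Fin N →₀ ℕ) (c : ℤ) (x : Fin N ⊕ Fin N →₀ ℕ)
    (hx : x.degree ≠ wt2 N d) : coeff x (Φ N (monomial d c)) = 0 := by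
  refine (Φ_monomial_isWH N d c).coeff_eq_zero x ?_
  intro h
  apply hx
  rw [degree_eq_of_weight_ω, h, wt2]

/-- if `Φ P` lies in the `n`-th power of the ideal of variables then all monomials of `P` have
total weight at least `n`. -/
theorem wt2_ge_of_Φ_mem (P : MvPolynomial (Fin N ⊕ Fin N) ℤ) (n : ℕ)
    (h : Φ N P ∈ idealOfVars (Fin N ⊕ Fin N) ℤ ^ n) : ∀ d ∈ P.support, n ≤ wt2 N d := by
  classical
  set lo : MvPolynomial (Fin N ⊕ Fin N) ℤ :=
    ∑ d ∈ P.support.filter (fun d => wt2 N d < n), monomial d (coeff d P) with hlo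
  set hi : MvPolynomial (Fin N ⊕ Fin N) ℤ :=
    ∑ d ∈ P.support.filter (fun d => ¬ wt2 N d < n), monomial d (coeff d P) with hhi
  have hP : P = lo + hi := by
    rw [hlo, hhi, Finset.sum_filter_add_sum_filter_not]
    exact P.as_sum
  have hhi_mem : Φ N hi ∈ idealOfVars (Fin N ⊕ Fin N) ℤ ^ n := by
    rw [hhi, map_sum]
    refine Ideal.sum_mem _ fun d hd => ?_
    rw [mem_pow_idealOfVars_iff']
    intro x hx
    have := (Finset.mem_filter.1 hd).2
    exact coeff_Φ_monomial_eq_zero N d _ x (by omega)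
  have hlo_mem : Φ N lo ∈ idealOfVars (Fin N ⊕ Fin N) ℤ ^ n := by
    have : Φ N lo = Φ N P - Φ N hi := by rw [hP, map_add]; ring
    rw [this]
    exact Ideal.sub_mem _ h hhi_mem
  have hlo_zero : Φ N lo = 0 := by
    ext x
    rw [coeff_zero]
    by_cases hx : x.degree < n
    · exact (mem_pow_idealOfVars_iff' n _).1 hlo_mem x hx
    · rw [hlo, map_sum, coeff_sum]
      refine Finset.sum_eq_zero fun d hd => ?_
      have := (Finset.mem_filter.1 hd).2
      exact coeff_Φ_monomial_eq_zero N d _ x (by omega)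
  have hlo0 : lo = 0 := Φ_injective N (by rw [hlo_zero, map_zero])
  intro d hd
  by_contra hlt
  push Not at hlt
  have hc : coeff d lo = coeff d P := by
    rw [hlo, coeff_sum]
    simp only [coeff_monomial]
    rw [Finset.sum_ite_eq' _ d]
    rw [if_pos (Finset.mem_filter.2 ⟨hd, hlt⟩)]
  rw [hlo0, coeff_zero] at hc
  exact (mem_support_iff.1 hd) hc.symm

end PhiWeight

end Groth.Agent.Lib.LamModel99
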