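import Groth.Agent.Lib.LamModel99f

/-!
# Weight of the universal polynomial `Pγ`, and products of `γ`-bounded elements (helper99)
-/

set_option autoImplicit false

namespace Groth.Agent.Lib.LamModel99

open MvPolynomial Finset _root_.LambdaRing Groth.Agent.Lib.LambdaRing
  Groth.Agent.Lib.LambdaGamma Groth.Agent.Lib.LambdaGamma6 Groth.Agent.Lib.LamFil99
  Groth.Agent.Lib.MulPoly6 Groth.Agent.Lib.SpecialLam6 Groth.Agent.S8687

universe u v

section Gen

/-- `aeval` over `ℤ` does not depend on the algebra instance -/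
lemma aeval_eq_eval₂_intCast {B : Type*} [CommRing B] [inst : Algebra ℤ B] {σ : Type*}
    (f : σ → B) (P : MvPolynomial σ ℤ) :
    aeval f P = eval₂ (Int.castRingHom B) f P := by
  rw [aeval_def]
  congr 1
  exact Subsingleton.elim _ _

variable {A : Type*} [CommRing A] [LambdaOps A]
  (h1 : ∀ k : ℕ, 2 ≤ k → LambdaOps.lam k (1 : A) = 0)

include h1 in
/-- `γ^k` of a sum of `ℓ_a - 1` for "line elements" `ℓ_a` -/
theorem gamma_sum_line_sub_one {σ : Type*} [Fintype σ] [DecidableEq σ] (ℓ : σ → A)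
    (hℓ : ∀ a j, 2 ≤ j → LambdaOps.lam j (ℓ a) = 0) (k : ℕ) :
    gamma k (∑ a : σ, (ℓ a - 1)) =
      ∑ t ∈ (Finset.univ : Finset σ).powersetCard k, ∏ a ∈ t, (ℓ a - 1) := by
  rw [← coeff_gammaSeries, Groth.Agent.Lib.LambdaGamma.gammaSeries_sum]
  have : ∀ a ∈ (Finset.univ : Finset σ), gammaSeries (ℓ a - 1) =
      1 + PowerSeries.C (ℓ a - 1) * PowerSeries.X := fun a _ =>
    gammaSeries_sub_one h1 (ℓ a) (hℓ a)
  rw [Finset.prod_congr rfl this, coeff_prod_one_add]

end Gen

section U2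

attribute [local instance] modelOps

variable (N : ℕ)

/-- `Σ_a (x_a - 1)` over the first family of variables -/
noncomputable def zX : MvPolynomial (Fin N ⊕ Fin N) ℤ :=
  ∑ a : Fin N, ((X (Sum.inl a) : MvPolynomial (Fin N ⊕ Fin N) ℤ) - 1)

/-- `Σ_b (y_b - 1)` over the second family of variables -/
noncomputable def zY : MvPolynomial (Fin N ⊕ Fin N) ℤ :=
  ∑ a : Fin N, ((X (Sum.inr a) : MvPolynomial (Fin N ⊕ Fin N) ℤ) - 1)

lemma shift_gamma_zX (k : ℕ) :
    shift (gamma k (zX N)) = rename Sum.inl (esymm (Fin N) ℤ k) := by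
  classical
  rw [zX, gamma_sum_line_sub_one (model_isSpecial (τ := Fin N ⊕ Fin N) (K := ℤ)).lam_one_eq_zero
    (fun a : Fin N => (X (Sum.inl a) : MvPolynomial (Fin N ⊕ Fin N) ℤ))
    (fun a => lam_X_eq_zero (Sum.inl a)), esymm, map_sum, map_sum]
  refine Finset.sum_congr rfl fun t _ => ?_
  rw [map_prod, map_prod]
  refine Finset.prod_congr rfl fun a _ => ?_
  rw [rename_X, map_sub, map_one, shift, aeval_X, add_sub_cancel_right]

lemma shift_gamma_zY (k : ℕ) :
    shift (gamma k (zY N)) = rename Sum.inr (esymm (Fin N) ℤ k) := by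
  classical
  rw [zY, gamma_sum_line_sub_one (model_isSpecial (τ := Fin N ⊕ Fin N) (K := ℤ)).lam_one_eq_zero
    (fun a : Fin N => (X (Sum.inr a) : MvPolynomial (Fin N ⊕ Fin N) ℤ))
    (fun a => lam_X_eq_zero (Sum.inr a)), esymm, map_sum, map_sum]
  refine Finset.sum_congr rfl fun t _ => ?_
  rw [map_prod, map_prod]
  refine Finset.prod_congr rfl fun a _ => ?_
  rw [rename_X, map_sub, map_one, shift, aeval_X, add_sub_cancel_right]

lemma shift_eval₂_gv (P : MvPolynomial (Fin N ⊕ Fin N) ℤ) :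
    shift (eval₂ (Int.castRingHom _) (gv N (zX N) (zY N)) P) = Φ N P := by
  rw [Φ, aeval_eq_eval₂_intCast]
  have h := MvPolynomial.eval₂_comp_left
    (shift (τ := Fin N ⊕ Fin N) (K := ℤ)).toRingHom (Int.castRingHom _)
    (gv N (zX N) (zY N)) P
  have h0 : (shift (τ := Fin N ⊕ Fin N) (K := ℤ)).toRingHom.comp (Int.castRingHom _) =
      Int.castRingHom _ := Subsingleton.elim _ _
  have hfun : (⇑(shift (τ := Fin N ⊕ Fin N) (K := ℤ)).toRingHom ∘ gv N (zX N) (zY N)) =
      Sum.elim (fun k : Fin N => rename Sum.inl (esymm (Fin N) ℤ ((k : ℕ) + 1)))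
        (fun k : Fin N => rename Sum.inr (esymm (Fin N) ℤ ((k : ℕ) + 1))) := by
    funext s
    rcases s with k | k
    · rw [Function.comp_apply, gv, Sum.elim_inl, Sum.elim_inl]
      exact shift_gamma_zX N _
    · rw [Function.comp_apply, gv, Sum.elim_inr, Sum.elim_inr]
      exact shift_gamma_zY N _
  rw [h0, hfun] at h
  exact h

lemma aug1_zX_mul : aug1 (zX N * zY N) = 0 := by
  have : aug1 (zX N) = 0 := by
    rw [zX, map_sum]
    refine Finset.sum_eq_zero fun a _ => ?_
    simp [aug1]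
  rw [map_mul, this, zero_mul]

/-- **all monomials of `Pγ N i` have total weight `≥ i`.** -/
theorem Pγ_weight (i : ℕ) (hi : 1 ≤ i) (hiN : i ≤ N) :
    ∀ d ∈ (Pγ N i).support, i ≤ wt2 N d := by
  refine wt2_ge_of_Φ_mem N _ i ?_
  have h1 := model_TF _ (aug1_zX_mul N) i
  rw [gamma_mul_eq model_isSpecial N (zX N) (zY N) i hi hiN, aeval_eq_eval₂_intCast, mem_Jf,
    shift_eval₂_gv] at h1
  exact h1

end U2

section TFmul

variable {B : Type*} [CommRing B] [LambdaOps B] (hB : IsSpecial B) {F : ℕ → Ideal B}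
  (hF : IsMulFilt F)

include hB hF in
/-- **`γ`-bounded elements are stable under products.** -/
theorem TF_mul {z z' : B} (hz : TF F z) (hz' : TF F z') : TF F (z * z') := by
  intro i
  rcases Nat.eq_zero_or_pos i with rfl | hi
  · rw [hF.zero]; trivial
  · rw [gamma_mul_eq hB i z z' i hi le_rfl]
    refine hF.aeval_mem (gv i z z') (fun s => ((w i s).1 + (w i s).2)) ?_ _ i ?_
    · rintro (k | k)
      · have := hz ((k : ℕ) + 1)
        simpa [gv, w] using this
      · have := hz' ((k : ℕ) + 1)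
        simpa [gv, w] using this
    · intro d hd
      have := Pγ_weight i i hi le_rfl d hd
      rwa [wt2, fst_add_snd_weight] at this

end TFmul

end Groth.Agent.Lib.LamModel99
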