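import Groth.Agent.Lib.LamModel99g

/-!
# The free λ-ring on one generator over an augmented λ-algebra `A`: comparison maps (helper99)

`B = A[γ^1 x, γ^2 x, …]`.  For a special `K`-λ-algebra `M'` and `z₀ : M'` we construct the
`K`-algebra map `lift : B → M'`, `a ↦ ε_A(a)`, `γ^k x ↦ γ^k z₀` and show that it commutes with the
λ-operations.
-/

set_option autoImplicit false

namespace Groth.Agent.Lib.LamModel99

open MvPolynomial Finset _root_.LambdaRing Groth.Agent.Lib.LambdaRing
  Groth.Agent.Lib.LambdaGamma Groth.Agent.Lib.LambdaGamma6 Groth.Agent.Lib.LamFil99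

universe u v w w'

section Lift

variable {K : Type u} [CommRing K] [LambdaOps K]
  {A : Type v} [CommRing A] [LambdaOps A] [Algebra K A]
  (εA : A →ₐ[K] K)
  {B : Type w} [CommRing B] [LambdaOps B] [Algebra K B] [Algebra A B] [IsScalarTower K A B]
  (x : B)
  (hind : AlgebraicIndependent A (fun j : ℕ => gamma (j + 1) x))
  (hgen : Algebra.adjoin A (Set.range fun j : ℕ => gamma (j + 1) x) = ⊤)

include hind hgen in
lemma aevalA_bijective :
    Function.Bijective (aeval (R := A) (fun j : ℕ => gamma (j + 1) x)) := by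
  refine ⟨hind, ?_⟩
  rw [← AlgHom.range_eq_top, ← Algebra.adjoin_range_eq_range_aeval, hgen]

/-- the coordinate isomorphism `A[Y_0, Y_1, …] ≃ B` -/
noncomputable def psiA : MvPolynomial ℕ A ≃ₐ[A] B :=
  AlgEquiv.ofBijective (aeval (R := A) (fun j : ℕ => gamma (j + 1) x))
    (aevalA_bijective x hind hgen)

lemma psiA_apply (p : MvPolynomial ℕ A) :
    psiA x hind hgen p = aeval (fun j : ℕ => gamma (j + 1) x) p := rfl

variable {M' : Type w'} [CommRing M'] [Algebra K M'] (t : ℕ → M')

/-- the underlying ring map of `lift` -/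
noncomputable def liftRing : B →+* M' :=
  (eval₂Hom ((algebraMap K M').comp (εA : A →+* K)) t).comp
    (psiA x hind hgen).symm.toAlgHom.toRingHom

lemma liftRing_psiA (p : MvPolynomial ℕ A) :
    liftRing εA x hind hgen t (psiA x hind hgen p) =
      eval₂ ((algebraMap K M').comp (εA : A →+* K)) t p := by
  rw [liftRing, RingHom.comp_apply]
  have : (psiA x hind hgen).symm.toAlgHom.toRingHom (psiA x hind hgen p) = p :=
    (psiA x hind hgen).symm_apply_apply p
  rw [this]
  rfl

lemma liftRing_algebraMap (a : A) :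
    liftRing εA x hind hgen t (algebraMap A B a) = algebraMap K M' (εA a) := by
  have : algebraMap A B a = psiA x hind hgen (C a) := by
    rw [psiA_apply, aeval_C]
  rw [this, liftRing_psiA, eval₂_C]
  rfl

lemma liftRing_gen (j : ℕ) :
    liftRing εA x hind hgen t (gamma (j + 1) x) = t j := by
  have : gamma (j + 1) x = psiA x hind hgen (X j) := by
    rw [psiA_apply, aeval_X]
  rw [this, liftRing_psiA, eval₂_X]

/-- the `K`-algebra map `B → M'`, `a ↦ ε_A(a)`, `γ^{j+1} x ↦ t_j`. -/
noncomputable def lift : B →ₐ[K] M' :=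
  { liftRing εA x hind hgen t with
    commutes' := by
      intro κ
      change liftRing εA x hind hgen t (algebraMap K B κ) = _
      rw [IsScalarTower.algebraMap_apply K A B, liftRing_algebraMap, AlgHom.commutes]
      rfl }

lemma lift_algebraMap (a : A) :
    lift εA x hind hgen t (algebraMap A B a) = algebraMap K M' (εA a) :=
  liftRing_algebraMap εA x hind hgen t a

lemma lift_gen (j : ℕ) : lift εA x hind hgen t (gamma (j + 1) x) = t j :=
  liftRing_gen εA x hind hgen t j

lemma lift_psiA (p : MvPolynomial ℕ A) :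
    lift εA x hind hgen t (psiA x hind hgen p) =
      eval₂ ((algebraMap K M').comp (εA : A →+* K)) t p :=
  liftRing_psiA εA x hind hgen t p

include hind hgen in
/-- two ring maps out of `B` agree if they agree on `A` and on the generators -/
lemma ringHom_ext_B {R : Type*} [CommRing R] (f g : B →+* R)
    (hA : ∀ a : A, f (algebraMap A B a) = g (algebraMap A B a))
    (hs : ∀ j : ℕ, f (gamma (j + 1) x) = g (gamma (j + 1) x)) (b : B) : f b = g b := by
  obtain ⟨p, rfl⟩ := (psiA x hind hgen).surjective b
  have : f.comp (psiA x hind hgen).toAlgHom.toRingHom =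
      g.comp (psiA x hind hgen).toAlgHom.toRingHom := by
    apply MvPolynomial.ringHom_ext
    · intro a
      change f (psiA x hind hgen (C a)) = g (psiA x hind hgen (C a))
      rw [psiA_apply, aeval_C]
      exact hA a
    · intro j
      change f (psiA x hind hgen (X j)) = g (psiA x hind hgen (X j))
      rw [psiA_apply, aeval_X]
      exact hs j
  exact RingHom.congr_fun this p

variable [LambdaOps M']
  (hA : IsSpecial A) (hB : IsSpecial B) (hM' : IsSpecial M')
  (hKB : IsLambdaAlg K B) (hKM' : IsLambdaAlg K M') (hAB : IsLambdaAlg A B)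
  (hεA : ∀ (n : ℕ) (a : A), εA (LambdaOps.lam n a) = LambdaOps.lam n (εA a))
  (hP : ∀ n : ℕ, ∃ P : MvPolynomial (Fin n ⊕ Fin n) ℤ, IsMulPoly n P)
  (hQ : ∀ i j : ℕ, ∃ Q : MvPolynomial (Fin (i * j)) ℤ, IsCompPoly i j Q)

include hB hM' hKB hKM' hAB hεA hP hQ in
/-- **`lift` commutes with the λ-operations** when `t_j = γ^{j+1} z₀`. -/
theorem lift_comm (z₀ : M') (ht : ∀ j, t j = gamma (j + 1) z₀) (b : B) :
    Comm (lift εA x hind hgen t) b := by
  have hγ : ∀ k, lift εA x hind hgen t (gamma k x) = gamma k z₀ := by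
    intro k
    rcases k with _ | j
    · rw [gamma_zero_eq, gamma_zero_eq, map_one]
    · rw [lift_gen, ht]
  have hx0 : lift εA x hind hgen t x = z₀ := by
    have := hγ 1
    rwa [gamma_one_eq, gamma_one_eq] at this
  have hcx : Comm (lift εA x hind hgen t) x := by
    refine Comm_of_gamma hB hM' hKB hKM' fun k => ?_
    rw [hx0, hγ]
  have hcA : ∀ a : A, Comm (lift εA x hind hgen t) (algebraMap A B a) := by
    intro a k
    rw [← hAB, lift_algebraMap, lift_algebraMap, hεA, hKM']
  have hb : b ∈ Algebra.adjoin A (Set.range fun j : ℕ => gamma (j + 1) x) := by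
    rw [hgen]; trivial
  induction hb using Algebra.adjoin_induction with
  | mem s hs =>
    obtain ⟨j, rfl⟩ := hs
    exact Comm_gamma hB hM' hKB hKM' hQ hcx _
  | algebraMap a => exact hcA a
  | add b b' _ _ hb hb' => exact Comm_add hb hb'
  | mul b b' _ _ hb hb' => exact Comm_mul hB hM' hP hb hb'

end Lift

end Groth.Agent.Lib.LamModel99
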