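import Groth.Agent.Lib.LamModel99h

/-!
# The γ-filtration of the free λ-ring on one generator over `A` (helper99)
-/

set_option autoImplicit false

namespace Groth.Agent.Lib.LamModel99

open MvPolynomial Finset _root_.LambdaRing Groth.Agent.Lib.LambdaRing
  Groth.Agent.Lib.LambdaGamma Groth.Agent.Lib.LambdaGamma6 Groth.Agent.Lib.LamFil99

universe u v w

section Main

variable {K : Type u} [CommRing K] [LambdaOps K] [BinomialRing K]
  {A : Type v} [CommRing A] [LambdaOps A] [Algebra K A]
  (εA : A →ₐ[K] K)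
  {B : Type w} [CommRing B] [LambdaOps B] [Algebra K B] [Algebra A B] [IsScalarTower K A B]
  (x : B)

attribute [local instance] modelOps

/-- weight of an exponent vector -/
def wE (e : ℕ →₀ ℕ) : ℕ := e.sum fun j n => (j + 1) * n

/-- the monomial in the `γ^{j+1} x` -/
def mE (e : ℕ →₀ ℕ) : B := e.prod fun j n => gamma (j + 1) x ^ n

/-- the candidate filtration of `B` -/
def Ff (k : ℕ) : Ideal B :=
  Ideal.span {b : B | ∃ (e : ℕ →₀ ℕ) (a : A),
    a ∈ gammaFil (εA : A →+* K) (k - wE e) ∧ b = algebraMap A B a * mE x e}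

lemma wE_add (e e' : ℕ →₀ ℕ) : wE (e + e') = wE e + wE e' := by
  rw [wE, wE, wE]
  exact Finsupp.sum_add_index' (h := fun j n => (j + 1) * n) (fun _ => Nat.mul_zero _)
    (fun _ _ _ => Nat.mul_add _ _ _)

omit [LambdaOps K] [BinomialRing K] [Algebra K B] in
lemma mE_add (e e' : ℕ →₀ ℕ) : mE x (e + e') = mE x e * mE x e' := by
  rw [mE, mE, mE]
  exact Finsupp.prod_add_index' (fun _ => pow_zero _) (fun _ _ _ => pow_add _ _ _)

omit [BinomialRing K] [IsScalarTower K A B] [LambdaOps K] [Algebra K B] in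
lemma mem_Ff {k : ℕ} {e : ℕ →₀ ℕ} {a : A} (ha : a ∈ gammaFil (εA : A →+* K) (k - wE e)) :
    algebraMap A B a * mE x e ∈ Ff εA x k :=
  Ideal.subset_span ⟨e, a, ha, rfl⟩

omit [BinomialRing K] [IsScalarTower K A B] [LambdaOps K] [Algebra K B] in
lemma Ff_isMulFilt : IsMulFilt (Ff εA x) where
  zero := by
    rw [Ideal.eq_top_iff_one]
    have := mem_Ff εA x (k := 0) (e := 0) (a := 1)
      (by rw [Nat.zero_sub, gammaFil_zero]; trivial)
    rwa [map_one, one_mul, mE, Finsupp.prod_zero_index] at this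
  anti := by
    intro a b hab
    refine Ideal.span_mono ?_
    rintro _ ⟨e, c, hc, rfl⟩
    exact ⟨e, c, gammaFil_anti _ (by omega) hc, rfl⟩
  mul := by
    intro a b y hy y' hy'
    have h : Ff εA x a * Ff εA x b ≤ Ff εA x (a + b) := by
      rw [Ff, Ff, Ideal.span_mul_span']
      refine Ideal.span_le.2 ?_
      rintro _ ⟨_, ⟨e, c, hc, rfl⟩, _, ⟨e', c', hc', rfl⟩, rfl⟩
      have h1 : algebraMap A B c * mE x e * (algebraMap A B c' * mE x e') =
          algebraMap A B (c * c') * mE x (e + e') := by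
        rw [map_mul, mE_add]; ring
      change algebraMap A B c * mE x e * (algebraMap A B c' * mE x e') ∈ _
      rw [h1]
      refine mem_Ff εA x ?_
      rw [wE_add]
      exact gammaFil_anti _ (by omega) (mul_mem_gammaFil _ hc hc')
    exact h (Ideal.mul_mem_mul hy hy')

omit [BinomialRing K] [IsScalarTower K A B] [LambdaOps K] [Algebra K B] in
lemma algebraMap_gamma (hAB : IsLambdaAlg A B) (i : ℕ) (a : A) :
    algebraMap A B (gamma i a) = gamma i (algebraMap A B a) := by
  rw [gamma, gamma]
  split_ifs with h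
  · rw [map_one]
  · rw [map_sum]
    refine Finset.sum_congr rfl fun j _ => ?_
    rw [map_mul, map_natCast]
    split_ifs with hj
    · rw [map_zero]
    · rw [hAB j]

omit [BinomialRing K] [IsScalarTower K A B] [LambdaOps K] [Algebra K B] in
/-- elements of `A` of augmentation zero are `γ`-bounded in `B` -/
lemma TF_algebraMap (hAB : IsLambdaAlg A B) (a : A) (ha : εA a = 0) :
    TF (Ff εA x) (algebraMap A B a) := by
  intro i
  rw [← algebraMap_gamma hAB]
  have := mem_Ff εA x (k := i) (e := 0) (a := gamma i a)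
    (by
      have : wE 0 = 0 := by rw [wE, Finsupp.sum_zero_index]
      rw [this, Nat.sub_zero]
      exact gamma_mem_gammaFil _ ha i)
  rwa [mE, Finsupp.prod_zero_index, mul_one] at this

end Main

end Groth.Agent.Lib.LamModel99
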