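import Groth.Agent.Lib.LamModel99i

/-!
# The γ-filtration of the free λ-ring on one generator over `A`: main theorem (helper99)
-/

set_option autoImplicit false

namespace Groth.Agent.Lib.LamModel99

open MvPolynomial Finset _root_.LambdaRing Groth.Agent.Lib.LambdaRing
  Groth.Agent.Lib.LambdaGamma Groth.Agent.Lib.LambdaGamma6 Groth.Agent.Lib.LamFil99

universe u v w

section Main2

variable {K : Type u} [CommRing K] [LambdaOps K] [BinomialRing K]
  {A : Type v} [CommRing A] [LambdaOps A] [Algebra K A]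
  (εA : A →ₐ[K] K)
  {B : Type w} [CommRing B] [LambdaOps B] [Algebra K B] [Algebra A B] [IsScalarTower K A B]
  (x : B)
  (hKb : IsBinomial K) (hεA : IsAugLambdaAlg K A εA)
  (hB : IsSpecial B) (hAB : IsLambdaAlg A B)
  (εB : B →ₐ[K] K) (hεB : IsAugLambdaAlg K B εB) (hεAB : ∀ a : A, εB (algebraMap A B a) = εA a)
  (hP : ∀ n : ℕ, ∃ P : MvPolynomial (Fin n ⊕ Fin n) ℤ, IsMulPoly n P)
  (hQ : ∀ i j : ℕ, ∃ Q : MvPolynomial (Fin (i * j)) ℤ, IsCompPoly i j Q)
  (hx : εB x = 0)
  (hind : AlgebraicIndependent A (fun j : ℕ => gamma (j + 1) x))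
  (hgen : Algebra.adjoin A (Set.range fun j : ℕ => gamma (j + 1) x) = ⊤)

attribute [local instance] modelOps

/-- the retraction of `B` onto `K[γ^j x]` -/
noncomputable def retr : B →ₐ[K] B := lift εA x hind hgen (fun j => gamma (j + 1) x)

include hεA hB hAB hεB hP hQ in
lemma retr_comm (b : B) : Comm (retr εA x hind hgen) b :=
  lift_comm εA x hind hgen _ hB hB hεB.isLambdaAlg hεB.isLambdaAlg hAB hεA.map_lam hP hQ x
    (fun _ => rfl) b

omit [BinomialRing K] in
lemma retr_gen (j : ℕ) : retr εA x hind hgen (gamma (j + 1) x) = gamma (j + 1) x :=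
  lift_gen εA x hind hgen _ j

omit [BinomialRing K] in
lemma retr_mE (e : ℕ →₀ ℕ) : retr εA x hind hgen (mE x e) = mE x e := by
  rw [mE, map_finsuppProd]
  refine Finsupp.prod_congr fun j _ => ?_
  rw [map_pow, retr_gen]

/-- the images of the generators in the model with `N` variables -/
noncomputable def gNat (N : ℕ) (j : ℕ) : MvPolynomial (Fin N) K :=
  aeval (fun a : Fin N => (X a : MvPolynomial (Fin N) K) - 1) (esymm (Fin N) K (j + 1))

/-- the comparison map to the model with `N` variables -/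
noncomputable def phiN (N : ℕ) : B →ₐ[K] MvPolynomial (Fin N) K :=
  lift εA x hind hgen (gNat (K := K) N)

include hKb hεA hB hAB hεB hP hQ in
lemma phiN_comm (N : ℕ) (b : B) : Comm (phiN εA x hind hgen N) b :=
  lift_comm εA x hind hgen _ hB model_isSpecial hεB.isLambdaAlg (model_isLambdaAlg hKb) hAB
    hεA.map_lam hP hQ (zN (K := K) N) (fun j => (gamma_zN N (j + 1)).symm) b

omit [LambdaOps K] in
lemma aug1_gamma_zN (N k : ℕ) (hk : 1 ≤ k) : aug1 (gamma k (zN (K := K) N)) = 0 := by
  have hT := model_TF (zN (K := K) N) (aug1_zN N) k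
  have h1 : Jf (τ := Fin N) (K := K) k ≤ Jf 1 :=
    Ideal.comap_mono (Ideal.pow_le_pow_right hk)
  exact mem_Jf_one.1 (h1 hT)

include hεB hεAB hx in
lemma aug1_phiN (N : ℕ) (b : B) : aug1 (phiN εA x hind hgen N b) = εB b := by
  refine ringHom_ext_B x hind hgen
    ((aug1 (τ := Fin N) (K := K)).toRingHom.comp (phiN εA x hind hgen N).toRingHom)
    (εB : B →+* K) ?_ ?_ b
  · intro a
    change aug1 (phiN εA x hind hgen N (algebraMap A B a)) = εB (algebraMap A B a)
    rw [phiN, lift_algebraMap, AlgHom.commutes, hεAB]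
    rfl
  · intro j
    change aug1 (phiN εA x hind hgen N (gamma (j + 1) x)) = εB (gamma (j + 1) x)
    rw [phiN, lift_gen, aug_gamma_eq_zero εB hεB x hx _ (by omega), gNat, ← gamma_zN,
      aug1_gamma_zN N _ (by omega)]

include hKb hεA hB hAB hεB hεAB hP hQ hx in
/-- **elements of `K[γ^j x]` of augmentation zero are `γ`-bounded.** -/
theorem TF_of_retr (y : B) (hry : retr εA x hind hgen y = y) (hy : εB y = 0) :
    TF (Ff εA x) y := by
  intro i
  have hrb : retr εA x hind hgen (gamma i y) = gamma i y := by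
    rw [map_gamma_of_Comm (retr_comm εA x hεA hB hAB εB hεB hP hQ hind hgen y) i, hry]
  obtain ⟨qA, hqA⟩ := (psiA x hind hgen).surjective (gamma i y)
  set q : MvPolynomial ℕ K := map (εA : A →+* K) qA with hq
  have hbq : gamma i y = aeval (R := K) (fun j : ℕ => gamma (j + 1) x) q := by
    rw [← hrb, ← hqA, retr, lift_psiA, hq, aeval_def, eval₂_map]
  obtain ⟨N, hN⟩ : ∃ N, ∀ j ∈ q.vars, j < N :=
    ⟨q.vars.sup id + 1, fun j hj => Nat.lt_succ_of_le (Finset.le_sup (f := id) hj)⟩
  obtain ⟨q', hq'⟩ := exists_rename_eq_of_vars_subset_range q (Fin.val : Fin N → ℕ)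
    Fin.val_injective (by intro j hj; exact ⟨⟨j, hN j hj⟩, rfl⟩)
  have h1 : phiN εA x hind hgen N (gamma i y) = gamma i (phiN εA x hind hgen N y) :=
    map_gamma_of_Comm (phiN_comm εA x hKb hεA hB hAB εB hεB hP hQ hind hgen N y) i
  have h2 : gamma i (phiN εA x hind hgen N y) ∈ Jf (τ := Fin N) (K := K) i :=
    model_TF _ (by rw [aug1_phiN εA x εB hεB hεAB hx hind hgen, hy]) i
  have h3 : phiN εA x hind hgen N (gamma i y) = aeval (gN (K := K) N) q' := by
    rw [hbq, ← hq', aeval_rename]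
    have h := comp_aeval (R := K) ((fun j : ℕ => gamma (j + 1) x) ∘ (Fin.val : Fin N → ℕ))
      (phiN εA x hind hgen N)
    have h' := AlgHom.congr_fun h q'
    rw [AlgHom.comp_apply] at h'
    rw [h']
    congr 2
    funext j
    exact lift_gen εA x hind hgen _ _
  rw [← h1, h3, mem_Jf, shift_aeval_gN] at h2
  have hw := wt_ge_of_E_mem q' i h2
  rw [hbq, ← hq', aeval_rename, q'.as_sum, map_sum]
  refine Ideal.sum_mem _ fun d hd => ?_
  rw [aeval_monomial]
  refine Ideal.mul_mem_left _ _ ?_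
  have hm : (d.prod fun j n => ((fun j : ℕ => gamma (j + 1) x) ∘ (Fin.val : Fin N → ℕ)) j ^ n) =
      mE x (d.mapDomain Fin.val) := by
    rw [mE, Finsupp.prod_mapDomain_index_inj Fin.val_injective]
    rfl
  have hwd : wE (d.mapDomain Fin.val) = wt d := by
    rw [wE, Finsupp.sum_mapDomain_index_inj Fin.val_injective, wt, Finsupp.sum]
  rw [hm]
  have := mem_Ff εA x (k := i) (e := d.mapDomain Fin.val) (a := 1)
    (by rw [hwd, Nat.sub_eq_zero_of_le (hw d hd), gammaFil_zero]; trivial)
  rwa [map_one, one_mul] at this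

end Main2

end Groth.Agent.Lib.LamModel99
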