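import Groth.Agent.Lib.LamModel99j

/-!
# The γ-filtration of the free λ-ring on one generator over `A`: conclusion (helper99)
-/

set_option autoImplicit false

namespace Groth.Agent.Lib.LamModel99

open MvPolynomial Finset _root_.LambdaRing Groth.Agent.Lib.LambdaRing
  Groth.Agent.Lib.LambdaGamma Groth.Agent.Lib.LambdaGamma6 Groth.Agent.Lib.LamFil99

universe u v w

section Main3

variable {K : Type u} [CommRing K] [LambdaOps K] [BinomialRing K]
  {A : Type v} [CommRing A] [LambdaOps A] [Algebra K A]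
  (εA : A →ₐ[K] K)
  {B : Type w} [CommRing B] [LambdaOps B] [Algebra K B] [Algebra A B] [IsScalarTower K A B]
  (x : B)
  (hKb : IsBinomial K) (hεA : IsAugLambdaAlg K A εA)
  (hB : IsSpecial B) (hAB : IsLambdaAlg A B)
  (εB : B →ₐ[K] K) (hεB : IsAugLambdaAlg K B εB) (hεAB : ∀ a : A, εB (algebraMap A B a) = εA a)
  (hP : ∀ n : ℕ, ∃ P : MvPolynomial (Fin n ⊕ Fin n) ℤ, IsMulPoly n P)
  (hQ : ∀ i j : ℕ, ∃ Q : MvPolynomial (Fin (i * j)) ℤ, IsCompPoly i j Q)
  (hx : εB x = 0)
  (hind : AlgebraicIndependent A (fun j : ℕ => gamma (j + 1) x))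
  (hgen : Algebra.adjoin A (Set.range fun j : ℕ => gamma (j + 1) x) = ⊤)

include hεB hx in
lemma aug_mE_eq_zero (e : ℕ →₀ ℕ) (he : e ≠ 0) : εB (mE x e) = 0 := by
  rw [mE, map_finsuppProd, Finsupp.prod]
  obtain ⟨j, hj⟩ : ∃ j, j ∈ e.support := by
    by_contra h
    push Not at h
    exact he (Finsupp.support_eq_empty.1 (Finset.eq_empty_of_forall_notMem h))
  refine Finset.prod_eq_zero hj ?_
  rw [map_pow, aug_gamma_eq_zero εB hεB x hx _ (by omega),
    zero_pow (Finsupp.mem_support_iff.1 hj)]

include hKb hεA hB hAB hεB hεAB hP hQ hx hind hgen in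
/-- `a · m` is `γ`-bounded for a non-constant monomial `m` -/
lemma TF_algebraMap_mul_mE (a : A) (e : ℕ →₀ ℕ) (he : e ≠ 0) :
    TF (Ff εA x) (algebraMap A B a * mE x e) := by
  have hF := Ff_isMulFilt εA (B := B) x
  have hm0 := aug_mE_eq_zero x εB hεB hx e he
  set a' : A := a - algebraMap K A (εA a) with ha'
  have hεa' : εA a' = 0 := by
    rw [ha', map_sub, AlgHom.commutes, Algebra.algebraMap_self_apply, sub_self]
  have e1 : algebraMap A B a * mE x e =
      algebraMap K B (εA a) * mE x e + algebraMap A B a' * mE x e := by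
    rw [ha', map_sub, ← IsScalarTower.algebraMap_apply K A B]; ring
  rw [e1]
  refine TF_add (fun a b x hx y hy => hF.mul a b x hx y hy) ?_ ?_
  · refine TF_of_retr εA x hKb hεA hB hAB εB hεB hεAB hP hQ hx hind hgen _ ?_ ?_
    · rw [map_mul, AlgHom.commutes, retr_mE]
    · rw [map_mul, hm0, mul_zero]
  · exact TF_mul hB hF (TF_algebraMap εA x hAB a' hεa')
      (TF_of_retr εA x hKb hεA hB hAB εB hεB hεAB hP hQ hx hind hgen _
        (retr_mE εA x hind hgen e) hm0)

include hKb hεA hB hAB hεB hεAB hP hQ hx hind hgen in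
/-- **every element of augmentation zero is `γ`-bounded.** -/
theorem TF_of_aug_eq_zero (z : B) (hz : εB z = 0) : TF (Ff εA x) z := by
  classical
  have hF := Ff_isMulFilt εA (B := B) x
  obtain ⟨p, rfl⟩ := (psiA x hind hgen).surjective z
  have hdec : psiA x hind hgen p =
      ∑ e ∈ p.support, algebraMap A B (coeff e p) * mE x e := by
    conv_lhs => rw [p.as_sum]
    rw [map_sum]
    refine Finset.sum_congr rfl fun e _ => ?_
    rw [psiA_apply, aeval_monomial]
    rfl
  have hε0 : εA (coeff 0 p) = 0 := by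
    rw [hdec, map_sum] at hz
    by_cases h0 : (0 : ℕ →₀ ℕ) ∈ p.support
    · rw [Finset.sum_eq_single_of_mem 0 h0] at hz
      · rwa [map_mul, hεAB, mE, Finsupp.prod_zero_index, map_one, mul_one] at hz
      · intro e _ he
        rw [map_mul, aug_mE_eq_zero x εB hεB hx e he, mul_zero]
    · rw [notMem_support_iff.1 h0, map_zero]
  rw [hdec]
  refine TF_sum hF.zero (fun a b x hx y hy => hF.mul a b x hx y hy) _ _ fun e _ => ?_
  by_cases he : e = 0
  · rw [he, mE, Finsupp.prod_zero_index, mul_one]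
    exact TF_algebraMap εA x hAB _ hε0
  · exact TF_algebraMap_mul_mE εA x hKb hεA hB hAB εB hεB hεAB hP hQ hx hind hgen _ e he

omit [BinomialRing K] [IsScalarTower K A B] [LambdaOps K] in
include hAB hεAB in
lemma algebraMap_mem_gammaFil {m : ℕ} {a : A} (ha : a ∈ gammaFil (εA : A →+* K) m) :
    algebraMap A B a ∈ gammaFil (εB : B →+* K) m := by
  have h : gammaFil (εA : A →+* K) m ≤
      Ideal.comap (algebraMap A B) (gammaFil (εB : B →+* K) m) := by
    rw [gammaFil_eq_span]
    refine Ideal.span_le.2 ?_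
    rintro y ⟨l, hl, hm, rfl⟩
    rw [SetLike.mem_coe, Ideal.mem_comap]
    refine Ideal.subset_span ⟨l.map (fun p => (p.1, algebraMap A B p.2)), ?_, ?_, ?_⟩
    · intro p hp
      obtain ⟨p', hp', rfl⟩ := List.mem_map.1 hp
      change εB (algebraMap A B p'.2) = 0
      rw [hεAB]
      exact hl p' hp'
    · rw [List.map_map]
      exact hm
    · rw [map_list_prod, List.map_map, List.map_map]
      congr 1
      refine List.map_congr_left fun p _ => ?_
      exact algebraMap_gamma hAB _ _
  exact h ha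

omit [BinomialRing K] [IsScalarTower K A B] [LambdaOps K] [LambdaOps A] [Algebra A B]
  [Algebra K A] in
include hx in
lemma mE_mem_gammaFil (e : ℕ →₀ ℕ) : mE x e ∈ gammaFil (εB : B →+* K) (wE e) := by
  have := monomial_mem_fil (εB : B →+* K) (fun j : ℕ => gamma (j + 1) x) (fun j => j + 1)
    (fun j => gamma_mem_gammaFil _ hx _) e
  have hw : (e.sum fun i k => k * (i + 1)) = wE e := by
    rw [wE]
    refine Finsupp.sum_congr fun j _ => ?_
    rw [Nat.mul_comm]
  rwa [hw] at this

include hKb hεA hB hAB hεB hεAB hP hQ hx hind hgen in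
/-- **The γ-filtration of `B = A[γ^1 x, γ^2 x, …]`.** -/
theorem gammaFil_eq_Ff (k : ℕ) : gammaFil (εB : B →+* K) k = Ff εA x k := by
  have hF := Ff_isMulFilt εA (B := B) x
  apply le_antisymm
  · rw [gammaFil_eq_span]
    refine Ideal.span_le.2 ?_
    rintro y ⟨l, hl, hk, rfl⟩
    have key : ∀ l : List (ℕ × B), (∀ p ∈ l, (εB : B →+* K) p.2 = 0) →
        (l.map fun p => gamma p.1 p.2).prod ∈ Ff εA x (l.map Prod.fst).sum := by
      intro l
      induction l with
      | nil =>
        intro _
        rw [List.map_nil, List.map_nil, List.prod_nil, List.sum_nil, hF.zero]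
        trivial
      | cons p l ih =>
        intro hl
        simp only [List.map_cons, List.prod_cons, List.sum_cons]
        exact hF.mul _ _ _
          (TF_of_aug_eq_zero εA x hKb hεA hB hAB εB hεB hεAB hP hQ hx hind hgen p.2
            (hl p (List.mem_cons_self ..)) p.1) _
          (ih fun q hq => hl q (List.mem_cons_of_mem _ hq))
    exact hF.anti hk (key l hl)
  · refine Ideal.span_le.2 ?_
    rintro _ ⟨e, a, ha, rfl⟩
    refine gammaFil_anti _ (by omega : k ≤ (k - wE e) + wE e) ?_
    exact mul_mem_gammaFil _ (algebraMap_mem_gammaFil εA hAB εB hεAB ha)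
      (mE_mem_gammaFil x εB hx e)

end Main3

end Groth.Agent.Lib.LamModel99
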