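import Mathlib.CategoryTheory.ConnectedComponents
import Mathlib.CategoryTheory.Filtered.Basic
import Mathlib.CategoryTheory.Abelian.GrothendieckAxioms.Basic
import Mathlib.CategoryTheory.Abelian.GrothendieckAxioms.Colim
import Mathlib.Algebra.Category.Grp.AB
import Mathlib.CategoryTheory.Functor.Flat
import Mathlib.CategoryTheory.Sites.Pullback
import Mathlib.CategoryTheory.Limits.Comma
import Mathlib.CategoryTheory.Limits.Opposites
import Groth.Agent.Lib.LanExact

/-!
# Exactness of left Kan extension of abelian presheaves when the comma categories have filtered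
connected components (helper95)

If `E` has pushouts and coequalizers, each connected component of `E` is filtered, and colimits of
shape `E` in abelian groups are exact.  Consequently, if `C` has pullbacks and equalizers and
`u : C ⥤ D` preserves them, `u.op.lan` on abelian presheaves is exact (Stacks 04BG-type statement).
-/

set_option autoImplicit false
set_option linter.unusedSectionVars false

universe w v u

open CategoryTheory CategoryTheory.Limits Opposite

namespace Groth.Agent.Lib.LanExact95

section Components

variable {E : Type u} [Category.{v} E] [HasPushouts E] [HasCoequalizers E]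

/-- in a category with pushouts, two objects joined by a zigzag have a common target -/
lemma exists_cocone_of_zigzag {x y : E} (h : Zigzag x y) :
    ∃ (z : E) (_ : x ⟶ z) (_ : y ⟶ z), True := by
  induction h with
  | refl => exact ⟨x, 𝟙 x, 𝟙 x, trivial⟩
  | tail _ hzag ih =>
    obtain ⟨z, f, g, -⟩ := ih
    rcases hzag with ⟨⟨a⟩⟩ | ⟨⟨a⟩⟩
    · -- a : b ⟶ c
      exact ⟨pushout g a, f ≫ pushout.inl g a, pushout.inr g a, trivial⟩
    · -- a : c ⟶ b
      exact ⟨z, f, a ≫ g, trivial⟩

instance isFiltered_component (j : ConnectedComponents E) : IsFiltered j.Component where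
  cocone_objs := by
    rintro ⟨x, hx⟩ ⟨y, hy⟩
    have h : Zigzag x y := Quotient.exact' (hx.trans hy.symm)
    obtain ⟨z, f, g, -⟩ := exists_cocone_of_zigzag h
    have hz : Quotient.mk'' z = j :=
      (Quotient.sound' (Zigzag.of_hom f)).symm.trans hx
    exact ⟨⟨z, hz⟩, ObjectProperty.homMk f, ObjectProperty.homMk g, trivial⟩
  cocone_maps := by
    rintro ⟨x, hx⟩ ⟨y, hy⟩ f g
    have hz : Quotient.mk'' (coequalizer f.hom g.hom) = j :=
      (Quotient.sound' (Zigzag.of_hom (coequalizer.π f.hom g.hom))).symm.trans hy
    refine ⟨⟨coequalizer f.hom g.hom, hz⟩, ObjectProperty.homMk (coequalizer.π f.hom g.hom), ?_⟩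
    ext
    exact coequalizer.condition f.hom g.hom

end Components

section Decomposition

variable {E : Type w} [SmallCategory E] {A : Type u} [Category.{v} A] [HasColimitsOfSize.{w, w} A]

/-- the summand of the colimit attached to a connected component -/
noncomputable abbrev summand (F : E ⥤ A) (j : ConnectedComponents E) : A := colimit (j.ι ⋙ F)

/-- the leg of the decomposed cocone -/
noncomputable def leg (F : E ⥤ A) (j : ConnectedComponents E) (x : j.Component) :
    F.obj x.obj ⟶ ∐ (summand F) :=
  colimit.ι (j.ι ⋙ F) x ≫ Sigma.ι (summand F) j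

lemma leg_eq (F : E ⥤ A) (j : ConnectedComponents E) (e : E) (h : Quotient.mk'' e = j) :
    leg F j ⟨e, h⟩ = leg F (Quotient.mk'' e) ⟨e, rfl⟩ := by
  subst h
  rfl

lemma map_leg (F : E ⥤ A) (j : ConnectedComponents E) {x y : j.Component} (f : x ⟶ y) :
    F.map f.hom ≫ leg F j y = leg F j x := by
  dsimp only [leg]
  rw [← Category.assoc]
  congr 1
  exact colimit.w (j.ι ⋙ F) f

/-- the decomposed cocone: the coproduct over the connected components of the colimits over the
components -/
noncomputable def decompCocone (F : E ⥤ A) : Cocone F where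
  pt := ∐ (summand F)
  ι :=
    { app := fun e => leg F (Quotient.mk'' e) ⟨e, rfl⟩
      naturality := by
        intro e e' f
        have h : (Quotient.mk'' e : ConnectedComponents E) = Quotient.mk'' e' :=
          Quotient.sound' (Zigzag.of_hom f)
        let x : ConnectedComponents.Component (Quotient.mk'' e' : ConnectedComponents E) := ⟨e, h⟩
        let y : ConnectedComponents.Component (Quotient.mk'' e' : ConnectedComponents E) :=
          ⟨e', rfl⟩
        have h1 := map_leg F _ (ObjectProperty.homMk f : x ⟶ y)
        have h2 := leg_eq F _ e h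
        dsimp only [Functor.const_obj_obj, Functor.const_obj_map]
        rw [Category.comp_id]
        exact h1.trans h2 }

/-- the decomposed cocone is a colimit -/
noncomputable def isColimitDecompCocone (F : E ⥤ A) : IsColimit (decompCocone F) where
  desc s := Sigma.desc (fun j => colimit.desc (j.ι ⋙ F) (s.whisker j.ι))
  fac s e := by
    dsimp only [decompCocone, leg]
    rw [Category.assoc, colimit.ι_desc, Cofan.mk_ι_app, colimit.ι_desc]
    rfl
  uniq s m hm := by
    apply Sigma.hom_ext
    intro j
    apply colimit.hom_ext
    rintro ⟨e, h⟩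
    rw [colimit.ι_desc, Cofan.mk_ι_app, colimit.ι_desc]
    have h1 : colimit.ι (j.ι ⋙ F) ⟨e, h⟩ ≫ Sigma.ι (summand F) j = (decompCocone F).ι.app e :=
      leg_eq F j e h
    rw [← Category.assoc]
    exact (congrArg (· ≫ m) h1).trans (hm e)

/-- the decomposition isomorphism -/
noncomputable def decompIso (F : E ⥤ A) : colimit F ≅ ∐ (summand F) :=
  (colimit.isColimit F).coconePointUniqueUpToIso (isColimitDecompCocone F)

lemma ι_decompIso_hom (F : E ⥤ A) (e : E) :
    colimit.ι F e ≫ (decompIso F).hom = leg F (Quotient.mk'' e) ⟨e, rfl⟩ :=
  IsColimit.comp_coconePointUniqueUpToIso_hom _ _ e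

lemma colimMap_decompIso {F G : E ⥤ A} (α : F ⟶ G) :
    colimMap α ≫ (decompIso G).hom = (decompIso F).hom ≫
      Limits.Sigma.map (fun j : ConnectedComponents E => colimMap (Functor.whiskerLeft j.ι α)) := by
  apply colimit.hom_ext
  intro e
  rw [ι_colimMap_assoc, ι_decompIso_hom, reassoc_of% (ι_decompIso_hom F e)]
  dsimp only [leg]
  rw [Category.assoc, Sigma.ι_map, ι_colimMap_assoc]
  rfl

end Decomposition

section Ab

variable {E : Type w} [SmallCategory E] [HasPushouts E] [HasCoequalizers E]

instance preservesMonomorphisms_colim :
    (colim : (E ⥤ AddCommGrpCat.{w}) ⥤ AddCommGrpCat.{w}).PreservesMonomorphisms where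
  preserves {F G} α hα := by
    have h0 : ∀ e : E, Mono (α.app e) := fun e => inferInstance
    have h1 : ∀ j : ConnectedComponents E, Mono (colimMap (Functor.whiskerLeft j.ι α)) := by
      intro j
      have : Mono (Functor.whiskerLeft j.ι α) := by
        haveI : ∀ X : j.Component, Mono ((Functor.whiskerLeft j.ι α).app X) := fun X => h0 _
        exact NatTrans.mono_of_mono_app _
      exact (inferInstance : Mono (colim.map (Functor.whiskerLeft j.ι α)))
    have h2 : Mono (Limits.Sigma.map
        (fun j : ConnectedComponents E => colimMap (Functor.whiskerLeft j.ι α))) :=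
      inferInstance
    have h3 : Mono (colimMap α ≫ (decompIso G).hom) := by
      rw [colimMap_decompIso]
      infer_instance
    exact mono_of_mono (colimMap α) (decompIso G).hom

/-- colimits of abelian groups over a small category with pushouts and coequalizers are exact -/
instance hasExactColimitsOfShape : HasExactColimitsOfShape E AddCommGrpCat.{w} :=
  hasExactColimitsOfShape_of_preservesMono _ _

end Ab

section Lan

variable {C D : Type w} [SmallCategory C] [SmallCategory D] (u : C ⥤ D)
  [HasPullbacks C] [HasEqualizers C]
  [PreservesLimitsOfShape WalkingCospan u] [PreservesLimitsOfShape WalkingParallelPair u]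

instance (V : Dᵒᵖ) : HasPushouts (CostructuredArrow u.op V) := by
  have : PreservesColimitsOfShape WalkingSpan u.op := by
    have : PreservesLimitsOfShape WalkingSpanᵒᵖ u :=
      preservesLimitsOfShape_of_equiv walkingSpanOpEquiv.symm u
    exact preservesColimitsOfShape_op _ _
  infer_instance

instance (V : Dᵒᵖ) : HasCoequalizers (CostructuredArrow u.op V) := by
  have : PreservesColimitsOfShape WalkingParallelPair u.op := by
    have : PreservesLimitsOfShape WalkingParallelPairᵒᵖ u :=
      preservesLimitsOfShape_of_equiv walkingParallelPairOpEquiv u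
    exact preservesColimitsOfShape_op _ _
  infer_instance

/-- the left Kan extension of abelian presheaves along `u.op` is exact when `C` has fibre products
and equalizers and `u` commutes with them -/
instance preservesFiniteLimits_lan :
    PreservesFiniteLimits (u.op.lan : (Cᵒᵖ ⥤ AddCommGrpCat.{w}) ⥤ (Dᵒᵖ ⥤ AddCommGrpCat.{w})) :=
  Groth.Agent.Lib.LanExact.preservesFiniteLimits_lan u.op

/-- `g_!` on abelian sheaves is exact -/
theorem preservesFiniteLimits_sheafPullback (J : GrothendieckTopology C)
    (K : GrothendieckTopology D) [u.IsContinuous J K] :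
    PreservesFiniteLimits (u.sheafPullback AddCommGrpCat.{w} J K) := by
  have h1 : PreservesFiniteLimits (u.op.lan ⋙ presheafToSheaf K AddCommGrpCat.{w}) :=
    comp_preservesFiniteLimits _ _
  have h2 : PreservesFiniteLimits
      (Functor.sheafPullbackConstruction.sheafPullback u AddCommGrpCat.{w} J K) := by
    unfold Functor.sheafPullbackConstruction.sheafPullback
    exact comp_preservesFiniteLimits _ _
  exact preservesFiniteLimits_of_natIso
    (Functor.sheafPullbackConstruction.sheafPullbackIso u AddCommGrpCat.{w} J K).symm

end Lan

end Groth.Agent.Lib.LanExact95
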