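import Mathlib.FieldTheory.IsAlgClosed.Basic
import Mathlib.LinearAlgebra.FiniteDimensional.Basic
import Mathlib.LinearAlgebra.LinearIndependent.Lemmas
import Mathlib.LinearAlgebra.Dimension.Constructions
import Mathlib.LinearAlgebra.Quotient.Basic
import Mathlib.LinearAlgebra.Dimension.RankNullity
import Mathlib.Algebra.Polynomial.Roots
import Mathlib.LinearAlgebra.Matrix.Basis
import Mathlib.LinearAlgebra.StdBasis

set_option autoImplicit false
set_option linter.unusedSectionVars false

/-!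
# Lang's theorem for `q`-semilinear maps, elementary form (helper76)

`k` an algebraically closed field, `f : k →+* k` with `f x = x ^ q`, `q ≥ 2`.  Every injective
`f`-semilinear endomorphism `φ` of a finite-dimensional `k`-vector space `V` has a basis of fixed
vectors, and `1 - φ` is surjective.
-/

namespace Groth.Agent.Lib.Lang76

open Polynomial

universe u v

section lang

variable {k : Type u} [Field k] [IsAlgClosed k] {q : ℕ} (hq : 2 ≤ q) {f : k →+* k}
  (hf : ∀ x, f x = x ^ q)

include hq hf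

theorem f_injective : Function.Injective f := f.injective

theorem f_surjective : Function.Surjective f := by
  intro c
  obtain ⟨z, hz⟩ := IsAlgClosed.exists_pow_nat_eq c (by omega : 0 < q)
  exact ⟨z, by rw [hf, hz]⟩

/-- Artin–Schreier: `y ^ q - y = c` is solvable. -/
theorem exists_pow_sub_eq (c : k) : ∃ y : k, y ^ q - y = c := by
  have hdeg : (X ^ q - X - C c : k[X]).degree ≠ 0 := by
    have h1 : (X ^ q - X - C c : k[X]) = X ^ q - (X + C c) := by ring
    have h2 : (X + C c : k[X]).degree < (X ^ q : k[X]).degree := by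
      rw [degree_X_pow, degree_X_add_C]
      exact_mod_cast (by omega : 1 < q)
    rw [h1, degree_sub_eq_left_of_degree_lt h2, degree_X_pow]
    intro h
    have h3 : q = 0 := by exact_mod_cast h
    omega
  obtain ⟨y, hy⟩ := IsAlgClosed.exists_root _ hdeg
  refine ⟨y, ?_⟩
  rw [IsRoot, eval_sub, eval_sub, eval_pow, eval_X, eval_C, sub_eq_zero] at hy
  exact hy

variable {V : Type v} [AddCommGroup V] [Module k V]

/-- The auxiliary polynomials. -/
noncomputable def Zp (q : ℕ) (c : ℕ → k) : ℕ → k[X]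
  | 0 => C (c 0) * X ^ (q - 1)
  | i + 1 => X ^ (q - 1) * ((Zp q c i) ^ q + C (c (i + 1)))

omit hf [IsAlgClosed k] in
theorem eval_zero_Zp (c : ℕ → k) (i : ℕ) : (Zp q c i).eval 0 = 0 := by
  have h : (0 : k) ^ (q - 1) = 0 := zero_pow (by omega)
  cases i with
  | zero => simp [Zp, h]
  | succ i => simp [Zp, h]

omit hf [IsAlgClosed k] in
theorem c_eq_zero_of_Zp_eq_zero (c : ℕ → k) (j : ℕ) (h : Zp q c j = 0) : ∀ i, i ≤ j → c i = 0 := by
  induction j with
  | zero =>
    intro i hi
    have hi0 : i = 0 := by omega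
    subst hi0
    simp only [Zp] at h
    have h1 : (X : k[X]) ^ (q - 1) ≠ 0 := pow_ne_zero _ X_ne_zero
    have h2 := (mul_eq_zero.mp h).resolve_right h1
    exact C_eq_zero.mp h2
  | succ j ih =>
    simp only [Zp] at h
    have h1 : (X : k[X]) ^ (q - 1) ≠ 0 := pow_ne_zero _ X_ne_zero
    have h2 := (mul_eq_zero.mp h).resolve_left h1
    have h3 := congrArg (Polynomial.eval 0) h2
    rw [eval_add, eval_pow, eval_zero_Zp hq, eval_C, zero_pow (by omega), zero_add, eval_zero] at h3
    rw [h3, C_0, add_zero] at h2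
    have h4 : Zp q c j = 0 := pow_eq_zero_iff (by omega) |>.mp h2
    intro i hi
    rcases Nat.lt_or_ge i (j + 1) with hlt | hge
    · exact ih h4 i (by omega)
    · have : i = j + 1 := by omega
      rw [this]; exact h3

/-- Existence of a non-zero `z` with `Zp j (z) = 1`, unless all `c i` (`i ≤ j`) vanish. -/
theorem exists_eval_Zp_eq_one (c : ℕ → k) (j : ℕ) (hc : ∃ i, i ≤ j ∧ c i ≠ 0) :
    ∃ z : k, z ≠ 0 ∧ (Zp q c j).eval z = 1 := by
  have hdeg : (Zp q c j - 1).degree ≠ 0 := by
    intro h0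
    have h1 := eq_C_of_degree_eq_zero h0
    set a := (Zp q c j - 1).coeff 0 with ha
    have h2 : Zp q c j = C (a + 1) := by
      rw [C_add, C_1, ← h1]; ring
    have h3 := congrArg (Polynomial.eval 0) h2
    rw [eval_zero_Zp hq, eval_C] at h3
    rw [← h3, C_0] at h2
    obtain ⟨i, hi, hci⟩ := hc
    exact hci (c_eq_zero_of_Zp_eq_zero hq c j h2 i hi)
  obtain ⟨z, hz⟩ := IsAlgClosed.exists_root _ hdeg
  rw [IsRoot, eval_sub, eval_one, sub_eq_zero] at hz
  refine ⟨z, ?_, hz⟩
  intro h0
  rw [h0, eval_zero_Zp hq] at hz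
  exact zero_ne_one hz

/-- The sequence `y i = z * Zp i (z)`. -/
theorem y_recursion (c : ℕ → k) (z : k) (i : ℕ) :
    z * (Zp q c (i + 1)).eval z = (z * (Zp q c i).eval z) ^ q + c (i + 1) * z ^ q := by
  have hz : z ^ q = z * z ^ (q - 1) := by
    rw [← pow_succ']; congr 1; omega
  simp only [Zp, eval_mul, eval_pow, eval_X, eval_add, eval_C]
  rw [mul_pow, hz]
  ring

theorem y_zero (c : ℕ → k) (z : k) : z * (Zp q c 0).eval z = c 0 * z ^ q := by
  have hz : z ^ q = z * z ^ (q - 1) := by
    rw [← pow_succ']; congr 1; omega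
  simp only [Zp, eval_mul, eval_pow, eval_X, eval_C]
  rw [hz]
  ring

/-- A non-zero fixed vector from a cyclic relation. -/
theorem exists_fixed_of_relation (φ : V →ₛₗ[f] V) (hφ : Function.Injective φ) (v : V)
    (j : ℕ) (c : ℕ → k)
    (hli : LinearIndependent k (fun i : Fin (j + 1) => (⇑φ)^[i] v))
    (hrel : (⇑φ)^[j + 1] v = ∑ i ∈ Finset.range (j + 1), c i • (⇑φ)^[i] v) :
    ∃ w : V, w ≠ 0 ∧ φ w = w := by
  have hv : v ≠ 0 := by
    have := hli.ne_zero 0
    simpa using this
  have hc : ∃ i, i ≤ j ∧ c i ≠ 0 := by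
    by_contra hcon
    push Not at hcon
    have h0 : (⇑φ)^[j + 1] v = 0 := by
      rw [hrel]
      apply Finset.sum_eq_zero
      intro i hi
      rw [hcon i (by have := Finset.mem_range.mp hi; omega), zero_smul]
    have hinj : Function.Injective (⇑φ)^[j + 1] := hφ.iterate _
    have h1 : (⇑φ)^[j + 1] (0 : V) = 0 := by
      induction (j + 1) with
      | zero => rfl
      | succ n ih => rw [Function.iterate_succ_apply', ih, map_zero]
    exact hv (hinj (h0.trans h1.symm))
  obtain ⟨z, hz0, hz⟩ := exists_eval_Zp_eq_one hq hf c j hc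
  set y : ℕ → k := fun i => z * (Zp q c i).eval z with hy
  have hy0 : y 0 = c 0 * z ^ q := y_zero hq hf c z
  have hys : ∀ i, y (i + 1) = (y i) ^ q + c (i + 1) * z ^ q := fun i => y_recursion hq hf c z i
  have hyj : y j = z := by rw [hy]; simp only; rw [hz, mul_one]
  refine ⟨∑ i ∈ Finset.range (j + 1), y i • (⇑φ)^[i] v, ?_, ?_⟩
  · intro h0
    rw [← Fin.sum_univ_eq_sum_range (fun i => y i • (⇑φ)^[i] v) (j + 1)] at h0
    have := (Fintype.linearIndependent_iff.mp hli) (fun i => y i) h0 (Fin.last j)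
    rw [Fin.val_last, hyj] at this
    exact hz0 this
  · rw [map_sum]
    have h1 : ∀ i ∈ Finset.range (j + 1), φ (y i • (⇑φ)^[i] v) = (y i) ^ q • (⇑φ)^[i + 1] v := by
      intro i _
      rw [LinearMap.map_smulₛₗ, hf, Function.iterate_succ_apply']
    rw [Finset.sum_congr rfl h1, Finset.sum_range_succ, hyj, hrel]
    conv_rhs => rw [Finset.sum_range_succ', hy0]
    rw [Finset.sum_range_succ' (fun i => c i • (⇑φ)^[i] v), smul_add, Finset.smul_sum]
    simp only [Function.iterate_zero, id_eq]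
    have h2 : ∀ i ∈ Finset.range j, y (i + 1) • (⇑φ)^[i + 1] v
        = (y i) ^ q • (⇑φ)^[i + 1] v + z ^ q • (c (i + 1) • (⇑φ)^[i + 1] v) := by
      intro i _
      rw [hys, add_smul, smul_smul, mul_comm]
    rw [Finset.sum_congr rfl h2, Finset.sum_add_distrib, smul_smul, mul_comm (z ^ q)]
    abel


/-- A non-zero fixed vector in any non-trivial finite-dimensional space. -/
theorem exists_fixed_ne_zero [Module.Finite k V] [Nontrivial V] (φ : V →ₛₗ[f] V)
    (hφ : Function.Injective φ) : ∃ w : V, w ≠ 0 ∧ φ w = w := by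
  classical
  obtain ⟨v, hv⟩ := exists_ne (0 : V)
  have hex : ∃ m : ℕ, ¬ LinearIndependent k (fun i : Fin (m + 1) => (⇑φ)^[i] v) := by
    refine ⟨Module.finrank k V, fun h => ?_⟩
    have := h.fintype_card_le_finrank
    rw [Fintype.card_fin] at this
    omega
  set m := Nat.find hex with hm
  have hm1 : ¬ LinearIndependent k (fun i : Fin (m + 1) => (⇑φ)^[i] v) := Nat.find_spec hex
  have hm0 : m ≠ 0 := by
    intro h0
    apply hm1
    rw [h0]
    have : (fun i : Fin (0 + 1) => (⇑φ)^[i] v) = fun _ => v := by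
      funext i
      have : (i : ℕ) = 0 := by omega
      rw [this]; rfl
    rw [this]
    have : Subsingleton (Fin (0 + 1)) := inferInstanceAs (Subsingleton (Fin 1))
    exact LinearIndependent.of_subsingleton (0 : Fin (0 + 1)) hv
  obtain ⟨j, hj⟩ := Nat.exists_eq_succ_of_ne_zero hm0
  have hli : LinearIndependent k (fun i : Fin (j + 1) => (⇑φ)^[i] v) := by
    by_contra hcon
    have := Nat.find_min' hex hcon
    omega
  have hsnoc : (fun i : Fin (j + 1 + 1) => (⇑φ)^[i] v)
      = Fin.snoc (fun i : Fin (j + 1) => (⇑φ)^[i] v) ((⇑φ)^[j + 1] v) := by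
    funext i
    refine Fin.lastCases ?_ (fun i => ?_) i
    · rw [Fin.snoc_last]; rfl
    · rw [Fin.snoc_castSucc]; rfl
  have hmem : (⇑φ)^[j + 1] v ∈ Submodule.span k (Set.range (fun i : Fin (j + 1) => (⇑φ)^[i] v)) := by
    by_contra hcon
    apply hm1
    rw [hj, Nat.succ_eq_add_one, hsnoc]
    exact hli.finSnoc hcon
  obtain ⟨c, hc⟩ := (Submodule.mem_span_range_iff_exists_fun k).mp hmem
  refine exists_fixed_of_relation hq hf φ hφ v j
    (fun i => if h : i < j + 1 then c ⟨i, h⟩ else 0) hli ?_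
  rw [← hc, Finset.sum_range]
  refine Finset.sum_congr rfl (fun i _ => ?_)
  rw [dif_pos i.2]

/-- The span of the fixed vectors. -/
def fixedSpan (φ : V →ₛₗ[f] V) : Submodule k V := Submodule.span k {x | φ x = x}

theorem exists_sub_eq_of_mem_fixedSpan (φ : V →ₛₗ[f] V) {u : V} (hu : u ∈ fixedSpan φ) :
    ∀ a : k, ∃ y ∈ fixedSpan φ, φ y - y = a • u := by
  unfold fixedSpan at hu
  induction hu using Submodule.span_induction with
  | mem x hx =>
    intro a
    obtain ⟨c, hc⟩ := exists_pow_sub_eq hq hf a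
    refine ⟨c • x, Submodule.smul_mem _ _ (Submodule.subset_span hx), ?_⟩
    have hx' : φ x = x := hx
    rw [LinearMap.map_smulₛₗ, hf, hx', ← sub_smul, hc]
  | zero =>
    intro a
    exact ⟨0, Submodule.zero_mem _, by rw [map_zero, sub_zero, smul_zero]⟩
  | add x y _ _ hx hy =>
    intro a
    obtain ⟨y₁, h₁, e₁⟩ := hx a
    obtain ⟨y₂, h₂, e₂⟩ := hy a
    refine ⟨y₁ + y₂, Submodule.add_mem _ h₁ h₂, ?_⟩
    rw [map_add, smul_add, ← e₁, ← e₂]; abel
  | smul b x _ hx =>
    intro a
    obtain ⟨y₁, h₁, e₁⟩ := hx (a * b)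
    exact ⟨y₁, h₁, by rw [e₁, mul_smul]⟩

theorem fixedSpan_stable (φ : V →ₛₗ[f] V) : fixedSpan φ ≤ (fixedSpan φ).comap φ := by
  intro u hu
  rw [Submodule.mem_comap]
  unfold fixedSpan at hu ⊢
  induction hu using Submodule.span_induction with
  | mem x hx =>
    have hx' : φ x = x := hx
    rw [hx']; exact Submodule.subset_span hx
  | zero => rw [map_zero]; exact Submodule.zero_mem _
  | add x y _ _ hx hy => rw [map_add]; exact Submodule.add_mem _ hx hy
  | smul b x _ hx => rw [LinearMap.map_smulₛₗ]; exact Submodule.smul_mem _ _ hx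

theorem exists_preimage_of_mem_fixedSpan (φ : V →ₛₗ[f] V) {u : V} (hu : u ∈ fixedSpan φ) :
    ∃ y ∈ fixedSpan φ, φ y = u := by
  unfold fixedSpan at hu
  induction hu using Submodule.span_induction with
  | mem x hx => exact ⟨x, Submodule.subset_span hx, hx⟩
  | zero => exact ⟨0, Submodule.zero_mem _, map_zero _⟩
  | add x y _ _ hx hy =>
    obtain ⟨y₁, h₁, e₁⟩ := hx
    obtain ⟨y₂, h₂, e₂⟩ := hy
    exact ⟨y₁ + y₂, Submodule.add_mem _ h₁ h₂, by rw [map_add, e₁, e₂]⟩
  | smul b x _ hx =>
    obtain ⟨y₁, h₁, e₁⟩ := hx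
    obtain ⟨b', hb'⟩ := f_surjective hq hf b
    exact ⟨b' • y₁, Submodule.smul_mem _ _ h₁, by rw [LinearMap.map_smulₛₗ, hb', e₁]⟩

/-- **Lang's theorem** (span form): the fixed vectors span. -/
theorem fixedSpan_eq_top [Module.Finite k V] (φ : V →ₛₗ[f] V) (hφ : Function.Injective φ) :
    fixedSpan φ = ⊤ := by
  by_contra hne
  set U := fixedSpan φ with hU
  have hnt : Nontrivial (V ⧸ U) := Submodule.Quotient.nontrivial_iff.mpr hne
  set φ' : (V ⧸ U) →ₛₗ[f] (V ⧸ U) := U.mapQ U φ (fixedSpan_stable hq hf φ) with hφ'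
  have hinj : Function.Injective φ' := by
    rw [injective_iff_map_eq_zero]
    intro x hx
    obtain ⟨x, rfl⟩ := Submodule.Quotient.mk_surjective U x
    rw [hφ', Submodule.mapQ_apply, Submodule.Quotient.mk_eq_zero] at hx
    rw [Submodule.Quotient.mk_eq_zero]
    obtain ⟨y, hy, e⟩ := exists_preimage_of_mem_fixedSpan hq hf φ hx
    have : y = x := hφ e
    rw [← this]; exact hy
  obtain ⟨w', hw'0, hw'⟩ := exists_fixed_ne_zero hq hf φ' hinj
  obtain ⟨w, rfl⟩ := Submodule.Quotient.mk_surjective U w'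
  rw [hφ', Submodule.mapQ_apply, ← sub_eq_zero, ← Submodule.Quotient.mk_sub,
    Submodule.Quotient.mk_eq_zero] at hw'
  obtain ⟨y, hy, e⟩ := exists_sub_eq_of_mem_fixedSpan hq hf φ hw' (-1)
  rw [neg_one_smul] at e
  have hfix : φ (w + y) = w + y := by
    rw [map_add]
    have : φ y = y - (φ w - w) := by
      have h2 : φ y = (φ y - y) + y := by abel
      rw [h2, e]; abel
    rw [this]; abel
  have hmem : w + y ∈ U := Submodule.subset_span hfix
  have hwU : w ∈ U := by
    have := U.sub_mem hmem hy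
    rwa [add_sub_cancel_right] at this
  exact hw'0 ((Submodule.Quotient.mk_eq_zero U).mpr hwU)

/-- `φ - 1` is surjective. -/
theorem exists_sub_eq [Module.Finite k V] (φ : V →ₛₗ[f] V) (hφ : Function.Injective φ) (c : V) :
    ∃ y : V, φ y - y = c := by
  have hc : c ∈ fixedSpan φ := by rw [fixedSpan_eq_top hq hf φ hφ]; exact Submodule.mem_top
  obtain ⟨y, _, e⟩ := exists_sub_eq_of_mem_fixedSpan hq hf φ hc 1
  exact ⟨y, by rw [e, one_smul]⟩

/-- **Lang's theorem** (basis form). -/
theorem exists_fixed_basis [Module.Finite k V] (φ : V →ₛₗ[f] V) (hφ : Function.Injective φ) :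
    ∃ b : Module.Basis (Fin (Module.finrank k V)) k V, ∀ i, φ (b i) = b i := by
  classical
  obtain ⟨s, hs, hspan, hli⟩ := exists_linearIndependent k {x : V | φ x = x}
  have htop : ⊤ ≤ Submodule.span k (Set.range ((↑) : s → V)) := by
    rw [Subtype.range_coe, hspan]
    exact (fixedSpan_eq_top hq hf φ hφ).ge
  set B := Module.Basis.mk hli htop with hB
  have hfin : Finite s := Module.Finite.finite_basis B
  let _ : Fintype s := Fintype.ofFinite s
  have hcard : Fintype.card s = Module.finrank k V := (Module.finrank_eq_card_basis B).symm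
  refine ⟨B.reindex (Fintype.equivFinOfCardEq hcard), fun i => ?_⟩
  rw [Module.Basis.reindex_apply, hB, Module.Basis.mk_apply]
  exact hs (Subtype.coe_prop _)

end lang

section matrix

variable {k : Type u} [Field k] [IsAlgClosed k] {q : ℕ} (hq : 2 ≤ q) {f : k →+* k}
  (hf : ∀ x, f x = x ^ q) {n : ℕ}

/-- `y ↦ A *ᵥ f(y)`. -/
noncomputable def matMap (f : k →+* k) (A : Matrix (Fin n) (Fin n) k) :
    (Fin n → k) →ₛₗ[f] (Fin n → k) where
  toFun y := A.mulVec (fun i => f (y i))
  map_add' x y := by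
    rw [← Matrix.mulVec_add]; congr 1; funext i; simp
  map_smul' c y := by
    rw [← Matrix.mulVec_smul]; congr 1; funext i; simp

theorem matMap_apply (A : Matrix (Fin n) (Fin n) k) (y : Fin n → k) :
    matMap f A y = A.mulVec (fun i => f (y i)) := rfl

theorem matMap_injective (A A' : Matrix (Fin n) (Fin n) k) (hA : A' * A = 1) :
    Function.Injective (matMap f A) := by
  rw [injective_iff_map_eq_zero]
  intro y hy
  rw [matMap_apply] at hy
  have h1 : A'.mulVec (A.mulVec (fun i => f (y i))) = 0 := by rw [hy, Matrix.mulVec_zero]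
  rw [Matrix.mulVec_mulVec, hA, Matrix.one_mulVec] at h1
  funext i
  have := congrFun h1 i
  exact (map_eq_zero_iff f f.injective).mp this

include hq hf in
/-- **Lang's theorem**, matrix form: for invertible `A` there is an invertible `X` with
`X = A · X^{(q)}`. -/
theorem exists_matrix_fixed (A A' : Matrix (Fin n) (Fin n) k) (hA : A' * A = 1) :
    ∃ X X' : Matrix (Fin n) (Fin n) k, X' * X = 1 ∧
      ∀ j, A.mulVec (fun i => f (X i j)) = fun i => X i j := by
  obtain ⟨b, hb⟩ := exists_fixed_basis hq hf (matMap f A) (matMap_injective A A' hA)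
  set b' := b.reindex (finCongr (Module.finrank_fin_fun k)) with hb'
  refine ⟨(Pi.basisFun k (Fin n)).toMatrix b', b'.toMatrix (Pi.basisFun k (Fin n)),
    Module.Basis.toMatrix_mul_toMatrix_flip _ _, fun j => ?_⟩
  have h1 : ∀ i, (Pi.basisFun k (Fin n)).toMatrix b' i j = b' j i := by
    intro i
    rw [Module.Basis.toMatrix_apply, Pi.basisFun_repr]
  have h2 : matMap f A (b' j) = b' j := by
    rw [hb', Module.Basis.reindex_apply]; exact hb _
  rw [matMap_apply] at h2
  simp only [h1]
  exact h2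

include hq hf in
theorem exists_mulVec_sub_eq (A A' : Matrix (Fin n) (Fin n) k) (hA : A' * A = 1)
    (c : Fin n → k) : ∃ y : Fin n → k, A.mulVec (fun i => f (y i)) - y = c :=
  exists_sub_eq hq hf (matMap f A) (matMap_injective A A' hA) c

end matrix

end Groth.Agent.Lib.Lang76
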