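import Groth.Agent.Lib.Isoc76Y
import Groth.Agent.Lib.Lang76A
import Mathlib.RingTheory.WittVector.Teichmuller

set_option autoImplicit false
set_option linter.unusedSectionVars false

/-!
# Lang's theorem over the Witt vectors of an algebraically closed field (helper76)

`e : W ≃+* W` a ring automorphism reducing to `x ↦ x ^ q` modulo `p` (`q ≥ 2`), `A` an invertible
`n × n` matrix over `W = W(k)`, `k` algebraically closed.  Then there is an invertible matrix `X`
over `W` with `X = A · e(X)`.
-/

namespace Groth.Agent.Lib.Isoc76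

open Isoc Matrix
open Groth.Agent.Lib.Lang76

universe u v

section wittlang

variable {p : ℕ} [Fact p.Prime] {k : Type u} [Field k] [CharP k p] [PerfectRing k p]

local notation "𝕎" => WittVector p k

variable {n : ℕ}

theorem p_dvd_iff_coeff_zero (w : WittVector p k) : (p : 𝕎) ∣ w ↔ w.coeff 0 = 0 := by
  rw [← WittVector.mem_span_p_iff_coeff_zero_eq_zero, Ideal.mem_span_singleton]

theorem eq_zero_of_forall_pow_dvd (w : WittVector p k) (h : ∀ j : ℕ, (p : 𝕎) ^ j ∣ w) : w = 0 := by
  ext m
  have h1 := h (m + 1)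
  rw [← Ideal.mem_span_singleton, WittVector.mem_span_p_pow_iff_le_coeff_eq_zero] at h1
  rw [h1 m (Nat.lt_succ_self m), WittVector.zero_coeff]

/-- `T x = A · e(x) - x`. -/
noncomputable def TT (e : WittVector p k ≃+* WittVector p k)
    (A : Matrix (Fin n) (Fin n) (WittVector p k)) (x : Fin n → WittVector p k) :
    Fin n → WittVector p k :=
  A.mulVec (fun i => e (x i)) - x

variable (e : WittVector p k ≃+* WittVector p k)

theorem TT_add (A : Matrix (Fin n) (Fin n) (WittVector p k)) (x y : Fin n → WittVector p k) :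
    TT e A (x + y) = TT e A x + TT e A y := by
  unfold TT
  have : (fun i => e ((x + y) i)) = (fun i => e (x i)) + fun i => e (y i) := by
    funext i; simp
  rw [this, Matrix.mulVec_add]; abel

theorem TT_smul (A : Matrix (Fin n) (Fin n) (WittVector p k)) (c : WittVector p k) (hc : e c = c)
    (x : Fin n → WittVector p k) : TT e A (c • x) = c • TT e A x := by
  unfold TT
  have : (fun i => e ((c • x) i)) = c • fun i => e (x i) := by
    funext i; simp [hc]
  rw [this, Matrix.mulVec_smul, smul_sub]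

theorem e_p_pow (m : ℕ) : e ((p : 𝕎) ^ m) = (p : 𝕎) ^ m := by
  rw [map_pow, map_natCast]

variable {q : ℕ} {f : k →+* k} (hf : ∀ x, f x = x ^ q)
  (he : ∀ w : WittVector p k, (e w).coeff 0 = (w.coeff 0) ^ q)

include hf he in
theorem coeff_zero_TT (A : Matrix (Fin n) (Fin n) (WittVector p k)) (x : Fin n → WittVector p k)
    (i : Fin n) :
    (TT e A x i).coeff 0 = ((A.map WittVector.constantCoeff).mulVec
      (fun i => f ((x i).coeff 0)) - fun i => (x i).coeff 0) i := by
  have h0 : ∀ w : 𝕎, w.coeff 0 = WittVector.constantCoeff w := fun _ => rfl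
  unfold TT
  rw [Pi.sub_apply, Pi.sub_apply, h0, map_sub, ← h0, ← h0]
  congr 1
  simp only [Matrix.mulVec, dotProduct, Matrix.map_apply]
  rw [h0, map_sum]
  refine Finset.sum_congr rfl (fun j _ => ?_)
  rw [map_mul, ← h0 (e (x j)), he, hf]

variable [IsAlgClosed k] (hq : 2 ≤ q)

include hq hf he in
theorem TT_step (A A' : Matrix (Fin n) (Fin n) (WittVector p k)) (hA : A' * A = 1) (m : ℕ)
    (x : Fin n → WittVector p k) (hx : ∀ i, (p : 𝕎) ^ (m + 1) ∣ TT e A x i) :
    ∃ y : Fin n → WittVector p k, ∀ i, (p : 𝕎) ^ (m + 2) ∣ TT e A (x + (p : 𝕎) ^ (m + 1) • y) i := by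
  choose c hc using hx
  have hA' : (A'.map WittVector.constantCoeff) * (A.map WittVector.constantCoeff) = 1 := by
    rw [← Matrix.map_mul, hA, Matrix.map_one _ (map_zero _) (map_one _)]
  obtain ⟨ybar, hybar⟩ := exists_mulVec_sub_eq hq hf (A.map WittVector.constantCoeff)
    (A'.map WittVector.constantCoeff) hA' (fun i => - (c i).coeff 0)
  refine ⟨fun i => WittVector.teichmuller p (ybar i), fun i => ?_⟩
  rw [TT_add, TT_smul e A _ (e_p_pow e _), Pi.add_apply, Pi.smul_apply, smul_eq_mul, hc, ← mul_add,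
    pow_succ (p : 𝕎) (m + 1)]
  apply mul_dvd_mul_left
  rw [p_dvd_iff_coeff_zero, WittVector.add_coeff_zero, coeff_zero_TT e hf he]
  simp only [WittVector.teichmuller_coeff_zero]
  rw [hybar]
  ring

include hq hf he in
/-- Lifting a fixed vector modulo `p` to a fixed vector over `W`. -/
theorem exists_TT_eq_zero (A A' : Matrix (Fin n) (Fin n) (WittVector p k)) (hA : A' * A = 1)
    (xbar : Fin n → k)
    (hxbar : (A.map WittVector.constantCoeff).mulVec (fun i => f (xbar i)) = xbar) :
    ∃ x : Fin n → WittVector p k, (∀ i, (x i).coeff 0 = xbar i) ∧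
      A.mulVec (fun i => e (x i)) = x := by
  classical
  set x₀ : Fin n → 𝕎 := fun i => WittVector.teichmuller p (xbar i) with hx₀
  have hQ0 : ∀ i, (p : 𝕎) ^ (0 + 1) ∣ TT e A x₀ i := by
    intro i
    rw [zero_add, pow_one, p_dvd_iff_coeff_zero, coeff_zero_TT e hf he]
    simp only [hx₀, WittVector.teichmuller_coeff_zero]
    rw [hxbar, sub_self]; rfl
  let next : ℕ → (Fin n → 𝕎) → (Fin n → 𝕎) := fun m x =>
    if h : ∀ i, (p : 𝕎) ^ (m + 1) ∣ TT e A x i then
      x + (p : 𝕎) ^ (m + 1) • Classical.choose (TT_step e hf he hq A A' hA m x h) else x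
  let s : ℕ → (Fin n → 𝕎) := fun m => Nat.rec x₀ (fun m x => next m x) m
  have hs0 : s 0 = x₀ := rfl
  have hss : ∀ m, s (m + 1) = next m (s m) := fun m => rfl
  have hQ : ∀ m, ∀ i, (p : 𝕎) ^ (m + 1) ∣ TT e A (s m) i := by
    intro m
    induction m with
    | zero => exact hQ0
    | succ m ih =>
      rw [hss]
      show ∀ i, (p : 𝕎) ^ (m + 1 + 1) ∣ TT e A (if h : ∀ i, (p : 𝕎) ^ (m + 1) ∣ TT e A (s m) i then
        s m + (p : 𝕎) ^ (m + 1) • Classical.choose (TT_step e hf he hq A A' hA m (s m) h)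
        else s m) i
      rw [dif_pos ih]
      exact Classical.choose_spec (TT_step e hf he hq A A' hA m (s m) ih)
  have hdiff : ∀ m i, (p : 𝕎) ^ (m + 1) ∣ s (m + 1) i - s m i := by
    intro m i
    rw [hss]
    show (p : 𝕎) ^ (m + 1) ∣ (if h : ∀ i, (p : 𝕎) ^ (m + 1) ∣ TT e A (s m) i then
        s m + (p : 𝕎) ^ (m + 1) • Classical.choose (TT_step e hf he hq A A' hA m (s m) h)
        else s m) i - s m i
    rw [dif_pos (hQ m), Pi.add_apply, add_sub_cancel_left, Pi.smul_apply, smul_eq_mul]
    exact dvd_mul_right _ _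
  have hlim : ∀ i, ∃ L : 𝕎, ∀ j, (p : 𝕎) ^ j ∣ L - s j i := by
    intro i
    apply witt_exists_limit (fun j => s j i)
    intro j
    exact (pow_dvd_pow _ (Nat.le_succ j)).trans (hdiff j i)
  choose L hL using hlim
  refine ⟨L, fun i => ?_, ?_⟩
  · have h1 := hL i 1
    have h2 := hdiff 0 i
    rw [pow_one, p_dvd_iff_coeff_zero] at h1
    rw [zero_add, pow_one, p_dvd_iff_coeff_zero, hs0] at h2
    have h3 : (L i).coeff 0 = (s 1 i).coeff 0 := by
      have : L i = (L i - s 1 i) + s 1 i := by ring
      rw [this, WittVector.add_coeff_zero, h1, zero_add]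
    have h4 : (s 1 i).coeff 0 = (x₀ i).coeff 0 := by
      have : s 1 i = (s 1 i - x₀ i) + x₀ i := by ring
      rw [this, WittVector.add_coeff_zero, h2, zero_add]
    rw [h3, h4, hx₀, WittVector.teichmuller_coeff_zero]
  · have hT : TT e A L = 0 := by
      funext i
      apply eq_zero_of_forall_pow_dvd
      intro j
      choose z hz using fun i => hL i j
      have h1 : L = s j + (p : 𝕎) ^ j • z := by
        funext i
        rw [Pi.add_apply, Pi.smul_apply, smul_eq_mul, ← hz]; ring
      rw [h1, TT_add, TT_smul e A _ (e_p_pow e _), Pi.add_apply, Pi.smul_apply, smul_eq_mul]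
      exact dvd_add ((pow_dvd_pow _ (Nat.le_succ j)).trans (hQ j i)) (dvd_mul_right _ _)
    unfold TT at hT
    exact sub_eq_zero.mp hT

include hq hf he in
/-- **Lang's theorem over `W(k)`**. -/
theorem exists_witt_matrix_fixed (A A' : Matrix (Fin n) (Fin n) (WittVector p k))
    (hA : A' * A = 1) :
    ∃ X X' : Matrix (Fin n) (Fin n) (WittVector p k), X' * X = 1 ∧
      ∀ j, A.mulVec (fun i => e (X i j)) = fun i => X i j := by
  have hA' : (A'.map WittVector.constantCoeff) * (A.map WittVector.constantCoeff) = 1 := by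
    rw [← Matrix.map_mul, hA, Matrix.map_one _ (map_zero _) (map_one _)]
  obtain ⟨Xb, Xb', hXb, hfix⟩ := exists_matrix_fixed hq hf (A.map WittVector.constantCoeff)
    (A'.map WittVector.constantCoeff) hA'
  choose x hx0 hx using fun j => exists_TT_eq_zero e hf he hq A A' hA (fun i => Xb i j) (hfix j)
  set X : Matrix (Fin n) (Fin n) 𝕎 := Matrix.of fun i j => x j i with hX
  have hmap : X.map WittVector.constantCoeff = Xb := by
    ext i j
    rw [Matrix.map_apply, hX, Matrix.of_apply]
    exact hx0 j i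
  have hdet : IsUnit X.det := by
    apply WittVector.isUnit_of_coeff_zero_ne_zero
    have h0 : X.det.coeff 0 = WittVector.constantCoeff X.det := rfl
    rw [h0, RingHom.map_det, RingHom.mapMatrix_apply, hmap]
    have : Xb'.det * Xb.det = 1 := by rw [← Matrix.det_mul, hXb, Matrix.det_one]
    exact right_ne_zero_of_mul_eq_one this
  refine ⟨X, X⁻¹, Matrix.nonsing_inv_mul X hdet, fun j => ?_⟩
  exact hx j

end wittlang

end Groth.Agent.Lib.Isoc76
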