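import Groth.Agent.Lib.Lang76B

set_option autoImplicit false
set_option linter.unusedSectionVars false

/-!
# Unit-root crystals over an algebraically closed field are spanned by fixed vectors (helper76)

`k` algebraically closed, `Φ` a `σ^b`-semilinear endomorphism (`b ≠ 0`) of a finite-dimensional
`L`-space `N` with a lattice `M` such that `Φ M = M`.  Then `N` is spanned by `{x | Φ x = x}`.
-/

namespace Groth.Agent.Lib.Isoc76

open Isoc Matrix
open Groth.Agent.Lib.Lang76

universe u v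

section FL

variable {p : ℕ} [Fact p.Prime] {k : Type u} [Field k] [CharP k p] [PerfectRing k p]
  [IsAlgClosed k]
variable {N : Type v} [AddCommGroup N] [Module (WittVector p k) N]
  [Module (FractionRing (WittVector p k)) N]
  [IsScalarTower (WittVector p k) (FractionRing (WittVector p k)) N]

local notation "𝕎" => WittVector p k
local notation "𝕃" => FractionRing (WittVector p k)

/-- Positive twist. -/
theorem span_fixed_eq_top_of_pos [Module.Finite 𝕃 N] (m : ℕ) (hm : 0 < m)
    (Φ : N →ₛₗ[frob p k (m : ℤ)] N) (M : Submodule 𝕎 N) (hM : M.IsLattice 𝕃)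
    (hΦM : latImg Φ 1 M = M) : Submodule.span 𝕃 {x : N | Φ x = x} = ⊤ := by
  classical
  obtain ⟨b, hb⟩ := exists_basis_fin M hM _ rfl
  set e : 𝕎 ≃+* 𝕎 := WittVector.frobeniusEquiv p k ^ (m : ℤ) with he_def
  have hτ : ∀ w : 𝕎, frob p k (m : ℤ) (algebraMap 𝕎 𝕃 w) = algebraMap 𝕎 𝕃 (e w) :=
    frob_algebraMap p k m
  have he : ∀ w : 𝕎, (e w).coeff 0 = (w.coeff 0) ^ (p ^ m) := by
    intro w
    rw [he_def, zpow_natCast, frobeniusEquiv_pow_apply, WittVector.iterate_frobenius_coeff]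
  have hf : ∀ x : k, iterateFrobenius k p m x = x ^ (p ^ m) := iterateFrobenius_def p m
  have hq : 2 ≤ p ^ m := by
    have hp2 : 2 ≤ p := (Fact.out : p.Prime).two_le
    calc 2 ≤ p := hp2
      _ = p ^ 1 := (pow_one p).symm
      _ ≤ p ^ m := Nat.pow_le_pow_right (by omega) hm
  -- the matrix of `Φ`
  have hA0 : ∀ i j, ∃ a : 𝕎, b.repr (Φ (b j)) i = algebraMap 𝕎 𝕃 a := by
    intro i j
    have h1 : Φ (b j) ∈ M := by
      have := iterate_mem_latImg Φ 1 (basis_mem_of_repr hb j)
      rw [hΦM] at this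
      exact this
    obtain ⟨a, ha⟩ := (hb _).mp h1 i
    exact ⟨a, by rw [ha, zpow_zero, one_mul]⟩
  choose A hA using hA0
  have hcoord : ∀ c : Fin (Module.finrank 𝕃 N) → 𝕎,
      Φ (∑ j, algebraMap 𝕎 𝕃 (c j) • b j)
        = ∑ i, algebraMap 𝕎 𝕃 ((Matrix.of A).mulVec (fun j => e (c j)) i) • b i := by
    intro c
    rw [map_sum]
    have h1 : ∀ j, Φ (algebraMap 𝕎 𝕃 (c j) • b j)
        = ∑ i, algebraMap 𝕎 𝕃 (A i j * e (c j)) • b i := by
      intro j
      rw [LinearMap.map_smulₛₗ, hτ]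
      conv_lhs => rw [← b.sum_repr (Φ (b j))]
      rw [Finset.smul_sum]
      refine Finset.sum_congr rfl (fun i _ => ?_)
      rw [hA, smul_smul, ← map_mul, mul_comm]
    rw [Finset.sum_congr rfl (fun j _ => h1 j), Finset.sum_comm]
    refine Finset.sum_congr rfl (fun i _ => ?_)
    rw [← Finset.sum_smul, ← map_sum]
    rfl
  -- `A` is invertible over `W`
  have hB0 : ∀ l, ∃ x ∈ M, Φ x = b l := by
    intro l
    have : b l ∈ latImg Φ 1 M := by rw [hΦM]; exact basis_mem_of_repr hb l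
    exact (mem_latImg_iff (goodTwist_frob _) Φ 1 M _).mp this
  choose ml hml hΦml using hB0
  have hw0 : ∀ j l, ∃ w : 𝕎, b.repr (ml l) j = algebraMap 𝕎 𝕃 w := by
    intro j l
    obtain ⟨a, ha⟩ := (hb _).mp (hml l) j
    exact ⟨a, by rw [ha, zpow_zero, one_mul]⟩
  choose w hw using hw0
  have hrepr_inj : ∀ (c c' : Fin (Module.finrank 𝕃 N) → 𝕎),
      (∑ i, algebraMap 𝕎 𝕃 (c i) • b i) = (∑ i, algebraMap 𝕎 𝕃 (c' i) • b i) → c = c' := by
    intro c c' h
    funext i
    have h1 := congrArg (fun x => b.repr x i) h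
    simp only [b.repr_sum_self] at h1
    exact IsFractionRing.injective 𝕎 𝕃 h1
  have hAA' : (Matrix.of A) * (Matrix.of fun j l => e (w j l)) = 1 := by
    ext i l
    have h1 : ml l = ∑ j, algebraMap 𝕎 𝕃 (w j l) • b j := by
      conv_lhs => rw [← b.sum_repr (ml l)]
      exact Finset.sum_congr rfl (fun j _ => by rw [hw])
    have h2 := hΦml l
    rw [h1, hcoord] at h2
    have h3 : b l = ∑ i, algebraMap 𝕎 𝕃 ((1 : Matrix _ _ 𝕎) i l) • b i := by
      rw [Finset.sum_eq_single l]
      · rw [Matrix.one_apply_eq, map_one, one_smul]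
      · intro i _ hil
        rw [Matrix.one_apply_ne hil, map_zero, zero_smul]
      · intro h; exact absurd (Finset.mem_univ l) h
    rw [h3] at h2
    have h4 := congrFun (hrepr_inj _ _ h2) i
    rw [← h4]
    rfl
  have hA'A : (Matrix.of fun j l => e (w j l)) * (Matrix.of A) = 1 := mul_eq_one_comm.mp hAA'
  obtain ⟨X, X', hX'X, hXfix⟩ := exists_witt_matrix_fixed e hf he hq (Matrix.of A) _ hA'A
  have hXX' : X * X' = 1 := mul_eq_one_comm.mp hX'X
  -- fixed vectors
  set x : Fin (Module.finrank 𝕃 N) → N := fun j => ∑ i, algebraMap 𝕎 𝕃 (X i j) • b i with hx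
  have hxfix : ∀ j, Φ (x j) = x j := by
    intro j
    rw [hx]
    simp only
    rw [hcoord, hXfix j]
  rw [eq_top_iff, ← b.span_eq, Submodule.span_le]
  rintro _ ⟨l, rfl⟩
  have h5 : b l = ∑ j, algebraMap 𝕎 𝕃 (X' j l) • x j := by
    rw [hx]
    simp only [Finset.smul_sum, smul_smul]
    rw [Finset.sum_comm]
    have h6 : ∀ i, ∑ j, (algebraMap 𝕎 𝕃 (X' j l) * algebraMap 𝕎 𝕃 (X i j)) • b i
        = algebraMap 𝕎 𝕃 ((X * X') i l) • b i := by
      intro i
      rw [← Finset.sum_smul, Matrix.mul_apply, map_sum]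
      congr 1
      refine Finset.sum_congr rfl (fun j _ => ?_)
      rw [map_mul, mul_comm]
    rw [Finset.sum_congr rfl (fun i _ => h6 i), hXX', Finset.sum_eq_single l]
    · rw [Matrix.one_apply_eq, map_one, one_smul]
    · intro i _ hil
      rw [Matrix.one_apply_ne hil, map_zero, zero_smul]
    · intro h; exact absurd (Finset.mem_univ l) h
  rw [h5]
  exact Submodule.sum_mem _ (fun j _ => Submodule.smul_mem _ _ (Submodule.subset_span (hxfix j)))

end FL

end Groth.Agent.Lib.Isoc76
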