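import Groth.Agent.Lib.Lang76C

set_option autoImplicit false
set_option linter.unusedSectionVars false

/-!
# Slope-zero isocrystals over an algebraically closed field are spanned by fixed vectors
(helper76)

Arithmetic of the twists `σ^a`, inverse semilinear maps, normalisation of unit-root lattices, and
the general form (`b ≠ 0`, isoclinic of slope `0`) of `span_fixed_eq_top_of_pos`.
-/

namespace Groth.Agent.Lib.Isoc76

open Isoc Matrix

universe u v

section frobarith

variable {p : ℕ} [Fact p.Prime] {k : Type u} [Field k] [CharP k p] [PerfectRing k p]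

local notation "𝕎" => WittVector p k
local notation "𝕃" => FractionRing (WittVector p k)

theorem frob_comp_apply (a b : ℤ) (c : FractionRing (WittVector p k)) :
    frob p k a (frob p k b c) = frob p k (a + b) c := by
  obtain ⟨x, y, hy, rfl⟩ := IsFractionRing.div_surjective (A := 𝕎) c
  simp only [map_div₀, frob_algebraMap]
  rw [zpow_add]
  rfl

theorem frob_zero_apply (c : FractionRing (WittVector p k)) : frob p k 0 c = c := by
  rw [frob_zero]; rfl

theorem frob_pow_apply (a : ℤ) (s : ℕ) (c : FractionRing (WittVector p k)) :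
    ((frob p k a) ^ s) c = frob p k (a * s) c := by
  induction s generalizing c with
  | zero =>
    rw [pow_zero, Nat.cast_zero, mul_zero, frob_zero_apply]; rfl
  | succ s ih =>
    rw [pow_succ', RingHom.mul_def, RingHom.comp_apply, ih, frob_comp_apply]
    congr 2
    push_cast; ring

end frobarith

section inverse

variable {p : ℕ} [Fact p.Prime] {k : Type u} [Field k] [CharP k p] [PerfectRing k p]
variable {N : Type v} [AddCommGroup N] [Module (WittVector p k) N]
  [Module (FractionRing (WittVector p k)) N]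
  [IsScalarTower (WittVector p k) (FractionRing (WittVector p k)) N]

local notation "𝕎" => WittVector p k
local notation "𝕃" => FractionRing (WittVector p k)

/-- Change the (propositionally equal) twist of a semilinear map. -/
noncomputable def castTwist {τ τ' : FractionRing (WittVector p k) →+* FractionRing (WittVector p k)}
    (h : ∀ c, τ c = τ' c) (G : N →ₛₗ[τ] N) : N →ₛₗ[τ'] N where
  toFun := G
  map_add' := G.map_add
  map_smul' c x := by rw [G.map_smulₛₗ, h]

theorem castTwist_apply {τ τ' : FractionRing (WittVector p k) →+* FractionRing (WittVector p k)}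
    (h : ∀ c, τ c = τ' c) (G : N →ₛₗ[τ] N) (x : N) : castTwist h G x = G x := rfl

theorem latImg_castTwist {τ τ' : FractionRing (WittVector p k) →+* FractionRing (WittVector p k)}
    (h : ∀ c, τ c = τ' c) (G : N →ₛₗ[τ] N) (s : ℕ) (M : Submodule 𝕎 N) :
    latImg (castTwist h G) s M = latImg G s M := rfl

/-- The inverse of a bijective `σ^b`-semilinear map is `σ^{-b}`-semilinear. -/
theorem exists_inverse_semilinear (b b' : ℤ) (hbb' : b + b' = 0) (Φ : N →ₛₗ[frob p k b] N)
    (hΦ : Function.Bijective Φ) :
    ∃ Ψ : N →ₛₗ[frob p k b'] N, (∀ x, Ψ (Φ x) = x) ∧ (∀ x, Φ (Ψ x) = x) := by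
  set E := Equiv.ofBijective Φ hΦ with hE
  have h1 : ∀ x, Φ (E.symm x) = x := fun x => Equiv.ofBijective_apply_symm_apply Φ hΦ x
  have h2 : ∀ x, E.symm (Φ x) = x := fun x => Equiv.ofBijective_symm_apply_apply Φ hΦ x
  refine ⟨{ toFun := E.symm, map_add' := ?_, map_smul' := ?_ }, h2, h1⟩
  · intro x y
    apply hΦ.1
    show Φ (E.symm (x + y)) = Φ (E.symm x + E.symm y)
    rw [h1, Φ.map_add, h1, h1]
  · intro c x
    apply hΦ.1
    show Φ (E.symm (c • x)) = Φ ((frob p k b') c • E.symm x)
    rw [LinearMap.map_smulₛₗ, h1, h1, frob_comp_apply, hbb', frob_zero_apply]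

end inverse

section unitroot

variable {p : ℕ} [Fact p.Prime] {k : Type u} [Field k] [CharP k p] [PerfectRing k p]
variable {N : Type v} [AddCommGroup N] [Module (WittVector p k) N]
  [Module (FractionRing (WittVector p k)) N]
  [IsScalarTower (WittVector p k) (FractionRing (WittVector p k)) N]

local notation "𝕎" => WittVector p k
local notation "𝕃" => FractionRing (WittVector p k)

variable {τ : FractionRing (WittVector p k) →+* FractionRing (WittVector p k)}

/-- If `G^s M = M` for some `s > 0` then `G M' = M'` for the lattice `M' = M + G M + ⋯`. -/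
theorem exists_lattice_latImg_one_eq (hτ : GoodTwist τ) (G : N →ₛₗ[τ] N)
    (hG : Function.Bijective G) (M : Submodule 𝕎 N) (hM : M.IsLattice 𝕃) (s : ℕ) (hs : 0 < s)
    (h : latImg G s M = M) : ∃ M' : Submodule 𝕎 N, M'.IsLattice 𝕃 ∧ latImg G 1 M' = M' := by
  obtain ⟨t, rfl⟩ : ∃ t, s = t + 1 := ⟨s - 1, by omega⟩
  refine ⟨sumImg G t M, isLattice_sumImg hτ G hG t M hM, ?_⟩
  unfold sumImg
  rw [latImg_finset_sup]
  have hfun : (fun i => latImg G 1 (latImg G i M)) = fun i => latImg G (1 + i) M :=
    funext fun i => latImg_latImg hτ G 1 i M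
  rw [hfun]
  apply le_antisymm
  · apply Finset.sup_le
    intro j hj
    have hj' := Finset.mem_range.mp hj
    rcases Nat.lt_or_ge (1 + j) (t + 1) with hlt | hge
    · exact Finset.le_sup (f := fun j => latImg G j M) (Finset.mem_range.mpr hlt)
    · have : 1 + j = t + 1 := by omega
      rw [this, h]
      have h0 := Finset.le_sup (f := fun j => latImg G j M)
        (Finset.mem_range.mpr (Nat.succ_pos t))
      simp only [latImg_zero] at h0
      exact h0
  · apply Finset.sup_le
    intro j hj
    have hj' := Finset.mem_range.mp hj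
    rcases Nat.eq_zero_or_pos j with h0 | hpos
    · subst h0
      rw [latImg_zero]
      have h1 := Finset.le_sup (f := fun j => latImg G (1 + j) M)
        (Finset.mem_range.mpr (Nat.lt_succ_self t))
      rw [show 1 + t = t + 1 by ring, h] at h1
      exact h1
    · have h1 := Finset.le_sup (f := fun j => latImg G (1 + j) M)
        (Finset.mem_range.mpr (show j - 1 < t + 1 by omega))
      rw [show 1 + (j - 1) = j by omega] at h1
      exact h1

end unitroot

section FLgen

variable {p : ℕ} [Fact p.Prime] {k : Type u} [Field k] [CharP k p] [PerfectRing k p]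
  [IsAlgClosed k]
variable {N : Type v} [AddCommGroup N] [Module (WittVector p k) N]
  [Module (FractionRing (WittVector p k)) N]
  [IsScalarTower (WittVector p k) (FractionRing (WittVector p k)) N]

local notation "𝕎" => WittVector p k
local notation "𝕃" => FractionRing (WittVector p k)

/-- **Dieudonné's lemma**: over an algebraically closed field, a `σ^b`-isocrystal (`b ≠ 0`) that is
isoclinic of slope `0` is spanned by its fixed vectors. -/
theorem span_fixed_eq_top [Module.Finite 𝕃 N] (b : ℤ) (hb : b ≠ 0)
    (Φ : N →ₛₗ[frob p k b] N) (hΦ : Function.Bijective Φ) (h0 : IsIsoclinic Φ 0) :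
    Submodule.span 𝕃 {x : N | Φ x = x} = ⊤ := by
  obtain ⟨M₀, hM₀, r, s, hs, hrs, heq⟩ := h0
  have hr : r = 0 := by
    have hs' : (s : ℚ) ≠ 0 := by exact_mod_cast hs.ne'
    rcases div_eq_zero_iff.mp hrs with h | h
    · exact_mod_cast h
    · exact absurd h hs'
  rw [hr, pPow_zero] at heq
  obtain ⟨M, hM, hΦM⟩ := exists_lattice_latImg_one_eq (goodTwist_frob b) Φ hΦ M₀ hM₀ s hs heq
  rcases lt_or_gt_of_ne hb with hneg | hpos
  · obtain ⟨m, hm⟩ : ∃ m : ℕ, b + (m : ℤ) = 0 := ⟨(-b).toNat, by omega⟩
    have hm0 : 0 < m := by omega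
    obtain ⟨Ψ, hΨΦ, hΦΨ⟩ := exists_inverse_semilinear b (m : ℤ) hm Φ hΦ
    have hΨM : latImg Ψ 1 M = M := by
      ext y
      rw [mem_latImg_iff (goodTwist_frob _)]
      constructor
      · rintro ⟨x, hx, rfl⟩
        rw [← hΦM, mem_latImg_iff (goodTwist_frob _)] at hx
        obtain ⟨z, hz, rfl⟩ := hx
        show Ψ (Φ z) ∈ M
        rw [hΨΦ]; exact hz
      · intro hy
        refine ⟨Φ y, ?_, hΨΦ y⟩
        rw [← hΦM]
        exact iterate_mem_latImg Φ 1 hy
    have := span_fixed_eq_top_of_pos m hm0 Ψ M hM hΨM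
    rw [← this]
    congr 1
    ext x
    simp only [Set.mem_ofPred_eq]
    constructor
    · intro hx
      rw [← hx, hΨΦ, hx]
    · intro hx
      rw [← hx, hΦΨ, hx]
  · obtain ⟨m, rfl⟩ : ∃ m : ℕ, b = (m : ℤ) := ⟨b.toNat, by omega⟩
    exact span_fixed_eq_top_of_pos m (by omega) Φ M hM hΦM

end FLgen

end Groth.Agent.Lib.Isoc76
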