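import Groth.Agent.Lib.Lang76D
import Mathlib.LinearAlgebra.Projection

set_option autoImplicit false
set_option linter.unusedSectionVars false

/-!
# Stable complements in isoclinic isocrystals over an algebraically closed field (helper76)
-/

namespace Groth.Agent.Lib.Isoc76

open Isoc Matrix

universe u v

section proj

variable {p : ℕ} [Fact p.Prime] {k : Type u} [Field k] [CharP k p] [PerfectRing k p]
  [IsAlgClosed k]
variable {N : Type v} [AddCommGroup N] [Module (WittVector p k) N]
  [Module (FractionRing (WittVector p k)) N]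
  [IsScalarTower (WittVector p k) (FractionRing (WittVector p k)) N]

local notation "𝕎" => WittVector p k
local notation "𝕃" => FractionRing (WittVector p k)

theorem restrict_bijective [Module.Finite 𝕃 N]
    {τ : FractionRing (WittVector p k) →+* FractionRing (WittVector p k)} (hτ : GoodTwist τ)
    (F : N →ₛₗ[τ] N) (hF : Function.Injective F) (P : Submodule 𝕃 N)
    (hP : ∀ x ∈ P, F x ∈ P) : Function.Bijective (F.restrict hP) := by
  refine ⟨restrict_injective F hF P hP, fun y => ?_⟩
  obtain ⟨x, hx, hxy⟩ := exists_preimage_of_stable hτ F hF P hP y.2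
  exact ⟨⟨x, hx⟩, Subtype.ext hxy⟩

/-- In a slope-zero isocrystal, the fixed vectors lying in a stable subspace span it. -/
theorem span_fixed_inter_eq [Module.Finite 𝕃 N] (b : ℤ) (hb : b ≠ 0)
    (Φ : N →ₛₗ[frob p k b] N) (hΦ : Function.Bijective Φ) (h0 : IsIsoclinic Φ 0)
    (P : Submodule 𝕃 N) (hP : ∀ x ∈ P, Φ x ∈ P) :
    Submodule.span 𝕃 {x : N | x ∈ P ∧ Φ x = x} = P := by
  apply le_antisymm
  · rw [Submodule.span_le]
    intro x hx
    exact hx.1
  · have hiso : IsIsoclinic (Φ.restrict hP) 0 :=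
      (isIsoclinic_restrict_iff Φ P hP 0).mpr
        (isIsoclinicOn_of_stable (goodTwist_frob b) Φ hΦ.injective h0 P hP)
    have hbij := restrict_bijective (goodTwist_frob b) Φ hΦ.injective P hP
    have hspan := span_fixed_eq_top b hb (Φ.restrict hP) hbij hiso
    intro x hx
    have h1 : (⟨x, hx⟩ : P) ∈ Submodule.span 𝕃 {y : P | (Φ.restrict hP) y = y} := by
      rw [hspan]; exact Submodule.mem_top
    have h2 := Submodule.apply_mem_span_image_of_mem_span P.subtype h1
    refine Submodule.span_mono ?_ h2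
    rintro _ ⟨y, hy, rfl⟩
    have hy' : (Φ.restrict hP) y = y := hy
    exact ⟨y.2, congrArg Subtype.val hy'⟩

/-- A `Φ`-equivariant projection onto a stable subspace of a slope-zero isocrystal. -/
theorem exists_equivariant_projection [Module.Finite 𝕃 N] (b : ℤ) (hb : b ≠ 0)
    (Φ : N →ₛₗ[frob p k b] N) (hΦ : Function.Bijective Φ) (h0 : IsIsoclinic Φ 0)
    (P : Submodule 𝕃 N) (hP : ∀ x ∈ P, Φ x ∈ P) :
    ∃ e : N →ₗ[𝕃] N, (∀ x, e x ∈ P) ∧ (∀ x ∈ P, e x = x) ∧ ∀ x, e (Φ x) = Φ (e x) := by
  classical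
  have hN := span_fixed_eq_top b hb Φ hΦ h0
  have hPs := span_fixed_inter_eq b hb Φ hΦ h0 P hP
  obtain ⟨bP, hbP, hbPspan, hbPli⟩ := exists_linearIndependent 𝕃 {x : N | x ∈ P ∧ Φ x = x}
  have hbPN : bP ⊆ {x : N | Φ x = x} := fun x hx => (hbP hx).2
  obtain ⟨bN, hbN, hbPbN, hbNspan, hbNli⟩ :=
    exists_linearIndepOn_id_extension (K := 𝕃) (s := bP) (t := {x : N | Φ x = x}) hbPli hbPN
  have htop : ⊤ ≤ Submodule.span 𝕃 (Set.range ((↑) : bN → N)) := by
    rw [Subtype.range_coe, ← hN]
    exact Submodule.span_le.mpr hbNspan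
  have hbNli' : LinearIndependent 𝕃 ((↑) : bN → N) := hbNli
  set B := Module.Basis.mk hbNli' htop with hB
  have hBv : ∀ v : bN, B v = (v : N) := fun v => by rw [hB, Module.Basis.mk_apply]
  set g : bN → N := fun v => if (v : N) ∈ bP then (v : N) else 0 with hg
  set e : N →ₗ[𝕃] N := B.constr 𝕃 g with he
  have heB : ∀ v : bN, e (v : N) = g v := by
    intro v
    rw [← hBv v, he, Module.Basis.constr_basis]
  have hgP : ∀ v : bN, g v ∈ P := by
    intro v
    rw [hg]
    simp only
    split_ifs with h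
    · exact (hbP h).1
    · exact P.zero_mem
  refine ⟨e, fun x => ?_, fun x hx => ?_, fun x => ?_⟩
  · have h1 : e x ∈ LinearMap.range e := LinearMap.mem_range_self e x
    rw [he, Module.Basis.constr_range] at h1
    have h2 : Submodule.span 𝕃 (Set.range g) ≤ P := by
      rw [Submodule.span_le]
      rintro _ ⟨v, rfl⟩
      exact hgP v
    exact h2 h1
  · rw [← hPs, ← hbPspan] at hx
    induction hx using Submodule.span_induction with
    | mem v hv =>
      have := heB ⟨v, hbPbN hv⟩
      rw [this, hg]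
      simp only
      rw [if_pos hv]
    | zero => rw [map_zero]
    | add y z _ _ hy hz => rw [map_add, hy, hz]
    | smul c y _ hy => rw [map_smul, hy]
  · have hx : x ∈ Submodule.span 𝕃 (Set.range ((↑) : bN → N)) := htop Submodule.mem_top
    induction hx using Submodule.span_induction with
    | mem v hv =>
      obtain ⟨v, rfl⟩ := hv
      have hfix : Φ (v : N) = v := hbN v.2
      rw [hfix, heB, hg]
      simp only
      split_ifs with h
      · exact hfix.symm
      · rw [map_zero]
    | zero => rw [map_zero, map_zero, map_zero]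
    | add y z _ _ hy hz => rw [map_add, map_add, hy, hz, map_add, map_add]
    | smul c y _ hy =>
      rw [LinearMap.map_smulₛₗ, map_smul, hy, map_smul, LinearMap.map_smulₛₗ]

end proj

section avg

variable {p : ℕ} [Fact p.Prime] {k : Type u} [Field k] [CharP k p] [PerfectRing k p]
variable {N : Type v} [AddCommGroup N] [Module (WittVector p k) N]
  [Module (FractionRing (WittVector p k)) N]
  [IsScalarTower (WittVector p k) (FractionRing (WittVector p k)) N]

local notation "𝕎" => WittVector p k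
local notation "𝕃" => FractionRing (WittVector p k)

/-- Conjugation `e ↦ F ∘ e ∘ G` of linear maps by a semilinear map and its inverse. -/
noncomputable def conjMap (a a' : ℤ) (haa' : a + a' = 0) (F : N →ₛₗ[frob p k a] N)
    (G : N →ₛₗ[frob p k a'] N) (e : N →ₗ[FractionRing (WittVector p k)] N) :
    N →ₗ[FractionRing (WittVector p k)] N where
  toFun x := F (e (G x))
  map_add' x y := by rw [map_add, map_add, map_add]
  map_smul' c x := by
    rw [LinearMap.map_smulₛₗ, map_smul, LinearMap.map_smulₛₗ, frob_comp_apply, haa',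
      frob_zero_apply]
    rfl

variable (a a' : ℤ) (haa' : a + a' = 0) (F : N →ₛₗ[frob p k a] N) (G : N →ₛₗ[frob p k a'] N)

theorem conjMap_apply (e : N →ₗ[𝕃] N) (x : N) : conjMap a a' haa' F G e x = F (e (G x)) := rfl

theorem conjMap_add (e₁ e₂ : N →ₗ[𝕃] N) :
    conjMap a a' haa' F G (e₁ + e₂) = conjMap a a' haa' F G e₁ + conjMap a a' haa' F G e₂ := by
  apply LinearMap.ext
  intro x
  rw [LinearMap.add_apply, conjMap_apply, conjMap_apply, conjMap_apply, LinearMap.add_apply,
    map_add]

theorem conjMap_zero : conjMap a a' haa' F G (0 : N →ₗ[𝕃] N) = 0 := by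
  apply LinearMap.ext
  intro x
  rw [conjMap_apply, LinearMap.zero_apply, map_zero, LinearMap.zero_apply]

theorem conjMap_smul (c : 𝕃) (e : N →ₗ[𝕃] N) :
    conjMap a a' haa' F G (c • e) = (frob p k a c) • conjMap a a' haa' F G e := by
  apply LinearMap.ext
  intro x
  rw [LinearMap.smul_apply, conjMap_apply, conjMap_apply, LinearMap.smul_apply,
    LinearMap.map_smulₛₗ]

theorem conjMap_sum {ι : Type*} (S : Finset ι) (f : ι → N →ₗ[𝕃] N) :
    conjMap a a' haa' F G (∑ i ∈ S, f i) = ∑ i ∈ S, conjMap a a' haa' F G (f i) := by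
  classical
  induction S using Finset.induction_on with
  | empty => rw [Finset.sum_empty, Finset.sum_empty, conjMap_zero]
  | insert j S hj ih => rw [Finset.sum_insert hj, Finset.sum_insert hj, conjMap_add, ih]

theorem iterate_conjMap_apply (e : N →ₗ[𝕃] N) (i : ℕ) (x : N) :
    ((conjMap a a' haa' F G)^[i] e) x = (⇑F)^[i] (e ((⇑G)^[i] x)) := by
  induction i generalizing x with
  | zero => rfl
  | succ i ih =>
    rw [Function.iterate_succ_apply', conjMap_apply, ih, Function.iterate_succ_apply',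
      Function.iterate_succ_apply]

end avg

section compl

variable {p : ℕ} [Fact p.Prime] {k : Type u} [Field k] [CharP k p] [PerfectRing k p]
  [IsAlgClosed k]
variable {N : Type v} [AddCommGroup N] [Module (WittVector p k) N]
  [Module (FractionRing (WittVector p k)) N]
  [IsScalarTower (WittVector p k) (FractionRing (WittVector p k)) N]

local notation "𝕎" => WittVector p k
local notation "𝕃" => FractionRing (WittVector p k)

/-- Over an algebraically closed field, every sub-isocrystal of an isoclinic `σ^a`-isocrystal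
(`a ≠ 0`) has a stable complement. -/
theorem exists_stable_compl_of_isIsoclinic [Module.Finite 𝕃 N] (a : ℤ) (ha : a ≠ 0)
    (F : N →ₛₗ[frob p k a] N) (hF : Function.Bijective F) (μ : ℚ) (hμ : IsIsoclinic F μ)
    (P : Submodule 𝕃 N) (hP : ∀ x ∈ P, F x ∈ P) :
    ∃ Q : Submodule 𝕃 N, (∀ x ∈ Q, F x ∈ Q) ∧ IsCompl P Q := by
  classical
  obtain ⟨M, hM, r, s, hs, hrs, heq⟩ := hμ
  have hτ := goodTwist_frob (p := p) (k := k) a
  set Φ₀ : N →ₛₗ[(frob p k a) ^ s] N := ((p : 𝕃) ^ (-r)) • iter F s with hΦ₀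
  set Φ : N →ₛₗ[frob p k (a * s)] N := castTwist (frob_pow_apply a s) Φ₀ with hΦdef
  have hΦapp : ∀ x, Φ x = ((p : 𝕃) ^ (-r)) • (⇑F)^[s] x := fun x => rfl
  have hΦbij : Function.Bijective Φ := bijective_smul_iter F hF (-r) s
  have has : a * (s : ℤ) ≠ 0 := mul_ne_zero ha (by exact_mod_cast hs.ne')
  have hΦiso : IsIsoclinic Φ 0 := by
    refine ⟨M, hM, 0, 1, one_pos, by simp, ?_⟩
    rw [hΦdef, latImg_castTwist, hΦ₀, latImg_smul_iter hτ, Nat.mul_one, heq, pPow_pPow]
    congr 1
    push_cast; ring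
  have hPΦ : ∀ x ∈ P, Φ x ∈ P := fun x hx =>
    P.smul_mem _ (iterate_mem_of_stable F P hP s hx)
  obtain ⟨e, heP, heid, hecomm⟩ :=
    exists_equivariant_projection (a * s) has Φ hΦbij hΦiso P hPΦ
  obtain ⟨G, hGF, hFG⟩ := exists_inverse_semilinear a (-a) (by ring) F hF
  have hPG : ∀ x ∈ P, G x ∈ P := by
    intro x hx
    obtain ⟨y, hy, hyx⟩ := exists_preimage_of_stable hτ F hF.injective P hP hx
    rw [← hyx, hGF]; exact hy
  have haa' : a + -a = 0 := by ring
  set C := conjMap a (-a) haa' F G with hC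
  have hCi : ∀ i x, ((C)^[i] e) x = (⇑F)^[i] (e ((⇑G)^[i] x)) :=
    fun i x => iterate_conjMap_apply a (-a) haa' F G e i x
  have hFGi : ∀ i x, (⇑F)^[i] ((⇑G)^[i] x) = x := fun i x =>
    (Function.LeftInverse.iterate (g := ⇑F) (f := ⇑G) hFG i) x
  have hFs : ∀ z, (⇑F)^[s] z = ((p : 𝕃) ^ r) • Φ z := by
    intro z
    rw [hΦapp, smul_smul, ← zpow_add₀ pL_ne_zero, add_neg_cancel, zpow_zero, one_smul]
  have hCs : C^[s] e = e := by
    apply LinearMap.ext
    intro x
    rw [hCi]
    have hxy : x = (⇑F)^[s] ((⇑G)^[s] x) := (hFGi s x).symm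
    rw [hFs, ← hecomm, ← map_smul, ← hFs, ← hxy]
  have hchar := charZero_fractionRing_witt (p := p) (k := k)
  have hs0 : (s : 𝕃) ≠ 0 := by exact_mod_cast hs.ne'
  set c : 𝕃 := ((s : 𝕃))⁻¹ with hc
  have hfc : frob p k a c = c := by rw [hc, map_inv₀, map_natCast]
  set e' : N →ₗ[𝕃] N := c • ∑ i ∈ Finset.range s, C^[i] e with he'
  have hCe' : C e' = e' := by
    rw [he', hC, conjMap_smul, conjMap_sum, hfc]
    congr 1
    have h1 : ∀ i, conjMap a (-a) haa' F G (C^[i] e) = C^[i + 1] e :=
      fun i => (Function.iterate_succ_apply' C i e).symm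
    rw [Finset.sum_congr rfl (fun i _ => h1 i)]
    have h2 := Finset.sum_range_succ' (fun i => C^[i] e) s
    have h3 := Finset.sum_range_succ (fun i => C^[i] e) s
    rw [h3] at h2
    simp only [hCs, Function.iterate_zero, id_eq] at h2
    exact (add_right_cancel h2).symm
  have he'app : ∀ x, e' x = c • ∑ i ∈ Finset.range s, (⇑F)^[i] (e ((⇑G)^[i] x)) := by
    intro x
    rw [he', LinearMap.smul_apply, LinearMap.sum_apply]
    congr 1
    exact Finset.sum_congr rfl (fun i _ => hCi i x)
  have he'P : ∀ x, e' x ∈ P := by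
    intro x
    rw [he'app]
    exact P.smul_mem _ (P.sum_mem (fun i _ => iterate_mem_of_stable F P hP i (heP _)))
  have he'id : ∀ x ∈ P, e' x = x := by
    intro x hx
    rw [he'app]
    have h1 : ∀ i ∈ Finset.range s, (⇑F)^[i] (e ((⇑G)^[i] x)) = x := by
      intro i _
      rw [heid _ (iterate_mem_of_stable G P hPG i hx), hFGi]
    rw [Finset.sum_congr rfl h1, Finset.sum_const, Finset.card_range,
      ← Nat.cast_smul_eq_nsmul 𝕃, smul_smul, hc, inv_mul_cancel₀ hs0, one_smul]
  have he'F : ∀ x, e' (F x) = F (e' x) := by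
    intro x
    have h1 : (C e') (F x) = F (e' (G (F x))) := rfl
    rw [hCe', hGF] at h1
    exact h1
  refine ⟨LinearMap.ker e', fun x hx => ?_, ?_⟩
  · rw [LinearMap.mem_ker] at hx ⊢
    rw [he'F, hx, map_zero]
  · have := LinearMap.isCompl_of_proj (f := e'.codRestrict P he'P)
      (fun x => Subtype.ext (he'id x x.2))
    rwa [LinearMap.ker_codRestrict] at this

end compl

end Groth.Agent.Lib.Isoc76
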