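import Groth.Agent.Lib.Lang76E

set_option autoImplicit false
set_option linter.unusedSectionVars false

/-!
# Semisimplicity of the category of isocrystals over an algebraically closed field (helper76)

Every sub-isocrystal of a `σ^a`-isocrystal (`a ≠ 0`) over an algebraically closed field has a
stable complement.
-/

namespace Groth.Agent.Lib.Isoc76

open Isoc Matrix

universe u v

section general

variable {p : ℕ} [Fact p.Prime] {k : Type u} [Field k] [CharP k p] [PerfectRing k p]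
variable {N : Type v} [AddCommGroup N] [Module (WittVector p k) N]
  [Module (FractionRing (WittVector p k)) N]
  [IsScalarTower (WittVector p k) (FractionRing (WittVector p k)) N]

local notation "𝕎" => WittVector p k
local notation "𝕃" => FractionRing (WittVector p k)

variable {τ : FractionRing (WittVector p k) →+* FractionRing (WittVector p k)}

theorem restrict_bijective' [Module.Finite 𝕃 N] (hτ : GoodTwist τ)
    (F : N →ₛₗ[τ] N) (hF : Function.Injective F) (P : Submodule 𝕃 N)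
    (hP : ∀ x ∈ P, F x ∈ P) : Function.Bijective (F.restrict hP) := by
  refine ⟨restrict_injective F hF P hP, fun y => ?_⟩
  obtain ⟨x, hx, hxy⟩ := exists_preimage_of_stable hτ F hF P hP y.2
  exact ⟨⟨x, hx⟩, Subtype.ext hxy⟩

/-- Every stable subspace is the sum of its intersections with the slope parts. -/
theorem le_iSup_inf_slopePart [Module.Finite 𝕃 N] (hτ : GoodTwist τ) (F : N →ₛₗ[τ] N)
    (hF : Function.Bijective F) (R : Submodule 𝕃 N) (hR : ∀ x ∈ R, F x ∈ R) :
    R ≤ ⨆ μ : ℚ, R ⊓ slopePart F μ := by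
  have hbij := restrict_bijective' hτ F hF.injective R hR
  have h1 := iSup_slopePart_eq_top hτ _ ↥R (F.restrict hR) hbij rfl
  calc R = (⊤ : Submodule 𝕃 R).map R.subtype := (Submodule.map_subtype_top R).symm
    _ = (⨆ μ : ℚ, slopePart (F.restrict hR) μ).map R.subtype := by rw [h1]
    _ = ⨆ μ : ℚ, (slopePart (F.restrict hR) μ).map R.subtype := Submodule.map_iSup _ _
    _ ≤ ⨆ μ : ℚ, R ⊓ slopePart F μ :=
      iSup_mono (fun μ => le_inf (Submodule.map_subtype_le R _)
        (map_slopePart_restrict_le F R hR μ))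

theorem iSup_stable {ι : Type*} (F : N →ₛₗ[τ] N) (Q : ι → Submodule 𝕃 N)
    (hQ : ∀ i, ∀ x ∈ Q i, F x ∈ Q i) : ∀ x ∈ ⨆ i, Q i, F x ∈ ⨆ i, Q i := by
  intro x hx
  refine Submodule.iSup_induction Q (motive := fun x => F x ∈ ⨆ i, Q i) hx
    (fun i x hx => Submodule.mem_iSup_of_mem i (hQ i x hx)) ?_ (fun x y hx hy => ?_)
  · rw [map_zero]; exact Submodule.zero_mem _
  · rw [map_add]; exact Submodule.add_mem _ hx hy

end general

section closed

variable {p : ℕ} [Fact p.Prime] {k : Type u} [Field k] [CharP k p] [PerfectRing k p]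
  [IsAlgClosed k]
variable {N : Type v} [AddCommGroup N] [Module (WittVector p k) N]
  [Module (FractionRing (WittVector p k)) N]
  [IsScalarTower (WittVector p k) (FractionRing (WittVector p k)) N]

local notation "𝕎" => WittVector p k
local notation "𝕃" => FractionRing (WittVector p k)

theorem exists_relative_compl [Module.Finite 𝕃 N] (a : ℤ) (ha : a ≠ 0)
    (F : N →ₛₗ[frob p k a] N) (hF : Function.Bijective F) (μ : ℚ)
    (P : Submodule 𝕃 N) (hP : ∀ x ∈ P, F x ∈ P) :
    ∃ Q : Submodule 𝕃 N, Q ≤ slopePart F μ ∧ (∀ x ∈ Q, F x ∈ Q) ∧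
      (P ⊓ slopePart F μ) ⊓ Q = ⊥ ∧ (P ⊓ slopePart F μ) ⊔ Q = slopePart F μ := by
  have hτ := goodTwist_frob (p := p) (k := k) a
  obtain ⟨hN', hiso⟩ := slopePart_isIsoclinic hτ F μ
  set N' := slopePart F μ with hN'def
  have hbij := restrict_bijective' hτ F hF.injective N' hN'
  set P' : Submodule 𝕃 N' := P.comap N'.subtype with hP'
  have hP'st : ∀ x ∈ P', (F.restrict hN') x ∈ P' := by
    intro x hx
    exact hP _ hx
  obtain ⟨Q'', hQst, hcompl⟩ :=
    exists_stable_compl_of_isIsoclinic a ha (F.restrict hN') hbij μ hiso P' hP'st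
  have hmapP : P'.map N'.subtype = P ⊓ N' := by
    rw [hP', Submodule.map_comap_subtype, inf_comm]
  refine ⟨Q''.map N'.subtype, Submodule.map_subtype_le N' _, ?_, ?_, ?_⟩
  · rintro _ ⟨y, hy, rfl⟩
    exact ⟨(F.restrict hN') y, hQst y hy, rfl⟩
  · rw [← hmapP, ← Submodule.map_inf _ N'.injective_subtype, hcompl.inf_eq_bot, Submodule.map_bot]
  · rw [← hmapP, ← Submodule.map_sup, hcompl.sup_eq_top, Submodule.map_subtype_top]

/-- **Semisimplicity**: over an algebraically closed field every sub-isocrystal of a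
`σ^a`-isocrystal, `a ≠ 0`, has a stable complement. -/
theorem exists_stable_compl [Module.Finite 𝕃 N] (a : ℤ) (ha : a ≠ 0)
    (F : N →ₛₗ[frob p k a] N) (hF : Function.Bijective F)
    (P : Submodule 𝕃 N) (hP : ∀ x ∈ P, F x ∈ P) :
    ∃ Q : Submodule 𝕃 N, (∀ x ∈ Q, F x ∈ Q) ∧ IsCompl P Q := by
  have hτ := goodTwist_frob (p := p) (k := k) a
  choose Q hQle hQst hQdisj hQsup using
    fun μ : ℚ => exists_relative_compl a ha F hF μ P hP
  have hQtot := iSup_stable F Q hQst
  refine ⟨⨆ μ, Q μ, hQtot, ?_, ?_⟩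
  · -- disjoint
    rw [disjoint_iff]
    set R := P ⊓ ⨆ μ, Q μ with hR
    have hRst : ∀ x ∈ R, F x ∈ R := fun x hx => ⟨hP x hx.1, hQtot x hx.2⟩
    have h1 := le_iSup_inf_slopePart hτ F hF R hRst
    rw [eq_bot_iff]
    refine h1.trans (iSup_le fun μ => ?_)
    have hind := iSupIndep_slopePart hτ F hF.injective
    have h2 : (⨆ ν, Q ν) ⊓ slopePart F μ ≤ Q μ := by
      rw [iSup_split_single Q μ, sup_inf_assoc_of_le _ (hQle μ)]
      have h3 : (⨆ (ν) (_ : ν ≠ μ), Q ν) ⊓ slopePart F μ ≤ ⊥ := by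
        have h4 : (⨆ (ν) (_ : ν ≠ μ), Q ν) ≤ ⨆ (ν) (_ : ν ≠ μ), slopePart F ν :=
          iSup₂_mono (fun ν _ => hQle ν)
        have h5 := (hind μ).le_bot
        rw [inf_comm]
        exact (inf_le_inf_left _ h4).trans h5
      rw [le_bot_iff.mp h3, sup_bot_eq]
    calc R ⊓ slopePart F μ = P ⊓ ((⨆ ν, Q ν) ⊓ slopePart F μ) := by rw [hR, inf_assoc]
      _ ≤ P ⊓ (Q μ ⊓ slopePart F μ) := inf_le_inf_left _ (le_inf h2 inf_le_right)
      _ = (P ⊓ slopePart F μ) ⊓ Q μ := by rw [inf_comm (Q μ), inf_assoc]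
      _ = ⊥ := hQdisj μ
  · rw [codisjoint_iff, eq_top_iff, ← iSup_slopePart_eq_top hτ _ N F hF rfl]
    refine iSup_le fun μ => ?_
    rw [← hQsup μ]
    exact sup_le (inf_le_left.trans le_sup_left) ((le_iSup Q μ).trans le_sup_right)

end closed

end Groth.Agent.Lib.Isoc76
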