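import Groth.Agent.Lib.Lang76F
import Groth.Agent.Lib.Isoc76Z

set_option autoImplicit false
set_option linter.unusedSectionVars false

/-!
# Simple isocrystals over an algebraically closed field are standard (helper76)
-/

namespace Groth.Agent.Lib.Isoc76

open Isoc Matrix

universe u v w

section transport

variable {p : ℕ} [Fact p.Prime] {k : Type u} [Field k] [CharP k p] [PerfectRing k p]
variable {N₁ : Type v} [AddCommGroup N₁] [Module (WittVector p k) N₁]
  [Module (FractionRing (WittVector p k)) N₁]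
  [IsScalarTower (WittVector p k) (FractionRing (WittVector p k)) N₁]
variable {N₂ : Type w} [AddCommGroup N₂] [Module (WittVector p k) N₂]
  [Module (FractionRing (WittVector p k)) N₂]
  [IsScalarTower (WittVector p k) (FractionRing (WittVector p k)) N₂]

local notation "𝕎" => WittVector p k
local notation "𝕃" => FractionRing (WittVector p k)

variable {τ : FractionRing (WittVector p k) →+* FractionRing (WittVector p k)}

/-- The image of an isoclinic isocrystal under a surjective morphism is isoclinic. -/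
theorem isIsoclinic_of_surjective (F₁ : N₁ →ₛₗ[τ] N₁) (F₂ : N₂ →ₛₗ[τ] N₂) (f : N₁ →ₗ[𝕃] N₂)
    (hf : ∀ x : N₁, f (F₁ x) = F₂ (f x)) (hsurj : Function.Surjective f) {μ : ℚ}
    (hμ : IsIsoclinic F₁ μ) : IsIsoclinic F₂ μ := by
  obtain ⟨M, hM, r, s, hs, hrs, heq⟩ := hμ
  set fW : N₁ →ₗ[𝕎] N₂ := f.restrictScalars 𝕎 with hfW
  have hfWapp : ∀ x, fW x = f x := fun x => rfl
  have hlat : latImg F₂ s (M.map fW) = (latImg F₁ s M).map fW := by
    unfold latImg
    rw [Submodule.map_span]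
    congr 1
    ext y
    simp only [Set.mem_image, SetLike.mem_coe, Submodule.mem_map]
    constructor
    · rintro ⟨_, ⟨x, hx, rfl⟩, rfl⟩
      exact ⟨_, ⟨x, hx, rfl⟩, iterate_comm_of_comm F₁ F₂ f hf s x⟩
    · rintro ⟨_, ⟨x, hx, rfl⟩, rfl⟩
      exact ⟨_, ⟨x, hx, rfl⟩, (iterate_comm_of_comm F₁ F₂ f hf s x).symm⟩
  have hpp : pPow r (M.map fW) = (pPow r M).map fW := by
    ext y
    rw [mem_pPow_iff, Submodule.mem_map, Submodule.mem_map]
    constructor
    · rintro ⟨x, hx, hxy⟩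
      refine ⟨((p : 𝕃) ^ r) • x, ?_, ?_⟩
      · rw [mem_pPow_iff, smul_smul, ← zpow_add₀ pL_ne_zero, neg_add_cancel, zpow_zero, one_smul]
        exact hx
      · rw [hfWapp, map_smul, ← hfWapp, hxy, smul_smul, ← zpow_add₀ pL_ne_zero, add_neg_cancel,
          zpow_zero, one_smul]
    · rintro ⟨x, hx, rfl⟩
      rw [mem_pPow_iff] at hx
      exact ⟨_, hx, by rw [hfWapp, map_smul]; rfl⟩
  have hlattice : (M.map fW).IsLattice 𝕃 := by
    refine ⟨hM.fg.map _, ?_⟩
    have hspan : Submodule.span 𝕃 ((M.map fW : Submodule 𝕎 N₂) : Set N₂)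
        = (Submodule.span 𝕃 (M : Set N₁)).map f := by
      rw [Submodule.map_span]
      rfl
    rw [hspan, hM.span_eq_top, Submodule.map_top, LinearMap.range_eq_top.mpr hsurj]
  exact ⟨M.map fW, hlattice, r, s, hs, hrs, by rw [hlat, heq, hpp]⟩

end transport

section simple

variable {p : ℕ} [Fact p.Prime] {k : Type u} [Field k] [CharP k p] [PerfectRing k p]
  [IsAlgClosed k]
variable {N : Type v} [AddCommGroup N] [Module (WittVector p k) N]
  [Module (FractionRing (WittVector p k)) N]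
  [IsScalarTower (WittVector p k) (FractionRing (WittVector p k)) N]

local notation "𝕎" => WittVector p k
local notation "𝕃" => FractionRing (WittVector p k)

/-- A simple isocrystal over an algebraically closed field is isoclinic. -/
theorem exists_isIsoclinic_of_simple [Module.Finite 𝕃 N] [Nontrivial N] (a : ℤ)
    (F : N →ₛₗ[frob p k a] N) (hF : Function.Bijective F)
    (hsimple : ∀ P : Submodule 𝕃 N, (∀ x ∈ P, F x ∈ P) → P = ⊥ ∨ P = ⊤) :
    ∃ μ : ℚ, IsIsoclinic F μ := by
  have hτ := goodTwist_frob (p := p) (k := k) a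
  have htop := iSup_slopePart_eq_top hτ _ N F hF rfl
  have hex : ∃ μ : ℚ, slopePart F μ ≠ ⊥ := by
    by_contra hcon
    push Not at hcon
    have : (⨆ μ : ℚ, slopePart F μ) = ⊥ := by
      rw [iSup_eq_bot]; exact hcon
    rw [this] at htop
    exact bot_ne_top htop
  obtain ⟨μ, hμ⟩ := hex
  obtain ⟨hst, hiso⟩ := slopePart_stable_isIsoclinicOn hτ F μ
  have h1 := (hsimple _ hst).resolve_left hμ
  rw [h1] at hiso
  exact ⟨μ, (isIsoclinicOn_top_iff F μ).mp hiso⟩

/-- A non-zero vector `x` with `F^h x = p^d x` in an isoclinic isocrystal of slope `d/h`. -/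
theorem exists_cyclic_vector [Module.Finite 𝕃 N] [Nontrivial N] (a : ℤ) (ha : a ≠ 0)
    (F : N →ₛₗ[frob p k a] N) (hF : Function.Bijective F) (μ : ℚ) (hμ : IsIsoclinic F μ) :
    ∃ x : N, x ≠ 0 ∧ (⇑F)^[μ.den] x = ((p : 𝕃) ^ μ.num) • x := by
  have hτ := goodTwist_frob (p := p) (k := k) a
  obtain ⟨M, hM, r, s, hs, hrs, heq⟩ := hμ
  obtain ⟨t, ht, hst, hrt⟩ := exists_mul_of_div_eq hs hrs
  set d := μ.num with hd
  set h := μ.den with hh
  have hh0 : 0 < h := μ.den_pos
  set Φ₀ : N →ₛₗ[(frob p k a) ^ h] N := ((p : 𝕃) ^ (-d)) • iter F h with hΦ₀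
  set Φ : N →ₛₗ[frob p k (a * h)] N := castTwist (frob_pow_apply a h) Φ₀ with hΦdef
  have hΦapp : ∀ x, Φ x = ((p : 𝕃) ^ (-d)) • (⇑F)^[h] x := fun x => rfl
  have hΦbij : Function.Bijective Φ := bijective_smul_iter F hF (-d) h
  have hah : a * (h : ℤ) ≠ 0 := mul_ne_zero ha (by exact_mod_cast hh0.ne')
  have hΦiso : IsIsoclinic Φ 0 := by
    refine ⟨M, hM, 0, t, ht, by simp, ?_⟩
    rw [hΦdef, latImg_castTwist, hΦ₀, latImg_smul_iter hτ, ← hst, heq, pPow_pPow]
    congr 1
    rw [hrt]; ring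
  have hspan := span_fixed_eq_top (a * h) hah Φ hΦbij hΦiso
  by_contra hcon
  push Not at hcon
  have hbot : Submodule.span 𝕃 {x : N | Φ x = x} = ⊥ := by
    rw [Submodule.span_eq_bot]
    intro x hx
    by_contra hx0
    apply hcon x hx0
    have hx' : Φ x = x := hx
    rw [hΦapp] at hx'
    calc (⇑F)^[h] x = ((p : 𝕃) ^ d) • (((p : 𝕃) ^ (-d)) • (⇑F)^[h] x) := by
          rw [smul_smul, ← zpow_add₀ pL_ne_zero, add_neg_cancel, zpow_zero, one_smul]
      _ = ((p : 𝕃) ^ d) • x := by rw [hx']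
  rw [hbot] at hspan
  exact bot_ne_top hspan

end simple

section cyclic

variable {p : ℕ} [Fact p.Prime] {k : Type u} [Field k] [CharP k p] [PerfectRing k p]
variable {N : Type v} [AddCommGroup N] [Module (WittVector p k) N]
  [Module (FractionRing (WittVector p k)) N]
  [IsScalarTower (WittVector p k) (FractionRing (WittVector p k)) N]

local notation "𝕎" => WittVector p k
local notation "𝕃" => FractionRing (WittVector p k)

variable {τ : FractionRing (WittVector p k) →+* FractionRing (WittVector p k)}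

/-- A simple isocrystal with a non-zero vector `x` such that `F^h x = p^d x`, `gcd(d, h) = 1`,
is isomorphic to the standard isocrystal `N_{d/h}`. -/
theorem exists_equiv_stdIsoc_of_cyclic [Module.Finite 𝕃 N] (hτ : GoodTwist τ) (F : N →ₛₗ[τ] N)
    (hsimple : ∀ P : Submodule 𝕃 N, (∀ x ∈ P, F x ∈ P) → P = ⊥ ∨ P = ⊤)
    (d : ℤ) (h : ℕ) (hh : 0 < h) (hdh : Int.gcd d h = 1) (x : N) (hx0 : x ≠ 0)
    (hx : (⇑F)^[h] x = ((p : 𝕃) ^ d) • x) :
    ∃ f : (Fin h → 𝕃) ≃ₗ[𝕃] N, ∀ c, f (stdIsoc τ d h c) = F (f c) := by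
  classical
  obtain ⟨n, rfl⟩ : ∃ n, h = n + 1 := ⟨h - 1, by omega⟩
  set f₀ : (Fin (n + 1) → 𝕃) →ₗ[𝕃] N :=
    Fintype.linearCombination 𝕃 (fun i : Fin (n + 1) => (⇑F)^[i] x) with hf₀
  have hf₀app : ∀ c, f₀ c = ∑ i, c i • (⇑F)^[i] x := fun c =>
    Fintype.linearCombination_apply 𝕃 _ c
  have hequiv : ∀ c, f₀ (stdIsoc τ d (n + 1) c) = F (f₀ c) := by
    intro c
    rw [hf₀app, hf₀app, map_sum,
      ← Equiv.sum_comp (finRotate (n + 1))
        (fun i => stdIsoc τ d (n + 1) c i • (⇑F)^[i] x)]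
    refine Finset.sum_congr rfl (fun j _ => ?_)
    rw [stdIsoc_apply, Equiv.symm_apply_apply, LinearMap.map_smulₛₗ,
      ← Function.iterate_succ_apply' (⇑F) j x]
    by_cases hj : j = Fin.last n
    · subst hj
      rw [finRotate_last, Fin.val_zero, if_pos rfl, Function.iterate_zero, id_eq, Fin.val_last, hx,
        smul_smul, mul_comm]
    · have h1 := coe_finRotate_of_ne_last hj
      rw [h1, if_neg (Nat.succ_ne_zero _), one_mul]
  have hker : LinearMap.ker f₀ = ⊥ := by
    have hst : ∀ c ∈ LinearMap.ker f₀, stdIsoc τ d (n + 1) c ∈ LinearMap.ker f₀ := by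
      intro c hc
      rw [LinearMap.mem_ker] at hc ⊢
      rw [hequiv, hc, map_zero]
    rcases eq_bot_or_eq_top_of_stable_stdIsoc hτ d (n + 1) hh hdh _ hst with h1 | h1
    · exact h1
    · exfalso
      have h2 : (Pi.single 0 1 : Fin (n + 1) → 𝕃) ∈ LinearMap.ker f₀ := by
        rw [h1]; exact Submodule.mem_top
      rw [LinearMap.mem_ker, hf₀, Fintype.linearCombination_apply_single, one_smul] at h2
      exact hx0 h2
  have hrange : LinearMap.range f₀ = ⊤ := by
    have hst : ∀ y ∈ LinearMap.range f₀, F y ∈ LinearMap.range f₀ := by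
      rintro _ ⟨c, rfl⟩
      exact ⟨_, hequiv c⟩
    rcases hsimple _ hst with h1 | h1
    · exfalso
      have h2 : x ∈ LinearMap.range f₀ :=
        ⟨Pi.single 0 1, by rw [hf₀, Fintype.linearCombination_apply_single, one_smul]; rfl⟩
      rw [h1, Submodule.mem_bot] at h2
      exact hx0 h2
    · exact h1
  refine ⟨LinearEquiv.ofBijective f₀ ⟨LinearMap.ker_eq_bot.mp hker,
    LinearMap.range_eq_top.mp hrange⟩, fun c => ?_⟩
  exact hequiv c

end cyclic

section simple2

variable {p : ℕ} [Fact p.Prime] {k : Type u} [Field k] [CharP k p] [PerfectRing k p]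
  [IsAlgClosed k]
variable {N : Type v} [AddCommGroup N] [Module (WittVector p k) N]
  [Module (FractionRing (WittVector p k)) N]
  [IsScalarTower (WittVector p k) (FractionRing (WittVector p k)) N]

local notation "𝕎" => WittVector p k
local notation "𝕃" => FractionRing (WittVector p k)

/-- **Simple isocrystals over an algebraically closed field are standard.** -/
theorem exists_equiv_stdIsoc_of_simple [Module.Finite 𝕃 N] [Nontrivial N] (a : ℤ) (ha : a ≠ 0)
    (F : N →ₛₗ[frob p k a] N) (hF : Function.Bijective F)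
    (hsimple : ∀ P : Submodule 𝕃 N, (∀ x ∈ P, F x ∈ P) → P = ⊥ ∨ P = ⊤) :
    ∃ (d : ℤ) (h : ℕ) (f : (Fin h → 𝕃) ≃ₗ[𝕃] N), 0 < h ∧ Int.gcd d h = 1 ∧
      ∀ c, f (stdIsoc (frob p k a) d h c) = F (f c) := by
  obtain ⟨μ, hμ⟩ := exists_isIsoclinic_of_simple a F hF hsimple
  obtain ⟨x, hx0, hx⟩ := exists_cyclic_vector a ha F hF μ hμ
  have hgcd : Int.gcd μ.num μ.den = 1 := by
    have := μ.reduced
    rw [Nat.Coprime] at this
    rw [Int.gcd, Int.natAbs_natCast]
    exact this
  obtain ⟨f, hf⟩ := exists_equiv_stdIsoc_of_cyclic (goodTwist_frob a) F hsimple μ.num μ.den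
    μ.den_pos hgcd x hx0 hx
  exact ⟨μ.num, μ.den, f, μ.den_pos, hgcd, hf⟩

end simple2

end Groth.Agent.Lib.Isoc76
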