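import Groth.Agent.Lib.Lang76G

set_option autoImplicit false
set_option linter.unusedSectionVars false

/-!
# The Dieudonné–Manin classification (helper76)
-/

namespace Groth.Agent.Lib.Isoc76

open Isoc Matrix

universe u v

section lattice

variable {K : Type*} [Field K] {V : Type*} [AddCommGroup V] [Module K V] [Module.Finite K V]

/-- The dimension of a finite independent sum. -/
theorem finrank_finset_sup_of_iSupIndep {ι : Type*} (S : ι → Submodule K V) (hind : iSupIndep S)
    (J : Finset ι) : Module.finrank K ↥(J.sup S) = ∑ i ∈ J, Module.finrank K (S i) := by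
  classical
  induction J using Finset.induction_on with
  | empty =>
    rw [Finset.sup_empty, Finset.sum_empty]
    exact finrank_bot K V
  | insert i J hi ih =>
    rw [Finset.sup_insert, Finset.sum_insert hi, ← ih]
    have hdisj : Disjoint (S i) (J.sup S) :=
      (hind.supIndep' (insert i J)) (Finset.subset_insert i J) (Finset.mem_insert_self i J) hi
    have h1 := Submodule.finrank_sup_add_finrank_inf_eq (S i) (J.sup S)
    rw [hdisj.eq_bot, finrank_bot, add_zero] at h1
    exact h1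

end lattice

section decomp

variable {p : ℕ} [Fact p.Prime] {k : Type u} [Field k] [CharP k p] [PerfectRing k p]
variable {N : Type v} [AddCommGroup N] [Module (WittVector p k) N]
  [Module (FractionRing (WittVector p k)) N]
  [IsScalarTower (WittVector p k) (FractionRing (WittVector p k)) N]

local notation "𝕎" => WittVector p k
local notation "𝕃" => FractionRing (WittVector p k)

variable {τ : FractionRing (WittVector p k) →+* FractionRing (WittVector p k)}

/-- A minimal non-zero stable subspace of a non-zero stable subspace. -/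
theorem exists_minimal_stable [Module.Finite 𝕃 N] (F : N →ₛₗ[τ] N) (Q : Submodule 𝕃 N)
    (hQ : ∀ x ∈ Q, F x ∈ Q) (hQ0 : Q ≠ ⊥) :
    ∃ P : Submodule 𝕃 N, P ≤ Q ∧ (∀ x ∈ P, F x ∈ P) ∧ P ≠ ⊥ ∧
      ∀ P' : Submodule 𝕃 N, P' ≤ P → (∀ x ∈ P', F x ∈ P') → P' = ⊥ ∨ P' = P := by
  obtain ⟨P, ⟨hPQ, hPst, hP0⟩, hmin⟩ := (wellFounded_lt (α := Submodule 𝕃 N)).has_min
    {P : Submodule 𝕃 N | P ≤ Q ∧ (∀ x ∈ P, F x ∈ P) ∧ P ≠ ⊥} ⟨Q, le_rfl, hQ, hQ0⟩
  refine ⟨P, hPQ, hPst, hP0, fun P' hP'P hP'st => ?_⟩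
  by_cases h0 : P' = ⊥
  · exact Or.inl h0
  · right
    have h1 : ¬ P' < P := hmin P' ⟨hP'P.trans hPQ, hP'st, h0⟩
    exact eq_of_le_of_not_lt hP'P h1

end decomp

section closed

variable {p : ℕ} [Fact p.Prime] {k : Type u} [Field k] [CharP k p] [PerfectRing k p]
  [IsAlgClosed k]
variable {N : Type v} [AddCommGroup N] [Module (WittVector p k) N]
  [Module (FractionRing (WittVector p k)) N]
  [IsScalarTower (WittVector p k) (FractionRing (WittVector p k)) N]

local notation "𝕎" => WittVector p k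
local notation "𝕃" => FractionRing (WittVector p k)

/-- Complete reducibility: every sub-isocrystal is a finite independent sum of simple ones. -/
theorem exists_simple_decomposition [Module.Finite 𝕃 N] (a : ℤ) (ha : a ≠ 0)
    (F : N →ₛₗ[frob p k a] N) (hF : Function.Bijective F) :
    ∀ (n : ℕ) (Q : Submodule 𝕃 N), (∀ x ∈ Q, F x ∈ Q) → Module.finrank 𝕃 Q = n →
    ∃ 𝒮 : Finset (Submodule 𝕃 N), (∀ S ∈ 𝒮, (∀ x ∈ S, F x ∈ S) ∧ S ≠ ⊥ ∧
        ∀ P' : Submodule 𝕃 N, P' ≤ S → (∀ x ∈ P', F x ∈ P') → P' = ⊥ ∨ P' = S) ∧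
      𝒮.SupIndep id ∧ 𝒮.sup id = Q := by
  classical
  intro n
  induction n using Nat.strong_induction_on with
  | _ n ih =>
    intro Q hQ hn
    by_cases hQ0 : Q = ⊥
    · refine ⟨∅, fun S hS => absurd hS (Finset.notMem_empty S), Finset.supIndep_empty _, ?_⟩
      rw [Finset.sup_empty, hQ0]
    · obtain ⟨P, hPQ, hPst, hP0, hPmin⟩ := exists_minimal_stable F Q hQ hQ0
      obtain ⟨Q', hQ'st, hcompl⟩ := exists_stable_compl a ha F hF P hPst
      set Q₁ := Q' ⊓ Q with hQ₁
      have hQ₁st : ∀ x ∈ Q₁, F x ∈ Q₁ := fun x hx => ⟨hQ'st x hx.1, hQ x hx.2⟩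
      have hsup : P ⊔ Q₁ = Q := by
        rw [hQ₁, ← sup_inf_assoc_of_le _ hPQ, hcompl.sup_eq_top, top_inf_eq]
      have hdisj : Disjoint P Q₁ := hcompl.disjoint.mono_right inf_le_left
      have hrank : Module.finrank 𝕃 P + Module.finrank 𝕃 Q₁ = Module.finrank 𝕃 Q := by
        have h1 := Submodule.finrank_sup_add_finrank_inf_eq P Q₁
        rw [hdisj.eq_bot, finrank_bot, add_zero, hsup] at h1
        exact h1.symm
      have hPpos : 0 < Module.finrank 𝕃 P := by
        rw [Module.finrank_pos_iff]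
        exact Submodule.nontrivial_iff_ne_bot.mpr hP0
      obtain ⟨𝒮₁, h𝒮₁, hind₁, hsup₁⟩ := ih (Module.finrank 𝕃 Q₁) (by omega) Q₁ hQ₁st rfl
      refine ⟨insert P 𝒮₁, ?_, ?_, ?_⟩
      · intro S hS
        rcases Finset.mem_insert.mp hS with rfl | hS
        · exact ⟨hPst, hP0, hPmin⟩
        · exact h𝒮₁ S hS
      · apply Finset.SupIndep.insert hind₁
        rw [hsup₁]
        exact hdisj
      · rw [Finset.sup_insert, hsup₁]
        exact hsup

end closed

end Groth.Agent.Lib.Isoc76
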