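import Groth.Agent.Lib.Lang76H

set_option autoImplicit false
set_option linter.unusedSectionVars false

/-!
# The Dieudonné–Manin classification: assembly (helper76)
-/

namespace Groth.Agent.Lib.Isoc76

open Isoc Matrix

universe u v

section assemble

variable {p : ℕ} [Fact p.Prime] {k : Type u} [Field k] [CharP k p] [PerfectRing k p]
  [IsAlgClosed k]
variable {N : Type v} [AddCommGroup N] [Module (WittVector p k) N]
  [Module (FractionRing (WittVector p k)) N]
  [IsScalarTower (WittVector p k) (FractionRing (WittVector p k)) N]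

local notation "𝕎" => WittVector p k
local notation "𝕃" => FractionRing (WittVector p k)

/-- **Dieudonné–Manin**: over an algebraically closed field every `σ^a`-isocrystal (`a ≠ 0`) is a
direct sum of standard isocrystals, with multiplicities given by the Newton slopes. -/
theorem exists_classification [Module.Finite 𝕃 N] (a : ℤ) (ha : a ≠ 0)
    (F : N →ₛₗ[frob p k a] N) (hF : Function.Bijective F) :
    ∃ (t : ℕ) (d : Fin t → ℤ) (h : Fin t → ℕ)
      (e : N ≃ₗ[𝕃] ((i : Fin t) → (Fin (h i) → 𝕃))),
      (∀ i, 0 < h i ∧ Int.gcd (d i) (h i) = 1) ∧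
      (∀ (x : N) (i : Fin t), e (F x) i = stdIsoc (frob p k a) (d i) (h i) (e x i)) ∧
      ∀ μ : ℚ, newtonMult F μ
        = ∑ i : Fin t, (if ((d i : ℚ) / (h i : ℚ)) = μ then h i else 0) := by
  classical
  have hτ := goodTwist_frob (p := p) (k := k) a
  obtain ⟨𝒮, h𝒮, hind, hsup⟩ := exists_simple_decomposition a ha F hF _ ⊤
    (fun x _ => Submodule.mem_top) rfl
  set t := 𝒮.card with ht
  let σ : Fin t ≃ ↥𝒮 := 𝒮.equivFin.symm
  set S : Fin t → Submodule 𝕃 N := fun i => (σ i : Submodule 𝕃 N) with hS
  have hSmem : ∀ i, S i ∈ 𝒮 := fun i => (σ i).2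
  have hSst : ∀ i, ∀ x ∈ S i, F x ∈ S i := fun i => (h𝒮 _ (hSmem i)).1
  have hS0 : ∀ i, S i ≠ ⊥ := fun i => (h𝒮 _ (hSmem i)).2.1
  have hSmin := fun i => (h𝒮 _ (hSmem i)).2.2
  have hSind : iSupIndep S := by
    have h1 : iSupIndep (id ∘ ((↑) : 𝒮 → Submodule 𝕃 N)) := hind.independent
    exact h1.comp σ.injective
  have hStop : ⨆ i, S i = ⊤ := by
    rw [eq_top_iff, ← hsup]
    apply Finset.sup_le
    intro s hs
    have h1 : S (σ.symm ⟨s, hs⟩) = s := by
      rw [hS]
      simp only
      rw [σ.apply_symm_apply]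
    rw [id_eq, ← h1]
    exact le_iSup S _
  have key : ∀ i, ∃ (d : ℤ) (h : ℕ) (f : (Fin h → 𝕃) ≃ₗ[𝕃] ↥(S i)), 0 < h ∧ Int.gcd d h = 1 ∧
      ∀ c, f (stdIsoc (frob p k a) d h c) = (F.restrict (hSst i)) (f c) := by
    intro i
    have : Nontrivial ↥(S i) := Submodule.nontrivial_iff_ne_bot.mpr (hS0 i)
    have hbij := restrict_bijective' hτ F hF.injective (S i) (hSst i)
    apply exists_equiv_stdIsoc_of_simple a ha (F.restrict (hSst i)) hbij
    intro P'' hP''
    have h1 := hSmin i (P''.map (S i).subtype) (Submodule.map_subtype_le _ _) (by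
      rintro _ ⟨y, hy, rfl⟩
      exact ⟨(F.restrict (hSst i)) y, hP'' y hy, rfl⟩)
    rcases h1 with h1 | h1
    · left
      apply Submodule.map_injective_of_injective (S i).injective_subtype
      rw [h1, Submodule.map_bot]
    · right
      apply Submodule.map_injective_of_injective (S i).injective_subtype
      rw [h1, Submodule.map_subtype_top]
  choose d h f hh hgcd hf using key
  set g : ((i : Fin t) → (Fin (h i) → 𝕃)) →ₗ[𝕃] N :=
    ∑ i, (S i).subtype ∘ₗ (f i).toLinearMap ∘ₗ (LinearMap.proj i) with hg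
  have hgapp : ∀ y, g y = ∑ i, ((f i (y i) : ↥(S i)) : N) := by
    intro y
    rw [hg, LinearMap.sum_apply]
    rfl
  have hginj : Function.Injective g := by
    rw [injective_iff_map_eq_zero]
    intro y hy
    rw [hgapp] at hy
    have h1 := (iSupIndep_iff_finsetSum_eq_zero_imp_eq_zero S).mp hSind Finset.univ
      (fun i => ((f i (y i) : ↥(S i)) : N)) (fun i _ => (f i (y i)).2) hy
    funext i
    have h2 := h1 i (Finset.mem_univ i)
    have h3 : f i (y i) = 0 := Subtype.ext h2
    exact (f i).map_eq_zero_iff.mp h3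
  have hgsurj : Function.Surjective g := by
    rw [← LinearMap.range_eq_top, eq_top_iff, ← hStop]
    apply iSup_le
    intro i x hx
    refine ⟨Pi.single i ((f i).symm ⟨x, hx⟩), ?_⟩
    rw [hgapp, Finset.sum_eq_single i]
    · rw [Pi.single_eq_same, LinearEquiv.apply_symm_apply]
    · intro j _ hji
      rw [Pi.single_eq_of_ne hji, map_zero]; rfl
    · intro hi; exact absurd (Finset.mem_univ i) hi
  have hgF : ∀ y, F (g y) = g (fun i => stdIsoc (frob p k a) (d i) (h i) (y i)) := by
    intro y
    rw [hgapp, hgapp, map_sum]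
    refine Finset.sum_congr rfl (fun i _ => ?_)
    rw [hf]
    rfl
  set E := LinearEquiv.ofBijective g ⟨hginj, hgsurj⟩ with hE
  have heg : ∀ y, E.symm (g y) = y := fun y => E.symm_apply_apply y
  have hge : ∀ x, g (E.symm x) = x := fun x => E.apply_symm_apply x
  refine ⟨t, d, h, E.symm, fun i => ⟨hh i, hgcd i⟩, fun x i => ?_, fun μ => ?_⟩
  · have h1 : E.symm (F x) = fun i => stdIsoc (frob p k a) (d i) (h i) (E.symm x i) := by
      conv_lhs => rw [← hge x, hgF, heg]
    exact congrFun h1 i
  · set lam : Fin t → ℚ := fun i => (d i : ℚ) / (h i : ℚ) with hlam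
    have hSiso : ∀ i, S i ≤ slopePart F (lam i) := by
      intro i
      have hiso : IsIsoclinic (F.restrict (hSst i)) (lam i) :=
        isIsoclinic_of_surjective (stdIsoc (frob p k a) (d i) (h i)) (F.restrict (hSst i))
          (f i).toLinearMap (hf i) (f i).surjective (isIsoclinic_stdIsoc hτ (d i) (h i) (hh i))
      exact le_sSup ⟨hSst i, hiso⟩
    set T : ℚ → Submodule 𝕃 N :=
      fun μ => (Finset.univ.filter (fun i => lam i = μ)).sup S with hT
    have hTle : T ≤ fun μ => slopePart F μ := by
      intro μ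
      apply Finset.sup_le
      intro i hi
      rw [← (Finset.mem_filter.mp hi).2]
      exact hSiso i
    have hTtop : iSup T = ⊤ := by
      rw [eq_top_iff, ← hStop]
      apply iSup_le
      intro i
      have h1 : S i ≤ T (lam i) :=
        Finset.le_sup (f := S) (s := Finset.univ.filter (fun j => lam j = lam i))
          (Finset.mem_filter.mpr ⟨Finset.mem_univ i, rfl⟩)
      exact h1.trans (le_iSup T (lam i))
    have hTeq : T = fun μ => slopePart F μ :=
      (iSupIndep.le_iff_eq_of_iSup_eq_top (iSupIndep_slopePart hτ F hF.injective) hTtop).mp hTle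
    have hrank : ∀ i, Module.finrank 𝕃 (S i) = h i := by
      intro i
      rw [← (f i).finrank_eq, Module.finrank_fin_fun]
    have hTμ : slopePart F μ = T μ := (congrFun hTeq μ).symm
    unfold newtonMult
    rw [hTμ, hT]
    simp only
    rw [finrank_finset_sup_of_iSupIndep S hSind, Finset.sum_filter]
    refine Finset.sum_congr rfl (fun i _ => ?_)
    rw [hrank]

end assemble

end Groth.Agent.Lib.Isoc76
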