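import Mathlib

/-!
# Units of group algebras over domains, and coefficient ideals

* `exists_single_of_mul_eq_one` : over a domain and a `TwoUniqueSums` group, units of the group
  algebra are monomials.
* `InN J f` : all coefficients of `f` lie in the ideal `J`.
-/

namespace Groth.Agent.Lib.LaurentH2a38

open AddMonoidAlgebra

section Units

variable {D G : Type*} [CommRing D] [IsDomain D] [AddCommGroup G] [TwoUniqueSums G]

theorem exists_single_of_mul_eq_one (f g : AddMonoidAlgebra D G) (h : f * g = 1) :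
    ∃ (m : G) (c : D), f = single m c := by
  classical
  have hf0 : f ≠ 0 := by
    rintro rfl
    rw [zero_mul] at h
    exact zero_ne_one h
  have hg0 : g ≠ 0 := by
    rintro rfl
    rw [mul_zero] at h
    exact zero_ne_one h
  have hA : f.coeff.support.Nonempty := by
    rw [Finsupp.support_nonempty_iff]
    exact fun h0 => hf0 (coeff_eq_zero.mp h0)
  have hB : g.coeff.support.Nonempty := by
    rw [Finsupp.support_nonempty_iff]
    exact fun h0 => hg0 (coeff_eq_zero.mp h0)
  have hone : ∀ m : G, (1 : AddMonoidAlgebra D G).coeff m ≠ 0 → m = 0 := by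
    intro m hm
    rw [one_def, coeff_single, Finsupp.single_apply] at hm
    by_contra hne
    exact hm (if_neg (fun h0 => hne h0.symm))
  have hcard : f.coeff.support.card * g.coeff.support.card ≤ 1 := by
    by_contra hlt
    push Not at hlt
    obtain ⟨p1, hp1, p2, hp2, hne, hu1, hu2⟩ := TwoUniqueSums.uniqueAdd_of_one_lt_card hlt
    rw [Finset.mem_product] at hp1 hp2
    have e1 : (f * g).coeff (p1.1 + p1.2) = f.coeff p1.1 * g.coeff p1.2 :=
      coeff_mul_add_of_uniqueAdd hu1
    have e2 : (f * g).coeff (p2.1 + p2.2) = f.coeff p2.1 * g.coeff p2.2 :=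
      coeff_mul_add_of_uniqueAdd hu2
    rw [h] at e1 e2
    have z1 : p1.1 + p1.2 = 0 := hone _ (by
      rw [e1]
      exact mul_ne_zero (Finsupp.mem_support_iff.mp hp1.1) (Finsupp.mem_support_iff.mp hp1.2))
    have z2 : p2.1 + p2.2 = 0 := hone _ (by
      rw [e2]
      exact mul_ne_zero (Finsupp.mem_support_iff.mp hp2.1) (Finsupp.mem_support_iff.mp hp2.2))
    have := hu1 hp2.1 hp2.2 (by rw [z1, z2])
    exact hne (Prod.ext this.1.symm this.2.symm)
  have hA1 : f.coeff.support.card = 1 := by
    have h1 := Finset.card_pos.mpr hA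
    have h2 := Finset.card_pos.mpr hB
    have h3 : f.coeff.support.card ≤ f.coeff.support.card * g.coeff.support.card :=
      Nat.le_mul_of_pos_right _ h2
    omega
  obtain ⟨m, -, hm⟩ := Finsupp.card_support_eq_one.mp hA1
  refine ⟨m, f.coeff m, ?_⟩
  apply coeff_injective
  rw [coeff_single]
  exact hm

end Units

section InN

set_option linter.unusedSectionVars false

variable {A G : Type*} [CommRing A] [AddCommMonoid G]

/-- All coefficients lie in `J`. -/
def InN (J : Ideal A) (f : AddMonoidAlgebra A G) : Prop := ∀ m, f.coeff m ∈ J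

lemma inN_iff_ker (J : Ideal A) (f : AddMonoidAlgebra A G) :
    InN J f ↔ mapRingHom G (Ideal.Quotient.mk J) f = 0 := by
  constructor
  · intro h
    ext m
    rw [coeff_mapRingHom, coeff_zero, Finsupp.zero_apply, Ideal.Quotient.eq_zero_iff_mem]
    exact h m
  · intro h m
    rw [← Ideal.Quotient.eq_zero_iff_mem, ← coeff_mapRingHom, h]
    rfl

lemma InN.zero (J : Ideal A) : InN J (0 : AddMonoidAlgebra A G) := fun m => by
  simp

lemma InN.add {J : Ideal A} {f g : AddMonoidAlgebra A G} (hf : InN J f) (hg : InN J g) :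
    InN J (f + g) := fun m => by
  rw [coeff_add, Finsupp.add_apply]
  exact J.add_mem (hf m) (hg m)

lemma InN.neg {J : Ideal A} {f : AddMonoidAlgebra A G} (hf : InN J f) : InN J (-f) := fun m => by
  rw [coeff_neg, Finsupp.neg_apply]
  exact J.neg_mem (hf m)

lemma InN.sub {J : Ideal A} {f g : AddMonoidAlgebra A G} (hf : InN J f) (hg : InN J g) :
    InN J (f - g) := fun m => by
  rw [coeff_sub, Finsupp.sub_apply]
  exact J.sub_mem (hf m) (hg m)

lemma InN.mul_left {J : Ideal A} {f : AddMonoidAlgebra A G} (hf : InN J f)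
    (g : AddMonoidAlgebra A G) : InN J (g * f) := by
  rw [inN_iff_ker] at hf ⊢
  rw [map_mul, hf, mul_zero]

lemma InN.mul_right {J : Ideal A} {f : AddMonoidAlgebra A G} (hf : InN J f)
    (g : AddMonoidAlgebra A G) : InN J (f * g) := by
  rw [mul_comm]
  exact hf.mul_left g

lemma InN.mul {J K : Ideal A} {f g : AddMonoidAlgebra A G} (hf : InN J f) (hg : InN K g) :
    InN (J * K) (f * g) := fun m => by
  classical
  rw [coeff_mul]
  apply Ideal.sum_mem
  intro a _
  apply Ideal.sum_mem
  intro b _
  simp only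
  split_ifs
  · exact Ideal.mul_mem_mul (hf a) (hg b)
  · exact Ideal.zero_mem _

lemma InN.mono {J K : Ideal A} (hJK : J ≤ K) {f : AddMonoidAlgebra A G} (hf : InN J f) :
    InN K f := fun m => hJK (hf m)

lemma InN.mapDomain {H : Type*} [AddCommMonoid H] {J : Ideal A} {f : AddMonoidAlgebra A G}
    (hf : InN J f) (φ : G →+ H) : InN J (mapDomainRingHom A φ f) := by
  rw [inN_iff_ker] at hf ⊢
  have := RingHom.congr_fun (mapRingHom_comp_mapDomainRingHom (Ideal.Quotient.mk J) φ) f
  simp only [RingHom.comp_apply] at this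
  rw [this, hf, map_zero]

lemma InN.pow {J : Ideal A} {f : AddMonoidAlgebra A G} (hf : InN J f) (n : ℕ) (hn : 0 < n) :
    InN (J ^ n) (f ^ n) := by
  induction n with
  | zero => omega
  | succ n ih =>
    rcases Nat.eq_zero_or_pos n with rfl | hn'
    · simpa using hf
    · rw [pow_succ, pow_succ]
      exact (ih hn').mul hf

lemma inN_bot_iff (f : AddMonoidAlgebra A G) : InN ⊥ f ↔ f = 0 := by
  constructor
  · intro h
    ext m
    simpa using h m
  · rintro rfl
    exact InN.zero _

/-- If `J` is nilpotent and `f` has coefficients in `J`, then `1 + f` is invertible. -/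
lemma exists_inv_one_add {J : Ideal A} {n : ℕ} (hJ : J ^ n = ⊥) {f : AddMonoidAlgebra A G}
    (hf : InN J f) : ∃ g : AddMonoidAlgebra A G, (1 + f) * g = 1 := by
  have hnil : IsNilpotent f := by
    refine ⟨n + 1, ?_⟩
    have h1 := hf.pow (n + 1) (Nat.succ_pos n)
    rw [pow_succ, hJ, Ideal.bot_mul] at h1
    exact (inN_bot_iff _).mp h1
  obtain ⟨u, hu⟩ := hnil.isUnit_one_add
  exact ⟨(u⁻¹ : (AddMonoidAlgebra A G)ˣ), by rw [← hu]; exact u.mul_inv⟩

end InN

end Groth.Agent.Lib.LaurentH2a38
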