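import Groth.Agent.Lib.LaurentH2a38

/-!
# The coface maps of the Laurent cosimplicial ring in low degrees
-/

namespace Groth.Agent.Lib.LaurentH2b38

open AddMonoidAlgebra Groth.Agent.Lib.LaurentH2a38

/-- `(a, b) ↦ (0, a, b)`. -/
noncomputable def φ20 : (Fin 2 → ℤ) →+ (Fin 3 → ℤ) :=
  (Matrix.mulVecLin (!![0, 0; 1, 0; 0, 1] : Matrix (Fin 3) (Fin 2) ℤ)).toAddMonoidHom

/-- `(a, b) ↦ (a, a, b)`. -/
noncomputable def φ21 : (Fin 2 → ℤ) →+ (Fin 3 → ℤ) :=
  (Matrix.mulVecLin (!![1, 0; 1, 0; 0, 1] : Matrix (Fin 3) (Fin 2) ℤ)).toAddMonoidHom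

/-- `(a, b) ↦ (a, b, b)`. -/
noncomputable def φ22 : (Fin 2 → ℤ) →+ (Fin 3 → ℤ) :=
  (Matrix.mulVecLin (!![1, 0; 0, 1; 0, 1] : Matrix (Fin 3) (Fin 2) ℤ)).toAddMonoidHom

/-- `(a, b) ↦ (a, b, 0)`. -/
noncomputable def φ23 : (Fin 2 → ℤ) →+ (Fin 3 → ℤ) :=
  (Matrix.mulVecLin (!![1, 0; 0, 1; 0, 0] : Matrix (Fin 3) (Fin 2) ℤ)).toAddMonoidHom

/-- `a ↦ (0, a)`. -/
noncomputable def φ10 : (Fin 1 → ℤ) →+ (Fin 2 → ℤ) :=
  (Matrix.mulVecLin (!![0; 1] : Matrix (Fin 2) (Fin 1) ℤ)).toAddMonoidHom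

/-- `a ↦ (a, a)`. -/
noncomputable def φ11 : (Fin 1 → ℤ) →+ (Fin 2 → ℤ) :=
  (Matrix.mulVecLin (!![1; 1] : Matrix (Fin 2) (Fin 1) ℤ)).toAddMonoidHom

/-- `a ↦ (a, 0)`. -/
noncomputable def φ12 : (Fin 1 → ℤ) →+ (Fin 2 → ℤ) :=
  (Matrix.mulVecLin (!![1; 0] : Matrix (Fin 2) (Fin 1) ℤ)).toAddMonoidHom

lemma φ20_apply (v : Fin 2 → ℤ) : φ20 v = ![0, v 0, v 1] := by
  ext i
  fin_cases i <;> simp [φ20, Matrix.mulVec, dotProduct, Fin.sum_univ_two]

lemma φ21_apply (v : Fin 2 → ℤ) : φ21 v = ![v 0, v 0, v 1] := by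
  ext i
  fin_cases i <;> simp [φ21, Matrix.mulVec, dotProduct, Fin.sum_univ_two]

lemma φ22_apply (v : Fin 2 → ℤ) : φ22 v = ![v 0, v 1, v 1] := by
  ext i
  fin_cases i <;> simp [φ22, Matrix.mulVec, dotProduct, Fin.sum_univ_two]

lemma φ23_apply (v : Fin 2 → ℤ) : φ23 v = ![v 0, v 1, 0] := by
  ext i
  fin_cases i <;> simp [φ23, Matrix.mulVec, dotProduct, Fin.sum_univ_two]

lemma φ10_apply (v : Fin 1 → ℤ) : φ10 v = ![0, v 0] := by
  ext i
  fin_cases i <;> simp [φ10, Matrix.mulVec, dotProduct]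

lemma φ11_apply (v : Fin 1 → ℤ) : φ11 v = ![v 0, v 0] := by
  ext i
  fin_cases i <;> simp [φ11, Matrix.mulVec, dotProduct]

lemma φ12_apply (v : Fin 1 → ℤ) : φ12 v = ![v 0, 0] := by
  ext i
  fin_cases i <;> simp [φ12, Matrix.mulVec, dotProduct]

variable {A : Type*} [CommRing A]

lemma coeff_mapDomain_of_leftInverse {G H : Type*} [AddCommMonoid G] [AddCommMonoid H]
    [DecidableEq H] (φ : G →+ H) (ρ : H → G) (hρ : ∀ g, ρ (φ g) = g)
    (f : AddMonoidAlgebra A G) (w : H) :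
    (mapDomainRingHom A φ f).coeff w = if φ (ρ w) = w then f.coeff (ρ w) else 0 := by
  have hinj : Function.Injective φ := Function.LeftInverse.injective hρ
  change (Finsupp.mapDomain φ f.coeff) w = _
  split_ifs with h
  · conv_lhs => rw [← h]
    exact Finsupp.mapDomain_apply hinj f.coeff (ρ w)
  · apply Finsupp.mapDomain_of_notMem_range
    rintro ⟨g, rfl⟩
    exact h (by rw [hρ])

section Coeffs

variable (f : AddMonoidAlgebra A (Fin 2 → ℤ)) (h : AddMonoidAlgebra A (Fin 1 → ℤ)) (a b c : ℤ)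

lemma coeff_d20 :
    (mapDomainRingHom A φ20 f).coeff ![a, b, c] = if a = 0 then f.coeff ![b, c] else 0 := by
  classical
  rw [coeff_mapDomain_of_leftInverse φ20 (fun w => ![w 1, w 2]) (by
    intro g
    rw [φ20_apply]
    ext i; fin_cases i <;> rfl)]
  simp [φ20_apply, Matrix.vecCons_inj, eq_comm]

lemma coeff_d21 :
    (mapDomainRingHom A φ21 f).coeff ![a, b, c] = if a = b then f.coeff ![a, c] else 0 := by
  classical
  rw [coeff_mapDomain_of_leftInverse φ21 (fun w => ![w 0, w 2]) (by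
    intro g
    rw [φ21_apply]
    ext i; fin_cases i <;> rfl)]
  simp [φ21_apply, Matrix.vecCons_inj]

lemma coeff_d22 :
    (mapDomainRingHom A φ22 f).coeff ![a, b, c] = if b = c then f.coeff ![a, b] else 0 := by
  classical
  rw [coeff_mapDomain_of_leftInverse φ22 (fun w => ![w 0, w 1]) (by
    intro g
    rw [φ22_apply]
    ext i; fin_cases i <;> rfl)]
  simp [φ22_apply, Matrix.vecCons_inj]

lemma coeff_d23 :
    (mapDomainRingHom A φ23 f).coeff ![a, b, c] = if c = 0 then f.coeff ![a, b] else 0 := by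
  classical
  rw [coeff_mapDomain_of_leftInverse φ23 (fun w => ![w 0, w 1]) (by
    intro g
    rw [φ23_apply]
    ext i; fin_cases i <;> rfl)]
  simp [φ23_apply, Matrix.vecCons_inj, eq_comm]

lemma coeff_d10 :
    (mapDomainRingHom A φ10 h).coeff ![a, b] = if a = 0 then h.coeff ![b] else 0 := by
  classical
  rw [coeff_mapDomain_of_leftInverse φ10 (fun w => ![w 1]) (by
    intro g
    rw [φ10_apply]
    ext i; fin_cases i; rfl)]
  simp [φ10_apply, Matrix.vecCons_inj, eq_comm]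

lemma coeff_d11 :
    (mapDomainRingHom A φ11 h).coeff ![a, b] = if a = b then h.coeff ![a] else 0 := by
  classical
  rw [coeff_mapDomain_of_leftInverse φ11 (fun w => ![w 0]) (by
    intro g
    rw [φ11_apply]
    ext i; fin_cases i; rfl)]
  simp [φ11_apply, Matrix.vecCons_inj]

lemma coeff_d12 :
    (mapDomainRingHom A φ12 h).coeff ![a, b] = if b = 0 then h.coeff ![a] else 0 := by
  classical
  rw [coeff_mapDomain_of_leftInverse φ12 (fun w => ![w 0]) (by
    intro g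
    rw [φ12_apply]
    ext i; fin_cases i; rfl)]
  simp [φ12_apply, Matrix.vecCons_inj, eq_comm]

end Coeffs

/-! ### Cosimplicial identities -/

lemma comp_20_10 : φ20.comp φ10 = φ21.comp φ10 := by
  ext v i
  simp only [AddMonoidHom.comp_apply, φ20_apply, φ21_apply, φ10_apply]
  fin_cases i <;> simp

lemma comp_20_12 : φ20.comp φ12 = φ23.comp φ10 := by
  ext v i
  simp only [AddMonoidHom.comp_apply, φ20_apply, φ23_apply, φ10_apply, φ12_apply]
  fin_cases i <;> simp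

lemma comp_20_11 : φ20.comp φ11 = φ22.comp φ10 := by
  ext v i
  simp only [AddMonoidHom.comp_apply, φ20_apply, φ22_apply, φ10_apply, φ11_apply]
  fin_cases i <;> simp

lemma comp_22_12 : φ22.comp φ12 = φ23.comp φ12 := by
  ext v i
  simp only [AddMonoidHom.comp_apply, φ22_apply, φ23_apply, φ12_apply]
  fin_cases i <;> simp

lemma comp_22_11 : φ22.comp φ11 = φ21.comp φ11 := by
  ext v i
  simp only [AddMonoidHom.comp_apply, φ22_apply, φ21_apply, φ11_apply]
  fin_cases i <;> simp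

lemma comp_21_12 : φ21.comp φ12 = φ23.comp φ11 := by
  ext v i
  simp only [AddMonoidHom.comp_apply, φ21_apply, φ23_apply, φ11_apply, φ12_apply]
  fin_cases i <;> simp

end Groth.Agent.Lib.LaurentH2b38
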