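import Groth.Agent.Lib.LaurentH2b38

/-!
# `H²` of the units of the Laurent cosimplicial ring vanishes: the nilpotent dévissage
-/

namespace Groth.Agent.Lib.LaurentH2c38

open AddMonoidAlgebra Groth.Agent.Lib.LaurentH2a38 Groth.Agent.Lib.LaurentH2b38

variable {A : Type*} [CommRing A]

/-- The ring-level 2-cocycle condition. -/
def IsCoc (ξ : AddMonoidAlgebra A (Fin 2 → ℤ)) : Prop :=
  mapDomainRingHom A φ20 ξ * mapDomainRingHom A φ22 ξ =
    mapDomainRingHom A φ21 ξ * mapDomainRingHom A φ23 ξ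

/-- The ring-level coboundary of `η` with inverse `ηi`. -/
noncomputable def cob (η ηi : AddMonoidAlgebra A (Fin 1 → ℤ)) : AddMonoidAlgebra A (Fin 2 → ℤ) :=
  mapDomainRingHom A φ10 η * mapDomainRingHom A φ12 η * mapDomainRingHom A φ11 ηi

lemma IsCoc.mul {ξ₁ ξ₂ : AddMonoidAlgebra A (Fin 2 → ℤ)} (h₁ : IsCoc ξ₁) (h₂ : IsCoc ξ₂) :
    IsCoc (ξ₁ * ξ₂) := by
  unfold IsCoc at *
  simp only [map_mul]
  linear_combination (mapDomainRingHom A φ20 ξ₂ * mapDomainRingHom A φ22 ξ₂) * h₁ +
    (mapDomainRingHom A φ21 ξ₁ * mapDomainRingHom A φ23 ξ₁) * h₂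

lemma mapDomain_const {G H : Type*} [AddCommMonoid G] [AddCommMonoid H] (φ : G →+ H) (u : A) :
    mapDomainRingHom A φ (single 0 u) = single 0 u := by
  rw [mapDomainRingHom_apply, mapDomain_single, map_zero]

lemma isCoc_const (u : A) : IsCoc (single 0 u : AddMonoidAlgebra A (Fin 2 → ℤ)) := by
  unfold IsCoc
  simp only [mapDomain_const]

lemma cob_mul (η₁ ηi₁ η₂ ηi₂ : AddMonoidAlgebra A (Fin 1 → ℤ)) :
    cob (η₁ * η₂) (ηi₁ * ηi₂) = cob η₁ ηi₁ * cob η₂ ηi₂ := by
  unfold cob
  simp only [map_mul]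
  ring

lemma cob_mul_cob_inv (η ηi : AddMonoidAlgebra A (Fin 1 → ℤ)) (h : η * ηi = 1) :
    cob η ηi * cob ηi η = 1 := by
  rw [← cob_mul, h, mul_comm ηi η, h]
  unfold cob
  simp only [map_one, mul_one]

lemma cob_const (u v : A) (huv : u * v = 1) :
    cob (single 0 u : AddMonoidAlgebra A (Fin 1 → ℤ)) (single 0 v) = single 0 u := by
  unfold cob
  simp only [mapDomain_const, single_mul_single, add_zero]
  congr 1
  rw [mul_assoc, huv, mul_one]

lemma comp_apply' (φ : (Fin 2 → ℤ) →+ (Fin 3 → ℤ)) (ψ : (Fin 1 → ℤ) →+ (Fin 2 → ℤ))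
    (x : AddMonoidAlgebra A (Fin 1 → ℤ)) :
    mapDomainRingHom A φ (mapDomainRingHom A ψ x) = mapDomainRingHom A (φ.comp ψ) x := by
  rw [mapDomainRingHom_comp]
  rfl

/-- `d² ∘ d¹ = 1`. -/
lemma isCoc_cob (η ηi : AddMonoidAlgebra A (Fin 1 → ℤ)) (h : η * ηi = 1) : IsCoc (cob η ηi) := by
  have h3 : mapDomainRingHom A (φ22.comp φ10) η * mapDomainRingHom A (φ22.comp φ10) ηi = 1 := by
    rw [← map_mul, h, map_one]
  have h6 : mapDomainRingHom A (φ23.comp φ11) η * mapDomainRingHom A (φ23.comp φ11) ηi = 1 := by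
    rw [← map_mul, h, map_one]
  unfold IsCoc cob
  simp only [map_mul, comp_apply', comp_20_10, comp_20_12, comp_20_11, comp_22_12, comp_22_11,
    comp_21_12]
  linear_combination
    (mapDomainRingHom A (φ21.comp φ10) η * mapDomainRingHom A (φ23.comp φ10) η *
      mapDomainRingHom A (φ23.comp φ12) η * mapDomainRingHom A (φ21.comp φ11) ηi) * h3 -
    (mapDomainRingHom A (φ21.comp φ10) η * mapDomainRingHom A (φ23.comp φ10) η *
      mapDomainRingHom A (φ23.comp φ12) η * mapDomainRingHom A (φ21.comp φ11) ηi) * h6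

lemma vec2_eta (w : Fin 2 → ℤ) : w = ![w 0, w 1] := by
  ext i
  fin_cases i <;> rfl

lemma vec1_eta (w : Fin 1 → ℤ) : w = ![w 0] := by
  ext i
  fin_cases i
  rfl

lemma φ10_injective : Function.Injective φ10 := by
  intro v w hvw
  rw [φ10_apply, φ10_apply] at hvw
  have := congrFun hvw 1
  simp at this
  ext i
  fin_cases i
  exact this

/-- One step of the dévissage: a cocycle congruent to a constant unit modulo `J` becomes, after
dividing by a coboundary, congruent to the same unit modulo `J²`. -/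
theorem devissage (J : Ideal A) (n : ℕ) (hJ : J ^ n = ⊥) (ξ : AddMonoidAlgebra A (Fin 2 → ℤ))
    (hcoc : IsCoc ξ) (u v : A) (huv : u * v = 1) (hmem : InN J (ξ - single 0 u)) :
    ∃ η ηi : AddMonoidAlgebra A (Fin 1 → ℤ), η * ηi = 1 ∧
      InN (J * J) (ξ * cob ηi η - single 0 u) := by
  have hvu : (single 0 v : AddMonoidAlgebra A (Fin 2 → ℤ)) * single 0 u = 1 := by
    rw [single_mul_single, add_zero, mul_comm, huv]
    rfl
  set ν : AddMonoidAlgebra A (Fin 2 → ℤ) := single 0 v * ξ - 1 with hν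
  have hνJ : InN J ν := by
    have : ν = single 0 v * (ξ - single 0 u) := by
      rw [hν, mul_sub, hvu]
    rw [this]
    exact hmem.mul_left _
  have E1 : ξ = single 0 u * (1 + ν) := by
    rw [hν]
    have : (single 0 u : AddMonoidAlgebra A (Fin 2 → ℤ)) * single 0 v = 1 := by
      rw [mul_comm]
      exact hvu
    linear_combination (-ξ) * this
  -- the cocycle condition for `1 + ν`
  have hc1 : IsCoc (1 + ν) := by
    have : 1 + ν = single 0 v * ξ := by
      rw [hν]
      ring
    rw [this]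
    exact (isCoc_const v).mul hcoc
  unfold IsCoc at hc1
  simp only [map_add, map_one] at hc1
  set ν0 := mapDomainRingHom A φ20 ν with hν0
  set ν1 := mapDomainRingHom A φ21 ν with hν1
  set ν2 := mapDomainRingHom A φ22 ν with hν2
  set ν3 := mapDomainRingHom A φ23 ν with hν3
  have hδ : InN (J * J) (ν0 + ν2 - ν1 - ν3) := by
    have : ν0 + ν2 - ν1 - ν3 = ν1 * ν3 - ν0 * ν2 := by
      linear_combination hc1
    rw [this]
    exact ((hνJ.mapDomain φ21).mul (hνJ.mapDomain φ23)).sub
      ((hνJ.mapDomain φ20).mul (hνJ.mapDomain φ22))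
  have star : ∀ a b c : ℤ,
      (if a = 0 then ν.coeff ![b, c] else 0) + (if b = c then ν.coeff ![a, b] else 0) -
        (if a = b then ν.coeff ![a, c] else 0) - (if c = 0 then ν.coeff ![a, b] else 0) ∈ J * J := by
    intro a b c
    have := hδ ![a, b, c]
    rw [coeff_sub, coeff_sub, coeff_add, Finsupp.sub_apply, Finsupp.sub_apply, Finsupp.add_apply,
      hν0, hν1, hν2, hν3, coeff_d20, coeff_d21, coeff_d22, coeff_d23] at this
    exact this
  have h_i : ∀ a b : ℤ, a ≠ 0 → b ≠ 0 → a ≠ b → ν.coeff ![a, b] ∈ J * J := by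
    intro a b ha hb hab
    have := star a b 0
    rw [if_neg ha, if_neg hb, if_neg hab, if_pos rfl] at this
    simpa using this
  have h_ii : ∀ m : ℤ, m ≠ 0 → ν.coeff ![m, m] + ν.coeff ![0, m] ∈ J * J := by
    intro m hm
    have := star 0 m m
    rw [if_pos rfl, if_pos rfl, if_neg (Ne.symm hm), if_neg hm] at this
    simpa using this
  have h_iii : ∀ m : ℤ, m ≠ 0 → ν.coeff ![m, 0] + ν.coeff ![m, m] ∈ J * J := by
    intro m hm
    have := star m m 0
    rw [if_neg hm, if_neg hm, if_pos rfl, if_pos rfl] at this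
    have h2 := (J * J).neg_mem this
    have e : -(0 + 0 - ν.coeff ![m, 0] - ν.coeff ![m, m]) = ν.coeff ![m, 0] + ν.coeff ![m, m] := by
      ring
    rwa [e] at h2
  -- the correcting 1-cochain
  set h : AddMonoidAlgebra A (Fin 1 → ℤ) := comapDomain φ10 φ10_injective ν with hh
  have hcoeff : ∀ m : ℤ, h.coeff ![m] = ν.coeff ![0, m] := by
    intro m
    rw [hh, coeff_comapDomain, Finsupp.comapDomain_apply, φ10_apply]
    rfl
  have hhJ : InN J h := by
    intro w
    rw [hh, coeff_comapDomain, Finsupp.comapDomain_apply]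
    exact hνJ _
  obtain ⟨ηi, hηi⟩ := exists_inv_one_add hJ hhJ
  refine ⟨1 + h, ηi, hηi, ?_⟩
  set a0 := mapDomainRingHom A φ10 ηi with ha0
  set a2 := mapDomainRingHom A φ12 ηi with ha2
  set b0 := mapDomainRingHom A φ10 h with hb0
  set b1 := mapDomainRingHom A φ11 h with hb1
  set b2 := mapDomainRingHom A φ12 h with hb2
  have E2 : (1 + b0) * a0 = 1 := by
    rw [hb0, ha0, ← map_one (mapDomainRingHom A φ10), ← map_add, ← map_mul, hηi]
  have E3 : (1 + b2) * a2 = 1 := by
    rw [hb2, ha2, ← map_one (mapDomainRingHom A φ12), ← map_add, ← map_mul, hηi]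
  have hcob : cob ηi (1 + h) = a0 * a2 * (1 + b1) := by
    unfold cob
    rw [map_add, map_one]
  have key : ξ * cob ηi (1 + h) - single 0 u =
      single 0 u * a0 * a2 * ((1 + ν) * (1 + b1) - (1 + b0) * (1 + b2)) := by
    rw [hcob]
    linear_combination (a0 * a2 * (1 + b1)) * E1 + (single 0 u * (1 + b2) * a2) * E2 +
      (single 0 u) * E3
  rw [key]
  apply InN.mul_left
  have hsplit : (1 + ν) * (1 + b1) - (1 + b0) * (1 + b2) =
      (ν + b1 - b0 - b2) + (ν * b1 - b0 * b2) := by ring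
  rw [hsplit]
  apply InN.add
  · intro w
    rw [vec2_eta w]
    generalize w 0 = a
    generalize w 1 = b
    rw [coeff_sub, coeff_sub, coeff_add, Finsupp.sub_apply, Finsupp.sub_apply, Finsupp.add_apply,
      hb0, hb1, hb2, coeff_d10, coeff_d11, coeff_d12, hcoeff, hcoeff]
    by_cases ha : a = 0
    · subst ha
      by_cases hb : b = 0
      · subst hb
        simp
      · rw [if_pos rfl, if_neg (Ne.symm hb), if_neg hb]
        simp
    · by_cases hb : b = 0
      · subst hb
        rw [if_neg ha, if_neg ha, if_pos rfl]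
        have e : ν.coeff ![a, 0] + 0 - 0 - ν.coeff ![0, a] =
            (ν.coeff ![a, 0] + ν.coeff ![a, a]) - (ν.coeff ![a, a] + ν.coeff ![0, a]) := by ring
        rw [e]
        exact (J * J).sub_mem (h_iii a ha) (h_ii a ha)
      · by_cases hab : a = b
        · subst hab
          rw [if_neg ha, if_pos rfl]
          have e : ν.coeff ![a, a] + ν.coeff ![0, a] - 0 - 0 =
              ν.coeff ![a, a] + ν.coeff ![0, a] := by ring
          rw [e]
          exact h_ii a ha
        · rw [if_neg ha, if_neg hab, if_neg hb]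
          simpa using h_i a b ha hb hab
  · exact (hνJ.mul (hhJ.mapDomain φ11)).sub ((hhJ.mapDomain φ10).mul (hhJ.mapDomain φ12))

end Groth.Agent.Lib.LaurentH2c38
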