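import Groth.Agent.Lib.LaurentH2c38

/-!
# `H²` of the units of the Laurent cosimplicial ring vanishes
-/

namespace Groth.Agent.Lib.LaurentH2d38

open AddMonoidAlgebra Groth.Agent.Lib.LaurentH2a38 Groth.Agent.Lib.LaurentH2b38
  Groth.Agent.Lib.LaurentH2c38

variable {A : Type*} [CommRing A]

/-- Over a domain, a unit cocycle is a constant. -/
lemma cocycle_domain {D : Type*} [CommRing D] [IsDomain D]
    (ξ ζ : AddMonoidAlgebra D (Fin 2 → ℤ)) (hξ : ξ * ζ = 1) (hcoc : IsCoc ξ) :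
    ∃ c : D, c ≠ 0 ∧ ξ = single 0 c := by
  obtain ⟨m, c, rfl⟩ := exists_single_of_mul_eq_one ξ ζ hξ
  have hc : c ≠ 0 := by
    rintro rfl
    rw [single_zero, zero_mul] at hξ
    exact zero_ne_one hξ
  refine ⟨c, hc, ?_⟩
  unfold IsCoc at hcoc
  simp only [mapDomainRingHom_apply, mapDomain_single, single_mul_single] at hcoc
  have hcc : c * c ≠ 0 := mul_ne_zero hc hc
  have hm := (single_left_inj hcc).mp hcoc
  rw [φ20_apply, φ21_apply, φ22_apply, φ23_apply] at hm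
  have h0 := congrFun hm 0
  have h2 := congrFun hm 2
  simp at h0 h2
  have : m = 0 := by
    ext i
    fin_cases i
    · simpa using h0
    · simpa using h2
  rw [this]

/-- For a unit cocycle over any ring and any prime `𝔭`, the non-constant coefficients lie in `𝔭`
and the constant coefficient does not. -/
lemma cocycle_mod_prime (ξ ζ : AddMonoidAlgebra A (Fin 2 → ℤ)) (hξ : ξ * ζ = 1) (hcoc : IsCoc ξ)
    (𝔭 : Ideal A) [𝔭.IsPrime] :
    (∀ m : Fin 2 → ℤ, m ≠ 0 → ξ.coeff m ∈ 𝔭) ∧ ξ.coeff 0 ∉ 𝔭 := by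
  set π := mapRingHom (Fin 2 → ℤ) (Ideal.Quotient.mk 𝔭) with hπ
  have h1 : π ξ * π ζ = 1 := by rw [← map_mul, hξ, map_one]
  have hcomm : ∀ φ : (Fin 2 → ℤ) →+ (Fin 3 → ℤ),
      mapDomainRingHom (A ⧸ 𝔭) φ (π ξ) =
        mapRingHom (Fin 3 → ℤ) (Ideal.Quotient.mk 𝔭) (mapDomainRingHom A φ ξ) := by
    intro φ
    have := RingHom.congr_fun (mapRingHom_comp_mapDomainRingHom (Ideal.Quotient.mk 𝔭) φ) ξ
    simp only [RingHom.comp_apply] at this
    exact this.symm
  have h2 : IsCoc (π ξ) := by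
    unfold IsCoc at hcoc ⊢
    rw [hcomm, hcomm, hcomm, hcomm, ← map_mul, ← map_mul, hcoc]
  obtain ⟨c, hc, hξc⟩ := cocycle_domain (π ξ) (π ζ) h1 h2
  have hcoeff : ∀ m, Ideal.Quotient.mk 𝔭 (ξ.coeff m) = (single (0 : Fin 2 → ℤ) c).coeff m := by
    intro m
    rw [← hξc, hπ, coeff_mapRingHom]
  constructor
  · intro m hm
    rw [← Ideal.Quotient.eq_zero_iff_mem, hcoeff, coeff_single, Finsupp.single_apply,
      if_neg (Ne.symm hm)]
  · rw [← Ideal.Quotient.eq_zero_iff_mem, hcoeff, coeff_single, Finsupp.single_apply, if_pos rfl]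
    exact hc

/-- The inductive statement: cocycles congruent to a constant unit modulo a nilpotent ideal are
coboundaries. -/
lemma coboundary_of_congr (s : ℕ) : ∀ (J : Ideal A), J ^ (2 ^ s) = ⊥ →
    ∀ (ξ ζ : AddMonoidAlgebra A (Fin 2 → ℤ)), ξ * ζ = 1 → IsCoc ξ →
    ∀ u v : A, u * v = 1 → InN J (ξ - single 0 u) →
    ∃ η ηi : AddMonoidAlgebra A (Fin 1 → ℤ), η * ηi = 1 ∧ ξ = cob η ηi := by
  induction s with
  | zero =>
    intro J hJ ξ ζ hξ hcoc u v huv hmem
    rw [pow_zero, pow_one] at hJ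
    rw [hJ, inN_bot_iff, sub_eq_zero] at hmem
    refine ⟨single 0 u, single 0 v, ?_, ?_⟩
    · rw [single_mul_single, add_zero, huv]
      rfl
    · rw [cob_const u v huv, hmem]
  | succ s ih =>
    intro J hJ ξ ζ hξ hcoc u v huv hmem
    obtain ⟨η₁, ηi₁, h1, hmem'⟩ := devissage J _ hJ ξ hcoc u v huv hmem
    have h1' : ηi₁ * η₁ = 1 := by rw [mul_comm]; exact h1
    have hJ' : (J * J) ^ (2 ^ s) = ⊥ := by
      rw [← pow_two, ← pow_mul, ← pow_succ']
      exact hJ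
    have hunit : ξ * cob ηi₁ η₁ * (ζ * cob η₁ ηi₁) = 1 := by
      have := cob_mul_cob_inv ηi₁ η₁ h1'
      linear_combination (cob ηi₁ η₁ * cob η₁ ηi₁) * hξ + this
    obtain ⟨η₂, ηi₂, h2, hξ'⟩ := ih (J * J) hJ' (ξ * cob ηi₁ η₁) (ζ * cob η₁ ηi₁) hunit
      (hcoc.mul (isCoc_cob ηi₁ η₁ h1')) u v huv hmem'
    refine ⟨η₂ * η₁, ηi₂ * ηi₁, ?_, ?_⟩
    · linear_combination (η₁ * ηi₁) * h2 + h1
    · rw [cob_mul, ← hξ']
      have := cob_mul_cob_inv ηi₁ η₁ h1'
      linear_combination (-ξ) * this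

/-- Ring-level form of the vanishing of `H²`. -/
theorem exists_cob (ξ ζ : AddMonoidAlgebra A (Fin 2 → ℤ)) (hξ : ξ * ζ = 1) (hcoc : IsCoc ξ) :
    ∃ η ηi : AddMonoidAlgebra A (Fin 1 → ℤ), η * ηi = 1 ∧ ξ = cob η ηi := by
  classical
  -- the constant coefficient is a unit
  have hu : IsUnit (ξ.coeff 0) := by
    by_contra hnu
    obtain ⟨I, hI, hmem⟩ := exists_max_ideal_of_mem_nonunits hnu
    have : I.IsPrime := hI.isPrime
    exact (cocycle_mod_prime ξ ζ hξ hcoc I).2 hmem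
  obtain ⟨u', hu'⟩ := hu
  set u := ξ.coeff 0 with hu0
  have huv : u * (u'⁻¹ : Aˣ) = 1 := by
    rw [← hu']
    exact u'.mul_inv
  -- the other coefficients generate a nilpotent ideal
  set J : Ideal A := Ideal.span (((ξ.coeff.support.erase 0).image ξ.coeff : Finset A) : Set A)
    with hJdef
  have hJnil : J ≤ nilradical A := by
    rw [hJdef, Ideal.span_le]
    intro x hx
    rw [Finset.mem_coe, Finset.mem_image] at hx
    obtain ⟨m, hm, rfl⟩ := hx
    have hm0 : m ≠ 0 := (Finset.mem_erase.mp hm).1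
    rw [SetLike.mem_coe, mem_nilradical, nilpotent_iff_mem_prime]
    intro 𝔭 h𝔭
    exact (cocycle_mod_prime ξ ζ hξ hcoc 𝔭).1 m hm0
  have hJfg : J.FG := ⟨_, rfl⟩
  obtain ⟨n, hn⟩ := Ideal.exists_pow_le_of_le_radical_of_fg (J := ⊥) hJnil hJfg
  have hJn : J ^ (2 ^ n) = ⊥ := by
    rw [eq_bot_iff]
    exact (Ideal.pow_le_pow_right (Nat.lt_two_pow_self).le).trans hn
  have hmem : InN J (ξ - single 0 u) := by
    intro m
    rw [coeff_sub, Finsupp.sub_apply, coeff_single, Finsupp.single_apply]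
    by_cases hm : 0 = m
    · subst hm
      rw [if_pos rfl, sub_self]
      exact J.zero_mem
    · rw [if_neg hm, sub_zero]
      by_cases hs : m ∈ ξ.coeff.support
      · apply Ideal.subset_span
        rw [Finset.mem_coe, Finset.mem_image]
        exact ⟨m, Finset.mem_erase.mpr ⟨Ne.symm hm, hs⟩, rfl⟩
      · rw [Finsupp.notMem_support_iff.mp hs]
        exact J.zero_mem
  exact coboundary_of_congr n J hJn ξ ζ hξ hcoc u _ huv hmem

section Bridge

variable {S T : Type*} [CommRing S] [CommRing T]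

lemma units_bridge (x : Sˣ) (f0 f1 f2 f3 : S →+* T)
    (h : Units.map f0.toMonoidHom x * (Units.map f1.toMonoidHom x)⁻¹ *
      Units.map f2.toMonoidHom x * (Units.map f3.toMonoidHom x)⁻¹ = 1) :
    f0 (x : S) * f2 (x : S) = f1 (x : S) * f3 (x : S) := by
  have h1 : Units.map f0.toMonoidHom x * Units.map f2.toMonoidHom x =
      Units.map f1.toMonoidHom x * Units.map f3.toMonoidHom x := by
    have h2 := mul_inv_eq_one.mp h
    rw [← h2, mul_comm (Units.map f0.toMonoidHom x) (Units.map f1.toMonoidHom x)⁻¹, mul_assoc,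
      mul_inv_cancel_left]
  have h3 := congrArg Units.val h1
  simpa using h3

lemma units_bridge2 (η ηi : S) (h : η * ηi = 1) (g0 g1 g2 : S →+* T) (x : Tˣ)
    (hx : (x : T) = g0 η * g2 η * g1 ηi) :
    ∃ η' : Sˣ, x = Units.map g0.toMonoidHom η' * (Units.map g1.toMonoidHom η')⁻¹ *
      Units.map g2.toMonoidHom η' := by
  refine ⟨⟨η, ηi, h, by rw [mul_comm]; exact h⟩, ?_⟩
  apply Units.ext
  rw [← map_inv]
  simp only [Units.val_mul, Units.coe_map, RingHom.toMonoidHom_eq_coe, MonoidHom.coe_coe]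
  rw [hx]
  change g0 η * g2 η * g1 ηi = g0 η * g1 ηi * g2 η
  ring

end Bridge

end Groth.Agent.Lib.LaurentH2d38
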