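import Mathlib

/-!
# Lazard's theorem (helper70)

`Obj R M` (small category of pairs `(n, x : R^n → M)`), `D` (diagram of finite free modules), `cc` (tautological cocone),
`isFiltered` (for flat `M`, by the equational criterion), `desc_bijective`, `colimitIso` (`colimit D ≅ M` for flat `M`),
`flat_colimit` (a directed colimit of flat modules in `ModuleCat` is flat), `exists_directed_of_flat`.
-/

set_option autoImplicit false

namespace Groth.Agent.Lib.Lazard70
open CategoryTheory CategoryTheory.Limits

universe u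
variable (R : Type u) [CommRing R] (M : Type u) [AddCommGroup M] [Module R M]

/-- Objects: a finite free module `R^n` with a linear map to `M`. -/
structure Obj where
  n : ℕ
  x : (Fin n →₀ R) →ₗ[R] M

variable {R M}

noncomputable instance : Category.{u} (Obj R M) where
  Hom A B := {a : (Fin A.n →₀ R) →ₗ[R] (Fin B.n →₀ R) // B.x ∘ₗ a = A.x}
  id A := ⟨LinearMap.id, LinearMap.comp_id _⟩
  comp f g := ⟨g.1 ∘ₗ f.1, by rw [← LinearMap.comp_assoc, g.2, f.2]⟩

theorem hom_ext {A B : Obj R M} (f g : A ⟶ B) (h : f.1 = g.1) : f = g := Subtype.ext h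

@[simp] theorem comp_val {A B C : Obj R M} (f : A ⟶ B) (g : B ⟶ C) : (f ≫ g).1 = g.1 ∘ₗ f.1 := rfl
@[simp] theorem id_val (A : Obj R M) : (𝟙 A : A ⟶ A).1 = LinearMap.id := rfl

variable (R M)

/-- The diagram of finite free modules. -/
noncomputable def D : Obj R M ⥤ ModuleCat.{u} R where
  obj A := ModuleCat.of R (Fin A.n →₀ R)
  map f := ModuleCat.ofHom f.1
  map_id _ := rfl
  map_comp _ _ := rfl

/-- The tautological cocone with point `M`. -/
noncomputable def cc : Cocone (D R M) where
  pt := ModuleCat.of R M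
  ι :=
    { app := fun A => ModuleCat.ofHom A.x
      naturality := fun A B f => by
        ext v
        simp only [Functor.const_obj_obj, Functor.const_obj_map, Category.comp_id]
        exact LinearMap.congr_fun f.2 v }

instance : Nonempty (Obj R M) := ⟨⟨0, 0⟩⟩

instance isFiltered [Module.Flat R M] : IsFiltered (Obj R M) where
  cocone_objs A B := by
    obtain ⟨k, a, y, hy, -⟩ := Module.Flat.exists_factorization_of_apply_eq_zero_of_free
      (M := M) (N := (Fin A.n →₀ R) × (Fin B.n →₀ R)) (f := 0) (x := A.x.coprod B.x) (map_zero _)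
    refine ⟨⟨k, y⟩, ⟨a ∘ₗ LinearMap.inl R _ _, ?_⟩, ⟨a ∘ₗ LinearMap.inr R _ _, ?_⟩, trivial⟩
    · rw [← LinearMap.comp_assoc, ← hy, LinearMap.coprod_inl]
    · rw [← LinearMap.comp_assoc, ← hy, LinearMap.coprod_inr]
  cocone_maps {A B} f g := by
    have h0 : B.x ∘ₗ (f.1 - g.1) = 0 := by
      rw [LinearMap.comp_sub, f.2, g.2, sub_self]
    obtain ⟨k, a, y, hy, ha⟩ := Module.Flat.exists_factorization_of_comp_eq_zero_of_free h0
    refine ⟨⟨k, y⟩, ⟨a, hy.symm⟩, ?_⟩
    apply hom_ext
    rw [comp_val, comp_val]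
    rw [LinearMap.comp_sub] at ha
    exact sub_eq_zero.1 ha

end Groth.Agent.Lib.Lazard70

namespace Groth.Agent.Lib.Lazard70
open CategoryTheory CategoryTheory.Limits

universe u
variable (R : Type u) [CommRing R] (M : Type u) [AddCommGroup M] [Module R M]

theorem desc_ι_apply (A : Obj R M) (v : Fin A.n →₀ R) :
    (colimit.desc (D R M) (cc R M)).hom ((colimit.ι (D R M) A).hom v) = A.x v := by
  have h := colimit.ι_desc (cc R M) A
  have h2 := congrArg (fun f => f.hom v) h
  exact h2

theorem ι_map_apply {A B : Obj R M} (g : A ⟶ B) (v : Fin A.n →₀ R) :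
    (colimit.ι (D R M) B).hom (g.1 v) = (colimit.ι (D R M) A).hom v := by
  have h := colimit.w (D R M) g
  have h2 := congrArg (fun f => f.hom v) h
  exact h2

theorem desc_bijective [Module.Flat R M] :
    Function.Bijective (colimit.desc (D R M) (cc R M)).hom := by
  constructor
  · rw [injective_iff_map_eq_zero]
    intro z hz
    obtain ⟨A, v, rfl⟩ := Concrete.colimit_exists_rep (D R M) z
    have h1 : A.x v = 0 := by
      rw [← desc_ι_apply]
      exact hz
    obtain ⟨k, a, y, hy, ha⟩ := Module.Flat.exists_factorization_of_apply_eq_zero_of_free h1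
    let C : Obj R M := ⟨k, y⟩
    let g : A ⟶ C := ⟨a, hy.symm⟩
    have h2 := ι_map_apply R M g v
    change (colimit.ι (D R M) A).hom v = 0
    rw [← h2]
    change (colimit.ι (D R M) C).hom (a v) = 0
    rw [ha]
    exact map_zero (colimit.ι (D R M) C).hom
  · intro m
    let A : Obj R M := ⟨1, Finsupp.linearCombination R (fun _ : Fin 1 => m)⟩
    refine ⟨(colimit.ι (D R M) A).hom (Finsupp.single 0 1), ?_⟩
    rw [desc_ι_apply]
    simp [A]

/-- `M` is the colimit of the diagram `D`. -/
noncomputable def colimitIso [Module.Flat R M] : colimit (D R M) ≅ ModuleCat.of R M :=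
  have h : IsIso (colimit.desc (D R M) (cc R M)) :=
    (ConcreteCategory.isIso_iff_bijective _).2 (desc_bijective R M)
  @asIso _ _ _ _ (colimit.desc (D R M) (cc R M)) h

end Groth.Agent.Lib.Lazard70

namespace Groth.Agent.Lib.Lazard70
open CategoryTheory CategoryTheory.Limits

universe u
variable (R : Type u) [CommRing R]

theorem flat_colimit {J : Type u} [Preorder J] [IsDirected J (fun a b => a ≤ b)] [Nonempty J]
    (F : J ⥤ ModuleCat.{u} R) (hF : ∀ j, Module.Flat R (F.obj j)) :
    Module.Flat R (colimit F : ModuleCat.{u} R) := by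
  classical
  rw [Module.Flat.iff_forall_exists_factorization]
  intro l f x hx
  have hrep : ∀ i : Fin l, ∃ (j : J) (v : F.obj j),
      (colimit.ι F j).hom v = x (Finsupp.single i 1) :=
    fun i => Concrete.colimit_exists_rep F _
  choose j v hv using hrep
  obtain ⟨j0, hj0⟩ := Finset.exists_le (Finset.univ.image j)
  have hle : ∀ i, j i ≤ j0 := fun i => hj0 _ (Finset.mem_image_of_mem _ (Finset.mem_univ i))
  let xt : (Fin l →₀ R) →ₗ[R] F.obj j0 :=
    Finsupp.linearCombination R (fun i => (F.map (homOfLE (hle i))).hom (v i))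
  have hw : ∀ {a b : J} (g : a ⟶ b) (z : F.obj a),
      (colimit.ι F b).hom ((F.map g).hom z) = (colimit.ι F a).hom z := by
    intro a b g z
    have h := colimit.w F g
    exact congrArg (fun f => f.hom z) h
  have hxt : (colimit.ι F j0).hom ∘ₗ xt = x := by
    apply Finsupp.lhom_ext'
    intro i
    ext
    simp only [LinearMap.coe_comp, Function.comp_apply, Finsupp.lsingle_apply, xt,
      Finsupp.linearCombination_single, one_smul]
    rw [hw, hv]
  have h0 : (colimit.ι F j0).hom (xt f) = 0 := by
    rw [← LinearMap.comp_apply, hxt, hx]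
  obtain ⟨k, g1, g2, hk⟩ := Concrete.colimit_exists_of_rep_eq F (xt f) (0 : F.obj j0)
    (by rw [h0]; exact (map_zero (colimit.ι F j0).hom).symm)
  have h1 : ((F.map g1).hom ∘ₗ xt) f = 0 := by
    change (F.map g1).hom (xt f) = 0
    have : (F.map g1).hom (xt f) = (F.map g2).hom 0 := hk
    rw [this, map_zero]
  obtain ⟨n, a, y, hy, ha⟩ := Module.Flat.iff_forall_exists_factorization.1 (hF k) h1
  refine ⟨n, a, (colimit.ι F k).hom ∘ₗ y, ?_, ha⟩
  rw [LinearMap.comp_assoc, ← hy, ← hxt]
  ext z
  simp only [LinearMap.coe_comp, Function.comp_apply]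
  rw [hw]

end Groth.Agent.Lib.Lazard70

namespace Groth.Agent.Lib.Lazard70
open CategoryTheory CategoryTheory.Limits

universe u
variable (R : Type u) [CommRing R] (M : Type u) [AddCommGroup M] [Module R M]

theorem exists_directed_of_flat [Module.Flat R M] :
    ∃ (J : Type u) (_ : Preorder J) (_ : IsDirected J (fun a b => a ≤ b)) (_ : Nonempty J)
      (F : J ⥤ ModuleCat.{u} R), (∀ j, Module.Finite R (F.obj j) ∧ Module.Free R (F.obj j)) ∧
      Nonempty (Limits.colimit F ≅ ModuleCat.of R M) := by
  obtain ⟨α, hα, hdir, hne, F, hF⟩ := IsFiltered.exists_directed (Obj R M)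
  refine ⟨α, hα.toPreorder, hdir, hne, F ⋙ D R M, ?_, ⟨?_⟩⟩
  · intro j
    exact ⟨inferInstanceAs (Module.Finite R (Fin _ →₀ R)),
      inferInstanceAs (Module.Free R (Fin _ →₀ R))⟩
  · exact (Functor.Final.colimitIso F (D R M)) ≪≫ colimitIso R M

end Groth.Agent.Lib.Lazard70
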