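import Mathlib

set_option autoImplicit false

/-!
# Lazard's symmetric 2-cocycle lemma in characteristic `p`

For a commutative ring `R` of prime characteristic `p`, a polynomial `F(X,Y)` is a symmetric additive
2-cocycle iff `F = G(X+Y) - G(X) - G(Y) + Σ r_i S(X^(p^i), Y^(p^i))`.
-/

namespace Groth.Agent.Lib.LazardCharP

open Finset MvPolynomial

universe u

section Defs

variable {R : Type u} [CommRing R]

/-- the cocycle expression `F(X,Y+Z) + F(Y,Z) - F(X+Y,Z) - F(X,Y)` -/
noncomputable def coc (F : MvPolynomial (Fin 2) R) : MvPolynomial (Fin 3) R :=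
  aeval ![X 0, X 1 + X 2] F + aeval ![X 1, X 2] F - aeval ![X 0 + X 1, X 2] F - aeval ![X 0, X 1] F

/-- `F(Y,X)` -/
noncomputable def swap (F : MvPolynomial (Fin 2) R) : MvPolynomial (Fin 2) R :=
  aeval ![X 1, X 0] F

/-- the coboundary `G(X+Y) - G(X) - G(Y)` -/
noncomputable def dl (G : Polynomial R) : MvPolynomial (Fin 2) R :=
  Polynomial.aeval (X 0 + X 1 : MvPolynomial (Fin 2) R) G - Polynomial.aeval (X 0 : MvPolynomial (Fin 2) R) G
    - Polynomial.aeval (X 1 : MvPolynomial (Fin 2) R) G

/-- `S(X,Y) = Σ_{0<j<p} (C(p,j)/p) X^j Y^(p-j)` -/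
noncomputable def Spoly (R : Type u) [CommRing R] (p : ℕ) : MvPolynomial (Fin 2) R :=
  ∑ j ∈ Finset.Ioo 0 p, C ((p.choose j / p : ℕ) : R) * X 0 ^ j * X 1 ^ (p - j)

theorem coc_add (F G : MvPolynomial (Fin 2) R) : coc (F + G) = coc F + coc G := by
  simp only [coc, map_add]; ring

theorem coc_sub (F G : MvPolynomial (Fin 2) R) : coc (F - G) = coc F - coc G := by
  simp only [coc, map_sub]; ring

theorem coc_C_mul (c : R) (F : MvPolynomial (Fin 2) R) : coc (C c * F) = C c * coc F := by
  simp only [coc, map_mul, aeval_C, algebraMap_eq]; ring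

theorem coc_zero : coc (0 : MvPolynomial (Fin 2) R) = 0 := by
  simp [coc]

theorem coc_sum {ι : Type*} (s : Finset ι) (f : ι → MvPolynomial (Fin 2) R) :
    coc (∑ i ∈ s, f i) = ∑ i ∈ s, coc (f i) := by
  classical
  induction s using Finset.induction_on with
  | empty => simp [coc_zero]
  | insert a s ha ih => rw [Finset.sum_insert ha, Finset.sum_insert ha, coc_add, ih]

theorem swap_add (F G : MvPolynomial (Fin 2) R) : swap (F + G) = swap F + swap G := by
  simp only [swap, map_add]

theorem swap_sub (F G : MvPolynomial (Fin 2) R) : swap (F - G) = swap F - swap G := by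
  simp only [swap, map_sub]

theorem swap_C_mul (c : R) (F : MvPolynomial (Fin 2) R) : swap (C c * F) = C c * swap F := by
  simp only [swap, map_mul, aeval_C, algebraMap_eq]

theorem swap_sum {ι : Type*} (s : Finset ι) (f : ι → MvPolynomial (Fin 2) R) :
    swap (∑ i ∈ s, f i) = ∑ i ∈ s, swap (f i) := by
  simp only [swap, map_sum]

theorem aeval_polyAeval {n m : ℕ} (g : Fin n → MvPolynomial (Fin m) R) (x : MvPolynomial (Fin n) R)
    (G : Polynomial R) :
    aeval g (Polynomial.aeval x G) = Polynomial.aeval (aeval g x) G :=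
  (Polynomial.aeval_algHom_apply (aeval g) x G).symm

theorem coc_dl (G : Polynomial R) : coc (dl G) = 0 := by
  simp only [coc, dl, map_sub, aeval_polyAeval, map_add, aeval_X, Matrix.cons_val_zero,
    Matrix.cons_val_one]
  rw [add_assoc (X 0 : MvPolynomial (Fin 3) R) (X 1) (X 2)]
  ring

theorem swap_dl (G : Polynomial R) : swap (dl G) = dl G := by
  simp only [swap, dl, map_sub, aeval_polyAeval, map_add, aeval_X, Matrix.cons_val_zero,
    Matrix.cons_val_one]
  rw [add_comm (X 1 : MvPolynomial (Fin 2) R) (X 0)]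
  ring

theorem dl_add (G H : Polynomial R) : dl (G + H) = dl G + dl H := by
  simp only [dl, map_add]; ring

theorem map_aeval' {S : Type*} [CommRing S] (f : R →+* S) {n m : ℕ}
    (g : Fin n → MvPolynomial (Fin m) R) (F : MvPolynomial (Fin n) R) :
    map f (aeval g F) = aeval (fun i => map f (g i)) (map f F) :=
  map_bind₁ f g F

theorem map_coc {S : Type*} [CommRing S] (f : R →+* S) (F : MvPolynomial (Fin 2) R) :
    map f (coc F) = coc (map f F) := by
  simp only [coc, map_sub, map_add, map_aeval']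
  congr 2
  · congr 1
    · congr 2; funext i; fin_cases i <;> simp
    · congr 2; funext i; fin_cases i <;> simp
  · congr 2; funext i; fin_cases i <;> simp
  · congr 2; funext i; fin_cases i <;> simp

theorem map_swap {S : Type*} [CommRing S] (f : R →+* S) (F : MvPolynomial (Fin 2) R) :
    map f (swap F) = swap (map f F) := by
  simp only [swap, map_aeval']
  congr 2; funext i; fin_cases i <;> simp

theorem map_Spoly {S : Type*} [CommRing S] (f : R →+* S) (p : ℕ) :
    map f (Spoly R p) = Spoly S p := by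
  simp [Spoly, map_sum]

theorem dl_X_pow (n : ℕ) :
    dl (Polynomial.X ^ n : Polynomial R) = (X 0 + X 1) ^ n - X 0 ^ n - X 1 ^ n := by
  simp [dl]

theorem natCast_mul_Spoly_int (p : ℕ) [hp : Fact p.Prime] :
    C (p : ℤ) * Spoly ℤ p = (X 0 + X 1) ^ p - X 0 ^ p - X 1 ^ p := by
  have hp1 : 1 ≤ p := hp.out.one_lt.le
  rw [add_pow, Finset.range_eq_Ico, Finset.sum_Ico_succ_top (Nat.zero_le p),
    Finset.sum_eq_sum_Ico_succ_bot hp.out.pos]
  simp only [pow_zero, Nat.sub_zero, Nat.choose_zero_right, Nat.cast_one, mul_one, one_mul,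
    Nat.sub_self, Nat.choose_self, zero_add]
  have hIco : Finset.Ico 1 p = Finset.Ioo 0 p := by
    ext x; simp [Finset.mem_Ico, Finset.mem_Ioo]; omega
  rw [hIco, Spoly, Finset.mul_sum]
  have : ∀ j ∈ Finset.Ioo 0 p,
      C (p : ℤ) * (C ((p.choose j / p : ℕ) : ℤ) * X 0 ^ j * X 1 ^ (p - j)) =
        (X 0 : MvPolynomial (Fin 2) ℤ) ^ j * X 1 ^ (p - j) * (p.choose j : MvPolynomial (Fin 2) ℤ) := by
    intro j hj
    rw [Finset.mem_Ioo] at hj
    have hdvd : p ∣ p.choose j := hp.out.dvd_choose_self hj.1.ne' hj.2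
    have : (p.choose j : MvPolynomial (Fin 2) ℤ) = C (p : ℤ) * C ((p.choose j / p : ℕ) : ℤ) := by
      rw [← C_mul, ← Nat.cast_mul, Nat.mul_div_cancel' hdvd]
      simp
    rw [this]
    ring
  rw [Finset.sum_congr rfl this]
  ring

theorem coc_Spoly_int (p : ℕ) [hp : Fact p.Prime] : coc (Spoly ℤ p) = 0 := by
  have h1 : coc (C (p : ℤ) * Spoly ℤ p) = 0 := by
    rw [natCast_mul_Spoly_int, ← dl_X_pow, coc_dl]
  rw [coc_C_mul] at h1
  rcases mul_eq_zero.mp h1 with h | h
  · exfalso
    have := C_injective (Fin 3) ℤ (h.trans C_0.symm)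
    exact hp.out.ne_zero (by exact_mod_cast this)
  · exact h

theorem swap_Spoly_int (p : ℕ) [hp : Fact p.Prime] : swap (Spoly ℤ p) = Spoly ℤ p := by
  have h1 : swap (C (p : ℤ) * Spoly ℤ p) = C (p : ℤ) * Spoly ℤ p := by
    rw [natCast_mul_Spoly_int, ← dl_X_pow, swap_dl]
  rw [swap_C_mul] at h1
  have hne : (C (p : ℤ) : MvPolynomial (Fin 2) ℤ) ≠ 0 := by
    intro h
    have := C_injective (Fin 2) ℤ (h.trans C_0.symm)
    exact hp.out.ne_zero (by exact_mod_cast this)
  exact mul_left_cancel₀ hne h1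

theorem coc_Spoly (p : ℕ) [Fact p.Prime] : coc (Spoly R p) = 0 := by
  rw [← map_Spoly (Int.castRingHom R), ← map_coc, coc_Spoly_int, map_zero]

theorem swap_Spoly (p : ℕ) [Fact p.Prime] : swap (Spoly R p) = Spoly R p := by
  rw [← map_Spoly (Int.castRingHom R), ← map_swap, swap_Spoly_int]

end Defs

section Coeff

variable {R : Type u} [CommRing R]

/-- exponent vector of `X^i Y^j` -/
noncomputable def mon2 (i j : ℕ) : Fin 2 →₀ ℕ := Finsupp.single 0 i + Finsupp.single 1 j

/-- exponent vector of `X^i Y^j Z^k` -/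
noncomputable def mon3 (i j k : ℕ) : Fin 3 →₀ ℕ :=
  Finsupp.single 0 i + Finsupp.single 1 j + Finsupp.single 2 k

@[simp] theorem mon2_zero (i j : ℕ) : mon2 i j 0 = i := by simp [mon2]
@[simp] theorem mon2_one (i j : ℕ) : mon2 i j 1 = j := by simp [mon2]
@[simp] theorem mon3_zero (i j k : ℕ) : mon3 i j k 0 = i := by simp [mon3]
@[simp] theorem mon3_one (i j k : ℕ) : mon3 i j k 1 = j := by simp [mon3]
@[simp] theorem mon3_two (i j k : ℕ) : mon3 i j k 2 = k := by simp [mon3]

theorem eq_mon2 (e : Fin 2 →₀ ℕ) : e = mon2 (e 0) (e 1) := by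
  ext i; fin_cases i <;> simp

theorem eq_mon3 (e : Fin 3 →₀ ℕ) : e = mon3 (e 0) (e 1) (e 2) := by
  ext i; fin_cases i <;> simp

theorem mon2_inj {i j i' j' : ℕ} : mon2 i j = mon2 i' j' ↔ i = i' ∧ j = j' := by
  constructor
  · intro h
    have h0 := DFunLike.congr_fun h 0
    have h1 := DFunLike.congr_fun h 1
    simp at h0 h1
    exact ⟨h0, h1⟩
  · rintro ⟨rfl, rfl⟩; rfl

theorem mon3_inj {i j k i' j' k' : ℕ} : mon3 i j k = mon3 i' j' k' ↔ i = i' ∧ j = j' ∧ k = k' := by
  constructor
  · intro h
    have h0 := DFunLike.congr_fun h 0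
    have h1 := DFunLike.congr_fun h 1
    have h2 := DFunLike.congr_fun h 2
    simp at h0 h1 h2
    exact ⟨h0, h1, h2⟩
  · rintro ⟨rfl, rfl, rfl⟩; rfl

theorem eq_mon2_iff (u : Fin 2 →₀ ℕ) (i j : ℕ) : u = mon2 i j ↔ u 0 = i ∧ u 1 = j := by
  constructor
  · rintro rfl; simp
  · rintro ⟨rfl, rfl⟩; exact eq_mon2 u

theorem monomial_mon2 (a b : ℕ) (c : R) :
    monomial (mon2 a b) c = C c * (X 0 ^ a * X 1 ^ b : MvPolynomial (Fin 2) R) := by
  rw [X_pow_eq_monomial, X_pow_eq_monomial, monomial_mul, C_mul_monomial]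
  simp [mon2]

theorem monomial_mon3 (a b d : ℕ) (c : R) :
    monomial (mon3 a b d) c = C c * (X 0 ^ a * X 1 ^ b * X 2 ^ d : MvPolynomial (Fin 3) R) := by
  rw [X_pow_eq_monomial, X_pow_eq_monomial, X_pow_eq_monomial, monomial_mul, monomial_mul,
    C_mul_monomial]
  simp [mon3]

theorem aeval_monomial_fin2 {A : Type*} [CommRing A] [Algebra R A] (g : Fin 2 → A)
    (u : Fin 2 →₀ ℕ) (c : R) :
    aeval g (monomial u c) = algebraMap R A c * (g 0 ^ u 0 * g 1 ^ u 1) := by
  rw [aeval_monomial, Finsupp.prod_fintype _ _ (by simp), Fin.prod_univ_two]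

/-- coefficient of `X^i Y^j Z^k` in `X^a (Y+Z)^b` -/
theorem coeff_X_pow_mul_add_pow (a b i j k : ℕ) :
    coeff (mon3 i j k) ((X 0 : MvPolynomial (Fin 3) R) ^ a * (X 1 + X 2) ^ b) =
      if a = i ∧ b = j + k then ((b.choose j : ℕ) : R) else 0 := by
  classical
  rw [add_pow, Finset.mul_sum, coeff_sum]
  have hterm : ∀ m ∈ Finset.range (b + 1),
      coeff (mon3 i j k) ((X 0 : MvPolynomial (Fin 3) R) ^ a *
        (X 1 ^ m * X 2 ^ (b - m) * (b.choose m : MvPolynomial (Fin 3) R))) =
      if a = i ∧ m = j ∧ b - m = k then ((b.choose m : ℕ) : R) else 0 := by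
    intro m _
    have : (X 0 : MvPolynomial (Fin 3) R) ^ a *
        (X 1 ^ m * X 2 ^ (b - m) * (b.choose m : MvPolynomial (Fin 3) R)) =
        monomial (mon3 a m (b - m)) ((b.choose m : ℕ) : R) := by
      rw [monomial_mon3]
      simp only [map_natCast]
      ring
    rw [this, coeff_monomial]
    simp only [mon3_inj]
  rw [Finset.sum_congr rfl hterm]
  by_cases h : a = i ∧ b = j + k
  · rw [if_pos h, Finset.sum_eq_single j]
    · rw [if_pos ⟨h.1, rfl, by omega⟩]
    · intro m _ hm
      rw [if_neg (fun h' => hm h'.2.1)]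
    · intro hj
      exact absurd (Finset.mem_range.mpr (by omega)) hj
  · rw [if_neg h]
    apply Finset.sum_eq_zero
    intro m hm
    rw [Finset.mem_range] at hm
    rw [if_neg]
    rintro ⟨h1, h2, h3⟩
    exact h ⟨h1, by omega⟩

/-- coefficient of `X^i Y^j Z^k` in `(X+Y)^a Z^b` -/
theorem coeff_add_pow_mul_X_pow (a b i j k : ℕ) :
    coeff (mon3 i j k) (((X 0 : MvPolynomial (Fin 3) R) + X 1) ^ a * X 2 ^ b) =
      if a = i + j ∧ b = k then ((a.choose i : ℕ) : R) else 0 := by
  classical
  rw [add_pow, Finset.sum_mul, coeff_sum]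
  have hterm : ∀ m ∈ Finset.range (a + 1),
      coeff (mon3 i j k) ((X 0 : MvPolynomial (Fin 3) R) ^ m * X 1 ^ (a - m) *
        (a.choose m : MvPolynomial (Fin 3) R) * X 2 ^ b) =
      if m = i ∧ a - m = j ∧ b = k then ((a.choose m : ℕ) : R) else 0 := by
    intro m _
    have : (X 0 : MvPolynomial (Fin 3) R) ^ m * X 1 ^ (a - m) *
        (a.choose m : MvPolynomial (Fin 3) R) * X 2 ^ b =
        monomial (mon3 m (a - m) b) ((a.choose m : ℕ) : R) := by
      rw [monomial_mon3]
      simp only [map_natCast]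
      ring
    rw [this, coeff_monomial]
    simp only [mon3_inj]
  rw [Finset.sum_congr rfl hterm]
  by_cases h : a = i + j ∧ b = k
  · rw [if_pos h, Finset.sum_eq_single i]
    · rw [if_pos ⟨rfl, by omega, h.2⟩]
    · intro m _ hm
      rw [if_neg (fun h' => hm h'.1)]
    · intro hj
      exact absurd (Finset.mem_range.mpr (by omega)) hj
  · rw [if_neg h]
    apply Finset.sum_eq_zero
    intro m hm
    rw [Finset.mem_range] at hm
    rw [if_neg]
    rintro ⟨h1, h2, h3⟩
    exact h ⟨by omega, h3⟩

theorem coeff_c1 (F : MvPolynomial (Fin 2) R) (i j k : ℕ) :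
    coeff (mon3 i j k) (aeval ![X 0, X 1 + X 2] F) =
      coeff (mon2 i (j + k)) F * (((j + k).choose j : ℕ) : R) := by
  classical
  induction F using MvPolynomial.induction_on' with
  | monomial u c =>
    rw [aeval_monomial_fin2, algebraMap_eq, coeff_C_mul]
    simp only [Matrix.cons_val_zero, Matrix.cons_val_one]
    rw [coeff_X_pow_mul_add_pow, coeff_monomial]
    simp only [eq_mon2_iff]
    by_cases h : u 0 = i ∧ u 1 = j + k
    · rw [if_pos h, if_pos h, h.2]
    · rw [if_neg h, if_neg h]; simp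
  | add F G hF hG => rw [map_add, coeff_add, coeff_add, hF, hG, add_mul]

theorem coeff_c3 (F : MvPolynomial (Fin 2) R) (i j k : ℕ) :
    coeff (mon3 i j k) (aeval ![X 0 + X 1, X 2] F) =
      coeff (mon2 (i + j) k) F * (((i + j).choose i : ℕ) : R) := by
  classical
  induction F using MvPolynomial.induction_on' with
  | monomial u c =>
    rw [aeval_monomial_fin2, algebraMap_eq, coeff_C_mul]
    simp only [Matrix.cons_val_zero, Matrix.cons_val_one]
    rw [coeff_add_pow_mul_X_pow, coeff_monomial]
    simp only [eq_mon2_iff]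
    by_cases h : u 0 = i + j ∧ u 1 = k
    · rw [if_pos h, if_pos h, h.1]
    · rw [if_neg h, if_neg h]; simp
  | add F G hF hG => rw [map_add, coeff_add, coeff_add, hF, hG, add_mul]

theorem coeff_c2 (F : MvPolynomial (Fin 2) R) (i j k : ℕ) :
    coeff (mon3 i j k) (aeval ![X 1, X 2] F) = if i = 0 then coeff (mon2 j k) F else 0 := by
  classical
  induction F using MvPolynomial.induction_on' with
  | monomial u c =>
    rw [aeval_monomial_fin2, algebraMap_eq]
    simp only [Matrix.cons_val_zero, Matrix.cons_val_one]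
    have : C c * ((X 1 : MvPolynomial (Fin 3) R) ^ u 0 * X 2 ^ u 1) = monomial (mon3 0 (u 0) (u 1)) c := by
      rw [monomial_mon3]; simp
    rw [this, coeff_monomial, coeff_monomial]
    simp only [mon3_inj, eq_mon2_iff]
    by_cases h0 : i = 0
    · subst h0; simp
    · rw [if_neg h0, if_neg (fun h => h0 h.1.symm)]
  | add F G hF hG =>
    rw [map_add, coeff_add, coeff_add, hF, hG]
    split_ifs <;> simp

theorem coeff_c4 (F : MvPolynomial (Fin 2) R) (i j k : ℕ) :
    coeff (mon3 i j k) (aeval ![X 0, X 1] F) = if k = 0 then coeff (mon2 i j) F else 0 := by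
  classical
  induction F using MvPolynomial.induction_on' with
  | monomial u c =>
    rw [aeval_monomial_fin2, algebraMap_eq]
    simp only [Matrix.cons_val_zero, Matrix.cons_val_one]
    have : C c * ((X 0 : MvPolynomial (Fin 3) R) ^ u 0 * X 1 ^ u 1) = monomial (mon3 (u 0) (u 1) 0) c := by
      rw [monomial_mon3]; simp
    rw [this, coeff_monomial, coeff_monomial]
    simp only [mon3_inj, eq_mon2_iff]
    by_cases h0 : k = 0
    · subst h0; simp
    · rw [if_neg h0, if_neg (fun h => h0 h.2.2.symm)]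
  | add F G hF hG =>
    rw [map_add, coeff_add, coeff_add, hF, hG]
    split_ifs <;> simp

theorem coeff_swap (F : MvPolynomial (Fin 2) R) (i j : ℕ) :
    coeff (mon2 i j) (swap F) = coeff (mon2 j i) F := by
  classical
  induction F using MvPolynomial.induction_on' with
  | monomial u c =>
    rw [swap, aeval_monomial_fin2, algebraMap_eq]
    simp only [Matrix.cons_val_zero, Matrix.cons_val_one]
    have : C c * ((X 1 : MvPolynomial (Fin 2) R) ^ u 0 * X 0 ^ u 1) = monomial (mon2 (u 1) (u 0)) c := by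
      rw [monomial_mon2]; ring
    rw [this, coeff_monomial, coeff_monomial]
    simp only [eq_mon2_iff, mon2_zero, mon2_one]
    by_cases h : u 1 = i ∧ u 0 = j
    · rw [if_pos h, if_pos ⟨h.2, h.1⟩]
    · rw [if_neg h, if_neg (fun h' => h ⟨h'.2, h'.1⟩)]
  | add F G hF hG =>
    rw [swap] at hF hG ⊢
    rw [map_add, coeff_add, coeff_add, hF, hG]

/-- the coefficient form of the cocycle identity -/
theorem coeff_coc (F : MvPolynomial (Fin 2) R) (i j k : ℕ) :
    coeff (mon3 i j k) (coc F) =
      coeff (mon2 i (j + k)) F * (((j + k).choose j : ℕ) : R)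
        + (if i = 0 then coeff (mon2 j k) F else 0)
        - coeff (mon2 (i + j) k) F * (((i + j).choose i : ℕ) : R)
        - (if k = 0 then coeff (mon2 i j) F else 0) := by
  rw [coc, coeff_sub, coeff_sub, coeff_add, coeff_c1, coeff_c2, coeff_c3, coeff_c4]

/-- coefficient of `X^i Y^j` in `(X+Y)^n` -/
theorem coeff_add_pow2 (n i j : ℕ) :
    coeff (mon2 i j) (((X 0 : MvPolynomial (Fin 2) R) + X 1) ^ n) =
      if n = i + j then ((n.choose i : ℕ) : R) else 0 := by
  classical
  rw [add_pow, coeff_sum]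
  have hterm : ∀ m ∈ Finset.range (n + 1),
      coeff (mon2 i j) ((X 0 : MvPolynomial (Fin 2) R) ^ m * X 1 ^ (n - m) *
        (n.choose m : MvPolynomial (Fin 2) R)) =
      if m = i ∧ n - m = j then ((n.choose m : ℕ) : R) else 0 := by
    intro m _
    have : (X 0 : MvPolynomial (Fin 2) R) ^ m * X 1 ^ (n - m) *
        (n.choose m : MvPolynomial (Fin 2) R) =
        monomial (mon2 m (n - m)) ((n.choose m : ℕ) : R) := by
      rw [monomial_mon2]
      simp only [map_natCast]
      ring
    rw [this, coeff_monomial]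
    simp only [mon2_inj]
  rw [Finset.sum_congr rfl hterm]
  by_cases h : n = i + j
  · rw [if_pos h, Finset.sum_eq_single i]
    · rw [if_pos ⟨rfl, by omega⟩]
    · intro m _ hm
      rw [if_neg (fun h' => hm h'.1)]
    · intro hj
      exact absurd (Finset.mem_range.mpr (by omega)) hj
  · rw [if_neg h]
    apply Finset.sum_eq_zero
    intro m hm
    rw [Finset.mem_range] at hm
    rw [if_neg]
    rintro ⟨h1, h2⟩
    exact h (by omega)

theorem coeff_dl (G : Polynomial R) (i j : ℕ) :
    coeff (mon2 i j) (dl G) =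
      G.coeff (i + j) * (((i + j).choose i : ℕ) : R) - (if j = 0 then G.coeff i else 0)
        - (if i = 0 then G.coeff j else 0) := by
  classical
  induction G using Polynomial.induction_on' with
  | add G H hG hH =>
    rw [dl_add, coeff_add, hG, hH, Polynomial.coeff_add, Polynomial.coeff_add,
      Polynomial.coeff_add]
    split_ifs <;> ring
  | monomial n c =>
    simp only [dl, Polynomial.aeval_monomial, algebraMap_eq, coeff_sub, coeff_C_mul,
      coeff_add_pow2, Polynomial.coeff_monomial]
    have h0 : coeff (mon2 i j) ((X 0 : MvPolynomial (Fin 2) R) ^ n) =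
        if j = 0 then (if n = i then 1 else 0) else 0 := by
      have : (X 0 : MvPolynomial (Fin 2) R) ^ n = monomial (mon2 n 0) 1 := by
        rw [monomial_mon2]; simp
      rw [this, coeff_monomial]
      simp only [mon2_inj]
      by_cases hj : j = 0
      · subst hj; simp
      · rw [if_neg hj, if_neg (fun h => hj h.2.symm)]
    have h1 : coeff (mon2 i j) ((X 1 : MvPolynomial (Fin 2) R) ^ n) =
        if i = 0 then (if n = j then 1 else 0) else 0 := by
      have : (X 1 : MvPolynomial (Fin 2) R) ^ n = monomial (mon2 0 n) 1 := by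
        rw [monomial_mon2]; simp
      rw [this, coeff_monomial]
      simp only [mon2_inj]
      by_cases hi : i = 0
      · subst hi; simp
      · rw [if_neg hi, if_neg (fun h => hi h.1.symm)]
    rw [h0, h1]
    split_ifs <;> simp_all

theorem coeff_Spoly (p i j : ℕ) :
    coeff (mon2 i j) (Spoly R p) =
      if 0 < i ∧ 0 < j ∧ i + j = p then ((p.choose i / p : ℕ) : R) else 0 := by
  classical
  rw [Spoly, coeff_sum]
  have hterm : ∀ m ∈ Finset.Ioo 0 p,
      coeff (mon2 i j) (C ((p.choose m / p : ℕ) : R) * X 0 ^ m * X 1 ^ (p - m)) =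
      if m = i ∧ p - m = j then ((p.choose m / p : ℕ) : R) else 0 := by
    intro m _
    have : C ((p.choose m / p : ℕ) : R) * X 0 ^ m * X 1 ^ (p - m) =
        monomial (mon2 m (p - m)) ((p.choose m / p : ℕ) : R) := by
      rw [monomial_mon2]; ring
    rw [this, coeff_monomial]
    simp only [mon2_inj]
  rw [Finset.sum_congr rfl hterm]
  by_cases h : 0 < i ∧ 0 < j ∧ i + j = p
  · rw [if_pos h, Finset.sum_eq_single i]
    · rw [if_pos ⟨rfl, by omega⟩]
    · intro m _ hm
      rw [if_neg (fun h' => hm h'.1)]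
    · intro hj
      exact absurd (Finset.mem_Ioo.mpr ⟨h.1, by omega⟩) hj
  · rw [if_neg h]
    apply Finset.sum_eq_zero
    intro m hm
    rw [Finset.mem_Ioo] at hm
    rw [if_neg]
    rintro ⟨h1, h2⟩
    exact h ⟨by omega, by omega, by omega⟩

end Coeff

section CharPExpand

variable {R : Type u} [CommRing R] (p : ℕ) [hp : Fact p.Prime] [CharP R p]

theorem swap_expand (q : ℕ) (F : MvPolynomial (Fin 2) R) :
    swap (expand q F) = expand q (swap F) := by
  have h2 : expand q (swap F) = aeval (fun i => expand q ((![X 1, X 0] : Fin 2 → MvPolynomial (Fin 2) R) i)) F :=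
    expand_bind₁ (p := q) _ F
  rw [h2, swap, aeval_expand]
  congr 2; funext i; fin_cases i <;> simp

theorem coc_expand (t : ℕ) (F : MvPolynomial (Fin 2) R) :
    coc (expand (p ^ t) F) = expand (p ^ t) (coc F) := by
  have h2 : ∀ g : Fin 2 → MvPolynomial (Fin 3) R, expand (p ^ t) (aeval g F) =
      aeval (fun i => expand (p ^ t) (g i)) F := fun g => expand_bind₁ (p := p ^ t) g F
  simp only [coc, map_sub, map_add, h2, aeval_expand]
  congr 2
  · congr 1
    · congr 2; funext i; fin_cases i <;> simp [add_pow_char_pow]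
    · congr 2; funext i; fin_cases i <;> simp
  · congr 2; funext i; fin_cases i <;> simp [add_pow_char_pow]
  · congr 2; funext i; fin_cases i <;> simp

theorem expand_dl (t : ℕ) (G : Polynomial R) :
    expand (p ^ t) (dl G) = dl (Polynomial.expand R (p ^ t) G) := by
  simp only [dl, map_sub, Polynomial.expand_aeval]
  rw [← Polynomial.aeval_algHom_apply, ← Polynomial.aeval_algHom_apply,
    ← Polynomial.aeval_algHom_apply]
  simp [add_pow_char_pow]

end CharPExpand

section Main

variable {R : Type u} [CommRing R]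

theorem mon2_zero_zero : mon2 0 0 = 0 := by simp [mon2]

theorem smul_mon2 (n i j : ℕ) : n • mon2 i j = mon2 (n * i) (n * j) := by
  ext k; fin_cases k <;> simp

theorem coeff_symm (F : MvPolynomial (Fin 2) R) (hsw : swap F = F) (i j : ℕ) :
    coeff (mon2 i j) F = coeff (mon2 j i) F := by
  conv_lhs => rw [← hsw]
  exact coeff_swap F i j

theorem coeff_rel (F : MvPolynomial (Fin 2) R) (hcoc : coc F = 0) (i j k : ℕ) :
    coeff (mon2 i (j + k)) F * (((j + k).choose j : ℕ) : R)
        + (if i = 0 then coeff (mon2 j k) F else 0)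
        - coeff (mon2 (i + j) k) F * (((i + j).choose i : ℕ) : R)
        - (if k = 0 then coeff (mon2 i j) F else 0) = 0 := by
  rw [← coeff_coc, hcoc, coeff_zero]

theorem coeff_zero_right (F : MvPolynomial (Fin 2) R) (hcoc : coc F = 0) (i : ℕ) (hi : 1 ≤ i) :
    coeff (mon2 i 0) F = 0 := by
  have h := coeff_rel F hcoc i 0 0
  have hi0 : i ≠ 0 := by omega
  simp only [add_zero, Nat.choose_self, Nat.cast_one, mul_one, if_neg hi0, if_true] at h
  linear_combination -h

theorem coeff_succ_mul (F : MvPolynomial (Fin 2) R) (hcoc : coc F = 0) (i j : ℕ) (hi : 1 ≤ i) :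
    coeff (mon2 i (j + 1)) F * ((j + 1 : ℕ) : R) =
      coeff (mon2 (i + j) 1) F * (((i + j).choose i : ℕ) : R) := by
  have h := coeff_rel F hcoc i j 1
  have hi0 : i ≠ 0 := by omega
  rw [if_neg hi0, if_neg one_ne_zero, Nat.choose_succ_self_right] at h
  linear_combination h

variable (p : ℕ) [hp : Fact p.Prime] [CharP R p]

theorem isUnit_natCast_of_not_dvd (n : ℕ) (h : ¬ p ∣ n) : IsUnit ((n : ℕ) : R) := by
  have hcop : Nat.Coprime n p := (Nat.Coprime.symm ((Nat.Prime.coprime_iff_not_dvd hp.out).mpr h))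
  have := Nat.isCoprime_iff_coprime.mpr hcop
  obtain ⟨a, b, hab⟩ := this
  have h2 := congrArg (Int.cast : ℤ → R) hab
  push_cast at h2
  rw [CharP.cast_eq_zero R p, mul_zero, add_zero] at h2
  exact IsUnit.of_mul_eq_one _ (by rw [mul_comm]; exact h2)

omit hp in
theorem cast_eq_of_modEq {a b : ℕ} (h : a ≡ b [MOD p]) : ((a : ℕ) : R) = ((b : ℕ) : R) :=
  (CharP.natCast_eq_natCast R p).mpr h

theorem cast_choose_pred (k : ℕ) :
    ((((k + 1) * p - 1).choose (k * p) : ℕ) : R) = 1 := by
  have hp0 : 0 < p := hp.out.pos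
  have hn : (k + 1) * p - 1 = (p - 1) + p * k := by
    have : (k + 1) * p = p * k + p := by ring
    rw [this]; omega
  have h1 := @Choose.choose_modEq_choose_mod_mul_choose_div_nat ((k + 1) * p - 1) (k * p) p _
  rw [hn] at h1
  rw [Nat.add_mul_mod_self_left, Nat.add_mul_div_left _ _ hp0, Nat.mod_eq_of_lt (by omega),
    Nat.div_eq_of_lt (by omega : p - 1 < p), Nat.mul_mod_left, Nat.mul_div_left _ hp0,
    Nat.choose_zero_right, zero_add, Nat.choose_self, mul_one] at h1
  rw [hn, cast_eq_of_modEq p h1, Nat.cast_one]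

theorem coeff_pred_one_eq_zero (F : MvPolynomial (Fin 2) R) (hcoc : coc F = 0) (k : ℕ)
    (hk : 1 ≤ k) : coeff (mon2 ((k + 1) * p - 1) 1) F = 0 := by
  have hp0 : 0 < p := hp.out.pos
  have hkp : 1 ≤ k * p := Nat.one_le_iff_ne_zero.mpr (Nat.mul_ne_zero (by omega) hp0.ne')
  have h := coeff_succ_mul F hcoc (k * p) (p - 1) hkp
  have h1 : p - 1 + 1 = p := by omega
  have h2 : k * p + (p - 1) = (k + 1) * p - 1 := by
    have : (k + 1) * p = k * p + p := by ring
    rw [this]; omega
  rw [h1, h2, CharP.cast_eq_zero R p, mul_zero, cast_choose_pred, mul_one] at h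
  exact h.symm

theorem coeff_eq_zero_of_not_dvd (F : MvPolynomial (Fin 2) R) (hsw : swap F = F)
    (hcoc : coc F = 0) (hl : ∀ m, coeff (mon2 m 1) F = 0) (i j : ℕ) (h : ¬ (p ∣ i ∧ p ∣ j)) :
    coeff (mon2 i j) F = 0 := by
  have key : ∀ i j : ℕ, 1 ≤ i → ¬ p ∣ j → coeff (mon2 i j) F = 0 := by
    intro i j hi hj
    obtain ⟨j', rfl⟩ : ∃ j', j = j' + 1 := ⟨j - 1, by
      have : j ≠ 0 := fun h0 => hj (h0 ▸ dvd_zero p)
      omega⟩
    have h1 := coeff_succ_mul F hcoc i j' hi
    rw [hl, zero_mul] at h1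
    exact (isUnit_natCast_of_not_dvd (R := R) p _ hj).mul_left_eq_zero.mp h1
  rcases Nat.eq_zero_or_pos j with rfl | hj
  · have hi : ¬ p ∣ i := fun hi => h ⟨hi, dvd_zero p⟩
    have : i ≠ 0 := fun h0 => hi (h0 ▸ dvd_zero p)
    exact coeff_zero_right F hcoc i (by omega)
  rcases Nat.eq_zero_or_pos i with rfl | hi
  · rw [coeff_symm F hsw]
    exact coeff_zero_right F hcoc j hj
  by_cases hpj : p ∣ j
  · have hpi : ¬ p ∣ i := fun hpi => h ⟨hpi, hpj⟩
    rw [coeff_symm F hsw]
    exact key j i hj hpi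
  · exact key i j hi hpj

omit hp [CharP R p] in
theorem exists_expand_eq (F : MvPolynomial (Fin 2) R)
    (h : ∀ i j, ¬ (p ∣ i ∧ p ∣ j) → coeff (mon2 i j) F = 0) :
    ∃ F' : MvPolynomial (Fin 2) R, expand p F' = F := by
  classical
  refine ⟨∑ e ∈ F.support, monomial (mon2 (e 0 / p) (e 1 / p)) (coeff e F), ?_⟩
  rw [map_sum]
  conv_rhs => rw [← F.support_sum_monomial_coeff]
  apply Finset.sum_congr rfl
  intro e he
  rw [expand_monomial, smul_mon2]
  have hne : coeff e F ≠ 0 := mem_support_iff.mp he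
  have hdvd : p ∣ e 0 ∧ p ∣ e 1 := by
    by_contra hcon
    apply hne
    rw [eq_mon2 e]
    exact h _ _ hcon
  rw [Nat.mul_div_cancel' hdvd.1, Nat.mul_div_cancel' hdvd.2, ← eq_mon2 e]

omit hp [CharP R p] in
theorem coeff_expand_mon2 (hp0 : p ≠ 0) (F : MvPolynomial (Fin 2) R) (i j : ℕ) :
    coeff (mon2 (p * i) (p * j)) (expand p F) = coeff (mon2 i j) F := by
  rw [← smul_mon2, coeff_expand_smul p hp0]

/-- **Lazard's symmetric 2-cocycle lemma in characteristic `p`**, with the coefficients tracked in an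
ideal `J`. -/
theorem lazard (J : Ideal R) : ∀ (D : ℕ) (F : MvPolynomial (Fin 2) R), swap F = F → coc F = 0 →
    (∀ i j, D ≤ i + j → coeff (mon2 i j) F = 0) → (∀ i j, coeff (mon2 i j) F ∈ J) →
    ∃ (G : Polynomial R) (N : ℕ) (r : ℕ → R), (∀ n, G.coeff n ∈ J) ∧ (∀ t, r t ∈ J) ∧
      F = dl G + ∑ t ∈ Finset.range N, C (r t) * expand (p ^ t) (Spoly R p) := by
  classical
  intro D
  induction D using Nat.strong_induction_on with
  | _ D ih =>
  intro F hsw hcoc hD hJ
  have hp0 : 0 < p := hp.out.pos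
  have hp2 : 2 ≤ p := hp.out.two_le
  by_cases hD1 : D ≤ 1
  · -- constant case
    have hF : F = C (coeff (mon2 0 0) F) := by
      ext e
      rw [eq_mon2 e, coeff_C]
      by_cases h0 : e 0 = 0 ∧ e 1 = 0
      · rw [h0.1, h0.2, if_pos mon2_zero_zero.symm]
      · rw [if_neg, hD _ _ (by omega)]
        intro h
        rw [← mon2_zero_zero, mon2_inj] at h
        exact h0 ⟨h.1.symm, h.2.symm⟩
    refine ⟨Polynomial.C (-(coeff (mon2 0 0) F)), 0, fun _ => 0, ?_, fun _ => J.zero_mem, ?_⟩
    · intro n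
      rw [Polynomial.coeff_C]
      split_ifs
      · exact J.neg_mem (hJ 0 0)
      · exact J.zero_mem
    · rw [Finset.range_zero, Finset.sum_empty, add_zero]
      conv_lhs => rw [hF]
      simp [dl]
  · push Not at hD1
    -- notation
    set l : ℕ → R := fun m => coeff (mon2 m 1) F with hl
    have hlJ : ∀ m, l m ∈ J := fun m => hJ m 1
    have hlD : ∀ m, D ≤ m + 1 → l m = 0 := fun m hm => hD m 1 hm
    set g0 : ℕ → R := fun n => if p ∣ n then 0 else Ring.inverse ((n : ℕ) : R) * l (n - 1) with hg0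
    have hg0J : ∀ n, g0 n ∈ J := by
      intro n
      simp only [hg0]
      split_ifs
      · exact J.zero_mem
      · exact J.mul_mem_left _ (hlJ _)
    have hg0D : ∀ n, D ≤ n → g0 n = 0 := by
      intro n hn
      simp only [hg0]
      split_ifs
      · rfl
      · rw [hlD (n - 1) (by omega), mul_zero]
    have hg0mul : ∀ n, ¬ p ∣ n → g0 n * ((n : ℕ) : R) = l (n - 1) := by
      intro n hn
      simp only [hg0]
      rw [if_neg hn, mul_right_comm, Ring.inverse_mul_cancel _ (isUnit_natCast_of_not_dvd p n hn),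
        one_mul]
    set G0 : Polynomial R := ∑ n ∈ Finset.range D, Polynomial.monomial n (g0 n) with hG0
    have hG0c : ∀ n, G0.coeff n = g0 n := by
      intro n
      rw [hG0, Polynomial.finsetSum_coeff]
      simp only [Polynomial.coeff_monomial]
      rw [Finset.sum_ite_eq' (Finset.range D) n (fun m => g0 m)]
      split_ifs with hn
      · rfl
      · rw [Finset.mem_range, not_lt] at hn
        exact (hg0D n hn).symm
    set r0 : R := l (p - 1) with hr0
    set F' : MvPolynomial (Fin 2) R := F - dl G0 - C r0 * Spoly R p with hF'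
    have hsw' : swap F' = F' := by
      rw [hF', swap_sub, swap_sub, swap_dl, swap_C_mul, swap_Spoly, hsw]
    have hcoc' : coc F' = 0 := by
      rw [hF', coc_sub, coc_sub, coc_dl, coc_C_mul, coc_Spoly, hcoc]; simp
    have hcoef' : ∀ i j, coeff (mon2 i j) F' = coeff (mon2 i j) F -
        (g0 (i + j) * (((i + j).choose i : ℕ) : R) - (if j = 0 then g0 i else 0)
          - (if i = 0 then g0 j else 0)) -
        r0 * (if 0 < i ∧ 0 < j ∧ i + j = p then ((p.choose i / p : ℕ) : R) else 0) := by
      intro i j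
      rw [hF', coeff_sub, coeff_sub, coeff_dl, coeff_C_mul, coeff_Spoly]
      simp only [hG0c]
    have hD' : ∀ i j, D ≤ i + j → coeff (mon2 i j) F' = 0 := by
      intro i j hij
      rw [hcoef', hD i j hij, hg0D _ hij]
      have h1 : (if j = 0 then g0 i else 0) = 0 := by
        split_ifs with hj
        · exact hg0D i (by omega)
        · rfl
      have h2 : (if i = 0 then g0 j else 0) = 0 := by
        split_ifs with hi
        · exact hg0D j (by omega)
        · rfl
      have h3 : r0 * (if 0 < i ∧ 0 < j ∧ i + j = p then ((p.choose i / p : ℕ) : R) else 0) = 0 := by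
        split_ifs with h
        · rw [hr0, hlD (p - 1) (by omega), zero_mul]
        · rw [mul_zero]
      rw [h1, h2, h3]; ring
    have hJ' : ∀ i j, coeff (mon2 i j) F' ∈ J := by
      intro i j
      rw [hcoef']
      refine J.sub_mem (J.sub_mem (hJ i j) (J.sub_mem (J.sub_mem (J.mul_mem_right _ (hg0J _)) ?_) ?_))
        (J.mul_mem_right _ (hlJ _))
      · split_ifs
        · exact hg0J _
        · exact J.zero_mem
      · split_ifs
        · exact hg0J _
        · exact J.zero_mem
    have hl' : ∀ m, coeff (mon2 m 1) F' = 0 := by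
      intro m
      rw [hcoef', if_neg one_ne_zero, Nat.choose_succ_self_right]
      rcases Nat.eq_zero_or_pos m with rfl | hm
      · have h0 : coeff (mon2 0 1) F = 0 := by
          rw [coeff_symm F hsw]; exact coeff_zero_right F hcoc 1 le_rfl
        rw [h0, if_pos rfl, if_neg (by omega)]
        simp
      · rw [if_neg (by omega)]
        by_cases hdvd : p ∣ m + 1
        · have hg : g0 (m + 1) = 0 := by simp only [hg0]; rw [if_pos hdvd]
          rw [hg]
          by_cases hmp : m + 1 = p
          · have hm1 : m = p - 1 := by omega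
            rw [if_pos ⟨hm, one_pos, hmp⟩, hr0]
            have hch : p.choose m / p = 1 := by
              rw [hm1]
              have : p.choose (p - 1) = p := by
                rw [Nat.choose_symm (by omega), Nat.choose_one_right]
              rw [this, Nat.div_self hp0]
            rw [hch, ← hm1]
            simp [hl]
          · rw [if_neg (fun h => hmp h.2.2)]
            obtain ⟨k, hk⟩ := hdvd
            have hk1 : 2 ≤ k := by
              rcases k with _ | _ | k
              · omega
              · omega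
              · omega
            obtain ⟨k', rfl⟩ : ∃ k', k = k' + 1 := ⟨k - 1, by omega⟩
            have hm' : m = (k' + 1) * p - 1 := by rw [mul_comm, ← hk]; omega
            rw [hm', coeff_pred_one_eq_zero p F hcoc k' (by omega)]
            simp
        · rw [if_neg (fun h => hdvd (by rw [h.2.2])), hg0mul _ hdvd]
          simp [hl]
    have hvan := coeff_eq_zero_of_not_dvd p F' hsw' hcoc' hl'
    obtain ⟨Ft, hFt⟩ := exists_expand_eq p F' hvan
    have hswt : swap Ft = Ft := by
      apply expand_injective hp0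
      rw [← swap_expand, hFt, hsw']
    have hcoct : coc Ft = 0 := by
      apply expand_injective hp0
      have := coc_expand p 1 Ft
      rw [pow_one] at this
      rw [← this, hFt, hcoc', map_zero]
    have hcoeft : ∀ i j, coeff (mon2 i j) Ft = coeff (mon2 (p * i) (p * j)) F' := by
      intro i j
      rw [← hFt, coeff_expand_mon2 p hp0.ne']
    have hDlt : (D + p - 1) / p < D := by
      rw [Nat.div_lt_iff_lt_mul hp0]
      have : D * 2 ≤ D * p := Nat.mul_le_mul_left D hp2
      obtain ⟨d, rfl⟩ : ∃ d, D = d + 2 := ⟨D - 2, by omega⟩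
      have h3 : (d + 2) * p = d * p + 2 * p := by ring
      have h4 : 0 ≤ d * p := Nat.zero_le _
      omega
    have hDt : ∀ i j, (D + p - 1) / p ≤ i + j → coeff (mon2 i j) Ft = 0 := by
      intro i j hij
      rw [hcoeft]
      apply hD'
      have h1 : D + p - 1 < (i + j + 1) * p := by
        rw [← Nat.div_lt_iff_lt_mul hp0]; omega
      have h2 : (i + j + 1) * p = p * i + p * j + p := by ring
      omega
    have hJt : ∀ i j, coeff (mon2 i j) Ft ∈ J := fun i j => by rw [hcoeft]; exact hJ' _ _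
    obtain ⟨Gt, Nt, rt, hGtJ, hrtJ, hFteq⟩ := ih _ hDlt Ft hswt hcoct hDt hJt
    refine ⟨G0 + Polynomial.expand R p Gt, Nt + 1, fun t => if t = 0 then r0 else rt (t - 1),
      ?_, ?_, ?_⟩
    · intro n
      rw [Polynomial.coeff_add, hG0c, Polynomial.coeff_expand hp0]
      refine J.add_mem (hg0J n) ?_
      split_ifs
      · exact hGtJ _
      · exact J.zero_mem
    · intro t
      simp only
      split_ifs
      · exact hlJ _
      · exact hrtJ _
    · rw [Finset.sum_range_succ', dl_add]
      simp only [pow_zero, expand_one_apply, if_pos, Nat.add_sub_cancel,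
        if_neg (Nat.succ_ne_zero _)]
      have h1 : F = F' + dl G0 + C r0 * Spoly R p := by rw [hF']; ring
      have h2 : F' = dl (Polynomial.expand R p Gt) +
          ∑ t ∈ Finset.range Nt, C (rt t) * expand (p ^ (t + 1)) (Spoly R p) := by
        rw [← hFt, hFteq, map_add, map_sum]
        have := expand_dl p 1 Gt
        rw [pow_one] at this
        rw [this]
        congr 1
        apply Finset.sum_congr rfl
        intro t _
        rw [map_mul, expand_C, pow_succ', expand_mul]
      rw [h1, h2]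
      ring

end Main

end Groth.Agent.Lib.LazardCharP
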