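import Mathlib.RingTheory.MvPolynomial.MonomialOrder
import Mathlib.Algebra.Algebra.Operations
import Mathlib.RingTheory.MvPolynomial.Basic

/-!
# Subspaces of monomial spans detected by leading monomials

If `V ≤ span {monomials in A}` (over a field) and every `m ∈ A` is the leading exponent of some
nonzero element of `V`, then `V = span {monomials in A}`.
-/

set_option autoImplicit false

namespace Groth.Agent.Lib.LeadMon58

open MvPolynomial
open scoped MonomialOrder

variable {k : Type*} [Field k] {σ : Type*}

/-- The span of the monomials with exponents in `A`. -/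
noncomputable def monSpan (k : Type*) [Field k] {σ : Type*} (A : Set (σ →₀ ℕ)) : Submodule k (MvPolynomial σ k) :=
  Submodule.span k {f | ∃ e ∈ A, f = monomial e 1}

theorem support_subset_of_mem_monSpan {A : Set (σ →₀ ℕ)} {f : MvPolynomial σ k}
    (hf : f ∈ monSpan k A) : ∀ e ∈ f.support, e ∈ A := by
  classical
  refine Submodule.span_induction (p := fun f _ => ∀ e ∈ f.support, e ∈ A) ?_ ?_ ?_ ?_ hf
  · rintro _ ⟨e, he, rfl⟩ e' he'
    have := MvPolynomial.support_monomial_subset he'
    rw [Finset.mem_singleton] at this
    rw [this]; exact he
  · simp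
  · intro x y _ _ hx hy e he
    rcases Finset.mem_union.mp (MvPolynomial.support_add he) with h | h
    exacts [hx e h, hy e h]
  · intro c x _ hx e he
    exact hx e (MvPolynomial.support_smul he)

theorem monomial_mem_monSpan {A : Set (σ →₀ ℕ)} {e : σ →₀ ℕ} (he : e ∈ A) (c : k) :
    monomial e c ∈ monSpan k A := by
  have : (monomial e c : MvPolynomial σ k) = c • monomial e 1 := by
    rw [MvPolynomial.smul_monomial, smul_eq_mul, mul_one]
  rw [this]
  exact Submodule.smul_mem _ _ (Submodule.subset_span ⟨e, he, rfl⟩)

/-- A subspace of a monomial span containing elements with every prescribed leading exponent is the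
whole span. -/
theorem eq_monSpan_of_degrees (mo : MonomialOrder σ) (A : Set (σ →₀ ℕ))
    (V : Submodule k (MvPolynomial σ k)) (hV : V ≤ monSpan k A)
    (h : ∀ m ∈ A, ∃ v ∈ V, v ≠ 0 ∧ mo.degree v = m) : V = monSpan k A := by
  classical
  refine le_antisymm hV ?_
  rw [monSpan, Submodule.span_le]
  rintro _ ⟨m, hm, rfl⟩
  -- well-founded induction on `mo.toSyn m`
  have key : ∀ s : mo.syn, ∀ m ∈ A, mo.toSyn m = s → (monomial m (1 : k)) ∈ V := by
    intro s
    induction s using WellFoundedLT.induction with
    | ind s ih =>
      intro m hm hms
      obtain ⟨v, hvV, hv0, hvd⟩ := h m hm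
      have hsupp := support_subset_of_mem_monSpan (hV hvV)
      have hlc : v.coeff m ≠ 0 := by
        rw [← hvd]; exact mo.coeff_degree_ne_zero_iff.mpr hv0
      -- the lower part of `v`
      have hrest : v - monomial m (v.coeff m) ∈ V := by
        have e1 : v - monomial m (v.coeff m) =
            ∑ e ∈ v.support.erase m, monomial e (v.coeff e) := by
          have e0 : monomial m (v.coeff m) + ∑ e ∈ v.support.erase m, monomial e (v.coeff e) =
              v := by
            rw [Finset.add_sum_erase v.support (fun e => monomial e (v.coeff e))
              (mem_support_iff.mpr hlc)]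
            exact v.as_sum.symm
          exact sub_eq_of_eq_add' e0.symm
        rw [e1]
        refine Submodule.sum_mem _ fun e he => ?_
        have he' := Finset.mem_erase.mp he
        have hlt : mo.toSyn e < s := by
          rw [← hms]
          refine lt_of_le_of_ne ?_ fun heq => he'.1 (mo.toSyn.injective heq)
          rw [← hvd]
          exact mo.le_degree he'.2
        have := ih (mo.toSyn e) hlt e (hsupp e he'.2) rfl
        have e2 : (monomial e (v.coeff e) : MvPolynomial σ k) = v.coeff e • monomial e 1 := by
          rw [MvPolynomial.smul_monomial, smul_eq_mul, mul_one]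
        rw [e2]
        exact V.smul_mem _ this
      have hmon : monomial m (v.coeff m) ∈ V := by
        have : (monomial m (v.coeff m) : MvPolynomial σ k) = v - (v - monomial m (v.coeff m)) := by
          ring
        rw [this]
        exact V.sub_mem hvV hrest
      have e3 : (monomial m (1 : k)) = (v.coeff m)⁻¹ • monomial m (v.coeff m) := by
        rw [MvPolynomial.smul_monomial, smul_eq_mul, inv_mul_cancel₀ hlc]
      rw [e3]
      exact V.smul_mem _ hmon
  exact key _ m hm rfl

end Groth.Agent.Lib.LeadMon58
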