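import Mathlib.CategoryTheory.Localization.DerivabilityStructure.Derives
import Mathlib.CategoryTheory.Functor.Derived.PointwiseLeftDerived
import Mathlib.CategoryTheory.Localization.Opposite

/-!
# Left derived functors from left derivability structures (helper21)

Mathlib (at this pin) proves, for a RIGHT derivability structure `Φ` and a functor `F` such that
`Φ.functor ⋙ F` inverts `W₁` (`Φ.Derives F`), that `F` has a right derived functor and that the unit of any
right derived functor is an isomorphism on the objects `Φ.functor.obj X₁`.  Here we transfer this to LEFT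
derivability structures and left derived functors by passing to opposite categories.

* `isLeftKanExtension_op`, `isRightKanExtension_of_op`: Kan extensions and opposites.
* `Derives.hasLeftDerivedFunctor`, `Derives.isIso_of_isLeftDerivedFunctor`.
-/

set_option autoImplicit false
universe v₁ v₂ v₃ v₄ u₁ u₂ u₃ u₄

open CategoryTheory Opposite

namespace Groth.Agent.Lib.LeftDerivedOp21

section Kan

variable {C : Type u₁} {D : Type u₂} {H : Type u₃}
  [Category.{v₁} C] [Category.{v₂} D] [Category.{v₃} H]
  (L : C ⥤ D) (F : C ⥤ H)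

/-- the opposite of a natural transformation `L ⋙ F' ⟶ F` -/
def opTrans (F' : D ⥤ H) (α : L ⋙ F' ⟶ F) : F.op ⟶ L.op ⋙ F'.op where
  app X := (α.app X.unop).op
  naturality X Y f := Quiver.Hom.unop_inj (by simpa using (α.naturality f.unop).symm)

/-- the "unopposite" of a natural transformation `F.op ⟶ L.op ⋙ E` -/
def unopTrans (E : Dᵒᵖ ⥤ Hᵒᵖ) (η : F.op ⟶ L.op ⋙ E) : L ⋙ E.unop ⟶ F where
  app X := (η.app (op X)).unop
  naturality X Y f := Quiver.Hom.op_inj (by simpa using (η.naturality f.op).symm)

/-- if `(F', α)` is a right Kan extension of `F` along `L`, then `(F'.op, α.op)` is a left Kan extension of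
`F.op` along `L.op` -/
theorem isLeftKanExtension_op (F' : D ⥤ H) (α : L ⋙ F' ⟶ F) [F'.IsRightKanExtension α] :
    F'.op.IsLeftKanExtension (opTrans L F F' α) := by
  refine ⟨⟨Limits.IsInitial.ofUniqueHom (fun G => ?_) (fun G m => ?_)⟩⟩
  · -- existence
    let β : L ⋙ G.right.unop ⟶ F := unopTrans L F G.right G.hom
    let γ₀ : G.right.unop ⟶ F' := F'.liftOfIsRightKanExtension α G.right.unop β
    have hγ₀ : Functor.whiskerLeft L γ₀ ≫ α = β := F'.liftOfIsRightKanExtension_fac α _ β
    refine StructuredArrow.homMk
      ({ app := fun X => (γ₀.app X.unop).op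
         naturality := fun X Y f => Quiver.Hom.unop_inj (γ₀.naturality f.unop).symm } :
        F'.op ⟶ G.right) ?_
    ext X
    have h1 : γ₀.app (L.obj X.unop) ≫ α.app X.unop = (G.hom.app X).unop :=
      NatTrans.congr_app hγ₀ X.unop
    exact Quiver.Hom.unop_inj h1
  · -- uniqueness
    apply StructuredArrow.ext
    ext X
    let β : L ⋙ G.right.unop ⟶ F := unopTrans L F G.right G.hom
    let δ : G.right.unop ⟶ F' :=
      { app := fun Y => (m.right.app (op Y)).unop
        naturality := fun Y Z f => Quiver.Hom.op_inj (m.right.naturality f.op).symm }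
    have hδ : Functor.whiskerLeft L δ ≫ α = β := by
      ext Y
      have h1 : (opTrans L F F' α).app (op Y) ≫ m.right.app (op (L.obj Y)) = G.hom.app (op Y) :=
        NatTrans.congr_app (StructuredArrow.w m) (op Y)
      exact congrArg Quiver.Hom.unop h1
    have hγ₀ : Functor.whiskerLeft L (F'.liftOfIsRightKanExtension α G.right.unop β) ≫ α = β :=
      F'.liftOfIsRightKanExtension_fac α _ β
    have := F'.hom_ext_of_isRightKanExtension α δ
      (F'.liftOfIsRightKanExtension α G.right.unop β) (hδ.trans hγ₀.symm)
    exact Quiver.Hom.unop_inj (NatTrans.congr_app this X.unop)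

/-- if `(E, η)` is a left Kan extension of `F.op` along `L.op`, then `(E.unop, η.unop)` is a right Kan
extension of `F` along `L` -/
theorem isRightKanExtension_unop (E : Dᵒᵖ ⥤ Hᵒᵖ) (η : F.op ⟶ L.op ⋙ E) [E.IsLeftKanExtension η] :
    E.unop.IsRightKanExtension (unopTrans L F E η) := by
  refine ⟨⟨Limits.IsTerminal.ofUniqueHom (fun G => ?_) (fun G m => ?_)⟩⟩
  · let β : F.op ⟶ L.op ⋙ G.left.op := opTrans L F G.left G.hom
    let γ₀ : E ⟶ G.left.op := E.descOfIsLeftKanExtension η G.left.op β
    have hγ₀ : η ≫ Functor.whiskerLeft L.op γ₀ = β := E.descOfIsLeftKanExtension_fac η _ β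
    refine CostructuredArrow.homMk
      ({ app := fun X => (γ₀.app (op X)).unop
         naturality := fun X Y f => Quiver.Hom.op_inj (γ₀.naturality f.op).symm } :
        G.left ⟶ E.unop) ?_
    ext X
    have h1 : η.app (op X) ≫ γ₀.app (op (L.obj X)) = (G.hom.app X).op :=
      NatTrans.congr_app hγ₀ (op X)
    exact Quiver.Hom.op_inj h1
  · apply CostructuredArrow.ext
    ext X
    let β : F.op ⟶ L.op ⋙ G.left.op := opTrans L F G.left G.hom
    let δ : E ⟶ G.left.op :=
      { app := fun Y => (m.left.app Y.unop).op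
        naturality := fun Y Z f => Quiver.Hom.unop_inj (m.left.naturality f.unop).symm }
    have hδ : η ≫ Functor.whiskerLeft L.op δ = β := by
      ext Y
      have h1 : m.left.app (L.obj Y.unop) ≫ (unopTrans L F E η).app Y.unop = G.hom.app Y.unop :=
        NatTrans.congr_app (CostructuredArrow.w m) Y.unop
      exact congrArg Quiver.Hom.op h1
    have hγ₀ : η ≫ Functor.whiskerLeft L.op (E.descOfIsLeftKanExtension η G.left.op β) = β :=
      E.descOfIsLeftKanExtension_fac η _ β
    have := E.hom_ext_of_isLeftKanExtension η δ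
      (E.descOfIsLeftKanExtension η G.left.op β) (hδ.trans hγ₀.symm)
    exact Quiver.Hom.op_inj (NatTrans.congr_app this (op X))

theorem hasRightKanExtension_of_op [L.op.HasLeftKanExtension F.op] : L.HasRightKanExtension F := by
  have := isRightKanExtension_unop L F (L.op.leftKanExtension F.op) (L.op.leftKanExtensionUnit F.op)
  exact Functor.HasRightKanExtension.mk _ (unopTrans L F _ (L.op.leftKanExtensionUnit F.op))

end Kan

section Derives

variable {C₁ : Type u₁} {C₂ : Type u₂} {H : Type u₃}
  [Category.{v₁} C₁] [Category.{v₂} C₂] [Category.{v₃} H]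
  {D₂ : Type u₄} [Category.{v₄} D₂]
  {W₁ : MorphismProperty C₁} {W₂ : MorphismProperty C₂}
  {Φ : LocalizerMorphism W₁ W₂} {F : C₂ ⥤ H}

theorem derives_op (h : Φ.Derives F) : Φ.op.Derives F.op := by
  intro X Y f hf
  have h1 : IsIso ((Φ.functor ⋙ F).map f.unop) := h f.unop hf
  change IsIso ((Φ.functor ⋙ F).map f.unop).op
  infer_instance

variable (h : Φ.Derives F) [Φ.IsLeftDerivabilityStructure]

include h

/-- a functor derived by a left derivability structure has a left derived functor -/
theorem hasLeftDerivedFunctor : F.HasLeftDerivedFunctor W₂ := by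
  have h1 : F.op.HasPointwiseRightDerivedFunctor W₂.op :=
    (derives_op h).hasPointwiseRightDerivedFunctor
  have h2 : F.op.HasRightDerivedFunctor W₂.op := inferInstance
  have h3 : W₂.Q.op.HasLeftKanExtension F.op :=
    (F.op.hasRightDerivedFunctor_iff W₂.Q.op W₂.op).mp h2
  have h4 : W₂.Q.HasRightKanExtension F := hasRightKanExtension_of_op _ _
  exact (F.hasLeftDerivedFunctor_iff W₂.Q W₂).mpr h4

/-- the counit of ANY left derived functor is an isomorphism on the objects coming from the source of the
left derivability structure -/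
theorem isIso_of_isLeftDerivedFunctor {L₂ : C₂ ⥤ D₂} [L₂.IsLocalization W₂] {LF : D₂ ⥤ H}
    (α : L₂ ⋙ LF ⟶ F) [LF.IsLeftDerivedFunctor α W₂] (X₁ : C₁) :
    IsIso (α.app (Φ.functor.obj X₁)) := by
  have h0 : LF.IsRightKanExtension α := Functor.IsLeftDerivedFunctor.isRightKanExtension LF α W₂
  have h1 : LF.op.IsLeftKanExtension (opTrans L₂ F LF α) := isLeftKanExtension_op L₂ F LF α
  have h2 : LF.op.IsRightDerivedFunctor (opTrans L₂ F LF α) W₂.op := ⟨h1⟩
  have h3 : IsIso ((opTrans L₂ F LF α).app (Φ.op.functor.obj (op X₁))) :=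
    (derives_op h).isIso_of_isRightDerivedFunctor (opTrans L₂ F LF α) (op X₁)
  change IsIso (α.app (Φ.functor.obj X₁)).op at h3
  exact isIso_of_op _

end Derives

end Groth.Agent.Lib.LeftDerivedOp21
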