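import Mathlib.CategoryTheory.Triangulated.LocalizingSubcategory
import Mathlib.CategoryTheory.Localization.DerivabilityStructure.Constructor
import Groth.Agent.Lib.LeftDerivedOp21

/-!
# Left derived functors computed on a Verdier-left-localizing subcategory with resolutions (helper21)

`C` triangulated, `A B : ObjectProperty C` triangulated subcategories (`B` closed under isomorphisms; think
`B` = acyclic complexes in the homotopy category, `A` = K-flat complexes), such that
* `A.IsVerdierLeftLocalizing B`: every morphism from an object of `A` to an object of `B` factors through an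
  object of `A ⊓ B`;
* every object `X` admits a resolution `w : P ⟶ X` with `A P` and `B.trW w`.
Then `A.triangulatedLocalizerMorphism B` is a LEFT DERIVABILITY STRUCTURE.  Consequently every functor
`F : C ⥤ H` which inverts the `B.trW`-morphisms between objects of `A` has a left derived functor with
respect to `B.trW`, and the counit of ANY left derived functor of `F` is an isomorphism on the objects of `A`.
-/

set_option autoImplicit false
set_option linter.unusedSectionVars false

open CategoryTheory Limits Pretriangulated Opposite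

namespace Groth.Agent.Lib.LeftDerivedVerdier21

variable {C : Type*} [Category C] [HasZeroObject C] [HasShift C ℤ] [Preadditive C]
  [∀ (n : ℤ), (shiftFunctor C n).Additive] [Pretriangulated C] [IsTriangulated C]
  (A B : ObjectProperty C) [A.IsTriangulated] [B.IsTriangulated] [B.IsClosedUnderIsomorphisms]

/-- existence of `A`-resolutions -/
def HasRes : Prop := ∀ X : C, ∃ (P : C) (w : P ⟶ X), A P ∧ B.trW w

variable {A B}

section

variable (hres : HasRes A B)

include hres

theorem hasLeftResolutions : (A.triangulatedLocalizerMorphism B).HasLeftResolutions := by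
  intro X
  obtain ⟨P, w, hP, hw⟩ := hres X
  exact ⟨{ X₁ := ⟨P, hP⟩, w := w, hw := hw }⟩

theorem isConnected_leftResolution (X : C) :
    IsConnected ((A.triangulatedLocalizerMorphism B).LeftResolution X) := by
  have : Nonempty ((A.triangulatedLocalizerMorphism B).LeftResolution X) :=
    hasLeftResolutions hres X
  refine zigzag_isConnected (fun R R' => ?_)
  let φ : B.trW.LeftFraction R.X₁.obj R'.X₁.obj := { Y' := X, f := R.w, s := R'.w, hs := R'.hw }
  obtain ⟨ψ, hψ⟩ := MorphismProperty.HasRightCalculusOfFractions.exists_rightFraction φ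
  obtain ⟨Q, u, hQ, hu⟩ := hres ψ.X'
  have hw : B.trW (u ≫ ψ.s ≫ R.w) :=
    B.trW.comp_mem _ _ hu (B.trW.comp_mem _ _ ψ.hs R.hw)
  let R'' : (A.triangulatedLocalizerMorphism B).LeftResolution X :=
    { X₁ := ⟨Q, hQ⟩, w := u ≫ ψ.s ≫ R.w, hw := hw }
  have c₁ : (A.triangulatedLocalizerMorphism B).functor.map
      (A.homMk (u ≫ ψ.s) : (⟨Q, hQ⟩ : A.FullSubcategory) ⟶ R.X₁) ≫ R.w = R''.w := by
    change (u ≫ ψ.s) ≫ R.w = u ≫ ψ.s ≫ R.w
    rw [Category.assoc]
  have c₂ : (A.triangulatedLocalizerMorphism B).functor.map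
      (A.homMk (u ≫ ψ.f) : (⟨Q, hQ⟩ : A.FullSubcategory) ⟶ R'.X₁) ≫ R'.w = R''.w := by
    change (u ≫ ψ.f) ≫ R'.w = u ≫ ψ.s ≫ R.w
    rw [Category.assoc]
    exact congrArg (u ≫ ·) hψ.symm
  let f₁ : R'' ⟶ R := { f := A.homMk (u ≫ ψ.s), comm := c₁ }
  let f₂ : R'' ⟶ R' := { f := A.homMk (u ≫ ψ.f), comm := c₂ }
  exact (Zigzag.of_inv f₁).trans (Zigzag.of_hom f₂)

theorem arrow_hasLeftResolutions :
    (A.triangulatedLocalizerMorphism B).arrow.HasLeftResolutions := by
  intro f
  obtain ⟨PY, wY, hPY, hwY⟩ := hres f.right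
  let φ : B.trW.LeftFraction f.left PY := { Y' := f.right, f := f.hom, s := wY, hs := hwY }
  obtain ⟨ψ, hψ⟩ := MorphismProperty.HasRightCalculusOfFractions.exists_rightFraction φ
  obtain ⟨PX, u, hPX, hu⟩ := hres ψ.X'
  refine ⟨{ X₁ := Arrow.mk (A.homMk (u ≫ ψ.f) : (⟨PX, hPX⟩ : A.FullSubcategory) ⟶ ⟨PY, hPY⟩)
            w := Arrow.homMk (u ≫ ψ.s) wY ?_
            hw := ⟨B.trW.comp_mem _ _ hu ψ.hs, hwY⟩ }⟩
  change (u ≫ ψ.s) ≫ f.hom = (u ≫ ψ.f) ≫ wY
  rw [Category.assoc, Category.assoc]
  exact congrArg (u ≫ ·) hψ

end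

variable [A.IsVerdierLeftLocalizing B]

theorem isLocalizedEquivalence (hres : HasRes A B) :
    (A.triangulatedLocalizerMorphism B).IsLocalizedEquivalence := by
  let Φ := A.triangulatedLocalizerMorphism B
  let L₁ := (B.inverseImage A.ι).trW.Q
  let L₂ := B.trW.Q
  let G := Φ.localizedFunctor L₁ L₂
  have : Φ.HasLeftResolutions := hasLeftResolutions hres
  have h1 : (Φ.functor ⋙ L₂).EssSurj := Φ.essSurj_of_hasLeftResolutions L₂
  have : G.EssSurj := by
    refine ⟨fun Y => ?_⟩
    obtain ⟨X, ⟨e⟩⟩ := h1.mem_essImage Y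
    exact ⟨L₁.obj X, ⟨((Φ.catCommSq L₁ L₂).iso).symm.app X ≪≫ e⟩⟩
  have : G.IsEquivalence := { }
  exact LocalizerMorphism.IsLocalizedEquivalence.mk' Φ L₁ L₂ G

/-- **The left derivability structure** given by a Verdier-left-localizing triangulated subcategory with
resolutions. -/
theorem isLeftDerivabilityStructure (hres : HasRes A B) :
    (A.triangulatedLocalizerMorphism B).IsLeftDerivabilityStructure := by
  have := isLocalizedEquivalence hres
  have : ∀ X, IsConnected ((A.triangulatedLocalizerMorphism B).LeftResolution X) :=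
    isConnected_leftResolution hres
  have := arrow_hasLeftResolutions hres
  exact LocalizerMorphism.IsLeftDerivabilityStructure.mk' _

section Derived

variable {H : Type*} [Category H] (F : C ⥤ H)
  (hF : ∀ ⦃P Q : C⦄ (f : P ⟶ Q), A P → A Q → B.trW f → IsIso (F.map f))

include hF

theorem derives : (A.triangulatedLocalizerMorphism B).Derives F := by
  intro P Q f hf
  rw [ObjectProperty.trW_inverseImage_ι_iff] at hf
  exact hF f.hom P.property Q.property (ObjectProperty.trW_monotone inf_le_right _ hf)

/-- existence of the left derived functor -/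
theorem hasLeftDerivedFunctor (hres : HasRes A B) : F.HasLeftDerivedFunctor B.trW := by
  have := isLeftDerivabilityStructure hres
  exact Groth.Agent.Lib.LeftDerivedOp21.hasLeftDerivedFunctor (derives F hF)

/-- the counit of any left derived functor is an isomorphism on the objects of `A` -/
theorem isIso_counit_app (hres : HasRes A B) {D : Type*} [Category D] (L : C ⥤ D)
    [L.IsLocalization B.trW] (LF : D ⥤ H) (α : L ⋙ LF ⟶ F) [LF.IsLeftDerivedFunctor α B.trW]
    (P : C) (hP : A P) : IsIso (α.app P) := by
  have := isLeftDerivabilityStructure hres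
  exact Groth.Agent.Lib.LeftDerivedOp21.isIso_of_isLeftDerivedFunctor (derives F hF) α ⟨P, hP⟩

/-- variant of `hasLeftDerivedFunctor` for a class of morphisms propositionally equal to `B.trW` -/
theorem hasLeftDerivedFunctor_of_eq (hres : HasRes A B) (W : MorphismProperty C) (hW : W = B.trW) :
    F.HasLeftDerivedFunctor W := by
  subst hW
  exact hasLeftDerivedFunctor F hF hres

/-- variant of `isIso_counit_app` for a class of morphisms propositionally equal to `B.trW` -/
theorem isIso_counit_app_of_eq (hres : HasRes A B) (W : MorphismProperty C) (hW : W = B.trW)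
    {D : Type*} [Category D] (L : C ⥤ D)
    [L.IsLocalization W] (LF : D ⥤ H) (α : L ⋙ LF ⟶ F) [LF.IsLeftDerivedFunctor α W]
    (P : C) (hP : A P) : IsIso (α.app P) := by
  subst hW
  exact isIso_counit_app F hF hres L LF α P hP

end Derived

end Groth.Agent.Lib.LeftDerivedVerdier21
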