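/-
helper7: length lemmas: length P/I = length P/(I:t) + length P/(I+(t)); length P/(a, x y) = length P/(a,y) + length P/(a,x).
-/
import Mathlib

set_option autoImplicit false
universe u

namespace Groth.Agent.Lib.LenPair7

variable {P : Type u} [CommRing P]

section Colon

/-- multiplication by `t` as a map `P/(I : t) → P/I`. -/
noncomputable def colonMul (I : Ideal P) (t : P) : (P ⧸ I.colon ({t} : Set P)) →ₗ[P] (P ⧸ I) :=
  Submodule.mapQ (I.colon ({t} : Set P)) I (LinearMap.lsmul P P t) (by
    intro x hx
    rw [Submodule.mem_comap, LinearMap.lsmul_apply, smul_eq_mul, mul_comm]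
    exact Submodule.mem_colon_singleton.mp hx)

/-- the projection `P/I → P/(I + (t))`. -/
noncomputable def colonProj (I : Ideal P) (t : P) : (P ⧸ I) →ₗ[P] (P ⧸ (I ⊔ Ideal.span {t})) :=
  Submodule.mapQ I (I ⊔ Ideal.span {t}) LinearMap.id (by
    intro x hx
    exact Ideal.mem_sup_left hx)

theorem colonMul_injective (I : Ideal P) (t : P) : Function.Injective (colonMul I t) := by
  rw [← LinearMap.ker_eq_bot, LinearMap.ker_eq_bot']
  intro x hx
  obtain ⟨x, rfl⟩ := Submodule.Quotient.mk_surjective _ x
  rw [colonMul, Submodule.mapQ_apply, Submodule.Quotient.mk_eq_zero] at hx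
  rw [Submodule.Quotient.mk_eq_zero, Submodule.mem_colon_singleton, smul_eq_mul, mul_comm]
  exact hx

theorem colonProj_surjective (I : Ideal P) (t : P) : Function.Surjective (colonProj I t) := by
  intro y
  obtain ⟨y, rfl⟩ := Submodule.Quotient.mk_surjective _ y
  exact ⟨Submodule.Quotient.mk y, by rw [colonProj, Submodule.mapQ_apply]; rfl⟩

theorem exact_colonMul_colonProj (I : Ideal P) (t : P) :
    Function.Exact (colonMul I t) (colonProj I t) := by
  intro y
  obtain ⟨y, rfl⟩ := Submodule.Quotient.mk_surjective _ y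
  rw [colonProj, Submodule.mapQ_apply, Submodule.Quotient.mk_eq_zero]
  simp only [LinearMap.id_coe, id_eq]
  constructor
  · intro hy
    obtain ⟨a, ha, b, hb, rfl⟩ := Submodule.mem_sup.mp hy
    obtain ⟨c, rfl⟩ := Ideal.mem_span_singleton'.mp hb
    refine ⟨Submodule.Quotient.mk c, ?_⟩
    rw [colonMul, Submodule.mapQ_apply, ← sub_eq_zero, ← Submodule.Quotient.mk_sub,
      Submodule.Quotient.mk_eq_zero]
    simp only [LinearMap.lsmul_apply, smul_eq_mul]
    have : t * c - (a + c * t) = -a := by ring
    rw [this]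
    exact I.neg_mem ha
  · rintro ⟨x, hx⟩
    obtain ⟨x, rfl⟩ := Submodule.Quotient.mk_surjective _ x
    rw [colonMul, Submodule.mapQ_apply, ← sub_eq_zero, ← Submodule.Quotient.mk_sub,
      Submodule.Quotient.mk_eq_zero] at hx
    simp only [LinearMap.lsmul_apply, smul_eq_mul] at hx
    have : y = -(t * x - y) + x * t := by ring
    rw [this]
    exact Ideal.add_mem _ (Ideal.mem_sup_left (I.neg_mem hx))
      (Ideal.mem_sup_right (Ideal.mul_mem_left _ _ (Ideal.mem_span_singleton_self t)))

/-- `length P/I = length P/(I : t) + length P/(I + (t))`. -/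
theorem length_quot_eq_colon_add (I : Ideal P) (t : P) :
    Module.length P (P ⧸ I) = Module.length P (P ⧸ I.colon ({t} : Set P)) +
      Module.length P (P ⧸ (I ⊔ Ideal.span {t})) :=
  Module.length_eq_add_of_exact (colonMul I t) (colonProj I t) (colonMul_injective I t)
    (colonProj_surjective I t) (exact_colonMul_colonProj I t)

end Colon

section Mul

variable [IsDomain P]

/-- `length P/(a, x y) = length P/(a, y) + length P/(a, x)` when `x` is a nonzerodivisor mod `a`. -/
theorem length_quot_pair_mul {a x : P} (hx0 : x ≠ 0) (hx : ∀ u, x ∣ a * u → x ∣ u) (y : P) :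
    Module.length P (P ⧸ Ideal.span {a, x * y}) =
      Module.length P (P ⧸ Ideal.span {a, y}) + Module.length P (P ⧸ Ideal.span {a, x}) := by
  have h1 : (Ideal.span {a, x * y}).colon ({x} : Set P) = Ideal.span {a, y} := by
    ext z
    rw [Submodule.mem_colon_singleton, smul_eq_mul, Ideal.mem_span_pair, Ideal.mem_span_pair]
    constructor
    · rintro ⟨c, d, hcd⟩
      have h1 : x ∣ a * c := ⟨z - d * y, by
        have : a * c = z * x - d * (x * y) := by rw [← hcd]; ring
        rw [this]; ring⟩
      obtain ⟨c', rfl⟩ := hx c h1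
      refine ⟨c', d, ?_⟩
      have : x * (c' * a + d * y) = x * z := by
        rw [mul_comm x z, ← hcd]; ring
      exact mul_left_cancel₀ hx0 this
    · rintro ⟨c, d, rfl⟩
      exact ⟨c * x, d, by ring⟩
  have h2 : Ideal.span {a, x * y} ⊔ Ideal.span {x} = Ideal.span {a, x} := by
    apply le_antisymm
    · rw [sup_le_iff, Ideal.span_le, Ideal.span_le]
      refine ⟨?_, ?_⟩
      · rintro z (rfl | rfl)
        · exact Ideal.subset_span (by simp)
        · exact Ideal.mul_mem_right _ _ (Ideal.subset_span (by simp))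
      · rintro z rfl
        exact Ideal.subset_span (by simp)
    · rw [Ideal.span_le]
      rintro z (rfl | rfl)
      · exact Ideal.mem_sup_left (Ideal.subset_span (by simp))
      · exact Ideal.mem_sup_right (Ideal.mem_span_singleton_self _)
  rw [length_quot_eq_colon_add (Ideal.span {a, x * y}) x, h1, h2]

theorem dvd_of_pow_dvd_mul {a x : P} (hx : Prime x) (hxa : ¬ x ∣ a) (n : ℕ) (u : P)
    (h : x ^ n ∣ a * u) : x ^ n ∣ u := by
  induction n generalizing u with
  | zero => simp
  | succ n ih =>
    obtain ⟨u', rfl⟩ := ih u (dvd_trans (pow_dvd_pow x (Nat.le_succ n)) h)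
    obtain ⟨w, hw⟩ := h
    have h1 : a * u' = x * w := by
      have : x ^ n * (a * u') = x ^ n * (x * w) := by
        calc x ^ n * (a * u') = a * (x ^ n * u') := by ring
          _ = x ^ (n + 1) * w := hw
          _ = x ^ n * (x * w) := by rw [pow_succ]; ring
      exact mul_left_cancel₀ (pow_ne_zero n hx.ne_zero) this
    obtain ⟨u'', rfl⟩ := (hx.dvd_or_dvd ⟨w, h1⟩).resolve_left hxa
    exact ⟨u'', by rw [pow_succ]; ring⟩

end Mul

end Groth.Agent.Lib.LenPair7
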