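import Groth.Agent.Lib.TFunArtinFree
import Groth.Agent.Lib.TFunLocalAR
import Groth.Agent.Lib.TFunUnit
import Groth.Agent.Lib.TFunFinite
import Mathlib.RingTheory.HopkinsLevitzki
import Mathlib.RingTheory.Filtration

/-!
# The length criterion for exactness of `T_p` over a Noetherian local ring (helper44)

`A` Noetherian local, `P` a complex of finite flat `A`-modules.  `T_i = H_i(P ⊗ -)` is exact (preserves
monomorphisms and epimorphisms) iff `length T_i(A/m^(n+1)) = length T_i(k) * length (A/m^(n+1))` for all large `n`
(EGA III 7.8.4 (b) ⇔ (c)).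
-/

set_option autoImplicit false
set_option linter.style.haveILetI false
universe u

open CategoryTheory CategoryTheory.Limits MonoidalCategory CohIII TensorProduct IsLocalRing

namespace Groth.Agent.Lib.LengthCritH44

open Groth.Agent.Lib.TFun

section Prelim

variable {A : Type u} [CommRing A] [IsNoetherianRing A] [IsLocalRing A]

/-- `A ⧸ m^n` is an Artinian ring -/
theorem artinian_quot (n : ℕ) : IsArtinianRing (A ⧸ maximalIdeal A ^ n) := by
  by_cases hI : maximalIdeal A ^ n = ⊤
  · have : Subsingleton (A ⧸ maximalIdeal A ^ n) := Ideal.Quotient.subsingleton_iff.2 hI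
    have : Finite (A ⧸ maximalIdeal A ^ n) := Finite.of_subsingleton
    infer_instance
  have : Nontrivial (A ⧸ maximalIdeal A ^ n) := Ideal.Quotient.nontrivial_iff.mpr hI
  have := IsLocalRing.of_surjective' (Ideal.Quotient.mk (maximalIdeal A ^ n))
    Ideal.Quotient.mk_surjective
  have := IsLocalHom.of_surjective (Ideal.Quotient.mk (maximalIdeal A ^ n))
    Ideal.Quotient.mk_surjective
  have hmax : (maximalIdeal A).map (Ideal.Quotient.mk (maximalIdeal A ^ n)) =
      maximalIdeal (A ⧸ maximalIdeal A ^ n) := by
    ext x
    obtain ⟨x, rfl⟩ := Ideal.Quotient.mk_surjective x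
    simp [sup_eq_left.mpr (le_maximalIdeal hI)]
  rw [isArtinianRing_iff_isNilpotent_maximalIdeal]
  refine ⟨n, ?_⟩
  rw [← hmax, ← Ideal.map_pow, Ideal.zero_eq_bot, Ideal.map_quotient_self]

/-- `A ⧸ m^n` has finite length as an `A`-module -/
theorem length_quot_ne_top (n : ℕ) : Module.length A (A ⧸ maximalIdeal A ^ n) ≠ ⊤ := by
  haveI := artinian_quot (A := A) n
  rw [Module.length_eq_of_surjective (R := A ⧸ maximalIdeal A ^ n) Ideal.Quotient.mk_surjective,
    Module.length_ne_top_iff, ← isArtinianRing_iff_isFiniteLength]
  infer_instance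

/-- a finite module killed by the maximal ideal has finite length -/
theorem length_ne_top_of_smul_eq_zero (M : Type u) [AddCommGroup M] [Module A M] [Module.Finite A M]
    (h : ∀ a ∈ maximalIdeal A, ∀ x : M, a • x = 0) : Module.length A M ≠ ⊤ := by
  have htors : Module.IsTorsionBySet A M (maximalIdeal A : Set A) := by
    intro x a
    exact h a.1 a.2 x
  letI : Module (A ⧸ maximalIdeal A) M := htors.module
  haveI : IsScalarTower A (A ⧸ maximalIdeal A) M := htors.isScalarTower
  haveI : Module.Finite (A ⧸ maximalIdeal A) M := Module.Finite.of_restrictScalars_finite A _ M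
  letI : Field (A ⧸ maximalIdeal A) := Ideal.Quotient.field (maximalIdeal A)
  rw [Module.length_eq_of_surjective (R := A ⧸ maximalIdeal A) Ideal.Quotient.mk_surjective,
    Module.length_eq_finrank]
  exact ENat.coe_ne_top _

end Prelim


section Krull

variable {A : Type u} [CommRing A] [IsNoetherianRing A] [IsLocalRing A]

/-- **Freeness from the length formula**: a finite module `N` over a Noetherian local ring such that
`length (N ⊗ A/m^(n+1)) = length (N ⊗ k) * length (A/m^(n+1))` for all large `n` is free. -/
theorem free_of_length_formula (N : Type u) [AddCommGroup N] [Module A N] [Module.Finite A N] (n₀ : ℕ)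
    (h : ∀ n, n₀ ≤ n → Module.length A (N ⊗[A] (A ⧸ maximalIdeal A ^ (n + 1))) =
      Module.length A (N ⊗[A] ResidueField A) * Module.length A (A ⧸ maximalIdeal A ^ (n + 1))) :
    Module.Free A N := by
  classical
  let b := Module.Free.chooseBasis (ResidueField A) (ResidueField A ⊗[A] N)
  obtain ⟨v, hv⟩ := (TensorProduct.mk_surjective A N (ResidueField A)
    Ideal.Quotient.mk_surjective).comp_left b
  have hspan : Submodule.span A (Set.range v) = ⊤ :=
    span_eq_top_of_tmul_eq_basis v b (congr_fun hv)
  let φ := Finsupp.linearCombination A v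
  have hsurj : Function.Surjective φ := by
    rw [← LinearMap.range_eq_top, Finsupp.range_linearCombination]
    exact hspan
  have hcard : Module.length A (ResidueField A ⊗[A] N) =
      ENat.card (Module.Free.ChooseBasisIndex (ResidueField A) (ResidueField A ⊗[A] N)) := by
    rw [Groth.Agent.Lib.LengthFree.length_residue_tensor, Module.finrank_eq_card_chooseBasisIndex]
    simp
  have hNk : Module.length A (N ⊗[A] ResidueField A) =
      ENat.card (Module.Free.ChooseBasisIndex (ResidueField A) (ResidueField A ⊗[A] N)) := by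
    rw [(TensorProduct.comm A N (ResidueField A)).length_eq, hcard]
  have hcardfin : (ENat.card (Module.Free.ChooseBasisIndex (ResidueField A)
      (ResidueField A ⊗[A] N)) : ℕ∞) ≠ ⊤ := by
    rw [ENat.card_eq_coe_fintype_card]
    exact ENat.coe_ne_top _
  have hinj : Function.Injective φ := by
    rw [injective_iff_map_eq_zero]
    intro x hx
    have hmem : ∀ n, n₀ ≤ n → ∀ i, x i ∈ maximalIdeal A ^ (n + 1) := by
      intro n hn i
      let E := TensorProduct.finsuppScalarLeft A (A ⧸ maximalIdeal A ^ (n + 1))
        (Module.Free.ChooseBasisIndex (ResidueField A) (ResidueField A ⊗[A] N))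
      let ψ : (Module.Free.ChooseBasisIndex (ResidueField A) (ResidueField A ⊗[A] N) →₀
          (A ⧸ maximalIdeal A ^ (n + 1))) →ₗ[A] N ⊗[A] (A ⧸ maximalIdeal A ^ (n + 1)) :=
        (LinearMap.rTensor (A ⧸ maximalIdeal A ^ (n + 1)) φ) ∘ₗ E.symm.toLinearMap
      have hψs : Function.Surjective ψ :=
        (LinearMap.rTensor_surjective _ hsurj).comp E.symm.surjective
      have hsrc : Module.length A (Module.Free.ChooseBasisIndex (ResidueField A)
          (ResidueField A ⊗[A] N) →₀ (A ⧸ maximalIdeal A ^ (n + 1))) =
          ENat.card (Module.Free.ChooseBasisIndex (ResidueField A) (ResidueField A ⊗[A] N)) *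
            Module.length A (A ⧸ maximalIdeal A ^ (n + 1)) := Module.length_finsupp
      have htgt : Module.length A (N ⊗[A] (A ⧸ maximalIdeal A ^ (n + 1))) =
          ENat.card (Module.Free.ChooseBasisIndex (ResidueField A) (ResidueField A ⊗[A] N)) *
            Module.length A (A ⧸ maximalIdeal A ^ (n + 1)) := by
        rw [h n hn, hNk]
      have hfinA : Module.length A (A ⧸ maximalIdeal A ^ (n + 1)) ≠ ⊤ := length_quot_ne_top (n + 1)
      have hadd : Module.length A (Module.Free.ChooseBasisIndex (ResidueField A)
          (ResidueField A ⊗[A] N) →₀ (A ⧸ maximalIdeal A ^ (n + 1))) =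
          Module.length A (LinearMap.ker ψ) +
            Module.length A (N ⊗[A] (A ⧸ maximalIdeal A ^ (n + 1))) :=
        Module.length_eq_add_of_exact (LinearMap.ker ψ).subtype ψ (Submodule.subtype_injective _) hψs
          (LinearMap.exact_subtype_ker_map ψ)
      have hker : Module.length A (LinearMap.ker ψ) = 0 := by
        rw [hsrc, htgt] at hadd
        have hfin : (ENat.card (Module.Free.ChooseBasisIndex (ResidueField A) (ResidueField A ⊗[A] N)) *
            Module.length A (A ⧸ maximalIdeal A ^ (n + 1)) : ℕ∞) ≠ ⊤ := WithTop.mul_ne_top hcardfin hfinA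
        obtain ⟨N', hN'⟩ := ENat.ne_top_iff_exists.mp hfin
        have hk : Module.length A (LinearMap.ker ψ) ≠ ⊤ := by
          intro h'
          rw [h', top_add] at hadd
          exact hfin hadd
        obtain ⟨m', hm'⟩ := ENat.ne_top_iff_exists.mp hk
        rw [← hN', ← hm'] at hadd
        have : N' = m' + N' := by exact_mod_cast hadd
        have hm0 : m' = 0 := by omega
        rw [← hm', hm0]
        rfl
      have hψi : Function.Injective ψ := by
        rw [← LinearMap.ker_eq_bot]
        have := Module.length_eq_zero_iff.mp hker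
        exact Submodule.eq_bot_of_subsingleton
      have h0 : ψ (E (x ⊗ₜ[A] (1 : A ⧸ maximalIdeal A ^ (n + 1)))) = 0 := by
        change LinearMap.rTensor (A ⧸ maximalIdeal A ^ (n + 1)) φ (E.symm (E _)) = 0
        rw [LinearEquiv.symm_apply_apply, LinearMap.rTensor_tmul, hx, zero_tmul]
      have h1 : E (x ⊗ₜ[A] (1 : A ⧸ maximalIdeal A ^ (n + 1))) = 0 := hψi (by rw [h0, map_zero])
      have h2 := congrArg (fun z => z i) h1
      simp only [E, TensorProduct.finsuppScalarLeft_apply_tmul_apply, Finsupp.zero_apply] at h2
      have h3 : (Ideal.Quotient.mk (maximalIdeal A ^ (n + 1))) (x i) = 0 := by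
        rw [← h2, Algebra.smul_def, mul_one]
        rfl
      exact Ideal.Quotient.eq_zero_iff_mem.1 h3
    ext i
    have hbot := Ideal.iInf_pow_eq_bot_of_isLocalRing (maximalIdeal A)
      (Ideal.IsPrime.ne_top inferInstance)
    have hi : x i ∈ (⨅ n : ℕ, maximalIdeal A ^ n : Ideal A) := by
      rw [Ideal.mem_iInf]
      intro n
      exact Ideal.pow_le_pow_right (by omega : n ≤ max n n₀ + 1)
        (hmem (max n n₀) (le_max_right _ _) i)
    rw [hbot] at hi
    simpa using hi
  exact Module.Free.of_equiv (LinearEquiv.ofBijective φ ⟨hinj, hsurj⟩)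

end Krull

section Main

variable {A : Type u} [CommRing A] [IsNoetherianRing A] [IsLocalRing A] {ι : Type} {c : ComplexShape ι}
  (P : HomologicalComplex (ModuleCat.{u} A) c)

/-- `T_i(k)` has finite length -/
theorem length_T_residue_ne_top (hfin : ∀ i, Module.Finite A (P.X i)) (i : ι) :
    Module.length A ((TFun P i).obj (ModuleCat.of A (ResidueField A))) ≠ ⊤ := by
  haveI : Module.Finite A ((TFun P i).obj (ModuleCat.of A (ResidueField A))) :=
    finite_TFun_obj P i (hfin i) (ModuleCat.of A (ResidueField A))
  apply length_ne_top_of_smul_eq_zero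
  intro a ha x
  have h0 : a • 𝟙 (ModuleCat.of A (ResidueField A)) = 0 := by
    ext y
    change a • (show ResidueField A from y) = 0
    rw [Algebra.smul_def, IsLocalRing.ResidueField.algebraMap_eq,
      (IsLocalRing.residue_eq_zero_iff a).2 ha, zero_mul]
  have h1 : (TFun P i).map (a • 𝟙 (ModuleCat.of A (ResidueField A))) =
      a • 𝟙 ((TFun P i).obj (ModuleCat.of A (ResidueField A))) := by
    rw [Functor.map_smul, CategoryTheory.Functor.map_id]
  rw [h0, Functor.map_zero] at h1
  have h2 := congrArg (fun f => f.hom x) h1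
  exact h2.symm

/-- **(⇒)**: if `T_i` is exact, the length formula holds for all `n`. -/
theorem length_formula_of_exact (hflat : ∀ i, Module.Flat A (P.X i)) (i : ι)
    (hm : (TFun P i).PreservesMonomorphisms) (he : (TFun P i).PreservesEpimorphisms) (n : ℕ) :
    Module.length A ((TFun P i).obj (ModuleCat.of A (A ⧸ maximalIdeal A ^ (n + 1)))) =
      Module.length A ((TFun P i).obj (ModuleCat.of A (ResidueField A))) *
        Module.length A (A ⧸ maximalIdeal A ^ (n + 1)) := by
  obtain ⟨N, hN⟩ := ENat.ne_top_iff_exists.mp (length_quot_ne_top (A := A) (n + 1))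
  rw [← hN]
  exact length_T_eq_of_exact P i hflat hm he N (ModuleCat.of A (A ⧸ maximalIdeal A ^ (n + 1))) hN.symm

/-- the length formula at `n` implies that `T_i(A/m^(n+1)) → T_i(A/m)` is surjective -/
theorem surjective_factorMap_of_length_eq (hflat : ∀ i, Module.Flat A (P.X i))
    (hfin : ∀ i, Module.Finite A (P.X i)) (i : ι) (n : ℕ)
    (h : Module.length A ((TFun P i).obj (ModuleCat.of A (A ⧸ maximalIdeal A ^ (n + 1)))) =
      Module.length A ((TFun P i).obj (ModuleCat.of A (ResidueField A))) *
        Module.length A (A ⧸ maximalIdeal A ^ (n + 1))) :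
    Function.Surjective ((TFun P i).map (factorMap (maximalIdeal A) n)).hom := by
  have hd := length_T_residue_ne_top P hfin i
  let g : (A ⧸ maximalIdeal A ^ (n + 1)) →ₗ[A] (A ⧸ maximalIdeal A) :=
    (Ideal.Quotient.factorₐ A (Ideal.pow_le_self (I := maximalIdeal A)
      (Nat.succ_ne_zero n))).toLinearMap
  have hg : Function.Surjective g := Ideal.Quotient.factor_surjective
    (Ideal.pow_le_self (I := maximalIdeal A) (Nat.succ_ne_zero n))
  let K := LinearMap.ker g
  let S : ShortComplex (ModuleCat.{u} A) :=
    ShortComplex.mk (ModuleCat.ofHom K.subtype) (ModuleCat.ofHom g) (by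
      ext x
      exact x.2)
  have hSE : S.ShortExact := ModuleCat.shortComplex_shortExact S
    (LinearMap.exact_subtype_ker_map g) (Submodule.subtype_injective K) hg
  have hA : Module.length A S.X₂ ≠ ⊤ := length_quot_ne_top (A := A) (n + 1)
  have hadd : Module.length A (A ⧸ maximalIdeal A ^ (n + 1)) =
      Module.length A K + Module.length A (A ⧸ maximalIdeal A) :=
    Module.length_eq_add_of_exact K.subtype g (Submodule.subtype_injective _) hg
      (LinearMap.exact_subtype_ker_map g)
  have h1 : Module.length A K ≠ ⊤ := fun h' => hA (by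
    change Module.length A (A ⧸ maximalIdeal A ^ (n + 1)) = ⊤
    rw [hadd, h', top_add])
  have hk1 : Module.length A (A ⧸ maximalIdeal A) = 1 := by
    have : IsSimpleModule A (A ⧸ maximalIdeal A) :=
      isSimpleModule_iff_quot_maximal.mpr ⟨_, inferInstance, ⟨LinearEquiv.refl _ _⟩⟩
    exact Module.length_eq_one_iff.mpr this
  have hres := (Groth.Agent.S4492.result (TFun P i) (fun S hS => halfExact P i hflat S hS)
    (fun M hM => by rw [length_T_simple P i M hM]; exact hd)).2 S hSE hA
  obtain ⟨N, hN⟩ := ENat.ne_top_iff_exists.mp h1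
  have hle1 := length_T_le P i hflat hd N (ModuleCat.of A K) hN.symm
  have heq : Module.length A ((TFun P i).obj S.X₂) =
      Module.length A ((TFun P i).obj S.X₁) + Module.length A ((TFun P i).obj S.X₃) := by
    apply le_antisymm hres.1
    change Module.length A ((TFun P i).obj (ModuleCat.of A K)) +
      Module.length A ((TFun P i).obj (ModuleCat.of A (ResidueField A))) ≤
        Module.length A ((TFun P i).obj (ModuleCat.of A (A ⧸ maximalIdeal A ^ (n + 1))))
    rw [h, hadd, hk1, mul_add, mul_one, ← hN]
    exact add_le_add hle1 le_rfl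
  have hSE' := hres.2.mp heq
  have hepi : Epi ((TFun P i).map S.g) := hSE'.epi_g
  exact (ModuleCat.epi_iff_surjective _).mp hepi

/-- **The length criterion** (EGA III 7.8.4 (b) ⇔ (c)): over a Noetherian local ring, for a complex of finite flat
modules, `T_i` is exact iff `length T_i(A/m^(n+1)) = length T_i(k) * length (A/m^(n+1))` for all large `n`. -/
theorem exact_iff_length_formula (hflat : ∀ i, Module.Flat A (P.X i))
    (hfin : ∀ i, Module.Finite A (P.X i)) (i j : ι) (hij : c.Rel i j) :
    ((TFun P i).PreservesMonomorphisms ∧ (TFun P i).PreservesEpimorphisms) ↔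
      ∃ n₀ : ℕ, ∀ n : ℕ, n₀ ≤ n →
        Module.length A ((TFun P i).obj (ModuleCat.of A (A ⧸ maximalIdeal A ^ (n + 1)))) =
          Module.length A ((TFun P i).obj (ModuleCat.of A (ResidueField A))) *
            Module.length A (A ⧸ maximalIdeal A ^ (n + 1)) := by
  constructor
  · rintro ⟨hm, he⟩
    exact ⟨0, fun n _ => length_formula_of_exact P hflat i hm he n⟩
  · rintro ⟨n₀, h⟩
    have hs : ∀ n, n₀ ≤ n →
        Function.Surjective ((TFun P i).map (factorMap (maximalIdeal A) n)).hom :=
      fun n hn => surjective_factorMap_of_length_eq P hflat hfin i n (h n hn)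
    haveI : Module.Finite A (P.X (c.next i)) := hfin _
    have hres := surjective_residue_of_pow P i n₀ hs
    have he : (TFun P i).PreservesEpimorphisms :=
      (preservesEpi_iff_surjective_residue P hflat i j hij (hfin i) (hfin j)).2 hres
    refine ⟨?_, he⟩
    haveI : Module.Finite A ((TFun P i).obj (ModuleCat.of A A)) :=
      finite_TFun_obj P i (hfin i) (ModuleCat.of A A)
    let e := isoTensorLeftOfPreservesEpi P i hflat he
    have hfree : Module.Free A ((TFun P i).obj (ModuleCat.of A A)) := by
      refine free_of_length_formula _ n₀ (fun n hn => ?_)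
      have h1 : Module.length A (((TFun P i).obj (ModuleCat.of A A)) ⊗[A]
          (A ⧸ maximalIdeal A ^ (n + 1))) =
          Module.length A ((TFun P i).obj (ModuleCat.of A (A ⧸ maximalIdeal A ^ (n + 1)))) :=
        ((e.app (ModuleCat.of A (A ⧸ maximalIdeal A ^ (n + 1)))).toLinearEquiv).length_eq
      have h2 : Module.length A (((TFun P i).obj (ModuleCat.of A A)) ⊗[A] ResidueField A) =
          Module.length A ((TFun P i).obj (ModuleCat.of A (ResidueField A))) :=
        ((e.app (ModuleCat.of A (ResidueField A))).toLinearEquiv).length_eq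
      rw [h1, h2]
      exact h n hn
    have hH : Module.Flat A (P.homology i) :=
      (Module.Flat.equiv_iff (Groth.Agent.Lib.TFunUnit.TUnitIso P i).toLinearEquiv).mp inferInstance
    exact Groth.Agent.Lib.TFunUnit.preservesMono_of_preservesEpi_of_flat_homology P hflat i he hH

end Main

end Groth.Agent.Lib.LengthCritH44
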