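import Mathlib.CategoryTheory.Abelian.RightDerived
import Mathlib.CategoryTheory.Abelian.Injective.Ext
import Mathlib.CategoryTheory.Adjunction.Additive
import Mathlib.Algebra.Homology.DerivedCategory.Ext.ExactSequences
import Mathlib.Algebra.Homology.DerivedCategory.Ext.EnoughInjectives
import Groth.Agent.Lib.RDLES31
import Groth.Agent.Lib.ExtAdjunction

/-!
# Degenerate Grothendieck spectral sequence, the other way (helper31)

`L ⊣ G` between abelian categories, `L` preserving monomorphisms, `A` an object of the target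
of `G`.  If `Ext^{p+1}(A, R^q G F) = 0` for all `p, q`, then `Ext^q(L A, F) ≃+ Hom(A, R^q G F)`.
Proof by dimension shifting.
-/

set_option autoImplicit false
set_option linter.unusedSectionVars false

open CategoryTheory Limits Abelian

universe w v u v' u'

namespace Groth.Agent.LerayDegen31

section ExtLemmas

variable {D : Type u} [Category.{v} D] [Abelian D] [HasExt.{w} D] (A : D)

lemma subsingleton_ext_of_iso {X Y : D} (e : X ≅ Y) (n : ℕ) (h : Subsingleton (Ext.{w} A X n)) :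
    Subsingleton (Ext.{w} A Y n) := by
  refine ⟨fun x y => ?_⟩
  have key : ∀ z : Ext.{w} A Y n,
      z = (z.comp (Ext.mk₀ e.inv) (add_zero n)).comp (Ext.mk₀ e.hom) (add_zero n) := by
    intro z
    rw [Ext.comp_assoc_of_third_deg_zero, Ext.mk₀_comp_mk₀, e.inv_hom_id, Ext.comp_mk₀_id]
  rw [key x, key y, Subsingleton.elim (x.comp (Ext.mk₀ e.inv) (add_zero n))
    (y.comp (Ext.mk₀ e.inv) (add_zero n))]

variable {S : ShortComplex D} (hS : S.ShortExact)

include hS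

lemma subsingleton_ext_X₃ (n : ℕ) (h₂ : Subsingleton (Ext.{w} A S.X₂ n))
    (h₁ : Subsingleton (Ext.{w} A S.X₁ (n + 1))) : Subsingleton (Ext.{w} A S.X₃ n) := by
  refine subsingleton_of_forall_eq 0 fun x₃ => ?_
  obtain ⟨x₂, rfl⟩ := Ext.covariant_sequence_exact₃ A hS x₃ rfl (Subsingleton.elim _ _)
  rw [Subsingleton.elim x₂ 0, Ext.zero_comp]

lemma subsingleton_ext_X₂ (n : ℕ) (h₁ : Subsingleton (Ext.{w} A S.X₁ n))
    (h₃ : Subsingleton (Ext.{w} A S.X₃ n)) : Subsingleton (Ext.{w} A S.X₂ n) := by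
  refine subsingleton_of_forall_eq 0 fun x₂ => ?_
  obtain ⟨x₁, rfl⟩ := Ext.covariant_sequence_exact₂ A hS x₂ (Subsingleton.elim _ _)
  rw [Subsingleton.elim x₁ 0, Ext.zero_comp]

lemma exists_comp_g_eq (h₁ : Subsingleton (Ext.{w} A S.X₁ 1)) (φ : A ⟶ S.X₃) :
    ∃ ψ : A ⟶ S.X₂, ψ ≫ S.g = φ := by
  obtain ⟨x₂, hx₂⟩ := Ext.covariant_sequence_exact₃ A hS (Ext.mk₀ φ) (zero_add 1)
    (Subsingleton.elim _ _)
  obtain ⟨ψ, rfl⟩ := (Ext.mk₀_bijective A S.X₂).2 x₂
  refine ⟨ψ, (Ext.mk₀_bijective A S.X₃).1 ?_⟩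
  rw [← hx₂, Ext.mk₀_comp_mk₀]

end ExtLemmas

section FourTerm

variable {D : Type u} [Category.{v} D] [Abelian D] [HasExt.{w} D] (A : D)
  {X₁ X₂ X₃ X₄ : D} (f : X₁ ⟶ X₂) (g : X₂ ⟶ X₃) (d : X₃ ⟶ X₄) [Mono f] [Epi d]
  (w₁ : f ≫ g = 0) (w₂ : g ≫ d = 0)
  (e₁ : (ShortComplex.mk f g w₁).Exact) (e₂ : (ShortComplex.mk g d w₂).Exact)

/-- first short exact sequence `0 ⟶ X₁ ⟶ X₂ ⟶ ker d ⟶ 0` -/
noncomputable def T₁ : ShortComplex D :=
  ShortComplex.mk f (kernel.lift d g w₂) (by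
    rw [← cancel_mono (kernel.ι d), Category.assoc, kernel.lift_ι, w₁, zero_comp])

/-- second short exact sequence `0 ⟶ ker d ⟶ X₃ ⟶ X₄ ⟶ 0` -/
noncomputable def T₂ : ShortComplex D :=
  ShortComplex.mk (kernel.ι d) d (kernel.condition d)

include e₁ e₂ in
lemma T₁_shortExact : (T₁ f g d w₁ w₂).ShortExact := by
  have hepi : Epi (kernel.lift d g w₂) := by
    have := (ShortComplex.exact_iff_epi_kernel_lift (ShortComplex.mk g d w₂)).1 e₂
    exact this
  have hex : (T₁ f g d w₁ w₂).Exact := by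
    let φ : T₁ f g d w₁ w₂ ⟶ ShortComplex.mk f g w₁ :=
      { τ₁ := 𝟙 _
        τ₂ := 𝟙 _
        τ₃ := kernel.ι d
        comm₁₂ := by simp [T₁]
        comm₂₃ := by simp [T₁] }
    have h1 : Epi φ.τ₁ := inferInstanceAs (Epi (𝟙 X₁))
    have h2 : IsIso φ.τ₂ := inferInstanceAs (IsIso (𝟙 X₂))
    have h3 : Mono φ.τ₃ := inferInstanceAs (Mono (kernel.ι d))
    exact (ShortComplex.exact_iff_of_epi_of_isIso_of_mono φ).2 e₁
  exact { exact := hex, mono_f := by dsimp [T₁]; infer_instance, epi_g := hepi }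

omit [HasExt.{w} D] in
lemma T₂_shortExact : (T₂ d).ShortExact :=
  { exact := ShortComplex.exact_of_f_is_kernel _ (kernelIsKernel d)
    mono_f := by dsimp [T₂]; infer_instance
    epi_g := by dsimp [T₂]; infer_instance }

include e₁ e₂ in
lemma subsingleton_ext_four (p : ℕ)
    (h₂ : Subsingleton (Ext.{w} A X₂ (p + 1)))
    (h₁ : Subsingleton (Ext.{w} A X₁ (p + 2)))
    (h₄ : Subsingleton (Ext.{w} A X₄ (p + 1))) :
    Subsingleton (Ext.{w} A X₃ (p + 1)) := by
  have hK : Subsingleton (Ext.{w} A (kernel d) (p + 1)) :=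
    subsingleton_ext_X₃ A (T₁_shortExact f g d w₁ w₂ e₁ e₂) (p + 1) h₂ h₁
  exact subsingleton_ext_X₂ A (T₂_shortExact d) (p + 1) hK h₄

include e₁ e₂ in
lemma exists_comp_d_eq
    (h₂ : Subsingleton (Ext.{w} A X₂ 1))
    (h₁ : Subsingleton (Ext.{w} A X₁ 2)) (φ : A ⟶ X₄) :
    ∃ ψ : A ⟶ X₃, ψ ≫ d = φ := by
  have hK : Subsingleton (Ext.{w} A (kernel d) 1) :=
    subsingleton_ext_X₃ A (T₁_shortExact f g d w₁ w₂ e₁ e₂) 1 h₂ h₁
  exact exists_comp_g_eq A (T₂_shortExact d) hK φ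

include e₁ e₂ in
lemma comp_d_eq_zero_iff
    (h₁ : Subsingleton (Ext.{w} A X₁ 1)) (ψ : A ⟶ X₃) :
    ψ ≫ d = 0 ↔ ∃ χ : A ⟶ X₂, χ ≫ g = ψ := by
  constructor
  · intro h
    obtain ⟨χ, hχ⟩ := exists_comp_g_eq A (T₁_shortExact f g d w₁ w₂ e₁ e₂) h₁ (kernel.lift d ψ h)
    refine ⟨χ, ?_⟩
    have := congrArg (· ≫ kernel.ι d) hχ
    simpa [T₁] using this
  · rintro ⟨χ, rfl⟩
    rw [Category.assoc, w₂, comp_zero]

end FourTerm


section Main

variable {C : Type u} [Category.{v} C] [Abelian C] [EnoughInjectives C]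
  {D : Type u'} [Category.{v'} D] [Abelian D]
  [HasExt.{w} C] [HasExt.{w} D]
  {L : D ⥤ C} {G : C ⥤ D} (adj : L ⊣ G) [G.Additive] [L.PreservesMonomorphisms]
  (A : D)

/-- The hypothesis class: `Ext^{p+1}(A, R^q G F) = 0` for all `p, q`. -/
def Acyc (G : C ⥤ D) [G.Additive] (A : D) (F : C) : Prop :=
  ∀ p q : ℕ, Subsingleton (Ext.{w} A ((G.rightDerived q).obj F) (p + 1))

/-- The chosen short exact sequence `0 ⟶ F ⟶ I ⟶ I/F ⟶ 0` with `I` injective. -/
noncomputable def ses (F : C) : ShortComplex C :=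
  ShortComplex.mk (Injective.ι F) (cokernel.π (Injective.ι F)) (cokernel.condition _)

lemma ses_shortExact (F : C) : (ses F).ShortExact :=
  { exact := ShortComplex.exact_of_g_is_cokernel _ (cokernelIsCokernel _)
    mono_f := by dsimp [ses]; infer_instance
    epi_g := by dsimp [ses]; infer_instance }

instance (F : C) : Injective (ses F).X₂ := by dsimp [ses]; infer_instance

lemma exists_delta (G : C ⥤ D) [G.Additive] (F : C) :
    ∃ δ : ∀ n : ℕ, (G.rightDerived n).obj (ses F).X₃ ⟶ (G.rightDerived (n + 1)).obj F,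
      (∀ n, IsIso (δ (n + 1))) ∧ Epi (δ 0) ∧ Mono ((G.rightDerived 0).map (ses F).f) ∧
      (∃ w, (ShortComplex.mk ((G.rightDerived 0).map (ses F).f)
        ((G.rightDerived 0).map (ses F).g) w).Exact) ∧
      (∃ w, (ShortComplex.mk ((G.rightDerived 0).map (ses F).g) (δ 0) w).Exact) := by
  obtain ⟨δ, hmono, hδ⟩ := Groth.Agent.RDPlus31.rightDerived_les G (ses_shortExact F)
  have hz : ∀ n : ℕ, IsZero ((G.rightDerived (n + 1)).obj (ses F).X₂) := fun n =>
    Functor.isZero_rightDerived_obj_injective_succ G n _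
  refine ⟨δ, fun n => ?_, ?_, hmono, (hδ 0).1, (hδ 0).2.1⟩
  · obtain ⟨w₂, h₂⟩ := (hδ (n + 1)).2.1
    obtain ⟨w₃, h₃⟩ := (hδ (n + 1)).2.2
    have hm : Mono (δ (n + 1)) := h₂.mono_g ((hz n).eq_of_src _ _)
    have he : Epi (δ (n + 1)) := h₃.epi_f ((hz (n + 1)).eq_of_tgt _ _)
    exact @isIso_of_mono_of_epi _ _ _ _ _ (δ (n + 1)) hm he
  · obtain ⟨w₃, h₃⟩ := (hδ 0).2.2
    exact h₃.epi_f ((hz 0).eq_of_tgt _ _)

include adj in
lemma subsingleton_ext_rightDerived_zero_injective (I : C) [Injective I] (p : ℕ) :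
    Subsingleton (Ext.{w} A ((G.rightDerived 0).obj I) (p + 1)) := by
  have : PreservesLimits G := adj.rightAdjoint_preservesLimits
  have : Injective (G.obj I) := Injective.injective_of_adjoint adj I
  have : Subsingleton (Ext.{w} A (G.obj I) (p + 1)) :=
    subsingleton_of_forall_eq 0 fun x => Ext.eq_zero_of_injective x
  exact subsingleton_ext_of_iso A ((G.rightDerivedZeroIsoSelf.app I).symm) (p + 1) this

include adj in
lemma acyc_X₃ {F : C} (hF : Acyc.{w} G A F) : Acyc.{w} G A (ses F).X₃ := by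
  obtain ⟨δ, hiso, hepi, hmono, ⟨w₁, e₁⟩, ⟨w₂, e₂⟩⟩ := exists_delta G F
  intro p q
  cases q with
  | zero =>
    exact subsingleton_ext_four A _ _ (δ 0) w₁ w₂ e₁ e₂ p
      (subsingleton_ext_rightDerived_zero_injective adj A _ p) (hF (p + 1) 0) (hF p 1)
  | succ q =>
    have := hiso q
    exact subsingleton_ext_of_iso A (asIso (δ (q + 1))).symm (p + 1) (hF p (q + 2))

/-- `Hom(L A, X) ≃+ Hom(A, R⁰G X)`. -/
noncomputable def homEquivZero (X : C) : (L.obj A ⟶ X) ≃+ (A ⟶ (G.rightDerived 0).obj X) :=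
  have : L.Additive := adj.left_adjoint_additive
  have : PreservesLimits G := adj.rightAdjoint_preservesLimits
  (adj.homAddEquiv A X).trans
    { toFun := fun a => a ≫ (G.rightDerivedZeroIsoSelf).inv.app X
      invFun := fun b => b ≫ (G.rightDerivedZeroIsoSelf).hom.app X
      left_inv := fun a => by
        change (a ≫ _) ≫ _ = a
        rw [Category.assoc, Iso.inv_hom_id_app, Category.comp_id]
      right_inv := fun b => by
        change (b ≫ _) ≫ _ = b
        rw [Category.assoc, Iso.hom_inv_id_app, Category.comp_id]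
      map_add' := fun a b => Preadditive.add_comp _ _ _ a b _ }

lemma homEquivZero_apply (X : C) (a : L.obj A ⟶ X) :
    have : PreservesLimits G := adj.rightAdjoint_preservesLimits
    homEquivZero adj A X a = adj.homEquiv A X a ≫ (G.rightDerivedZeroIsoSelf).inv.app X := rfl

lemma homEquivZero_naturality {X Y : C} (g : X ⟶ Y) (a : L.obj A ⟶ X) :
    homEquivZero adj A Y (a ≫ g) = homEquivZero adj A X a ≫ (G.rightDerived 0).map g := by
  have : PreservesLimits G := adj.rightAdjoint_preservesLimits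
  rw [homEquivZero_apply, homEquivZero_apply, adj.homEquiv_naturality_right, Category.assoc,
    Category.assoc]
  congr 1
  exact ((G.rightDerivedZeroIsoSelf).inv.naturality g)

/-- `Ext^{n+1}(B, I/F) ≃+ Ext^{n+2}(B, F)`. -/
lemma nonempty_ext_shift (B F : C) (n : ℕ) :
    Nonempty (Ext.{w} B (ses F).X₃ (n + 1) ≃+ Ext.{w} B F (n + 2)) := by
  have hS := ses_shortExact F
  have hz : ∀ (m : ℕ) (x : Ext.{w} B (ses F).X₂ (m + 1)), x = 0 := fun m x =>
    Ext.eq_zero_of_injective x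
  refine ⟨AddEquiv.ofBijective (hS.extClass.postcomp B (rfl : n + 1 + 1 = n + 2)) ⟨?_, ?_⟩⟩
  · rw [injective_iff_map_eq_zero]
    intro x₃ hx₃
    obtain ⟨x₂, rfl⟩ := Ext.covariant_sequence_exact₃ B hS x₃ rfl hx₃
    rw [hz n x₂, Ext.zero_comp]
  · intro x₁
    obtain ⟨x₃, hx₃⟩ := Ext.covariant_sequence_exact₁ B hS x₁ (hz (n + 1) _)
      (rfl : n + 1 + 1 = n + 2)
    exact ⟨x₃, hx₃⟩

/-- the connecting map `Hom(B, I/F) → Ext¹(B, F)` -/
noncomputable def conn (B F : C) : (B ⟶ (ses F).X₃) →+ Ext.{w} B F 1 :=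
  ((ses_shortExact F).extClass.postcomp B (zero_add 1)).comp
    (Ext.addEquiv₀.{w}.symm.toAddMonoidHom)

lemma conn_apply (B F : C) (φ : B ⟶ (ses F).X₃) :
    conn.{w} B F φ = (Ext.mk₀ φ).comp (ses_shortExact F).extClass (zero_add 1) := rfl

lemma conn_surjective (B F : C) : Function.Surjective (conn.{w} B F) := by
  intro x₁
  obtain ⟨x₃, hx₃⟩ := Ext.covariant_sequence_exact₁ B (ses_shortExact F) x₁
    (Ext.eq_zero_of_injective _) (zero_add 1)
  obtain ⟨φ, rfl⟩ := (Ext.mk₀_bijective B _).2 x₃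
  exact ⟨φ, hx₃⟩

lemma conn_eq_zero_iff (B F : C) (φ : B ⟶ (ses F).X₃) :
    conn.{w} B F φ = 0 ↔ ∃ ψ : B ⟶ (ses F).X₂, ψ ≫ (ses F).g = φ := by
  rw [conn_apply]
  constructor
  · intro h
    obtain ⟨x₂, hx₂⟩ := Ext.covariant_sequence_exact₃ B (ses_shortExact F) (Ext.mk₀ φ)
      (zero_add 1) h
    obtain ⟨ψ, rfl⟩ := (Ext.mk₀_bijective B _).2 x₂
    refine ⟨ψ, (Ext.mk₀_bijective B _).1 ?_⟩
    rw [← hx₂, Ext.mk₀_comp_mk₀]
  · rintro ⟨ψ, rfl⟩
    rw [← Ext.mk₀_comp_mk₀, Ext.comp_assoc_of_second_deg_zero,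
      ShortComplex.ShortExact.comp_extClass]
    exact Ext.comp_zero (Ext.mk₀ ψ) _ 1 1 (zero_add 1)

include adj in
lemma nonempty_zero (F : C) :
    Nonempty (Ext.{w} (L.obj A) F 0 ≃+ (A ⟶ (G.rightDerived 0).obj F)) :=
  ⟨Ext.addEquiv₀.trans (homEquivZero adj A F)⟩

include adj in
lemma nonempty_one {F : C} (hF : Acyc.{w} G A F) :
    Nonempty (Ext.{w} (L.obj A) F 1 ≃+ (A ⟶ (G.rightDerived 1).obj F)) := by
  obtain ⟨δ, hiso, hepi, hmono, ⟨w₁, e₁⟩, ⟨w₂, e₂⟩⟩ := exists_delta G F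
  refine ⟨Groth.Agent.Lib.ExtAdjunction.addEquivOfSurjective (conn.{w} (L.obj A) F)
    (Preadditive.rightComp A (δ 0)) (conn_surjective _ _) ?_
    (homEquivZero adj A (ses F).X₃) ?_⟩
  · intro φ
    exact exists_comp_d_eq A _ _ (δ 0) w₁ w₂ e₁ e₂
      (subsingleton_ext_rightDerived_zero_injective adj A _ 0) (hF 1 0) φ
  · intro z
    rw [conn_eq_zero_iff]
    change _ ↔ homEquivZero adj A (ses F).X₃ z ≫ δ 0 = 0
    rw [comp_d_eq_zero_iff A _ _ (δ 0) w₁ w₂ e₁ e₂ (hF 0 0)]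
    constructor
    · rintro ⟨ψ, rfl⟩
      exact ⟨homEquivZero adj A _ ψ, (homEquivZero_naturality adj A _ ψ).symm⟩
    · rintro ⟨χ, hχ⟩
      refine ⟨(homEquivZero adj A _).symm χ, (homEquivZero adj A _).injective ?_⟩
      rw [homEquivZero_naturality, AddEquiv.apply_symm_apply, hχ]

include adj in
theorem nonempty_succ : ∀ (q : ℕ) (F : C), Acyc.{w} G A F →
    Nonempty (Ext.{w} (L.obj A) F (q + 1) ≃+ (A ⟶ (G.rightDerived (q + 1)).obj F))
  | 0, F, hF => nonempty_one adj A hF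
  | q + 1, F, hF => by
    obtain ⟨e₁⟩ := nonempty_ext_shift.{w} (L.obj A) F q
    obtain ⟨e₂⟩ := nonempty_succ q (ses F).X₃ (acyc_X₃ adj A hF)
    obtain ⟨δ, hiso, -⟩ := exists_delta G F
    have := hiso q
    let e := asIso (δ (q + 1))
    let e₃ : (A ⟶ (G.rightDerived (q + 1)).obj (ses F).X₃) ≃+
        (A ⟶ (G.rightDerived (q + 2)).obj F) :=
      { toFun := fun a => a ≫ e.hom
        invFun := fun b => b ≫ e.inv
        left_inv := fun a => by
          change (a ≫ _) ≫ _ = a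
          rw [Category.assoc, Iso.hom_inv_id, Category.comp_id]
        right_inv := fun b => by
          change (b ≫ _) ≫ _ = b
          rw [Category.assoc, Iso.inv_hom_id, Category.comp_id]
        map_add' := fun a b => Preadditive.add_comp _ _ _ a b _ }
    exact ⟨e₁.symm.trans (e₂.trans e₃)⟩

include adj in
/-- **Degenerate Grothendieck spectral sequence**: if `Ext^{p+1}(A, R^q G F) = 0` for all `p, q`
then `Ext^q(L A, F) ≃+ Hom(A, R^q G F)`. -/
theorem nonempty_ext_addEquiv_hom {F : C} (hF : Acyc.{w} G A F) (q : ℕ) :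
    Nonempty (Ext.{w} (L.obj A) F q ≃+ (A ⟶ (G.rightDerived q).obj F)) := by
  cases q with
  | zero => exact nonempty_zero adj A F
  | succ q => exact nonempty_succ adj A q F hF

end Main

end Groth.Agent.LerayDegen31
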