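import Mathlib
import Groth.Agent.Lib.CohPre4
import Groth.Prelude.Def_CohSite

/-!
# Right derived functors of sections over an object of a small site (helper65)

* `rightDerivedPostcompIsoApp F G q X : ((F ⋙ G).rightDerived q).obj X ≅ G.obj ((F.rightDerived q).obj X)`
  for `G` exact.
* `sec J V : Sheaf J Ab ⥤ Ab` (sections over `V`) and
  `nonempty_rightDerived_sec_iso : (R^p Γ(V,-)) F ≅ H^p(V, F)`.
-/

universe u

namespace Groth.Agent.Lib.LeraySec65

open CategoryTheory Limits Opposite

section Postcomp

variable {A B B' : Type*} [Category A] [Abelian A] [HasInjectiveResolutions A]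
  [Category B] [Abelian B] [Category B'] [Abelian B']
  (F : A ⥤ B) [F.Additive] (G : B ⥤ B') [G.Additive]
  [PreservesFiniteLimits G] [PreservesFiniteColimits G]

/-- Post-composition with an exact functor commutes with right derived functors (objectwise). -/
noncomputable def rightDerivedPostcompIsoApp (q : ℕ) (X : A) :
    ((F ⋙ G).rightDerived q).obj X ≅ G.obj ((F.rightDerived q).obj X) :=
  (injectiveResolution X).isoRightDerivedObj (F ⋙ G) q ≪≫
    ((((F.mapHomologicalComplex _).obj (injectiveResolution X).cocomplex).sc q).mapHomologyIso G) ≪≫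
    G.mapIso ((injectiveResolution X).isoRightDerivedObj F q).symm

end Postcomp

section Sec

variable {C : Type u} [SmallCategory C] (J : GrothendieckTopology C) (V : C)

/-- Sections over `V` of abelian sheaves. -/
noncomputable abbrev sec : Sheaf J AddCommGrpCat.{u} ⥤ AddCommGrpCat.{u} :=
  sheafToPresheaf J AddCommGrpCat.{u} ⋙ (evaluation Cᵒᵖ AddCommGrpCat.{u}).obj (op V)

instance : (sec J V).Additive := inferInstance

instance : PreservesFiniteLimits (sec J V) := inferInstance

/-- `R^p Γ(V, -) F ≅ H^p(V, F)`. -/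
theorem nonempty_rightDerived_sec_iso (F : Sheaf J AddCommGrpCat.{u}) (p : ℕ) :
    Nonempty (((sec J V).rightDerived p).obj F ≅ AddCommGrpCat.of (CohSite.HU F p V)) := by
  obtain ⟨e⟩ := Groth.Agent.Lib.CohPresheafDerived.nonempty_rightDerived_sheafToPresheaf_iso J F p
  exact ⟨rightDerivedPostcompIsoApp (sheafToPresheaf J AddCommGrpCat.{u})
    ((evaluation Cᵒᵖ AddCommGrpCat.{u}).obj (op V)) p F ≪≫
    ((evaluation Cᵒᵖ AddCommGrpCat.{u}).obj (op V)).mapIso e⟩

end Sec

end Groth.Agent.Lib.LeraySec65
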