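import Groth.Agent.Lib.CoprimeLeadReg99
import Groth.Prelude.Def_W4c1bouilletffgsL3

/-!
# Lie3Mod: the linear forms and the Jacobi polynomials are regular sequences (helper99)

Both follow from `CoprimeLeadReg99.isRegular_of_coprime` (coprime lex-leading monomials), the
second after renaming the variables so that `g > e > c > f > i > h > a > b > d`.
-/

set_option autoImplicit false

namespace Groth.Agent.Lib.Lie3Reg99

open MvPolynomial Groth.Agent.Lib.CoprimeLeadReg99 Lie3Mod
open scoped MonomialOrder

variable (A : Type*) [CommRing A]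

lemma X_mul_X_eq (a b : Fin 9) :
    (X a * X b : D A) = monomial (Finsupp.single a 1 + Finsupp.single b 1) 1 := by
  simp [X, monomial_mul]

lemma X_eq (a : Fin 9) : (X a : D A) = monomial (Finsupp.single a 1) 1 := rfl

/-- Transport of regular sequences along a ring isomorphism. -/
theorem isRegular_map_ringEquiv {R S : Type*} [CommRing R] [CommRing S] (e : R ≃+* S)
    (rs : List R) : RingTheory.Sequence.IsRegular R rs ↔
      RingTheory.Sequence.IsRegular S (rs.map e) := by
  apply AddEquiv.isRegular_congr (e := e.toAddEquiv)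
  rw [List.forall₂_map_right_iff, List.forall₂_same]
  intro r _ x
  simp

section Linear

variable [Nontrivial A]

lemma lex_L1 : MonomialOrder.lex.degree (L1 A) = Finsupp.single 0 1 ∧
    MonomialOrder.lex.leadingCoeff (L1 A) = 1 := by
  have e : L1 A = monomial (Finsupp.single 0 1) 1 + monomial (Finsupp.single 8 1) (-1) := by
    simp only [L1, va, vi, X_eq, map_neg]
    ring
  rw [e]
  apply lex_degree_leadingCoeff _ (by intro h; simpa using DFunLike.congr_fun h 0) _ one_ne_zero
  intro b hb
  have := Finset.mem_singleton.mp (support_monomial_subset hb)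
  subst this
  exact ⟨0, by intro j hj; exact absurd hj (by simp), by simp⟩

lemma lex_L2 : MonomialOrder.lex.degree (L2 A) = Finsupp.single 1 1 ∧
    MonomialOrder.lex.leadingCoeff (L2 A) = 1 := by
  have e : L2 A = monomial (Finsupp.single 1 1) 1 + monomial (Finsupp.single 5 1) 1 := by
    simp only [L2, vb, vf, X_eq]
  rw [e]
  apply lex_degree_leadingCoeff _ (by intro h; simpa using DFunLike.congr_fun h 1) _ one_ne_zero
  intro b hb
  have := Finset.mem_singleton.mp (support_monomial_subset hb)
  subst this
  refine ⟨1, ?_, by simp⟩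
  intro j hj
  fin_cases j <;> first | (exfalso; revert hj; decide) | simp

lemma lex_L3 : MonomialOrder.lex.degree (L3 A) = Finsupp.single 3 1 ∧
    MonomialOrder.lex.leadingCoeff (L3 A) = 1 := by
  have e : L3 A = monomial (Finsupp.single 3 1) 1 + monomial (Finsupp.single 7 1) 1 := by
    simp only [L3, vd, vh, X_eq]
  rw [e]
  apply lex_degree_leadingCoeff _ (by intro h; simpa using DFunLike.congr_fun h 3) _ one_ne_zero
  intro b hb
  have := Finset.mem_singleton.mp (support_monomial_subset hb)
  subst this
  refine ⟨3, ?_, by simp⟩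
  intro j hj
  fin_cases j <;> first | (exfalso; revert hj; decide) | simp

theorem isRegular_L : RingTheory.Sequence.IsRegular (D A) [L1 A, L2 A, L3 A] := by
  apply isRegular_of_coprime (m := MonomialOrder.lex)
  · intro f hf
    simp only [List.mem_cons, List.not_mem_nil, or_false] at hf
    rcases hf with rfl | rfl | rfl
    · rw [(lex_L1 A).2]; exact isUnit_one
    · rw [(lex_L2 A).2]; exact isUnit_one
    · rw [(lex_L3 A).2]; exact isUnit_one
  · intro f hf
    simp only [List.mem_cons, List.not_mem_nil, or_false] at hf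
    rcases hf with rfl | rfl | rfl
    · rw [(lex_L1 A).1]; intro h; simpa using DFunLike.congr_fun h 0
    · rw [(lex_L2 A).1]; intro h; simpa using DFunLike.congr_fun h 1
    · rw [(lex_L3 A).1]; intro h; simpa using DFunLike.congr_fun h 3
  · simp only [List.pairwise_cons, List.mem_cons, List.not_mem_nil, or_false, forall_eq_or_imp,
      forall_eq, IsEmpty.forall_iff, implies_true, List.Pairwise.nil, and_true]
    rw [(lex_L1 A).1, (lex_L2 A).1, (lex_L3 A).1]
    refine ⟨⟨?_, ?_⟩, ?_⟩ <;> intro s <;> fin_cases s <;> simp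

end Linear

section Jacobi

/-- The permutation of the variables: `a,b,c,d,e,f,g,h,i ↦ 6,7,2,8,1,3,0,5,4`. -/
def perm : Equiv.Perm (Fin 9) where
  toFun := ![6, 7, 2, 8, 1, 3, 0, 5, 4]
  invFun := ![6, 4, 2, 5, 8, 7, 0, 1, 3]
  left_inv := by decide
  right_inv := by decide

/-- The renaming isomorphism. -/
noncomputable def ρ : D A ≃ₐ[A] D A := renameEquiv A perm

lemma ρ_X (j : Fin 9) : ρ A (X j) = X (perm j) := by
  simp [ρ]

lemma ρ_Q1 : ρ A (Q1 A) = monomial (Finsupp.single 0 1 + Finsupp.single 3 1) (-1) +
    (monomial (Finsupp.single 6 1 + Finsupp.single 5 1) 1 +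
      (monomial (Finsupp.single 8 1 + Finsupp.single 4 1) 1 +
        monomial (Finsupp.single 7 1 + Finsupp.single 0 1) (-1))) := by
  simp only [Q1, va, vb, vd, vf, vg, vh, vi, map_add, map_sub, map_mul, ρ_X]
  have h : ∀ j : Fin 9, perm j = (![6, 7, 2, 8, 1, 3, 0, 5, 4] : Fin 9 → Fin 9) j := fun _ => rfl
  simp only [h, Matrix.cons_val]
  rw [X_mul_X_eq, X_mul_X_eq, X_mul_X_eq, X_mul_X_eq, map_neg, map_neg]
  have c1 : (Finsupp.single (3 : Fin 9) 1 + Finsupp.single 0 1 : Fin 9 →₀ ℕ) =
      Finsupp.single 0 1 + Finsupp.single 3 1 := add_comm _ _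
  rw [c1]
  ring

lemma ρ_Q2 : ρ A (Q2 A) = monomial (Finsupp.single 1 1 + Finsupp.single 4 1) 1 +
    (monomial (Finsupp.single 7 1 + Finsupp.single 8 1) 1 +
      (monomial (Finsupp.single 3 1 + Finsupp.single 5 1) (-1) +
        monomial (Finsupp.single 6 1 + Finsupp.single 1 1) (-1))) := by
  simp only [Q2, va, vb, vd, ve, vf, vh, vi, map_add, map_sub, map_mul, ρ_X]
  have h : ∀ j : Fin 9, perm j = (![6, 7, 2, 8, 1, 3, 0, 5, 4] : Fin 9 → Fin 9) j := fun _ => rfl
  simp only [h, Matrix.cons_val]
  rw [X_mul_X_eq, X_mul_X_eq, X_mul_X_eq, X_mul_X_eq, map_neg, map_neg]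
  have c1 : (Finsupp.single (4 : Fin 9) 1 + Finsupp.single 1 1 : Fin 9 →₀ ℕ) =
      Finsupp.single 1 1 + Finsupp.single 4 1 := add_comm _ _
  rw [c1]
  ring

lemma ρ_Q3 : ρ A (Q3 A) = monomial (Finsupp.single 2 1 + Finsupp.single 5 1) 1 +
    (monomial (Finsupp.single 8 1 + Finsupp.single 2 1) 1 +
      (monomial (Finsupp.single 6 1 + Finsupp.single 3 1) (-1) +
        monomial (Finsupp.single 7 1 + Finsupp.single 4 1) (-1))) := by
  simp only [Q3, va, vb, vc, vd, vf, vh, vi, map_add, map_sub, map_mul, ρ_X]
  have h : ∀ j : Fin 9, perm j = (![6, 7, 2, 8, 1, 3, 0, 5, 4] : Fin 9 → Fin 9) j := fun _ => rfl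
  simp only [h, Matrix.cons_val]
  rw [X_mul_X_eq, X_mul_X_eq, X_mul_X_eq, X_mul_X_eq, map_neg, map_neg]
  have c1 : (Finsupp.single (5 : Fin 9) 1 + Finsupp.single 2 1 : Fin 9 →₀ ℕ) =
      Finsupp.single 2 1 + Finsupp.single 5 1 := add_comm _ _
  rw [c1]
  ring

variable [Nontrivial A]

lemma lex_Q1 : MonomialOrder.lex.degree (ρ A (Q1 A)) = Finsupp.single 0 1 + Finsupp.single 3 1 ∧
    MonomialOrder.lex.leadingCoeff (ρ A (Q1 A)) = -1 := by
  rw [ρ_Q1]
  apply lex_degree_leadingCoeff _ (by intro h; simpa using DFunLike.congr_fun h 0) _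
    (neg_ne_zero.mpr one_ne_zero)
  intro b hb
  rcases Finset.mem_union.mp (support_add hb) with hb | hb
  · have := Finset.mem_singleton.mp (support_monomial_subset hb)
    subst this
    exact ⟨0, by intro j hj; exact absurd hj (by simp), by simp⟩
  · rcases Finset.mem_union.mp (support_add hb) with hb | hb
    · have := Finset.mem_singleton.mp (support_monomial_subset hb)
      subst this
      exact ⟨0, by intro j hj; exact absurd hj (by simp), by simp⟩
    · have := Finset.mem_singleton.mp (support_monomial_subset hb)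
      subst this
      refine ⟨3, ?_, by simp⟩
      intro j hj
      fin_cases j <;> first | (exfalso; revert hj; decide) | simp

lemma lex_Q2 : MonomialOrder.lex.degree (ρ A (Q2 A)) = Finsupp.single 1 1 + Finsupp.single 4 1 ∧
    MonomialOrder.lex.leadingCoeff (ρ A (Q2 A)) = 1 := by
  rw [ρ_Q2]
  apply lex_degree_leadingCoeff _ (by intro h; simpa using DFunLike.congr_fun h 1) _ one_ne_zero
  intro b hb
  rcases Finset.mem_union.mp (support_add hb) with hb | hb
  · have := Finset.mem_singleton.mp (support_monomial_subset hb)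
    subst this
    refine ⟨1, ?_, by simp⟩
    intro j hj
    fin_cases j <;> first | (exfalso; revert hj; decide) | simp
  · rcases Finset.mem_union.mp (support_add hb) with hb | hb
    · have := Finset.mem_singleton.mp (support_monomial_subset hb)
      subst this
      refine ⟨1, ?_, by simp⟩
      intro j hj
      fin_cases j <;> first | (exfalso; revert hj; decide) | simp
    · have := Finset.mem_singleton.mp (support_monomial_subset hb)
      subst this
      refine ⟨4, ?_, by simp⟩
      intro j hj
      fin_cases j <;> first | (exfalso; revert hj; decide) | simp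

lemma lex_Q3 : MonomialOrder.lex.degree (ρ A (Q3 A)) = Finsupp.single 2 1 + Finsupp.single 5 1 ∧
    MonomialOrder.lex.leadingCoeff (ρ A (Q3 A)) = 1 := by
  rw [ρ_Q3]
  apply lex_degree_leadingCoeff _ (by intro h; simpa using DFunLike.congr_fun h 2) _ one_ne_zero
  intro b hb
  rcases Finset.mem_union.mp (support_add hb) with hb | hb
  · have := Finset.mem_singleton.mp (support_monomial_subset hb)
    subst this
    refine ⟨5, ?_, by simp⟩
    intro j hj
    fin_cases j <;> first | (exfalso; revert hj; decide) | simp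
  · rcases Finset.mem_union.mp (support_add hb) with hb | hb
    · have := Finset.mem_singleton.mp (support_monomial_subset hb)
      subst this
      refine ⟨2, ?_, by simp⟩
      intro j hj
      fin_cases j <;> first | (exfalso; revert hj; decide) | simp
    · have := Finset.mem_singleton.mp (support_monomial_subset hb)
      subst this
      refine ⟨2, ?_, by simp⟩
      intro j hj
      fin_cases j <;> first | (exfalso; revert hj; decide) | simp

theorem isRegular_Q : RingTheory.Sequence.IsRegular (D A) [Q1 A, Q2 A, Q3 A] := by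
  rw [isRegular_map_ringEquiv (ρ A).toRingEquiv]
  change RingTheory.Sequence.IsRegular (D A) [ρ A (Q1 A), ρ A (Q2 A), ρ A (Q3 A)]
  apply isRegular_of_coprime (m := MonomialOrder.lex)
  · intro f hf
    simp only [List.mem_cons, List.not_mem_nil, or_false] at hf
    rcases hf with rfl | rfl | rfl
    · rw [(lex_Q1 A).2]; exact isUnit_one.neg
    · rw [(lex_Q2 A).2]; exact isUnit_one
    · rw [(lex_Q3 A).2]; exact isUnit_one
  · intro f hf
    simp only [List.mem_cons, List.not_mem_nil, or_false] at hf
    rcases hf with rfl | rfl | rfl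
    · rw [(lex_Q1 A).1]; intro h; simpa using DFunLike.congr_fun h 0
    · rw [(lex_Q2 A).1]; intro h; simpa using DFunLike.congr_fun h 1
    · rw [(lex_Q3 A).1]; intro h; simpa using DFunLike.congr_fun h 2
  · simp only [List.pairwise_cons, List.mem_cons, List.not_mem_nil, or_false, forall_eq_or_imp,
      forall_eq, IsEmpty.forall_iff, implies_true, List.Pairwise.nil, and_true]
    rw [(lex_Q1 A).1, (lex_Q2 A).1, (lex_Q3 A).1]
    refine ⟨⟨?_, ?_⟩, ?_⟩ <;> intro s <;> fin_cases s <;> simp

end Jacobi

end Groth.Agent.Lib.Lie3Reg99
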