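import Groth.Agent.Lib.Lie3X8
import Groth.Agent.Lib.FTDim
import Groth.Agent.Lib.DimDominant97
import Groth.Agent.S2680
import Groth.Agent.Lib.H94RegCount

/-!
# Lie3Mod: `Spec (D/J)` is smooth at the point `(0,1,0,0,0,t,0,0,0)` (helper99)

`D/J` is a domain of finite type over `k` containing `P6 = k[l1,l2,l3,f,h,i]`, so every local ring
at a maximal ideal has dimension `≥ 6`; at the given point the relations `Q2`, `Q3`, `Q1 + detM`
eliminate three of the nine generators of the maximal ideal modulo its square (Nakayama).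
-/

set_option autoImplicit false
universe u

namespace Groth.Agent.Lib.Lie3Smooth99

open MvPolynomial Lie3Mod Groth.Agent.Lib.Lie3X IsLocalRing

variable (k : Type u) [Field k]

/-- `Theta ∘ iota = C`. -/
lemma Theta_iota (q : P6 k) : Theta k (iota k q) = C q := by
  have : ((Theta k).comp (iota k) : P6 k →ₐ[k] MvPolynomial (Fin 3) (P6 k)) =
      (IsScalarTower.toAlgHom k (P6 k) (MvPolynomial (Fin 3) (P6 k))) := by
    apply MvPolynomial.algHom_ext
    intro j
    fin_cases j <;> simp [Theta, iota, MvPolynomial.algebraMap_eq]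
  exact DFunLike.congr_fun this q

lemma psi_iota (q : P6 k) : psi k (iota k q) = algebraMap (P6 k) (T6 k) q := by
  rw [psi_apply, Theta_iota, Data.Inv.phi_C]

/-- `P6 → D/J` is injective. -/
lemma injective_P6 :
    Function.Injective ((Ideal.Quotient.mkₐ k (idJ k)).comp (iota k) : P6 k →ₐ[k] D k ⧸ idJ k) := by
  rw [injective_iff_map_eq_zero]
  intro q hq
  have h1 : iota k q ∈ idJ k := Ideal.Quotient.eq_zero_iff_mem.mp hq
  rw [← ker_psi, RingHom.mem_ker, psi_iota] at h1
  exact (injective_iff_map_eq_zero _).mp (inj6 k) q h1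

instance : IsDomain (D k ⧸ idJ k) := by
  have := idJ_isPrime k
  exact Ideal.Quotient.isDomain _

/-- `dim D/J ≥ 6`. -/
lemma six_le_ringKrullDim : (6 : WithBot ℕ∞) ≤ ringKrullDim (D k ⧸ idJ k) := by
  have h := Groth.Agent.Lib.DimDominant97.ringKrullDim_le_of_injective_domains k (P6 k)
    (D k ⧸ idJ k) _ (injective_P6 k)
  rw [Groth.Agent.Lib.FTDim.ringKrullDim_mvPolynomial k 6] at h
  exact_mod_cast h

section PointIdeal

variable {σ : Type*} {R : Type*} [CommRing R]

/-- `p ≡ p(x)` modulo the ideal of the point `x`. -/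
lemma sub_C_eval_mem (x : σ → R) (p : MvPolynomial σ R) :
    p - C (eval x p) ∈ Ideal.span (Set.range fun i => (X i - C (x i) : MvPolynomial σ R)) := by
  induction p using MvPolynomial.induction_on with
  | C a => simp
  | add p q hp hq =>
    have : p + q - C (eval x (p + q)) = (p - C (eval x p)) + (q - C (eval x q)) := by
      rw [map_add, map_add]; ring
    rw [this]
    exact Ideal.add_mem _ hp hq
  | mul_X p i hp =>
    have : p * X i - C (eval x (p * X i)) =
        p * (X i - C (x i)) + (p - C (eval x p)) * C (x i) := by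
      rw [map_mul, eval_X, map_mul]; ring
    rw [this]
    exact Ideal.add_mem _ (Ideal.mul_mem_left _ _ (Ideal.subset_span ⟨i, rfl⟩))
      (Ideal.mul_mem_right _ _ hp)

/-- The ideal of a rational point is maximal. -/
lemma isMaximal_span_X_sub_C (K : Type*) [Field K] (x : σ → K) :
    (Ideal.span (Set.range fun i => (X i - C (x i) : MvPolynomial σ K))).IsMaximal := by
  have hker : Ideal.span (Set.range fun i => (X i - C (x i) : MvPolynomial σ K)) =
      RingHom.ker (eval x) := by
    apply le_antisymm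
    · rw [Ideal.span_le]
      rintro _ ⟨i, rfl⟩
      simp [RingHom.mem_ker]
    · intro p hp
      have := sub_C_eval_mem x p
      rwa [RingHom.mem_ker.mp hp, map_zero, sub_zero] at this
  rw [hker]
  exact RingHom.ker_isMaximal_of_surjective _ (fun a => ⟨C a, by simp⟩)

end PointIdeal

/-- The point. -/
def pt (t : k) : Fin 9 → k := ![0, 1, 0, 0, 0, t, 0, 0, 0]

lemma span_pt (t : k) :
    Ideal.span ({X 0, X 1 - 1, X 2, X 3, X 4, X 5 - C t, X 6, X 7, X 8} : Set (D k)) =
      Ideal.span (Set.range fun i => (X i - C (pt k t i) : D k)) := by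
  congr 1
  ext y
  simp only [Set.mem_insert_iff, Set.mem_singleton_iff, Set.mem_range]
  constructor
  · rintro (rfl | rfl | rfl | rfl | rfl | rfl | rfl | rfl | rfl)
    · exact ⟨0, by simp [pt]⟩
    · exact ⟨1, by simp [pt]⟩
    · exact ⟨2, by simp [pt]⟩
    · exact ⟨3, by simp [pt]⟩
    · exact ⟨4, by simp [pt]⟩
    · exact ⟨5, by simp [pt]⟩
    · exact ⟨6, by simp [pt]⟩
    · exact ⟨7, by simp [pt]⟩
    · exact ⟨8, by simp [pt]⟩
  · rintro ⟨i, rfl⟩
    fin_cases i <;> simp [pt]

/-- Nakayama: the relations eliminate `d`, `i`, `g` modulo `m²`. -/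
lemma edim_le_six {S : Type*} [CommRing S] [IsLocalRing S] [IsNoetherianRing S]
    (a β c d e f g h i τ : S)
    (hmax : maximalIdeal S = Ideal.span {a, β, c, d, e, f, g, h, i})
    (r1 : a * h + d * i - (f + τ) * g - (β + 1) * g = 0)
    (r2 : i * e + (β + 1) * d - (f + τ) * h - a * e = 0)
    (r3 : h * c + d * c - a * (f + τ) - (β + 1) * i = 0)
    (r4 : -(c * h ^ 2) + g * (β + 1) * (f + τ) + e * i ^ 2 - g * e * c +
      h * (β + 1) * i - i * h * (f + τ) = 0) :
    (maximalIdeal S).spanFinrank ≤ 6 := by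
  set m := maximalIdeal S with hm
  have hmem : ∀ y ∈ ({a, β, c, d, e, f, g, h, i} : Set S), y ∈ m := by
    intro y hy
    rw [hmax]
    exact Ideal.subset_span hy
  have ma : a ∈ m := hmem _ (by simp)
  have mβ : β ∈ m := hmem _ (by simp)
  have mc : c ∈ m := hmem _ (by simp)
  have md : d ∈ m := hmem _ (by simp)
  have me : e ∈ m := hmem _ (by simp)
  have mf : f ∈ m := hmem _ (by simp)
  have mg : g ∈ m := hmem _ (by simp)
  have mh : h ∈ m := hmem _ (by simp)
  have mi : i ∈ m := hmem _ (by simp)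
  let v : Fin 6 → S := ![a, β, c, e, f, h]
  let N' : Ideal S := Ideal.span (Set.range v)
  let K : Ideal S := N' ⊔ m * m
  have hv : ∀ j, v j ∈ K := fun j => Ideal.mem_sup_left (Ideal.subset_span ⟨j, rfl⟩)
  have Ka : a ∈ K := hv 0
  have Kβ : β ∈ K := hv 1
  have Kc : c ∈ K := hv 2
  have Ke : e ∈ K := hv 3
  have Kf : f ∈ K := hv 4
  have Kh : h ∈ K := hv 5
  have K2 : ∀ x ∈ m, ∀ y ∈ m, x * y ∈ K := fun x hx y hy =>
    Ideal.mem_sup_right (Ideal.mul_mem_mul hx hy)
  have Kd : d ∈ K := by
    have : d = τ * h - (i * e + β * d - f * h - a * e) := by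
      linear_combination r2
    rw [this]
    exact K.sub_mem (K.mul_mem_left _ Kh)
      (K.sub_mem (K.sub_mem (K.add_mem (K2 _ mi _ me) (K2 _ mβ _ md)) (K2 _ mf _ mh))
        (K2 _ ma _ me))
  have Ki : i ∈ K := by
    have : i = -(τ * a) + (h * c + d * c - a * f - β * i) := by
      linear_combination -r3
    rw [this]
    exact K.add_mem (K.neg_mem (K.mul_mem_left _ Ka))
      (K.sub_mem (K.sub_mem (K.add_mem (K2 _ mh _ mc) (K2 _ md _ mc)) (K2 _ ma _ mf))
        (K2 _ mβ _ mi))
  have Kg : g ∈ K := by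
    have : g = a * h + d * i - β * g + β * (f * g) + β * (τ * g) - c * (h * h) +
        e * (i * i) - g * (e * c) + h * (β * i) + h * i - i * (h * f) -
        i * (τ * h) := by
      linear_combination -r1 - r4
    rw [this]
    have mm : ∀ x, ∀ y ∈ m, x * y ∈ m := fun x y hy => m.mul_mem_left x hy
    refine K.sub_mem (K.sub_mem (K.add_mem (K.add_mem (K.sub_mem (K.add_mem (K.sub_mem
      (K.add_mem (K.add_mem (K.sub_mem (K.add_mem ?_ ?_) ?_) ?_) ?_) ?_) ?_) ?_) ?_) ?_) ?_) ?_
    · exact K2 _ ma _ mh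
    · exact K2 _ md _ mi
    · exact K2 _ mβ _ mg
    · exact K2 _ mβ _ (mm _ _ mg)
    · exact K2 _ mβ _ (mm _ _ mg)
    · exact K2 _ mc _ (mm _ _ mh)
    · exact K2 _ me _ (mm _ _ mi)
    · exact K2 _ mg _ (mm _ _ mc)
    · exact K2 _ mh _ (mm _ _ mi)
    · exact K2 _ mh _ mi
    · exact K2 _ mi _ (mm _ _ mf)
    · exact K2 _ mi _ (mm _ _ mh)
  have hle : m ≤ N' := by
    refine Submodule.le_of_le_smul_of_le_jacobson_bot (R := S) (M := S) (I := m) (N := N')
      (N' := m) (IsNoetherian.noetherian m) (IsLocalRing.maximalIdeal_le_jacobson ⊥) ?_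
    change m ≤ N' ⊔ m * m
    conv_lhs => rw [hmax]
    rw [Ideal.span_le]
    intro y hy
    simp only [Set.mem_insert_iff, Set.mem_singleton_iff] at hy
    rcases hy with rfl | rfl | rfl | rfl | rfl | rfl | rfl | rfl | rfl
    · exact Ka
    · exact Kβ
    · exact Kc
    · exact Kd
    · exact Ke
    · exact Kf
    · exact Kg
    · exact Kh
    · exact Ki
  have hN'le : N' ≤ m := by
    rw [Ideal.span_le]
    rintro _ ⟨j, rfl⟩
    fin_cases j
    · exact ma
    · exact mβ
    · exact mc
    · exact me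
    · exact mf
    · exact mh
  have hmN : m = N' := le_antisymm hle hN'le
  rw [hmN]
  exact Groth.Agent.Lib.H94RegCount.spanFinrank_span_range_le v

/-- **Smoothness of `Spec (D/J)` at the point `(0,1,0,0,0,t,0,0,0)`.** -/
theorem main (t : k) (P : Ideal (D k ⧸ idJ k)) [hPp : P.IsPrime]
    (hP : P = Ideal.map (Ideal.Quotient.mk (idJ k))
      (Ideal.span ({X 0, X 1 - 1, X 2, X 3, X 4, X 5 - C t, X 6, X 7, X 8} : Set (D k)))) :
    IsRegularLocalRing (Localization.AtPrime P) ∧ ringKrullDim (Localization.AtPrime P) = 6 := by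
  classical
  -- maximality
  have hM : (Ideal.span ({X 0, X 1 - 1, X 2, X 3, X 4, X 5 - C t, X 6, X 7, X 8} :
      Set (D k))).IsMaximal := by
    rw [span_pt]
    exact isMaximal_span_X_sub_C k _
  have hPmax : P.IsMaximal := by
    rcases Ideal.map_eq_top_or_isMaximal_of_surjective (Ideal.Quotient.mk (idJ k))
      Ideal.Quotient.mk_surjective hM with h | h
    · exact absurd (hP.trans h) hPp.ne_top
    · rw [hP]; exact h
  -- dimension
  obtain ⟨n, -, hn, hloc⟩ := Groth.Agent.S2680.result k (D k ⧸ idJ k)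
  have hdim : ringKrullDim (Localization.AtPrime P) = n := hloc P
  have h6 : (6 : WithBot ℕ∞) ≤ n := by
    rw [← hn]
    exact six_le_ringKrullDim k
  have hnoeth : IsNoetherianRing (Localization.AtPrime P) :=
    IsLocalization.isNoetherianRing P.primeCompl _ inferInstance
  -- embedding dimension
  let φ : D k →+* Localization.AtPrime P :=
    (algebraMap (D k ⧸ idJ k) (Localization.AtPrime P)).comp (Ideal.Quotient.mk (idJ k))
  have hφJ : ∀ q ∈ idJ k, φ q = 0 := by
    intro q hq
    change algebraMap (D k ⧸ idJ k) (Localization.AtPrime P) (Ideal.Quotient.mk (idJ k) q) = 0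
    rw [Ideal.Quotient.eq_zero_iff_mem.mpr hq, map_zero]
  have hmax : maximalIdeal (Localization.AtPrime P) =
      Ideal.span (φ '' ({X 0, X 1 - 1, X 2, X 3, X 4, X 5 - C t, X 6, X 7, X 8} : Set (D k))) := by
    rw [← IsLocalization.AtPrime.map_eq_maximalIdeal P (Localization.AtPrime P)]
    have hcongr := congrArg
      (Ideal.map (algebraMap (D k ⧸ idJ k) (Localization.AtPrime P))) hP
    rw [hcongr, Ideal.map_map, Ideal.map_span]
  set m := maximalIdeal (Localization.AtPrime P) with hm
  have hmem : ∀ y ∈ ({X 0, X 1 - 1, X 2, X 3, X 4, X 5 - C t, X 6, X 7, X 8} : Set (D k)),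
      φ y ∈ m := by
    intro y hy
    rw [hmax]
    exact Ideal.subset_span ⟨y, hy, rfl⟩
  set a' := φ (X 0) with ha'
  set β := φ (X 1 - 1) with hβ
  set c' := φ (X 2) with hc'
  set d' := φ (X 3) with hd'
  set e' := φ (X 4) with he'
  set f' := φ (X 5 - C t) with hf'
  set g' := φ (X 6) with hg'
  set h' := φ (X 7) with hh'
  set i' := φ (X 8) with hi'
  set τ := φ (C t) with hτ
  have ma : a' ∈ m := hmem _ (by simp)
  have mβ : β ∈ m := hmem _ (by simp)
  have mc : c' ∈ m := hmem _ (by simp)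
  have md : d' ∈ m := hmem _ (by simp)
  have me : e' ∈ m := hmem _ (by simp)
  have mf : f' ∈ m := hmem _ (by simp)
  have mg : g' ∈ m := hmem _ (by simp)
  have mh : h' ∈ m := hmem _ (by simp)
  have mi : i' ∈ m := hmem _ (by simp)
  have e1 : φ (X 1) = β + 1 := by rw [hβ, map_sub, map_one]; ring
  have e5 : φ (X 5) = f' + τ := by rw [hf', hτ, map_sub]; ring
  -- the relations
  have r1 : a' * h' + d' * i' - (f' + τ) * g' - (β + 1) * g' = 0 := by
    have := hφJ (Q1 k) (Ideal.subset_span (by simp))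
    simpa only [Q1, va, vb, vd, vf, vg, vh, vi, map_add, map_sub, map_mul, e1, e5] using this
  have r2 : i' * e' + (β + 1) * d' - (f' + τ) * h' - a' * e' = 0 := by
    have := hφJ (Q2 k) (Ideal.subset_span (by simp))
    simpa only [Q2, va, vb, vd, ve, vf, vh, vi, map_add, map_sub, map_mul, e1, e5] using this
  have r3 : h' * c' + d' * c' - a' * (f' + τ) - (β + 1) * i' = 0 := by
    have := hφJ (Q3 k) (Ideal.subset_span (by simp))
    simpa only [Q3, va, vb, vc, vd, vf, vh, vi, map_add, map_sub, map_mul, e1, e5] using this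
  have r4 : -(c' * h' ^ 2) + g' * (β + 1) * (f' + τ) + e' * i' ^ 2 - g' * e' * c' +
      h' * (β + 1) * i' - i' * h' * (f' + τ) = 0 := by
    have := hφJ (detM k) (Ideal.subset_span (by simp))
    simpa only [detM, vb, vc, ve, vf, vg, vh, vi, map_add, map_sub, map_mul, map_neg, map_pow,
      e1, e5] using this
  have hmax' : maximalIdeal (Localization.AtPrime P) =
      Ideal.span {a', β, c', d', e', f', g', h', i'} := by
    rw [← hm, hmax]
    simp only [Set.image_insert_eq, Set.image_singleton]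
    rfl
  have hspan : m.spanFinrank ≤ 6 :=
    edim_le_six a' β c' d' e' f' g' h' i' τ hmax' r1 r2 r3 r4
  have hspan' : (m.spanFinrank : WithBot ℕ∞) ≤ 6 := by exact_mod_cast hspan
  have hdle := ringKrullDim_le_spanFinrank_maximalIdeal (Localization.AtPrime P)
  rw [hdim] at hdle
  have hn6 : (n : WithBot ℕ∞) = 6 := le_antisymm (hdle.trans hspan') h6
  refine ⟨?_, by rw [hdim, hn6]⟩
  apply IsRegularLocalRing.of_spanFinrank_maximalIdeal_le
  rw [hdim, hn6]
  exact hspan'

end Groth.Agent.Lib.Lie3Smooth99
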