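import Mathlib.Algebra.MvPolynomial.CommRing
import Mathlib.Algebra.BigOperators.Intervals
import Mathlib.RingTheory.Ideal.Span
import Mathlib.RingTheory.Localization.Away.Basic

/-!
# Abstract normal-form / separation argument for the Lie3Mod cluster

`P` is a commutative ring with elements `l 0, l 1, l 2, f, h, i`, ring endomorphisms `p v`
("set `l v` to zero").  We prove that a family `ρ j k l` in normal form whose weighted sum vanishes
is zero (`inj`).
-/

set_option autoImplicit false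

namespace Groth.Agent.Lib.Lie3X

open Finset

variable {P : Type*} [CommRing P]

/-- Separation lemma. -/
theorem sep (x : P) (π : P →+* P) (hπx : π x = 0) (hreg : ∀ q, x * q = 0 → q = 0)
    (G : ℕ → P) (hG : ∀ k, 1 ≤ k → π (G k) = G k) :
    ∀ n : ℕ, (∑ k ∈ range (n + 1), x ^ (n - k) * G k = 0) → ∀ k ≤ n, G k = 0 := by
  intro n
  induction n with
  | zero =>
    intro hsum k hk
    have : k = 0 := by omega
    subst this
    simpa using hsum
  | succ n ih =>
    intro hsum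
    rw [sum_range_succ] at hsum
    have htop : G (n + 1) = 0 := by
      have h1 := congrArg π hsum
      rw [map_add, map_sum, map_zero] at h1
      have h2 : ∑ k ∈ range (n + 1), π (x ^ (n + 1 - k) * G k) = 0 := by
        apply sum_eq_zero
        intro k hk
        have hk' : k < n + 1 := mem_range.mp hk
        rw [map_mul, map_pow, hπx, zero_pow (by omega), zero_mul]
      rw [h2, zero_add, Nat.sub_self, pow_zero, one_mul, hG _ (by omega)] at h1
      exact h1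
    rw [htop, mul_zero, add_zero] at hsum
    have h3 : ∑ k ∈ range (n + 1), x ^ (n + 1 - k) * G k =
        x * ∑ k ∈ range (n + 1), x ^ (n - k) * G k := by
      rw [mul_sum]
      apply sum_congr rfl
      intro k hk
      have hk' : k < n + 1 := mem_range.mp hk
      have : n + 1 - k = (n - k) + 1 := by omega
      rw [this, pow_succ]
      ring
    rw [h3] at hsum
    have h4 := ih (hreg _ hsum)
    intro k hk
    rcases Nat.lt_or_ge k (n + 1) with h | h
    · exact h4 k (by omega)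
    · have : k = n + 1 := by omega
      rw [this]; exact htop

theorem reg_pow {x : P} (hreg : ∀ q, x * q = 0 → q = 0) (n : ℕ) : ∀ q, x ^ n * q = 0 → q = 0 := by
  induction n with
  | zero => intro q hq; simpa using hq
  | succ n ih =>
    intro q hq
    rw [pow_succ, mul_assoc] at hq
    exact hreg _ (ih _ hq)

theorem reg_mul {x y : P} (hx : ∀ q, x * q = 0 → q = 0) (hy : ∀ q, y * q = 0 → q = 0) :
    ∀ q, (x * y) * q = 0 → q = 0 := by
  intro q hq
  rw [mul_assoc] at hq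
  exact hy _ (hx _ hq)

theorem reg_neg {x : P} (hx : ∀ q, x * q = 0 → q = 0) : ∀ q, (-x) * q = 0 → q = 0 := by
  intro q hq
  rw [neg_mul, neg_eq_zero] at hq
  exact hx _ hq

/-- The abstract data. -/
structure Data (P : Type*) [CommRing P] where
  l : Fin 3 → P
  f : P
  h : P
  i : P
  p : Fin 3 → (P →+* P)
  p_l : ∀ u v, p u (l v) = if u = v then 0 else l v
  p_f : ∀ u, p u f = f
  p_h : ∀ u, p u h = h
  p_i : ∀ u, p u i = i
  p_idem : ∀ u q, p u (p u q) = p u q
  p_comm : ∀ u v q, p u (p v q) = p v (p u q)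
  div : ∀ u q, ∃ q', q = p u q + l u * q'
  reg_l : ∀ u q, l u * q = 0 → q = 0
  reg_h : ∀ q, h * q = 0 → q = 0
  reg_i : ∀ q, i * q = 0 → q = 0
  reg_g0 : ∀ q, (-(h * l 1) - f * l 2 + l 1 * l 2) * q = 0 → q = 0
  reg_g1 : ∀ q, (h * l 0 + i * l 2) * q = 0 → q = 0
  reg_g2 : ∀ q, (f * l 0 + i * l 1) * q = 0 → q = 0

namespace Data

variable (d : Data P)

/-- `γ 0 = -h l1 - f l2 + l1 l2` (paired with `l 0`, variable `e`). -/
def g0 : P := -(d.h * d.l 1) - d.f * d.l 2 + d.l 1 * d.l 2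
/-- `γ 1 = h l0 + i l2` (paired with `l 1`, variable `g`). -/
def g1 : P := d.h * d.l 0 + d.i * d.l 2
/-- `γ 2 = f l0 + i l1` (paired with `l 2`, variable `c`). -/
def g2 : P := d.f * d.l 0 + d.i * d.l 1

def γ : Fin 3 → P := ![d.g0, d.g1, d.g2]

@[simp] lemma p0_l0 : d.p 0 (d.l 0) = 0 := by simp [d.p_l]
@[simp] lemma p0_l1 : d.p 0 (d.l 1) = d.l 1 := by simp [d.p_l]
@[simp] lemma p0_l2 : d.p 0 (d.l 2) = d.l 2 := by simp [d.p_l]
@[simp] lemma p1_l0 : d.p 1 (d.l 0) = d.l 0 := by simp [d.p_l]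
@[simp] lemma p1_l1 : d.p 1 (d.l 1) = 0 := by simp [d.p_l]
@[simp] lemma p1_l2 : d.p 1 (d.l 2) = d.l 2 := by simp [d.p_l]
@[simp] lemma p2_l0 : d.p 2 (d.l 0) = d.l 0 := by simp [d.p_l]
@[simp] lemma p2_l1 : d.p 2 (d.l 1) = d.l 1 := by simp [d.p_l]
@[simp] lemma p2_l2 : d.p 2 (d.l 2) = 0 := by simp [d.p_l]

lemma p0_g0 : d.p 0 d.g0 = d.g0 := by simp [g0, d.p_f, d.p_h]
lemma p0_g1 : d.p 0 d.g1 = d.i * d.l 2 := by simp [g1, d.p_i, d.p_h]
lemma p1_g1 : d.p 1 d.g1 = d.g1 := by simp [g1, d.p_i, d.p_h]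
lemma p2_g2 : d.p 2 d.g2 = d.g2 := by simp [g2, d.p_i, d.p_f]
lemma p2_g0 : d.p 2 d.g0 = -(d.h * d.l 1) := by simp [g0, d.p_f, d.p_h]
lemma p2_g1 : d.p 2 d.g1 = d.h * d.l 0 := by simp [g1, d.p_i, d.p_h]

/-- Stage G. -/
theorem stageG (s : ℕ → P) (hs : ∀ l, 1 ≤ l → d.p 1 (s l) = s l) (n2 : ℕ)
    (hsum : ∑ l ∈ range (n2 + 1), d.l 1 ^ (n2 - l) * (d.g1 ^ l * s l) = 0) :
    ∀ l ≤ n2, s l = 0 := by
  have := sep (d.l 1) (d.p 1) d.p1_l1 (d.reg_l 1) (fun l => d.g1 ^ l * s l)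
    (fun l hl => by rw [map_mul, map_pow, d.p1_g1, hs l hl]) n2 hsum
  intro l hl
  exact reg_pow d.reg_g1 l _ (this l hl)

/-- Stage EG. -/
theorem stageEG (ρ : ℕ → ℕ → P) (hk : ∀ k l, 1 ≤ k → d.p 0 (ρ k l) = ρ k l)
    (hl : ∀ k l, 1 ≤ l → d.p 1 (ρ k l) = ρ k l) (n2 : ℕ) :
    ∀ n1 : ℕ, (∑ k ∈ range (n1 + 1), d.l 0 ^ (n1 - k) * (d.g0 ^ k *
        ∑ l ∈ range (n2 + 1), d.l 1 ^ (n2 - l) * (d.g1 ^ l * ρ k l)) = 0) →
      ∀ k ≤ n1, ∀ l ≤ n2, ρ k l = 0 := by
  intro n1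
  induction n1 with
  | zero =>
    intro hsum k hk0 l hl0
    have : k = 0 := by omega
    subst this
    simp only [zero_add, range_one, sum_singleton, Nat.sub_self, pow_zero, one_mul] at hsum
    exact d.stageG (fun l => ρ 0 l) (fun l h => hl 0 l h) n2 hsum l hl0
  | succ n1 ih =>
    intro hsum
    rw [sum_range_succ] at hsum
    -- top row vanishes
    have htop : ∀ l ≤ n2, ρ (n1 + 1) l = 0 := by
      have h1 := congrArg (d.p 0) hsum
      rw [map_add, map_sum, map_zero] at h1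
      have h2 : ∑ k ∈ range (n1 + 1), d.p 0 (d.l 0 ^ (n1 + 1 - k) * (d.g0 ^ k *
          ∑ l ∈ range (n2 + 1), d.l 1 ^ (n2 - l) * (d.g1 ^ l * ρ k l))) = 0 := by
        apply sum_eq_zero
        intro k hk'
        have hk'' : k < n1 + 1 := mem_range.mp hk'
        rw [map_mul, map_pow, d.p0_l0, zero_pow (by omega), zero_mul]
      rw [h2, zero_add, Nat.sub_self, pow_zero, one_mul, map_mul, map_pow, d.p0_g0, map_sum] at h1
      have h3 := reg_pow d.reg_g0 (n1 + 1) _ h1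
      have h4 : ∑ l ∈ range (n2 + 1), d.l 1 ^ (n2 - l) * ((d.i * d.l 2) ^ l * ρ (n1 + 1) l) = 0 := by
        rw [← h3]
        apply sum_congr rfl
        intro l _
        rw [map_mul, map_pow, d.p0_l1, map_mul, map_pow, d.p0_g1, hk (n1 + 1) l (by omega)]
      have h5 := sep (d.l 1) (d.p 1) d.p1_l1 (d.reg_l 1)
        (fun l => (d.i * d.l 2) ^ l * ρ (n1 + 1) l)
        (fun l hl' => by
          rw [map_mul, map_pow, map_mul, d.p_i, d.p1_l2, hl (n1 + 1) l hl']) n2 h4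
      intro l hl'
      exact reg_pow (reg_mul d.reg_i (d.reg_l 2)) l _ (h5 l hl')
    have hS : ∑ l ∈ range (n2 + 1), d.l 1 ^ (n2 - l) * (d.g1 ^ l * ρ (n1 + 1) l) = 0 := by
      apply sum_eq_zero
      intro l hl'
      rw [htop l (by have := mem_range.mp hl'; omega), mul_zero, mul_zero]
    rw [hS, mul_zero, mul_zero, add_zero] at hsum
    have h3 : ∑ k ∈ range (n1 + 1), d.l 0 ^ (n1 + 1 - k) * (d.g0 ^ k *
          ∑ l ∈ range (n2 + 1), d.l 1 ^ (n2 - l) * (d.g1 ^ l * ρ k l)) =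
        d.l 0 * ∑ k ∈ range (n1 + 1), d.l 0 ^ (n1 - k) * (d.g0 ^ k *
          ∑ l ∈ range (n2 + 1), d.l 1 ^ (n2 - l) * (d.g1 ^ l * ρ k l)) := by
      rw [mul_sum]
      apply sum_congr rfl
      intro k hk'
      have hk'' : k < n1 + 1 := mem_range.mp hk'
      have : n1 + 1 - k = (n1 - k) + 1 := by omega
      rw [this, pow_succ]
      ring
    rw [h3] at hsum
    have h4 := ih (d.reg_l 0 _ hsum)
    intro k hk' l hl'
    rcases Nat.lt_or_ge k (n1 + 1) with h | h
    · exact h4 k (by omega) l hl'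
    · have : k = n1 + 1 := by omega
      rw [this]; exact htop l hl'

/-- Normal form conditions on a coefficient family `ρ j k l` (`j` = exponent of `c`,
`k` = exponent of `e`, `l` = exponent of `g`). -/
structure NFρ (ρ : ℕ → ℕ → ℕ → P) : Prop where
  zero : ∀ j k l, 1 ≤ j → 1 ≤ k → 1 ≤ l → ρ j k l = 0
  fix2 : ∀ j k l, 1 ≤ j → d.p 2 (ρ j k l) = ρ j k l
  fix0 : ∀ j k l, 1 ≤ k → d.p 0 (ρ j k l) = ρ j k l
  fix1 : ∀ j k l, 1 ≤ l → d.p 1 (ρ j k l) = ρ j k l

/-- Injectivity on normal forms. -/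
theorem inj (ρ : ℕ → ℕ → ℕ → P) (hρ : d.NFρ ρ) (n1 n2 : ℕ) :
    ∀ n3 : ℕ, (∑ j ∈ range (n3 + 1), d.l 2 ^ (n3 - j) * (d.g2 ^ j *
        ∑ k ∈ range (n1 + 1), d.l 0 ^ (n1 - k) * (d.g0 ^ k *
          ∑ l ∈ range (n2 + 1), d.l 1 ^ (n2 - l) * (d.g1 ^ l * ρ j k l))) = 0) →
      ∀ j ≤ n3, ∀ k ≤ n1, ∀ l ≤ n2, ρ j k l = 0 := by
  intro n3
  induction n3 with
  | zero =>
    intro hsum j hj k hk l hl
    have : j = 0 := by omega
    subst this
    simp only [zero_add, range_one, sum_singleton, Nat.sub_self, pow_zero, one_mul] at hsum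
    exact d.stageEG (fun k l => ρ 0 k l) (fun k l h => hρ.fix0 0 k l h)
      (fun k l h => hρ.fix1 0 k l h) n2 n1 hsum k hk l hl
  | succ n3 ih =>
    intro hsum
    rw [sum_range_succ] at hsum
    have htop : ∀ k ≤ n1, ∀ l ≤ n2, ρ (n3 + 1) k l = 0 := by
      have h1 := congrArg (d.p 2) hsum
      rw [map_add, map_sum, map_zero] at h1
      have h2 : ∑ j ∈ range (n3 + 1), d.p 2 (d.l 2 ^ (n3 + 1 - j) * (d.g2 ^ j *
        ∑ k ∈ range (n1 + 1), d.l 0 ^ (n1 - k) * (d.g0 ^ k *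
          ∑ l ∈ range (n2 + 1), d.l 1 ^ (n2 - l) * (d.g1 ^ l * ρ j k l)))) = 0 := by
        apply sum_eq_zero
        intro j hj'
        have hj'' : j < n3 + 1 := mem_range.mp hj'
        rw [map_mul, map_pow, d.p2_l2, zero_pow (by omega), zero_mul]
      rw [h2, zero_add, Nat.sub_self, pow_zero, one_mul, map_mul, map_pow, d.p2_g2, map_sum] at h1
      have h3 := reg_pow d.reg_g2 (n3 + 1) _ h1
      -- rewrite the sum
      set G : ℕ → P := fun k => (-(d.h * d.l 1)) ^ k *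
        ∑ l ∈ range (n2 + 1), d.l 1 ^ (n2 - l) * ((d.h * d.l 0) ^ l * ρ (n3 + 1) k l) with hG
      have h4 : ∑ k ∈ range (n1 + 1), d.l 0 ^ (n1 - k) * G k = 0 := by
        rw [← h3]
        apply sum_congr rfl
        intro k _
        rw [map_mul, map_pow, d.p2_l0, map_mul, map_pow, d.p2_g0, map_sum]
        simp only [hG]
        congr 2
        apply sum_congr rfl
        intro l _
        rw [map_mul, map_pow, d.p2_l1, map_mul, map_pow, d.p2_g1, hρ.fix2 (n3 + 1) k l (by omega)]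
      have hGk : ∀ k, 1 ≤ k → G k = (-(d.h * d.l 1)) ^ k * (d.l 1 ^ n2 * ρ (n3 + 1) k 0) := by
        intro k hk
        simp only [hG]
        congr 1
        rw [sum_range_succ']
        have : ∑ l ∈ range n2, d.l 1 ^ (n2 - (l + 1)) * ((d.h * d.l 0) ^ (l + 1) *
            ρ (n3 + 1) k (l + 1)) = 0 := by
          apply sum_eq_zero
          intro l _
          rw [hρ.zero (n3 + 1) k (l + 1) (by omega) hk (by omega), mul_zero, mul_zero]
        rw [this, zero_add, Nat.sub_zero, pow_zero, one_mul]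
      have h5 := sep (d.l 0) (d.p 0) d.p0_l0 (d.reg_l 0) G
        (fun k hk => by
          rw [hGk k hk, map_mul, map_pow, map_neg, map_mul, d.p_h, d.p0_l1, map_mul, map_pow,
            d.p0_l1, hρ.fix0 (n3 + 1) k 0 hk]) n1 h4
      intro k hk l hl
      rcases Nat.eq_zero_or_pos k with hk0 | hkpos
      · subst hk0
        have h6 := h5 0 (by omega)
        simp only [hG, pow_zero, one_mul] at h6
        have h7 := sep (d.l 1) (d.p 1) d.p1_l1 (d.reg_l 1)
          (fun l => (d.h * d.l 0) ^ l * ρ (n3 + 1) 0 l)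
          (fun l hl' => by
            rw [map_mul, map_pow, map_mul, d.p_h, d.p1_l0, hρ.fix1 (n3 + 1) 0 l hl']) n2 h6
        exact reg_pow (reg_mul d.reg_h (d.reg_l 0)) l _ (h7 l hl)
      · rcases Nat.eq_zero_or_pos l with hl0 | hlpos
        · subst hl0
          have h6 := h5 k hk
          rw [hGk k hkpos] at h6
          have h7 := reg_pow (reg_neg (reg_mul d.reg_h (d.reg_l 1))) k _ h6
          exact reg_pow (d.reg_l 1) n2 _ h7
        · exact hρ.zero (n3 + 1) k l (by omega) hkpos hlpos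
    have hS : ∑ k ∈ range (n1 + 1), d.l 0 ^ (n1 - k) * (d.g0 ^ k *
          ∑ l ∈ range (n2 + 1), d.l 1 ^ (n2 - l) * (d.g1 ^ l * ρ (n3 + 1) k l)) = 0 := by
      apply sum_eq_zero
      intro k hk'
      have : ∑ l ∈ range (n2 + 1), d.l 1 ^ (n2 - l) * (d.g1 ^ l * ρ (n3 + 1) k l) = 0 := by
        apply sum_eq_zero
        intro l hl'
        rw [htop k (by have := mem_range.mp hk'; omega) l (by have := mem_range.mp hl'; omega),
          mul_zero, mul_zero]
      rw [this, mul_zero, mul_zero]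
    rw [hS, mul_zero, mul_zero, add_zero] at hsum
    have h3 : ∑ j ∈ range (n3 + 1), d.l 2 ^ (n3 + 1 - j) * (d.g2 ^ j *
        ∑ k ∈ range (n1 + 1), d.l 0 ^ (n1 - k) * (d.g0 ^ k *
          ∑ l ∈ range (n2 + 1), d.l 1 ^ (n2 - l) * (d.g1 ^ l * ρ j k l))) =
        d.l 2 * ∑ j ∈ range (n3 + 1), d.l 2 ^ (n3 - j) * (d.g2 ^ j *
        ∑ k ∈ range (n1 + 1), d.l 0 ^ (n1 - k) * (d.g0 ^ k *
          ∑ l ∈ range (n2 + 1), d.l 1 ^ (n2 - l) * (d.g1 ^ l * ρ j k l))) := by
      rw [mul_sum]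
      apply sum_congr rfl
      intro j hj'
      have hj'' : j < n3 + 1 := mem_range.mp hj'
      have : n3 + 1 - j = (n3 - j) + 1 := by omega
      rw [this, pow_succ]
      ring
    rw [h3] at hsum
    have h4 := ih (d.reg_l 2 _ hsum)
    intro j hj k hk l hl
    rcases Nat.lt_or_ge j (n3 + 1) with h | h
    · exact h4 j (by omega) k hk l hl
    · have : j = n3 + 1 := by omega
      rw [this]; exact htop k hk l hl

end Data

end Groth.Agent.Lib.Lie3X
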