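import Groth.Agent.Lib.Lie3X1
import Mathlib.Algebra.MvPolynomial.Eval

/-!
# Normal forms in `P[e,g,c]` and the kernel theorem (abstract version)
-/

set_option autoImplicit false

namespace Groth.Agent.Lib.Lie3X

open Finset MvPolynomial

variable {P : Type*} [CommRing P]

namespace Data

variable (d : Data P)

/-- `E v = l v * X v - γ v`. -/
noncomputable def E (v : Fin 3) : MvPolynomial (Fin 3) P := C (d.l v) * X v - C (d.γ v)

/-- The non-leading part of the determinant. -/
noncomputable def Drest : MvPolynomial (Fin 3) P :=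
  C (-(d.h ^ 2)) * X 2 + C (-(d.f ^ 2)) * X 1 + C (d.i ^ 2) * X 0 +
    C (-(2 * d.f * d.h * d.i) + d.l 1 * d.h * d.i) + C (d.l 1 * d.f) * X 1

/-- The determinant `-(e g c) + Drest`. -/
noncomputable def Del : MvPolynomial (Fin 3) P := -(X 0 * X 1 * X 2) + d.Drest

/-- The ideal `(E 0, E 1, E 2, Del)`. -/
noncomputable def JR : Ideal (MvPolynomial (Fin 3) P) := Ideal.span {d.E 0, d.E 1, d.E 2, d.Del}

lemma E_mem (v : Fin 3) : d.E v ∈ d.JR := by
  apply Ideal.subset_span
  fin_cases v <;> simp

lemma Del_mem : d.Del ∈ d.JR := by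
  apply Ideal.subset_span
  simp

/-- Normal forms. -/
structure NF (r : MvPolynomial (Fin 3) P) : Prop where
  zero : ∀ m : Fin 3 →₀ ℕ, 1 ≤ m 0 → 1 ≤ m 1 → 1 ≤ m 2 → coeff m r = 0
  fix : ∀ (v : Fin 3) (m : Fin 3 →₀ ℕ), 1 ≤ m v → d.p v (coeff m r) = coeff m r

lemma NF.add {r s : MvPolynomial (Fin 3) P} (hr : d.NF r) (hs : d.NF s) : d.NF (r + s) where
  zero m h0 h1 h2 := by rw [coeff_add, hr.zero m h0 h1 h2, hs.zero m h0 h1 h2, add_zero]
  fix v m hv := by rw [coeff_add, map_add, hr.fix v m hv, hs.fix v m hv]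

lemma NF.neg {r : MvPolynomial (Fin 3) P} (hr : d.NF r) : d.NF (-r) where
  zero m h0 h1 h2 := by rw [coeff_neg, hr.zero m h0 h1 h2, neg_zero]
  fix v m hv := by rw [coeff_neg, map_neg, hr.fix v m hv]

lemma NF.zero' : d.NF (0 : MvPolynomial (Fin 3) P) where
  zero m _ _ _ := by simp
  fix v m _ := by simp

/-- The additive subgroup of polynomials congruent to a normal form. -/
noncomputable def Good : AddSubgroup (MvPolynomial (Fin 3) P) where
  carrier := {p | ∃ r, d.NF r ∧ p - r ∈ d.JR}
  add_mem' := by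
    rintro p q ⟨r, hr, hpr⟩ ⟨s, hs, hqs⟩
    refine ⟨r + s, hr.add d hs, ?_⟩
    have : p + q - (r + s) = (p - r) + (q - s) := by ring
    rw [this]
    exact add_mem hpr hqs
  zero_mem' := ⟨0, NF.zero' d, by simp⟩
  neg_mem' := by
    rintro p ⟨r, hr, hpr⟩
    refine ⟨-r, hr.neg d, ?_⟩
    have : -p - -r = -(p - r) := by ring
    rw [this]
    exact neg_mem hpr

lemma mem_Good {p : MvPolynomial (Fin 3) P} : p ∈ d.Good ↔ ∃ r, d.NF r ∧ p - r ∈ d.JR := Iff.rfl

lemma Good_of_mem_JR {p : MvPolynomial (Fin 3) P} (hp : p ∈ d.JR) : p ∈ d.Good :=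
  ⟨0, NF.zero' d, by simpa using hp⟩

lemma Good_of_NF {p : MvPolynomial (Fin 3) P} (hp : d.NF p) : p ∈ d.Good :=
  ⟨p, hp, by simp⟩

/-- degree of an exponent vector -/
def deg (m : Fin 3 →₀ ℕ) : ℕ := m 0 + m 1 + m 2

lemma deg_add_single (m : Fin 3 →₀ ℕ) (v : Fin 3) : deg (m + Finsupp.single v 1) = deg m + 1 := by
  fin_cases v <;> simp [deg] <;> omega

lemma exists_add_single {m : Fin 3 →₀ ℕ} {v : Fin 3} (h : 1 ≤ m v) :
    ∃ m', m = m' + Finsupp.single v 1 := by
  refine ⟨m - Finsupp.single v 1, ?_⟩
  rw [tsub_add_cancel_of_le]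
  intro u
  by_cases huv : v = u
  · subst huv; simpa using h
  · simp [huv]

lemma monomial_mul_CX (m : Fin 3 →₀ ℕ) (q a : P) (v : Fin 3) :
    monomial m q * (C a * X v) = monomial (m + Finsupp.single v 1) (q * a) := by
  rw [C_mul_X_eq_monomial, monomial_mul]

lemma monomial_mul_C' (m : Fin 3 →₀ ℕ) (q a : P) :
    monomial m q * C a = monomial m (q * a) := by
  rw [C_apply, monomial_mul, add_zero]

/-- rewriting with `E v`. -/
lemma step_mem (m : Fin 3 →₀ ℕ) (v : Fin 3) (q : P) :
    monomial (m + Finsupp.single v 1) (d.l v * q) - monomial m (d.γ v * q) ∈ d.JR := by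
  have : monomial (m + Finsupp.single v 1) (d.l v * q) - monomial m (d.γ v * q) =
      monomial m q * d.E v := by
    rw [E, mul_sub, monomial_mul_CX, monomial_mul_C', mul_comm q, mul_comm q]
  rw [this]
  exact Ideal.mul_mem_left _ _ (d.E_mem v)

/-- partial cleaning map -/
noncomputable def pt (m : Fin 3 →₀ ℕ) (v : Fin 3) : P →+* P :=
  if 1 ≤ m v then d.p v else RingHom.id P

lemma pt_comm (m : Fin 3 →₀ ℕ) (u v : Fin 3) (x : P) :
    d.pt m u (d.pt m v x) = d.pt m v (d.pt m u x) := by
  unfold pt
  split_ifs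
  · exact d.p_comm u v x
  · rfl
  · rfl
  · rfl

lemma pt_idem (m : Fin 3 →₀ ℕ) (u : Fin 3) (x : P) :
    d.pt m u (d.pt m u x) = d.pt m u x := by
  unfold pt
  split_ifs
  · exact d.p_idem u x
  · rfl

lemma pt_eq (m : Fin 3 →₀ ℕ) (u : Fin 3) (h : 1 ≤ m u) (x : P) : d.pt m u x = d.p u x := by
  unfold pt
  rw [if_pos h]

/-- one cleaning step stays in `Good`, given the induction hypothesis. -/
lemma clean_step (m : Fin 3 →₀ ℕ)
    (ih : ∀ m' : Fin 3 →₀ ℕ, deg m' < deg m → ∀ q, monomial m' q ∈ d.Good)
    (v : Fin 3) (q : P) :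
    monomial m q - monomial m (d.pt m v q) ∈ d.Good := by
  by_cases hv : 1 ≤ m v
  · rw [d.pt_eq m v hv]
    obtain ⟨q', hq'⟩ := d.div v q
    obtain ⟨m', rfl⟩ := exists_add_single hv
    have h1 : monomial (m' + Finsupp.single v 1) q - monomial (m' + Finsupp.single v 1) (d.p v q) =
        (monomial (m' + Finsupp.single v 1) (d.l v * q') - monomial m' (d.γ v * q')) +
          monomial m' (d.γ v * q') := by
      rw [sub_add_cancel, ← map_sub]
      congr 1
      rw [sub_eq_iff_eq_add, add_comm]
      exact hq'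
    rw [h1]
    apply add_mem
    · exact d.Good_of_mem_JR (d.step_mem m' v q')
    · exact ih m' (by rw [deg_add_single]; omega) _
  · have : d.pt m v q = q := by unfold pt; rw [if_neg hv]; rfl
    rw [this, sub_self]
    exact zero_mem _

/-- every monomial is congruent to a normal form. -/
theorem monomial_mem_Good : ∀ (n : ℕ) (m : Fin 3 →₀ ℕ), deg m = n → ∀ q, monomial m q ∈ d.Good := by
  intro n
  induction n using Nat.strong_induction_on with
  | _ n ih =>
    intro m hm q
    have ih' : ∀ m' : Fin 3 →₀ ℕ, deg m' < deg m → ∀ q, monomial m' q ∈ d.Good := by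
      intro m' hm' q'
      exact ih (deg m') (by omega) m' rfl q'
    by_cases hall : 1 ≤ m 0 ∧ 1 ≤ m 1 ∧ 1 ≤ m 2
    · obtain ⟨h0, h1, h2⟩ := hall
      obtain ⟨m1, rfl⟩ := exists_add_single h0
      have h1' : 1 ≤ m1 1 := by simpa [Finsupp.single_apply] using h1
      obtain ⟨m2, rfl⟩ := exists_add_single h1'
      have h2' : 1 ≤ m2 2 := by simpa [Finsupp.single_apply] using h2
      obtain ⟨m3, rfl⟩ := exists_add_single h2'
      have hdeg : deg (m3 + Finsupp.single 2 1 + Finsupp.single 1 1 + Finsupp.single 0 1) =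
          deg m3 + 3 := by
        rw [deg_add_single, deg_add_single, deg_add_single]
      have hX : monomial (m3 + Finsupp.single 2 1 + Finsupp.single 1 1 + Finsupp.single 0 1) q =
          monomial m3 q * (X 0 * X 1 * X 2) := by
        have : (X 0 * X 1 * X 2 : MvPolynomial (Fin 3) P) =
            monomial (Finsupp.single 2 1 + Finsupp.single 1 1 + Finsupp.single 0 1) 1 := by
          simp only [X, monomial_mul, mul_one]
          congr 1
          abel
        rw [this, monomial_mul, mul_one]
        congr 1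
        abel
      have hsplit : monomial m3 q * (X 0 * X 1 * X 2) =
          monomial m3 q * d.Drest - monomial m3 q * d.Del := by
        rw [Del]; ring
      rw [hX, hsplit]
      apply sub_mem
      · rw [Drest]
        simp only [mul_add, monomial_mul_CX, monomial_mul_C']
        have hlt : ∀ v : Fin 3, deg (m3 + Finsupp.single v 1) <
            deg (m3 + Finsupp.single 2 1 + Finsupp.single 1 1 + Finsupp.single 0 1) := by
          intro v; rw [hdeg, deg_add_single]; omega
        have hlt0 : deg m3 <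
            deg (m3 + Finsupp.single 2 1 + Finsupp.single 1 1 + Finsupp.single 0 1) := by
          rw [hdeg]; omega
        refine add_mem (add_mem (add_mem (add_mem ?_ ?_) ?_) ?_) ?_
        · exact ih' _ (hlt 2) _
        · exact ih' _ (hlt 1) _
        · exact ih' _ (hlt 0) _
        · exact ih' _ hlt0 _
        · exact ih' _ (hlt 1) _
      · exact d.Good_of_mem_JR (Ideal.mul_mem_left _ _ d.Del_mem)
    · -- cleaning
      set q1 := d.pt m 0 q with hq1
      set q2 := d.pt m 1 q1 with hq2
      set q3 := d.pt m 2 q2 with hq3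
      have hsum : monomial m q = (monomial m q - monomial m q1) + (monomial m q1 - monomial m q2) +
          (monomial m q2 - monomial m q3) + monomial m q3 := by ring
      rw [hsum]
      refine add_mem (add_mem (add_mem ?_ ?_) ?_) ?_
      · exact d.clean_step m ih' 0 q
      · exact d.clean_step m ih' 1 q1
      · exact d.clean_step m ih' 2 q2
      · apply d.Good_of_NF
        have hfix : ∀ u : Fin 3, d.pt m u q3 = q3 := by
          intro u
          fin_cases u
          · show d.pt m 0 (d.pt m 2 (d.pt m 1 (d.pt m 0 q))) = _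
            rw [d.pt_comm m 0 2, d.pt_comm m 0 1, d.pt_idem]
          · show d.pt m 1 (d.pt m 2 (d.pt m 1 (d.pt m 0 q))) = _
            rw [d.pt_comm m 1 2, d.pt_idem]
          · show d.pt m 2 (d.pt m 2 (d.pt m 1 (d.pt m 0 q))) = _
            rw [d.pt_idem]
        classical
        constructor
        · intro m' h0 h1 h2
          rw [coeff_monomial]
          split_ifs with hmm
          · subst hmm; exact absurd ⟨h0, h1, h2⟩ hall
          · rfl
        · intro v m' hv
          rw [coeff_monomial]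
          split_ifs with hmm
          · subst hmm
            rw [← d.pt_eq m v hv, hfix]
          · simp

theorem mem_Good_all (p : MvPolynomial (Fin 3) P) : p ∈ d.Good := by
  induction p using MvPolynomial.induction_on' with
  | monomial u a => exact d.monomial_mem_Good _ u rfl a
  | add p q hp hq => exact add_mem hp hq

end Data

end Groth.Agent.Lib.Lie3X
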