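import Groth.Agent.Lib.Lie3X2
import Mathlib.Tactic.LinearCombination
import Mathlib.Tactic.Ring
import Mathlib.Tactic.FinCases
import Mathlib.Algebra.BigOperators.Fin

/-!
# The kernel theorem (abstract version)
-/

set_option autoImplicit false

namespace Groth.Agent.Lib.Lie3X

open Finset MvPolynomial

variable {P : Type*} [CommRing P]

namespace Data

variable (d : Data P) {T : Type*} [CommRing T] [Algebra P T]

/-- Inverses of `l v` in a `P`-algebra `T` with injective structure map. -/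
structure Inv (d : Data P) (T : Type*) [CommRing T] [Algebra P T] where
  u : Fin 3 → T
  hu : ∀ v, algebraMap P T (d.l v) * u v = 1
  inj : Function.Injective (algebraMap P T)

variable {d} (I : d.Inv T)

/-- The evaluation `X v ↦ γ v / l v`. -/
noncomputable def Inv.phi : MvPolynomial (Fin 3) P →+* T :=
  eval₂Hom (algebraMap P T) (fun v => algebraMap P T (d.γ v) * I.u v)

lemma Inv.phi_C (q : P) : I.phi (C q) = algebraMap P T q := by
  simp [Inv.phi]

lemma Inv.phi_X (v : Fin 3) : I.phi (X v) = algebraMap P T (d.γ v) * I.u v := by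
  simp [Inv.phi]

lemma Inv.phi_E (v : Fin 3) : I.phi (d.E v) = 0 := by
  rw [E, map_sub, map_mul, I.phi_C, I.phi_C, I.phi_X]
  have := I.hu v
  linear_combination (algebraMap P T (d.γ v)) * this

lemma Inv.phi_Del : I.phi d.Del = 0 := by
  have h0 := I.hu 0
  have h1 := I.hu 1
  have h2 := I.hu 2
  set t0 := algebraMap P T (d.l 0) with ht0
  set t1 := algebraMap P T (d.l 1) with ht1
  set t2 := algebraMap P T (d.l 2) with ht2
  set F := algebraMap P T d.f with hF
  set H := algebraMap P T d.h with hH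
  set J := algebraMap P T d.i with hJ
  have hg0 : algebraMap P T (d.γ 0) = -(H * t1) - F * t2 + t1 * t2 := by
    simp [γ, g0, ht1, ht2, hF, hH]
  have hg1 : algebraMap P T (d.γ 1) = H * t0 + J * t2 := by
    simp [γ, g1, ht0, ht2, hJ, hH]
  have hg2 : algebraMap P T (d.γ 2) = F * t0 + J * t1 := by
    simp [γ, g2, ht0, ht1, hF, hJ]
  have hval : I.phi d.Del = -((algebraMap P T (d.γ 0) * I.u 0) * (algebraMap P T (d.γ 1) * I.u 1) *
      (algebraMap P T (d.γ 2) * I.u 2)) + (-(H ^ 2) * (algebraMap P T (d.γ 2) * I.u 2) +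
      -(F ^ 2) * (algebraMap P T (d.γ 1) * I.u 1) + J ^ 2 * (algebraMap P T (d.γ 0) * I.u 0) +
      (-(2 * F * H * J) + t1 * H * J) + t1 * F * (algebraMap P T (d.γ 1) * I.u 1)) := by
    simp only [Del, Drest, map_add, map_neg, map_mul, I.phi_C, I.phi_X, map_pow, map_ofNat,
      ht1, hF, hH, hJ]
  rw [hval, hg0, hg1, hg2]
  -- multiply by the unit t0 t1 t2
  set Z := -((-(H * t1) - F * t2 + t1 * t2) * I.u 0 * ((H * t0 + J * t2) * I.u 1) *
      ((F * t0 + J * t1) * I.u 2)) + (-(H ^ 2) * ((F * t0 + J * t1) * I.u 2) +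
      -(F ^ 2) * ((H * t0 + J * t2) * I.u 1) + J ^ 2 * ((-(H * t1) - F * t2 + t1 * t2) * I.u 0) +
      (-(2 * F * H * J) + t1 * H * J) + t1 * F * ((H * t0 + J * t2) * I.u 1)) with hZ
  have key : t0 * t1 * t2 * Z = 0 := by
    have e : t0 * t1 * t2 * Z =
        (t0 * I.u 0) * (t1 * I.u 1) * (t2 * I.u 2) *
          (-((-(H * t1) - F * t2 + t1 * t2) * (H * t0 + J * t2) * (F * t0 + J * t1))) +
        (t2 * I.u 2) * (t0 * t1 * (-(H ^ 2) * (F * t0 + J * t1))) +
        (t1 * I.u 1) * (t0 * t2 * (-(F ^ 2) * (H * t0 + J * t2) + t1 * F * (H * t0 + J * t2))) +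
        (t0 * I.u 0) * (t1 * t2 * (J ^ 2 * (-(H * t1) - F * t2 + t1 * t2))) +
        t0 * t1 * t2 * (-(2 * F * H * J) + t1 * H * J) := by
      rw [hZ]; ring
    rw [e, h0, h1, h2]
    ring
  have : Z = (I.u 0 * I.u 1 * I.u 2) * (t0 * t1 * t2 * Z) := by
    have : (I.u 0 * I.u 1 * I.u 2) * (t0 * t1 * t2 * Z) =
        (t0 * I.u 0) * (t1 * I.u 1) * (t2 * I.u 2) * Z := by ring
    rw [this, h0, h1, h2]; ring
  rw [this, key, mul_zero]

lemma Inv.JR_le_ker : d.JR ≤ RingHom.ker I.phi := by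
  rw [JR, Ideal.span_le]
  intro x hx
  simp only [Set.mem_insert_iff, Set.mem_singleton_iff] at hx
  rcases hx with rfl | rfl | rfl | rfl
  · exact I.phi_E 0
  · exact I.phi_E 1
  · exact I.phi_E 2
  · exact I.phi_Del

/-- exponent vector from `(j, k, l)` = exponents of `(c, e, g) = (X 2, X 0, X 1)`. -/
noncomputable def mkE (j k l : ℕ) : Fin 3 →₀ ℕ :=
  Finsupp.single 2 j + Finsupp.single 0 k + Finsupp.single 1 l

@[simp] lemma mkE_zero (j k l : ℕ) : mkE j k l 0 = k := by simp [mkE]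
@[simp] lemma mkE_one (j k l : ℕ) : mkE j k l 1 = l := by simp [mkE]
@[simp] lemma mkE_two (j k l : ℕ) : mkE j k l 2 = j := by simp [mkE]

lemma mkE_eta (m : Fin 3 →₀ ℕ) : mkE (m 2) (m 0) (m 1) = m := by
  ext v
  fin_cases v <;> simp

lemma mkE_injective : Function.Injective (fun t : ℕ × ℕ × ℕ => mkE t.1 t.2.1 t.2.2) := by
  rintro ⟨j, k, l⟩ ⟨j', k', l'⟩ h
  have h0 := congrArg (fun m : Fin 3 →₀ ℕ => m 0) h
  have h1 := congrArg (fun m : Fin 3 →₀ ℕ => m 1) h
  have h2 := congrArg (fun m : Fin 3 →₀ ℕ => m 2) h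
  simp only [mkE_zero, mkE_one, mkE_two] at h0 h1 h2
  subst h0 h1 h2
  rfl

/-- injectivity of `phi` on normal forms. -/
theorem Inv.eq_zero_of_NF {r : MvPolynomial (Fin 3) P} (hr : d.NF r) (hphi : I.phi r = 0) :
    r = 0 := by
  classical
  set N := r.support.sup (fun m => m 0 + m 1 + m 2) with hN
  have hle : ∀ m ∈ r.support, m 0 ≤ N ∧ m 1 ≤ N ∧ m 2 ≤ N := by
    intro m hm
    have : m 0 + m 1 + m 2 ≤ N := Finset.le_sup (f := fun m : Fin 3 →₀ ℕ => m 0 + m 1 + m 2) hm
    omega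
  -- the term function
  set Fm : (Fin 3 →₀ ℕ) → P := fun m =>
    d.l 2 ^ (N - m 2) * (d.g2 ^ m 2 * (d.l 0 ^ (N - m 0) * (d.g0 ^ m 0 *
      (d.l 1 ^ (N - m 1) * (d.g1 ^ m 1 * coeff m r))))) with hFm
  have hS : ∑ m ∈ r.support, Fm m = 0 := by
    apply I.inj
    rw [map_zero, map_sum]
    have hphi' : algebraMap P T (d.l 0 ^ N * d.l 1 ^ N * d.l 2 ^ N) * I.phi r = 0 := by
      rw [hphi, mul_zero]
    rw [← hphi', Inv.phi, coe_eval₂Hom, eval₂_eq', mul_sum]
    apply sum_congr rfl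
    intro m hm
    obtain ⟨h0, h1, h2⟩ := hle m hm
    rw [Fin.prod_univ_three]
    have e0 : algebraMap P T (d.l 0) ^ N * (algebraMap P T (d.γ 0) * I.u 0) ^ m 0 =
        algebraMap P T (d.l 0 ^ (N - m 0) * d.g0 ^ m 0) := by
      have : N = (N - m 0) + m 0 := by omega
      rw [map_mul, map_pow, map_pow]
      conv_lhs => rw [this, pow_add, mul_pow]
      have hu := I.hu 0
      have : algebraMap P T (d.l 0) ^ m 0 * I.u 0 ^ m 0 = 1 := by rw [← mul_pow, hu, one_pow]
      have hγ : d.γ 0 = d.g0 := by simp [γ]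
      rw [hγ]
      linear_combination (algebraMap P T (d.l 0) ^ (N - m 0) * algebraMap P T d.g0 ^ m 0) * this
    have e1 : algebraMap P T (d.l 1) ^ N * (algebraMap P T (d.γ 1) * I.u 1) ^ m 1 =
        algebraMap P T (d.l 1 ^ (N - m 1) * d.g1 ^ m 1) := by
      have : N = (N - m 1) + m 1 := by omega
      rw [map_mul, map_pow, map_pow]
      conv_lhs => rw [this, pow_add, mul_pow]
      have hu := I.hu 1
      have : algebraMap P T (d.l 1) ^ m 1 * I.u 1 ^ m 1 = 1 := by rw [← mul_pow, hu, one_pow]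
      have hγ : d.γ 1 = d.g1 := by simp [γ]
      rw [hγ]
      linear_combination (algebraMap P T (d.l 1) ^ (N - m 1) * algebraMap P T d.g1 ^ m 1) * this
    have e2 : algebraMap P T (d.l 2) ^ N * (algebraMap P T (d.γ 2) * I.u 2) ^ m 2 =
        algebraMap P T (d.l 2 ^ (N - m 2) * d.g2 ^ m 2) := by
      have : N = (N - m 2) + m 2 := by omega
      rw [map_mul, map_pow, map_pow]
      conv_lhs => rw [this, pow_add, mul_pow]
      have hu := I.hu 2
      have : algebraMap P T (d.l 2) ^ m 2 * I.u 2 ^ m 2 = 1 := by rw [← mul_pow, hu, one_pow]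
      have hγ : d.γ 2 = d.g2 := by simp [γ]
      rw [hγ]
      linear_combination (algebraMap P T (d.l 2) ^ (N - m 2) * algebraMap P T d.g2 ^ m 2) * this
    have : algebraMap P T (d.l 0 ^ N * d.l 1 ^ N * d.l 2 ^ N) *
        (algebraMap P T (coeff m r) * ((algebraMap P T (d.γ 0) * I.u 0) ^ m 0 *
          (algebraMap P T (d.γ 1) * I.u 1) ^ m 1 * (algebraMap P T (d.γ 2) * I.u 2) ^ m 2)) =
        algebraMap P T (coeff m r) *
          ((algebraMap P T (d.l 0) ^ N * (algebraMap P T (d.γ 0) * I.u 0) ^ m 0) *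
           (algebraMap P T (d.l 1) ^ N * (algebraMap P T (d.γ 1) * I.u 1) ^ m 1) *
           (algebraMap P T (d.l 2) ^ N * (algebraMap P T (d.γ 2) * I.u 2) ^ m 2)) := by
      simp only [map_mul, map_pow]; ring
    rw [this, e0, e1, e2, ← map_mul, ← map_mul, ← map_mul]
    congr 1
    simp only [hFm]
    ring
  -- convert to nested sums
  set ρ : ℕ → ℕ → ℕ → P := fun j k l => coeff (mkE j k l) r with hρ
  have hNFρ : d.NFρ ρ := by
    constructor
    · intro j k l hj hk hl
      exact hr.zero _ (by simpa using hk) (by simpa using hl) (by simpa using hj)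
    · intro j k l hj
      exact hr.fix 2 _ (by simpa using hj)
    · intro j k l hk
      exact hr.fix 0 _ (by simpa using hk)
    · intro j k l hl
      exact hr.fix 1 _ (by simpa using hl)
  have hbox : r.support ⊆ ((range (N + 1)) ×ˢ ((range (N + 1)) ×ˢ (range (N + 1)))).image
      (fun t : ℕ × ℕ × ℕ => mkE t.1 t.2.1 t.2.2) := by
    intro m hm
    obtain ⟨h0, h1, h2⟩ := hle m hm
    rw [mem_image]
    refine ⟨(m 2, m 0, m 1), ?_, mkE_eta m⟩
    simp only [mem_product, mem_range]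
    omega
  have hnested : ∑ j ∈ range (N + 1), d.l 2 ^ (N - j) * (d.g2 ^ j *
        ∑ k ∈ range (N + 1), d.l 0 ^ (N - k) * (d.g0 ^ k *
          ∑ l ∈ range (N + 1), d.l 1 ^ (N - l) * (d.g1 ^ l * ρ j k l))) = 0 := by
    rw [← hS, sum_subset hbox, sum_image (fun x _ y _ h => mkE_injective h), sum_product]
    · apply sum_congr rfl
      intro j _
      rw [sum_product, mul_sum, mul_sum]
      apply sum_congr rfl
      intro k _
      rw [mul_sum, mul_sum, mul_sum, mul_sum]
      apply sum_congr rfl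
      intro l _
      simp only [hFm, hρ, mkE_zero, mkE_one, mkE_two]
    · intro m _ hm
      rw [notMem_support_iff] at hm
      simp only [hFm, hm, mul_zero]
  have hzero := d.inj ρ hNFρ N N N hnested
  by_contra hne
  obtain ⟨m, hm⟩ : r.support.Nonempty := by
    rw [Finset.nonempty_iff_ne_empty]
    intro h
    exact hne (support_eq_empty.mp h)
  obtain ⟨h0, h1, h2⟩ := hle m hm
  have := hzero (m 2) h2 (m 0) h0 (m 1) h1
  simp only [hρ, mkE_eta] at this
  exact (mem_support_iff.mp hm) this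

/-- **The kernel theorem**. -/
theorem Inv.ker_phi : RingHom.ker I.phi = d.JR := by
  apply le_antisymm
  · intro p hp
    obtain ⟨r, hr, hpr⟩ := d.mem_Good_all p
    have hphir : I.phi r = 0 := by
      have h1 : I.phi (p - r) = 0 := I.JR_le_ker hpr
      rw [map_sub, (RingHom.mem_ker).mp hp, zero_sub, neg_eq_zero] at h1
      exact h1
    have := I.eq_zero_of_NF hr hphir
    rw [this, sub_zero] at hpr
    exact hpr
  · exact I.JR_le_ker

end Data

end Groth.Agent.Lib.Lie3X
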