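import Groth.Agent.Lib.Lie3X3
import Mathlib.RingTheory.MvPolynomial.MonomialOrder
import Mathlib.RingTheory.Localization.Away.Basic
import Mathlib.Tactic.LinearCombination
import Mathlib.Tactic.Ring
import Mathlib.Tactic.FinCases

/-!
# Concrete instance of the abstract data: `P = A[l1,l2,l3,f,h,i]`
-/

set_option autoImplicit false

namespace Groth.Agent.Lib.Lie3X

open MvPolynomial
open scoped MonomialOrder

section general

variable {R : Type*} [CommRing R]

/-- A polynomial whose lex-leading term is a monic monomial is a nonzerodivisor. -/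
lemma reg_of_lex_lead {σ : Type*} [LinearOrder σ] [WellFoundedGT σ]
    (dd : σ →₀ ℕ) (hdd : dd ≠ 0) (g : MvPolynomial σ R)
    (hg : ∀ b ∈ g.support, toLex b < toLex dd) :
    ∀ q, (monomial dd (1 : R) + g) * q = 0 → q = 0 := by
  classical
  intro q hq
  rcases subsingleton_or_nontrivial R with hR | hR
  · exact Subsingleton.elim _ _
  · have hd0 : (0 : σ →₀ ℕ) ≺[MonomialOrder.lex] dd := by
      rw [map_zero, MonomialOrder.toSyn_lt_iff_ne_zero]
      intro h0
      exact hdd ((MonomialOrder.toSyn_eq_zero_iff _ _).mp h0)
    have hdeg : MonomialOrder.lex.degree g ≺[MonomialOrder.lex]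
        MonomialOrder.lex.degree (monomial dd (1 : R)) := by
      rw [MonomialOrder.degree_monomial, if_neg one_ne_zero, MonomialOrder.degree_lt_iff hd0]
      exact hg
    have hlc : MonomialOrder.lex.leadingCoeff (monomial dd (1 : R) + g) = 1 := by
      rw [MonomialOrder.leadingCoeff_add_of_lt hdeg, MonomialOrder.leadingCoeff_monomial]
    have hmem : (monomial dd (1 : R) + g) ∈ nonZeroDivisors (MvPolynomial σ R) :=
      MonomialOrder.lex.mem_nonZeroDivisors_of_leadingCoeff_mem_nonZeroDivisors
        (by rw [hlc]; exact one_mem _)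
    exact (mul_left_mem_nonZeroDivisors_eq_zero_iff hmem).mp hq

end general

variable (A : Type*) [CommRing A]

/-- `P6 A = A[l1,l2,l3,f,h,i]`. -/
abbrev P6 : Type _ := MvPolynomial (Fin 6) A

/-- Set the variable `X w` to zero. -/
noncomputable def kill (w : Fin 6) : P6 A →ₐ[A] P6 A :=
  aeval (fun u => if u = w then 0 else X u)

variable {A}

lemma kill_X (w u : Fin 6) : kill A w (X u) = if u = w then 0 else X u := by
  simp [kill]

lemma kill_idem (w : Fin 6) (q : P6 A) : kill A w (kill A w q) = kill A w q := by
  have : (kill A w).comp (kill A w) = kill A w := by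
    apply MvPolynomial.algHom_ext
    intro u
    simp only [AlgHom.comp_apply, kill_X]
    split_ifs with h
    · simp
    · simp [kill_X, h]
  exact DFunLike.congr_fun this q

lemma kill_comm (w w' : Fin 6) (q : P6 A) : kill A w (kill A w' q) = kill A w' (kill A w q) := by
  have : (kill A w).comp (kill A w') = (kill A w').comp (kill A w) := by
    apply MvPolynomial.algHom_ext
    intro u
    simp only [AlgHom.comp_apply, kill_X]
    split_ifs with h h' h'
    · simp
    · simp [kill_X, h]
    · simp [kill_X, h']
    · simp [kill_X, h, h']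
  exact DFunLike.congr_fun this q

lemma kill_div (w : Fin 6) (q : P6 A) : ∃ q', q = kill A w q + X w * q' := by
  induction q using MvPolynomial.induction_on with
  | C a => exact ⟨0, by simp [kill]⟩
  | add p q hp hq =>
    obtain ⟨p', hp'⟩ := hp
    obtain ⟨q', hq'⟩ := hq
    exact ⟨p' + q', by rw [map_add]; linear_combination hp' + hq'⟩
  | mul_X p u hp =>
    obtain ⟨p', hp'⟩ := hp
    by_cases hu : u = w
    · subst hu
      exact ⟨p, by rw [map_mul, kill_X, if_pos rfl]; ring⟩
    · exact ⟨p' * X u, by rw [map_mul, kill_X, if_neg hu]; linear_combination (X u) * hp'⟩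

lemma reg_X (w : Fin 6) : ∀ q : P6 A, X w * q = 0 → q = 0 := by
  intro q hq
  exact (isRegular_X (R := A) (n := w)).left.mul_left_eq_zero_iff.mp hq


lemma X_mul_X_eq (a b : Fin 6) :
    (X a * X b : P6 A) = monomial (Finsupp.single a 1 + Finsupp.single b 1) 1 := by
  simp [X, monomial_mul]

lemma reg_g0' : ∀ q : P6 A, (-(X 4 * X 1) - X 3 * X 2 + X 1 * X 2) * q = 0 → q = 0 := by
  have e : (-(X 4 * X 1) - X 3 * X 2 + X 1 * X 2 : P6 A) =
      monomial (Finsupp.single 1 1 + Finsupp.single 2 1) 1 +
        (monomial (Finsupp.single 4 1 + Finsupp.single 1 1) (-1) +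
          monomial (Finsupp.single 3 1 + Finsupp.single 2 1) (-1)) := by
    rw [X_mul_X_eq, X_mul_X_eq, X_mul_X_eq, map_neg, map_neg]
    ring
  rw [e]
  apply reg_of_lex_lead
  · intro h
    have := DFunLike.congr_fun h 1
    simp at this
  · intro b hb
    rcases Finset.mem_union.mp (support_add hb) with hb | hb
    · have := Finset.mem_singleton.mp (support_monomial_subset hb)
      subst this
      refine ⟨2, ?_, by simp⟩
      intro j hj
      fin_cases j <;> first | (exfalso; revert hj; decide) | simp
    · have := Finset.mem_singleton.mp (support_monomial_subset hb)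
      subst this
      use 1
      simp

lemma reg_g1' : ∀ q : P6 A, (X 4 * X 0 + X 5 * X 2) * q = 0 → q = 0 := by
  have e : (X 4 * X 0 + X 5 * X 2 : P6 A) =
      monomial (Finsupp.single 4 1 + Finsupp.single 0 1) 1 +
        monomial (Finsupp.single 5 1 + Finsupp.single 2 1) 1 := by
    rw [X_mul_X_eq, X_mul_X_eq]
  rw [e]
  apply reg_of_lex_lead
  · intro h
    have := DFunLike.congr_fun h 0
    simp at this
  · intro b hb
    have := Finset.mem_singleton.mp (support_monomial_subset hb)
    subst this
    use 0
    simp

lemma reg_g2' : ∀ q : P6 A, (X 3 * X 0 + X 5 * X 1) * q = 0 → q = 0 := by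
  have e : (X 3 * X 0 + X 5 * X 1 : P6 A) =
      monomial (Finsupp.single 3 1 + Finsupp.single 0 1) 1 +
        monomial (Finsupp.single 5 1 + Finsupp.single 1 1) 1 := by
    rw [X_mul_X_eq, X_mul_X_eq]
  rw [e]
  apply reg_of_lex_lead
  · intro h
    have := DFunLike.congr_fun h 0
    simp at this
  · intro b hb
    have := Finset.mem_singleton.mp (support_monomial_subset hb)
    subst this
    use 0
    simp

variable (A)

/-- The concrete data. -/
noncomputable def data6 : Data (P6 A) where
  l := ![X 0, X 1, X 2]
  f := X 3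
  h := X 4
  i := X 5
  p := ![(kill A 0 : P6 A →+* P6 A), (kill A 1 : P6 A →+* P6 A), (kill A 2 : P6 A →+* P6 A)]
  p_l := by
    intro u v
    fin_cases u <;> fin_cases v <;> simp [kill_X]
  p_f := by
    intro u
    fin_cases u <;> simp [kill_X]
  p_h := by
    intro u
    fin_cases u <;> simp [kill_X]
  p_i := by
    intro u
    fin_cases u <;> simp [kill_X]
  p_idem := by
    intro u q
    fin_cases u <;> simp [kill_idem]
  p_comm := by
    intro u v q
    fin_cases u <;> fin_cases v <;> simp [kill_comm]
  div := by
    intro u q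
    fin_cases u
    · simpa using kill_div 0 q
    · simpa using kill_div 1 q
    · simpa using kill_div 2 q
  reg_l := by
    intro u q
    fin_cases u
    · simpa using reg_X 0 q
    · simpa using reg_X 1 q
    · simpa using reg_X 2 q
  reg_h := by simpa using reg_X (A := A) 4
  reg_i := by simpa using reg_X (A := A) 5
  reg_g0 := by simpa using reg_g0' (A := A)
  reg_g1 := by simpa using reg_g1' (A := A)
  reg_g2 := by simpa using reg_g2' (A := A)

end Groth.Agent.Lib.Lie3X
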