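import Groth.Agent.Lib.Lie3X4
import Groth.Prelude.Def_W4c1bouilletffgsL3

/-!
# `J = ker (D → P6[1/(l1 l2 l3)])`
-/

set_option autoImplicit false

namespace Groth.Agent.Lib.Lie3X

open MvPolynomial Lie3Mod

variable (A : Type*) [CommRing A]

/-- The target ring `T = P6[1/(l1 l2 l3)]`. -/
abbrev T6 : Type _ := Localization.Away (X 0 * X 1 * X 2 : P6 A)

lemma isUnit_prod : IsUnit (algebraMap (P6 A) (T6 A) (X 0 * X 1 * X 2)) :=
  IsLocalization.Away.algebraMap_isUnit _

lemma isUnit_l6 (v : Fin 3) : IsUnit (algebraMap (P6 A) (T6 A) ((data6 A).l v)) := by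
  have h := isUnit_prod A
  rw [map_mul, map_mul, IsUnit.mul_iff, IsUnit.mul_iff] at h
  fin_cases v
  · exact h.1.1
  · exact h.1.2
  · exact h.2

lemma inj6 : Function.Injective (algebraMap (P6 A) (T6 A)) := by
  apply IsLocalization.injective (T6 A) (M := Submonoid.powers (X 0 * X 1 * X 2 : P6 A))
  rw [Submonoid.powers_le, mem_nonZeroDivisors_iff_left]
  intro q hq
  rw [mul_assoc, mul_assoc] at hq
  exact reg_X 2 _ (reg_X 1 _ (reg_X 0 _ hq))

/-- The inverse data. -/
noncomputable def inv6 : (data6 A).Inv (T6 A) where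
  u := fun v => ((isUnit_l6 A v).unit⁻¹ : (T6 A)ˣ)
  hu := fun v => (isUnit_l6 A v).mul_val_inv
  inj := inj6 A


/-- The coordinate change `D A → P6[e,g,c]`. -/
noncomputable def Theta : D A →ₐ[A] MvPolynomial (Fin 3) (P6 A) :=
  aeval ![C (X 0 + X 5), C (X 1 - X 3), X 2, C (X 2 - X 4), X 0, C (X 3), X 1, C (X 4), C (X 5)]

/-- The inverse on coefficients. -/
noncomputable def iota : P6 A →ₐ[A] D A :=
  aeval ![X 0 - X 8, X 1 + X 5, X 3 + X 7, X 5, X 7, X 8]

/-- The inverse coordinate change. -/
noncomputable def Theta' : MvPolynomial (Fin 3) (P6 A) →+* D A :=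
  eval₂Hom (iota A : P6 A →+* D A) ![X 4, X 6, X 2]

lemma Theta'_Theta (x : D A) : Theta' A (Theta A x) = x := by
  have : (Theta' A).comp (Theta A : D A →+* MvPolynomial (Fin 3) (P6 A)) = RingHom.id _ := by
    apply MvPolynomial.ringHom_ext
    · intro a
      simp [Theta, Theta', iota, MvPolynomial.algebraMap_eq]
    · intro j
      fin_cases j <;> simp [Theta, Theta', iota]
  exact DFunLike.congr_fun this x

lemma Theta_Q3 : Theta A (Q3 A) = (data6 A).E 2 := by
  simp only [Q3, va, vb, vc, vd, ve, vf, vg, vh, vi, Theta, map_add, map_sub, map_mul, aeval_X,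
    Data.E, Data.γ, Data.g2, data6]
  simp
  ring


lemma Theta_Q2 : Theta A (Q2 A) = -(data6 A).E 0 := by
  simp only [Q2, va, vb, vc, vd, ve, vf, vg, vh, vi, Theta, map_add, map_sub, map_mul, aeval_X,
    Data.E, Data.γ, Data.g0, data6]
  simp
  ring

lemma Theta_Q1 : Theta A (Q1 A) = -(data6 A).E 1 := by
  simp only [Q1, va, vb, vc, vd, ve, vf, vg, vh, vi, Theta, map_add, map_sub, map_mul, aeval_X,
    Data.E, Data.γ, Data.g1, data6]
  simp
  ring

lemma Theta_detM : Theta A (detM A) = (data6 A).Del := by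
  simp only [detM, va, vb, vc, vd, ve, vf, vg, vh, vi, Theta, map_add, map_sub, map_mul, map_neg,
    map_pow, aeval_X, Data.Del, Data.Drest, data6]
  simp
  have h2 : (C (2 : P6 A) : MvPolynomial (Fin 3) (P6 A)) = 2 := map_ofNat C 2
  rw [h2]
  ring

/-- The composite `D A → T6 A`. -/
noncomputable def psi : D A →+* T6 A := (inv6 A).phi.comp (Theta A : D A →+* _)

lemma psi_apply (x : D A) : psi A x = (inv6 A).phi (Theta A x) := rfl

/-- **`J` is the kernel of `psi`.** -/
theorem ker_psi : RingHom.ker (psi A) = idJ A := by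
  apply le_antisymm
  · intro x hx
    rw [RingHom.mem_ker, psi_apply, ← RingHom.mem_ker, (inv6 A).ker_phi] at hx
    -- `Theta x ∈ JR`, apply `Theta'`
    have h2 : (data6 A).JR ≤ Ideal.comap (Theta' A) (idJ A) := by
      rw [Data.JR, Ideal.span_le]
      intro y hy
      simp only [Set.mem_insert_iff, Set.mem_singleton_iff] at hy
      rw [SetLike.mem_coe, Ideal.mem_comap]
      rcases hy with rfl | rfl | rfl | rfl
      · have : Theta' A ((data6 A).E 0) = -(Q2 A) := by
          rw [← Theta'_Theta A (Q2 A), Theta_Q2, map_neg, neg_neg]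
        rw [this]
        exact (idJ A).neg_mem (Ideal.subset_span (by simp))
      · have : Theta' A ((data6 A).E 1) = -(Q1 A) := by
          rw [← Theta'_Theta A (Q1 A), Theta_Q1, map_neg, neg_neg]
        rw [this]
        exact (idJ A).neg_mem (Ideal.subset_span (by simp))
      · have : Theta' A ((data6 A).E 2) = Q3 A := by
          rw [← Theta'_Theta A (Q3 A), Theta_Q3]
        rw [this]
        exact Ideal.subset_span (by simp)
      · have : Theta' A ((data6 A).Del) = detM A := by
          rw [← Theta'_Theta A (detM A), Theta_detM]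
        rw [this]
        exact Ideal.subset_span (by simp)
    have := h2 hx
    rwa [Ideal.mem_comap, Theta'_Theta] at this
  · rw [idJ, Ideal.span_le]
    intro y hy
    simp only [Set.mem_insert_iff, Set.mem_singleton_iff] at hy
    rw [SetLike.mem_coe, RingHom.mem_ker, psi_apply]
    rcases hy with rfl | rfl | rfl | rfl
    · rw [Theta_Q1, map_neg, (inv6 A).phi_E, neg_zero]
    · rw [Theta_Q2, map_neg, (inv6 A).phi_E, neg_zero]
    · rw [Theta_Q3, (inv6 A).phi_E]
    · rw [Theta_detM, (inv6 A).phi_Del]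

end Groth.Agent.Lib.Lie3X
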