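import Groth.Agent.Lib.Lie3X5

/-!
# The ideal `L`, the determinant identities, and consequences
-/

set_option autoImplicit false

namespace Groth.Agent.Lib.Lie3X

open MvPolynomial Lie3Mod

variable (A : Type*) [CommRing A]

/-- Substitution `a ↦ i, b ↦ -f, d ↦ -h`. -/
noncomputable def lam : D A →ₐ[A] D A :=
  aeval ![X 8, -X 5, X 2, -X 7, X 4, X 5, X 6, X 7, X 8]

lemma lam_L1 : lam A (L1 A) = 0 := by simp [lam, L1, va, vi]
lemma lam_L2 : lam A (L2 A) = 0 := by simp [lam, L2, vb, vf]
lemma lam_L3 : lam A (L3 A) = 0 := by simp [lam, L3, vd, vh]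

lemma L1_mem : L1 A ∈ idL A := Ideal.subset_span (by simp)
lemma L2_mem : L2 A ∈ idL A := Ideal.subset_span (by simp)
lemma L3_mem : L3 A ∈ idL A := Ideal.subset_span (by simp)

lemma X_sub_lam_X (j : Fin 9) : (X j : D A) - lam A (X j) ∈ idL A := by
  fin_cases j
  · have : (X 0 : D A) - lam A (X 0) = L1 A := by simp [lam, L1, va, vi]
    simp only [Fin.zero_eta]
    rw [this]; exact L1_mem A
  · have : (X 1 : D A) - lam A (X 1) = L2 A := by simp [lam, L2, vb, vf]
    simp only [Fin.mk_one]
    rw [this]; exact L2_mem A
  · simp [lam]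
  · have : (X 3 : D A) - lam A (X 3) = L3 A := by simp [lam, L3, vd, vh]
    simp only [Fin.reduceFinMk]
    rw [this]; exact L3_mem A
  · simp [lam]
  · simp [lam]
  · simp [lam]
  · simp [lam]
  · simp [lam]

lemma sub_lam_mem (p : D A) : p - lam A p ∈ idL A := by
  induction p using MvPolynomial.induction_on with
  | C a => simp [lam]
  | add p q hp hq =>
    have : p + q - lam A (p + q) = (p - lam A p) + (q - lam A q) := by rw [map_add]; ring
    rw [this]
    exact (idL A).add_mem hp hq
  | mul_X p j hp =>
    have : p * X j - lam A (p * X j) = (p - lam A p) * X j + lam A p * (X j - lam A (X j)) := by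
      rw [map_mul]; ring
    rw [this]
    exact (idL A).add_mem ((idL A).mul_mem_right _ hp) ((idL A).mul_mem_left _ (X_sub_lam_X A j))

/-- `L = ker lam`. -/
theorem ker_lam : RingHom.ker (lam A : D A →+* D A) = idL A := by
  apply le_antisymm
  · intro x hx
    rw [RingHom.mem_ker] at hx
    have h := sub_lam_mem A x
    have hx' : lam A x = 0 := hx
    rwa [hx', sub_zero] at h
  · rw [idL, Ideal.span_le]
    intro y hy
    simp only [Set.mem_insert_iff, Set.mem_singleton_iff] at hy
    rw [SetLike.mem_coe, RingHom.mem_ker]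
    rcases hy with rfl | rfl | rfl
    · exact lam_L1 A
    · exact lam_L2 A
    · exact lam_L3 A

lemma mem_idL_iff (x : D A) : x ∈ idL A ↔ lam A x = 0 := by
  rw [← ker_lam, RingHom.mem_ker]; rfl

/-- The image of `detM`. -/
noncomputable def Del0 : D A :=
  -(X 2 * X 7 ^ 2) - X 6 * X 5 ^ 2 + X 4 * X 8 ^ 2 - X 6 * X 4 * X 2 - 2 * X 5 * X 7 * X 8

lemma lam_detM : lam A (detM A) = Del0 A := by
  simp only [detM, va, vb, vc, vd, ve, vf, vg, vh, vi, lam, map_add, map_sub, map_mul, map_neg,
    map_pow, aeval_X, Del0]
  simp
  ring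


lemma lex_lt_of_witness {a b : Fin 9 →₀ ℕ} (w : Fin 9) (h1 : ∀ j, j < w → a j = b j)
    (h2 : a w < b w) : toLex a < toLex b := ⟨w, h1, h2⟩

lemma reg_Del0 : ∀ q : D A, Del0 A * q = 0 → q = 0 := by
  have e : -(Del0 A) =
      monomial (Finsupp.single 2 1 + Finsupp.single 4 1 + Finsupp.single 6 1) 1 +
        (monomial (Finsupp.single 2 1 + Finsupp.single 7 2) 1 +
          (monomial (Finsupp.single 6 1 + Finsupp.single 5 2) 1 +
            (monomial (Finsupp.single 4 1 + Finsupp.single 8 2) (-1) +
              monomial (Finsupp.single 5 1 + Finsupp.single 7 1 + Finsupp.single 8 1) 2))) := by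
    have e0 : (monomial (Finsupp.single 2 1 + Finsupp.single 4 1 + Finsupp.single 6 1) 1 : D A) =
        X 6 * X 4 * X 2 := by
      simp [X, monomial_mul]; abel_nf
    have e1 : (monomial (Finsupp.single 2 1 + Finsupp.single 7 2) 1 : D A) = X 2 * X 7 ^ 2 := by
      simp [X, monomial_mul, monomial_pow]
    have e2 : (monomial (Finsupp.single 6 1 + Finsupp.single 5 2) 1 : D A) = X 6 * X 5 ^ 2 := by
      simp [X, monomial_mul, monomial_pow]
    have e3 : (monomial (Finsupp.single 4 1 + Finsupp.single 8 2) (-1) : D A) =
        -(X 4 * X 8 ^ 2) := by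
      rw [map_neg]
      simp [X, monomial_mul, monomial_pow]
    have e4 : (monomial (Finsupp.single 5 1 + Finsupp.single 7 1 + Finsupp.single 8 1) 2 : D A) =
        2 * X 5 * X 7 * X 8 := by
      have : (2 : D A) = C 2 := (map_ofNat C 2).symm
      rw [this]
      simp [X, C_mul_monomial, monomial_mul]
    rw [e0, e1, e2, e3, e4, Del0]
    ring
  intro q hq
  have hq' : (-(Del0 A)) * q = 0 := by rw [neg_mul, hq, neg_zero]
  rw [e] at hq'
  revert hq'
  apply reg_of_lex_lead
  · intro h
    have := DFunLike.congr_fun h 2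
    simp at this
  · intro b hb
    rcases Finset.mem_union.mp (support_add hb) with hb | hb
    · have := Finset.mem_singleton.mp (support_monomial_subset hb)
      subst this
      refine lex_lt_of_witness 4 ?_ (by simp)
      intro j hj
      fin_cases j <;> first | (exfalso; revert hj; decide) | simp
    rcases Finset.mem_union.mp (support_add hb) with hb | hb
    · have := Finset.mem_singleton.mp (support_monomial_subset hb)
      subst this
      refine lex_lt_of_witness 2 ?_ (by simp)
      intro j hj
      fin_cases j <;> first | (exfalso; revert hj; decide) | simp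
    rcases Finset.mem_union.mp (support_add hb) with hb | hb
    · have := Finset.mem_singleton.mp (support_monomial_subset hb)
      subst this
      refine lex_lt_of_witness 2 ?_ (by simp)
      intro j hj
      fin_cases j <;> first | (exfalso; revert hj; decide) | simp
    · have := Finset.mem_singleton.mp (support_monomial_subset hb)
      subst this
      refine lex_lt_of_witness 2 ?_ (by simp)
      intro j hj
      fin_cases j <;> first | (exfalso; revert hj; decide) | simp

end Groth.Agent.Lib.Lie3X
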