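import Groth.Agent.Lib.Lie3X6
import Mathlib.RingTheory.Ideal.Colon
import Mathlib.RingTheory.Ideal.MinimalPrime.Basic

/-!
# Consequences: colon ideals, intersection, primality
-/

set_option autoImplicit false

namespace Groth.Agent.Lib.Lie3X

open MvPolynomial Lie3Mod

variable (A : Type*) [CommRing A]

lemma Q1_mem : Q1 A ∈ idI A := Ideal.subset_span (by simp)
lemma Q2_mem : Q2 A ∈ idI A := Ideal.subset_span (by simp)
lemma Q3_mem : Q3 A ∈ idI A := Ideal.subset_span (by simp)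

lemma detM_L1 : detM A * L1 A =
    (-(vh * vc) + vb * vi) * Q1 A + (vg * vc - vi ^ 2) * Q2 A + (vi * vh - vg * vb) * Q3 A := by
  simp only [detM, L1, Q1, Q2, Q3]; ring

lemma detM_L2 : detM A * L2 A =
    (ve * vc - vb * vf) * Q1 A + (vh * vc + vi * vf) * Q2 A - (vh * vb + vi * ve) * Q3 A := by
  simp only [detM, L2, Q1, Q2, Q3]; ring

lemma detM_L3 : detM A * L3 A =
    (ve * vi - vh * vf) * Q1 A + (vh * vi + vg * vf) * Q2 A - (vh ^ 2 + vg * ve) * Q3 A := by
  simp only [detM, L3, Q1, Q2, Q3]; ring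

lemma Q1_eq : Q1 A = vh * L1 A - vg * L2 A + vi * L3 A := by
  simp only [L1, L2, L3, Q1]; ring
lemma Q2_eq : Q2 A = -ve * L1 A - vh * L2 A + vb * L3 A := by
  simp only [L1, L2, L3, Q2]; ring
lemma Q3_eq : Q3 A = -vf * L1 A - vi * L2 A + vc * L3 A := by
  simp only [L1, L2, L3, Q3]; ring

lemma idI_le_idJ : idI A ≤ idJ A := by
  apply Ideal.span_mono
  intro x hx
  simp only [Set.mem_insert_iff, Set.mem_singleton_iff] at hx ⊢
  tauto

lemma idI_le_idL : idI A ≤ idL A := by
  rw [idI, Ideal.span_le]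
  intro y hy
  simp only [Set.mem_insert_iff, Set.mem_singleton_iff] at hy
  rw [SetLike.mem_coe]
  have h1 := L1_mem A
  have h2 := L2_mem A
  have h3 := L3_mem A
  rcases hy with rfl | rfl | rfl
  · rw [Q1_eq]
    exact (idL A).add_mem ((idL A).sub_mem ((idL A).mul_mem_left _ h1)
      ((idL A).mul_mem_left _ h2)) ((idL A).mul_mem_left _ h3)
  · rw [Q2_eq]
    exact (idL A).add_mem ((idL A).sub_mem ((idL A).mul_mem_left _ h1)
      ((idL A).mul_mem_left _ h2)) ((idL A).mul_mem_left _ h3)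
  · rw [Q3_eq]
    exact (idL A).add_mem ((idL A).sub_mem ((idL A).mul_mem_left _ h1)
      ((idL A).mul_mem_left _ h2)) ((idL A).mul_mem_left _ h3)

lemma detM_L1_mem : detM A * L1 A ∈ idI A := by
  rw [detM_L1]
  exact (idI A).add_mem ((idI A).add_mem ((idI A).mul_mem_left _ (Q1_mem A))
    ((idI A).mul_mem_left _ (Q2_mem A))) ((idI A).mul_mem_left _ (Q3_mem A))

lemma detM_L2_mem : detM A * L2 A ∈ idI A := by
  rw [detM_L2]
  exact (idI A).sub_mem ((idI A).add_mem ((idI A).mul_mem_left _ (Q1_mem A))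
    ((idI A).mul_mem_left _ (Q2_mem A))) ((idI A).mul_mem_left _ (Q3_mem A))

lemma detM_L3_mem : detM A * L3 A ∈ idI A := by
  rw [detM_L3]
  exact (idI A).sub_mem ((idI A).add_mem ((idI A).mul_mem_left _ (Q1_mem A))
    ((idI A).mul_mem_left _ (Q2_mem A))) ((idI A).mul_mem_left _ (Q3_mem A))

/-- `detM · L ⊆ I`. -/
lemma detM_mul_mem {x : D A} (hx : x ∈ idL A) : detM A * x ∈ idI A := by
  rw [idL] at hx
  refine Submodule.span_induction (p := fun x _ => detM A * x ∈ idI A) ?_ ?_ ?_ ?_ hx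
  · intro y hy
    simp only [Set.mem_insert_iff, Set.mem_singleton_iff] at hy
    rcases hy with rfl | rfl | rfl
    · exact detM_L1_mem A
    · exact detM_L2_mem A
    · exact detM_L3_mem A
  · simp
  · intro y z _ _ hy hz
    rw [mul_add]; exact (idI A).add_mem hy hz
  · intro a y _ hy
    rw [smul_eq_mul, mul_left_comm]; exact (idI A).mul_mem_left _ hy

/-- `J = I + (detM)`. -/
lemma mem_idJ_iff (x : D A) : x ∈ idJ A ↔ ∃ t : D A, ∃ q ∈ idI A, x = t * detM A + q := by
  have : idJ A = Ideal.span (insert (detM A) {Q1 A, Q2 A, Q3 A}) := by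
    rw [idJ]; congr 1; ext y
    simp only [Set.mem_insert_iff, Set.mem_singleton_iff]; tauto
  rw [this, Ideal.mem_span_insert]
  rfl

/-- `J · L ⊆ I`. -/
lemma idJ_mul_idL {y x : D A} (hy : y ∈ idJ A) (hx : x ∈ idL A) : y * x ∈ idI A := by
  obtain ⟨t, q, hq, rfl⟩ := (mem_idJ_iff A y).mp hy
  have : (t * detM A + q) * x = t * (detM A * x) + x * q := by ring
  rw [this]
  exact (idI A).add_mem ((idI A).mul_mem_left _ (detM_mul_mem A hx)) ((idI A).mul_mem_left _ hq)

lemma psi_L2 : psi A (L2 A) = algebraMap (P6 A) (T6 A) (X 1) := by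
  rw [psi_apply]
  have : Theta A (L2 A) = C (X 1) := by
    simp [Theta, L2, vb, vf]
  rw [this, Data.Inv.phi_C]

lemma isUnit_psi_L2 : IsUnit (psi A (L2 A)) := by
  rw [psi_L2]
  exact isUnit_l6 A 1

/-- `x L2 ∈ J → x ∈ J`. -/
lemma mem_idJ_of_mul_L2 {x : D A} (h : x * L2 A ∈ idJ A) : x ∈ idJ A := by
  rw [← ker_psi, RingHom.mem_ker] at h ⊢
  rw [map_mul] at h
  exact (isUnit_psi_L2 A).mul_left_eq_zero.mp h

/-- `x detM ∈ L → x ∈ L`. -/
lemma mem_idL_of_mul_detM {x : D A} (h : x * detM A ∈ idL A) : x ∈ idL A := by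
  rw [mem_idL_iff] at h ⊢
  rw [map_mul, lam_detM, mul_comm] at h
  exact reg_Del0 A _ h

/-- `(I : L) = J`. -/
theorem colon_idL : (idI A).colon (idL A : Set (D A)) = idJ A := by
  apply le_antisymm
  · intro x hx
    rw [Submodule.mem_colon] at hx
    have h2 := hx (L2 A) (L2_mem A)
    rw [smul_eq_mul] at h2
    exact mem_idJ_of_mul_L2 A (idI_le_idJ A h2)
  · intro x hx
    rw [Submodule.mem_colon]
    intro s hs
    rw [smul_eq_mul]
    exact idJ_mul_idL A hx hs

lemma detM_mem : detM A ∈ idJ A := Ideal.subset_span (by simp)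

/-- `(I : J) = L`. -/
theorem colon_idJ : (idI A).colon (idJ A : Set (D A)) = idL A := by
  apply le_antisymm
  · intro x hx
    rw [Submodule.mem_colon] at hx
    have h2 := hx (detM A) (detM_mem A)
    rw [smul_eq_mul] at h2
    exact mem_idL_of_mul_detM A (idI_le_idL A h2)
  · intro x hx
    rw [Submodule.mem_colon]
    intro s hs
    rw [smul_eq_mul, mul_comm]
    exact idJ_mul_idL A hs hx

/-- `I = J ∩ L`. -/
theorem idI_eq_inf : idI A = idJ A ⊓ idL A := by
  apply le_antisymm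
  · exact le_inf (idI_le_idJ A) (idI_le_idL A)
  · rintro x ⟨hxJ, hxL⟩
    obtain ⟨t, q, hq, rfl⟩ := (mem_idJ_iff A x).mp hxJ
    have hqL := idI_le_idL A hq
    have h1 : t * detM A ∈ idL A := by
      have := (idL A).sub_mem hxL hqL
      rwa [add_sub_cancel_right] at this
    have ht := mem_idL_of_mul_detM A h1
    have := detM_mul_mem A ht
    rw [mul_comm] at this
    exact (idI A).add_mem this hq

end Groth.Agent.Lib.Lie3X
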