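import Groth.Agent.Lib.Lie3X7
import Mathlib.RingTheory.Flat.TorsionFree
import Mathlib.RingTheory.Ideal.MinimalPrime.Basic

/-!
# Primality, minimal primes, flatness over `ℤ`
-/

set_option autoImplicit false

namespace Groth.Agent.Lib.Lie3X

open MvPolynomial Lie3Mod

variable (A : Type*) [CommRing A]

lemma powers_le : Submonoid.powers (X 0 * X 1 * X 2 : P6 A) ≤ nonZeroDivisors (P6 A) := by
  rw [Submonoid.powers_le, mem_nonZeroDivisors_iff_left]
  intro q hq
  rw [mul_assoc, mul_assoc] at hq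
  exact reg_X 2 _ (reg_X 1 _ (reg_X 0 _ hq))

instance [IsDomain A] : IsDomain (T6 A) := IsLocalization.isDomain_localization (powers_le A)

/-- `J` is prime when `A` is a domain. -/
theorem idJ_isPrime [IsDomain A] : (idJ A).IsPrime := by
  rw [← ker_psi]
  exact RingHom.ker_isPrime _

/-- `L` is prime when `A` is a domain. -/
theorem idL_isPrime [IsDomain A] : (idL A).IsPrime := by
  rw [← ker_lam]
  exact RingHom.ker_isPrime _

lemma detM_notMem_idL [Nontrivial A] : detM A ∉ idL A := by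
  intro h
  rw [mem_idL_iff, lam_detM] at h
  have := reg_Del0 A 1 (by rw [h, zero_mul])
  exact one_ne_zero this

lemma L2_notMem_idJ [Nontrivial A] : L2 A ∉ idJ A := by
  intro h
  rw [← ker_psi, RingHom.mem_ker] at h
  have hu := isUnit_psi_L2 A
  rw [h] at hu
  have : Nontrivial (T6 A) := (inj6 A).nontrivial
  exact not_isUnit_zero hu

/-- `L` is a minimal prime over `I`. -/
theorem idL_mem_minimalPrimes [IsDomain A] : idL A ∈ (idI A).minimalPrimes := by
  refine ⟨⟨idL_isPrime A, idI_le_idL A⟩, ?_⟩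
  rintro q ⟨hq, hIq⟩ hqL
  have hdet : detM A ∉ q := fun h => detM_notMem_idL A (hqL h)
  rw [idL, Ideal.span_le]
  intro y hy
  simp only [Set.mem_insert_iff, Set.mem_singleton_iff] at hy
  rcases hy with rfl | rfl | rfl
  · exact (hq.mem_or_mem (hIq (detM_L1_mem A))).resolve_left hdet
  · exact (hq.mem_or_mem (hIq (detM_L2_mem A))).resolve_left hdet
  · exact (hq.mem_or_mem (hIq (detM_L3_mem A))).resolve_left hdet

/-- `J` is a minimal prime over `I`. -/
theorem idJ_mem_minimalPrimes [IsDomain A] : idJ A ∈ (idI A).minimalPrimes := by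
  refine ⟨⟨idJ_isPrime A, idI_le_idJ A⟩, ?_⟩
  rintro q ⟨hq, hIq⟩ hqJ
  have hL2 : L2 A ∉ q := fun h => L2_notMem_idJ A (hqJ h)
  have hdet : detM A ∈ q := (hq.mem_or_mem (hIq (detM_L2_mem A))).resolve_right hL2
  intro x hx
  obtain ⟨t, r, hr, rfl⟩ := (mem_idJ_iff A x).mp hx
  exact q.add_mem (q.mul_mem_left _ hdet) (hIq hr)

/-- Flatness criterion over `ℤ`. -/
lemma flat_of_sat (K : Ideal (D ℤ))
    (h : ∀ (n : ℤ) (x : D ℤ), n ≠ 0 → (C n : D ℤ) * x ∈ K → x ∈ K) :
    Module.Flat ℤ (D ℤ ⧸ K) := by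
  have : Module.IsTorsionFree ℤ (D ℤ ⧸ K) := by
    constructor
    intro n hn
    have hn0 : n ≠ 0 := hn.ne_zero
    intro a b hab
    obtain ⟨x, rfl⟩ := Ideal.Quotient.mk_surjective a
    obtain ⟨y, rfl⟩ := Ideal.Quotient.mk_surjective b
    simp only at hab
    rw [Ideal.Quotient.eq]
    apply h n _ hn0
    have h1 : ∀ z : D ℤ, n • (Ideal.Quotient.mk K z) = Ideal.Quotient.mk K (C n * z) := by
      intro z
      rw [map_mul, eq_intCast (C : ℤ →+* D ℤ) n, map_intCast, zsmul_eq_mul]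
    rw [h1, h1, Ideal.Quotient.eq] at hab
    rwa [mul_sub]
  infer_instance


lemma sat_idJ (n : ℤ) (x : D ℤ) (hn : n ≠ 0) (h : (C n : D ℤ) * x ∈ idJ ℤ) : x ∈ idJ ℤ := by
  rw [← ker_psi, RingHom.mem_ker] at h ⊢
  rw [map_mul, eq_intCast (C : ℤ →+* D ℤ) n, map_intCast] at h
  rcases mul_eq_zero.mp h with h0 | h0
  · exfalso
    have h1 : algebraMap (P6 ℤ) (T6 ℤ) (C n) = 0 := by
      rw [eq_intCast (C : ℤ →+* P6 ℤ) n, map_intCast]; exact h0
    have h2 : (C n : P6 ℤ) = 0 := inj6 ℤ (by rw [h1, map_zero])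
    exact hn (C_injective (Fin 6) ℤ (by rw [h2, map_zero]))
  · exact h0

lemma sat_idL (n : ℤ) (x : D ℤ) (hn : n ≠ 0) (h : (C n : D ℤ) * x ∈ idL ℤ) : x ∈ idL ℤ := by
  rw [mem_idL_iff] at h ⊢
  rw [map_mul] at h
  have hC : lam ℤ (C n) = C n := by
    simp [lam]
  rw [hC] at h
  rcases mul_eq_zero.mp h with h0 | h0
  · exfalso
    exact hn (C_injective (Fin 9) ℤ (by rw [h0, map_zero]))
  · exact h0

theorem flat_idJ : Module.Flat ℤ (D ℤ ⧸ idJ ℤ) := flat_of_sat _ sat_idJ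

theorem flat_idI : Module.Flat ℤ (D ℤ ⧸ idI ℤ) := by
  apply flat_of_sat
  intro n x hn h
  rw [idI_eq_inf] at h ⊢
  exact ⟨sat_idJ n x hn h.1, sat_idL n x hn h.2⟩

theorem idI_isRadical [IsDomain A] : (idI A).IsRadical := by
  rw [idI_eq_inf]
  exact (idJ_isPrime A).isRadical.inf (idL_isPrime A).isRadical

end Groth.Agent.Lib.Lie3X
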