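import Mathlib
import Groth.Agent.Lib.ComodUnipBC41
import Groth.Agent.Lib.ComodDualAlg
import Groth.Agent.Lib.Cartier38
import Groth.Prelude.Def_Lie2

/-!
# Unipotent groups in characteristic `p` have `p`-nilpotent Lie algebras (helper41)

* `pow_char_pow_leibniz`: in char `p` the `p^j`-th iterate of a derivation is a derivation
* `convPow_eq`: `LieHopf.convPow d m = ε ∘ (slice d)^m`
* `exists_convPow_eq_zero`: for a f.g. unipotent Hopf algebra in char `p` and an ε-derivation `d`,
  some `p^n`-fold convolution power of `d` (`n > 0`) vanishes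
-/

set_option autoImplicit false

open TensorProduct

namespace Groth.Agent.Lib.LiePNil41

universe u v

section Leibniz
variable {k : Type u} [Field k] {A : Type v} [CommRing A] [Algebra k A]

/-- In characteristic `p`, the `p^j`-th iterate of a derivation is a derivation. -/
theorem pow_char_pow_leibniz (p : ℕ) [Fact p.Prime] [CharP k p] (T : Module.End k A)
    (hT : ∀ a b, T (a * b) = a * T b + T a * b) (j : ℕ) (a b : A) :
    (T ^ p ^ j) (a * b) = a * (T ^ p ^ j) b + (T ^ p ^ j) a * b := by
  let X : Module.End k (A ⊗[k] A) := T.rTensor A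
  let Y : Module.End k (A ⊗[k] A) := T.lTensor A
  let μ : A ⊗[k] A →ₗ[k] A := LinearMap.mul' k A
  have hμ : μ ∘ₗ (X + Y) = T ∘ₗ μ := by
    apply TensorProduct.ext'
    intro x y
    simp only [LinearMap.comp_apply, LinearMap.add_apply, X, Y, μ, LinearMap.rTensor_tmul,
      LinearMap.lTensor_tmul, map_add, LinearMap.mul'_apply, hT x y]
    ring
  have hμm : ∀ m : ℕ, μ ∘ₗ ((X + Y) ^ m) = (T ^ m) ∘ₗ μ := by
    intro m
    induction m with
    | zero => rfl
    | succ m ih =>
      rw [pow_succ, Module.End.mul_eq_comp, ← LinearMap.comp_assoc, ih, LinearMap.comp_assoc, hμ,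
        ← LinearMap.comp_assoc, pow_succ, Module.End.mul_eq_comp]
  have hcomm : Commute X Y := by
    show X * Y = Y * X
    simp only [Module.End.mul_eq_comp, X, Y]
    rw [LinearMap.rTensor_comp_lTensor, LinearMap.lTensor_comp_rTensor]
  have hpow : (X + Y) ^ p ^ j = X ^ p ^ j + Y ^ p ^ j := by
    rcases subsingleton_or_nontrivial (Module.End k (A ⊗[k] A)) with h | h
    · exact Subsingleton.elim _ _
    · have : CharP (Module.End k (A ⊗[k] A)) p :=
        charP_of_injective_algebraMap (algebraMap k (Module.End k (A ⊗[k] A))).injective p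
      exact add_pow_char_pow_of_commute _ _ hcomm
  have hX : X ^ p ^ j = (T ^ p ^ j).rTensor A := LinearMap.rTensor_pow _ _
  have hY : Y ^ p ^ j = (T ^ p ^ j).lTensor A := LinearMap.lTensor_pow _ _
  have h1 := LinearMap.congr_fun (hμm (p ^ j)) (a ⊗ₜ[k] b)
  rw [hpow, hX, hY] at h1
  simp only [LinearMap.comp_apply, LinearMap.add_apply, LinearMap.rTensor_tmul,
    LinearMap.lTensor_tmul, map_add, μ, LinearMap.mul'_apply] at h1
  rw [← h1]
  ring

end Leibniz

end Groth.Agent.Lib.LiePNil41


open TensorProduct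

namespace Groth.Agent.Lib.LiePNil41

open Groth.Agent.Lib.Comod Groth.Agent.Lib.Cartier38

universe u

section
variable {k : Type u} [Field k] {A : Type u} [CommRing A] [HopfAlgebra k A]

/-- `convPow d m = ε ∘ (slice d)^m`. -/
theorem convPow_eq (d : A →ₗ[k] k) (m : ℕ) :
    LieHopf.convPow d m = (CoalgebraStruct.counit (R := k) (A := A)) ∘ₗ ((slice d) ^ m) := by
  induction m with
  | zero => rfl
  | succ m ih =>
    show LieHopf.conv (LieHopf.convPow d m) d = _
    rw [ih, pow_succ, Module.End.mul_eq_comp, ← LinearMap.comp_assoc]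
    have := comp_slice (k := k) (C := A)
      (WithConv.toConv ((CoalgebraStruct.counit (R := k) (A := A)) ∘ₗ ((slice d) ^ m)))
      (WithConv.toConv d)
    exact this.symm

theorem slice_pow_eq_zero_of_mem_unipFilt (d : A →ₗ[k] k) (hd1 : d 1 = 0) (n : ℕ) :
    ∀ c ∈ unipFilt k A n, ((slice d) ^ n) c = 0 := by
  induction n with
  | zero =>
    intro c hc
    rw [unipFilt_zero, Submodule.mem_bot] at hc
    rw [hc, map_zero]
  | succ n ih =>
    intro c hc
    rw [pow_succ, Module.End.mul_apply]
    have h1 := mem_unipFilt_succ.1 hc d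
    rw [hd1, zero_smul, sub_zero] at h1
    exact ih _ h1

theorem slice_pow_eq_zero_of_le (d : A →ₗ[k] k) {n m : ℕ} (h : n ≤ m) (c : A)
    (hc : ((slice d) ^ n) c = 0) : ((slice d) ^ m) c = 0 := by
  obtain ⟨j, rfl⟩ := Nat.exists_eq_add_of_le h
  rw [add_comm, pow_add, Module.End.mul_apply, hc, map_zero]

/-- **Unipotent groups have p-nilpotent Lie algebras.** -/
theorem exists_convPow_eq_zero (p : ℕ) [Fact p.Prime] [CharP k p] [Algebra.FiniteType k A]
    (hU : HopfRep.IsUnipotent k A) (d : A →ₗ[k] k) (hd : IsEpsDer d) :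
    ∃ n : ℕ, 0 < n ∧ LieHopf.convPow d (p ^ n) = 0 := by
  classical
  have hd1 : d 1 = 0 := by
    have := hd 1 1
    rw [mul_one, Bialgebra.counit_one, one_mul, mul_one] at this
    linear_combination -this
  let T : Module.End k A := slice d
  have hT : ∀ a b, T (a * b) = a * T b + T a * b := slice_mul hd
  obtain ⟨S, hS⟩ := (Algebra.FiniteType.out : (⊤ : Subalgebra k A).FG)
  -- a uniform bound on the generators
  have hex : ∀ s : A, ∃ n, (T ^ n) s = 0 := fun s => by
    obtain ⟨n, hn⟩ := unipFilt_exhaustive hU s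
    exact ⟨n, slice_pow_eq_zero_of_mem_unipFilt d hd1 n s hn⟩
  choose f hf using hex
  let N := S.sup f
  obtain ⟨j, hj⟩ : ∃ j : ℕ, N ≤ p ^ (j + 1) := by
    refine ⟨N, ?_⟩
    have h2 : N < p ^ N := Nat.lt_pow_self (Fact.out : p.Prime).one_lt
    have h3 : p ^ N ≤ p ^ (N + 1) := Nat.pow_le_pow_right (Fact.out : p.Prime).pos (Nat.le_succ _)
    omega
  have hkill : ∀ s ∈ S, (T ^ p ^ (j + 1)) s = 0 := fun s hs =>
    slice_pow_eq_zero_of_le d ((Finset.le_sup hs).trans hj) s (hf s)
  have hleib := pow_char_pow_leibniz (k := k) p T hT (j + 1)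
  have h1 : (T ^ p ^ (j + 1)) 1 = 0 := by
    have := hleib 1 1
    rw [mul_one, one_mul, mul_one] at this
    linear_combination -this
  have hall : ∀ a : A, (T ^ p ^ (j + 1)) a = 0 := by
    intro a
    have ha : a ∈ Algebra.adjoin k (S : Set A) := by rw [hS]; trivial
    induction ha using Algebra.adjoin_induction with
    | mem x hx => exact hkill x hx
    | algebraMap r => rw [Algebra.algebraMap_eq_smul_one, map_smul, h1, smul_zero]
    | add x y _ _ hx hy => rw [map_add, hx, hy, add_zero]
    | mul x y _ _ hx hy => rw [hleib, hx, hy, mul_zero, zero_mul, add_zero]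
  refine ⟨j + 1, Nat.succ_pos _, ?_⟩
  rw [convPow_eq]
  apply LinearMap.ext
  intro a
  rw [LinearMap.comp_apply, hall a, map_zero, LinearMap.zero_apply]

end

end Groth.Agent.Lib.LiePNil41

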