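/-
helper67: tools for `LieS` (Def_LieS): epimorphism criteria for infinitesimal thickenings of affine schemes,
`Spec B[M]` formalism (`T`, `tmap`), and additivity of the rescaling action on points of a monoid scheme
with values in the dual numbers that restrict to the unit along the zero section.
-/
import Groth.Prelude.Def_LieS
import Mathlib.AlgebraicGeometry.Morphisms.SchemeTheoreticallyDominant
import Mathlib.AlgebraicGeometry.Limits

set_option autoImplicit false
universe u
open CategoryTheory MonObj AlgebraicGeometry LieS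

namespace Groth.Agent.Lib.LieSEpi

theorem sheafedSpace_epi_of_base_surjective_of_app_mono {X Y : SheafedSpace CommRingCat.{u}} (f : X ⟶ Y)
    (h₁ : Function.Surjective f.hom.base)
    (h₂ : ∀ U, Mono (f.hom.c.app U)) : Epi f := by
  constructor
  intro Z ⟨g, gc⟩ ⟨h, hc⟩ e
  apply_fun InducedCategory.Hom.hom at e
  obtain rfl : g = h := ConcreteCategory.hom_ext _ _ fun y ↦ by
    rw [← (h₁ y).choose_spec]
    simpa using congr(($e).base.hom (h₁ y).choose)
  have : gc = hc := by
    apply NatTrans.ext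
    funext U
    rw [← cancel_mono (f.hom.c.app _)]
    have := PresheafedSpace.congr_app e U
    simpa using this
  subst this
  rfl


theorem epi_of_surjective_of_app_injective {Y Z : Scheme.{u}} (π : Y ⟶ Z)
    (h₁ : Function.Surjective π.base) (h₂ : ∀ U : Z.Opens, Function.Injective (π.app U)) : Epi π := by
  apply CategoryTheory.Functor.epi_of_epi_map (Scheme.forgetToLocallyRingedSpace)
  apply CategoryTheory.Functor.epi_of_epi_map (LocallyRingedSpace.forgetToSheafedSpace)
  apply sheafedSpace_epi_of_base_surjective_of_app_mono _ h₁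
  intro U
  apply ConcreteCategory.mono_of_injective
  exact h₂ U.unop

theorem epi_specMap_of_injective {D C : Type u} [CommRing D] [CommRing C] (φ : D →+* C)
    (hφ : Function.Injective φ)
    (hs : Function.Surjective (Spec.map (CommRingCat.ofHom φ)).base) :
    Epi (Spec.map (CommRingCat.ofHom φ)) := by
  have : IsSchemeTheoreticallyDominant (Spec.map (CommRingCat.ofHom φ)) := by
    constructor
    rw [Scheme.ker_of_isAffine]
    have : RingHom.ker (Spec.map (CommRingCat.ofHom φ)).appTop.hom = ⊥ := by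
      rw [← RingHom.injective_iff_ker_eq_bot]
      have e : (Spec.map (CommRingCat.ofHom φ)).appTop =
          (Scheme.ΓSpecIso (CommRingCat.of D)).hom ≫ CommRingCat.ofHom φ ≫
            (Scheme.ΓSpecIso (CommRingCat.of C)).inv := by
        rw [← Scheme.ΓSpecIso_naturality_assoc, Iso.hom_inv_id, Category.comp_id]
      rw [e]
      simp only [CommRingCat.hom_comp, RingHom.coe_comp]
      exact ((ConcreteCategory.bijective_of_isIso (Scheme.ΓSpecIso (CommRingCat.of C)).inv).1.comp hφ).comp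
        (ConcreteCategory.bijective_of_isIso (Scheme.ΓSpecIso (CommRingCat.of D)).hom).1
    rw [this]
    exact map_bot (Scheme.IdealSheafData.equivOfIsAffine (X := Spec (CommRingCat.of D))).symm
  exact epi_of_surjective_of_app_injective _ hs (fun U => Scheme.Hom.app_injective _ U)


theorem comap_surjective_of_nil {D C B₀ : Type u} [CommRing D] [CommRing C] [CommRing B₀]
    (φ : D →+* C) (τ : C →+* B₀)
    (hσ : Function.Surjective (τ.comp φ)) (hker : ∀ x, τ (φ x) = 0 → x * x = 0) :
    Function.Surjective (PrimeSpectrum.comap φ) := by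
  intro p
  have hle : RingHom.ker (τ.comp φ) ≤ p.asIdeal := by
    intro x hx
    have h0 : x * x = 0 := hker x hx
    have : x * x ∈ p.asIdeal := by rw [h0]; exact Ideal.zero_mem _
    rcases p.isPrime.mem_or_mem this with h | h <;> exact h
  have hprime : (Ideal.map (τ.comp φ) p.asIdeal).IsPrime :=
    Ideal.map_isPrime_of_surjective hσ hle
  refine ⟨PrimeSpectrum.comap τ ⟨Ideal.map (τ.comp φ) p.asIdeal, hprime⟩, ?_⟩
  apply PrimeSpectrum.ext
  change Ideal.comap φ (Ideal.comap τ (Ideal.map (τ.comp φ) p.asIdeal)) = p.asIdeal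
  rw [Ideal.comap_comap, Ideal.comap_map_of_surjective' _ hσ, sup_eq_left]
  exact hle

theorem specMap_surjective_of_nil {D C B₀ : Type u} [CommRing D] [CommRing C] [CommRing B₀]
    (φ : D →+* C) (τ : C →+* B₀)
    (hσ : Function.Surjective (τ.comp φ)) (hker : ∀ x, τ (φ x) = 0 → x * x = 0) :
    Function.Surjective (Spec.map (CommRingCat.ofHom φ)).base :=
  comap_surjective_of_nil φ τ hσ hker

/-- Epi criterion used below. -/
theorem epi_specMap {D C B₀ : Type u} [CommRing D] [CommRing C] [CommRing B₀]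
    (φ : D →+* C) (hφ : Function.Injective φ) (τ : C →+* B₀)
    (hσ : Function.Surjective (τ.comp φ)) (hker : ∀ x, τ (φ x) = 0 → x * x = 0) :
    Epi (Spec.map (CommRingCat.ofHom φ)) :=
  epi_specMap_of_injective φ hφ (specMap_surjective_of_nil φ τ hσ hker)


open Limits in
theorem hom_ext_prod {D C₁ C₂ B₀ : Type u} [CommRing D] [CommRing C₁] [CommRing C₂] [CommRing B₀]
    (φ₁ : D →+* C₁) (φ₂ : D →+* C₂)
    (hinj : ∀ x, φ₁ x = 0 → φ₂ x = 0 → x = 0) (τ : C₁ →+* B₀)
    (hσ : Function.Surjective (τ.comp φ₁)) (hker : ∀ x, τ (φ₁ x) = 0 → x * x = 0)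
    {X : Scheme.{u}} (g h : Spec (CommRingCat.of D) ⟶ X)
    (h₁ : Spec.map (CommRingCat.ofHom φ₁) ≫ g = Spec.map (CommRingCat.ofHom φ₁) ≫ h)
    (h₂ : Spec.map (CommRingCat.ofHom φ₂) ≫ g = Spec.map (CommRingCat.ofHom φ₂) ≫ h) : g = h := by
  have hepi : Epi (Spec.map (CommRingCat.ofHom (φ₁.prod φ₂))) := by
    refine epi_specMap (φ₁.prod φ₂) ?_ (τ.comp (RingHom.fst C₁ C₂)) ?_ ?_
    · rw [injective_iff_map_eq_zero]
      intro x hx
      have := Prod.ext_iff.1 hx
      exact hinj x this.1 this.2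
    · exact hσ
    · exact hker
  rw [← cancel_epi (Spec.map (CommRingCat.ofHom (φ₁.prod φ₂))), ← cancel_epi (coprodSpec C₁ C₂)]
  apply coprod.hom_ext
  · rw [coprodSpec_inl_assoc, coprodSpec_inl_assoc, ← Spec.map_comp_assoc, ← Spec.map_comp_assoc,
      ← CommRingCat.ofHom_comp, RingHom.fst_comp_prod]
    exact h₁
  · rw [coprodSpec_inr_assoc, coprodSpec_inr_assoc, ← Spec.map_comp_assoc, ← Spec.map_comp_assoc,
      ← CommRingCat.ofHom_comp, RingHom.snd_comp_prod]
    exact h₂

section T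

variable {S : Scheme.{u}} {B : Type u} [CommRing B] (f : Spec (CommRingCat.of B) ⟶ S)

/-- `Spec B[M]` over `S`. -/
noncomputable abbrev T (M : Type u) [AddCommGroup M] [Module B M] [Module Bᵐᵒᵖ M] [IsCentralScalar B M] : Over S :=
  pt (TrivSqZeroExt B M) (Spec.map (CommRingCat.ofHom (algebraMap B (TrivSqZeroExt B M))) ≫ f)

theorem dpt_eq : dpt B f = T f B := rfl

variable {M N P : Type u} [AddCommGroup M] [Module B M] [Module Bᵐᵒᵖ M] [IsCentralScalar B M]
  [AddCommGroup N] [Module B N] [Module Bᵐᵒᵖ N] [IsCentralScalar B N]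
  [AddCommGroup P] [Module B P] [Module Bᵐᵒᵖ P] [IsCentralScalar B P]

/-- functoriality of `Spec B[M]` in `M` (contravariant). -/
noncomputable def tmap (ℓ : M →ₗ[B] N) : T f N ⟶ T f M :=
  Over.homMk (Spec.map (CommRingCat.ofHom (TrivSqZeroExt.map ℓ).toRingHom)) (by
    change Spec.map _ ≫ Spec.map _ ≫ f = Spec.map _ ≫ f
    rw [← Category.assoc, specMap_comp]
    congr 3
    exact (TrivSqZeroExt.map ℓ).comp_algebraMap)

theorem tmap_left (ℓ : M →ₗ[B] N) :
    (tmap f ℓ).left = Spec.map (CommRingCat.ofHom (TrivSqZeroExt.map ℓ).toRingHom) := rfl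

theorem tmap_comp (ℓ : M →ₗ[B] N) (ℓ' : N →ₗ[B] P) :
    tmap f ℓ' ≫ tmap f ℓ = tmap f (ℓ'.comp ℓ) := by
  ext
  change Spec.map _ ≫ Spec.map _ = Spec.map _
  rw [specMap_comp, TrivSqZeroExt.map_comp_map]
  rfl

theorem tmap_id : tmap f (LinearMap.id : M →ₗ[B] M) = 𝟙 _ := by
  ext
  change Spec.map _ = 𝟙 _
  rw [TrivSqZeroExt.map_id]
  exact Spec.map_id _

theorem proj_zeroSec : (proj B f ≫ zeroSec B f : dpt B f ⟶ dpt B f) = tmap f (0 : B →ₗ[B] B) := by
  ext
  change Spec.map _ ≫ Spec.map _ = Spec.map _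
  rw [specMap_comp]
  congr 2
  apply RingHom.ext
  intro x
  ext <;> simp [TrivSqZeroExt.algebraMap_eq_inl']

theorem scale_eq (b : B) : scale B f b = tmap f (b • (LinearMap.id : B →ₗ[B] B)) := by
  ext
  change Spec.map _ = Spec.map _
  congr 2
  apply RingHom.ext
  intro x
  ext <;> simp [scaleHom, TrivSqZeroExt.algebraMap_eq_inl', mul_comm]

/-- Joint epimorphism property of the two coordinate axes in `Spec B[B × B]`. -/
theorem hom_ext_axes {X : Over S} (a b : T f (B × B) ⟶ X)
    (h₁ : tmap f (LinearMap.fst B B B) ≫ a = tmap f (LinearMap.fst B B B) ≫ b)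
    (h₂ : tmap f (LinearMap.snd B B B) ≫ a = tmap f (LinearMap.snd B B B) ≫ b) : a = b := by
  apply Over.OverMorphism.ext
  refine hom_ext_prod (TrivSqZeroExt.map (LinearMap.fst B B B)).toRingHom
    (TrivSqZeroExt.map (LinearMap.snd B B B)).toRingHom ?_ (TrivSqZeroExt.fstHom B B B).toRingHom ?_ ?_
    a.left b.left (congrArg CommaMorphism.left h₁) (congrArg CommaMorphism.left h₂)
  · intro x hx hy
    have h1 := congrArg TrivSqZeroExt.fst hx
    have h2 := congrArg TrivSqZeroExt.snd hx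
    have h3 := congrArg TrivSqZeroExt.snd hy
    simp at h1 h2 h3
    ext
    · simpa using h1
    · simpa using h2
    · simpa using h3
  · intro b
    exact ⟨TrivSqZeroExt.inl b, by simp⟩
  · intro x hx
    have h1 : x.fst = 0 := by simpa using hx
    ext <;> simp [h1]

/-- `mulMap` is an epimorphism of schemes. -/
theorem epi_mulMap_left : Epi (mulMap B f).left := by
  change Epi (Spec.map (CommRingCat.ofHom (mulHom B) :
    CommRingCat.of (DualNumber B) ⟶ CommRingCat.of (D2 B)))
  let τ₁ : D2 B →+* DualNumber B :=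
    (TrivSqZeroExt.fstHom (DualNumber B) (DualNumber B) (DualNumber B)).toRingHom
  let τ₂ : DualNumber B →+* B := (TrivSqZeroExt.fstHom B B B).toRingHom
  refine epi_specMap (D := DualNumber B) (C := D2 B) (B₀ := B) (mulHom B) ?_ (τ₂.comp τ₁) ?_ ?_
  · rw [injective_iff_map_eq_zero]
    intro x hx
    have h1 := congrArg (fun z => z.fst.fst) hx
    have h2 := congrArg (fun z => z.snd.snd) hx
    simp [mulHom, TrivSqZeroExt.algebraMap_eq_inl'] at h1 h2
    ext
    · exact h1
    · exact h2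
  · intro b
    refine ⟨TrivSqZeroExt.inl b, ?_⟩
    simp [τ₁, τ₂, mulHom, TrivSqZeroExt.algebraMap_eq_inl']
  · intro x hx
    have h1 : x.fst = 0 := by
      simpa [τ₁, τ₂, mulHom, TrivSqZeroExt.algebraMap_eq_inl'] using hx
    ext <;> simp [h1]

theorem mulMap_cancel {X : Over S} (a b : dpt B f ⟶ X) (h : mulMap B f ≫ a = mulMap B f ≫ b) : a = b := by
  apply Over.OverMorphism.ext
  have := epi_mulMap_left f
  rw [← cancel_epi (mulMap B f).left]
  exact congrArg CommaMorphism.left h

end T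

section Mon

variable {S : Scheme.{u}} {B : Type u} [CommRing B] (f : Spec (CommRingCat.of B) ⟶ S)
  (X : Over S) [MonObj X]

theorem tmap_zero_comp (v : dpt B f ⟶ X) (hv : zeroSec B f ≫ v = 1) :
    tmap f (0 : B →ₗ[B] B) ≫ v = 1 := by
  have h : tmap f (0 : B →ₗ[B] B) ≫ v = proj B f ≫ zeroSec B f ≫ v := by
    have := congrArg (fun w => w ≫ v) (proj_zeroSec f)
    simp only [Category.assoc] at this
    exact this.symm
  rw [h, hv, MonObj.comp_one]
  rfl

theorem tmap_add (v : T f B ⟶ X) (hv : tmap f (0 : B →ₗ[B] B) ≫ v = 1) (ℓ₁ ℓ₂ : B →ₗ[B] B) :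
    tmap f (ℓ₁ + ℓ₂) ≫ v = (tmap f ℓ₁ ≫ v) * (tmap f ℓ₂ ≫ v) := by
  have e1 : (LinearMap.fst B B B).comp (ℓ₁.prod ℓ₂) = ℓ₁ := by ext; simp
  have e2 : (LinearMap.fst B B B).comp ((LinearMap.inl B B B).comp ℓ₁) = ℓ₁ := by ext; simp
  have e3 : (LinearMap.fst B B B).comp ((LinearMap.inr B B B).comp ℓ₂) = 0 := by ext; simp
  have e4 : (LinearMap.snd B B B).comp (ℓ₁.prod ℓ₂) = ℓ₂ := by ext; simp
  have e5 : (LinearMap.snd B B B).comp ((LinearMap.inl B B B).comp ℓ₁) = 0 := by ext; simp
  have e6 : (LinearMap.snd B B B).comp ((LinearMap.inr B B B).comp ℓ₂) = ℓ₂ := by ext; simp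
  have e7 : ((LinearMap.id : B →ₗ[B] B).coprod LinearMap.id).comp (ℓ₁.prod ℓ₂) = ℓ₁ + ℓ₂ := by
    ext; simp
  have e8 : ((LinearMap.id : B →ₗ[B] B).coprod LinearMap.id).comp ((LinearMap.inl B B B).comp ℓ₁) = ℓ₁ := by
    ext; simp
  have e9 : ((LinearMap.id : B →ₗ[B] B).coprod LinearMap.id).comp ((LinearMap.inr B B B).comp ℓ₂) = ℓ₂ := by
    ext; simp
  have key : tmap f (ℓ₁.prod ℓ₂) ≫ v =
      (tmap f (LinearMap.inl B B B) ≫ tmap f ℓ₁ ≫ v) *
        (tmap f (LinearMap.inr B B B) ≫ tmap f ℓ₂ ≫ v) := by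
    apply hom_ext_axes
    · rw [MonObj.comp_mul]
      simp only [← Category.assoc, tmap_comp]
      rw [e1, e2, e3, hv, _root_.mul_one]
    · rw [MonObj.comp_mul]
      simp only [← Category.assoc, tmap_comp]
      rw [e4, e5, e6, hv, _root_.one_mul]
  have key2 := congrArg (fun w => tmap f ((LinearMap.id : B →ₗ[B] B).coprod LinearMap.id) ≫ w) key
  simp only [MonObj.comp_mul] at key2
  simp only [← Category.assoc, tmap_comp] at key2
  rw [e7, e8, e9] at key2
  exact key2

/-- Additivity of the rescaling action on points restricting to the unit section. -/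
theorem scale_add_comp (v : dpt B f ⟶ X) (hv : zeroSec B f ≫ v = 1) (m n : B) :
    scale B f (m + n) ≫ v = (scale B f m ≫ v) * (scale B f n ≫ v) := by
  rw [scale_eq, scale_eq, scale_eq, add_smul]
  exact tmap_add f X v (tmap_zero_comp f X v hv) _ _

theorem scale_zero_comp (v : dpt B f ⟶ X) (hv : zeroSec B f ≫ v = 1) :
    scale B f 0 ≫ v = 1 := by
  rw [scale_eq, zero_smul]
  exact tmap_zero_comp f X v hv

omit [MonObj X] in
theorem scale_one_comp (v : dpt B f ⟶ X) : scale B f 1 ≫ v = v := by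
  rw [scale_eq, one_smul]
  have := tmap_id (M := B) f
  rw [this]
  exact Category.id_comp v

end Mon

end Groth.Agent.Lib.LieSEpi
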