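import Groth.Agent.Lib.FibreAlg21
import Groth.Agent.Lib.FibreRank21
import Groth.Agent.Lib.FlatCxLES
import Groth.Agent.Lib.EndEquivH44

/-!
# Lifting classes from the residue field (helper21)

`A` Noetherian, `L` a complex of finite flat `A`-modules, `x` a prime with `T^{i+1}_L(κ(x)) = 0`.  Then
`T^i_L(A)_x → T^i_L(κ(x))` is surjective: for every `t ∈ T^i_L(κ(x))` there are `a ∉ x` and `s ∈ T^i_L(A)` with
`T^i_L(1 ↦ 1)(s) = a • t` (`exists_smul_eq_map`, `exists_smul_eq_map_of_equiv` for an `A`-algebra `K ≃ κ(x)`).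
Also the transport of such statements along `EndEquiv` (`EndEquiv.exists_map_eq_of`).
-/

set_option autoImplicit false
set_option linter.style.haveILetI false
universe u

open CategoryTheory CategoryTheory.Limits CohIII TensorProduct

namespace Groth.Agent.Lib.LiftAlg21

open Groth.Agent.Lib.FibreAlg21 Groth.Agent.Lib.TFunBaseChange Groth.Agent.Lib.TFunBC
  Groth.Agent.Lib.TFun Groth.Agent.Lib.TFunCompare Groth.Agent.Lib.EndEquivH44 Groth.Agent.Lib.EWH44

section Transport

variable {A : Type u} [Ring A]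

/-- **Transport of "the image of `S(φ)` contains `S(α)(t)` for some `α ∈ Φ`"** along `EndEquiv`. -/
theorem EndEquiv.exists_map_eq_of {S T : ModuleCat.{u} A ⥤ AddCommGrpCat.{u}} (h : EndEquiv S T)
    {M N : ModuleCat.{u} A} (φ : M ⟶ N) (Φ : Set (N ⟶ N))
    (hT : ∀ t : T.obj N, ∃ α ∈ Φ, ∃ s : T.obj M, (T.map φ).hom s = (T.map α).hom t)
    (t : S.obj N) : ∃ α ∈ Φ, ∃ s : S.obj M, (S.map φ).hom s = (S.map α).hom t := by
  obtain ⟨e, he⟩ := h (prodObj M N)
  have hSN : ∀ z : S.obj N, (S.map (prN M N)).hom ((S.map (inN M N)).hom z) = z := by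
    intro z
    rw [← ConcreteCategory.comp_apply, ← S.map_comp, inN_prN, S.map_id]
    rfl
  have hTM : ∀ z : T.obj M, (T.map (prM M N)).hom ((T.map (inM M N)).hom z) = z := by
    intro z
    rw [← ConcreteCategory.comp_apply, ← T.map_comp, inM_prM, T.map_id]
    rfl
  set y : T.obj (prodObj M N) := e ((S.map (inN M N)).hom t) with hy
  obtain ⟨α, hα, s₂, hs₂⟩ := hT ((T.map (prN M N)).hom y)
  refine ⟨α, hα, (S.map (prM M N)).hom (e.symm ((T.map (inM M N)).hom s₂)), ?_⟩
  -- apply the injective map `S(inN)`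
  have hinj : Function.Injective (S.map (inN M N)).hom := by
    intro z z' hzz
    have := congrArg (S.map (prN M N)).hom hzz
    rwa [hSN, hSN] at this
  apply hinj
  have e1 : (S.map (inN M N)).hom ((S.map φ).hom ((S.map (prM M N)).hom
      (e.symm ((T.map (inM M N)).hom s₂)))) =
      (S.map (prM M N ≫ φ ≫ inN M N)).hom (e.symm ((T.map (inM M N)).hom s₂)) := by
    rw [S.map_comp, S.map_comp]
    rfl
  have e2 : (S.map (prM M N ≫ φ ≫ inN M N)).hom (e.symm ((T.map (inM M N)).hom s₂)) =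
      e.symm ((T.map (prM M N ≫ φ ≫ inN M N)).hom ((T.map (inM M N)).hom s₂)) := by
    apply e.injective
    rw [he, AddEquiv.apply_symm_apply, AddEquiv.apply_symm_apply]
  have e3 : (T.map (prM M N ≫ φ ≫ inN M N)).hom ((T.map (inM M N)).hom s₂) =
      (T.map (inN M N)).hom ((T.map φ).hom s₂) := by
    rw [T.map_comp, T.map_comp]
    change (T.map (inN M N)).hom ((T.map φ).hom ((T.map (prM M N)).hom ((T.map (inM M N)).hom s₂))) = _
    rw [hTM]
  have e4 : (T.map (inN M N)).hom ((T.map α).hom ((T.map (prN M N)).hom y)) =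
      (T.map (prN M N ≫ α ≫ inN M N)).hom y := by
    rw [T.map_comp, T.map_comp]
    rfl
  have e5 : e.symm ((T.map (prN M N ≫ α ≫ inN M N)).hom y) =
      (S.map (prN M N ≫ α ≫ inN M N)).hom ((S.map (inN M N)).hom t) := by
    apply e.injective
    rw [he, AddEquiv.apply_symm_apply]
  have e6 : (S.map (prN M N ≫ α ≫ inN M N)).hom ((S.map (inN M N)).hom t) =
      (S.map (inN M N)).hom ((S.map α).hom t) := by
    rw [S.map_comp, S.map_comp]
    change (S.map (inN M N)).hom ((S.map α).hom ((S.map (prN M N)).hom ((S.map (inN M N)).hom t))) = _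
    rw [hSN]
  rw [e1, e2, e3, hs₂, e4, e5, e6]

end Transport

section Alg

variable {A : Type u} [CommRing A] (L : CochainComplex (ModuleCat.{u} A) ℤ)

/-- every element of `N ⊗ A_x` becomes of the form `n ⊗ 1` after multiplication by some `b ∉ x` -/
theorem exists_smul_eq_tmul_one (S : Submonoid A) (R : Type u) [CommRing R] [Algebra A R]
    [IsLocalization S R] (N : Type u) [AddCommGroup N] [Module A N] (w : N ⊗[A] R) :
    ∃ b ∈ S, ∃ n : N, b • w = n ⊗ₜ[A] (1 : R) := by
  induction w using TensorProduct.induction_on with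
  | zero => exact ⟨1, S.one_mem, 0, by simp⟩
  | tmul n r =>
    obtain ⟨a, b, rfl⟩ := IsLocalization.exists_mk'_eq S r
    refine ⟨b, b.2, a • n, ?_⟩
    rw [TensorProduct.smul_tmul', TensorProduct.smul_tmul, TensorProduct.smul_tmul]
    congr 1
    rw [Algebra.smul_def, Algebra.smul_def, mul_one, IsLocalization.mk'_spec']
  | add w₁ w₂ h₁ h₂ =>
    obtain ⟨b₁, hb₁, n₁, e₁⟩ := h₁
    obtain ⟨b₂, hb₂, n₂, e₂⟩ := h₂
    refine ⟨b₁ * b₂, S.mul_mem hb₁ hb₂, b₂ • n₁ + b₁ • n₂, ?_⟩
    rw [smul_add, mul_comm b₁ b₂, mul_smul, e₁, mul_comm b₂ b₁, mul_smul, e₂, TensorProduct.add_tmul,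
      TensorProduct.smul_tmul', TensorProduct.smul_tmul']

variable [IsNoetherianRing A] (hP : ∀ i, Module.Flat A (L.X i))
  (hfin : ∀ i, Module.Finite A (L.X i))
include hP hfin

/-- **Lifting from the residue field**: `T^i_L(A)_x → T^i_L(κ(x))` is onto if `T^{i+1}_L(κ(x)) = 0`. -/
theorem exists_smul_eq_map (x : PrimeSpectrum A) (i : ℤ)
    (h : IsZero ((TFun L (i + 1)).obj (ModuleCat.of A x.asIdeal.ResidueField)))
    (t : (TFun L i).obj (ModuleCat.of A x.asIdeal.ResidueField)) :
    ∃ a : A, a ∉ x.asIdeal ∧ ∃ s : NN L i,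
      ((TFun L i).map (pt (ModuleCat.of A x.asIdeal.ResidueField) 1)).hom s = a • t := by
  let R := Localization.AtPrime x.asIdeal
  -- vanishing of `T^{i+1}` on `R`-modules
  have h2 : ∀ N : ModuleCat.{u} R, IsZero ((TFun L (i + 1)).obj ((RB (A := A) R).obj N)) := fun N =>
    ((isZero_RB_iff (A := A) R _).mpr (isZero_bcCx_of_isZero_residue L hP hfin x (i + 1) h N)).of_iso
      (compareIso R L (i + 1) N).symm
  -- the short exact sequence `0 → m → R → κ → 0` of `R`-modules
  let m : Ideal R := IsLocalRing.maximalIdeal R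
  let SR : ShortComplex (ModuleCat.{u} R) :=
    ShortComplex.mk (ModuleCat.ofHom m.subtype) (ModuleCat.ofHom (Submodule.mkQ m))
      (by ext z; exact (Submodule.Quotient.mk_eq_zero m).mpr z.2)
  have hSR : SR.ShortExact := by
    refine ShortComplex.ShortExact.mk' ?_ ?_ ?_
    · rw [ShortComplex.moduleCat_exact_iff]
      intro z hz
      have hz' : Submodule.mkQ m z = 0 := hz
      rw [Submodule.mkQ_apply, Submodule.Quotient.mk_eq_zero] at hz'
      exact ⟨⟨z, hz'⟩, rfl⟩
    · rw [ModuleCat.mono_iff_injective]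
      exact Submodule.injective_subtype m
    · rw [ModuleCat.epi_iff_surjective]
      exact Submodule.mkQ_surjective m
  let S : ShortComplex (ModuleCat.{u} A) := SR.map (RB (A := A) R)
  have hS : S.ShortExact := hSR.map_of_exact (RB (A := A) R)
  have hex := Groth.Agent.Lib.FlatCxLES.exact₃ L hP S hS i (i + 1) (by simp)
  have hsurj : Function.Surjective ((TFun L i).map S.g).hom := by
    rw [← ModuleCat.epi_iff_surjective]
    exact hex.epi_f ((h2 _).eq_of_tgt _ _)
  -- identify with the `A`-modules `R` and `κ`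
  let eR : S.X₂ ≅ ModuleCat.of A R := rbIso R R
  let eκ : S.X₃ ≅ ModuleCat.of A x.asIdeal.ResidueField := rbIso R x.asIdeal.ResidueField
  let gA : ModuleCat.of A R ⟶ ModuleCat.of A x.asIdeal.ResidueField := eR.inv ≫ S.g ≫ eκ.hom
  obtain ⟨u, hu⟩ := hsurj (((TFun L i).map eκ.inv).hom t)
  have hu' : ((TFun L i).map gA).hom (((TFun L i).map eR.hom).hom u) = t := by
    change ((TFun L i).map (eR.inv ≫ S.g ≫ eκ.hom)).hom (((TFun L i).map eR.hom).hom u) = t
    rw [← LinearMap.comp_apply, ← ModuleCat.hom_comp, ← Functor.map_comp, ← Category.assoc,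
      ← Category.assoc, eR.hom_inv_id, Category.id_comp, Functor.map_comp, ModuleCat.hom_comp,
      LinearMap.comp_apply, hu, ← LinearMap.comp_apply, ← ModuleCat.hom_comp, ← Functor.map_comp,
      eκ.inv_hom_id, CategoryTheory.Functor.map_id]
    rfl
  haveI : Module.Flat A (ModuleCat.of A R) := inferInstanceAs (Module.Flat A R)
  obtain ⟨w, hw⟩ := (tM_bijective_of_flat L i (ModuleCat.of A R)).2 (((TFun L i).map eR.hom).hom u)
  obtain ⟨b, hb, n, hbn⟩ := exists_smul_eq_tmul_one x.asIdeal.primeCompl R (NN L i) w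
  refine ⟨b, hb, n, ?_⟩
  have h3 : ((TFun L i).map gA).hom (EW.tM (TFun L i) (ModuleCat.of A R) (b • w)) = b • t := by
    rw [map_smul, map_smul, hw, hu']
  rw [← h3, hbn, EW.tM_natural_apply, LinearMap.lTensor_tmul, EW.tM_tmul]
  have h4 : gA.hom (1 : R) = (1 : x.asIdeal.ResidueField) := rfl
  rw [h4]
  rfl

/-- the same for an `A`-algebra `K` identified with `κ(x)` -/
theorem exists_smul_eq_map_of_equiv (x : PrimeSpectrum A) (i : ℤ)
    (K : Type u) [CommRing K] [Algebra A K] (θ : K ≃+* x.asIdeal.ResidueField)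
    (hθ : ∀ a : A, θ (algebraMap A K a) = algebraMap A x.asIdeal.ResidueField a)
    (h : IsZero ((TFun L (i + 1)).obj (ModuleCat.of A x.asIdeal.ResidueField)))
    (t : (TFun L i).obj (ModuleCat.of A K)) :
    ∃ a : A, a ∉ x.asIdeal ∧ ∃ s : NN L i,
      ((TFun L i).map (pt (ModuleCat.of A K) 1)).hom s = a • t := by
  let E := (Groth.Agent.Lib.FibreRank21.thetaLin K x θ hθ).toModuleIso
  obtain ⟨a, ha, s, hs⟩ := exists_smul_eq_map L hP hfin x i h (((TFun L i).map E.hom).hom t)
  refine ⟨a, ha, s, ?_⟩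
  have h1 : pt (ModuleCat.of A K) 1 ≫ E.hom = pt (ModuleCat.of A x.asIdeal.ResidueField) 1 := by
    rw [pt_comp]
    congr 1
    exact map_one θ
  have h2 : Function.Injective ((TFun L i).map E.hom).hom := by
    intro z z' hzz
    have := congrArg ((TFun L i).map E.inv).hom hzz
    simp only [← LinearMap.comp_apply, ← ModuleCat.hom_comp, ← Functor.map_comp, E.hom_inv_id,
      CategoryTheory.Functor.map_id] at this
    exact this
  apply h2
  rw [map_smul, ← hs, ← h1, Functor.map_comp]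
  rfl

end Alg

end Groth.Agent.Lib.LiftAlg21
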