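import Mathlib
import Groth.Agent.Lib.BiRec66

/-!
# Lifting complexes along a localization functor with two-sided calculus of fractions

`exists_lift_complex`: if `L : C ⥤ D` is an additive localization functor for `W` (preadditive
categories) and `W` has a left and a right calculus of fractions, then every `ℤ`-indexed cochain
complex of `D` is isomorphic to `L` applied termwise to a cochain complex of `C`.
-/

set_option autoImplicit false
set_option linter.unusedSectionVars false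
universe v v' u u'
open CategoryTheory CategoryTheory.Limits

namespace Groth.Agent.Lib.LiftComplexLoc66

variable {C : Type u} [Category.{v} C] [Preadditive C] {D : Type u'} [Category.{v'} D]
  [Preadditive D] (L : C ⥤ D) (W : MorphismProperty C) [L.IsLocalization W]
  [W.HasLeftCalculusOfFractions] [W.HasRightCalculusOfFractions] [L.Additive]
  (K : CochainComplex D ℤ)

include W in
lemma exists_up (k k' : ℤ) (Y : C) (eY : L.obj Y ≅ K.X k) {Z : C} (g : Z ⟶ Y)
    (hg : L.map g ≫ eY.hom ≫ K.d k k' = 0) :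
    ∃ (Y' : C) (d' : Y ⟶ Y') (eY' : L.obj Y' ≅ K.X k'),
      L.map d' ≫ eY'.hom = eY.hom ≫ K.d k k' ∧ g ≫ d' = 0 := by
  have := Localization.essSurj L W
  let e₀ : L.obj (L.objPreimage (K.X k')) ≅ K.X k' := L.objObjPreimageIso _
  obtain ⟨φ, hφ⟩ := Localization.exists_leftFraction L W (eY.hom ≫ K.d k k' ≫ e₀.inv)
  have hs : IsIso (L.map φ.s) := Localization.inverts L W _ φ.hs
  have h1 : L.map φ.f = (eY.hom ≫ K.d k k' ≫ e₀.inv) ≫ L.map φ.s := by
    rw [hφ]; simp [MorphismProperty.LeftFraction.map]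
  have h2 : L.map (g ≫ φ.f) = L.map 0 := by
    rw [L.map_comp, h1, L.map_zero]
    simp only [Category.assoc]
    rw [reassoc_of% hg, zero_comp]
  rw [MorphismProperty.map_eq_iff_postcomp L W] at h2
  obtain ⟨Y₂, s', hs', h3⟩ := h2
  have : IsIso (L.map s') := Localization.inverts L W _ hs'
  refine ⟨Y₂, φ.f ≫ s', (asIso (L.map s')).symm ≪≫ (asIso (L.map φ.s)).symm ≪≫ e₀, ?_, ?_⟩
  · simp [h1]
  · simpa using h3

include W in
lemma exists_down (i k : ℤ) (X' : C) (eX' : L.obj X' ≅ K.X k) {Z : C} (g : X' ⟶ Z)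
    (hg : K.d i k ≫ eX'.inv ≫ L.map g = 0) :
    ∃ (X : C) (d : X ⟶ X') (eX : L.obj X ≅ K.X i),
      L.map d ≫ eX'.hom = eX.hom ≫ K.d i k ∧ d ≫ g = 0 := by
  have := Localization.essSurj L W
  let e₀ : L.obj (L.objPreimage (K.X i)) ≅ K.X i := L.objObjPreimageIso _
  obtain ⟨φ, hφ⟩ := Localization.exists_rightFraction L W (e₀.hom ≫ K.d i k ≫ eX'.inv)
  have hs : IsIso (L.map φ.s) := Localization.inverts L W _ φ.hs
  have h1 : L.map φ.f = L.map φ.s ≫ (e₀.hom ≫ K.d i k ≫ eX'.inv) := by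
    rw [hφ]; simp [MorphismProperty.RightFraction.map]
  have h2 : L.map (φ.f ≫ g) = L.map 0 := by
    rw [L.map_comp, h1, L.map_zero]
    simp only [Category.assoc]
    rw [hg, comp_zero, comp_zero]
  rw [MorphismProperty.map_eq_iff_precomp L W] at h2
  obtain ⟨X₂, s', hs', h3⟩ := h2
  have : IsIso (L.map s') := Localization.inverts L W _ hs'
  refine ⟨X₂, s' ≫ φ.f, asIso (L.map s') ≪≫ asIso (L.map φ.s) ≪≫ e₀, ?_, ?_⟩
  · simp [h1]
  · simpa using h3

/-- A lifted differential `X ⟶ Y` from degree `i` to degree `i+1`. -/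
structure Piece (i : ℤ) where
  X : C
  Y : C
  d : X ⟶ Y
  eX : L.obj X ≅ K.X i
  eY : L.obj Y ≅ K.X (i+1)
  comm : L.map d ≫ eY.hom = eX.hom ≫ K.d i (i+1)

variable {L K} in
/-- Consecutive pieces are linked. -/
def Rel (i k : ℤ) (h : i + 1 = k) (t : Piece L K i) (t' : Piece L K k) : Prop :=
  ∃ α : t.Y ⟶ t'.X, L.map α ≫ t'.eX.hom = t.eY.hom ≫ (K.XIsoOfEq h).hom ∧ t.d ≫ α ≫ t'.d = 0

include W in
lemma exists_piece_zero : Nonempty (Piece L K 0) := by
  have := Localization.essSurj L W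
  let e₀ : L.obj (L.objPreimage (K.X 0)) ≅ K.X 0 := L.objObjPreimageIso _
  obtain ⟨Y', d', eY', h1, -⟩ := exists_up L W K 0 (0+1) _ e₀ (0 : L.objPreimage (K.X 0) ⟶ _)
    (by simp)
  exact ⟨⟨_, Y', d', e₀, eY', h1⟩⟩

include W in
lemma exists_rel_up (i k : ℤ) (h : i + 1 = k) (t : Piece L K i) :
    ∃ t' : Piece L K k, Rel i k h t t' := by
  subst h
  obtain ⟨Y', d', eY', h1, h2⟩ := exists_up L W K (i+1) (i+1+1) t.Y t.eY t.d (by
    rw [reassoc_of% t.comm, K.d_comp_d, comp_zero])
  refine ⟨⟨t.Y, Y', d', t.eY, eY', h1⟩, 𝟙 _, ?_, ?_⟩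
  · simp [HomologicalComplex.XIsoOfEq]
  · simpa using h2

include W in
lemma exists_rel_down (i k : ℤ) (h : i + 1 = k) (t' : Piece L K k) :
    ∃ t : Piece L K i, Rel i k h t t' := by
  subst h
  have hd : L.map t'.d = t'.eX.hom ≫ K.d (i+1) (i+1+1) ≫ t'.eY.inv := by
    rw [← reassoc_of% t'.comm, Iso.hom_inv_id, Category.comp_id]
  obtain ⟨X, d, eX, h1, h2⟩ := exists_down L W K i (i+1) t'.X t'.eX t'.d (by
    rw [hd, Iso.inv_hom_id_assoc, K.d_comp_d_assoc, zero_comp])
  refine ⟨⟨X, t'.X, d, eX, t'.eX, h1⟩, 𝟙 _, ?_, ?_⟩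
  · simp [HomologicalComplex.XIsoOfEq]
  · simpa using h2

include W in
/-- **Lifting complexes along a localization functor** with a two-sided calculus of fractions:
every `ℤ`-indexed cochain complex in the localized category is isomorphic to the image of a
complex. -/
theorem exists_lift_complex :
    ∃ X : CochainComplex C ℤ, Nonempty ((L.mapHomologicalComplex (ComplexShape.up ℤ)).obj X ≅ K) := by
  obtain ⟨t₀⟩ := exists_piece_zero L W K
  obtain ⟨S, hS⟩ := Groth.Agent.Lib.BiRec66.exists_biSeq (T := fun i => Piece L K i)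
    (fun i k h t t' => Rel i k h t t') t₀ (exists_rel_up L W K) (exists_rel_down L W K)
  choose α hα1 hα2 using fun i => hS i (i+1) rfl
  refine ⟨CochainComplex.of (fun i => (S i).X) (fun i => (S i).d ≫ α i) (fun i => ?_), ⟨?_⟩⟩
  · rw [Category.assoc, reassoc_of% hα2, zero_comp]
  · refine HomologicalComplex.Hom.isoOfComponents (fun i => (S i).eX) ?_
    rintro i k (rfl : i + 1 = k)
    have h1 := hα1 i
    simp only [HomologicalComplex.XIsoOfEq, eqToIso_refl, Iso.refl_hom, Category.comp_id] at h1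
    simp only [Functor.mapHomologicalComplex_obj_d, CochainComplex.of_d, Functor.map_comp]
    erw [Category.assoc, h1, (S i).comm]
    rfl

end Groth.Agent.Lib.LiftComplexLoc66
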