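import Groth.Agent.Lib.SmoothAlgLift22h
import Groth.Prelude.Def_Smoothing

/-!
# Stacks 07CM (helper22): lifting factorizations through smooth algebras along a square-zero ideal

`lift_once`: `I² = 0` in `R`, `Λ` an `R`-algebra with `Λ/IΛ` ind-smooth over `R/I`.  Any map
`A → Λ` from a finitely presented `R`-algebra factors through `B/J`, `B` smooth over `R`,
`J ⊆ IB` finitely generated.
-/

set_option autoImplicit false
universe u

namespace Groth.Agent.Lib.LiftOnce22

open TensorProduct MvPolynomial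

theorem lift_once {R Λ A : Type u} [CommRing R] [CommRing Λ] [Algebra R Λ] (I : Ideal R)
    (hI : I ^ 2 = ⊥) (h : Smoothing.IndSmooth (R ⧸ I) (Λ ⧸ I.map (algebraMap R Λ)))
    [CommRing A] [Algebra R A] [Algebra.FinitePresentation R A] (φ : A →ₐ[R] Λ) :
    ∃ (B : Type u) (_ : CommRing B) (_ : Algebra R B), Algebra.Smooth R B ∧
      ∃ J : Ideal B, J ≤ I.map (algebraMap R B) ∧ J.FG ∧
        ∃ (g : A →ₐ[R] B ⧸ J) (k : (B ⧸ J) →ₐ[R] Λ), k.comp g = φ := by
  classical
  -- Step 1: factor modulo `I`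
  let f : (R ⧸ I) ⊗[R] A →ₐ[R ⧸ I] Λ ⧸ I.map (algebraMap R Λ) :=
    Algebra.TensorProduct.lift (Algebra.ofId (R ⧸ I) _)
      ((Ideal.Quotient.mkₐ R (I.map (algebraMap R Λ))).comp φ) (fun _ _ => Commute.all _ _)
  obtain ⟨Bb, _, _, hBb, gb, hb, hcomp⟩ := h ((R ⧸ I) ⊗[R] A) inferInstance f
  -- Step 2: lift `Bb` to a smooth `R`-algebra
  obtain ⟨B, _, _, hBsm, ⟨e⟩⟩ := Groth.Agent.Lib.SmoothAlgLift22.exists_smooth_lift I (A₀ := Bb)
  -- Step 3: lift `B → Λ/IΛ` to `B → Λ`
  let ψ₀ : B →ₐ[R] Λ ⧸ I.map (algebraMap R Λ) :=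
    { toRingHom := (hb : Bb →+* _).comp ((e : _ →+* Bb).comp
        (Ideal.Quotient.mk (I.map (algebraMap R B))))
      commutes' := fun a => by
        change hb (e (Ideal.Quotient.mk _ (algebraMap R B a))) = _
        have h1 : Ideal.Quotient.mk (I.map (algebraMap R B)) (algebraMap R B a) =
            algebraMap (R ⧸ I) (B ⧸ I.map (algebraMap R B)) (Ideal.Quotient.mk I a) := rfl
        rw [h1, e.commutes, hb.commutes]
        rfl }
  have hψ₀ : ∀ x : B, ψ₀ x = hb (e (Ideal.Quotient.mk _ x)) := fun x => rfl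
  have hnil : IsNilpotent (I.map (algebraMap R Λ)) := ⟨2, by rw [← Ideal.map_pow, hI, Ideal.map_bot]; rfl⟩
  let ψ : B →ₐ[R] Λ := Algebra.FormallySmooth.lift (I.map (algebraMap R Λ)) hnil ψ₀
  have hψ : ∀ x : B, Ideal.Quotient.mk (I.map (algebraMap R Λ)) (ψ x) = ψ₀ x :=
    Algebra.FormallySmooth.mk_lift _ hnil ψ₀
  -- Step 4: presentation of `A`
  obtain ⟨n, π, hπ, hker⟩ := (inferInstance : Algebra.FinitePresentation R A).out
  have hex : ∀ i : Fin n, ∃ b : B, e (Ideal.Quotient.mk _ b) = gb ((1 : R ⧸ I) ⊗ₜ[R] π (X i)) := by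
    intro i
    obtain ⟨y, hy⟩ := e.surjective (gb ((1 : R ⧸ I) ⊗ₜ[R] π (X i)))
    obtain ⟨b, rfl⟩ := Ideal.Quotient.mk_surjective y
    exact ⟨b, hy⟩
  choose b hb' using hex
  have hlam : ∀ i, ψ (b i) - φ (π (X i)) ∈ I.map (algebraMap R Λ) := by
    intro i
    rw [← Ideal.Quotient.eq, hψ, hψ₀, hb' i]
    have := congr($hcomp ((1 : R ⧸ I) ⊗ₜ[R] π (X i)))
    rw [AlgHom.comp_apply] at this
    rw [this]
    simp [f]
  -- decompose the differences
  have hdec : ∀ i, ∃ (m : ℕ) (c : Fin m → Λ) (ε : Fin m → R), (∀ j, ε j ∈ I) ∧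
      ∑ j, c j * algebraMap R Λ (ε j) = ψ (b i) - φ (π (X i)) := by
    intro i
    have := hlam i
    rw [Ideal.map, Ideal.span, Submodule.mem_span_set'] at this
    obtain ⟨m, c, gg, hsum⟩ := this
    choose ε hεI hε using fun j => (gg j).2
    refine ⟨m, c, ε, hεI, ?_⟩
    rw [← hsum]
    refine Finset.sum_congr rfl fun j _ => ?_
    rw [hε j, smul_eq_mul]
  choose m c ε hεI hsum using hdec
  -- the polynomial ring over `B`
  let σ := (i : Fin n) × Fin (m i)
  let B' := MvPolynomial σ B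
  have hB'sm : Algebra.Smooth B B' := ⟨inferInstance, inferInstance⟩
  have hB'smR : Algebra.Smooth R B' := Algebra.Smooth.comp R B B'
  letI : Algebra B Λ := ψ.toRingHom.toAlgebra
  haveI : IsScalarTower R B Λ := IsScalarTower.of_algebraMap_eq fun a => (ψ.commutes a).symm
  let ψ' : B' →ₐ[R] Λ :=
    (MvPolynomial.aeval (fun s : σ => c s.1 s.2) : B' →ₐ[B] Λ).restrictScalars R
  have hψ'C : ∀ x : B, ψ' (C x) = ψ x := fun x => by
    change MvPolynomial.aeval _ (C x) = _
    rw [MvPolynomial.aeval_C]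
    rfl
  have hψ'X : ∀ s : σ, ψ' (X s) = c s.1 s.2 := fun s => by
    change MvPolynomial.aeval _ (X s) = _
    rw [MvPolynomial.aeval_X]
  let b' : Fin n → B' := fun i => C (b i) - ∑ j, C (algebraMap R B (ε i j)) * X (⟨i, j⟩ : σ)
  have hψ'b' : ∀ i, ψ' (b' i) = φ (π (X i)) := by
    intro i
    simp only [b', map_sub, map_sum, map_mul, hψ'C, hψ'X]
    have : ∑ j, ψ (algebraMap R B (ε i j)) * c i j = ψ (b i) - φ (π (X i)) := by
      rw [← hsum i]
      refine Finset.sum_congr rfl fun j _ => ?_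
      rw [ψ.commutes, mul_comm]
    rw [this]
    ring
  let ev : MvPolynomial (Fin n) R →ₐ[R] B' := MvPolynomial.aeval b'
  have hcompat : ψ'.comp ev = φ.comp π := by
    apply MvPolynomial.algHom_ext
    intro i
    simp only [AlgHom.comp_apply, ev, MvPolynomial.aeval_X, hψ'b']
  -- the ideal
  let J : Ideal B' := (RingHom.ker π.toRingHom).map ev
  have hJfg : J.FG := hker.map _
  -- `J ⊆ I B'`
  have hmapC : ∀ r : R, algebraMap R B' r = C (algebraMap R B r) := fun r => rfl
  have hJI : J ≤ I.map (algebraMap R B') := by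
    rw [Ideal.map_le_iff_le_comap]
    intro p hp
    rw [Ideal.mem_comap]
    let κ := Ideal.Quotient.mkₐ R (I.map (algebraMap R B'))
    let Calg : B →ₐ[R] B' := IsScalarTower.toAlgHom R B B'
    have h1 : κ.comp ev = κ.comp (Calg.comp (MvPolynomial.aeval b)) := by
      apply MvPolynomial.algHom_ext
      intro i
      simp only [AlgHom.comp_apply, ev, MvPolynomial.aeval_X]
      change Ideal.Quotient.mk _ (b' i) = Ideal.Quotient.mk _ (C (b i))
      rw [Ideal.Quotient.eq]
      simp only [b', sub_sub_cancel_left]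
      refine neg_mem (Ideal.sum_mem _ fun j _ => Ideal.mul_mem_right _ _ ?_)
      rw [← hmapC]
      exact Ideal.mem_map_of_mem _ (hεI i j)
    -- `aeval b p ∈ I B`
    have h2 : MvPolynomial.aeval b p ∈ I.map (algebraMap R B) := by
      rw [← Ideal.Quotient.eq_zero_iff_mem, ← map_eq_zero_iff e e.injective]
      letI : Algebra R Bb := ((algebraMap (R ⧸ I) Bb).comp (Ideal.Quotient.mk I)).toAlgebra
      haveI : IsScalarTower R (R ⧸ I) Bb := IsScalarTower.of_algebraMap_eq fun _ => rfl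
      let emk : B →ₐ[R] Bb :=
        { toRingHom := (e : _ →+* Bb).comp (Ideal.Quotient.mk (I.map (algebraMap R B)))
          commutes' := fun a => by
            change e (Ideal.Quotient.mk _ (algebraMap R B a)) = _
            have h1 : Ideal.Quotient.mk (I.map (algebraMap R B)) (algebraMap R B a) =
                algebraMap (R ⧸ I) (B ⧸ I.map (algebraMap R B)) (Ideal.Quotient.mk I a) := rfl
            rw [h1, e.commutes]
            rfl }
      let gbA : A →ₐ[R] Bb := (gb.restrictScalars R).comp Algebra.TensorProduct.includeRight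
      have h3 : emk.comp (MvPolynomial.aeval b) = gbA.comp π := by
        apply MvPolynomial.algHom_ext
        intro i
        simp only [AlgHom.comp_apply, MvPolynomial.aeval_X]
        exact hb' i
      have h4 := congr($h3 p)
      simp only [AlgHom.comp_apply] at h4
      have hp0 : π p = 0 := hp
      rw [hp0, map_zero] at h4
      exact h4
    have h5 := congr($h1 p)
    simp only [AlgHom.comp_apply] at h5
    have h6 : κ (Calg (MvPolynomial.aeval b p)) = 0 := by
      change Ideal.Quotient.mk _ (algebraMap B B' (MvPolynomial.aeval b p)) = 0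
      rw [Ideal.Quotient.eq_zero_iff_mem]
      have := Ideal.mem_map_of_mem (algebraMap B B') h2
      rwa [Ideal.map_map, ← IsScalarTower.algebraMap_eq] at this
    rw [h6] at h5
    exact Ideal.Quotient.eq_zero_iff_mem.1 h5
  -- the maps
  have hψ'J : ∀ x ∈ J, ψ' x = 0 := by
    intro x hx
    have hle : J ≤ RingHom.ker ψ'.toRingHom := by
      rw [Ideal.map_le_iff_le_comap]
      intro p hp
      rw [Ideal.mem_comap, RingHom.mem_ker]
      have := congr($hcompat p)
      simp only [AlgHom.comp_apply] at this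
      change ψ' (ev p) = 0
      rw [this]
      have hp0 : π p = 0 := hp
      rw [hp0, map_zero]
    exact hle hx
  let k : (B' ⧸ J) →ₐ[R] Λ := Ideal.Quotient.liftₐ J ψ' hψ'J
  let g₀ : (MvPolynomial (Fin n) R ⧸ RingHom.ker π) →ₐ[R] B' ⧸ J :=
    Ideal.quotientMapₐ J ev (Ideal.le_comap_map)
  let g : A →ₐ[R] B' ⧸ J := g₀.comp (Ideal.quotientKerAlgEquivOfSurjective hπ).symm.toAlgHom
  refine ⟨B', inferInstance, inferInstance, hB'smR, J, hJI, hJfg, g, k, ?_⟩
  ext a
  obtain ⟨p, rfl⟩ := hπ a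
  have h7 : (Ideal.quotientKerAlgEquivOfSurjective hπ).symm (π p) = Ideal.Quotient.mk _ p := by
    rw [AlgEquiv.symm_apply_eq]
    rfl
  change k (g₀ ((Ideal.quotientKerAlgEquivOfSurjective hπ).symm (π p))) = φ (π p)
  rw [h7]
  change ψ' (ev p) = φ (π p)
  exact congr($hcompat p)

end Groth.Agent.Lib.LiftOnce22
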