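import Mathlib.RingTheory.AdicCompletion.Basic
import Mathlib.RingTheory.AdicCompletion.LocalRing
import Mathlib.RingTheory.Finiteness.Ideal
import Mathlib.RingTheory.Ideal.Maps
import Groth.Agent.Lib.AdicClosed
import Groth.Agent.Lib.LimAdic
import Groth.Agent.Lib.AdicPi

/-!
Variants of `Lib/LimAdic` without surjectivity of the transition maps (Stacks 09B8 style):

* `isAdicComplete_of_filtration_of_le`: a module `L` with a decreasing, separated and
  (telescopically) complete filtration `F` such that `I ^ (n+1) • ⊤ ≤ F n`, `I` finitely generated,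
  is `I`-adically complete.
* `isAdicComplete_limit_of_kill`: the limit of an inverse system `(M n)` of modules with
  `I ^ (n+1) M n = 0` is `I`-adically complete (no surjectivity needed).
* `finite_adicCompletion_of_finite_quotient`: a module over `AdicCompletion I A` that is `I`-adically
  separated (as an `A`-module) and with `L / I L` finite over `A` is finite over `AdicCompletion I A`.
-/

set_option autoImplicit false
universe u v

namespace Groth.Agent.Lib.LimAdic2

open Submodule

variable {A : Type u} [CommRing A] {L : Type v} [AddCommGroup L] [Module A L]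

/-- A module with a decreasing separated complete filtration `F` dominated from below by the shifted
`I`-adic filtration (`I` finitely generated) is `I`-adically complete. -/
theorem isAdicComplete_of_filtration_of_le (I : Ideal A) (hI : I.FG) (F : ℕ → Submodule A L)
    (hanti : ∀ n, F (n + 1) ≤ F n)
    (hJF : ∀ n, I ^ (n + 1) • (⊤ : Submodule A L) ≤ F n)
    (hsep : ∀ x : L, (∀ n, x ∈ F n) → x = 0)
    (hcompl : ∀ s : ℕ → L, (∀ m, s (m + 1) - s m ∈ F m) → ∃ x : L, ∀ m, x - s m ∈ F m) :
    IsAdicComplete I L := by
  have hanti' : ∀ a b, F (a + b) ≤ F a := by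
    intro a b
    induction b with
    | zero => exact le_rfl
    | succ b ih => exact (hanti (a + b)).trans ih
  have h1 : IsHausdorff I L := by
    refine ⟨fun x hx => hsep x fun n => ?_⟩
    have := hx (n + 1)
    rw [SModEq.zero] at this
    exact hJF n this
  have h2 : IsPrecomplete I L := by
    refine ⟨fun s hs => ?_⟩
    -- consecutive differences
    have hd : ∀ k, s (k + 1) - s k ∈ (I ^ k • ⊤ : Submodule A L) := by
      intro k
      have := hs (show k ≤ k + 1 by omega)
      rw [SModEq.sub_mem] at this
      rw [← neg_sub]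
      exact Submodule.neg_mem _ this
    obtain ⟨x, hx⟩ := hcompl (fun m => s (m + 1)) (fun m => hJF m (hd (m + 1)))
    refine ⟨x, fun n => ?_⟩
    rw [SModEq.sub_mem, ← neg_sub]
    refine Submodule.neg_mem _ ?_
    -- now show `x - s n ∈ I ^ n • ⊤`
    obtain ⟨t, μ, hμ⟩ := (Submodule.fg_iff_exists_fin_generating_family).1 (hI.pow (n := n))
    have hμ' : Ideal.span (Set.range μ) = I ^ n := hμ
    have hone : ∀ j : ℕ, ∃ z : Fin t → L, (∀ l, z l ∈ (I ^ j • ⊤ : Submodule A L)) ∧
        s (n + j + 1) - s (n + j) = ∑ l, μ l • z l := by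
      intro j
      have ha : s (n + j + 1) - s (n + j) ∈
          (Ideal.span (Set.range μ)) • (I ^ j • ⊤ : Submodule A L) := by
        rw [hμ', ← mul_smul, ← pow_add]
        exact hd (n + j)
      obtain ⟨z, hz, hzz⟩ := (Groth.Agent.Lib.AdicClosed.mem_span_range_smul_iff μ _ _).1 ha
      exact ⟨z, hz, hzz⟩
    choose z hz hzs using hone
    let S : ℕ → Fin t → L := fun m l => ∑ j ∈ Finset.range m, z j l
    have hS : ∀ m, s (n + m) - s n = ∑ l, μ l • S m l := by
      intro m
      induction m with
      | zero => simp [S]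
      | succ m ih =>
        have h1 : ∑ l, μ l • S (m + 1) l = ∑ l, μ l • S m l + ∑ l, μ l • z m l := by
          rw [← Finset.sum_add_distrib]
          refine Finset.sum_congr rfl fun l _ => ?_
          simp only [S, Finset.sum_range_succ, smul_add]
        rw [h1, ← ih, ← hzs m]
        have : n + (m + 1) = n + m + 1 := by omega
        rw [this]
        abel
    have hlim : ∀ l, ∃ C : L, ∀ m, C - S (m + 1) l ∈ F m := by
      intro l
      refine hcompl (fun m => S (m + 1) l) ?_
      intro m
      have : S (m + 1 + 1) l - S (m + 1) l = z (m + 1) l := by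
        simp only [S, Finset.sum_range_succ]; abel
      rw [this]
      exact hJF m (hz (m + 1) l)
    choose C hC using hlim
    have hfin : x - s n - ∑ l, μ l • C l = 0 := by
      apply hsep
      intro m
      have h1 : x - s n - ∑ l, μ l • C l =
          (x - s (n + m + 1)) - ∑ l, μ l • (C l - S (m + 1) l) := by
        have h2 := hS (m + 1)
        have : n + (m + 1) = n + m + 1 := by omega
        rw [this] at h2
        simp only [smul_sub, Finset.sum_sub_distrib]
        rw [← h2]
        abel
      rw [h1]
      refine Submodule.sub_mem _ ?_ ?_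
      · have hle : F (n + m) ≤ F m := by
          rw [add_comm]; exact hanti' m n
        exact hle (hx (n + m))
      · exact Submodule.sum_mem _ fun l _ => Submodule.smul_mem _ _ (hC l m)
    have hxC : x - s n = ∑ l, μ l • C l := sub_eq_zero.1 hfin
    rw [hxC, ← hμ']
    exact Submodule.sum_mem _ fun l _ =>
      Submodule.smul_mem_smul (Ideal.subset_span ⟨l, rfl⟩) Submodule.mem_top
  exact { h1, h2 with }

section module

variable (A : Type u) [CommRing A] (I : Ideal A) (hI : I.FG)
    (M : ℕ → Type v) [∀ n, AddCommGroup (M n)] [∀ n, Module A (M n)]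
    (f : ∀ n, M (n + 1) →ₗ[A] M n)
    (hkill : ∀ n, I ^ (n + 1) • (⊤ : Submodule A (M n)) = ⊥)
    (L : Type v) [AddCommGroup L] [Module A L] (π : ∀ n, L →ₗ[A] M n)
    (hπ : ∀ n, f n ∘ₗ π (n + 1) = π n)
    (hinj : ∀ x : L, (∀ n, π n x = 0) → x = 0)
    (hlift : ∀ y : (∀ n, M n), (∀ n, f n (y (n + 1)) = y n) → ∃ x : L, ∀ n, π n x = y n)

include hI hkill hπ hinj hlift in
/-- Stacks 09B8 style: the limit of an inverse system `(M n)` of modules with `I ^ (n+1) M n = 0`,
`I` finitely generated, is `I`-adically complete. -/
theorem isAdicComplete_limit_of_kill : IsAdicComplete I L := by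
  have hJF : ∀ n, I ^ (n + 1) • (⊤ : Submodule A L) ≤ LinearMap.ker (π n) := by
    intro n
    rw [LinearMap.le_ker_iff_map, Submodule.map_smul'']
    exact le_bot_iff.1 ((Submodule.smul_mono le_rfl le_top).trans (hkill n).le)
  have hanti : ∀ n, LinearMap.ker (π (n + 1)) ≤ LinearMap.ker (π n) := by
    intro n x hx
    rw [LinearMap.mem_ker] at hx ⊢
    rw [← hπ n, LinearMap.comp_apply, hx, map_zero]
  have hsep : ∀ x : L, (∀ n, x ∈ LinearMap.ker (π n)) → x = 0 := fun x hx => hinj x hx
  have hcompl : ∀ s : ℕ → L, (∀ m, s (m + 1) - s m ∈ LinearMap.ker (π m)) →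
      ∃ x : L, ∀ m, x - s m ∈ LinearMap.ker (π m) := by
    intro s hs
    obtain ⟨x, hx⟩ := hlift (fun m => π m (s m)) (by
      intro m
      have := hs m
      rw [LinearMap.mem_ker, map_sub, sub_eq_zero] at this
      rw [← LinearMap.comp_apply, hπ m, this])
    exact ⟨x, fun m => by rw [LinearMap.mem_ker, map_sub, hx m, sub_self]⟩
  exact isAdicComplete_of_filtration_of_le I hI (fun n => LinearMap.ker (π n)) hanti hJF hsep hcompl

end module

/-- A module over the `I`-adic completion `A^` of `A` (`I` finitely generated) that is `I`-adically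
separated and such that `L / I L` is a finite `A`-module is a finite `A^`-module. -/
theorem finite_adicCompletion_of_finite_quotient (I : Ideal A) (hI : I.FG)
    [Module (AdicCompletion I A) L] [IsScalarTower A (AdicCompletion I A) L]
    [IsHausdorff I L] (h : Module.Finite A (L ⧸ (I • ⊤ : Submodule A L))) :
    Module.Finite (AdicCompletion I A) L := by
  set J : Ideal (AdicCompletion I A) := I.map (algebraMap A (AdicCompletion I A)) with hJ
  have hc : IsAdicComplete J (AdicCompletion I A) := AdicCompletion.isAdicComplete_self I hI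
  have : IsPrecomplete J (AdicCompletion I A) := hc.toIsPrecomplete
  have : IsHausdorff J L := IsHausdorff.map_algebraMap_iff.2 inferInstance
  have hJL : ((J • ⊤ : Submodule (AdicCompletion I A) L).restrictScalars A) =
      (I • ⊤ : Submodule A L) := by
    rw [hJ, Ideal.smul_restrictScalars, Submodule.restrictScalars_top]
  -- generators
  obtain ⟨n, s, hs⟩ := Module.Finite.exists_fin (R := A) (M := L ⧸ (I • ⊤ : Submodule A L))
  have hx : ∀ i, ∃ x : L, mkQ (I • ⊤ : Submodule A L) x = s i :=
    fun i => mkQ_surjective _ (s i)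
  choose x hx using hx
  apply Groth.Agent.Lib.AdicPi.finite_of_finite_quotient J L
  classical
  refine ⟨⟨Finset.univ.image fun i => mkQ (J • ⊤ : Submodule (AdicCompletion I A) L) (x i), ?_⟩⟩
  rw [eq_top_iff]
  rintro y -
  obtain ⟨y, rfl⟩ := mkQ_surjective _ y
  have hy : mkQ (I • ⊤ : Submodule A L) y ∈ span A (Set.range s) := by rw [hs]; exact mem_top
  obtain ⟨c, hc⟩ := (Submodule.mem_span_range_iff_exists_fun A).1 hy
  have h1 : y - ∑ i, c i • x i ∈ (I • ⊤ : Submodule A L) := by
    rw [← Submodule.Quotient.mk_eq_zero, ← mkQ_apply, map_sub, map_sum, ← hc, sub_eq_zero]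
    simp only [map_smul, hx]
  have h2 : y - ∑ i, c i • x i ∈ (J • ⊤ : Submodule (AdicCompletion I A) L) := by
    rw [← hJL] at h1
    exact h1
  have h3 : mkQ (J • ⊤ : Submodule (AdicCompletion I A) L) y =
      ∑ i, algebraMap A (AdicCompletion I A) (c i) •
        mkQ (J • ⊤ : Submodule (AdicCompletion I A) L) (x i) := by
    rw [← sub_eq_zero]
    have : mkQ (J • ⊤ : Submodule (AdicCompletion I A) L) (y - ∑ i, c i • x i) = 0 := by
      rw [mkQ_apply, Submodule.Quotient.mk_eq_zero]; exact h2
    rw [← this, map_sub, map_sum]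
    congr 1
    refine Finset.sum_congr rfl fun i _ => ?_
    rw [← map_smul, algebraMap_smul]
  rw [h3]
  refine Submodule.sum_mem _ fun i _ => Submodule.smul_mem _ _ (Submodule.subset_span ?_)
  simp

end Groth.Agent.Lib.LimAdic2
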