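import Mathlib.AlgebraicGeometry.AffineTransitionLimit

set_option autoImplicit false
universe u

open CategoryTheory Limits AlgebraicGeometry

namespace Groth.Agent.Lib.LimBaseChange

variable {I : Type u} [Category.{u} I] (D : I ⥤ Scheme.{u}) (c : Cone D)

set_option backward.isDefEq.respectTransparency false in
/-- The base change of the diagram (restricted to objects over `i`) along `g : T ⟶ D.obj i`. -/
@[simps] noncomputable
def bcDiagram (i : I) {T : Scheme.{u}} (g : T ⟶ D.obj i) : Over i ⥤ Scheme.{u} where
  obj j := pullback (D.map j.hom) g
  map {j k} f := pullback.map (D.map j.hom) g (D.map k.hom) g (D.map f.left) (𝟙 T) (𝟙 _)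
    (by rw [Category.comp_id, ← D.map_comp, Over.w]) (by simp)
  map_id j := by
    apply pullback.hom_ext <;> simp
  map_comp f g' := by
    apply pullback.hom_ext <;> simp

set_option backward.isDefEq.respectTransparency false in
/-- The projection from the base-changed diagram. -/
@[simps] noncomputable
def bcDiagramFst (i : I) {T : Scheme.{u}} (g : T ⟶ D.obj i) :
    bcDiagram D i g ⟶ Over.forget _ ⋙ D where
  app j := pullback.fst _ _
  naturality j k f := by simp

set_option backward.isDefEq.respectTransparency false in
/-- The base-changed cone. -/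
@[simps] noncomputable
def bcCone (i : I) {T : Scheme.{u}} (g : T ⟶ D.obj i) : Cone (bcDiagram D i g) where
  pt := pullback (c.π.app i) g
  π :=
  { app j := pullback.map (c.π.app i) g (D.map j.hom) g (c.π.app j.left) (𝟙 T) (𝟙 _)
      (by simp) (by simp)
    naturality j k f := by
      apply pullback.hom_ext <;> simp }

attribute [local instance] CategoryTheory.isConnected_of_hasTerminal

set_option backward.isDefEq.respectTransparency false in
/-- The base-changed cone is a limit cone. -/
noncomputable
def isLimitBcCone [IsCofiltered I] (hc : IsLimit c) (i : I) {T : Scheme.{u}} (g : T ⟶ D.obj i) :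
    IsLimit (bcCone D c i g) :=
  isLimitOfIsPullbackOfIsConnected (bcDiagramFst D i g) _ _
    (by exact { hom := pullback.fst _ _ })
    (fun j ↦ by
      have h1 : IsPullback (pullback.snd (c.π.app i) g) (pullback.fst (c.π.app i) g)
          g (c.π.app i) := (IsPullback.of_hasPullback _ _).flip
      have h2 : IsPullback (pullback.snd (D.map j.hom) g) (pullback.fst (D.map j.hom) g)
          g (D.map j.hom) := (IsPullback.of_hasPullback _ _).flip
      refine IsPullback.of_right ?_ (by simp) h2
      simpa using h1)
    ((Functor.Initial.isLimitWhiskerEquiv (Over.forget i) c).symm hc)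

set_option backward.isDefEq.respectTransparency false in
theorem isPullback_bcDiagram_map (i : I) {T : Scheme.{u}} (g : T ⟶ D.obj i) {j k : Over i}
    (f : j ⟶ k) :
    IsPullback ((bcDiagram D i g).map f) (pullback.fst (D.map j.hom) g)
      (pullback.fst (D.map k.hom) g) (D.map f.left) := by
  have h1 : IsPullback (pullback.snd (D.map j.hom) g) (pullback.fst (D.map j.hom) g)
      g (D.map j.hom) := (IsPullback.of_hasPullback _ _).flip
  have h2 : IsPullback (pullback.snd (D.map k.hom) g) (pullback.fst (D.map k.hom) g)
      g (D.map k.hom) := (IsPullback.of_hasPullback _ _).flip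
  refine IsPullback.of_right ?_ (by simp) h2
  have e : D.map f.left ≫ D.map k.hom = D.map j.hom := by rw [← D.map_comp, Over.w]
  rw [e]
  simpa using h1

set_option backward.isDefEq.respectTransparency false in
theorem isPullback_bcCone_π (i : I) {T : Scheme.{u}} (g : T ⟶ D.obj i) (j : Over i) :
    IsPullback ((bcCone D c i g).π.app j) (pullback.fst (c.π.app i) g)
      (pullback.fst (D.map j.hom) g) (c.π.app j.left) := by
  have h1 : IsPullback (pullback.snd (c.π.app i) g) (pullback.fst (c.π.app i) g)
      g (c.π.app i) := (IsPullback.of_hasPullback _ _).flip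
  have h2 : IsPullback (pullback.snd (D.map j.hom) g) (pullback.fst (D.map j.hom) g)
      g (D.map j.hom) := (IsPullback.of_hasPullback _ _).flip
  refine IsPullback.of_right ?_ (by simp) h2
  simpa using h1

instance isAffineHom_bcDiagram_map [∀ {i j} (f : i ⟶ j), IsAffineHom (D.map f)] (i : I)
    {T : Scheme.{u}} (g : T ⟶ D.obj i) {j k : Over i} (f : j ⟶ k) :
    IsAffineHom ((bcDiagram D i g).map f) :=
  MorphismProperty.of_isPullback (isPullback_bcDiagram_map D i g f).flip inferInstance

end Groth.Agent.Lib.LimBaseChange
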