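/-
Lib/LimClosedFibre6 (helper6): a closed subset of `X ×_S T` missing the fibre over `t` comes from a
closed subset of `X ×_S T'` (with `T' → S` affine, locally of finite presentation) missing the fibre
over the image of `t` (used for S9224).
-/
import Mathlib

set_option autoImplicit false
set_option linter.style.haveILetI false
set_option linter.unusedSimpArgs false
universe u

namespace Groth.Agent.Lib.LimClosedFibre6
section Part1


/-- If no prime containing `I` lies over `p`, then `I` contains an element `ψ s + y` with `s ∉ p`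
and `y ∈ p G`. -/
theorem exists_special_elt {B G : Type u} [CommRing B] [CommRing G] (ψ : B →+* G) (p : Ideal B)
    [p.IsPrime] (I : Ideal G)
    (hI : ∀ Q : Ideal G, Q.IsPrime → I ≤ Q → Q.comap ψ ≠ p) :
    ∃ s : B, s ∉ p ∧ ∃ y ∈ Ideal.map ψ p, ψ s + y ∈ I := by
  by_contra hcon
  push Not at hcon
  have hdisj : Disjoint ((I ⊔ Ideal.map ψ p : Ideal G) : Set G)
      ((p.primeCompl.map ψ : Submonoid G) : Set G) := by
    rw [Set.disjoint_left]
    rintro x hxJ ⟨s, hs, rfl⟩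
    obtain ⟨i, hi, y, hy, hsum⟩ := Submodule.mem_sup.mp hxJ
    refine hcon s hs (-y) (neg_mem hy) ?_
    have : ψ s + -y = i := by rw [← hsum]; ring
    rw [this]
    exact hi
  obtain ⟨Q, hQ, hJQ, hQM⟩ := Ideal.exists_le_prime_disjoint _ _ hdisj
  refine hI Q hQ (le_sup_left.trans hJQ) ?_
  apply le_antisymm
  · intro x hx
    by_contra hxp
    exact Set.disjoint_left.mp hQM hx ⟨x, hxp, rfl⟩
  · intro x hx
    exact hJQ (Submodule.mem_sup_right (Ideal.mem_map_of_mem ψ hx))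

section

variable {C B G : Type u} [CommRing C] [CommRing B] [CommRing G] (α : C →+* G) (ψ : B →+* G)
  (p : Ideal B)

/-- the additive group of sums `∑ α c * ψ π` with `π ∈ p` -/
def specialSums : AddSubgroup G :=
  AddSubgroup.closure {g | ∃ c : C, ∃ π ∈ p, g = α c * ψ π}

theorem mul_mem_specialSums (hgen : Subring.closure (Set.range α ∪ Set.range ψ) = ⊤) (γ : G)
    {y : G} (hy : y ∈ specialSums α ψ p) : γ * y ∈ specialSums α ψ p := by
  let T : Subring G :=
    { carrier := {γ | ∀ y ∈ specialSums α ψ p, γ * y ∈ specialSums α ψ p}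
      mul_mem' := fun {a b} ha hb y hy => by
        rw [mul_assoc]
        exact ha _ (hb _ hy)
      one_mem' := fun y hy => by rwa [one_mul]
      add_mem' := fun {a b} ha hb y hy => by
        rw [add_mul]
        exact add_mem (ha _ hy) (hb _ hy)
      zero_mem' := fun y _ => by
        rw [zero_mul]
        exact zero_mem _
      neg_mem' := fun {a} ha y hy => by
        rw [neg_mul]
        exact neg_mem (ha _ hy) }
  have hT : Subring.closure (Set.range α ∪ Set.range ψ) ≤ T := by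
    rw [Subring.closure_le]
    rintro γ (⟨c', rfl⟩ | ⟨β, rfl⟩) y hy
    · refine AddSubgroup.closure_induction (p := fun y _ => α c' * y ∈ specialSums α ψ p)
        ?_ ?_ ?_ ?_ hy
      · rintro _ ⟨c, π, hπ, rfl⟩
        refine AddSubgroup.subset_closure ⟨c' * c, π, hπ, ?_⟩
        rw [map_mul, mul_assoc]
      · rw [mul_zero]; exact zero_mem _
      · intro a b _ _ ha hb
        rw [mul_add]; exact add_mem ha hb
      · intro a _ ha
        rw [mul_neg]; exact neg_mem ha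
    · refine AddSubgroup.closure_induction (p := fun y _ => ψ β * y ∈ specialSums α ψ p)
        ?_ ?_ ?_ ?_ hy
      · rintro _ ⟨c, π, hπ, rfl⟩
        refine AddSubgroup.subset_closure ⟨c, β * π, p.mul_mem_left β hπ, ?_⟩
        rw [map_mul]; ring
      · rw [mul_zero]; exact zero_mem _
      · intro a b _ _ ha hb
        rw [mul_add]; exact add_mem ha hb
      · intro a _ ha
        rw [mul_neg]; exact neg_mem ha
  have : γ ∈ T := hT (hgen ▸ Subring.mem_top γ)
  exact this y hy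

theorem map_le_specialSums (hgen : Subring.closure (Set.range α ∪ Set.range ψ) = ⊤) {y : G}
    (hy : y ∈ Ideal.map ψ p) : y ∈ specialSums α ψ p := by
  let J : Ideal G :=
    { carrier := specialSums α ψ p
      add_mem' := fun ha hb => add_mem ha hb
      zero_mem' := zero_mem _
      smul_mem' := fun γ y hy => mul_mem_specialSums α ψ p hgen γ hy }
  have hle : Ideal.map ψ p ≤ J := by
    rw [Ideal.map, Ideal.span_le]
    rintro _ ⟨π, hπ, rfl⟩
    refine AddSubgroup.subset_closure ⟨1, π, hπ, ?_⟩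
    rw [map_one, one_mul]
  exact hle hy

theorem exists_list_of_mem_specialSums {y : G} (hy : y ∈ specialSums α ψ p) :
    ∃ l : List (C × B), (∀ x ∈ l, x.2 ∈ p) ∧ y = (l.map fun x => α x.1 * ψ x.2).sum := by
  refine AddSubgroup.closure_induction (p := fun y _ => ∃ l : List (C × B), (∀ x ∈ l, x.2 ∈ p) ∧
    y = (l.map fun x => α x.1 * ψ x.2).sum) ?_ ?_ ?_ ?_ hy
  · rintro _ ⟨c, π, hπ, rfl⟩
    refine ⟨[(c, π)], ?_, by simp⟩
    intro x hx
    rw [List.mem_singleton] at hx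
    rw [hx]; exact hπ
  · exact ⟨[], by simp, by simp⟩
  · rintro a b _ _ ⟨la, hla, rfl⟩ ⟨lb, hlb, rfl⟩
    refine ⟨la ++ lb, ?_, by simp⟩
    intro x hx
    rcases List.mem_append.mp hx with h | h
    · exact hla x h
    · exact hlb x h
  · rintro a _ ⟨la, hla, rfl⟩
    refine ⟨la.map fun x => (-x.1, x.2), ?_, ?_⟩
    · intro x hx
      obtain ⟨x', hx', rfl⟩ := List.mem_map.mp hx
      exact hla x' hx'
    · rw [List.map_map]
      have key : ∀ l : List (C × B), (l.map ((fun x => α x.1 * ψ x.2) ∘ fun x => (-x.1, x.2))).sum =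
          -(l.map fun x => α x.1 * ψ x.2).sum := by
        intro l
        induction l with
        | nil => simp
        | cons h t ih =>
          rw [List.map_cons, List.sum_cons, ih, List.map_cons, List.sum_cons]
          simp only [Function.comp_apply, map_neg, neg_mul]
          ring
      rw [key]

/-- the combination of the two: an element of `I` of the special form -/
theorem exists_special_sum (hgen : Subring.closure (Set.range α ∪ Set.range ψ) = ⊤) [p.IsPrime]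
    (I : Ideal G) (hI : ∀ Q : Ideal G, Q.IsPrime → I ≤ Q → Q.comap ψ ≠ p) :
    ∃ s : B, s ∉ p ∧ ∃ l : List (C × B), (∀ x ∈ l, x.2 ∈ p) ∧
      ψ s + (l.map fun x => α x.1 * ψ x.2).sum ∈ I := by
  obtain ⟨s, hs, y, hy, hmem⟩ := exists_special_elt ψ p I hI
  obtain ⟨l, hl, rfl⟩ := exists_list_of_mem_specialSums α ψ p (map_le_specialSums α ψ p hgen hy)
  exact ⟨s, hs, l, hl, hmem⟩

end

end Part1

section Part2
open CategoryTheory CategoryTheory.Limits AlgebraicGeometry TopologicalSpace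



/-- the prime ideal of global sections vanishing at `x` -/
noncomputable def pt (X : Scheme.{u}) (x : X) : Ideal Γ(X, ⊤) := (X.toSpecΓ x).asIdeal

instance pt_isPrime (X : Scheme.{u}) (x : X) : (pt X x).IsPrime := (X.toSpecΓ x).isPrime

theorem mem_basicOpen_iff (X : Scheme.{u}) (x : X) (γ : Γ(X, ⊤)) :
    x ∈ X.basicOpen γ ↔ γ ∉ pt X x := by
  rw [← Scheme.toSpecΓ_preimage_basicOpen]
  rfl

theorem pt_map {X Y : Scheme.{u}} (f : X ⟶ Y) (x : X) :
    pt Y (f x) = (pt X x).comap f.appTop.hom := by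
  have h := Scheme.toSpecΓ_naturality f
  have h2 : Y.toSpecΓ (f x) = Spec.map f.appTop (X.toSpecΓ x) := by
    rw [← Scheme.Hom.comp_apply, h, Scheme.Hom.comp_apply]
  unfold pt
  rw [h2]
  rfl

theorem pt_injective (X : Scheme.{u}) [IsAffine X] {x y : X} (h : pt X x = pt X y) : x = y := by
  have h2 : X.toSpecΓ x = X.toSpecΓ y := PrimeSpectrum.ext h
  have : Function.Injective X.toSpecΓ :=
    (TopCat.homeoOfIso (Scheme.forgetToTop.mapIso X.isoSpec)).injective
  exact this h2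

theorem pt_surjective (X : Scheme.{u}) [IsAffine X] (Q : Ideal Γ(X, ⊤)) [hQ : Q.IsPrime] :
    ∃ x : X, pt X x = Q := by
  have : Function.Surjective X.toSpecΓ :=
    (TopCat.homeoOfIso (Scheme.forgetToTop.mapIso X.isoSpec)).surjective
  obtain ⟨x, hx⟩ := this ⟨Q, hQ⟩
  exact ⟨x, by unfold pt; rw [hx]⟩

theorem isPullback_of_comp_mono {C : Type*} [Category C] {P U V S₀ S : C} {fst : P ⟶ U}
    {snd : P ⟶ V} {u : U ⟶ S₀} {v : V ⟶ S₀} (i : S₀ ⟶ S) [Mono i]
    (h : IsPullback fst snd (u ≫ i) (v ≫ i)) : IsPullback fst snd u v := by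
  refine ⟨⟨(cancel_mono i).1 (by simpa using h.w)⟩, ⟨PullbackCone.IsLimit.mk _
    (fun s => h.lift s.fst s.snd (by rw [← Category.assoc, s.condition, Category.assoc]))
    (fun s => h.lift_fst _ _ _) (fun s => h.lift_snd _ _ _)
    (fun s m h1 h2 => h.hom_ext (by simp [h1]) (by simp [h2]))⟩⟩

/-- the core: on an affine fibre product, a closed set missing the fibre over `t` is missed by
a principal open of special form containing that fibre. -/
theorem core {P U V S₀ : Scheme.{u}} [IsAffine U] [IsAffine V] [IsAffine S₀] {fst : P ⟶ U}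
    {snd : P ⟶ V} {u : U ⟶ S₀} {v : V ⟶ S₀} (h : IsPullback fst snd u v) (t : V)
    (Zc : Set P) (hZc : IsClosed Zc) (hZt : ∀ x ∈ Zc, snd x ≠ t) :
    ∃ (s : Γ(V, ⊤)) (l : List (Γ(U, ⊤) × Γ(V, ⊤))), t ∈ V.basicOpen s ∧
      (∀ x ∈ l, t ∉ V.basicOpen x.2) ∧
      ∀ x ∈ Zc, x ∉ P.basicOpen
        (snd.appTop s + (l.map fun x => fst.appTop x.1 * snd.appTop x.2).sum) := by
  have hP : IsAffine P := .of_isPullback h
  have hgen := CommRingCat.closure_range_union_range_eq_top_of_isPushout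
    (isPushout_appTop_of_isPullback h)
  let I : Ideal Γ(P, ⊤) := ⨅ x ∈ Zc, pt P x
  have hImem : ∀ γ : Γ(P, ⊤), γ ∈ I ↔ ∀ x ∈ Zc, x ∉ P.basicOpen γ := by
    intro γ
    simp only [I, Ideal.mem_iInf, mem_basicOpen_iff, not_not]
  have hI : ∀ Q : Ideal Γ(P, ⊤), Q.IsPrime → I ≤ Q → Q.comap snd.appTop.hom ≠ pt V t := by
    intro Q hQ hIQ hcomap
    obtain ⟨x, hx⟩ := pt_surjective P Q
    have hxZ : x ∈ Zc := by
      by_contra hxZ
      obtain ⟨_, ⟨γ, rfl⟩, hxγ, hγ⟩ := Opens.isBasis_iff_nbhd.mp (isBasis_basicOpen P)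
        (U := ⟨Zcᶜ, hZc.isOpen_compl⟩) (x := x) hxZ
      have hγI : γ ∈ I := by
        rw [hImem]
        intro z hz hzγ
        exact hγ hzγ hz
      rw [mem_basicOpen_iff, hx] at hxγ
      exact hxγ (hIQ hγI)
    refine hZt x hxZ (pt_injective V ?_)
    rw [pt_map, hx, hcomap]
  obtain ⟨s, hs, l, hl, hmem⟩ := exists_special_sum fst.appTop.hom snd.appTop.hom (pt V t) hgen I hI
  refine ⟨s, l, ?_, ?_, ?_⟩
  · rwa [mem_basicOpen_iff]
  · intro x hx
    rw [mem_basicOpen_iff, not_not]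
    exact hl x hx
  · exact (hImem _).1 hmem

end Part2

section Part3
open CategoryTheory CategoryTheory.Limits AlgebraicGeometry TopologicalSpace


/-- a finitely presented affine target through which `v` factors, carrying lifts of finitely many
prescribed functions -/
theorem exists_fp_target {V S₀ : Scheme.{u}} [IsAffine V] [IsAffine S₀] (v : V ⟶ S₀)
    (E : Set Γ(V, ⊤)) (hE : E.Finite) :
    ∃ (T' : Scheme.{u}) (b₀ : T' ⟶ S₀) (a : V ⟶ T') (ξ : Γ(V, ⊤) → Γ(T', ⊤)),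
      IsAffine T' ∧ LocallyOfFinitePresentation b₀ ∧ a ≫ b₀ = v ∧
      ∀ e ∈ E, a.appTop (ξ e) = e := by
  classical
  have : Finite E := hE.to_subtype
  let R := MvPolynomial E Γ(S₀, ⊤)
  let φ : R →+* Γ(V, ⊤) := MvPolynomial.eval₂Hom v.appTop.hom Subtype.val
  let cA : Γ(S₀, ⊤) ⟶ CommRingCat.of R := CommRingCat.ofHom MvPolynomial.C
  let φ' : CommRingCat.of R ⟶ Γ(V, ⊤) := CommRingCat.ofHom φ
  have hcφ : cA ≫ φ' = v.appTop := by
    ext x
    simp only [cA, φ', φ, CommRingCat.hom_comp, CommRingCat.hom_ofHom, RingHom.comp_apply]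
    exact MvPolynomial.eval₂_C _ _ _
  have hfp : LocallyOfFinitePresentation (Spec.map cA) := by
    rw [HasRingHomProperty.Spec_iff (P := @LocallyOfFinitePresentation)]
    change (MvPolynomial.C : Γ(S₀, ⊤) →+* R).FinitePresentation
    rw [← MvPolynomial.algebraMap_eq, RingHom.finitePresentation_algebraMap]
    infer_instance
  refine ⟨Spec (.of R), Spec.map cA ≫ S₀.isoSpec.inv, V.isoSpec.hom ≫ Spec.map φ',
    fun e => (Scheme.ΓSpecIso (.of R)).inv (if h : e ∈ E then MvPolynomial.X ⟨e, h⟩ else 0),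
    inferInstance, inferInstance, ?_, ?_⟩
  · rw [Category.assoc, ← Spec.map_comp_assoc, hcφ, Scheme.isoSpec_hom_naturality_assoc,
      Iso.hom_inv_id, Category.comp_id]
  · intro e he
    beta_reduce
    rw [dif_pos he, Scheme.Hom.comp_appTop]
    have h1 := congrArg (fun f => f.hom (MvPolynomial.X (⟨e, he⟩ : E)))
      (Scheme.ΓSpecIso_inv_naturality φ')
    simp only [CommRingCat.hom_comp, RingHom.comp_apply] at h1
    rw [CommRingCat.comp_apply, ← h1]
    have h2 : V.isoSpec.hom.appTop = (Scheme.ΓSpecIso Γ(V, ⊤)).hom := Scheme.toSpecΓ_appTop V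
    rw [h2]
    have h3 : φ'.hom (MvPolynomial.X (⟨e, he⟩ : E)) = e := by
      simp only [φ', φ, CommRingCat.hom_ofHom]
      exact MvPolynomial.eval₂_X _ _ _
    rw [h3]
    exact Iso.inv_hom_id_apply (C := CommRingCat) _ _

end Part3

section Part4
open CategoryTheory CategoryTheory.Limits AlgebraicGeometry TopologicalSpace



theorem appTop_appTop {X Y Z : Scheme.{u}} (f : X ⟶ Y) (g : Y ⟶ Z) (r : Γ(Z, ⊤)) :
    f.appTop (g.appTop r) = (f ≫ g).appTop r := by
  rw [Scheme.Hom.comp_appTop]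
  rfl

theorem appTop_square {X Y Y' Z : Scheme.{u}} {f : X ⟶ Y} {g : Y ⟶ Z} {f' : X ⟶ Y'} {g' : Y' ⟶ Z}
    (h : f ≫ g = f' ≫ g') (r : Γ(Z, ⊤)) : f.appTop (g.appTop r) = f'.appTop (g'.appTop r) := by
  rw [appTop_appTop, appTop_appTop, h]

theorem special_map {P P' U V T' : Scheme.{u}} (fst : P ⟶ U) (snd : P ⟶ V) (fst' : P' ⟶ U)
    (snd' : P' ⟶ T') (mW : P ⟶ P') (a : V ⟶ T') (h1 : mW ≫ fst' = fst)
    (h2 : mW ≫ snd' = snd ≫ a) (ξ : Γ(V, ⊤) → Γ(T', ⊤)) (s : Γ(V, ⊤))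
    (l : List (Γ(U, ⊤) × Γ(V, ⊤))) (hs : a.appTop (ξ s) = s)
    (hl : ∀ x ∈ l, a.appTop (ξ x.2) = x.2) :
    mW.appTop (snd'.appTop (ξ s) + (l.map fun x => fst'.appTop x.1 * snd'.appTop (ξ x.2)).sum) =
      snd.appTop s + (l.map fun x => fst.appTop x.1 * snd.appTop x.2).sum := by
  rw [map_add, appTop_square h2, hs, map_list_sum, List.map_map]
  congr 2
  apply List.map_congr_left
  intro x hx
  rw [Function.comp_apply, map_mul, appTop_square h2, hl x hx, appTop_appTop, h1]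

theorem special_mem_basicOpen {P' U T' : Scheme.{u}} {β : Type*} (fst' : P' ⟶ U) (snd' : P' ⟶ T')
    (y : P') (σ : Γ(T', ⊤)) (ξ : β → Γ(T', ⊤)) (l : List (Γ(U, ⊤) × β))
    (hσ : snd' y ∈ T'.basicOpen σ) (hl : ∀ x ∈ l, snd' y ∉ T'.basicOpen (ξ x.2)) :
    y ∈ P'.basicOpen
      (snd'.appTop σ + (l.map fun x => fst'.appTop x.1 * snd'.appTop (ξ x.2)).sum) := by
  rw [mem_basicOpen_iff] at hσ ⊢
  rw [pt_map] at hσ
  intro hmem
  have hsum : (l.map fun x => fst'.appTop x.1 * snd'.appTop (ξ x.2)).sum ∈ pt P' y := by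
    apply list_sum_mem
    intro c hc
    obtain ⟨x, hx, rfl⟩ := List.mem_map.mp hc
    have := hl x hx
    rw [mem_basicOpen_iff, not_not, pt_map] at this
    exact Ideal.mul_mem_left _ _ this
  exact hσ ((Ideal.add_mem_iff_left _ hsum).mp hmem)

theorem main {X S T : Scheme.{u}} (f : X ⟶ S) [QuasiCompact f] (g : T ⟶ S) (t : T)
    (Z : Set ↥(pullback f g)) (hZ : IsClosed Z) (hZt : ∀ z ∈ Z, (pullback.snd f g).base z ≠ t) :
    ∃ (V : T.Opens) (ht : t ∈ V) (T' : Scheme.{u}) (b : T' ⟶ S) (a : (V : Scheme.{u}) ⟶ T')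
      (n : pullback f (V.ι ≫ g) ⟶ pullback f g) (m : pullback f (V.ι ≫ g) ⟶ pullback f b)
      (Z' : Set ↥(pullback f b)),
      IsAffineOpen V ∧ IsAffine T' ∧ LocallyOfFinitePresentation b ∧ a ≫ b = V.ι ≫ g ∧
      n ≫ pullback.fst f g = pullback.fst f (V.ι ≫ g) ∧ n ≫ pullback.snd f g = pullback.snd f (V.ι ≫ g) ≫ V.ι ∧
      m ≫ pullback.fst f b = pullback.fst f (V.ι ≫ g) ∧ m ≫ pullback.snd f b = pullback.snd f (V.ι ≫ g) ≫ a ∧
      IsClosed Z' ∧ (∀ z' ∈ Z', (pullback.snd f b).base z' ≠ a.base ⟨t, ht⟩) ∧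
      ∀ z : ↥(pullback f (V.ι ≫ g)), n.base z ∈ Z → m.base z ∈ Z' := by
  classical
  obtain ⟨S₀, hS₀, hgt, -⟩ := exists_isAffineOpen_mem_and_subset (x := g t) (U := ⊤) trivial
  obtain ⟨V, hV, htV, hVS⟩ := exists_isAffineOpen_mem_and_subset (x := t) (U := g ⁻¹ᵁ S₀) hgt
  have : IsAffine (S₀ : Scheme.{u}) := hS₀
  have : IsAffine (V : Scheme.{u}) := hV
  have hrv : Set.range (V.ι ≫ g) ⊆ Set.range S₀.ι := by
    rintro _ ⟨y, rfl⟩
    rw [Scheme.Opens.range_ι]
    exact hVS y.2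
  let v : (V : Scheme.{u}) ⟶ S₀ := IsOpenImmersion.lift S₀.ι (V.ι ≫ g) hrv
  have hv : v ≫ S₀.ι = V.ι ≫ g := IsOpenImmersion.lift_fac _ _ _
  -- the finite affine cover of `f⁻¹ S₀`
  have hcomp : IsCompact (f ⁻¹ᵁ S₀ : Set X) := f.isCompact_preimage hS₀.isCompact
  obtain ⟨𝒲, h𝒲fin, h𝒲⟩ := (isCompact_and_isOpen_iff_finite_and_eq_biUnion_affineOpens
    (U := (f ⁻¹ᵁ S₀ : Set X))).1 ⟨hcomp, (f ⁻¹ᵁ S₀).isOpen⟩
  have : Finite 𝒲 := h𝒲fin.to_subtype
  have hWle : ∀ W : 𝒲, ((W.1.1 : X.Opens) : Set X) ⊆ (f ⁻¹ᵁ S₀ : Set X) := by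
    intro W
    rw [h𝒲]
    exact Set.subset_biUnion_of_mem (u := fun i : X.affineOpens => ((i : X.Opens) : Set X)) W.2
  have : ∀ W : 𝒲, IsAffine (W.1.1 : Scheme.{u}) := fun W => W.1.2
  have hru : ∀ W : 𝒲, Set.range (W.1.1.ι ≫ f) ⊆ Set.range S₀.ι := by
    rintro W _ ⟨y, rfl⟩
    rw [Scheme.Opens.range_ι]
    exact hWle W y.2
  let uW : ∀ W : 𝒲, (W.1.1 : Scheme.{u}) ⟶ S₀ := fun W =>
    IsOpenImmersion.lift S₀.ι (W.1.1.ι ≫ f) (hru W)
  have hu : ∀ W : 𝒲, uW W ≫ S₀.ι = W.1.1.ι ≫ f := fun W => IsOpenImmersion.lift_fac _ _ _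
  let n : pullback f (V.ι ≫ g) ⟶ pullback f g :=
    pullback.map f (V.ι ≫ g) f g (𝟙 X) V.ι (𝟙 S) (by simp) (by simp)
  let j : ∀ W : 𝒲, pullback (W.1.1.ι ≫ f) (V.ι ≫ g) ⟶ pullback f (V.ι ≫ g) := fun W =>
    pullback.map (W.1.1.ι ≫ f) (V.ι ≫ g) f (V.ι ≫ g) W.1.1.ι (𝟙 _) (𝟙 _) (by simp) (by simp)
  have hpb : ∀ W : 𝒲, IsPullback (pullback.fst (W.1.1.ι ≫ f) (V.ι ≫ g))
      (pullback.snd (W.1.1.ι ≫ f) (V.ι ≫ g)) (uW W) v := fun W =>
    isPullback_of_comp_mono S₀.ι (by rw [hu W, hv]; exact IsPullback.of_hasPullback _ _)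
  have hcore : ∀ W : 𝒲, ∃ (s : Γ((V : Scheme.{u}), ⊤))
      (l : List (Γ((W.1.1 : Scheme.{u}), ⊤) × Γ((V : Scheme.{u}), ⊤))),
      (⟨t, htV⟩ : (V : Scheme.{u})) ∈ (V : Scheme.{u}).basicOpen s ∧
      (∀ x ∈ l, (⟨t, htV⟩ : (V : Scheme.{u})) ∉ (V : Scheme.{u}).basicOpen x.2) ∧
      ∀ x ∈ (j W ≫ n) ⁻¹' Z, x ∉ (pullback (W.1.1.ι ≫ f) (V.ι ≫ g)).basicOpen
        ((pullback.snd (W.1.1.ι ≫ f) (V.ι ≫ g)).appTop s +
          (l.map fun x => (pullback.fst (W.1.1.ι ≫ f) (V.ι ≫ g)).appTop x.1 *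
            (pullback.snd (W.1.1.ι ≫ f) (V.ι ≫ g)).appTop x.2).sum) := by
    intro W
    refine core (hpb W) ⟨t, htV⟩ ((j W ≫ n) ⁻¹' Z) (hZ.preimage (j W ≫ n).continuous) ?_
    intro x hx hxt
    refine hZt _ hx ?_
    have h1 : (j W ≫ n) ≫ pullback.snd f g = pullback.snd (W.1.1.ι ≫ f) (V.ι ≫ g) ≫ V.ι := by
      simp only [j, n, pullback.lift_fst, pullback.lift_snd, pullback.lift_fst_assoc, pullback.lift_snd_assoc,
        Category.comp_id, Category.id_comp, Category.assoc]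
    change ((j W ≫ n) ≫ pullback.snd f g) x = t
    rw [h1, Scheme.Hom.comp_apply, hxt]
    rfl
  choose sW lW hsW hlW hzW using hcore
  let E : Set Γ((V : Scheme.{u}), ⊤) := ⋃ W : 𝒲, insert (sW W) {e | e ∈ (lW W).map Prod.snd}
  have hE : E.Finite :=
    Set.finite_iUnion fun W => ((lW W).map Prod.snd).finite_toSet.insert _
  have hsE : ∀ W : 𝒲, sW W ∈ E := fun W => Set.mem_iUnion.mpr ⟨W, Set.mem_insert _ _⟩
  have hlE : ∀ W : 𝒲, ∀ x ∈ lW W, x.2 ∈ E := fun W x hx =>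
    Set.mem_iUnion.mpr ⟨W, Set.mem_insert_of_mem _ (List.mem_map.mpr ⟨x, hx, rfl⟩)⟩
  obtain ⟨T', b₀, a, ξ, hT', hb₀, hab₀, hξ⟩ := exists_fp_target v E hE
  let b : T' ⟶ S := b₀ ≫ S₀.ι
  have hab : a ≫ b = V.ι ≫ g := by rw [← Category.assoc, hab₀, hv]
  let m : pullback f (V.ι ≫ g) ⟶ pullback f b :=
    pullback.map f (V.ι ≫ g) f b (𝟙 X) a (𝟙 S) (by simp) (by simp [hab])
  let j' : ∀ W : 𝒲, pullback (W.1.1.ι ≫ f) b ⟶ pullback f b := fun W =>
    pullback.map (W.1.1.ι ≫ f) b f b W.1.1.ι (𝟙 _) (𝟙 _) (by simp) (by simp)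
  let mW : ∀ W : 𝒲, pullback (W.1.1.ι ≫ f) (V.ι ≫ g) ⟶ pullback (W.1.1.ι ≫ f) b := fun W =>
    pullback.map (W.1.1.ι ≫ f) (V.ι ≫ g) (W.1.1.ι ≫ f) b (𝟙 _) a (𝟙 _) (by simp) (by simp [hab])
  have hjm : ∀ W : 𝒲, j W ≫ m = mW W ≫ j' W := by
    intro W
    apply pullback.hom_ext <;> simp only [j, m, mW, j', pullback.lift_fst, pullback.lift_snd, pullback.lift_fst_assoc, pullback.lift_snd_assoc,
        Category.comp_id, Category.id_comp, Category.assoc]
  let z' : ∀ W : 𝒲, Γ(pullback (W.1.1.ι ≫ f) b, ⊤) := fun W =>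
    (pullback.snd (W.1.1.ι ≫ f) b).appTop (ξ (sW W)) +
      ((lW W).map fun x => (pullback.fst (W.1.1.ι ≫ f) b).appTop x.1 *
        (pullback.snd (W.1.1.ι ≫ f) b).appTop (ξ x.2)).sum
  have hmz : ∀ W : 𝒲, (mW W).appTop (z' W) =
      (pullback.snd (W.1.1.ι ≫ f) (V.ι ≫ g)).appTop (sW W) +
        ((lW W).map fun x => (pullback.fst (W.1.1.ι ≫ f) (V.ι ≫ g)).appTop x.1 *
          (pullback.snd (W.1.1.ι ≫ f) (V.ι ≫ g)).appTop x.2).sum := by
    intro W
    refine special_map _ _ _ _ (mW W) a ?_ ?_ ξ (sW W) (lW W) (hξ _ (hsE W)) ?_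
    · simp only [mW, pullback.lift_fst, pullback.lift_snd, pullback.lift_fst_assoc, pullback.lift_snd_assoc,
        Category.comp_id, Category.id_comp, Category.assoc]
    · simp only [mW, pullback.lift_fst, pullback.lift_snd, pullback.lift_fst_assoc, pullback.lift_snd_assoc,
        Category.comp_id, Category.id_comp, Category.assoc]
    · intro x hx
      exact hξ _ (hlE W x hx)
  refine ⟨V, htV, T', b, a, n, m,
    (⋃ W : 𝒲, (((j' W) ''ᵁ ((pullback (W.1.1.ι ≫ f) b).basicOpen (z' W)) : (pullback f b).Opens) :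
      Set ↥(pullback f b)))ᶜ, hV, hT', inferInstance, hab, ?_, ?_, ?_, ?_, ?_, ?_, ?_⟩
  · simp only [n, pullback.lift_fst, pullback.lift_snd, pullback.lift_fst_assoc, pullback.lift_snd_assoc,
        Category.comp_id, Category.id_comp, Category.assoc]
  · simp only [n, pullback.lift_fst, pullback.lift_snd, pullback.lift_fst_assoc, pullback.lift_snd_assoc,
        Category.comp_id, Category.id_comp, Category.assoc]
  · simp only [m, pullback.lift_fst, pullback.lift_snd, pullback.lift_fst_assoc, pullback.lift_snd_assoc,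
        Category.comp_id, Category.id_comp, Category.assoc]
  · simp only [m, pullback.lift_fst, pullback.lift_snd, pullback.lift_fst_assoc, pullback.lift_snd_assoc,
        Category.comp_id, Category.id_comp, Category.assoc]
  · rw [isClosed_compl_iff]
    exact isOpen_iUnion fun W => Opens.isOpen _
  · -- the fibre over `a t` is avoided
    intro x' hx' hsnd
    apply hx'
    have hf : f (pullback.fst f b x') ∈ S₀ := by
      have h1 : f (pullback.fst f b x') = b (pullback.snd f b x') := by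
        rw [← Scheme.Hom.comp_apply, pullback.condition, Scheme.Hom.comp_apply]
      rw [h1]
      change b ((pullback.snd f b).base x') ∈ S₀
      rw [hsnd]
      change (a ≫ b) ⟨t, htV⟩ ∈ S₀
      rw [hab]
      exact hgt
    have hf' : pullback.fst f b x' ∈ (f ⁻¹ᵁ S₀ : Set X) := hf
    rw [h𝒲] at hf'
    obtain ⟨W₀, hW₀, hxW⟩ := Set.mem_iUnion₂.mp hf'
    let W : 𝒲 := ⟨W₀, hW₀⟩
    have hrange : x' ∈ Set.range (j' W) := by
      rw [Scheme.Pullback.range_map]
      refine ⟨?_, ⟨pullback.snd f b x', rfl⟩⟩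
      rw [Set.mem_preimage, Scheme.Opens.range_ι]
      exact hxW
    obtain ⟨y, rfl⟩ := hrange
    refine Set.mem_iUnion.mpr ⟨W, ⟨y, ?_, rfl⟩⟩
    have hy : pullback.snd (W.1.1.ι ≫ f) b y = a ⟨t, htV⟩ := by
      have h1 : j' W ≫ pullback.snd f b = pullback.snd (W.1.1.ι ≫ f) b := by
        simp only [j', pullback.lift_fst, pullback.lift_snd, pullback.lift_fst_assoc, pullback.lift_snd_assoc,
        Category.comp_id, Category.id_comp, Category.assoc]
      rw [← h1, Scheme.Hom.comp_apply]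
      exact hsnd
    refine special_mem_basicOpen _ _ y (ξ (sW W)) ξ (lW W) ?_ ?_
    · rw [hy]
      change (⟨t, htV⟩ : (V : Scheme.{u})) ∈ a ⁻¹ᵁ T'.basicOpen (ξ (sW W))
      rw [Scheme.preimage_basicOpen_top, hξ _ (hsE W)]
      exact hsW W
    · intro x hx
      rw [hy]
      change (⟨t, htV⟩ : (V : Scheme.{u})) ∉ a ⁻¹ᵁ T'.basicOpen (ξ x.2)
      rw [Scheme.preimage_basicOpen_top, hξ _ (hlE W x hx)]
      exact hlW W x hx
  · -- points over `Z` go to `Z'`
    intro z hz hmz'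
    obtain ⟨W, hW⟩ := Set.mem_iUnion.mp hmz'
    obtain ⟨y, hy, hyz⟩ := hW
    have hfst : pullback.fst f (V.ι ≫ g) z = W.1.1.ι (pullback.fst (W.1.1.ι ≫ f) b y) := by
      have h1 : m ≫ pullback.fst f b = pullback.fst f (V.ι ≫ g) := by
        simp only [m, pullback.lift_fst, pullback.lift_snd, pullback.lift_fst_assoc, pullback.lift_snd_assoc,
        Category.comp_id, Category.id_comp, Category.assoc]
      have h2 : j' W ≫ pullback.fst f b = pullback.fst (W.1.1.ι ≫ f) b ≫ W.1.1.ι := by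
        simp only [j', pullback.lift_fst, pullback.lift_snd, pullback.lift_fst_assoc, pullback.lift_snd_assoc,
        Category.comp_id, Category.id_comp, Category.assoc]
      rw [← h1, Scheme.Hom.comp_apply, ← Scheme.Hom.comp_apply _ W.1.1.ι, ← h2,
        Scheme.Hom.comp_apply]
      exact congrArg _ hyz.symm
    have hrange : z ∈ Set.range (j W) := by
      rw [Scheme.Pullback.range_map]
      refine ⟨?_, ⟨pullback.snd f (V.ι ≫ g) z, rfl⟩⟩
      rw [Set.mem_preimage, hfst]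
      exact ⟨_, rfl⟩
    obtain ⟨w, rfl⟩ := hrange
    have hmw : mW W w = y := by
      apply (j' W).isOpenEmbedding.injective
      rw [← Scheme.Hom.comp_apply, ← hjm W, Scheme.Hom.comp_apply]
      exact hyz.symm
    have hw1 : w ∈ (mW W) ⁻¹ᵁ (pullback (W.1.1.ι ≫ f) b).basicOpen (z' W) := by
      change mW W w ∈ (pullback (W.1.1.ι ≫ f) b).basicOpen (z' W)
      rw [hmw]
      exact hy
    rw [Scheme.preimage_basicOpen_top, hmz W] at hw1
    exact hzW W w hz hw1

end Part4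

end Groth.Agent.Lib.LimClosedFibre6
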