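import Groth.Agent.Lib.LimClosedIntoStage

/-!
# Closed immersions into a limit are closed immersions into a stage: global form
-/

set_option autoImplicit false
universe u

open CategoryTheory Limits AlgebraicGeometry

namespace Groth.Agent.Lib.LimStructureMap

variable {I : Type u} [Category.{u} I] [IsCofiltered I] (D : I ⥤ Scheme.{u}) (c : Cone D)
variable (hc : IsLimit c) {S : Scheme.{u}} (τ : ∀ i, D.obj i ⟶ S)
variable (hτ : ∀ {i j : I} (f : i ⟶ j), D.map f ≫ τ j = τ i)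

include hc hτ in
/-- `X = lim Xᵢ` over `S` with affine transitions and quasi-compact `Xᵢ`; `h : Y → X` a closed
immersion with `Y → S` locally of finite type. Then `Y → Xₖ` is a closed immersion for all small
`k`. -/
theorem exists_isClosedImmersion_into_stage [∀ {i j : I} (f : i ⟶ j), IsAffineHom (D.map f)]
    [∀ i, CompactSpace (D.obj i)] (i₀ : I) {Y : Scheme.{u}} (h : Y ⟶ c.pt) [IsClosedImmersion h]
    [LocallyOfFiniteType (h ≫ c.π.app i₀ ≫ τ i₀)] :
    ∃ j : Over i₀, ∀ (k : Over i₀) (_ : k ⟶ j), IsClosedImmersion (h ≫ c.π.app k.left) := by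
  classical
  have hcov : ∀ x : D.obj i₀, ∃ (U : (D.obj i₀).Opens) (V : S.Opens),
      IsAffineOpen U ∧ IsAffineOpen V ∧ x ∈ U ∧ U ≤ τ i₀ ⁻¹ᵁ V := by
    intro x
    obtain ⟨_, ⟨V, hV : IsAffineOpen V, rfl⟩, hxV, -⟩ :=
      S.isBasis_affineOpens.exists_subset_of_mem_open (Set.mem_univ ((τ i₀).base x)) isOpen_univ
    obtain ⟨_, ⟨U, hU : IsAffineOpen U, rfl⟩, hxU, hUV⟩ :=
      (D.obj i₀).isBasis_affineOpens.exists_subset_of_mem_open
        (show x ∈ ((τ i₀ ⁻¹ᵁ V : (D.obj i₀).Opens) : Set (D.obj i₀)) from hxV)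
        (τ i₀ ⁻¹ᵁ V).2
    exact ⟨U, V, hU, hV, hxU, hUV⟩
  choose U V hU hV hxU hUV using hcov
  obtain ⟨t, ht⟩ := CompactSpace.elim_nhds_subcover (fun x => ((U x : (D.obj i₀).Opens) :
    Set (D.obj i₀))) (fun x => (U x).2.mem_nhds (hxU x))
  have key : ∀ x : D.obj i₀, ∃ j : Over i₀, ∀ (k : Over i₀) (_ : k ⟶ j),
      IsClosedImmersion ((h ≫ c.π.app k.left) ∣_ (D.map k.hom ⁻¹ᵁ U x)) := fun x =>
    exists_isClosedImmersion_restrict_stage D c hc τ hτ i₀ (U x) (hU x) (V x) (hV x) (hUV x) h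
  choose j hj using key
  obtain ⟨k, hk⟩ := IsCofiltered.inf_objs_exists (t.image j)
  refine ⟨k, fun l m => ?_⟩
  refine (IsZariskiLocalAtTarget.iff_of_iSup_eq_top (P := @IsClosedImmersion)
    (fun x : t => D.map l.hom ⁻¹ᵁ U x.1) ?_).mpr (fun x => ?_)
  · rw [eq_top_iff]
    intro y _
    have hy : (D.map l.hom).base y ∈ ⋃ x ∈ t, ((U x : (D.obj i₀).Opens) : Set (D.obj i₀)) := by
      rw [ht]
      trivial
    simp only [Set.mem_iUnion] at hy
    obtain ⟨x, hxt, hyx⟩ := hy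
    exact TopologicalSpace.Opens.mem_iSup.mpr ⟨⟨x, hxt⟩, hyx⟩
  · obtain ⟨m'⟩ := hk (Finset.mem_image_of_mem j x.2)
    exact hj x.1 l (m ≫ m')

end Groth.Agent.Lib.LimStructureMap
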