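import Mathlib.AlgebraicGeometry.AffineTransitionLimit
import Mathlib.Topology.Irreducible
import Mathlib.Topology.Connected.Clopen

set_option autoImplicit false
universe u

open CategoryTheory Limits AlgebraicGeometry Topology TopologicalSpace

namespace Groth.Agent.Lib.LimConnected

variable {I : Type u} [Category.{u} I] [IsCofiltered I] (D : I ⥤ Scheme.{u}) (c : Cone D)
  (hc : IsLimit c) [∀ {i j : I} (f : i ⟶ j), IsAffineHom (D.map f)]

omit [IsCofiltered I] [∀ {i j : I} (f : i ⟶ j), IsAffineHom (D.map f)] in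
theorem π_comp_apply {a b : I} (f : a ⟶ b) (x : c.pt) :
    (D.map f) ((c.π.app a) x) = (c.π.app b) x := by
  rw [← Scheme.Hom.comp_apply, c.w]

omit [IsCofiltered I] [∀ {i j : I} (f : i ⟶ j), IsAffineHom (D.map f)] in
theorem map_comp_apply {a b d : I} (f : a ⟶ b) (g : b ⟶ d) (x : D.obj a) :
    (D.map (f ≫ g)) x = (D.map g) ((D.map f) x) := by
  rw [D.map_comp, Scheme.Hom.comp_apply]

include hc in
/-- If the limit is empty and some stage is quasi-compact, then some stage over it is empty. -/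
theorem exists_isEmpty_of_isEmpty (i₀ : I) [CompactSpace (D.obj i₀)] (h : IsEmpty c.pt) :
    ∃ (k : I) (_ : k ⟶ i₀), IsEmpty (D.obj k) := by
  by_contra hcon
  push Not at hcon
  have hne : ∀ j : Over i₀, Nonempty ((Over.forget i₀ ⋙ D).obj j) := fun j =>
    hcon j.left j.hom
  have hcp : ∀ j : Over i₀, CompactSpace ((Over.forget i₀ ⋙ D).obj j) := fun j =>
    QuasiCompact.compactSpace_of_compactSpace (D.map j.hom)
  have haff : ∀ {j₁ j₂ : Over i₀} (f : j₁ ⟶ j₂), IsAffineHom ((Over.forget i₀ ⋙ D).map f) := by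
    intro j₁ j₂ f; dsimp; infer_instance
  have := Scheme.nonempty_of_isLimit (Over.forget i₀ ⋙ D) _
    ((Functor.Initial.isLimitWhiskerEquiv (Over.forget i₀) c).symm hc)
  exact (not_isEmpty_iff.2 this) h

include hc in
/-- Every nonempty open of the limit contains a nonempty preimage of an affine open of a
stage. -/
theorem exists_preimage_subset_of_nonempty {U : Set c.pt} (hU : IsOpen U) (hne : U.Nonempty) :
    ∃ (a : I) (A : (D.obj a).Opens), IsAffineOpen A ∧
      ((c.π.app a) ⁻¹' (A : Set (D.obj a))) ⊆ U ∧ ((c.π.app a) ⁻¹' (A : Set (D.obj a))).Nonempty := by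
  obtain ⟨x, hx⟩ := hne
  obtain ⟨_, ⟨_, ⟨a, A, hA, rfl⟩, rfl⟩, hxA, hAU⟩ :=
    (isBasis_preimage_isAffineOpen D c hc).exists_subset_of_mem_open hx hU
  exact ⟨a, A, hA, hAU, ⟨x, hxA⟩⟩

theorem irreducibleSpace_of_denseRange {X Y : Type*} [TopologicalSpace X] [TopologicalSpace Y]
    [IrreducibleSpace X] (f : X → Y) (hf : Continuous f) (hd : DenseRange f) :
    IrreducibleSpace Y := by
  rw [irreducibleSpace_def]
  have h1 : IsIrreducible (f '' (Set.univ : Set X)) :=
    (IrreducibleSpace.isIrreducible_univ X).image f hf.continuousOn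
  have h2 := h1.closure
  rw [Set.image_univ, hd.closure_range] at h2
  exact h2

theorem connectedSpace_of_denseRange {X Y : Type*} [TopologicalSpace X] [TopologicalSpace Y]
    [ConnectedSpace X] (f : X → Y) (hf : Continuous f) (hd : DenseRange f) :
    ConnectedSpace Y := by
  rw [connectedSpace_iff_univ]
  have h1 : IsConnected (Set.range f) := isConnected_range hf
  have h2 := h1.closure
  rw [hd.closure_range] at h2
  exact h2

include hc in
theorem irreducibleSpace_of_forall (i₀ : I) [CompactSpace (D.obj i₀)]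
    (hdom : ∀ k, IsDominant (c.π.app k)) (i : I) (f : i ⟶ i₀)
    (hirr : ∀ (j : I) (_ : j ⟶ i), IrreducibleSpace (D.obj j)) : IrreducibleSpace c.pt := by
  have hne : Nonempty c.pt := by
    by_contra hcon
    rw [not_nonempty_iff] at hcon
    obtain ⟨k, g, hk⟩ := exists_isEmpty_of_isEmpty D c hc i₀ hcon
    have h1 := hirr (IsCofiltered.min k i) (IsCofiltered.minToRight k i)
    obtain ⟨x⟩ := h1.toNonempty
    exact hk.false ((D.map (IsCofiltered.minToLeft k i)) x)
  have hpre : PreirreducibleSpace c.pt := by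
    constructor
    intro U V hU hV hUne hVne
    rw [Set.univ_inter] at hUne hVne ⊢
    obtain ⟨a, A, -, hAU, hAne⟩ := exists_preimage_subset_of_nonempty D c hc hU hUne
    obtain ⟨b, B, -, hBV, hBne⟩ := exists_preimage_subset_of_nonempty D c hc hV hVne
    let k₁ := IsCofiltered.min a b
    let k := IsCofiltered.min k₁ i
    let fa : k ⟶ a := IsCofiltered.minToLeft k₁ i ≫ IsCofiltered.minToLeft a b
    let fb : k ⟶ b := IsCofiltered.minToLeft k₁ i ≫ IsCofiltered.minToRight a b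
    let fi : k ⟶ i := IsCofiltered.minToRight k₁ i
    have hk := hirr k fi
    have hA' : ((D.map fa) ⁻¹' (A : Set (D.obj a))).Nonempty := by
      obtain ⟨x, hx⟩ := hAne
      exact ⟨(c.π.app k) x, by
        show (D.map fa) ((c.π.app k) x) ∈ A
        rw [π_comp_apply]; exact hx⟩
    have hB' : ((D.map fb) ⁻¹' (B : Set (D.obj b))).Nonempty := by
      obtain ⟨x, hx⟩ := hBne
      exact ⟨(c.π.app k) x, by
        show (D.map fb) ((c.π.app k) x) ∈ B
        rw [π_comp_apply]; exact hx⟩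
    have hAB := nonempty_preirreducible_inter (A.2.preimage (D.map fa).continuous)
      (B.2.preimage (D.map fb).continuous) hA' hB'
    have hd := (hdom k).denseRange
    obtain ⟨_, hy, ⟨x, rfl⟩⟩ := (dense_iff_inter_open.1 hd) _
      ((A.2.preimage (D.map fa).continuous).inter (B.2.preimage (D.map fb).continuous)) hAB
    refine ⟨x, hAU ?_, hBV ?_⟩
    · have : (D.map fa) ((c.π.app k) x) ∈ A := hy.1
      rw [π_comp_apply] at this
      exact this
    · have : (D.map fb) ((c.π.app k) x) ∈ B := hy.2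
      rw [π_comp_apply] at this
      exact this
  exact { toPreirreducibleSpace := hpre, toNonempty := hne }

include hc in
theorem connectedSpace_of_forall (i₀ : I) [CompactSpace (D.obj i₀)]
    (hdom : ∀ k, IsDominant (c.π.app k)) (i : I) (f : i ⟶ i₀)
    (hconn : ∀ (j : I) (_ : j ⟶ i), ConnectedSpace (D.obj j)) : ConnectedSpace c.pt := by
  have hπaff : ∀ i, IsAffineHom (c.π.app i) := isAffineHom_π_app D c hc
  have hcpt : CompactSpace c.pt := QuasiCompact.compactSpace_of_compactSpace (c.π.app i₀)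
  have hne : Nonempty c.pt := by
    by_contra hcon
    rw [not_nonempty_iff] at hcon
    obtain ⟨k, g, hk⟩ := exists_isEmpty_of_isEmpty D c hc i₀ hcon
    have h1 := hconn (IsCofiltered.min k i) (IsCofiltered.minToRight k i)
    obtain ⟨x⟩ := h1.toNonempty
    exact hk.false ((D.map (IsCofiltered.minToLeft k i)) x)
  have hpre : PreconnectedSpace c.pt := by
    rw [preconnectedSpace_iff_clopen]
    intro U hU
    by_contra hcon
    push Not at hcon
    obtain ⟨hU1, hU2⟩ := hcon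
    have hUne : U.Nonempty := hU1
    have hVne : (Uᶜ).Nonempty := Set.nonempty_compl.2 hU2
    obtain ⟨a, A, hA, hAU⟩ := exists_preimage_eq D c hc ⟨U, hU.2⟩ hU.1.isCompact
    obtain ⟨b, B, hB, hBV⟩ := exists_preimage_eq D c hc ⟨Uᶜ, hU.compl.2⟩ hU.compl.1.isCompact
    let k₁ := IsCofiltered.min a b
    let k := IsCofiltered.min k₁ i
    let fa : k ⟶ a := IsCofiltered.minToLeft k₁ i ≫ IsCofiltered.minToLeft a b
    let fb : k ⟶ b := IsCofiltered.minToLeft k₁ i ≫ IsCofiltered.minToRight a b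
    let fi : k ⟶ i := IsCofiltered.minToRight k₁ i
    have hk : CompactSpace (D.obj k) := QuasiCompact.compactSpace_of_compactSpace (D.map (fi ≫ f))
    have hA' : ∀ x : c.pt, (c.π.app k) x ∈ (D.map fa ⁻¹ᵁ A : (D.obj k).Opens) ↔ x ∈ U := by
      intro x
      have : x ∈ (⟨U, hU.2⟩ : c.pt.Opens) ↔ x ∈ U := Iff.rfl
      rw [← this, ← hAU]
      change (D.map fa) ((c.π.app k) x) ∈ A ↔ (c.π.app a) x ∈ A
      rw [π_comp_apply]
    have hB' : ∀ x : c.pt, (c.π.app k) x ∈ (D.map fb ⁻¹ᵁ B : (D.obj k).Opens) ↔ x ∉ U := by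
      intro x
      have : x ∈ (⟨Uᶜ, hU.compl.2⟩ : c.pt.Opens) ↔ x ∉ U := Iff.rfl
      rw [← this, ← hBV]
      change (D.map fb) ((c.π.app k) x) ∈ B ↔ (c.π.app b) x ∈ B
      rw [π_comp_apply]
    have hdisj : ((D.map fa ⁻¹ᵁ A : (D.obj k).Opens) : Set (D.obj k)) ∩
        ((D.map fb ⁻¹ᵁ B : (D.obj k).Opens) : Set (D.obj k)) = ∅ := by
      by_contra hne'
      have hd := (hdom k).denseRange
      obtain ⟨_, hy, ⟨x, rfl⟩⟩ := (dense_iff_inter_open.1 hd) _
        ((D.map fa ⁻¹ᵁ A).2.inter (D.map fb ⁻¹ᵁ B).2) (Set.nonempty_iff_ne_empty.2 hne')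
      exact ((hB' x).1 hy.2) ((hA' x).1 hy.1)
    have H : c.π.app k ⁻¹ᵁ (⊤ : (D.obj k).Opens) ≤
        c.π.app k ⁻¹ᵁ ((D.map fa ⁻¹ᵁ A) ⊔ (D.map fb ⁻¹ᵁ B)) := by
      intro x _
      by_cases hx : x ∈ U
      · exact Or.inl ((hA' x).2 hx)
      · exact Or.inr ((hB' x).2 hx)
    obtain ⟨l, g, hl⟩ := exists_map_preimage_le_map_preimage D c hc
      (U := (⊤ : (D.obj k).Opens)) (by simpa using isCompact_univ) H
    have hlconn := hconn l (g ≫ fi)
    let A'' : Set (D.obj l) := (D.map g) ⁻¹' ((D.map fa ⁻¹ᵁ A : (D.obj k).Opens) : Set (D.obj k))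
    let B'' : Set (D.obj l) := (D.map g) ⁻¹' ((D.map fb ⁻¹ᵁ B : (D.obj k).Opens) : Set (D.obj k))
    have hA''o : IsOpen A'' := (D.map fa ⁻¹ᵁ A).2.preimage (D.map g).continuous
    have hB''o : IsOpen B'' := (D.map fb ⁻¹ᵁ B).2.preimage (D.map g).continuous
    have hcov : A'' ∪ B'' = Set.univ := by
      ext y
      simp only [Set.mem_univ, iff_true]
      exact hl (show y ∈ D.map g ⁻¹ᵁ (⊤ : (D.obj k).Opens) from trivial)
    have hdisj' : A'' ∩ B'' = ∅ := by
      rw [← Set.preimage_inter, hdisj, Set.preimage_empty]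
    have hA''c : IsClopen A'' := by
      refine ⟨?_, hA''o⟩
      have : A'' = B''ᶜ := by
        ext y
        constructor
        · intro hy hy'
          exact (Set.eq_empty_iff_forall_notMem.1 hdisj' y) ⟨hy, hy'⟩
        · intro hy
          have := Set.eq_univ_iff_forall.1 hcov y
          exact this.resolve_right hy
      rw [this]
      exact hB''o.isClosed_compl
    obtain ⟨x, hx⟩ := hUne
    obtain ⟨x', hx'⟩ := hVne
    have hxA : (c.π.app l) x ∈ A'' := by
      show (D.map g) ((c.π.app l) x) ∈ (D.map fa ⁻¹ᵁ A : (D.obj k).Opens)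
      rw [π_comp_apply]
      exact (hA' x).2 hx
    have hxB : (c.π.app l) x' ∈ B'' := by
      show (D.map g) ((c.π.app l) x') ∈ (D.map fb ⁻¹ᵁ B : (D.obj k).Opens)
      rw [π_comp_apply]
      exact (hB' x').2 hx'
    rcases isClopen_iff.1 hA''c with h | h
    · rw [h] at hxA; exact hxA
    · have : (c.π.app l) x' ∈ A'' := by rw [h]; trivial
      exact (Set.eq_empty_iff_forall_notMem.1 hdisj' _) ⟨this, hxB⟩
  exact { toPreconnectedSpace := hpre, toNonempty := hne }

include hc in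
/-- Descent of disjointness: two quasi-compact opens at stages `a`, `b` whose preimages in the
limit are disjoint have disjoint preimages at some common later stage (over a qcqs stage). -/
theorem exists_disjoint_preimage (i₀ : I) [CompactSpace (D.obj i₀)]
    [QuasiSeparatedSpace (D.obj i₀)] {a b : I} (A : (D.obj a).Opens)
    (hA : IsCompact (A : Set (D.obj a))) (B : (D.obj b).Opens)
    (hB : IsCompact (B : Set (D.obj b)))
    (H : ((c.π.app a) ⁻¹' (A : Set (D.obj a))) ∩ ((c.π.app b) ⁻¹' (B : Set (D.obj b))) = ∅) :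
    ∃ (l : I) (ga : l ⟶ a) (gb : l ⟶ b) (_ : l ⟶ i₀),
      ((D.map ga) ⁻¹' (A : Set (D.obj a))) ∩ ((D.map gb) ⁻¹' (B : Set (D.obj b))) = ∅ := by
  let k₁ := IsCofiltered.min a b
  let k := IsCofiltered.min k₁ i₀
  let fa : k ⟶ a := IsCofiltered.minToLeft k₁ i₀ ≫ IsCofiltered.minToLeft a b
  let fb : k ⟶ b := IsCofiltered.minToLeft k₁ i₀ ≫ IsCofiltered.minToRight a b
  let f0 : k ⟶ i₀ := IsCofiltered.minToRight k₁ i₀
  have hqs : QuasiSeparatedSpace (D.obj k) := quasiSeparatedSpace_of_quasiSeparated (D.map f0)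
  have hA' : IsCompact ((D.map fa ⁻¹ᵁ A : (D.obj k).Opens) : Set (D.obj k)) :=
    QuasiCompact.isCompact_preimage (f := D.map fa) _ A.2 hA
  have hB' : IsCompact ((D.map fb ⁻¹ᵁ B : (D.obj k).Opens) : Set (D.obj k)) :=
    QuasiCompact.isCompact_preimage (f := D.map fb) _ B.2 hB
  have hAB : IsCompact (((D.map fa ⁻¹ᵁ A) ⊓ (D.map fb ⁻¹ᵁ B) : (D.obj k).Opens) : Set (D.obj k)) :=
    QuasiSeparatedSpace.inter_isCompact _ _ (D.map fa ⁻¹ᵁ A).2 hA' (D.map fb ⁻¹ᵁ B).2 hB'
  have H' : c.π.app k ⁻¹ᵁ ((D.map fa ⁻¹ᵁ A) ⊓ (D.map fb ⁻¹ᵁ B)) ≤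
      c.π.app k ⁻¹ᵁ (⊥ : (D.obj k).Opens) := by
    rintro x ⟨hx1, hx2⟩
    exfalso
    have h1 : (D.map fa) ((c.π.app k) x) ∈ A := hx1
    have h2 : (D.map fb) ((c.π.app k) x) ∈ B := hx2
    rw [π_comp_apply] at h1 h2
    exact (Set.eq_empty_iff_forall_notMem.1 H x) ⟨h1, h2⟩
  obtain ⟨l, g, hl⟩ := exists_map_preimage_le_map_preimage D c hc hAB H'
  refine ⟨l, g ≫ fa, g ≫ fb, g ≫ f0, ?_⟩
  rw [Set.eq_empty_iff_forall_notMem]
  rintro y ⟨hy1, hy2⟩
  have h1 : (D.map (g ≫ fa)) y ∈ A := hy1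
  have h2 : (D.map (g ≫ fb)) y ∈ B := hy2
  rw [map_comp_apply] at h1 h2
  exact hl (show y ∈ D.map g ⁻¹ᵁ ((D.map fa ⁻¹ᵁ A) ⊓ (D.map fb ⁻¹ᵁ B)) from ⟨h1, h2⟩)

end Groth.Agent.Lib.LimConnected
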