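import Mathlib.AlgebraicGeometry.AffineTransitionLimit
import Mathlib.Topology.NoetherianSpace
import Mathlib.Topology.Irreducible
import Groth.Agent.Lib.LimConnected

set_option autoImplicit false
universe u

open CategoryTheory Limits AlgebraicGeometry Topology TopologicalSpace

namespace Groth.Agent.Lib.LimComponents

open Groth.Agent.Lib.LimConnected

section Topology

variable {X Y : Type*} [TopologicalSpace X] [TopologicalSpace Y]

/-- A continuous map with dense range from a space with finitely many irreducible components,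
such that closures of images of distinct components are not contained in one another,
induces a bijection on irreducible components. -/
theorem bijOn_irreducibleComponents (f : X → Y) (hf : Continuous f) (hd : DenseRange f)
    (hfin : (irreducibleComponents X).Finite)
    (hne : ∀ Y₁ ∈ irreducibleComponents X, ∀ Y₂ ∈ irreducibleComponents X,
      closure (f '' Y₁) ⊆ closure (f '' Y₂) → Y₁ = Y₂) :
    Set.BijOn (fun Z : Set X => closure (f '' Z)) (irreducibleComponents X)
      (irreducibleComponents Y) := by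
  classical
  have hirr : ∀ Y₁ ∈ irreducibleComponents X, IsIrreducible (closure (f '' Y₁)) :=
    fun Y₁ h => (h.1.image f hf.continuousOn).closure
  have hcov : ∀ T : Set Y, IsIrreducible T →
      ∃ Y₁ ∈ irreducibleComponents X, T ⊆ closure (f '' Y₁) := by
    intro T hT
    let t : Finset (Set Y) := hfin.toFinset.image (fun Z : Set X => closure (f '' Z))
    have htc : ∀ z ∈ t, IsClosed z := by
      intro z hz
      obtain ⟨Z, -, rfl⟩ := Finset.mem_image.1 hz
      exact isClosed_closure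
    have hclosed : IsClosed (⋃₀ (↑t : Set (Set Y))) := by
      rw [Set.sUnion_eq_biUnion]
      exact t.finite_toSet.isClosed_biUnion htc
    have hrange : Set.range f ⊆ ⋃₀ (↑t : Set (Set Y)) := by
      rintro _ ⟨x, rfl⟩
      refine ⟨closure (f '' irreducibleComponent x), ?_, subset_closure ⟨x, mem_irreducibleComponent, rfl⟩⟩
      exact Finset.mem_coe.2 (Finset.mem_image.2 ⟨irreducibleComponent x,
        hfin.mem_toFinset.2 (irreducibleComponent_mem_irreducibleComponents x), rfl⟩)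
    have huniv : ⋃₀ (↑t : Set (Set Y)) = Set.univ := by
      rw [← Set.univ_subset_iff, ← hd.closure_range]
      exact hclosed.closure_subset_iff.2 hrange
    obtain ⟨z, hz, hTz⟩ := (isIrreducible_iff_sUnion_isClosed.1 hT) t htc
      (by rw [huniv]; exact Set.subset_univ _)
    obtain ⟨Z, hZ, rfl⟩ := Finset.mem_image.1 hz
    exact ⟨Z, hfin.mem_toFinset.1 hZ, hTz⟩
  refine ⟨?_, ?_, ?_⟩
  · intro Y₁ hY₁
    refine ⟨hirr Y₁ hY₁, fun T hT hle => ?_⟩
    obtain ⟨Y₂, hY₂, hTY₂⟩ := hcov T hT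
    have := hne Y₁ hY₁ Y₂ hY₂ (hle.trans hTY₂)
    subst this
    exact hTY₂
  · intro Y₁ hY₁ Y₂ hY₂ h
    exact hne Y₁ hY₁ Y₂ hY₂ (le_of_eq h)
  · intro T hT
    obtain ⟨Y₁, hY₁, hTY₁⟩ := hcov T hT.1
    exact ⟨Y₁, hY₁, le_antisymm (hT.2 (hirr Y₁ hY₁) hTY₁) hTY₁⟩

/-- A space with finitely many irreducible components has finitely many connected
components. -/
theorem finite_range_connectedComponent (hfin : (irreducibleComponents X).Finite) :
    (Set.range (connectedComponent : X → Set X)).Finite := by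
  refine (hfin.image (fun Z : Set X => ⋃ z ∈ Z, connectedComponent z)).subset ?_
  rintro _ ⟨x, rfl⟩
  refine ⟨irreducibleComponent x, irreducibleComponent_mem_irreducibleComponents x, ?_⟩
  have hpre : IsPreconnected (irreducibleComponent x) :=
    isIrreducible_irreducibleComponent.isPreirreducible.isPreconnected
  have hsub : irreducibleComponent x ⊆ connectedComponent x :=
    hpre.subset_connectedComponent mem_irreducibleComponent
  apply Set.Subset.antisymm
  · refine Set.iUnion₂_subset fun z hz => ?_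
    rw [← connectedComponent_eq (hsub hz)]
  · intro y hy
    exact Set.mem_iUnion₂.2 ⟨x, mem_irreducibleComponent, hy⟩

/-- If there are finitely many connected components, each one is open. -/
theorem isOpen_connectedComponent_of_finite
    (hfin : (Set.range (connectedComponent : X → Set X)).Finite) (x : X) :
    IsOpen (connectedComponent x) := by
  have hcompl : (connectedComponent x)ᶜ =
      ⋃ C ∈ (Set.range (connectedComponent : X → Set X)) \ {connectedComponent x}, C := by
    ext y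
    simp only [Set.mem_compl_iff, Set.mem_iUnion, Set.mem_diff, Set.mem_range,
      Set.mem_singleton_iff, exists_prop]
    constructor
    · intro hy
      refine ⟨connectedComponent y, ⟨⟨y, rfl⟩, fun h => hy ?_⟩, mem_connectedComponent⟩
      rw [← h]; exact mem_connectedComponent
    · rintro ⟨C, ⟨⟨x', rfl⟩, hne⟩, hy⟩ hyx
      exact hne ((connectedComponent_eq hy).trans (connectedComponent_eq hyx).symm)
  rw [← isClosed_compl_iff, hcompl]
  refine (hfin.subset Set.diff_subset).isClosed_biUnion ?_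
  rintro C ⟨⟨x', rfl⟩, -⟩
  exact isClosed_connectedComponent

/-- Criterion for a bijection on connected components: a continuous map `f : X → Y` with dense
range such that each connected component `C` of `X` is the preimage of an open `V C` and the
`V C` cover `Y`. -/
theorem bijOn_connectedComponents (f : X → Y) (hf : Continuous f) (hd : DenseRange f)
    (V : Set X → Set Y)
    (hVo : ∀ C ∈ Set.range (connectedComponent : X → Set X), IsOpen (V C))
    (hVpre : ∀ C ∈ Set.range (connectedComponent : X → Set X), f ⁻¹' (V C) = C)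
    (hcov : ∀ y : Y, ∃ C ∈ Set.range (connectedComponent : X → Set X), y ∈ V C) :
    Set.BijOn (fun C : Set X => closure (f '' C)) (Set.range (connectedComponent : X → Set X))
      (Set.range (connectedComponent : Y → Set Y)) := by
  have hdisj : ∀ C ∈ Set.range (connectedComponent : X → Set X),
      ∀ C' ∈ Set.range (connectedComponent : X → Set X), C ≠ C' → V C ∩ V C' = ∅ := by
    intro C hC C' hC' hne
    by_contra hnon
    obtain ⟨_, hy, ⟨x, rfl⟩⟩ := (dense_iff_inter_open.1 hd) _ ((hVo C hC).inter (hVo C' hC'))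
      (Set.nonempty_iff_ne_empty.2 hnon)
    have h1 : x ∈ C := by rw [← hVpre C hC]; exact hy.1
    have h2 : x ∈ C' := by rw [← hVpre C' hC']; exact hy.2
    obtain ⟨x₁, rfl⟩ := hC
    obtain ⟨x₂, rfl⟩ := hC'
    exact hne ((connectedComponent_eq h1).trans (connectedComponent_eq h2).symm)
  have hclosed : ∀ C ∈ Set.range (connectedComponent : X → Set X), IsClosed (V C) := by
    intro C hC
    have hcompl : (V C)ᶜ =
        ⋃ C' ∈ (Set.range (connectedComponent : X → Set X)) \ {C}, V C' := by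
      ext y
      simp only [Set.mem_compl_iff, Set.mem_iUnion, Set.mem_diff, Set.mem_singleton_iff,
        exists_prop]
      constructor
      · intro hy
        obtain ⟨C', hC', hyC'⟩ := hcov y
        exact ⟨C', ⟨hC', fun h => hy (h ▸ hyC')⟩, hyC'⟩
      · rintro ⟨C', ⟨hC', hne⟩, hy⟩ hyC
        have := hdisj C hC C' hC' (fun h => hne h.symm)
        exact (Set.eq_empty_iff_forall_notMem.1 this y) ⟨hyC, hy⟩
    rw [← isOpen_compl_iff, hcompl]
    exact isOpen_biUnion fun C' hC' => hVo C' hC'.1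
  have hcl : ∀ C ∈ Set.range (connectedComponent : X → Set X), closure (f '' C) = V C := by
    intro C hC
    apply Set.Subset.antisymm
    · refine (hclosed C hC).closure_subset_iff.2 ?_
      rintro _ ⟨x, hx, rfl⟩
      have : x ∈ f ⁻¹' (V C) := by rw [hVpre C hC]; exact hx
      exact this
    · intro y hy
      rw [mem_closure_iff]
      intro W hW hyW
      obtain ⟨_, hz, ⟨x, rfl⟩⟩ := (dense_iff_inter_open.1 hd) _ (hW.inter (hVo C hC)) ⟨y, hyW, hy⟩
      refine ⟨f x, hz.1, x, ?_, rfl⟩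
      rw [← hVpre C hC]; exact hz.2
  have hcomp : ∀ C ∈ Set.range (connectedComponent : X → Set X), ∀ y ∈ V C,
      connectedComponent y = V C := by
    intro C hC y hy
    apply Set.Subset.antisymm
    · exact IsClopen.connectedComponent_subset ⟨hclosed C hC, hVo C hC⟩ hy
    · have hconn : IsPreconnected (V C) := by
        rw [← hcl C hC]
        obtain ⟨x, rfl⟩ := hC
        exact (isPreconnected_connectedComponent.image f hf.continuousOn).closure
      exact hconn.subset_connectedComponent hy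
  refine ⟨?_, ?_, ?_⟩
  · intro C hC
    have hCne : C.Nonempty := by
      obtain ⟨x, rfl⟩ := hC
      exact ⟨x, mem_connectedComponent⟩
    obtain ⟨x, hx⟩ := hCne
    have hfx : f x ∈ V C := by
      have : x ∈ f ⁻¹' (V C) := by rw [hVpre C hC]; exact hx
      exact this
    refine ⟨f x, ?_⟩
    show connectedComponent (f x) = closure (f '' C)
    rw [hcl C hC, hcomp C hC (f x) hfx]
  · intro C hC C' hC' h
    have h' : closure (f '' C) = closure (f '' C') := h
    rw [hcl C hC, hcl C' hC'] at h'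
    rw [← hVpre C hC, ← hVpre C' hC', h']
  · rintro _ ⟨y, rfl⟩
    obtain ⟨C, hC, hyC⟩ := hcov y
    refine ⟨C, hC, ?_⟩
    show closure (f '' C) = connectedComponent y
    rw [hcl C hC, hcomp C hC y hyC]

end Topology

variable {I : Type u} [Category.{u} I] [IsCofiltered I] (D : I ⥤ Scheme.{u}) (c : Cone D)
  (hc : IsLimit c) [∀ {i j : I} (f : i ⟶ j), IsAffineHom (D.map f)]

include hc in
/-- A point outside a closed subset of the limit is separated from it at some stage. -/
theorem exists_not_mem_closure_image {Z : Set c.pt} (hZ : IsClosed Z) {x : c.pt} (hx : x ∉ Z) :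
    ∃ j : I, (c.π.app j) x ∉ closure ((c.π.app j) '' Z) := by
  obtain ⟨_, ⟨_, ⟨a, A, hA, rfl⟩, rfl⟩, hxA, hAU⟩ :=
    (isBasis_preimage_isAffineOpen D c hc).exists_subset_of_mem_open
      (show x ∈ Zᶜ from hx) hZ.isOpen_compl
  refine ⟨a, fun hcl => ?_⟩
  obtain ⟨_, hy1, ⟨y, hyY, rfl⟩⟩ := mem_closure_iff.1 hcl A A.2 hxA
  exact hAU hy1 hyY

omit [IsCofiltered I] [∀ {i j : I} (f : i ⟶ j), IsAffineHom (D.map f)] in
theorem image_image_eq {j j₀ : I} (φ : j ⟶ j₀) (Z : Set c.pt) :
    (D.map φ) '' ((c.π.app j) '' Z) = (c.π.app j₀) '' Z := by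
  ext y
  constructor
  · rintro ⟨_, ⟨x, hx, rfl⟩, rfl⟩
    exact ⟨x, hx, (π_comp_apply D c φ x).symm⟩
  · rintro ⟨x, hx, rfl⟩
    exact ⟨_, ⟨x, hx, rfl⟩, π_comp_apply D c φ x⟩

include hc in
theorem exists_forall_not_closure_image_subset {Y₁ Y₂ : Set c.pt} (hY₂ : IsClosed Y₂)
    (h : ¬ Y₁ ⊆ Y₂) :
    ∃ j₀ : I, ∀ (j : I) (_ : j ⟶ j₀),
      ¬ closure ((c.π.app j) '' Y₁) ⊆ closure ((c.π.app j) '' Y₂) := by
  obtain ⟨x, hx1, hx2⟩ := Set.not_subset.1 h
  obtain ⟨j₀, hj₀⟩ := exists_not_mem_closure_image D c hc hY₂ hx2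
  refine ⟨j₀, fun j φ hsub => hj₀ ?_⟩
  have h1 : (c.π.app j) x ∈ closure ((c.π.app j) '' Y₂) :=
    hsub (subset_closure ⟨x, hx1, rfl⟩)
  have h2 : (D.map φ) ((c.π.app j) x) ∈ closure ((D.map φ) '' ((c.π.app j) '' Y₂)) :=
    image_closure_subset_closure_image (D.map φ).continuous ⟨_, h1, rfl⟩
  rw [π_comp_apply, image_image_eq] at h2
  exact h2

include hc in
/-- Finite version: for a finite family of pairs of closed subsets (not contained in one another),
there is a stage over `i₀` from which on the closures of the images are not contained in one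
another. -/
theorem exists_forall_forall_not_closure_image_subset (i₀ : I) (S : Set (Set c.pt))
    (hS : S.Finite) (hcl : ∀ Z ∈ S, IsClosed Z) :
    ∃ (i : I) (_ : i ⟶ i₀), ∀ (j : I) (_ : j ⟶ i), ∀ Y₁ ∈ S, ∀ Y₂ ∈ S, ¬ Y₁ ⊆ Y₂ →
      ¬ closure ((c.π.app j) '' Y₁) ⊆ closure ((c.π.app j) '' Y₂) := by
  classical
  let jfun : Set c.pt × Set c.pt → I := fun p =>
    if h : IsClosed p.2 ∧ ¬ p.1 ⊆ p.2 then
      Classical.choose (exists_forall_not_closure_image_subset D c hc h.1 h.2)
    else i₀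
  let O : Finset I := insert i₀ ((hS.prod hS).toFinset.image jfun)
  obtain ⟨i, hi⟩ := IsCofiltered.inf_objs_exists O
  obtain ⟨f₀⟩ := hi (Finset.mem_insert_self _ _)
  refine ⟨i, f₀, fun j g Y₁ hY₁ Y₂ hY₂ hne => ?_⟩
  have hmem : jfun (Y₁, Y₂) ∈ O := by
    refine Finset.mem_insert_of_mem (Finset.mem_image.2 ⟨(Y₁, Y₂), ?_, rfl⟩)
    rw [Set.Finite.mem_toFinset]
    exact ⟨hY₁, hY₂⟩
  obtain ⟨φ⟩ := hi hmem
  have hcond : IsClosed (Y₁, Y₂).2 ∧ ¬ (Y₁, Y₂).1 ⊆ (Y₁, Y₂).2 := ⟨hcl Y₂ hY₂, hne⟩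
  have hj : jfun (Y₁, Y₂) =
      Classical.choose (exists_forall_not_closure_image_subset D c hc hcond.1 hcond.2) :=
    dif_pos hcond
  have hspec := Classical.choose_spec
    (exists_forall_not_closure_image_subset D c hc hcond.1 hcond.2)
  exact hspec j (g ≫ φ ≫ eqToHom hj)

include hc in
/-- A finite cover of the limit by clopen subsets descends, from some stage over a quasi-compact
stage `i₀` on, to a cover by open subsets with the prescribed preimages. -/
theorem exists_opens_of_finite_clopen (i₀ : I) [CompactSpace (D.obj i₀)] (𝒞 : Set (Set c.pt))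
    (hfin : 𝒞.Finite) (hclopen : ∀ C ∈ 𝒞, IsClopen C) (hcov : ∀ x : c.pt, ∃ C ∈ 𝒞, x ∈ C) :
    ∃ (i : I) (_ : i ⟶ i₀), ∀ (j : I) (_ : j ⟶ i), ∃ V : Set c.pt → Set (D.obj j),
      (∀ C ∈ 𝒞, IsOpen (V C)) ∧ (∀ C ∈ 𝒞, (c.π.app j) ⁻¹' (V C) = C) ∧
        (∀ y : D.obj j, ∃ C ∈ 𝒞, y ∈ V C) := by
  classical
  have hπaff : ∀ i, IsAffineHom (c.π.app i) := isAffineHom_π_app D c hc
  have hcpt : CompactSpace c.pt := QuasiCompact.compactSpace_of_compactSpace (c.π.app i₀)
  have key : ∀ C : 𝒞, ∃ (a : I) (V : (D.obj a).Opens),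
      (c.π.app a) ⁻¹' (V : Set (D.obj a)) = C.1 := by
    intro C
    obtain ⟨a, V, -, hV⟩ := exists_preimage_eq D c hc ⟨C.1, (hclopen C.1 C.2).2⟩
      (hclopen C.1 C.2).1.isCompact
    exact ⟨a, V, congrArg (fun U : c.pt.Opens => (U : Set c.pt)) hV⟩
  choose a V hV using key
  haveI : Fintype 𝒞 := hfin.fintype
  let O : Finset I := insert i₀ (Finset.univ.image a)
  obtain ⟨k, hk⟩ := IsCofiltered.inf_objs_exists O
  obtain ⟨g₀⟩ := hk (Finset.mem_insert_self _ _)
  have gC : ∀ C : 𝒞, k ⟶ a C := fun C =>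
    (hk (Finset.mem_insert_of_mem (Finset.mem_image_of_mem a (Finset.mem_univ C)))).some
  have hkc : CompactSpace (D.obj k) := QuasiCompact.compactSpace_of_compactSpace (D.map g₀)
  let W : (D.obj k).Opens := ⨆ C : 𝒞, (D.map (gC C)) ⁻¹ᵁ (V C)
  have H : c.π.app k ⁻¹ᵁ (⊤ : (D.obj k).Opens) ≤ c.π.app k ⁻¹ᵁ W := by
    intro x _
    obtain ⟨C, hC, hxC⟩ := hcov x
    show (c.π.app k) x ∈ W
    refine TopologicalSpace.Opens.mem_iSup.2 ⟨⟨C, hC⟩, ?_⟩
    show (D.map (gC ⟨C, hC⟩)) ((c.π.app k) x) ∈ V ⟨C, hC⟩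
    rw [π_comp_apply]
    have : x ∈ (c.π.app (a ⟨C, hC⟩)) ⁻¹' (V ⟨C, hC⟩ : Set (D.obj (a ⟨C, hC⟩))) := by
      rw [hV ⟨C, hC⟩]; exact hxC
    exact this
  obtain ⟨i, g, hi⟩ := exists_map_preimage_le_map_preimage D c hc
    (U := (⊤ : (D.obj k).Opens)) (by simpa using isCompact_univ) H
  refine ⟨i, g ≫ g₀, fun j φ => ?_⟩
  let V' : Set c.pt → Set (D.obj j) := fun C =>
    if h : C ∈ 𝒞 then (D.map (φ ≫ g ≫ gC ⟨C, h⟩)) ⁻¹' (V ⟨C, h⟩ : Set (D.obj (a ⟨C, h⟩))) else ∅
  have hV' : ∀ (C : Set c.pt) (h : C ∈ 𝒞), V' C =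
      (D.map (φ ≫ g ≫ gC ⟨C, h⟩)) ⁻¹' (V ⟨C, h⟩ : Set (D.obj (a ⟨C, h⟩))) :=
    fun C h => dif_pos h
  refine ⟨V', ?_, ?_, ?_⟩
  · intro C hC
    rw [hV' C hC]
    exact (V ⟨C, hC⟩).2.preimage (D.map (φ ≫ g ≫ gC ⟨C, hC⟩)).continuous
  · intro C hC
    rw [hV' C hC]
    have h0 : (c.π.app (a ⟨C, hC⟩)) ⁻¹' (V ⟨C, hC⟩ : Set (D.obj (a ⟨C, hC⟩))) = C := hV ⟨C, hC⟩
    refine Eq.trans ?_ h0
    ext x
    simp only [Set.mem_preimage]
    rw [π_comp_apply]
  · intro y
    have := hi (show (D.map φ) y ∈ D.map g ⁻¹ᵁ (⊤ : (D.obj k).Opens) from trivial)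
    have h2 : (D.map g) ((D.map φ) y) ∈ W := this
    obtain ⟨C, hC⟩ := TopologicalSpace.Opens.mem_iSup.1 h2
    refine ⟨C.1, C.2, ?_⟩
    rw [hV' C.1 C.2]
    show (D.map (φ ≫ g ≫ gC C)) y ∈ V C
    rw [map_comp_apply, map_comp_apply]
    exact hC

end Groth.Agent.Lib.LimComponents
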