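import Groth.Agent.Lib.AbCx31

/-!
# Cohomology of a limit of a tower of complexes of abelian groups under `lim¹ = 0` hypotheses
(helper31)

`bijective_homologyMap_π` : for a tower `K : ℕᵒᵖ ⥤ Cx` of cochain complexes of abelian groups with
`lim¹ K^{m-2} = 0`, `lim¹ K^{m-1} = 0`, `lim¹ H^{m-1}(K) = 0` and `H^m(K_n) ≃ H^m(K_{n₀})` for
`n ≥ n₀`, the map `H^m(lim K) ⟶ H^m(K_{n₀})` is bijective.
-/

set_option autoImplicit false

open CategoryTheory CategoryTheory.Limits Opposite HomologicalComplex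

universe u

namespace Groth.Agent.LimCx31

open Groth.Agent.AbCx31 Groth.Agent.MLTower31

/-- elementwise vanishing of `lim¹` of a tower of abelian groups -/
def LimOneZero (B : ℕᵒᵖ ⥤ AddCommGrpCat.{u}) : Prop :=
  ∀ y : ∀ n : ℕ, B.obj (op n), ∃ a : ∀ n : ℕ, B.obj (op n),
    ∀ n, a n - (tr B (Nat.le_succ n)).hom (a (n + 1)) = y n

lemma ab_aux {G : Type*} [AddCommGroup G] (a b c d : G) (h : a - b = c - d) :
    d - b = c - a := by
  rw [sub_eq_sub_iff_add_eq_add] at h ⊢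
  rw [add_comm d a, h]

section Cls

variable (M : Cx.{u})

lemma cls_sub (q r : ℤ) (hqr : q + 1 = r) (z z' : M.X q)
    (hz : (M.d q r).hom z = 0) (hz' : (M.d q r).hom z' = 0) :
    cls M q r hqr (z - z') (by rw [map_sub, hz, hz', sub_zero]) =
      cls M q r hqr z hz - cls M q r hqr z' hz' := by
  exact map_sub (clsHom M q r hqr) ⟨z, hz⟩ ⟨z', hz'⟩

lemma cls_add (q r : ℤ) (hqr : q + 1 = r) (z z' : M.X q)
    (hz : (M.d q r).hom z = 0) (hz' : (M.d q r).hom z' = 0) :
    cls M q r hqr (z + z') (by rw [map_add, hz, hz', add_zero]) =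
      cls M q r hqr z hz + cls M q r hqr z' hz' := by
  exact map_add (clsHom M q r hqr) ⟨z, hz⟩ ⟨z', hz'⟩

lemma cls_congr (q r : ℤ) (hqr : q + 1 = r) (z z' : M.X q) (h : z = z')
    (hz : (M.d q r).hom z = 0) :
    cls M q r hqr z hz = cls M q r hqr z' (h ▸ hz) := by
  subst h
  rfl

lemma d_d_apply (p q r : ℤ) (x : M.X p) : (M.d q r).hom ((M.d p q).hom x) = 0 :=
  ConcreteCategory.congr_hom (M.d_comp_d p q r) x

end Cls

variable (K : ℕᵒᵖ ⥤ Cx.{u})

/-- transition chain maps -/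
abbrev T (n : ℕ) : K.obj (op (n + 1)) ⟶ K.obj (op n) := K.map (homOfLE (Nat.le_succ n)).op

/-- `lim¹ K^q = 0` implies `lim¹ B^{q+1} = 0`. -/
lemma limOne_bdry (q r : ℤ) (hq : LimOneZero (termTower K q))
    (y : ∀ n : ℕ, (K.obj (op n)).X r)
    (hy : ∀ n, ∃ w : (K.obj (op n)).X q, ((K.obj (op n)).d q r).hom w = y n) :
    ∃ v : ∀ n : ℕ, (K.obj (op n)).X r,
      (∀ n, ∃ u : (K.obj (op n)).X q, ((K.obj (op n)).d q r).hom u = v n) ∧
      ∀ n, v n - ((T K n).f r).hom (v (n + 1)) = y n := by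
  choose w hw using hy
  obtain ⟨u, hu'⟩ : ∃ u : ∀ n : ℕ, (K.obj (op n)).X q,
      ∀ n, u n - ((T K n).f q).hom (u (n + 1)) = w n := hq w
  refine ⟨fun n => ((K.obj (op n)).d q r).hom (u n), fun n => ⟨u n, rfl⟩, fun n => ?_⟩
  rw [← hw n, ← hu' n, map_sub]
  congr 1
  exact (comm_apply (K.obj (op (n + 1))) (T K n) q r (u (n + 1))).symm

/-- `lim¹ K^a = 0` and `lim¹ H^b = 0` imply `lim¹ Z^b = 0` (`b = a + 1`). -/
lemma limOne_cycles (a b m : ℤ) (hab : a + 1 = b) (hbm : b + 1 = m)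
    (ha : LimOneZero (termTower K a)) (hH : LimOneZero (homologyTower K b))
    (z : ∀ n : ℕ, (K.obj (op n)).X b) (hz : ∀ n, ((K.obj (op n)).d b m).hom (z n) = 0) :
    ∃ ζ : ∀ n : ℕ, (K.obj (op n)).X b, (∀ n, ((K.obj (op n)).d b m).hom (ζ n) = 0) ∧
      ∀ n, ζ n - ((T K n).f b).hom (ζ (n + 1)) = z n := by
  obtain ⟨h, hh'⟩ : ∃ h : ∀ n : ℕ, (K.obj (op n)).homology b,
      ∀ n, h n - (homologyMap (T K n) b).hom (h (n + 1)) =
        cls (K.obj (op n)) b m hbm (z n) (hz n) :=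
    hH (fun n => cls (K.obj (op n)) b m hbm (z n) (hz n))
  have hrep : ∀ n, ∃ (ζ₀ : (K.obj (op n)).X b) (hζ : ((K.obj (op n)).d b m).hom ζ₀ = 0),
      cls (K.obj (op n)) b m hbm ζ₀ hζ = h n := fun n => exists_cls _ b m hbm (h n)
  choose ζ₀ hζ₀ hcls using hrep
  have hTζ : ∀ n, ((K.obj (op n)).d b m).hom (((T K n).f b).hom (ζ₀ (n + 1))) = 0 := by
    intro n
    rw [comm_apply, hζ₀, map_zero]
  have hy : ∀ n, ∃ w : (K.obj (op n)).X a, ((K.obj (op n)).d a b).hom w =
      z n - (ζ₀ n - ((T K n).f b).hom (ζ₀ (n + 1))) := by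
    intro n
    have h1 : ((K.obj (op n)).d b m).hom (ζ₀ n - ((T K n).f b).hom (ζ₀ (n + 1))) = 0 := by
      rw [map_sub, hζ₀, hTζ, sub_zero]
    have hcoc : ((K.obj (op n)).d b m).hom
        (z n - (ζ₀ n - ((T K n).f b).hom (ζ₀ (n + 1)))) = 0 := by
      rw [map_sub, hz, h1, sub_zero]
    rw [← cls_eq_zero_iff _ a b m hab hbm _ hcoc]
    rw [cls_sub _ b m hbm _ _ (hz n) h1, cls_sub _ b m hbm _ _ (hζ₀ n) (hTζ n)]
    have h2 : cls (K.obj (op n)) b m hbm (((T K n).f b).hom (ζ₀ (n + 1))) (hTζ n) =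
        (homologyMap (T K n) b).hom (h (n + 1)) := by
      rw [← hcls (n + 1), homologyMap_cls]
    rw [h2, hcls, ← hh' n, sub_self]
  obtain ⟨v, hv, hv'⟩ := limOne_bdry K a b ha _ hy
  refine ⟨fun n => ζ₀ n + v n, fun n => ?_, fun n => ?_⟩
  · obtain ⟨u, hu⟩ := hv n
    rw [map_add, hζ₀, ← hu, d_d_apply, add_zero]
  · have := hv' n
    change ζ₀ n + v n - ((T K n).f b).hom (ζ₀ (n + 1) + v (n + 1)) = z n
    rw [map_add]
    rw [sub_eq_iff_eq_add] at this ⊢
    rw [this]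
    abel

/-- compatible families of boundaries lift to compatible families (`lim K^b → lim B^m` is onto). -/
lemma lift_compat (a b m : ℤ) (hab : a + 1 = b) (hbm : b + 1 = m)
    (ha : LimOneZero (termTower K a)) (hH : LimOneZero (homologyTower K b))
    (y : ∀ n : ℕ, (K.obj (op n)).X m)
    (hyc : ∀ n, ((T K n).f m).hom (y (n + 1)) = y n)
    (hy : ∀ n, ∃ w : (K.obj (op n)).X b, ((K.obj (op n)).d b m).hom w = y n) :
    ∃ w : ∀ n : ℕ, (K.obj (op n)).X b,
      (∀ n, ((T K n).f b).hom (w (n + 1)) = w n) ∧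
      ∀ n, ((K.obj (op n)).d b m).hom (w n) = y n := by
  choose w hw using hy
  have hz : ∀ n, ((K.obj (op n)).d b m).hom (w n - ((T K n).f b).hom (w (n + 1))) = 0 := by
    intro n
    rw [map_sub, comm_apply, hw, hw, hyc, sub_self]
  obtain ⟨ζ, hζ, hζ'⟩ := limOne_cycles K a b m hab hbm ha hH _ hz
  refine ⟨fun n => w n - ζ n, fun n => ?_, fun n => ?_⟩
  · rw [map_sub]
    exact ab_aux _ _ _ _ (hζ' n)
  · rw [map_sub, hw, hζ, sub_zero]

/-- **Cohomology of the limit of a tower of complexes**: if `lim¹ K^{m-2} = lim¹ K^{m-1} = 0`,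
`lim¹ H^{m-1}(K) = 0` and `H^m(K_n) ≃ H^m(K_{n₀})` for `n ≥ n₀`, then
`H^m(lim K) ⟶ H^m(K_{n₀})` is bijective. -/
theorem bijective_homologyMap_π (a b m : ℤ) (hab : a + 1 = b) (hbm : b + 1 = m) (n₀ : ℕ)
    (ha : LimOneZero (termTower K a)) (hb : LimOneZero (termTower K b))
    (hH : LimOneZero (homologyTower K b))
    (hc : ∀ (n : ℕ) (h : n₀ ≤ n),
      Function.Bijective (homologyMap (K.map (homOfLE h).op) m).hom) :
    Function.Bijective (homologyMap (limit.π K (op n₀)) m).hom := by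
  refine ⟨(injective_iff_map_eq_zero _).2 fun x hx => ?_, fun h => ?_⟩
  · obtain ⟨z, hz, rfl⟩ := exists_cls (limit K) m (m + 1) rfl x
    rw [homologyMap_cls] at hx
    have hall : ∀ n : ℕ, ∃ w : (K.obj (op n)).X b,
        ((K.obj (op n)).d b m).hom w = (πX K (op n) m).hom z := by
      intro n
      have hcocN : ∀ N : ℕ, ((K.obj (op N)).d m (m + 1)).hom ((πX K (op N) m).hom z) = 0 := by
        intro N
        rw [← πX_d, hz, map_zero]
      have hN : cls (K.obj (op (max n n₀))) m (m + 1) rfl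
          ((πX K (op (max n n₀)) m).hom z) (hcocN _) = 0 := by
        apply (hc _ (le_max_right n n₀)).1
        rw [map_zero, homologyMap_cls, ← hx]
        exact cls_congr _ m (m + 1) rfl _ _ (map_πX K _ m z) _
      have hn : cls (K.obj (op n)) m (m + 1) rfl ((πX K (op n) m).hom z) (hcocN _) = 0 := by
        have := congrArg (homologyMap (K.map (homOfLE (le_max_left n n₀)).op) m).hom hN
        rw [map_zero, homologyMap_cls] at this
        rw [← this]
        exact cls_congr _ m (m + 1) rfl _ _ (map_πX K _ m z).symm _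
      exact (cls_eq_zero_iff _ b m (m + 1) hbm rfl _ _).1 hn
    obtain ⟨w, hwc, hw⟩ := lift_compat K a b m hab hbm ha hH
      (fun n => (πX K (op n) m).hom z) (fun n => map_πX K _ m z) hall
    rw [cls_eq_zero_iff _ b m (m + 1) hbm rfl]
    refine ⟨mkX K b (sectionOfSucc (termTower K b) w hwc), ?_⟩
    apply ext_X
    intro i
    rw [πX_d, π_mkX]
    exact hw i.unop
  · have hg : ∀ (N : ℕ) (hN : n₀ ≤ N), ∃ g : (K.obj (op N)).homology m,
        (homologyMap (K.map (homOfLE hN).op) m).hom g = h := fun N hN => (hc N hN).2 h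
    choose g hg using hg
    have hgc : ∀ (N N' : ℕ) (hN : n₀ ≤ N) (hNN' : N ≤ N'),
        (homologyMap (K.map (homOfLE hNN').op) m).hom (g N' (hN.trans hNN')) = g N hN := by
      intro N N' hN hNN'
      apply (hc N hN).1
      rw [hg]
      exact (tr_tr (homologyTower K m) hN hNN' (g N' _)).trans (hg N' _)
    let hn : ∀ n : ℕ, (K.obj (op n)).homology m := fun n =>
      (homologyMap (K.map (homOfLE (le_max_left n n₀)).op) m).hom
        (g (max n n₀) (le_max_right n n₀))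
    have hnc : ∀ n, (homologyMap (T K n) m).hom (hn (n + 1)) = hn n := by
      intro n
      have hNN' : max n n₀ ≤ max (n + 1) n₀ := max_le_max (Nat.le_succ n) le_rfl
      change (tr (homologyTower K m) (Nat.le_succ n)).hom
        ((tr (homologyTower K m) (le_max_left (n + 1) n₀)).hom (g _ _)) =
        (tr (homologyTower K m) (le_max_left n n₀)).hom (g _ _)
      rw [tr_tr]
      have h1 := hgc (max n n₀) (max (n + 1) n₀) (le_max_right _ _) hNN'
      rw [← h1]
      exact (tr_tr (homologyTower K m) (le_max_left n n₀) hNN' (g _ _)).symm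
    have hrep : ∀ n, ∃ (z : (K.obj (op n)).X m)
        (hz : ((K.obj (op n)).d m (m + 1)).hom z = 0),
        cls (K.obj (op n)) m (m + 1) rfl z hz = hn n :=
      fun n => exists_cls _ m _ rfl (hn n)
    choose z hz hzc using hrep
    have hTz : ∀ n, ((K.obj (op n)).d m (m + 1)).hom (((T K n).f m).hom (z (n + 1))) = 0 := by
      intro n
      rw [comm_apply, hz, map_zero]
    have hy : ∀ n, ∃ w : (K.obj (op n)).X b, ((K.obj (op n)).d b m).hom w =
        z n - ((T K n).f m).hom (z (n + 1)) := by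
      intro n
      have hcoc : ((K.obj (op n)).d m (m + 1)).hom
          (z n - ((T K n).f m).hom (z (n + 1))) = 0 := by
        rw [map_sub, hz, hTz, sub_zero]
      rw [← cls_eq_zero_iff _ b m (m + 1) hbm rfl _ hcoc,
        cls_sub _ m _ rfl _ _ (hz n) (hTz n)]
      have h2 : cls (K.obj (op n)) m (m + 1) rfl (((T K n).f m).hom (z (n + 1))) (hTz n) =
          (homologyMap (T K n) m).hom (hn (n + 1)) := by
        rw [← hzc (n + 1), homologyMap_cls]
      rw [h2, hzc, hnc, sub_self]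
    obtain ⟨v, hv, hv'⟩ := limOne_bdry K b m hb _ hy
    have hcompat : ∀ n, ((T K n).f m).hom (z (n + 1) - v (n + 1)) = z n - v n := by
      intro n
      rw [map_sub]
      exact ab_aux (v n) _ (z n) _ (hv' n)
    have hdv : ∀ n, ((K.obj (op n)).d m (m + 1)).hom (v n) = 0 := by
      intro n
      obtain ⟨u, hu⟩ := hv n
      rw [← hu, d_d_apply]
    let zL : (limit K).X m :=
      mkX K m (sectionOfSucc (termTower K m) (fun n => z n - v n) hcompat)
    have hπ : ∀ i : ℕᵒᵖ, (πX K i m).hom zL = z i.unop - v i.unop := fun i => π_mkX K m _ i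
    have hzL : ((limit K).d m (m + 1)).hom zL = 0 := by
      apply ext_X
      intro i
      rw [πX_d, hπ, map_sub, hz, hdv, sub_zero, map_zero]
    refine ⟨cls (limit K) m (m + 1) rfl zL hzL, ?_⟩
    rw [homologyMap_cls, cls_congr _ m _ rfl _ _ (hπ (op n₀)),
      cls_sub _ m _ rfl _ _ (hz n₀) (hdv n₀), hzc]
    have h3 : cls (K.obj (op n₀)) m (m + 1) rfl (v n₀) (hdv n₀) = 0 :=
      (cls_eq_zero_iff _ b m (m + 1) hbm rfl _ _).2 (hv n₀)
    rw [h3, sub_zero]
    exact hg _ _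

end Groth.Agent.LimCx31
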