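import Groth.Agent.Lib.LimCx31
import Groth.Agent.Lib.HomologySheafLocal31
import Mathlib.CategoryTheory.Functor.OfSequence

/-!
# Cohomology sheaves of a termwise limit of a tower of complexes of abelian sheaves (helper31)
-/

set_option autoImplicit false

open CategoryTheory CategoryTheory.Limits Opposite HomologicalComplex

universe u

namespace Groth.Agent.LimCxSheaf31

open Groth.Agent.AbCx31 Groth.Agent.MLTower31 Groth.Agent.LimCx31 Groth.Agent.HomologySheafLocal31

variable {C : Type u} [SmallCategory C] (J : GrothendieckTopology C)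

/-- sections over `U` of complexes of abelian sheaves -/
noncomputable abbrev sect (U : C) :
    CochainComplex (Sheaf J AddCommGrpCat.{u}) ℤ ⥤ CochainComplex AddCommGrpCat.{u} ℤ :=
  (P J ⋙ ev U).mapHomologicalComplex (ComplexShape.up ℤ)

noncomputable instance (U : C) : PreservesLimitsOfShape ℕᵒᵖ (sect J U) :=
  HomologicalComplex.preservesLimitsOfShape_of_eval _ (fun i =>
    inferInstanceAs (PreservesLimitsOfShape ℕᵒᵖ
      (HomologicalComplex.eval _ _ i ⋙ (P J ⋙ ev U))))

variable {J}

theorem isIso_homologyMap_limit_π (G : ℕᵒᵖ ⥤ CochainComplex (Sheaf J AddCommGrpCat.{u}) ℤ)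
    (m : ℤ) (B : Set C) (hB : Covers J B) (n₀ : ℕ)
    (ha : ∀ U ∈ B, ∀ j : ℤ, (j = m - 2 ∨ j = m - 1) →
      LimOneZero (termTower (G ⋙ sect J U) j))
    (hb : ∀ U ∈ B, LimOneZero (homologyTower (G ⋙ sect J U) (m - 1)))
    (hc : ∀ U ∈ B, ∀ (n : ℕ) (h : n₀ ≤ n),
      IsIso (homologyMap ((sect J U).map (G.map (homOfLE h).op)) m)) :
    IsIso (homologyMap (limit.π G (op n₀)) m) := by
  apply isIso_homologyMap_of_local hB
  intro U hU
  have h1 : (sect J U).map (limit.π G (op n₀)) =
      (preservesLimitIso (sect J U) G).hom ≫ limit.π (G ⋙ sect J U) (op n₀) :=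
    (preservesLimitIso_hom_π (sect J U) G (op n₀)).symm
  have h2 : Function.Bijective (homologyMap (limit.π (G ⋙ sect J U) (op n₀)) m).hom :=
    bijective_homologyMap_π (G ⋙ sect J U) (m - 2) (m - 1) m (by omega) (by omega) n₀
      (ha U hU _ (Or.inl rfl)) (ha U hU _ (Or.inr rfl)) (hb U hU)
      (fun n h => (ConcreteCategory.isIso_iff_bijective _).1 (hc U hU n h))
  have h3 : IsIso (homologyMap (limit.π (G ⋙ sect J U) (op n₀)) m) :=
    (ConcreteCategory.isIso_iff_bijective _).2 h2
  have h4 : IsIso (homologyMap (preservesLimitIso (sect J U) G).hom m) :=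
    inferInstanceAs (IsIso ((homologyFunctor _ _ m).map (preservesLimitIso (sect J U) G).hom))
  change IsIso (homologyMap ((sect J U).map (limit.π G (op n₀))) m)
  rw [h1, homologyMap_comp]
  exact IsIso.comp_isIso' h4 h3

end Groth.Agent.LimCxSheaf31
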