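import Groth.Prelude.Def_CohCx
import Groth.Agent.Lib.LimCxSheaf31

/-!
# Cohomology sheaves of a termwise limit: the statement in the language of `CohCx` (helper31)
-/

set_option autoImplicit false

open CategoryTheory CategoryTheory.Limits Opposite

universe u v' u'

namespace Groth.Agent.LimCxSheafB31

lemma ofOpSequence_map_succ {T : Type u'} [Category.{v'} T] (K : ℕ → T)
    (t : ∀ n, K (n + 1) ⟶ K n) (n : ℕ) :
    (Functor.ofOpSequence t).map (homOfLE (Nat.le_succ n)).op = t n :=
  Functor.ofOpSequence_map_homOfLE_succ t n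

lemma transition_eq {T : Type u'} [Category.{v'} T] (K : ℕ → T) (t : ∀ n, K (n + 1) ⟶ K n)
    (n k : ℕ) :
    CohCx.transition K t n k =
      (Functor.ofOpSequence t).map (homOfLE (Nat.le_add_right n k)).op := by
  induction k with
  | zero =>
    have h : (homOfLE (Nat.le_add_right n 0)).op = 𝟙 (Opposite.op n) := Subsingleton.elim _ _
    change 𝟙 (K n) = _
    exact ((congrArg (fun f => (Functor.ofOpSequence t).map f) h).trans
      ((Functor.ofOpSequence t).map_id _)).symm
  | succ k ih =>
    change t (n + k) ≫ CohCx.transition K t n k = _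
    have h1 : t (n + k) ≫ CohCx.transition K t n k =
        (Functor.ofOpSequence t).map (homOfLE (Nat.le_succ (n + k))).op ≫
          (Functor.ofOpSequence t).map (homOfLE (Nat.le_add_right n k)).op :=
      congrArg₂ (· ≫ ·) (ofOpSequence_map_succ K t (n + k)).symm ih
    refine h1.trans (((Functor.ofOpSequence t).map_comp _ _).symm.trans ?_)
    exact congrArg (fun f => (Functor.ofOpSequence t).map f) (Subsingleton.elim _ _)

open Groth.Agent.LimCxSheaf31 Groth.Agent.HomologySheafLocal31 in
theorem main {C : Type u} [SmallCategory C] (J : GrothendieckTopology C)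
    (F : ℕ → CochainComplex (Sheaf J AddCommGrpCat.{u}) ℤ) (t : ∀ n, F (n + 1) ⟶ F n) (m : ℤ)
    (B : Set C)
    (hB : ∀ U : C, ∃ (ι : Type u) (Y : ι → C) (f : ∀ i, Y i ⟶ U),
      Sieve.ofArrows Y f ∈ J U ∧ ∀ i, Y i ∈ B)
    (n₀ : ℕ)
    (ha : ∀ U ∈ B, ∀ j : ℤ, (j = m - 2 ∨ j = m - 1) →
      CohCx.LimOneIsZero (fun n => ((F n).X j).obj.obj (op U))
        (fun n => (((t n).f j).hom.app (op U)).hom))
    (hb : ∀ U ∈ B, CohCx.LimOneIsZero
      (fun n => ((CohCx.sectCx J U).obj (F n)).homology (m - 1))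
      (fun n => (HomologicalComplex.homologyMap ((CohCx.sectCx J U).map (t n)) (m - 1)).hom))
    (hc : ∀ U ∈ B, ∀ k : ℕ, IsIso (HomologicalComplex.homologyMap
      ((CohCx.sectCx J U).map (CohCx.transition F t n₀ k)) m)) :
    IsIso (HomologicalComplex.homologyMap (limit.π (CohCx.opSequence F t) (op n₀)) m) := by
  apply isIso_homologyMap_limit_π (CohCx.opSequence F t) m B hB n₀
  · intro U hU j hj y
    obtain ⟨x, hx⟩ : ∃ x : ∀ n : ℕ, ((F n).X j).obj.obj (op U),
        (fun n => x n - (((t n).f j).hom.app (op U)).hom (x (n + 1))) = y := ha U hU j hj y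
    refine ⟨x, fun n => ?_⟩
    have h1 : x n - (((t n).f j).hom.app (op U)).hom (x (n + 1)) = y n := congrFun hx n
    have h2 : Groth.Agent.MLTower31.tr
        (Groth.Agent.AbCx31.termTower (CohCx.opSequence F t ⋙ sect J U) j) (Nat.le_succ n) =
        ((t n).f j).hom.app (Opposite.op U) :=
      congrArg (fun φ : F (n + 1) ⟶ F n => (φ.f j).hom.app (Opposite.op U))
        (ofOpSequence_map_succ F t n)
    exact (congrArg (fun φ : ((F (n + 1)).X j).obj.obj (op U) ⟶ ((F n).X j).obj.obj (op U) =>
      x n - φ.hom (x (n + 1))) h2).trans h1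
  · intro U hU y
    obtain ⟨x, hx⟩ : ∃ x : ∀ n : ℕ, ((CohCx.sectCx J U).obj (F n)).homology (m - 1),
        (fun n => x n - (HomologicalComplex.homologyMap ((CohCx.sectCx J U).map (t n))
          (m - 1)).hom (x (n + 1))) = y := hb U hU y
    refine ⟨x, fun n => ?_⟩
    have h1 : x n - (HomologicalComplex.homologyMap ((CohCx.sectCx J U).map (t n))
          (m - 1)).hom (x (n + 1)) = y n := congrFun hx n
    have h2 : Groth.Agent.MLTower31.tr
        (Groth.Agent.AbCx31.homologyTower (CohCx.opSequence F t ⋙ sect J U) (m - 1))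
          (Nat.le_succ n) =
        HomologicalComplex.homologyMap ((CohCx.sectCx J U).map (t n)) (m - 1) :=
      congrArg (fun φ : F (n + 1) ⟶ F n =>
        HomologicalComplex.homologyMap ((CohCx.sectCx J U).map φ) (m - 1))
        (ofOpSequence_map_succ F t n)
    exact (congrArg (fun φ : ((CohCx.sectCx J U).obj (F (n + 1))).homology (m - 1) ⟶
        ((CohCx.sectCx J U).obj (F n)).homology (m - 1) =>
      x n - φ.hom (x (n + 1))) h2).trans h1
  · intro U hU n h
    obtain ⟨k, rfl⟩ := Nat.exists_eq_add_of_le h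
    have h1 := hc U hU k
    have h2 := congrArg (fun φ => HomologicalComplex.homologyMap ((CohCx.sectCx J U).map φ) m)
      (transition_eq F t n₀ k)
    exact h2 ▸ h1

end Groth.Agent.LimCxSheafB31
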