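import Groth.Agent.Lib.LimDescentLoc
import Groth.Agent.Lib.LimDescentIso

/-!
# "If and only if eventually" forms of the descent statements
-/

set_option autoImplicit false
universe u

open CategoryTheory Limits AlgebraicGeometry

namespace Groth.Agent.Lib.LimDescent

open Groth.Agent.Lib.LimPullback

variable {I : Type u} [Category.{u} I] (D : I ⥤ Scheme.{u}) (c : Cone D)
variable {i₀ : I}

/-- Form used for sub-schemes of a stage. -/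
theorem snd_iff_exists (P : MorphismProperty Scheme.{u}) [P.RespectsIso]
    [P.IsStableUnderBaseChange] {Z₀ : Scheme.{u}} (ι₀ : Z₀ ⟶ D.obj i₀)
    (H : P (bcMap ι₀ (𝟙 _) (c.π.app i₀)) → ∃ j : Over i₀, P (bcMap ι₀ (𝟙 _) (D.map j.hom))) :
    P (pullback.snd ι₀ (c.π.app i₀)) ↔ ∃ (j : I) (φ : j ⟶ i₀), P (pullback.snd ι₀ (D.map φ)) := by
  constructor
  · intro h
    obtain ⟨j, hj⟩ := H (((isBC_snd ι₀ (c.π.app i₀)).iff P).mp h)
    exact ⟨j.left, j.hom, ((isBC_snd ι₀ (D.map j.hom)).iff P).mpr hj⟩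
  · rintro ⟨j, φ, h⟩
    exact MorphismProperty.of_isPullback (isPullback_pbProj D c i₀ ι₀ (Over.mk φ)) h

/-- Form used for general base changes. -/
theorem iff_exists_stage (P : MorphismProperty Scheme.{u}) [P.RespectsIso]
    [P.IsStableUnderBaseChange] {X₀ Y₀ : Scheme.{u}} (f₀ : X₀ ⟶ Y₀) (g₀ : Y₀ ⟶ D.obj i₀)
    {X Y : Scheme.{u}} (f : X ⟶ Y) (g : Y ⟶ c.pt) (qY : Y ⟶ Y₀) (qX : X ⟶ X₀)
    (hY : IsPullback qY g g₀ (c.π.app i₀)) (hX : IsPullback qX f f₀ qY)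
    (H : P (bcMap f₀ g₀ (c.π.app i₀)) → ∃ j : Over i₀, P (bcMap f₀ g₀ (D.map j.hom))) :
    P f ↔ ∃ (j : I) (φ : j ⟶ i₀) (Xj Yj : Scheme.{u}) (fj : Xj ⟶ Yj) (gj : Yj ⟶ D.obj j)
      (pY : Yj ⟶ Y₀) (pX : Xj ⟶ X₀), IsPullback pY gj g₀ (D.map φ) ∧ IsPullback pX fj f₀ pY ∧
        P fj := by
  constructor
  · intro h
    obtain ⟨j, hj⟩ := H (limMap_of D c P f₀ g₀ f g qY qX hY hX h)
    exact conclude D P f₀ g₀ j hj
  · rintro ⟨j, φ, Xj, Yj, fj, gj, pY, pX, h1, h2, h3⟩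
    have hbc : IsBC f₀ g₀ (D.map φ) fj := ⟨pY, gj, pX, h1, h2⟩
    have hbc' : IsBC f₀ g₀ (c.π.app i₀) f := ⟨qY, g, qX, hY, hX⟩
    have h4 : P (bcMap f₀ g₀ (D.map φ)) := (hbc.iff P).mp h3
    have h5 : P (bcMap f₀ g₀ (c.π.app i₀)) :=
      MorphismProperty.of_isPullback (isPullback_pbProj_bcMap D c f₀ g₀ (Over.mk φ)) h4
    exact (hbc'.iff P).mpr h5

end Groth.Agent.Lib.LimDescent
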