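import Groth.Agent.Lib.LimDescentRebase
import Groth.Agent.Lib.LimDescentSurj

/-!
# Descent of open immersions through cofiltered limits (EGA IV 8.10.5 (iii))
-/

set_option autoImplicit false
universe u

open CategoryTheory Limits AlgebraicGeometry

namespace Groth.Agent.Lib.LimDescent

open Groth.Agent.Lib.LimPullback

variable {I : Type u} [Category.{u} I] (D : I ⥤ Scheme.{u}) (c : Cone D)
variable [IsCofiltered I] (hc : IsLimit c) [∀ {i j} (f : i ⟶ j), IsAffineHom (D.map f)]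

include hc in
/-- At some stage, the image of `bcMap` is a (compact) open subset, provided the image of the limit
map is open. -/
theorem exists_stage_range_eq_opens {i₀ : I} [CompactSpace (D.obj i₀)]
    [QuasiSeparatedSpace (D.obj i₀)]
    {X₀ Y₀ : Scheme.{u}} (f₀ : X₀ ⟶ Y₀) (g₀ : Y₀ ⟶ D.obj i₀)
    [QuasiCompact g₀] [QuasiSeparated g₀] [QuasiCompact (f₀ ≫ g₀)]
    [QuasiCompact f₀] [LocallyOfFinitePresentation f₀]
    (h : IsOpen (Set.range (bcMap f₀ g₀ (c.π.app i₀)).base)) :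
    ∃ (k : Over i₀) (V : (pullback g₀ (D.map k.hom)).Opens),
      IsCompact (V : Set ↥(pullback g₀ (D.map k.hom))) ∧
      Set.range (bcMap f₀ g₀ (D.map k.hom)).base = (V : Set ↥(pullback g₀ (D.map k.hom))) := by
  haveI : CompactSpace Y₀ := QuasiCompact.compactSpace_of_compactSpace g₀
  haveI : QuasiSeparatedSpace Y₀ := quasiSeparatedSpace_of_quasiSeparated g₀
  haveI : CompactSpace X₀ := QuasiCompact.compactSpace_of_compactSpace (f₀ ≫ g₀)
  haveI : CompactSpace ↥(pullback (f₀ ≫ g₀) (c.π.app i₀)) :=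
    Scheme.compactSpace_of_isLimit (pbDiagram D i₀ (f₀ ≫ g₀)) (pbCone D c i₀ (f₀ ≫ g₀))
      (isLimitPbCone hc)
  let U : (pullback g₀ (c.π.app i₀)).Opens := ⟨_, h⟩
  have hU : IsCompact (U : Set ↥(pullback g₀ (c.π.app i₀))) :=
    isCompact_range (bcMap f₀ g₀ (c.π.app i₀)).continuous
  obtain ⟨j, V', hV', hVU'⟩ := exists_preimage_eq (pbDiagram D i₀ g₀) (pbCone D c i₀ g₀)
    (isLimitPbCone hc) U hU
  obtain ⟨V, hV, hVU⟩ : ∃ V : (pullback g₀ (D.map j.hom)).Opens,
      IsCompact (V : Set ↥(pullback g₀ (D.map j.hom))) ∧ (pbProj D c i₀ g₀ j) ⁻¹ᵁ V = U :=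
    ⟨V', hV', hVU'⟩
  clear hVU' hV' V'
  haveI : CompactSpace ↥(pullback g₀ (D.map j.hom)) := compactSpace_pb D i₀ g₀ j
  haveI : QuasiSeparatedSpace ↥(pullback g₀ (D.map j.hom)) := quasiSeparatedSpace_pb D i₀ g₀ j
  haveI : LocallyOfFinitePresentation (bcMap f₀ g₀ (D.map j.hom)) :=
    MorphismProperty.of_isPullback (isPullback_bcMap f₀ g₀ (D.map j.hom)) inferInstance
  haveI : QuasiCompact (bcMap f₀ g₀ (D.map j.hom)) :=
    MorphismProperty.of_isPullback (isPullback_bcMap f₀ g₀ (D.map j.hom)) inferInstance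
  have hR : Topology.IsConstructible (Set.range (bcMap f₀ g₀ (D.map j.hom)).base) := by
    have := (bcMap f₀ g₀ (D.map j.hom)).isConstructible_image
      (s := Set.univ) Topology.IsConstructible.univ
    rwa [Set.image_univ] at this
  have key : ∀ {P Q : Scheme.{u}} (p : P ⟶ pullback (f₀ ≫ g₀) (D.map j.hom))
      (h' : P ⟶ Q) (q : Q ⟶ pullback g₀ (D.map j.hom)),
      IsPullback p h' (bcMap f₀ g₀ (D.map j.hom)) q →
      Set.range h'.base = q.base ⁻¹' Set.range (bcMap f₀ g₀ (D.map j.hom)).base := by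
    intro P Q p h' q sq
    have := Scheme.image_preimage_eq_of_isPullback sq Set.univ
    rwa [Set.preimage_univ, Set.image_univ, Set.image_univ] at this
  obtain ⟨k, ψ, hk⟩ := Groth.Agent.Lib.LimConstructible.exists_map_preimage_eq_of_isConstructible
    (pbDiagram D i₀ g₀) (pbCone D c i₀ g₀) (isLimitPbCone hc) (k := j)
    (Set.range (bcMap f₀ g₀ (D.map j.hom)).base) hR V hV
    ((key _ _ _ (isPullback_pbProj_bcMap D c f₀ g₀ j)).symm.trans
      (congrArg (fun W : (pullback g₀ (c.π.app i₀)).Opens =>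
        (W : Set ↥(pullback g₀ (c.π.app i₀)))) hVU).symm)
  have hk' : Set.range (bcMap f₀ g₀ (D.map k.hom)).base =
      (pbMap D i₀ g₀ ψ).base ⁻¹' (V : Set ↥(pullback g₀ (D.map j.hom))) :=
    (key _ _ _ (isPullback_pbMap_bcMap D f₀ g₀ ψ)).trans hk
  refine ⟨k, (pbMap D i₀ g₀ ψ) ⁻¹ᵁ V, ?_, hk'⟩
  exact QuasiCompact.isCompact_preimage (f := pbMap D i₀ g₀ ψ) _ V.2 hV

include hc in
theorem exists_isOpenImmersion_stage {i₀ : I} [CompactSpace (D.obj i₀)]
    [QuasiSeparatedSpace (D.obj i₀)]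
    {X₀ Y₀ : Scheme.{u}} (f₀ : X₀ ⟶ Y₀) (g₀ : Y₀ ⟶ D.obj i₀)
    [QuasiCompact g₀] [QuasiSeparated g₀] [LocallyOfFinitePresentation g₀]
    [QuasiCompact (f₀ ≫ g₀)] [QuasiSeparated (f₀ ≫ g₀)] [LocallyOfFinitePresentation (f₀ ≫ g₀)]
    (h : IsOpenImmersion (bcMap f₀ g₀ (c.π.app i₀))) :
    ∃ j : Over i₀, IsOpenImmersion (bcMap f₀ g₀ (D.map j.hom)) := by
  haveI : QuasiCompact f₀ := QuasiCompact.of_comp f₀ g₀
  haveI : QuasiSeparated f₀ := QuasiSeparated.of_comp f₀ g₀
  haveI : LocallyOfFinitePresentation f₀ := Groth.Agent.S12442.result f₀ g₀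
  obtain ⟨k, V, hV, hrange⟩ := exists_stage_range_eq_opens D c hc f₀ g₀
    (bcMap f₀ g₀ (c.π.app i₀)).isOpenEmbedding.isOpen_range
  -- factor `bcMap_k` through `V`
  let r : pullback (f₀ ≫ g₀) (D.map k.hom) ⟶ V.toScheme :=
    IsOpenImmersion.lift V.ι (bcMap f₀ g₀ (D.map k.hom)) (by
      rw [Scheme.Opens.range_ι]; exact hrange.le)
  have hr : r ≫ V.ι = bcMap f₀ g₀ (D.map k.hom) := IsOpenImmersion.lift_fac _ _ _
  have hrsurj : Surjective r := by
    refine ⟨fun v => ?_⟩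
    have hv : V.ι.base v ∈ Set.range (bcMap f₀ g₀ (D.map k.hom)).base := by
      rw [hrange]; exact v.2
    obtain ⟨x, hx⟩ := hv
    refine ⟨x, V.ι.isOpenEmbedding.injective ?_⟩
    rw [← Scheme.Hom.comp_apply, hr, hx]
  -- the new base
  haveI : CompactSpace (D.obj k.left) := QuasiCompact.compactSpace_of_compactSpace (D.map k.hom)
  haveI : QuasiSeparatedSpace (D.obj k.left) := quasiSeparatedSpace_of_quasiSeparated (D.map k.hom)
  haveI : CompactSpace ↥(pullback g₀ (D.map k.hom)) :=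
    QuasiCompact.compactSpace_of_compactSpace (pullback.snd g₀ (D.map k.hom))
  haveI : QuasiSeparatedSpace ↥(pullback g₀ (D.map k.hom)) :=
    quasiSeparatedSpace_of_quasiSeparated (pullback.snd g₀ (D.map k.hom))
  haveI : CompactSpace ↥V.toScheme := isCompact_iff_compactSpace.mp hV
  haveI : QuasiCompact V.ι := inferInstance
  let g' : V.toScheme ⟶ D.obj k.left := V.ι ≫ pullback.snd g₀ (D.map k.hom)
  have hrg' : r ≫ g' = pullback.snd (f₀ ≫ g₀) (D.map k.hom) := by
    simp only [g']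
    rw [← Category.assoc, hr, bcMap_snd]
  haveI : QuasiCompact (r ≫ g') := by rw [hrg']; infer_instance
  haveI : QuasiSeparated (r ≫ g') := by rw [hrg']; infer_instance
  haveI : LocallyOfFinitePresentation (bcMap f₀ g₀ (D.map k.hom)) :=
    MorphismProperty.of_isPullback (isPullback_bcMap f₀ g₀ (D.map k.hom)) inferInstance
  haveI : LocallyOfFinitePresentation (r ≫ V.ι) := by rw [hr]; infer_instance
  haveI : LocallyOfFinitePresentation r := Groth.Agent.S12442.result r V.ι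
  -- the limit map over the new base is an isomorphism
  have hiso : IsIso (bcMap r g' (c.π.app k.left)) := by
    obtain ⟨ι₂, pW, sq, Hbc⟩ := isBC_of_factor r V.ι (pullback.snd g₀ (D.map k.hom))
      (isBC_bcMap r g' (c.π.app k.left))
    rw [hr] at Hbc
    have Hbc' : IsBC f₀ g₀ (c.π.app k.left ≫ D.map k.hom) (bcMap r g' (c.π.app k.left) ≫ ι₂) :=
      isBC_trans (IsPullback.of_hasPullback g₀ (D.map k.hom))
        (isPullback_bcMap f₀ g₀ (D.map k.hom)) Hbc
    rw [c.w] at Hbc'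
    haveI : IsOpenImmersion (bcMap r g' (c.π.app k.left) ≫ ι₂) :=
      (Hbc'.iff @IsOpenImmersion).mpr h
    haveI : IsOpenImmersion ι₂ := MorphismProperty.of_isPullback sq inferInstance
    haveI : IsOpenImmersion (bcMap r g' (c.π.app k.left)) :=
      IsOpenImmersion.of_comp (bcMap r g' (c.π.app k.left)) ι₂
    haveI : Surjective (bcMap r g' (c.π.app k.left)) :=
      MorphismProperty.of_isPullback (isPullback_bcMap r g' (c.π.app k.left)) hrsurj
    exact isIso_of_isOpenImmersion_of_opensRange_eq_top _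
      (by
        ext x
        simp only [Scheme.Hom.coe_opensRange, TopologicalSpace.Opens.coe_top, Set.mem_univ,
          iff_true]
        exact (bcMap r g' (c.π.app k.left)).surjective x)
  obtain ⟨l', hl'⟩ := exists_isIso_stage D c hc (i₀ := k.left) r g' hiso
  -- assemble
  obtain ⟨ι₂, pW, sq, Hbc⟩ := isBC_of_factor r V.ι (pullback.snd g₀ (D.map k.hom))
    (isBC_bcMap r g' (D.map l'.hom))
  rw [hr] at Hbc
  have Hbc' : IsBC f₀ g₀ (D.map l'.hom ≫ D.map k.hom) (bcMap r g' (D.map l'.hom) ≫ ι₂) :=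
    isBC_trans (IsPullback.of_hasPullback g₀ (D.map k.hom))
      (isPullback_bcMap f₀ g₀ (D.map k.hom)) Hbc
  haveI : IsOpenImmersion ι₂ := MorphismProperty.of_isPullback sq inferInstance
  haveI : IsOpenImmersion (bcMap r g' (D.map l'.hom) ≫ ι₂) := inferInstance
  refine ⟨Over.mk (l'.hom ≫ k.hom), ?_⟩
  change IsOpenImmersion (bcMap f₀ g₀ (D.map (l'.hom ≫ k.hom)))
  rw [D.map_comp]
  exact (Hbc'.iff @IsOpenImmersion).mp inferInstance

end Groth.Agent.Lib.LimDescent
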