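import Groth.Agent.Lib.LimDescentGen
import Groth.Agent.Lib.LimDescentOpenImm

/-!
# Descent through limits with hypotheses on `Y₀` only

Versions of the descent lemmas in which the base stage `D.obj i₀` and `g₀ : Y₀ ⟶ D.obj i₀` are
arbitrary and `Y₀` is quasi-compact and quasi-separated.
-/

set_option autoImplicit false
universe u

open CategoryTheory Limits AlgebraicGeometry

namespace Groth.Agent.Lib.LimDescent

open Groth.Agent.Lib.LimPullback

variable {I : Type u} [Category.{u} I] (D : I ⥤ Scheme.{u}) (c : Cone D)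
variable [IsCofiltered I] (hc : IsLimit c) [∀ {i j} (f : i ⟶ j), IsAffineHom (D.map f)]
variable {i₀ : I} {X₀ Y₀ : Scheme.{u}} (f₀ : X₀ ⟶ Y₀) (g₀ : Y₀ ⟶ D.obj i₀)

include hc

theorem exists_isAffineHom_stage' [CompactSpace Y₀] [QuasiSeparatedSpace Y₀] [QuasiCompact f₀]
    [QuasiSeparated f₀] (h : IsAffineHom (bcMap f₀ g₀ (c.π.app i₀))) :
    ∃ j : Over i₀, IsAffineHom (bcMap f₀ g₀ (D.map j.hom)) :=
  exists_stage_of_newBase D c f₀ g₀ @IsAffineHom
    (fun h' => exists_isAffineHom_stage (pbDiagram D i₀ g₀) (pbCone D c i₀ g₀) (isLimitPbCone hc)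
      f₀ (newBase D g₀) h') h

theorem exists_isIso_stage' [CompactSpace Y₀] [QuasiSeparatedSpace Y₀] [QuasiCompact f₀]
    [QuasiSeparated f₀] [LocallyOfFinitePresentation f₀]
    (h : IsIso (bcMap f₀ g₀ (c.π.app i₀))) :
    ∃ j : Over i₀, IsIso (bcMap f₀ g₀ (D.map j.hom)) :=
  exists_stage_of_newBase D c f₀ g₀ (MorphismProperty.isomorphisms _)
    (fun h' => exists_isIso_stage (pbDiagram D i₀ g₀) (pbCone D c i₀ g₀) (isLimitPbCone hc)
      f₀ (newBase D g₀) h') h

theorem exists_mono_stage' [CompactSpace Y₀] [QuasiSeparatedSpace Y₀] [QuasiCompact f₀]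
    [QuasiSeparated f₀] [LocallyOfFinitePresentation f₀]
    (h : Mono (bcMap f₀ g₀ (c.π.app i₀))) :
    ∃ j : Over i₀, Mono (bcMap f₀ g₀ (D.map j.hom)) :=
  exists_stage_of_newBase D c f₀ g₀ (MorphismProperty.monomorphisms _)
    (fun h' => exists_mono_stage (pbDiagram D i₀ g₀) (pbCone D c i₀ g₀) (isLimitPbCone hc)
      f₀ (newBase D g₀) h') h

theorem exists_surjective_stage' [CompactSpace Y₀] [QuasiSeparatedSpace Y₀] [QuasiCompact f₀]
    [LocallyOfFinitePresentation f₀]
    (h : Surjective (bcMap f₀ g₀ (c.π.app i₀))) :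
    ∃ j : Over i₀, Surjective (bcMap f₀ g₀ (D.map j.hom)) :=
  exists_stage_of_newBase D c f₀ g₀ @Surjective
    (fun h' => exists_surjective_stage (pbDiagram D i₀ g₀) (pbCone D c i₀ g₀) (isLimitPbCone hc)
      f₀ (newBase D g₀) h') h

theorem exists_universallyInjective_stage' [CompactSpace Y₀] [QuasiSeparatedSpace Y₀]
    [QuasiCompact f₀] [QuasiSeparated f₀] [LocallyOfFinitePresentation f₀]
    (h : UniversallyInjective (bcMap f₀ g₀ (c.π.app i₀))) :
    ∃ j : Over i₀, UniversallyInjective (bcMap f₀ g₀ (D.map j.hom)) :=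
  exists_stage_of_newBase D c f₀ g₀ @UniversallyInjective
    (fun h' => exists_universallyInjective_stage (pbDiagram D i₀ g₀) (pbCone D c i₀ g₀)
      (isLimitPbCone hc) f₀ (newBase D g₀) h') h

theorem exists_isOpenImmersion_stage' [CompactSpace Y₀] [QuasiSeparatedSpace Y₀]
    [QuasiCompact f₀] [QuasiSeparated f₀] [LocallyOfFinitePresentation f₀]
    (h : IsOpenImmersion (bcMap f₀ g₀ (c.π.app i₀))) :
    ∃ j : Over i₀, IsOpenImmersion (bcMap f₀ g₀ (D.map j.hom)) :=
  exists_stage_of_newBase D c f₀ g₀ @IsOpenImmersion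
    (fun h' => exists_isOpenImmersion_stage (pbDiagram D i₀ g₀) (pbCone D c i₀ g₀)
      (isLimitPbCone hc) f₀ (newBase D g₀) h') h

end Groth.Agent.Lib.LimDescent
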