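import Groth.Agent.Lib.LimDescentGen
import Groth.Agent.Lib.LimDescentIff
import Groth.Agent.Lib.LimDescentUnram

/-!
# Localisation on the source for descent through limits

For properties local at the source, the descent lemmas hold when only `X₀` is quasi-compact
(no hypothesis on `Y₀` or the base).
-/

set_option autoImplicit false
universe u

open CategoryTheory Limits AlgebraicGeometry

namespace Groth.Agent.Lib.LimDescent

open Groth.Agent.Lib.LimPullback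

section SrcTgt

variable {X₀ Y₀ B U V : Scheme.{u}} (f₀ : X₀ ⟶ Y₀) (g₀ : Y₀ ⟶ B) (u : U ⟶ X₀) (v : V ⟶ Y₀)
  (fa : U ⟶ V) (w : fa ≫ v = u ≫ f₀) {B' : Scheme.{u}} (b : B' ⟶ B)

/-- The map `U ×_B B' ⟶ X₀ ×_B B'`. -/
noncomputable def srcMap : pullback (fa ≫ v ≫ g₀) b ⟶ pullback (f₀ ≫ g₀) b :=
  pullback.map _ _ _ _ u (𝟙 _) (𝟙 _) (by rw [Category.comp_id, reassoc_of% w])
    (by rw [Category.comp_id, Category.id_comp])

/-- The map `V ×_B B' ⟶ Y₀ ×_B B'`. -/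
noncomputable def tgtMap : pullback (v ≫ g₀) b ⟶ pullback g₀ b :=
  pullback.map _ _ _ _ v (𝟙 _) (𝟙 _) (by rw [Category.comp_id])
    (by rw [Category.comp_id, Category.id_comp])

@[reassoc (attr := simp)]
theorem srcMap_fst : srcMap f₀ g₀ u v fa w b ≫ pullback.fst (f₀ ≫ g₀) b =
    pullback.fst (fa ≫ v ≫ g₀) b ≫ u := pullback.lift_fst _ _ _

@[reassoc (attr := simp)]
theorem srcMap_snd : srcMap f₀ g₀ u v fa w b ≫ pullback.snd (f₀ ≫ g₀) b =
    pullback.snd (fa ≫ v ≫ g₀) b := by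
  rw [srcMap, pullback.map]
  rw [pullback.lift_snd, Category.comp_id]

@[reassoc (attr := simp)]
theorem tgtMap_fst : tgtMap g₀ v b ≫ pullback.fst g₀ b = pullback.fst (v ≫ g₀) b ≫ v :=
  pullback.lift_fst _ _ _

@[reassoc (attr := simp)]
theorem tgtMap_snd : tgtMap g₀ v b ≫ pullback.snd g₀ b = pullback.snd (v ≫ g₀) b := by
  rw [tgtMap, pullback.map]
  rw [pullback.lift_snd, Category.comp_id]

theorem bcMap_tgtMap : bcMap fa (v ≫ g₀) b ≫ tgtMap g₀ v b =
    srcMap f₀ g₀ u v fa w b ≫ bcMap f₀ g₀ b := by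
  apply pullback.hom_ext
  · rw [Category.assoc, tgtMap_fst, bcMap_fst_assoc, Category.assoc, bcMap_fst, srcMap_fst_assoc,
      w]
  · rw [Category.assoc, tgtMap_snd, bcMap_snd, Category.assoc, bcMap_snd, srcMap_snd]

theorem isPullback_srcMap : IsPullback (srcMap f₀ g₀ u v fa w b) (pullback.fst (fa ≫ v ≫ g₀) b)
    (pullback.fst (f₀ ≫ g₀) b) u := by
  refine IsPullback.of_right ?_ (srcMap_fst f₀ g₀ u v fa w b)
    (IsPullback.of_hasPullback (f₀ ≫ g₀) b).flip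
  rw [srcMap_snd, ← reassoc_of% w]
  exact (IsPullback.of_hasPullback (fa ≫ v ≫ g₀) b).flip

theorem isPullback_tgtMap : IsPullback (tgtMap g₀ v b) (pullback.fst (v ≫ g₀) b)
    (pullback.fst g₀ b) v := by
  refine IsPullback.of_right ?_ (tgtMap_fst g₀ v b) (IsPullback.of_hasPullback g₀ b).flip
  rw [tgtMap_snd]
  exact (IsPullback.of_hasPullback (v ≫ g₀) b).flip

instance [IsOpenImmersion u] : IsOpenImmersion (srcMap f₀ g₀ u v fa w b) :=
  MorphismProperty.of_isPullback (isPullback_srcMap f₀ g₀ u v fa w b).flip inferInstance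

instance [IsOpenImmersion v] : IsOpenImmersion (tgtMap g₀ v b) :=
  MorphismProperty.of_isPullback (isPullback_tgtMap g₀ v b).flip inferInstance

/-- Restriction to an open of the source (and an open of the target containing its image). -/
theorem bcMap_restrict (w : fa ≫ v = u ≫ f₀) (P : MorphismProperty Scheme.{u})
    [IsZariskiLocalAtSource P]
    [P.IsStableUnderBaseChange] [IsOpenImmersion u] [IsOpenImmersion v]
    (h : P (bcMap f₀ g₀ b)) : P (bcMap fa (v ≫ g₀) b) := by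
  have h1 : P (srcMap f₀ g₀ u v fa w b ≫ bcMap f₀ g₀ b) := IsZariskiLocalAtSource.comp h _
  rw [← bcMap_tgtMap] at h1
  exact P.of_postcomp (W' := MorphismProperty.monomorphisms _) _ (tgtMap g₀ v b)
    (inferInstanceAs (Mono (tgtMap g₀ v b))) h1

end SrcTgt

section Cover

variable {X₀ Y₀ B : Scheme.{u}} (f₀ : X₀ ⟶ Y₀) (g₀ : Y₀ ⟶ B) {B' : Scheme.{u}} (b : B' ⟶ B)

/-- Checking `P` for a base change on an open cover of the source. -/
theorem bcMap_of_sourceCover (P : MorphismProperty Scheme.{u}) [IsZariskiLocalAtSource P]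
    [P.IsStableUnderComposition]
    (hP : ∀ {A C : Scheme.{u}} (ι : A ⟶ C) [IsOpenImmersion ι], P ι)
    (𝒰 : X₀.OpenCover) (V : 𝒰.I₀ → Scheme.{u}) (v : ∀ a, V a ⟶ Y₀) [∀ a, IsOpenImmersion (v a)]
    (fa : ∀ a, 𝒰.X a ⟶ V a) (w : ∀ a, fa a ≫ v a = 𝒰.f a ≫ f₀)
    (H : ∀ a, P (bcMap (fa a) (v a ≫ g₀) b)) : P (bcMap f₀ g₀ b) := by
  haveI : P.RespectsIso := inferInstance
  refine IsZariskiLocalAtSource.of_openCover (𝒰.pullback₁ (pullback.fst (f₀ ≫ g₀) b)) (fun a => ?_)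
  change P (pullback.fst (pullback.fst (f₀ ≫ g₀) b) (𝒰.f a) ≫ bcMap f₀ g₀ b)
  have sq := isPullback_srcMap f₀ g₀ (𝒰.f a) (v a) (fa a) (w a) b
  rw [← sq.isoPullback_inv_fst, Category.assoc, P.cancel_left_of_respectsIso, ← bcMap_tgtMap]
  exact P.comp_mem _ _ (H a) (hP _)

end Cover

section Stage

variable {I : Type u} [Category.{u} I] (D : I ⥤ Scheme.{u}) (c : Cone D) [IsCofiltered I]
variable {i₀ : I} {X₀ Y₀ : Scheme.{u}} (f₀ : X₀ ⟶ Y₀) (g₀ : Y₀ ⟶ D.obj i₀)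

/-- Localisation on the source along a finite open cover of `X₀`. -/
theorem exists_stage_of_sourceCover (P : MorphismProperty Scheme.{u}) [IsZariskiLocalAtSource P]
    [P.IsStableUnderBaseChange] [P.IsStableUnderComposition]
    (hP : ∀ {A C : Scheme.{u}} (ι : A ⟶ C) [IsOpenImmersion ι], P ι)
    (𝒰 : X₀.OpenCover) [Finite 𝒰.I₀] (V : 𝒰.I₀ → Scheme.{u}) (v : ∀ a, V a ⟶ Y₀)
    [∀ a, IsOpenImmersion (v a)]
    (fa : ∀ a, 𝒰.X a ⟶ V a) (w : ∀ a, fa a ≫ v a = 𝒰.f a ≫ f₀)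
    (H : ∀ a, P (bcMap (fa a) (v a ≫ g₀) (c.π.app i₀)) →
      ∃ j : Over i₀, P (bcMap (fa a) (v a ≫ g₀) (D.map j.hom)))
    (h : P (bcMap f₀ g₀ (c.π.app i₀))) : ∃ j : Over i₀, P (bcMap f₀ g₀ (D.map j.hom)) := by
  classical
  have key : ∀ a, ∃ j : Over i₀, P (bcMap (fa a) (v a ≫ g₀) (D.map j.hom)) := fun a =>
    H a (bcMap_restrict f₀ g₀ (𝒰.f a) (v a) (fa a) _ (w a) P h)
  choose j hj using key
  haveI := Fintype.ofFinite 𝒰.I₀
  obtain ⟨j', hj'⟩ := IsCofiltered.inf_objs_exists (Finset.univ.image j)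
  refine ⟨j', bcMap_of_sourceCover f₀ g₀ (D.map j'.hom) P hP 𝒰 V v fa w (fun a => ?_)⟩
  obtain ⟨m⟩ := hj' (Finset.mem_image_of_mem j (Finset.mem_univ a))
  exact MorphismProperty.of_isPullback (isPullback_pbMap_bcMap D (fa a) (v a ≫ g₀) m) (hj a)

/-- Localisation on the source, affine version: it suffices to descend `P` for morphisms between
affine schemes. -/
theorem exists_stage_of_compactSpace (P : MorphismProperty Scheme.{u}) [IsZariskiLocalAtSource P]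
    [P.IsStableUnderBaseChange] [P.IsStableUnderComposition]
    (hP : ∀ {A C : Scheme.{u}} (ι : A ⟶ C) [IsOpenImmersion ι], P ι) [CompactSpace X₀]
    (H : ∀ (U : X₀.Opens) (V : Y₀.Opens) (_ : IsAffineOpen U) (_ : IsAffineOpen V)
      (e : U ≤ f₀ ⁻¹ᵁ V), P (bcMap (f₀.resLE V U e) (V.ι ≫ g₀) (c.π.app i₀)) →
      ∃ j : Over i₀, P (bcMap (f₀.resLE V U e) (V.ι ≫ g₀) (D.map j.hom)))
    (h : P (bcMap f₀ g₀ (c.π.app i₀))) : ∃ j : Over i₀, P (bcMap f₀ g₀ (D.map j.hom)) := by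
  have hx : ∀ x : X₀, ∃ (V : Y₀.Opens) (U : X₀.Opens), IsAffineOpen V ∧ IsAffineOpen U ∧
      x ∈ U ∧ U ≤ f₀ ⁻¹ᵁ V := by
    intro x
    obtain ⟨_, ⟨V, hV, rfl⟩, hxV, -⟩ := Y₀.isBasis_affineOpens.exists_subset_of_mem_open
      (Set.mem_univ (f₀ x)) isOpen_univ
    obtain ⟨_, ⟨U, hU, rfl⟩, hxU, hUV⟩ := X₀.isBasis_affineOpens.exists_subset_of_mem_open
      hxV (f₀ ⁻¹ᵁ V).2
    exact ⟨V, U, hV, hU, hxU, hUV⟩
  choose V U hV hU hxU hUV using hx
  obtain ⟨t, ht⟩ := CompactSpace.elim_nhds_subcover (fun x => (U x : Set X₀))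
    (fun x => (U x).2.mem_nhds (hxU x))
  let 𝒰 : X₀.OpenCover := X₀.openCoverOfIsOpenCover (fun x : t => U x.1) (by
    refine TopologicalSpace.IsOpenCover.mk (eq_top_iff.mpr ?_)
    intro x _
    have : x ∈ ⋃ y ∈ t, (U y : Set X₀) := by rw [ht]; trivial
    simp only [Set.mem_iUnion] at this
    obtain ⟨y, hy, hxy⟩ := this
    exact TopologicalSpace.Opens.mem_iSup.mpr ⟨⟨y, hy⟩, hxy⟩)
  haveI : Finite 𝒰.I₀ := (inferInstance : Finite t)
  refine exists_stage_of_sourceCover D c f₀ g₀ P hP 𝒰 (fun a => (V a.1 : Scheme.{u}))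
    (fun a => (V a.1).ι) (fun a => f₀.resLE (V a.1) (U a.1) (hUV a.1))
    (fun a => Scheme.Hom.resLE_comp_ι _ _) (fun a h' => ?_) h
  exact H (U a.1) (V a.1) (hU a.1) (hV a.1) (hUV a.1) h'

variable (hc : IsLimit c) [∀ {i j} (f : i ⟶ j), IsAffineHom (D.map f)]

include hc in
/-- Descent of unramifiedness with only `X₀` quasi-compact. -/
theorem exists_formallyUnramified_stage_of_compactSpace [CompactSpace X₀]
    [LocallyOfFiniteType f₀] (h : FormallyUnramified (bcMap f₀ g₀ (c.π.app i₀))) :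
    ∃ j : Over i₀, FormallyUnramified (bcMap f₀ g₀ (D.map j.hom)) := by
  refine exists_stage_of_compactSpace D c f₀ g₀ @FormallyUnramified (fun ι _ => inferInstance)
    (fun U V hU hV e h' => ?_) h
  haveI : IsAffine U := hU
  haveI : IsAffine V := hV
  exact exists_formallyUnramified_stage D c hc _ _ h'

end Stage

end Groth.Agent.Lib.LimDescent
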