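import Mathlib.AlgebraicGeometry.AffineTransitionLimit
import Mathlib.Topology.NoetherianSpace
import Groth.Agent.S4763

/-!
# Cofiltered limits of schemes along topological embeddings (helper96)

If all transition maps are topological embeddings and some stage `S_{i₀}` has Noetherian
underlying space, then from some stage `i₁ ⟶ i₀` on all transition maps are dominant, hence so
are the projections from the limit.
-/

set_option autoImplicit false
universe u

open CategoryTheory Limits AlgebraicGeometry Topology TopologicalSpace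

namespace Groth.Agent.Lib.LimEmbedding96

variable {I : Type u} [SmallCategory I] [IsCofiltered I] (D : I ⥤ Scheme.{u})

omit [IsCofiltered I] in
theorem range_map_comp_subset {a b d : I} (f : a ⟶ b) (g : b ⟶ d) :
    Set.range ⇑(D.map (f ≫ g)) ⊆ Set.range ⇑(D.map g) := by
  rintro _ ⟨x, rfl⟩
  refine ⟨D.map f x, ?_⟩
  rw [D.map_comp]
  rfl

omit [IsCofiltered I] in
theorem image_range_map {a b d : I} (f : a ⟶ b) (g : b ⟶ d) :
    ⇑(D.map g) '' Set.range ⇑(D.map f) = Set.range ⇑(D.map (f ≫ g)) := by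
  ext y
  constructor
  · rintro ⟨_, ⟨x, rfl⟩, rfl⟩
    exact ⟨x, by rw [D.map_comp]; rfl⟩
  · rintro ⟨x, rfl⟩
    exact ⟨D.map f x, ⟨x, rfl⟩, by rw [D.map_comp]; rfl⟩

omit [IsCofiltered I] in
/-- From some stage on, all transition maps are dominant. -/
theorem exists_forall_isDominant (i₀ : I) [NoetherianSpace (D.obj i₀)]
    (he : ∀ (i j : I) (φ : i ⟶ j), Topology.IsEmbedding ⇑(D.map φ)) :
    ∃ (i₁ : I) (_ : i₁ ⟶ i₀), ∀ (j : I) (_ : j ⟶ i₁) (k : I) (φ : k ⟶ j),
      IsDominant (D.map φ) := by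
  -- the closed subsets `closure (range (S_j → S_{i₀}))`
  let 𝒵 : Set (Closeds (D.obj i₀)) :=
    { Z | ∃ (j : I) (ψ : j ⟶ i₀), Z = ⟨closure (Set.range ⇑(D.map ψ)), isClosed_closure⟩ }
  have hne : 𝒵.Nonempty := ⟨_, i₀, 𝟙 i₀, rfl⟩
  have hwf : WellFounded ((· < ·) : Closeds (D.obj i₀) → Closeds (D.obj i₀) → Prop) :=
    wellFounded_lt
  obtain ⟨Z, ⟨i₁, ψ₁, rfl⟩, hmin⟩ := hwf.has_min 𝒵 hne
  have key : ∀ (j : I) (g : j ⟶ i₁),
      closure (Set.range ⇑(D.map (g ≫ ψ₁))) = closure (Set.range ⇑(D.map ψ₁)) := by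
    intro j g
    have hle : closure (Set.range ⇑(D.map (g ≫ ψ₁))) ⊆ closure (Set.range ⇑(D.map ψ₁)) :=
      closure_mono (range_map_comp_subset D g ψ₁)
    by_contra hne'
    refine hmin ⟨closure (Set.range ⇑(D.map (g ≫ ψ₁))), isClosed_closure⟩ ⟨j, g ≫ ψ₁, rfl⟩ ?_
    refine lt_of_le_of_ne ?_ ?_
    · exact hle
    · intro h
      exact hne' (congrArg (fun Z : Closeds (D.obj i₀) => (Z : Set (D.obj i₀))) h)
  refine ⟨i₁, ψ₁, fun j g k φ => ⟨?_⟩⟩
  have hemb := he j i₀ (g ≫ ψ₁)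
  rw [DenseRange, dense_iff_closure_eq, hemb.isInducing.closure_eq_preimage_closure_image,
    image_range_map, ← Category.assoc, key k (φ ≫ g), ← key j g]
  rw [Set.eq_univ_iff_forall]
  intro x
  exact subset_closure ⟨x, rfl⟩

variable (c : Cone D) (hc : IsLimit c) [∀ (i j : I) (f : i ⟶ j), IsAffineHom (D.map f)]

include hc in
/-- From some stage on, all projections from the limit are dominant. -/
theorem exists_forall_isDominant_π (i₀ : I) [NoetherianSpace (D.obj i₀)]
    (he : ∀ (i j : I) (φ : i ⟶ j), Topology.IsEmbedding ⇑(D.map φ)) :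
    ∃ (i₁ : I) (_ : i₁ ⟶ i₀), ∀ (j : I) (_ : j ⟶ i₁), IsDominant (c.π.app j) := by
  obtain ⟨i₁, ψ₁, h⟩ := exists_forall_isDominant D i₀ he
  exact ⟨i₁, ψ₁, fun j g =>
    Groth.Agent.S4763.isDominant_π_of_forall D c hc j (fun k φ => h j g k φ)⟩

end Groth.Agent.Lib.LimEmbedding96
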