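import Mathlib
import Groth.Agent.Lib.ConsTop4
import Groth.Agent.Lib.ConsLocusLim2
import Groth.Agent.S4764

/-!
# Closures of preimages of pro-constructible sets along flat limits (EGA IV 8.3.8–8.3.10, helper62)
-/

set_option autoImplicit false
universe u

open CategoryTheory Limits AlgebraicGeometry Topology

namespace Groth.Agent.Lib.LimFlatClosure

open Groth.Agent.Lib.ConsTop Groth.Agent.Lib.ConsLocusLim Groth.Agent.Lib.ConsLocusGen

/-- For a flat morphism and a pro-constructible subset of the target, the preimage of the closure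
is contained in the closure of the preimage (EGA IV 2.3.10). -/
theorem preimage_closure_subset_of_flat {X Y : Scheme.{u}} (f : X ⟶ Y) [Flat f] {Z : Set Y}
    (hZ : ProCons.IsProConstructible Z) : ⇑f ⁻¹' closure Z ⊆ closure (⇑f ⁻¹' Z) := by
  intro x hx
  obtain ⟨z, hzZ, hzx⟩ := exists_specializes_of_mem_closure Y hZ hx
  obtain ⟨x', hx'x, hx'z⟩ := Flat.generalizingMap (f := f) hzx
  have hx'Z : x' ∈ ⇑f ⁻¹' Z := by
    change f x' ∈ Z
    rw [hx'z]
    exact hzZ
  exact hx'x.mem_closed isClosed_closure (subset_closure hx'Z)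

theorem preimage_closure_eq_of_flat {X Y : Scheme.{u}} (f : X ⟶ Y) [Flat f] {Z : Set Y}
    (hZ : ProCons.IsProConstructible Z) : ⇑f ⁻¹' closure Z = closure (⇑f ⁻¹' Z) :=
  (preimage_closure_subset_of_flat f hZ).antisymm (f.continuous.closure_preimage_subset Z)

variable {I : Type u} [SmallCategory I] [IsCofiltered I] (D : I ⥤ Scheme.{u}) (c : Cone D)
  (hc : IsLimit c) [∀ (i j : I) (f : i ⟶ j), IsAffineHom (D.map f)]

include hc in
/-- EGA IV 8.3.8 / 8.3.10. -/
theorem preimage_subset_closure_preimage_iff (i₁ : I) [CompactSpace (D.obj i₁)]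
    (hfl : ∀ (i j : I) (φ : i ⟶ j), Flat (D.map φ))
    (Z' Z'' : Set (D.obj i₁)) (hZ' : ProCons.IsProConstructible Z')
    (hZ'' : ProCons.IsProConstructible Z'') (hcl : Topology.IsConstructible (closure Z')) :
    (⇑(c.π.app i₁) ⁻¹' Z'' : Set c.pt) ⊆ closure (⇑(c.π.app i₁) ⁻¹' Z' : Set c.pt) ↔
      ∃ (j : I) (φ : j ⟶ i₁), ⇑(D.map φ) ⁻¹' Z'' ⊆ closure (⇑(D.map φ) ⁻¹' Z') := by
  haveI : ∀ {i j : I} (f : i ⟶ j), IsAffineHom (D.map f) := fun f => inferInstance
  constructor
  · intro h
    have hmem : ∀ s : c.pt, c.π.app i₁ s ∈ Z''ᶜ ∪ closure Z' := by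
      intro s
      by_cases hs : c.π.app i₁ s ∈ Z''
      · right
        exact (c.π.app i₁).continuous.closure_preimage_subset Z' (h hs)
      · left
        exact hs
    obtain ⟨j, φ, hj⟩ := exists_stage_forall_mem D c hc (Z''ᶜ ∪ closure Z') (fun U hU => by
      rw [Set.preimage_union]
      exact IsUnionCons.union
        (isUnionCons_preimage_of_isIndConstructible (isIndConstructible_compl hZ'') U hU)
        (isUnionCons_preimage_of_isIndConstructible
          (isIndConstructible_of_isLocallyConstructible hcl.isLocallyConstructible) U hU)) hmem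
    refine ⟨j, φ, fun t ht => ?_⟩
    haveI := hfl j i₁ φ
    apply preimage_closure_subset_of_flat (D.map φ) hZ'
    rcases hj t with h1 | h1
    · exact absurd ht h1
    · exact h1
  · rintro ⟨j, φ, hj⟩ s hs
    haveI : Flat (c.π.app j) := Groth.Agent.S4764.result D c hc j (fun k ψ => hfl k j ψ)
    have hw : ∀ s : c.pt, c.π.app i₁ s = D.map φ (c.π.app j s) := by
      intro s
      rw [← Scheme.Hom.comp_apply, c.w]
    have h1 : c.π.app j s ∈ closure (⇑(D.map φ) ⁻¹' Z') := by
      apply hj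
      change D.map φ (c.π.app j s) ∈ Z''
      rw [← hw]
      exact hs
    have h2 := preimage_closure_subset_of_flat (c.π.app j)
      (isProConstructible_preimage (D.map φ) hZ') h1
    have h3 : (⇑(c.π.app j) ⁻¹' (⇑(D.map φ) ⁻¹' Z') : Set c.pt) = ⇑(c.π.app i₁) ⁻¹' Z' := by
      ext s'
      change D.map φ (c.π.app j s') ∈ Z' ↔ c.π.app i₁ s' ∈ Z'
      rw [hw]
    rwa [h3] at h2

end Groth.Agent.Lib.LimFlatClosure
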