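import Mathlib
import Groth.Agent.Lib.LimFlatClosure
import Groth.Agent.Lib.LimDescentImm
import Groth.Agent.S3398

/-!
# Dominance descends along flat limits (EGA IV 8.3.11-ish, helper62)
-/

set_option autoImplicit false
universe u

open CategoryTheory Limits AlgebraicGeometry Topology

namespace Groth.Agent.Lib.LimFlatDominant

open Groth.Agent.Lib.ConsTop Groth.Agent.Lib.LimPullback Groth.Agent.Lib.LimDescent
  Groth.Agent.Lib.LimFlatClosure

/-- A base change of `f₀` along `pY` is dominant iff the preimage of the range of `f₀` is dense. -/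
theorem isDominant_iff_of_isPullback {X₀ Y₀ Xj Yj : Scheme.{u}} {f₀ : X₀ ⟶ Y₀} {fj : Xj ⟶ Yj}
    {pY : Yj ⟶ Y₀} {pX : Xj ⟶ X₀} (sq : IsPullback pX fj f₀ pY) :
    IsDominant fj ↔ (Set.univ : Set Yj) ⊆ closure (⇑pY ⁻¹' Set.range ⇑f₀) := by
  have h := Groth.Agent.Lib.LimDescent.range_eq_preimage_of_isPullback sq
  rw [isDominant_iff, denseRange_iff_closure_range, ← Set.univ_subset_iff]
  have : Set.range ⇑fj = ⇑pY ⁻¹' Set.range ⇑f₀ := h
  rw [this]

/-- Transport of density along an isomorphism. -/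
theorem univ_subset_closure_preimage_iff_of_iso {A B Y₀ : Scheme.{u}} (e : A ≅ B) (pA : A ⟶ Y₀)
    (pB : B ⟶ Y₀) (h : e.hom ≫ pB = pA) (R : Set Y₀) :
    (Set.univ : Set A) ⊆ closure (⇑pA ⁻¹' R) ↔ (Set.univ : Set B) ⊆ closure (⇑pB ⁻¹' R) := by
  have h1 : (⇑pA ⁻¹' R : Set A) = ⇑e.hom ⁻¹' (⇑pB ⁻¹' R) := by
    ext x
    change pA x ∈ R ↔ pB (e.hom x) ∈ R
    rw [← h, Scheme.Hom.comp_apply]
  have h2 : closure (⇑e.hom ⁻¹' (⇑pB ⁻¹' R)) = ⇑e.hom ⁻¹' closure (⇑pB ⁻¹' R) :=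
    ((Scheme.homeoOfIso e).preimage_closure _).symm
  rw [h1, h2]
  constructor
  · intro H b _
    obtain ⟨a, rfl⟩ := (Scheme.homeoOfIso e).surjective b
    exact H (Set.mem_univ a)
  · intro H a _
    exact H (Set.mem_univ (e.hom a))

/-- Dominance of a base change to a flat limit is detected at a finite stage. -/
theorem isDominant_iff_eventually {I : Type u} [SmallCategory I] [IsCofiltered I]
    (D : I ⥤ Scheme.{u}) (c : Limits.Cone D) (hc : Limits.IsLimit c)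
    [∀ (i j : I) (f : i ⟶ j), IsAffineHom (D.map f)] (i₀ : I) [CompactSpace (D.obj i₀)]
    (hfl : ∀ (i j : I) (φ : i ⟶ j), Flat (D.map φ))
    {X₀ Y₀ : Scheme.{u}} (f₀ : X₀ ⟶ Y₀) (g₀ : Y₀ ⟶ D.obj i₀)
    [QuasiCompact (f₀ ≫ g₀)] [QuasiCompact g₀] [QuasiSeparated g₀]
    (hcl : Topology.IsConstructible (closure (Set.range ⇑f₀)))
    {X Y : Scheme.{u}} (f : X ⟶ Y) (g : Y ⟶ c.pt) (qY : Y ⟶ Y₀) (qX : X ⟶ X₀)
    (hY : IsPullback qY g g₀ (c.π.app i₀)) (hX : IsPullback qX f f₀ qY) :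
    IsDominant f ↔ ∃ (j : I) (φ : j ⟶ i₀) (Xj Yj : Scheme.{u}) (fj : Xj ⟶ Yj) (gj : Yj ⟶ D.obj j)
      (pY : Yj ⟶ Y₀) (pX : Xj ⟶ X₀), IsPullback pY gj g₀ (D.map φ) ∧ IsPullback pX fj f₀ pY ∧
      IsDominant fj := by
  haveI : ∀ {i j : I} (f : i ⟶ j), IsAffineHom (D.map f) := fun f => inferInstance
  haveI : QuasiCompact f₀ := QuasiCompact.of_comp f₀ g₀
  haveI : CompactSpace Y₀ := QuasiCompact.compactSpace_of_compactSpace g₀
  set R : Set Y₀ := Set.range ⇑f₀ with hRdef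
  have hR : ProCons.IsProConstructible R := by
    have := Groth.Agent.S3398.result f₀ Set.univ isProConstructible_univ
    rwa [Set.image_univ] at this
  let i₁ : Over i₀ := Over.mk (𝟙 i₀)
  let E : Over i₀ ⥤ Scheme.{u} := pbDiagram D i₀ g₀
  let fst₁ : E.obj i₁ ⟶ Y₀ := pullback.fst g₀ (D.map (𝟙 i₀))
  haveI : IsIso fst₁ := inferInstanceAs (IsIso (pullback.fst g₀ (D.map (𝟙 i₀))))
  haveI : CompactSpace (E.obj i₁) := compactSpace_pb D i₀ g₀ i₁
  have hflE : ∀ (j k : Over i₀) (φ : j ⟶ k), Flat (E.map φ) := fun j k φ =>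
    MorphismProperty.of_isPullback (isPullback_pbMap D i₀ g₀ φ).flip (hfl _ _ φ.left)
  let Z' : Set (E.obj i₁) := ⇑fst₁ ⁻¹' R
  have hZ' : ProCons.IsProConstructible Z' := isProConstructible_preimage fst₁ hR
  have hclZ' : IsConstructible (closure Z') := by
    have : closure Z' = ⇑fst₁ ⁻¹' closure R := (preimage_closure_eq_of_flat fst₁ hR).symm
    rw [this]
    exact hcl.preimage_of_isOpenEmbedding fst₁.isOpenEmbedding
  have main := preimage_subset_closure_preimage_iff E (pbCone D c i₀ g₀) (isLimitPbCone hc)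
    i₁ hflE Z' Set.univ hZ' isProConstructible_univ hclZ'
  let fst' : pullback g₀ (c.π.app i₀) ⟶ Y₀ := pullback.fst g₀ (c.π.app i₀)
  have hπ1 : (⇑((pbCone D c i₀ g₀).π.app i₁) ⁻¹' Z' : Set ↥(pullback g₀ (c.π.app i₀))) =
      ⇑fst' ⁻¹' R := by
    ext y
    have e1 : pbProj D c i₀ g₀ i₁ ≫ pullback.fst g₀ (D.map i₁.hom) = fst' :=
      pbProj_fst D c i₀ g₀ i₁
    have e2 : fst₁ (pbProj D c i₀ g₀ i₁ y) = fst' y := congr($e1 y)
    change fst₁ (pbProj D c i₀ g₀ i₁ y) ∈ R ↔ fst' y ∈ R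
    rw [e2]
  have hmap : ∀ (j : Over i₀) (φ : j ⟶ i₁),
      (⇑(E.map φ) ⁻¹' Z') = ⇑(pullback.fst g₀ (D.map j.hom)) ⁻¹' R := by
    intro j φ
    ext y
    have e1 : pbMap D i₀ g₀ φ ≫ pullback.fst g₀ (D.map i₁.hom) = pullback.fst g₀ (D.map j.hom) :=
      pbMap_fst D i₀ g₀ φ
    have e2 : fst₁ (pbMap D i₀ g₀ φ y) = pullback.fst g₀ (D.map j.hom) y := congr($e1 y)
    change fst₁ (pbMap D i₀ g₀ φ y) ∈ R ↔ pullback.fst g₀ (D.map j.hom) y ∈ R
    rw [e2]
  have hdom : IsDominant f ↔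
      (Set.univ : Set ↥(pullback g₀ (c.π.app i₀))) ⊆ closure (⇑fst' ⁻¹' R) := by
    rw [isDominant_iff_of_isPullback hX]
    exact univ_subset_closure_preimage_iff_of_iso hY.isoPullback qY fst'
      hY.isoPullback_hom_fst R
  have main' : (Set.univ : Set ↥(pullback g₀ (c.π.app i₀))) ⊆ closure (⇑fst' ⁻¹' R) ↔
      ∃ (j : Over i₀) (_ : j ⟶ i₁), (Set.univ : Set ↥(pullback g₀ (D.map j.hom))) ⊆
        closure (⇑(pullback.fst g₀ (D.map j.hom)) ⁻¹' R) := by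
    rw [← hπ1]
    refine Iff.trans ?_ (main.trans ?_)
    · rfl
    · refine exists_congr fun j => exists_congr fun φ => ?_
      rw [hmap j φ]
      rfl
  rw [hdom, main']
  constructor
  · rintro ⟨j, φ, h⟩
    refine ⟨j.left, j.hom, pullback f₀ (pullback.fst g₀ (D.map j.hom)), pullback g₀ (D.map j.hom),
      pullback.snd _ _, pullback.snd _ _, pullback.fst _ _, pullback.fst _ _,
      IsPullback.of_hasPullback _ _, IsPullback.of_hasPullback _ _, ?_⟩
    rw [isDominant_iff_of_isPullback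
      (IsPullback.of_hasPullback f₀ (pullback.fst g₀ (D.map j.hom)))]
    exact h
  · rintro ⟨j, φ, Xj, Yj, fj, gj, pY, pX, hYj, hXj, hdomj⟩
    refine ⟨Over.mk φ, Over.homMk φ (by simp [i₁]), ?_⟩
    rw [isDominant_iff_of_isPullback hXj] at hdomj
    exact (univ_subset_closure_preimage_iff_of_iso hYj.isoPullback pY
      (pullback.fst g₀ (D.map φ)) hYj.isoPullback_hom_fst R).mp hdomj

end Groth.Agent.Lib.LimFlatDominant
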