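import Mathlib
import Groth.Agent.Lib.LimPullback

/-!
# Cofiltered limits of schemes along open immersions (EGA IV 8.2.13-ish, helper62)

For a cofiltered diagram whose transition maps are (affine) open immersions, the projections from
the limit are monomorphisms, topological embeddings, and induce isomorphisms on stalks.
-/

set_option autoImplicit false
universe u

open CategoryTheory Limits AlgebraicGeometry Topology

namespace Groth.Agent.Lib.LimOpenImm

open Groth.Agent.Lib.LimPullback

variable {I : Type u} [SmallCategory I] [IsCofiltered I] (D : I ⥤ Scheme.{u}) (c : Cone D)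
  (hc : IsLimit c)

include hc in
/-- The projections are monomorphisms when the transition maps are. -/
theorem mono_π (hm : ∀ (i j : I) (φ : i ⟶ j), Mono (D.map φ)) (i : I) : Mono (c.π.app i) := by
  refine ⟨fun {T} a b hab => hc.hom_ext fun k => ?_⟩
  obtain ⟨j, u, v, -⟩ : ∃ (j : I) (_ : j ⟶ i) (_ : j ⟶ k), True :=
    ⟨IsCofiltered.min i k, IsCofiltered.minToLeft i k, IsCofiltered.minToRight i k, trivial⟩
  haveI := hm j i u
  have h1 : a ≫ c.π.app j = b ≫ c.π.app j := by
    rw [← cancel_mono (D.map u), Category.assoc, Category.assoc, c.w, hab]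
  rw [← c.w v, ← Category.assoc, h1, Category.assoc]

variable [∀ (i j : I) (f : i ⟶ j), IsAffineHom (D.map f)]

include hc in
/-- The projections are topological embeddings when the transition maps are open immersions. -/
theorem isEmbedding_π (hoi : ∀ (i j : I) (φ : i ⟶ j), IsOpenImmersion (D.map φ)) (i : I) :
    IsEmbedding ⇑(c.π.app i) := by
  haveI : ∀ {i j : I} (f : i ⟶ j), IsAffineHom (D.map f) := fun f => inferInstance
  haveI : Mono (c.π.app i) := mono_π D c hc (fun i j φ => by
    haveI := hoi i j φ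
    infer_instance) i
  refine ⟨⟨?_⟩, (c.π.app i).injective⟩
  refine le_antisymm (c.π.app i).continuous.le_induced ?_
  intro U hU
  rw [isOpen_induced_iff]
  -- write `U` as a union of basic opens
  have hB := isBasis_preimage_isAffineOpen D c hc
  obtain ⟨Us, hUs, hUeq⟩ := TopologicalSpace.Opens.isBasis_iff_cover.mp hB ⟨U, hU⟩
  -- each basic open is a preimage of an open of `D.obj i`
  have key : ∀ V ∈ Us, ∃ W : (D.obj i).Opens, c.π.app i ⁻¹ᵁ W = V := by
    intro V hV
    obtain ⟨j, V', -, rfl⟩ := hUs hV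
    obtain ⟨k, u, v, -⟩ : ∃ (k : I) (_ : k ⟶ j) (_ : k ⟶ i), True :=
      ⟨IsCofiltered.min j i, IsCofiltered.minToLeft j i, IsCofiltered.minToRight j i, trivial⟩
    haveI := hoi k i v
    refine ⟨(D.map v) ''ᵁ (D.map u ⁻¹ᵁ V'), ?_⟩
    rw [← c.w v, Scheme.Hom.comp_preimage, Scheme.Hom.preimage_image_eq, ← Scheme.Hom.comp_preimage,
      c.w]
  choose! W hW using key
  refine ⟨((⨆ V ∈ Us, W V : (D.obj i).Opens) : Set (D.obj i)), (⨆ V ∈ Us, W V).2, ?_⟩
  have h2 : c.π.app i ⁻¹ᵁ (⨆ V ∈ Us, W V) = ⟨U, hU⟩ := by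
    rw [hUeq]
    simp only [Scheme.Hom.preimage_iSup]
    apply le_antisymm
    · refine iSup₂_le fun V hV => ?_
      rw [hW V hV]
      exact le_sSup hV
    · refine sSup_le fun V hV => ?_
      rw [← hW V hV]
      exact le_iSup₂ (f := fun V _ => c.π.app i ⁻¹ᵁ W V) V hV
  exact congrArg (fun O : c.pt.Opens => (O : Set c.pt)) h2

omit [∀ (i j : I) (f : i ⟶ j), IsAffineHom (D.map f)] in
include hc in
/-- The section `Spec 𝒪_{S_i, π_i(s)} ⟶ S` of the projection. -/
theorem exists_section_spec_stalk (hoi : ∀ (i j : I) (φ : i ⟶ j), IsOpenImmersion (D.map φ))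
    (i : I) (s : c.pt) :
    ∃ σ : Spec ((D.obj i).presheaf.stalk (c.π.app i s)) ⟶ c.pt,
      σ ≫ c.π.app i = (D.obj i).fromSpecStalk (c.π.app i s) := by
  set x := c.π.app i s with hx
  let τ := (D.obj i).fromSpecStalk x
  have hrange : ∀ j : Over i, Set.range ⇑τ ⊆ Set.range ⇑(D.map j.hom) := by
    intro j
    haveI := hoi _ _ j.hom
    rw [Scheme.range_fromSpecStalk]
    intro y (hy : y ⤳ x)
    have hxj : x ∈ Set.range ⇑(D.map j.hom) := by
      refine ⟨c.π.app j.left s, ?_⟩
      rw [← Scheme.Hom.comp_apply, c.w]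
    exact hy.mem_open (D.map j.hom).isOpenEmbedding.isOpen_range hxj
  let t : ∀ j : Over i, Spec ((D.obj i).presheaf.stalk x) ⟶ D.obj j.left := fun j =>
    haveI := hoi _ _ j.hom
    IsOpenImmersion.lift (D.map j.hom) τ (hrange j)
  have ht : ∀ j : Over i, t j ≫ D.map j.hom = τ := fun j => by
    haveI := hoi _ _ j.hom
    exact IsOpenImmersion.lift_fac _ _ _
  let cone : Cone (Over.forget i ⋙ D) :=
  { pt := Spec ((D.obj i).presheaf.stalk x)
    π :=
    { app := t
      naturality := fun j k φ => by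
        haveI := hoi _ _ k.hom
        change 𝟙 _ ≫ t k = t j ≫ D.map φ.left
        rw [Category.id_comp, ← cancel_mono (D.map k.hom), Category.assoc, ← D.map_comp, Over.w,
          ht, ht] } }
  refine ⟨(isLimitWhisker hc).lift cone, ?_⟩
  have h1 := (isLimitWhisker (i := i) hc).fac cone (Over.mk (𝟙 i))
  have h2 : t (Over.mk (𝟙 i)) = τ := by
    have := ht (Over.mk (𝟙 i))
    have e : D.map (Over.mk (𝟙 i)).hom = 𝟙 (D.obj i) := D.map_id i
    rw [e] at this
    exact (Category.comp_id _).symm.trans this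
  exact h1.trans h2

include hc in
/-- The stalk maps of the projections are isomorphisms. -/
theorem isIso_stalkMap_π (hoi : ∀ (i j : I) (φ : i ⟶ j), IsOpenImmersion (D.map φ)) (i : I)
    (s : c.pt) : IsIso ((c.π.app i).stalkMap s) := by
  haveI : Mono (c.π.app i) := mono_π D c hc (fun i j φ => by
    haveI := hoi i j φ
    infer_instance) i
  obtain ⟨σ, hσ⟩ := exists_section_spec_stalk D c hc hoi i s
  -- the closed point goes to `s`
  have hcp : σ (IsLocalRing.closedPoint _) = s := by
    apply (c.π.app i).injective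
    rw [← Scheme.Hom.comp_apply, hσ, Scheme.fromSpecStalk_closedPoint]
  let θ : c.pt.presheaf.stalk s ⟶ (D.obj i).presheaf.stalk (c.π.app i s) :=
    c.pt.presheaf.stalkSpecializes (specializes_of_eq hcp) ≫ Scheme.stalkClosedPointTo σ
  have hθ : Spec.map θ ≫ c.pt.fromSpecStalk s = σ := by
    rw [Spec.map_comp, Category.assoc, Scheme.SpecMap_stalkSpecializes_fromSpecStalk,
      Scheme.Spec_stalkClosedPointTo_fromSpecStalk]
  let ρ := (c.π.app i).stalkMap s
  have hρ : Spec.map ρ ≫ (D.obj i).fromSpecStalk (c.π.app i s) =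
      c.pt.fromSpecStalk s ≫ c.π.app i := Scheme.SpecMap_stalkMap_fromSpecStalk (c.π.app i)
  have ha : Spec.map θ ≫ Spec.map ρ = 𝟙 _ := by
    rw [← cancel_mono ((D.obj i).fromSpecStalk (c.π.app i s)), Category.assoc, hρ,
      ← Category.assoc, hθ, hσ, Category.id_comp]
  have hb : Spec.map ρ ≫ Spec.map θ = 𝟙 _ := by
    have h3 : (Spec.map ρ ≫ Spec.map θ) ≫ (c.pt.fromSpecStalk s ≫ c.π.app i) =
        𝟙 _ ≫ (c.pt.fromSpecStalk s ≫ c.π.app i) := by
      rw [Category.assoc, ← Category.assoc (Spec.map θ), hθ, hσ, hρ, Category.id_comp]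
    exact (cancel_mono _).mp h3
  refine ⟨θ, ?_, ?_⟩
  · apply Spec.map_injective
    rw [Spec.map_comp, ha, Spec.map_id]
  · apply Spec.map_injective
    rw [Spec.map_comp, hb, Spec.map_id]

end Groth.Agent.Lib.LimOpenImm
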