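import Mathlib
import Groth.Agent.Lib.LimOpenImm

/-!
# Reducedness along limits of open immersions (EGA IV 8.7-ish, helper62)
-/

set_option autoImplicit false
universe u

open CategoryTheory Limits AlgebraicGeometry Topology

namespace Groth.Agent.Lib.LimOpenImmRed

open Groth.Agent.Lib.LimOpenImm

/-- A localization in which generators of the nilradical vanish is reduced. -/
theorem isReduced_of_isLocalization {R S : Type*} [CommRing R] [CommRing S] [Algebra R S]
    (M : Submonoid R) [IsLocalization M S] (G : Set R) (hG : Ideal.span G = nilradical R)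
    (h0 : ∀ g ∈ G, algebraMap R S g = 0) : IsReduced S := by
  have hnil : ∀ r ∈ nilradical R, algebraMap R S r = 0 := by
    intro r hr
    rw [← hG] at hr
    refine Submodule.span_induction (p := fun r _ => algebraMap R S r = 0) ?_ ?_ ?_ ?_ hr
    · intro g hg
      exact h0 g hg
    · exact map_zero _
    · intro x y _ _ hx hy
      rw [map_add, hx, hy, add_zero]
    · intro a x _ hx
      rw [smul_eq_mul, map_mul, hx, mul_zero]
  refine ⟨fun a ha => ?_⟩
  obtain ⟨⟨b, t⟩, hbt⟩ := IsLocalization.surj M a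
  obtain ⟨n, hn⟩ := ha
  have hb : algebraMap R S (b ^ n) = 0 := by
    rw [map_pow, ← hbt, mul_pow, hn, zero_mul]
  obtain ⟨u, hu⟩ := (IsLocalization.map_eq_zero_iff M S (b ^ n)).mp hb
  have hub : (u : R) * b ∈ nilradical R := by
    refine ⟨n + 1, ?_⟩
    rw [mul_pow, pow_succ (u : R) n, pow_succ b n]
    calc (u : R) ^ n * u * (b ^ n * b) = (u : R) ^ n * b * (u * b ^ n) := by ring
      _ = 0 := by rw [hu, mul_zero]
  have h1 : algebraMap R S u * algebraMap R S b = 0 := by
    rw [← map_mul]
    exact hnil _ hub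
  have h2 : algebraMap R S b = 0 := by
    have hunit := IsLocalization.map_units S u
    exact (hunit.mul_right_eq_zero).mp h1
  have h3 : a * algebraMap R S t = 0 := by rw [hbt, h2]
  exact ((IsLocalization.map_units S t).mul_left_eq_zero).mp h3

/-- If generators of the nilradical of an affine open `U` of `Y` vanish after pulling back along an
open immersion `φ : X ⟶ Y`, then the stalks of `X` at points over `U` are reduced. -/
theorem isReduced_stalk_of_app_eq_zero {X Y : Scheme.{u}} (φ : X ⟶ Y) [IsOpenImmersion φ]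
    {U : Y.Opens} (hU : IsAffineOpen U) (G : Set Γ(Y, U)) (hG : Ideal.span G = nilradical Γ(Y, U))
    (h0 : ∀ g ∈ G, φ.app U g = 0) (y : X) (hy : φ y ∈ U) :
    _root_.IsReduced (X.presheaf.stalk y) := by
  have hiso : IsIso (φ.stalkMap y) := inferInstance
  have hinj : Function.Injective (φ.stalkMap y) :=
    ((ConcreteCategory.isIso_iff_bijective _).mp hiso).1
  letI := Y.presheaf.algebra_section_stalk ⟨φ y, hy⟩
  haveI := hU.isLocalization_stalk ⟨φ y, hy⟩
  have hred : _root_.IsReduced (Y.presheaf.stalk (φ y)) := by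
    refine isReduced_of_isLocalization (hU.primeIdealOf ⟨φ y, hy⟩).asIdeal.primeCompl G hG ?_
    intro g hg
    apply hinj
    have : φ.stalkMap y (Y.presheaf.germ U (φ y) hy g) =
        X.presheaf.germ (φ ⁻¹ᵁ U) y hy (φ.app U g) := Scheme.Hom.germ_stalkMap_apply φ U y hy g
    change φ.stalkMap y (Y.presheaf.germ U (φ y) hy g) = φ.stalkMap y 0
    rw [this, h0 g hg, map_zero, map_zero]
  -- transfer along the inverse of the stalk map
  let e := (asIso (φ.stalkMap y)).commRingCatIsoToRingEquiv
  exact isReduced_of_injective e.symm.toRingHom e.symm.injective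

/-- Finite common stage lemma in a cofiltered category. -/
theorem exists_common_stage {I : Type*} [Category I] [IsCofiltered I] (i₀ : I) {α : Type*}
    (A : Finset α) (Q : α → ∀ j : I, (j ⟶ i₀) → Prop)
    (hstab : ∀ a j (g : j ⟶ i₀) k (h : k ⟶ j), Q a j g → Q a k (h ≫ g))
    (hex : ∀ a ∈ A, ∃ j g, Q a j g) : ∃ (j : I) (g : j ⟶ i₀), ∀ a ∈ A, Q a j g := by
  classical
  induction A using Finset.induction_on with
  | empty => exact ⟨i₀, 𝟙 i₀, fun a ha => absurd ha (Finset.notMem_empty a)⟩
  | insert a A _ ih =>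
    obtain ⟨j₁, g₁, h₁⟩ := ih (fun b hb => hex b (Finset.mem_insert_of_mem hb))
    obtain ⟨j₂, g₂, h₂⟩ := hex a (Finset.mem_insert_self a A)
    obtain ⟨k, u₁, u₂, e⟩ := IsCofiltered.cospan g₁ g₂
    refine ⟨k, u₁ ≫ g₁, fun b hb => ?_⟩
    rcases Finset.mem_insert.mp hb with rfl | hb
    · rw [e]
      exact hstab _ _ _ _ _ h₂
    · exact hstab _ _ _ _ _ (h₁ b hb)

/-- EGA IV 8.7: along a limit of open immersions with finitely generated nilradicals at a
quasi-compact stage, the limit is reduced iff the stages eventually are. -/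
theorem isReduced_iff_eventually {I : Type u} [SmallCategory I] [IsCofiltered I]
    (D : I ⥤ Scheme.{u}) (c : Limits.Cone D) (hc : Limits.IsLimit c)
    [∀ (i j : I) (f : i ⟶ j), IsAffineHom (D.map f)] (i₀ : I)
    [CompactSpace (D.obj i₀)] (hoi : ∀ (i j : I) (φ : i ⟶ j), IsOpenImmersion (D.map φ))
    (hN : ∀ U : (D.obj i₀).affineOpens, (nilradical Γ(D.obj i₀, U)).FG) :
    IsReduced c.pt ↔ ∃ (i : I) (_ : i ⟶ i₀), ∀ (j : I) (_ : j ⟶ i), IsReduced (D.obj j) := by
  haveI : ∀ {i j : I} (f : i ⟶ j), IsAffineHom (D.map f) := fun f => inferInstance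
  constructor
  · intro hred
    classical
    obtain ⟨s, hs, hcov⟩ := (isCompact_and_isOpen_iff_finite_and_eq_biUnion_affineOpens
      (X := D.obj i₀) (U := Set.univ)).mp ⟨isCompact_univ, isOpen_univ⟩
    choose Gen hGen using hN
    -- index set: pairs (U, n)
    let A : Finset (Σ U : (D.obj i₀).affineOpens, Γ(D.obj i₀, U)) :=
      hs.toFinset.sigma (fun U => Gen U)
    let Q : (Σ U : (D.obj i₀).affineOpens, Γ(D.obj i₀, U)) → ∀ j : I, (j ⟶ i₀) → Prop :=
      fun a j g => ∀ ψ : D.obj j ⟶ D.obj i₀, ψ = D.map g → ψ.app a.1 a.2 = 0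
    have hstab : ∀ a j (g : j ⟶ i₀) k (h : k ⟶ j), Q a j g → Q a k (h ≫ g) := by
      intro a j g k h hq ψ hψ
      rw [D.map_comp] at hψ
      subst hψ
      have : (D.map h ≫ D.map g).app a.1 a.2 = (D.map h).app _ ((D.map g).app a.1 a.2) := by
        rw [Scheme.Hom.comp_app]
        rfl
      rw [this, hq _ rfl]
      exact map_zero _
    have hex : ∀ a ∈ A, ∃ j g, Q a j g := by
      intro a ha
      have haU : a.2 ∈ (Gen a.1 : Set _) := (Finset.mem_sigma.mp ha).2
      have hnil : IsNilpotent a.2 := by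
        have : a.2 ∈ nilradical Γ(D.obj i₀, a.1) := by
          rw [← hGen a.1]
          exact Ideal.subset_span haU
        exact this
      have h0 : (c.π.app i₀).app a.1 a.2 = 0 :=
        (hred.component_reduced _).eq_zero _ (hnil.map _)
      obtain ⟨j, g, hg⟩ := exists_app_map_eq_zero_of_isLimit D c hc a.1.2.isCompact a.2 h0
      exact ⟨j, g, fun ψ hψ => by subst hψ; exact hg⟩
    obtain ⟨j, g, hj⟩ := exists_common_stage i₀ A Q hstab hex
    haveI := hoi j i₀ g
    have hredj : IsReduced (D.obj j) := by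
      haveI : ∀ y : D.obj j, _root_.IsReduced ((D.obj j).presheaf.stalk y) := by
        intro y
        have hy : (D.map g) y ∈ ⋃ U ∈ s, ((U : (D.obj i₀).Opens) : Set (D.obj i₀)) := by
          rw [← hcov]; trivial
        obtain ⟨U, hUs, hyU⟩ := Set.mem_iUnion₂.mp hy
        refine isReduced_stalk_of_app_eq_zero (D.map g) U.2 (Gen U : Set _) (hGen U) ?_ y hyU
        intro n hn
        have hmem : (⟨U, n⟩ : Σ U : (D.obj i₀).affineOpens, Γ(D.obj i₀, U)) ∈ A :=
          Finset.mem_sigma.mpr ⟨hs.mem_toFinset.mpr hUs, hn⟩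
        exact hj ⟨U, n⟩ hmem _ rfl
      exact isReduced_of_isReduced_stalk _
    refine ⟨j, g, fun j' h => ?_⟩
    haveI := hoi j' j h
    exact isReduced_of_isOpenImmersion (D.map h)
  · rintro ⟨i, -, hi⟩
    haveI : IsReduced (D.obj i) := hi i (𝟙 i)
    haveI : ∀ x : c.pt, _root_.IsReduced (c.pt.presheaf.stalk x) := by
      intro x
      haveI := isIso_stalkMap_π D c hc hoi i x
      let e := (asIso ((c.π.app i).stalkMap x)).commRingCatIsoToRingEquiv
      exact isReduced_of_injective e.symm.toRingHom e.symm.injective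
    exact isReduced_of_isReduced_stalk _

end Groth.Agent.Lib.LimOpenImmRed
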