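import Mathlib.AlgebraicGeometry.AffineTransitionLimit

set_option autoImplicit false
universe u

open CategoryTheory Limits AlgebraicGeometry Topology TopologicalSpace

namespace Groth.Agent.Lib.LimOpenMap

variable {I : Type u} [Category.{u} I] [IsCofiltered I] (D : I ⥤ Scheme.{u}) (c : Cone D)
  (hc : IsLimit c) [∀ {i j : I} (f : i ⟶ j), IsAffineHom (D.map f)]

omit [IsCofiltered I] [∀ {i j : I} (f : i ⟶ j), IsAffineHom (D.map f)] in
theorem π_comp_apply {a b : I} (f : a ⟶ b) (x : c.pt) :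
    (D.map f) ((c.π.app a) x) = (c.π.app b) x := by
  rw [← Scheme.Hom.comp_apply, c.w]

include hc in
theorem isOpenMap_π_of_forall (i : I)
    (hs : ∀ (j : I) (_ : j ⟶ i), Function.Surjective (c.π.app j))
    (h : ∀ (j : I) (φ : j ⟶ i), IsOpenMap (D.map φ)) : IsOpenMap (c.π.app i) := by
  have hbasis := isBasis_preimage_isAffineOpen D c hc
  intro U hU
  obtain ⟨Us, hUs, hUeq⟩ := TopologicalSpace.Opens.isBasis_iff_cover.1 hbasis ⟨U, hU⟩
  have hU' : U = ⋃ W ∈ Us, (W : Set c.pt) := by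
    have := congrArg (fun W : c.pt.Opens => (W : Set c.pt)) hUeq
    simpa using this
  rw [hU', Set.image_iUnion₂]
  refine isOpen_biUnion fun W hW => ?_
  obtain ⟨j, V, -, rfl⟩ := hUs hW
  let k := IsCofiltered.min j i
  let g : k ⟶ j := IsCofiltered.minToLeft j i
  let φ : k ⟶ i := IsCofiltered.minToRight j i
  have h1 : (c.π.app i) '' ((c.π.app j ⁻¹ᵁ V : c.pt.Opens) : Set c.pt) =
      (D.map φ) '' ((D.map g) ⁻¹' (V : Set (D.obj j))) := by
    ext y
    constructor
    · rintro ⟨x, hx, rfl⟩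
      refine ⟨(c.π.app k) x, ?_, π_comp_apply D c φ x⟩
      simp only [Set.mem_preimage]
      rw [π_comp_apply]
      exact hx
    · rintro ⟨z, hz, rfl⟩
      obtain ⟨x, rfl⟩ := hs k φ z
      refine ⟨x, ?_, (π_comp_apply D c φ x).symm⟩
      simp only [Set.mem_preimage] at hz
      rw [π_comp_apply] at hz
      exact hz
  rw [h1]
  exact h k φ _ (V.2.preimage (D.map g).continuous)

omit [IsCofiltered I] [∀ {i j : I} (f : i ⟶ j), IsAffineHom (D.map f)] in
theorem isOpenMap_map_of_isOpenMap_π (i : I) {j : I} (φ : j ⟶ i)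
    (hs : Function.Surjective (c.π.app j)) (h : IsOpenMap (c.π.app i)) : IsOpenMap (D.map φ) := by
  intro V hV
  have h1 : (D.map φ) '' V = (c.π.app i) '' ((c.π.app j) ⁻¹' V) := by
    ext y
    constructor
    · rintro ⟨z, hz, rfl⟩
      obtain ⟨x, rfl⟩ := hs z
      exact ⟨x, hz, (π_comp_apply D c φ x).symm⟩
    · rintro ⟨x, hx, rfl⟩
      exact ⟨(c.π.app j) x, hx, π_comp_apply D c φ x⟩
  rw [h1]
  exact h _ (hV.preimage (c.π.app j).continuous)

end Groth.Agent.Lib.LimOpenMap
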