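import Groth.Agent.Lib.LimDescentIso

/-!
# Open maps at the limit (EGA IV 8.10.x) (helper96)

If the stage morphisms `f_j` are open maps for all large `j`, so is the limit morphism.
-/

set_option autoImplicit false
universe u

open CategoryTheory Limits AlgebraicGeometry

namespace Groth.Agent.Lib.LimDescent

open Groth.Agent.Lib.LimPullback

variable {I : Type u} [Category.{u} I] (D : I ⥤ Scheme.{u}) (c : Cone D) [IsCofiltered I]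
variable {i₀ : I} {X₀ Y₀ : Scheme.{u}} (f₀ : X₀ ⟶ Y₀) (g₀ : Y₀ ⟶ D.obj i₀)
variable (hc : IsLimit c) [∀ {i j} (f : i ⟶ j), IsAffineHom (D.map f)]

include hc in
/-- If the stage maps are open from some stage on, the limit map is open. -/
theorem isOpenMap_bcMap_of_stage {i : I} (φ : i ⟶ i₀)
    (h : ∀ (j : I) (ψ : j ⟶ i), IsOpenMap ⇑(bcMap f₀ g₀ (D.map (ψ ≫ φ)))) :
    IsOpenMap ⇑(bcMap f₀ g₀ (c.π.app i₀)) := by
  have hB := isBasis_preimage_isAffineOpen (pbDiagram D i₀ (f₀ ≫ g₀)) (pbCone D c i₀ (f₀ ≫ g₀))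
    (isLimitPbCone hc)
  rw [TopologicalSpace.Opens.IsBasis] at hB
  refine (TopologicalSpace.IsTopologicalBasis.isOpenMap_iff hB).mpr ?_
  rintro _ ⟨_, ⟨j, V, -, rfl⟩, rfl⟩
  let V' : (pullback (f₀ ≫ g₀) (D.map j.hom)).Opens := V
  change IsOpen (⇑(bcMap f₀ g₀ (c.π.app i₀)) ''
    ((pbProj D c i₀ (f₀ ≫ g₀) j).base ⁻¹' (V' : Set ↥(pullback (f₀ ≫ g₀) (D.map j.hom)))))
  obtain ⟨k, a, b, hab⟩ := IsCofiltered.cospan j.hom φ
  let k' : Over i₀ := Over.mk (b ≫ φ)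
  let m : k' ⟶ j := Over.homMk a hab
  have e : pbProj D c i₀ (f₀ ≫ g₀) k' ≫ pbMap D i₀ (f₀ ≫ g₀) m = pbProj D c i₀ (f₀ ≫ g₀) j :=
    pbProj_pbMap D c i₀ (f₀ ≫ g₀) m
  have e1 : (pbProj D c i₀ (f₀ ≫ g₀) j).base ⁻¹'
      (V' : Set ↥(pullback (f₀ ≫ g₀) (D.map j.hom))) =
      (pbProj D c i₀ (f₀ ≫ g₀) k').base ⁻¹'
        ((pbMap D i₀ (f₀ ≫ g₀) m ⁻¹ᵁ V' : (pullback (f₀ ≫ g₀) (D.map k'.hom)).Opens) :
          Set ↥(pullback (f₀ ≫ g₀) (D.map k'.hom))) := by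
    rw [← e]
    rfl
  rw [e1, Scheme.image_preimage_eq_of_isPullback (isPullback_pbProj_bcMap D c f₀ g₀ k')]
  exact ((h k b) _ (pbMap D i₀ (f₀ ≫ g₀) m ⁻¹ᵁ V').2).preimage
    (pbProj D c i₀ g₀ k').base.hom.continuous

end Groth.Agent.Lib.LimDescent
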