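import Groth.Agent.Lib.ChowAll68
import Groth.Agent.Lib.LimDescentSep
import Groth.Agent.Lib.LimDescentGen
import Groth.Agent.Lib.LimDescentRebase
import Mathlib.AlgebraicGeometry.ZariskisMainTheorem

/-!
# Descent of properness through cofiltered limits for morphisms of finite type (helper68)

Stacks 081F / EGA IV 8.10.5 (xii) without finite presentation: `f₀` of finite type, its base change
to the limit proper ⇒ proper at some stage.  By Chow's lemma (`Lib/ChowAll68.chow_general`) and the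
descent of closed immersions and separatedness for finite type morphisms (helper62's
`Lib/LimDescent*`).
-/

set_option autoImplicit false
universe u

open CategoryTheory Limits AlgebraicGeometry CohB1

namespace Groth.Agent.Lib.LimDescent

open Groth.Agent.Lib.LimPullback

section comp

variable {W₀ X₀ Y₀ B : Scheme.{u}}

/-- The composite of the base changes is a base change of the composite. -/
theorem isBC_comp (a : W₀ ⟶ X₀) (f₀ : X₀ ⟶ Y₀) (g₀ : Y₀ ⟶ B) {B' : Scheme.{u}} (b : B' ⟶ B) :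
    IsBC (a ≫ f₀) g₀ b (bcMap a (f₀ ≫ g₀) b ≫ bcMap f₀ g₀ b) :=
  ⟨pullback.fst g₀ b, pullback.snd g₀ b, pullback.fst (a ≫ f₀ ≫ g₀) b,
    IsPullback.of_hasPullback g₀ b,
    (isPullback_bcMap a (f₀ ≫ g₀) b).paste_vert (isPullback_bcMap f₀ g₀ b)⟩

theorem comp_iff (P : MorphismProperty Scheme.{u}) [P.RespectsIso] (a : W₀ ⟶ X₀) (f₀ : X₀ ⟶ Y₀)
    (g₀ : Y₀ ⟶ B) {B' : Scheme.{u}} (b : B' ⟶ B) :
    P (bcMap a (f₀ ≫ g₀) b ≫ bcMap f₀ g₀ b) ↔ P (bcMap (a ≫ f₀) g₀ b) :=
  IsBC.iff_of_isBC P (isBC_comp a f₀ g₀ b) (isBC_bcMap (a ≫ f₀) g₀ b)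

end comp

variable {I : Type u} [Category.{u} I] (D : I ⥤ Scheme.{u}) (c : Cone D)
variable [IsCofiltered I] (hc : IsLimit c) [∀ {i j} (f : i ⟶ j), IsAffineHom (D.map f)]
variable {i₀ : I} {X₀ Y₀ : Scheme.{u}} (f₀ : X₀ ⟶ Y₀) (g₀ : Y₀ ⟶ D.obj i₀)

include hc in
/-- Descent of properness for separated morphisms of finite type. -/
theorem exists_isProper_stage_of_isSeparated [CompactSpace Y₀] [QuasiSeparatedSpace Y₀]
    [QuasiCompact f₀] [LocallyOfFiniteType f₀] [IsSeparated f₀]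
    (h : IsProper (bcMap f₀ g₀ (c.π.app i₀))) :
    ∃ j : Over i₀, IsProper (bcMap f₀ g₀ (D.map j.hom)) := by
  obtain ⟨n, X₀', π₀, j₀, hj₀, hjπ, hπ₀, hπs⟩ := Groth.Agent.Lib.ChowAll68.chow_general f₀
  have hprop : IsProper (ProjSpaceOver.toBase n Y₀) :=
    Groth.Agent.Lib.ProjSpaceProper.isProper_toBase n Y₀
  have hcP : CompactSpace (ProjSpaceOver n Y₀) :=
    QuasiCompact.compactSpace_of_compactSpace (ProjSpaceOver.toBase n Y₀)
  have hqc : QuasiCompact j₀ := by
    have : QuasiCompact (j₀ ≫ ProjSpaceOver.toBase n Y₀) := by rw [hjπ]; infer_instance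
    exact QuasiCompact.of_comp j₀ (ProjSpaceOver.toBase n Y₀)
  have hlft : LocallyOfFiniteType j₀ := by
    have : LocallyOfFiniteType (j₀ ≫ ProjSpaceOver.toBase n Y₀) := by rw [hjπ]; infer_instance
    exact locallyOfFiniteType_of_comp j₀ (ProjSpaceOver.toBase n Y₀)
  -- the key comparison, for every base change
  have key : ∀ {B' : Scheme.{u}} (b : B' ⟶ D.obj i₀),
      IsProper (bcMap j₀ (ProjSpaceOver.toBase n Y₀ ≫ g₀) b ≫
        bcMap (ProjSpaceOver.toBase n Y₀) g₀ b) ↔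
      IsProper (bcMap π₀ (f₀ ≫ g₀) b ≫ bcMap f₀ g₀ b) := by
    intro B' b
    have h1 := comp_iff @IsProper j₀ (ProjSpaceOver.toBase n Y₀) g₀ b
    have h2 := comp_iff @IsProper π₀ f₀ g₀ b
    rw [h1, h2, hjπ]
  have hT : ∀ {B' : Scheme.{u}} (b : B' ⟶ D.obj i₀),
      IsProper (bcMap (ProjSpaceOver.toBase n Y₀) g₀ b) := fun b =>
    MorphismProperty.of_isPullback (P := @IsProper)
      (isPullback_bcMap (ProjSpaceOver.toBase n Y₀) g₀ b) hprop
  have hPi : ∀ {B' : Scheme.{u}} (b : B' ⟶ D.obj i₀), IsProper (bcMap π₀ (f₀ ≫ g₀) b) := fun b =>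
    MorphismProperty.of_isPullback (P := @IsProper) (isPullback_bcMap π₀ (f₀ ≫ g₀) b) hπ₀
  have hPis : ∀ {B' : Scheme.{u}} (b : B' ⟶ D.obj i₀), Surjective (bcMap π₀ (f₀ ≫ g₀) b) :=
    fun b => MorphismProperty.of_isPullback (P := @Surjective)
      (isPullback_bcMap π₀ (f₀ ≫ g₀) b) hπs
  have hA : ∀ {B' : Scheme.{u}} (b : B' ⟶ D.obj i₀),
      IsImmersion (bcMap j₀ (ProjSpaceOver.toBase n Y₀ ≫ g₀) b) := fun b =>
    MorphismProperty.of_isPullback (P := @IsImmersion)
      (isPullback_bcMap j₀ (ProjSpaceOver.toBase n Y₀ ≫ g₀) b) hj₀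
  -- at the limit the immersion is a closed immersion
  have hlim : IsClosedImmersion
      (bcMap j₀ (ProjSpaceOver.toBase n Y₀ ≫ g₀) (c.π.app i₀)) := by
    have h1 : IsProper (bcMap j₀ (ProjSpaceOver.toBase n Y₀ ≫ g₀) (c.π.app i₀) ≫
        bcMap (ProjSpaceOver.toBase n Y₀) g₀ (c.π.app i₀)) := by
      rw [key]
      have := hPi (c.π.app i₀)
      infer_instance
    have := hT (c.π.app i₀)
    have h2 : IsProper (bcMap j₀ (ProjSpaceOver.toBase n Y₀ ≫ g₀) (c.π.app i₀)) :=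
      IsProper.of_comp _ (bcMap (ProjSpaceOver.toBase n Y₀) g₀ (c.π.app i₀))
    have := hA (c.π.app i₀)
    exact (IsClosedImmersion.iff_isProper_and_mono _).mpr ⟨h2, inferInstance⟩
  obtain ⟨j, hj⟩ := exists_isClosedImmersion_stage D c hc j₀ (ProjSpaceOver.toBase n Y₀ ≫ g₀) hlim
  refine ⟨j, ?_⟩
  have h1 : IsProper (bcMap π₀ (f₀ ≫ g₀) (D.map j.hom) ≫ bcMap f₀ g₀ (D.map j.hom)) := by
    rw [← key]
    have := hT (D.map j.hom)
    infer_instance
  have := hPis (D.map j.hom)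
  have h2 : UniversallyClosed (bcMap f₀ g₀ (D.map j.hom)) :=
    UniversallyClosed.of_comp_surjective (bcMap π₀ (f₀ ≫ g₀) (D.map j.hom)) _
  have h3 : IsSeparated (bcMap f₀ g₀ (D.map j.hom)) :=
    MorphismProperty.of_isPullback (P := @IsSeparated)
      (isPullback_bcMap f₀ g₀ (D.map j.hom)) inferInstance
  have h4 : LocallyOfFiniteType (bcMap f₀ g₀ (D.map j.hom)) :=
    MorphismProperty.of_isPullback (P := @LocallyOfFiniteType)
      (isPullback_bcMap f₀ g₀ (D.map j.hom)) inferInstance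
  have h5 : QuasiCompact (bcMap f₀ g₀ (D.map j.hom)) :=
    MorphismProperty.of_isPullback (P := @QuasiCompact)
      (isPullback_bcMap f₀ g₀ (D.map j.hom)) inferInstance
  exact { }

include hc in
/-- **Descent of properness** (finite type suffices). -/
theorem exists_isProper_stage [CompactSpace Y₀] [QuasiSeparatedSpace Y₀]
    [QuasiCompact f₀] [QuasiSeparated f₀] [LocallyOfFiniteType f₀]
    (h : IsProper (bcMap f₀ g₀ (c.π.app i₀))) :
    ∃ j : Over i₀, IsProper (bcMap f₀ g₀ (D.map j.hom)) := by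
  obtain ⟨k, hk⟩ := exists_isSeparated_stage D c hc f₀ g₀ (inferInstance : IsSeparated _)
  refine exists_stage_of_rebase D c f₀ g₀ @IsProper k (fun h' => ?_) h
  have : CompactSpace ↥(pullback g₀ (D.map k.hom)) := compactSpace_pb D i₀ g₀ k
  have : QuasiSeparatedSpace ↥(pullback g₀ (D.map k.hom)) := quasiSeparatedSpace_pb D i₀ g₀ k
  have : QuasiCompact (bcMap f₀ g₀ (D.map k.hom)) :=
    MorphismProperty.of_isPullback (P := @QuasiCompact)
      (isPullback_bcMap f₀ g₀ (D.map k.hom)) inferInstance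
  have : LocallyOfFiniteType (bcMap f₀ g₀ (D.map k.hom)) :=
    MorphismProperty.of_isPullback (P := @LocallyOfFiniteType)
      (isPullback_bcMap f₀ g₀ (D.map k.hom)) inferInstance
  exact exists_isProper_stage_of_isSeparated D c hc _ _ h'

end Groth.Agent.Lib.LimDescent
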