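import Groth.Agent.Lib.ChowAll68
import Groth.Agent.Lib.LimClosedIntoStage2
import Groth.Agent.Lib.LimDescent

/-!
# Proper morphisms into a limit are proper into a stage (helper68)

`X = lim Xᵢ` over `S` (affine transitions, `Xᵢ` qcqs), `h : Y ⟶ X` proper with `Y ⟶ S` locally of
finite type: then `Y ⟶ Xᵢ` is proper for all small `i`.  By Chow's lemma
(`Lib/ChowAll68.chow_general`) and helper62's `exists_isClosedImmersion_into_stage` applied to the
system `P^n_{X_{i₀}} ×_{X_{i₀}} Xᵢ`.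
-/

set_option autoImplicit false
universe u

open CategoryTheory Limits AlgebraicGeometry CohB1

namespace Groth.Agent.Lib.LimProperStage68

open Groth.Agent.Lib.LimPullback Groth.Agent.Lib.LimDescent Groth.Agent.Lib.LimStructureMap

variable {I : Type u} [Category.{u} I] [IsCofiltered I] (D : I ⥤ Scheme.{u}) (c : Cone D)
variable (hc : IsLimit c) {S : Scheme.{u}} (τ : ∀ i, D.obj i ⟶ S)
variable (hτ : ∀ {i j : I} (f : i ⟶ j), D.map f ≫ τ j = τ i)

include hc hτ in
theorem eventually_isProper [∀ {i j : I} (f : i ⟶ j), IsAffineHom (D.map f)]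
    [∀ i, CompactSpace (D.obj i)] [∀ i, QuasiSeparatedSpace (D.obj i)] (i₀ : I) {Y : Scheme.{u}}
    (h : Y ⟶ c.pt) [IsProper h] [LocallyOfFiniteType (h ≫ c.π.app i₀ ≫ τ i₀)] :
    ∃ i₁ : I, ∀ (i : I) (_ : i ⟶ i₁), IsProper (h ≫ c.π.app i) := by
  have haff : ∀ i, IsAffineHom (c.π.app i) := fun i => isAffineHom_π_app D c hc i
  have hlftS : ∀ i, LocallyOfFiniteType ((h ≫ c.π.app i) ≫ τ i) := by
    intro i
    obtain ⟨k, a, b, -⟩ := IsCofilteredOrEmpty.cone_objs i i₀
    have e1 : c.π.app i ≫ τ i = c.π.app k ≫ τ k := by rw [← c.w a, Category.assoc, hτ a]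
    have e2 : c.π.app i₀ ≫ τ i₀ = c.π.app k ≫ τ k := by rw [← c.w b, Category.assoc, hτ b]
    have e : (h ≫ c.π.app i) ≫ τ i = h ≫ c.π.app i₀ ≫ τ i₀ := by
      rw [Category.assoc, e1, e2]
    rw [e]
    infer_instance
  have hlft : ∀ i, LocallyOfFiniteType (h ≫ c.π.app i) := fun i =>
    have := hlftS i
    locallyOfFiniteType_of_comp (h ≫ c.π.app i) (τ i)
  have := hlft i₀
  obtain ⟨n, Y', π, j₀, hj₀, hjπ, hπ, hπs⟩ :=
    Groth.Agent.Lib.ChowAll68.chow_general (h ≫ c.π.app i₀)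
  have ha : IsProper (ProjSpaceOver.toBase n (D.obj i₀)) :=
    Groth.Agent.Lib.ProjSpaceProper.isProper_toBase n (D.obj i₀)
  have hcP : CompactSpace (ProjSpaceOver n (D.obj i₀)) :=
    QuasiCompact.compactSpace_of_compactSpace (ProjSpaceOver.toBase n (D.obj i₀))
  -- the lift to the limit of the projective spaces
  let h' : Y' ⟶ pullback (ProjSpaceOver.toBase n (D.obj i₀)) (c.π.app i₀) :=
    pullback.lift j₀ (π ≫ h) (by rw [hjπ, Category.assoc])
  have h'1 : h' ≫ pullback.fst _ _ = j₀ := pullback.lift_fst _ _ _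
  have h'2 : h' ≫ pullback.snd _ _ = π ≫ h := pullback.lift_snd _ _ _
  have hcl : IsClosedImmersion h' := by
    have h1 : IsImmersion (h' ≫ pullback.fst (ProjSpaceOver.toBase n (D.obj i₀)) (c.π.app i₀)) := by
      rw [h'1]; exact hj₀
    have h2 : IsImmersion h' := IsImmersion.of_comp h' (pullback.fst _ _)
    have h3 : IsProper (h' ≫ pullback.snd (ProjSpaceOver.toBase n (D.obj i₀)) (c.π.app i₀)) := by
      rw [h'2]; infer_instance
    have h4 : IsProper h' := IsProper.of_comp h' (pullback.snd _ _)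
    exact (IsClosedImmersion.iff_isProper_and_mono _).mpr ⟨h4, inferInstance⟩
  -- structure maps of the system of projective spaces
  let τ' : ∀ j : Over i₀, (pbDiagram D i₀ (ProjSpaceOver.toBase n (D.obj i₀))).obj j ⟶ S :=
    fun j => pullback.fst (ProjSpaceOver.toBase n (D.obj i₀)) (D.map j.hom) ≫
      ProjSpaceOver.toBase n (D.obj i₀) ≫ τ i₀
  have hτ' : ∀ {j k : Over i₀} (f : j ⟶ k),
      (pbDiagram D i₀ (ProjSpaceOver.toBase n (D.obj i₀))).map f ≫ τ' k = τ' j := by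
    intro j k f
    change pbMap D i₀ _ f ≫ pullback.fst _ _ ≫ _ = _
    rw [pbMap_fst_assoc]
    rfl
  have hlft' : LocallyOfFiniteType (h' ≫ (pbCone D c i₀ (ProjSpaceOver.toBase n (D.obj i₀))).π.app
      (Over.mk (𝟙 i₀)) ≫ τ' (Over.mk (𝟙 i₀))) := by
    have e : h' ≫ (pbCone D c i₀ (ProjSpaceOver.toBase n (D.obj i₀))).π.app (Over.mk (𝟙 i₀)) ≫
        τ' (Over.mk (𝟙 i₀)) = π ≫ (h ≫ c.π.app i₀) ≫ τ i₀ := by
      change h' ≫ pbProj D c i₀ _ (Over.mk (𝟙 i₀)) ≫ pullback.fst _ _ ≫ _ = _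
      rw [pbProj_fst_assoc, ← Category.assoc, h'1, ← Category.assoc, hjπ, Category.assoc]
    rw [e]
    have := hlftS i₀
    infer_instance
  let c' : Cone (pbDiagram D i₀ (ProjSpaceOver.toBase n (D.obj i₀))) :=
    pbCone D c i₀ (ProjSpaceOver.toBase n (D.obj i₀))
  let h'' : Y' ⟶ c'.pt := h'
  have hcl' : IsClosedImmersion h'' := hcl
  have hlft'' : LocallyOfFiniteType (h'' ≫ c'.π.app (Over.mk (𝟙 i₀)) ≫ τ' (Over.mk (𝟙 i₀))) :=
    hlft'
  obtain ⟨j, hj⟩ := exists_isClosedImmersion_into_stage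
    (pbDiagram D i₀ (ProjSpaceOver.toBase n (D.obj i₀))) c'
    (isLimitPbCone (D := D) (c := c) (i := i₀) (a := ProjSpaceOver.toBase n (D.obj i₀)) hc)
    τ' hτ' (Over.mk (𝟙 i₀)) h''
  have hclj : IsClosedImmersion
      (h' ≫ pbProj D c i₀ (ProjSpaceOver.toBase n (D.obj i₀)) j.left) := hj j (𝟙 j)
  -- properness at the stage `j.left.left`
  have h1 : IsProper (h ≫ c.π.app j.left.left) := by
    have e : (h' ≫ pbProj D c i₀ (ProjSpaceOver.toBase n (D.obj i₀)) j.left) ≫
        pullback.snd (ProjSpaceOver.toBase n (D.obj i₀)) (D.map j.left.hom) =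
        π ≫ h ≫ c.π.app j.left.left := by
      rw [Category.assoc, pbProj_snd, ← Category.assoc, h'2, Category.assoc]
    have hsnd : IsProper (pullback.snd (ProjSpaceOver.toBase n (D.obj i₀)) (D.map j.left.hom)) :=
      inferInstance
    have h2 : IsProper (π ≫ h ≫ c.π.app j.left.left) := by
      rw [← e]; infer_instance
    have h3 : UniversallyClosed (h ≫ c.π.app j.left.left) :=
      UniversallyClosed.of_comp_surjective π _
    have := hlft j.left.left
    exact { }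
  refine ⟨j.left.left, fun i φ => ?_⟩
  have e2 : (h ≫ c.π.app i) ≫ D.map φ = h ≫ c.π.app j.left.left := by
    rw [Category.assoc, c.w]
  have h5 : IsProper ((h ≫ c.π.app i) ≫ D.map φ) := by rw [e2]; exact h1
  exact IsProper.of_comp _ (D.map φ)

end Groth.Agent.Lib.LimProperStage68
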