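import Groth.Agent.Lib.LimProper68
import Groth.Prelude.Def_ClSub2

/-!
# Closed subsets proper over the base and cofiltered limits (helper68)

* `isSeparated_of_comp_surjective_closedImmersion`: separatedness is insensitive to nilpotents.
* `isProper_of_isProperOver`, `isProperOver_range`: `ClSub.IsProperOver f Z` in terms of an arbitrary
  closed subscheme structure on `Z`.
* `exists_isProperOver_stage`: descent of `IsProperOver` of the preimage of a closed set through a
  cofiltered limit (finite type suffices).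
-/

set_option autoImplicit false
universe u

open CategoryTheory Limits AlgebraicGeometry TopologicalSpace

namespace Groth.Agent.Lib.LimProperSupport68

/-- Separatedness can be checked after a surjective closed immersion into the source. -/
theorem isSeparated_of_comp_surjective_closedImmersion {W' W Y : Scheme.{u}} (k : W' ⟶ W)
    [IsClosedImmersion k] [Surjective k] (g : W ⟶ Y) [IsSeparated (k ≫ g)] : IsSeparated g := by
  let m : pullback (k ≫ g) (k ≫ g) ⟶ pullback g g :=
    pullback.map (k ≫ g) (k ≫ g) g g k k (𝟙 Y) (by simp) (by simp)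
  have hm : pullback.diagonal (k ≫ g) ≫ m = k ≫ pullback.diagonal g := by
    apply pullback.hom_ext
    · rw [Category.assoc, pullback.lift_fst, pullback.diagonal_fst_assoc, Category.assoc,
        pullback.diagonal_fst, Category.comp_id]
    · rw [Category.assoc, pullback.lift_snd, pullback.diagonal_snd_assoc, Category.assoc,
        pullback.diagonal_snd, Category.comp_id]
  have hmcl : IsClosedImmersion m :=
    MorphismProperty.pullbackMap (P := @IsClosedImmersion) (inferInstance : IsClosedImmersion k)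
      (inferInstance : IsClosedImmersion k) rfl rfl
  have hrange : Set.range (pullback.diagonal g) =
      m '' Set.range (pullback.diagonal (k ≫ g)) := by
    ext y
    constructor
    · rintro ⟨w, rfl⟩
      obtain ⟨w', rfl⟩ := k.surjective w
      refine ⟨pullback.diagonal (k ≫ g) w', Set.mem_range_self _, ?_⟩
      rw [← Scheme.Hom.comp_apply, hm, Scheme.Hom.comp_apply]
    · rintro ⟨_, ⟨w', rfl⟩, rfl⟩
      refine ⟨k w', ?_⟩
      rw [← Scheme.Hom.comp_apply, ← hm, Scheme.Hom.comp_apply]
  have hcl : IsClosed (Set.range (pullback.diagonal g)) := by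
    rw [hrange]
    exact m.isClosedEmbedding.isClosedMap _
      (pullback.diagonal (k ≫ g)).isClosedEmbedding.isClosed_range
  exact ⟨IsClosedImmersion.of_isPreimmersion _ hcl⟩

variable {X S : Scheme.{u}}

/-- The comparison from the reduced induced structure to any closed subscheme structure. -/
theorem exists_reduced_fac {W : Scheme.{u}} (ι : W ⟶ X) [IsClosedImmersion ι]
    (hcl : IsClosed (Set.range ι)) :
    ∃ k : (Scheme.IdealSheafData.vanishingIdeal ⟨Set.range ι, hcl⟩).subscheme ⟶ W,
      k ≫ ι = (Scheme.IdealSheafData.vanishingIdeal ⟨Set.range ι, hcl⟩).subschemeι ∧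
      IsClosedImmersion k ∧ Surjective k := by
  let I : X.IdealSheafData := Scheme.IdealSheafData.vanishingIdeal ⟨Set.range ι, hcl⟩
  have hle : ι.ker ≤ I.subschemeι.ker := by
    rw [I.ker_subschemeι, ← Scheme.IdealSheafData.le_support_iff_le_vanishingIdeal]
    intro x hx
    have h1 : (ι.ker.support : Set X) = closure (Set.range ι) := Scheme.Hom.support_ker ι
    change x ∈ (ι.ker.support : Set X)
    rw [h1]
    exact subset_closure hx
  let k := IsClosedImmersion.lift ι I.subschemeι hle
  have hk : k ≫ ι = I.subschemeι := IsClosedImmersion.lift_fac _ _ _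
  have hkcl : IsClosedImmersion k := by
    have : IsClosedImmersion (k ≫ ι) := by rw [hk]; infer_instance
    exact IsClosedImmersion.of_comp k ι
  refine ⟨k, hk, hkcl, ⟨fun w => ?_⟩⟩
  have hw : ι w ∈ Set.range I.subschemeι := by
    rw [I.range_subschemeι]
    simp only [I, Scheme.IdealSheafData.coe_support_vanishingIdeal]
    exact Set.mem_range_self w
  obtain ⟨z, hz⟩ := hw
  refine ⟨z, ι.isClosedEmbedding.injective ?_⟩
  rw [← Scheme.Hom.comp_apply, hk, hz]

/-- If `Z = range ι` is proper over `S` then so is any closed subscheme structure on it. -/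
theorem isProper_of_isProperOver {W : Scheme.{u}} (f : X ⟶ S) (ι : W ⟶ X) [IsClosedImmersion ι]
    [LocallyOfFiniteType (ι ≫ f)] [QuasiCompact (ι ≫ f)]
    (h : ClSub.IsProperOver f (Set.range ι)) : IsProper (ι ≫ f) := by
  obtain ⟨hcl, hp⟩ := h
  obtain ⟨k, hk, hkcl, hks⟩ := exists_reduced_fac ι hcl
  have h1 : IsProper (k ≫ ι ≫ f) := by rw [← Category.assoc, hk]; exact hp
  have h2 : UniversallyClosed (ι ≫ f) := UniversallyClosed.of_comp_surjective k _
  have h3 : IsSeparated (ι ≫ f) := isSeparated_of_comp_surjective_closedImmersion k _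
  exact { }

/-- The range of a closed subscheme proper over `S` is proper over `S`. -/
theorem isProperOver_range {W : Scheme.{u}} (f : X ⟶ S) (ι : W ⟶ X) [IsClosedImmersion ι]
    [IsProper (ι ≫ f)] : ClSub.IsProperOver f (Set.range ι) := by
  have hcl : IsClosed (Set.range ι) := ι.isClosedEmbedding.isClosed_range
  obtain ⟨k, hk, hkcl, hks⟩ := exists_reduced_fac ι hcl
  refine ⟨hcl, ?_⟩
  rw [← hk, Category.assoc]
  infer_instance

section Lim

open Groth.Agent.Lib.LimDescent Groth.Agent.Lib.LimPullback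

variable {I : Type u} [Category.{u} I] (D : I ⥤ Scheme.{u}) (c : Cone D)
variable [IsCofiltered I] (hc : IsLimit c) [∀ {i j} (f : i ⟶ j), IsAffineHom (D.map f)]
variable {i₀ : I} {X₀ Y₀ : Scheme.{u}} (f₀ : X₀ ⟶ Y₀) (g₀ : Y₀ ⟶ D.obj i₀)

include hc in
/-- Descent of `IsProperOver` for the preimage of a closed subset of `X₀`. -/
theorem exists_isProperOver_descend [CompactSpace Y₀] [QuasiSeparatedSpace Y₀]
    [QuasiCompact f₀] [QuasiSeparated f₀] [LocallyOfFiniteType f₀]
    {Z₀ : Scheme.{u}} (ι₀ : Z₀ ⟶ X₀) [IsClosedImmersion ι₀]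
    {X Y : Scheme.{u}} (f : X ⟶ Y) (g : Y ⟶ c.pt) (qY : Y ⟶ Y₀) (qX : X ⟶ X₀)
    (hY : IsPullback qY g g₀ (c.π.app i₀)) (hX : IsPullback qX f f₀ qY)
    (hF : ClSub.IsProperOver f (qX.base ⁻¹' Set.range ι₀)) :
    ∃ j : Over i₀, ClSub.IsProperOver (bcMap f₀ g₀ (D.map j.hom))
      ((pullback.fst (f₀ ≫ g₀) (D.map j.hom)).base ⁻¹' Set.range ι₀) := by
  have hflft : LocallyOfFiniteType f :=
    MorphismProperty.of_isPullback (P := @LocallyOfFiniteType) hX inferInstance
  have hfqc : QuasiCompact f :=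
    MorphismProperty.of_isPullback (P := @QuasiCompact) hX inferInstance
  have hrange : Set.range (pullback.snd ι₀ qX) = qX.base ⁻¹' Set.range ι₀ :=
    Scheme.Pullback.range_snd ι₀ qX
  have hprop : IsProper (pullback.snd ι₀ qX ≫ f) :=
    isProper_of_isProperOver f (pullback.snd ι₀ qX) (by rw [hrange]; exact hF)
  have hsq : IsPullback (pullback.fst ι₀ qX) (pullback.snd ι₀ qX ≫ f) (ι₀ ≫ f₀) qY :=
    (IsPullback.of_hasPullback ι₀ qX).paste_vert hX
  have hlim : IsProper (bcMap (ι₀ ≫ f₀) g₀ (c.π.app i₀)) :=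
    limMap_of D c @IsProper (ι₀ ≫ f₀) g₀ (pullback.snd ι₀ qX ≫ f) g qY (pullback.fst ι₀ qX) hY hsq
      hprop
  obtain ⟨j, hj⟩ := exists_isProper_stage D c hc (ι₀ ≫ f₀) g₀ hlim
  refine ⟨j, ?_⟩
  have hbc : IsBC (ι₀ ≫ f₀) g₀ (D.map j.hom)
      (pullback.snd ι₀ (pullback.fst (f₀ ≫ g₀) (D.map j.hom)) ≫ bcMap f₀ g₀ (D.map j.hom)) :=
    ⟨pullback.fst g₀ (D.map j.hom), pullback.snd g₀ (D.map j.hom),
      pullback.fst ι₀ (pullback.fst (f₀ ≫ g₀) (D.map j.hom)),
      IsPullback.of_hasPullback g₀ (D.map j.hom),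
      (IsPullback.of_hasPullback ι₀ (pullback.fst (f₀ ≫ g₀) (D.map j.hom))).paste_vert
        (isPullback_bcMap f₀ g₀ (D.map j.hom))⟩
  have hp : IsProper (pullback.snd ι₀ (pullback.fst (f₀ ≫ g₀) (D.map j.hom)) ≫
      bcMap f₀ g₀ (D.map j.hom)) := (hbc.iff @IsProper).mpr hj
  have h1 := isProperOver_range (bcMap f₀ g₀ (D.map j.hom))
    (pullback.snd ι₀ (pullback.fst (f₀ ≫ g₀) (D.map j.hom)))
  rw [Scheme.Pullback.range_snd] at h1
  exact h1

end Lim

end Groth.Agent.Lib.LimProperSupport68
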