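import Mathlib

/-!
# Limit step for separating families into flat modules (helper88)

Pure algebra behind EGA IV 11.9.x: a family of maps `u i : M → N i` into `A`-flat modules, an
`A`-algebra `A'`.  The "twisted multiplication" `Hop C c ρ = Σ_j (c_j ·) ⊗ ρ_j` on `C ⊗[A] M` models
the action of an element `h = Σ_j c_j ⊗ r_j` of `C ⊗[A] R` on `C ⊗[A] M` (with `ρ_j = r_j •`).
`exists_pow_eq_zero_of_forall_fg`: if for all finitely generated `A`-subalgebras `B` of `A'` the family
`B ⊗ M → B ⊗ N i` is "separating on `D(h_B)`", then so is `A' ⊗ M → A' ⊗ N i` on `D(h)`.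
-/

set_option autoImplicit false

open TensorProduct

namespace Groth.Agent.Lib.LimSepAlg88

universe u

variable {A : Type u} [CommRing A]

section Hop

variable (C : Type u) [CommRing C] [Algebra A C] {M : Type u} [AddCommGroup M] [Module A M]
  {n : ℕ}

/-- The operator `Σ_j (c_j ·) ⊗ ρ_j` on `C ⊗[A] M`. -/
noncomputable def Hop (c : Fin n → C) (ρ : Fin n → Module.End A M) : Module.End A (C ⊗[A] M) :=
  ∑ j, TensorProduct.map (LinearMap.mulLeft A (c j)) (ρ j)

theorem Hop_tmul (c : Fin n → C) (ρ : Fin n → Module.End A M) (x : C) (m : M) :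
    Hop C c ρ (x ⊗ₜ m) = ∑ j, (c j * x) ⊗ₜ[A] (ρ j m) := by
  simp [Hop, LinearMap.sum_apply]

variable {C}

/-- Functoriality in the algebra. -/
theorem map_Hop {B : Type u} [CommRing B] [Algebra A B] (ι : B →ₐ[A] C) (c : Fin n → B)
    (ρ : Fin n → Module.End A M) (x : B ⊗[A] M) :
    LinearMap.rTensor M ι.toLinearMap (Hop B c ρ x) =
      Hop C (fun j => ι (c j)) ρ (LinearMap.rTensor M ι.toLinearMap x) := by
  induction x using TensorProduct.induction_on with
  | zero => simp
  | tmul b m => simp [Hop_tmul, map_sum]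
  | add x y hx hy => simp only [map_add, hx, hy]

theorem map_Hop_pow {B : Type u} [CommRing B] [Algebra A B] (ι : B →ₐ[A] C) (c : Fin n → B)
    (ρ : Fin n → Module.End A M) (k : ℕ) (x : B ⊗[A] M) :
    LinearMap.rTensor M ι.toLinearMap ((Hop B c ρ ^ k) x) =
      (Hop C (fun j => ι (c j)) ρ ^ k) (LinearMap.rTensor M ι.toLinearMap x) := by
  induction k generalizing x with
  | zero => simp
  | succ k ih => rw [pow_succ, pow_succ, Module.End.mul_apply, Module.End.mul_apply, ih, map_Hop]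

/-- Functoriality in the module. -/
theorem lTensor_Hop {N : Type u} [AddCommGroup N] [Module A N] (u : M →ₗ[A] N)
    (c : Fin n → C) (ρM : Fin n → Module.End A M) (ρN : Fin n → Module.End A N)
    (hρ : ∀ j m, u (ρM j m) = ρN j (u m)) (x : C ⊗[A] M) :
    LinearMap.lTensor C u (Hop C c ρM x) = Hop C c ρN (LinearMap.lTensor C u x) := by
  induction x using TensorProduct.induction_on with
  | zero => simp
  | tmul b m => simp [Hop_tmul, map_sum, hρ]
  | add x y hx hy => simp only [map_add, hx, hy]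

theorem lTensor_Hop_pow {N : Type u} [AddCommGroup N] [Module A N] (u : M →ₗ[A] N)
    (c : Fin n → C) (ρM : Fin n → Module.End A M) (ρN : Fin n → Module.End A N)
    (hρ : ∀ j m, u (ρM j m) = ρN j (u m)) (k : ℕ) (x : C ⊗[A] M) :
    LinearMap.lTensor C u ((Hop C c ρM ^ k) x) = (Hop C c ρN ^ k) (LinearMap.lTensor C u x) := by
  induction k generalizing x with
  | zero => simp
  | succ k ih =>
    rw [pow_succ, pow_succ, Module.End.mul_apply, Module.End.mul_apply, ih,
      lTensor_Hop u c ρM ρN hρ]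

end Hop

section Main

variable {A' : Type u} [CommRing A'] [Algebra A A'] {M : Type u} [AddCommGroup M] [Module A M]

/-- Every element of `A' ⊗ M` comes from `B ⊗ M` for a finitely generated subalgebra `B` containing
a prescribed finite set. -/
theorem exists_fg_subalgebra_lift (s : Finset A') (x : A' ⊗[A] M) :
    ∃ (B : Subalgebra A A'), B.FG ∧ (↑s ⊆ (B : Set A')) ∧
      ∃ y : B ⊗[A] M, LinearMap.rTensor M B.val.toLinearMap y = x := by
  classical
  induction x using TensorProduct.induction_on with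
  | zero =>
    exact ⟨Algebra.adjoin A ↑s, Subalgebra.fg_adjoin_finset s, Algebra.subset_adjoin, 0, map_zero _⟩
  | tmul a m =>
    refine ⟨Algebra.adjoin A ↑(insert a s), Subalgebra.fg_adjoin_finset _, ?_, ?_⟩
    · intro z hz
      exact Algebra.subset_adjoin (Finset.mem_insert_of_mem hz)
    · exact ⟨⟨a, Algebra.subset_adjoin (Finset.mem_insert_self a s)⟩ ⊗ₜ m, by simp⟩
  | add x y hx hy =>
    obtain ⟨B₁, hB₁, hs₁, y₁, hy₁⟩ := hx
    obtain ⟨B₂, hB₂, -, y₂, hy₂⟩ := hy
    refine ⟨B₁ ⊔ B₂, hB₁.sup hB₂, hs₁.trans (by exact_mod_cast (le_sup_left : B₁ ≤ B₁ ⊔ B₂)), ?_⟩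
    refine ⟨LinearMap.rTensor M (Subalgebra.inclusion (le_sup_left : B₁ ≤ B₁ ⊔ B₂)).toLinearMap y₁ +
      LinearMap.rTensor M (Subalgebra.inclusion (le_sup_right : B₂ ≤ B₁ ⊔ B₂)).toLinearMap y₂, ?_⟩
    rw [map_add, ← hy₁, ← hy₂, ← LinearMap.comp_apply, ← LinearMap.comp_apply,
      ← LinearMap.rTensor_comp, ← LinearMap.rTensor_comp]
    rfl

/-- **Limit step.** -/
theorem exists_pow_eq_zero_of_forall_fg {ι : Type*} (N : ι → Type u) [∀ i, AddCommGroup (N i)]
    [∀ i, Module A (N i)] [∀ i, Module.Flat A (N i)] (u : ∀ i, M →ₗ[A] N i) {n : ℕ}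
    (a' : Fin n → A') (ρM : Fin n → Module.End A M) (ρN : ∀ i, Fin n → Module.End A (N i))
    (hρ : ∀ i j m, u i (ρM j m) = ρN i j (u i m))
    (hB : ∀ (B : Subalgebra A A'), B.FG → ∀ (c : Fin n → B), (∀ j, (c j : A') = a' j) →
      ∀ y : B ⊗[A] M, (∀ i, ∃ k, (Hop B c (ρN i) ^ k) (LinearMap.lTensor B (u i) y) = 0) →
        ∃ k, (Hop B c ρM ^ k) y = 0)
    (x : A' ⊗[A] M)
    (hx : ∀ i, ∃ k, (Hop A' a' (ρN i) ^ k) (LinearMap.lTensor A' (u i) x) = 0) :
    ∃ k, (Hop A' a' ρM ^ k) x = 0 := by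
  classical
  obtain ⟨B, hBfg, hsB, y, hy⟩ := exists_fg_subalgebra_lift (Finset.univ.image a') x
  have hmem : ∀ j, a' j ∈ B := fun j => hsB (by simp)
  let c : Fin n → B := fun j => ⟨a' j, hmem j⟩
  have hc : (fun j => B.val (c j)) = a' := rfl
  obtain ⟨k, hk⟩ := hB B hBfg c (fun _ => rfl) y (by
    intro i
    obtain ⟨k, hk⟩ := hx i
    refine ⟨k, ?_⟩
    have hinj : Function.Injective (LinearMap.rTensor (N i) B.val.toLinearMap) :=
      Module.Flat.rTensor_preserves_injective_linearMap _ Subtype.val_injective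
    apply hinj
    have hcomm : LinearMap.rTensor (N i) B.val.toLinearMap (LinearMap.lTensor B (u i) y) =
        LinearMap.lTensor A' (u i) (LinearMap.rTensor M B.val.toLinearMap y) := by
      rw [← LinearMap.comp_apply, ← LinearMap.comp_apply, LinearMap.rTensor_comp_lTensor,
        LinearMap.lTensor_comp_rTensor]
    rw [map_zero, map_Hop_pow, hc, hcomm, hy]
    exact hk)
  refine ⟨k, ?_⟩
  have := congrArg (LinearMap.rTensor M B.val.toLinearMap) hk
  rw [map_zero, map_Hop_pow, hc, hy] at this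
  exact this

end Main

end Groth.Agent.Lib.LimSepAlg88
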