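import Groth.Agent.Lib.NilSepSch88
import Groth.Agent.Lib.LimSepAlg88

set_option autoImplicit false
set_option maxHeartbeats 400000
set_option linter.style.haveILetI false

namespace Groth.Agent.Lib.LimSepSch88

open AlgebraicGeometry CategoryTheory Limits TopologicalSpace TensorProduct
open Groth.Agent.Lib.NilDenseSch88 Groth.Agent.Lib.QCohStalk Groth.Agent.Lib.NilSepSch88
open Groth.Agent.Lib.LimSepAlg88

universe u

section Alg

variable {A C R R' M M' : Type u} [CommRing A] [CommRing C] [CommRing R] [CommRing R']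
  [Algebra A C] [Algebra A R] [Algebra C R'] [Algebra R R'] [Algebra A R']
  [IsScalarTower A R R'] [IsScalarTower A C R'] [Algebra.IsPushout A C R R']
  [AddCommGroup M] [Module A M] [Module R M] [IsScalarTower A R M]
  [AddCommGroup M'] [Module R M'] [Module R' M'] [IsScalarTower R R' M']

theorem exists_addEquiv (θ : M →ₗ[R] M') (hθ : IsBaseChange R' θ) :
    ∃ e : C ⊗[A] M ≃+ M', ∀ (c : C) (m : M), e (c ⊗ₜ m) = algebraMap C R' c • θ m := by
  refine ⟨(Algebra.IsPushout.cancelBaseChange A C R R' M).symm.toAddEquiv.trans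
    hθ.equiv.toAddEquiv, fun c m => ?_⟩
  simp [IsBaseChange.equiv_tmul]

omit [Algebra.IsPushout A C R R'] in
theorem exists_sum_eq (hb : IsBaseChange C (IsScalarTower.toAlgHom A R R').toLinearMap) (h : R') :
    ∃ (n : ℕ) (c : Fin n → C) (r : Fin n → R),
      h = ∑ j, algebraMap C R' (c j) * algebraMap R R' (r j) := by
  obtain ⟨x, rfl⟩ := hb.equiv.surjective h
  induction x using TensorProduct.induction_on with
  | zero => exact ⟨0, Fin.elim0, Fin.elim0, by simp⟩
  | tmul c r =>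
    refine ⟨1, fun _ => c, fun _ => r, ?_⟩
    rw [IsBaseChange.equiv_tmul]
    simp [Algebra.smul_def]
  | add x y hx hy =>
    obtain ⟨n₁, c₁, r₁, h₁⟩ := hx
    obtain ⟨n₂, c₂, r₂, h₂⟩ := hy
    refine ⟨n₁ + n₂, Fin.append c₁ c₂, Fin.append r₁ r₂, ?_⟩
    rw [map_add, h₁, h₂, Fin.sum_univ_add]
    simp

end Alg

section Alg2

variable {A C R' M N M' N' : Type u} [CommRing A] [CommRing C] [CommRing R'] [Algebra A C]
  [AddCommGroup M] [Module A M] [AddCommGroup N] [Module A N]
  [AddCommGroup M'] [Module R' M'] [AddCommGroup N'] [Module R' N']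

theorem map_Hop_eq_smul (β : C →+* R') (e : C ⊗[A] M ≃+ M') (θ : M → M')
    (he : ∀ (c : C) (m : M), e (c ⊗ₜ m) = β c • θ m) {n : ℕ} (c : Fin n → C)
    (ρ : Fin n → Module.End A M) (g : Fin n → R') (hρ : ∀ j m, θ (ρ j m) = g j • θ m)
    (x : C ⊗[A] M) :
    e (Hop C c ρ x) = (∑ j, β (c j) * g j) • e x := by
  induction x using TensorProduct.induction_on with
  | zero => simp
  | tmul c' m =>
    rw [Hop_tmul, map_sum, he, Finset.sum_smul]
    refine Finset.sum_congr rfl fun j _ => ?_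
    rw [he, hρ, map_mul, mul_smul, mul_smul, smul_comm (g j) (β c') (θ m)]
  | add x y hx hy => simp only [map_add, hx, hy, smul_add]

theorem map_Hop_pow_eq_smul (β : C →+* R') (e : C ⊗[A] M ≃+ M') (θ : M → M')
    (he : ∀ (c : C) (m : M), e (c ⊗ₜ m) = β c • θ m) {n : ℕ} (c : Fin n → C)
    (ρ : Fin n → Module.End A M) (g : Fin n → R') (hρ : ∀ j m, θ (ρ j m) = g j • θ m)
    (k : ℕ) (x : C ⊗[A] M) :
    e ((Hop C c ρ ^ k) x) = (∑ j, β (c j) * g j) ^ k • e x := by
  induction k generalizing x with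
  | zero => simp
  | succ k ih =>
    rw [pow_succ, Module.End.mul_apply, ih, map_Hop_eq_smul β e θ he c ρ g hρ, pow_succ, mul_smul]

theorem map_lTensor_eq (β : C →+* R') (eM : C ⊗[A] M ≃+ M') (eN : C ⊗[A] N ≃+ N')
    (θM : M → M') (θN : N → N')
    (heM : ∀ (c : C) (m : M), eM (c ⊗ₜ m) = β c • θM m)
    (heN : ∀ (c : C) (m : N), eN (c ⊗ₜ m) = β c • θN m)
    (u : M →ₗ[A] N) (v : M' →+ N') (hv : ∀ (r' : R') (m' : M'), v (r' • m') = r' • v m')
    (huv : ∀ m, v (θM m) = θN (u m)) (x : C ⊗[A] M) :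
    eN (LinearMap.lTensor C u x) = v (eM x) := by
  induction x using TensorProduct.induction_on with
  | zero => simp
  | tmul c m => rw [LinearMap.lTensor_tmul, heN, heM, hv, huv]
  | add x y hx hy => simp only [map_add, hx, hy]

end Alg2


section Theta

variable {X Y : Scheme.{u}}

theorem thetaFun_add (h : X ⟶ Y) (G : Y.Modules) [G.IsQuasicoherent] {U : X.Opens} {V : Y.Opens}
    (hU : IsAffineOpen U) (hV : IsAffineOpen V) (hUV : U ≤ h ⁻¹ᵁ V) (m₁ m₂ : Γ(G, V)) :
    Groth.Agent.Lib.H72PullbackNat.thetaFun h G hU hV hUV (m₁ + m₂) =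
      Groth.Agent.Lib.H72PullbackNat.thetaFun h G hU hV hUV m₁ +
        Groth.Agent.Lib.H72PullbackNat.thetaFun h G hU hV hUV m₂ := by
  letI : Algebra Γ(Y, V) Γ(X, U) := (h.appLE V U hUV).hom.toAlgebra
  letI : Module Γ(Y, V) Γ((Scheme.Modules.pullback h).obj G, U) :=
    Module.compHom _ (h.appLE V U hUV).hom
  haveI : IsScalarTower Γ(Y, V) Γ(X, U) Γ((Scheme.Modules.pullback h).obj G, U) :=
    .of_algebraMap_smul fun _ _ => rfl
  obtain ⟨θ, -, hθm⟩ := Groth.Agent.Lib.H72PullbackNat.exists_isBaseChange_sections' h G hU hV hUV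
  rw [← hθm, ← hθm, ← hθm, map_add]

theorem thetaFun_smul (h : X ⟶ Y) (G : Y.Modules) [G.IsQuasicoherent] {U : X.Opens} {V : Y.Opens}
    (hU : IsAffineOpen U) (hV : IsAffineOpen V) (hUV : U ≤ h ⁻¹ᵁ V) (r : Γ(Y, V)) (m : Γ(G, V)) :
    Groth.Agent.Lib.H72PullbackNat.thetaFun h G hU hV hUV (r • m) =
      (h.appLE V U hUV).hom r • Groth.Agent.Lib.H72PullbackNat.thetaFun h G hU hV hUV m := by
  letI : Algebra Γ(Y, V) Γ(X, U) := (h.appLE V U hUV).hom.toAlgebra
  letI : Module Γ(Y, V) Γ((Scheme.Modules.pullback h).obj G, U) :=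
    Module.compHom _ (h.appLE V U hUV).hom
  haveI : IsScalarTower Γ(Y, V) Γ(X, U) Γ((Scheme.Modules.pullback h).obj G, U) :=
    .of_algebraMap_smul fun _ _ => rfl
  obtain ⟨θ, -, hθm⟩ := Groth.Agent.Lib.H72PullbackNat.exists_isBaseChange_sections' h G hU hV hUV
  rw [← hθm, ← hθm, map_smul]
  rfl

end Theta

section Chart

variable {Y : Scheme.{u}} (A : CommRingCat.{u}) (π : Y ⟶ Spec A) (C : Type u) [CommRing C]
  [Algebra ↑A C]

/-- The base change morphism `Spec C ⟶ Spec A`. -/
noncomputable abbrev bc : Spec (CommRingCat.of C) ⟶ Spec A :=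
  Spec.map (CommRingCat.ofHom (algebraMap ↑A C))

set_option backward.isDefEq.respectTransparency.types false in
instance : IsAffineHom (pullback.fst π (bc A C)) :=
  MorphismProperty.pullback_fst (P := @IsAffineHom) _ _ inferInstance

theorem isAffineOpen_preimageC {U : Y.Opens} (hU : IsAffineOpen U) :
    IsAffineOpen (pullback.fst π (bc A C) ⁻¹ᵁ U) :=
  hU.preimage (pullback.fst π (bc A C))

/-- The pushout square of a chart of the base change to `C`. -/
theorem isPushout_chartC {U : Y.Opens} (hU : IsAffineOpen U) :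
    IsPushout ((Scheme.ΓSpecIso A).inv ≫ π.appLE ⊤ U le_top)
      (CommRingCat.ofHom (algebraMap ↑A C))
      ((pullback.fst π (bc A C)).app U)
      ((Scheme.ΓSpecIso (CommRingCat.of C)).inv ≫
        (pullback.snd π (bc A C)).appLE ⊤ (pullback.fst π (bc A C) ⁻¹ᵁ U) le_top) := by
  have H : IsPullback (pullback.fst π (bc A C)) (pullback.snd π (bc A C)) π (bc A C) :=
    IsPullback.of_hasPullback _ _
  have hUY : pullback.fst π (bc A C) ⁻¹ᵁ U =
      pullback.fst π (bc A C) ⁻¹ᵁ U ⊓ pullback.snd π (bc A C) ⁻¹ᵁ ⊤ := by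
    simp
  have hiso := isIso_pushoutSection_of_isAffineOpen H (US := ⊤) (UT := ⊤) (UX := U)
    le_top le_top hUY (isAffineOpen_top _) (isAffineOpen_top _) hU
  have sq := (isIso_pushoutSection_iff H (US := ⊤) (UT := ⊤) (UX := U) le_top le_top hUY).mp hiso
  refine sq.of_iso (Scheme.ΓSpecIso A) (Iso.refl _) (Scheme.ΓSpecIso _) (Iso.refl _) ?_ ?_ ?_ ?_
  · simp
  · have h2 : (bc A C).appLE ⊤ ⊤ le_top = (bc A C).appTop := Scheme.Hom.appLE_eq_app (bc A C)
    rw [h2]
    exact Scheme.ΓSpecIso_naturality (CommRingCat.ofHom (algebraMap ↑A C))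
  · simp [Scheme.Hom.appLE_eq_app]
  · simp

/-- The pushout square of a chart of the base change to `C`, `appLE` form. -/
theorem isPushout_chartC' {U : Y.Opens} (hU : IsAffineOpen U) :
    IsPushout ((Scheme.ΓSpecIso A).inv ≫ π.appLE ⊤ U le_top)
      (CommRingCat.ofHom (algebraMap ↑A C))
      ((pullback.fst π (bc A C)).appLE U (pullback.fst π (bc A C) ⁻¹ᵁ U) le_rfl)
      ((Scheme.ΓSpecIso (CommRingCat.of C)).inv ≫
        (pullback.snd π (bc A C)).appLE ⊤ (pullback.fst π (bc A C) ⁻¹ᵁ U) le_top) := by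
  have h2 : (pullback.fst π (bc A C)).appLE U (pullback.fst π (bc A C) ⁻¹ᵁ U) le_rfl =
      (pullback.fst π (bc A C)).app U := Scheme.Hom.appLE_eq_app _
  rw [h2]
  exact isPushout_chartC A π C hU

/-- The structure map `C → Γ(Y_C, pr₁⁻¹ U)`. -/
noncomputable abbrev betaHom (U : Y.Opens) :
    C →+* Γ(pullback π (bc A C), pullback.fst π (bc A C) ⁻¹ᵁ U) :=
  chartHom (CommRingCat.of C) (pullback.snd π (bc A C)) (pullback.fst π (bc A C) ⁻¹ᵁ U)

variable (F : Y.Modules) [F.IsQuasicoherent]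

set_option synthInstance.maxHeartbeats 400000 in
/-- The chart identification `C ⊗[A] Γ(F, U) ≃ Γ(pr₁^* F, pr₁⁻¹ U)`. -/
theorem exists_chartEquiv {U : Y.Opens} (hU : IsAffineOpen U) :
    letI := chartModule A π F U
    ∃ e : C ⊗[↑A] Γ(F, U) ≃+ Γ((Scheme.Modules.pullback (pullback.fst π (bc A C))).obj F,
        pullback.fst π (bc A C) ⁻¹ᵁ U),
      ∀ (c : C) (m : Γ(F, U)), e (c ⊗ₜ m) = betaHom A π C U c •
        Groth.Agent.Lib.H72PullbackNat.thetaFun (pullback.fst π (bc A C)) F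
          (isAffineOpen_preimageC A π C hU) hU le_rfl m := by
  have sq := isPushout_chartC' A π C hU
  letI : Algebra ↑A Γ(Y, U) := (chartHom A π U).toAlgebra
  letI : Module ↑A Γ(F, U) := chartModule A π F U
  haveI : IsScalarTower ↑A Γ(Y, U) Γ(F, U) := .of_algebraMap_smul fun _ _ => rfl
  letI : Algebra Γ(Y, U) Γ(pullback π (bc A C), pullback.fst π (bc A C) ⁻¹ᵁ U) :=
    ((pullback.fst π (bc A C)).appLE U _ le_rfl).hom.toAlgebra
  letI : Module Γ(Y, U) Γ((Scheme.Modules.pullback (pullback.fst π (bc A C))).obj F,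
      pullback.fst π (bc A C) ⁻¹ᵁ U) :=
    Module.compHom _ ((pullback.fst π (bc A C)).appLE U _ le_rfl).hom
  haveI : IsScalarTower Γ(Y, U) Γ(pullback π (bc A C), pullback.fst π (bc A C) ⁻¹ᵁ U)
      Γ((Scheme.Modules.pullback (pullback.fst π (bc A C))).obj F,
        pullback.fst π (bc A C) ⁻¹ᵁ U) := .of_algebraMap_smul fun _ _ => rfl
  letI : Algebra C Γ(pullback π (bc A C), pullback.fst π (bc A C) ⁻¹ᵁ U) :=
    (betaHom A π C U).toAlgebra
  letI : Algebra ↑A Γ(pullback π (bc A C), pullback.fst π (bc A C) ⁻¹ᵁ U) :=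
    (((Scheme.ΓSpecIso A).inv ≫ π.appLE ⊤ U le_top) ≫
      (pullback.fst π (bc A C)).appLE U _ le_rfl).hom.toAlgebra
  haveI : IsScalarTower ↑A Γ(Y, U) Γ(pullback π (bc A C), pullback.fst π (bc A C) ⁻¹ᵁ U) :=
    .of_algebraMap_eq' rfl
  haveI : IsScalarTower ↑A C Γ(pullback π (bc A C), pullback.fst π (bc A C) ⁻¹ᵁ U) :=
    .of_algebraMap_eq' (congrArg CommRingCat.Hom.hom sq.w)
  haveI : Algebra.IsPushout ↑A C Γ(Y, U)
      Γ(pullback π (bc A C), pullback.fst π (bc A C) ⁻¹ᵁ U) :=
    CommRingCat.isPushout_iff_isPushout.mp sq.flip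
  obtain ⟨θ, hθ, hθm⟩ := Groth.Agent.Lib.H72PullbackNat.exists_isBaseChange_sections'
    (pullback.fst π (bc A C)) F (isAffineOpen_preimageC A π C hU) hU le_rfl
  obtain ⟨e, he⟩ := exists_addEquiv (A := ↑A) (C := C) θ hθ
  exact ⟨e, fun c m => by rw [he, hθm]; rfl⟩

omit [F.IsQuasicoherent] in
/-- Multiplication by a function on sections, as an `A`-linear endomorphism. -/
noncomputable def chartSmulEnd (U : Y.Opens) (r : Γ(Y, U)) :
    @Module.End ↑A Γ(F, U) _ _ (chartModule A π F U) :=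
  letI := chartModule A π F U
  { toFun := fun m => r • m
    map_add' := smul_add r
    map_smul' := fun a m => smul_comm r (chartHom A π U a) m }

omit [F.IsQuasicoherent] in
theorem chartSmulEnd_apply (U : Y.Opens) (r : Γ(Y, U)) (m : Γ(F, U)) :
    chartSmulEnd A π F U r m = r • m := rfl

/-- A morphism of modules on sections, as an `A`-linear map. -/
noncomputable def chartLin {F G : Y.Modules} (v : F ⟶ G) (U : Y.Opens) :
    @LinearMap ↑A ↑A _ _ (RingHom.id _) Γ(F, U) Γ(G, U) _ _ (chartModule A π F U)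
      (chartModule A π G U) :=
  letI := chartModule A π F U
  letI := chartModule A π G U
  { toFun := fun m => v.app U m
    map_add' := fun a b => map_add (v.app U).hom a b
    map_smul' := fun a m => Scheme.Modules.Hom.app_smul v (chartHom A π U a) m }

theorem chartLin_apply {F G : Y.Modules} (v : F ⟶ G) (U : Y.Opens) (m : Γ(F, U)) :
    chartLin A π v U m = v.app U m := rfl

theorem chartLin_chartSmulEnd {F G : Y.Modules} (v : F ⟶ G) (U : Y.Opens) (r : Γ(Y, U))
    (m : Γ(F, U)) :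
    chartLin A π v U (chartSmulEnd A π F U r m) = chartSmulEnd A π G U r (chartLin A π v U m) :=
  Scheme.Modules.Hom.app_smul v r m

/-- The function `Σ_j c_j ⊗ r_j` on `pr₁⁻¹ U`. -/
noncomputable def hElt (U : Y.Opens) {n : ℕ} (c : Fin n → C) (r : Fin n → Γ(Y, U)) :
    Γ(pullback π (bc A C), pullback.fst π (bc A C) ⁻¹ᵁ U) :=
  ∑ j, betaHom A π C U (c j) * ((pullback.fst π (bc A C)).appLE U _ le_rfl).hom (r j)

/-- Every function on `pr₁⁻¹ U` is of the form `Σ_j c_j ⊗ r_j`. -/
theorem exists_eq_hElt {U : Y.Opens} (hU : IsAffineOpen U)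
    (h : Γ(pullback π (bc A C), pullback.fst π (bc A C) ⁻¹ᵁ U)) :
    ∃ (n : ℕ) (c : Fin n → C) (r : Fin n → Γ(Y, U)), h = hElt A π C U c r := by
  have sq := isPushout_chartC' A π C hU
  letI : Algebra ↑A Γ(Y, U) := (chartHom A π U).toAlgebra
  letI : Algebra Γ(Y, U) Γ(pullback π (bc A C), pullback.fst π (bc A C) ⁻¹ᵁ U) :=
    ((pullback.fst π (bc A C)).appLE U _ le_rfl).hom.toAlgebra
  letI : Algebra C Γ(pullback π (bc A C), pullback.fst π (bc A C) ⁻¹ᵁ U) :=
    (betaHom A π C U).toAlgebra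
  letI : Algebra ↑A Γ(pullback π (bc A C), pullback.fst π (bc A C) ⁻¹ᵁ U) :=
    (((Scheme.ΓSpecIso A).inv ≫ π.appLE ⊤ U le_top) ≫
      (pullback.fst π (bc A C)).appLE U _ le_rfl).hom.toAlgebra
  haveI : IsScalarTower ↑A Γ(Y, U) Γ(pullback π (bc A C), pullback.fst π (bc A C) ⁻¹ᵁ U) :=
    .of_algebraMap_eq' rfl
  haveI : IsScalarTower ↑A C Γ(pullback π (bc A C), pullback.fst π (bc A C) ⁻¹ᵁ U) :=
    .of_algebraMap_eq' (congrArg CommRingCat.Hom.hom sq.w)
  haveI : Algebra.IsPushout ↑A C Γ(Y, U)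
      Γ(pullback π (bc A C), pullback.fst π (bc A C) ⁻¹ᵁ U) :=
    CommRingCat.isPushout_iff_isPushout.mp sq.flip
  exact exists_sum_eq (A := ↑A) (C := C) Algebra.IsPushout.out h

/-- Compatibility of the chart identification with multiplication by `hElt`. -/
theorem chartEquiv_Hop_pow {U : Y.Opens} (hU : IsAffineOpen U) :
    letI := chartModule A π F U
    ∀ (e : C ⊗[↑A] Γ(F, U) ≃+ Γ((Scheme.Modules.pullback (pullback.fst π (bc A C))).obj F,
        pullback.fst π (bc A C) ⁻¹ᵁ U))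
      (_ : ∀ (c : C) (m : Γ(F, U)), e (c ⊗ₜ m) = betaHom A π C U c •
        Groth.Agent.Lib.H72PullbackNat.thetaFun (pullback.fst π (bc A C)) F
          (isAffineOpen_preimageC A π C hU) hU le_rfl m)
      {n : ℕ} (c : Fin n → C) (r : Fin n → Γ(Y, U)) (k : ℕ) (x : C ⊗[↑A] Γ(F, U)),
      e ((Hop C c (fun j => chartSmulEnd A π F U (r j)) ^ k) x) = hElt A π C U c r ^ k • e x := by
  letI : Module ↑A Γ(F, U) := chartModule A π F U
  intro e he n c r k x
  unfold hElt
  exact map_Hop_pow_eq_smul (betaHom A π C U) e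
    (Groth.Agent.Lib.H72PullbackNat.thetaFun (pullback.fst π (bc A C)) F
          (isAffineOpen_preimageC A π C hU) hU le_rfl) he c
    (fun j => chartSmulEnd A π F U (r j))
    (fun j => ((pullback.fst π (bc A C)).appLE U _ le_rfl).hom (r j))
    (fun j m => thetaFun_smul (pullback.fst π (bc A C)) F
      (isAffineOpen_preimageC A π C hU) hU le_rfl (r j) m) k x

/-- Naturality of the chart identification. -/
theorem chartEquiv_lTensor {F G : Y.Modules} [F.IsQuasicoherent] [G.IsQuasicoherent] (v : F ⟶ G)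
    {U : Y.Opens} (hU : IsAffineOpen U) :
    letI := chartModule A π F U
    letI := chartModule A π G U
    ∀ (eF : C ⊗[↑A] Γ(F, U) ≃+ Γ((Scheme.Modules.pullback (pullback.fst π (bc A C))).obj F,
        pullback.fst π (bc A C) ⁻¹ᵁ U))
      (_ : ∀ (c : C) (m : Γ(F, U)), eF (c ⊗ₜ m) = betaHom A π C U c •
        Groth.Agent.Lib.H72PullbackNat.thetaFun (pullback.fst π (bc A C)) F
          (isAffineOpen_preimageC A π C hU) hU le_rfl m)
      (eG : C ⊗[↑A] Γ(G, U) ≃+ Γ((Scheme.Modules.pullback (pullback.fst π (bc A C))).obj G,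
        pullback.fst π (bc A C) ⁻¹ᵁ U))
      (_ : ∀ (c : C) (m : Γ(G, U)), eG (c ⊗ₜ m) = betaHom A π C U c •
        Groth.Agent.Lib.H72PullbackNat.thetaFun (pullback.fst π (bc A C)) G
          (isAffineOpen_preimageC A π C hU) hU le_rfl m)
      (x : C ⊗[↑A] Γ(F, U)),
      eG (LinearMap.lTensor C (chartLin A π v U) x) =
        ((Scheme.Modules.pullback (pullback.fst π (bc A C))).map v).app _ (eF x) := by
  letI : Module ↑A Γ(F, U) := chartModule A π F U
  letI : Module ↑A Γ(G, U) := chartModule A π G U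
  intro eF heF eG heG x
  exact map_lTensor_eq (betaHom A π C U) eF eG _ _ heF heG (chartLin A π v U)
    (((Scheme.Modules.pullback (pullback.fst π (bc A C))).map v).app _).hom
    (fun r' m' => Scheme.Modules.Hom.app_smul _ r' m')
    (fun m => (Groth.Agent.Lib.H72PullbackNat.thetaFun_naturality (pullback.fst π (bc A C)) v
      (isAffineOpen_preimageC A π C hU) hU le_rfl m).symm) x

end Chart

section Main

variable {X : Scheme.{u}}

theorem res_basicOpen_eq_zero_of_pow_smul_eq_zero (G : X.Modules) {V : X.Opens} (c : Γ(X, V))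
    (k : ℕ) (n : Γ(G, V)) (h : c ^ k • n = 0) : res G (X.basicOpen_le c) n = 0 := by
  have hu : IsUnit (resO X (X.basicOpen_le c) c) := RingedSpace.isUnit_res_basicOpen _ c
  have h1 := congrArg (res G (X.basicOpen_le c)) h
  rw [res_smul, res_zero, resO_pow] at h1
  exact (hu.pow k).smul_eq_zero.mp h1

variable (A : CommRingCat.{u}) (p : X ⟶ Spec A) (C : Type u) [CommRing C] [Algebra ↑A C]
  (F : X.Modules) [F.IsQuasicoherent] {ι : Type u} (G : ι → X.Modules)
  [∀ i, (G i).IsQuasicoherent] (u : ∀ i, F ⟶ G i)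

/-- The family pulled back to `X ×_A C` is separating. -/
def Sep : Prop :=
  ∀ (V : (pullback p (bc A C)).Opens)
    (t : Γ((Scheme.Modules.pullback (pullback.fst p (bc A C))).obj F, V)),
    (∀ i, ((Scheme.Modules.pullback (pullback.fst p (bc A C))).map (u i)).app V t = 0) → t = 0

/-- From the separating property to the algebraic statement on a chart. -/
theorem alg_of_sep {W : X.Opens} (hW : IsAffineOpen W) (hsep : Sep A p C F G u) {n : ℕ}
    (c : Fin n → C) (r : Fin n → Γ(X, W)) :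
    letI := chartModule A p F W
    letI : ∀ i, Module ↑A Γ(G i, W) := fun i => chartModule A p (G i) W
    ∀ y : C ⊗[↑A] Γ(F, W),
      (∀ i, ∃ k, (Hop C c (fun j => chartSmulEnd A p (G i) W (r j)) ^ k)
        (LinearMap.lTensor C (chartLin A p (u i) W) y) = 0) →
      ∃ k, (Hop C c (fun j => chartSmulEnd A p F W (r j)) ^ k) y = 0 := by
  letI modF : Module ↑A Γ(F, W) := chartModule A p F W
  letI modG : ∀ i, Module ↑A Γ(G i, W) := fun i => chartModule A p (G i) W
  intro y hy
  have hW' := isAffineOpen_preimageC A p C hW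
  obtain ⟨eF, heF⟩ := exists_chartEquiv A p C F hW
  choose eG heG using fun i => exists_chartEquiv A p C (G i) hW
  have h1 : res ((Scheme.Modules.pullback (pullback.fst p (bc A C))).obj F)
      ((pullback p (bc A C)).basicOpen_le (hElt A p C W c r)) (eF y) = 0 := by
    refine hsep _ _ fun i => ?_
    obtain ⟨k, hk⟩ := hy i
    have h2 := congrArg (eG i) hk
    rw [map_zero, chartEquiv_Hop_pow A p C (G i) hW (eG i) (heG i) c r k,
      chartEquiv_lTensor A p C (u i) hW eF heF (eG i) (heG i) y] at h2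
    rw [Groth.Agent.Lib.FibInjSch88.app_res]
    exact res_basicOpen_eq_zero_of_pow_smul_eq_zero _ _ k _ h2
  obtain ⟨k, hk⟩ := exists_pow_smul_eq_zero _ hW' _ _ h1
  refine ⟨k, eF.injective ?_⟩
  rw [map_zero, chartEquiv_Hop_pow A p C F hW eF heF c r k]
  exact hk

/-- From the algebraic statement on a chart to the separating property on a basic open. -/
theorem eq_zero_of_alg {W : X.Opens} (hW : IsAffineOpen W) {n : ℕ}
    (c : Fin n → C) (r : Fin n → Γ(X, W))
    (halg : letI := chartModule A p F W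
      letI : ∀ i, Module ↑A Γ(G i, W) := fun i => chartModule A p (G i) W
      ∀ x : C ⊗[↑A] Γ(F, W),
        (∀ i, ∃ k, (Hop C c (fun j => chartSmulEnd A p (G i) W (r j)) ^ k)
          (LinearMap.lTensor C (chartLin A p (u i) W) x) = 0) →
        ∃ k, (Hop C c (fun j => chartSmulEnd A p F W (r j)) ^ k) x = 0)
    (s : Γ((Scheme.Modules.pullback (pullback.fst p (bc A C))).obj F,
      (pullback p (bc A C)).basicOpen (hElt A p C W c r)))
    (hs : ∀ i, ((Scheme.Modules.pullback (pullback.fst p (bc A C))).map (u i)).app _ s = 0) :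
    s = 0 := by
  letI modF : Module ↑A Γ(F, W) := chartModule A p F W
  letI modG : ∀ i, Module ↑A Γ(G i, W) := fun i => chartModule A p (G i) W
  have hW' := isAffineOpen_preimageC A p C hW
  obtain ⟨eF, heF⟩ := exists_chartEquiv A p C F hW
  choose eG heG using fun i => exists_chartEquiv A p C (G i) hW
  obtain ⟨N, m', hm'⟩ := exists_pow_smul_eq_res
    ((Scheme.Modules.pullback (pullback.fst p (bc A C))).obj F) hW' (hElt A p C W c r) s
  obtain ⟨x, rfl⟩ := eF.surjective m'
  have hx : ∀ i, ∃ k, (Hop C c (fun j => chartSmulEnd A p (G i) W (r j)) ^ k)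
      (LinearMap.lTensor C (chartLin A p (u i) W) x) = 0 := by
    intro i
    have h1 : res ((Scheme.Modules.pullback (pullback.fst p (bc A C))).obj (G i))
        ((pullback p (bc A C)).basicOpen_le (hElt A p C W c r))
        (((Scheme.Modules.pullback (pullback.fst p (bc A C))).map (u i)).app _ (eF x)) = 0 := by
      rw [← Groth.Agent.Lib.FibInjSch88.app_res, ← hm', Scheme.Modules.Hom.app_smul, hs i,
        smul_zero]
    obtain ⟨k, hk⟩ := exists_pow_smul_eq_zero _ hW' _ _ h1
    refine ⟨k, (eG i).injective ?_⟩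
    rw [map_zero, chartEquiv_Hop_pow A p C (G i) hW (eG i) (heG i) c r k,
      chartEquiv_lTensor A p C (u i) hW eF heF (eG i) (heG i) x]
    exact hk
  obtain ⟨k, hk⟩ := halg x hx
  have h2 : hElt A p C W c r ^ k • eF x = 0 := by
    rw [← chartEquiv_Hop_pow A p C F hW eF heF c r k x, hk, map_zero]
  have h3 := res_basicOpen_eq_zero_of_pow_smul_eq_zero _ _ k _ h2
  rw [h3] at hm'
  have hu : IsUnit (resO (pullback p (bc A C))
      ((pullback p (bc A C)).basicOpen_le (hElt A p C W c r)) (hElt A p C W c r)) :=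
    RingedSpace.isUnit_res_basicOpen _ (hElt A p C W c r)
  exact (hu.pow N).smul_eq_zero.mp hm'

/-- **EGA IV 11.9.x, limit step.**  If the family pulled back to `X ×_A B` is separating for every
finitely generated sub-`A`-algebra `B` of `A'`, the family pulled back to `X ×_A A'` is separating. -/
theorem sep_of_forall_fg (A' : Type u) [CommRing A'] [Algebra ↑A A']
    (hG : ∀ i, FlatMod.IsFlatOver p (G i))
    (hfg : ∀ B : Subalgebra ↑A A', B.FG → Sep A p ↥B F G u) : Sep A p A' F G u := by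
  intro V t ht
  refine TopCat.Presheaf.section_ext
    ⟨((Scheme.Modules.pullback (pullback.fst p (bc A A'))).obj F).presheaf,
      ((Scheme.Modules.pullback (pullback.fst p (bc A A'))).obj F).isSheaf⟩ _ _ _ fun x' hx' => ?_
  obtain ⟨W, hW, hxW, -⟩ := Opens.isBasis_iff_nbhd.mp X.isBasis_affineOpens
    (show pullback.fst p (bc A A') x' ∈ (⊤ : X.Opens) from trivial)
  have hW' := isAffineOpen_preimageC A p A' hW
  obtain ⟨h, hle, hxh⟩ := hW'.exists_basicOpen_le
    (V := V ⊓ pullback.fst p (bc A A') ⁻¹ᵁ W) ⟨x', ⟨hx', hxW⟩⟩ hxW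
  obtain ⟨n, c, r, rfl⟩ := exists_eq_hElt A p A' hW h
  letI modF : Module ↑A Γ(F, W) := chartModule A p F W
  letI modG : ∀ i, Module ↑A Γ(G i, W) := fun i => chartModule A p (G i) W
  haveI : ∀ i, Module.Flat ↑A Γ(G i, W) := fun i => flat_chartModule A p (G i) (hG i) hW
  have h1 : res ((Scheme.Modules.pullback (pullback.fst p (bc A A'))).obj F)
      (hle.trans inf_le_left) t = 0 := by
    refine eq_zero_of_alg A p A' F G u hW c r ?_ _ fun i => ?_
    · intro x hx
      exact exists_pow_eq_zero_of_forall_fg (fun i => Γ(G i, W))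
        (fun i => chartLin A p (u i) W) c (fun j => chartSmulEnd A p F W (r j))
        (fun i j => chartSmulEnd A p (G i) W (r j))
        (fun i j m => chartLin_chartSmulEnd A p (u i) W (r j) m)
        (fun B hB cB _ y hy => alg_of_sep A p ↥B F G u hW (hfg B hB) cB r y hy) x hx
    · rw [Groth.Agent.Lib.FibInjSch88.app_res, ht i, res_zero]
  have e1 := germ_res ((Scheme.Modules.pullback (pullback.fst p (bc A A'))).obj F)
    (hle.trans inf_le_left) x' hxh t
  rw [h1] at e1
  rw [← e1, map_zero, map_zero]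

end Main

end Groth.Agent.Lib.LimSepSch88
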