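import Groth.Agent.Lib.LimStructureMap
import Mathlib.AlgebraicGeometry.Morphisms.Finite

/-!
# Structure maps of a cofiltered limit with finite transitions

`X = lim Xᵢ` over `S` with finite transition maps and `Xᵢ → S` of finite type: if `X → S` is
integral then `Xᵢ → S` is finite for all small `i`.
-/

set_option autoImplicit false
universe u

open CategoryTheory Limits AlgebraicGeometry

namespace Groth.Agent.Lib.LimStructureMap

open Groth.Agent.Lib.LimDescent

/-- If `B` is generated over `A` by a finite set `s`, `C` is finite over `B` and the images of `s`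
in `C` are integral over `A`, then `C` is finite over `A`. -/
theorem finite_comp_of_gens_integral {A B C : Type u} [CommRing A] [CommRing B] [CommRing C]
    (φ : A →+* B) (ψ : B →+* C) (s : Set B) (hsfin : s.Finite)
    (hs : letI := φ.toAlgebra; Algebra.adjoin A s = ⊤) (hψ : ψ.Finite)
    (hint : ∀ x ∈ s, (ψ.comp φ).IsIntegralElem (ψ x)) : (ψ.comp φ).Finite := by
  letI := φ.toAlgebra
  letI := (ψ.comp φ).toAlgebra
  letI := ψ.toAlgebra
  haveI : IsScalarTower A B C := IsScalarTower.of_algebraMap_eq fun _ => rfl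
  let f : B →ₐ[A] C := IsScalarTower.toAlgHom A B C
  let B' : Subalgebra A C := f.range
  have hB' : B' = Algebra.adjoin A (f '' s) := by
    rw [← AlgHom.map_adjoin, hs, Algebra.map_top]
  have hfg : B'.toSubmodule.FG := by
    rw [hB']
    refine fg_adjoin_of_finite (hsfin.image _) ?_
    rintro _ ⟨x, hx, rfl⟩
    exact hint x hx
  haveI : Module.Finite A B' := ⟨(Submodule.fg_top _).mpr hfg⟩
  letI : Algebra B B' := f.rangeRestrict.toRingHom.toAlgebra
  haveI : IsScalarTower B B' C := IsScalarTower.of_algebraMap_eq fun _ => rfl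
  haveI : Module.Finite B C := hψ
  haveI : Module.Finite B' C := Module.Finite.of_restrictScalars_finite B B' C
  exact Module.Finite.trans B' C

/-- A morphism is finite if this holds over an affine open cover, in terms of sections. -/
theorem isFinite_of_cover {X Y : Scheme.{u}} (f : X ⟶ Y) {ι : Type*} (U : ι → Y.Opens)
    (hU : iSup U = ⊤) (h1 : ∀ i, IsAffineOpen (U i)) (h2 : ∀ i, IsAffineOpen (f ⁻¹ᵁ U i))
    (h3 : ∀ i, (f.app (U i)).hom.Finite) : IsFinite f := by
  refine (IsZariskiLocalAtTarget.iff_of_iSup_eq_top (P := @IsFinite) U hU).mpr fun i => ?_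
  haveI : IsAffine (U i).toScheme := h1 i
  haveI : IsAffine (f ⁻¹ᵁ U i).toScheme := h2 i
  rw [HasAffineProperty.iff_of_isAffine (P := @IsFinite)]
  refine ⟨inferInstance, ?_⟩
  rw [morphismRestrict_appTop]
  have key : ∀ U' : Y.Opens, U' = U i → (f.app U').hom.Finite := by
    rintro U' rfl
    exact h3 i
  have hiso : Function.Bijective
      (X.presheaf.map (eqToHom (image_morphismRestrict_preimage f (U i) ⊤)).op) :=
    ConcreteCategory.bijective_of_isIso _
  exact RingHom.Finite.comp (RingHom.Finite.of_surjective _ hiso.2)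
    (key _ (Scheme.Opens.ι_image_top _))

section secMap

variable {S X X' : Scheme.{u}} (V : S.Opens)

theorem secMap_finite (p : X' ⟶ X) (a : X ⟶ S) (a' : X' ⟶ S) (h : p ≫ a = a')
    [IsFinite p] (hW : IsAffineOpen (a ⁻¹ᵁ V)) :
    (secMap V p a a' h).hom.Finite := by
  rw [secMap_eq]
  exact RingHom.Finite.comp
    (RingHom.Finite.of_surjective _ (ConcreteCategory.bijective_of_isIso _).2)
    (IsFinite.finite_app p _ hW)

end secMap

section limit

variable {I : Type u} [Category.{u} I] [IsCofiltered I] (D : I ⥤ Scheme.{u}) (c : Cone D)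
variable (hc : IsLimit c) {S : Scheme.{u}} (τ : ∀ i, D.obj i ⟶ S)
variable (hτ : ∀ {i j : I} (f : i ⟶ j), D.map f ≫ τ j = τ i)

include hc hτ in
/-- Key step: over an affine open `V ⊆ S` whose preimage in `Xᵢ` is affine, `𝒪(V) → 𝒪(Xₖ|V)`
becomes finite for all `k` below some stage. -/
theorem exists_finite_app_stage [∀ {i j : I} (f : i ⟶ j), IsFinite (D.map f)]
    (i : I) (V : S.Opens) (hV : IsAffineOpen V) (hW : IsAffineOpen (τ i ⁻¹ᵁ V))
    [LocallyOfFiniteType (τ i)] [IsIntegralHom (c.π.app i ≫ τ i)] :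
    ∃ (j : I) (_ : j ⟶ i), ∀ (k : I) (_ : k ⟶ j), ((τ k).app V).hom.Finite := by
  classical
  haveI : ∀ {i j : I} (f : i ⟶ j), IsAffineHom (D.map f) := fun f => inferInstance
  have hft : RingHom.FiniteType ((τ i).app V).hom := by
    have := HasRingHomProperty.appLE (P := @LocallyOfFiniteType) (f := τ i) inferInstance
      ⟨V, hV⟩ ⟨_, hW⟩ le_rfl
    rwa [Scheme.Hom.appLE_eq_app] at this
  letI := ((τ i).app V).hom.toAlgebra
  obtain ⟨gens, hgens⟩ := (hft : Algebra.FiniteType Γ(S, V) Γ(D.obj i, τ i ⁻¹ᵁ V)).out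
  let Good : Over i → Γ(D.obj i, τ i ⁻¹ᵁ V) → Prop := fun k x =>
    ((τ k.left).app V).hom.IsIntegralElem (secMap V (D.map k.hom) (τ i) (τ k.left) (hτ _) x)
  have hmono : ∀ {k k' : Over i} (m : k' ⟶ k) (x : Γ(D.obj i, τ i ⁻¹ᵁ V)),
      Good k x → Good k' x := by
    rintro k k' m x ⟨p, hp, hpx⟩
    refine ⟨p, hp, ?_⟩
    have hr : D.map m.left ≫ D.map k.hom = D.map k'.hom := by
      rw [← D.map_comp, Over.w m]
    rw [← secMap_comp V (D.map k.hom) (D.map m.left) (τ i) (τ k.left) (τ k'.left) (hτ _) (hτ _)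
      (D.map k'.hom) hr (hτ _), ← app_secMap V (D.map m.left) (τ k.left) (τ k'.left) (hτ _)]
    rw [CommRingCat.hom_comp, CommRingCat.comp_apply, ← Polynomial.hom_eval₂, hpx, map_zero]
  have hex : ∀ x : Γ(D.obj i, τ i ⁻¹ᵁ V), ∃ k : Over i, Good k x := by
    intro x
    obtain ⟨p, hp, hpx⟩ := IsIntegralHom.isIntegral_app (c.π.app i ≫ τ i) V hV
      ((c.π.app i).app (τ i ⁻¹ᵁ V) x)
    have h0 : (c.π.app i).app (τ i ⁻¹ᵁ V) (Polynomial.eval₂ ((τ i).app V).hom x p) = 0 :=
      (Polynomial.hom_eval₂ p ((τ i).app V).hom ((c.π.app i).app (τ i ⁻¹ᵁ V)).hom x).trans hpx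
    obtain ⟨j, f, hj⟩ := exists_app_map_eq_zero_of_isLimit D c hc hW.isCompact _ h0
    refine ⟨Over.mk f, p, hp, ?_⟩
    change Polynomial.eval₂ ((τ j).app V).hom (secMap V (D.map f) (τ i) (τ j) (hτ _) x) p = 0
    rw [← app_secMap V (D.map f) (τ i) (τ j) (hτ f), CommRingCat.hom_comp,
      ← Polynomial.hom_eval₂, secMap_eq]
    have := congr((D.obj j).presheaf.map
      (eqToHom (by rw [← Scheme.Hom.comp_preimage, hτ f] :
        τ j ⁻¹ᵁ V = D.map f ⁻¹ᵁ (τ i ⁻¹ᵁ V))).op $hj)
    rw [map_zero] at this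
    exact this
  choose k hk using hex
  obtain ⟨k', hk'⟩ := IsCofiltered.inf_objs_exists (gens.image k)
  have hall : ∀ x ∈ gens, Good k' x := fun x hx => by
    obtain ⟨m⟩ := hk' (Finset.mem_image_of_mem k hx)
    exact hmono m x (hk x)
  have hfin : ((τ k'.left).app V).hom.Finite := by
    rw [← app_secMap V (D.map k'.hom) (τ i) (τ k'.left) (hτ _), CommRingCat.hom_comp]
    refine finite_comp_of_gens_integral _ _ (gens : Set _) gens.finite_toSet hgens
      (secMap_finite V _ _ _ (hτ _) hW) (fun x hx => ?_)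
    have : ((τ k'.left).app V).hom.IsIntegralElem
      (secMap V (D.map k'.hom) (τ i) (τ k'.left) (hτ _) x) := hall x hx
    rwa [← app_secMap V (D.map k'.hom) (τ i) (τ k'.left) (hτ _), CommRingCat.hom_comp] at this
  have hW' : IsAffineOpen (τ k'.left ⁻¹ᵁ V) := by
    have := hW.preimage (D.map k'.hom)
    rwa [← Scheme.Hom.comp_preimage, hτ] at this
  refine ⟨k'.left, k'.hom, fun l g => ?_⟩
  rw [← app_secMap V (D.map g) (τ k'.left) (τ l) (hτ g), CommRingCat.hom_comp]
  exact RingHom.Finite.comp (secMap_finite V (D.map g) _ _ (hτ g) hW') hfin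

end limit

end Groth.Agent.Lib.LimStructureMap
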