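import Mathlib

/-!
# Avoiding independent hyperplanes by a rational point over a finite field

`exists_forall_sum_mul_ne_zero`: if `K` is a field of characteristic `p`, `A` an invertible
`n × n` matrix over `K` and `S` a finite subset of `K` with at least `p ^ f ≥ 2` elements, then
there is `x ∈ S^n` with `∑ j, A i j * x j ≠ 0` for every `i`.  The proof uses the combinatorial
Nullstellensatz: the product `∏ i, ∑ j, A i j X j` does not lie in the Frobenius-stable ideal
`(X_j ^ (p^f))`, because this ideal is stable under invertible linear substitutions and does not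
contain `∏ X_i`.
-/

set_option autoImplicit false

noncomputable section

namespace Groth.Agent.Lib.LinFormsFinField

open MvPolynomial

variable {K : Type*} [Field K] {n : ℕ}

/-- The linear substitution `X i ↦ ∑ l, B i l X l`. -/
def subst (B : Matrix (Fin n) (Fin n) K) : MvPolynomial (Fin n) K →ₐ[K] MvPolynomial (Fin n) K :=
  aeval fun i => ∑ l, C (B i l) * X l

@[simp]
theorem subst_X (B : Matrix (Fin n) (Fin n) K) (i : Fin n) :
    subst B (X i) = ∑ l, C (B i l) * X l := by
  simp [subst]

theorem subst_comp (A B : Matrix (Fin n) (Fin n) K) :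
    (subst B).comp (subst A) = subst (A * B) := by
  apply MvPolynomial.algHom_ext
  intro i
  simp only [AlgHom.comp_apply, subst_X, map_sum, map_mul, algHom_C, Matrix.mul_apply,
    Finset.mul_sum, Finset.sum_mul]
  rw [Finset.sum_comm]
  refine Finset.sum_congr rfl fun l _ => ?_
  refine Finset.sum_congr rfl fun j _ => ?_
  rw [mul_assoc]
  rfl

theorem subst_one : subst (1 : Matrix (Fin n) (Fin n) K) = AlgHom.id K _ := by
  apply MvPolynomial.algHom_ext
  intro i
  simp [Matrix.one_apply, Finset.sum_ite_eq]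

/-- The ideal `(X_j ^ q)`. -/
def frobIdeal (n q : ℕ) : Ideal (MvPolynomial (Fin n) K) :=
  Ideal.span ((fun s => monomial s (1 : K)) '' (Set.range fun j : Fin n => Finsupp.single j q))

theorem X_pow_mem_frobIdeal (q : ℕ) (j : Fin n) :
    (X j : MvPolynomial (Fin n) K) ^ q ∈ frobIdeal (K := K) n q := by
  rw [X_pow_eq_monomial]
  exact Ideal.subset_span ⟨_, ⟨j, rfl⟩, rfl⟩

theorem subst_mem_frobIdeal (p : ℕ) [Fact p.Prime] [CharP K p] (f : ℕ)
    (B : Matrix (Fin n) (Fin n) K) {g : MvPolynomial (Fin n) K}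
    (hg : g ∈ frobIdeal (K := K) n (p ^ f)) : subst B g ∈ frobIdeal (K := K) n (p ^ f) := by
  have hle : frobIdeal (K := K) n (p ^ f) ≤
      (frobIdeal (K := K) n (p ^ f)).comap (subst B : MvPolynomial (Fin n) K →+* _) := by
    rw [frobIdeal, Ideal.span_le]
    rintro _ ⟨_, ⟨j, rfl⟩, rfl⟩
    rw [SetLike.mem_coe, Ideal.mem_comap]
    change subst B (monomial (Finsupp.single j (p ^ f)) 1) ∈ _
    rw [← X_pow_eq_monomial, map_pow, subst_X, sum_pow_char_pow]
    refine Ideal.sum_mem _ fun l _ => ?_
    rw [mul_pow]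
    exact Ideal.mul_mem_left _ _ (X_pow_mem_frobIdeal _ l)
  exact hle hg

theorem prod_X_not_mem_frobIdeal {q : ℕ} (hq : 2 ≤ q) :
    (∏ i : Fin n, (X i : MvPolynomial (Fin n) K)) ∉ frobIdeal (K := K) n q := by
  classical
  have hprod : (∏ i : Fin n, (X i : MvPolynomial (Fin n) K)) =
      monomial (∑ i : Fin n, Finsupp.single i 1) 1 := by
    rw [monomial_sum_one]
    rfl
  rw [hprod, frobIdeal, mem_ideal_span_monomial_image]
  intro h
  have hsupp : (∑ i : Fin n, Finsupp.single i 1) ∈
      (monomial (∑ i : Fin n, Finsupp.single i 1) (1 : K)).support := by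
    rw [support_monomial]
    simp
  obtain ⟨_, ⟨j, rfl⟩, hj⟩ := h _ hsupp
  have := hj j
  simp only [Finsupp.single_eq_same, Finsupp.coe_finsetSum, Finset.sum_apply] at this
  rw [Finset.sum_eq_single j (fun b _ hb => Finsupp.single_eq_of_ne hb.symm)
    (fun h => absurd (Finset.mem_univ j) h)] at this
  simp only [Finsupp.single_eq_same] at this
  omega

/-- **Avoiding independent hyperplanes.** -/
theorem exists_forall_sum_mul_ne_zero (p : ℕ) [Fact p.Prime] [CharP K p] (f : ℕ) (hf : f ≠ 0)
    (A B : Matrix (Fin n) (Fin n) K) (hAB : A * B = 1) (S : Finset K) (hS : p ^ f ≤ S.card) :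
    ∃ x : Fin n → K, (∀ j, x j ∈ S) ∧ ∀ i, ∑ j, A i j * x j ≠ 0 := by
  classical
  set F : MvPolynomial (Fin n) K := ∏ i, ∑ j, C (A i j) * X j with hF
  have hFsub : F = subst A (∏ i, X i) := by
    rw [map_prod]
    simp [hF]
  have hq : 2 ≤ p ^ f := by
    have hp : 2 ≤ p := (Fact.out : p.Prime).two_le
    calc 2 ≤ p := hp
      _ = p ^ 1 := (pow_one p).symm
      _ ≤ p ^ f := Nat.pow_le_pow_right (by omega) (Nat.one_le_iff_ne_zero.mpr hf)
  have hFnot : F ∉ frobIdeal (K := K) n (p ^ f) := by
    intro h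
    have := subst_mem_frobIdeal p f B h
    rw [hFsub, ← AlgHom.comp_apply, subst_comp, hAB, subst_one] at this
    exact prod_X_not_mem_frobIdeal hq this
  have hhom : F.IsHomogeneous n := by
    have := IsHomogeneous.prod Finset.univ (fun i => ∑ j, C (A i j) * X j) (fun _ => 1)
      (fun i _ => IsHomogeneous.sum _ _ _ (fun j _ => (isHomogeneous_C_mul_X _ _)))
    simpa using this
  rw [frobIdeal, mem_ideal_span_monomial_image] at hFnot
  push Not at hFnot
  obtain ⟨t, ht, htq⟩ := hFnot
  have htlt : ∀ j, t j < p ^ f := by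
    intro j
    by_contra hj
    push Not at hj
    refine htq _ ⟨j, rfl⟩ ?_
    intro l
    by_cases hl : l = j
    · subst hl
      simpa using hj
    · rw [Finsupp.single_eq_of_ne hl]
      exact Nat.zero_le _
  have hF0 : F ≠ 0 := by
    intro h
    rw [h] at ht
    simp at ht
  have hdeg : F.totalDegree = t.degree := by
    rw [hhom.totalDegree hF0]
    by_contra hne
    exact (mem_support_iff.mp ht) (hhom.coeff_eq_zero (Ne.symm hne))
  obtain ⟨x, hxS, hx⟩ := combinatorial_nullstellensatz_exists_eval_nonzero F t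
    (mem_support_iff.mp ht) hdeg (fun _ => S) (fun i => lt_of_lt_of_le (htlt i) hS)
  refine ⟨x, hxS, fun i => ?_⟩
  rw [hF, map_prod] at hx
  have := (Finset.prod_ne_zero_iff.mp hx) i (Finset.mem_univ i)
  simpa using this

end Groth.Agent.Lib.LinFormsFinField
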