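import Groth.Agent.Lib.EWCxH44

/-!
# Lifting additive functors `ModuleCat A ⥤ complexes of abelian groups` to complexes of `A`-modules (helper44)

An additive functor `Φ₀ : ModuleCat A ⥤ HomologicalComplex AddCommGrpCat c` lifts canonically to a functor
`linLift Φ₀ : ModuleCat A ⥤ HomologicalComplex (ModuleCat A) c`, the scalar `a` acting on `Φ₀(M)` through
`Φ₀(a • 𝟙_M)`. The lift is `A`-linear, has the same underlying complexes of abelian groups, and preserves
colimits degreewise as soon as `Φ₀` does.
-/

set_option autoImplicit false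
universe u

open CategoryTheory CategoryTheory.Limits

namespace Groth.Agent.Lib.LinLiftH44

variable {A : Type u} [CommRing A] {ι : Type} {c : ComplexShape ι}

section Homology

variable {C D : Type*} [Category C] [Category D] [Preadditive C] [Preadditive D]
  [CategoryWithHomology C] [CategoryWithHomology D]

/-- An additive functor preserving homology commutes with the homology of complexes. -/
noncomputable def mapHomologyFunctorIso (F : C ⥤ D) [F.Additive] [F.PreservesHomology]
    (c : ComplexShape ι) (i : ι) :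
    F.mapHomologicalComplex c ⋙ HomologicalComplex.homologyFunctor D c i ≅
      HomologicalComplex.homologyFunctor C c i ⋙ F :=
  NatIso.ofComponents (fun K => (K.sc i).mapHomologyIso F)
    (fun f => ShortComplex.mapHomologyIso_hom_naturality
      ((HomologicalComplex.shortComplexFunctor C c i).map f) F)

end Homology

variable (Φ₀ : ModuleCat.{u} A ⥤ HomologicalComplex AddCommGrpCat.{u} c) [Φ₀.Additive]

/-- the action of `A` on `Φ₀(M)_n` by functoriality -/
noncomputable def actHom (M : ModuleCat.{u} A) (n : ι) : A →+* AddMonoid.End ((Φ₀.obj M).X n) where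
  toFun a := ((Φ₀.map (a • 𝟙 M)).f n).hom
  map_one' := by
    rw [one_smul, Φ₀.map_id]
    rfl
  map_mul' a b := by
    have h : (a * b) • 𝟙 M = (b • 𝟙 M) ≫ (a • 𝟙 M) := by
      rw [Linear.smul_comp, Linear.comp_smul, Category.id_comp, smul_smul, mul_comm]
    rw [h, Φ₀.map_comp]
    rfl
  map_zero' := by
    rw [zero_smul, Φ₀.map_zero]
    rfl
  map_add' a b := by
    rw [add_smul, Φ₀.map_add]
    rfl

/-- the `A`-module structure on `Φ₀(M)_n` by functoriality -/
@[reducible] noncomputable def moduleX (M : ModuleCat.{u} A) (n : ι) : Module A ((Φ₀.obj M).X n) :=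
  Module.compHom _ (actHom Φ₀ M n)

theorem smul_def (M : ModuleCat.{u} A) (n : ι) (a : A) (y : (Φ₀.obj M).X n) :
    letI := moduleX Φ₀ M n
    a • y = ((Φ₀.map (a • 𝟙 M)).f n).hom y := rfl

/-- `Φ₀(M)_n` as an `A`-module -/
noncomputable def objX (M : ModuleCat.{u} A) (n : ι) : ModuleCat.{u} A :=
  letI := moduleX Φ₀ M n
  ModuleCat.of A ((Φ₀.obj M).X n)

/-- a map commuting with the functorial actions, as a morphism of `A`-modules -/
noncomputable def homX {M M' : ModuleCat.{u} A} {n n' : ι} (f : (Φ₀.obj M).X n ⟶ (Φ₀.obj M').X n')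
    (hf : ∀ a : A, (Φ₀.map (a • 𝟙 M)).f n ≫ f = f ≫ (Φ₀.map (a • 𝟙 M')).f n') :
    objX Φ₀ M n ⟶ objX Φ₀ M' n' :=
  letI := moduleX Φ₀ M n
  letI := moduleX Φ₀ M' n'
  ModuleCat.ofHom
    { toFun := f.hom
      map_add' := map_add _
      map_smul' := fun a y => congrArg (fun g => g.hom y) (hf a) }

@[simp]
theorem homX_apply {M M' : ModuleCat.{u} A} {n n' : ι} (f : (Φ₀.obj M).X n ⟶ (Φ₀.obj M').X n')
    (hf) (y : (Φ₀.obj M).X n) : (homX Φ₀ f hf).hom y = f.hom y := rfl

theorem homX_comp {M M' M'' : ModuleCat.{u} A} {n n' n'' : ι}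
    (f : (Φ₀.obj M).X n ⟶ (Φ₀.obj M').X n') (g : (Φ₀.obj M').X n' ⟶ (Φ₀.obj M'').X n'') (hf hg hfg) :
    homX Φ₀ f hf ≫ homX Φ₀ g hg = homX Φ₀ (f ≫ g) hfg := rfl

/-- the lifted complex -/
noncomputable def objCx (M : ModuleCat.{u} A) : HomologicalComplex (ModuleCat.{u} A) c where
  X n := objX Φ₀ M n
  d i j := homX Φ₀ ((Φ₀.obj M).d i j) (fun a => ((Φ₀.map (a • 𝟙 M)).comm i j))
  shape i j h := by
    apply ModuleCat.hom_ext
    refine LinearMap.ext fun y => ?_
    have := (Φ₀.obj M).shape i j h
    exact congrArg (fun g => g.hom y) this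
  d_comp_d' i j k _ _ := by
    apply ModuleCat.hom_ext
    refine LinearMap.ext fun y => ?_
    have := (Φ₀.obj M).d_comp_d i j k
    exact congrArg (fun g => g.hom y) this

/-- the lifted functor -/
noncomputable def linLift : ModuleCat.{u} A ⥤ HomologicalComplex (ModuleCat.{u} A) c where
  obj M := objCx Φ₀ M
  map {M M'} g :=
    { f := fun n => homX Φ₀ ((Φ₀.map g).f n) (fun a => by
        rw [← HomologicalComplex.comp_f, ← HomologicalComplex.comp_f, ← Φ₀.map_comp, ← Φ₀.map_comp,
          Linear.smul_comp, Linear.comp_smul, Category.id_comp, Category.comp_id])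
      comm' := fun i j _ => by
        apply ModuleCat.hom_ext
        refine LinearMap.ext fun y => ?_
        exact congrArg (fun g => g.hom y) ((Φ₀.map g).comm i j) }
  map_id M := by
    apply HomologicalComplex.hom_ext
    intro n
    apply ModuleCat.hom_ext
    refine LinearMap.ext fun y => ?_
    change ((Φ₀.map (𝟙 M)).f n).hom y = y
    rw [Φ₀.map_id]
    rfl
  map_comp g h := by
    apply HomologicalComplex.hom_ext
    intro n
    apply ModuleCat.hom_ext
    refine LinearMap.ext fun y => ?_
    change ((Φ₀.map (g ≫ h)).f n).hom y = ((Φ₀.map h).f n).hom (((Φ₀.map g).f n).hom y)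
    rw [Φ₀.map_comp]
    rfl

theorem linLift_map_f_apply {M M' : ModuleCat.{u} A} (g : M ⟶ M') (n : ι) (y : (Φ₀.obj M).X n) :
    (((linLift Φ₀).map g).f n).hom y = ((Φ₀.map g).f n).hom y := rfl

instance : (linLift Φ₀).Additive where
  map_add {M M' g h} := by
    apply HomologicalComplex.hom_ext
    intro n
    apply ModuleCat.hom_ext
    refine LinearMap.ext fun y => ?_
    change ((Φ₀.map (g + h)).f n).hom y = ((Φ₀.map g).f n).hom y + ((Φ₀.map h).f n).hom y
    rw [Φ₀.map_add]
    rfl

instance : (linLift Φ₀).Linear A where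
  map_smul {M M'} g a := by
    apply HomologicalComplex.hom_ext
    intro n
    apply ModuleCat.hom_ext
    refine LinearMap.ext fun y => ?_
    change ((Φ₀.map (a • g)).f n).hom y = ((Φ₀.map (a • 𝟙 M')).f n).hom (((Φ₀.map g).f n).hom y)
    have h : a • g = g ≫ (a • 𝟙 M') := by
      rw [Linear.comp_smul, Category.comp_id]
    rw [h, Φ₀.map_comp]
    rfl

/-- the lift has the same underlying complexes of abelian groups -/
noncomputable def linLiftForgetIso :
    linLift Φ₀ ⋙ (forget₂ (ModuleCat.{u} A) AddCommGrpCat.{u}).mapHomologicalComplex c ≅ Φ₀ :=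
  NatIso.ofComponents (fun M => HomologicalComplex.Hom.isoOfComponents (fun n => Iso.refl _)
    (by
      intro i j _
      simp only [Iso.refl_hom, Category.comp_id, Category.id_comp]
      rfl))
    (by
      intro M M' g
      apply HomologicalComplex.hom_ext
      intro n
      simp only [HomologicalComplex.comp_f, HomologicalComplex.Hom.isoOfComponents_hom_f, Iso.refl_hom,
        Category.comp_id, Category.id_comp]
      rfl)

/-- homology of the lift, forgetting the module structure, is the homology of the original functor -/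
noncomputable def linLiftHomologyIso (p : ι) :
    linLift Φ₀ ⋙ HomologicalComplex.homologyFunctor (ModuleCat.{u} A) c p ⋙
        forget₂ (ModuleCat.{u} A) AddCommGrpCat.{u} ≅
      Φ₀ ⋙ HomologicalComplex.homologyFunctor AddCommGrpCat.{u} c p :=
  Functor.isoWhiskerLeft (linLift Φ₀)
      (mapHomologyFunctorIso (forget₂ (ModuleCat.{u} A) AddCommGrpCat.{u}) c p).symm ≪≫
    (Functor.associator _ _ _).symm ≪≫
    Functor.isoWhiskerRight (linLiftForgetIso Φ₀) _

/-- degreewise, the lift followed by the forgetful functor is the original functor -/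
noncomputable def linLiftEvalForgetIso (n : ι) :
    (linLift Φ₀ ⋙ HomologicalComplex.eval (ModuleCat.{u} A) c n) ⋙
        forget₂ (ModuleCat.{u} A) AddCommGrpCat.{u} ≅
      Φ₀ ⋙ HomologicalComplex.eval AddCommGrpCat.{u} c n :=
  NatIso.ofComponents (fun M => Iso.refl _) (by
    intro M M' g
    simp only [Iso.refl_hom, Category.comp_id, Category.id_comp]
    rfl)

instance preservesColimits_linLift_eval (n : ι)
    [PreservesColimitsOfSize.{u, u} (Φ₀ ⋙ HomologicalComplex.eval AddCommGrpCat.{u} c n)] :
    PreservesColimitsOfSize.{u, u} (linLift Φ₀ ⋙ HomologicalComplex.eval (ModuleCat.{u} A) c n) := by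
  haveI : PreservesColimitsOfSize.{u, u}
      ((linLift Φ₀ ⋙ HomologicalComplex.eval (ModuleCat.{u} A) c n) ⋙
        forget₂ (ModuleCat.{u} A) AddCommGrpCat.{u}) :=
    preservesColimits_of_natIso (linLiftEvalForgetIso Φ₀ n).symm
  haveI : ReflectsColimitsOfSize.{u, u} (forget₂ (ModuleCat.{u} A) AddCommGrpCat.{u}) :=
    reflectsColimits_of_reflectsIsomorphisms
  exact preservesColimits_of_reflects_of_preserves _ (forget₂ (ModuleCat.{u} A) AddCommGrpCat.{u})

end Groth.Agent.Lib.LinLiftH44
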