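import Groth.Agent.Lib.LinRedExt55e

/-!
# Linear reductivity in exact sequences VI (helper55): the theorem

`isLinearlyReductive_iff_of_exact`: for `φ : AQ → AG` injective, `ψ : AG → AK` surjective
bialgebra maps of commutative Hopf algebras over a field with `ker ψ = φ(AQ⁺)·AG`
(no finiteness assumption): `AG` linearly reductive iff `AK` and `AQ` are.
-/

set_option autoImplicit false
universe u

open scoped TensorProduct
open WithConv

namespace Groth.Agent.Lib.LinRedExt55

open Groth.Agent.Lib.HopfSub41 Groth.Agent.Lib.NormalKer55 Groth.Agent.Lib.ComodIntegral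
  Groth.Agent.Lib.ComodFP2 Groth.Agent.Lib.Comod Groth.Agent.Lib.HopfFlat41

section Thm

variable {k AQ AG AK : Type u} [Field k] [CommRing AQ] [HopfAlgebra k AQ] [CommRing AG]
  [HopfAlgebra k AG] [CommRing AK] [HopfAlgebra k AK]
  (φ : AQ →ₐc[k] AG) (hφ : Function.Injective φ) (ψ : AG →ₐc[k] AK)
  (hψ : Function.Surjective ψ)
  (hker : RingHom.ker (ψ : AG →ₐ[k] AK) =
    Ideal.map (φ : AQ →ₐ[k] AG) (RingHom.ker (Bialgebra.counitAlgHom k AQ)))

include hker in
theorem psi_phi (q : AQ) : ψ (φ q) = CoalgebraStruct.counit (R := k) q • (1 : AK) := by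
  have h1 : q - CoalgebraStruct.counit (R := k) q • (1 : AQ) ∈
      RingHom.ker (Bialgebra.counitAlgHom k AQ) := by
    rw [RingHom.mem_ker, map_sub, map_smul, map_one, Bialgebra.counitAlgHom_apply, smul_eq_mul,
      mul_one, sub_self]
  have h2 : (φ : AQ →ₐ[k] AG) (q - CoalgebraStruct.counit (R := k) q • (1 : AQ)) ∈
      RingHom.ker (ψ : AG →ₐ[k] AK) := by
    rw [hker]
    exact Ideal.mem_map_of_mem _ h1
  rw [RingHom.mem_ker] at h2
  have h3 : ψ (φ (q - CoalgebraStruct.counit (R := k) q • (1 : AQ))) = 0 := h2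
  rw [map_sub, map_sub, map_smul, map_smul, map_one, map_one, sub_eq_zero] at h3
  exact h3

include hker in
theorem dltG_phi (q : AQ) :
    dltG (k := k) (ψ : AG →ₐ[k] AK) (φ q) = (φ q) ⊗ₜ[k] (1 : AK) := by
  show Algebra.TensorProduct.map (AlgHom.id k AG) (ψ : AG →ₐ[k] AK)
    (CoalgebraStruct.comul (R := k) (φ q)) = _
  rw [← CoalgHomClass.map_comp_comul_apply φ q]
  have key : ∀ t : AQ ⊗[k] AQ, Algebra.TensorProduct.map (AlgHom.id k AG) (ψ : AG →ₐ[k] AK)
      (TensorProduct.map (φ : AQ →ₗ[k] AG) (φ : AQ →ₗ[k] AG) t) =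
      (φ (TensorProduct.rid k AQ ((CoalgebraStruct.counit (R := k) (A := AQ)).lTensor AQ t)))
        ⊗ₜ[k] (1 : AK) := by
    intro t
    induction t using TensorProduct.induction_on with
    | zero => simp
    | add x y hx hy => simp only [map_add, hx, hy, TensorProduct.add_tmul]
    | tmul x y =>
      simp only [TensorProduct.map_tmul, Algebra.TensorProduct.map_tmul, AlgHom.id_apply,
        LinearMap.lTensor_tmul, TensorProduct.rid_tmul, map_smul]
      show (φ x) ⊗ₜ[k] ψ (φ y) = _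
      rw [psi_phi φ ψ hker y, TensorProduct.tmul_smul, TensorProduct.smul_tmul']
  rw [key, Coalgebra.lTensor_counit_comul, TensorProduct.rid_tmul, one_smul]

include hφ hψ hker in
/-- **Linear reductivity in exact sequences** (no finiteness assumptions). -/
theorem isLinearlyReductive_iff_of_exact :
    HopfRep.IsLinearlyReductive k AG ↔
      HopfRep.IsLinearlyReductive k AK ∧ HopfRep.IsLinearlyReductive k AQ := by
  constructor
  · intro hG
    obtain ⟨α, hα⟩ := exists_isInt_of_isLinearlyReductive hG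
    refine ⟨?_, isLinearlyReductive_of_isInt (isInt_comp_of_injective φ hφ α hα)⟩
    letI : Algebra AQ AG := (φ : AQ →+* AG).toAlgebra
    haveI : IsScalarTower k AQ AG :=
      IsScalarTower.of_algebraMap_eq fun r => (AlgHomClass.commutes φ r).symm
    haveI : Module.FaithfullyFlat AQ AG := faithfullyFlat_of_bialgHom φ hφ
    have hB₀ : ∀ b ∈ (φ : AQ →ₐ[k] AG).range, ∃ b₀ : AQ, algebraMap AQ AG b₀ = b := by
      rintro b ⟨q, hq⟩
      exact ⟨q, hq⟩
    have hker' : ∀ a : AG, ψ a = 0 → a ∈ SGA3.augIdealSpan k AG (φ : AQ →ₐ[k] AG).range := by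
      intro a ha
      have ha' : a ∈ RingHom.ker (ψ : AG →ₐ[k] AK) := ha
      rw [hker, Ideal.map] at ha'
      refine Ideal.span_mono ?_ ha'
      rintro _ ⟨q, hq, rfl⟩
      refine ⟨⟨q, rfl⟩, ?_⟩
      have hq' : CoalgebraStruct.counit (R := k) q = 0 := hq
      have := CoalgHomClass.counit_comp_apply φ q
      rw [hq'] at this
      exact this
    exact isLinearlyReductive_of_fpat
      (fpat_of_isInt_of_exact (B₀ := AQ) ψ hψ (φ : AQ →ₐ[k] AG).range hB₀ (comulStable_range φ)
        hker' (fun b => dltG_phi φ ψ hker b) α hα)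
  · rintro ⟨hK, hQ⟩
    obtain ⟨βK, hβK, hβK1⟩ := exists_slice_of_isLinearlyReductive hK
    obtain ⟨βQ, hβQ, hβQ1⟩ := exists_slice_of_isLinearlyReductive hQ
    obtain ⟨γ, hγ, hγ1⟩ := exists_slice_of_exact φ hφ ψ hker βK hβK hβK1 βQ hβQ hβQ1
    exact isLinearlyReductive_of_fpat (fpat_of_slice γ hγ hγ1)

end Thm

end Groth.Agent.Lib.LinRedExt55
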