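import Groth.Agent.Lib.AffRep16
import Mathlib.LinearAlgebra.Matrix.ToLin
import Mathlib.RingTheory.TensorProduct.Free
import Mathlib.LinearAlgebra.TensorProduct.Basis
import Mathlib.RingTheory.Smooth.Basic
import Mathlib.RingTheory.FinitePresentation

/-!
# Coordinate rings of closed subfunctors of `GL(M)` and the pinned binder `QuadGrp.LinRep` (helper16)

`M` free with basis `b : Basis (Fin n) R M`.  `Pol R n = R[X_ij, Y_ij]`, `J₀` the relations `XY = YX = 1`,
`Bq E = Pol R n ⧸ span (J₀ ∪ E)` for a set `E` of extra equations; `evalPair X Y`, `cX b A g`/`cY b A g` (matrices of an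
automorphism of `A ⊗ M` and of its inverse), `ofPair`, `gU b E` (universal automorphism), `classify`, `pointOf`.
`CutOut b E S`: the subgroup functor `S` is cut out by `E`.  Main results:
* `exists_isUniv (hS : CutOut b E S) G (D : LinRep R M S G) : ∃ ξ, AffRep16.IsUniv G (Bq E) ξ` (so `G ≅ Spec (Bq E)`);
* `formallySmooth_of_lift` / `exists_lift_of_formallySmooth`: formal smoothness of `Bq E` ⇔ lifting of points of `S` along
  square-zero extensions (on coordinates); `finitePresentation_Bq` for finite `E`.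
-/

set_option autoImplicit false
set_option linter.style.haveILetI false
set_option linter.unusedSectionVars false
set_option linter.unusedSimpArgs false
set_option linter.unusedVariables false

namespace Groth.Agent.Lib.LinRepAlg16
open CategoryTheory AlgebraicGeometry QuadGrp TensorProduct MvPolynomial

universe u
variable {R : Type u} [CommRing R] {M : Type u} [AddCommGroup M] [Module R M]
variable {n : ℕ} (b : Module.Basis (Fin n) R M)

/-- Index set of the coordinates `X_ij`, `Y_ij`. -/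
abbrev Idx (n : ℕ) := (Fin n × Fin n) ⊕ (Fin n × Fin n)

/-- The polynomial ring in the coordinates. -/
abbrev Pol (R : Type u) [CommRing R] (n : ℕ) := MvPolynomial (Idx n) R

/-- The universal matrix `X`. -/
noncomputable def Xm (R : Type u) [CommRing R] (n : ℕ) : Matrix (Fin n) (Fin n) (Pol R n) :=
  Matrix.of fun i j => X (Sum.inl (i, j))

/-- The universal matrix `Y` (the inverse). -/
noncomputable def Ym (R : Type u) [CommRing R] (n : ℕ) : Matrix (Fin n) (Fin n) (Pol R n) :=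
  Matrix.of fun i j => X (Sum.inr (i, j))

/-- The relations `XY = 1`, `YX = 1`. -/
def J₀ (R : Type u) [CommRing R] (n : ℕ) : Set (Pol R n) :=
  (Set.range fun ij : Fin n × Fin n => (Xm R n * Ym R n - 1) ij.1 ij.2) ∪
    Set.range fun ij : Fin n × Fin n => (Ym R n * Xm R n - 1) ij.1 ij.2

section eval
variable {A : Type u} [CommRing A] [Algebra R A]

/-- Evaluate coordinates at a pair of matrices. -/
noncomputable def evalPair (X Y : Matrix (Fin n) (Fin n) A) : Pol R n →ₐ[R] A :=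
  aeval (Sum.elim (fun ij => X ij.1 ij.2) (fun ij => Y ij.1 ij.2))

theorem evalPair_Xm (X Y : Matrix (Fin n) (Fin n) A) :
    (Xm R n).map (evalPair (R := R) X Y) = X := by
  ext i j
  simp [evalPair, Xm]

theorem evalPair_Ym (X Y : Matrix (Fin n) (Fin n) A) :
    (Ym R n).map (evalPair (R := R) X Y) = Y := by
  ext i j
  simp [evalPair, Ym]

theorem evalPair_J₀ (X Y : Matrix (Fin n) (Fin n) A) (h1 : X * Y = 1) (h2 : Y * X = 1)
    (e : Pol R n) (he : e ∈ J₀ R n) : evalPair (R := R) X Y e = 0 := by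
  rcases he with ⟨ij, rfl⟩ | ⟨ij, rfl⟩
  · have : evalPair (R := R) X Y ((Xm R n * Ym R n - 1) ij.1 ij.2) =
        ((Xm R n * Ym R n - 1).map (evalPair (R := R) X Y)) ij.1 ij.2 := rfl
    rw [this, Matrix.map_sub (evalPair X Y) (fun a b => map_sub _ a b), Matrix.map_mul, evalPair_Xm, evalPair_Ym, h1]
    simp
  · have : evalPair (R := R) X Y ((Ym R n * Xm R n - 1) ij.1 ij.2) =
        ((Ym R n * Xm R n - 1).map (evalPair (R := R) X Y)) ij.1 ij.2 := rfl
    rw [this, Matrix.map_sub (evalPair X Y) (fun a b => map_sub _ a b), Matrix.map_mul, evalPair_Xm, evalPair_Ym, h2]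
    simp

theorem algHom_eq_evalPair (ψ : Pol R n →ₐ[R] A) :
    ψ = evalPair ((Xm R n).map ψ) ((Ym R n).map ψ) := by
  apply MvPolynomial.algHom_ext
  rintro (ij | ij) <;> simp [evalPair, Xm, Ym]

end eval

end Groth.Agent.Lib.LinRepAlg16

namespace Groth.Agent.Lib.LinRepAlg16
open CategoryTheory AlgebraicGeometry QuadGrp TensorProduct MvPolynomial

universe u
variable {R : Type u} [CommRing R] {M : Type u} [AddCommGroup M] [Module R M]
variable {n : ℕ} (b : Module.Basis (Fin n) R M)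

section mats
variable (A : Type u) [CommRing A] [Algebra R A]

/-- The base-changed basis. -/
noncomputable abbrev bA : Module.Basis (Fin n) A (A ⊗[R] M) := b.baseChange A

/-- Matrix of an endomorphism of `A ⊗ M`. -/
noncomputable def mat (g : (A ⊗[R] M) →ₗ[A] (A ⊗[R] M)) : Matrix (Fin n) (Fin n) A :=
  LinearMap.toMatrix (bA b A) (bA b A) g

/-- The endomorphism of `A ⊗ M` with a given matrix. -/
noncomputable def ofMat (X : Matrix (Fin n) (Fin n) A) : (A ⊗[R] M) →ₗ[A] (A ⊗[R] M) :=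
  Matrix.toLin (bA b A) (bA b A) X

theorem mat_ofMat (X : Matrix (Fin n) (Fin n) A) : mat b A (ofMat b A X) = X :=
  LinearMap.toMatrix_toLin _ _ X

theorem ofMat_mat (g : (A ⊗[R] M) →ₗ[A] (A ⊗[R] M)) : ofMat b A (mat b A g) = g :=
  Matrix.toLin_toMatrix _ _ g

theorem ofMat_mul (X Y : Matrix (Fin n) (Fin n) A) :
    ofMat b A (X * Y) = ofMat b A X ∘ₗ ofMat b A Y :=
  Matrix.toLin_mul _ _ _ X Y

theorem ofMat_one : ofMat b A (1 : Matrix (Fin n) (Fin n) A) = LinearMap.id :=
  Matrix.toLin_one _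

theorem mat_comp (g h : (A ⊗[R] M) →ₗ[A] (A ⊗[R] M)) : mat b A (g ∘ₗ h) = mat b A g * mat b A h :=
  LinearMap.toMatrix_comp _ _ _ g h

theorem mat_id : mat b A (LinearMap.id : (A ⊗[R] M) →ₗ[A] (A ⊗[R] M)) = 1 :=
  LinearMap.toMatrix_id _

theorem ofMat_apply_basis (X : Matrix (Fin n) (Fin n) A) (j : Fin n) :
    ofMat b A X (1 ⊗ₜ[R] b j) = ∑ i, X i j ⊗ₜ[R] b i := by
  have h := Matrix.toLin_self (bA b A) (bA b A) X j
  rw [Module.Basis.baseChange_apply] at h
  rw [ofMat, h]
  refine Finset.sum_congr rfl fun i _ => ?_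
  rw [Module.Basis.baseChange_apply, TensorProduct.smul_tmul', smul_eq_mul, mul_one]

/-- The linear equivalence attached to a pair of mutually inverse matrices. -/
noncomputable def ofPair (X Y : Matrix (Fin n) (Fin n) A) (h1 : X * Y = 1) (h2 : Y * X = 1) :
    (A ⊗[R] M) ≃ₗ[A] (A ⊗[R] M) :=
  LinearEquiv.ofLinearMap (ofMat b A X) (ofMat b A Y)
    (by rw [← ofMat_mul, h1, ofMat_one]) (by rw [← ofMat_mul, h2, ofMat_one])

theorem ofPair_coe (X Y : Matrix (Fin n) (Fin n) A) (h1 : X * Y = 1) (h2 : Y * X = 1) :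
    (ofPair b A X Y h1 h2 : (A ⊗[R] M) →ₗ[A] (A ⊗[R] M)) = ofMat b A X := rfl

theorem ofPair_symm_coe (X Y : Matrix (Fin n) (Fin n) A) (h1 : X * Y = 1) (h2 : Y * X = 1) :
    ((ofPair b A X Y h1 h2).symm : (A ⊗[R] M) →ₗ[A] (A ⊗[R] M)) = ofMat b A Y := rfl

/-- coordinates of a linear automorphism -/
noncomputable def cX (g : (A ⊗[R] M) ≃ₗ[A] (A ⊗[R] M)) : Matrix (Fin n) (Fin n) A := mat b A g.toLinearMap
noncomputable def cY (g : (A ⊗[R] M) ≃ₗ[A] (A ⊗[R] M)) : Matrix (Fin n) (Fin n) A := mat b A g.symm.toLinearMap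

theorem cX_mul_cY (g : (A ⊗[R] M) ≃ₗ[A] (A ⊗[R] M)) : cX b A g * cY b A g = 1 := by
  rw [cX, cY, ← mat_comp, LinearEquiv.comp_symm, mat_id]

theorem cY_mul_cX (g : (A ⊗[R] M) ≃ₗ[A] (A ⊗[R] M)) : cY b A g * cX b A g = 1 := by
  rw [cX, cY, ← mat_comp, LinearEquiv.symm_comp, mat_id]

theorem ofPair_cX_cY (g : (A ⊗[R] M) ≃ₗ[A] (A ⊗[R] M)) :
    ofPair b A (cX b A g) (cY b A g) (cX_mul_cY b A g) (cY_mul_cX b A g) = g := by
  apply LinearEquiv.toLinearMap_injective
  rw [ofPair_coe, cX, ofMat_mat]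

theorem cX_ofPair (X Y : Matrix (Fin n) (Fin n) A) (h1 : X * Y = 1) (h2 : Y * X = 1) :
    cX b A (ofPair b A X Y h1 h2) = X := by
  rw [cX, ofPair_coe, mat_ofMat]

theorem cY_ofPair (X Y : Matrix (Fin n) (Fin n) A) (h1 : X * Y = 1) (h2 : Y * X = 1) :
    cY b A (ofPair b A X Y h1 h2) = Y := by
  rw [cY, ofPair_symm_coe, mat_ofMat]

/-- Two linear automorphisms agreeing on the vectors `1 ⊗ b j` are equal. -/
theorem equiv_ext (g h : (A ⊗[R] M) ≃ₗ[A] (A ⊗[R] M))
    (H : ∀ j, g (1 ⊗ₜ[R] b j) = h (1 ⊗ₜ[R] b j)) : g = h := by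
  apply LinearEquiv.toLinearMap_injective
  apply (bA b A).ext
  intro j
  rw [Module.Basis.baseChange_apply]
  exact H j

theorem apply_basis (g : (A ⊗[R] M) ≃ₗ[A] (A ⊗[R] M)) (j : Fin n) :
    g (1 ⊗ₜ[R] b j) = ∑ i, cX b A g i j ⊗ₜ[R] b i := by
  rw [← ofMat_apply_basis, cX, ofMat_mat]
  rfl

end mats

end Groth.Agent.Lib.LinRepAlg16

namespace Groth.Agent.Lib.LinRepAlg16
open CategoryTheory AlgebraicGeometry QuadGrp TensorProduct MvPolynomial

universe u
variable {R : Type u} [CommRing R] {M : Type u} [AddCommGroup M] [Module R M]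
variable {n : ℕ} (b : Module.Basis (Fin n) R M) (E : Set (Pol R n))

/-- The coordinate ring of the closed subfunctor of `GL(M)` cut out by the equations `E`. -/
abbrev Bq (E : Set (Pol R n)) := Pol R n ⧸ Ideal.span (J₀ R n ∪ E)

/-- The quotient map. -/
noncomputable abbrev mkq (E : Set (Pol R n)) : Pol R n →ₐ[R] Bq E := Ideal.Quotient.mkₐ R _

theorem mkq_eq_zero (e : Pol R n) (he : e ∈ J₀ R n ∪ E) : mkq E e = 0 :=
  Ideal.Quotient.eq_zero_iff_mem.2 (Ideal.subset_span he)

theorem XmYm_map : ((Xm R n).map (mkq E)) * ((Ym R n).map (mkq E)) = 1 := by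
  rw [← Matrix.map_mul]
  ext i j
  have h := mkq_eq_zero E ((Xm R n * Ym R n - 1) i j) (Or.inl (Or.inl ⟨(i, j), rfl⟩))
  rw [Matrix.sub_apply, map_sub, sub_eq_zero] at h
  rw [Matrix.map_apply, h, Matrix.one_apply, Matrix.one_apply]
  split_ifs <;> simp

theorem YmXm_map : ((Ym R n).map (mkq E)) * ((Xm R n).map (mkq E)) = 1 := by
  rw [← Matrix.map_mul]
  ext i j
  have h := mkq_eq_zero E ((Ym R n * Xm R n - 1) i j) (Or.inl (Or.inr ⟨(i, j), rfl⟩))
  rw [Matrix.sub_apply, map_sub, sub_eq_zero] at h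
  rw [Matrix.map_apply, h, Matrix.one_apply, Matrix.one_apply]
  split_ifs <;> simp

/-- The universal automorphism. -/
noncomputable def gU : (Bq E ⊗[R] M) ≃ₗ[Bq E] (Bq E ⊗[R] M) :=
  ofPair b (Bq E) ((Xm R n).map (mkq E)) ((Ym R n).map (mkq E)) (XmYm_map E) (YmXm_map E)

theorem evalPair_gU : evalPair (cX b (Bq E) (gU b E)) (cY b (Bq E) (gU b E)) = mkq E := by
  rw [gU, cX_ofPair, cY_ofPair]
  exact (algHom_eq_evalPair (mkq E)).symm

section
variable {A : Type u} [CommRing A] [Algebra R A]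

/-- The classifying map of a pair of inverse matrices satisfying the equations. -/
noncomputable def classify (X Y : Matrix (Fin n) (Fin n) A) (h1 : X * Y = 1) (h2 : Y * X = 1)
    (hE : ∀ e ∈ E, evalPair (R := R) X Y e = 0) : Bq E →ₐ[R] A :=
  Ideal.Quotient.liftₐ _ (evalPair X Y) (by
    intro a ha
    have hle : Ideal.span (J₀ R n ∪ E) ≤ RingHom.ker (evalPair (R := R) X Y) := by
      rw [Ideal.span_le]
      rintro e (he | he)
      · exact evalPair_J₀ X Y h1 h2 e he
      · exact hE e he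
    exact hle ha)

theorem classify_mkq (X Y : Matrix (Fin n) (Fin n) A) (h1 : X * Y = 1) (h2 : Y * X = 1)
    (hE : ∀ e ∈ E, evalPair (R := R) X Y e = 0) (p : Pol R n) :
    classify E X Y h1 h2 hE (mkq E p) = evalPair X Y p := rfl

theorem map_classify_X (X Y : Matrix (Fin n) (Fin n) A) (h1 : X * Y = 1) (h2 : Y * X = 1)
    (hE : ∀ e ∈ E, evalPair (R := R) X Y e = 0) :
    ((Xm R n).map (mkq E)).map (classify E X Y h1 h2 hE) = X := by
  rw [Matrix.map_map]
  exact evalPair_Xm X Y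

/-- A map out of `Bq E` is determined by the image of the matrix `X`. -/
theorem algHom_ext_X (φ ψ : Bq E →ₐ[R] A)
    (h : ((Xm R n).map (mkq E)).map φ = ((Xm R n).map (mkq E)).map ψ) : φ = ψ := by
  have hY : ((Ym R n).map (mkq E)).map φ = ((Ym R n).map (mkq E)).map ψ := by
    have e1 : ((Ym R n).map (mkq E)).map φ * ((Xm R n).map (mkq E)).map φ = 1 := by
      rw [← Matrix.map_mul, YmXm_map]
      exact Matrix.map_one _ (map_zero φ) (map_one φ)
    have e2 : ((Xm R n).map (mkq E)).map ψ * ((Ym R n).map (mkq E)).map ψ = 1 := by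
      rw [← Matrix.map_mul, XmYm_map]
      exact Matrix.map_one _ (map_zero ψ) (map_one ψ)
    calc ((Ym R n).map (mkq E)).map φ
        = ((Ym R n).map (mkq E)).map φ * (((Xm R n).map (mkq E)).map ψ * ((Ym R n).map (mkq E)).map ψ) := by
          rw [e2, mul_one]
      _ = (((Ym R n).map (mkq E)).map φ * ((Xm R n).map (mkq E)).map φ) * ((Ym R n).map (mkq E)).map ψ := by
          rw [h, mul_assoc]
      _ = ((Ym R n).map (mkq E)).map ψ := by rw [e1, one_mul]
  apply Ideal.Quotient.algHom_ext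
  apply MvPolynomial.algHom_ext
  rintro (ij | ij)
  · have := congrFun (congrFun h ij.1) ij.2
    simpa [Xm] using this
  · have := congrFun (congrFun hY ij.1) ij.2
    simpa [Ym] using this

end

end Groth.Agent.Lib.LinRepAlg16

namespace Groth.Agent.Lib.LinRepAlg16
open CategoryTheory AlgebraicGeometry QuadGrp TensorProduct MvPolynomial MonObj
open Groth.Agent.Lib.AffRep16

universe u
variable {R : Type u} [CommRing R] {M : Type u} [AddCommGroup M] [Module R M]
variable {n : ℕ} (b : Module.Basis (Fin n) R M) (E : Set (Pol R n))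

section
variable {A B : Type u} [CommRing A] [Algebra R A] [CommRing B] [Algebra R B]

/-- base change of an automorphism along `φ`, read on coordinates -/
theorem rTensor_apply_basis (φ : A →ₐ[R] B) (g : (A ⊗[R] M) ≃ₗ[A] (A ⊗[R] M)) (j : Fin n) :
    LinearMap.rTensor M φ.toLinearMap (g (1 ⊗ₜ[R] b j)) = ∑ i, φ (cX b A g i j) ⊗ₜ[R] b i := by
  rw [apply_basis b A g j, map_sum]
  refine Finset.sum_congr rfl fun i _ => ?_
  rw [LinearMap.rTensor_tmul]
  rfl

end

variable (S : ∀ (A : Type u) [CommRing A] [Algebra R A], Subgroup ((A ⊗[R] M) ≃ₗ[A] (A ⊗[R] M)))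

/-- The subgroup functor `S` is cut out by the equations `E`. -/
def CutOut : Prop :=
  ∀ (A : Type u) [CommRing A] [Algebra R A] (g : (A ⊗[R] M) ≃ₗ[A] (A ⊗[R] M)),
    g ∈ S A ↔ ∀ e ∈ E, evalPair (cX b A g) (cY b A g) e = 0

variable {b E S}

theorem gU_mem (hS : CutOut b E S) : gU b E ∈ S (Bq E) := by
  rw [hS (Bq E)]
  intro e he
  rw [evalPair_gU]
  exact mkq_eq_zero E e (Or.inr he)

theorem exists_isUniv (hS : CutOut b E S) (G : Over (Spec (CommRingCat.of R))) [GrpObj G]
    (D : LinRep R M S G) : ∃ ξ : specOver R (Bq E) ⟶ G, IsUniv G (Bq E) ξ := by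
  refine ⟨(D.pts (Bq E)).symm ⟨gU b E, gU_mem hS⟩, ?_⟩
  intro A _ _ y
  set g : (A ⊗[R] M) ≃ₗ[A] (A ⊗[R] M) := ((D.pts A y : S A) : (A ⊗[R] M) ≃ₗ[A] (A ⊗[R] M)) with hg
  have hgS : g ∈ S A := (D.pts A y).2
  have hgE := (hS A g).1 hgS
  -- key: the point `specOverMap φ ≫ ξ` has coordinates `φ (X)`
  have key : ∀ φ : Bq E →ₐ[R] A,
      cX b A ((D.pts A (specOverMap R φ ≫ (D.pts (Bq E)).symm ⟨gU b E, gU_mem hS⟩) : S A) :
        (A ⊗[R] M) ≃ₗ[A] (A ⊗[R] M)) = ((Xm R n).map (mkq E)).map φ := by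
    intro φ
    ext i j
    have h1 := D.natural (Bq E) A φ ((D.pts (Bq E)).symm ⟨gU b E, gU_mem hS⟩) (b j)
    rw [MulEquiv.apply_symm_apply] at h1
    change _ = LinearMap.rTensor M φ.toLinearMap ((gU b E) (1 ⊗ₜ[R] b j)) at h1
    rw [rTensor_apply_basis, apply_basis b A _ j] at h1
    have h2 := congrArg (fun v => (bA b A).repr v i) h1
    simp only [map_sum, Finsupp.coe_finsetSum, Finset.sum_apply] at h2
    have hrepr : ∀ (a : A) (k : Fin n), (bA b A).repr (a ⊗ₜ[R] b k) i = if k = i then a else 0 := by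
      intro a k
      have : a ⊗ₜ[R] b k = a • (bA b A) k := by
        rw [Module.Basis.baseChange_apply, TensorProduct.smul_tmul', smul_eq_mul, _root_.mul_one]
      rw [this, map_smul, Module.Basis.repr_self, Finsupp.smul_apply, Finsupp.single_apply, smul_eq_mul]
      split_ifs <;> simp
    simp only [hrepr, Finset.sum_ite_eq', Finset.mem_univ, if_true] at h2
    rw [h2, gU, cX_ofPair]
    rfl
  refine ⟨classify E (cX b A g) (cY b A g) (cX_mul_cY b A g) (cY_mul_cX b A g) hgE, ?_, ?_⟩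
  · apply (D.pts A).injective
    apply Subtype.ext
    have h3 := key (classify E (cX b A g) (cY b A g) (cX_mul_cY b A g) (cY_mul_cX b A g) hgE)
    rw [map_classify_X] at h3
    apply equiv_ext b A
    intro j
    rw [apply_basis b A _ j, apply_basis b A _ j, h3]
  · intro ψ hψ
    apply algHom_ext_X
    rw [map_classify_X, ← key ψ, hψ]

end Groth.Agent.Lib.LinRepAlg16

namespace Groth.Agent.Lib.LinRepAlg16
open CategoryTheory AlgebraicGeometry QuadGrp TensorProduct MvPolynomial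
open Groth.Agent.Lib.AffRep16

universe u
variable {R : Type u} [CommRing R] {M : Type u} [AddCommGroup M] [Module R M]
variable {n : ℕ} {b : Module.Basis (Fin n) R M} {E : Set (Pol R n)}
variable {S : ∀ (A : Type u) [CommRing A] [Algebra R A], Subgroup ((A ⊗[R] M) ≃ₗ[A] (A ⊗[R] M))}

section
variable {A : Type u} [CommRing A] [Algebra R A]

/-- The point of the functor attached to an algebra map out of the coordinate ring. -/
noncomputable def pointOf (f : Bq E →ₐ[R] A) : (A ⊗[R] M) ≃ₗ[A] (A ⊗[R] M) :=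
  ofPair b A (((Xm R n).map (mkq E)).map f) (((Ym R n).map (mkq E)).map f)
    (by rw [← Matrix.map_mul, XmYm_map]; exact Matrix.map_one _ (map_zero f) (map_one f))
    (by rw [← Matrix.map_mul, YmXm_map]; exact Matrix.map_one _ (map_zero f) (map_one f))

theorem cX_pointOf (f : Bq E →ₐ[R] A) : cX b A (pointOf (b := b) f) = ((Xm R n).map (mkq E)).map f := by
  rw [pointOf, cX_ofPair]

theorem cY_pointOf (f : Bq E →ₐ[R] A) : cY b A (pointOf (b := b) f) = ((Ym R n).map (mkq E)).map f := by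
  rw [pointOf, cY_ofPair]

theorem evalPair_pointOf (f : Bq E →ₐ[R] A) :
    evalPair (cX b A (pointOf (b := b) f)) (cY b A (pointOf (b := b) f)) = f.comp (mkq E) := by
  rw [cX_pointOf, cY_pointOf, Matrix.map_map, Matrix.map_map]
  exact (algHom_eq_evalPair (f.comp (mkq E))).symm

theorem pointOf_mem (hS : CutOut b E S) (f : Bq E →ₐ[R] A) : pointOf (b := b) f ∈ S A := by
  rw [hS A]
  intro e he
  rw [evalPair_pointOf, AlgHom.comp_apply, mkq_eq_zero E e (Or.inr he), map_zero]

end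

/-- **Formal smoothness from lifting of points** along square-zero extensions. -/
theorem formallySmooth_of_lift (hS : CutOut b E S)
    (H : ∀ (C : Type u) [CommRing C] [Algebra R C] (I : Ideal C), I ^ 2 = ⊥ →
      ∀ g₀ ∈ S (C ⧸ I), ∃ g ∈ S C, (cX b C g).map (Ideal.Quotient.mk I) = cX b (C ⧸ I) g₀) :
    Algebra.FormallySmooth R (Bq E) := by
  apply Algebra.FormallySmooth.of_comp_surjective
  intro C _ _ I hI f
  obtain ⟨g, hg, hgX⟩ := H C I hI (pointOf (b := b) f) (pointOf_mem hS f)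
  have hgE := (hS C g).1 hg
  refine ⟨classify E (cX b C g) (cY b C g) (cX_mul_cY b C g) (cY_mul_cX b C g) hgE, ?_⟩
  apply algHom_ext_X
  rw [← cX_pointOf (b := b) f, ← hgX]
  have : ((Xm R n).map (mkq E)).map
      ((Ideal.Quotient.mkₐ R I).comp (classify E (cX b C g) (cY b C g) (cX_mul_cY b C g) (cY_mul_cX b C g) hgE)) =
      (((Xm R n).map (mkq E)).map (classify E (cX b C g) (cY b C g) (cX_mul_cY b C g) (cY_mul_cX b C g) hgE)).map
        (Ideal.Quotient.mk I) := by
    rw [Matrix.map_map]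
    rfl
  rw [this, map_classify_X]

end Groth.Agent.Lib.LinRepAlg16

namespace Groth.Agent.Lib.LinRepAlg16
open CategoryTheory AlgebraicGeometry QuadGrp TensorProduct MvPolynomial
open Groth.Agent.Lib.AffRep16

universe u
variable {R : Type u} [CommRing R]
variable {n : ℕ} {E : Set (Pol R n)}

theorem finite_J₀ : (J₀ R n).Finite :=
  (Set.finite_range _).union (Set.finite_range _)

theorem finitePresentation_Bq (hE : E.Finite) : Algebra.FinitePresentation R (Bq E) := by
  apply Algebra.FinitePresentation.quotient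
  exact Submodule.fg_span (finite_J₀.union hE)

end Groth.Agent.Lib.LinRepAlg16

namespace Groth.Agent.Lib.LinRepAlg16
open CategoryTheory AlgebraicGeometry QuadGrp TensorProduct MvPolynomial
open Groth.Agent.Lib.AffRep16

universe u
variable {R : Type u} [CommRing R] {M : Type u} [AddCommGroup M] [Module R M]
variable {n : ℕ} {b : Module.Basis (Fin n) R M} {E : Set (Pol R n)}
variable {S : ∀ (A : Type u) [CommRing A] [Algebra R A], Subgroup ((A ⊗[R] M) ≃ₗ[A] (A ⊗[R] M))}

/-- Formal smoothness of the coordinate ring gives lifting of points along square-zero extensions. -/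
theorem exists_lift_of_formallySmooth (hS : CutOut b E S) [Algebra.FormallySmooth R (Bq E)]
    (C : Type u) [CommRing C] [Algebra R C] (I : Ideal C) (hI : I ^ 2 = ⊥)
    (g₀ : ((C ⧸ I) ⊗[R] M) ≃ₗ[C ⧸ I] ((C ⧸ I) ⊗[R] M)) (hg₀ : g₀ ∈ S (C ⧸ I)) :
    ∃ g ∈ S C, (cX b C g).map (Ideal.Quotient.mk I) = cX b (C ⧸ I) g₀ := by
  have hgE := (hS (C ⧸ I) g₀).1 hg₀
  obtain ⟨f', hf'⟩ := Algebra.FormallySmooth.comp_surjective R (Bq E) I hI
    (classify E (cX b (C ⧸ I) g₀) (cY b (C ⧸ I) g₀) (cX_mul_cY b _ g₀) (cY_mul_cX b _ g₀) hgE)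
  refine ⟨pointOf (b := b) f', pointOf_mem hS f', ?_⟩
  rw [cX_pointOf]
  have h1 := congrArg (fun f : Bq E →ₐ[R] C ⧸ I => ((Xm R n).map (mkq E)).map f) hf'
  rw [map_classify_X] at h1
  rw [← h1, Matrix.map_map]
  rfl

end Groth.Agent.Lib.LinRepAlg16
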