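import Groth.Prelude.Def_W4stk3formalspacesTaut

set_option autoImplicit false
universe u v

namespace Groth.Agent.Lib.LinTop66

open LinTop

variable {A : Type u} [CommRing A] [TopologicalSpace A]
variable {B : Type v} [CommRing B] [TopologicalSpace B] [IsTopologicalRing B]

/-- In the taut faithfully flat situation, an open ideal is the preimage of the closure of its
extension. -/
theorem mem_of_map_mem_closure (φ : A →+* B) (hφ : IsTautFFlat φ) (K : Ideal A)
    (hK : IsOpen (K : Set A)) (a : A) (ha : φ a ∈ closure ((K.map φ : Ideal B) : Set B)) : a ∈ K := by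
  have hinj := (hφ.2 K hK).injective
  have h1 : descentMap φ K (Ideal.Quotient.mk K a) = 0 := by
    change Ideal.quotientMap (K.map φ).closure φ _ (Ideal.Quotient.mk K a) = 0
    rw [Ideal.quotientMap_mk, Ideal.Quotient.eq_zero_iff_mem]
    change φ a ∈ ((K.map φ).closure : Set B)
    rw [Ideal.coe_closure]
    exact ha
  have h2 := hinj (h1.trans (map_zero _).symm)
  exact Ideal.Quotient.eq_zero_iff_mem.1 h2

/-- the closure of the extension of an open ideal is an open neighbourhood of zero -/
theorem closure_map_mem_nhds (φ : A →+* B) (hφ : IsTaut φ) (K : Ideal A)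
    (hK : IsOpen (K : Set A)) : closure ((K.map φ : Ideal B) : Set B) ∈ nhds (0 : B) :=
  (hφ.2.1 K hK).mem_nhds (subset_closure (Ideal.zero_mem _))

end Groth.Agent.Lib.LinTop66
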