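import Groth.Agent.Lib.SymLinePow
import Groth.Agent.Lib.H60LineProjQW
import Groth.Agent.Lib.AmpleIdealTwist

/-!
# Relative ampleness from a family of sections with affine `X_s` (EGA II 4.6.3/4.6.4-type) (helper28)

`(𝒮L, j)` the graded symmetric algebra of an invertible `L` on `X` (hypotheses `hj1`, `hpoly` as in helper60's `H60Line*`),
`u : 𝒮 → q_*𝒮L` a graded `q`-morphism.
* calculus of the opens `nz 𝒮L n W t = X_t` (`Lib/SymLinePow`): `nz_le`, `nz_res` (restriction), `nz_unit_mul`, `nz_str_mul_le`,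
  `nz_str_mul` (`X_{a t} = X_t ∩ X_a`); `XTW_eq_nz` (helper60's `XTW` is an instance of `nz`);
* `u_res`, `u_str`; `exists_homogeneous_lift` (homogeneous elements over a basic open lift after multiplying by a power);
* `exists_section_over`: a section `s ∈ 𝒮(W)_n` with `X_{u s}` affine can be moved to any other affine open `V` of the base,
  around any point of `X_{u s}` over `V`;
* `isAmple_restrict_of_forall_genOn'` (variant of `AmpleIdealTwist.isAmple_restrict_of_forall_genOn` without the unit factor);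
* `isRelAmple_of_family`: if the affine opens `X_{u s_a}` (`s_a` homogeneous of positive degree over affine opens of `Y`) cover
  `X` and `q` is quasi-compact, then `L` is `q`-ample.
-/

set_option autoImplicit false
universe u
open CategoryTheory CategoryTheory.Limits AlgebraicGeometry TopologicalSpace Opposite

noncomputable section

namespace Groth.Agent.Lib.LineAmpleFam

section Part1


open Groth.Agent.Lib.H4TensorPair Groth.Agent.Lib.H78TensorGen Groth.Agent.Lib.H90Invertible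
open Groth.Agent.Lib.StructureModule Groth.Agent.Lib.H60LineBundle Groth.Agent.Lib.H60LineAlg
open Groth.Agent.Lib.H78SecCoord Groth.Agent.Lib.H78GenOn Groth.Agent.Lib.SymLinePow
open Groth.Agent.Lib.H60AwayDegOne
open AlgebraicGeometry.Scheme.Modules

variable {X : Scheme.{u}} (L : X.Modules) (hL : PicF.IsInvertible L)
  (𝒮L : RelProj.QCGrAlg X) (j : L ⟶ 𝒮L.toModule)
  (hj1 : ∀ (V : X.Opens) (hV : IsAffineOpen V) (s : Γ(L, V)),
    jel L 𝒮L j V s ∈ 𝒮L.deg V hV 1)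
  (hpoly : ∀ (V : X.Opens) (_ : IsAffineOpen V) (s : Γ(L, V)), IsGen L V s →
    Function.Bijective (Polynomial.eval₂RingHom (𝒮L.str.app (op V)).hom (jel L 𝒮L j V s)))

theorem nz_le (n : ℕ) (W : X.Opens) (t : 𝒮L.presheaf.obj (op W)) : nz 𝒮L n W t ≤ W := by
  intro x hx
  obtain ⟨V, hV, hle, hxV, -⟩ := (mem_nz_iff 𝒮L n W t x).mp hx
  exact hle hxV

theorem res_res {W W' V : X.Opens} (h : W' ≤ W) (h' : V ≤ W') (t : 𝒮L.presheaf.obj (op W)) :
    (𝒮L.presheaf.map (homOfLE h').op).hom ((𝒮L.presheaf.map (homOfLE h).op).hom t) =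
      (𝒮L.presheaf.map (homOfLE (h'.trans h)).op).hom t := by
  rw [← CommRingCat.comp_apply, ← Functor.map_comp]
  rfl

/-- `X_t` is compatible with restriction of `t` to a smaller open. -/
theorem nz_res (n : ℕ) {W W' : X.Opens} (h : W' ≤ W) (t : 𝒮L.presheaf.obj (op W)) :
    nz 𝒮L n W' ((𝒮L.presheaf.map (homOfLE h).op).hom t) = nz 𝒮L n W t ⊓ W' := by
  ext x
  change x ∈ nz 𝒮L n W' _ ↔ x ∈ nz 𝒮L n W t ∧ x ∈ W'
  rw [mem_nz_iff, mem_nz_iff]
  constructor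
  · rintro ⟨V, hV, hle, hxV, hsub⟩
    refine ⟨⟨V, hV, hle.trans h, hxV, ?_⟩, hle hxV⟩
    rwa [res_res] at hsub
  · rintro ⟨⟨V, hV, hle, hxV, hsub⟩, hxW'⟩
    obtain ⟨b, hb, hxb⟩ := hV.exists_basicOpen_le (V := W') ⟨x, hxW'⟩ hxV
    refine ⟨X.basicOpen b, hV.basicOpen b, hb, hxb, ?_⟩
    have := deg_subset_span_basicOpen 𝒮L n V hV _ hsub b
    rwa [res_res, ← res_res 𝒮L h hb] at this

/-- `X_t` does not change when `t` is multiplied by a unit. -/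
theorem nz_unit_mul (n : ℕ) (W : X.Opens) (t c : 𝒮L.presheaf.obj (op W)) (hc : IsUnit c) :
    nz 𝒮L n W (c * t) = nz 𝒮L n W t := by
  ext x
  change x ∈ nz 𝒮L n W _ ↔ x ∈ nz 𝒮L n W t
  rw [mem_nz_iff, mem_nz_iff]
  have key : ∀ (V : X.Opens) (hle : V ≤ W),
      (Ideal.span {(𝒮L.presheaf.map (homOfLE hle).op).hom (c * t)} : Ideal (𝒮L.presheaf.obj (op V))) =
        Ideal.span {(𝒮L.presheaf.map (homOfLE hle).op).hom t} := by
    intro V hle
    rw [map_mul]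
    exact Ideal.span_singleton_mul_left_unit (hc.map _) _
  constructor
  · rintro ⟨V, hV, hle, hxV, hsub⟩
    exact ⟨V, hV, hle, hxV, by rwa [key V hle] at hsub⟩
  · rintro ⟨V, hV, hle, hxV, hsub⟩
    exact ⟨V, hV, hle, hxV, by rwa [key V hle]⟩

theorem str_res (W V : X.Opens) (h : V ≤ W) (a : Γ(X, W)) :
    (𝒮L.presheaf.map (homOfLE h).op).hom ((𝒮L.str.app (op W)).hom a) =
      (𝒮L.str.app (op V)).hom ((X.presheaf.map (homOfLE h).op).hom a) :=
  (congrArg (fun f ↦ f.hom a) (𝒮L.str.naturality (homOfLE h).op)).symm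

include hL hj1 hpoly in
/-- `X_{a t} ⊆ X_a`. -/
theorem nz_str_mul_le (n : ℕ) (W : X.Opens) (t : 𝒮L.presheaf.obj (op W)) (a : Γ(X, W)) :
    nz 𝒮L n W ((𝒮L.str.app (op W)).hom a * t) ≤ X.basicOpen a := by
  intro x hx
  obtain ⟨V, hV, hle, hxV, hsub⟩ := (mem_nz_iff 𝒮L n W _ x).mp hx
  obtain ⟨V₁, hx₁, s₁, hs₁⟩ := (isInvertible_iff_exists_isGen L).mp hL x
  obtain ⟨b, hbV₁, hxb⟩ := hV.exists_basicOpen_le (V := V₁) ⟨x, hx₁⟩ hxV
  have hV₂ : IsAffineOpen (X.basicOpen b) := hV.basicOpen b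
  have hs₂ := hs₁.mono hbV₁
  set ℓ := L.presheaf.map (homOfLE hbV₁).op s₁ with hℓ
  have h2 := deg_subset_span_basicOpen 𝒮L n V hV _ hsub b
  rw [res_res, map_mul, str_res] at h2
  have hT := hj1 _ hV₂ ℓ
  have hb := hpoly _ hV₂ ℓ hs₂
  have h1 : jel L 𝒮L j _ ℓ ^ n ∈ 𝒮L.deg (X.basicOpen b) hV₂ n := by
    have := mul_pow_mem (𝒮L.deg _ hV₂) _ (fun r => 𝒮L.str_mem _ hV₂ r) _ hT 1 n
    rwa [map_one, one_mul] at this
  obtain ⟨c, hc⟩ := Ideal.mem_span_singleton'.mp (h2 h1)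
  have h3 := congrArg (ev1 _ _ hb) hc
  rw [map_mul, map_mul, ev1_f, map_pow, ev1_z, one_pow] at h3
  set a' := (X.presheaf.map (homOfLE ((X.basicOpen_le b).trans hle)).op).hom a with ha'
  have hu : IsUnit a' := by
    refine IsUnit.of_mul_eq_one (ev1 _ _ hb c * ev1 _ _ hb ((𝒮L.presheaf.map (homOfLE ((X.basicOpen_le b).trans hle)).op).hom t)) ?_
    rw [← h3]; ring
  have h4 : X.basicOpen a' = X.basicOpen b := X.basicOpen_of_isUnit hu
  have h5 : X.basicOpen a' = X.basicOpen b ⊓ X.basicOpen a := X.basicOpen_res _ _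
  have : x ∈ X.basicOpen b ⊓ X.basicOpen a := by rw [← h5, h4]; exact hxb
  exact this.2

include hL hj1 hpoly in
/-- `X_{a t} = X_t ∩ X_a`. -/
theorem nz_str_mul (n : ℕ) (W : X.Opens) (t : 𝒮L.presheaf.obj (op W)) (a : Γ(X, W)) :
    nz 𝒮L n W ((𝒮L.str.app (op W)).hom a * t) = nz 𝒮L n W t ⊓ X.basicOpen a := by
  have hle : X.basicOpen a ≤ W := X.basicOpen_le a
  have hu : IsUnit ((X.presheaf.map (homOfLE hle).op).hom a) := X.toRingedSpace.isUnit_res_basicOpen a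
  have h1 := nz_res 𝒮L n hle ((𝒮L.str.app (op W)).hom a * t)
  rw [map_mul, str_res, nz_unit_mul 𝒮L n _ _ _ (hu.map _), nz_res] at h1
  apply le_antisymm
  · intro x hx
    have hxa := nz_str_mul_le L hL 𝒮L j hj1 hpoly n W t a hx
    have : x ∈ nz 𝒮L n W ((𝒮L.str.app (op W)).hom a * t) ⊓ X.basicOpen a := ⟨hx, hxa⟩
    rw [← h1] at this
    exact this
  · rw [h1]
    exact inf_le_left


end Part1

section Part2


open Groth.Agent.Lib.H4TensorPair Groth.Agent.Lib.H78TensorGen Groth.Agent.Lib.H90Invertible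
open Groth.Agent.Lib.StructureModule Groth.Agent.Lib.H60LineBundle Groth.Agent.Lib.H60LineAlg
open Groth.Agent.Lib.H78SecCoord Groth.Agent.Lib.H78GenOn Groth.Agent.Lib.SymLinePow
open Groth.Agent.Lib.H60AwayDegOne Groth.Agent.Lib.H60LineProjQW
open AlgebraicGeometry.Scheme.Modules

variable {X Y : Scheme.{u}} (q : X ⟶ Y) (L : X.Modules) (hL : PicF.IsInvertible L)
  (𝒮 : RelProj.QCGrAlg Y) (𝒮L : RelProj.QCGrAlg X) (j : L ⟶ 𝒮L.toModule)
  (u : RelProj.QGrHom q 𝒮 𝒮L)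
  (hj1 : ∀ (V : X.Opens) (hV : IsAffineOpen V) (s : Γ(L, V)),
    jel L 𝒮L j V s ∈ 𝒮L.deg V hV 1)
  (hpoly : ∀ (V : X.Opens) (_ : IsAffineOpen V) (s : Γ(L, V)), IsGen L V s →
    Function.Bijective (Polynomial.eval₂RingHom (𝒮L.str.app (op V)).hom (jel L 𝒮L j V s)))

theorem XTW_eq_nz (W : Y.Opens) (n : ℕ) (f : 𝒮.presheaf.obj (op W)) :
    XTW q 𝒮 𝒮L u W n f = nz 𝒮L n (q ⁻¹ᵁ W) ((u.app W).hom f) := by
  ext x
  change x ∈ XTW q 𝒮 𝒮L u W n f ↔ x ∈ nz 𝒮L n (q ⁻¹ᵁ W) _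
  rw [mem_XTW_iff, mem_nz_iff]
  rfl

/-- naturality of `u` on elements -/
theorem u_res {U V : Y.Opens} (i : V ≤ U) (f : 𝒮.presheaf.obj (op U)) :
    (𝒮L.presheaf.map (homOfLE (q.preimage_mono i)).op).hom ((u.app U).hom f) =
      (u.app V).hom ((𝒮.presheaf.map (homOfLE i).op).hom f) :=
  congrArg (fun k => k.hom f) (u.naturality i)

/-- `u` on structure elements -/
theorem u_str (U : Y.Opens) (a : Γ(Y, U)) :
    (u.app U).hom ((𝒮.str.app (op U)).hom a) = (𝒮L.str.app (op (q ⁻¹ᵁ U))).hom ((q.app U).hom a) :=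
  congrArg (fun k => k.hom a) (u.str_app U)

/-- lifting a homogeneous element over a basic open, up to a power of the function -/
theorem exists_homogeneous_lift (V : Y.Opens) (hV : IsAffineOpen V) (h : Γ(Y, V)) (n : ℕ)
    (z : 𝒮.presheaf.obj (op (Y.basicOpen h))) (hz : z ∈ 𝒮.deg (Y.basicOpen h) (hV.basicOpen h) n) :
    ∃ (k : ℕ) (t : 𝒮.presheaf.obj (op V)), t ∈ 𝒮.deg V hV n ∧
      (𝒮.presheaf.map (homOfLE (Y.basicOpen_le h)).op).hom t =
        z * (𝒮.presheaf.map (homOfLE (Y.basicOpen_le h)).op).hom ((𝒮.str.app (op V)).hom h) ^ k := by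
  classical
  let ψ := 𝒮.res hV (hV.basicOpen h) (Y.basicOpen_le h)
  let _inst := (𝒮.presheaf.map (homOfLE (Y.basicOpen_le h)).op).hom.toAlgebra
  let c := (𝒮.str.app (op V)).hom h
  have hloc : IsLocalization.Away c (𝒮.presheaf.obj (op (Y.basicOpen h))) := 𝒮.isQC V hV h
  obtain ⟨⟨x, s, hs⟩, hxs⟩ := IsLocalization.surj (Submonoid.powers c) z
  obtain ⟨k, rfl⟩ := (Submonoid.mem_powers_iff _ _).mp hs
  change z * ψ (c ^ k) = ψ x at hxs
  have hck : c ^ k ∈ 𝒮.deg V hV 0 := by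
    have := SetLike.pow_mem_graded k (𝒮.str_mem V hV h)
    simpa using this
  have hzc : z * ψ (c ^ k) ∈ 𝒮.deg (Y.basicOpen h) (hV.basicOpen h) n := by
    have h0 : ψ (c ^ k) ∈ 𝒮.deg (Y.basicOpen h) (hV.basicOpen h) 0 := ψ.2 hck
    simpa only [add_zero] using SetLike.mul_mem_graded hz h0
  have hxn : ψ (DirectSum.decompose (𝒮.deg V hV) x n : 𝒮.presheaf.obj (op V)) = z * ψ (c ^ k) := by
    rw [GradedRingHom.map_directSumDecompose, ← hxs, DirectSum.decompose_of_mem_same _ hzc]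
  refine ⟨k, (DirectSum.decompose (𝒮.deg V hV) x n : 𝒮.presheaf.obj (op V)), SetLike.coe_mem _, ?_⟩
  rw [← map_pow]
  exact hxn


end Part2

section Part3


open Groth.Agent.Lib.H4TensorPair Groth.Agent.Lib.H78TensorGen Groth.Agent.Lib.H90Invertible
open Groth.Agent.Lib.StructureModule Groth.Agent.Lib.H60LineBundle Groth.Agent.Lib.H60LineAlg
open Groth.Agent.Lib.H78SecCoord Groth.Agent.Lib.H78GenOn Groth.Agent.Lib.SymLinePow
open Groth.Agent.Lib.H60AwayDegOne Groth.Agent.Lib.H60LineProjQW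
open AlgebraicGeometry.Scheme.Modules

variable {X Y : Scheme.{u}} (q : X ⟶ Y) (L : X.Modules) (hL : PicF.IsInvertible L)
  (𝒮 : RelProj.QCGrAlg Y) (𝒮L : RelProj.QCGrAlg X) (j : L ⟶ 𝒮L.toModule)
  (u : RelProj.QGrHom q 𝒮 𝒮L)
  (hj1 : ∀ (V : X.Opens) (hV : IsAffineOpen V) (s : Γ(L, V)),
    jel L 𝒮L j V s ∈ 𝒮L.deg V hV 1)
  (hpoly : ∀ (V : X.Opens) (_ : IsAffineOpen V) (s : Γ(L, V)), IsGen L V s →
    Function.Bijective (Polynomial.eval₂RingHom (𝒮L.str.app (op V)).hom (jel L 𝒮L j V s)))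

include hL hj1 hpoly in
/-- **Moving a section with affine `X_s` from one affine open of the base to another** (EGA II 4.6.4-type argument):
if `s ∈ 𝒮(W)_n` has `X_{u s}` affine and `x ∈ X_{u s}` lies over the affine open `V`, there is `t' ∈ 𝒮(V)_n` with
`x ∈ X_{u t'}` and `X_{u t'}` affine. -/
theorem exists_section_over (V W : Y.Opens) (hV : IsAffineOpen V) (hW : IsAffineOpen W) (n : ℕ)
    (s : 𝒮.presheaf.obj (op W)) (hs : s ∈ 𝒮.deg W hW n) (x : X) (hxV : q x ∈ V)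
    (hx : x ∈ XTW q 𝒮 𝒮L u W n s) (haff : IsAffineOpen (XTW q 𝒮 𝒮L u W n s)) :
    ∃ t' : 𝒮.presheaf.obj (op V), t' ∈ 𝒮.deg V hV n ∧ x ∈ XTW q 𝒮 𝒮L u V n t' ∧
      IsAffineOpen (XTW q 𝒮 𝒮L u V n t') := by
  have hxW : q x ∈ W := XTW_le q 𝒮 𝒮L u W n s hx
  obtain ⟨h, h', heq, hxD⟩ := exists_basicOpen_le_affine_inter hV hW (q x) ⟨hxV, hxW⟩
  have hD : IsAffineOpen (Y.basicOpen h) := hV.basicOpen h
  have hDV : Y.basicOpen h ≤ V := Y.basicOpen_le h
  have hDW : Y.basicOpen h ≤ W := heq ▸ Y.basicOpen_le h'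
  -- restriction of `s` to `D`
  have hsD : (𝒮.presheaf.map (homOfLE hDW).op).hom s ∈ 𝒮.deg (Y.basicOpen h) hD n := 𝒮.map_mem hW hD hDW hs
  obtain ⟨k, t, ht, htres⟩ := exists_homogeneous_lift 𝒮 V hV h n _ hsD
  refine ⟨(𝒮.str.app (op V)).hom h * t, ?_, ?_⟩
  · have := SetLike.mul_mem_graded (𝒮.str_mem V hV h) ht
    simpa only [zero_add] using this
  -- the key equality of opens
  have key : XTW q 𝒮 𝒮L u V n ((𝒮.str.app (op V)).hom h * t) =
      XTW q 𝒮 𝒮L u W n s ⊓ q ⁻¹ᵁ (Y.basicOpen h) := by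
    rw [XTW_eq_nz, XTW_eq_nz, map_mul, u_str, nz_str_mul L hL 𝒮L j hj1 hpoly]
    have hpre : X.basicOpen ((q.app V).hom h) = q ⁻¹ᵁ (Y.basicOpen h) := (q.preimage_basicOpen h).symm
    rw [hpre, ← nz_res 𝒮L n (q.preimage_mono hDV), ← nz_res 𝒮L n (q.preimage_mono hDW),
      u_res q 𝒮 𝒮L u hDV, u_res q 𝒮 𝒮L u hDW, htres, map_mul, map_pow, str_res 𝒮 V (Y.basicOpen h) hDV h, u_str, mul_comm]
    refine nz_unit_mul 𝒮L n _ _ _ (IsUnit.pow _ (IsUnit.map _ (IsUnit.map _ ?_)))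
    exact Y.toRingedSpace.isUnit_res_basicOpen h
  rw [key]
  refine ⟨⟨hx, hxD⟩, ?_⟩
  -- affineness
  have hle : XTW q 𝒮 𝒮L u W n s ≤ q ⁻¹ᵁ W := XTW_le q 𝒮 𝒮L u W n s
  have h1 : q ⁻¹ᵁ (Y.basicOpen h) = X.basicOpen ((q.app W).hom h') := by
    rw [heq]; exact q.preimage_basicOpen h'
  have h2 : XTW q 𝒮 𝒮L u W n s ⊓ q ⁻¹ᵁ (Y.basicOpen h) =
      X.basicOpen ((X.presheaf.map (homOfLE hle).op).hom ((q.app W).hom h')) := by
    rw [h1]; exact (X.basicOpen_res _ _).symm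
  rw [h2]
  exact haff.basicOpen _


end Part3

section Part4


open Groth.Agent.Lib.H4TensorPair Groth.Agent.Lib.H78TensorGen Groth.Agent.Lib.H90Invertible
open Groth.Agent.Lib.StructureModule Groth.Agent.Lib.H60LineBundle Groth.Agent.Lib.H60LineAlg
open Groth.Agent.Lib.H78SecCoord Groth.Agent.Lib.H78GenOn Groth.Agent.Lib.SymLinePow
open Groth.Agent.Lib.H60AwayDegOne Groth.Agent.Lib.H60LineProjQW
open AlgebraicGeometry.Scheme.Modules

open Groth.Agent.Lib.H78Restrict in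
/-- **Wrapper (open subscheme)**: if every point of the quasi-compact open `X'` lies in an affine generating locus of a section
over `X'` of `L^{⊗(n+1)}`, then `L|_{X'}` is ample. -/
theorem isAmple_restrict_of_forall_genOn' {X : Scheme.{u}} {L : X.Modules} (hL : PicF.IsInvertible L) (X' : X.Opens)
    [CompactSpace ↥(X' : Scheme.{u})]
    (h : ∀ x ∈ X', ∃ (n : ℕ) (τ : Γ(CohB1.tensorPow L (n + 1), X')),
      x ∈ genOn (CohB1.tensorPow L (n + 1)) X' τ ∧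
        IsAffineOpen (genOn (CohB1.tensorPow L (n + 1)) X' τ)) :
    CohB1.IsAmple (L.restrict X'.ι) := by
  refine ⟨isInvertible_restrict X'.ι hL, inferInstance, fun x' => ?_⟩
  obtain ⟨n, τ, hx, haff⟩ := h x'.1 x'.2
  let N : X.Modules := CohB1.tensorPow L (n + 1)
  have hle : X'.ι ''ᵁ ⊤ ≤ X' := by rw [Scheme.Opens.ι_image_top]
  have heq : X'.ι ''ᵁ ⊤ = X' := Scheme.Opens.ι_image_top X'
  let s₀ : Coh.structureModule (X' : Scheme.{u}) ⟶ N.restrict X'.ι := ofSection (toR X'.ι N ⊤ (rs N hle τ))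
  let iso : N.restrict X'.ι ≅ CohB1.tensorPow (L.restrict X'.ι) (n + 1) :=
      restrictTensorPowIso X'.ι L (n + 1)
  have hloc : X'.ι ''ᵁ CohB1.genLocus (N.restrict X'.ι) s₀ = genOn N X' τ := by
    rw [image_genLocus_restrict, sec_ofSection]
    exact genOn_rs_of_eq heq τ
  refine ⟨n, s₀ ≫ iso.hom, ?_, ?_⟩
  · rw [Groth.Agent.Lib.H78AmpleUnit.genLocus_comp_iso]
    have h1 : x'.1 ∈ X'.ι ''ᵁ CohB1.genLocus (N.restrict X'.ι) s₀ := by rw [hloc]; exact hx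
    obtain ⟨y, hy, hyx⟩ := h1
    have : y = x' := Subtype.ext hyx
    rw [← this]; exact hy
  · rw [Groth.Agent.Lib.H78AmpleUnit.genLocus_comp_iso]
    rw [← X'.ι.isAffineOpen_iff_of_isOpenImmersion, hloc]
    exact haff

variable {X Y : Scheme.{u}} (q : X ⟶ Y) (L : X.Modules) (hL : PicF.IsInvertible L)
  (𝒮 : RelProj.QCGrAlg Y) (𝒮L : RelProj.QCGrAlg X) (j : L ⟶ 𝒮L.toModule)
  (u : RelProj.QGrHom q 𝒮 𝒮L)
  (hj1 : ∀ (V : X.Opens) (hV : IsAffineOpen V) (s : Γ(L, V)),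
    jel L 𝒮L j V s ∈ 𝒮L.deg V hV 1)
  (hpoly : ∀ (V : X.Opens) (_ : IsAffineOpen V) (s : Γ(L, V)), IsGen L V s →
    Function.Bijective (Polynomial.eval₂RingHom (𝒮L.str.app (op V)).hom (jel L 𝒮L j V s)))

include hL hj1 hpoly in
/-- **EGA II 4.6.3-type criterion**: if `X` is covered by affine opens `X_{u s_a}` for homogeneous sections `s_a` of positive
degree of `𝒮` over affine opens of `Y`, then `L` is ample relative to `q`. -/
theorem isRelAmple_of_family [QuasiCompact q] {ι : Type*} (Wf : ι → Y.Opens) (hWf : ∀ a, IsAffineOpen (Wf a))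
    (n : ι → ℕ) (s : ∀ a, 𝒮.presheaf.obj (op (Wf a)))
    (h1 : ∀ a, 0 < n a ∧ s a ∈ 𝒮.deg (Wf a) (hWf a) (n a))
    (hcov : (⨆ a, XTW q 𝒮 𝒮L u (Wf a) (n a) (s a)) = ⊤)
    (haff : ∀ a, IsAffineOpen (XTW q 𝒮 𝒮L u (Wf a) (n a) (s a))) :
    RelAmple.IsRelAmple q L := by
  refine ⟨inferInstance, fun V => ?_⟩
  haveI : CompactSpace ↥((q ⁻¹ᵁ V.1 : X.Opens) : Scheme.{u}) :=
    isCompact_iff_compactSpace.mp (q.isCompact_preimage V.2.isCompact)
  refine isAmple_restrict_of_forall_genOn' hL (q ⁻¹ᵁ V.1) (fun x hx => ?_)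
  have hxtop : x ∈ (⨆ a, XTW q 𝒮 𝒮L u (Wf a) (n a) (s a)) := by rw [hcov]; trivial
  obtain ⟨a, hxa⟩ := Opens.mem_iSup.mp hxtop
  obtain ⟨m, hm⟩ : ∃ m, n a = m + 1 := Nat.exists_eq_succ_of_ne_zero (h1 a).1.ne'
  have hs := (h1 a).2
  have haffa := haff a
  rw [hm] at hxa hs haffa
  obtain ⟨t', ht', hxt', hafft'⟩ := exists_section_over q L hL 𝒮 𝒮L j u hj1 hpoly V.1 (Wf a) V.2 (hWf a)
    (m + 1) (s a) hs x hx hxa haffa
  obtain ⟨τ, hτ⟩ := exists_θ_eq L hL 𝒮L j hj1 hpoly (m + 1) (q ⁻¹ᵁ V.1) ((u.app V.1).hom t')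
    (fun V' hV' hle => u.map_mem V.1 V.2 V' hV' hle ht')
  refine ⟨m, τ, ?_, ?_⟩
  · rw [genOn_eq_nz L hL 𝒮L j hj1 hpoly, hτ, ← XTW_eq_nz]
    exact hxt'
  · rw [genOn_eq_nz L hL 𝒮L j hj1 hpoly, hτ, ← XTW_eq_nz]
    exact hafft'


end Part4

end Groth.Agent.Lib.LineAmpleFam
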