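import Groth.Agent.Lib.LineOpenImm
import Groth.Agent.S12139

/-!
# `r_{L,ψ}` a topological embedding ⇒ `L` relatively ample (EGA II 4.6.3-type converse) (helper28)

* `isAffineOpen_nz`: for a homogeneous section `σ ∈ 𝒮L(V)_e` over an AFFINE open `V`, the open `X_σ` is affine;
* `isRelAmple_of_isEmbedding`: `q` quasi-compact, `r_{L,ψ}` everywhere defined and a homeomorphism onto its image ⇒ `L` is `q`-ample
  (the `X_{u g}` with `D₊(g)` small form a basis, so they can be chosen inside affine opens, where they are affine; then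
  `LineAmpleFam.isRelAmple_of_family`).
-/

set_option autoImplicit false
universe u
open CategoryTheory CategoryTheory.Limits AlgebraicGeometry TopologicalSpace Opposite
open scoped HomogeneousIdeal

noncomputable section

namespace Groth.Agent.Lib.LineEmbAmple

open Groth.Agent.Lib.ProjQMap Groth.Agent.Lib.ProjQMapOn
open Groth.Agent.Lib.H60ProjQPts Groth.Agent.Lib.H60ProjQComp
open Groth.Agent.Lib.H4TensorPair Groth.Agent.Lib.H78TensorGen Groth.Agent.Lib.H90Invertible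
open Groth.Agent.Lib.StructureModule Groth.Agent.Lib.H60LineBundle Groth.Agent.Lib.H60LineAlg
open Groth.Agent.Lib.H78SecCoord Groth.Agent.Lib.H78GenOn Groth.Agent.Lib.SymLinePow
open Groth.Agent.Lib.H60AwayDegOne Groth.Agent.Lib.LineAmpleFam Groth.Agent.Lib.H60LineProjQW
open Groth.Agent.Lib.H60LineProjQ Groth.Agent.Lib.H60LineImm Groth.Agent.Lib.H60LineImmW
open Groth.Agent.Lib.SymLineQcqs Groth.Agent.Lib.H78Restrict
open AlgebraicGeometry.Scheme.Modules HomogeneousLocalization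

section A

variable {X : Scheme.{u}} (L : X.Modules) (hL : PicF.IsInvertible L)
  (𝒮L : RelProj.QCGrAlg X) (j : L ⟶ 𝒮L.toModule)
  (hj1 : ∀ (V : X.Opens) (hV : IsAffineOpen V) (s : Γ(L, V)),
    jel L 𝒮L j V s ∈ 𝒮L.deg V hV 1)
  (hpoly : ∀ (V : X.Opens) (_ : IsAffineOpen V) (s : Γ(L, V)), IsGen L V s →
    Function.Bijective (Polynomial.eval₂RingHom (𝒮L.str.app (op V)).hom (jel L 𝒮L j V s)))

include hL hj1 hpoly in
/-- **`X_σ` is affine for a homogeneous section over an affine open.** -/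
theorem isAffineOpen_nz (e : ℕ) (V : X.Opens) (hV : IsAffineOpen V) (σ : 𝒮L.presheaf.obj (op V))
    (hσ : σ ∈ 𝒮L.deg V hV e) : IsAffineOpen (nz 𝒮L e V σ) := by
  have hloc : ∀ x : V, ∃ b : Γ(X, V), x.1 ∈ X.basicOpen b ∧ IsAffineOpen (nz 𝒮L e V σ ⊓ X.basicOpen b) := by
    intro x
    obtain ⟨V', hV', hle, ℓ, hxV', hℓ⟩ := exists_affine_gen L hL V x.1 x.2
    obtain ⟨b, hbV', hxb⟩ := hV.exists_basicOpen_le (V := V') ⟨x.1, hxV'⟩ x.2
    refine ⟨b, hxb, ?_⟩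
    have hD : IsAffineOpen (X.basicOpen b) := hV.basicOpen b
    have hℓ' := hℓ.mono hbV'
    obtain ⟨a, ha⟩ := (mem_deg_iff (𝒮L.deg _ hD) _ (fun r => 𝒮L.str_mem _ hD r) _ (hj1 _ hD _)
      (hpoly _ hD _ hℓ') e _).mp (𝒮L.map_mem hV hD (X.basicOpen_le b) hσ)
    rw [← nz_res 𝒮L e (X.basicOpen_le b) σ, ha, nz_coord L hL 𝒮L j hj1 hpoly e _ hD _ hℓ' a]
    exact hD.basicOpen a
  choose b hxb haff using hloc
  have hN : nz 𝒮L e V σ ≤ V := nz_le 𝒮L e V σ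
  refine isAffineOpen_of_isAffineOpen_basicOpen _
    (Set.range fun x : V => (X.presheaf.map (homOfLE hN).op).hom (b x)) ?_ ?_
  · have h1 : Ideal.span (Set.range b) = ⊤ := by
      rw [← hV.self_le_iSup_basicOpen_iff]
      intro x hx
      exact Opens.mem_iSup.mpr ⟨⟨b ⟨x, hx⟩, ⟨⟨x, hx⟩, rfl⟩⟩, hxb ⟨x, hx⟩⟩
    have h2 : (Set.range fun x : V => (X.presheaf.map (homOfLE hN).op).hom (b x)) =
        (X.presheaf.map (homOfLE hN).op).hom '' Set.range b := by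
      rw [← Set.range_comp]; rfl
    rw [h2, ← Ideal.map_span, h1, Ideal.map_top]
  · rintro _ ⟨x, rfl⟩
    have h3 : X.basicOpen ((X.presheaf.map (homOfLE hN).op).hom (b x)) = nz 𝒮L e V σ ⊓ X.basicOpen (b x) :=
      X.basicOpen_res _ _
    rw [h3]
    exact haff x

end A

section B

variable {Y X P PL : Scheme.{u}} (q : X ⟶ Y)
  (L : X.Modules) (hL : PicF.IsInvertible L)
  (𝒮 : RelProj.QCGrAlg Y) (𝒮L : RelProj.QCGrAlg X) (j : L ⟶ 𝒮L.toModule)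
  (u : RelProj.QGrHom q 𝒮 𝒮L)
  (p : P ⟶ Y)
  (chart : ∀ (U : Y.Opens) (hU : IsAffineOpen U),
    (((p ⁻¹ᵁ U : P.Opens) : Scheme.{u}) ≅ Proj (𝒮.deg U hU)))
  (hP : RelProj.IsRelProj 𝒮 p chart)
  (pL : PL ⟶ X)
  (chartL : ∀ (U : X.Opens) (hU : IsAffineOpen U),
    (((pL ⁻¹ᵁ U : PL.Opens) : Scheme.{u}) ≅ Proj (𝒮L.deg U hU)))
  (hPL : RelProj.IsRelProj 𝒮L pL chartL)
  (hgen : 𝒮L.IsGenDegOne)
  (hj1 : ∀ (V : X.Opens) (hV : IsAffineOpen V) (s : Γ(L, V)),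
    jel L 𝒮L j V s ∈ 𝒮L.deg V hV 1)
  (hpoly : ∀ (V : X.Opens) (_ : IsAffineOpen V) (s : Γ(L, V)), IsGen L V s →
    Function.Bijective (Polynomial.eval₂RingHom (𝒮L.str.app (op V)).hom (jel L 𝒮L j V s)))
  (r : ((RelProj.domQ u pL chartL : PL.Opens) : Scheme.{u}) ⟶ P)
  (hr : RelProj.IsProjQMapOn u p chart pL chartL (RelProj.domQ u pL chartL) r)

include hL hP hPL hgen hj1 hpoly hr in
/-- **EGA II 4.6.3-type converse**: if `r_{L,ψ}` is everywhere defined and a homeomorphism onto its image, then `L` is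
`q`-ample (`q` quasi-compact). -/
theorem isRelAmple_of_isEmbedding [QuasiCompact q] [IsIso pL]
    (htop : RelProj.domQ u pL chartL = ⊤) (hemb : Topology.IsEmbedding r.base) :
    RelAmple.IsRelAmple q L := by
  have hover := (Groth.Agent.S12139.result q 𝒮 𝒮L u p chart hP pL chartL hPL).2 r hr
  let ι : Type u := {a : (Σ W : Y.affineOpens, ℕ × 𝒮.presheaf.obj (op W.1)) //
      0 < a.2.1 ∧ a.2.2 ∈ 𝒮.deg a.1.1 a.1.2 a.2.1 ∧ IsAffineOpen (XTW q 𝒮 𝒮L u a.1.1 a.2.1 a.2.2)}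
  refine isRelAmple_of_family q L hL 𝒮 𝒮L j u hj1 hpoly (ι := ι) (fun a => a.1.1.1) (fun a => a.1.1.2)
    (fun a => a.1.2.1) (fun a => a.1.2.2) (fun a => ⟨a.2.1, a.2.2.1⟩) ?_ (fun a => a.2.2.2)
  rw [eq_top_iff]
  intro x _
  obtain ⟨_, ⟨W, hW', rfl⟩, hxW, -⟩ := Y.isBasis_affineOpens.exists_subset_of_mem_open
    (Set.mem_univ (q.base x)) isOpen_univ
  have hW : IsAffineOpen W := hW'
  obtain ⟨_, ⟨V, hV' , rfl⟩, hxV, hVW'⟩ := X.isBasis_affineOpens.exists_subset_of_mem_open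
    (show x ∈ ((q ⁻¹ᵁ W : X.Opens) : Set X) from hxW) (q ⁻¹ᵁ W).isOpen
  have hV : IsAffineOpen V := hV'
  have hVW : V ≤ q ⁻¹ᵁ W := hVW'
  obtain ⟨x', rfl⟩ : ∃ x', pL.base x' = x := ⟨(inv pL).base x, by
    rw [← Scheme.Hom.comp_apply, IsIso.inv_hom_id]; rfl⟩
  have hx'dom : x' ∈ RelProj.domQ u pL chartL := by rw [htop]; trivial
  set y : ((RelProj.domQ u pL chartL : PL.Opens) : Scheme.{u}) := ⟨x', hx'dom⟩ with hy
  -- the open of `P` cutting out `V`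
  have hopen := (((RelProj.domQ u pL chartL).ι ≫ pL) ⁻¹ᵁ V).isOpen
  obtain ⟨O, hO, hOV⟩ := hemb.isInducing.isOpen_iff.mp hopen
  have hyO : r.base y ∈ O := by
    have : y ∈ r.base ⁻¹' O := by rw [hOV]; exact hxV
    exact this
  have hpy : p.base (r.base y) = q.base (pL.base x') := by
    have := congrArg (fun k => k.base y) hover
    simpa using this
  have hzt : r.base y ∈ p ⁻¹ᵁ W := by
    change p.base (r.base y) ∈ W
    rw [hpy]; exact hxW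
  have hz₀ := emb_apply_chart p chart W hW (r.base y) hzt
  set z₀ := chartPt p chart W hW (r.base y) hzt with hz₀def
  have hz₀O : z₀ ∈ (RelProj.emb p chart W hW) ⁻¹ᵁ (⟨O, hO⟩ : P.Opens) := by
    change (RelProj.emb p chart W hW).base z₀ ∈ O
    rw [hz₀]; exact hyO
  obtain ⟨e, he, g, hg, hz₀g, hgO⟩ := exists_homogeneous_basicOpen_le z₀ _ hz₀O
  have hpre := preimage_basicOpen_eqW q L hL 𝒮 𝒮L j u p chart hP pL chartL hPL hgen hj1 hpoly W hW r hr he g hg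
  -- `x ∈ X_{u g}`
  have hxg : pL.base x' ∈ XTW q 𝒮 𝒮L u W e g := by
    have h1 : x' ∈ (RelProj.domQ u pL chartL).ι ''ᵁ
        (r ⁻¹ᵁ ((RelProj.emb p chart W hW) ''ᵁ Proj.basicOpen (𝒮.deg W hW) g)) :=
      ⟨y, ⟨z₀, hz₀g, hz₀⟩, rfl⟩
    rw [hpre] at h1
    exact h1
  -- `X_{u g} ⊆ V`
  have hgV : XTW q 𝒮 𝒮L u W e g ≤ V := by
    intro x₁ hx₁
    obtain ⟨x₁', rfl⟩ : ∃ x₁', pL.base x₁' = x₁ := ⟨(inv pL).base x₁, by
      rw [← Scheme.Hom.comp_apply, IsIso.inv_hom_id]; rfl⟩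
    have h1 : x₁' ∈ pL ⁻¹ᵁ XTW q 𝒮 𝒮L u W e g := hx₁
    rw [← hpre] at h1
    obtain ⟨y₁, ⟨w, hw, hwy⟩, rfl⟩ := h1
    have h2 : y₁ ∈ r.base ⁻¹' O := by
      change r.base y₁ ∈ O
      rw [← hwy]; exact hgO hw
    rw [hOV] at h2
    exact h2
  -- affineness
  have haff : IsAffineOpen (XTW q 𝒮 𝒮L u W e g) := by
    have h1 : nz 𝒮L e V ((𝒮L.presheaf.map (homOfLE hVW).op).hom ((u.app W).hom g)) =
        XTW q 𝒮 𝒮L u W e g := by
      rw [nz_res 𝒮L e hVW]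
      exact inf_eq_left.mpr hgV
    rw [← h1]
    exact isAffineOpen_nz L hL 𝒮L j hj1 hpoly e V hV _ (u.map_mem W hW V hV hVW hg)
  exact Opens.mem_iSup.mpr ⟨⟨⟨⟨W, hW⟩, (e, g)⟩, he, hg, haff⟩, hxg⟩

end B

end Groth.Agent.Lib.LineEmbAmple
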