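import Groth.Agent.Lib.SymLineQcqs
import Groth.Agent.Lib.H60LineImmW
import Groth.Agent.Lib.H78AmpleBasis

/-!
# `r_{L,ψ}` is a dominant open immersion for relatively ample `L` (EGA II 4.6.3 (⇒), 3.8.3-type) (helper28)

`q : X ⟶ Y` quasi-compact, `(𝒮L, j)` the graded symmetric algebra of the invertible `L` on `X` (with `Proj(𝒮L) = X`),
`u : 𝒮 → q_*𝒮L` a graded `q`-morphism, `r = r_{L,ψ} : G(ψ) ⟶ P = Proj(𝒮)` (helper60's `H60LineImmW` chart squares).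
* `isCompact_inf_of_isAmple`: an open carrying an ample module is quasi-separated;
* `exists_affine_XTW`: `L|q⁻¹(W)` ample and `u` bijective over affine `W` ⇒ every point of `q⁻¹(W)` lies in an affine `X_{u s}`,
  `s ∈ 𝒮(W)_{n+1}`;
* `bijective_awayMap`: then the chart homomorphisms `𝒮(W)_(s) → 𝒮L(X_{u s})_(u s)` are bijective (qcqs lemma, `Lib/SymLineQcqs`);
* `isDominant_of_injective`: `u` injective over affine opens ⇒ `r` dominant (any base);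
* `isOpenImmersion_of_relAmple`: `G(ψ) = ⊤`, `r` open immersion, `r` dominant.
-/

set_option autoImplicit false
universe u
open CategoryTheory CategoryTheory.Limits AlgebraicGeometry TopologicalSpace Opposite
open scoped HomogeneousIdeal

noncomputable section

namespace Groth.Agent.Lib.LineOpenImm

open Groth.Agent.Lib.ProjQMap Groth.Agent.Lib.ProjQMapOn
open Groth.Agent.Lib.H60ProjQPts Groth.Agent.Lib.H60ProjQComp
open Groth.Agent.Lib.H4TensorPair Groth.Agent.Lib.H78TensorGen Groth.Agent.Lib.H90Invertible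
open Groth.Agent.Lib.StructureModule Groth.Agent.Lib.H60LineBundle Groth.Agent.Lib.H60LineAlg
open Groth.Agent.Lib.H78SecCoord Groth.Agent.Lib.H78GenOn Groth.Agent.Lib.SymLinePow
open Groth.Agent.Lib.H60AwayDegOne Groth.Agent.Lib.LineAmpleFam Groth.Agent.Lib.H60LineProjQW
open Groth.Agent.Lib.H60LineProjQ Groth.Agent.Lib.H60LineImm Groth.Agent.Lib.H60LineImmW
open Groth.Agent.Lib.SymLineQcqs Groth.Agent.Lib.H78Restrict
open AlgebraicGeometry.Scheme.Modules HomogeneousLocalization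

section A

variable {X : Scheme.{u}} (L : X.Modules)

/-- an open subscheme carrying an ample module is quasi-separated: intersections of affine opens inside it are quasi-compact -/
theorem isCompact_inf_of_isAmple (X' : X.Opens) (hamp : CohB1.IsAmple (L.restrict X'.ι))
    (V₁ V₂ : X.Opens) (h₁ : IsAffineOpen V₁) (h₂ : IsAffineOpen V₂) (hle₁ : V₁ ≤ X') (hle₂ : V₂ ≤ X') :
    IsCompact ((V₁ ⊓ V₂ : X.Opens) : Set X) := by
  haveI : QuasiSeparatedSpace ↥(X' : Scheme.{u}) := Groth.Agent.Lib.H78AmpleBasis.quasiSeparatedSpace_of_isAmple hamp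
  have hqs : IsQuasiSeparated (X' : Set X) := (isQuasiSeparated_iff_quasiSeparatedSpace _ X'.isOpen).mpr this
  exact hqs V₁ V₂ hle₁ V₁.isOpen h₁.isCompact hle₂ V₂.isOpen h₂.isCompact

end A

section B

variable {X Y : Scheme.{u}} (q : X ⟶ Y) (L : X.Modules) (hL : PicF.IsInvertible L)
  (𝒮 : RelProj.QCGrAlg Y) (𝒮L : RelProj.QCGrAlg X) (j : L ⟶ 𝒮L.toModule)
  (u : RelProj.QGrHom q 𝒮 𝒮L)
  (hj1 : ∀ (V : X.Opens) (hV : IsAffineOpen V) (s : Γ(L, V)),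
    jel L 𝒮L j V s ∈ 𝒮L.deg V hV 1)
  (hpoly : ∀ (V : X.Opens) (_ : IsAffineOpen V) (s : Γ(L, V)), IsGen L V s →
    Function.Bijective (Polynomial.eval₂RingHom (𝒮L.str.app (op V)).hom (jel L 𝒮L j V s)))
  (W : Y.Opens) (hW : IsAffineOpen W)

include hL hj1 hpoly in
/-- **Ampleness gives homogeneous sections with affine `X_{u s}`**: if `L|q⁻¹(W)` is ample and `u` is bijective over the affine
open `W`, every point of `q⁻¹(W)` lies in an affine `X_{u s}`, `s ∈ 𝒮(W)_{n+1}`. -/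
theorem exists_affine_XTW (hbij : Function.Bijective (u.app W).hom)
    (hamp : CohB1.IsAmple (L.restrict (q ⁻¹ᵁ W).ι)) (x : X) (hx : x ∈ q ⁻¹ᵁ W) :
    ∃ (n : ℕ) (s : 𝒮.presheaf.obj (op W)), s ∈ 𝒮.deg W hW (n + 1) ∧ x ∈ XTW q 𝒮 𝒮L u W (n + 1) s ∧
      IsAffineOpen (XTW q 𝒮 𝒮L u W (n + 1) s) := by
  obtain ⟨n, s₀, hx₀, haff₀⟩ := hamp.2.2 ⟨x, hx⟩
  let X' : X.Opens := q ⁻¹ᵁ W
  let N : X.Modules := CohB1.tensorPow L (n + 1)
  let iso : N.restrict X'.ι ≅ CohB1.tensorPow (L.restrict X'.ι) (n + 1) := restrictTensorPowIso X'.ι L (n + 1)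
  let s₁ : Coh.structureModule (X' : Scheme.{u}) ⟶ N.restrict X'.ι := s₀ ≫ iso.inv
  have hs₁ : CohB1.genLocus (N.restrict X'.ι) s₁ = CohB1.genLocus _ s₀ :=
    Groth.Agent.Lib.H78AmpleUnit.genLocus_comp_iso s₀ iso.symm
  have heq : X'.ι ''ᵁ ⊤ = X' := Scheme.Opens.ι_image_top X'
  have himg := image_genLocus_restrict (j := X'.ι) (P := N) s₁
  let τ : Γ(N, X') := rs N heq.ge (ofR X'.ι N ⊤ (sec s₁))
  have hτ : genOn N X' τ = X'.ι ''ᵁ CohB1.genLocus _ s₀ := by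
    rw [← hs₁, himg]
    exact genOn_rs_of_eq heq.symm _
  let t : 𝒮L.presheaf.obj (op X') := el 𝒮L.toQCAlg (θ L 𝒮L.toQCAlg j (n + 1)) X' τ
  have hnz : genOn N X' τ = nz 𝒮L (n + 1) X' t := genOn_eq_nz L hL 𝒮L j hj1 hpoly (n + 1) X' τ
  obtain ⟨s, hs⟩ := hbij.2 t
  have hXT : XTW q 𝒮 𝒮L u W (n + 1) s = X'.ι ''ᵁ CohB1.genLocus _ s₀ := by
    rw [← hτ, hnz, ← hs]
    rfl
  refine ⟨n, s, ?_, ?_, ?_⟩
  · refine mem_deg_of_u q 𝒮 𝒮L u W hW hbij.1 s (n + 1) (fun V hV hle => ?_)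
    rw [hs]
    change (𝒮L.presheaf.map (homOfLE hle).op).hom (el 𝒮L.toQCAlg (θ L 𝒮L.toQCAlg j (n + 1)) X' τ) ∈ _
    rw [el_θ_res]
    exact el_θ_mem_deg L hL 𝒮L j hj1 (n + 1) V hV _
  · rw [hXT]
    exact ⟨⟨x, hx⟩, hx₀, rfl⟩
  · rw [hXT]
    exact (X'.ι.isAffineOpen_iff_of_isOpenImmersion).mpr haff₀

end B

section C

variable {Y X P PL : Scheme.{u}} (q : X ⟶ Y)
  (L : X.Modules) (hL : PicF.IsInvertible L)
  (𝒮 : RelProj.QCGrAlg Y) (𝒮L : RelProj.QCGrAlg X) (j : L ⟶ 𝒮L.toModule)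
  (u : RelProj.QGrHom q 𝒮 𝒮L)
  (p : P ⟶ Y)
  (chart : ∀ (U : Y.Opens) (hU : IsAffineOpen U),
    (((p ⁻¹ᵁ U : P.Opens) : Scheme.{u}) ≅ Proj (𝒮.deg U hU)))
  (hP : RelProj.IsRelProj 𝒮 p chart)
  (pL : PL ⟶ X)
  (chartL : ∀ (U : X.Opens) (hU : IsAffineOpen U),
    (((pL ⁻¹ᵁ U : PL.Opens) : Scheme.{u}) ≅ Proj (𝒮L.deg U hU)))
  (hPL : RelProj.IsRelProj 𝒮L pL chartL)
  (hgen : 𝒮L.IsGenDegOne)
  (hj1 : ∀ (V : X.Opens) (hV : IsAffineOpen V) (s : Γ(L, V)),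
    jel L 𝒮L j V s ∈ 𝒮L.deg V hV 1)
  (hpoly : ∀ (V : X.Opens) (_ : IsAffineOpen V) (s : Γ(L, V)), IsGen L V s →
    Function.Bijective (Polynomial.eval₂RingHom (𝒮L.str.app (op V)).hom (jel L 𝒮L j V s)))
  (W : Y.Opens) (hW : IsAffineOpen W)

include hL hPL hgen hj1 hpoly in
/-- **The chart homomorphism `𝒮(W)_(s) → 𝒮L(X_{u s})_(u s)` is bijective** when `u` is bijective over `W` and `L|q⁻¹(W)` is
ample (EGA II 4.5.2 / 4.6.3: conditions (iii) and (iv) from the qcqs lemma). -/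
theorem bijective_awayMap [QuasiCompact q] [IsIso pL] (hbij : Function.Bijective (u.app W).hom)
    (hamp : CohB1.IsAmple (L.restrict (q ⁻¹ᵁ W).ι)) {n : ℕ} (hn : 0 < n)
    (s : 𝒮.presheaf.obj (op W)) (hs : s ∈ 𝒮.deg W hW n) (hXT : IsAffineOpen (XTW q 𝒮 𝒮L u W n s)) :
    Function.Bijective (Away.map (u.gradedAt W hW (XTW q 𝒮 𝒮L u W n s) hXT (XTW_le q 𝒮 𝒮L u W n s)) s) := by
  have hc : IsCompact ((q ⁻¹ᵁ W : X.Opens) : Set X) := q.isCompact_preimage hW.isCompact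
  have hσ : ∀ (V : X.Opens) (hV : IsAffineOpen V) (hle : V ≤ q ⁻¹ᵁ W),
      (𝒮L.presheaf.map (homOfLE hle).op).hom ((u.app W).hom s) ∈ 𝒮L.deg V hV n :=
    fun V hV hle => u.map_mem W hW V hV hle hs
  constructor
  · refine (injective_awayMap_iff q 𝒮 𝒮L u W hW s hs hXT).mpr (fun m hm s' hs' h0 => ?_)
    have h0' : (𝒮L.presheaf.map (homOfLE (nz_le 𝒮L n (q ⁻¹ᵁ W) ((u.app W).hom s))).op).hom ((u.app W).hom s') = 0 := h0
    obtain ⟨k, hk⟩ := van L hL 𝒮L j hj1 hpoly n (q ⁻¹ᵁ W) hc ((u.app W).hom s) ((u.app W).hom s') hσ h0'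
    refine ⟨k + 1, Nat.succ_pos k, ?_⟩
    apply hbij.1
    rw [map_zero, map_mul, map_pow, pow_succ, mul_right_comm, hk, zero_mul]
  · refine (surjective_awayMap_iff q 𝒮 𝒮L u pL chartL hPL hgen W hW hn s hs hXT).mpr (fun t => ?_)
    obtain ⟨m, ρ, hm, hρdeg, hρres⟩ := ext L hL 𝒮L j hj1 hpoly n (q ⁻¹ᵁ W) hc
      (isCompact_inf_of_isAmple L (q ⁻¹ᵁ W) hamp) ((u.app W).hom s) hσ t
    obtain ⟨s', hs'⟩ := hbij.2 ρ
    refine ⟨m, hm, s', ?_, ?_⟩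
    · refine mem_deg_of_u q 𝒮 𝒮L u W hW hbij.1 s' (m * n) (fun V hV hle => ?_)
      rw [hs']
      exact hρdeg V hV hle
    · change _ = (𝒮L.presheaf.map (homOfLE (nz_le 𝒮L n (q ⁻¹ᵁ W) ((u.app W).hom s))).op).hom ((u.app W).hom s')
      rw [hs', hρres]
      rfl

end C

section D

variable {Y X P PL : Scheme.{u}} (q : X ⟶ Y)
  (L : X.Modules) (hL : PicF.IsInvertible L)
  (𝒮 : RelProj.QCGrAlg Y) (𝒮L : RelProj.QCGrAlg X) (j : L ⟶ 𝒮L.toModule)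
  (u : RelProj.QGrHom q 𝒮 𝒮L)
  (p : P ⟶ Y)
  (chart : ∀ (U : Y.Opens) (hU : IsAffineOpen U),
    (((p ⁻¹ᵁ U : P.Opens) : Scheme.{u}) ≅ Proj (𝒮.deg U hU)))
  (hP : RelProj.IsRelProj 𝒮 p chart)
  (pL : PL ⟶ X)
  (chartL : ∀ (U : X.Opens) (hU : IsAffineOpen U),
    (((pL ⁻¹ᵁ U : PL.Opens) : Scheme.{u}) ≅ Proj (𝒮L.deg U hU)))
  (hPL : RelProj.IsRelProj 𝒮L pL chartL)
  (hgen : 𝒮L.IsGenDegOne)
  (hj1 : ∀ (V : X.Opens) (hV : IsAffineOpen V) (s : Γ(L, V)),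
    jel L 𝒮L j V s ∈ 𝒮L.deg V hV 1)
  (hpoly : ∀ (V : X.Opens) (_ : IsAffineOpen V) (s : Γ(L, V)), IsGen L V s →
    Function.Bijective (Polynomial.eval₂RingHom (𝒮L.str.app (op V)).hom (jel L 𝒮L j V s)))
  (r : ((RelProj.domQ u pL chartL : PL.Opens) : Scheme.{u}) ⟶ P)
  (hr : RelProj.IsProjQMapOn u p chart pL chartL (RelProj.domQ u pL chartL) r)

include hL hP hPL hgen hj1 hpoly hr in
/-- **Dominance of `r_{L,ψ}`** (general base): if `q` is quasi-compact and `u` is injective over every affine open of the base,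
`r` is dominant. -/
theorem isDominant_of_injective [QuasiCompact q] [IsIso pL]
    (hu : ∀ (W : Y.Opens), IsAffineOpen W → Function.Injective (u.app W).hom) : IsDominant r := by
  refine ⟨dense_iff_inter_open.mpr (fun O hO ⟨z, hz⟩ => ?_)⟩
  obtain ⟨_, ⟨W, hW, rfl⟩, hzt', -⟩ := Y.isBasis_affineOpens.exists_subset_of_mem_open
    (Set.mem_univ (p.base z)) isOpen_univ
  have hzt : z ∈ p ⁻¹ᵁ W := hzt'
  have hz₀ := emb_apply_chart p chart W hW z hzt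
  set z₀ := chartPt p chart W hW z hzt with hz₀def
  have hz₀O : z₀ ∈ (RelProj.emb p chart W hW) ⁻¹ᵁ (⟨O, hO⟩ : P.Opens) := by
    change (RelProj.emb p chart W hW).base z₀ ∈ O
    rw [hz₀]; exact hz
  obtain ⟨e, he, g, hg, hz₀g, hgO⟩ := exists_homogeneous_basicOpen_le z₀ _ hz₀O
  -- `X_{u g}` is nonempty
  have hne : XTW q 𝒮 𝒮L u W e g ≠ ⊥ := by
    intro hbot
    have hc : IsCompact ((q ⁻¹ᵁ W : X.Opens) : Set X) := q.isCompact_preimage hW.isCompact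
    obtain ⟨k, hk⟩ := isNilpotent_of_nz_eq_bot L hL 𝒮L j hj1 hpoly e (q ⁻¹ᵁ W) hc ((u.app W).hom g)
      (fun V hV hle => u.map_mem W hW V hV hle hg) hbot
    have hgk : g ^ k = 0 := by
      apply hu W hW
      rw [map_pow, hk, map_zero]
    have h1 : g ^ k ∈ z₀.asHomogeneousIdeal := by rw [hgk]; exact zero_mem _
    exact (Proj.mem_basicOpen _ _ _).mp hz₀g (z₀.isPrime.mem_of_pow_mem k h1)
  obtain ⟨x, hx⟩ : ∃ x, x ∈ XTW q 𝒮 𝒮L u W e g := by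
    by_contra hcon
    apply hne
    ext x
    simp only [Opens.coe_bot, Set.mem_empty_iff_false, iff_false]
    exact fun hx => hcon ⟨x, hx⟩
  obtain ⟨x', rfl⟩ : ∃ x', pL.base x' = x := ⟨(inv pL).base x, by
    rw [← Scheme.Hom.comp_apply, IsIso.inv_hom_id]; rfl⟩
  have hx' : x' ∈ pL ⁻¹ᵁ XTW q 𝒮 𝒮L u W e g := hx
  rw [← preimage_basicOpen_eqW q L hL 𝒮 𝒮L j u p chart hP pL chartL hPL hgen hj1 hpoly W hW r hr he g hg] at hx'
  obtain ⟨y, hy, -⟩ := hx'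
  obtain ⟨w, hw, hwy⟩ := hy
  refine ⟨r.base y, ?_, ⟨y, rfl⟩⟩
  rw [← hwy]
  exact hgO hw

end D

section E

variable {Y X P PL : Scheme.{u}} (q : X ⟶ Y)
  (L : X.Modules) (hL : PicF.IsInvertible L)
  (𝒮 : RelProj.QCGrAlg Y) (𝒮L : RelProj.QCGrAlg X) (j : L ⟶ 𝒮L.toModule)
  (u : RelProj.QGrHom q 𝒮 𝒮L)
  (p : P ⟶ Y)
  (chart : ∀ (U : Y.Opens) (hU : IsAffineOpen U),
    (((p ⁻¹ᵁ U : P.Opens) : Scheme.{u}) ≅ Proj (𝒮.deg U hU)))
  (hP : RelProj.IsRelProj 𝒮 p chart)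
  (pL : PL ⟶ X)
  (chartL : ∀ (U : X.Opens) (hU : IsAffineOpen U),
    (((pL ⁻¹ᵁ U : PL.Opens) : Scheme.{u}) ≅ Proj (𝒮L.deg U hU)))
  (hPL : RelProj.IsRelProj 𝒮L pL chartL)
  (hgen : 𝒮L.IsGenDegOne)
  (hj1 : ∀ (V : X.Opens) (hV : IsAffineOpen V) (s : Γ(L, V)),
    jel L 𝒮L j V s ∈ 𝒮L.deg V hV 1)
  (hpoly : ∀ (V : X.Opens) (_ : IsAffineOpen V) (s : Γ(L, V)), IsGen L V s →
    Function.Bijective (Polynomial.eval₂RingHom (𝒮L.str.app (op V)).hom (jel L 𝒮L j V s)))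
  (r : ((RelProj.domQ u pL chartL : PL.Opens) : Scheme.{u}) ⟶ P)
  (hr : RelProj.IsProjQMapOn u p chart pL chartL (RelProj.domQ u pL chartL) r)

include hL hP hPL hgen hj1 hpoly hr in
/-- **EGA II 4.6.3 (⇒)/3.8.3-type statement**: if `q` is quasi-compact, `u : 𝒮 → q_*Sym(L)` is bijective over every affine
open of the base and `L` is `q`-ample, then `r_{L,ψ}` is everywhere defined, an open immersion and dominant. -/
theorem isOpenImmersion_of_relAmple [QuasiCompact q] [IsIso pL]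
    (hu : ∀ (W : Y.Opens), IsAffineOpen W → Function.Bijective (u.app W).hom)
    (hamp : ∀ (W : Y.Opens), IsAffineOpen W → CohB1.IsAmple (L.restrict (q ⁻¹ᵁ W).ι)) :
    RelProj.domQ u pL chartL = ⊤ ∧ IsOpenImmersion r ∧ IsDominant r := by
  -- the family of all homogeneous sections of positive degree with affine `X_{u s}`
  let ι : Type u := {a : (Σ W : Y.affineOpens, ℕ × 𝒮.presheaf.obj (op W.1)) //
      0 < a.2.1 ∧ a.2.2 ∈ 𝒮.deg a.1.1 a.1.2 a.2.1 ∧ IsAffineOpen (XTW q 𝒮 𝒮L u a.1.1 a.2.1 a.2.2)}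
  let Wf : ι → Y.Opens := fun a => a.1.1.1
  have hWf : ∀ a : ι, IsAffineOpen (Wf a) := fun a => a.1.1.2
  let n : ι → ℕ := fun a => a.1.2.1
  let s : ∀ a : ι, 𝒮.presheaf.obj (op (Wf a)) := fun a => a.1.2.2
  have hn : ∀ a, 0 < n a := fun a => a.2.1
  have hs : ∀ a, s a ∈ 𝒮.deg (Wf a) (hWf a) (n a) := fun a => a.2.2.1
  have haff : ∀ a, IsAffineOpen (XTW q 𝒮 𝒮L u (Wf a) (n a) (s a)) := fun a => a.2.2.2
  have hcov : (⨆ a, XTW q 𝒮 𝒮L u (Wf a) (n a) (s a)) = ⊤ := by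
    rw [eq_top_iff]
    intro x _
    obtain ⟨_, ⟨W, hW, rfl⟩, hxW, -⟩ := Y.isBasis_affineOpens.exists_subset_of_mem_open
      (Set.mem_univ (q.base x)) isOpen_univ
    obtain ⟨m, t, ht, hxt, hafft⟩ := exists_affine_XTW q L hL 𝒮 𝒮L j u hj1 hpoly W hW (hu W hW) (hamp W hW) x hxW
    exact Opens.mem_iSup.mpr ⟨⟨⟨⟨W, hW⟩, (m + 1, t)⟩, Nat.succ_pos m, ht, hafft⟩, hxt⟩
  have hdom := domQ_eq_top_of_cover q L hL 𝒮 𝒮L j u p chart hP pL chartL hPL hgen hj1 hpoly r hr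
    Wf hWf n s hn hs hcov
  refine ⟨hdom, ?_, isDominant_of_injective q L hL 𝒮 𝒮L j u p chart hP pL chartL hPL hgen hj1 hpoly r hr
    (fun W hW => (hu W hW).1)⟩
  have hsub := range_r_subsetW q L hL 𝒮 𝒮L j u p chart hP pL chartL hPL hgen hj1 hpoly r hr
    Wf hWf n s hn hs hcov
  set U : P.Opens := ⨆ a, (RelProj.emb p chart (Wf a) (hWf a)) ''ᵁ
    (Proj.basicOpen (𝒮.deg (Wf a) (hWf a)) (s a)) with hUdef
  set r' := IsOpenImmersion.lift U.ι r hsub with hr'def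
  have hr' : r' ≫ U.ι = r := IsOpenImmersion.lift_fac _ _ _
  have hiso : MorphismProperty.isomorphisms Scheme.{u} r' := by
    refine of_familyW q L hL 𝒮 𝒮L j u p chart hP pL chartL hPL hgen hj1 hpoly r hr Wf hWf n s
      hn hs haff U r' hr'
      (fun a ↦ le_iSup (fun a ↦ (RelProj.emb p chart (Wf a) (hWf a)) ''ᵁ
        (Proj.basicOpen (𝒮.deg (Wf a) (hWf a)) (s a))) a) le_rfl
      (MorphismProperty.isomorphisms Scheme.{u}) (fun a ↦ ?_)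
    exact isIso_SpecMap_iff.mpr (bijective_awayMap q L hL 𝒮 𝒮L j u pL chartL hPL hgen hj1 hpoly (Wf a) (hWf a)
      (hu _ (hWf a)) (hamp _ (hWf a)) (hn a) (s a) (hs a) (haff a))
  haveI : IsIso r' := hiso
  rw [← hr']
  infer_instance

end E

end Groth.Agent.Lib.LineOpenImm
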