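import Groth.Agent.Lib.LineOpenImm

/-!
# `r_{L,ψ}` over a covering family of affine opens; scheme-theoretic dominance (helper28)

Complements `Lib/LineOpenImm` (same setting).
* `isOpenImmersion_of_cover`: variant of `LineOpenImm.isOpenImmersion_of_relAmple` with the hypotheses (`u` bijective, `L` ample) only
  over a covering family `B` of affine opens of the base (`B = {⊤}` for an affine base);
* ring level: `exists_pow_mul_eq_zero_of_map_mk_eq_zero`, `mk_eq_zero_of_pow_mul_eq_zero` (elements of `𝒜_(s)` killed by `Away.map`);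
* `map_eq_zero_of_app_eq_zero`: a function on the chart `D₊(g)` of `P` killed by `r` is killed by every chart homomorphism
  `𝒮(W)_(g) → 𝒮L(U')_(u g)`; `app_injective_chart`: hence `r` is injective on functions over `D₊(g)` (for `q⁻¹(W)` quasi-compact and
  `u` injective over `W`);
* `isSchemeTheoreticallyDominant_of_cover`: `q`, `r` quasi-compact and `u` injective over a covering family of affine opens ⇒
  `r` is scheme-theoretically dominant.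
-/

set_option autoImplicit false
universe u
open CategoryTheory CategoryTheory.Limits AlgebraicGeometry TopologicalSpace Opposite
open scoped HomogeneousIdeal

noncomputable section

namespace Groth.Agent.Lib.LineOpenImm2

open Groth.Agent.Lib.ProjQMap Groth.Agent.Lib.ProjQMapOn
open Groth.Agent.Lib.H60ProjQPts Groth.Agent.Lib.H60ProjQComp
open Groth.Agent.Lib.H4TensorPair Groth.Agent.Lib.H78TensorGen Groth.Agent.Lib.H90Invertible
open Groth.Agent.Lib.StructureModule Groth.Agent.Lib.H60LineBundle Groth.Agent.Lib.H60LineAlg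
open Groth.Agent.Lib.H78SecCoord Groth.Agent.Lib.H78GenOn Groth.Agent.Lib.SymLinePow
open Groth.Agent.Lib.H60AwayDegOne Groth.Agent.Lib.LineAmpleFam Groth.Agent.Lib.H60LineProjQW
open Groth.Agent.Lib.H60LineProjQ Groth.Agent.Lib.H60LineImm Groth.Agent.Lib.H60LineImmW
open Groth.Agent.Lib.SymLineQcqs Groth.Agent.Lib.H78Restrict Groth.Agent.Lib.LineOpenImm
open AlgebraicGeometry.Scheme.Modules HomogeneousLocalization

section A

variable {Y X P PL : Scheme.{u}} (q : X ⟶ Y)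
  (L : X.Modules) (hL : PicF.IsInvertible L)
  (𝒮 : RelProj.QCGrAlg Y) (𝒮L : RelProj.QCGrAlg X) (j : L ⟶ 𝒮L.toModule)
  (u : RelProj.QGrHom q 𝒮 𝒮L)
  (p : P ⟶ Y)
  (chart : ∀ (U : Y.Opens) (hU : IsAffineOpen U),
    (((p ⁻¹ᵁ U : P.Opens) : Scheme.{u}) ≅ Proj (𝒮.deg U hU)))
  (hP : RelProj.IsRelProj 𝒮 p chart)
  (pL : PL ⟶ X)
  (chartL : ∀ (U : X.Opens) (hU : IsAffineOpen U),
    (((pL ⁻¹ᵁ U : PL.Opens) : Scheme.{u}) ≅ Proj (𝒮L.deg U hU)))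
  (hPL : RelProj.IsRelProj 𝒮L pL chartL)
  (hgen : 𝒮L.IsGenDegOne)
  (hj1 : ∀ (V : X.Opens) (hV : IsAffineOpen V) (s : Γ(L, V)),
    jel L 𝒮L j V s ∈ 𝒮L.deg V hV 1)
  (hpoly : ∀ (V : X.Opens) (_ : IsAffineOpen V) (s : Γ(L, V)), IsGen L V s →
    Function.Bijective (Polynomial.eval₂RingHom (𝒮L.str.app (op V)).hom (jel L 𝒮L j V s)))
  (r : ((RelProj.domQ u pL chartL : PL.Opens) : Scheme.{u}) ⟶ P)
  (hr : RelProj.IsProjQMapOn u p chart pL chartL (RelProj.domQ u pL chartL) r)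

include hL hP hPL hgen hj1 hpoly hr in
/-- Variant of `LineOpenImm.isOpenImmersion_of_relAmple` with the hypotheses only over a covering family `B` of affine opens of
the base (e.g. `B = {⊤}` for an affine base). -/
theorem isOpenImmersion_of_cover [QuasiCompact q] [IsIso pL] (B : Set Y.Opens)
    (hB : ∀ W ∈ B, IsAffineOpen W) (hBcov : ∀ y : Y, ∃ W ∈ B, y ∈ W)
    (hu : ∀ (W : Y.Opens), W ∈ B → Function.Bijective (u.app W).hom)
    (hamp : ∀ (W : Y.Opens), W ∈ B → CohB1.IsAmple (L.restrict (q ⁻¹ᵁ W).ι)) :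
    RelProj.domQ u pL chartL = ⊤ ∧ IsOpenImmersion r := by
  let ι : Type u := {a : (Σ W : Y.affineOpens, ℕ × 𝒮.presheaf.obj (op W.1)) // a.1.1 ∈ B ∧
      0 < a.2.1 ∧ a.2.2 ∈ 𝒮.deg a.1.1 a.1.2 a.2.1 ∧ IsAffineOpen (XTW q 𝒮 𝒮L u a.1.1 a.2.1 a.2.2)}
  let Wf : ι → Y.Opens := fun a => a.1.1.1
  have hWf : ∀ a : ι, IsAffineOpen (Wf a) := fun a => a.1.1.2
  have hWB : ∀ a : ι, Wf a ∈ B := fun a => a.2.1
  let n : ι → ℕ := fun a => a.1.2.1
  let s : ∀ a : ι, 𝒮.presheaf.obj (op (Wf a)) := fun a => a.1.2.2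
  have hn : ∀ a, 0 < n a := fun a => a.2.2.1
  have hs : ∀ a, s a ∈ 𝒮.deg (Wf a) (hWf a) (n a) := fun a => a.2.2.2.1
  have haff : ∀ a, IsAffineOpen (XTW q 𝒮 𝒮L u (Wf a) (n a) (s a)) := fun a => a.2.2.2.2
  have hcov : (⨆ a, XTW q 𝒮 𝒮L u (Wf a) (n a) (s a)) = ⊤ := by
    rw [eq_top_iff]
    intro x _
    obtain ⟨W, hWB', hxW⟩ := hBcov (q.base x)
    have hW := hB W hWB'
    obtain ⟨m, t, ht, hxt, hafft⟩ := exists_affine_XTW q L hL 𝒮 𝒮L j u hj1 hpoly W hW (hu W hWB') (hamp W hWB') x hxW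
    exact Opens.mem_iSup.mpr ⟨⟨⟨⟨W, hW⟩, (m + 1, t)⟩, hWB', Nat.succ_pos m, ht, hafft⟩, hxt⟩
  have hdom := domQ_eq_top_of_cover q L hL 𝒮 𝒮L j u p chart hP pL chartL hPL hgen hj1 hpoly r hr
    Wf hWf n s hn hs hcov
  refine ⟨hdom, ?_⟩
  have hsub := range_r_subsetW q L hL 𝒮 𝒮L j u p chart hP pL chartL hPL hgen hj1 hpoly r hr
    Wf hWf n s hn hs hcov
  set U : P.Opens := ⨆ a, (RelProj.emb p chart (Wf a) (hWf a)) ''ᵁ
    (Proj.basicOpen (𝒮.deg (Wf a) (hWf a)) (s a)) with hUdef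
  set r' := IsOpenImmersion.lift U.ι r hsub with hr'def
  have hr' : r' ≫ U.ι = r := IsOpenImmersion.lift_fac _ _ _
  have hiso : MorphismProperty.isomorphisms Scheme.{u} r' := by
    refine of_familyW q L hL 𝒮 𝒮L j u p chart hP pL chartL hPL hgen hj1 hpoly r hr Wf hWf n s
      hn hs haff U r' hr'
      (fun a ↦ le_iSup (fun a ↦ (RelProj.emb p chart (Wf a) (hWf a)) ''ᵁ
        (Proj.basicOpen (𝒮.deg (Wf a) (hWf a)) (s a))) a) le_rfl
      (MorphismProperty.isomorphisms Scheme.{u}) (fun a ↦ ?_)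
    exact isIso_SpecMap_iff.mpr (bijective_awayMap q L hL 𝒮 𝒮L j u pL chartL hPL hgen hj1 hpoly (Wf a) (hWf a)
      (hu _ (hWB a)) (hamp _ (hWB a)) (hn a) (s a) (hs a) (haff a))
  haveI : IsIso r' := hiso
  rw [← hr']
  infer_instance

end A

section Ring

variable {A B : Type u} [CommRing A] [CommRing B]
  {𝒜 : ℕ → AddSubgroup A} {ℬ : ℕ → AddSubgroup B} [GradedRing 𝒜] [GradedRing ℬ]
  (g : 𝒜 →+*ᵍ ℬ) {n : ℕ} {s : A} (hs : s ∈ 𝒜 n)

include hs in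
/-- if `a / s^k` maps to zero under `Away.map g s`, a power of `g s` kills `g a` -/
lemma exists_pow_mul_eq_zero_of_map_mk_eq_zero (k : ℕ) (a : A) (ha : a ∈ 𝒜 (k • n))
    (h0 : Away.map g s (Away.mk 𝒜 hs k a ha) = 0) : ∃ N : ℕ, g s ^ N * g a = 0 := by
  rw [Away.map_mk] at h0
  have hv := congrArg HomogeneousLocalization.val h0
  rw [Away.val_mk, HomogeneousLocalization.val_zero, ← Localization.mk_zero 1,
    Localization.mk_eq_mk_iff, Localization.r_iff_exists] at hv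
  obtain ⟨⟨c, N, rfl⟩, hc⟩ := hv
  simp only [OneMemClass.coe_one, one_mul, mul_zero] at hc
  exact ⟨N, hc⟩

include hs in
/-- `a / s^k = 0` if a power of `s` kills `a` -/
lemma mk_eq_zero_of_pow_mul_eq_zero (k : ℕ) (a : A) (ha : a ∈ 𝒜 (k • n)) (N : ℕ) (h : s ^ N * a = 0) :
    Away.mk 𝒜 hs k a ha = 0 := by
  apply HomogeneousLocalization.val_injective
  rw [Away.val_mk, HomogeneousLocalization.val_zero, ← Localization.mk_zero 1,
    Localization.mk_eq_mk_iff, Localization.r_iff_exists]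
  refine ⟨⟨s ^ N, _, rfl⟩, ?_⟩
  simp only [OneMemClass.coe_one, one_mul, mul_zero]
  exact h

end Ring

section B

lemma appLE_congr {A P : Scheme.{u}} {f₁ f₂ : A ⟶ P} (h : f₁ = f₂) (T : P.Opens) (V : A.Opens)
    (e₁ : V ≤ f₁ ⁻¹ᵁ T) (e₂ : V ≤ f₂ ⁻¹ᵁ T) : f₁.appLE T V e₁ = f₂.appLE T V e₂ := by
  subst h; rfl

variable {Y X P PL : Scheme.{u}} (q : X ⟶ Y)
  (𝒮 : RelProj.QCGrAlg Y) (𝒮L : RelProj.QCGrAlg X)
  (u : RelProj.QGrHom q 𝒮 𝒮L)
  (p : P ⟶ Y)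
  (chart : ∀ (U : Y.Opens) (hU : IsAffineOpen U),
    (((p ⁻¹ᵁ U : P.Opens) : Scheme.{u}) ≅ Proj (𝒮.deg U hU)))
  (pL : PL ⟶ X)
  (chartL : ∀ (U : X.Opens) (hU : IsAffineOpen U),
    (((pL ⁻¹ᵁ U : PL.Opens) : Scheme.{u}) ≅ Proj (𝒮L.deg U hU)))
  (r : ((RelProj.domQ u pL chartL : PL.Opens) : Scheme.{u}) ⟶ P)
  (hr : RelProj.IsProjQMapOn u p chart pL chartL (RelProj.domQ u pL chartL) r)
  (W : Y.Opens) (hW : IsAffineOpen W) {e : ℕ} (he : 0 < e) (g : 𝒮.presheaf.obj (op W)) (hg : g ∈ 𝒮.deg W hW e)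

include hr in
/-- a function on the chart `D₊(g)` of `P` killed by `r` is killed by all chart homomorphisms `𝒮(W)_(g) → 𝒮L(U')_(u g)` -/
lemma map_eq_zero_of_app_eq_zero (U' : X.Opens) (hU' : IsAffineOpen U') (hle : U' ≤ q ⁻¹ᵁ W)
    (x : Γ(P, (Proj.awayι (𝒮.deg W hW) g hg he ≫ RelProj.emb p chart W hW) ''ᵁ ⊤))
    (hx : (r.app ((Proj.awayι (𝒮.deg W hW) g hg he ≫ RelProj.emb p chart W hW) ''ᵁ ⊤)).hom x = 0) :
    Away.map (u.gradedAt W hW U' hU' hle) g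
      ((Scheme.ΓSpecIso (CommRingCat.of (Away (𝒮.deg W hW) g))).hom.hom
        (((Proj.awayι (𝒮.deg W hW) g hg he ≫ RelProj.emb p chart W hW).appIso ⊤).hom.hom x)) = 0 := by
  set c := Proj.awayι (𝒮.deg W hW) g hg he ≫ RelProj.emb p chart W hW with hc
  set φ := CommRingCat.ofHom (Away.map (u.gradedAt W hW U' hU' hle) g) with hφ
  have hWr := RelProj.range_awayEmb_subset_domQ u pL chartL W hW U' hU' hle he g hg
  set lam := IsOpenImmersion.lift (RelProj.domQ u pL chartL).ι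
    (RelProj.awayEmb u pL chartL W hW U' hU' hle he g hg) hWr with hlam
  have hlr : lam ≫ r = Spec.map φ ≫ c := hr W hW U' hU' hle e he g hg hWr
  have hnat := Scheme.ΓSpecIso_naturality φ
  have h1 : φ.hom ((Scheme.ΓSpecIso (CommRingCat.of (Away (𝒮.deg W hW) g))).hom.hom ((c.appIso ⊤).hom.hom x)) =
      (Scheme.ΓSpecIso _).hom.hom ((Spec.map φ).appTop.hom ((c.appIso ⊤).hom.hom x)) := by
    have := congrArg (fun k => k.hom ((c.appIso ⊤).hom.hom x)) hnat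
    exact this.symm
  change φ.hom _ = 0
  rw [h1]
  have h2 : (Spec.map φ).appTop.hom ((c.appIso ⊤).hom.hom x) = 0 := by
    have e1 : (⊤ : (Spec (CommRingCat.of (Away (𝒮.deg W hW) g))).Opens) ≤ c ⁻¹ᵁ (c ''ᵁ ⊤) := by
      rw [Scheme.Hom.preimage_image_eq]
    have e2 : (⊤ : (Spec (CommRingCat.of (Away (𝒮L.deg U' hU') (u.gradedAt W hW U' hU' hle g)))).Opens) ≤
        (Spec.map φ) ⁻¹ᵁ ⊤ := le_top
    have h3 : (c.appIso ⊤).hom = c.appLE (c ''ᵁ ⊤) ⊤ e1 := Scheme.Hom.appIso_hom' c ⊤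
    have h4 : (Spec.map φ).appTop = (Spec.map φ).appLE ⊤ ⊤ e2 :=
      Scheme.Hom.app_eq_appLE (Spec.map φ)
    have h5 : c.appLE (c ''ᵁ ⊤) ⊤ e1 ≫ (Spec.map φ).appLE ⊤ ⊤ e2 =
        (Spec.map φ ≫ c).appLE (c ''ᵁ ⊤) ⊤ (e2.trans ((Spec.map φ).preimage_mono e1)) :=
      Scheme.Hom.appLE_comp_appLE _ _ _ _ _ _ _
    have e3 : (⊤ : (Spec (CommRingCat.of (Away (𝒮L.deg U' hU') (u.gradedAt W hW U' hU' hle g)))).Opens) ≤
        (lam ≫ r) ⁻¹ᵁ (c ''ᵁ ⊤) := by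
      rw [hlr]; exact e2.trans ((Spec.map φ).preimage_mono e1)
    have h6 : (Spec.map φ ≫ c).appLE (c ''ᵁ ⊤) ⊤ (e2.trans ((Spec.map φ).preimage_mono e1)) =
        (lam ≫ r).appLE (c ''ᵁ ⊤) ⊤ e3 := appLE_congr hlr.symm _ _ _ _
    have e4 : (⊤ : (Spec (CommRingCat.of (Away (𝒮L.deg U' hU') (u.gradedAt W hW U' hU' hle g)))).Opens) ≤
        lam ⁻¹ᵁ (r ⁻¹ᵁ (c ''ᵁ ⊤)) := e3
    have h7 : (lam ≫ r).appLE (c ''ᵁ ⊤) ⊤ e3 = r.app (c ''ᵁ ⊤) ≫ lam.appLE (r ⁻¹ᵁ (c ''ᵁ ⊤)) ⊤ e4 := by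
      rw [Scheme.Hom.app_eq_appLE, Scheme.Hom.appLE_comp_appLE]
    have h8 : (Spec.map φ).appTop.hom ((c.appIso ⊤).hom.hom x) =
        (c.appLE (c ''ᵁ ⊤) ⊤ e1 ≫ (Spec.map φ).appLE ⊤ ⊤ e2).hom x := by
      rw [h3, h4]; rfl
    rw [h8, h5, h6, h7]
    change (lam.appLE (r ⁻¹ᵁ (c ''ᵁ ⊤)) ⊤ e4).hom ((r.app (c ''ᵁ ⊤)).hom x) = 0
    rw [hx, map_zero]
  rw [h2, map_zero]

end B

section C

variable {Y X P PL : Scheme.{u}} (q : X ⟶ Y)
  (𝒮 : RelProj.QCGrAlg Y) (𝒮L : RelProj.QCGrAlg X)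
  (u : RelProj.QGrHom q 𝒮 𝒮L)
  (p : P ⟶ Y)
  (chart : ∀ (U : Y.Opens) (hU : IsAffineOpen U),
    (((p ⁻¹ᵁ U : P.Opens) : Scheme.{u}) ≅ Proj (𝒮.deg U hU)))
  (pL : PL ⟶ X)
  (chartL : ∀ (U : X.Opens) (hU : IsAffineOpen U),
    (((pL ⁻¹ᵁ U : PL.Opens) : Scheme.{u}) ≅ Proj (𝒮L.deg U hU)))
  (r : ((RelProj.domQ u pL chartL : PL.Opens) : Scheme.{u}) ⟶ P)
  (hr : RelProj.IsProjQMapOn u p chart pL chartL (RelProj.domQ u pL chartL) r)
  (W : Y.Opens) (hW : IsAffineOpen W) {e : ℕ} (he : 0 < e) (g : 𝒮.presheaf.obj (op W)) (hg : g ∈ 𝒮.deg W hW e)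

include hr in
/-- **`r` is injective on functions over the chart `D₊(g)`** when `q⁻¹(W)` is quasi-compact and `u` is injective over `W`. -/
theorem app_injective_chart (hc : IsCompact ((q ⁻¹ᵁ W : X.Opens) : Set X))
    (hinj : Function.Injective (u.app W).hom) :
    Function.Injective
      (r.app ((Proj.awayι (𝒮.deg W hW) g hg he ≫ RelProj.emb p chart W hW) ''ᵁ ⊤)).hom := by
  rw [injective_iff_map_eq_zero]
  intro x hx
  set c := Proj.awayι (𝒮.deg W hW) g hg he ≫ RelProj.emb p chart W hW with hcdef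
  set x₀ := (Scheme.ΓSpecIso (CommRingCat.of (Away (𝒮.deg W hW) g))).hom.hom ((c.appIso ⊤).hom.hom x) with hx₀
  suffices h0 : x₀ = 0 by
    have h1 : (c.appIso ⊤).hom.hom x = 0 := by
      apply (ConcreteCategory.bijective_of_isIso (Scheme.ΓSpecIso (CommRingCat.of (Away (𝒮.deg W hW) g))).hom).1
      rw [map_zero]; exact h0
    apply (ConcreteCategory.bijective_of_isIso (c.appIso ⊤).hom).1
    rw [map_zero]; exact h1
  have hB := fun (U' : X.Opens) (hU' : IsAffineOpen U') (hle : U' ≤ q ⁻¹ᵁ W) =>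
    map_eq_zero_of_app_eq_zero q 𝒮 𝒮L u p chart pL chartL r hr W hW he g hg U' hU' hle x hx
  obtain ⟨k, b, hb, hxb⟩ := Away.mk_surjective (𝒮.deg W hW) hg x₀
  rw [← hx₀] at hB
  rw [← hxb]
  -- local annihilation
  have hloc : ∀ x' : (q ⁻¹ᵁ W : X.Opens), ∃ (U' : X.Opens) (hle : U' ≤ q ⁻¹ᵁ W) (N : ℕ), x'.1 ∈ U' ∧
      (𝒮L.presheaf.map (homOfLE hle).op).hom ((u.app W).hom g) ^ N *
        (𝒮L.presheaf.map (homOfLE hle).op).hom ((u.app W).hom b) = 0 := by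
    intro x'
    obtain ⟨_, ⟨U', hU'', rfl⟩, hxU', hU'le'⟩ := (X.isBasis_affineOpens).exists_subset_of_mem_open x'.2
      (q ⁻¹ᵁ W).isOpen
    have hU' : IsAffineOpen U' := hU''
    have hle : U' ≤ q ⁻¹ᵁ W := hU'le'
    have h1 := hB U' hU' hle
    rw [← hxb] at h1
    obtain ⟨N, hN⟩ := exists_pow_mul_eq_zero_of_map_mk_eq_zero (u.gradedAt W hW U' hU' hle) hg k b hb h1
    exact ⟨U', hle, N, hxU', hN⟩
  choose U' hle N hxU' hN using hloc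
  obtain ⟨t, ht⟩ := hc.elim_finite_subcover (fun x' : (q ⁻¹ᵁ W : X.Opens) => ((U' x' : X.Opens) : Set X))
    (fun x' => (U' x').2) (fun y hy => Set.mem_iUnion.mpr ⟨⟨y, hy⟩, hxU' ⟨y, hy⟩⟩)
  have hz : (u.app W).hom (g ^ (t.sup N) * b) = 0 := by
    refine ring_sec_ext 𝒮L _ _ (fun y hy => ?_)
    obtain ⟨x', hx't, hyx'⟩ := Set.mem_iUnion₂.mp (ht hy)
    refine ⟨U' x', hle x', hyx', ?_⟩
    rw [map_zero, map_mul, map_pow, map_mul, map_pow]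
    have hkx : N x' ≤ t.sup N := Finset.le_sup hx't
    rw [← Nat.sub_add_cancel hkx, pow_add, mul_assoc, hN x', mul_zero]
  have hz' : g ^ (t.sup N) * b = 0 := by
    apply hinj
    rw [hz, map_zero]
  exact mk_eq_zero_of_pow_mul_eq_zero hg k b hb _ hz'

end C

section D

variable {Y X P PL : Scheme.{u}} (q : X ⟶ Y)
  (𝒮 : RelProj.QCGrAlg Y) (𝒮L : RelProj.QCGrAlg X)
  (u : RelProj.QGrHom q 𝒮 𝒮L)
  (p : P ⟶ Y)
  (chart : ∀ (U : Y.Opens) (hU : IsAffineOpen U),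
    (((p ⁻¹ᵁ U : P.Opens) : Scheme.{u}) ≅ Proj (𝒮.deg U hU)))
  (pL : PL ⟶ X)
  (chartL : ∀ (U : X.Opens) (hU : IsAffineOpen U),
    (((pL ⁻¹ᵁ U : PL.Opens) : Scheme.{u}) ≅ Proj (𝒮L.deg U hU)))
  (r : ((RelProj.domQ u pL chartL : PL.Opens) : Scheme.{u}) ⟶ P)
  (hr : RelProj.IsProjQMapOn u p chart pL chartL (RelProj.domQ u pL chartL) r)

include hr in
/-- **Scheme-theoretic dominance of `r_{L,ψ}`**: `q` and `r` quasi-compact, `u` injective over a covering family of affine opens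
of the base ⇒ `O_P → r_*O` is injective. -/
theorem isSchemeTheoreticallyDominant_of_cover [QuasiCompact q] [QuasiCompact r] (B : Set Y.Opens)
    (hB : ∀ W ∈ B, IsAffineOpen W) (hBcov : ∀ y : Y, ∃ W ∈ B, y ∈ W)
    (hinj : ∀ (W : Y.Opens), W ∈ B → Function.Injective (u.app W).hom) :
    IsSchemeTheoreticallyDominant r := by
  rw [isSchemeTheoreticallyDominant_iff]
  let I : Type u := {a : (Σ W : Y.affineOpens, ℕ × 𝒮.presheaf.obj (op W.1)) // a.1.1 ∈ B ∧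
      0 < a.2.1 ∧ a.2.2 ∈ 𝒮.deg a.1.1 a.1.2 a.2.1}
  let c : ∀ a : I, Spec (CommRingCat.of (Away (𝒮.deg a.1.1.1 a.1.1.2) a.1.2.2)) ⟶ P := fun a =>
    Proj.awayι (𝒮.deg a.1.1.1 a.1.1.2) a.1.2.2 a.2.2.2 a.2.2.1 ≫ RelProj.emb p chart a.1.1.1 a.1.1.2
  refine Scheme.IdealSheafData.ext_of_iSup_eq_top
    (fun a : I => ⟨c a ''ᵁ ⊤, (isAffineOpen_top _).image_of_isOpenImmersion (c a)⟩) ?_ (fun a => ?_)
  · rw [eq_top_iff]
    intro z _
    obtain ⟨W, hWB, hzW'⟩ := hBcov (p.base z)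
    have hW := hB W hWB
    have hzW : z ∈ p ⁻¹ᵁ W := hzW'
    have hz₀ := emb_apply_chart p chart W hW z hzW
    set z₀ := chartPt p chart W hW z hzW with hz₀def
    obtain ⟨e, he, g, hg, hz₀g, -⟩ := exists_homogeneous_basicOpen_le z₀ ⊤ trivial
    rw [← Proj.opensRange_awayι (𝒮.deg W hW) g hg he] at hz₀g
    obtain ⟨w, hw⟩ := hz₀g
    refine Opens.mem_iSup.mpr ⟨⟨⟨⟨W, hW⟩, (e, g)⟩, hWB, he, hg⟩, w, trivial, ?_⟩
    change (Proj.awayι (𝒮.deg W hW) g hg he ≫ RelProj.emb p chart W hW).base w = z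
    rw [Scheme.Hom.comp_base, TopCat.coe_comp, Function.comp_apply]
    erw [hw]
    exact hz₀
  · rw [Scheme.Hom.ker_apply]
    have hcpt : IsCompact ((q ⁻¹ᵁ a.1.1.1 : X.Opens) : Set X) := q.isCompact_preimage a.1.1.2.isCompact
    have h1 := app_injective_chart q 𝒮 𝒮L u p chart pL chartL r hr a.1.1.1 a.1.1.2 a.2.2.1 a.1.2.2 a.2.2.2 hcpt
      (hinj _ a.2.1)
    exact (RingHom.injective_iff_ker_eq_bot _).mp h1

end D

end Groth.Agent.Lib.LineOpenImm2
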