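import Groth.Prelude.Def_DerCA
import Mathlib.RingTheory.Localization.BaseChange
import Mathlib.Algebra.Category.ModuleCat.ChangeOfRings

/-!
# Localization functors: comparison isomorphisms (helper25)

* `locNatIso`: two "localizations at `T`" of the same functor are naturally isomorphic, compatibly
  with the localization maps.
* `extLocIso`: `B ⊗_A M_S ≅ (B ⊗_A M)_{φ S}` naturally in `M`, for `S = powers f`.
* `powLocIso`: `M_{f^p} ≅ M_f` naturally in `M`.
-/

set_option autoImplicit false
set_option linter.style.haveILetI false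
universe u

open CategoryTheory

namespace Groth.Agent.Lib.LocBC25

variable {B : Type u} [CommRing B]

section generic

variable {C : Type*} [Category C] {H P P' : C ⥤ ModuleCat.{u} B} (v : H ⟶ P) (v' : H ⟶ P')
  (T : Submonoid B) (hv : ∀ X, IsLocalizedModule T (v.app X).hom)
  (hv' : ∀ X, IsLocalizedModule T (v'.app X).hom)

/-- two localizations of the same functor are naturally isomorphic -/
noncomputable def locNatIso : P ≅ P' :=
  NatIso.ofComponents (fun X =>
    haveI := hv X
    haveI := hv' X
    (IsLocalizedModule.linearEquiv T (v.app X).hom (v'.app X).hom).toModuleIso) (by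
    intro X Y g
    haveI := hv X
    haveI := hv' X
    haveI := hv Y
    haveI := hv' Y
    apply ModuleCat.hom_ext
    apply IsLocalizedModule.linearMap_ext T (v.app X).hom (v'.app Y).hom
    apply LinearMap.ext
    intro x
    change (IsLocalizedModule.linearEquiv T (v.app Y).hom (v'.app Y).hom)
        ((P.map g).hom ((v.app X).hom x)) =
      (P'.map g).hom ((IsLocalizedModule.linearEquiv T (v.app X).hom (v'.app X).hom)
        ((v.app X).hom x))
    have h1 : (P.map g).hom ((v.app X).hom x) = (v.app Y).hom ((H.map g).hom x) := by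
      have := congrArg (fun t => t.hom x) (v.naturality g)
      exact this.symm
    have h2 : (P'.map g).hom ((v'.app X).hom x) = (v'.app Y).hom ((H.map g).hom x) := by
      have := congrArg (fun t => t.hom x) (v'.naturality g)
      exact this.symm
    rw [h1, IsLocalizedModule.linearEquiv_apply, IsLocalizedModule.linearEquiv_apply, h2])

lemma locNatIso_comp : v ≫ (locNatIso v v' T hv hv').hom = v' := by
  ext X : 2
  haveI := hv X
  haveI := hv' X
  apply ModuleCat.hom_ext
  apply LinearMap.ext
  intro x
  exact IsLocalizedModule.linearEquiv_apply T (v.app X).hom (v'.app X).hom x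

end generic

section ext

open TensorProduct

variable {A : Type u} [CommRing A] (φ : A →+* B)

/-- the `A`-module `B` (restriction of scalars) -/
noncomputable abbrev Bφ : ModuleCat.{u} A :=
  (ModuleCat.restrictScalars φ).obj (ModuleCat.of B B)

/-- the `B`-action of `b` on `B ⊗_A M` as an additive map on the tensor product -/
noncomputable def smulB (M : ModuleCat.{u} A) (b : B) : (Bφ φ) ⊗[A] M →+ (Bφ φ) ⊗[A] M :=
  DistribSMul.toAddMonoidHom ((ModuleCat.extendScalars φ).obj M) b

/-- on `B ⊗_A M` the `B`-action of `φ a` is the `A`-action of `a` -/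
lemma map_smul_eq (M : ModuleCat.{u} A) (a : A) (x : (Bφ φ) ⊗[A] M) :
    smulB φ M (φ a) x = a • x := by
  induction x using TensorProduct.induction_on with
  | zero => rw [map_zero, smul_zero]
  | tmul b m => rfl
  | add x y hx hy => rw [map_add, hx, hy, smul_add]

variable (S : Submonoid A) (M : ModuleCat.{u} A)

/-- `B ⊗_A M ⟶ B ⊗_A M_S` is an `A`-localization at `S` -/
instance isLocalizedModule_lTensor :
    IsLocalizedModule S (LinearMap.lTensor (Bφ φ) (LocalizedModule.mkLinearMap S M)) := by
  have h0 : IsLocalizedModule S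
      (LinearMap.rTensor (Bφ φ) (LocalizedModule.mkLinearMap S M)) := by
    have h : IsLocalizedModule S
        (AlgebraTensorModule.rTensor A (Bφ φ) (LocalizedModule.mkLinearMap S M)) := inferInstance
    have e : AlgebraTensorModule.rTensor A (Bφ φ) (LocalizedModule.mkLinearMap S M) =
        LinearMap.rTensor (Bφ φ) (LocalizedModule.mkLinearMap S M) := by
      apply TensorProduct.ext'
      intro x y
      rfl
    rw [← e]
    exact h
  rw [← LinearMap.comm_comp_rTensor_comp_comm_eq]
  infer_instance

/-- `B ⊗_A M ⟶ B ⊗_A M_S` is a `B`-localization at `φ S` -/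
theorem isLocalizedModule_ext_map :
    IsLocalizedModule (S.map (φ : A →* B))
      ((ModuleCat.extendScalars φ).map ((DerCA.locUnit S).app M)).hom where
  map_units := by
    rintro ⟨t, ht⟩
    obtain ⟨s, hs, rfl⟩ := Submonoid.mem_map.mp ht
    have h1 := IsLocalizedModule.map_units
      (LinearMap.lTensor (Bφ φ) (LocalizedModule.mkLinearMap S M)) ⟨s, hs⟩
    rw [Module.End.isUnit_iff] at h1 ⊢
    have : (fun y : (Bφ φ) ⊗[A] (LocalizedModule S M) => s • y) =
        fun y => smulB φ (ModuleCat.of A (LocalizedModule S M)) (φ s) y := by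
      funext y
      exact (map_smul_eq φ (ModuleCat.of A (LocalizedModule S M)) s y).symm
    have h2 : Function.Bijective
        (fun y => smulB φ (ModuleCat.of A (LocalizedModule S M)) (φ s) y) := by
      rw [← this]
      exact h1
    exact h2
  surj y := by
    obtain ⟨⟨x, s⟩, h⟩ := IsLocalizedModule.surj S
      (LinearMap.lTensor (Bφ φ) (LocalizedModule.mkLinearMap S M)) y
    refine ⟨⟨x, ⟨φ s, Submonoid.mem_map.mpr ⟨s, s.2, rfl⟩⟩⟩, ?_⟩
    exact (map_smul_eq φ (ModuleCat.of A (LocalizedModule S M)) s y).trans h
  exists_of_eq {x₁ x₂} h := by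
    obtain ⟨c, hc⟩ := IsLocalizedModule.exists_of_eq (S := S)
      (f := LinearMap.lTensor (Bφ φ) (LocalizedModule.mkLinearMap S M)) h
    refine ⟨⟨φ c, Submonoid.mem_map.mpr ⟨c, c.2, rfl⟩⟩, ?_⟩
    exact (map_smul_eq φ M c x₁).trans (hc.trans (map_smul_eq φ M c x₂).symm)

end ext

end Groth.Agent.Lib.LocBC25
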