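import Groth.Agent.Lib.H30DimField

/-!
# The boundary of a locally closed subset has smaller dimension (helper45)

For a scheme `X` of finite type over a field and a nonempty locally closed subset `O ⊆ X`:
`dim (closure O \ O) < dim O`.
-/

set_option autoImplicit false
universe u
open CategoryTheory AlgebraicGeometry TopologicalSpace Topology

namespace Groth.Agent.Lib.LocClosedDim45

section Top

variable {P : Type*} [TopologicalSpace P]

/-- In a Noetherian quasi-sober space, every point of the closure of a locally closed subset is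
a specialization of a point of the subset. -/
theorem exists_specializes_of_mem_closure [NoetherianSpace P] [QuasiSober P] {O : Set P}
    (hO : IsLocallyClosed O) {β : P} (hβ : β ∈ closure O) : ∃ ξ ∈ O, ξ ⤳ β := by
  obtain ⟨W, F, hW, hF, rfl⟩ := hO
  obtain ⟨S, hSf, hSc, hSi, hSU⟩ :=
    NoetherianSpace.exists_finite_set_isClosed_irreducible (isClosed_closure (s := W ∩ F))
  have hgp : ∀ C ∈ S, ∃ ξ, IsGenericPoint ξ C := fun C hC =>
    QuasiSober.sober (hSi C hC) (hSc C hC)
  let S' : Set (Set P) := {C | C ∈ S ∧ ∃ ξ ∈ W, IsGenericPoint ξ C}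
  have hS'S : S' ⊆ S := fun C hC => hC.1
  have hsub : W ∩ F ⊆ ⋃₀ S' := by
    intro z hz
    have : z ∈ ⋃₀ S := hSU ▸ subset_closure hz
    obtain ⟨C, hC, hzC⟩ := this
    obtain ⟨ξ, hξ⟩ := hgp C hC
    refine ⟨C, ⟨hC, ξ, ?_, hξ⟩, hzC⟩
    have : ξ ⤳ z := hξ.specializes hzC
    exact this.mem_open hW hz.1
  have hclosed : IsClosed (⋃₀ S') := by
    rw [Set.sUnion_eq_biUnion]
    exact (hSf.subset hS'S).isClosed_biUnion (fun C hC => hSc C hC.1)
  have hcl : closure (W ∩ F) ⊆ ⋃₀ S' := closure_minimal hsub hclosed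
  obtain ⟨C, ⟨hC, ξ, hξW, hξ⟩, hβC⟩ := hcl hβ
  refine ⟨ξ, ⟨hξW, ?_⟩, hξ.specializes hβC⟩
  have h1 : ξ ∈ C := hξ.mem
  have h2 : ξ ∈ closure (W ∩ F) := hSU ▸ Set.mem_sUnion_of_mem h1 hC
  exact closure_minimal Set.inter_subset_right hF h2

lemma quasiSober_of_isLocallyClosed [QuasiSober P] {O : Set P} (hO : IsLocallyClosed O) :
    QuasiSober ↥O := by
  obtain ⟨W, F, hW, hF, rfl⟩ := hO
  have h1 : QuasiSober ↥F := hF.isClosedEmbedding_subtypeVal.quasiSober
  -- `W ∩ F` is open in `F`
  let j : ↥(W ∩ F) → ↥F := Set.inclusion Set.inter_subset_right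
  have hj : IsOpenEmbedding j := by
    refine ⟨IsEmbedding.inclusion _, ?_⟩
    have : Set.range j = Subtype.val ⁻¹' W := by
      ext ⟨z, hz⟩
      constructor
      · rintro ⟨⟨y, hy⟩, h⟩
        have : y = z := congrArg Subtype.val h
        exact this ▸ hy.1
      · intro h
        exact ⟨⟨z, h, hz⟩, rfl⟩
    rw [this]
    exact hW.preimage continuous_subtype_val
  exact hj.quasiSober

lemma topologicalKrullDim_nonneg_of_nonempty [Nonempty P] : 0 ≤ topologicalKrullDim P := by
  have : Nonempty (IrreducibleCloseds P) :=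
    ⟨⟨closure {Classical.arbitrary P}, isIrreducible_singleton.closure, isClosed_closure⟩⟩
  exact Order.krullDim_nonneg

lemma topologicalKrullDim_eq_bot_of_isEmpty [IsEmpty P] : topologicalKrullDim P = ⊥ := by
  have : IsEmpty (IrreducibleCloseds P) :=
    ⟨fun Z => (IsEmpty.false (Z.isIrreducible'.1.some))⟩
  exact Order.krullDim_eq_bot

end Top

section Sch

open Groth.Agent.Lib.H30DimField

variable (k : Type u) [Field k] (X : Scheme.{u}) [X.Over (Spec (CommRingCat.of k))]
  [LocallyOfFiniteType (X ↘ Spec (CommRingCat.of k))]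

/-- On a Noetherian scheme locally of finite type over a field, `td` is bounded. -/
theorem exists_td_le [NoetherianSpace X] : ∃ M : ℕ, ∀ x : X, td k X x ≤ M := by
  have hδ := isDimFun k X
  have hfin : (irreducibleComponents X).Finite := NoetherianSpace.finite_irreducibleComponents
  have hgp : ∀ C ∈ irreducibleComponents X, ∃ ξ : X, IsGenericPoint ξ C := fun C hC =>
    QuasiSober.sober hC.1 (isClosed_of_mem_irreducibleComponents C hC)
  by_cases hXne : Nonempty X
  · choose! gp hgp' using hgp
    obtain ⟨M, hM⟩ : ∃ M : ℕ, ∀ C ∈ irreducibleComponents X, td k X (gp C) ≤ M := by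
      have hb : BddAbove ((fun C => (td k X (gp C)).toNat) '' irreducibleComponents X) :=
        (hfin.image _).bddAbove
      obtain ⟨M, hM⟩ := hb
      refine ⟨M, fun C hC => ?_⟩
      have := hM ⟨C, hC, rfl⟩
      have h0 := td_nonneg k X (gp C)
      simp only at this
      omega
    refine ⟨M, fun x => ?_⟩
    have hx : irreducibleComponent x ∈ irreducibleComponents X :=
      irreducibleComponent_mem_irreducibleComponents x
    have hsp : gp (irreducibleComponent x) ⤳ x :=
      (hgp' _ hx).specializes mem_irreducibleComponent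
    exact le_trans (Groth.Agent.S6462.delta_le_of_specializes hδ hsp) (hM _ hx)
  · exact ⟨0, fun x => (hXne ⟨x⟩).elim⟩

include k in
/-- The boundary of a nonempty locally closed subset of a scheme of finite type over a field has
strictly smaller dimension. -/
theorem dim_boundary_lt [NoetherianSpace X] {O : Set X} (hO : IsLocallyClosed O)
    (hne : O.Nonempty) :
    topologicalKrullDim ↥(closure O \ O) < topologicalKrullDim ↥O := by
  have hδ := isDimFun k X
  set B : Set X := closure O \ O with hB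
  have hBc : IsClosed B := by
    have : B = (coborder O)ᶜ := by rw [coborder, compl_compl]
    rw [this]
    exact hO.isOpen_coborder.isClosed_compl
  have hQO : QuasiSober ↥O := quasiSober_of_isLocallyClosed hO
  have hQB : QuasiSober ↥B := hBc.isClosedEmbedding_subtypeVal.quasiSober
  obtain ⟨W, F, hW, hF, hWF⟩ := id hO
  have hδO : PtTop.IsDimensionFunction (fun z : O => td k X z.1) := by
    refine isDimFun_convex hδ O ?_
    intro v hv w hw z hvz hzw
    rw [hWF] at hv hw ⊢
    exact ⟨hzw.mem_open hW hw.1, hvz.mem_closed hF hv.2⟩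
  have hδB : PtTop.IsDimensionFunction (fun z : B => td k X z.1) := by
    refine isDimFun_convex hδ B ?_
    intro v hv w hw z hvz hzw
    exact hvz.mem_closed hBc hv
  have hOnonneg : (0 : WithBot ℕ∞) ≤ topologicalKrullDim ↥O := by
    have : Nonempty ↥O := hne.to_subtype
    exact topologicalKrullDim_nonneg_of_nonempty
  by_cases hBne : B.Nonempty
  · obtain ⟨M, hM⟩ := exists_td_le k X
    -- a point of `B` with maximal `td`
    obtain ⟨m, ⟨β₀, hβ₀B, rfl⟩, hmax⟩ := Int.exists_greatest_of_bdd
      (P := fun z => ∃ x ∈ B, td k X x = z) ⟨M, by rintro _ ⟨x, -, rfl⟩; exact hM x⟩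
      (by obtain ⟨b, hb⟩ := hBne; exact ⟨_, b, hb, rfl⟩)
    have hm0 := td_nonneg k X β₀
    have hdimB : topologicalKrullDim ↥B ≤ (((td k X β₀).toNat : ℕ) : WithBot ℕ∞) := by
      refine krullDim_le (fun z : B => td k X z.1) hδB (fun y => td_nonneg k X y.1) _ ?_
      intro y
      have := hmax _ ⟨y.1, y.2, rfl⟩
      change td k X y.1 ≤ _
      omega
    obtain ⟨ξ, hξO, hξβ⟩ := exists_specializes_of_mem_closure hO hβ₀B.1
    have hne' : ξ ≠ β₀ := fun h => hβ₀B.2 (h ▸ hξO)
    have hlt : td k X β₀ < td k X ξ := (hδ ξ β₀ hξβ hne').1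
    have hξWF : ξ ∈ W ∩ F := hWF ▸ hξO
    obtain ⟨c, hcW, hξc, hc⟩ := exists_closed_point k X ξ W hW hξWF.1
    have hcO : c ∈ O := by
      rw [hWF]
      exact ⟨hcW, hξc.mem_closed hF hξWF.2⟩
    have hc0 := td_eq_zero_of_isClosed k X c hc
    have hdimO := le_krullDim (fun z : O => td k X z.1) hδO ⟨ξ, hξO⟩ ⟨c, hcO⟩
      ((subtype_specializes_iff _ _).mpr hξc)
    simp only [hc0, sub_zero] at hdimO
    refine lt_of_le_of_lt hdimB (lt_of_lt_of_le ?_ hdimO)
    have : (td k X β₀).toNat < (td k X ξ).toNat := by omega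
    exact_mod_cast this
  · rw [Set.not_nonempty_iff_eq_empty] at hBne
    rw [hBne]
    have : IsEmpty ↥(∅ : Set X) := inferInstance
    rw [topologicalKrullDim_eq_bot_of_isEmpty] -- check name
    exact lt_of_lt_of_le (WithBot.bot_lt_coe _) hOnonneg

end Sch

end Groth.Agent.Lib.LocClosedDim45
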