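import Mathlib.Topology.LocallyClosed
import Mathlib.Topology.NoetherianSpace

/-!
# helper42: closed pieces from hypothesis (2°) of EGA IV 21.9.11-type statements
(namespace `Groth.Agent.Lib.LocClosedTop42`)

`S ⊆ X` such that every locally closed `Y ⊆ X` with `Y ∩ S` discrete contains a subset `Y'`, closed in `X` and open in
`Y`, with `Y ∩ S ⊆ Y'`.

* `exists_closed_piece`: one application to `C ∩ O` (`C` closed, `O` open) meeting `S` in at most a point.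
* `exists_closed_pieces`: a finite family of such sets yields pairwise disjoint closed pieces (two rounds).
-/

set_option autoImplicit false
universe u

namespace Groth.Agent.Lib.LocClosedTop42

open Set Topology TopologicalSpace

variable {X : Type u} [TopologicalSpace X] (S : Set X)
  (h2 : ∀ Y : Set X, IsLocallyClosed Y → DiscreteTopology ↥(Y ∩ S) →
      ∃ Y' : Set X, Y' ⊆ Y ∧ IsClosed Y' ∧ (∃ O : Set X, IsOpen O ∧ Y' = Y ∩ O) ∧ Y ∩ S ⊆ Y')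

include h2 in
/-- one round of (2°) -/
theorem exists_closed_piece (C O : Set X) (hC : IsClosed C) (hO : IsOpen O) (x : X)
    (hCOS : C ∩ O ∩ S ⊆ {x}) :
    ∃ K : Set X, IsClosed K ∧ K ⊆ C ∩ O ∧ C ∩ O ∩ S ⊆ K ∧ ∃ O' : Set X, IsOpen O' ∧ C ∩ O ∩ O' = K := by
  have hsub : Subsingleton ↥(C ∩ O ∩ S) := by
    constructor
    rintro ⟨a, ha⟩ ⟨b, hb⟩
    have h1 : a = x := hCOS ha
    have h2 : b = x := hCOS hb
    exact Subtype.ext (h1.trans h2.symm)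
  obtain ⟨K, hKsub, hKcl, ⟨O', hO', hKeq⟩, hKS⟩ := h2 (C ∩ O) ⟨O, C, hO, hC, Set.inter_comm C O⟩ inferInstance
  exact ⟨K, hKcl, hKsub, hKS, O', hO', hKeq.symm⟩

include h2 in
/-- two rounds of (2°): pairwise disjoint closed pieces -/
theorem exists_closed_pieces {ι : Type*} [Finite ι] (x : ι → X) (hx : Function.Injective x)
    (C O : ι → Set X) (hC : ∀ t, IsClosed (C t)) (hO : ∀ t, IsOpen (O t))
    (hxC : ∀ t, x t ∈ C t) (hxO : ∀ t, x t ∈ O t) (hxS : ∀ t, x t ∈ S)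
    (hCOS : ∀ t, C t ∩ O t ∩ S ⊆ {x t}) :
    ∃ K : ι → Set X, (∀ t, IsClosed (K t)) ∧ (∀ t, x t ∈ K t) ∧ (∀ t r, t ≠ r → ∀ z, z ∈ K t → z ∉ K r) ∧
      ∀ t, ∃ O' : Set X, IsOpen O' ∧ C t ∩ O t ∩ O' = K t := by
  classical
  choose K' hK'cl hK'sub hK'S O' hO' hK'eq using fun t =>
    exists_closed_piece S h2 (C t) (O t) (hC t) (hO t) (x t) (hCOS t)
  have hUcl : ∀ t : ι, IsClosed (⋃ r ∈ {r : ι | r ≠ t}, K' r) := fun t =>
    (Set.toFinite {r : ι | r ≠ t}).isClosed_biUnion fun r _ => hK'cl r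
  have hxK' : ∀ t, x t ∈ K' t := fun t => hK'S t ⟨⟨hxC t, hxO t⟩, hxS t⟩
  have hxK'ne : ∀ t r, r ≠ t → x t ∉ K' r := by
    intro t r hrt hcon
    have : x t = x r := hCOS r ⟨hK'sub r hcon, hxS t⟩
    exact hrt (hx this).symm
  have hsub2 : ∀ t, K' t ∩ (⋃ r ∈ {r : ι | r ≠ t}, K' r)ᶜ ∩ S ⊆ {x t} := by
    rintro t z ⟨⟨hz1, -⟩, hzS⟩
    exact hCOS t ⟨hK'sub t hz1, hzS⟩
  choose K hKcl hKsub hKS O'' hO'' hKeq using fun t =>
    exists_closed_piece S h2 (K' t) ((⋃ r ∈ {r : ι | r ≠ t}, K' r)ᶜ) (hK'cl t) (hUcl t).isOpen_compl (x t) (hsub2 t)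
  refine ⟨K, hKcl, fun t => hKS t ⟨⟨hxK' t, ?_⟩, hxS t⟩, ?_, fun t => ?_⟩
  · intro hcon
    obtain ⟨r, hr, hzr⟩ := Set.mem_iUnion₂.mp hcon
    exact hxK'ne t r hr hzr
  · intro t r htr z hzt hzr
    have h1 := (hKsub t hzt).2
    have h3 := (hKsub r hzr).1
    exact h1 (Set.mem_biUnion (show r ∈ {r : ι | r ≠ t} from Ne.symm htr) h3)
  · refine ⟨O' t ∩ (⋃ r ∈ {r : ι | r ≠ t}, K' r)ᶜ ∩ O'' t, ((hO' t).inter (hUcl t).isOpen_compl).inter (hO'' t), ?_⟩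
    rw [← hKeq t, ← hK'eq t]
    ext z
    simp only [Set.mem_inter_iff]
    tauto

end Groth.Agent.Lib.LocClosedTop42
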