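import Groth.Agent.Lib.ConnPairPic42
import Groth.Agent.Lib.LocClosedTop42

/-!
# helper42: extending invertible modules from a closed subscheme of dimension `≤ 1`, general form
(namespace `Groth.Agent.Lib.LocClosedPic42`)

* `exists_descent_of_pieces`: `i : X₀ ⟶ X` closed immersion, `X` Noetherian, `dim X₀ ≤ 1`, plus a topological hypothesis
  `hP` producing pairwise disjoint closed pieces: every invertible module on `X₀` is a pullback from `X`.
* `exists_descent_loc_closed`: the same under hypothesis (2°): every locally closed `Y ⊆ X` with `Y ∩ X₀` discrete contains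
  a `Y'` closed in `X`, open in `Y`, containing `Y ∩ X₀`.
-/

set_option autoImplicit false
universe u
open CategoryTheory CategoryTheory.Limits AlgebraicGeometry TopologicalSpace Opposite
open Groth.Agent.Lib.H90Invertible Groth.Agent.Lib.H78TensorGen Groth.Agent.Lib.H78SecCoord
open Groth.Agent.Lib.H78Atlas Groth.Agent.Lib.InvGlue42 Groth.Agent.Lib.H78PullSec
open Groth.Agent.Lib.FinModifPic42 Groth.Agent.Lib.StarDescent42 Groth.Agent.Lib.DimOnePic42
open Groth.Agent.Lib.ConnPairPic42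

namespace Groth.Agent.Lib.LocClosedPic42

variable {X X₀ : Scheme.{u}}

/-- **General form**: the topological input is a procedure producing pairwise disjoint closed pieces. -/
theorem exists_descent_of_pieces (i : X₀ ⟶ X) [IsClosedImmersion i] [NoetherianSpace X]
    (hdim : topologicalKrullDim X₀ ≤ 1)
    (hP : ∀ (ι : Type u) [Finite ι] (x : ι → X), Function.Injective x → ∀ (C O : ι → Set X),
      (∀ t, IsClosed (C t)) → (∀ t, IsOpen (O t)) → (∀ t, x t ∈ C t) → (∀ t, x t ∈ O t) →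
      (∀ t, x t ∈ Set.range i.base) → (∀ t, IsClosed ({x t} : Set X)) →
      (∀ t, C t ∩ O t ∩ Set.range i.base ⊆ {x t}) →
      ∃ K : ι → Set X, (∀ t, IsClosed (K t)) ∧ (∀ t, x t ∈ K t) ∧
        (∀ t r, t ≠ r → ∀ z, z ∈ K t → z ∉ K r) ∧
        ∀ t, ∃ O' : Set X, IsOpen O' ∧ C t ∩ O t ∩ O' = K t)
    (L : X₀.Modules) (hL : PicF.IsInvertible L) :
    ∃ N : X.Modules, PicF.IsInvertible N ∧ Nonempty ((Scheme.Modules.pullback i).obj N ≅ L) := by
  classical
  have : NoetherianSpace X₀ := i.isClosedEmbedding.isInducing.noetherianSpace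
  have hinj : Function.Injective i := i.isClosedEmbedding.injective
  obtain ⟨V₁, -, hG, e₁', he₁'⟩ := exists_open_gen_genericPoints (𝟙 X₀) ⊤ dense_univ L hL
  have hid : V₁ ≤ (𝟙 X₀) ⁻¹ᵁ V₁ := fun x hx => hx
  let e₁ : Γ(L, V₁) := rs L hid e₁'
  have he₁ : IsGen L V₁ e₁ := he₁'.mono hid
  have hTfin : ((V₁ : Set X₀)ᶜ).Finite := by
    have := Groth.Agent.Lib.DimOneTop42.finite_of_disjoint_genericPoints hdim ((V₁ : Set X₀)ᶜ) Set.univ
      V₁.2.isClosed_compl isOpen_univ (fun y hy hyG => hy.1 (hG hyG))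
    rwa [Set.inter_univ] at this
  have hTcl : ∀ t : X₀, t ∉ V₁ → IsClosed ({t} : Set X₀) := fun t ht =>
    Groth.Agent.Lib.DimOneTop42.isClosed_singleton_of_notMem_genericPoints hdim t (fun h => ht (hG h))
  have hOcl : ∀ t : X₀, IsClosed (((V₁ : Set X₀)ᶜ) \ {t}) := by
    intro t
    have h1 : (((V₁ : Set X₀)ᶜ) \ {t}).Finite := hTfin.subset Set.sdiff_subset
    have h2 : ((V₁ : Set X₀)ᶜ) \ {t} = ⋃ y ∈ ((V₁ : Set X₀)ᶜ) \ {t}, {y} :=
      (Set.biUnion_of_singleton _).symm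
    rw [h2]
    exact h1.isClosed_biUnion fun y hy => hTcl y hy.1
  let T : Type u := ↥((V₁ : Set X₀)ᶜ)
  have : Finite T := hTfin.to_subtype
  let O : T → X.Opens := fun t =>
    ⟨(i '' (((V₁ : Set X₀)ᶜ) \ {t.1}))ᶜ, (i.isClosedEmbedding.isClosedMap _ (hOcl t.1)).isOpen_compl⟩
  have htO : ∀ t : T, i t.1 ∈ O t := by
    rintro t ⟨z, hz, hzt⟩
    exact hz.2 (hinj hzt)
  have hO : ∀ (t : T) (z : X₀), i z ∈ O t → z ∉ V₁ → z = t.1 := by
    intro t z hz hzV
    by_contra hne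
    exact hz ⟨z, ⟨hzV, hne⟩, rfl⟩
  choose W₁ G htW₁ hGW hGV hzt e he b binv hb' hbe using fun t : T =>
    exists_local_lift i hdim L hL V₁ hG e₁ he₁ t.1 (O t) (htO t) t.2 (hO t)
  have hxcl : ∀ t : T, IsClosed ({i t.1} : Set X) := by
    intro t
    have := i.isClosedEmbedding.isClosedMap _ (hTcl t.1 t.2)
    rwa [Set.image_singleton] at this
  obtain ⟨K, hKcl, hxK, hdisj, hKO'⟩ := hP T (fun t => i t.1)
    (fun t r h => Subtype.ext (hinj h))
    (fun t => (G t : Set X)ᶜ) (fun t => (W₁ t : Set X)) (fun t => (G t).2.isClosed_compl) (fun t => (W₁ t).2)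
    (fun t h => t.2 (hGV t h)) htW₁ (fun t => ⟨t.1, rfl⟩) hxcl (by
      rintro t _ ⟨⟨hzG, hzW⟩, ⟨y, rfl⟩⟩
      exact congrArg i (hzt t y hzW hzG))
  choose O' hO' hKeq using hKO'
  have hUcl : IsClosed (⋃ t : T, K t) := isClosed_iUnion_of_finite hKcl
  let V' : X.Opens := ⟨(⋃ t : T, K t)ᶜ, hUcl.isOpen_compl⟩
  have hUcl' : ∀ t : T, IsClosed (⋃ r ∈ {r : T | r ≠ t}, K r) := fun t =>
    (Set.toFinite {r : T | r ≠ t}).isClosed_biUnion fun r _ => hKcl r
  let W₃ : T → X.Opens := fun t =>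
    (W₁ t ⊓ (G t ⊔ ⟨O' t, hO' t⟩)) ⊓ ⟨(⋃ r ∈ {r : T | r ≠ t}, K r)ᶜ, (hUcl' t).isOpen_compl⟩
  have hW₃W₁ : ∀ t, W₃ t ≤ W₁ t := fun t => inf_le_left.trans inf_le_left
  have hmemV' : ∀ z : X, z ∈ V' ↔ ∀ t : T, z ∉ K t := by
    intro z
    change z ∉ (⋃ t : T, K t) ↔ _
    rw [Set.mem_iUnion, not_exists]
  have hnotK : ∀ (t r : T) (z : X), z ∈ W₃ t → r ≠ t → z ∉ K r := by
    intro t r z hz hrt hzr
    exact hz.2 (Set.mem_biUnion (show r ∈ {r : T | r ≠ t} from hrt) hzr)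
  have hW₃K : ∀ (t : T) (z : X), z ∈ W₃ t → z ∉ G t → z ∈ K t := by
    intro t z hz hzG
    rw [← hKeq t]
    rcases hz.1.2 with h | h
    · exact absurd h hzG
    · exact ⟨⟨hzG, hz.1.1⟩, h⟩
  have hV'G : ∀ t : T, V' ⊓ W₃ t ≤ G t := by
    intro t z hz
    by_contra hzG
    exact (hmemV' z).mp hz.1 t (hW₃K t z hz.2 hzG)
  have hKW₃ : ∀ (t : T) (z : X), z ∈ K t → z ∈ W₃ t := by
    intro t z hz
    have hz' := hz
    rw [← hKeq t] at hz'
    refine ⟨⟨hz'.1.2, Or.inr hz'.2⟩, ?_⟩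
    intro hcon
    obtain ⟨r, hr, hzr⟩ := Set.mem_iUnion₂.mp hcon
    exact hdisj t r (Ne.symm hr) z hz hzr
  have hV'V₁ : i ⁻¹ᵁ V' ≤ V₁ := by
    intro z hz
    by_contra hzV
    exact (hmemV' (i z)).mp hz ⟨z, hzV⟩ (hxK ⟨z, hzV⟩)
  let W' : Option T → X.Opens := fun j => match j with
    | none => V'
    | some t => W₃ t
  let e' : ∀ j, Γ(L, i ⁻¹ᵁ W' j) := fun j => match j with
    | none => rs L hV'V₁ e₁
    | some t => rs L (i.preimage_mono (hW₃W₁ t)) (e t)
  let b' : ∀ j, Γ(X, V' ⊓ W' j) := fun j => match j with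
    | none => 1
    | some t => rf (hV'G t) (b t)
  let binv' : ∀ j, Γ(X, V' ⊓ W' j) := fun j => match j with
    | none => 1
    | some t => rf (hV'G t) (binv t)
  refine exists_descent_of_star i V' W' ?_ L e' ?_ (rs L hV'V₁ e₁) b' binv' ?_ ?_ ?_
  · intro j k hjk
    match j, k with
    | none, none => exact absurd rfl hjk
    | none, some t => exact inf_le_left
    | some t, none => exact inf_le_right
    | some t, some s =>
      intro z hz
      rw [hmemV']
      intro r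
      by_cases hrt : r = t
      · subst hrt
        exact hnotK s r z hz.2 (fun h => hjk (congrArg some h))
      · exact hnotK t r z hz.1 hrt
  · intro j
    match j with
    | none => exact he₁.mono hV'V₁
    | some t => exact (he t).mono (i.preimage_mono (hW₃W₁ t))
  · intro j
    match j with
    | none => exact mul_one 1
    | some t =>
      change rf (hV'G t) (b t) * rf (hV'G t) (binv t) = 1
      rw [← rf_mul, hb' t, rf_one]
  · intro j
    match j with
    | none =>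
      change rs L _ (rs L hV'V₁ e₁) = i.app (V' ⊓ V') 1 • rs L _ (rs L hV'V₁ e₁)
      rw [map_one, one_smul]
    | some t =>
      change rs L _ (rs L (i.preimage_mono (hW₃W₁ t)) (e t)) =
        i.app (V' ⊓ W₃ t) (rf (hV'G t) (b t)) • rs L _ (rs L hV'V₁ e₁)
      have h4 := congrArg (rs L (i.preimage_mono (hV'G t))) (hbe t)
      rw [rs_smul, rs_rs, rs_rs] at h4
      rw [rs_rs, rs_rs, h4, app_rf]
  · rw [eq_top_iff]
    intro z _
    by_cases hz : z ∈ V'
    · exact Opens.mem_iSup.mpr ⟨none, hz⟩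
    · rw [hmemV', not_forall] at hz
      obtain ⟨t, ht⟩ := hz
      rw [not_not] at ht
      exact Opens.mem_iSup.mpr ⟨some t, hKW₃ t z ht⟩

/-- **Invertible modules extend from a closed subscheme `X₀` of dimension `≤ 1` under hypothesis (2°).** -/
theorem exists_descent_loc_closed (i : X₀ ⟶ X) [IsClosedImmersion i] [NoetherianSpace X]
    (hdim : topologicalKrullDim X₀ ≤ 1)
    (h2 : ∀ Y : Set X, IsLocallyClosed Y → DiscreteTopology ↥(Y ∩ Set.range i.base) →
      ∃ Y' : Set X, Y' ⊆ Y ∧ IsClosed Y' ∧ (∃ O : Set X, IsOpen O ∧ Y' = Y ∩ O) ∧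
        Y ∩ Set.range i.base ⊆ Y')
    (L : X₀.Modules) (hL : PicF.IsInvertible L) :
    ∃ N : X.Modules, PicF.IsInvertible N ∧ Nonempty ((Scheme.Modules.pullback i).obj N ≅ L) := by
  refine exists_descent_of_pieces i hdim ?_ L hL
  intro ι _ x hx C O hC hO hxC hxO hxS _ hCOS
  exact Groth.Agent.Lib.LocClosedTop42.exists_closed_pieces (Set.range i.base) h2 x hx C O hC hO hxC hxO hxS hCOS

end Groth.Agent.Lib.LocClosedPic42
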