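import Groth.Agent.Lib.H29LocCohAnn
import Mathlib.RingTheory.Spectrum.Prime.FreeLocus

/-!
# Annihilators of local cohomology of modules locally free away from `V(I)` (helper53)

* `smul_H_free`: an element killing `H^i_I(R)` kills `H^i_I(R^ι)`;
* `smul_H_eq_zero_of_approx'`: variant of helper29's approximation lemma with an annihilator;
* `exists_pow_annihilates`: Stacks-type lemma (S1743).
-/

set_option maxHeartbeats 400000
universe u
open CategoryTheory CategoryTheory.Limits Opposite

namespace Groth.Agent.Lib.LocCohAnnLF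
open Groth.Agent.Lib.LocCohConcrete Groth.Agent.Lib.LocCohLES Groth.Agent.Lib.LocCohTorsion
open Groth.Agent.Lib.LocCohCdRing Groth.Agent.Lib.H29LocCohAnn

variable {R : Type u} [CommRing R] (I : Ideal R)

theorem smul_H_free (ι : Type u) [Fintype ι] (i : ℕ) (a : R)
    (h : ∀ z : LocCoh.H I i R, a • z = 0) (y : LocCoh.H I i (ι →₀ R)) : a • y = 0 := by
  classical
  let e : (ι →₀ R) →ₗ[R] (ι →₀ R) := ∑ k ∈ Finset.univ, Finsupp.lsingle k ∘ₗ Finsupp.lapply k
  have he : e = LinearMap.id := by
    refine LinearMap.ext fun m => ?_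
    simp only [e, LinearMap.sum_apply, LinearMap.comp_apply, Finsupp.lapply_apply,
      Finsupp.lsingle_apply, LinearMap.id_apply]
    exact Finsupp.univ_sum_single m
  have hy : y = Hmap I e i y := by rw [he, Hmap_id]
  rw [hy, Hmap_sum, Finset.smul_sum]
  apply Finset.sum_eq_zero
  intro k _
  rw [Hmap_comp, ← map_smul, h, map_zero]

section approx
variable (b : Ideal R) {F M : Type u} [AddCommGroup F] [Module R F] [AddCommGroup M] [Module R M]

/-- if `φ : F → M` has kernel killed by `sK` and cokernel killed by `sC`, and `a` kills `H^i_b(F)`,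
then `a * (sK * sC)` kills `H^i_b(M)`. -/
theorem smul_H_eq_zero_of_approx' (i : ℕ) (φ : F →ₗ[R] M) (a : R)
    (hF : ∀ z : LocCoh.H b i F, a • z = 0)
    (sK sC : R) (hK : ∀ k ∈ LinearMap.ker φ, sK • k = 0)
    (hC : ∀ m : M, sC • m ∈ LinearMap.range φ) (x : LocCoh.H b i M) :
    (a * (sK * sC)) • x = 0 := by
  let N := LinearMap.range φ
  let f₁ : LinearMap.ker φ →ₗ[R] F := (LinearMap.ker φ).subtype
  let g₁ : F →ₗ[R] N := φ.rangeRestrict
  have hf₁ : Function.Injective f₁ := Submodule.injective_subtype _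
  have hg₁ : Function.Surjective g₁ := LinearMap.surjective_rangeRestrict φ
  have hfg₁ : Function.Exact f₁ g₁ := by
    intro y
    constructor
    · intro hy
      exact ⟨⟨y, by
        rw [LinearMap.mem_ker]
        exact congrArg Subtype.val hy⟩, rfl⟩
    · rintro ⟨k, rfl⟩
      apply Subtype.ext
      exact LinearMap.mem_ker.mp k.2
  let f₂ : N →ₗ[R] M := N.subtype
  let g₂ : M →ₗ[R] M ⧸ N := N.mkQ
  have hf₂ : Function.Injective f₂ := Submodule.injective_subtype _
  have hg₂ : Function.Surjective g₂ := Submodule.mkQ_surjective _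
  have hfg₂ : Function.Exact f₂ g₂ := LinearMap.exact_subtype_mkQ N
  have h2 : Hmap b g₂ i (sC • x) = 0 := by
    rw [map_smul]
    apply smul_eq_zero_of_forall_smul_eq_zero b sC
    intro q
    obtain ⟨m, rfl⟩ := hg₂ q
    rw [← map_smul]
    exact (Submodule.Quotient.mk_eq_zero N).mpr (hC m)
  obtain ⟨y, hy⟩ := (exact₂ b f₂ g₂ hfg₂ hf₂ hg₂ i (sC • x)).1 h2
  have h1 : a • sK • y = 0 := by
    have hδ : Hδ b f₁ g₁ hf₁ hfg₁ hg₁ i (sK • y) = 0 := by
      rw [map_smul]
      apply smul_eq_zero_of_forall_smul_eq_zero b sK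
      intro k
      apply Subtype.ext
      exact hK k.1 k.2
    obtain ⟨z, hz⟩ := (exact₃ b f₁ g₁ hf₁ hfg₁ hg₁ i (sK • y)).1 hδ
    rw [← hz, ← map_smul, hF z, map_zero]
  rw [mul_smul, mul_smul, ← hy, ← map_smul, ← map_smul, h1, map_zero]

end approx

/-- Let `J ⊆ I`; if `J^n` kills `H^i_I(R)` and `M` is finite, projective on `D(f)` for `f ∈ I`, then
some power of `J` kills `H^i_I(M)`. -/
theorem exists_pow_annihilates [IsNoetherianRing R] (J : Ideal R) (hJI : J ≤ I) (i n : ℕ)
    (hA : ∀ a ∈ J ^ n, ∀ x : LocCoh.H I i R, a • x = 0)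
    (M : Type u) [AddCommGroup M] [Module R M] [Module.Finite R M]
    (hM : ∀ f ∈ I, Module.Projective (Localization.Away f)
      (LocalizedModule (Submonoid.powers f) M)) :
    ∃ m : ℕ, ∀ a ∈ J ^ m, ∀ x : LocCoh.H I i M, a • x = 0 := by
  have hfp : Module.FinitePresentation R M := Module.finitePresentation_of_finite R M
  have key : J ≤ (Module.annihilator R (LocCoh.H I i M)).radical := by
    rw [Ideal.radical_eq_sInf]
    refine le_sInf ?_
    rintro p ⟨hap, hp⟩
    by_contra hJp
    obtain ⟨x, hxJ, hxp⟩ := SetLike.not_le_iff_exists.1 hJp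
    have hsub : (PrimeSpectrum.basicOpen x : Set (PrimeSpectrum R)) ⊆ Module.freeLocus R M :=
      Module.basicOpen_subset_freeLocus_iff.mpr (hM x (hJI hxJ))
    have hfree : Module.Free (Localization.AtPrime p) (LocalizedModule p.primeCompl M) :=
      Module.mem_freeLocus.1 (hsub (show (⟨p, hp⟩ : PrimeSpectrum R) ∈
        (PrimeSpectrum.basicOpen x : Set (PrimeSpectrum R)) from hxp))
    obtain ⟨ι, _, φ, sK, sC, hsK, hsC, hK, hC⟩ := exists_free_approx M p
    have hann : x ^ n * (sK * sC) ∈ Module.annihilator R (LocCoh.H I i M) := by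
      rw [Module.mem_annihilator]
      intro y
      exact smul_H_eq_zero_of_approx' I i φ (x ^ n)
        (fun z => smul_H_free I ι i (x ^ n) (hA _ (Ideal.pow_mem_pow hxJ n)) z) sK sC hK hC y
    rcases hp.mem_or_mem (hap hann) with h | h
    · exact hxp (hp.mem_of_pow_mem n h)
    · rcases hp.mem_or_mem h with h | h
      · exact hsK h
      · exact hsC h
  obtain ⟨m, hm⟩ := Ideal.exists_pow_le_of_le_radical_of_fg key (IsNoetherian.noetherian J)
  exact ⟨m, fun a ha x => Module.mem_annihilator.1 (hm ha) x⟩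

end Groth.Agent.Lib.LocCohAnnLF
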