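import Groth.Agent.Lib.LocCohExtTransform
import Groth.Agent.Lib.LocCohLES

/-!
# Splitting of `I^c → A^r → I` when `H^2_I` vanishes (helper53)
-/

set_option maxHeartbeats 400000
universe u
open CategoryTheory CategoryTheory.Limits Opposite

namespace Groth.Agent.Lib.LocCohCdOne
open Groth.Agent.Lib.ExtBridge Groth.Agent.Lib.LocCohConcrete Groth.Agent.Lib.LocCohH1
open Groth.Agent.Lib.LocCohExtTransform Groth.Agent.Lib.LocCohLES
open Abelian

variable {A : Type u} [CommRing A] {r : ℕ} (f : Fin r → A)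

/-- `A^r → I^1`, `e ↦ Σ e_j f_j`. -/
noncomputable def π : (Fin r → A) →ₗ[A] ↥((Ideal.span (Set.range f)) ^ 1) :=
  (Fintype.linearCombination A f).codRestrict _ (by
    intro e
    rw [pow_one]
    change _ ∈ Submodule.span A (Set.range f)
    rw [← Fintype.range_linearCombination]
    exact ⟨e, rfl⟩)

theorem π_apply (e : Fin r → A) : (π f e : A) = ∑ j, e j * f j := by
  simp [π, Fintype.linearCombination_apply]

theorem π_surjective : Function.Surjective (π f) := by
  rintro ⟨y, hy⟩
  have hy' : y ∈ LinearMap.range (Fintype.linearCombination A f) := by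
    rw [Fintype.range_linearCombination]
    rw [pow_one] at hy
    exact hy
  obtain ⟨e, he⟩ := hy'
  exact ⟨e, Subtype.ext he⟩

theorem exists_splitting
    (h : ∀ (M : Type u) [AddCommGroup M] [Module A M],
      Subsingleton (LocCoh.H (Ideal.span (Set.range f)) 2 M)) :
    ∃ (c : ℕ) (φ : Fin r → (↥(Ideal.span (Set.range f) ^ (c + 1)) →ₗ[A] A)),
      ∀ x : ↥(Ideal.span (Set.range f) ^ (c + 1)), (x : A) = ∑ j, f j * φ j x := by
  set I := Ideal.span (Set.range f) with hI
  let K := LinearMap.ker (π f)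
  have hf : Function.Injective K.subtype := Submodule.injective_subtype _
  have hfg : Function.Exact K.subtype (π f) := LinearMap.exact_subtype_ker_map (π f)
  have hg := π_surjective f
  have hS := ses_shortExact K.subtype (π f) hf hfg hg
  let ξ : Ext.{u} (P I 1) (ModuleCat.of A K) 1 := hS.extClass
  have h2 : HιE I K 2 1 (conn I 1 (ModuleCat.of A K) 1 ξ) = 0 := by
    have := h K
    exact Subsingleton.elim _ _
  rw [HιE_eq_zero_iff] at h2
  obtain ⟨k, hk, h3⟩ := h2
  rw [← conn_naturality_left] at h3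
  have h4 : (Ext.mk₀ (incl I hk)).comp ξ (zero_add 1) = 0 := by
    apply (conn_bijective I k (ModuleCat.of A K) 1 le_rfl).1
    rw [h3, map_zero]
  obtain ⟨x₂, hx₂⟩ := Ext.covariant_sequence_exact₃ (P I k) hS (Ext.mk₀ (incl I hk)) (zero_add 1) h4
  obtain ⟨ψ, rfl⟩ := (Ext.mk₀_bijective _ _).2 x₂
  rw [Ext.mk₀_comp_mk₀] at hx₂
  have h5 := (Ext.mk₀_bijective _ _).1 hx₂
  obtain ⟨c, rfl⟩ := Nat.exists_eq_succ_of_ne_zero (Nat.one_le_iff_ne_zero.1 hk)
  refine ⟨c, fun j => LinearMap.proj j ∘ₗ ψ.hom, fun x => ?_⟩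
  have h6 := LinearMap.congr_fun (congrArg ModuleCat.Hom.hom h5) x
  have h7 : (π f (ψ.hom x) : A) = (x : A) := by
    have := congrArg Subtype.val h6
    exact this
  rw [π_apply] at h7
  rw [← h7]
  apply Finset.sum_congr rfl
  intro j _
  rw [mul_comm]
  rfl

end Groth.Agent.Lib.LocCohCdOne
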