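import Groth.Agent.Lib.LocCohCdGen

/-!
# `cd(I + J) ≤ cd(I) + cd(J)` (helper53)

Low-tech version of the Grothendieck spectral sequence `H^p_I(H^q_J(M)) ⇒ H^{p+q}_{I+J}(M)`:

* `tmap J f`: restriction of a linear map to `J`-power torsion submodules, with (left) exactness and
  surjectivity when `H^1_J` of the kernel vanishes;
* `subsingleton_H_sup_of_acyclic`: if `M` is `Γ_J`-acyclic and `H^n_I(Γ_J M) = 0` then
  `H^n_{I+J}(M) = 0` (`n ≥ 1`);
* `cdLE_sup`: `CdLE R I a → CdLE R J b → CdLE R (I ⊔ J) (a + b)`.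
-/

set_option maxHeartbeats 400000
universe u
open CategoryTheory CategoryTheory.Limits

namespace Groth.Agent.Lib.LocCohCdSup
open Groth.Agent.Lib.LocCohConcrete Groth.Agent.Lib.LocCohLES
open Groth.Agent.Lib.LocCohH0 Groth.Agent.Lib.LocCohTorsion Groth.Agent.Lib.H29TorsionInj

variable {R : Type u} [CommRing R]

section tmap
variable (J : Ideal R) {M₁ M₂ M₃ : Type u} [AddCommGroup M₁] [Module R M₁] [AddCommGroup M₂]
  [Module R M₂] [AddCommGroup M₃] [Module R M₃]

/-- restriction of a linear map to the `J`-power torsion submodules. -/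
def tmap (f : M₁ →ₗ[R] M₂) : DRing.torsionSub J M₁ →ₗ[R] DRing.torsionSub J M₂ :=
  f.restrict fun _ hm => DRing.map_mem_torsionSub J f hm

@[simp] theorem tmap_coe (f : M₁ →ₗ[R] M₂) (x : DRing.torsionSub J M₁) :
    (tmap J f x : M₂) = f x := rfl

theorem tmap_injective (f : M₁ →ₗ[R] M₂) (hf : Function.Injective f) :
    Function.Injective (tmap J f) := by
  intro x y h
  apply Subtype.ext
  apply hf
  exact congrArg Subtype.val h

theorem tmap_exact (f : M₁ →ₗ[R] M₂) (g : M₂ →ₗ[R] M₃) (hf : Function.Injective f)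
    (hfg : Function.Exact f g) : Function.Exact (tmap J f) (tmap J g) := by
  intro y
  constructor
  · intro hy
    have hy' : g (y : M₂) = 0 := congrArg Subtype.val hy
    obtain ⟨x, hx⟩ := (hfg _).1 hy'
    have hxt : x ∈ DRing.torsionSub J M₁ := by
      obtain ⟨n, hn⟩ := y.2
      refine ⟨n, fun a ha => ?_⟩
      apply hf
      rw [map_smul, hx, hn a ha, map_zero]
    exact ⟨⟨x, hxt⟩, Subtype.ext hx⟩
  · rintro ⟨x, rfl⟩
    apply Subtype.ext
    exact hfg.apply_apply_eq_zero _

theorem tmap_surjective (f : M₁ →ₗ[R] M₂) (g : M₂ →ₗ[R] M₃) (hf : Function.Injective f)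
    (hfg : Function.Exact f g) (hg : Function.Surjective g)
    (h1 : Subsingleton (LocCoh.H J 1 M₁)) : Function.Surjective (tmap J g) := by
  intro z
  obtain ⟨w, hw⟩ := toGamma_surjective J M₃ z
  obtain ⟨v, hv⟩ := (exact₃ J f g hf hfg hg 0 w).1 (Subsingleton.elim _ _)
  refine ⟨toGamma J M₂ v, ?_⟩
  apply Subtype.ext
  rw [tmap_coe, ← toGamma_Hmap, hv, hw]

end tmap

section mem
variable (I J : Ideal R) {X : Type u} [AddCommGroup X] [Module R X]

theorem mem_torsionSub_sup_iff (x : X) :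
    x ∈ DRing.torsionSub (I ⊔ J) X ↔ x ∈ DRing.torsionSub I X ∧ x ∈ DRing.torsionSub J X := by
  constructor
  · rintro ⟨n, hn⟩
    exact ⟨⟨n, fun b hb => hn b (Ideal.pow_right_mono le_sup_left n hb)⟩,
      ⟨n, fun b hb => hn b (Ideal.pow_right_mono le_sup_right n hb)⟩⟩
  · rintro ⟨⟨n, hn⟩, ⟨k, hk⟩⟩
    refine ⟨n + k, fun b hb => ?_⟩
    have hb' := Ideal.sup_pow_add_le_pow_sup_pow (I := I) (J := J) hb
    obtain ⟨b₁, hb₁, b₂, hb₂, rfl⟩ := Submodule.mem_sup.1 hb'
    rw [add_smul, hn b₁ hb₁, hk b₂ hb₂, add_zero]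

theorem mem_torsionSub_torsionSub_iff (x : DRing.torsionSub J X) :
    x ∈ DRing.torsionSub I (DRing.torsionSub J X) ↔ (x : X) ∈ DRing.torsionSub I X := by
  constructor
  · rintro ⟨n, hn⟩
    exact ⟨n, fun a ha => congrArg Subtype.val (hn a ha)⟩
  · rintro ⟨n, hn⟩
    exact ⟨n, fun a ha => Subtype.ext (hn a ha)⟩

end mem

variable [IsNoetherianRing R] (I J : Ideal R)

omit [IsNoetherianRing R] in
/-- base case: `M` with `H^1_J(M) = 0` and `H^1_I(Γ_J M) = 0` has `H^1_{I+J}(M) = 0`. -/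
theorem subsingleton_H_sup_one (M : Type u) [AddCommGroup M] [Module R M]
    (hJ : Subsingleton (LocCoh.H J 1 M))
    (h : Subsingleton (LocCoh.H I 1 (DRing.torsionSub J M))) :
    Subsingleton (LocCoh.H (I ⊔ J) 1 M) := by
  obtain ⟨E, _, _, f, hf, hE⟩ := Groth.Agent.S0299.exists_injective_embedding R M
  let g := (LinearMap.range f).mkQ
  have hg : Function.Surjective g := Submodule.mkQ_surjective _
  have hfg : Function.Exact f g := LinearMap.exact_map_mkQ_range f
  have hE1 : Subsingleton (LocCoh.H (I ⊔ J) 1 E) :=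
    subsingleton_H_of_injective _ E hE 1 one_pos
  refine subsingleton_of_forall_eq 0 fun y => ?_
  obtain ⟨z, rfl⟩ := (exact₁ (I ⊔ J) f g hf hfg hg 0 y).1 (Subsingleton.elim _ _)
  -- the element of `Γ_{I+J}(E/M)`
  have hz := (mem_torsionSub_sup_iff I J _).1 (toGamma (I ⊔ J) _ z).2
  have hzI : (⟨_, hz.2⟩ : DRing.torsionSub J (E ⧸ LinearMap.range f)) ∈
      DRing.torsionSub I (DRing.torsionSub J (E ⧸ LinearMap.range f)) :=
    (mem_torsionSub_torsionSub_iff I J _).2 hz.1
  obtain ⟨w', hw'⟩ := toGamma_surjective I (DRing.torsionSub J (E ⧸ LinearMap.range f)) ⟨_, hzI⟩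
  obtain ⟨v', hv'⟩ := (exact₃ I (tmap J f) (tmap J g) (tmap_injective J f hf)
    (tmap_exact J f g hf hfg) (tmap_surjective J f g hf hfg hg hJ) 0 w').1 (Subsingleton.elim _ _)
  -- the element of `Γ_I(Γ_J E)` viewed in `Γ_{I+J}(E)`
  have he : (((toGamma I (DRing.torsionSub J E) v' : DRing.torsionSub I (DRing.torsionSub J E)) :
      DRing.torsionSub J E) : E) ∈ DRing.torsionSub (I ⊔ J) E :=
    (mem_torsionSub_sup_iff I J _).2
      ⟨(mem_torsionSub_torsionSub_iff I J _).1 (toGamma I (DRing.torsionSub J E) v').2,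
        ((toGamma I (DRing.torsionSub J E) v' : DRing.torsionSub I (DRing.torsionSub J E)) :
          DRing.torsionSub J E).2⟩
  obtain ⟨v, hv⟩ := toGamma_surjective (I ⊔ J) E ⟨_, he⟩
  have key : Hmap (I ⊔ J) g 0 v = z := by
    apply toGamma_injective (I ⊔ J) (E ⧸ LinearMap.range f)
    apply Subtype.ext
    rw [toGamma_Hmap, hv]
    have h1 := toGamma_Hmap I (tmap J g) v'
    rw [hv', hw'] at h1
    exact (congrArg Subtype.val h1).symm
  rw [← key]
  exact (exact₃ (I ⊔ J) f g hf hfg hg 0 _).2 ⟨v, rfl⟩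

/-- `M` is `Γ_J`-acyclic. -/
def Acyclic (M : Type u) [AddCommGroup M] [Module R M] : Prop :=
  ∀ q : ℕ, 0 < q → Subsingleton (LocCoh.H J q M)

/-- if `M` is `Γ_J`-acyclic and `H^n_I(Γ_J M) = 0` then `H^n_{I+J}(M) = 0` (`n ≥ 1`). -/
theorem subsingleton_H_sup_of_acyclic : ∀ (n : ℕ), 1 ≤ n → ∀ (M : Type u) [AddCommGroup M]
    [Module R M], Acyclic J M → Subsingleton (LocCoh.H I n (DRing.torsionSub J M)) →
    Subsingleton (LocCoh.H (I ⊔ J) n M) := by
  intro n hn
  induction n, hn using Nat.le_induction with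
  | base => exact fun M _ _ hM h => subsingleton_H_sup_one I J M (hM 1 one_pos) h
  | succ n hn ih =>
    intro M _ _ hM h
    obtain ⟨E, _, _, f, hf, hE⟩ := Groth.Agent.S0299.exists_injective_embedding R M
    let g := (LinearMap.range f).mkQ
    have hg : Function.Surjective g := Submodule.mkQ_surjective _
    have hfg : Function.Exact f g := LinearMap.exact_map_mkQ_range f
    -- `E/M` is acyclic
    have hM' : Acyclic J (E ⧸ LinearMap.range f) := by
      intro q hq
      have h1 : Subsingleton (LocCoh.H J q E) := subsingleton_H_of_injective _ E hE q hq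
      have h2 : Subsingleton (LocCoh.H J (q + 1) E) :=
        subsingleton_H_of_injective _ E hE (q + 1) (Nat.succ_pos q)
      have hb := Hδ_bijective_of_subsingleton_middle J f g hf hfg hg q
      have := hM (q + 1) (Nat.succ_pos q)
      exact hb.injective.subsingleton
    -- `H^n_I(Γ_J(E/M)) ≅ H^{n+1}_I(Γ_J M)`
    have hΓE : Module.Injective R (DRing.torsionSub J E) := injective_torsionSub J E hE
    have h1 : Subsingleton (LocCoh.H I n (DRing.torsionSub J E)) :=
      subsingleton_H_of_injective _ _ hΓE n (lt_of_lt_of_le one_pos hn)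
    have h2 : Subsingleton (LocCoh.H I (n + 1) (DRing.torsionSub J E)) :=
      subsingleton_H_of_injective _ _ hΓE (n + 1) (Nat.succ_pos n)
    have hb := Hδ_bijective_of_subsingleton_middle I (tmap J f) (tmap J g) (tmap_injective J f hf)
      (tmap_exact J f g hf hfg) (tmap_surjective J f g hf hfg hg (hM 1 one_pos)) n
    have h3 : Subsingleton (LocCoh.H I n (DRing.torsionSub J (E ⧸ LinearMap.range f))) :=
      hb.injective.subsingleton
    have h4 : Subsingleton (LocCoh.H (I ⊔ J) n (E ⧸ LinearMap.range f)) := ih _ hM' h3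
    have h5 : Subsingleton (LocCoh.H (I ⊔ J) (n + 1) E) :=
      subsingleton_H_of_injective _ E hE (n + 1) (Nat.succ_pos n)
    refine subsingleton_of_forall_eq 0 fun y => ?_
    obtain ⟨z, rfl⟩ := (exact₁ (I ⊔ J) f g hf hfg hg n y).1 (Subsingleton.elim _ _)
    rw [Subsingleton.elim z 0, map_zero]

/-- main induction: if `H^q_J(M) = 0` for `q > b` and `cd(I) ≤ a` then `H^n_{I+J}(M) = 0` for
`n > a + b`. -/
theorem subsingleton_H_sup_of_vanishing (a : ℕ) (hI : LocCoh.CdLE R I a) : ∀ (b : ℕ) (M : Type u)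
    [AddCommGroup M] [Module R M], (∀ q : ℕ, b < q → Subsingleton (LocCoh.H J q M)) →
    ∀ n : ℕ, a + b < n → Subsingleton (LocCoh.H (I ⊔ J) n M) := by
  intro b
  induction b with
  | zero =>
    intro M _ _ hM n hn
    exact subsingleton_H_sup_of_acyclic I J n (by omega) M hM (hI _ n (by omega))
  | succ b ih =>
    intro M _ _ hM n hn
    obtain ⟨E, _, _, f, hf, hE⟩ := Groth.Agent.S0299.exists_injective_embedding R M
    let g := (LinearMap.range f).mkQ
    have hg : Function.Surjective g := Submodule.mkQ_surjective _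
    have hfg : Function.Exact f g := LinearMap.exact_map_mkQ_range f
    have hM' : ∀ q : ℕ, b < q → Subsingleton (LocCoh.H J q (E ⧸ LinearMap.range f)) := by
      intro q hq
      have h1 : Subsingleton (LocCoh.H J q E) :=
        subsingleton_H_of_injective _ E hE q (by omega)
      have h2 : Subsingleton (LocCoh.H J (q + 1) E) :=
        subsingleton_H_of_injective _ E hE (q + 1) (Nat.succ_pos q)
      have hb := Hδ_bijective_of_subsingleton_middle J f g hf hfg hg q
      have := hM (q + 1) (by omega)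
      exact hb.injective.subsingleton
    obtain ⟨k, rfl⟩ : ∃ k, n = k + 1 := ⟨n - 1, by omega⟩
    have h4 : Subsingleton (LocCoh.H (I ⊔ J) k (E ⧸ LinearMap.range f)) :=
      ih _ hM' k (by omega)
    have h5 : Subsingleton (LocCoh.H (I ⊔ J) (k + 1) E) :=
      subsingleton_H_of_injective _ E hE (k + 1) (Nat.succ_pos k)
    refine subsingleton_of_forall_eq 0 fun y => ?_
    obtain ⟨z, rfl⟩ := (exact₁ (I ⊔ J) f g hf hfg hg k y).1 (Subsingleton.elim _ _)
    rw [Subsingleton.elim z 0, map_zero]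

/-- `cd(I + J) ≤ cd(I) + cd(J)`. -/
theorem cdLE_sup (a b : ℕ) (hI : LocCoh.CdLE R I a) (hJ : LocCoh.CdLE R J b) :
    LocCoh.CdLE R (I ⊔ J) (a + b) := fun M _ _ n hn =>
  subsingleton_H_sup_of_vanishing I J a hI b M (fun q hq => hJ M q hq) n hn

end Groth.Agent.Lib.LocCohCdSup
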