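import Groth.Agent.Lib.LocCohH0
import Groth.Agent.Lib.LocCohLinear
import Groth.Prelude.Def_DualLC

/-!
# The comparison map `H^i_{I'}(M) → H^i_I(M)` for `I ≤ I'` (helper53)

`cmp h i M : H^i_{I'}(M) →ₗ H^i_I(M)` is `Dual2.HmapOfLE h i` evaluated at `M`.
* `cmp_HιE`: on representatives it is precomposition with `R/I^n → R/I'^n`;
* `cmp_Hmap`: naturality; `cmp_Hδ`: compatibility with connecting maps;
* `toGamma_cmp`: in degree 0 it is the inclusion `Γ_{I'}(M) ⊆ Γ_I(M)`.
-/

set_option maxHeartbeats 400000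
universe u
open CategoryTheory CategoryTheory.Limits Opposite

namespace Groth.Agent.Lib.LocCohCompare
open Groth.Agent.Lib.ExtBridge Groth.Agent.Lib.LocCohConcrete Groth.Agent.Lib.LocCohLES
open Groth.Agent.Lib.LocCohH0
open Abelian

variable {R : Type u} [CommRing R] {I I' : Ideal R} (h : I ≤ I')

/-- `R/I^n → R/I'^n`. -/
def quot (n : ℕ) : Q I n ⟶ Q I' n :=
  ModuleCat.ofHom (Submodule.mapQ (I ^ n) (I' ^ n) LinearMap.id
    (by simpa using Ideal.pow_right_mono h n))

/-- the comparison map as a linear map. -/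
noncomputable abbrev cmp (i : ℕ) (M : Type u) [AddCommGroup M] [Module R M] :
    LocCoh.H I' i M →ₗ[R] LocCoh.H I i M :=
  ((Dual2.HmapOfLE h i).app (ModuleCat.of R M)).hom

theorem cmp_Hι (i : ℕ) (M : Type u) [AddCommGroup M] [Module R M] (n : ℕ)
    (x : ↑(((_root_.Ext R (ModuleCat.{u} R) i).obj (op (Q I' n))).obj (ModuleCat.of R M))) :
    cmp h i M (Hι I' M i n x) =
      Hι I M i n ((((_root_.Ext R (ModuleCat.{u} R) i).map (quot h n).op).app
        (ModuleCat.of R M)).hom x) := by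
  have h1 := ι_colimMap (Functor.whiskerRight (NatTrans.op (Dual2.quotMapOfLE h))
    (_root_.Ext R (ModuleCat.{u} R) i)) (op (op n))
  have h2 := congrArg (fun t => (t.app (ModuleCat.of R M)).hom x) h1
  exact h2

theorem cmp_HιE (i : ℕ) (M : Type u) [AddCommGroup M] [Module R M] (n : ℕ)
    (e : Ext.{u} (Q I' n) (ModuleCat.of R M) i) :
    cmp h i M (HιE I' M i n e) = HιE I M i n ((Ext.mk₀ (quot h n)).comp e (zero_add i)) := by
  obtain ⟨y, rfl⟩ := (bridge (Q I' n) (ModuleCat.of R M) i).surjective e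
  rw [← bridge_naturality_left]
  simp only [HιE, LinearMap.comp_apply, LinearEquiv.coe_coe, LinearEquiv.symm_apply_apply]
  exact cmp_Hι h i M n y

section
variable {M M' : Type u} [AddCommGroup M] [Module R M] [AddCommGroup M'] [Module R M']

theorem cmp_Hmap (φ : M →ₗ[R] M') (i : ℕ) (y : LocCoh.H I' i M) :
    cmp h i M' (Hmap I' φ i y) = Hmap I φ i (cmp h i M y) := by
  have := (Dual2.HmapOfLE h i).naturality (ModuleCat.ofHom φ)
  exact LinearMap.congr_fun (congrArg ModuleCat.Hom.hom this) y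

end

section
variable {M₁ M₂ M₃ : Type u} [AddCommGroup M₁] [Module R M₁] [AddCommGroup M₂] [Module R M₂]
  [AddCommGroup M₃] [Module R M₃] (f : M₁ →ₗ[R] M₂) (g : M₂ →ₗ[R] M₃)
  (hf : Function.Injective f) (hfg : Function.Exact f g) (hg : Function.Surjective g)

theorem cmp_Hδ (i : ℕ) (y : LocCoh.H I' i M₃) :
    cmp h (i + 1) M₁ (Hδ I' f g hf hfg hg i y) = Hδ I f g hf hfg hg i (cmp h i M₃ y) := by
  obtain ⟨n, e, rfl⟩ := exists_rep I' M₃ i y
  rw [Hδ_HιE, cmp_HιE, cmp_HιE, Hδ_HιE, Ext.comp_assoc _ _ _ (zero_add i) rfl (by omega)]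

end

theorem toGamma_cmp (M : Type u) [AddCommGroup M] [Module R M] (y : LocCoh.H I' 0 M) :
    (toGamma I M (cmp h 0 M y) : M) = (toGamma I' M y : M) := by
  obtain ⟨n, e, rfl⟩ := exists_rep I' M 0 y
  obtain ⟨φ, rfl⟩ := (Ext.mk₀_bijective _ _).2 e
  rw [cmp_HιE, Ext.mk₀_comp_mk₀, toGamma_HιE_mk₀, toGamma_HιE_mk₀]
  rfl

theorem cmp_zero_injective (M : Type u) [AddCommGroup M] [Module R M] :
    Function.Injective (cmp h 0 M) := by
  intro x y hxy
  apply toGamma_injective I' M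
  apply Subtype.ext
  rw [← toGamma_cmp h, ← toGamma_cmp h, hxy]

end Groth.Agent.Lib.LocCohCompare
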