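import Groth.Agent.Lib.LocCohFaltings
import Groth.Agent.Lib.LocCohAnnLF

/-!
# Finiteness of local cohomology of modules locally free away from `V(I)` (helper53)
-/

set_option maxHeartbeats 400000
universe u

namespace Groth.Agent.Lib.LocCohFaltings
open Groth.Agent.Lib.LocCohAnnLF

variable {R : Type u} [CommRing R] [IsNoetherianRing R] (I : Ideal R)

theorem finite_H_of_locally_free (n : ℕ)
    (hR : ∀ i : ℕ, i ≤ n → Module.Finite R (LocCoh.H I i R))
    (M : Type u) [AddCommGroup M] [Module R M] [Module.Finite R M]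
    (hM : ∀ f ∈ I, Module.Projective (Localization.Away f)
      (LocalizedModule (Submonoid.powers f) M)) (i : ℕ) (hi : i ≤ n) :
    Module.Finite R (LocCoh.H I i M) := by
  obtain ⟨k, -, hk⟩ := exists_pow_annihilates_of_finite_H I R n hR
  have h1 : ∀ i : ℕ, ∃ m : ℕ, i ≤ n → ∀ a ∈ I ^ m, ∀ x : LocCoh.H I i M, a • x = 0 := by
    intro i
    by_cases hi : i ≤ n
    · obtain ⟨m, hm⟩ := exists_pow_annihilates I I le_rfl i k (hk i hi) M hM
      exact ⟨m, fun _ => hm⟩
    · exact ⟨0, fun h' => absurd h' hi⟩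
  choose mf hmf using h1
  refine finite_H_of_pow_annihilates I n M ((Finset.range (n + 1)).sup mf)
    (fun j hj a ha x => hmf j hj a (Ideal.pow_le_pow_right ?_ ha) x) i hi
  exact Finset.le_sup (f := mf) (Finset.mem_range.2 (by omega))

end Groth.Agent.Lib.LocCohFaltings
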