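import Groth.Agent.Lib.LocCohTorsion
import Groth.Agent.Lib.IdealTransform2

/-!
# Injective modules and localization at an element (helper53)

For `E` injective over a Noetherian ring `R` and `b : R`:
* `exists_div`: for `x : E`, `n`, there are `e`, `k` with `b^(k+n) • e = b^k • x`;
* `mk_surjective`: `E → E_b` is surjective;
* `gamma_mk_surjective`: `Γ_a(E) → Γ_a(E_b)` is surjective;
* `subsingleton_H_localized`: `H^i_a(E_b) = 0` for `i ≥ 1`.
-/

set_option maxHeartbeats 400000
universe u
open CategoryTheory CategoryTheory.Limits Opposite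

namespace Groth.Agent.Lib.LocCohLocInj
open Groth.Agent.Lib.LocCohConcrete Groth.Agent.Lib.LocCohLES Groth.Agent.Lib.LocCohH0
open Groth.Agent.Lib.LocCohTorsion Groth.Agent.Lib.H29TorsionInj Groth.Agent.Lib.IdealTransform

variable {R : Type u} [CommRing R] [IsNoetherianRing R] (b : R)

/-- the annihilator of `b^k`, as an increasing chain of ideals. -/
def annPow : ℕ →o Ideal R where
  toFun k := LinearMap.ker (LinearMap.toSpanSingleton R R (b ^ k))
  monotone' := by
    intro k m hkm r hr
    rw [LinearMap.mem_ker, LinearMap.toSpanSingleton_apply, smul_eq_mul] at hr ⊢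
    obtain ⟨d, rfl⟩ := Nat.exists_eq_add_of_le hkm
    rw [pow_add, ← mul_assoc, hr, zero_mul]

omit [IsNoetherianRing R] in
theorem mem_annPow {k : ℕ} {r : R} : r ∈ annPow b k ↔ r * b ^ k = 0 := by
  change r ∈ LinearMap.ker (LinearMap.toSpanSingleton R R (b ^ k)) ↔ _
  rw [LinearMap.mem_ker, LinearMap.toSpanSingleton_apply, smul_eq_mul]

variable (E : Type u) [AddCommGroup E] [Module R E]

/-- division by `b^n` in an injective module, up to `b`-power torsion. -/
theorem exists_div (hE : Module.Injective R E) (x : E) (n : ℕ) :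
    ∃ (e : E) (k : ℕ), b ^ (k + n) • e = b ^ k • x := by
  obtain ⟨k, hk⟩ := monotone_stabilizes_iff_noetherian.mpr
    (inferInstance : IsNoetherian R R) (annPow b)
  let N := k + n
  -- the surjection `R → (b^N)`
  let π : R →ₗ[R] ↥(Ideal.span {b ^ N}) :=
    (LinearMap.toSpanSingleton R R (b ^ N)).codRestrict (Ideal.span {b ^ N}) (fun r => by
      rw [LinearMap.toSpanSingleton_apply, smul_eq_mul]
      exact Ideal.mul_mem_left _ _ (Ideal.subset_span rfl))
  have hπ : Function.Surjective π := by
    rintro ⟨z, hz⟩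
    obtain ⟨r, rfl⟩ := Ideal.mem_span_singleton'.1 hz
    exact ⟨r, Subtype.ext rfl⟩
  let g : R →ₗ[R] E := LinearMap.toSpanSingleton R E (b ^ k • x)
  have hle : LinearMap.ker π ≤ LinearMap.ker g := by
    intro r hr
    have h1 : r * b ^ N = 0 := by
      have := congrArg Subtype.val (LinearMap.mem_ker.1 hr)
      simpa [π] using this
    have h2 : r ∈ annPow b k := by
      rw [hk N (Nat.le_add_right k n)]
      exact (mem_annPow b).2 h1
    rw [LinearMap.mem_ker, LinearMap.toSpanSingleton_apply, smul_smul, (mem_annPow b).1 h2, zero_smul]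
  obtain ⟨h₀, hh₀⟩ := exists_factor_of_surjective π hπ g hle
  obtain ⟨h₁, hh₁⟩ := hE.out (Ideal.span {b ^ N}).subtype (Submodule.injective_subtype _) h₀
  refine ⟨h₁ 1, k, ?_⟩
  have h3 : b ^ N • h₁ 1 = h₁ ((Ideal.span {b ^ N}).subtype (π 1)) := by
    rw [← map_smul]
    congr 1
    simp [π]
  rw [h3, hh₁, hh₀]
  simp [g]

/-- `E → E_b` is surjective for `E` injective. -/
theorem mk_surjective (hE : Module.Injective R E) :
    Function.Surjective (LocalizedModule.mkLinearMap (Submonoid.powers b) E) := by
  intro y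
  induction y using LocalizedModule.induction_on with
  | h x s =>
    obtain ⟨n, hn⟩ := s.2
    obtain ⟨e, k, hek⟩ := exists_div b E hE x n
    refine ⟨e, ?_⟩
    rw [LocalizedModule.mkLinearMap_apply, LocalizedModule.mk_eq]
    refine ⟨⟨b ^ k, k, rfl⟩, ?_⟩
    have hs : (s : R) = b ^ n := hn.symm
    change b ^ k • (s : R) • e = b ^ k • (1 : R) • x
    rw [one_smul, hs, smul_smul, ← pow_add]
    exact hek

variable (a : Ideal R)

/-- `Γ_a(E) → Γ_a(E_b)` is surjective for `E` injective. -/
theorem gamma_mk_surjective (hE : Module.Injective R E)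
    (y : LocalizedModule (Submonoid.powers b) E)
    (hy : y ∈ DRing.torsionSub a (LocalizedModule (Submonoid.powers b) E)) :
    ∃ e ∈ DRing.torsionSub a E, LocalizedModule.mkLinearMap (Submonoid.powers b) E e = y := by
  classical
  obtain ⟨t, ht⟩ := hy
  induction y using LocalizedModule.induction_on with
  | h x s =>
    obtain ⟨n, hn⟩ := s.2
    have hs : (s : R) = b ^ n := hn.symm
    -- generators of `a^t`
    obtain ⟨G, hG⟩ := (IsNoetherian.noetherian (a ^ t) : (a ^ t).FG)
    have h1 : ∀ r ∈ G, ∃ k : ℕ, b ^ k • r • x = 0 := by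
      intro r hr
      have hr' : r ∈ a ^ t := by rw [← hG]; exact Submodule.subset_span hr
      have h2 := ht r hr'
      rw [LocalizedModule.smul'_mk, ← LocalizedModule.zero_mk s, LocalizedModule.mk_eq] at h2
      obtain ⟨⟨u, k, rfl⟩, hu⟩ := h2
      refine ⟨k + n, ?_⟩
      have hu' : b ^ k • (s : R) • r • x = b ^ k • (s : R) • (0 : E) := hu
      rw [smul_zero, smul_zero, hs, smul_smul, ← pow_add] at hu'
      exact hu'
    choose! kf hkf using h1
    let K := G.sup kf
    have h3 : ∀ r ∈ a ^ t, r • (b ^ K • x) = 0 := by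
      intro r hr
      rw [← hG] at hr
      induction hr using Submodule.span_induction with
      | mem r hr =>
        have hle : kf r ≤ K := Finset.le_sup hr
        obtain ⟨d, hd⟩ := Nat.exists_eq_add_of_le hle
        rw [smul_comm, hd, pow_add, mul_comm, mul_smul, hkf r hr, smul_zero]
      | zero => rw [zero_smul]
      | add r r' _ _ hr hr' => rw [add_smul, hr, hr', add_zero]
      | smul c r _ hr => rw [smul_eq_mul, mul_smul, hr, smul_zero]
    have hx' : b ^ K • x ∈ DRing.torsionSub a E := ⟨t, h3⟩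
    -- divide in the injective module `Γ_a(E)`
    obtain ⟨e', k, hek⟩ := exists_div b (DRing.torsionSub a E) (injective_torsionSub a E hE)
      ⟨b ^ K • x, hx'⟩ (n + K)
    refine ⟨(e' : E), e'.2, ?_⟩
    rw [LocalizedModule.mkLinearMap_apply, LocalizedModule.mk_eq]
    refine ⟨⟨b ^ (k + K), k + K, rfl⟩, ?_⟩
    have hek' : b ^ (k + (n + K)) • (e' : E) = b ^ k • (b ^ K • x) := congrArg Subtype.val hek
    change b ^ (k + K) • (s : R) • (e' : E) = b ^ (k + K) • (1 : R) • x
    rw [one_smul, hs, smul_smul, ← pow_add, pow_add b k K, mul_smul, ← hek']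
    congr 2
    omega

omit [IsNoetherianRing R] in
/-- the kernel of `E → E_b` is the `b`-power torsion. -/
theorem ker_mk (M : Type u) [AddCommGroup M] [Module R M] :
    LinearMap.ker (LocalizedModule.mkLinearMap (Submonoid.powers b) M) =
      DRing.torsionSub (Ideal.span {b}) M := by
  ext x
  rw [LinearMap.mem_ker, IsLocalizedModule.eq_zero_iff (Submonoid.powers b)]
  constructor
  · rintro ⟨⟨u, k, rfl⟩, hu⟩
    rw [Submonoid.smul_def] at hu
    have hu' : b ^ k • x = 0 := hu
    refine ⟨k, fun r hr => ?_⟩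
    rw [Ideal.span_singleton_pow] at hr
    obtain ⟨c, rfl⟩ := Ideal.mem_span_singleton'.1 hr
    rw [mul_smul, hu', smul_zero]
  · rintro ⟨k, hk⟩
    refine ⟨⟨b ^ k, k, rfl⟩, ?_⟩
    rw [Submonoid.smul_def]
    have hb : b ∈ Ideal.span ({b} : Set R) := Ideal.mem_span_singleton_self b
    exact hk (b ^ k) (Ideal.pow_mem_pow hb k)

/-- `H^i_a(E_b) = 0` for `E` injective and `i ≥ 1`. -/
theorem subsingleton_H_localized (hE : Module.Injective R E) (i : ℕ) (hi : 0 < i) :
    Subsingleton (LocCoh.H a i (LocalizedModule (Submonoid.powers b) E)) := by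
  let f := (DRing.torsionSub (Ideal.span {b}) E).subtype
  let g := LocalizedModule.mkLinearMap (Submonoid.powers b) E
  have hf : Function.Injective f := Submodule.injective_subtype _
  have hg : Function.Surjective g := mk_surjective b E hE
  have hfg : Function.Exact f g := by
    intro x
    rw [← LinearMap.mem_ker, ker_mk]
    constructor
    · intro hx
      exact ⟨⟨x, hx⟩, rfl⟩
    · rintro ⟨z, rfl⟩
      exact z.2
  have h1 : Subsingleton (LocCoh.H a i E) := subsingleton_H_of_injective a E hE i hi
  have h2 : Subsingleton (LocCoh.H a (i + 1) (DRing.torsionSub (Ideal.span {b}) E)) :=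
    subsingleton_H_of_injective a _ (injective_torsionSub _ E hE) (i + 1) (Nat.succ_pos i)
  refine subsingleton_of_forall_eq 0 fun y => ?_
  obtain ⟨z, rfl⟩ := (exact₃ a f g hf hfg hg i y).1 (Subsingleton.elim _ _)
  rw [Subsingleton.elim z 0, map_zero]

end Groth.Agent.Lib.LocCohLocInj
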