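import Groth.Agent.Lib.ModInjFlasque92c
import Groth.Agent.Lib.FunctorSESNat
import Groth.Agent.Lib.DerivedCompExact
import Groth.Agent.Lib.RightDerivedPostComp
import Groth.Prelude.Def_LocCohZ

/-!
# Local cohomology sheaves of `O_Y`-modules and higher direct images from the open complement

For an open `W` of a scheme `Y` with inclusion `j`: `ℋ^1_Z ≅ coker(M → j_* j^* M)` and
`ℋ^{i+1}_Z ≅ j^* ⋙ R^i j_*` for `i ≥ 1`, as functors on `Y.Modules` (`Z = Y ∖ W`).
-/

set_option autoImplicit false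
universe u
open CategoryTheory CategoryTheory.Limits Opposite AlgebraicGeometry TopologicalSpace

namespace Groth.Agent.Lib.LocCohModShift92

open Groth.Agent.Lib.FunctorSESNat Groth.Agent.Lib.ModInjFlasque92

section Kernel

variable {A B : Type*} [Category A] [Abelian A] [Category B] [Abelian B]
  {F₁ F₂ F₃ : A ⥤ B} [F₁.Additive] [F₂.Additive] [F₃.Additive]

/-- the kernel of a natural transformation between left exact functors is left exact -/
lemma preservesFiniteLimits_of_isKernel (α : F₁ ⟶ F₂) (β : F₂ ⟶ F₃)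
    (w : ∀ X, α.app X ≫ β.app X = 0)
    (hk : ∀ X, IsLimit (KernelFork.ofι (α.app X) (w X)))
    [F₂.PreservesMonomorphisms] [F₃.PreservesMonomorphisms]
    (h₂ : ∀ S : ShortComplex A, S.ShortExact → (S.map F₂).Exact) :
    PreservesFiniteLimits F₁ := by
  have hmα : ∀ X, Mono (α.app X) := fun X => mono_of_isLimit_fork (hk X)
  apply ((Functor.preservesFiniteLimits_tfae F₁).out 0 3).1
  intro S hS
  have := hS.mono_f
  have hm : Mono (F₁.map S.f) := by
    have : Mono (F₁.map S.f ≫ α.app S.X₂) := by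
      rw [α.naturality]
      infer_instance
    exact mono_of_mono _ (α.app S.X₂)
  refine ⟨?_, hm⟩
  rw [ShortComplex.exact_iff_exact_up_to_refinements]
  intro T x₂₀ hx₂
  let x₂ : T ⟶ F₁.obj S.X₂ := x₂₀
  have hx₂' : x₂ ≫ F₁.map S.g = 0 := hx₂
  have h0 : (x₂ ≫ α.app S.X₂) ≫ F₂.map S.g = 0 := by
    rw [Category.assoc, ← α.naturality, ← Category.assoc, hx₂', zero_comp]
  have hex := h₂ S hS
  have hmf : Mono (S.map F₂).f := inferInstanceAs (Mono (F₂.map S.f))
  let y : T ⟶ F₂.obj S.X₁ := hex.lift (x₂ ≫ α.app S.X₂) h0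
  have hy : y ≫ F₂.map S.f = x₂ ≫ α.app S.X₂ := hex.lift_f _ _
  have hyβ : y ≫ β.app S.X₁ = 0 := by
    have hm3 : Mono (F₃.map S.f) := inferInstance
    apply (cancel_mono (F₃.map S.f)).1
    rw [Category.assoc, ← β.naturality, ← Category.assoc, hy, Category.assoc, w, comp_zero,
      zero_comp]
  let x₁ : T ⟶ F₁.obj S.X₁ := (hk S.X₁).lift (KernelFork.ofι y hyβ)
  have hx₁ : x₁ ≫ α.app S.X₁ = y := (hk S.X₁).fac _ WalkingParallelPair.zero
  refine ⟨T, 𝟙 T, inferInstance, x₁, ?_⟩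
  change 𝟙 T ≫ x₂ = x₁ ≫ F₁.map S.f
  rw [Category.id_comp]
  apply (cancel_mono (α.app S.X₂)).1
  rw [Category.assoc, α.naturality, ← Category.assoc, hx₁, hy]

end Kernel

section Open

variable {Y : Scheme.{u}} (W : Y.Opens)

/-- extension by zero along `W ⊆ Y` -/
noncomputable def Lf : (W : Scheme.{u}).Modules ⥤ Y.Modules :=
  (Scheme.Modules.overEquiv W).inverse ⋙ ModSite.extZero Y.sheaf W

/-- `j_! ⊣ j^*` -/
noncomputable def adjL : Lf W ⊣ Scheme.Modules.restrictFunctor W.ι :=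
  ((Scheme.Modules.overEquiv W).symm.toAdjunction.comp
    (ModSite.extZeroAdj Y.sheaf W)).ofNatIsoRight (Scheme.Modules.overFunctorEquiv W)

instance : (Lf W).PreservesMonomorphisms := by
  have h1 : (ModSite.extZero Y.sheaf W).PreservesMonomorphisms :=
    Groth.Agent.Lib.ModShriek.preservesMonomorphisms_of_adjunction _ Y.ringCatSheaf W _
      (ModSite.extZeroAdj Y.sheaf W)
  have h2 : (Scheme.Modules.overEquiv W).inverse.PreservesMonomorphisms := inferInstance
  exact @Functor.preservesMonomorphisms_comp _ _ _ _ _ _ _ _ h2 h1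

instance : PreservesFiniteLimits (Scheme.Modules.restrictFunctor W.ι) := by
  have := (adjL W).rightAdjoint_preservesLimits
  infer_instance

/-- the functor `j_* j^*` -/
noncomputable abbrev G : Y.Modules ⥤ Y.Modules :=
  Scheme.Modules.restrictFunctor W.ι ⋙ Scheme.Modules.pushforward W.ι

/-- the unit `𝟭 ⟶ j_* j^*` -/
noncomputable abbrev β : 𝟭 Y.Modules ⟶ G W := (Scheme.Modules.restrictAdjunction W.ι).unit

/-- the inclusion `Γ_Z ⟶ 𝟭` -/
noncomputable def α : DCoh.gammaZ W.ι ⟶ 𝟭 Y.Modules where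
  app M := kernel.ι ((β W).app M)
  naturality M N φ := by
    simp [DCoh.gammaZ]

lemma α_β_app (M : Y.Modules) : (α W).app M ≫ (β W).app M = 0 := kernel.condition _

variable [HasInjectiveResolutions Y.Modules]

lemma exactOnInj : ExactOnInj (α W) (β W) := by
  intro I hI
  refine ⟨α_β_app W I, ?_⟩
  have hepi : Epi ((β W).app I) := epi_unit_of_injective W.ι I
  have hmono : Mono ((α W).app I) := inferInstanceAs (Mono (kernel.ι ((β W).app I)))
  exact { exact := ShortComplex.exact_of_f_is_kernel _ (kernelIsKernel ((β W).app I))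
          mono_f := hmono
          epi_g := hepi }

instance : PreservesFiniteLimits (DCoh.gammaZ W.ι) := by
  have h3 : (G W).PreservesMonomorphisms := by
    have : PreservesFiniteLimits (G W) := inferInstance
    infer_instance
  have h2 : (𝟭 Y.Modules).PreservesMonomorphisms := inferInstance
  exact preservesFiniteLimits_of_isKernel (α W) (β W) (α_β_app W)
    (fun M => kernelIsKernel ((β W).app M)) (fun S hS => hS.exact)

lemma isZero_id_rightDerived (n : ℕ) (M : Y.Modules) :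
    IsZero (((𝟭 Y.Modules).rightDerived (n + 1)).obj M) :=
  Groth.Agent.Lib.DerivedBaseChange.isZero_rightDerived_succ_of_exact (𝟭 Y.Modules) M n

/-- **`ℋ^1_Z ≅ coker(M → j_* j^* M)`** -/
theorem nonempty_HZshM_one_iso :
    Nonempty (LocCohZ.HZshM W.ι 1 ≅ cokernel (β W)) :=
  nonempty_rightDerived_one_iso_cokernel (exactOnInj W) (fun M => isZero_id_rightDerived 0 M)

/-- `ℋ^{i+1}_Z ≅ R^i(j_* j^*)` for `i ≥ 1` -/
theorem nonempty_HZshM_succ_iso (n : ℕ) :
    Nonempty (LocCohZ.HZshM W.ι (n + 1 + 1) ≅ (G W).rightDerived (n + 1)) := by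
  have := isIso_δ_succ (exactOnInj W) (fun n M => isZero_id_rightDerived n M) n
  exact ⟨(asIso (δ (exactOnInj W) (n + 1))).symm⟩

variable [HasInjectiveResolutions (W : Scheme.{u}).Modules]

/-- `R^i(j_* j^*) ≅ j^* ⋙ R^i j_*` -/
theorem nonempty_G_rightDerived_iso (i : ℕ) :
    Nonempty ((G W).rightDerived i ≅
      Scheme.Modules.restrictFunctor W.ι ⋙ Coh.Rpush W.ι i) :=
  ⟨Groth.Agent.Lib.DerivedCompExact.rightDerivedCompIso (Scheme.Modules.restrictFunctor W.ι)
    (Scheme.Modules.pushforward W.ι) (adjL W) i⟩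

end Open

section General

variable {Y : Scheme.{u}}

/-- sections killed by restriction to the range of `j₁` are killed by restriction to the range
of `j₂` when the latter is smaller -/
lemma kernel_ι_comp_unit {U₁ U₂ : Scheme.{u}} (j₁ : U₁ ⟶ Y) (j₂ : U₂ ⟶ Y) [IsOpenImmersion j₁]
    [IsOpenImmersion j₂] (h : j₂.opensRange ≤ j₁.opensRange) (M : Y.Modules) :
    kernel.ι ((Scheme.Modules.restrictAdjunction j₁).unit.app M) ≫
      (Scheme.Modules.restrictAdjunction j₂).unit.app M = 0 := by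
  apply Scheme.Modules.hom_ext
  intro V
  have hle : j₂ ''ᵁ (j₂ ⁻¹ᵁ V) ≤ j₁ ''ᵁ (j₁ ⁻¹ᵁ V) := by
    rw [Scheme.Hom.image_preimage_eq_opensRange_inf, Scheme.Hom.image_preimage_eq_opensRange_inf]
    exact inf_le_inf_right V h
  apply ConcreteCategory.hom_ext
  intro x
  let k := kernel.ι ((Scheme.Modules.restrictAdjunction j₁).unit.app M)
  have h0 : (k ≫ (Scheme.Modules.restrictAdjunction j₁).unit.app M).app V = 0 := by
    rw [kernel.condition]
    rfl
  have h1 : M.presheaf.map (homOfLE (j₁.image_preimage_le V)).op (k.app V x) = 0 :=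
    ConcreteCategory.congr_hom h0 x
  change M.presheaf.map (homOfLE (j₂.image_preimage_le V)).op (k.app V x) = 0
  rw [← presheaf_res_res M (j₁.image_preimage_le V) hle, h1, map_zero]

/-- the inclusion `Γ_Z M ⟶ M` -/
noncomputable def ιG {U : Scheme.{u}} (j : U ⟶ Y) [IsOpenImmersion j] (M : Y.Modules) :
    (DCoh.gammaZ j).obj M ⟶ M :=
  kernel.ι ((Scheme.Modules.restrictAdjunction j).unit.app M)

instance {U : Scheme.{u}} (j : U ⟶ Y) [IsOpenImmersion j] (M : Y.Modules) : Mono (ιG j M) :=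
  inferInstanceAs (Mono (kernel.ι ((Scheme.Modules.restrictAdjunction j).unit.app M)))

lemma gammaZ_map_ι {U : Scheme.{u}} (j : U ⟶ Y) [IsOpenImmersion j] {M N : Y.Modules}
    (φ : M ⟶ N) : (DCoh.gammaZ j).map φ ≫ ιG j N = ιG j M ≫ φ :=
  kernel.lift_ι _ _ _

/-- comparison map -/
noncomputable def cmp {U₁ U₂ : Scheme.{u}} (j₁ : U₁ ⟶ Y) (j₂ : U₂ ⟶ Y) [IsOpenImmersion j₁]
    [IsOpenImmersion j₂] (h : j₂.opensRange ≤ j₁.opensRange) (M : Y.Modules) :
    (DCoh.gammaZ j₁).obj M ⟶ (DCoh.gammaZ j₂).obj M :=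
  kernel.lift _ (kernel.ι _) (kernel_ι_comp_unit j₁ j₂ h M)

lemma cmp_ι {U₁ U₂ : Scheme.{u}} (j₁ : U₁ ⟶ Y) (j₂ : U₂ ⟶ Y) [IsOpenImmersion j₁]
    [IsOpenImmersion j₂] (h : j₂.opensRange ≤ j₁.opensRange) (M : Y.Modules) :
    cmp j₁ j₂ h M ≫ ιG j₂ M = ιG j₁ M :=
  kernel.lift_ι _ _ _

/-- comparison of the kernels of the two units -/
noncomputable def kerIso {U₁ U₂ : Scheme.{u}} (j₁ : U₁ ⟶ Y) (j₂ : U₂ ⟶ Y) [IsOpenImmersion j₁]
    [IsOpenImmersion j₂] (h : j₁.opensRange = j₂.opensRange) (M : Y.Modules) :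
    (DCoh.gammaZ j₁).obj M ≅ (DCoh.gammaZ j₂).obj M where
  hom := cmp j₁ j₂ h.ge M
  inv := cmp j₂ j₁ h.le M
  hom_inv_id := by
    apply (cancel_mono (ιG j₁ M)).1
    rw [Category.assoc, cmp_ι, cmp_ι, Category.id_comp]
  inv_hom_id := by
    apply (cancel_mono (ιG j₂ M)).1
    rw [Category.assoc, cmp_ι, cmp_ι, Category.id_comp]

/-- `Γ_Z` only depends on the range of the open immersion -/
noncomputable def gammaZIso {U₁ U₂ : Scheme.{u}} (j₁ : U₁ ⟶ Y) (j₂ : U₂ ⟶ Y) [IsOpenImmersion j₁]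
    [IsOpenImmersion j₂] (h : j₁.opensRange = j₂.opensRange) :
    DCoh.gammaZ j₁ ≅ DCoh.gammaZ j₂ :=
  NatIso.ofComponents (fun M => kerIso j₁ j₂ h M)
    (by
      intro M N φ
      apply (cancel_mono (ιG j₂ N)).1
      change ((DCoh.gammaZ j₁).map φ ≫ cmp j₁ j₂ h.ge N) ≫ ιG j₂ N =
        (cmp j₁ j₂ h.ge M ≫ (DCoh.gammaZ j₂).map φ) ≫ ιG j₂ N
      rw [Category.assoc, cmp_ι, gammaZ_map_ι, Category.assoc, gammaZ_map_ι, ← Category.assoc,
        cmp_ι])

end General

end Groth.Agent.Lib.LocCohModShift92
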