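import Groth.Agent.Lib.LocCohCdGen

/-!
# Injective modules over an algebra are `Γ_I`-acyclic (Brodmann–Sharp 4.1.3) (helper53)

`R → R'` a homomorphism of Noetherian rings, `E` an injective `R'`-module. Then `H^i_I(E) = 0`
for `i > 0` (local cohomology over `R`). Proof by induction on the number of generators of `I`.
-/

set_option maxHeartbeats 400000
universe u
open CategoryTheory CategoryTheory.Limits Opposite

namespace Groth.Agent.Lib.LocCohRestrict
open Groth.Agent.Lib.LocCohConcrete Groth.Agent.Lib.LocCohLES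
open Groth.Agent.Lib.LocCohTorsion Groth.Agent.Lib.LocCohVanishing Groth.Agent.Lib.LocCohCdGen
open Groth.Agent.Lib.H29TorsionInj

section baer
variable {B : Type u} [CommRing B] [IsNoetherianRing B] (E : Type u) [AddCommGroup E] [Module B E]

/-- the annihilators of the powers of `b` stabilize. -/
theorem exists_ann_pow_stable (b : B) :
    ∃ k : ℕ, ∀ r : B, b ^ (k + 1) * r = 0 → b ^ k * r = 0 := by
  let f : ℕ →o Submodule B B :=
    { toFun := fun n => LinearMap.ker (LinearMap.mulLeft B (b ^ n))
      monotone' := by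
        intro n m h r hr
        rw [LinearMap.mem_ker, LinearMap.mulLeft_apply] at hr ⊢
        obtain ⟨j, rfl⟩ := Nat.exists_eq_add_of_le h
        rw [pow_add, mul_comm (b ^ n), mul_assoc, hr, mul_zero] }
  obtain ⟨k, hk⟩ := (monotone_stabilizes_iff_noetherian (R := B) (M := B)).2 inferInstance f
  refine ⟨k, fun r hr => ?_⟩
  have h1 : r ∈ f (k + 1) := by
    change r ∈ LinearMap.ker (LinearMap.mulLeft B (b ^ (k + 1)))
    rw [LinearMap.mem_ker, LinearMap.mulLeft_apply]
    exact hr
  rw [← hk (k + 1) (Nat.le_succ k)] at h1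
  change r ∈ LinearMap.ker (LinearMap.mulLeft B (b ^ k)) at h1
  rw [LinearMap.mem_ker, LinearMap.mulLeft_apply] at h1
  exact h1

/-- for an injective module `E`, every `x` is `b y` up to `b`-power torsion. -/
theorem exists_smul_sub_torsion (hE : Module.Injective B E) (b : B) (x : E) :
    ∃ (y : E) (k : ℕ), b ^ k • (b • y - x) = 0 := by
  obtain ⟨k, hk⟩ := exists_ann_pow_stable b
  let m : B →ₗ[B] B := LinearMap.mulLeft B (b ^ (k + 1))
  let f : (B ⧸ LinearMap.ker m) →ₗ[B] B := (LinearMap.ker m).liftQ m le_rfl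
  have hf : Function.Injective f := by
    rw [← LinearMap.ker_eq_bot]
    exact Submodule.ker_liftQ_eq_bot _ _ _ le_rfl
  let ψ₀ : B →ₗ[B] E := LinearMap.toSpanSingleton B E (b ^ k • x)
  have hψ : LinearMap.ker m ≤ LinearMap.ker ψ₀ := by
    intro r hr
    rw [LinearMap.mem_ker, LinearMap.mulLeft_apply] at hr
    rw [LinearMap.mem_ker, LinearMap.toSpanSingleton_apply, ← mul_smul, mul_comm, hk r hr,
      zero_smul]
  let g : (B ⧸ LinearMap.ker m) →ₗ[B] E := (LinearMap.ker m).liftQ ψ₀ hψ
  obtain ⟨h, hh⟩ := hE.out f hf g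
  refine ⟨h 1, k, ?_⟩
  have h1 := hh (Submodule.Quotient.mk 1)
  have h2 : f (Submodule.Quotient.mk 1) = b ^ (k + 1) := by
    change m 1 = _
    rw [LinearMap.mulLeft_apply, mul_one]
  have h3 : g (Submodule.Quotient.mk 1) = b ^ k • x := by
    change ψ₀ 1 = _
    rw [LinearMap.toSpanSingleton_apply, one_smul]
  rw [h2, h3] at h1
  have h4 : h (b ^ (k + 1)) = b ^ (k + 1) • h 1 := by
    conv_lhs => rw [← mul_one (b ^ (k + 1)), ← smul_eq_mul, map_smul]
  rw [smul_sub, ← mul_smul, ← pow_succ, ← h4, h1, sub_self]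

end baer

section main
variable {R R' : Type u} [CommRing R] [CommRing R'] [Algebra R R'] [IsNoetherianRing R]
  [IsNoetherianRing R']

/-- the inductive step. -/
theorem step (I' : Ideal R) (a : R)
    (ih : ∀ (E : Type u) [AddCommGroup E] [Module R' E] [Module R E] [IsScalarTower R R' E],
      Module.Injective R' E → ∀ i : ℕ, 0 < i → Subsingleton (LocCoh.H I' i E))
    (E : Type u) [AddCommGroup E] [Module R' E] [Module R E] [IsScalarTower R R' E]
    (hE : Module.Injective R' E) (i : ℕ) (hi : 0 < i) :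
    Subsingleton (LocCoh.H (I' ⊔ Ideal.span {a}) i E) := by
  have haI : a ∈ I' ⊔ Ideal.span {a} :=
    le_sup_right (α := Ideal R) (Ideal.mem_span_singleton_self a)
  let b : R' := algebraMap R R' a
  let Γ : Submodule R' E := DRing.torsionSub (Ideal.span {b}) E
  have hΓinj : Module.Injective R' Γ := injective_torsionSub (Ideal.span {b}) E hE
  have hab : ∀ (k : ℕ) (x : E), a ^ k • x = b ^ k • x := by
    intro k x
    rw [← algebraMap_smul R' (a ^ k) x, map_pow]
  have hmemΓ : ∀ (x : E) (k : ℕ), b ^ k • x = 0 → x ∈ Γ := by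
    intro x k hx
    refine ⟨k, fun c hc => ?_⟩
    obtain ⟨r, rfl⟩ := exists_eq_mul_pow b hc
    rw [mul_smul, hx, smul_zero]
  -- `Γ` is `a`-power torsion over `R`
  have hΓt : LocCoh.IsPowerTorsion (Ideal.span {a}) Γ := by
    rintro ⟨x, n, hn⟩
    refine ⟨n, fun r hr => ?_⟩
    obtain ⟨c, rfl⟩ := exists_eq_mul_pow a hr
    apply Subtype.ext
    change (c * a ^ n) • x = 0
    rw [mul_smul, hab, hn (b ^ n) (Ideal.pow_mem_pow (Ideal.mem_span_singleton_self b) n),
      smul_zero]
  have hΓ0 : Subsingleton (LocCoh.H I' i Γ) := ih Γ hΓinj i hi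
  have hΓ1 : Subsingleton (LocCoh.H (I' ⊔ Ideal.span {a}) i Γ) :=
    stepA I' a i hi Γ hΓt hΓ0
  -- `a` acts bijectively on `E ⧸ Γ`
  have hbij : Function.Bijective (fun q : E ⧸ Γ => a • q) := by
    constructor
    · intro q₁ q₂ h
      have h' : a • (q₁ - q₂) = 0 := by
        rw [smul_sub]
        exact sub_eq_zero.2 h
      obtain ⟨x, hx⟩ := Submodule.Quotient.mk_surjective Γ (q₁ - q₂)
      rw [← hx, ← Submodule.Quotient.mk_smul, Submodule.Quotient.mk_eq_zero] at h'
      obtain ⟨n, hn⟩ := h'
      have h1 : b ^ n • (a • x) = 0 :=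
        hn (b ^ n) (Ideal.pow_mem_pow (Ideal.mem_span_singleton_self b) n)
      have h2 : b ^ (n + 1) • x = 0 := by
        rw [pow_succ, mul_smul]
        have : b • x = a • x := (algebraMap_smul R' a x)
        rw [this]
        exact h1
      have h3 : x ∈ Γ := hmemΓ x (n + 1) h2
      have h4 : q₁ - q₂ = 0 := by
        rw [← hx]
        exact (Submodule.Quotient.mk_eq_zero Γ).2 h3
      exact sub_eq_zero.1 h4
    · intro q
      obtain ⟨x, rfl⟩ := Submodule.Quotient.mk_surjective Γ q
      obtain ⟨y, k, hk⟩ := exists_smul_sub_torsion E hE b x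
      refine ⟨Submodule.Quotient.mk y, ?_⟩
      change a • (Submodule.Quotient.mk y : E ⧸ Γ) = Submodule.Quotient.mk x
      rw [← Submodule.Quotient.mk_smul, Submodule.Quotient.eq]
      have : a • y = b • y := (algebraMap_smul R' a y).symm
      rw [this]
      exact hmemΓ _ k hk
  have hQ : Subsingleton (LocCoh.H (I' ⊔ Ideal.span {a}) i (E ⧸ Γ)) :=
    subsingleton_H_of_smul_bijective _ a haI (E ⧸ Γ) hbij i
  -- conclude by exactness
  let f : Γ →ₗ[R] E := Γ.subtype.restrictScalars R
  let g : E →ₗ[R] E ⧸ Γ := Γ.mkQ.restrictScalars R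
  have hf : Function.Injective f := Submodule.injective_subtype Γ
  have hg : Function.Surjective g := Submodule.mkQ_surjective Γ
  have hfg : Function.Exact f g := LinearMap.exact_subtype_mkQ Γ
  refine subsingleton_of_forall_eq 0 fun y => ?_
  obtain ⟨z, rfl⟩ := (exact₂ (I' ⊔ Ideal.span {a}) f g hfg hf hg i y).1 (Subsingleton.elim _ _)
  rw [Subsingleton.elim z 0, map_zero]

/-- Brodmann–Sharp 4.1.3: an injective `R'`-module is `Γ_I`-acyclic as an `R`-module. -/
theorem subsingleton_H_of_injective_restrict_span (s : Finset R) :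
    ∀ (E : Type u) [AddCommGroup E] [Module R' E] [Module R E] [IsScalarTower R R' E],
      Module.Injective R' E → ∀ i : ℕ, 0 < i →
        Subsingleton (LocCoh.H (Ideal.span (s : Set R)) i E) := by
  classical
  induction s using Finset.induction_on with
  | empty =>
    intro E _ _ _ _ _ i hi
    rw [Finset.coe_empty, Ideal.span_empty]
    exact cdLE_bot E i hi
  | insert a s ha ih =>
    intro E _ _ _ _ hE i hi
    rw [Finset.coe_insert, Ideal.span_insert, sup_comm]
    exact step (R' := R') _ a ih E hE i hi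

theorem subsingleton_H_of_injective_restrict (I : Ideal R)
    (E : Type u) [AddCommGroup E] [Module R' E] [Module R E] [IsScalarTower R R' E]
    (hE : Module.Injective R' E) (i : ℕ) (hi : 0 < i) : Subsingleton (LocCoh.H I i E) := by
  obtain ⟨s, hs⟩ := (isNoetherianRing_iff_ideal_fg R).1 inferInstance I
  rw [← hs]
  exact subsingleton_H_of_injective_restrict_span (R' := R') s E hE i hi

end main

end Groth.Agent.Lib.LocCohRestrict
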