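import Groth.Agent.Lib.FunctorSESNat
import Groth.Agent.Lib.DerivedCompExact
import Groth.Agent.Lib.OpenShriek
import Groth.Agent.Lib.RightDerivedPostComp
import Groth.Agent.Lib.FlasqueAcyclic
import Groth.Agent.S6023
import Mathlib.CategoryTheory.Sites.Pullback
import Mathlib.Topology.Sheaves.SheafCondition.Sites

/-!
# Local cohomology sheaves and higher direct images from the open complement

`ℋ^1_Z ≅ coker(F → j_* j⁻¹ F)` and `ℋ^{i+1}_Z ≅ j⁻¹ ⋙ R^i j_*` for `i ≥ 1`, as functors.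
-/

set_option autoImplicit false

universe u

open CategoryTheory CategoryTheory.Limits TopologicalSpace Opposite

namespace Groth.Agent.Lib.LocCohShift

open Groth.Agent.S19245 (η adj' unit'_app FG FG_le)
open Groth.Agent.S6023 (ιZ map_ιZ)
open Groth.Agent.Lib.FunctorSESNat

variable {X : TopCat.{u}} (U : Opens X)

/-- the functor `j_* j⁻¹` -/
noncomputable abbrev G : CohTop.Ab X ⥤ CohTop.Ab X :=
  CohTop.pull (CohCx.incl U) ⋙ CohTop.push (CohCx.incl U)

/-- the unit `𝟭 ⟶ j_* j⁻¹` -/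
noncomputable abbrev β : 𝟭 (CohTop.Ab X) ⟶ G U :=
  (TopCat.Sheaf.pullbackPushforwardAdjunction AddCommGrpCat.{u} (CohCx.incl U)).unit

/-- the inclusion `Γ_Z ⟶ 𝟭` -/
noncomputable def α : LocCohZ.sectSuppF U ⟶ 𝟭 (CohTop.Ab X) where
  app F := ιZ U F
  naturality _ _ φ := map_ιZ U φ

lemma epi_η_of_flasque (A : CohTop.Ab X) [TopCat.Sheaf.IsFlasque A] : Epi (η U A) := by
  let adj2 := TopCat.Sheaf.pullbackPushforwardAdjunction AddCommGrpCat.{u} (CohCx.incl U)
  let e := Adjunction.leftAdjointUniq (adj' U) adj2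
  let P := TopCat.Sheaf.pushforward AddCommGrpCat.{u} (CohCx.incl U)
  have h1 : (adj' U).unit.app A ≫ P.map (e.hom.app A) = η U A :=
    Adjunction.unit_leftAdjointUniq_hom_app (adj' U) adj2 A
  have h2 : Epi ((adj' U).unit.app A) := by
    apply Groth.Agent.Lib.TowerLimSections.epi_of_sectionwise_surjective
    intro V s
    have hs : Function.Surjective (A.obj.map (homOfLE (FG_le U V)).op) :=
      (AddCommGrpCat.epi_iff_surjective _).1 inferInstance
    obtain ⟨t, ht⟩ := hs s
    exact ⟨t, (unit'_app U A V t).trans ht⟩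
  have h3 : IsIso (e.hom.app A) := (e.app A).isIso_hom
  have h4 : IsIso (P.map (e.hom.app A)) := inferInstance
  rw [← h1]
  exact epi_comp _ _

lemma exactOnInj : ExactOnInj (α U) (β U) := by
  intro I hI
  have hw : (α U).app I ≫ (β U).app I = 0 := kernel.condition (η U I)
  refine ⟨hw, ?_⟩
  have : TopCat.Sheaf.IsFlasque I := Groth.Agent.Lib.FlasqueAcyclic.isFlasque_of_injective I
  have hepi : Epi ((β U).app I) := epi_η_of_flasque U I
  have hmono : Mono ((α U).app I) := inferInstanceAs (Mono (kernel.ι (η U I)))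
  exact { exact := ShortComplex.exact_of_f_is_kernel _ (kernelIsKernel (η U I))
          mono_f := hmono
          epi_g := hepi }

instance : (CohTop.push (CohCx.incl U)).Additive := CohTop.instAdditiveAbPush (CohCx.incl U)

instance : PreservesFiniteLimits (CohTop.pull (CohCx.incl U)) :=
  preservesFiniteLimits_of_natIso (Groth.Agent.Lib.OpenShriek.pullIsoRestr U).symm

instance : (CohTop.push (CohCx.incl U)).IsRightAdjoint :=
  (TopCat.Sheaf.pullbackPushforwardAdjunction AddCommGrpCat.{u} (CohCx.incl U)).isRightAdjoint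

instance : (CohTop.pull (CohCx.incl U)).Additive :=
  Functor.additive_of_iso (Groth.Agent.Lib.OpenShriek.pullIsoRestr U).symm

instance : (G U).Additive := by
  unfold G
  infer_instance

lemma isZero_id_rightDerived (n : ℕ) (F : CohTop.Ab X) :
    IsZero (((𝟭 (CohTop.Ab X)).rightDerived (n + 1)).obj F) :=
  Groth.Agent.Lib.DerivedBaseChange.isZero_rightDerived_succ_of_exact (𝟭 (CohTop.Ab X)) F n

/-- **`ℋ^1_Z ≅ coker(F → j_* j⁻¹ F)`** -/
theorem nonempty_HZsh_one_iso :
    Nonempty (LocCohZ.HZsh U 1 ≅ cokernel (β U)) :=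
  nonempty_rightDerived_one_iso_cokernel (exactOnInj U) (fun F => isZero_id_rightDerived 0 F)

/-- `ℋ^{i+1}_Z ≅ R^i(j_* j⁻¹)` for `i ≥ 1` -/
theorem nonempty_HZsh_succ_iso (n : ℕ) :
    Nonempty (LocCohZ.HZsh U (n + 1 + 1) ≅ (G U).rightDerived (n + 1)) := by
  have := isIso_δ_succ (exactOnInj U) (fun n F => isZero_id_rightDerived n F) n
  exact ⟨(asIso (δ (exactOnInj U) (n + 1))).symm⟩

/-- `R^i(j_* j⁻¹) ≅ j⁻¹ ⋙ R^i j_*` -/
theorem nonempty_G_rightDerived_iso (i : ℕ) :
    Nonempty ((G U).rightDerived i ≅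
      CohTop.pull (CohCx.incl U) ⋙ CohTop.Rpush (CohCx.incl U) i) := by
  let e := Groth.Agent.Lib.OpenShriek.pullIsoRestr U
  have e1 : G U ≅ CohTop.restrFunctor U ⋙ CohTop.push (CohCx.incl U) :=
    Functor.isoWhiskerRight e _
  exact ⟨Groth.Agent.Lib.RightDerivedPostComp.rightDerivedIsoOfIso e1 i ≪≫
    Groth.Agent.Lib.DerivedCompExact.rightDerivedCompIso (CohTop.restrFunctor U)
      (CohTop.push (CohCx.incl U)) (Groth.Agent.Lib.OpenShriek.shriekAdj U) i ≪≫
    Functor.isoWhiskerRight e.symm _⟩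

end Groth.Agent.Lib.LocCohShift
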