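import Groth.Agent.Lib.SecSuppInj65
import Groth.Agent.Lib.FunctorSESNat
import Groth.Agent.Lib.DerivedCompExact

/-!
# `ℋ^{p+1}_Z(F) ≅ R^p j_* (j⁻¹ F)` for étale abelian sheaves (helper65)

* `exists_section_unit`: abstract: for `L ⊣ R ⊣ T` with all counits `L R G ⟶ G` mono and `I`
  injective, the unit `I ⟶ T R I` is a split epimorphism.
* `exactOnInj`: `0 → Γ_Z I → I → j_* j⁻¹ I → 0` is short exact for `I` injective.
* `nonempty_cokernel_iso_locCoh_one`, `nonempty_Rpush_iso_locCoh_succ`: S6658.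
-/

set_option autoImplicit false
universe u
open CategoryTheory CategoryTheory.Limits AlgebraicGeometry Opposite

namespace Groth.Agent.Lib.LocCohShift65

section Abstract

universe v₁ v₂ u₁ u₂
variable {𝒜 : Type u₁} [Category.{v₁} 𝒜] [Abelian 𝒜] {ℬ : Type u₂} [Category.{v₂} ℬ] [Abelian ℬ]
  {L : ℬ ⥤ 𝒜} {R : 𝒜 ⥤ ℬ} {T : ℬ ⥤ 𝒜} (adj₁ : L ⊣ R) (adj₂ : R ⊣ T)

include adj₁ adj₂ in
theorem exists_section_unit (hε : ∀ G, Mono (adj₁.counit.app G)) (I : 𝒜) [Injective I] :
    ∃ s : T.obj (R.obj I) ⟶ I, s ≫ adj₂.unit.app I = 𝟙 _ := by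
  have := hε (T.obj (R.obj I))
  let t : L.obj (R.obj (T.obj (R.obj I))) ⟶ I :=
    (adj₁.homEquiv _ _).symm (adj₂.counit.app (R.obj I))
  let s : T.obj (R.obj I) ⟶ I := Injective.factorThru t (adj₁.counit.app (T.obj (R.obj I)))
  have hs : adj₁.counit.app (T.obj (R.obj I)) ≫ s = t := Injective.comp_factorThru _ _
  have hRs : R.map s = adj₂.counit.app (R.obj I) := by
    have h1 := congrArg (adj₁.homEquiv _ _) hs
    rw [Equiv.apply_symm_apply, Adjunction.homEquiv_unit, R.map_comp, ← Category.assoc,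
      adj₁.right_triangle_components, Category.id_comp] at h1
    exact h1
  refine ⟨s, ?_⟩
  apply (adj₂.homEquiv _ _).symm.injective
  rw [Adjunction.homEquiv_counit, Adjunction.homEquiv_counit, R.map_comp, Category.assoc,
    adj₂.left_triangle_components, Category.comp_id, hRs, CategoryTheory.Functor.map_id,
    Category.id_comp]

end Abstract

section Etale

variable {X U : Scheme.{u}} (j : U ⟶ X) [IsOpenImmersion j]

/-- the inclusion `Γ_Z ⟶ 𝟭` -/
noncomputable def α : EtDual.secSupp j ⟶ 𝟭 (EtCoh.Ab X) where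
  app F := kernel.ι (EtDual.unitApp j F)
  naturality {F G} f := by
    exact kernel.lift_ι _ _ _

/-- the unit `𝟭 ⟶ j_* j⁻¹` -/
noncomputable abbrev β : 𝟭 (EtCoh.Ab X) ⟶ EtCoh.pull j ⋙ EtCoh.push j :=
  (EtCoh.pullPushAdj j).unit

open Groth.Agent.Lib.FunctorSESNat

lemma exactOnInj : ExactOnInj (α j) (β j) := by
  have : EtShriek.JCont j := Groth.Agent.Lib.EtJCont.jCont j
  intro I hI
  have hw : (α j).app I ≫ (β j).app I = 0 := kernel.condition (EtDual.unitApp j I)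
  refine ⟨hw, ?_⟩
  obtain ⟨s, hs⟩ := exists_section_unit (Groth.Agent.Lib.EtShriekConst.adjSP j)
    (EtCoh.pullPushAdj j) (Groth.Agent.Lib.SecSuppInj65.mono_counit_adjSP j) I
  have hepi : Epi ((β j).app I) := (IsSplitEpi.mk' ⟨s, hs⟩ : IsSplitEpi _).epi -- split epi
  have hmono : Mono ((α j).app I) := inferInstanceAs (Mono (kernel.ι (EtDual.unitApp j I)))
  exact { exact := ShortComplex.exact_of_f_is_kernel _ (kernelIsKernel (EtDual.unitApp j I))
          mono_f := hmono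
          epi_g := hepi }

instance : PreservesFiniteLimits (EtCoh.pull j) :=
  have : EtShriek.JCont j := Groth.Agent.Lib.EtJCont.jCont j
  Groth.Agent.Lib.EtShriekConst.preservesFiniteLimits_pull_of_etale j

instance : PreservesFiniteLimits (EtCoh.push j) :=
  have := (EtCoh.pullPushAdj j).rightAdjoint_preservesLimits
  inferInstance

lemma isZero_id_rightDerived (n : ℕ) (F : EtCoh.Ab X) :
    IsZero (((𝟭 (EtCoh.Ab X)).rightDerived (n + 1)).obj F) :=
  Groth.Agent.Lib.DerivedBaseChange.isZero_rightDerived_succ_of_exact (𝟭 (EtCoh.Ab X)) F n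

/-- `coker (F ⟶ j_* j⁻¹ F) ≅ ℋ^1_Z(F)` -/
theorem nonempty_cokernel_iso_locCoh_one (F : EtCoh.Ab X) :
    Nonempty (cokernel (EtDual.unitApp j F) ≅ (EtDual.locCoh j 1).obj F) := by
  have hex := exact_β_q_app (exactOnInj j) F
  have hepi := epi_q_app (exactOnInj j) F (isZero_id_rightDerived 0 F)
  have hc : IsColimit (CokernelCofork.ofπ ((q (exactOnInj j)).app F) (β_q_app (exactOnInj j) F)) :=
    hex.gIsCokernel
  exact ⟨IsColimit.coconePointUniqueUpToIso (cokernelIsCokernel ((β j).app F)) hc⟩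

/-- `R^p j_* (j⁻¹ F) ≅ ℋ^{p+1}_Z(F)` for `p ≥ 1` -/
theorem nonempty_Rpush_iso_locCoh_succ (F : EtCoh.Ab X) (p : ℕ) (hp : 1 ≤ p) :
    Nonempty ((EtCoh.Rpush j p).obj ((EtCoh.pull j).obj F) ≅ (EtDual.locCoh j (p + 1)).obj F) := by
  have : EtShriek.JCont j := Groth.Agent.Lib.EtJCont.jCont j
  obtain ⟨n, rfl⟩ : ∃ n, p = n + 1 := ⟨p - 1, by omega⟩
  have := isIso_δ_succ (exactOnInj j) (fun n F => isZero_id_rightDerived n F) n
  let e1 := (Groth.Agent.Lib.DerivedCompExact.rightDerivedCompIso (EtCoh.pull j) (EtCoh.push j)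
    (Groth.Agent.Lib.EtShriekConst.adjSP j) (n + 1)).app F
  let e2 := (asIso (δ (exactOnInj j) (n + 1))).app F
  exact ⟨e1.symm ≪≫ e2⟩

end Etale

end Groth.Agent.Lib.LocCohShift65
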