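import Groth.Agent.Lib.LocCohCompare
import Groth.Agent.Lib.LocCohLocInj
import Groth.Agent.Lib.LocCohCdSup
import Groth.Agent.S0299

/-!
# The long exact sequence `… → H^i_{a+Rb}(M) → H^i_a(M) → H^i_a(M_b) → H^{i+1}_{a+Rb}(M) → …` (helper53)

(Brodmann–Sharp 8.1.2.)  `ψ a b i M : H^i_{a+Rb}(M) → H^i_a(M)` is the comparison map,
`lam a b i M : H^i_a(M) → H^i_a(M_b)` is induced by localization.
* `exact_ψ_lam`: exactness at `H^i_a(M)`;
* `exists_conn`: a connecting map `d : H^i_a(M_b) → H^{i+1}_{a+Rb}(M)` with `ker d = range lam` and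
  `range d = ker ψ`;
* `cokerEquiv`: `coker (lam i) ≃ ker (ψ (i+1))`.
-/

set_option maxHeartbeats 400000
universe u
open CategoryTheory CategoryTheory.Limits Opposite

namespace Groth.Agent.Lib.LocCohSupSpan
open Groth.Agent.Lib.LocCohConcrete Groth.Agent.Lib.LocCohLES Groth.Agent.Lib.LocCohH0
open Groth.Agent.Lib.LocCohTorsion Groth.Agent.Lib.LocCohCompare Groth.Agent.Lib.LocCohLocInj
open Groth.Agent.Lib.IdealTransform

variable {R : Type u} [CommRing R] (a : Ideal R) (b : R)

section loc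
variable (M : Type u) [AddCommGroup M] [Module R M]

/-- `M_b`. -/
abbrev Loc : Type u := LocalizedModule (Submonoid.powers b) M

/-- `M → M_b`. -/
noncomputable abbrev mk : M →ₗ[R] Loc b M := LocalizedModule.mkLinearMap (Submonoid.powers b) M

variable {M} {M' M'' : Type u} [AddCommGroup M'] [Module R M'] [AddCommGroup M''] [Module R M'']

/-- `M_b → M'_b`. -/
noncomputable abbrev lmap (φ : M →ₗ[R] M') : Loc b M →ₗ[R] Loc b M' :=
  IsLocalizedModule.map (Submonoid.powers b) (mk b M) (mk b M') φ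

theorem lmap_comp_mk (φ : M →ₗ[R] M') : lmap b φ ∘ₗ mk b M = mk b M' ∘ₗ φ :=
  IsLocalizedModule.map_comp _ _ _ φ

theorem lmap_injective (φ : M →ₗ[R] M') (h : Function.Injective φ) :
    Function.Injective (lmap b φ) :=
  IsLocalizedModule.map_injective _ _ _ φ h

theorem lmap_surjective (φ : M →ₗ[R] M') (h : Function.Surjective φ) :
    Function.Surjective (lmap b φ) :=
  IsLocalizedModule.map_surjective _ _ _ φ h

theorem lmap_exact (f : M →ₗ[R] M') (g : M' →ₗ[R] M'') (h : Function.Exact f g) :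
    Function.Exact (lmap b f) (lmap b g) :=
  IsLocalizedModule.map_exact _ _ _ _ f g h

end loc

section maps
variable (i : ℕ) (M : Type u) [AddCommGroup M] [Module R M]

/-- the comparison map `H^i_{a+Rb}(M) → H^i_a(M)`. -/
noncomputable abbrev ψ : LocCoh.H (a ⊔ Ideal.span {b}) i M →ₗ[R] LocCoh.H a i M :=
  cmp (le_sup_left : a ≤ a ⊔ Ideal.span {b}) i M

/-- the localization map `H^i_a(M) → H^i_a(M_b)`. -/
noncomputable abbrev lam : LocCoh.H a i M →ₗ[R] LocCoh.H a i (Loc b M) :=
  Hmap a (mk b M) i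

variable {M} {M' : Type u} [AddCommGroup M'] [Module R M']

theorem lam_natural (φ : M →ₗ[R] M') (y : LocCoh.H a i M) :
    Hmap a (lmap b φ) i (lam a b i M y) = lam a b i M' (Hmap a φ i y) := by
  rw [← Hmap_comp, ← Hmap_comp, lmap_comp_mk]

theorem ψ_natural (φ : M →ₗ[R] M') (y : LocCoh.H (a ⊔ Ideal.span {b}) i M) :
    ψ a b i M' (Hmap _ φ i y) = Hmap a φ i (ψ a b i M y) :=
  cmp_Hmap _ φ i y

end maps

section ses
variable {M₁ M₂ M₃ : Type u} [AddCommGroup M₁] [Module R M₁] [AddCommGroup M₂] [Module R M₂]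
  [AddCommGroup M₃] [Module R M₃] (f : M₁ →ₗ[R] M₂) (g : M₂ →ₗ[R] M₃)
  (hf : Function.Injective f) (hfg : Function.Exact f g) (hg : Function.Surjective g)

theorem lam_Hδ (i : ℕ) (y : LocCoh.H a i M₃) :
    Hδ a (lmap b f) (lmap b g) (lmap_injective b f hf) (lmap_exact b f g hfg)
      (lmap_surjective b g hg) i (lam a b i M₃ y) =
      lam a b (i + 1) M₁ (Hδ a f g hf hfg hg i y) :=
  Hδ_naturality a f g hf hfg hg (lmap b f) (lmap b g) (lmap_injective b f hf)
    (lmap_exact b f g hfg) (lmap_surjective b g hg) (mk b M₁) (mk b M₂) (mk b M₃)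
    (lmap_comp_mk b f) (lmap_comp_mk b g) i y

theorem ψ_Hδ (i : ℕ) (y : LocCoh.H (a ⊔ Ideal.span {b}) i M₃) :
    ψ a b (i + 1) M₁ (Hδ _ f g hf hfg hg i y) = Hδ a f g hf hfg hg i (ψ a b i M₃ y) :=
  cmp_Hδ _ f g hf hfg hg i y

end ses

section zero
variable (M : Type u) [AddCommGroup M] [Module R M]

/-- exactness in degree `0`. -/
theorem exact_zero : Function.Exact (ψ a b 0 M) (lam a b 0 M) := by
  intro y
  constructor
  · intro hy
    have h1 : mk b M (toGamma a M y : M) = 0 := by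
      rw [← toGamma_Hmap a (mk b M) y]
      change ((toGamma a (Loc b M) (lam a b 0 M y) : DRing.torsionSub a (Loc b M)) : Loc b M) = 0
      rw [hy, map_zero]
      rfl
    have h2 : (toGamma a M y : M) ∈ DRing.torsionSub (Ideal.span {b}) M := by
      rw [← ker_mk]
      exact h1
    have h3 : (toGamma a M y : M) ∈ DRing.torsionSub (a ⊔ Ideal.span {b}) M :=
      (Groth.Agent.Lib.LocCohCdSup.mem_torsionSub_sup_iff a (Ideal.span {b}) _).2
        ⟨(toGamma a M y).2, h2⟩
    obtain ⟨v, hv⟩ := toGamma_surjective (a ⊔ Ideal.span {b}) M ⟨_, h3⟩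
    refine ⟨v, ?_⟩
    apply toGamma_injective a M
    apply Subtype.ext
    rw [toGamma_cmp, hv]
  · rintro ⟨v, rfl⟩
    apply toGamma_injective a (Loc b M)
    apply Subtype.ext
    rw [map_zero]
    change ((toGamma a (Loc b M) (Hmap a (mk b M) 0 (ψ a b 0 M v)) :
      DRing.torsionSub a (Loc b M)) : Loc b M) = 0
    rw [toGamma_Hmap, toGamma_cmp]
    have h1 := ((Groth.Agent.Lib.LocCohCdSup.mem_torsionSub_sup_iff a (Ideal.span {b}) _).1
      (toGamma (a ⊔ Ideal.span {b}) M v).2).2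
    rw [← ker_mk] at h1
    exact h1

end zero

variable [IsNoetherianRing R]

/-- `lam` is surjective on injective modules. -/
theorem lam_surjective_of_injective (E : Type u) [AddCommGroup E] [Module R E]
    (hE : Module.Injective R E) (i : ℕ) : Function.Surjective (lam a b i E) := by
  rcases Nat.eq_zero_or_pos i with rfl | hi
  · intro z
    obtain ⟨e, he, hez⟩ := gamma_mk_surjective b E a hE
      (toGamma a (Loc b E) z : Loc b E) (toGamma a (Loc b E) z).2
    obtain ⟨w, hw⟩ := toGamma_surjective a E ⟨e, he⟩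
    refine ⟨w, ?_⟩
    apply toGamma_injective a (Loc b E)
    apply Subtype.ext
    change ((toGamma a (Loc b E) (Hmap a (mk b E) 0 w) : DRing.torsionSub a (Loc b E)) :
      Loc b E) = _
    rw [toGamma_Hmap, hw]
    exact hez
  · have := subsingleton_H_localized b E a hE i hi
    intro z
    exact ⟨0, Subsingleton.elim _ _⟩

/-- exactness of `H^i_{a+Rb}(M) → H^i_a(M) → H^i_a(M_b)`. -/
theorem exact_ψ_lam : ∀ (i : ℕ) (M : Type u) [AddCommGroup M] [Module R M],
    Function.Exact (ψ a b i M) (lam a b i M) := by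
  intro i
  induction i with
  | zero => exact fun M _ _ => exact_zero a b M
  | succ i ih =>
    intro M _ _
    obtain ⟨E, _, _, f, hf, hE⟩ := Groth.Agent.S0299.exists_injective_embedding R M
    let g := (LinearMap.range f).mkQ
    have hg : Function.Surjective g := Submodule.mkQ_surjective _
    have hfg : Function.Exact f g := LinearMap.exact_map_mkQ_range f
    have hcE : Subsingleton (LocCoh.H (a ⊔ Ideal.span {b}) (i + 1) E) :=
      subsingleton_H_of_injective _ E hE (i + 1) (Nat.succ_pos i)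
    have haE : Subsingleton (LocCoh.H a (i + 1) E) :=
      subsingleton_H_of_injective _ E hE (i + 1) (Nat.succ_pos i)
    intro x
    constructor
    · intro hx
      obtain ⟨y, rfl⟩ := (exact₁ a f g hf hfg hg i x).1 (Subsingleton.elim _ _)
      have h1 : Hδ a (lmap b f) (lmap b g) (lmap_injective b f hf) (lmap_exact b f g hfg)
          (lmap_surjective b g hg) i (lam a b i _ y) = 0 := by
        rw [lam_Hδ]
        exact hx
      obtain ⟨z, hz⟩ := (exact₃ a (lmap b f) (lmap b g) (lmap_injective b f hf)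
        (lmap_exact b f g hfg) (lmap_surjective b g hg) i _).1 h1
      obtain ⟨w, rfl⟩ := lam_surjective_of_injective a b E hE i z
      have h2 : lam a b i _ (y - Hmap a g i w) = 0 := by
        rw [map_sub, ← lam_natural, hz, sub_self]
      obtain ⟨u, hu⟩ := (ih _ _).1 h2
      refine ⟨Hδ _ f g hf hfg hg i u, ?_⟩
      rw [ψ_Hδ, hu, map_sub]
      have h3 : Hδ a f g hf hfg hg i (Hmap a g i w) = 0 :=
        (exact₃ a f g hf hfg hg i _).2 ⟨w, rfl⟩
      rw [h3, sub_zero]
    · rintro ⟨v, rfl⟩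
      obtain ⟨u, rfl⟩ := (exact₁ _ f g hf hfg hg i v).1 (Subsingleton.elim _ _)
      rw [ψ_Hδ, ← lam_Hδ]
      have h1 : lam a b i _ (ψ a b i _ u) = 0 := (ih _ _).2 ⟨u, rfl⟩
      rw [h1, map_zero]

/-- the connecting map: existence with exactness properties. -/
theorem exists_conn : ∀ (i : ℕ) (M : Type u) [AddCommGroup M] [Module R M],
    ∃ d : LocCoh.H a i (Loc b M) →ₗ[R] LocCoh.H (a ⊔ Ideal.span {b}) (i + 1) M,
      LinearMap.ker d = LinearMap.range (lam a b i M) ∧
      LinearMap.range d = LinearMap.ker (ψ a b (i + 1) M) := by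
  intro i
  induction i with
  | zero =>
    intro M _ _
    obtain ⟨E, _, _, f, hf, hE⟩ := Groth.Agent.S0299.exists_injective_embedding R M
    let g := (LinearMap.range f).mkQ
    have hg : Function.Surjective g := Submodule.mkQ_surjective _
    have hfg : Function.Exact f g := LinearMap.exact_map_mkQ_range f
    have hcE : Subsingleton (LocCoh.H (a ⊔ Ideal.span {b}) (0 + 1) E) :=
      subsingleton_H_of_injective _ E hE (0 + 1) (Nat.succ_pos 0)
    have hgf : g ∘ₗ f = 0 := by
      ext x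
      exact hfg.apply_apply_eq_zero x
    have hlgf : lmap b g ∘ₗ lmap b f = 0 := by
      ext x
      exact (lmap_exact b f g hfg).apply_apply_eq_zero x
    -- the relation
    let P : Submodule R (LocCoh.H a 0 (Loc b M) × LocCoh.H a 0 E ×
        LocCoh.H (a ⊔ Ideal.span {b}) 0 (E ⧸ LinearMap.range f)) :=
      { carrier := {p | Hmap a (lmap b f) 0 p.1 = lam a b 0 E p.2.1 ∧
          Hmap a g 0 p.2.1 = ψ a b 0 _ p.2.2}
        add_mem' := by
          rintro p q ⟨hp1, hp2⟩ ⟨hq1, hq2⟩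
          exact ⟨by simp only [Prod.fst_add, Prod.snd_add, map_add, hp1, hq1],
            by simp only [Prod.fst_add, Prod.snd_add, map_add, hp2, hq2]⟩
        zero_mem' := ⟨by simp, by simp⟩
        smul_mem' := by
          rintro r p ⟨hp1, hp2⟩
          exact ⟨by simp only [Prod.smul_fst, Prod.smul_snd, map_smul, hp1],
            by simp only [Prod.smul_fst, Prod.smul_snd, map_smul, hp2]⟩ }
    let π : ↥P →ₗ[R] LocCoh.H a 0 (Loc b M) := (LinearMap.fst R _ _) ∘ₗ P.subtype
    let ρ : ↥P →ₗ[R] LocCoh.H (a ⊔ Ideal.span {b}) (0 + 1) M :=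
      Hδ _ f g hf hfg hg 0 ∘ₗ (LinearMap.snd R _ _) ∘ₗ (LinearMap.snd R _ _) ∘ₗ P.subtype
    have hπ : Function.Surjective π := by
      intro z
      obtain ⟨w, hw⟩ := lam_surjective_of_injective a b E hE 0 (Hmap a (lmap b f) 0 z)
      have h1 : lam a b 0 _ (Hmap a g 0 w) = 0 := by
        rw [← lam_natural, hw, ← Hmap_comp, hlgf, Hmap_zero]
      obtain ⟨u, hu⟩ := (exact_zero a b _ _).1 h1
      exact ⟨⟨(z, w, u), ⟨hw.symm, hu.symm⟩⟩, rfl⟩
    have hle : LinearMap.ker π ≤ LinearMap.ker ρ := by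
      rintro ⟨⟨z, w, u⟩, ⟨hp1, hp2⟩⟩ hz
      have hz0 : z = 0 := hz
      subst hz0
      have h1 : lam a b 0 E w = 0 := by rw [← hp1, map_zero]
      obtain ⟨u₀, rfl⟩ := (exact_zero a b E w).1 h1
      have h2 : u = Hmap _ g 0 u₀ := by
        apply cmp_zero_injective (le_sup_left : a ≤ a ⊔ Ideal.span {b})
        rw [← hp2]
        exact (ψ_natural a b 0 g u₀).symm
      change Hδ _ f g hf hfg hg 0 u = 0
      rw [h2]
      exact (exact₃ _ f g hf hfg hg 0 _).2 ⟨u₀, rfl⟩
    obtain ⟨d, hd⟩ := exists_factor_of_surjective π hπ ρ hle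
    refine ⟨d, ?_, ?_⟩
    · ext z
      rw [LinearMap.mem_ker, LinearMap.mem_range]
      constructor
      · intro hz
        obtain ⟨⟨⟨z', w, u⟩, ⟨hp1, hp2⟩⟩, hpz⟩ := hπ z
        have hz' : z' = z := hpz
        subst hz'
        have h1 : Hδ _ f g hf hfg hg 0 u = 0 := by
          have := hd ⟨(z', w, u), ⟨hp1, hp2⟩⟩
          rw [← hz]
          exact this.symm
        obtain ⟨uE, rfl⟩ := (exact₃ _ f g hf hfg hg 0 u).1 h1
        have h2 : Hmap a g 0 (w - ψ a b 0 E uE) = 0 := by
          rw [map_sub, hp2, ← ψ_natural, sub_self]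
        obtain ⟨x, hx⟩ := (exact₂ a f g hfg hf hg 0 _).1 h2
        refine ⟨x, ?_⟩
        apply Hmap_zero_injective a (lmap b f) (lmap_injective b f hf)
        rw [lam_natural, hx, map_sub, hp1]
        have h3 : lam a b 0 E (ψ a b 0 E uE) = 0 := (exact_zero a b E _).2 ⟨uE, rfl⟩
        rw [h3, sub_zero]
      · rintro ⟨x, rfl⟩
        have hmem : ((lam a b 0 M x, Hmap a f 0 x, (0 : LocCoh.H (a ⊔ Ideal.span {b}) 0
            (E ⧸ LinearMap.range f))) : _ × _ × _) ∈ P := by
          refine ⟨lam_natural a b 0 f x, ?_⟩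
          change Hmap a g 0 (Hmap a f 0 x) = ψ a b 0 _ 0
          rw [← Hmap_comp, hgf, Hmap_zero, map_zero]
        have := hd ⟨_, hmem⟩
        change d (lam a b 0 M x) = Hδ _ f g hf hfg hg 0 0 at this
        rw [this, map_zero]
    · ext v
      rw [LinearMap.mem_ker, LinearMap.mem_range]
      constructor
      · rintro ⟨z, rfl⟩
        obtain ⟨⟨⟨z', w, u⟩, ⟨hp1, hp2⟩⟩, hpz⟩ := hπ z
        have hz' : z' = z := hpz
        subst hz'
        have h1 : d z' = Hδ _ f g hf hfg hg 0 u := hd ⟨(z', w, u), ⟨hp1, hp2⟩⟩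
        rw [h1, ψ_Hδ, ← hp2]
        exact (exact₃ a f g hf hfg hg 0 _).2 ⟨w, rfl⟩
      · intro hv
        obtain ⟨u, rfl⟩ := (exact₁ _ f g hf hfg hg 0 v).1 (Subsingleton.elim _ _)
        rw [ψ_Hδ] at hv
        obtain ⟨w, hw⟩ := (exact₃ a f g hf hfg hg 0 _).1 hv
        have h1 : Hmap a (lmap b g) 0 (lam a b 0 E w) = 0 := by
          rw [lam_natural, hw]
          exact (exact_zero a b _ _).2 ⟨u, rfl⟩
        obtain ⟨z, hz⟩ := (exact₂ a (lmap b f) (lmap b g) (lmap_exact b f g hfg)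
          (lmap_injective b f hf) (lmap_surjective b g hg) 0 _).1 h1
        refine ⟨z, ?_⟩
        exact hd ⟨(z, w, u), ⟨hz, hw⟩⟩
  | succ i ih =>
    intro M _ _
    obtain ⟨E, _, _, f, hf, hE⟩ := Groth.Agent.S0299.exists_injective_embedding R M
    let g := (LinearMap.range f).mkQ
    have hg : Function.Surjective g := Submodule.mkQ_surjective _
    have hfg : Function.Exact f g := LinearMap.exact_map_mkQ_range f
    have hcE1 : Subsingleton (LocCoh.H (a ⊔ Ideal.span {b}) (i + 1) E) :=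
      subsingleton_H_of_injective _ E hE (i + 1) (Nat.succ_pos i)
    have hcE2 : Subsingleton (LocCoh.H (a ⊔ Ideal.span {b}) (i + 1 + 1) E) :=
      subsingleton_H_of_injective _ E hE (i + 1 + 1) (Nat.succ_pos _)
    have haE1 : Subsingleton (LocCoh.H a (i + 1) E) :=
      subsingleton_H_of_injective _ E hE (i + 1) (Nat.succ_pos i)
    have hLE : Subsingleton (LocCoh.H a (i + 1) (Loc b E)) :=
      subsingleton_H_localized b E a hE (i + 1) (Nat.succ_pos i)
    obtain ⟨d', hd'k, hd'r⟩ := ih (E ⧸ LinearMap.range f)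
    let π : LocCoh.H a i (Loc b (E ⧸ LinearMap.range f)) →ₗ[R] LocCoh.H a (i + 1) (Loc b M) :=
      Hδ a (lmap b f) (lmap b g) (lmap_injective b f hf) (lmap_exact b f g hfg)
        (lmap_surjective b g hg) i
    let ρ : LocCoh.H a i (Loc b (E ⧸ LinearMap.range f)) →ₗ[R]
        LocCoh.H (a ⊔ Ideal.span {b}) (i + 1 + 1) M :=
      Hδ _ f g hf hfg hg (i + 1) ∘ₗ d'
    have hπ : Function.Surjective π := by
      intro z
      exact (exact₁ a (lmap b f) (lmap b g) (lmap_injective b f hf) (lmap_exact b f g hfg)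
        (lmap_surjective b g hg) i z).1 (Subsingleton.elim _ _)
    have hle : LinearMap.ker π ≤ LinearMap.ker ρ := by
      intro z' hz'
      obtain ⟨zE, rfl⟩ := (exact₃ a (lmap b f) (lmap b g) (lmap_injective b f hf)
        (lmap_exact b f g hfg) (lmap_surjective b g hg) i z').1 hz'
      obtain ⟨w, rfl⟩ := lam_surjective_of_injective a b E hE i zE
      have h1 : Hmap a (lmap b g) i (lam a b i E w) ∈ LinearMap.ker d' := by
        rw [hd'k, lam_natural]
        exact ⟨_, rfl⟩
      rw [LinearMap.mem_ker, LinearMap.comp_apply, LinearMap.mem_ker.1 h1, map_zero]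
    obtain ⟨d, hd⟩ := exists_factor_of_surjective π hπ ρ hle
    refine ⟨d, ?_, ?_⟩
    · ext z
      rw [LinearMap.mem_ker, LinearMap.mem_range]
      constructor
      · intro hz
        obtain ⟨z', rfl⟩ := hπ z
        rw [hd] at hz
        obtain ⟨uE, huE⟩ := (exact₃ _ f g hf hfg hg (i + 1) _).1 hz
        have h1 : d' z' = 0 := by rw [← huE, Subsingleton.elim uE 0, map_zero]
        have h2 : z' ∈ LinearMap.range (lam a b i (E ⧸ LinearMap.range f)) := by
          rw [← hd'k]
          exact h1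
        obtain ⟨y', rfl⟩ := h2
        exact ⟨Hδ a f g hf hfg hg i y', (lam_Hδ a b f g hf hfg hg i y').symm⟩
      · rintro ⟨x, rfl⟩
        obtain ⟨y', rfl⟩ := (exact₁ a f g hf hfg hg i x).1 (Subsingleton.elim _ _)
        rw [← lam_Hδ]
        change d (π (lam a b i _ y')) = 0
        rw [hd]
        have h1 : lam a b i _ y' ∈ LinearMap.ker d' := by
          rw [hd'k]
          exact ⟨_, rfl⟩
        change Hδ _ f g hf hfg hg (i + 1) (d' (lam a b i _ y')) = 0
        rw [LinearMap.mem_ker.1 h1, map_zero]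
    · ext v
      rw [LinearMap.mem_ker, LinearMap.mem_range]
      constructor
      · rintro ⟨z, rfl⟩
        obtain ⟨z', rfl⟩ := hπ z
        rw [hd]
        change ψ a b (i + 1 + 1) M (Hδ _ f g hf hfg hg (i + 1) (d' z')) = 0
        rw [ψ_Hδ]
        have h1 : d' z' ∈ LinearMap.ker (ψ a b (i + 1) (E ⧸ LinearMap.range f)) := by
          rw [← hd'r]
          exact ⟨_, rfl⟩
        rw [LinearMap.mem_ker.1 h1, map_zero]
      · intro hv
        obtain ⟨u', rfl⟩ := (exact₁ _ f g hf hfg hg (i + 1) v).1 (Subsingleton.elim _ _)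
        rw [ψ_Hδ] at hv
        obtain ⟨w, hw⟩ := (exact₃ a f g hf hfg hg (i + 1) _).1 hv
        have h1 : ψ a b (i + 1) _ u' = 0 := by
          rw [← hw, Subsingleton.elim w 0, map_zero]
        have h2 : u' ∈ LinearMap.range d' := by
          rw [hd'r]
          exact h1
        obtain ⟨z', rfl⟩ := h2
        exact ⟨π z', hd z'⟩

/-- `coker (H^i_a(M) → H^i_a(M_b)) ≃ ker (H^{i+1}_{a+Rb}(M) → H^{i+1}_a(M))`. -/
theorem nonempty_cokerEquiv (i : ℕ) (M : Type u) [AddCommGroup M] [Module R M] :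
    Nonempty ((LocCoh.H a i (Loc b M) ⧸ LinearMap.range (lam a b i M)) ≃ₗ[R]
      LinearMap.ker (ψ a b (i + 1) M)) := by
  obtain ⟨d, hk, hr⟩ := exists_conn a b i M
  exact ⟨(Submodule.quotEquivOfEq _ _ hk.symm).trans
    (d.quotKerEquivRange.trans (LinearEquiv.ofEq _ _ hr))⟩

end Groth.Agent.Lib.LocCohSupSpan
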