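import Mathlib.Algebra.Category.ModuleCat.FilteredColimits
import Mathlib.Algebra.Module.LocalizedModule.Basic
import Mathlib.CategoryTheory.Limits.Types.Filtered
import Mathlib.CategoryTheory.Linear.LinearFunctor
import Mathlib.CategoryTheory.ConcreteCategory.EpiMono
import Mathlib.Algebra.Category.ModuleCat.Monoidal.Basic

set_option autoImplicit false
universe u

namespace Groth.Agent.Lib.LocColim

open CategoryTheory CategoryTheory.Limits

variable {A : Type u} [CommRing A] (S : Submonoid A)

/-- The index category for the localization colimit: objects `s ∈ S`, morphisms `s ⟶ t` are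
`u ∈ S` with `u * s = t`. -/
structure SCat (S : Submonoid A) : Type u where
  s : S

instance : SmallCategory (SCat S) where
  Hom x y := {u : S // u * x.s = y.s}
  id x := ⟨1, one_mul _⟩
  comp f g := ⟨g.1 * f.1, by rw [mul_assoc, f.2, g.2]⟩
  id_comp f := Subtype.ext (mul_one _)
  comp_id f := Subtype.ext (one_mul _)
  assoc f g h := Subtype.ext (mul_assoc _ _ _).symm

instance : IsFiltered (SCat S) where
  cocone_objs x y := ⟨⟨x.s * y.s⟩, ⟨y.s, mul_comm _ _⟩, ⟨x.s, rfl⟩, trivial⟩
  cocone_maps {x y} f g := ⟨⟨x.s * y.s⟩, ⟨x.s, rfl⟩, Subtype.ext (by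
    show x.s * f.1 = x.s * g.1
    rw [mul_comm, f.2, mul_comm, g.2])⟩
  nonempty := ⟨⟨1⟩⟩

variable (M : ModuleCat.{u} A)

/-- The diagram `s ↦ M` with transition maps multiplication by `u`. -/
def diag : SCat S ⥤ ModuleCat.{u} A where
  obj _ := M
  map f := ((f.1 : S) : A) • 𝟙 M
  map_id x := by
    show ((1 : S) : A) • 𝟙 M = 𝟙 M
    simp
  map_comp {x y z} f g := by
    show ((g.1 * f.1 : S) : A) • 𝟙 M = (((f.1 : S) : A) • 𝟙 M) ≫ (((g.1 : S) : A) • 𝟙 M)
    rw [Linear.smul_comp, Linear.comp_smul, Category.comp_id, smul_smul, mul_comm]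
    simp

@[simp] theorem diag_obj (x : SCat S) : (diag S M).obj x = M := rfl

theorem diag_map_apply {x y : SCat S} (f : x ⟶ y) (m : M) :
    ((diag S M).map f).hom m = ((f.1 : S) : A) • m := rfl

/-- The map `m ↦ m / s`. -/
noncomputable def divMap (s : S) : M →ₗ[A] LocalizedModule S M :=
  LocalizedModule.divBy s ∘ₗ LocalizedModule.mkLinearMap S M

theorem divMap_apply (s : S) (m : M) : divMap S M s m = LocalizedModule.mk m s := by
  show LocalizedModule.divBy s (LocalizedModule.mk m 1) = _
  rw [LocalizedModule.divBy_apply, LocalizedModule.liftOn_mk, one_mul]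

/-- The cocone with point `S⁻¹M`. -/
noncomputable def cocone : Cocone (diag S M) where
  pt := ModuleCat.of A (LocalizedModule S M)
  ι :=
    { app := fun x => ModuleCat.ofHom (divMap S M x.s)
      naturality := fun x y f => by
        ext m
        show divMap S M y.s (((f.1 : S) : A) • (show M from m)) = divMap S M x.s (show M from m)
        rw [divMap_apply, divMap_apply]
        have h := LocalizedModule.mk_cancel_common_left f.1 x.s (show M from m)
        rw [f.2] at h
        exact h }

theorem cocone_ι_apply (x : SCat S) (m : M) :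
    ((cocone S M).ι.app x).hom m = LocalizedModule.mk m x.s := divMap_apply S M x.s m

/-- The cocone is a colimit cocone. -/
noncomputable def isColimitCocone : IsColimit (cocone S M) := by
  refine isColimitOfReflects (forget (ModuleCat.{u} A)) ?_
  refine Types.FilteredColimit.isColimitOf _ _ ?_ ?_
  · intro x
    induction x using LocalizedModule.induction_on with
    | h m s => exact ⟨⟨s⟩, m, (cocone_ι_apply S M ⟨s⟩ m).symm⟩
  · intro i j xi xj h
    let mi : M := xi
    let mj : M := xj
    have h' : LocalizedModule.mk mi i.s = LocalizedModule.mk mj j.s := by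
      rw [← cocone_ι_apply, ← cocone_ι_apply]
      exact h
    obtain ⟨u, hu⟩ := LocalizedModule.mk_eq.mp h'
    refine ⟨⟨u * j.s * i.s⟩, ⟨u * j.s, rfl⟩, ⟨u * i.s, by rw [mul_assoc, mul_assoc, mul_comm i.s]⟩, ?_⟩
    show ((u * j.s : S) : A) • mi = ((u * i.s : S) : A) • mj
    rw [← Submonoid.smul_def, ← Submonoid.smul_def, mul_smul, mul_smul]
    exact hu

theorem divMap_one : divMap S M 1 = LocalizedModule.mkLinearMap S M := by
  ext m
  rw [divMap_apply]
  rfl

theorem smul_divMap (s : S) : ((s : S) : A) • divMap S M s = LocalizedModule.mkLinearMap S M := by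
  ext m
  rw [LinearMap.smul_apply, divMap_apply, LocalizedModule.smul'_mk, ← Submonoid.smul_def,
    LocalizedModule.mk_cancel]
  rfl

variable (T : ModuleCat.{u} A ⥤ ModuleCat.{u} A) [T.Linear A]

theorem map_smul_id_apply (a : A) (N : ModuleCat.{u} A) (x : T.obj N) :
    (T.map (a • 𝟙 N)).hom x = a • x := by
  rw [Functor.map_smul, T.map_id]
  rfl

/-- `T(M) → T(S⁻¹M)` is a localization when `T` is linear and commutes with the filtered colimit
computing `S⁻¹M`. -/
theorem isLocalizedModule_map [PreservesColimitsOfShape (SCat S) T] :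
    IsLocalizedModule S (T.map (ModuleCat.ofHom (LocalizedModule.mkLinearMap S M) :
      M ⟶ ModuleCat.of A (LocalizedModule S M))).hom := by
  have hc : IsColimit (T.mapCocone (cocone S M)) := isColimitOfPreserves T (isColimitCocone S M)
  have hc' : IsColimit ((forget (ModuleCat.{u} A)).mapCocone (T.mapCocone (cocone S M))) :=
    isColimitOfPreserves (forget _) hc
  have hleg : ∀ s : S, ((s : S) : A) • T.map ((cocone S M).ι.app ⟨s⟩) =
      T.map (ModuleCat.ofHom (LocalizedModule.mkLinearMap S M)) := by
    intro s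
    rw [← Functor.map_smul]
    congr 1
    ext m
    exact LinearMap.congr_fun (smul_divMap S M s) m
  refine ⟨?_, ?_, ?_⟩
  · intro s
    rw [Module.End.isUnit_iff]
    let N : ModuleCat.{u} A := ModuleCat.of A (LocalizedModule S M)
    have hiso : IsIso (((s : S) : A) • 𝟙 N) := by
      rw [ConcreteCategory.isIso_iff_bijective]
      exact (Module.End.isUnit_iff _).mp
        (IsLocalizedModule.map_units (LocalizedModule.mkLinearMap S M) s)
    have : IsIso (T.map (((s : S) : A) • 𝟙 N)) := inferInstance
    have hb := (ConcreteCategory.isIso_iff_bijective _).mp this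
    convert hb using 1
    ext x
    exact (map_smul_id_apply T _ N x).symm
  · intro y
    obtain ⟨j, x, hx⟩ := Types.jointly_surjective _ hc' y
    let x' : T.obj M := x
    refine ⟨(x', j.s), ?_⟩
    have h1 : (((j.s : S) : A) • T.map ((cocone S M).ι.app ⟨j.s⟩)).hom x' =
        (T.map (ModuleCat.ofHom (LocalizedModule.mkLinearMap S M))).hom x' :=
      congrArg (fun f => f.hom x') (hleg j.s)
    show j.s • y = (T.map (ModuleCat.ofHom (LocalizedModule.mkLinearMap S M))).hom x'
    rw [← h1]
    show j.s • y = ((j.s : S) : A) • (T.map ((cocone S M).ι.app ⟨j.s⟩)).hom x'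
    rw [Submonoid.smul_def]
    congr 1
    exact hx.symm
  · intro x₁ x₂ h
    have h1 : (cocone S M).ι.app ⟨1⟩ = ModuleCat.ofHom (LocalizedModule.mkLinearMap S M) := by
      show ModuleCat.ofHom (divMap S M 1) = _
      rw [divMap_one]
    rw [← h1] at h
    obtain ⟨k, f, g, hfg⟩ := (Types.FilteredColimit.isColimit_eq_iff _ hc'
      (i := ⟨1⟩) (j := ⟨1⟩) (xi := x₁) (xj := x₂)).mp h
    have hf : f.1 = k.s := (mul_one _).symm.trans f.2
    have hg : g.1 = k.s := (mul_one _).symm.trans g.2
    refine ⟨k.s, ?_⟩
    have e1 : (T.map ((diag S M).map f)).hom x₁ = ((f.1 : S) : A) • x₁ :=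
      map_smul_id_apply T _ M x₁
    have e2 : (T.map ((diag S M).map g)).hom x₂ = ((g.1 : S) : A) • x₂ :=
      map_smul_id_apply T _ M x₂
    rw [hf] at e1
    rw [hg] at e2
    rw [Submonoid.smul_def, Submonoid.smul_def, ← e1, ← e2]
    exact hfg

end Groth.Agent.Lib.LocColim
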