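import Mathlib.RingTheory.Bialgebra.MonoidAlgebra
import Mathlib.RingTheory.Spectrum.Prime.Topology
import Mathlib.LinearAlgebra.Matrix.GeneralLinearGroup.Defs
import Mathlib.LinearAlgebra.Matrix.SchurComplement
import Mathlib.LinearAlgebra.Matrix.Transvection
import Mathlib.RingTheory.AdjoinRoot
import Mathlib.Algebra.Polynomial.Laurent
import Mathlib.Data.Matrix.PEquiv
import Mathlib.LinearAlgebra.Matrix.Permutation

/-!
# Natural characters of `GL_n` over a ring with connected spectrum (helper38)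

Mathlib-only.

* `eq_zero_or_one_of_isIdempotentElem`: idempotents of a ring with connected spectrum;
* `exists_eq_single_of_isGroupLikeElem`: group-like elements of `R[ℤ]` are the monomials `T^m`;
* `exists_zpow_of_natural`: natural endomorphisms of the unit group functor are power maps;
* `NatChar R ι`: natural characters of `GL_ι` on `R`-algebras; `NatChar.hom_uU`, `NatChar.hom_lL`
  (trivial on block unitriangular elements, via the commutator trick over `B[a]/(a²-a-1)`),
  `NatChar.hom_eq_one_of_pivot`, `NatChar.hom_eq_one_of_block`, `NatChar.reindex`, `NatChar.block`;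
* `NatChar.hom_eq_one`: natural characters of `GL_ι` which are trivial on diagonal matrices are trivial;
* `NatChar.exists_det_zpow`: over connected `Spec R`, every natural character of `GL_ι` (`ι` nonempty)
  is a power of the determinant;
* `tU_zpow`, `tU_zpow_injective`: powers of the universal unit of `R[ℤ]`.
-/

set_option autoImplicit false
set_option linter.unusedSectionVars false
set_option linter.unusedSimpArgs false
universe u v
open TensorProduct

namespace Groth.Agent.Lib.NatCharGL38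

section Idem
variable {R : Type*} [CommRing R]

theorem eq_zero_of_isIdempotentElem_of_isNilpotent {e : R} (he : IsIdempotentElem e)
    (hn : IsNilpotent e) : e = 0 := by
  obtain ⟨n, hn⟩ := hn
  rcases n with _ | n
  · rw [pow_zero] at hn
    rw [← mul_one e, hn, mul_zero]
  · rw [he.pow_succ_eq] at hn
    exact hn

theorem eq_zero_or_one_of_isIdempotentElem [ConnectedSpace (PrimeSpectrum R)] {e : R}
    (he : IsIdempotentElem e) : e = 0 ∨ e = 1 := by
  have hcl : IsClopen ((PrimeSpectrum.basicOpen e : TopologicalSpace.Opens (PrimeSpectrum R)) :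
      Set (PrimeSpectrum R)) := PrimeSpectrum.isClopen_iff.2 ⟨e, he, rfl⟩
  rcases isClopen_iff.1 hcl with h | h
  · left
    apply eq_zero_of_isIdempotentElem_of_isNilpotent he
    rw [← PrimeSpectrum.basicOpen_eq_bot_iff]
    exact TopologicalSpace.Opens.ext h
  · right
    have h2 : IsNilpotent (1 - e) := by
      rw [← PrimeSpectrum.basicOpen_eq_bot_iff]
      apply TopologicalSpace.Opens.ext
      rw [PrimeSpectrum.basicOpen_eq_zeroLocus_of_isIdempotentElem _ he.one_sub, sub_sub_cancel]
      rw [TopologicalSpace.Opens.coe_bot, Set.eq_empty_iff_forall_notMem]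
      intro p hp
      have hp' : e ∈ p.asIdeal := by simpa using hp
      have hpe : p ∈ ((PrimeSpectrum.basicOpen e : TopologicalSpace.Opens (PrimeSpectrum R)) :
          Set (PrimeSpectrum R)) := by rw [h]; trivial
      exact hpe hp'
    have := eq_zero_of_isIdempotentElem_of_isNilpotent he.one_sub h2
    exact (sub_eq_zero.1 this).symm

end Idem

section GroupLike
variable {R : Type u} [CommRing R]

/-- the coefficient functional -/
noncomputable def cf (i : ℤ) : AddMonoidAlgebra R ℤ →ₗ[R] R :=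
  Finsupp.lapply i ∘ₗ (AddMonoidAlgebra.coeffLinearEquiv R).toLinearMap

theorem cf_apply (i : ℤ) (a : AddMonoidAlgebra R ℤ) : cf i a = a.coeff i := rfl

theorem cf_single (i j : ℤ) (c : R) :
    cf i (AddMonoidAlgebra.single j c : AddMonoidAlgebra R ℤ) = if j = i then c else 0 := by
  rw [cf_apply, AddMonoidAlgebra.coeff_single]
  exact Finsupp.single_apply

theorem comul_single' (j : ℤ) (c : R) :
    CoalgebraStruct.comul (R := R) (AddMonoidAlgebra.single j c : AddMonoidAlgebra R ℤ) =
      AddMonoidAlgebra.single j c ⊗ₜ[R] AddMonoidAlgebra.single j 1 := by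
  rw [AddMonoidAlgebra.comul_single]
  simp only [CommSemiring.comul_apply, TensorProduct.map_tmul, AddMonoidAlgebra.lsingle_apply]
  have h : (AddMonoidAlgebra.single j c : AddMonoidAlgebra R ℤ) = c • AddMonoidAlgebra.single j 1 := by
    rw [AddMonoidAlgebra.smul_single, smul_eq_mul, mul_one]
  rw [h, TensorProduct.tmul_smul, TensorProduct.smul_tmul']

/-- `(c_i ⊗ c_j) ∘ Δ = δ_ij c_i` -/
theorem cf_cf_comul (i j : ℤ) (a : AddMonoidAlgebra R ℤ) :
    TensorProduct.lid R R (TensorProduct.map (cf i) (cf j) (CoalgebraStruct.comul (R := R) a)) =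
      if i = j then cf i a else 0 := by
  induction a using AddMonoidAlgebra.induction_linear with
  | zero => simp
  | add a b ha hb =>
    rw [map_add, map_add, map_add, ha, hb]
    split_ifs <;> simp
  | single l c =>
    rw [comul_single', TensorProduct.map_tmul, TensorProduct.lid_tmul]
    simp only [cf_single]
    by_cases h1 : l = i
    · by_cases h2 : l = j
      · have : i = j := h1.symm.trans h2
        simp [h1, h2, this]
      · have : ¬ i = j := fun h => h2 (h1.trans h)
        simp [h1, h2, this]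
    · simp [h1]

theorem counit_eq_sum (a : AddMonoidAlgebra R ℤ) :
    CoalgebraStruct.counit (R := R) a = a.coeff.sum fun _ c => c := by
  induction a using AddMonoidAlgebra.induction_linear with
  | zero => simp
  | add a b ha hb =>
    rw [map_add, ha, hb, AddMonoidAlgebra.coeff_add, Finsupp.sum_add_index'] <;> simp
  | single l c =>
    rw [AddMonoidAlgebra.counit_single, AddMonoidAlgebra.coeff_single, Finsupp.sum_single_index]
    · rfl
    · rfl

/-- group-like elements of `R[ℤ]` over a ring with connected spectrum are the monomials -/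
theorem exists_eq_single_of_isGroupLikeElem [ConnectedSpace (PrimeSpectrum R)]
    {u : AddMonoidAlgebra R ℤ} (hu : IsGroupLikeElem R u) :
    ∃ m : ℤ, u = AddMonoidAlgebra.single m 1 := by
  have hmul : ∀ i j : ℤ, u.coeff i * u.coeff j = if i = j then u.coeff i else 0 := by
    intro i j
    have := cf_cf_comul i j u
    rw [hu.comul_eq_tmul_self, TensorProduct.map_tmul, TensorProduct.lid_tmul, cf_apply, cf_apply,
      smul_eq_mul] at this
    exact this
  have hidem : ∀ i, IsIdempotentElem (u.coeff i) := fun i => by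
    have := hmul i i
    rwa [if_pos rfl] at this
  have hsum : (u.coeff.sum fun _ c => c) = 1 := by
    rw [← counit_eq_sum, hu.counit_eq_one]
  have hnt : Nontrivial R := by
    by_contra h
    rw [not_nontrivial_iff_subsingleton] at h
    have : IsEmpty (PrimeSpectrum R) := inferInstance
    exact (not_isEmpty_of_nonempty (PrimeSpectrum R)) this
  have hex : ∃ m, u.coeff m = 1 := by
    by_contra hno
    push Not at hno
    have h0 : ∀ i, u.coeff i = 0 := fun i =>
      (eq_zero_or_one_of_isIdempotentElem (hidem i)).resolve_right (hno i)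
    have : (u.coeff.sum fun _ c => c) = 0 := by
      rw [Finsupp.sum]
      exact Finset.sum_eq_zero fun i _ => h0 i
    rw [hsum] at this
    exact one_ne_zero this
  obtain ⟨m, hm⟩ := hex
  refine ⟨m, ?_⟩
  have hcoeff : u.coeff = Finsupp.single m 1 := by
    ext i
    rw [Finsupp.single_apply]
    by_cases h : m = i
    · subst h; rw [if_pos rfl, hm]
    · rw [if_neg h]
      have := hmul i m
      rw [hm, mul_one, if_neg (Ne.symm h)] at this
      exact this
  apply AddMonoidAlgebra.coeff_injective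
  rw [hcoeff, AddMonoidAlgebra.coeff_single]

end GroupLike

section Torus
variable (R : Type u) [CommRing R]

/-- the universal unit `T` of `R[ℤ]` -/
noncomputable def tU : (AddMonoidAlgebra R ℤ)ˣ where
  val := AddMonoidAlgebra.single 1 1
  inv := AddMonoidAlgebra.single (-1) 1
  val_inv := by rw [AddMonoidAlgebra.single_mul_single]; simp
  inv_val := by rw [AddMonoidAlgebra.single_mul_single]; simp

variable {R}

/-- evaluation of Laurent polynomials at a unit -/
noncomputable def evB {B : Type*} [CommRing B] [Algebra R B] (b : Bˣ) : AddMonoidAlgebra R ℤ →ₐ[R] B :=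
  AddMonoidAlgebra.lift R B ℤ ((Units.coeHom B).comp (zpowersHom Bˣ b))

theorem evB_single {B : Type*} [CommRing B] [Algebra R B] (b : Bˣ) (n : ℤ) (c : R) :
    evB b (AddMonoidAlgebra.single n c) = c • ((b ^ n : Bˣ) : B) := by
  unfold evB
  rw [AddMonoidAlgebra.lift_single]
  rfl

theorem map_evB_tU {B : Type*} [CommRing B] [Algebra R B] (b : Bˣ) :
    Units.map ((evB (R := R) b : AddMonoidAlgebra R ℤ →ₐ[R] B) : AddMonoidAlgebra R ℤ →* B) (tU R) = b := by
  apply Units.ext
  show evB b (AddMonoidAlgebra.single 1 1) = b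
  rw [evB_single, one_smul, zpow_one]

/-- **Natural endomorphisms of the unit group functor** over a ring with connected spectrum are
the power maps. -/
theorem exists_zpow_of_natural [ConnectedSpace (PrimeSpectrum R)]
    (β : ∀ (B : Type u) [CommRing B] [Algebra R B], Bˣ →* Bˣ)
    (hβ : ∀ (B C : Type u) [CommRing B] [Algebra R B] [CommRing C] [Algebra R C] (φ : B →ₐ[R] C)
      (b : Bˣ), β C (Units.map (φ : B →* C) b) = Units.map (φ : B →* C) (β B b)) :
    ∃ m : ℤ, ∀ (B : Type u) [CommRing B] [Algebra R B] (b : Bˣ), β B b = b ^ m := by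
  let L := AddMonoidAlgebra R ℤ
  let u : Lˣ := β L (tU R)
  have hgl : IsGroupLikeElem R (u : L) := by
    constructor
    · -- counit
      have h1 : Units.map ((Bialgebra.counitAlgHom R L : L →ₐ[R] R) : L →* R) (tU R) = 1 := by
        apply Units.ext
        show CoalgebraStruct.counit (R := R) (AddMonoidAlgebra.single (1 : ℤ) (1 : R)) = 1
        rw [AddMonoidAlgebra.counit_single]
        rfl
      have h2 := hβ L R (Bialgebra.counitAlgHom R L) (tU R)
      rw [h1, map_one] at h2
      have h3 := congrArg Units.val h2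
      exact h3.symm
    · -- comul
      have h1 : Units.map ((Bialgebra.comulAlgHom R L : L →ₐ[R] L ⊗[R] L) : L →* L ⊗[R] L) (tU R) =
          Units.map ((Algebra.TensorProduct.includeLeft : L →ₐ[R] L ⊗[R] L) : L →* L ⊗[R] L) (tU R) *
          Units.map ((Algebra.TensorProduct.includeRight : L →ₐ[R] L ⊗[R] L) : L →* L ⊗[R] L) (tU R) := by
        apply Units.ext
        show CoalgebraStruct.comul (R := R) (AddMonoidAlgebra.single (1 : ℤ) (1 : R)) =
          (AddMonoidAlgebra.single (1 : ℤ) (1 : R) ⊗ₜ[R] (1 : L)) *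
            ((1 : L) ⊗ₜ[R] AddMonoidAlgebra.single (1 : ℤ) (1 : R))
        rw [comul_single', Algebra.TensorProduct.tmul_mul_tmul, mul_one, one_mul]
      have h2 := hβ L (L ⊗[R] L) (Bialgebra.comulAlgHom R L) (tU R)
      rw [h1, map_mul, hβ L (L ⊗[R] L) Algebra.TensorProduct.includeLeft,
        hβ L (L ⊗[R] L) Algebra.TensorProduct.includeRight] at h2
      have h3 := congrArg Units.val h2
      have h4 : CoalgebraStruct.comul (R := R) (u : L) = ((u : L) ⊗ₜ[R] (1 : L)) * ((1 : L) ⊗ₜ[R] (u : L)) :=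
        h3.symm
      rw [h4, Algebra.TensorProduct.tmul_mul_tmul, mul_one, one_mul]
  obtain ⟨m, hm⟩ := exists_eq_single_of_isGroupLikeElem hgl
  refine ⟨m, fun B _ _ b => ?_⟩
  have h1 := hβ L B (evB b) (tU R)
  rw [map_evB_tU] at h1
  rw [h1]
  apply Units.ext
  show evB b (u : L) = _
  rw [hm, evB_single, one_smul]

end Torus

section NatChar
open Matrix

/-- a natural character of `GL_ι` on the category of `R`-algebras -/
structure NatChar (R : Type u) [CommRing R] (ι : Type) [Fintype ι] [DecidableEq ι] where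
  hom : ∀ (B : Type u) [CommRing B] [Algebra R B], Matrix.GeneralLinearGroup ι B →* Bˣ
  nat : ∀ (B C : Type u) [CommRing B] [Algebra R B] [CommRing C] [Algebra R C] (φ : B →ₐ[R] C)
    (s : Matrix.GeneralLinearGroup ι B),
    hom C (Matrix.GeneralLinearGroup.map φ.toRingHom s) = Units.map (φ.toRingHom : B →* C) (hom B s)

variable {R : Type u} [CommRing R]

section Basic
variable {ι : Type} [Fintype ι] [DecidableEq ι]

/-- the diagonal element of `GL` with unit entries `d` -/
def diagGL {B : Type*} [CommRing B] (d : ι → Bˣ) : Matrix.GeneralLinearGroup ι B where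
  val := Matrix.diagonal fun i => (d i : B)
  inv := Matrix.diagonal fun i => ((d i)⁻¹ : Bˣ)
  val_inv := by rw [Matrix.diagonal_mul_diagonal]; simp
  inv_val := by rw [Matrix.diagonal_mul_diagonal]; simp

theorem NatChar.eq_one_of_comm (χ : NatChar R ι) {B : Type u} [CommRing B] [Algebra R B]
    (g : Matrix.GeneralLinearGroup ι B)
    {B' : Type u} [CommRing B'] [Algebra R B'] (φ : B →ₐ[R] B') (hφ : Function.Injective φ)
    (d h : Matrix.GeneralLinearGroup ι B')
    (hg : Matrix.GeneralLinearGroup.map φ.toRingHom g = d * h * d⁻¹ * h⁻¹) : χ.hom B g = 1 := by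
  have h1 := χ.nat B B' φ g
  rw [hg, map_mul, map_mul, map_mul, map_inv, map_inv] at h1
  have h2 : χ.hom B' d * χ.hom B' h * (χ.hom B' d)⁻¹ * (χ.hom B' h)⁻¹ = 1 := by
    rw [mul_comm (χ.hom B' d) (χ.hom B' h), mul_inv_cancel_right, mul_inv_cancel]
  rw [h2] at h1
  apply Units.ext
  apply hφ
  have h3 := congrArg Units.val h1
  rw [Units.val_one] at h3
  rw [Units.val_one, map_one]
  exact h3.symm

end Basic

/-- a faithful extension containing a unit `a` with `a - 1` a unit -/
theorem exists_ext (R : Type u) [CommRing R] (B : Type u) [CommRing B] [Algebra R B] :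
    ∃ (B' : Type u) (_ : CommRing B') (_ : Algebra R B') (φ : B →ₐ[R] B'),
      Function.Injective φ ∧ ∃ a : B', a * (a - 1) = 1 := by
  let f : Polynomial B := Polynomial.X ^ 2 - (Polynomial.X + 1)
  refine ⟨AdjoinRoot f, inferInstance, inferInstance, IsScalarTower.toAlgHom R B (AdjoinRoot f), ?_,
    AdjoinRoot.root f, ?_⟩
  · rcases subsingleton_or_nontrivial B with hB | hB
    · intro x y _; exact Subsingleton.elim x y
    · have hdeg : (Polynomial.X + 1 : Polynomial B).degree < ((2 : ℕ) : WithBot ℕ) := by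
        have : (Polynomial.X + 1 : Polynomial B).degree ≤ 1 := by
          apply (Polynomial.degree_add_le _ _).trans
          rw [max_le_iff]
          exact ⟨Polynomial.degree_X_le, Polynomial.degree_one_le.trans (by norm_num)⟩
        exact this.trans_lt (by norm_num)
      have hmonic : f.Monic := Polynomial.monic_X_pow_sub hdeg
      have hfdeg : f.degree = 2 := by
        have h2 : (Polynomial.X ^ 2 : Polynomial B).degree = ((2 : ℕ) : WithBot ℕ) :=
          Polynomial.degree_X_pow 2
        have := Polynomial.degree_sub_eq_left_of_degree_lt (p := (Polynomial.X ^ 2 : Polynomial B))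
          (q := Polynomial.X + 1) (by rw [h2]; exact hdeg)
        rw [this, h2]; rfl
      rw [injective_iff_map_eq_zero]
      intro b hb
      have hb' : AdjoinRoot.mk f (Polynomial.C b) = 0 := hb
      rw [AdjoinRoot.mk_eq_zero] at hb'
      by_contra hne
      have hC : Polynomial.C b ≠ 0 := by rwa [Ne, Polynomial.C_eq_zero]
      refine hmonic.not_dvd_of_degree_lt hC ?_ hb'
      rw [hfdeg]
      exact (Polynomial.degree_C_le).trans_lt (by norm_num)
  · have h := AdjoinRoot.mk_self (f := f)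
    have h2 : AdjoinRoot.mk f f = AdjoinRoot.root f ^ 2 - (AdjoinRoot.root f + 1) := by
      simp only [f, map_sub, map_pow, map_add, map_one, AdjoinRoot.mk_X]
    rw [h2] at h
    linear_combination h

section Blocks
variable {ι₁ ι₂ : Type} [Fintype ι₁] [DecidableEq ι₁] [Fintype ι₂] [DecidableEq ι₂]

/-- block upper unitriangular element -/
def uU {B : Type*} [CommRing B] (X : Matrix ι₁ ι₂ B) : Matrix.GeneralLinearGroup (ι₁ ⊕ ι₂) B where
  val := Matrix.fromBlocks 1 X 0 1
  inv := Matrix.fromBlocks 1 (-X) 0 1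
  val_inv := by rw [Matrix.fromBlocks_multiply]; simp [Matrix.fromBlocks_one]
  inv_val := by rw [Matrix.fromBlocks_multiply]; simp [Matrix.fromBlocks_one]

/-- block lower unitriangular element -/
def lL {B : Type*} [CommRing B] (Y : Matrix ι₂ ι₁ B) : Matrix.GeneralLinearGroup (ι₁ ⊕ ι₂) B where
  val := Matrix.fromBlocks 1 0 Y 1
  inv := Matrix.fromBlocks 1 0 (-Y) 1
  val_inv := by rw [Matrix.fromBlocks_multiply]; simp [Matrix.fromBlocks_one]
  inv_val := by rw [Matrix.fromBlocks_multiply]; simp [Matrix.fromBlocks_one]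

/-- block scalar element `diag(a,1)` -/
def dA {B : Type*} [CommRing B] (a : B) (ha : a * (a - 1) = 1) :
    Matrix.GeneralLinearGroup (ι₁ ⊕ ι₂) B where
  val := Matrix.fromBlocks (a • 1) 0 0 1
  inv := Matrix.fromBlocks ((a - 1) • 1) 0 0 1
  val_inv := by
    have ha' : (a - 1) * a = 1 := by rw [mul_comm]; exact ha
    rw [Matrix.fromBlocks_multiply]
    simp [Matrix.fromBlocks_one, smul_smul, ha, ha']
  inv_val := by
    have ha' : (a - 1) * a = 1 := by rw [mul_comm]; exact ha
    rw [Matrix.fromBlocks_multiply]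
    simp [Matrix.fromBlocks_one, smul_smul, ha, ha']

/-- block scalar element `diag(1,a)` -/
def dA' {B : Type*} [CommRing B] (a : B) (ha : a * (a - 1) = 1) :
    Matrix.GeneralLinearGroup (ι₁ ⊕ ι₂) B where
  val := Matrix.fromBlocks 1 0 0 (a • 1)
  inv := Matrix.fromBlocks 1 0 0 ((a - 1) • 1)
  val_inv := by
    have ha' : (a - 1) * a = 1 := by rw [mul_comm]; exact ha
    rw [Matrix.fromBlocks_multiply]
    simp [Matrix.fromBlocks_one, smul_smul, ha, ha']
  inv_val := by
    have ha' : (a - 1) * a = 1 := by rw [mul_comm]; exact ha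
    rw [Matrix.fromBlocks_multiply]
    simp [Matrix.fromBlocks_one, smul_smul, ha, ha']

theorem uU_comm {B : Type*} [CommRing B] (a : B) (ha : a * (a - 1) = 1) (X : Matrix ι₁ ι₂ B) :
    uU X = dA a ha * uU (a • X) * (dA a ha)⁻¹ * (uU (a • X))⁻¹ := by
  apply Units.ext
  show Matrix.fromBlocks 1 X 0 1 = Matrix.fromBlocks (a • 1) 0 0 1 * Matrix.fromBlocks 1 (a • X) 0 1 *
    Matrix.fromBlocks ((a - 1) • 1) 0 0 1 * Matrix.fromBlocks 1 (-(a • X)) 0 1
  have h2 : a * a - a = 1 := by linear_combination ha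
  have ha' : (a - 1) * a = 1 := by rw [mul_comm]; exact ha
  rw [Matrix.fromBlocks_multiply, Matrix.fromBlocks_multiply, Matrix.fromBlocks_multiply,
    Matrix.fromBlocks_inj]
  refine ⟨?_, ?_, ?_, ?_⟩
  · simp [smul_smul, ha, ha']
  · simp only [Matrix.mul_one, Matrix.one_mul, Matrix.mul_zero, Matrix.zero_mul, add_zero, zero_add,
      Matrix.smul_mul, Matrix.mul_smul, smul_smul, Matrix.mul_neg, ha, ha', one_smul]
    rw [neg_add_eq_sub, ← sub_smul, h2, one_smul]
  · simp
  · simp

theorem lL_comm {B : Type*} [CommRing B] (a : B) (ha : a * (a - 1) = 1) (Y : Matrix ι₂ ι₁ B) :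
    lL Y = dA' a ha * lL (a • Y) * (dA' a ha)⁻¹ * (lL (a • Y))⁻¹ := by
  apply Units.ext
  show Matrix.fromBlocks 1 0 Y 1 = Matrix.fromBlocks 1 0 0 (a • 1) * Matrix.fromBlocks 1 0 (a • Y) 1 *
    Matrix.fromBlocks 1 0 0 ((a - 1) • 1) * Matrix.fromBlocks 1 0 (-(a • Y)) 1
  have h2 : a * a - a = 1 := by linear_combination ha
  have ha' : (a - 1) * a = 1 := by rw [mul_comm]; exact ha
  rw [Matrix.fromBlocks_multiply, Matrix.fromBlocks_multiply, Matrix.fromBlocks_multiply,
    Matrix.fromBlocks_inj]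
  refine ⟨?_, ?_, ?_, ?_⟩
  · simp
  · simp
  · simp only [Matrix.mul_one, Matrix.one_mul, Matrix.mul_zero, Matrix.zero_mul, add_zero, zero_add,
      Matrix.smul_mul, Matrix.mul_smul, smul_smul, Matrix.mul_neg, Matrix.neg_mul, ha, ha', one_smul,
      smul_neg]
    rw [← sub_eq_add_neg, ← sub_smul, h2, one_smul]
  · simp [smul_smul, ha, ha']

theorem map_uU {B C : Type*} [CommRing B] [CommRing C] (φ : B →+* C) (X : Matrix ι₁ ι₂ B) :
    Matrix.GeneralLinearGroup.map φ (uU X) = uU (X.map φ) := by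
  apply Units.ext
  show (Matrix.fromBlocks 1 X 0 1).map φ = Matrix.fromBlocks 1 (X.map φ) 0 1
  simp only [Matrix.fromBlocks_map, Matrix.map_one _ (map_zero φ) (map_one φ),
    Matrix.map_zero _ (map_zero φ)]

theorem map_lL {B C : Type*} [CommRing B] [CommRing C] (φ : B →+* C) (Y : Matrix ι₂ ι₁ B) :
    Matrix.GeneralLinearGroup.map φ (lL Y) = lL (Y.map φ) := by
  apply Units.ext
  show (Matrix.fromBlocks 1 0 Y 1).map φ = Matrix.fromBlocks 1 0 (Y.map φ) 1
  simp only [Matrix.fromBlocks_map, Matrix.map_one _ (map_zero φ) (map_one φ),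
    Matrix.map_zero _ (map_zero φ)]

theorem NatChar.hom_uU (χ : NatChar R (ι₁ ⊕ ι₂)) (B : Type u) [CommRing B] [Algebra R B]
    (X : Matrix ι₁ ι₂ B) : χ.hom B (uU X) = 1 := by
  obtain ⟨B', _, _, φ, hφ, a, ha⟩ := exists_ext R B
  refine χ.eq_one_of_comm (uU X) φ hφ (dA a ha) (uU (a • X.map φ)) ?_
  rw [map_uU]
  exact uU_comm a ha _

theorem NatChar.hom_lL (χ : NatChar R (ι₁ ⊕ ι₂)) (B : Type u) [CommRing B] [Algebra R B]
    (Y : Matrix ι₂ ι₁ B) : χ.hom B (lL Y) = 1 := by
  obtain ⟨B', _, _, φ, hφ, a, ha⟩ := exists_ext R B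
  refine χ.eq_one_of_comm (lL Y) φ hφ (dA' a ha) (lL (a • Y.map φ)) ?_
  rw [map_lL]
  exact lL_comm a ha _

end Blocks

section Pivot
variable {ι₁ ι₂ : Type} [Fintype ι₁] [DecidableEq ι₁] [Fintype ι₂] [DecidableEq ι₂]

/-- embedding of `GL_{ι₁}` as the upper left block -/
def blockHom (B : Type*) [CommRing B] :
    Matrix.GeneralLinearGroup ι₁ B →* Matrix.GeneralLinearGroup (ι₁ ⊕ ι₂) B :=
  Units.map
    { toFun := fun S => Matrix.fromBlocks S 0 0 1
      map_one' := Matrix.fromBlocks_one
      map_mul' := fun S T => by rw [Matrix.fromBlocks_multiply]; simp }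

theorem blockHom_val {B : Type*} [CommRing B] (S : Matrix.GeneralLinearGroup ι₁ B) :
    ((blockHom (ι₂ := ι₂) B S : Matrix.GeneralLinearGroup (ι₁ ⊕ ι₂) B) : Matrix (ι₁ ⊕ ι₂) (ι₁ ⊕ ι₂) B) =
      Matrix.fromBlocks (S : Matrix ι₁ ι₁ B) 0 0 1 := rfl

theorem blockHom_diagGL {B : Type*} [CommRing B] (d : ι₁ → Bˣ) :
    blockHom (ι₂ := ι₂) B (diagGL d) = diagGL (Sum.elim d fun _ => 1) := by
  apply Units.ext
  show Matrix.fromBlocks (Matrix.diagonal fun i => (d i : B)) 0 0 1 =
    Matrix.diagonal fun i => ((Sum.elim d (fun _ => (1 : Bˣ)) i : Bˣ) : B)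
  rw [← Matrix.diagonal_one, Matrix.fromBlocks_diagonal]
  congr 1
  funext i
  cases i <;> simp

/-- restriction of a natural character to the upper left block -/
def NatChar.block (χ : NatChar R (ι₁ ⊕ ι₂)) : NatChar R ι₁ where
  hom B _ _ := (χ.hom B).comp (blockHom B)
  nat B C _ _ _ _ φ s := by
    show χ.hom C (blockHom C (Matrix.GeneralLinearGroup.map φ.toRingHom s)) =
      Units.map _ (χ.hom B (blockHom B s))
    rw [← χ.nat]
    congr 1
    apply Units.ext
    show Matrix.fromBlocks ((s : Matrix ι₁ ι₁ B).map φ.toRingHom) 0 0 1 =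
      (Matrix.fromBlocks (s : Matrix ι₁ ι₁ B) 0 0 1).map φ.toRingHom
    simp only [Matrix.fromBlocks_map, Matrix.map_one _ (map_zero φ.toRingHom) (map_one φ.toRingHom),
      Matrix.map_zero _ (map_zero φ.toRingHom)]

variable [Unique ι₂]

theorem NatChar.hom_eq_one_of_pivot (χ : NatChar R (ι₁ ⊕ ι₂))
    (hd : ∀ (B : Type u) [CommRing B] [Algebra R B] (d : ι₁ ⊕ ι₂ → Bˣ), χ.hom B (diagGL d) = 1)
    (hb : ∀ (B : Type u) [CommRing B] [Algebra R B] (S : Matrix.GeneralLinearGroup ι₁ B),
      χ.hom B (blockHom B S) = 1)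
    (C : Type u) [CommRing C] [Algebra R C] (s : Matrix.GeneralLinearGroup (ι₁ ⊕ ι₂) C) (c : Cˣ)
    (hc : (s : Matrix (ι₁ ⊕ ι₂) (ι₁ ⊕ ι₂) C) (Sum.inr default) (Sum.inr default) = c) :
    χ.hom C s = 1 := by
  set M : Matrix (ι₁ ⊕ ι₂) (ι₁ ⊕ ι₂) C := (s : Matrix (ι₁ ⊕ ι₂) (ι₁ ⊕ ι₂) C) with hMdef
  let A := M.toBlocks₁₁
  let Bm := M.toBlocks₁₂
  let Cm := M.toBlocks₂₁
  let cM : Matrix ι₂ ι₂ C := (c : C) • 1
  let cMi : Matrix ι₂ ι₂ C := ((c⁻¹ : Cˣ) : C) • 1
  have hD : M.toBlocks₂₂ = cM := by
    ext i j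
    rw [Unique.eq_default i, Unique.eq_default j]
    simp [cM, Matrix.toBlocks₂₂, hc]
  have hM : M = Matrix.fromBlocks A Bm Cm cM := by
    rw [← hD]; exact (Matrix.fromBlocks_toBlocks M).symm
  have h1 : cM * cMi = 1 := by simp [cM, cMi, smul_smul]
  have h2 : cMi * cM = 1 := by simp [cM, cMi, smul_smul]
  let mid : Matrix.GeneralLinearGroup (ι₁ ⊕ ι₂) C := (uU (Bm * cMi))⁻¹ * s * (lL (cMi * Cm))⁻¹
  let S : Matrix ι₁ ι₁ C := A - Bm * cMi * Cm
  have hmid : (mid : Matrix (ι₁ ⊕ ι₂) (ι₁ ⊕ ι₂) C) = Matrix.fromBlocks S 0 0 cM := by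
    show Matrix.fromBlocks 1 (-(Bm * cMi)) 0 1 * M * Matrix.fromBlocks 1 0 (-(cMi * Cm)) 1 = _
    rw [hM, Matrix.fromBlocks_multiply, Matrix.fromBlocks_multiply, Matrix.fromBlocks_inj]
    refine ⟨?_, ?_, ?_, ?_⟩
    · have e1 : cM * (cMi * Cm) = Cm := by rw [← Matrix.mul_assoc, h1, Matrix.one_mul]
      have e2 : Bm * (cMi * cM) = Bm := by rw [h2, Matrix.mul_one]
      simp only [Matrix.one_mul, Matrix.zero_mul, Matrix.mul_one, Matrix.mul_zero, add_zero, zero_add,
        Matrix.neg_mul, Matrix.mul_neg, Matrix.mul_assoc, e1, e2, S]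
      simp [sub_eq_add_neg]
    · have e2 : Bm * (cMi * cM) = Bm := by rw [h2, Matrix.mul_one]
      simp only [Matrix.one_mul, Matrix.zero_mul, Matrix.mul_one, Matrix.mul_zero, add_zero, zero_add,
        Matrix.neg_mul, Matrix.mul_assoc, e2]
      simp
    · have e1 : cM * (cMi * Cm) = Cm := by rw [← Matrix.mul_assoc, h1, Matrix.one_mul]
      simp only [Matrix.one_mul, Matrix.zero_mul, Matrix.mul_one, Matrix.mul_zero, add_zero, zero_add,
        Matrix.mul_neg, e1]
      simp
    · simp
  -- `S` is invertible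
  set N : Matrix (ι₁ ⊕ ι₂) (ι₁ ⊕ ι₂) C := ((mid⁻¹ : Matrix.GeneralLinearGroup (ι₁ ⊕ ι₂) C) :
    Matrix (ι₁ ⊕ ι₂) (ι₁ ⊕ ι₂) C) with hNdef
  have hN : N = Matrix.fromBlocks N.toBlocks₁₁ N.toBlocks₁₂ N.toBlocks₂₁ N.toBlocks₂₂ :=
    (Matrix.fromBlocks_toBlocks N).symm
  have hSP : S * N.toBlocks₁₁ = 1 := by
    have h : (mid : Matrix (ι₁ ⊕ ι₂) (ι₁ ⊕ ι₂) C) * N = 1 := by
      rw [hNdef, ← Units.val_mul, mul_inv_cancel]; rfl
    rw [hmid, hN, Matrix.fromBlocks_multiply, ← Matrix.fromBlocks_one, Matrix.fromBlocks_inj] at h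
    simpa using h.1
  have hPS : N.toBlocks₁₁ * S = 1 := by
    have h : N * (mid : Matrix (ι₁ ⊕ ι₂) (ι₁ ⊕ ι₂) C) = 1 := by
      rw [hNdef, ← Units.val_mul, inv_mul_cancel]; rfl
    rw [hmid, hN, Matrix.fromBlocks_multiply, ← Matrix.fromBlocks_one, Matrix.fromBlocks_inj] at h
    simpa using h.1
  let S' : Matrix.GeneralLinearGroup ι₁ C := ⟨S, N.toBlocks₁₁, hSP, hPS⟩
  have hmid2 : mid = blockHom C S' * diagGL (Sum.elim (fun _ => 1) fun _ => c) := by
    apply Units.ext
    rw [hmid, Units.val_mul, blockHom_val]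
    show _ = Matrix.fromBlocks S 0 0 1 *
      Matrix.diagonal fun i => ((Sum.elim (fun _ => (1 : Cˣ)) (fun _ => c) i : Cˣ) : C)
    have hdiag : (Matrix.diagonal fun i : ι₁ ⊕ ι₂ =>
        ((Sum.elim (fun _ => (1 : Cˣ)) (fun _ => c) i : Cˣ) : C)) = Matrix.fromBlocks 1 0 0 cM := by
      rw [← Matrix.diagonal_one, show cM = Matrix.diagonal fun _ => (c : C) from
        (Matrix.smul_one_eq_diagonal (c : C)), Matrix.fromBlocks_diagonal]
      congr 1
      funext i
      cases i <;> simp
    rw [hdiag, Matrix.fromBlocks_multiply]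
    simp
  have hs : s = uU (Bm * cMi) * mid * lL (cMi * Cm) := by
    simp only [mid]
    group
  rw [hs, map_mul, map_mul, χ.hom_uU, χ.hom_lL, hmid2, map_mul, hb, hd]
  simp

/-- a natural character on `GL_{ι₁ ⊕ pt}` trivial on diagonals and on the upper left block is trivial -/
theorem NatChar.hom_eq_one_of_block (χ : NatChar R (ι₁ ⊕ ι₂))
    (hd : ∀ (B : Type u) [CommRing B] [Algebra R B] (d : ι₁ ⊕ ι₂ → Bˣ), χ.hom B (diagGL d) = 1)
    (hb : ∀ (B : Type u) [CommRing B] [Algebra R B] (S : Matrix.GeneralLinearGroup ι₁ B),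
      χ.hom B (blockHom B S) = 1)
    (C : Type u) [CommRing C] [Algebra R C] (s : Matrix.GeneralLinearGroup (ι₁ ⊕ ι₂) C) :
    χ.hom C s = 1 := by
  have key : ((χ.hom C s : Cˣ) : C) - 1 ∈ (⊥ : Submodule C C) := by
    refine Submodule.mem_of_span_eq_top_of_smul_pow_mem ⊥
      (Set.range fun k => (s : Matrix (ι₁ ⊕ ι₂) (ι₁ ⊕ ι₂) C) k (Sum.inr default)) ?_ _ ?_
    · rw [Ideal.eq_top_iff_one]
      have h : ((s⁻¹ * s : Matrix.GeneralLinearGroup (ι₁ ⊕ ι₂) C) : Matrix (ι₁ ⊕ ι₂) (ι₁ ⊕ ι₂) C)
          (Sum.inr default) (Sum.inr default) = 1 := by simp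
      rw [Units.val_mul, Matrix.mul_apply] at h
      rw [← h]
      exact Ideal.sum_mem _ fun k _ => Ideal.mul_mem_left _ _ (Ideal.subset_span ⟨k, rfl⟩)
    · rintro ⟨r, k, rfl⟩
      set r : C := (s : Matrix (ι₁ ⊕ ι₂) (ι₁ ⊕ ι₂) C) k (Sum.inr default) with hr
      let Cr := Localization.Away r
      let φ : C →ₐ[R] Cr := IsScalarTower.toAlgHom R C Cr
      have hφ : ∀ x, φ x = algebraMap C Cr x := fun x => rfl
      have hnat := χ.nat C Cr φ s
      have hru : IsUnit (φ r) := IsLocalization.Away.algebraMap_isUnit r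
      set s' := Matrix.GeneralLinearGroup.map φ.toRingHom s with hs'
      have hentry : ∀ a b, (s' : Matrix (ι₁ ⊕ ι₂) (ι₁ ⊕ ι₂) Cr) a b =
          φ ((s : Matrix (ι₁ ⊕ ι₂) (ι₁ ⊕ ι₂) C) a b) := fun a b => rfl
      have hone : χ.hom Cr s' = 1 := by
        obtain ⟨ru, hru'⟩ := hru
        rcases k with i | j
        · -- k = inl i
          set x : Cr := (s' : Matrix (ι₁ ⊕ ι₂) (ι₁ ⊕ ι₂) Cr) (Sum.inr default) (Sum.inr default) with hx
          let Y : Matrix ι₂ ι₁ Cr := fun _ i' => if i' = i then (1 - x) * ((ru⁻¹ : Crˣ) : Cr) else 0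
          have hpiv : ((lL Y * s' : Matrix.GeneralLinearGroup (ι₁ ⊕ ι₂) Cr) :
              Matrix (ι₁ ⊕ ι₂) (ι₁ ⊕ ι₂) Cr) (Sum.inr default) (Sum.inr default) = ((1 : Crˣ) : Cr) := by
            rw [Units.val_mul, Matrix.mul_apply, Fintype.sum_sum_type]
            have e1 : ∀ i', ((lL Y : Matrix.GeneralLinearGroup (ι₁ ⊕ ι₂) Cr) :
                Matrix (ι₁ ⊕ ι₂) (ι₁ ⊕ ι₂) Cr) (Sum.inr default) (Sum.inl i') = Y default i' :=
              fun i' => rfl
            have e2 : ∀ j', ((lL Y : Matrix.GeneralLinearGroup (ι₁ ⊕ ι₂) Cr) :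
                Matrix (ι₁ ⊕ ι₂) (ι₁ ⊕ ι₂) Cr) (Sum.inr default) (Sum.inr j') =
                (1 : Matrix ι₂ ι₂ Cr) default j' := fun j' => rfl
            simp only [e1, e2, Y, ite_mul, zero_mul, Finset.sum_ite_eq', Finset.mem_univ, if_true]
            rw [Fintype.sum_unique, Matrix.one_apply_eq, one_mul, hentry (Sum.inl i), ← hr, ← hru',
              mul_assoc, Units.inv_mul, mul_one, Units.val_one]
            ring
          have := χ.hom_eq_one_of_pivot hd hb Cr (lL Y * s') 1 hpiv
          rwa [map_mul, χ.hom_lL, one_mul] at this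
        · -- k = inr j
          have hj : j = default := Unique.eq_default j
          refine χ.hom_eq_one_of_pivot hd hb Cr s' ru ?_
          rw [hentry, hru']
          exact congrArg φ (by rw [hr, hj])
      rw [hone] at hnat
      have h0 : φ (((χ.hom C s : Cˣ) : C) - 1) = 0 := by
        have := congrArg Units.val hnat
        rw [map_sub, map_one, sub_eq_zero]
        exact this.symm
      rw [hφ, IsLocalization.map_eq_zero_iff (Submonoid.powers r) Cr] at h0
      obtain ⟨⟨_, n, rfl⟩, hn⟩ := h0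
      exact ⟨n, by simpa using hn⟩
  rw [Submodule.mem_bot, sub_eq_zero] at key
  exact Units.ext key

end Pivot

section Reindex
variable {ι κ : Type} [Fintype ι] [DecidableEq ι] [Fintype κ] [DecidableEq κ]

/-- reindexing of `GL` along an equivalence of index types -/
def reindexGL (e : ι ≃ κ) (B : Type*) [CommRing B] :
    Matrix.GeneralLinearGroup ι B ≃* Matrix.GeneralLinearGroup κ B :=
  Units.mapEquiv (Matrix.reindexRingEquiv B e).toMulEquiv

theorem reindexGL_val (e : ι ≃ κ) {B : Type*} [CommRing B] (s : Matrix.GeneralLinearGroup ι B) :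
    ((reindexGL e B s : Matrix.GeneralLinearGroup κ B) : Matrix κ κ B) =
      (s : Matrix ι ι B).submatrix e.symm e.symm := rfl

theorem reindexGL_symm_apply (e : ι ≃ κ) {B : Type*} [CommRing B] (s : Matrix.GeneralLinearGroup ι B) :
    reindexGL e.symm B (reindexGL e B s) = s := by
  apply Units.ext
  rw [reindexGL_val, reindexGL_val]
  ext a b
  simp

theorem reindexGL_diagGL (e : ι ≃ κ) {B : Type*} [CommRing B] (d : ι → Bˣ) :
    reindexGL e B (diagGL d) = diagGL (d ∘ e.symm) := by
  apply Units.ext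
  rw [reindexGL_val]
  show (Matrix.diagonal fun i => (d i : B)).submatrix e.symm e.symm = Matrix.diagonal _
  rw [Matrix.submatrix_diagonal_equiv]
  rfl

/-- transport of a natural character along a reindexing -/
def NatChar.reindex (χ : NatChar R κ) (e : ι ≃ κ) : NatChar R ι where
  hom B _ _ := (χ.hom B).comp (reindexGL e B).toMonoidHom
  nat B C _ _ _ _ φ s := by
    show χ.hom C (reindexGL e C (Matrix.GeneralLinearGroup.map φ.toRingHom s)) =
      Units.map _ (χ.hom B (reindexGL e B s))
    rw [← χ.nat]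
    congr 1

theorem NatChar.reindex_hom (χ : NatChar R κ) (e : ι ≃ κ) (B : Type u) [CommRing B] [Algebra R B]
    (s : Matrix.GeneralLinearGroup ι B) : (χ.reindex e).hom B s = χ.hom B (reindexGL e B s) := rfl

end Reindex

section Induction

theorem NatChar.hom_eq_one_aux (n : ℕ) : ∀ (ι : Type) [Fintype ι] [DecidableEq ι], Fintype.card ι = n →
    ∀ χ : NatChar R ι,
    (∀ (B : Type u) [CommRing B] [Algebra R B] (d : ι → Bˣ), χ.hom B (diagGL d) = 1) →
    ∀ (B : Type u) [CommRing B] [Algebra R B] (s : Matrix.GeneralLinearGroup ι B), χ.hom B s = 1 := by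
  induction n with
  | zero =>
    intro ι _ _ hcard χ _ B _ _ s
    have : IsEmpty ι := Fintype.card_eq_zero_iff.mp hcard
    have : s = 1 := Subsingleton.elim _ _
    rw [this, map_one]
  | succ n ih =>
    intro ι _ _ hcard χ hd B _ _ s
    have hne : Nonempty ι := by
      rw [← Fintype.card_pos_iff, hcard]; exact Nat.succ_pos n
    obtain ⟨j₀⟩ := hne
    let e : ι ≃ {b // b ≠ j₀} ⊕ Unit :=
      (Equiv.optionSubtypeNe j₀).symm.trans (Equiv.optionEquivSumPUnit _)
    have hcard' : Fintype.card {b // b ≠ j₀} = n := by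
      have := Fintype.card_congr e
      rw [Fintype.card_sum, Fintype.card_unit, hcard] at this
      omega
    let χ' : NatChar R ({b // b ≠ j₀} ⊕ Unit) := χ.reindex e.symm
    have hd' : ∀ (B : Type u) [CommRing B] [Algebra R B] (d : {b // b ≠ j₀} ⊕ Unit → Bˣ),
        χ'.hom B (diagGL d) = 1 := by
      intro B _ _ d
      rw [NatChar.reindex_hom, reindexGL_diagGL]
      exact hd B _
    have hb' : ∀ (B : Type u) [CommRing B] [Algebra R B]
        (S : Matrix.GeneralLinearGroup {b // b ≠ j₀} B), χ'.hom B (blockHom B S) = 1 := by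
      intro B _ _ S
      refine ih {b // b ≠ j₀} hcard' χ'.block ?_ B S
      intro B _ _ d
      show χ'.hom B (blockHom B (diagGL d)) = 1
      rw [blockHom_diagGL]
      exact hd' B _
    have := χ'.hom_eq_one_of_block hd' hb' B (reindexGL e B s)
    rw [NatChar.reindex_hom] at this
    have h2 : reindexGL e.symm B (reindexGL e B s) = s := reindexGL_symm_apply e s
    rwa [h2] at this

/-- **A natural character of `GL_ι` which is trivial on diagonal matrices is trivial.** -/
theorem NatChar.hom_eq_one {ι : Type} [Fintype ι] [DecidableEq ι] (χ : NatChar R ι)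
    (hd : ∀ (B : Type u) [CommRing B] [Algebra R B] (d : ι → Bˣ), χ.hom B (diagGL d) = 1)
    (B : Type u) [CommRing B] [Algebra R B] (s : Matrix.GeneralLinearGroup ι B) : χ.hom B s = 1 :=
  NatChar.hom_eq_one_aux _ ι rfl χ hd B s

end Induction

section Perm
variable {ι : Type} [Fintype ι] [DecidableEq ι]

/-- permutation matrices as elements of `GL` -/
def permGL (σ : Equiv.Perm ι) (B : Type*) [CommRing B] : Matrix.GeneralLinearGroup ι B where
  val := σ.toPEquiv.toMatrix
  inv := σ.symm.toPEquiv.toMatrix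
  val_inv := by
    rw [← PEquiv.toMatrix_trans, ← Equiv.toPEquiv_trans, Equiv.self_trans_symm, Equiv.toPEquiv_refl,
      PEquiv.toMatrix_refl]
  inv_val := by
    rw [← PEquiv.toMatrix_trans, ← Equiv.toPEquiv_trans, Equiv.symm_trans_self, Equiv.toPEquiv_refl,
      PEquiv.toMatrix_refl]

theorem permGL_conj_diagGL (σ : Equiv.Perm ι) {B : Type*} [CommRing B] (d : ι → Bˣ) :
    permGL σ B * diagGL d * (permGL σ B)⁻¹ = diagGL (d ∘ σ) := by
  apply Units.ext
  show σ.toPEquiv.toMatrix * Matrix.diagonal (fun i => (d i : B)) * σ.symm.toPEquiv.toMatrix =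
    Matrix.diagonal fun i => (d (σ i) : B)
  rw [PEquiv.toMatrix_toPEquiv_mul, PEquiv.mul_toMatrix_toPEquiv]
  ext a b
  simp [Matrix.diagonal_apply]

theorem NatChar.hom_diagGL_comp (χ : NatChar R ι) (B : Type u) [CommRing B] [Algebra R B]
    (σ : Equiv.Perm ι) (d : ι → Bˣ) : χ.hom B (diagGL (d ∘ σ)) = χ.hom B (diagGL d) := by
  rw [← permGL_conj_diagGL, map_mul, map_mul, map_inv, mul_comm, ← mul_assoc, inv_mul_cancel, one_mul]

/-- the diagonal torus as a group homomorphism -/
def diagGLHom (B : Type*) [CommRing B] : (ι → Bˣ) →* Matrix.GeneralLinearGroup ι B where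
  toFun := diagGL
  map_one' := by
    apply Units.ext
    show Matrix.diagonal (fun i => (((1 : ι → Bˣ) i : Bˣ) : B)) = 1
    simp
  map_mul' d d' := by
    apply Units.ext
    show Matrix.diagonal (fun i => (((d * d') i : Bˣ) : B)) =
      Matrix.diagonal (fun i => (d i : B)) * Matrix.diagonal (fun i => (d' i : B))
    rw [Matrix.diagonal_mul_diagonal]
    simp

theorem det_diagGL {B : Type*} [CommRing B] (d : ι → Bˣ) :
    Matrix.GeneralLinearGroup.det (diagGL d) = ∏ i, d i := by
  apply Units.ext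
  show Matrix.det (Matrix.diagonal fun i => (d i : B)) = _
  rw [Matrix.det_diagonal, Units.coe_prod]

theorem map_diagGL {B C : Type*} [CommRing B] [CommRing C] (φ : B →+* C) (d : ι → Bˣ) :
    Matrix.GeneralLinearGroup.map φ (diagGL d) = diagGL fun i => Units.map (φ : B →* C) (d i) := by
  apply Units.ext
  show (Matrix.diagonal fun i => (d i : B)).map φ = Matrix.diagonal _
  rw [Matrix.diagonal_map (map_zero φ)]
  rfl

/-- twist of a natural character by a power of the determinant -/
def NatChar.mulDetZpow (χ : NatChar R ι) (m : ℤ) : NatChar R ι where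
  hom B _ _ := χ.hom B * (zpowGroupHom m).comp
    (Matrix.GeneralLinearGroup.det : Matrix.GeneralLinearGroup ι B →* Bˣ)
  nat B C _ _ _ _ φ s := by
    show χ.hom C (Matrix.GeneralLinearGroup.map φ.toRingHom s) *
      (Matrix.GeneralLinearGroup.det (Matrix.GeneralLinearGroup.map φ.toRingHom s)) ^ m =
      Units.map _ (χ.hom B s * (Matrix.GeneralLinearGroup.det s) ^ m)
    rw [χ.nat, Matrix.GeneralLinearGroup.map_det, map_mul, map_zpow]

theorem NatChar.mulDetZpow_hom (χ : NatChar R ι) (m : ℤ) (B : Type u) [CommRing B] [Algebra R B]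
    (s : Matrix.GeneralLinearGroup ι B) :
    (χ.mulDetZpow m).hom B s = χ.hom B s * (Matrix.GeneralLinearGroup.det s) ^ m := rfl

/-- **Natural characters of `GL_ι` over a ring with connected spectrum are powers of the
determinant.** -/
theorem NatChar.exists_det_zpow [ConnectedSpace (PrimeSpectrum R)] [Nonempty ι] (χ : NatChar R ι) :
    ∃ m : ℤ, ∀ (B : Type u) [CommRing B] [Algebra R B] (s : Matrix.GeneralLinearGroup ι B),
      χ.hom B s = (Matrix.GeneralLinearGroup.det s) ^ m := by
  obtain ⟨j₀⟩ := ‹Nonempty ι›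
  obtain ⟨m, hm⟩ := exists_zpow_of_natural (R := R)
    (fun B _ _ => (χ.hom B).comp ((diagGLHom B).comp (MonoidHom.mulSingle (fun _ : ι => Bˣ) j₀))) (by
      intro B C _ _ _ _ φ b
      have key : χ.hom C (diagGL (Pi.mulSingle j₀ (Units.map (φ.toRingHom : B →* C) b))) =
          Units.map (φ.toRingHom : B →* C) (χ.hom B (diagGL (Pi.mulSingle j₀ b))) := by
        have := χ.nat B C φ (diagGL (Pi.mulSingle j₀ b))
        rw [map_diagGL] at this
        rw [← this]
        congr 2
        funext i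
        by_cases hi : i = j₀
        · subst hi; simp
        · simp [Pi.mulSingle_eq_of_ne hi]
      exact key)
  refine ⟨m, fun B _ _ s => ?_⟩
  have hd : ∀ (B : Type u) [CommRing B] [Algebra R B] (d : ι → Bˣ),
      (χ.mulDetZpow (-m)).hom B (diagGL d) = 1 := by
    intro B _ _ d
    have h1 : ((χ.mulDetZpow (-m)).hom B).comp (diagGLHom B) = 1 := by
      apply MonoidHom.functions_ext
      intro j b
      have hsw : (Pi.mulSingle j b : ι → Bˣ) = (Pi.mulSingle j₀ b : ι → Bˣ) ∘ (Equiv.swap j j₀) := by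
        funext k
        simp only [Function.comp, Pi.mulSingle_apply]
        by_cases hk : k = j
        · subst hk; simp
        · rw [if_neg hk, if_neg]
          intro h
          apply hk
          have := congrArg (Equiv.swap j j₀) h
          simpa using this
      show (χ.mulDetZpow (-m)).hom B (diagGL (Pi.mulSingle j b)) = 1
      rw [hsw, NatChar.hom_diagGL_comp, NatChar.mulDetZpow_hom, det_diagGL]
      have h2 := hm B b
      have h3 : χ.hom B (diagGL (Pi.mulSingle j₀ b)) = b ^ m := h2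
      rw [h3, Finset.prod_pi_mulSingle', if_pos (Finset.mem_univ _), zpow_neg, mul_inv_cancel]
    exact DFunLike.congr_fun h1 d
  have := (χ.mulDetZpow (-m)).hom_eq_one hd B s
  rw [NatChar.mulDetZpow_hom, zpow_neg, mul_inv_eq_one] at this
  exact this

end Perm

end NatChar

section TorusPow
variable (R : Type u) [CommRing R]

theorem tU_zpow (a : ℤ) :
    (((tU R) ^ a : (AddMonoidAlgebra R ℤ)ˣ) : AddMonoidAlgebra R ℤ) = AddMonoidAlgebra.single a 1 := by
  induction a using Int.induction_on with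
  | zero => rw [zpow_zero, Units.val_one, AddMonoidAlgebra.one_def]
  | succ a ih =>
    rw [zpow_add_one, Units.val_mul, ih]
    show AddMonoidAlgebra.single _ _ * AddMonoidAlgebra.single 1 1 = _
    rw [AddMonoidAlgebra.single_mul_single, mul_one]
  | pred a ih =>
    rw [zpow_sub_one, Units.val_mul, ih]
    show AddMonoidAlgebra.single _ _ * AddMonoidAlgebra.single (-1) 1 = _
    rw [AddMonoidAlgebra.single_mul_single, mul_one, sub_eq_add_neg]

theorem tU_zpow_injective [Nontrivial R] : Function.Injective fun a : ℤ => (tU R) ^ a := by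
  intro a b hab
  have h := congrArg (fun x : (AddMonoidAlgebra R ℤ)ˣ => (x : AddMonoidAlgebra R ℤ).coeff a) hab
  simp only [tU_zpow, AddMonoidAlgebra.coeff_single] at h
  rw [Finsupp.single_eq_same, Finsupp.single_apply] at h
  by_contra hne
  rw [if_neg (Ne.symm hne)] at h
  exact one_ne_zero h

end TorusPow

end Groth.Agent.Lib.NatCharGL38
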