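import Mathlib
import Groth.Agent.Lib.NatCharGL38
import Groth.Agent.Lib.FiniteEtaleLift

/-!
# `SL_n` consists of commutators of `GL_n` étale-locally (helper38)

* `exists_etale_unit_pair`: every prime has an étale neighbourhood with units `u = v + 1`
  (`A[1/2]` or `A[1/3][X]/(X²+X+1)`);
* `exists_pivot_decomp`: block `LDU`-type decomposition of a matrix with invertible corner;
* `uU_mem_commutator`, `lL_mem_commutator`, `diagGL_mulSingle_mem_commutator`;
* `LocComm`, `locComm_of_det_eq_one`: a matrix of determinant one is étale-locally a product of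
  commutators in `GL`.
-/

set_option autoImplicit false
set_option linter.style.haveILetI false
set_option linter.unusedSimpArgs false
set_option linter.unusedSectionVars false
universe u

namespace Groth.Agent.Lib.LocCommGL38
open Polynomial Groth.Agent.Lib.FiniteEtaleLift Matrix Groth.Agent.Lib.NatCharGL38
open scoped commutatorElement


section Cubic
variable (T : Type u) [CommRing T]

/-- the polynomial `X² + X + 1` -/
noncomputable def gp : T[X] := X ^ 2 + X + 1

theorem gp_monic [Nontrivial T] : (gp T).Monic := by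
  unfold gp
  monicity!

theorem natDegree_gp [Nontrivial T] : (gp T).natDegree = 2 := by
  unfold gp
  compute_degree!

theorem root_rel : (AdjoinRoot.root (gp T)) ^ 2 + AdjoinRoot.root (gp T) + 1 = 0 := by
  have h := AdjoinRoot.eval₂_root (gp T)
  unfold gp at h
  simp only [eval₂_add, eval₂_pow, eval₂_X, eval₂_one] at h
  unfold gp
  exact h

theorem faithfullyFlat_adjoinRoot [Nontrivial T] : Module.FaithfullyFlat T (AdjoinRoot (gp T)) := by
  let pb := AdjoinRoot.powerBasis' (gp_monic T)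
  haveI : Nonempty (Fin pb.dim) := by
    have : pb.dim = 2 := by
      simp only [pb, AdjoinRoot.powerBasis'_dim]; exact natDegree_gp T
    rw [this]; infer_instance
  exact Module.FaithfullyFlat.of_linearEquiv _ _ pb.basis.repr

theorem etale_adjoinRoot [Nontrivial T] (h3 : IsUnit (3 : T)) : Algebra.Etale T (AdjoinRoot (gp T)) := by
  obtain ⟨u, hu⟩ := h3
  let P := pairOfMonic (gp T) (gp_monic T)
  have hd : derivative (gp T) = C (2 : T) * X + 1 := by
    unfold gp
    simp only [derivative_add, derivative_X_pow, derivative_one, add_zero, Nat.cast_ofNat,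
      Nat.add_one_sub_one, pow_one, derivative_X]
  have hunit : IsUnit (AdjoinRoot.mk P.f P.g) := by
    change IsUnit (AdjoinRoot.mk (gp T) (derivative (gp T)))
    rw [hd]
    refine IsUnit.of_mul_eq_one (AdjoinRoot.mk (gp T) (C (-((u⁻¹ : Tˣ) : T)) * (C (2 : T) * X + 1))) ?_
    rw [← map_mul]
    have e : (C (2 : T) * X + 1) * (C (-((u⁻¹ : Tˣ) : T)) * (C (2 : T) * X + 1)) =
        1 + C (-(4 : T) * ((u⁻¹ : Tˣ) : T)) * gp T := by
      have h1 : (3 : T) * ((u⁻¹ : Tˣ) : T) = 1 := by rw [← hu]; exact u.mul_inv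
      unfold gp
      have hC2 : (C (2 : T) : T[X]) = 2 := map_ofNat C 2
      have hC4 : (C (4 : T) : T[X]) = 4 := map_ofNat C 4
      have hw : (3 : T[X]) * C (((u⁻¹ : Tˣ) : T)) = 1 := by
        rw [← map_ofNat C 3, ← C_mul, h1, C_1]
      simp only [C_neg, C_mul, hC2, hC4]
      linear_combination hw
    rw [e, map_add, map_one, map_mul, AdjoinRoot.mk_self, mul_zero, add_zero]
  exact Algebra.Etale.of_equiv (equivAdjoinRootOfIsUnit P hunit)

end Cubic

/-- every prime of a ring has an étale neighbourhood on which there are units `u`, `v` with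
`u = v + 1`. -/
theorem exists_etale_unit_pair (A : Type u) [CommRing A] (p : PrimeSpectrum A) :
    ∃ (A' : Type u) (_ : CommRing A') (_ : Algebra A A'), Algebra.Etale A A' ∧
      (∃ q : PrimeSpectrum A', q.asIdeal.comap (algebraMap A A') = p.asIdeal) ∧
      ∃ u v : A'ˣ, (u : A') = v + 1 := by
  by_cases h2 : (2 : A) ∈ p.asIdeal
  · -- `3 ∉ p`
    have h3 : (3 : A) ∉ p.asIdeal := by
      intro h3
      have : (1 : A) ∈ p.asIdeal := by
        have := p.asIdeal.sub_mem h3 h2
        norm_num at this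
        exact this
      exact p.isPrime.ne_top ((Ideal.eq_top_iff_one _).mpr this)
    let A₃ := Localization.Away (3 : A)
    have hdisj : Disjoint ((Submonoid.powers (3 : A) : Submonoid A) : Set A) (p.asIdeal : Set A) :=
      (Ideal.disjoint_powers_iff_notMem _ p.isPrime.isRadical).mpr h3
    have hp₃ : (Ideal.map (algebraMap A A₃) p.asIdeal).IsPrime :=
      IsLocalization.isPrime_of_isPrime_disjoint (Submonoid.powers (3 : A)) A₃ _ p.isPrime hdisj
    have hc₃ : (Ideal.map (algebraMap A A₃) p.asIdeal).comap (algebraMap A A₃) = p.asIdeal :=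
      IsLocalization.under_map_of_isPrime_disjoint (Submonoid.powers (3 : A)) A₃ p.isPrime hdisj
    haveI : Nontrivial A₃ := by
      by_contra h
      rw [not_nontrivial_iff_subsingleton] at h
      exact hp₃.ne_top (Subsingleton.elim _ _)
    let T := AdjoinRoot (gp A₃)
    have h3u : IsUnit (3 : A₃) := by
      have := IsLocalization.Away.algebraMap_isUnit (S := A₃) (3 : A)
      rwa [map_ofNat] at this
    haveI : Algebra.Etale A₃ T := etale_adjoinRoot A₃ h3u
    haveI : Module.FaithfullyFlat A₃ T := faithfullyFlat_adjoinRoot A₃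
    haveI : Algebra.Etale A T := Algebra.Etale.comp A A₃ T
    obtain ⟨q, hq⟩ := PrimeSpectrum.comap_surjective_of_faithfullyFlat (A := A₃) (B := T) ⟨_, hp₃⟩
    refine ⟨T, inferInstance, inferInstance, inferInstance, ⟨q, ?_⟩, ?_⟩
    · have hq' : q.asIdeal.comap (algebraMap A₃ T) = Ideal.map (algebraMap A A₃) p.asIdeal :=
        congrArg PrimeSpectrum.asIdeal hq
      rw [IsScalarTower.algebraMap_eq A A₃ T, ← Ideal.comap_comap, hq', hc₃]
    · have hrel := root_rel A₃
      set a : T := AdjoinRoot.root (gp A₃) with ha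
      refine ⟨⟨a + 1, -a, by linear_combination (-1 : T) * hrel, by linear_combination (-1 : T) * hrel⟩,
        ⟨a, -(a + 1), by linear_combination (-1 : T) * hrel, by linear_combination (-1 : T) * hrel⟩, rfl⟩
  · let A₂ := Localization.Away (2 : A)
    have hdisj : Disjoint ((Submonoid.powers (2 : A) : Submonoid A) : Set A) (p.asIdeal : Set A) :=
      (Ideal.disjoint_powers_iff_notMem _ p.isPrime.isRadical).mpr h2
    have hp₂ : (Ideal.map (algebraMap A A₂) p.asIdeal).IsPrime :=
      IsLocalization.isPrime_of_isPrime_disjoint (Submonoid.powers (2 : A)) A₂ _ p.isPrime hdisj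
    have hc₂ : (Ideal.map (algebraMap A A₂) p.asIdeal).comap (algebraMap A A₂) = p.asIdeal :=
      IsLocalization.under_map_of_isPrime_disjoint (Submonoid.powers (2 : A)) A₂ p.isPrime hdisj
    have h2u : IsUnit (2 : A₂) := by
      have := IsLocalization.Away.algebraMap_isUnit (S := A₂) (2 : A)
      rwa [map_ofNat] at this
    obtain ⟨u, hu⟩ := h2u
    refine ⟨A₂, inferInstance, inferInstance, Algebra.Etale.of_isLocalizationAway (2 : A),
      ⟨⟨_, hp₂⟩, hc₂⟩, u, 1, ?_⟩
    rw [hu, Units.val_one]; norm_num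


section Pivot
variable {ι₁ ι₂ : Type} [Fintype ι₁] [DecidableEq ι₁] [Fintype ι₂] [DecidableEq ι₂] [Unique ι₂]

/-- block decomposition of an invertible matrix with invertible lower right entry -/
theorem exists_pivot_decomp {C : Type*} [CommRing C] (s : Matrix.GeneralLinearGroup (ι₁ ⊕ ι₂) C) (c : Cˣ)
    (hc : (s : Matrix (ι₁ ⊕ ι₂) (ι₁ ⊕ ι₂) C) (Sum.inr default) (Sum.inr default) = c) :
    ∃ (X : Matrix ι₁ ι₂ C) (Y : Matrix ι₂ ι₁ C) (S' : Matrix.GeneralLinearGroup ι₁ C),
      s = uU X * (blockHom C S' * diagGL (Sum.elim (fun _ => 1) fun _ => c)) * lL Y := by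
  set M : Matrix (ι₁ ⊕ ι₂) (ι₁ ⊕ ι₂) C := (s : Matrix (ι₁ ⊕ ι₂) (ι₁ ⊕ ι₂) C) with hMdef
  let A := M.toBlocks₁₁
  let Bm := M.toBlocks₁₂
  let Cm := M.toBlocks₂₁
  let cM : Matrix ι₂ ι₂ C := (c : C) • 1
  let cMi : Matrix ι₂ ι₂ C := ((c⁻¹ : Cˣ) : C) • 1
  have hD : M.toBlocks₂₂ = cM := by
    ext i j
    rw [Unique.eq_default i, Unique.eq_default j]
    simp [cM, Matrix.toBlocks₂₂, hc]
  have hM : M = Matrix.fromBlocks A Bm Cm cM := by
    rw [← hD]; exact (Matrix.fromBlocks_toBlocks M).symm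
  have h1 : cM * cMi = 1 := by simp [cM, cMi, smul_smul]
  have h2 : cMi * cM = 1 := by simp [cM, cMi, smul_smul]
  let mid : Matrix.GeneralLinearGroup (ι₁ ⊕ ι₂) C := (uU (Bm * cMi))⁻¹ * s * (lL (cMi * Cm))⁻¹
  let S : Matrix ι₁ ι₁ C := A - Bm * cMi * Cm
  have hmid : (mid : Matrix (ι₁ ⊕ ι₂) (ι₁ ⊕ ι₂) C) = Matrix.fromBlocks S 0 0 cM := by
    show Matrix.fromBlocks 1 (-(Bm * cMi)) 0 1 * M * Matrix.fromBlocks 1 0 (-(cMi * Cm)) 1 = _
    rw [hM, Matrix.fromBlocks_multiply, Matrix.fromBlocks_multiply, Matrix.fromBlocks_inj]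
    refine ⟨?_, ?_, ?_, ?_⟩
    · have e1 : cM * (cMi * Cm) = Cm := by rw [← Matrix.mul_assoc, h1, Matrix.one_mul]
      have e2 : Bm * (cMi * cM) = Bm := by rw [h2, Matrix.mul_one]
      simp only [Matrix.one_mul, Matrix.zero_mul, Matrix.mul_one, Matrix.mul_zero, add_zero, zero_add,
        Matrix.neg_mul, Matrix.mul_neg, Matrix.mul_assoc, e1, e2, S]
      simp [sub_eq_add_neg]
    · have e2 : Bm * (cMi * cM) = Bm := by rw [h2, Matrix.mul_one]
      simp only [Matrix.one_mul, Matrix.zero_mul, Matrix.mul_one, Matrix.mul_zero, add_zero, zero_add,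
        Matrix.neg_mul, Matrix.mul_assoc, e2]
      simp
    · have e1 : cM * (cMi * Cm) = Cm := by rw [← Matrix.mul_assoc, h1, Matrix.one_mul]
      simp only [Matrix.one_mul, Matrix.zero_mul, Matrix.mul_one, Matrix.mul_zero, add_zero, zero_add,
        Matrix.mul_neg, e1]
      simp
    · simp
  set N : Matrix (ι₁ ⊕ ι₂) (ι₁ ⊕ ι₂) C := ((mid⁻¹ : Matrix.GeneralLinearGroup (ι₁ ⊕ ι₂) C) :
    Matrix (ι₁ ⊕ ι₂) (ι₁ ⊕ ι₂) C) with hNdef
  have hN : N = Matrix.fromBlocks N.toBlocks₁₁ N.toBlocks₁₂ N.toBlocks₂₁ N.toBlocks₂₂ :=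
    (Matrix.fromBlocks_toBlocks N).symm
  have hSP : S * N.toBlocks₁₁ = 1 := by
    have h : (mid : Matrix (ι₁ ⊕ ι₂) (ι₁ ⊕ ι₂) C) * N = 1 := by
      rw [hNdef, ← Units.val_mul, mul_inv_cancel]; rfl
    rw [hmid, hN, Matrix.fromBlocks_multiply, ← Matrix.fromBlocks_one, Matrix.fromBlocks_inj] at h
    simpa using h.1
  have hPS : N.toBlocks₁₁ * S = 1 := by
    have h : N * (mid : Matrix (ι₁ ⊕ ι₂) (ι₁ ⊕ ι₂) C) = 1 := by
      rw [hNdef, ← Units.val_mul, inv_mul_cancel]; rfl
    rw [hmid, hN, Matrix.fromBlocks_multiply, ← Matrix.fromBlocks_one, Matrix.fromBlocks_inj] at h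
    simpa using h.1
  let S' : Matrix.GeneralLinearGroup ι₁ C := ⟨S, N.toBlocks₁₁, hSP, hPS⟩
  have hmid2 : mid = blockHom C S' * diagGL (Sum.elim (fun _ => 1) fun _ => c) := by
    apply Units.ext
    rw [hmid, Units.val_mul, blockHom_val]
    show _ = Matrix.fromBlocks S 0 0 1 *
      Matrix.diagonal fun i => ((Sum.elim (fun _ => (1 : Cˣ)) (fun _ => c) i : Cˣ) : C)
    have hdiag : (Matrix.diagonal fun i : ι₁ ⊕ ι₂ =>
        ((Sum.elim (fun _ => (1 : Cˣ)) (fun _ => c) i : Cˣ) : C)) = Matrix.fromBlocks 1 0 0 cM := by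
      rw [← Matrix.diagonal_one, show cM = Matrix.diagonal fun _ => (c : C) from
        (Matrix.smul_one_eq_diagonal (c : C)), Matrix.fromBlocks_diagonal]
      congr 1
      funext i
      cases i <;> simp
    rw [hdiag, Matrix.fromBlocks_multiply]
    simp
  refine ⟨Bm * cMi, cMi * Cm, S', ?_⟩
  rw [← hmid2]
  simp only [mid]
  group

end Pivot


section Comm

theorem map_mem_commutator {G G' : Type*} [Group G] [Group G'] (f : G →* G') {x : G}
    (hx : x ∈ commutator G) : f x ∈ commutator G' := by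
  have h1 : f x ∈ Subgroup.map f (commutator G) := Subgroup.mem_map_of_mem f hx
  rw [commutator_def, Subgroup.map_commutator] at h1
  exact Subgroup.commutator_mono le_top le_top h1

/-- a ring has a unit pair if there are units `u`, `v` with `u = v + 1` -/
def HasUnitPair (B : Type*) [CommRing B] : Prop := ∃ u v : Bˣ, (u : B) = v + 1

theorem HasUnitPair.map {B C : Type*} [CommRing B] [CommRing C] (φ : B →+* C) (h : HasUnitPair B) :
    HasUnitPair C := by
  obtain ⟨u, v, huv⟩ := h
  refine ⟨Units.map (φ : B →* C) u, Units.map (φ : B →* C) v, ?_⟩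
  show φ u = φ v + 1
  rw [huv, map_add, map_one]

variable {ι₁ ι₂ : Type} [Fintype ι₁] [DecidableEq ι₁] [Fintype ι₂] [DecidableEq ι₂]

/-- block scalar element `diag(u,1)` -/
def dU {B : Type*} [CommRing B] (u : Bˣ) : Matrix.GeneralLinearGroup (ι₁ ⊕ ι₂) B where
  val := Matrix.fromBlocks ((u : B) • 1) 0 0 1
  inv := Matrix.fromBlocks (((u⁻¹ : Bˣ) : B) • 1) 0 0 1
  val_inv := by
    rw [Matrix.fromBlocks_multiply]
    simp [Matrix.fromBlocks_one, smul_smul]
  inv_val := by
    rw [Matrix.fromBlocks_multiply]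
    simp [Matrix.fromBlocks_one, smul_smul]

/-- block scalar element `diag(1,u)` -/
def dU' {B : Type*} [CommRing B] (u : Bˣ) : Matrix.GeneralLinearGroup (ι₁ ⊕ ι₂) B where
  val := Matrix.fromBlocks 1 0 0 ((u : B) • 1)
  inv := Matrix.fromBlocks 1 0 0 (((u⁻¹ : Bˣ) : B) • 1)
  val_inv := by
    rw [Matrix.fromBlocks_multiply]
    simp [Matrix.fromBlocks_one, smul_smul]
  inv_val := by
    rw [Matrix.fromBlocks_multiply]
    simp [Matrix.fromBlocks_one, smul_smul]

theorem uU_eq_commutator {B : Type*} [CommRing B] (u v : Bˣ) (huv : (u : B) = v + 1)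
    (X : Matrix ι₁ ι₂ B) :
    uU X = ⁅(dU u : Matrix.GeneralLinearGroup (ι₁ ⊕ ι₂) B), uU (((v⁻¹ : Bˣ) : B) • X)⁆ := by
  rw [commutatorElement_def]
  apply Units.ext
  show Matrix.fromBlocks 1 X 0 1 = Matrix.fromBlocks ((u : B) • 1) 0 0 1 *
    Matrix.fromBlocks 1 (((v⁻¹ : Bˣ) : B) • X) 0 1 *
    Matrix.fromBlocks (((u⁻¹ : Bˣ) : B) • 1) 0 0 1 * Matrix.fromBlocks 1 (-(((v⁻¹ : Bˣ) : B) • X)) 0 1
  rw [Matrix.fromBlocks_multiply, Matrix.fromBlocks_multiply, Matrix.fromBlocks_multiply,
    Matrix.fromBlocks_inj]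
  refine ⟨?_, ?_, ?_, ?_⟩
  · simp [smul_smul]
  · simp only [Matrix.mul_one, Matrix.one_mul, Matrix.mul_zero, Matrix.zero_mul, add_zero, zero_add,
      Matrix.smul_mul, Matrix.mul_smul, smul_smul, Matrix.mul_neg, Units.mul_inv, one_smul]
    rw [neg_add_eq_sub, ← sub_smul]
    have hu := u.inv_mul
    have hv := v.inv_mul
    convert (one_smul B X).symm using 2
    linear_combination ((v⁻¹ : Bˣ) : B) * huv - ((v⁻¹ : Bˣ) : B) * hu + hv
  · simp
  · simp

theorem lL_eq_commutator {B : Type*} [CommRing B] (u v : Bˣ) (huv : (u : B) = v + 1)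
    (Y : Matrix ι₂ ι₁ B) :
    lL Y = ⁅(dU' u : Matrix.GeneralLinearGroup (ι₁ ⊕ ι₂) B), lL (((v⁻¹ : Bˣ) : B) • Y)⁆ := by
  rw [commutatorElement_def]
  apply Units.ext
  show Matrix.fromBlocks 1 0 Y 1 = Matrix.fromBlocks 1 0 0 ((u : B) • 1) *
    Matrix.fromBlocks 1 0 (((v⁻¹ : Bˣ) : B) • Y) 1 *
    Matrix.fromBlocks 1 0 0 (((u⁻¹ : Bˣ) : B) • 1) * Matrix.fromBlocks 1 0 (-(((v⁻¹ : Bˣ) : B) • Y)) 1
  rw [Matrix.fromBlocks_multiply, Matrix.fromBlocks_multiply, Matrix.fromBlocks_multiply,
    Matrix.fromBlocks_inj]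
  refine ⟨?_, ?_, ?_, ?_⟩
  · simp
  · simp
  · simp only [Matrix.mul_one, Matrix.one_mul, Matrix.mul_zero, Matrix.zero_mul, add_zero, zero_add,
      Matrix.smul_mul, Matrix.mul_smul, smul_smul, Matrix.mul_neg, Matrix.neg_mul, Units.mul_inv,
      one_smul, smul_neg]
    rw [← sub_eq_add_neg, ← sub_smul]
    have hu := u.inv_mul
    have hv := v.inv_mul
    convert (one_smul B Y).symm using 2
    linear_combination ((v⁻¹ : Bˣ) : B) * huv - ((v⁻¹ : Bˣ) : B) * hu + hv
  · simp [smul_smul]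

theorem uU_mem_commutator {B : Type*} [CommRing B] (h : HasUnitPair B) (X : Matrix ι₁ ι₂ B) :
    uU X ∈ commutator (Matrix.GeneralLinearGroup (ι₁ ⊕ ι₂) B) := by
  obtain ⟨u, v, huv⟩ := h
  rw [uU_eq_commutator u v huv]
  exact Subgroup.commutator_mem_commutator (Subgroup.mem_top _) (Subgroup.mem_top _)

theorem lL_mem_commutator {B : Type*} [CommRing B] (h : HasUnitPair B) (Y : Matrix ι₂ ι₁ B) :
    lL Y ∈ commutator (Matrix.GeneralLinearGroup (ι₁ ⊕ ι₂) B) := by
  obtain ⟨u, v, huv⟩ := h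
  rw [lL_eq_commutator u v huv]
  exact Subgroup.commutator_mem_commutator (Subgroup.mem_top _) (Subgroup.mem_top _)

variable {ι : Type} [Fintype ι] [DecidableEq ι]

theorem diagGL_mulSingle_mem_commutator {B : Type*} [CommRing B] (i j : ι) (c : Bˣ) :
    diagGL (Pi.mulSingle i c * Pi.mulSingle j c⁻¹ : ι → Bˣ) ∈
      commutator (Matrix.GeneralLinearGroup ι B) := by
  have h : diagGL (Pi.mulSingle i c * Pi.mulSingle j c⁻¹ : ι → Bˣ) =
      ⁅diagGL (Pi.mulSingle i c : ι → Bˣ), permGL (Equiv.swap i j) B⁆ := by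
    rw [commutatorElement_def]
    have h1 : permGL (Equiv.swap i j) B * (diagGL (Pi.mulSingle i c : ι → Bˣ))⁻¹ *
        (permGL (Equiv.swap i j) B)⁻¹ = diagGL (Pi.mulSingle j c⁻¹ : ι → Bˣ) := by
      have h2 : (diagGL (Pi.mulSingle i c : ι → Bˣ))⁻¹ = diagGL (Pi.mulSingle i c⁻¹ : ι → Bˣ) := by
        rw [inv_eq_iff_mul_eq_one]
        show diagGLHom B _ * diagGLHom B _ = 1
        rw [← map_mul, ← Pi.mulSingle_mul, mul_inv_cancel, Pi.mulSingle_one, map_one]
      rw [h2, permGL_conj_diagGL]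
      congr 1
      funext k
      simp only [Function.comp, Pi.mulSingle_apply]
      by_cases hk : k = j
      · subst hk; simp
      · rw [if_neg hk, if_neg]
        intro h
        apply hk
        have := congrArg (Equiv.swap i j) h
        simpa using this
    have h3 : diagGL (Pi.mulSingle i c * Pi.mulSingle j c⁻¹ : ι → Bˣ) =
        diagGL (Pi.mulSingle i c : ι → Bˣ) * diagGL (Pi.mulSingle j c⁻¹ : ι → Bˣ) :=
      map_mul (diagGLHom B) _ _
    rw [h3, ← h1]
    group
  rw [h]
  exact Subgroup.commutator_mem_commutator (Subgroup.mem_top _) (Subgroup.mem_top _)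

end Comm

section LocComm
variable {ι κ : Type} [Fintype ι] [DecidableEq ι] [Fintype κ] [DecidableEq κ]

/-- `s` becomes a product of commutators of `GL` on an étale neighbourhood of `p` -/
def LocComm (A : Type u) [CommRing A] (p : PrimeSpectrum A) (s : Matrix.GeneralLinearGroup ι A) : Prop :=
  ∃ (A' : Type u) (_ : CommRing A') (_ : Algebra A A'), Algebra.Etale A A' ∧
    (∃ q : PrimeSpectrum A', q.asIdeal.comap (algebraMap A A') = p.asIdeal) ∧
    Matrix.GeneralLinearGroup.map (algebraMap A A') s ∈ commutator (Matrix.GeneralLinearGroup ι A')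

theorem LocComm.of_mem {A : Type u} [CommRing A] (p : PrimeSpectrum A) (s : Matrix.GeneralLinearGroup ι A)
    (h : s ∈ commutator (Matrix.GeneralLinearGroup ι A)) : LocComm A p s := by
  refine ⟨A, inferInstance, inferInstance, inferInstance, ⟨p, ?_⟩, ?_⟩
  · rw [Algebra.algebraMap_self, Ideal.comap_id]
  · rw [Algebra.algebraMap_self, Matrix.GeneralLinearGroup.map_id]
    exact h

theorem LocComm.of_etale {A A₁ : Type u} [CommRing A] [CommRing A₁] [Algebra A A₁] [Algebra.Etale A A₁]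
    (p : PrimeSpectrum A) (q₁ : PrimeSpectrum A₁)
    (hq : q₁.asIdeal.comap (algebraMap A A₁) = p.asIdeal) (s : Matrix.GeneralLinearGroup ι A)
    (h : LocComm A₁ q₁ (Matrix.GeneralLinearGroup.map (algebraMap A A₁) s)) : LocComm A p s := by
  obtain ⟨A', _, _, hE, ⟨q, hq'⟩, hmem⟩ := h
  letI : Algebra A A' := ((algebraMap A₁ A').comp (algebraMap A A₁)).toAlgebra
  haveI : IsScalarTower A A₁ A' := IsScalarTower.of_algebraMap_eq (fun _ => rfl)
  refine ⟨A', inferInstance, inferInstance, Algebra.Etale.comp A A₁ A', ⟨q, ?_⟩, ?_⟩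
  · rw [IsScalarTower.algebraMap_eq A A₁ A', ← Ideal.comap_comap, hq', hq]
  · have : Matrix.GeneralLinearGroup.map (algebraMap A A') s =
        Matrix.GeneralLinearGroup.map (algebraMap A₁ A')
          (Matrix.GeneralLinearGroup.map (algebraMap A A₁) s) := by
      apply Units.ext; ext i j; rfl
    rw [this]; exact hmem

theorem LocComm.mul_left {A : Type u} [CommRing A] {p : PrimeSpectrum A}
    {g s : Matrix.GeneralLinearGroup ι A} (hg : g ∈ commutator (Matrix.GeneralLinearGroup ι A))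
    (hs : LocComm A p s) : LocComm A p (g * s) := by
  obtain ⟨A', _, _, hE, hq, hmem⟩ := hs
  refine ⟨A', inferInstance, inferInstance, hE, hq, ?_⟩
  rw [map_mul]
  exact mul_mem (map_mem_commutator _ hg) hmem

theorem LocComm.mul_right {A : Type u} [CommRing A] {p : PrimeSpectrum A}
    {g s : Matrix.GeneralLinearGroup ι A} (hg : g ∈ commutator (Matrix.GeneralLinearGroup ι A))
    (hs : LocComm A p s) : LocComm A p (s * g) := by
  obtain ⟨A', _, _, hE, hq, hmem⟩ := hs
  refine ⟨A', inferInstance, inferInstance, hE, hq, ?_⟩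
  rw [map_mul]
  exact mul_mem hmem (map_mem_commutator _ hg)

theorem LocComm.of_reindex {A : Type u} [CommRing A] {p : PrimeSpectrum A} (e : ι ≃ κ)
    {s : Matrix.GeneralLinearGroup ι A} (h : LocComm A p (reindexGL e A s)) : LocComm A p s := by
  obtain ⟨A', _, _, hE, hq, hmem⟩ := h
  refine ⟨A', inferInstance, inferInstance, hE, hq, ?_⟩
  have h1 : Matrix.GeneralLinearGroup.map (algebraMap A A') (reindexGL e A s) =
      reindexGL e A' (Matrix.GeneralLinearGroup.map (algebraMap A A') s) := by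
    apply Units.ext; rfl
  rw [h1] at hmem
  have := map_mem_commutator (reindexGL e A').symm.toMonoidHom hmem
  simpa using this

theorem LocComm.block {ι₁ ι₂ : Type} [Fintype ι₁] [DecidableEq ι₁] [Fintype ι₂] [DecidableEq ι₂]
    {A : Type u} [CommRing A] {p : PrimeSpectrum A}
    {S : Matrix.GeneralLinearGroup ι₁ A} (h : LocComm A p S) :
    LocComm A p (blockHom (ι₂ := ι₂) A S) := by
  obtain ⟨A', _, _, hE, hq, hmem⟩ := h
  refine ⟨A', inferInstance, inferInstance, hE, hq, ?_⟩
  have h1 : Matrix.GeneralLinearGroup.map (algebraMap A A') (blockHom (ι₂ := ι₂) A S) =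
      blockHom A' (Matrix.GeneralLinearGroup.map (algebraMap A A') S) := by
    apply Units.ext
    show (Matrix.fromBlocks (S : Matrix ι₁ ι₁ A) 0 0 1).map (algebraMap A A') =
      Matrix.fromBlocks ((S : Matrix ι₁ ι₁ A).map (algebraMap A A')) 0 0 1
    simp only [Matrix.fromBlocks_map, Matrix.map_one _ (map_zero (algebraMap A A')) (map_one (algebraMap A A')),
      Matrix.map_zero _ (map_zero (algebraMap A A'))]
  rw [h1]
  exact map_mem_commutator _ hmem

end LocComm

section Main

theorem det_blockHom {ι₁ ι₂ : Type} [Fintype ι₁] [DecidableEq ι₁] [Fintype ι₂] [DecidableEq ι₂]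
    {B : Type*} [CommRing B] (S : Matrix.GeneralLinearGroup ι₁ B) :
    Matrix.GeneralLinearGroup.det (blockHom (ι₂ := ι₂) B S) = Matrix.GeneralLinearGroup.det S := by
  apply Units.ext
  show Matrix.det (Matrix.fromBlocks (S : Matrix ι₁ ι₁ B) 0 0 1) = Matrix.det (S : Matrix ι₁ ι₁ B)
  rw [Matrix.det_fromBlocks_zero₂₁, Matrix.det_one, mul_one]

theorem det_eq_one_of_mem_commutator {ι : Type} [Fintype ι] [DecidableEq ι] {B : Type*} [CommRing B]
    {g : Matrix.GeneralLinearGroup ι B} (hg : g ∈ commutator (Matrix.GeneralLinearGroup ι B)) :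
    Matrix.GeneralLinearGroup.det g = 1 :=
  MonoidHom.mem_ker.mp (Abelianization.commutator_subset_ker _ hg)

theorem locComm_step {ι₁ : Type} [Fintype ι₁] [DecidableEq ι₁]
    (ih : ∀ (B : Type u) [CommRing B], HasUnitPair B → ∀ (s : Matrix.GeneralLinearGroup ι₁ B),
      Matrix.GeneralLinearGroup.det s = 1 → ∀ p : PrimeSpectrum B, LocComm B p s)
    (B : Type u) [CommRing B] (hB : HasUnitPair B) (s : Matrix.GeneralLinearGroup (ι₁ ⊕ Unit) B)
    (hdet : Matrix.GeneralLinearGroup.det s = 1) (p : PrimeSpectrum B) : LocComm B p s := by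
  by_cases hι : IsEmpty ι₁
  · have hs1 : s = 1 := by
      apply Units.ext
      have hd : Matrix.det (s : Matrix (ι₁ ⊕ Unit) (ι₁ ⊕ Unit) B) = 1 := congrArg Units.val hdet
      haveI : Unique (ι₁ ⊕ Unit) :=
        { default := Sum.inr (), uniq := fun a => by rcases a with a | a; exact (hι.false a).elim; rfl }
      rw [Matrix.det_unique] at hd
      ext a b
      rw [Unique.eq_default a, Unique.eq_default b]
      rw [Units.val_one, Matrix.one_apply_eq]
      exact hd
    rw [hs1]
    exact LocComm.of_mem p 1 (one_mem _)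
  · rw [not_isEmpty_iff] at hι
    obtain ⟨i₁⟩ := hι
    have hk : ∃ k, (s : Matrix (ι₁ ⊕ Unit) (ι₁ ⊕ Unit) B) k (Sum.inr default) ∉ p.asIdeal := by
      by_contra hcon
      push Not at hcon
      have h : ((s⁻¹ * s : Matrix.GeneralLinearGroup (ι₁ ⊕ Unit) B) : Matrix (ι₁ ⊕ Unit) (ι₁ ⊕ Unit) B)
          (Sum.inr default) (Sum.inr default) = 1 := by simp
      rw [Units.val_mul, Matrix.mul_apply] at h
      have h1 : (1 : B) ∈ p.asIdeal := by
        rw [← h]; exact Ideal.sum_mem _ fun k _ => Ideal.mul_mem_left _ _ (hcon k)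
      exact p.isPrime.ne_top ((Ideal.eq_top_iff_one _).mpr h1)
    obtain ⟨k, hk⟩ := hk
    set r : B := (s : Matrix (ι₁ ⊕ Unit) (ι₁ ⊕ Unit) B) k (Sum.inr default) with hr
    let Br := Localization.Away r
    have hdisj : Disjoint ((Submonoid.powers r : Submonoid B) : Set B) (p.asIdeal : Set B) :=
      (Ideal.disjoint_powers_iff_notMem _ p.isPrime.isRadical).mpr hk
    have hpr : (Ideal.map (algebraMap B Br) p.asIdeal).IsPrime :=
      IsLocalization.isPrime_of_isPrime_disjoint (Submonoid.powers r) Br _ p.isPrime hdisj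
    have hcr : (Ideal.map (algebraMap B Br) p.asIdeal).comap (algebraMap B Br) = p.asIdeal :=
      IsLocalization.under_map_of_isPrime_disjoint (Submonoid.powers r) Br p.isPrime hdisj
    haveI : Algebra.Etale B Br := Algebra.Etale.of_isLocalizationAway r
    refine LocComm.of_etale p ⟨_, hpr⟩ hcr s ?_
    have hBr : HasUnitPair Br := hB.map (algebraMap B Br)
    set sr := Matrix.GeneralLinearGroup.map (algebraMap B Br) s with hsr
    have hentry : ∀ a b, (sr : Matrix (ι₁ ⊕ Unit) (ι₁ ⊕ Unit) Br) a b =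
        algebraMap B Br ((s : Matrix (ι₁ ⊕ Unit) (ι₁ ⊕ Unit) B) a b) := fun a b => rfl
    have hdetr : Matrix.GeneralLinearGroup.det sr = 1 := by
      rw [hsr, Matrix.GeneralLinearGroup.map_det, hdet, map_one]
    obtain ⟨ru, hru⟩ : IsUnit (algebraMap B Br r) := IsLocalization.Away.algebraMap_isUnit r
    obtain ⟨Y₀, c, hpiv⟩ : ∃ (Y₀ : Matrix Unit ι₁ Br) (c : Brˣ),
        ((lL Y₀ * sr : Matrix.GeneralLinearGroup (ι₁ ⊕ Unit) Br) :
          Matrix (ι₁ ⊕ Unit) (ι₁ ⊕ Unit) Br) (Sum.inr default) (Sum.inr default) = c := by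
      rcases k with i | j
      · set x : Br := (sr : Matrix (ι₁ ⊕ Unit) (ι₁ ⊕ Unit) Br) (Sum.inr default) (Sum.inr default) with hx
        let Y : Matrix Unit ι₁ Br := fun _ i' => if i' = i then (1 - x) * ((ru⁻¹ : Brˣ) : Br) else 0
        refine ⟨Y, 1, ?_⟩
        rw [Units.val_mul, Matrix.mul_apply, Fintype.sum_sum_type]
        have e1 : ∀ i', ((lL Y : Matrix.GeneralLinearGroup (ι₁ ⊕ Unit) Br) :
            Matrix (ι₁ ⊕ Unit) (ι₁ ⊕ Unit) Br) (Sum.inr default) (Sum.inl i') = Y default i' :=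
          fun i' => rfl
        have e2 : ∀ j', ((lL Y : Matrix.GeneralLinearGroup (ι₁ ⊕ Unit) Br) :
            Matrix (ι₁ ⊕ Unit) (ι₁ ⊕ Unit) Br) (Sum.inr default) (Sum.inr j') =
            (1 : Matrix Unit Unit Br) default j' := fun j' => rfl
        simp only [e1, e2, Y, ite_mul, zero_mul, Finset.sum_ite_eq', Finset.mem_univ, if_true]
        rw [Fintype.sum_unique, Matrix.one_apply_eq, one_mul, hentry (Sum.inl i), ← hr, ← hru,
          mul_assoc, Units.inv_mul, mul_one, Units.val_one]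
        ring
      · refine ⟨0, ru, ?_⟩
        have h0 : (lL (0 : Matrix Unit ι₁ Br) : Matrix.GeneralLinearGroup (ι₁ ⊕ Unit) Br) = 1 := by
          apply Units.ext
          show Matrix.fromBlocks 1 0 0 1 = 1
          exact Matrix.fromBlocks_one
        rw [h0, one_mul, hentry, hru]
    obtain ⟨X, Y, S', hdecomp⟩ := exists_pivot_decomp (lL Y₀ * sr) c hpiv
    let T : Matrix.GeneralLinearGroup ι₁ Br := S' * diagGL (Pi.mulSingle i₁ c)
    let D : Matrix.GeneralLinearGroup (ι₁ ⊕ Unit) Br :=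
      diagGL (Pi.mulSingle (Sum.inr default) c * Pi.mulSingle (Sum.inl i₁) c⁻¹ : ι₁ ⊕ Unit → Brˣ)
    have hD : D ∈ commutator (Matrix.GeneralLinearGroup (ι₁ ⊕ Unit) Br) :=
      diagGL_mulSingle_mem_commutator _ _ c
    have hmid : NatCharGL38.blockHom Br S' * diagGL (Sum.elim (fun _ => 1) fun _ => c) =
        NatCharGL38.blockHom Br T * D := by
      show _ = NatCharGL38.blockHom Br (S' * diagGL (Pi.mulSingle i₁ c)) * D
      rw [map_mul, blockHom_diagGL, mul_assoc]
      congr 1
      show diagGLHom Br _ = diagGLHom Br _ * diagGLHom Br _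
      rw [← map_mul]
      congr 1
      funext k
      rcases k with i | j
      · by_cases hi : i = i₁
        · subst hi; simp
        · simp [Pi.mulSingle_apply, hi]
      · simp [Pi.mulSingle_apply]
    have hX := uU_mem_commutator hBr X
    have hY := lL_mem_commutator hBr Y
    have hY₀ := lL_mem_commutator hBr Y₀
    rw [hmid] at hdecomp
    have hdetT : Matrix.GeneralLinearGroup.det T = 1 := by
      have h1 := congrArg Matrix.GeneralLinearGroup.det hdecomp
      simp only [map_mul, det_eq_one_of_mem_commutator hX, det_eq_one_of_mem_commutator hY,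
        det_eq_one_of_mem_commutator hY₀, det_eq_one_of_mem_commutator hD, hdetr, one_mul, mul_one,
        det_blockHom] at h1
      exact h1.symm
    have hT := ih Br hBr T hdetT ⟨_, hpr⟩
    have hsr2 : sr = (lL Y₀)⁻¹ * (uU X * (NatCharGL38.blockHom Br T * D) * lL Y) := by
      rw [← hdecomp]; group
    rw [hsr2]
    exact (((hT.block.mul_right hD).mul_left hX).mul_right hY).mul_left (inv_mem hY₀)

theorem locComm_aux (n : ℕ) : ∀ (ι : Type) [Fintype ι] [DecidableEq ι], Fintype.card ι = n →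
    ∀ (B : Type u) [CommRing B], HasUnitPair B → ∀ (s : Matrix.GeneralLinearGroup ι B),
      Matrix.GeneralLinearGroup.det s = 1 → ∀ p : PrimeSpectrum B, LocComm B p s := by
  induction n with
  | zero =>
    intro ι _ _ hcard B _ _ s _ p
    have : IsEmpty ι := Fintype.card_eq_zero_iff.mp hcard
    have : s = 1 := Subsingleton.elim _ _
    rw [this]
    exact LocComm.of_mem p 1 (one_mem _)
  | succ n ih =>
    intro ι _ _ hcard B _ hB s hdet p
    have hne : Nonempty ι := by
      rw [← Fintype.card_pos_iff, hcard]; exact Nat.succ_pos n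
    obtain ⟨j₀⟩ := hne
    let e : ι ≃ {b // b ≠ j₀} ⊕ Unit :=
      (Equiv.optionSubtypeNe j₀).symm.trans (Equiv.optionEquivSumPUnit _)
    have hcard' : Fintype.card {b // b ≠ j₀} = n := by
      have := Fintype.card_congr e
      rw [Fintype.card_sum, Fintype.card_unit, hcard] at this
      omega
    refine LocComm.of_reindex e ?_
    refine locComm_step (fun B' _ hB' s' hs' p' => ih {b // b ≠ j₀} hcard' B' hB' s' hs' p') B hB _ ?_ p
    apply Units.ext
    show Matrix.det ((s : Matrix ι ι B).submatrix e.symm e.symm) = 1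
    rw [Matrix.det_submatrix_equiv_self]
    exact congrArg Units.val hdet

/-- **A matrix of determinant one is, étale-locally, a product of commutators in `GL`.** -/
theorem locComm_of_det_eq_one {ι : Type} [Fintype ι] [DecidableEq ι] (A : Type u) [CommRing A]
    (s : Matrix.GeneralLinearGroup ι A) (hdet : Matrix.GeneralLinearGroup.det s = 1)
    (p : PrimeSpectrum A) : LocComm A p s := by
  obtain ⟨A₁, _, _, hE, ⟨q₁, hq₁⟩, u, v, huv⟩ := exists_etale_unit_pair A p
  refine LocComm.of_etale p q₁ hq₁ s ?_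
  refine locComm_aux _ ι rfl A₁ ⟨u, v, huv⟩ _ ?_ q₁
  rw [Matrix.GeneralLinearGroup.map_det, hdet, map_one]

end Main

end Groth.Agent.Lib.LocCommGL38
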