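import Mathlib

/-!
# Connectedness of complements in locally Noetherian schemes, tested on local rings

* `exists_specializes_of_mem_closure_noetherian`: in a Noetherian quasi-sober space a point in the
  closure of an open set is a specialization of a point of this open set.
* `exists_specializes_of_mem_closure`: the same in a locally Noetherian scheme.
* `mem_interior_closure_singleton`: a maximal point (no proper generization) of a locally Noetherian
  scheme lies in the interior of its closure.
* `isConnected_compl_of_forall_stalk`: `X` connected locally Noetherian, `T` closed; if for every `x`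
  the trace of `X ∖ T` on `Spec 𝒪_{X,x}` is connected then `X ∖ T` is connected.
-/

set_option autoImplicit false
set_option linter.style.haveILetI false
universe u

open TopologicalSpace Topology AlgebraicGeometry CategoryTheory

namespace Groth.Agent.Lib.LocConn96

/-- In a Noetherian quasi-sober space, a point in the closure of an open set `D` is a
specialization of a point of `D`. -/
theorem exists_specializes_of_mem_closure_noetherian {W : Type*} [TopologicalSpace W]
    [NoetherianSpace W] [QuasiSober W]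
    (D : Set W) (hD : IsOpen D) (x : W) (hx : x ∈ closure D) : ∃ z ∈ D, z ⤳ x := by
  obtain ⟨S, hSf, hSc, hSi, hSU⟩ :=
    NoetherianSpace.exists_finite_set_isClosed_irreducible (isClosed_univ (X := W))
  have h1 : D = ⋃ t ∈ S, (D ∩ t) := by
    ext y
    simp only [Set.mem_iUnion, Set.mem_inter_iff, exists_and_left, exists_prop]
    constructor
    · intro hy
      have : y ∈ ⋃₀ S := hSU ▸ Set.mem_univ y
      obtain ⟨t, ht, hyt⟩ := this
      exact ⟨hy, t, ht, hyt⟩
    · rintro ⟨hy, -⟩
      exact hy
  rw [h1, hSf.closure_biUnion] at hx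
  obtain ⟨t, ht, hxt⟩ := Set.mem_iUnion₂.mp hx
  obtain ⟨c, hc⟩ := QuasiSober.sober (hSi t ht) (hSc t ht)
  have hne : (D ∩ t).Nonempty := by
    by_contra h
    rw [Set.not_nonempty_iff_eq_empty] at h
    rw [h, closure_empty] at hxt
    exact hxt
  obtain ⟨w, hwD, hwt⟩ := hne
  have hcw : c ⤳ w := by
    rw [specializes_iff_mem_closure, hc.def]
    exact hwt
  refine ⟨c, hcw.mem_open hD hwD, ?_⟩
  rw [specializes_iff_mem_closure, hc.def]
  exact (hSc t ht).closure_subset_iff.mpr Set.inter_subset_right hxt

/-- In a Noetherian quasi-sober space, a point without proper generizations lies in the interior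
of its closure. -/
theorem mem_interior_closure_singleton_noetherian {W : Type*} [TopologicalSpace W]
    [NoetherianSpace W] [QuasiSober W] (η : W) (hη : ∀ z : W, z ⤳ η → z = η) :
    η ∈ interior (closure ({η} : Set W)) := by
  have hZ : irreducibleComponent η ∈ irreducibleComponents W :=
    irreducibleComponent_mem_irreducibleComponents η
  obtain ⟨o, ho, hne, hoZ⟩ :=
    NoetherianSpace.exists_isOpen_nonempty_subset_irreducibleComponent _ hZ
  obtain ⟨c, hc⟩ := QuasiSober.sober (isIrreducible_irreducibleComponent (x := η))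
    (isClosed_irreducibleComponent (x := η))
  have hcη : c ⤳ η := by
    rw [specializes_iff_mem_closure, hc.def]
    exact mem_irreducibleComponent
  have hceq : c = η := hη c hcη
  subst hceq
  obtain ⟨w, hw⟩ := hne
  have hcw : c ⤳ w := by
    rw [specializes_iff_mem_closure, hc.def]
    exact hoZ hw
  rw [mem_interior]
  exact ⟨o, fun y hy => by rw [hc.def]; exact hoZ hy, ho, hcw.mem_open ho hw⟩

section Scheme

variable {X : Scheme.{u}}

theorem exists_affine_nhd [IsLocallyNoetherian X] (x : X) :
    ∃ W : X.Opens, IsAffineOpen W ∧ x ∈ W ∧ NoetherianSpace ↥(W : Set X) := by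
  obtain ⟨W, hW, hxW, -⟩ := X.isBasis_affineOpens.exists_subset_of_mem_open
    (Set.mem_univ x) isOpen_univ
  obtain ⟨W, rfl⟩ : ∃ W' : X.Opens, (W' : Set X) = W := by
    obtain ⟨W', hW', rfl⟩ := hW
    exact ⟨W', rfl⟩
  have hWa : IsAffineOpen W := by
    obtain ⟨W', hW', h⟩ := hW
    have : W' = W := SetLike.coe_injective h
    exact this ▸ hW'
  haveI : IsNoetherianRing Γ(X, W) := IsLocallyNoetherian.component_noetherian ⟨W, hWa⟩
  exact ⟨W, hWa, hxW, noetherianSpace_of_isAffineOpen W hWa⟩

/-- In a locally Noetherian scheme a point in the closure of an open set `U` is a specialization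
of a point of `U`. -/
theorem exists_specializes_of_mem_closure [IsLocallyNoetherian X] (U : Set X) (hU : IsOpen U)
    (x : X) (hx : x ∈ closure U) : ∃ z ∈ U, z ⤳ x := by
  obtain ⟨W, -, hxW, hWN⟩ := exists_affine_nhd x
  have hemb : IsOpenEmbedding (Subtype.val : ↥(W : Set X) → X) := W.2.isOpenEmbedding_subtypeVal
  haveI : QuasiSober ↥(W : Set X) := hemb.quasiSober
  haveI : NoetherianSpace ↥(W : Set X) := hWN
  have hx' : (⟨x, hxW⟩ : ↥(W : Set X)) ∈ closure (Subtype.val ⁻¹' U) := by
    rw [← hemb.isOpenMap.preimage_closure_eq_closure_preimage continuous_subtype_val]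
    exact hx
  obtain ⟨z, hz, hzx⟩ := exists_specializes_of_mem_closure_noetherian (Subtype.val ⁻¹' U)
    (hU.preimage continuous_subtype_val) ⟨x, hxW⟩ hx'
  exact ⟨z.1, hz, hzx.map continuous_subtype_val⟩

/-- In a locally Noetherian scheme, a point without proper generizations lies in the interior of
its closure. -/
theorem mem_interior_closure_singleton [IsLocallyNoetherian X] (η : X)
    (hη : ∀ z : X, z ⤳ η → z = η) : η ∈ interior (closure ({η} : Set X)) := by
  obtain ⟨W, -, hxW, hWN⟩ := exists_affine_nhd η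
  have hemb : IsOpenEmbedding (Subtype.val : ↥(W : Set X) → X) := W.2.isOpenEmbedding_subtypeVal
  haveI : QuasiSober ↥(W : Set X) := hemb.quasiSober
  haveI : NoetherianSpace ↥(W : Set X) := hWN
  have h1 := mem_interior_closure_singleton_noetherian (W := ↥(W : Set X)) ⟨η, hxW⟩ (by
    intro z hz
    exact Subtype.ext (hη z.1 (hz.map continuous_subtype_val)))
  rw [mem_interior] at h1 ⊢
  obtain ⟨o, hoc, ho, hηo⟩ := h1
  refine ⟨Subtype.val '' o, ?_, hemb.isOpenMap o ho, ⟨_, hηo, rfl⟩⟩
  rintro _ ⟨y, hy, rfl⟩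
  have h2 : y ∈ closure ({⟨η, hxW⟩} : Set ↥(W : Set X)) := hoc hy
  have h3 := image_closure_subset_closure_image (f := (Subtype.val : ↥(W : Set X) → X))
    (s := {⟨η, hxW⟩}) continuous_subtype_val ⟨y, h2, rfl⟩
  simpa using h3

/-- `X` connected locally Noetherian, `T` closed; if for every `x` the trace of `X ∖ T` on
`Spec 𝒪_{X,x}` is connected then `X ∖ T` is connected. -/
theorem isConnected_compl_of_forall_stalk [IsLocallyNoetherian X] [ConnectedSpace X]
    (T : Set X) (hT : IsClosed T)
    (H : ∀ x : X, _root_.IsConnected ((X.fromSpecStalk x) ⁻¹' Tᶜ)) : _root_.IsConnected Tᶜ := by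
  have hgen : ∀ (x : X) (q : Spec (X.presheaf.stalk x)), (X.fromSpecStalk x) q ⤳ x := by
    intro x q
    have : (X.fromSpecStalk x) q ∈ Set.range (X.fromSpecStalk x) := ⟨q, rfl⟩
    rw [Scheme.range_fromSpecStalk] at this
    exact this
  have hlift : ∀ x z : X, z ⤳ x → ∃ q, (X.fromSpecStalk x) q = z := by
    intro x z hz
    have : z ∈ Set.range (X.fromSpecStalk x) := by
      rw [Scheme.range_fromSpecStalk]
      exact hz
    exact this
  constructor
  · obtain ⟨x⟩ := (inferInstance : Nonempty X)
    obtain ⟨q, hq⟩ := (H x).nonempty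
    exact ⟨_, hq⟩
  · intro u v hu hv hsub hnu hnv
    by_contra hempty
    rw [Set.not_nonempty_iff_eq_empty] at hempty
    have hSopen : IsOpen Tᶜ := hT.isOpen_compl
    have hdense : ∀ x : X, x ∈ closure Tᶜ := by
      intro x
      obtain ⟨q, hq⟩ := (H x).nonempty
      exact (hgen x q).mem_closed isClosed_closure (subset_closure hq)
    have hcover : (Set.univ : Set X) ⊆ closure (Tᶜ ∩ u) ∪ closure (Tᶜ ∩ v) := by
      intro x _
      have h2 : Tᶜ ⊆ (Tᶜ ∩ u) ∪ (Tᶜ ∩ v) :=
        fun y hy => (hsub hy).imp (fun h => ⟨hy, h⟩) (fun h => ⟨hy, h⟩)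
      have := closure_mono h2 (hdense x)
      rwa [closure_union] at this
    have hpre : _root_.IsPreconnected (Set.univ : Set X) := isPreconnected_univ
    obtain ⟨x, -, hx1, hx2⟩ := (isPreconnected_closed_iff.mp hpre) _ _ isClosed_closure
      isClosed_closure hcover
      (by obtain ⟨y, hy⟩ := hnu; exact ⟨y, Set.mem_univ _, subset_closure hy⟩)
      (by obtain ⟨y, hy⟩ := hnv; exact ⟨y, Set.mem_univ _, subset_closure hy⟩)
    obtain ⟨z1, hz1, hz1x⟩ := exists_specializes_of_mem_closure (Tᶜ ∩ u) (hSopen.inter hu) x hx1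
    obtain ⟨z2, hz2, hz2x⟩ := exists_specializes_of_mem_closure (Tᶜ ∩ v) (hSopen.inter hv) x hx2
    obtain ⟨q1, rfl⟩ := hlift x z1 hz1x
    obtain ⟨q2, rfl⟩ := hlift x z2 hz2x
    obtain ⟨q, hqS, hqu, hqv⟩ := (H x).isPreconnected ((X.fromSpecStalk x) ⁻¹' u)
      ((X.fromSpecStalk x) ⁻¹' v) (hu.preimage (X.fromSpecStalk x).continuous)
      (hv.preimage (X.fromSpecStalk x).continuous) (fun q hq => hsub hq)
      ⟨q1, hz1.1, hz1.2⟩ ⟨q2, hz2.1, hz2.2⟩
    have : (X.fromSpecStalk x) q ∈ Tᶜ ∩ (u ∩ v) := ⟨hqS, hqu, hqv⟩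
    rw [hempty] at this
    exact this

end Scheme

end Groth.Agent.Lib.LocConn96
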