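import Mathlib
import Groth.Agent.Lib.H71GeomRedAt
import Groth.Agent.Lib.GenFibreConn96D
import Groth.Agent.Lib.GenFibreConn96E
import Groth.Agent.Lib.LocConn96A

/-!
# Scheme version of EGA IV 18.9.x: `X` connected, `f : X ⟶ Y` flat with geometrically reduced
fibres, `Y` geometrically unibranch, `T` closed with nowhere dense image ⇒ `X ∖ T` connected.
-/

set_option autoImplicit false
set_option linter.style.haveILetI false
universe u

open TopologicalSpace Topology AlgebraicGeometry CategoryTheory CategoryTheory.Limits TensorProduct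

namespace Groth.Agent.Lib.LocConn96

section Generic

theorem isPullback_comp_mono {C : Type*} [Category C] {P X Y W Z : C} {fst : P ⟶ X} {snd : P ⟶ Y}
    {f : X ⟶ W} {g : Y ⟶ W} (h : IsPullback fst snd f g) (i : W ⟶ Z) [Mono i] :
    IsPullback fst snd (f ≫ i) (g ≫ i) :=
  IsPullback.of_isLimit' ⟨by rw [← Category.assoc, ← Category.assoc, h.w]⟩
    (PullbackCone.isLimitOfCompMono f g i _ h.isLimit)

end Generic

variable {X Y : Scheme.{u}}

/-- Base change of a reduced scheme along `Spec 𝒪_{X,x} ⟶ X` is reduced. -/
theorem isReduced_pullback_fromSpecStalk {Z : Scheme.{u}} (x : X) (g : Z ⟶ X) [IsReduced Z] :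
    IsReduced (pullback (X.fromSpecStalk x) g) := by
  refine @isReduced_of_isReduced_stalk _ (fun w => ?_)
  let e := RingEquiv.ofBijective _
    (Groth.Agent.Lib.H71GeomRedAt.bijective_stalkMap_snd (X.fromSpecStalk x) g w)
  exact isReduced_of_injective e.symm.toRingHom e.symm.injective

theorem geometricallyReduced_fromSpecStalk_comp (f : X ⟶ Y) [GeometricallyReduced f] (x : X) :
    GeometricallyReduced (X.fromSpecStalk x ≫ f) := by
  refine ⟨geometrically_iff_of_isClosedUnderIsomorphisms.mpr fun K _ y => ?_⟩
  haveI : IsReduced (pullback f y) :=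
    pullback_of_geometrically (GeometricallyReduced.geometrically_isReduced) K y
  haveI := isReduced_pullback_fromSpecStalk x (pullback.fst f y)
  exact isReduced_of_isOpenImmersion (pullbackRightPullbackFstIso f y (X.fromSpecStalk x)).inv

theorem geometricallyReduced_of_comp_mono {Z : Scheme.{u}} (s : X ⟶ Y) (m : Y ⟶ Z) [Mono m]
    [GeometricallyReduced (s ≫ m)] : GeometricallyReduced s := by
  refine ⟨fun K _ y W fst snd h => ?_⟩
  exact GeometricallyReduced.geometrically_isReduced (f := s ≫ m) (y ≫ m) fst snd
    (isPullback_comp_mono h m)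

theorem geometricallyReduced_SpecMap_stalkMap (f : X ⟶ Y) [GeometricallyReduced f] (x : X) :
    GeometricallyReduced (Spec.map (f.stalkMap x)) := by
  haveI := geometricallyReduced_fromSpecStalk_comp f x
  haveI : GeometricallyReduced (Spec.map (f.stalkMap x) ≫ Y.fromSpecStalk (f x)) := by
    rw [Scheme.SpecMap_stalkMap_fromSpecStalk]
    infer_instance
  exact geometricallyReduced_of_comp_mono _ (Y.fromSpecStalk (f x))


section Ring

open CAlg2 Groth.Agent.Lib.GenFibreConn96

variable (A B : Type u) [CommRing A] [IsLocalRing A] [IsNoetherianRing A]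
  [CommRing B] [IsLocalRing B] [Algebra A B] [IsLocalHom (algebraMap A B)] [Module.Flat A B]

/-- Variant of `isConnected_compl_of_isGeomUnibranch`: it suffices that no point of `T` lies over
the generic point of `Spec A`. -/
theorem isConnected_compl_of_isGeomUnibranch' (hA : IsGeomUnibranch A)
    (hred : ∀ (Q : Type u) [Field Q] [Algebra A Q], IsReduced (Q ⊗[A] B))
    (T : Set (PrimeSpectrum B)) (hT : IsClosed T)
    (hT' : ∀ q ∈ T, (PrimeSpectrum.comap (algebraMap A B) q).asIdeal ≠ nilradical A) :
    _root_.IsConnected Tᶜ := by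
  haveI : IsDomain (red A) := hA.1.1
  haveI hp : (nilradical A).IsPrime := (Ideal.Quotient.isDomain_iff_prime (nilradical A)).mp ‹_›
  let η : PrimeSpectrum A := ⟨nilradical A, hp⟩
  let G : Set (PrimeSpectrum B) := PrimeSpectrum.comap (algebraMap A B) ⁻¹' {η}
  have hGconn : _root_.IsConnected G := by
    rw [isConnected_iff_connectedSpace]
    haveI : ConnectedSpace (PrimeSpectrum (η.asIdeal.Fiber B)) :=
      connectedSpace_fiber_nilradical A B hA hred
    let h := (PrimeSpectrum.preimageHomeomorphFiber A B η).symm
    exact h.surjective.connectedSpace h.continuous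
  have hGT : G ⊆ Tᶜ := by
    intro q hq hqT
    apply hT' q hqT
    have : PrimeSpectrum.comap (algebraMap A B) q = η := hq
    rw [this]
  have hsub : Tᶜ ⊆ closure G := by
    intro q _
    haveI : q.asIdeal.LiesOver (q.asIdeal.under A) := Ideal.over_under q.asIdeal
    haveI : (q.asIdeal.under A).IsPrime := Ideal.IsPrime.under A q.asIdeal
    obtain ⟨P, hPq, hPprime, hPover⟩ := Ideal.exists_ideal_le_liesOver_of_le
      (p := nilradical A) (q := q.asIdeal.under A) q.asIdeal
      (nilradical_le_prime (q.asIdeal.under A))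
    let q₀ : PrimeSpectrum B := ⟨P, hPprime⟩
    have hq₀G : q₀ ∈ G := by
      show PrimeSpectrum.comap (algebraMap A B) q₀ = η
      apply PrimeSpectrum.ext
      exact (hPover.over).symm
    have hspec : q₀ ⤳ q := (PrimeSpectrum.le_iff_specializes q₀ q).mp hPq
    exact closure_mono (Set.singleton_subset_iff.mpr hq₀G) hspec.mem_closure
  exact hGconn.subset_closure hGT hsub

end Ring

end Groth.Agent.Lib.LocConn96
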