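import Mathlib
import Groth.Agent.Lib.LocConn96B

/-!
# Scheme version of EGA IV 18.9.x (assembly)
-/

set_option autoImplicit false
set_option linter.style.haveILetI false
universe u

open TopologicalSpace Topology AlgebraicGeometry CategoryTheory CategoryTheory.Limits TensorProduct

namespace Groth.Agent.Lib.LocConn96

variable {X Y : Scheme.{u}}

/-- The image in `Y` of the generic point of `Spec 𝒪_{Y,y}` (when the nilradical is prime) has no
proper generization. -/
theorem eq_of_specializes_fromSpecStalk_nilradical (y : Y)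
    [hp : (nilradical (Y.presheaf.stalk y)).IsPrime] (z : Y)
    (hz : z ⤳ (Y.fromSpecStalk y) ⟨nilradical (Y.presheaf.stalk y), hp⟩) :
    z = (Y.fromSpecStalk y) ⟨nilradical (Y.presheaf.stalk y), hp⟩ := by
  set η : Spec (Y.presheaf.stalk y) := ⟨nilradical (Y.presheaf.stalk y), hp⟩ with hη
  have h1 : (Y.fromSpecStalk y) η ⤳ y := by
    have : (Y.fromSpecStalk y) η ∈ Set.range (Y.fromSpecStalk y) := ⟨η, rfl⟩
    rw [Scheme.range_fromSpecStalk] at this
    exact this
  have h2 : z ∈ Set.range (Y.fromSpecStalk y) := by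
    rw [Scheme.range_fromSpecStalk]
    exact hz.trans h1
  obtain ⟨p, rfl⟩ := h2
  have h3 : p ⤳ η := ((Y.fromSpecStalk y).isEmbedding.isInducing.specializes_iff).mp hz
  have h4 : (p : PrimeSpectrum (Y.presheaf.stalk y)).asIdeal ≤
      (η : PrimeSpectrum (Y.presheaf.stalk y)).asIdeal :=
    (PrimeSpectrum.le_iff_specializes (R := Y.presheaf.stalk y) p η).mpr h3
  have h5 : (η : PrimeSpectrum (Y.presheaf.stalk y)).asIdeal ≤
      (p : PrimeSpectrum (Y.presheaf.stalk y)).asIdeal := by
    show nilradical (Y.presheaf.stalk y) ≤ _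
    exact nilradical_le_prime _
  have h6 : p = η := PrimeSpectrum.ext (le_antisymm h4 h5)
  rw [h6]


/-- Local step: the trace of `X ∖ T` on `Spec 𝒪_{X,x}` is connected. -/
theorem isConnected_preimage_compl_stalk [IsLocallyNoetherian X] [IsLocallyNoetherian Y]
    (f : X ⟶ Y) [Flat f] [GeometricallyReduced f] (x : X)
    (hY : CAlg2.IsGeomUnibranch (Y.presheaf.stalk (f x))) (T : Set X) (hT : IsClosed T)
    (hT' : interior (closure (f '' T)) = ∅) :
    _root_.IsConnected ((X.fromSpecStalk x) ⁻¹' Tᶜ) := by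
  letI : Algebra (Y.presheaf.stalk (f x)) (X.presheaf.stalk x) := (f.stalkMap x).hom.toAlgebra
  haveI : IsLocalHom (algebraMap (Y.presheaf.stalk (f x)) (X.presheaf.stalk x)) :=
    inferInstanceAs (IsLocalHom (f.stalkMap x).hom)
  haveI : Module.Flat (Y.presheaf.stalk (f x)) (X.presheaf.stalk x) := Flat.stalkMap f x
  haveI : GeometricallyReduced (Spec.map (CommRingCat.ofHom
      (algebraMap (Y.presheaf.stalk (f x)) (X.presheaf.stalk x)))) :=
    geometricallyReduced_SpecMap_stalkMap f x
  haveI : IsDomain (CAlg2.red (Y.presheaf.stalk (f x))) := hY.1.1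
  haveI hp : (nilradical (Y.presheaf.stalk (f x))).IsPrime :=
    (Ideal.Quotient.isDomain_iff_prime _).mp ‹_›
  have key := isConnected_compl_of_isGeomUnibranch' (Y.presheaf.stalk (f x))
    (X.presheaf.stalk x) hY
    (fun Q _ _ => Groth.Agent.Lib.GenFibreConn96.isReduced_field_tensor_of_geometricallyReduced
      _ _ Q)
    ((X.fromSpecStalk x) ⁻¹' T) (hT.preimage (X.fromSpecStalk x).continuous) ?_
  · exact key
  · intro q hq hcontra
    have hq' : (Spec.map (f.stalkMap x)) q =
        (⟨nilradical (Y.presheaf.stalk (f x)), hp⟩ : Spec (Y.presheaf.stalk (f x))) :=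
      PrimeSpectrum.ext hcontra
    have h1 : f ((X.fromSpecStalk x) q) =
        (Y.fromSpecStalk (f x)) ⟨nilradical (Y.presheaf.stalk (f x)), hp⟩ := by
      rw [← hq', ← Scheme.Hom.comp_apply, ← Scheme.Hom.comp_apply,
        Scheme.SpecMap_stalkMap_fromSpecStalk]
    have h2 := mem_interior_closure_singleton
      ((Y.fromSpecStalk (f x)) ⟨nilradical (Y.presheaf.stalk (f x)), hp⟩)
      (fun z hz => eq_of_specializes_fromSpecStalk_nilradical (f x) z hz)
    have h3 : ({(Y.fromSpecStalk (f x)) ⟨nilradical (Y.presheaf.stalk (f x)), hp⟩} : Set Y) ⊆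
        f '' T := by
      rw [Set.singleton_subset_iff, ← h1]
      exact ⟨_, hq, rfl⟩
    have h4 := interior_mono (closure_mono h3) h2
    rw [hT'] at h4
    exact h4

/-- Scheme version of EGA IV 18.9.x. -/
theorem isConnected_compl_of_flat_geometricallyReduced [IsLocallyNoetherian X]
    [IsLocallyNoetherian Y] [ConnectedSpace X]
    (hY : ∀ y : Y, CAlg2.IsGeomUnibranch (Y.presheaf.stalk y))
    (f : X ⟶ Y) [Flat f] [GeometricallyReduced f]
    (T : Set X) (hT : IsClosed T) (hT' : interior (closure (f '' T)) = ∅) :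
    _root_.IsConnected Tᶜ :=
  isConnected_compl_of_forall_stalk T hT fun x =>
    isConnected_preimage_compl_stalk f x (hY (f x)) T hT hT'

end Groth.Agent.Lib.LocConn96
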