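import Mathlib

/-!
# Local constancy of the number of geometric components, part A (helper5): algebra

* `natCard_primeSpectrum_le_finrank`: a finite-dimensional algebra over a field has at most
  `finrank` many primes;
* `natCard_primeSpectrum_eq_finrank`: equality for reduced algebras over an algebraically closed
  field;
* `isReduced_tensor_of_saturated`: if `B → ∏ Rᵢ` is injective with torsion-free cokernel over a
  Dedekind domain and the `L ⊗ Rᵢ` are reduced, then `L ⊗ B` is reduced;
* `natCard_primeSpectrum_tensor_le`: the DVR core.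
-/

set_option autoImplicit false
universe u

open TensorProduct

namespace Groth.Agent.Lib.LocConst5

section Count

variable (K : Type u) [Field K] (R : Type u) [CommRing R] [Algebra K R] [Module.Finite K R]

/-- The `K`-linear map `R → ∏ₘ R/m`. -/
noncomputable def toPiMax : R →ₗ[K] (∀ m : MaximalSpectrum R, R ⧸ m.asIdeal) :=
  LinearMap.pi fun m => (Ideal.Quotient.mkₐ K m.asIdeal).toLinearMap

theorem toPiMax_apply (x : R) (m : MaximalSpectrum R) :
    toPiMax K R x m = Ideal.Quotient.mk m.asIdeal x := rfl

theorem toPiMax_surjective : Function.Surjective (toPiMax K R) := by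
  haveI : IsArtinianRing R := IsArtinianRing.of_finite K R
  haveI : Finite (MaximalSpectrum R) := inferInstance
  have hcop : Pairwise (Function.onFun IsCoprime fun m : MaximalSpectrum R => m.asIdeal) := by
    intro m m' hne
    exact Ideal.isCoprime_iff_sup_eq.mpr (Ideal.IsMaximal.coprime_of_ne m.2 m'.2
      (fun h => hne (MaximalSpectrum.ext h)))
  intro y
  obtain ⟨x, hx⟩ := Ideal.quotientInfToPiQuotient_surj hcop y
  obtain ⟨x, rfl⟩ := Ideal.Quotient.mk_surjective x
  refine ⟨x, ?_⟩
  rw [← hx]
  rfl

theorem natCard_maximalSpectrum_le_finrank :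
    Nat.card (MaximalSpectrum R) ≤ Module.finrank K R := by
  haveI : IsArtinianRing R := IsArtinianRing.of_finite K R
  haveI : Finite (MaximalSpectrum R) := inferInstance
  haveI := Fintype.ofFinite (MaximalSpectrum R)
  refine le_trans ?_ (LinearMap.finrank_le_finrank_of_surjective (toPiMax_surjective K R))
  rw [Module.finrank_pi_fintype, Nat.card_eq_fintype_card, ← Finset.card_univ,
    Finset.card_eq_sum_ones]
  apply Finset.sum_le_sum
  intro m _
  haveI : Nontrivial (R ⧸ m.asIdeal) := Ideal.Quotient.nontrivial_iff.mpr m.2.ne_top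
  exact Module.finrank_pos

/-- A finite-dimensional algebra over a field has at most `finrank` many primes. -/
theorem natCard_primeSpectrum_le_finrank :
    Nat.card (PrimeSpectrum R) ≤ Module.finrank K R := by
  haveI : IsArtinianRing R := IsArtinianRing.of_finite K R
  rw [Nat.card_congr IsArtinianRing.primeSpectrumEquivMaximalSpectrum]
  exact natCard_maximalSpectrum_le_finrank K R

/-- A reduced finite-dimensional algebra over an algebraically closed field has exactly `finrank`
many primes. -/
theorem natCard_primeSpectrum_eq_finrank [IsAlgClosed K] [IsReduced R] :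
    Nat.card (PrimeSpectrum R) = Module.finrank K R := by
  haveI : IsArtinianRing R := IsArtinianRing.of_finite K R
  haveI : Finite (MaximalSpectrum R) := inferInstance
  haveI := Fintype.ofFinite (MaximalSpectrum R)
  rw [Nat.card_congr IsArtinianRing.primeSpectrumEquivMaximalSpectrum]
  have hbij : Function.Bijective (toPiMax K R) := by
    refine ⟨?_, toPiMax_surjective K R⟩
    have := (IsArtinianRing.equivPi R).injective
    intro x y hxy
    apply this
    funext m
    have := congrFun hxy m
    simpa [toPiMax_apply] using this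
  rw [(LinearEquiv.ofBijective _ hbij).finrank_eq, Module.finrank_pi_fintype,
    Nat.card_eq_fintype_card, ← Finset.card_univ, Finset.card_eq_sum_ones]
  apply Finset.sum_congr rfl
  intro m _
  letI : Field (R ⧸ m.asIdeal) := Ideal.Quotient.field m.asIdeal
  have hsurj : Function.Surjective (algebraMap K (R ⧸ m.asIdeal)) :=
    (IsAlgClosed.algebraMap_bijective_of_isIntegral (k := K) (K := R ⧸ m.asIdeal)).2
  symm
  rw [← Subalgebra.bot_eq_top_iff_finrank_eq_one]
  exact (Algebra.surjective_algebraMap_iff.mp hsurj).symm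

end Count

section Saturated

variable (A : Type u) [CommRing A] [IsDomain A] [IsDedekindDomain A]
  (B : Type u) [CommRing B] [Algebra A B]
  {ι : Type*} [Finite ι] (R : ι → Type u) [∀ i, CommRing (R i)] [∀ i, Algebra A (R i)]
  (ρ : ∀ i, B →ₐ[A] R i)

/-- The joint restriction map `B → ∏ Rᵢ`. -/
noncomputable def jointMap : B →ₗ[A] (∀ i, R i) :=
  LinearMap.pi fun i => (ρ i).toLinearMap

theorem jointMap_apply (b : B) (i : ι) : jointMap A B R ρ b i = ρ i b := rfl

variable {A B R ρ}

theorem jointMap_injective (hinj : ∀ b : B, (∀ i, ρ i b = 0) → b = 0) :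
    Function.Injective (jointMap A B R ρ) := by
  rw [injective_iff_map_eq_zero]
  intro b hb
  exact hinj b fun i => congrFun hb i

theorem isTorsionFree_quotient [∀ i, Module.IsTorsionFree A (R i)]
    (hsat : ∀ (a : A) (b : B), a ≠ 0 → (∀ i, ∃ c : R i, ρ i b = a • c) → ∃ b' : B, b = a • b') :
    Module.IsTorsionFree A ((∀ i, R i) ⧸ LinearMap.range (jointMap A B R ρ)) := by
  refine ⟨fun a ha => ?_⟩
  have ha0 : a ≠ 0 := ha.ne_zero
  rw [isSMulRegular_iff_right_eq_zero_of_smul]
  intro q hq
  obtain ⟨p, rfl⟩ := Submodule.Quotient.mk_surjective _ q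
  rw [← Submodule.Quotient.mk_smul, Submodule.Quotient.mk_eq_zero] at hq
  obtain ⟨b, hb⟩ := hq
  obtain ⟨b', rfl⟩ := hsat a b ha0 fun i => ⟨p i, by
    have := congrFun hb i
    rw [jointMap_apply] at this
    rw [this]; rfl⟩
  rw [Submodule.Quotient.mk_eq_zero]
  refine ⟨b', ?_⟩
  rw [map_smul] at hb
  exact smul_right_injective _ ha0 hb

/-- If `B → ∏ Rᵢ` is injective and saturated and all `L ⊗ Rᵢ` are reduced, then `L ⊗ B` is
reduced. -/
theorem isReduced_tensor_of_saturated [∀ i, Module.IsTorsionFree A (R i)]
    (hinj : ∀ b : B, (∀ i, ρ i b = 0) → b = 0)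
    (hsat : ∀ (a : A) (b : B), a ≠ 0 → (∀ i, ∃ c : R i, ρ i b = a • c) → ∃ b' : B, b = a • b')
    (L : Type u) [CommRing L] [Algebra A L] (hred : ∀ i, IsReduced (L ⊗[A] R i)) :
    IsReduced (L ⊗[A] B) := by
  haveI := isTorsionFree_quotient hsat
  have h1 : Function.Injective ((jointMap A B R ρ).lTensor L) :=
    LinearMap.lTensor_injective_of_exact_of_flat (LinearMap.range (jointMap A B R ρ)).mkQ
      (Submodule.mkQ_surjective _) (jointMap A B R ρ) (jointMap_injective hinj)
      (LinearMap.exact_map_mkQ_range _) L
  let Φ : L ⊗[A] B →+* ∀ i, L ⊗[A] R i :=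
    Pi.ringHom fun i => (Algebra.TensorProduct.map (AlgHom.id L L) (ρ i)).toRingHom
  have hΦ : Function.Injective Φ := by
    haveI := Fintype.ofFinite ι
    classical
    have hcomp : ∀ x : L ⊗[A] B,
        Φ x = TensorProduct.piRight A A L R ((jointMap A B R ρ).lTensor L x) := by
      intro x
      induction x using TensorProduct.induction_on with
      | zero => simp
      | tmul l b =>
        funext i
        simp only [Φ, LinearMap.lTensor_tmul, TensorProduct.piRight_apply,
          TensorProduct.piRightHom_tmul, jointMap_apply]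
        change (Algebra.TensorProduct.map (AlgHom.id L L) (ρ i)) (l ⊗ₜ[A] b) = _
        rw [Algebra.TensorProduct.map_tmul]
        rfl
      | add x y hx hy => rw [map_add, hx, hy, map_add, map_add]
    intro x y hxy
    rw [hcomp, hcomp] at hxy
    exact h1 ((TensorProduct.piRight A A L R).injective hxy)
  have : ∀ i, IsReduced (L ⊗[A] R i) := hred
  exact isReduced_of_injective Φ hΦ

end Saturated

section Core

variable (A : Type u) [CommRing A] [IsDomain A] [IsDiscreteValuationRing A]
  (B : Type u) [CommRing B] [Algebra A B] [Module.Finite A B]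
  {ι : Type*} [Finite ι] (R : ι → Type u) [∀ i, CommRing (R i)] [∀ i, Algebra A (R i)]
  (ρ : ∀ i, B →ₐ[A] R i) [∀ i, Module.IsTorsionFree A (R i)]

/-- **DVR core.** `B` a finite algebra over a discrete valuation ring `A`, embedded in a finite
product of torsion-free algebras `Rᵢ` with saturated image. If the `Rᵢ` become reduced over an
algebraically closed field `Ks`, then for any field `Kη` over `A`, the number of primes of
`Kη ⊗ B` is at most that of `Ks ⊗ B`. -/
theorem natCard_primeSpectrum_tensor_le
    (hinj : ∀ b : B, (∀ i, ρ i b = 0) → b = 0)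
    (hsat : ∀ (a : A) (b : B), a ≠ 0 → (∀ i, ∃ c : R i, ρ i b = a • c) → ∃ b' : B, b = a • b')
    (Kη Ks : Type u) [Field Kη] [Field Ks] [Algebra A Kη] [Algebra A Ks] [IsAlgClosed Ks]
    (hred : ∀ i, IsReduced (Ks ⊗[A] R i)) :
    Nat.card (PrimeSpectrum (Kη ⊗[A] B)) ≤ Nat.card (PrimeSpectrum (Ks ⊗[A] B)) := by
  haveI : Module.IsTorsionFree A B :=
    (jointMap_injective hinj).moduleIsTorsionFree _ (fun a b => map_smul _ a b)
  haveI : Module.Flat A B := inferInstance
  haveI : Module.Free A B := Module.free_of_flat_of_isLocalRing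
  haveI : IsReduced (Ks ⊗[A] B) := isReduced_tensor_of_saturated hinj hsat Ks hred
  calc Nat.card (PrimeSpectrum (Kη ⊗[A] B)) ≤ Module.finrank Kη (Kη ⊗[A] B) :=
        natCard_primeSpectrum_le_finrank Kη _
    _ = Module.finrank A B := Module.finrank_baseChange
    _ = Module.finrank Ks (Ks ⊗[A] B) := Module.finrank_baseChange.symm
    _ = Nat.card (PrimeSpectrum (Ks ⊗[A] B)) := (natCard_primeSpectrum_eq_finrank Ks _).symm

end Core

end Groth.Agent.Lib.LocConst5
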