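import Mathlib

/-!
# Local constancy of the number of geometric components, part B (helper5): gluing

`exists_eq_mul_of_locally`: if a global function `t` is regular on sections over all opens and a
global function `b` is locally divisible by `t`, then it is globally divisible by `t`.
-/

set_option autoImplicit false
universe u

open CategoryTheory CategoryTheory.Limits AlgebraicGeometry TopologicalSpace Opposite

namespace Groth.Agent.Lib.LocConst5

section Glue

variable {X : Scheme.{u}}

/-- Restriction of a global section to an open. -/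
noncomputable abbrev resTop (W : X.Opens) : Γ(X, ⊤) ⟶ Γ(X, W) :=
  X.presheaf.map (homOfLE (le_top : W ≤ ⊤)).op

theorem res_resTop {W W' : X.Opens} (h : W' ⟶ W) (s : Γ(X, ⊤)) :
    X.presheaf.map h.op (resTop W s) = resTop W' s := by
  rw [resTop, resTop, ← ConcreteCategory.comp_apply, ← Functor.map_comp]
  rfl

/-- If `t` is regular on sections over all opens and `b` is locally divisible by `t`, then `b` is
globally divisible by `t`. -/
theorem exists_eq_mul_of_locally (t b : Γ(X, ⊤))
    (hreg : ∀ (W : X.Opens) (s : Γ(X, W)), resTop W t * s = 0 → s = 0)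
    {ι : Type*} (V : ι → X.Opens) (hV : (⊤ : X.Opens) ≤ iSup V)
    (h : ∀ i, ∃ c : Γ(X, V i), resTop (V i) b = resTop (V i) t * c) :
    ∃ c : Γ(X, ⊤), b = t * c := by
  choose sf hsf using h
  have hcompat : TopCat.Presheaf.IsCompatible X.sheaf.1 V sf := by
    intro i j
    have e1 : resTop (V i ⊓ V j) t * X.presheaf.map (Opens.infLELeft (V i) (V j)).op (sf i) =
        resTop (V i ⊓ V j) b := by
      rw [← res_resTop (Opens.infLELeft (V i) (V j)) t, ← map_mul, ← hsf i, res_resTop]
    have e2 : resTop (V i ⊓ V j) t * X.presheaf.map (Opens.infLERight (V i) (V j)).op (sf j) =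
        resTop (V i ⊓ V j) b := by
      rw [← res_resTop (Opens.infLERight (V i) (V j)) t, ← map_mul, ← hsf j, res_resTop]
    have h1 : resTop (V i ⊓ V j) t * (X.presheaf.map (Opens.infLELeft (V i) (V j)).op (sf i) -
        X.presheaf.map (Opens.infLERight (V i) (V j)).op (sf j)) = 0 := by
      rw [mul_sub, e1, e2, sub_self]
    exact sub_eq_zero.mp (hreg _ _ h1)
  obtain ⟨c, hc, -⟩ : ∃! c : Γ(X, ⊤), ∀ i, X.presheaf.map (homOfLE (le_top : V i ≤ ⊤)).op c = sf i :=
    X.sheaf.existsUnique_gluing' V ⊤ (fun i => homOfLE le_top) hV sf hcompat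
  refine ⟨c, ?_⟩
  refine TopCat.Sheaf.eq_of_locally_eq' X.sheaf V ⊤ (fun i => homOfLE le_top) hV _ _ fun i => ?_
  have hci : X.presheaf.map (homOfLE (le_top : V i ≤ ⊤)).op c = sf i := hc i
  change resTop (V i) b = resTop (V i) (t * c)
  rw [map_mul, hsf i]
  congr 1
  exact hci.symm

end Glue

end Groth.Agent.Lib.LocConst5
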