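import Mathlib

/-!
# The Stein property of the relative normalization (helper5)

For `f : X ⟶ Y` universally closed and quasi-separated, `f.toNormalization : X ⟶ f.normalization`
satisfies `O_{Y'}(U) ≅ O_X(f'⁻¹U)` for every open `U` of `Y' = f.normalization`.
-/

set_option autoImplicit false
universe u

open CategoryTheory CategoryTheory.Limits AlgebraicGeometry TopologicalSpace Opposite

namespace Groth.Agent.Lib.SteinProp5

variable {X Y : Scheme.{u}} (f : X ⟶ Y)

set_option backward.isDefEq.respectTransparency false in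
/-- For `f` universally closed and `U` affine, `Γ(X, f⁻¹U)` is integral over `Γ(Y, U)`. -/
theorem isIntegral_app_of_universallyClosed [UniversallyClosed f] {U : Y.Opens}
    (hU : IsAffineOpen U) : (f.app U).hom.IsIntegral := by
  haveI : UniversallyClosed (f ∣_ U) := IsZariskiLocalAtTarget.restrict ‹UniversallyClosed f› U
  let g : (f ⁻¹ᵁ U).toScheme ⟶ Spec (CommRingCat.of Γ(Y, U)) := (f ∣_ U) ≫ hU.isoSpec.hom
  haveI : UniversallyClosed g := inferInstance
  have h := isIntegral_appTop_of_universallyClosed g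
  haveI : IsIso (Scheme.Hom.appTop hU.isoSpec.hom) :=
    inferInstanceAs (IsIso (hU.isoSpec.hom.app ⊤))
  rw [Scheme.Hom.comp_appTop, CommRingCat.hom_comp,
    RingHom.isIntegral_respectsIso.cancel_left_isIso] at h
  rw [morphismRestrict_appTop, CommRingCat.hom_comp,
    RingHom.isIntegral_respectsIso.cancel_right_isIso] at h
  have h' : (f.app (U.ι ''ᵁ ⊤)).hom.IsIntegral := h
  rw [Scheme.Opens.ι_image_top] at h'
  exact h'

set_option backward.isDefEq.respectTransparency false in
/-- Over the preimage of an affine open, `toNormalization` induces an isomorphism on sections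
(`f` universally closed). -/
theorem isIso_toNormalization_app_preimage [UniversallyClosed f] [QuasiSeparated f] {V : Y.Opens}
    (hV : IsAffineOpen V) :
    IsIso (f.toNormalization.app (f.fromNormalization ⁻¹ᵁ V)) := by
  have h := f.toNormalization_app_preimage ⟨V, hV⟩
  dsimp only at h
  rw [h]
  letI := (f.app V).hom.toAlgebra
  have hint : Algebra.IsIntegral Γ(Y, V) Γ(X, f ⁻¹ᵁ V) :=
    ⟨isIntegral_app_of_universallyClosed f hV⟩
  have hbij : Function.Bijective (integralClosure Γ(Y, V) Γ(X, f ⁻¹ᵁ V)).val.toRingHom := by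
    refine ⟨Subtype.val_injective, fun c => ⟨⟨c, hint.isIntegral c⟩, rfl⟩⟩
  have h2 : IsIso (CommRingCat.ofHom (integralClosure Γ(Y, V) Γ(X, f ⁻¹ᵁ V)).val.toRingHom) :=
    (ConcreteCategory.isIso_iff_bijective _).mpr hbij
  exact IsIso.comp_isIso' inferInstance (IsIso.comp_isIso' h2 inferInstance)

section Basic

variable {Z : Scheme.{u}} (g : X ⟶ Z)

set_option backward.isDefEq.respectTransparency false in
/-- Version of `IsAffineOpen.app_basicOpen_eq_away_map` with a qcqs (rather than affine) preimage. -/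
lemma app_basicOpen_eq_away_map_qcqs {W : Z.Opens} (hW : IsAffineOpen W)
    (hc : IsCompact (g ⁻¹ᵁ W).1) (hqs : IsQuasiSeparated (g ⁻¹ᵁ W).1) (r : Γ(Z, W)) :
    haveI := hW.isLocalization_basicOpen r
    haveI := isLocalization_basicOpen_of_qcqs hc hqs (g.app W r)
    g.app (Z.basicOpen r) =
      (CommRingCat.ofHom
        (IsLocalization.Away.map Γ(Z, Z.basicOpen r) Γ(X, X.basicOpen (g.app W r)) (g.app W).hom r)
        ≫ X.presheaf.map (eqToHom (by simp)).op) := by
  have := hW.isLocalization_basicOpen r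
  have := isLocalization_basicOpen_of_qcqs hc hqs (g.app W r)
  ext : 1
  apply IsLocalization.ringHom_ext (.powers r)
  rw [IsLocalization.Away.map, CommRingCat.hom_comp, RingHom.comp_assoc, CommRingCat.hom_ofHom,
    IsLocalization.map_comp, RingHom.algebraMap_toAlgebra,
    RingHom.algebraMap_toAlgebra, ← RingHom.comp_assoc, ← CommRingCat.hom_comp,
    ← CommRingCat.hom_comp, ← X.presheaf.map_comp]
  simp

/-- The map induced on localizations away from an element by a bijective ring map is bijective. -/
lemma bijective_away_map {R P S Q : Type u} [CommRing R] [CommRing P] [CommRing S] [CommRing Q]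
    [Algebra R S] [Algebra P Q] (φ : R →+* P) (hφ : Function.Bijective φ) (r : R)
    [IsLocalization.Away r S] [IsLocalization.Away (φ r) Q] :
    Function.Bijective (IsLocalization.Away.map S Q φ r) := by
  let e : R ≃+* P := RingEquiv.ofBijective φ hφ
  have H : (Submonoid.powers r).map e.toMonoidHom = Submonoid.powers (φ r) := by
    rw [Submonoid.map_powers]
    rfl
  have h := IsLocalization.ringEquivOfRingEquiv_eq_map (S := S) (Q := Q) (j := e) H
  have h2 : (IsLocalization.Away.map S Q φ r) =
      ((IsLocalization.ringEquivOfRingEquiv S Q e H : S ≃+* Q) : S →+* Q) := by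
    rw [h]
    rfl
  rw [h2]
  exact (IsLocalization.ringEquivOfRingEquiv S Q e H).bijective

set_option backward.isDefEq.respectTransparency false in
/-- If `g.app W` is an isomorphism for an affine open `W` with qcqs preimage, then so is
`g.app (Z.basicOpen r)` for every `r ∈ Γ(Z, W)`. -/
theorem isIso_app_basicOpen {W : Z.Opens} (hW : IsAffineOpen W)
    (hc : IsCompact (g ⁻¹ᵁ W).1) (hqs : IsQuasiSeparated (g ⁻¹ᵁ W).1) [hiso : IsIso (g.app W)]
    (r : Γ(Z, W)) : IsIso (g.app (Z.basicOpen r)) := by
  rw [app_basicOpen_eq_away_map_qcqs g hW hc hqs r]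
  haveI := hW.isLocalization_basicOpen r
  haveI := isLocalization_basicOpen_of_qcqs hc hqs (g.app W r)
  have hb := bijective_away_map (S := Γ(Z, Z.basicOpen r)) (Q := Γ(X, X.basicOpen (g.app W r)))
    (g.app W).hom (ConcreteCategory.bijective_of_isIso (g.app W)) r
  have h2 : IsIso (CommRingCat.ofHom (IsLocalization.Away.map Γ(Z, Z.basicOpen r)
      Γ(X, X.basicOpen (g.app W r)) (g.app W).hom r)) :=
    (ConcreteCategory.isIso_iff_bijective _).mpr hb
  exact IsIso.comp_isIso' h2 inferInstance

end Basic

section Stein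

set_option backward.isDefEq.respectTransparency false in
/-- **Stein property of the relative normalization**: for `f` universally closed and quasi-separated,
`O_{Y'}(U) → O_X(f'⁻¹U)` is an isomorphism for every open `U` of `Y' = f.normalization`. -/
theorem isIso_toNormalization_app [UniversallyClosed f] [QuasiSeparated f]
    (U : f.normalization.Opens) : IsIso (f.toNormalization.app U) := by
  let Y' := f.normalization
  let g := f.toNormalization
  let π := f.fromNormalization
  let F : TopCat.Sheaf CommRingCat Y' := Y'.sheaf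
  let G : TopCat.Sheaf CommRingCat Y' := (TopCat.Sheaf.pushforward CommRingCat g.base).obj X.sheaf
  let φ : F ⟶ G := ⟨g.c⟩
  let ι := Σ V : Y.affineOpens, Γ(Y', π ⁻¹ᵁ V.1)
  let B : ι → Y'.Opens := fun i => Y'.basicOpen i.2
  have hbasis : Opens.IsBasis (Set.range B) := by
    rw [Opens.isBasis_iff_nbhd]
    intro U x hxU
    obtain ⟨_, ⟨V, hV, rfl⟩, hxV, -⟩ :=
      Y.isBasis_affineOpens.exists_subset_of_mem_open (Set.mem_univ (π x)) isOpen_univ
    have hW : IsAffineOpen (π ⁻¹ᵁ V) := IsAffineOpen.preimage hV π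
    obtain ⟨r, hr, hxr⟩ := hW.exists_basicOpen_le (V := U) ⟨x, hxU⟩ hxV
    exact ⟨_, ⟨⟨⟨V, hV⟩, r⟩, rfl⟩, hxr, hr⟩
  haveI : IsIso φ := by
    refine TopCat.Sheaf.isIso_iff_isIso_basis (B := B) hbasis (fun i => ?_)
    show IsIso (g.app (Y'.basicOpen i.2))
    obtain ⟨⟨V, hV⟩, r⟩ := i
    have hW : IsAffineOpen (π ⁻¹ᵁ V) := IsAffineOpen.preimage hV π
    have e : g ⁻¹ᵁ (π ⁻¹ᵁ V) = f ⁻¹ᵁ V := by
      rw [← Scheme.Hom.comp_preimage, Scheme.Hom.toNormalization_fromNormalization]
    have hc : IsCompact (g ⁻¹ᵁ (π ⁻¹ᵁ V)).1 := by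
      rw [e]
      exact f.isCompact_preimage hV.isCompact
    have hqs : IsQuasiSeparated (g ⁻¹ᵁ (π ⁻¹ᵁ V)).1 := by
      rw [e]
      exact f.isQuasiSeparated_preimage hV.isQuasiSeparated
    haveI : IsIso (g.app (π ⁻¹ᵁ V)) := isIso_toNormalization_app_preimage f hV
    exact isIso_app_basicOpen g hW hc hqs r
  have h1 : IsIso ((TopCat.Sheaf.forget CommRingCat Y').map φ) := inferInstance
  exact (NatTrans.isIso_iff_isIso_app _).mp h1 (op U)

end Stein

end Groth.Agent.Lib.SteinProp5
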