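import Groth.Agent.Lib.SteinNormal5
import Groth.Agent.Lib.SteinProp5
import Groth.Agent.Lib.ConnFib5I
import Groth.Agent.Lib.FibrationNormal5

/-!
# `f_* O_X = O_Y` near a point (helper5)

* `isIso_app_of_forall_basis`: a morphism of schemes whose `app` is an isomorphism on a basis of
  opens has all `app`s isomorphisms.
* `isIso_app_of_le_of_isIso_app_affine`: for `f` qcqs and `U` an affine open with `f.app U` an
  isomorphism, `f.app V` is an isomorphism for all `V ≤ U`.
* `geometricallyConnected_fiber_of_isIso_app_le` (hypothesis form): pointwise Zariski connectedness.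
* S4480 in hypothesis form.
-/

set_option autoImplicit false
universe u

open CategoryTheory CategoryTheory.Limits AlgebraicGeometry TopologicalSpace Opposite

namespace Groth.Agent.Lib.SteinLocal5

open Groth.Agent.Lib.ProperFinHyp Groth.Agent.Lib.ConnFib5

section Basis

variable {X Y : Scheme.{u}} (f : X ⟶ Y)

theorem isIso_presheaf_map_eqToHom {U V : X.Opens} (h : U = V) :
    IsIso (X.presheaf.map (eqToHom h).op) := by
  subst h
  simp only [eqToHom_refl, op_id, CategoryTheory.Functor.map_id]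
  infer_instance

/-- A morphism of schemes whose `app` is an isomorphism on a basis of opens of the target has all
its `app`s isomorphisms. -/
theorem isIso_app_of_forall_basis {ι : Type*} (B : ι → Y.Opens)
    (hB : Opens.IsBasis (Set.range B)) (h : ∀ i, IsIso (f.app (B i))) :
    ∀ V : Y.Opens, IsIso (f.app V) := by
  let F : TopCat.Sheaf CommRingCat Y := Y.sheaf
  let G : TopCat.Sheaf CommRingCat Y := (TopCat.Sheaf.pushforward CommRingCat f.base).obj X.sheaf
  let φ : F ⟶ G := ⟨f.c⟩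
  haveI : IsIso φ := by
    refine TopCat.Sheaf.isIso_iff_isIso_basis (B := B) hB (fun i => ?_)
    show IsIso (f.app (B i))
    exact h i
  intro V
  have h1 : IsIso ((TopCat.Sheaf.forget CommRingCat Y).map φ) := inferInstance
  exact (NatTrans.isIso_iff_isIso_app _).mp h1 (op V)

/-- If `f` is quasi-compact and quasi-separated and `f.app U` is an isomorphism for an affine open
`U`, then `f.app V` is an isomorphism for every open `V ≤ U`. -/
theorem isIso_app_of_le_of_isIso_app_affine [QuasiCompact f] [QuasiSeparated f] {U : Y.Opens}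
    (hU : IsAffineOpen U) [hiso : IsIso (f.app U)] (V : Y.Opens) (hVU : V ≤ U) :
    IsIso (f.app V) := by
  haveI : IsAffine U.toScheme := hU
  have htop : IsIso ((f ∣_ U).app ⊤) := by
    have h1 : IsIso (f.app (U.ι ''ᵁ ⊤)) := by
      rw [U.ι_image_top]
      exact hiso
    rw [morphismRestrict_app f U ⊤]
    exact IsIso.comp_isIso' h1 (isIso_presheaf_map_eqToHom _)
  have hall : ∀ W : U.toScheme.Opens, IsIso ((f ∣_ U).app W) := by
    refine isIso_app_of_forall_basis (f ∣_ U)
      (fun t : Γ(U.toScheme, ⊤) => U.toScheme.basicOpen t)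
      (isBasis_basicOpen U.toScheme) (fun t => ?_)
    exact Groth.Agent.Lib.SteinProp5.isIso_app_basicOpen (f ∣_ U) (isAffineOpen_top _)
      ((f ∣_ U).isCompact_preimage (isAffineOpen_top _).isCompact)
      ((f ∣_ U).isQuasiSeparated_preimage (isAffineOpen_top _).isQuasiSeparated) t
  have e : U.ι ''ᵁ (U.ι ⁻¹ᵁ V) = V := by
    rw [Scheme.Hom.image_preimage_eq_opensRange_inf, Scheme.Opens.opensRange_ι]
    exact inf_eq_right.mpr hVU
  have h3 := morphismRestrict_app f U (U.ι ⁻¹ᵁ V)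
  haveI := hall (U.ι ⁻¹ᵁ V)
  have h4 : IsIso (f.app (U.ι ''ᵁ (U.ι ⁻¹ᵁ V))) := by
    have hm := isIso_presheaf_map_eqToHom (X := X)
      (image_morphismRestrict_preimage f U (U.ι ⁻¹ᵁ V))
    have hc : IsIso (f.app (U.ι ''ᵁ (U.ι ⁻¹ᵁ V)) ≫
        X.presheaf.map (eqToHom (image_morphismRestrict_preimage f U (U.ι ⁻¹ᵁ V))).op) := by
      rw [← h3]
      exact hall (U.ι ⁻¹ᵁ V)
    exact @IsIso.of_isIso_comp_right _ _ _ _ _ _ _ hm hc
  rw [e] at h4
  exact h4

end Basis

section Away

/-- The map induced on localizations away from `s` by an injective ring map `φ : B → C` with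
`φ s • C ⊆ φ B` is bijective. -/
theorem bijective_away_map_of_mul_mem_range {B C S Q : Type u} [CommRing B] [CommRing C]
    [CommRing S] [CommRing Q] [Algebra B S] [Algebra C Q] (φ : B →+* C)
    (hφ : Function.Injective φ) (s : B) [IsLocalization.Away s S] [IsLocalization.Away (φ s) Q]
    (h : ∀ c : C, ∃ b : B, φ s * c = φ b) :
    Function.Bijective (IsLocalization.Away.map S Q φ s) := by
  have hle : Submonoid.powers s ≤ (Submonoid.powers (φ s)).comap φ := by
    rintro _ ⟨n, rfl⟩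
    exact ⟨n, (map_pow φ s n).symm⟩
  have hmap : ∀ (b : B) (y : Submonoid.powers s),
      IsLocalization.Away.map S Q φ s (IsLocalization.mk' S b y) =
        IsLocalization.mk' Q (φ b) (⟨φ y, hle y.2⟩ : Submonoid.powers (φ s)) := by
    intro b y
    exact IsLocalization.map_mk' _ b y
  constructor
  · rw [injective_iff_map_eq_zero]
    intro x hx
    obtain ⟨b, y, rfl⟩ := IsLocalization.exists_mk'_eq (Submonoid.powers s) x
    rw [hmap, IsLocalization.mk'_eq_zero_iff] at hx
    obtain ⟨⟨_, n, rfl⟩, hm⟩ := hx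
    rw [IsLocalization.mk'_eq_zero_iff]
    refine ⟨⟨s ^ n, n, rfl⟩, hφ ?_⟩
    rw [map_mul, map_pow, map_zero]
    exact hm
  · intro q
    obtain ⟨c, y, rfl⟩ := IsLocalization.exists_mk'_eq (Submonoid.powers (φ s)) q
    obtain ⟨y, n, rfl⟩ := y
    obtain ⟨b, hb⟩ := h c
    refine ⟨IsLocalization.mk' S b (⟨s ^ (n + 1), n + 1, rfl⟩ : Submonoid.powers s), ?_⟩
    rw [hmap, IsLocalization.mk'_eq_iff_eq]
    congr 1
    simp only [map_pow]
    rw [← hb]
    ring

variable {X Z : Scheme.{u}} (g : X ⟶ Z)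

set_option backward.isDefEq.respectTransparency false in
theorem isIso_app_basicOpen_of_mul_mem_range {W : Z.Opens} (hW : IsAffineOpen W)
    (hc : IsCompact (g ⁻¹ᵁ W).1) (hqs : IsQuasiSeparated (g ⁻¹ᵁ W).1) (r : Γ(Z, W))
    (hinj : Function.Injective (g.app W).hom)
    (h : ∀ c : Γ(X, g ⁻¹ᵁ W), ∃ b : Γ(Z, W), (g.app W).hom r * c = (g.app W).hom b) :
    IsIso (g.app (Z.basicOpen r)) := by
  rw [Groth.Agent.Lib.SteinProp5.app_basicOpen_eq_away_map_qcqs g hW hc hqs r]
  haveI := hW.isLocalization_basicOpen r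
  haveI := isLocalization_basicOpen_of_qcqs hc hqs (g.app W r)
  have hb := bijective_away_map_of_mul_mem_range (S := Γ(Z, Z.basicOpen r))
    (Q := Γ(X, X.basicOpen (g.app W r))) (g.app W).hom hinj r h
  have h2 : IsIso (CommRingCat.ofHom (IsLocalization.Away.map Γ(Z, Z.basicOpen r)
      Γ(X, X.basicOpen (g.app W r)) (g.app W).hom r)) :=
    (ConcreteCategory.isIso_iff_bijective _).mpr hb
  exact IsIso.comp_isIso' h2 inferInstance

end Away

section Geom

variable {X Y : Scheme.{u}} (f : X ⟶ Y)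

/-- **Zariski's connectedness theorem, pointwise** (hypothesis form): `f` proper, `Y` locally
Noetherian, `O_Y(V) ≅ O_X(f⁻¹V)` for all affine opens `V` inside an open `U₀`: the fibres of `f` over
the points of `U₀` are geometrically connected. -/
theorem geometricallyConnected_fiber_of_isIso_app_le (H2 : Hyp.{u}) (H58 : Hyp58.{u}) [IsProper f]
    [IsLocallyNoetherian Y] (U₀ : Y.Opens) (hf : ∀ V : Y.Opens, V ≤ U₀ → IsIso (f.app V))
    (s : Y) (hs : s ∈ U₀) : GeometricallyConnected (f.fiberToSpecResidueField s) := by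
  rw [Groth.Agent.Lib.H71EtFibreConn.geomConn_iff]
  intro U g u hg hgu
  haveI : Etale g := hg
  haveI : IsLocallyNoetherian U := LocallyOfFiniteType.isLocallyNoetherian g
  have hsU : g u ∈ U₀ := hgu ▸ hs
  obtain ⟨_, ⟨V, hV, rfl⟩, hsV, hVU₀⟩ :=
    Y.isBasis_affineOpens.exists_subset_of_mem_open hsU U₀.2
  obtain ⟨_, ⟨W, hW, rfl⟩, huW, hWV⟩ :=
    U.isBasis_affineOpens.exists_subset_of_mem_open (a := u) hsV (g ⁻¹ᵁ V).2
  haveI := hf V hVU₀
  haveI : IsIso ((pullback.snd f g).app W) := isIso_app_pullback_snd_of_flat f g hV hW hWV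
  exact connectedSpace_fiber_of_isConnected (pullback.snd f g) u
    (isConnected_preimage_singleton_of_isIso_app (pullback.snd f g) H2 H58 u hW huW)

end Geom

section Normal

variable {X Y : Scheme.{u}} [IsIntegral X] [IsIntegral Y] (f : X ⟶ Y)

open Groth.Agent.Lib.FibrationNormal5 in
/-- Key step of EGA III 4.3.12: around a normal point `y`, every function on `f⁻¹ V₀` becomes, after
multiplication by some `s` not vanishing at `y`, a function coming from `V₀`. -/
theorem exists_mul_eq_of_normal_point (H : Hyp.{u}) [IsLocallyNoetherian Y] [IsProper f]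
    (hdom : f.base (genericPoint X) ⤳ genericPoint Y)
    (halg : ∀ x : X.functionField,
      (∃ q : Polynomial Y.functionField, q ≠ 0 ∧
        Polynomial.eval₂ (CohIII.stalkToFunctionField f (genericPoint Y) hdom) x q = 0) →
      x ∈ Set.range (CohIII.stalkToFunctionField f (genericPoint Y) hdom))
    (y : Y) (hy : IsIntegrallyClosed (Y.presheaf.stalk y)) {V₀ : Y.Opens} (hV₀ : IsAffineOpen V₀)
    (hyV₀ : y ∈ V₀) (c : Γ(X, f ⁻¹ᵁ V₀)) :
    ∃ s : Γ(Y, V₀), y ∈ Y.basicOpen s ∧ ∃ b : Γ(Y, V₀), (f.app V₀).hom s * c = (f.app V₀).hom b := by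
  set ψ := CohIII.stalkToFunctionField f (genericPoint Y) hdom with hψ
  haveI : Nonempty V₀ := ⟨⟨y, hyV₀⟩⟩
  have hη : genericPoint Y ∈ V₀ := genericPoint_mem_of_nonempty V₀ ⟨y, hyV₀⟩
  have hgen : f.base (genericPoint X) = genericPoint Y :=
    Groth.Agent.Lib.SteinNormal5.map_genericPoint_eq f hdom
  have hξ : genericPoint X ∈ f ⁻¹ᵁ V₀ := by
    change f.base _ ∈ V₀
    rw [hgen]
    exact hη
  have hcomm : ∀ b : Γ(Y, V₀), ψ (Y.presheaf.germ V₀ (genericPoint Y) hη b) =
      X.presheaf.germ (f ⁻¹ᵁ V₀) (genericPoint X) hξ ((f.app V₀).hom b) := by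
    intro b
    have := stalkToFunctionField_germ f hdom V₀ hη (f ⁻¹ᵁ V₀) le_rfl hξ b
    rw [this, ← Scheme.Hom.app_eq_appLE]
  have hιinj := germ_injective_of_isIntegral X (genericPoint X) hξ
  -- `c` is integral over `Γ(Y, V₀)`
  have hfin : (f.app V₀).hom.Finite := Groth.Agent.Lib.SteinFin5.finite_app_of_hyp H f hV₀
  obtain ⟨p, hp, hpc⟩ := hfin.to_isIntegral c
  -- its image in `K(X)` is algebraic over `K(Y)`, hence comes from `k ∈ K(Y)`
  have hroot : Polynomial.eval₂ ψ (X.presheaf.germ (f ⁻¹ᵁ V₀) (genericPoint X) hξ c)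
      (p.map (Y.presheaf.germ V₀ (genericPoint Y) hη).hom) = 0 := by
    rw [Polynomial.eval₂_map]
    have e1 : ψ.comp (Y.presheaf.germ V₀ (genericPoint Y) hη).hom =
        (X.presheaf.germ (f ⁻¹ᵁ V₀) (genericPoint X) hξ).hom.comp (f.app V₀).hom :=
      RingHom.ext hcomm
    rw [e1, ← Polynomial.hom_eval₂, hpc, map_zero]
  obtain ⟨k, hk⟩ := halg _ ⟨_, (hp.map _).ne_zero, hroot⟩
  -- `k` is integral over `Γ(Y, V₀)`, hence over the stalk at `y`
  have hkint : IsIntegral Γ(Y, V₀) k := by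
    refine ⟨p, hp, ψ.injective ?_⟩
    rw [map_zero, Polynomial.hom_eval₂, hk]
    rw [Polynomial.eval₂_map] at hroot
    exact hroot
  letI : Algebra Γ(Y, V₀) (Y.presheaf.stalk y) :=
    TopCat.Presheaf.algebra_section_stalk Y.presheaf ⟨y, hyV₀⟩
  haveI : IsScalarTower Γ(Y, V₀) (Y.presheaf.stalk y) Y.functionField :=
    functionField_isScalarTower Y V₀ ⟨y, hyV₀⟩
  have hkint' : IsIntegral (Y.presheaf.stalk y) k := hkint.tower_top
  obtain ⟨t, ht⟩ := IsIntegrallyClosed.isIntegral_iff.mp hkint'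
  -- write `t = b / s`
  haveI := hV₀.isLocalization_stalk ⟨y, hyV₀⟩
  obtain ⟨⟨b, s⟩, hbs⟩ := IsLocalization.surj
    (hV₀.primeIdealOf ⟨y, hyV₀⟩).asIdeal.primeCompl t
  have hsunit : IsUnit (Y.presheaf.germ V₀ y hyV₀ (s : Γ(Y, V₀))) :=
    IsLocalization.map_units (Y.presheaf.stalk y) s
  refine ⟨s, (Y.mem_basicOpen _ y hyV₀).mpr hsunit, b, ?_⟩
  apply hιinj
  rw [map_mul, ← hcomm, ← hcomm, ← hk, ← map_mul]
  congr 1
  -- in `K(Y)`
  have h1 := congrArg (algebraMap (Y.presheaf.stalk y) Y.functionField) hbs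
  rw [map_mul, ht] at h1
  have h2 : ∀ a : Γ(Y, V₀), algebraMap (Y.presheaf.stalk y) Y.functionField
      (algebraMap Γ(Y, V₀) (Y.presheaf.stalk y) a) = Y.presheaf.germ V₀ (genericPoint Y) hη a := by
    intro a
    exact (IsScalarTower.algebraMap_apply Γ(Y, V₀) (Y.presheaf.stalk y)
      Y.functionField a).symm
  rw [h2, h2] at h1
  rw [mul_comm]
  exact h1

open Groth.Agent.Lib.FibrationNormal5 in
/-- For a dominant morphism of integral schemes, `O_Y(V) → O_X(f⁻¹V)` is injective. -/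
theorem injective_app_of_dominant (hdom : f.base (genericPoint X) ⤳ genericPoint Y) (V₀ : Y.Opens)
    (hη : genericPoint Y ∈ V₀) : Function.Injective (f.app V₀).hom := by
  have hgen : f.base (genericPoint X) = genericPoint Y :=
    Groth.Agent.Lib.SteinNormal5.map_genericPoint_eq f hdom
  have hξ : genericPoint X ∈ f ⁻¹ᵁ V₀ := by
    change f.base _ ∈ V₀
    rw [hgen]
    exact hη
  intro a a' haa
  apply germ_injective_of_isIntegral Y (genericPoint Y) hη
  apply (CohIII.stalkToFunctionField f (genericPoint Y) hdom).injective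
  have h1 := stalkToFunctionField_germ f hdom V₀ hη (f ⁻¹ᵁ V₀) le_rfl hξ a
  have h2 := stalkToFunctionField_germ f hdom V₀ hη (f ⁻¹ᵁ V₀) le_rfl hξ a'
  rw [← Scheme.Hom.app_eq_appLE] at h1 h2
  rw [h1, h2, haa]

/-- **EGA III 4.3.12, second part** (hypothesis form on S0002): around a normal point `y` of `Y`,
`O_Y → f_* O_X` is an isomorphism, for `f` proper dominant with `K(Y)` algebraically closed in
`K(X)`. -/
theorem exists_isIso_app_near_normal_point (H : Hyp.{u}) [IsLocallyNoetherian Y] [IsProper f]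
    (hdom : f.base (genericPoint X) ⤳ genericPoint Y)
    (halg : ∀ x : X.functionField,
      (∃ q : Polynomial Y.functionField, q ≠ 0 ∧
        Polynomial.eval₂ (CohIII.stalkToFunctionField f (genericPoint Y) hdom) x q = 0) →
      x ∈ Set.range (CohIII.stalkToFunctionField f (genericPoint Y) hdom))
    (y : Y) (hy : IsIntegrallyClosed (Y.presheaf.stalk y)) :
    ∃ U : Y.Opens, y ∈ U ∧ ∀ V : Y.Opens, V ≤ U → IsIso (f.app V) := by
  classical
  obtain ⟨_, ⟨V₀, hV₀, rfl⟩, hyV₀, -⟩ :=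
    Y.isBasis_affineOpens.exists_subset_of_mem_open (Set.mem_univ y) isOpen_univ
  have hη : genericPoint Y ∈ V₀ :=
    Groth.Agent.Lib.FibrationNormal5.genericPoint_mem_of_nonempty V₀ ⟨y, hyV₀⟩
  choose s hs b hb using fun c =>
    exists_mul_eq_of_normal_point f H hdom halg y hy hV₀ hyV₀ c
  have hfin : (f.app V₀).hom.Finite := Groth.Agent.Lib.SteinFin5.finite_app_of_hyp H f hV₀
  letI := (f.app V₀).hom.toAlgebra
  haveI : Module.Finite Γ(Y, V₀) Γ(X, f ⁻¹ᵁ V₀) := hfin
  obtain ⟨S, hS⟩ := (Module.Finite.fg_top : (⊤ : Submodule Γ(Y, V₀) Γ(X, f ⁻¹ᵁ V₀)).FG)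
  set st := ∏ c ∈ S, s c with hst
  have hyst : y ∈ Y.basicOpen st := by
    rw [Y.mem_basicOpen _ y hyV₀, hst, map_prod, IsUnit.prod_iff]
    intro c _
    exact (Y.mem_basicOpen _ y hyV₀).mp (hs c)
  have hmem : ∀ c : Γ(X, f ⁻¹ᵁ V₀), ∃ b' : Γ(Y, V₀),
      (f.app V₀).hom st * c = (f.app V₀).hom b' := by
    intro c
    have hc : c ∈ Submodule.span Γ(Y, V₀) (S : Set Γ(X, f ⁻¹ᵁ V₀)) := by rw [hS]; trivial
    induction hc using Submodule.span_induction with
    | mem c hc =>
      refine ⟨(∏ c' ∈ S.erase c, s c') * b c, ?_⟩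
      rw [hst, ← Finset.prod_erase_mul S s hc, map_mul, map_mul, mul_assoc, hb c]
    | zero => exact ⟨0, by simp⟩
    | add c c' _ _ h1 h2 =>
      obtain ⟨b1, h1⟩ := h1
      obtain ⟨b2, h2⟩ := h2
      exact ⟨b1 + b2, by rw [mul_add, h1, h2, map_add]⟩
    | smul β c _ h1 =>
      obtain ⟨b1, h1⟩ := h1
      refine ⟨β * b1, ?_⟩
      rw [Algebra.smul_def, RingHom.algebraMap_toAlgebra, mul_left_comm, h1, map_mul]
  haveI : IsIso (f.app (Y.basicOpen st)) :=
    isIso_app_basicOpen_of_mul_mem_range f hV₀ (f.isCompact_preimage hV₀.isCompact)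
      (f.isQuasiSeparated_preimage hV₀.isQuasiSeparated) st
      (injective_app_of_dominant f hdom V₀ hη) hmem
  exact ⟨Y.basicOpen st, hyst, fun V hV =>
    isIso_app_of_le_of_isIso_app_affine f (hV₀.basicOpen st) V hV⟩

/-- **S4480 (hypothesis form)**: EGA III 4.3.12. -/
theorem geometricallyConnected_and_isIso_app_near_normal_point (H2 : Hyp.{u}) (H58 : Hyp58.{u})
    [IsLocallyNoetherian Y] [IsProper f]
    (hdom : f.base (genericPoint X) ⤳ genericPoint Y)
    (halg : ∀ x : X.functionField,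
      (∃ q : Polynomial Y.functionField, q ≠ 0 ∧
        Polynomial.eval₂ (CohIII.stalkToFunctionField f (genericPoint Y) hdom) x q = 0) →
      x ∈ Set.range (CohIII.stalkToFunctionField f (genericPoint Y) hdom))
    (y : Y) (hy : IsIntegrallyClosed (Y.presheaf.stalk y)) :
    GeometricallyConnected (f.fiberToSpecResidueField y) ∧
      ∃ U : Y.Opens, y ∈ U ∧ ∀ V : Y.Opens, V ≤ U → IsIso (f.app V) := by
  obtain ⟨U, hyU, hU⟩ := exists_isIso_app_near_normal_point f H2 hdom halg y hy
  exact ⟨geometricallyConnected_fiber_of_isIso_app_le f H2 H58 U hU y hyU, U, hyU, hU⟩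

end Normal

end Groth.Agent.Lib.SteinLocal5
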