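import Groth.Agent.Lib.ConnFib5J
import Groth.Agent.Lib.SteinLocal5

/-!
# Stein factorisation over a field, part A (helper5)

* geometric connectedness of a composition `f ≫ g` when `f` is universally closed (instead of
  universally open), and descent of geometric connectedness along a surjective first factor;
* for `X` proper over a field `k` (more generally over a Noetherian ring `A`), the canonical morphism
  `X ⟶ Spec Γ(X, O_X)` is geometrically connected (hypothesis form of the finiteness theorem and the
  theorem on formal functions).
-/

set_option autoImplicit false
universe u

open CategoryTheory CategoryTheory.Limits AlgebraicGeometry TopologicalSpace Opposite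

namespace Groth.Agent.Lib.SteinField5

open Groth.Agent.Lib.ProperFinHyp

section Comp

variable {X Y Z : Scheme.{u}} (f : X ⟶ Y) (g : Y ⟶ Z)

/-- A universally closed geometrically connected morphism onto a connected scheme has connected
source. -/
theorem connectedSpace_of_geometricallyConnected_of_universallyClosed [GeometricallyConnected f]
    [UniversallyClosed f] [ConnectedSpace Y] : ConnectedSpace X :=
  Groth.Agent.Lib.ConnFib5.connectedSpace_of_isConnected_fibres f
    (fun y => f.isConnected_preimage_singleton y)

/-- Geometric connectedness is stable under composition when the first morphism is universally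
closed. -/
theorem geometricallyConnected_comp_of_universallyClosed [GeometricallyConnected f]
    [UniversallyClosed f] [GeometricallyConnected g] : GeometricallyConnected (f ≫ g) := by
  refine ⟨geometrically_iff_of_isClosedUnderIsomorphisms.mpr fun K _ x ↦ ?_⟩
  rw [← (pullbackRightPullbackFstIso g x f).hom.homeomorph.connectedSpace_iff]
  have : ConnectedSpace ↥(pullback g x) :=
    pullback_of_geometrically (P := fun X => ConnectedSpace X)
      (GeometricallyConnected.geometrically_connectedSpace (f := g)) K x
  exact connectedSpace_of_geometricallyConnected_of_universallyClosed
    (pullback.snd f (pullback.fst g x))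

/-- If `f ≫ g` is geometrically connected and `f` is surjective, then `g` is geometrically
connected. -/
theorem geometricallyConnected_of_comp_of_surjective [Surjective f]
    [GeometricallyConnected (f ≫ g)] : GeometricallyConnected g := by
  refine ⟨geometrically_iff_of_isClosedUnderIsomorphisms.mpr fun K _ x ↦ ?_⟩
  have : ConnectedSpace ↥(pullback (f ≫ g) x) :=
    pullback_of_geometrically (P := fun X => ConnectedSpace X)
      (GeometricallyConnected.geometrically_connectedSpace (f := f ≫ g)) K x
  have : ConnectedSpace ↥(pullback f (pullback.fst g x)) :=
    (pullbackRightPullbackFstIso g x f).hom.homeomorph.connectedSpace_iff.mpr inferInstance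
  have hs : Surjective (pullback.snd f (pullback.fst g x)) := inferInstance
  exact hs.surj.connectedSpace (pullback.snd f (pullback.fst g x)).continuous

end Comp

section ToSpecΓ

variable {X : Scheme.{u}}

theorem isIso_toSpecΓ_app [CompactSpace X] [QuasiSeparatedSpace X] (V : (Spec Γ(X, ⊤)).Opens) :
    IsIso (X.toSpecΓ.app V) := by
  have : IsIso (X.toSpecΓ.app ⊤) := by
    have h : X.toSpecΓ.app ⊤ = (Scheme.ΓSpecIso Γ(X, ⊤)).hom := X.toSpecΓ_appTop
    rw [h]
    exact Iso.isIso_hom _
  exact Groth.Agent.Lib.SteinLocal5.isIso_app_of_le_of_isIso_app_affine X.toSpecΓ
    (isAffineOpen_top _) V le_top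

end ToSpecΓ

end Groth.Agent.Lib.SteinField5
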