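import Groth.Agent.Lib.GeomCompLSC5C
import Groth.Agent.Lib.SteinField5A
import Groth.Agent.Lib.SteinFin5
import Groth.Agent.Lib.LocConst5A
import Groth.Agent.Lib.LocConst5B

/-!
# Local constancy of the number of geometric components, part C (helper5): counting

* `card_pullback_eq`: the cardinality of the geometric fibre of a finite morphism does not depend
  on the separably closed geometric point;
* `nGeomConnComp_comp_eq_card`: for `π` universally closed with geometrically connected fibres
  and `g` finite, `n_{π ≫ g}(z)` is the number of points of `g⁻¹(z) ⊗ K` for any separably closed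
  geometric point `Spec K → Y` over `z`;
* `card_pullback_specMap`: affine description.
-/

set_option autoImplicit false
universe u

open CategoryTheory CategoryTheory.Limits AlgebraicGeometry TopologicalSpace Opposite TensorProduct

namespace Groth.Agent.Lib.LocConst5

open Groth.Agent.Lib.GeomCompLSC5

section Count

variable {Y' Y : Scheme.{u}} (g : Y' ⟶ Y) [IsFinite g]

theorem card_pullback_le (K K' : Type u) [Field K] [Field K'] [IsSepClosed K] [IsSepClosed K']
    (c : Spec (CommRingCat.of K) ⟶ Y) (c' : Spec (CommRingCat.of K') ⟶ Y)
    (h : c.base (IsLocalRing.closedPoint K) = c'.base (IsLocalRing.closedPoint K')) :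
    ENat.card ↥(pullback g c) ≤ ENat.card ↥(pullback g c') := by
  haveI : DiscreteTopology ↥(pullback g c) :=
    discreteTopology_of_isFinite_field _ (pullback.snd g c)
  haveI : IsAffine (pullback g c) := isAffine_of_isAffineHom (pullback.snd g c)
  haveI : Finite ↥(pullback g c) := finite_of_compact_of_discrete
  have hcard : ENat.card ↥(pullback g c) = (Nat.card ↥(pullback g c) : ℕ∞) :=
    ENat.card_eq_coe_natCard _
  have hd := distinctPts_of_le_card g K c (Nat.card ↥(pullback g c)) hcard.ge
  rw [h] at hd
  rw [hcard]
  exact le_card_of_distinctPts g K' c' _ hd

/-- The cardinality of the geometric fibre of a finite morphism does not depend on the separably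
closed geometric point. -/
theorem card_pullback_eq (K K' : Type u) [Field K] [Field K'] [IsSepClosed K] [IsSepClosed K']
    (c : Spec (CommRingCat.of K) ⟶ Y) (c' : Spec (CommRingCat.of K') ⟶ Y)
    (h : c.base (IsLocalRing.closedPoint K) = c'.base (IsLocalRing.closedPoint K')) :
    ENat.card ↥(pullback g c) = ENat.card ↥(pullback g c') :=
  le_antisymm (card_pullback_le g K K' c c' h) (card_pullback_le g K' K c' c h.symm)

set_option backward.isDefEq.respectTransparency.types false in
/-- For `π` universally closed with geometrically connected fibres and `g` finite, the geometric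
number of connected components of the fibres of `π ≫ g` is the number of points of the geometric
fibres of `g`, computed with any separably closed geometric point. -/
theorem nGeomConnComp_comp_eq_card {X : Scheme.{u}} (π : X ⟶ Y') [UniversallyClosed π]
    [GeometricallyConnected π] (K : Type u) [Field K] [IsSepClosed K]
    (c : Spec (CommRingCat.of K) ⟶ Y) :
    MoreMor.nGeomConnComp (π ≫ g) (c.base (IsLocalRing.closedPoint K)) =
      ENat.card ↥(pullback g c) := by
  set z := c.base (IsLocalRing.closedPoint K) with hz
  haveI : Surjective π := inferInstance
  rw [nGeomConnComp_eq, card_connectedComponents_pullback_comp]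
  haveI := discreteTopology_of_isFinite_field _ (pullback.snd g (geomPt z))
  rw [card_connectedComponents_of_discrete]
  exact card_pullback_eq g _ K (geomPt z) c (geomPt_apply z)

end Count

section Affine

/-- Affine description of the geometric fibre. -/
theorem card_pullback_specMap (A B K : Type u) [CommRing A] [CommRing B] [CommRing K]
    [Algebra A B] [Algebra A K] :
    ENat.card ↥(pullback (Spec.map (CommRingCat.ofHom (algebraMap A B)))
      (Spec.map (CommRingCat.ofHom (algebraMap A K)))) =
      ENat.card (PrimeSpectrum (K ⊗[A] B)) := by
  have e1 := (pullbackSpecIso A B K).hom.homeomorph.toEquiv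
  have e2 : PrimeSpectrum (B ⊗[A] K) ≃ PrimeSpectrum (K ⊗[A] B) :=
    (PrimeSpectrum.comapEquiv (Algebra.TensorProduct.comm A B K).toRingEquiv).toEquiv
  exact ENat.card_congr (e1.trans e2)

end Affine

end Groth.Agent.Lib.LocConst5
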