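import Groth.Agent.Lib.LocConst5D
import Groth.Agent.Lib.GeomFibBC13
import Groth.Agent.S4950
import Groth.Agent.S1339

/-!
# Local constancy of the number of geometric components, part E (helper5): S3416

* `exists_specializes_of_mem_closure`: a point in the closure of a constructible subset of a prime
  spectrum is a specialization of a point of that subset;
* `mem_nhds_of_forall_specializes`: a locally constructible subset of a scheme containing all
  generizations of `y` is a neighbourhood of `y`;
* `nGeomConnComp_le_of_specializes`: `n(z) ≤ n(y)` for `z ⤳ y` (via the DVR lemma);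
* `exists_nhds_nGeomConnComp_eq`: S3416 in hypothesis form.
-/

set_option autoImplicit false
universe u

open CategoryTheory CategoryTheory.Limits AlgebraicGeometry TopologicalSpace Opposite TensorProduct
  IsLocalRing Topology

namespace Groth.Agent.Lib.LocConst5

open Groth.Agent.Lib.GeomCompLSC5 Groth.Agent.Lib.H77GeomRedSch
  Groth.Agent.Lib.ProperFinHyp Groth.Agent.Lib.ConnFib5

section Constructible

/-- A point in the closure of a constructible subset of a prime spectrum is a specialization of a
point of that subset. -/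
theorem exists_specializes_of_mem_closure {R : Type u} [CommRing R] {T : Set (PrimeSpectrum R)}
    (hT : IsConstructible T) {y : PrimeSpectrum R} (hy : y ∈ closure T) :
    ∃ z ∈ T, z ⤳ y := by
  obtain ⟨S, _, f, rfl⟩ := PrimeSpectrum.exists_range_eq_of_isConstructible hT
  rw [PrimeSpectrum.closure_range_comap, PrimeSpectrum.mem_zeroLocus, SetLike.coe_subset_coe] at hy
  obtain ⟨q, hq, hqy⟩ := Ideal.exists_minimalPrimes_le (I := RingHom.ker f) (J := y.asIdeal) hy
  obtain ⟨p', hp', _, hcomap⟩ := Ideal.exists_comap_eq_of_mem_minimalPrimes f (I := ⊥) q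
    (by rwa [← RingHom.ker_eq_comap_bot])
  refine ⟨PrimeSpectrum.comap f ⟨p', hp'⟩, ⟨_, rfl⟩, ?_⟩
  rw [← PrimeSpectrum.le_iff_specializes]
  change Ideal.comap f p' ≤ y.asIdeal
  rw [hcomap]
  exact hqy

/-- A locally constructible subset of a scheme containing all generizations of `y` is a
neighbourhood of `y`. -/
theorem mem_nhds_of_forall_specializes {Y : Scheme.{u}} {S : Set Y}
    (hS : IsLocallyConstructible S) (y : Y) (h : ∀ z : Y, z ⤳ y → z ∈ S) : S ∈ nhds y := by
  obtain ⟨R, j, hjo, y₀, hy₀⟩ : ∃ (R : CommRingCat.{u}) (j : Spec R ⟶ Y),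
      IsOpenImmersion j ∧ ∃ y₀, j.base y₀ = y :=
    ⟨_, Y.affineCover.f (Y.affineCover.idx y), Y.affineCover.map_prop _, Y.affineCover.covers y⟩
  subst hy₀
  have hj : IsOpenEmbedding j.base := j.isOpenEmbedding
  have hT : IsConstructible (j.base ⁻¹' Sᶜ) := by
    have h1 : IsLocallyConstructible (j.base ⁻¹' S) := hS.preimage_of_isOpenEmbedding hj
    have h2 := h1.isConstructible
    exact h2.compl
  have hy₀' : y₀ ∉ closure (j.base ⁻¹' Sᶜ) := by
    intro hmem
    obtain ⟨z₀, hz₀, hz₀y⟩ := exists_specializes_of_mem_closure hT hmem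
    have := h (j.base z₀) (hz₀y.map j.continuous)
    exact hz₀ this
  have hO : IsOpen (closure (j.base ⁻¹' Sᶜ))ᶜ := isClosed_closure.isOpen_compl
  have h3 : j.base '' (closure (j.base ⁻¹' Sᶜ))ᶜ ∈ nhds (j.base y₀) :=
    (hj.isOpenMap _ hO).mem_nhds ⟨y₀, hy₀', rfl⟩
  refine Filter.mem_of_superset h3 ?_
  rintro _ ⟨o, ho, rfl⟩
  by_contra hcon
  exact ho (subset_closure hcon)

end Constructible

section Main

variable (H2 : Hyp.{u}) (H58 : Hyp58.{u}) {X Y : Scheme.{u}} [IsLocallyNoetherian Y]
  (f : X ⟶ Y) [IsProper f] (y : Y)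

include H2 H58

/-- `n(z) ≤ n(y)` for every generization `z` of `y`, when `f` is universally open at the points
of the fibre over `y` and this fibre is geometrically reduced. -/
theorem nGeomConnComp_le_of_specializes
    (h : ∀ x : X, f.base x = y → EGA43.IsUnivOpenAt f x) (hred : GRF f y) (z : Y) (hz : z ⤳ y) :
    MoreMor.nGeomConnComp f z ≤ MoreMor.nGeomConnComp f y := by
  by_cases hne : z = y
  · rw [hne]
  obtain ⟨A, _, _, _, g, hgs, hgη, -, -⟩ := Groth.Agent.S4950.result (𝟙 Y) y z hne hz
  have hc : IsPullback (pullback.fst f g) (pullback.snd f g) f g := IsPullback.of_hasPullback f g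
  have e1 := Groth.Agent.Lib.GeomFibBC13.nGeomConnComp_eq hc (genericPoint (Spec (CommRingCat.of A)))
  have e2 := Groth.Agent.Lib.GeomFibBC13.nGeomConnComp_eq hc (closedPoint A)
  rw [hgη] at e1
  rw [hgs] at e2
  rw [← e1, ← e2]
  apply nGeomConnComp_generic_le_closed A (pullback.snd f g) H2 H58
  · intro x' hx'
    apply isUnivOpenAt_snd f g x'
    apply h
    rw [← Scheme.Hom.comp_apply, pullback.condition, Scheme.Hom.comp_apply, hx', hgs]
  · have hiff := geomRedFiber_iff_of_isPullback f g (pullback.snd f g) (pullback.fst f g) hc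
      (closedPoint A)
    refine hiff.mpr ?_
    have hgs' : g.base (closedPoint A) = y := hgs
    rw [hgs']
    exact hred

/-- **S3416 (hypothesis form).** -/
theorem exists_nhds_nGeomConnComp_eq
    (h : ∀ x : X, f.base x = y → EGA43.IsUnivOpenAt f x)
    (hred : GeometricallyReduced (f.fiberToSpecResidueField y)) :
    ∃ V ∈ nhds y, ∀ z ∈ V, MoreMor.nGeomConnComp f z = MoreMor.nGeomConnComp f y := by
  obtain ⟨V₀, hV₀, hlsc⟩ := exists_nhds_nGeomConnComp_le H2 H58 f y h
  have hgen : ∀ z : Y, z ⤳ y → z ∈ {z : Y | MoreMor.nGeomConnComp f z = MoreMor.nGeomConnComp f y} := by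
    intro z hz
    refine le_antisymm (nGeomConnComp_le_of_specializes H2 H58 f y h hred z hz) (hlsc z ?_)
    obtain ⟨O, hOV, hO, hyO⟩ := mem_nhds_iff.mp hV₀
    exact hOV (hz.mem_open hO hyO)
  have hcons := Groth.Agent.S1339.result f (MoreMor.nGeomConnComp f y)
  exact ⟨_, mem_nhds_of_forall_specializes hcons y hgen, fun z hz => hz⟩

end Main

end Groth.Agent.Lib.LocConst5
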