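import Mathlib
import Groth.Agent.Lib.FibRankReduced

/-!
# Finite modules with locally constant fibre rank over reduced rings are projective (helper81)
-/

set_option autoImplicit false
universe u

namespace Groth.Agent.Lib.LocConstRank

open Module LocalizedModule TensorProduct

section general

variable {R : Type*} [CommRing R] (M : Type*) [AddCommGroup M] [Module R M] [Module.Finite R M]
  [Module.Flat R M]

attribute [local instance] Module.free_of_flat_of_isLocalRing

/-- Variant of `Module.Free.away_of_finite_of_flat_of_rankAtStalk_constant` where the rank is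
only assumed constant on a basic open neighbourhood `D(g)` of `p`. -/
theorem exists_free_away_of_rankAtStalk_eq (p : Ideal R) [p.IsPrime] (g : R) (hg : g ∉ p)
    (h : ∀ q : PrimeSpectrum R, g ∉ q.asIdeal →
      rankAtStalk M q = rankAtStalk M ⟨p, inferInstance⟩) :
    ∃ a ∉ p, Module.Free (Localization.Away a) (LocalizedModule.Away a M) := by
  rcases subsingleton_or_nontrivial R with _ | _
  · use 1, Ideal.IsPrime.one_notMem ‹_›
    exact Module.Free.of_subsingleton' (Localization.Away 1) (LocalizedModule.Away 1 M)
  · let Rₚ := Localization.AtPrime p
    let n := rankAtStalk M ⟨p, inferInstance⟩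
    let f : (Fin n →₀ R) →ₗ[R] Fin n →₀ Rₚ := Finsupp.mapRange.linearMap (Algebra.linearMap R Rₚ)
    let g' : M →ₗ[R] LocalizedModule.AtPrime p M := LocalizedModule.mkLinearMap p.primeCompl M
    obtain ⟨φ, -, -, hφps⟩ := exists_localizedMap_surjective_of_surjective p.primeCompl f g'
      ((finBasis Rₚ (LocalizedModule.AtPrime p M)).repr.restrictScalars R).symm.surjective
    obtain ⟨a, hap, hφas⟩ := by
      refine exists_localizedMap_away_surjective_of_localizedMap_atPrime_surjective p φ ?_
      simpa [LocalizedModule.coe_map_eq f g']
    have hφbs : Function.Surjective (LocalizedModule.map (Submonoid.powers (a * g)) φ) := by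
      rw [LinearMap.localizedMap_surjective_iff_subsingleton_localized_coker] at hφas ⊢
      rw [LocalizedModule.subsingleton_iff] at hφas ⊢
      intro m
      obtain ⟨r, ⟨k, rfl⟩, hr⟩ := hφas m
      refine ⟨(a * g) ^ k, ⟨k, rfl⟩, ?_⟩
      rw [mul_pow, mul_comm, mul_smul, hr, smul_zero]
    have : Module.Free (Localization.Away (a * g)) (LocalizedModule.Away (a * g) (Fin n →₀ R)) :=
      Module.free_of_isLocalizedModule (Rₛ := Localization.Away (a * g))
        (Mₛ := LocalizedModule.Away (a * g) (Fin n →₀ R)) (Submonoid.powers (a * g))
        (mkLinearMap (Submonoid.powers (a * g)) (Fin n →₀ R))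
    let φₐ : LocalizedModule.Away (a * g) (Fin n →₀ R) →ₗ[Localization.Away (a * g)]
        LocalizedModule.Away (a * g) M :=
      LocalizedModule.map (Submonoid.powers (a * g)) φ
    refine ⟨a * g, ‹p.IsPrime›.mul_notMem hap hg, Module.Free.of_equiv <|
      LinearEquiv.ofBijective φₐ <|
      bijective_of_surjective_of_rankAtStalk_eq hφbs <| fun m _ ↦ ?_⟩
    have hgm : g ∉ (PrimeSpectrum.comap (algebraMap R (Localization.Away (a * g)))
        ⟨m, inferInstance⟩).asIdeal := by
      intro hgm
      have hu : IsUnit (algebraMap R (Localization.Away (a * g)) (a * g)) :=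
        IsLocalization.Away.algebraMap_isUnit (a * g)
      have : algebraMap R (Localization.Away (a * g)) (a * g) ∈ m := by
        rw [map_mul]
        exact Ideal.mul_mem_left _ _ hgm
      exact (Ideal.IsPrime.ne_top inferInstance) (Ideal.eq_top_of_isUnit_mem _ this hu)
    simp [rankAtStalk_isBaseChange (LocalizedModule.isBaseChange (Submonoid.powers (a * g)) _),
      h _ hgm, n]

/-- A finite flat module with locally constant rank is finitely presented. -/
theorem finitePresentation_of_isLocallyConstant_rankAtStalk
    (h : IsLocallyConstant (rankAtStalk (R := R) M)) : Module.FinitePresentation R M := by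
  let s : Set R := {a | Module.Free (Localization.Away a) (LocalizedModule.Away a M)}
  have hs : Ideal.span s = ⊤ := by
    by_contra hne
    obtain ⟨𝔪, hmax, hle⟩ := Ideal.exists_le_maximal _ hne
    have hprime : 𝔪.IsPrime := hmax.isPrime
    have hopen : IsOpen {q : PrimeSpectrum R | rankAtStalk M q = rankAtStalk M ⟨𝔪, hprime⟩} :=
      h.isOpen_fiber _
    obtain ⟨_, ⟨g, rfl⟩, hgm, hgsub⟩ :=
      PrimeSpectrum.isTopologicalBasis_basic_opens.exists_subset_of_mem_open
        (show (⟨𝔪, hprime⟩ : PrimeSpectrum R) ∈
          {q : PrimeSpectrum R | rankAtStalk M q = rankAtStalk M ⟨𝔪, hprime⟩} from rfl) hopen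
    obtain ⟨a, ha, hfree⟩ := exists_free_away_of_rankAtStalk_eq M 𝔪 g hgm
      (fun q hq => hgsub hq)
    exact ha (hle (Ideal.subset_span hfree))
  refine Module.FinitePresentation.of_localizationSpan s hs fun a => ?_
  have : Module.Free (Localization.Away a.1) (LocalizedModule.Away a.1 M) := a.2
  exact Module.finitePresentation_of_projective _ _

theorem projective_of_isLocallyConstant_rankAtStalk
    (h : IsLocallyConstant (rankAtStalk (R := R) M)) : Module.Projective R M := by
  have := finitePresentation_of_isLocallyConstant_rankAtStalk M h
  exact Module.Flat.projective_of_finitePresentation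

end general

section reduced

open Groth.Agent.Lib.TFunRank

variable {A : Type u} [CommRing A]

theorem rankAtStalk_eq_fibRank (N : Type u) [AddCommGroup N] [Module A N] [Module.Finite A N]
    [Module.Flat A N] : rankAtStalk (R := A) N = fibRank (A := A) N := by
  funext x
  exact Module.rankAtStalk_eq x

/-- Over a reduced ring, a finite module with locally constant fibre rank is projective. -/
theorem projective_of_isLocallyConstant_fibRank [IsReduced A] (N : Type u) [AddCommGroup N]
    [Module A N] [Module.Finite A N] (h : IsLocallyConstant (fibRank (A := A) N)) :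
    Module.Projective A N := by
  have := flat_of_isLocallyConstant_fibRank N h
  apply projective_of_isLocallyConstant_rankAtStalk
  rw [rankAtStalk_eq_fibRank]
  exact h

/-- Over a reduced ring, a finite module is projective iff its fibre rank is locally constant. -/
theorem projective_iff_isLocallyConstant_fibRank [IsReduced A] (N : Type u) [AddCommGroup N]
    [Module A N] [Module.Finite A N] :
    Module.Projective A N ↔ IsLocallyConstant (fibRank (A := A) N) := by
  refine ⟨fun hp => ?_, projective_of_isLocallyConstant_fibRank N⟩
  have := Module.finitePresentation_of_projective A N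
  exact isLocallyConstant_fibRank N

end reduced

end Groth.Agent.Lib.LocConstRank
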