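import Mathlib
import Groth.Agent.Lib.LocConstRank

/-!
# Universe-polymorphic fibre rank, and splitting lemmas (helper81)
-/

set_option autoImplicit false
universe u v

namespace Groth.Agent.Lib.LocConstRank

open Module TensorProduct Groth.Agent.Lib.TFunRank

variable {A : Type u} [CommRing A]

/-- Fibre rank for a module in an arbitrary universe. -/
noncomputable def fibRank' (N : Type v) [AddCommGroup N] [Module A N] (x : PrimeSpectrum A) : ℕ :=
  Module.finrank x.asIdeal.ResidueField (x.asIdeal.ResidueField ⊗[A] N)

theorem fibRank'_eq_fibRank (N : Type u) [AddCommGroup N] [Module A N] :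
    fibRank' (A := A) N = fibRank (A := A) N := rfl

theorem fibRank'_congr {N : Type v} {N' : Type*} [AddCommGroup N] [Module A N] [AddCommGroup N']
    [Module A N'] (e : N ≃ₗ[A] N') : fibRank' (A := A) N = fibRank' (A := A) N' := by
  funext x
  exact LinearEquiv.finrank_eq (LinearEquiv.baseChange A x.asIdeal.ResidueField N N' e)

theorem exists_small_model (N : Type v) [AddCommGroup N] [Module A N] [Module.Finite A N] :
    ∃ (N' : Type u) (_ : AddCommGroup N') (_ : Module A N') (_ : Module.Finite A N'),
      Nonempty (N ≃ₗ[A] N') := by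
  obtain ⟨n, f, hf⟩ := Module.Finite.exists_fin' A N
  exact ⟨(Fin n → A) ⧸ LinearMap.ker f, inferInstance, inferInstance, inferInstance,
    ⟨(f.quotKerEquivOfSurjective hf).symm⟩⟩

theorem upperSemicontinuous_fibRank' (N : Type v) [AddCommGroup N] [Module A N]
    [Module.Finite A N] : UpperSemicontinuous (fibRank' (A := A) N) := by
  obtain ⟨N', _, _, _, ⟨e⟩⟩ := exists_small_model (A := A) N
  rw [fibRank'_congr e, fibRank'_eq_fibRank]
  exact upperSemicontinuous_fibRank N'

theorem projective_of_isLocallyConstant_fibRank' [IsReduced A] (N : Type v) [AddCommGroup N]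
    [Module A N] [Module.Finite A N] (h : IsLocallyConstant (fibRank' (A := A) N)) :
    Module.Projective A N := by
  obtain ⟨N', _, _, _, ⟨e⟩⟩ := exists_small_model (A := A) N
  rw [fibRank'_congr e, fibRank'_eq_fibRank] at h
  have := projective_of_isLocallyConstant_fibRank N' h
  exact Module.Projective.of_equiv e.symm

theorem isLocallyConstant_fibRank'_of_projective (N : Type v) [AddCommGroup N] [Module A N]
    [Module.Finite A N] [Module.Projective A N] : IsLocallyConstant (fibRank' (A := A) N) := by
  have hfp := Module.finitePresentation_of_projective A N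
  have h : fibRank' (A := A) N = Module.rankAtStalk (R := A) N := by
    funext x
    exact (Module.rankAtStalk_eq x).symm
  rw [h]
  exact Module.isLocallyConstant_rankAtStalk

/-- fibre rank of a cokernel (universe polymorphic). -/
theorem fibRank'_coker_add {K : Type*} {K' : Type v} [AddCommGroup K] [Module A K]
    [AddCommGroup K'] [Module A K'] [Module.Finite A K'] (φ : K →ₗ[A] K') (y : PrimeSpectrum A) :
    fibRank' (K' ⧸ LinearMap.range φ) y +
      Module.finrank y.asIdeal.ResidueField
        ↥(LinearMap.range (φ.baseChange y.asIdeal.ResidueField)) = fibRank' K' y := by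
  set κ := y.asIdeal.ResidueField
  have hex : Function.Exact (φ.lTensor κ) ((LinearMap.range φ).mkQ.lTensor κ) :=
    lTensor_exact κ (LinearMap.exact_map_mkQ_range φ) (Submodule.mkQ_surjective _)
  have hsurj : Function.Surjective ((LinearMap.range φ).mkQ.baseChange κ) :=
    LinearMap.lTensor_surjective κ (Submodule.mkQ_surjective _)
  have hker : LinearMap.ker ((LinearMap.range φ).mkQ.baseChange κ) =
      LinearMap.range (φ.baseChange κ) := by
    ext x
    rw [LinearMap.mem_ker, LinearMap.mem_range]
    exact (hex x)
  have h1 := LinearMap.finrank_range_add_finrank_ker ((LinearMap.range φ).mkQ.baseChange κ)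
  rw [LinearMap.range_eq_top.mpr hsurj, finrank_top, hker] at h1
  exact h1

section split

variable {M : Type*} {F : Type*} [AddCommGroup M] [Module A M] [AddCommGroup F] [Module A F]

/-- If the cokernel of `δ` is projective then `range δ` has a retraction. -/
theorem exists_retraction_range (δ : M →ₗ[A] F) [Module.Projective A (F ⧸ LinearMap.range δ)] :
    ∃ s : F →ₗ[A] ↥(LinearMap.range δ), s ∘ₗ (LinearMap.range δ).subtype = LinearMap.id := by
  obtain ⟨σ, hσ⟩ := Module.projective_lifting_property (LinearMap.range δ).mkQ LinearMap.id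
    (Submodule.mkQ_surjective _)
  let t : F →ₗ[A] F := LinearMap.id - σ ∘ₗ (LinearMap.range δ).mkQ
  have ht : ∀ x, t x ∈ LinearMap.range δ := by
    intro x
    have hmem : t x ∈ LinearMap.ker (LinearMap.range δ).mkQ := by
      have := LinearMap.congr_fun hσ ((LinearMap.range δ).mkQ x)
      rw [LinearMap.comp_apply, LinearMap.id_apply] at this
      rw [LinearMap.mem_ker]
      change (LinearMap.range δ).mkQ (x - σ ((LinearMap.range δ).mkQ x)) = 0
      rw [map_sub, this, sub_self]
    rwa [Submodule.ker_mkQ] at hmem
  refine ⟨t.codRestrict (LinearMap.range δ) ht, ?_⟩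
  refine LinearMap.ext fun x => Subtype.ext ?_
  change (x : F) - σ ((LinearMap.range δ).mkQ x) = x
  have h0 : (LinearMap.range δ).mkQ (x : F) = 0 := by
    rw [Submodule.mkQ_apply]
    exact (Submodule.Quotient.mk_eq_zero _).mpr x.2
  rw [h0, map_zero, sub_zero]

/-- If `range δ` is projective then `ker δ` has a retraction. -/
theorem exists_retraction_ker (δ : M →ₗ[A] F) [Module.Projective A ↥(LinearMap.range δ)] :
    ∃ s : M →ₗ[A] ↥(LinearMap.ker δ), s ∘ₗ (LinearMap.ker δ).subtype = LinearMap.id := by
  obtain ⟨σ, hσ⟩ := Module.projective_lifting_property δ.rangeRestrict LinearMap.id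
    δ.surjective_rangeRestrict
  let t : M →ₗ[A] M := LinearMap.id - σ ∘ₗ δ.rangeRestrict
  have ht : ∀ x, t x ∈ LinearMap.ker δ := by
    intro x
    have := LinearMap.congr_fun hσ (δ.rangeRestrict x)
    rw [LinearMap.comp_apply, LinearMap.id_apply] at this
    have h2 := congrArg Subtype.val this
    rw [LinearMap.mem_ker]
    change δ (x - σ (δ.rangeRestrict x)) = 0
    rw [map_sub, sub_eq_zero]
    exact h2.symm
  refine ⟨t.codRestrict (LinearMap.ker δ) ht, ?_⟩
  refine LinearMap.ext fun x => Subtype.ext ?_
  change (x : M) - σ (δ.rangeRestrict x) = x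
  have h0 : δ.rangeRestrict (x : M) = 0 := by
    apply Subtype.ext
    exact x.2
  rw [h0, map_zero, sub_zero]

end split

end Groth.Agent.Lib.LocConstRank
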