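import Mathlib.CategoryTheory.Localization.CalculusOfFractions
import Mathlib.CategoryTheory.Limits.Shapes.Products
import Mathlib.CategoryTheory.Limits.Preserves.Shapes.Products

/-!
# Localization functors and coproducts (helper21)

If `W` has a right calculus of fractions and is stable under coproducts of shape `J`, then a
localization functor for `W` preserves coproducts of shape `J`, and the localized category has
coproducts of shape `J`.
-/

set_option autoImplicit false
universe w v₁ v₂ u₁ u₂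

open CategoryTheory CategoryTheory.Limits

namespace Groth.Agent.Lib.LocCoprod

variable {C : Type u₁} [Category.{v₁} C] {D : Type u₂} [Category.{v₂} D]
  (L : C ⥤ D) (W : MorphismProperty C) [L.IsLocalization W] [W.HasRightCalculusOfFractions]
  {J : Type w} [HasCoproductsOfShape J C]
  (hW : ∀ (X' X : J → C) (s : ∀ j, X' j ⟶ X j), (∀ j, W (s j)) → W (Limits.Sigma.map s))

include hW in
/-- Uniqueness of maps out of the image of a coproduct. -/
theorem hom_ext (X : J → C) {Y : C} (f f' : L.obj (∐ X) ⟶ L.obj Y)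
    (h : ∀ j, L.map (Sigma.ι X j) ≫ f = L.map (Sigma.ι X j) ≫ f') : f = f' := by
  classical
  obtain ⟨φ, hφ⟩ := Localization.exists_rightFraction L W f
  obtain ⟨φ', hφ'⟩ := Localization.exists_rightFraction L W f'
  obtain ⟨ψ, hψ⟩ := (MorphismProperty.LeftFraction.mk φ.s φ'.s φ'.hs).exists_rightFraction
  dsimp at hψ
  have hs₀ : W (ψ.s ≫ φ.s) := W.comp_mem _ _ ψ.hs φ.hs
  have hg : L.map (ψ.s ≫ φ.s) ≫ f = L.map (ψ.s ≫ φ.f) := by
    rw [hφ, L.map_comp, L.map_comp, Category.assoc, MorphismProperty.RightFraction.map_s_comp_map]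
  have hg' : L.map (ψ.s ≫ φ.s) ≫ f' = L.map (ψ.f ≫ φ'.f) := by
    rw [hψ, hφ', L.map_comp, L.map_comp, Category.assoc,
      MorphismProperty.RightFraction.map_s_comp_map]
  have H1 : ∀ j, ∃ (ρ : W.RightFraction (X j) ψ.X'), ρ.s ≫ Sigma.ι X j = ρ.f ≫ ψ.s ≫ φ.s :=
    fun j => (MorphismProperty.LeftFraction.mk (Sigma.ι X j) (ψ.s ≫ φ.s) hs₀).exists_rightFraction
  choose ρ hρ using H1
  have H2 : ∀ j, L.map ((ρ j).f ≫ ψ.s ≫ φ.f) = L.map ((ρ j).f ≫ ψ.f ≫ φ'.f) := by
    intro j
    rw [L.map_comp, ← hg, L.map_comp (ρ j).f, ← hg', ← L.map_comp_assoc, ← L.map_comp_assoc,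
      ← hρ j, L.map_comp, Category.assoc, Category.assoc, h j]
  have H3 : ∀ j, ∃ (V : C) (u : V ⟶ (ρ j).X') (_ : W u),
      u ≫ (ρ j).f ≫ ψ.s ≫ φ.f = u ≫ (ρ j).f ≫ ψ.f ≫ φ'.f :=
    fun j => (MorphismProperty.map_eq_iff_precomp L W _ _).1 (H2 j)
  choose V u hu huv using H3
  have hk : Sigma.desc (fun j => u j ≫ (ρ j).f) ≫ ψ.s ≫ φ.f =
      Sigma.desc (fun j => u j ≫ (ρ j).f) ≫ ψ.f ≫ φ'.f := by
    apply Sigma.hom_ext
    intro j
    rw [Sigma.ι_desc_assoc, Sigma.ι_desc_assoc, Category.assoc, Category.assoc, huv j]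
  have hks : Sigma.desc (fun j => u j ≫ (ρ j).f) ≫ ψ.s ≫ φ.s =
      Limits.Sigma.map (fun j => u j ≫ (ρ j).s) := by
    apply Sigma.hom_ext
    intro j
    rw [Sigma.ι_desc_assoc, Sigma.ι_map, Category.assoc, Category.assoc, ← hρ j]
  have hWk : W (Sigma.desc (fun j => u j ≫ (ρ j).f) ≫ ψ.s ≫ φ.s) := by
    rw [hks]
    exact hW _ _ _ (fun j => W.comp_mem _ _ (hu j) (ρ j).hs)
  have i1 : IsIso (L.map (Sigma.desc (fun j => u j ≫ (ρ j).f) ≫ ψ.s ≫ φ.s)) :=
    Localization.inverts L W _ hWk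
  have i2 : IsIso (L.map (ψ.s ≫ φ.s)) := Localization.inverts L W _ hs₀
  have i3 : IsIso (L.map (Sigma.desc (fun j => u j ≫ (ρ j).f))) := by
    rw [L.map_comp] at i1
    exact IsIso.of_isIso_comp_right _ (L.map (ψ.s ≫ φ.s))
  have hgg : L.map (ψ.s ≫ φ.f) = L.map (ψ.f ≫ φ'.f) := by
    rw [← cancel_epi (L.map (Sigma.desc (fun j => u j ≫ (ρ j).f))), ← L.map_comp, ← L.map_comp,
      hk]
  rw [← cancel_epi (L.map (ψ.s ≫ φ.s)), hg, hg', hgg]

include hW in
/-- Existence of maps out of the image of a coproduct. -/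
theorem exists_desc (X : J → C) {Y : C} (f : ∀ j, L.obj (X j) ⟶ L.obj Y) :
    ∃ l : L.obj (∐ X) ⟶ L.obj Y, ∀ j, L.map (Sigma.ι X j) ≫ l = f j := by
  classical
  have H : ∀ j, ∃ φ : W.RightFraction (X j) Y, f j = φ.map L (Localization.inverts L W) :=
    fun j => Localization.exists_rightFraction L W (f j)
  choose φ hφ using H
  have hs : W (Limits.Sigma.map (fun j => (φ j).s)) := hW _ _ _ (fun j => (φ j).hs)
  have := Localization.inverts L W _ hs
  refine ⟨inv (L.map (Limits.Sigma.map (fun j => (φ j).s))) ≫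
    L.map (Sigma.desc (fun j => (φ j).f)), fun j => ?_⟩
  have := Localization.inverts L W _ (φ j).hs
  rw [hφ j, ← cancel_epi (L.map (φ j).s), MorphismProperty.RightFraction.map_s_comp_map,
    ← L.map_comp_assoc, ← Sigma.ι_map (fun j => (φ j).s) j, L.map_comp, Category.assoc,
    IsIso.hom_inv_id_assoc, ← L.map_comp, Sigma.ι_desc]

include hW in
/-- A localization functor for `W` preserves coproducts of shape `J`. -/
theorem preservesColimit (X : J → C) : PreservesColimit (Discrete.functor X) L := by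
  apply preservesColimit_of_preserves_colimit_cocone (colimit.isColimit (Discrete.functor X))
  apply IsColimit.ofExistsUnique
  intro s
  have : L.EssSurj := Localization.essSurj L W
  let e : L.obj (L.objPreimage s.pt) ≅ s.pt := L.objObjPreimageIso s.pt
  obtain ⟨l, hl⟩ := exists_desc L W hW X (fun j => s.ι.app ⟨j⟩ ≫ e.inv)
  refine ⟨l ≫ e.hom, ?_, ?_⟩
  · rintro ⟨j⟩
    change L.map (Sigma.ι X j) ≫ l ≫ e.hom = _
    rw [reassoc_of% hl j, Iso.inv_hom_id, Category.comp_id]
  · intro m hm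
    rw [← cancel_mono e.inv, Category.assoc, Iso.hom_inv_id, Category.comp_id]
    apply hom_ext L W hW X
    intro j
    rw [hl j, ← Category.assoc]
    congr 1
    exact hm ⟨j⟩

include hW in
theorem preservesColimitsOfShape : PreservesColimitsOfShape (Discrete J) L := by
  constructor
  intro K
  have : PreservesColimit (Discrete.functor (K.obj ∘ Discrete.mk)) L :=
    preservesColimit L W hW _
  exact preservesColimit_of_iso_diagram L Discrete.natIsoFunctor.symm

include L hW in
/-- The localized category has coproducts of shape `J`. -/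
theorem hasCoproductsOfShape : HasCoproductsOfShape J D := by
  have : L.EssSurj := Localization.essSurj L W
  constructor
  intro K
  have := preservesColimit L W hW (fun j => L.objPreimage (K.obj ⟨j⟩))
  have h : HasColimit (Discrete.functor (fun j => L.objPreimage (K.obj ⟨j⟩)) ⋙ L) :=
    ⟨⟨⟨_, isColimitOfPreserves L (colimit.isColimit _)⟩⟩⟩
  have e : Discrete.functor (fun j => L.objPreimage (K.obj ⟨j⟩)) ⋙ L ≅ K :=
    Discrete.natIso (fun ⟨j⟩ => L.objObjPreimageIso (K.obj ⟨j⟩))
  exact hasColimit_of_iso e.symm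

end Groth.Agent.Lib.LocCoprod
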