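import Mathlib
import Groth.Agent.Lib.DegOrd1
set_option maxHeartbeats 800000
set_option autoImplicit false
set_option linter.style.haveILetI false
universe u v

namespace Groth.Agent.Lib.LocFact
open Groth.Agent.Lib.PerHex3 Groth.Agent.Lib.PerHex4 Groth.Agent.Lib.CommonFactor
open Groth.Agent.Lib.DegOrd Groth.Agent.Lib.FiniteLengthSupport

section general
variable {A : Type u} [CommRing A] {M : Type v} [AddCommGroup M] [Module A M]

/-- `l(fW / fW') = l(W/W')` for injective `f`. -/
theorem length_sq_map_map (f : M →ₗ[A] M) (hf : Function.Injective f) {W' W : Submodule A M}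
    (h : W' ≤ W) :
    Module.length A (sq (W.map f) (W'.map f)) = Module.length A (sq W W') := by
  have c3 := length_sq_map f (X := W) (X' := W') (Y := W.map f) (Y' := W'.map f) h
    (Submodule.map_mono h)
    (Submodule.map_le_iff_le_comap.mp le_rfl) (Submodule.map_le_iff_le_comap.mp le_rfl)
  rw [length_sq_eq_zero_of_le (le_sup_left : W.map f ≤ W.map f ⊔ W'.map f), add_zero,
    length_sq_eq_zero_of_le (X := W ⊓ (W'.map f).comap f) (Y := W') (by
      rw [Submodule.comap_map_eq_of_injective hf]; exact inf_le_right), add_zero] at c3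
  exact c3.symm

/-- invariance: `l(W/fW) = l(W'/fW')` when `l(W/W') < ∞`. -/
theorem length_sq_map_eq (f : M →ₗ[A] M) (hf : Function.Injective f) {W' W : Submodule A M}
    (h : W' ≤ W) (hW : W.map f ≤ W) (hW' : W'.map f ≤ W')
    (hfin : Module.length A (sq W W') < ⊤) :
    Module.length A (sq W (W.map f)) = Module.length A (sq W' (W'.map f)) := by
  have c1 := length_sq_chain (Z := W'.map f) (Y := W') (X := W) hW' h
  have c2 := length_sq_chain (Z := W'.map f) (Y := W.map f) (X := W) (Submodule.map_mono h) hW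
  rw [c1, length_sq_map_map f hf h, add_comm] at c2
  exact (ENat.add_right_injective_of_ne_top hfin.ne c2).symm

/-- additivity: `l(W/fgW) = l(W/fW) + l(W/gW)`. -/
theorem length_sq_map_comp (f g : M →ₗ[A] M) (hf : Function.Injective f) {W : Submodule A M}
    (hWf : W.map f ≤ W) (hWg : W.map g ≤ W) :
    Module.length A (sq W (W.map (f ∘ₗ g))) =
      Module.length A (sq W (W.map f)) + Module.length A (sq W (W.map g)) := by
  rw [Submodule.map_comp]
  rw [length_sq_chain (Z := (W.map g).map f) (Y := W.map f) (X := W) (Submodule.map_mono hWg) hWf,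
    length_sq_map_map f hf hWg, add_comm]

end general

section finlen
variable {A : Type u} [CommRing A] [IsNoetherianRing A] [Ring.KrullDimLE 1 A]
  {M : Type v} [AddCommGroup M] [Module A M]

theorem length_sq_lt_top_of_sm_le' {W F : Submodule A M} (hW : W.FG) {d : A}
    (hd : d ∈ nonZeroDivisors A) (h : sm d W ≤ F) : Module.length A (sq W F) < ⊤ := by
  haveI : Module.Finite A W := Module.Finite.iff_fg.mpr hW
  rw [lt_top_iff_ne_top, Module.length_ne_top_iff]
  apply isFiniteLength_of_support_isMaximal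
  intro p hp
  have hann : d ∈ Module.annihilator A (sq W F) := by
    rw [Module.mem_annihilator]
    intro q
    obtain ⟨w, rfl⟩ := Submodule.mkQ_surjective _ q
    rw [← map_smul, Submodule.mkQ_apply, Submodule.Quotient.mk_eq_zero]
    exact h ⟨w, w.2, rfl⟩
  have hdp : d ∈ p.asIdeal := Module.annihilator_le_of_mem_support hp hann
  rcases (Ring.krullDimLE_one_iff.mp inferInstance) p.asIdeal p.isPrime with hmin | hmax
  · exact absurd hd (Set.disjoint_left.mp
      (Ideal.disjoint_nonZeroDivisors_of_mem_minimalPrimes hmin) hdp)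
  · exact hmax

end finlen

section fracring
variable {R : Type u} [CommRing R] {L : Type u} [CommRing L] [Algebra R L]

/-- `l_R(B / xB)` for an `R`-submodule `B` of `L`. -/
noncomputable def qB (B : Submodule R L) (x : L) : ℕ∞ :=
  Module.length R (sq B (B.map (LinearMap.mulLeft R x)))

theorem mulLeft_injective {x : L} (hx : IsUnit x) :
    Function.Injective (LinearMap.mulLeft R x) := by
  intro y z hyz
  exact hx.mul_right_injective hyz

theorem map_mulLeft_le (B : Subalgebra R L) {x : L} (hx : x ∈ B) :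
    (Subalgebra.toSubmodule B).map (LinearMap.mulLeft R x) ≤ Subalgebra.toSubmodule B := by
  rintro _ ⟨y, hy, rfl⟩
  exact B.mul_mem hx hy

theorem mem_map_mulLeft {B : Submodule R L} {x z : L} :
    z ∈ B.map (LinearMap.mulLeft R x) ↔ ∃ y ∈ B, x * y = z := by
  simp [Submodule.mem_map]

theorem qB_mul (B : Subalgebra R L) {x y : L} (hx : x ∈ B) (hy : y ∈ B) (hxu : IsUnit x) :
    qB (Subalgebra.toSubmodule B) (x * y) =
      qB (Subalgebra.toSubmodule B) x + qB (Subalgebra.toSubmodule B) y := by
  unfold qB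
  rw [LinearMap.mulLeft_mul]
  exact length_sq_map_comp _ _ (mulLeft_injective hxu) (map_mulLeft_le B hx) (map_mulLeft_le B hy)

theorem qB_congr {B B' : Subalgebra R L} (hBB' : B ≤ B') {x : L} (hx : x ∈ B) (hxu : IsUnit x)
    (hfin : Module.length R (sq (Subalgebra.toSubmodule B') (Subalgebra.toSubmodule B)) < ⊤) :
    qB (Subalgebra.toSubmodule B') x = qB (Subalgebra.toSubmodule B) x :=
  length_sq_map_eq _ (mulLeft_injective hxu) hBB' (map_mulLeft_le B' (hBB' hx))
    (map_mulLeft_le B hx) hfin

theorem qB_eq_zero_iff (B : Subalgebra R L) {x : L} :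
    qB (Subalgebra.toSubmodule B) x = 0 ↔ ∃ y ∈ B, x * y = 1 := by
  unfold qB
  constructor
  · intro h
    have hle := le_of_length_sq_eq_zero h
    have h1 : (1 : L) ∈ Subalgebra.toSubmodule B := B.one_mem
    obtain ⟨y, hy, hxy⟩ := mem_map_mulLeft.mp (hle h1)
    exact ⟨y, hy, hxy⟩
  · rintro ⟨y, hy, hxy⟩
    apply length_sq_eq_zero_of_le
    intro z hz
    refine mem_map_mulLeft.mpr ⟨y * z, B.mul_mem hy hz, ?_⟩
    rw [← mul_assoc, hxy, one_mul]

variable [IsNoetherianRing R] [Ring.KrullDimLE 1 R] [IsFractionRing R L]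

theorem length_sq_lt_top_of_fg {B B' : Subalgebra R L}
    (hfg : (Subalgebra.toSubmodule B').FG) :
    Module.length R (sq (Subalgebra.toSubmodule B') (Subalgebra.toSubmodule B)) < ⊤ := by
  classical
  obtain ⟨s, hs⟩ := hfg
  obtain ⟨d, hd⟩ := IsLocalization.exist_integer_multiples_of_finset (nonZeroDivisors R) s
  refine length_sq_lt_top_of_sm_le' ⟨s, hs⟩ d.2 ?_
  rw [sm, ← hs, Submodule.map_span_le]
  intro z hz
  obtain ⟨r, hr⟩ := hd z hz
  change (d : R) • z ∈ _
  rw [← hr]
  exact B.algebraMap_mem r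

theorem qB_lt_top {B : Subalgebra R L} (hfg : (Subalgebra.toSubmodule B).FG) {x : L}
    (hxu : IsUnit x) : qB (Subalgebra.toSubmodule B) x < ⊤ := by
  obtain ⟨xi, hxi⟩ := hxu.exists_right_inv
  obtain ⟨⟨p, s⟩, hps⟩ := IsLocalization.surj (nonZeroDivisors R) xi
  -- `xi * s = p`
  unfold qB
  refine length_sq_lt_top_of_sm_le' hfg s.2 ?_
  rintro _ ⟨b, hb, rfl⟩
  refine mem_map_mulLeft.mpr ⟨p • b, (Subalgebra.toSubmodule B).smul_mem p hb, ?_⟩
  change x * (p • b) = (s : R) • b
  rw [Algebra.smul_def, Algebra.smul_def, ← hps]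
  calc x * (xi * algebraMap R L s * b) = (x * xi) * (algebraMap R L s * b) := by ring
    _ = algebraMap R L s * b := by rw [hxi, one_mul]

end fracring

end Groth.Agent.Lib.LocFact
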