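import Mathlib
import Groth.Agent.Lib.LocFact1
set_option maxHeartbeats 800000
set_option autoImplicit false
set_option linter.style.haveILetI false
universe u v

namespace Groth.Agent.Lib.LocFact
open Groth.Agent.Lib.PerHex3 Groth.Agent.Lib.PerHex4 Groth.Agent.Lib.CommonFactor
open Groth.Agent.Lib.DegOrd

section chain
variable {A : Type u} [CommRing A] {M : Type v} [AddCommGroup M] [Module A M]

theorem le_length_sq_of_strict_chain (Y : ℕ → Submodule A M) (hmono : ∀ j, Y j ≤ Y (j + 1))
    (n : ℕ) (hstrict : ∀ j, j < n → Y j ≠ Y (j + 1)) :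
    (n : ℕ∞) ≤ Module.length A (sq (Y n) (Y 0)) := by
  induction n with
  | zero => simp
  | succ n ih =>
    have hmono' : Y 0 ≤ Y n := by
      clear ih hstrict
      induction n with
      | zero => exact le_rfl
      | succ n ih => exact ih.trans (hmono n)
    rw [length_sq_chain hmono' (hmono n)]
    have hlt : Y n < Y (n + 1) := lt_of_le_of_ne (hmono n) (hstrict n (by omega))
    obtain ⟨x, hx, hxn⟩ := SetLike.exists_of_lt hlt
    push_cast
    exact add_le_add (ih fun j hj => hstrict j (by omega)) (one_le_length_sq hx hxn)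

end chain

section unit
variable {R : Type u} [CommRing R] [IsLocalRing R] {L : Type u} [CommRing L] [Algebra R L]

/-- in an integral extension of a local ring, `1 - dβ` is a unit for `d ∈ m`. -/
theorem exists_mul_eq_one_of_mem_maximalIdeal (B : Subalgebra R L) [Algebra.IsIntegral R B]
    {d : R} (hd : d ∈ IsLocalRing.maximalIdeal R) {β : L} (hβ : β ∈ B) :
    ∃ q ∈ B, (1 - d • β) * q = 1 := by
  have hu : IsUnit ((1 : B) - d • (⟨β, hβ⟩ : B)) := by
    by_contra hnu
    obtain ⟨I, hI, hmem⟩ := exists_max_ideal_of_mem_nonunits hnu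
    have h1 : (I.comap (algebraMap R B)).IsMaximal :=
      Ideal.isMaximal_comap_of_isIntegral_of_isMaximal I
    have h2 : d ∈ I.comap (algebraMap R B) := by
      rw [IsLocalRing.eq_maximalIdeal h1]; exact hd
    have h3 : d • (⟨β, hβ⟩ : B) ∈ I := by
      rw [Algebra.smul_def]
      exact Ideal.mul_mem_right _ _ h2
    have : (1 : B) ∈ I := by
      have := I.add_mem hmem h3
      rwa [sub_add_cancel] at this
    exact hI.ne_top ((Ideal.eq_top_iff_one _).mpr this)
  obtain ⟨q, hq⟩ := hu.exists_right_inv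
  refine ⟨q, q.2, ?_⟩
  have := congrArg (Subtype.val : B → L) hq
  simpa using this

end unit

section relation
variable {R : Type u} [CommRing R] [IsLocalRing R] [IsNoetherianRing R] [Ring.KrullDimLE 1 R]
  {L : Type u} [CommRing L] [Algebra R L] [IsFractionRing R L]

/-- the `R`-linear map `s ↦ Σ_{l<j} s_l g_l` on `B`-valued coefficient families. -/
noncomputable def Phi (B : Subalgebra R L) (g : ℕ → L) (j : ℕ) : (ℕ → B) →ₗ[R] L where
  toFun s := ∑ l ∈ Finset.range j, (s l : L) * g l
  map_add' s s' := by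
    simp only [Pi.add_apply, Subalgebra.coe_add, add_mul, Finset.sum_add_distrib]
  map_smul' r s := by
    simp only [Pi.smul_apply, Subalgebra.coe_smul, smul_mul_assoc, Finset.smul_sum,
      RingHom.id_apply]

omit [IsLocalRing R] [IsNoetherianRing R] [Ring.KrullDimLE 1 R] [IsFractionRing R L] in
theorem Phi_apply (B : Subalgebra R L) (g : ℕ → L) (j : ℕ) (s : ℕ → B) :
    Phi B g j s = ∑ l ∈ Finset.range j, (s l : L) * g l := rfl

theorem exists_relation_semilocal (B : Subalgebra R L) (hfg : (Subalgebra.toSubmodule B).FG)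
    {a b : L} (ha : a ∈ B) (hb : b ∈ B) (hau : IsUnit a)
    {d : R} (hd : d ∈ nonZeroDivisors R) (hdm : d ∈ IsLocalRing.maximalIdeal R) :
    ∃ (n : ℕ) (c : ℕ → L) (k : ℕ), k ≤ n ∧ (∀ l, c l ∈ B) ∧ (∃ q ∈ B, c k * q = 1) ∧
      ∑ l ∈ Finset.range (n + 1), c l * (a ^ l * b ^ (n - l)) = 0 := by
  classical
  haveI : Module.Finite R B := Module.Finite.iff_fg.mpr hfg
  haveI : Algebra.IsIntegral R B := Algebra.IsIntegral.of_finite R B
  set Bs := Subalgebra.toSubmodule B with hBs
  have hdinj : Function.Injective (LinearMap.lsmul R L d) := by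
    have hdu : IsUnit (algebraMap R L d) := IsLocalization.map_units L ⟨d, hd⟩
    intro y z hyz
    have : algebraMap R L d * y = algebraMap R L d * z := by
      have h2 : d • y = d • z := hyz
      rwa [Algebra.smul_def, Algebra.smul_def] at h2
    exact hdu.mul_right_injective this
  have hNfin : Module.length R (sq Bs (sm d Bs)) < ⊤ :=
    length_sq_lt_top_of_sm_le' hfg hd le_rfl
  obtain ⟨N, hN⟩ := ENat.ne_top_iff_exists.mp hNfin.ne
  set n := N with hn
  set g : ℕ → L := fun l => a ^ l * b ^ (n - l) with hg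
  have hgB : ∀ l, g l ∈ B := fun l => B.mul_mem (B.pow_mem ha _) (B.pow_mem hb _)
  set I : Submodule R L := LinearMap.range (Phi B g (n + 1)) with hI
  have hIB : I ≤ Bs := by
    rintro _ ⟨s, rfl⟩
    rw [Phi_apply]
    exact Submodule.sum_mem _ fun l _ => B.mul_mem (s l).2 (hgB l)
  -- `a^n B ≤ I`
  have haI : Bs.map (LinearMap.mulLeft R (a ^ n)) ≤ I := by
    rintro _ ⟨β, hβ, rfl⟩
    refine ⟨Pi.single n ⟨β, hβ⟩, ?_⟩
    change ∑ l ∈ Finset.range (n + 1), ((Pi.single n (⟨β, hβ⟩ : B) : ℕ → B) l : L) * g l = _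
    rw [Finset.sum_eq_single n]
    · simp [hg, mul_comm]
    · intro l _ hln
      rw [Pi.single_apply, if_neg hln]; simp
    · intro h; exact absurd (Finset.mem_range.mpr (Nat.lt_succ_self n)) h
  have hIfin : Module.length R (sq Bs I) < ⊤ := by
    have h1 : qB Bs (a ^ n) < ⊤ := qB_lt_top hfg (hau.pow n)
    have c := length_sq_chain (Z := Bs.map (LinearMap.mulLeft R (a ^ n))) (Y := I) (X := Bs) haI hIB
    unfold qB at h1
    rw [c] at h1
    exact lt_of_le_of_lt le_add_self h1
  have hlenI : Module.length R (sq I (sm d I)) = (N : ℕ∞) := by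
    rw [← length_sq_sm_eq d hdinj hIB hIfin, hN]
  -- the chain
  set Y : ℕ → Submodule R L := fun j => sm d I ⊔ LinearMap.range (Phi B g j) with hY
  have hrange_mono : ∀ j, LinearMap.range (Phi B g j) ≤ LinearMap.range (Phi B g (j + 1)) := by
    rintro j _ ⟨s, rfl⟩
    refine ⟨fun l => if l < j then s l else 0, ?_⟩
    change ∑ l ∈ Finset.range (j + 1), ((if l < j then s l else 0 : B) : L) * g l =
      ∑ l ∈ Finset.range j, (s l : L) * g l
    rw [Finset.sum_range_succ, if_neg (lt_irrefl j)]
    simp only [Subalgebra.coe_zero, zero_mul, add_zero]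
    refine Finset.sum_congr rfl fun l hl => ?_
    rw [if_pos (Finset.mem_range.mp hl)]
  have hYmono : ∀ j, Y j ≤ Y (j + 1) := fun j => sup_le_sup_left (hrange_mono j) _
  have hY0 : Y 0 = sm d I := by
    have : LinearMap.range (Phi B g 0) = ⊥ := by
      rw [eq_bot_iff]
      rintro _ ⟨s, rfl⟩
      change ∑ l ∈ Finset.range 0, (s l : L) * g l ∈ _
      simp
    simp only [hY, this, sup_bot_eq]
  have hYn : Y (n + 1) = I := by
    simp only [hY]
    exact sup_eq_right.mpr (sm_le d I)
  have hex : ∃ j, j < n + 1 ∧ Y j = Y (j + 1) := by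
    by_contra hcon
    push Not at hcon
    have := le_length_sq_of_strict_chain Y hYmono (n + 1) hcon
    rw [hY0, hYn, hlenI] at this
    have := Nat.cast_le.mp this
    omega
  obtain ⟨j, hjn, hYj⟩ := hex
  have hgj : g j ∈ Y j := by
    rw [hYj]
    refine Submodule.mem_sup_right ⟨Pi.single j 1, ?_⟩
    change ∑ l ∈ Finset.range (j + 1), ((Pi.single j (1 : B) : ℕ → B) l : L) * g l = _
    rw [Finset.sum_eq_single j]
    · simp
    · intro l _ hlj
      rw [Pi.single_apply, if_neg hlj]; simp
    · intro h; exact absurd (Finset.mem_range.mpr (Nat.lt_succ_self j)) h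
  obtain ⟨z, hz, w, hw, hzw⟩ := Submodule.mem_sup.mp hgj
  obtain ⟨z', ⟨s, rfl⟩, rfl⟩ := mem_sm.mp hz
  obtain ⟨s', rfl⟩ := hw
  change d • (∑ l ∈ Finset.range (n + 1), (s l : L) * g l) +
    ∑ l ∈ Finset.range j, (s' l : L) * g l = g j at hzw
  refine ⟨n, fun l => (if l = j then 1 else 0) - d • (s l : L) - (if l < j then (s' l : L) else 0),
    j, by omega, ?_, ?_, ?_⟩
  · intro l
    refine B.sub_mem (B.sub_mem ?_ (B.smul_mem (s l).2 d)) ?_
    · split_ifs
      · exact B.one_mem
      · exact B.zero_mem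
    · split_ifs
      · exact (s' l).2
      · exact B.zero_mem
  · simp only [if_true, lt_irrefl, if_false, sub_zero]
    exact exists_mul_eq_one_of_mem_maximalIdeal B hdm (s j).2
  · simp only [sub_mul, Finset.sum_sub_distrib]
    have e1 : ∑ l ∈ Finset.range (n + 1), (if l = j then (1 : L) else 0) * g l = g j := by
      rw [Finset.sum_eq_single j]
      · simp
      · intro l _ hlj
        rw [if_neg hlj, zero_mul]
      · intro h; exact absurd (Finset.mem_range.mpr hjn) h
    have e2 : ∑ l ∈ Finset.range (n + 1), (d • (s l : L)) * g l =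
        d • ∑ l ∈ Finset.range (n + 1), (s l : L) * g l := by
      rw [Finset.smul_sum]
      exact Finset.sum_congr rfl fun l _ => smul_mul_assoc _ _ _
    have e3 : ∑ l ∈ Finset.range (n + 1), (if l < j then (s' l : L) else 0) * g l =
        ∑ l ∈ Finset.range j, (s' l : L) * g l := by
      have hsub : Finset.range j ⊆ Finset.range (n + 1) :=
        Finset.range_subset_range.mpr (by omega)
      rw [← Finset.sum_subset hsub]
      · refine Finset.sum_congr rfl fun l hl => ?_
        rw [if_pos (Finset.mem_range.mp hl)]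
      · intro l _ hl
        rw [if_neg (fun h => hl (Finset.mem_range.mpr h)), zero_mul]
    rw [e1, e2, e3, ← hzw]
    ring

end relation

end Groth.Agent.Lib.LocFact
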