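import Mathlib
import Groth.Agent.Lib.LocFact2
import Groth.Agent.Lib.CommonFactor4
set_option maxHeartbeats 1600000
set_option autoImplicit false
set_option linter.style.haveILetI false
universe u v

namespace Groth.Agent.Lib.LocFact
open Groth.Agent.Lib.CommonFactor

section kap
variable {S L : Type*} [CommRing S] [IsNoetherianRing S] [CommRing L] [Algebra S L]

theorem kaplansky_data (aL bL ai bi : L) (hai : aL * ai = 1) (hbi : bL * bi = 1) (n : ℕ)
    (c : ℕ → S) (k : ℕ) (hkn : k ≤ n) (hck : IsUnit (c k))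
    (hrelL : ∑ l ∈ Finset.range (n + 1), algebraMap S L (c l) * (aL ^ l * bL ^ (n - l)) = 0) :
    ∃ e f α β : L, IsIntegral S e ∧ IsIntegral S f ∧ IsIntegral S α ∧ IsIntegral S β ∧
      e + f = 1 ∧ α * bL = e * aL ∧ β * aL = f * bL := by
  let u : L := bL * ai
  let ui : L := aL * bi
  have hu : u * ui = 1 := by
    calc u * ui = (aL * ai) * (bL * bi) := by simp only [u, ui]; ring
      _ = 1 := by rw [hai, hbi, mul_one]
  have hrelP : ∑ l ∈ Finset.range (n + 1), c l • u ^ (n - l) = 0 := by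
    have h0 : (∑ l ∈ Finset.range (n + 1), algebraMap S L (c l) * (aL ^ l * bL ^ (n - l))) * ai ^ n
        = 0 := by rw [hrelL, zero_mul]
    rw [Finset.sum_mul] at h0
    rw [← h0]
    refine Finset.sum_congr rfl fun l hl => ?_
    have hl' : l ≤ n := Nat.lt_succ_iff.mp (Finset.mem_range.mp hl)
    have hsplit : ai ^ n = ai ^ l * ai ^ (n - l) := by rw [← pow_add]; congr 1; omega
    rw [Algebra.smul_def, hsplit]
    simp only [u, mul_pow]
    have : aL ^ l * ai ^ l = 1 := by rw [← mul_pow, hai, one_pow]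
    linear_combination (-(algebraMap S L (c l)) * bL ^ (n - l) * ai ^ (n - l)) * this
  have hrelM : ∑ l ∈ Finset.range (n + 1), (fun l => c (n - l)) l • ui ^ (n - l) = 0 := by
    have h0 : (∑ l ∈ Finset.range (n + 1), algebraMap S L (c l) * (aL ^ l * bL ^ (n - l))) * bi ^ n
        = 0 := by rw [hrelL, zero_mul]
    rw [Finset.sum_mul] at h0
    have h1 : ∑ l ∈ Finset.range (n + 1), c l • ui ^ l = 0 := by
      rw [← h0]
      refine Finset.sum_congr rfl fun l hl => ?_
      have hl' : l ≤ n := Nat.lt_succ_iff.mp (Finset.mem_range.mp hl)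
      have hsplit : bi ^ n = bi ^ l * bi ^ (n - l) := by rw [← pow_add]; congr 1; omega
      rw [Algebra.smul_def, hsplit]
      simp only [ui, mul_pow]
      have : bL ^ (n - l) * bi ^ (n - l) = 1 := by rw [← mul_pow, hbi, one_pow]
      linear_combination (-(algebraMap S L (c l)) * aL ^ l * bi ^ l) * this
    rw [← Finset.sum_range_reflect] at h1
    rw [← h1]
    refine Finset.sum_congr rfl fun l hl => ?_
    have hl' : l ≤ n := Nat.lt_succ_iff.mp (Finset.mem_range.mp hl)
    have : n + 1 - 1 - l = n - l := by omega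
    simp only [this]
  have hV : ∀ j, j ≤ n → IsIntegral S (vv c u j) := isIntegral_vv c u n hrelP
  have hV' : ∀ j, j ≤ n → IsIntegral S (vv (fun l => c (n - l)) ui j) :=
    isIntegral_vv (fun l => c (n - l)) ui n hrelM
  have hkey := key_identity c u ui hu n hrelP (n - k) (by omega)
  have hnk : n - (n - k) = k := by omega
  rw [hnk] at hkey
  obtain ⟨q, hq⟩ := hck.exists_right_inv
  let e : L := (-q) • vv c u k
  let f : L := (-q) • vv (fun l => c (n - l)) ui (n - k)
  have hef : e + f = 1 := by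
    simp only [e, f]
    rw [← smul_add]
    have : vv c u k + vv (fun l => c (n - l)) ui (n - k) = - algebraMap S L (c k) := by
      linear_combination hkey
    rw [this, Algebra.smul_def, map_neg, neg_mul_neg, ← map_mul, mul_comm, hq, map_one]
  have he : IsIntegral S e := (hV k hkn).smul _
  have hf : IsIntegral S f := (hV' (n - k) (by omega)).smul _
  have hα : IsIntegral S (e * ui) := by
    simp only [e]
    rcases Nat.eq_zero_or_pos k with hk0 | hk0
    · rw [hk0, vv_zero, smul_zero, zero_mul]; exact isIntegral_zero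
    · obtain ⟨k', rfl⟩ : ∃ k', k = k' + 1 := ⟨k - 1, by omega⟩
      rw [vv_succ, smul_mul_assoc, mul_assoc, hu, mul_one]
      exact ((hV k' (by omega)).add isIntegral_algebraMap).smul _
  have hβ : IsIntegral S (f * u) := by
    simp only [f]
    rcases Nat.eq_zero_or_pos (n - k) with hk0 | hk0
    · rw [hk0, vv_zero, smul_zero, zero_mul]; exact isIntegral_zero
    · obtain ⟨k', hk'⟩ : ∃ k', n - k = k' + 1 := ⟨n - k - 1, by omega⟩
      rw [hk', vv_succ, smul_mul_assoc, mul_assoc, mul_comm ui u, hu, mul_one]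
      exact ((hV' k' (by omega)).add isIntegral_algebraMap).smul _
  refine ⟨e, f, e * ui, f * u, he, hf, hα, hβ, hef, ?_, ?_⟩
  · have : ui * bL = aL := by
      simp only [ui]
      calc aL * bi * bL = aL * (bL * bi) := by ring
        _ = aL := by rw [hbi, mul_one]
    rw [mul_assoc, this]
  · have : u * aL = bL := by
      simp only [u]
      calc bL * ai * aL = bL * (aL * ai) := by ring
        _ = bL := by rw [hai, mul_one]
    rw [mul_assoc, this]

end kap

section core
variable {R : Type u} [CommRing R] [IsLocalRing R] [IsNoetherianRing R]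
  {L : Type u} [CommRing L] [Algebra R L]

omit [IsNoetherianRing R] in
theorem core' (B₀ : Subalgebra R L) (hB₀ : (Subalgebra.toSubmodule B₀).FG) (aL bL : L)
    (haL : IsUnit aL) (hbL : IsUnit bL) (haB : aL ∈ B₀) (hbB : bL ∈ B₀)
    (e f α β : L) (he : IsIntegral R e) (hf : IsIntegral R f) (hα : IsIntegral R α)
    (hβ : IsIntegral R β) (hef : e + f = 1) (h1 : α * bL = e * aL) (h2 : β * aL = f * bL) :
    ∃ B₁ : Subalgebra R L, B₀ ≤ B₁ ∧ (Subalgebra.toSubmodule B₁).FG ∧
      ∃ t a' b' x y : L, t ∈ B₁ ∧ a' ∈ B₁ ∧ b' ∈ B₁ ∧ x ∈ B₁ ∧ y ∈ B₁ ∧ IsUnit t ∧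
        aL = t * a' ∧ bL = t * b' ∧ x * a' + y * b' = 1 := by
  classical
  obtain ⟨ai, hai⟩ := haL.exists_right_inv
  obtain ⟨bi, hbi⟩ := hbL.exists_right_inv
  obtain ⟨s₀, hs₀⟩ := hB₀
  have hs₀B : (s₀ : Set L) ⊆ B₀ := fun z hz => by
    have : z ∈ Subalgebra.toSubmodule B₀ := hs₀ ▸ Submodule.subset_span hz
    exact this
  let S : Set L := (s₀ : Set L) ∪ {e, f, α, β}
  let R'' : Subalgebra R L := Algebra.adjoin R S
  have hSfin : S.Finite := s₀.finite_toSet.union (by simp)
  have hSint : ∀ x ∈ S, IsIntegral R x := by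
    intro x hx
    rcases hx with hx | hx
    · exact IsIntegral.of_mem_of_fg B₀ ⟨s₀, hs₀⟩ x (hs₀B hx)
    · simp only [Set.mem_insert_iff, Set.mem_singleton_iff] at hx
      rcases hx with rfl | rfl | rfl | rfl <;> assumption
  have hfg : (Subalgebra.toSubmodule R'').FG := fg_adjoin_of_finite hSfin hSint
  have hB₀R'' : B₀ ≤ R'' := by
    intro z hz
    have hz' : z ∈ Submodule.span R (s₀ : Set L) := hs₀ ▸ hz
    have hle : Submodule.span R (s₀ : Set L) ≤ Subalgebra.toSubmodule R'' :=
      Submodule.span_le.mpr fun w hw => Algebra.subset_adjoin (Or.inl hw)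
    exact hle hz'
  haveI hfin : Module.Finite R R'' := Module.Finite.iff_fg.mpr hfg
  haveI : Finite (MaximalSpectrum R'') := finite_maximalSpectrum_of_finite R R''
  have heS : e ∈ R'' := Algebra.subset_adjoin (Or.inr (by simp))
  have hfS : f ∈ R'' := Algebra.subset_adjoin (Or.inr (by simp))
  have hαS : α ∈ R'' := Algebra.subset_adjoin (Or.inr (by simp))
  have hβS : β ∈ R'' := Algebra.subset_adjoin (Or.inr (by simp))
  have haS : aL ∈ R'' := hB₀R'' haB
  have hbS : bL ∈ R'' := hB₀R'' hbB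
  let J : Submodule R'' L := Submodule.span R'' {aL, bL}
  let J' : Submodule R'' L := Submodule.span R'' {e * bi, f * ai}
  have hJJ' : J * J' = 1 := by
    apply le_antisymm
    · rw [Submodule.mul_le]
      intro x hx y hy
      rw [Submodule.one_eq_range, LinearMap.mem_range]
      obtain ⟨p, q, rfl⟩ := Submodule.mem_span_pair.mp hx
      obtain ⟨p', q', rfl⟩ := Submodule.mem_span_pair.mp hy
      refine ⟨p * p' * ⟨α, hαS⟩ + p * q' * ⟨f, hfS⟩ + q * p' * ⟨e, heS⟩ + q * q' * ⟨β, hβS⟩, ?_⟩
      simp only [Algebra.linearMap_apply, Subalgebra.algebraMap_apply, Subalgebra.coe_add,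
        Subalgebra.coe_mul, Subalgebra.smul_def, smul_eq_mul]
      have e1 : aL * (e * bi) = α := by
        calc aL * (e * bi) = (e * aL) * bi := by ring
          _ = α * (bL * bi) := by rw [← h1]; ring
          _ = α := by rw [hbi, mul_one]
      have e2 : bL * (f * ai) = β := by
        calc bL * (f * ai) = (f * bL) * ai := by ring
          _ = β * (aL * ai) := by rw [← h2]; ring
          _ = β := by rw [hai, mul_one]
      have e3 : aL * (f * ai) = f := by
        calc aL * (f * ai) = f * (aL * ai) := by ring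
          _ = f := by rw [hai, mul_one]
      have e4 : bL * (e * bi) = e := by
        calc bL * (e * bi) = e * (bL * bi) := by ring
          _ = e := by rw [hbi, mul_one]
      linear_combination -(↑p * ↑p') * e1 - (↑q * ↑q') * e2 - (↑p * ↑q') * e3 - (↑q * ↑p') * e4
    · rw [Submodule.one_le]
      have m1 : bL * (e * bi) ∈ J * J' :=
        Submodule.mul_mem_mul (Submodule.subset_span (by simp)) (Submodule.subset_span (by simp))
      have m2 : aL * (f * ai) ∈ J * J' :=
        Submodule.mul_mem_mul (Submodule.subset_span (by simp)) (Submodule.subset_span (by simp))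
      have : (1 : L) = bL * (e * bi) + aL * (f * ai) := by
        calc (1 : L) = e + f := hef.symm
          _ = e * (bL * bi) + f * (aL * ai) := by rw [hai, hbi, mul_one, mul_one]
          _ = _ := by ring
      rw [this]
      exact Submodule.add_mem _ m1 m2
  let Ju : (Submodule R'' L)ˣ := Units.mkOfMulEqOne J J' hJJ'
  have hker : Ju ∈ (Submodule.unitsToPic R'' L).ker := by
    rw [MonoidHom.mem_ker]
    exact Subsingleton.elim _ _
  rw [Submodule.ker_unitsToPic] at hker
  obtain ⟨t, ht⟩ := hker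
  have htJ : Submodule.span R'' {(t : L)} = J := congrArg Units.val ht
  have haJ : aL ∈ J := Submodule.subset_span (by simp)
  have hbJ : bL ∈ J := Submodule.subset_span (by simp)
  have htmem : (t : L) ∈ J := htJ ▸ Submodule.mem_span_singleton_self _
  rw [← htJ] at haJ hbJ
  obtain ⟨a', ha'⟩ := Submodule.mem_span_singleton.mp haJ
  obtain ⟨b', hb'⟩ := Submodule.mem_span_singleton.mp hbJ
  obtain ⟨x, y, hxy⟩ := Submodule.mem_span_pair.mp htmem
  rw [Subalgebra.smul_def, smul_eq_mul] at ha' hb'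
  simp only [Subalgebra.smul_def, smul_eq_mul] at hxy
  have htR'' : (t : L) ∈ R'' := by
    rw [← hxy]
    exact R''.add_mem (R''.mul_mem x.2 haS) (R''.mul_mem y.2 hbS)
  refine ⟨R'', hB₀R'', hfg, t, a', b', x, y, htR'', a'.2, b'.2, x.2, y.2, t.isUnit, ?_, ?_, ?_⟩
  · rw [← ha', mul_comm]
  · rw [← hb', mul_comm]
  · have h3 : ((x : L) * a' + (y : L) * b') * t = 1 * t := by
      rw [one_mul]
      calc ((x : L) * a' + (y : L) * b') * t = (x : L) * (a' * t) + (y : L) * (b' * t) := by ring
        _ = t := by rw [ha', hb', hxy]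
    exact t.isUnit.mul_left_injective h3

end core

section step
variable {R : Type u} [CommRing R] [IsLocalRing R] [IsNoetherianRing R] [Ring.KrullDimLE 1 R]
  {L : Type u} [CommRing L] [Algebra R L] [IsFractionRing R L]

theorem step (B₀ : Subalgebra R L) (hB₀ : (Subalgebra.toSubmodule B₀).FG) {a b : L}
    (ha : a ∈ B₀) (hb : b ∈ B₀) (hau : IsUnit a) (hbu : IsUnit b)
    {d : R} (hd : d ∈ nonZeroDivisors R) (hdm : d ∈ IsLocalRing.maximalIdeal R) :
    ∃ B₁ : Subalgebra R L, B₀ ≤ B₁ ∧ (Subalgebra.toSubmodule B₁).FG ∧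
      ∃ t a' b' x y : L, t ∈ B₁ ∧ a' ∈ B₁ ∧ b' ∈ B₁ ∧ x ∈ B₁ ∧ y ∈ B₁ ∧ IsUnit t ∧
        a = t * a' ∧ b = t * b' ∧ x * a' + y * b' = 1 := by
  obtain ⟨n, c, k, hkn, hcB, ⟨q, hqB, hq⟩, hrel⟩ :=
    exists_relation_semilocal B₀ hB₀ ha hb hau hd hdm
  haveI : Module.Finite R B₀ := Module.Finite.iff_fg.mpr hB₀
  haveI : Algebra.IsIntegral R B₀ := Algebra.IsIntegral.of_finite R B₀
  haveI : IsNoetherianRing B₀ :=
    isNoetherian_of_tower R (isNoetherian_of_isNoetherianRing_of_finite R B₀)
  obtain ⟨ai, hai⟩ := hau.exists_right_inv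
  obtain ⟨bi, hbi⟩ := hbu.exists_right_inv
  let c' : ℕ → B₀ := fun l => ⟨c l, hcB l⟩
  have hck : IsUnit (c' k) := by
    refine IsUnit.of_mul_eq_one (⟨q, hqB⟩ : B₀) (Subtype.ext ?_)
    exact hq
  have hrelL : ∑ l ∈ Finset.range (n + 1), algebraMap B₀ L (c' l) * (a ^ l * b ^ (n - l)) = 0 :=
    hrel
  obtain ⟨e, f, α, β, he, hf, hα, hβ, hef, h1, h2⟩ :=
    kaplansky_data a b ai bi hai hbi n c' k hkn hck hrelL
  exact core' B₀ hB₀ a b hau hbu ha hb e f α β (isIntegral_trans e he) (isIntegral_trans f hf)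
    (isIntegral_trans α hα) (isIntegral_trans β hβ) hef h1 h2

end step

end Groth.Agent.Lib.LocFact
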