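import Mathlib
import Groth.Agent.Lib.LocFact3
set_option maxHeartbeats 1600000
set_option autoImplicit false
set_option linter.style.haveILetI false
universe u v

namespace Groth.Agent.Lib.LocFact
open Groth.Agent.Lib.PerHex3 Groth.Agent.Lib.PerHex4 Groth.Agent.Lib.CommonFactor
open Groth.Agent.Lib.DegOrd

section descent
variable {R : Type u} [CommRing R] {L : Type u} [CommRing L] [Algebra R L]

theorem comaximal_descent {B B₁ : Subalgebra R L} (hBB₁ : B ≤ B₁)
    (hfg : (Subalgebra.toSubmodule B₁).FG) {x y : L} (hx : x ∈ B) (hy : y ∈ B)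
    (h : ∃ u ∈ B₁, ∃ v ∈ B₁, u * x + v * y = 1) : ∃ u ∈ B, ∃ v ∈ B, u * x + v * y = 1 := by
  obtain ⟨u, hu, v, hv, huv⟩ := h
  let N : Submodule B L :=
    { carrier := B₁
      add_mem' := fun {a b} ha hb => B₁.add_mem ha hb
      zero_mem' := B₁.zero_mem
      smul_mem' := fun c z hz => by
        change c • z ∈ B₁
        rw [Subalgebra.smul_def, smul_eq_mul]
        exact B₁.mul_mem (hBB₁ c.2) hz }
  have hNmem : ∀ z, z ∈ N ↔ z ∈ B₁ := fun z => Iff.rfl
  have hNfg : N.FG := by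
    obtain ⟨s, hs⟩ := hfg
    refine ⟨s, le_antisymm ?_ ?_⟩
    · rw [Submodule.span_le]
      intro z hz
      have : z ∈ Subalgebra.toSubmodule B₁ := hs ▸ Submodule.subset_span hz
      exact this
    · intro z hz
      have hz' : z ∈ Submodule.span R (s : Set L) := hs ▸ ((hNmem z).mp hz)
      exact Submodule.span_le_restrictScalars R B (s : Set L) hz'
  let I : Ideal B := Ideal.span {⟨x, hx⟩, ⟨y, hy⟩}
  have hin : N ≤ I • N := by
    intro z hz
    have hz' : z ∈ B₁ := (hNmem z).mp hz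
    have e1 : z = (⟨x, hx⟩ : B) • (u * z) + (⟨y, hy⟩ : B) • (v * z) := by
      rw [Subalgebra.smul_def, Subalgebra.smul_def, smul_eq_mul, smul_eq_mul]
      calc z = (u * x + v * y) * z := by rw [huv, one_mul]
        _ = _ := by ring
    rw [e1]
    refine Submodule.add_mem _ (Submodule.smul_mem_smul (Ideal.subset_span (by simp)) ?_)
      (Submodule.smul_mem_smul (Ideal.subset_span (by simp)) ?_)
    · exact (hNmem _).mpr (B₁.mul_mem hu hz')
    · exact (hNmem _).mpr (B₁.mul_mem hv hz')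
  obtain ⟨r, hr1, hr0⟩ := Submodule.exists_sub_one_mem_and_smul_eq_zero_of_fg_of_le_smul I N hNfg hin
  have h1N : (1 : L) ∈ N := (hNmem 1).mpr B₁.one_mem
  have hr : r = 0 := by
    have := hr0 1 h1N
    rw [Subalgebra.smul_def, smul_eq_mul, mul_one] at this
    exact Subtype.ext this
  rw [hr, zero_sub] at hr1
  have h1I : (1 : B) ∈ I := by
    have := I.neg_mem hr1
    rwa [neg_neg] at this
  obtain ⟨p, q, hpq⟩ := Ideal.mem_span_pair.mp h1I
  refine ⟨p, p.2, q, q.2, ?_⟩
  have := congrArg (Subtype.val : B → L) hpq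
  simpa using this

end descent

section progress
variable {R : Type u} [CommRing R] {L : Type u} [CommRing L] [Algebra R L]

/-- all elements of `xs` lie in `B` and are units of `L`. -/
def Valid (B : Subalgebra R L) (xs : Finset L) : Prop := ∀ x ∈ xs, x ∈ B ∧ IsUnit x

/-- distinct elements of `xs` are comaximal in `B`. -/
def Good (B : Subalgebra R L) (xs : Finset L) : Prop :=
  ∀ x ∈ xs, ∀ y ∈ xs, x ≠ y → ∃ u ∈ B, ∃ v ∈ B, u * x + v * y = 1

/-- the termination measure. -/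
noncomputable def Meas (B : Subalgebra R L) (xs : Finset L) : ℕ∞ :=
  ∑ x ∈ xs, qB (Subalgebra.toSubmodule B) x

omit [CommRing L] in
theorem sum_insert_le [DecidableEq L] (f : L → ℕ∞) (a : L) (s : Finset L) :
    ∑ z ∈ insert a s, f z ≤ f a + ∑ z ∈ s, f z := by
  by_cases ha : a ∈ s
  · rw [Finset.insert_eq_of_mem ha]
    exact le_add_self
  · rw [Finset.sum_insert ha]

omit [CommRing L] in
theorem sum_union_le' [DecidableEq L] (f : L → ℕ∞) (s t : Finset L) :
    ∑ z ∈ s ∪ t, f z ≤ ∑ z ∈ s, f z + ∑ z ∈ t, f z := by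
  rw [← Finset.sum_union_inter]
  exact le_self_add

variable [IsLocalRing R] [IsNoetherianRing R] [Ring.KrullDimLE 1 R] [IsFractionRing R L]

theorem progress {d : R} (hd : d ∈ nonZeroDivisors R) (hdm : d ∈ IsLocalRing.maximalIdeal R)
    (B : Subalgebra R L) (hB : (Subalgebra.toSubmodule B).FG) (xs : Finset L)
    (hv : Valid B xs) (hng : ¬ Good B xs) :
    ∃ (B₁ : Subalgebra R L) (xs' : Finset L), B ≤ B₁ ∧ (Subalgebra.toSubmodule B₁).FG ∧
      Valid B₁ xs' ∧ Submonoid.closure (xs : Set L) ≤ Submonoid.closure (xs' : Set L) ∧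
      Meas B₁ xs' + 1 ≤ Meas B xs := by
  classical
  unfold Good at hng
  push Not at hng
  obtain ⟨x, hx, y, hy, hxy, hbad⟩ := hng
  obtain ⟨hxB, hxu⟩ := hv x hx
  obtain ⟨hyB, hyu⟩ := hv y hy
  obtain ⟨B₁, hBB₁, hfg₁, t, x', y', u, v, ht, hx', hy', hu, hv', htu, hxt, hyt, huv⟩ :=
    step B hB hxB hyB hxu hyu hd hdm
  have hx'u : IsUnit x' := isUnit_of_mul_isUnit_right (hxt ▸ hxu)
  have hy'u : IsUnit y' := isUnit_of_mul_isUnit_right (hyt ▸ hyu)
  set xs₀ := (xs.erase x).erase y with hxs₀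
  have hxs₀sub : ∀ z ∈ xs₀, z ∈ xs := fun z hz =>
    Finset.mem_of_mem_erase (Finset.mem_of_mem_erase hz)
  refine ⟨B₁, xs₀ ∪ {t, x', y'}, hBB₁, hfg₁, ?_, ?_, ?_⟩
  · intro z hz
    rcases Finset.mem_union.mp hz with hz | hz
    · exact ⟨hBB₁ (hv z (hxs₀sub z hz)).1, (hv z (hxs₀sub z hz)).2⟩
    · simp only [Finset.mem_insert, Finset.mem_singleton] at hz
      rcases hz with rfl | rfl | rfl
      · exact ⟨ht, htu⟩
      · exact ⟨hx', hx'u⟩
      · exact ⟨hy', hy'u⟩
  · rw [Submonoid.closure_le]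
    intro z hz
    have htm : t ∈ Submonoid.closure ((xs₀ ∪ {t, x', y'} : Finset L) : Set L) :=
      Submonoid.subset_closure (by simp)
    have hx'm : x' ∈ Submonoid.closure ((xs₀ ∪ {t, x', y'} : Finset L) : Set L) :=
      Submonoid.subset_closure (by simp)
    have hy'm : y' ∈ Submonoid.closure ((xs₀ ∪ {t, x', y'} : Finset L) : Set L) :=
      Submonoid.subset_closure (by simp)
    by_cases hzx : z = x
    · rw [hzx, hxt]; exact Submonoid.mul_mem _ htm hx'm
    by_cases hzy : z = y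
    · rw [hzy, hyt]; exact Submonoid.mul_mem _ htm hy'm
    · refine Submonoid.subset_closure ?_
      have : z ∈ xs₀ := Finset.mem_erase.mpr ⟨hzy, Finset.mem_erase.mpr ⟨hzx, hz⟩⟩
      simp [this]
  · -- the measure drops
    have hfin1 := length_sq_lt_top_of_fg (B := B) (B' := B₁) hfg₁
    have hcongr : ∀ z, z ∈ B → IsUnit z →
        qB (Subalgebra.toSubmodule B₁) z = qB (Subalgebra.toSubmodule B) z :=
      fun z hz hzu => qB_congr hBB₁ hz hzu hfin1
    set S₀ := ∑ z ∈ xs₀, qB (Subalgebra.toSubmodule B) z with hS₀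
    set T := qB (Subalgebra.toSubmodule B₁) t with hT
    set X := qB (Subalgebra.toSubmodule B₁) x' with hX
    set Y := qB (Subalgebra.toSubmodule B₁) y' with hY
    have hyx : y ∈ xs.erase x := Finset.mem_erase.mpr ⟨fun h => hxy h.symm, hy⟩
    have hqx : qB (Subalgebra.toSubmodule B) x = T + X := by
      rw [← hcongr x hxB hxu]
      conv_lhs => rw [hxt]
      exact qB_mul B₁ ht hx' htu
    have hqy : qB (Subalgebra.toSubmodule B) y = T + Y := by
      rw [← hcongr y hyB hyu]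
      conv_lhs => rw [hyt]
      exact qB_mul B₁ ht hy' htu
    have hM : Meas B xs = (T + X) + ((T + Y) + S₀) := by
      unfold Meas
      rw [← Finset.add_sum_erase xs _ hx, ← Finset.add_sum_erase (xs.erase x) _ hyx, hqx, hqy]
    have hM' : Meas B₁ (xs₀ ∪ {t, x', y'}) ≤ S₀ + (T + (X + Y)) := by
      unfold Meas
      refine (sum_union_le' _ _ _).trans (add_le_add ?_ ?_)
      · rw [hS₀]
        exact le_of_eq (Finset.sum_congr rfl fun z hz =>
          hcongr z (hv z (hxs₀sub z hz)).1 (hv z (hxs₀sub z hz)).2)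
      · refine (sum_insert_le _ _ _).trans (add_le_add le_rfl ?_)
        refine (sum_insert_le _ _ _).trans (add_le_add le_rfl ?_)
        rw [Finset.sum_singleton]
    have hT1 : 1 ≤ T := by
      rw [Order.one_le_iff_pos, pos_iff_ne_zero]
      intro h0
      obtain ⟨w, hw, htw⟩ := (qB_eq_zero_iff B₁).mp h0
      have hco : ∃ u ∈ B₁, ∃ v ∈ B₁, u * x + v * y = 1 := by
        refine ⟨w * u, B₁.mul_mem hw hu, w * v, B₁.mul_mem hw hv', ?_⟩
        calc w * u * x + w * v * y = (t * w) * (u * x' + v * y') := by rw [hxt, hyt]; ring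
          _ = 1 := by rw [htw, huv, one_mul]
      obtain ⟨u', hu', v', hv'', h⟩ := comaximal_descent hBB₁ hfg₁ hxB hyB hco
      exact hbad u' hu' v' hv'' h
    rw [hM]
    calc Meas B₁ (xs₀ ∪ {t, x', y'}) + 1 ≤ (S₀ + (T + (X + Y))) + T := add_le_add hM' hT1
      _ = (T + X) + ((T + Y) + S₀) := by ring

end progress

section main
variable {R : Type u} [CommRing R] {L : Type u} [CommRing L] [Algebra R L]
  [IsLocalRing R] [IsNoetherianRing R] [Ring.KrullDimLE 1 R] [IsFractionRing R L]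

theorem exists_good_aux {d : R} (hd : d ∈ nonZeroDivisors R)
    (hdm : d ∈ IsLocalRing.maximalIdeal R) :
    ∀ (N : ℕ) (B : Subalgebra R L), (Subalgebra.toSubmodule B).FG → ∀ xs : Finset L,
      Valid B xs → Meas B xs ≤ N →
      ∃ (B₁ : Subalgebra R L) (xs' : Finset L), B ≤ B₁ ∧ (Subalgebra.toSubmodule B₁).FG ∧
        Valid B₁ xs' ∧ Submonoid.closure (xs : Set L) ≤ Submonoid.closure (xs' : Set L) ∧
        Good B₁ xs' := by
  intro N
  induction N with
  | zero =>
    intro B hB xs hv hM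
    by_cases hg : Good B xs
    · exact ⟨B, xs, le_rfl, hB, hv, le_rfl, hg⟩
    · obtain ⟨B₁, xs', -, -, -, -, hlt⟩ := progress hd hdm B hB xs hv hg
      have h1 : (1 : ℕ∞) ≤ 0 := by
        calc (1 : ℕ∞) ≤ Meas B₁ xs' + 1 := le_add_self
          _ ≤ Meas B xs := hlt
          _ ≤ 0 := by simpa using hM
      exact absurd h1 (by simp)
  | succ N ih =>
    intro B hB xs hv hM
    by_cases hg : Good B xs
    · exact ⟨B, xs, le_rfl, hB, hv, le_rfl, hg⟩
    · obtain ⟨B₁, xs', hBB₁, hfg₁, hv₁, hcl, hlt⟩ := progress hd hdm B hB xs hv hg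
      have hM₁ : Meas B₁ xs' ≤ N := by
        have h2 : Meas B₁ xs' + 1 ≤ (N : ℕ∞) + 1 := by
          refine hlt.trans (hM.trans ?_)
          push_cast
          exact le_rfl
        exact (ENat.add_le_add_iff_right ENat.one_ne_top).mp h2
      obtain ⟨B₂, xs'', hB₁B₂, hfg₂, hv₂, hcl₂, hg₂⟩ := ih B₁ hfg₁ xs' hv₁ hM₁
      exact ⟨B₂, xs'', hBB₁.trans hB₁B₂, hfg₂, hv₂, hcl.trans hcl₂, hg₂⟩

theorem exists_good {d : R} (hd : d ∈ nonZeroDivisors R)
    (hdm : d ∈ IsLocalRing.maximalIdeal R) (B : Subalgebra R L)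
    (hB : (Subalgebra.toSubmodule B).FG) (xs : Finset L) (hv : Valid B xs) :
    ∃ (B₁ : Subalgebra R L) (xs' : Finset L), B ≤ B₁ ∧ (Subalgebra.toSubmodule B₁).FG ∧
      Valid B₁ xs' ∧ Submonoid.closure (xs : Set L) ≤ Submonoid.closure (xs' : Set L) ∧
      Good B₁ xs' := by
  have hfin : Meas B xs < ⊤ := by
    unfold Meas
    rw [ENat.sum_lt_top]
    intro x hx
    exact qB_lt_top hB (hv x hx).2
  obtain ⟨N, hN⟩ := ENat.ne_top_iff_exists.mp hfin.ne
  exact exists_good_aux hd hdm N B hB xs hv (le_of_eq hN.symm)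

end main

end Groth.Agent.Lib.LocFact
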