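import Mathlib
import Groth.Prelude.Def_CycAlg
import Groth.Agent.Lib.LocFact4
set_option maxHeartbeats 1600000
set_option autoImplicit false
set_option linter.style.haveILetI false
universe u v

namespace Groth.Agent.Lib.LocFact
open Groth.Agent.Lib.CommonFactor

section finext
variable {R : Type u} [CommRing R] [IsLocalRing R] [IsNoetherianRing R] [Ring.KrullDimLE 1 R]
  {L : Type u} [CommRing L] [Algebra R L] [IsFractionRing R L]

theorem isFinExt_of_fg (B : Subalgebra R L) (hfg : (Subalgebra.toSubmodule B).FG) :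
    CycAlg.IsFinExt R B (IsLocalRing.maximalIdeal R) := by
  classical
  have hinj : Function.Injective (algebraMap R L) := IsFractionRing.injective R L
  haveI hfin : Module.Finite R B := Module.Finite.iff_fg.mpr hfg
  refine ⟨?_, hfin, ?_⟩
  · intro r r' hrr'
    apply hinj
    exact congrArg (Subtype.val : B → L) hrr'
  · obtain ⟨s, hs⟩ := hfin.fg_top
    obtain ⟨d, hd⟩ := IsLocalization.exist_integer_multiples_of_finset (nonZeroDivisors R)
      (s.image (Subtype.val : B → L))
    have hall : ∀ z : B, ∃ r : R, algebraMap R L r = (d : R) • (z : L) := by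
      intro z
      have hz : z ∈ Submodule.span R (s : Set B) := hs ▸ Submodule.mem_top
      induction hz using Submodule.span_induction with
      | zero => exact ⟨0, by simp⟩
      | add z w _ _ hz hw =>
        obtain ⟨r, hr⟩ := hz
        obtain ⟨r', hr'⟩ := hw
        exact ⟨r + r', by rw [map_add, hr, hr', Subalgebra.coe_add, smul_add]⟩
      | smul c z _ hz =>
        obtain ⟨r, hr⟩ := hz
        refine ⟨c * r, ?_⟩
        rw [map_mul, hr, Subalgebra.coe_smul, smul_comm, Algebra.smul_def c]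
      | mem z hz =>
        obtain ⟨r, hr⟩ := hd z (Finset.mem_image_of_mem _ hz)
        exact ⟨r, hr⟩
    obtain ⟨N, hN⟩ := exists_pow_le_span d.2
    refine ⟨N, fun r hr z => ?_⟩
    obtain ⟨r', hr'⟩ := Ideal.mem_span_singleton'.mp (hN hr)
    obtain ⟨ρ, hρ⟩ := hall z
    refine ⟨r' * ρ, Subtype.ext ?_⟩
    change algebraMap R L (r' * ρ) = ((r • z : B) : L)
    rw [map_mul, hρ, Subalgebra.coe_smul, ← hr', mul_smul, Algebra.smul_def r']

end finext

section localpart
variable {R : Type u} [CommRing R] {L : Type u} [CommRing L] [Algebra R L]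

theorem local_monomial (B : Subalgebra R L) (xs : Finset L) (hv : Valid B xs) (hg : Good B xs)
    (q : Ideal B) [q.IsPrime] :
    ∃ π : Localization.AtPrime q, π ∈ nonZeroDivisors (Localization.AtPrime q) ∧
      ∀ z ∈ Submonoid.closure (xs : Set L), ∃ hz : z ∈ B, ∃ (v : (Localization.AtPrime q)ˣ) (e : ℕ),
        algebraMap B (Localization.AtPrime q) ⟨z, hz⟩ = (v : Localization.AtPrime q) * π ^ e := by
  classical
  set ι := algebraMap B (Localization.AtPrime q) with hι
  have hnzd : ∀ z : B, IsUnit (z : L) → z ∈ nonZeroDivisors B := by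
    intro z hz
    rw [mem_nonZeroDivisors_iff_right]
    intro w hw
    have h := congrArg (Subtype.val : B → L) hw
    simp only [Subalgebra.coe_mul, Subalgebra.coe_zero] at h
    apply Subtype.ext
    exact (hz.mul_left_eq_zero).mp h
  -- the key closure argument, for a given `π` such that each `x ∈ xs` maps to unit or `π`
  have key : ∀ π : Localization.AtPrime q,
      (∀ x (hx : x ∈ xs), IsUnit (ι ⟨x, (hv x hx).1⟩) ∨ ι ⟨x, (hv x hx).1⟩ = π) →
      ∀ z ∈ Submonoid.closure (xs : Set L), ∃ hz : z ∈ B,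
        ∃ (v : (Localization.AtPrime q)ˣ) (e : ℕ), ι ⟨z, hz⟩ = (v : Localization.AtPrime q) * π ^ e := by
    intro π hπ z hz
    induction hz using Submonoid.closure_induction with
    | mem x hx =>
      have hx' : x ∈ xs := hx
      refine ⟨(hv x hx').1, ?_⟩
      rcases hπ x hx' with hu | he
      · exact ⟨hu.unit, 0, by simp⟩
      · exact ⟨1, 1, by simp [he]⟩
    | one => exact ⟨B.one_mem, 1, 0, by simp [show (⟨1, B.one_mem⟩ : B) = 1 from rfl]⟩
    | mul x y _ _ hx hy =>
      obtain ⟨hxB, v, e, hve⟩ := hx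
      obtain ⟨hyB, v', e', hve'⟩ := hy
      refine ⟨B.mul_mem hxB hyB, v * v', e + e', ?_⟩
      have : (⟨x * y, B.mul_mem hxB hyB⟩ : B) = ⟨x, hxB⟩ * ⟨y, hyB⟩ := rfl
      rw [this, map_mul, hve, hve', Units.val_mul, pow_add]
      ring
  by_cases hex : ∃ x₀, ∃ hx₀ : x₀ ∈ xs, (⟨x₀, (hv x₀ hx₀).1⟩ : B) ∈ q
  · obtain ⟨x₀, hx₀, hx₀q⟩ := hex
    refine ⟨ι ⟨x₀, (hv x₀ hx₀).1⟩, ?_, key _ ?_⟩
    · exact IsLocalization.map_nonZeroDivisors_le q.primeCompl _
        (Submonoid.mem_map_of_mem _ (hnzd _ (hv x₀ hx₀).2))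
    · intro x hx
      by_cases hxx : x = x₀
      · right
        subst hxx
        rfl
      · left
        obtain ⟨u, hu, w, hw, huw⟩ := hg x hx x₀ hx₀ hxx
        have hxq : (⟨x, (hv x hx).1⟩ : B) ∉ q := by
          intro hxq
          have h1 : (⟨u, hu⟩ : B) * ⟨x, (hv x hx).1⟩ + ⟨w, hw⟩ * ⟨x₀, (hv x₀ hx₀).1⟩ = 1 :=
            Subtype.ext huw
          have : (1 : B) ∈ q := h1 ▸ q.add_mem (q.mul_mem_left _ hxq) (q.mul_mem_left _ hx₀q)
          exact (Ideal.IsPrime.ne_top inferInstance) ((Ideal.eq_top_iff_one _).mpr this)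
        exact IsLocalization.map_units (Localization.AtPrime q)
          (⟨_, hxq⟩ : q.primeCompl)
  · push Not at hex
    refine ⟨1, one_mem _, key _ ?_⟩
    intro x hx
    left
    exact IsLocalization.map_units (Localization.AtPrime q)
      (⟨_, hex x hx⟩ : q.primeCompl)

end localpart

end Groth.Agent.Lib.LocFact
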