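import Mathlib
import Groth.Agent.Lib.FiniteIrredCompH44
import Groth.Agent.Lib.EtaleDegStrat

/-!
# helper46: schemes whose quasi-compact opens have finitely many irreducible components (Mathlib + helper44)

* `LFI U`: every quasi-compact open of `U` has finitely many irreducible components.
* `finite_irreducibleComponents_of_surjective`: finiteness passes to continuous surjective images.
* `LFI.of_flat_lft`: `LFI` ascends along flat morphisms locally of finite type.
* `LFI.of_surjective_open`: `LFI` descends along surjective open morphisms.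
-/

set_option autoImplicit false
universe u
open CategoryTheory CategoryTheory.Limits AlgebraicGeometry Topology TopologicalSpace

namespace Groth.Agent.Lib.LocFinIrred46

/-- Every quasi-compact open has finitely many irreducible components. -/
def LFI (U : Scheme.{u}) : Prop :=
  ∀ W : U.Opens, IsCompact (W : Set ↥U) → (irreducibleComponents ↥W).Finite

/-- Finiteness of the set of irreducible components passes to continuous surjective images. -/
theorem finite_irreducibleComponents_of_surjective {A B : Type*} [TopologicalSpace A]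
    [TopologicalSpace B] (g : A → B) (hg : Continuous g) (hs : Function.Surjective g)
    (h : (irreducibleComponents A).Finite) : (irreducibleComponents B).Finite := by
  refine (h.image fun C => closure (g '' C)).subset ?_
  intro Z hZ
  -- Z is contained in the finite union of the closed sets closure (g '' C)
  have hcov : Z ⊆ ⋃₀ ((fun C => closure (g '' C)) '' irreducibleComponents A) := by
    intro z _
    obtain ⟨a, rfl⟩ := hs z
    have : a ∈ ⋃₀ irreducibleComponents A := by rw [sUnion_irreducibleComponents]; trivial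
    obtain ⟨C, hC, haC⟩ := this
    exact ⟨closure (g '' C), ⟨C, hC, rfl⟩, subset_closure ⟨a, haC, rfl⟩⟩
  obtain ⟨T, hT, hZT⟩ := (isIrreducible_iff_sUnion_isClosed.1 hZ.prop)
    ((h.image fun C => closure (g '' C)).toFinset) (by
      intro T hT
      rw [Set.Finite.mem_toFinset] at hT
      obtain ⟨C, -, rfl⟩ := hT
      exact isClosed_closure) (by simpa using hcov)
  rw [Set.Finite.mem_toFinset] at hT
  obtain ⟨C, hC, rfl⟩ := hT
  refine ⟨C, hC, ?_⟩
  have hirr : IsIrreducible (closure (g '' C)) :=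
    (hC.prop.image g hg.continuousOn).closure
  exact (subset_antisymm hZT (hZ.le_of_ge hirr hZT)).symm

/-- The affine case of the ascent along flat morphisms locally of finite type. -/
theorem finite_irreducibleComponents_of_affine {U V : Scheme.{u}} (h : U ⟶ V) [Flat h]
    [LocallyOfFiniteType h] {V₁ : V.Opens} (hV₁ : IsAffineOpen V₁) {W₁ : U.Opens}
    (hW₁ : IsAffineOpen W₁) (e : W₁ ≤ h ⁻¹ᵁ V₁) (hfin : (irreducibleComponents ↥V₁).Finite) :
    (irreducibleComponents ↥W₁).Finite := by
  have hflat := h.flat_appLE hV₁ hW₁ e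
  have hft := h.finiteType_appLE hV₁ hW₁ e
  algebraize [(h.appLE V₁ W₁ e).hom]
  have h1 : (irreducibleComponents (PrimeSpectrum Γ(V, V₁))).Finite :=
    Groth.Agent.Lib.FiniteIrredCompH44.finite_irreducibleComponents_of_homeomorph
      hV₁.isoSpec.hom.homeomorph hfin
  have h2 : (irreducibleComponents (PrimeSpectrum Γ(U, W₁))).Finite :=
    Groth.Agent.Lib.FiniteIrredCompH44.finite_irreducibleComponents_primeSpectrum_of_flat_finiteType h1
  exact Groth.Agent.Lib.FiniteIrredCompH44.finite_irreducibleComponents_of_homeomorph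
    hW₁.isoSpec.hom.homeomorph.symm h2

/-- `LFI` ascends along flat morphisms locally of finite type. -/
theorem LFI.of_flat_lft {U V : Scheme.{u}} (h : U ⟶ V) [Flat h] [LocallyOfFiniteType h]
    (hV : LFI V) : LFI U := by
  intro W hW
  have key : ∀ w : ↥W, ∃ W₁ : U.Opens, IsAffineOpen W₁ ∧ w.1 ∈ W₁ ∧ W₁ ≤ W ∧
      (irreducibleComponents ↥W₁).Finite := by
    intro w
    obtain ⟨V₁, hV₁, hwV₁, -⟩ :=
      (Opens.isBasis_iff_nbhd.1 V.isBasis_affineOpens) (show h w.1 ∈ (⊤ : V.Opens) from trivial)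
    have hmem : w.1 ∈ (W ⊓ h ⁻¹ᵁ V₁ : U.Opens) := ⟨w.2, hwV₁⟩
    obtain ⟨W₁, hW₁, hwW₁, hle⟩ := (Opens.isBasis_iff_nbhd.1 U.isBasis_affineOpens) hmem
    exact ⟨W₁, hW₁, hwW₁, hle.trans inf_le_left,
      finite_irreducibleComponents_of_affine h hV₁ hW₁ (hle.trans inf_le_right)
        (hV V₁ hV₁.isCompact)⟩
  choose W₁ hW₁a hW₁m hW₁le hW₁f using key
  obtain ⟨t, ht⟩ := hW.elim_finite_subcover (fun w : ↥W => ((W₁ w : U.Opens) : Set ↥U))
    (fun w => (W₁ w).isOpen) (fun x hx => Set.mem_iUnion.2 ⟨⟨x, hx⟩, hW₁m _⟩)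
  refine Groth.Agent.Lib.FiniteIrredCompH44.finite_irreducibleComponents_of_openCover
    (ι := ↥t) (fun i => ↥(W₁ i.1)) (fun i x => (⟨x.1, hW₁le i.1 x.2⟩ : ↥W))
    (fun i => ?_) (fun x => ?_) (fun i => hW₁f i.1)
  · exact (Opens.isOpenEmbedding_of_le (hW₁le i.1))
  · obtain ⟨w, hw⟩ := Set.mem_iUnion.1 (ht x.2)
    obtain ⟨hwt, hxw⟩ := Set.mem_iUnion.1 hw
    exact ⟨⟨w, hwt⟩, ⟨x.1, hxw⟩, rfl⟩

/-- `LFI` descends along surjective open morphisms. -/
theorem LFI.of_surjective_open {U' U : Scheme.{u}} (p : U' ⟶ U) (hs : Function.Surjective p)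
    (ho : IsOpenMap p) (hU' : LFI U') : LFI U := by
  intro W hW
  obtain ⟨G, hGo, hGc, hGW, hWG⟩ :=
    Groth.Agent.Lib.EtaleDegStrat.exists_isCompact_isOpen_image_eq p ho (p ⁻¹' (W : Set ↥U))
      (W.isOpen.preimage p.continuous) (W : Set ↥U) hW (fun x hx => by
        obtain ⟨y, rfl⟩ := hs x
        exact ⟨y, hx, rfl⟩)
  have hfin := hU' ⟨G, hGo⟩ hGc
  refine finite_irreducibleComponents_of_surjective
    (fun g : ↥(⟨G, hGo⟩ : U'.Opens) => (⟨p g.1, hGW g.2⟩ : ↥W)) ?_ ?_ hfin
  · exact (p.continuous.comp continuous_subtype_val).subtype_mk _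
  · intro x
    obtain ⟨g, hg, hgx⟩ := hWG x.2
    exact ⟨⟨g, hg⟩, Subtype.ext hgx⟩

/-- Only finitely many irreducible components of `B` meet an open subset contained in the image of a
continuous map from a space with finitely many irreducible components. -/
theorem finite_irreducibleComponents_meeting {A B : Type*} [TopologicalSpace A]
    [TopologicalSpace B] (g : A → B) (hg : Continuous g) (h : (irreducibleComponents A).Finite)
    (Ω : Set B) (hΩ : IsOpen Ω) (hΩg : Ω ⊆ Set.range g) :
    {Z ∈ irreducibleComponents B | (Z ∩ Ω).Nonempty}.Finite := by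
  refine (h.image fun C => closure (g '' C)).subset ?_
  rintro Z ⟨hZ, hZΩ⟩
  have hZcl : IsClosed Z := isClosed_of_mem_irreducibleComponents Z hZ
  -- `Z ∩ Ω` is dense in `Z`
  have hdense : Z ⊆ closure (Z ∩ Ω) := by
    intro z hz
    rw [mem_closure_iff]
    intro N hN hzN
    obtain ⟨w, hwZ, hwN, hwΩ⟩ := hZ.1.isPreirreducible N Ω hN hΩ ⟨z, hz, hzN⟩ hZΩ
    exact ⟨w, hwN, hwZ, hwΩ⟩
  have hcov : Z ⊆ ⋃₀ ((fun C => closure (g '' C)) '' irreducibleComponents A) := by
    have h1 : Z ∩ Ω ⊆ ⋃₀ ((fun C => closure (g '' C)) '' irreducibleComponents A) := by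
      rintro z ⟨-, hzΩ⟩
      obtain ⟨a, rfl⟩ := hΩg hzΩ
      have : a ∈ ⋃₀ irreducibleComponents A := by rw [sUnion_irreducibleComponents]; trivial
      obtain ⟨C, hC, haC⟩ := this
      exact ⟨closure (g '' C), ⟨C, hC, rfl⟩, subset_closure ⟨a, haC, rfl⟩⟩
    have h2 : IsClosed (⋃₀ ((fun C => closure (g '' C)) '' irreducibleComponents A)) := by
      rw [Set.sUnion_eq_biUnion]
      refine (h.image _).isClosed_biUnion ?_
      rintro _ ⟨C, -, rfl⟩
      exact isClosed_closure
    exact hdense.trans (h2.closure_subset_iff.2 h1)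
  obtain ⟨T, hT, hZT⟩ := (isIrreducible_iff_sUnion_isClosed.1 hZ.1)
    ((h.image fun C => closure (g '' C)).toFinset) (by
      intro T hT
      rw [Set.Finite.mem_toFinset] at hT
      obtain ⟨C, -, rfl⟩ := hT
      exact isClosed_closure) (by simpa using hcov)
  rw [Set.Finite.mem_toFinset] at hT
  obtain ⟨C, hC, rfl⟩ := hT
  refine ⟨C, hC, ?_⟩
  have hirr : IsIrreducible (closure (g '' C)) := (hC.1.image g hg.continuousOn).closure
  exact (subset_antisymm hZT (hZ.le_of_ge hirr hZT)).symm

end Groth.Agent.Lib.LocFinIrred46
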