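import Mathlib

/-!
# Local freeness on basic opens, elementwise (helper1)

For a module `M` over a commutative ring `S`, `s : S` and a finite family `m : Fin r → M` consider
* (G) `∀ y, ∃ k c, s ^ k • y = ∑ i, c i • m i` (the family generates after inverting `s`);
* (Q) `∀ c, ∑ i, c i • m i = 0 → ∀ i, ∃ k, s ^ k * c i = 0` (it is independent after inverting `s`).

* `free_localizedModule_away`: (G) + (Q) ⇒ `LocalizedModule.Away s M` is finite free over `Localization.Away s`.
* `projective_of_locally_free`: if every maximal ideal has such a basic open neighbourhood, `M` is finite projective.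
* `exists_local_coords`: conversely a finite projective module has, near every prime, a family `m` with (G) and
  coordinate forms `l j : M →ₗ[S] Localization.Away s`, `l j (m i) = δ_ij`.
-/

set_option autoImplicit false
set_option linter.style.haveILetI false
set_option linter.unusedSectionVars false

universe u v

namespace Groth.Agent.Lib.LocFreeH1

variable {S : Type u} [CommRing S] {M : Type v} [AddCommGroup M] [Module S M]

theorem free_localizedModule_away (s : S) {r : ℕ} (m : Fin r → M)
    (hG : ∀ y : M, ∃ (k : ℕ) (c : Fin r → S), s ^ k • y = ∑ i, c i • m i)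
    (hQ : ∀ c : Fin r → S, ∑ i, c i • m i = 0 → ∀ i, ∃ k : ℕ, s ^ k * c i = 0) :
    Module.Free (Localization.Away s) (LocalizedModule.Away s M) ∧
      Module.Finite (Localization.Away s) (LocalizedModule.Away s M) := by
  classical
  let f := LocalizedModule.mkLinearMap (Submonoid.powers s) M
  let v : Fin r → LocalizedModule.Away s M := fun i => f (m i)
  have hunit : ∀ t : Submonoid.powers s, IsUnit (algebraMap S (Localization.Away s) t) :=
    fun t => IsLocalization.map_units _ t
  have hli : LinearIndependent (Localization.Away s) v := by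
    rw [Fintype.linearIndependent_iff]
    intro g hg i
    obtain ⟨b, hb⟩ := IsLocalization.exist_integer_multiples (Submonoid.powers s) Finset.univ g
    have hb' : ∀ i, ∃ c : S, algebraMap S (Localization.Away s) c = (b : S) • g i :=
      fun i => hb i (Finset.mem_univ i)
    choose c hc using hb'
    have h1 : f (∑ i, c i • m i) = 0 := by
      rw [map_sum]
      have : ∀ i, f (c i • m i) = (b : S) • (g i • v i) := by
        intro i
        rw [map_smul, ← algebraMap_smul (Localization.Away s) (c i) (f (m i)), hc i, smul_assoc]
      rw [Finset.sum_congr rfl (fun i _ => this i), ← Finset.smul_sum, hg, smul_zero]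
    obtain ⟨t, ht⟩ := (IsLocalizedModule.eq_zero_iff (Submonoid.powers s) f).1 h1
    obtain ⟨k, hk⟩ := t.2
    have h2 : ∑ i, (s ^ k * c i) • m i = 0 := by
      rw [← ht, Submonoid.smul_def, ← hk, Finset.smul_sum]
      exact Finset.sum_congr rfl (fun i _ => mul_smul _ _ _)
    obtain ⟨k', hk'⟩ := hQ _ h2 i
    have h3 : algebraMap S (Localization.Away s) (c i) = 0 := by
      rw [IsLocalization.map_eq_zero_iff (Submonoid.powers s)]
      refine ⟨⟨s ^ (k' + k), ⟨_, rfl⟩⟩, ?_⟩
      change s ^ (k' + k) * c i = 0
      rw [pow_add, mul_assoc, hk']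
    rw [hc i, Algebra.smul_def] at h3
    exact (hunit b).mul_right_eq_zero.1 h3
  have hsp : ⊤ ≤ Submodule.span (Localization.Away s) (Set.range v) := by
    intro z _
    obtain ⟨⟨y, t⟩, hyt⟩ := IsLocalizedModule.surj (Submonoid.powers s) f z
    obtain ⟨k, c, hkc⟩ := hG y
    have h1 : (algebraMap S (Localization.Away s) (s ^ k * t)) • z
        ∈ Submodule.span (Localization.Away s) (Set.range v) := by
      have : (algebraMap S (Localization.Away s) (s ^ k * t)) • z = ∑ i, algebraMap S (Localization.Away s) (c i) • v i := by
        rw [algebraMap_smul, mul_smul]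
        have hyt' : (t : S) • z = f y := hyt
        rw [hyt', ← map_smul, hkc, map_sum]
        refine Finset.sum_congr rfl (fun i _ => ?_)
        rw [map_smul, algebraMap_smul]
      rw [this]
      exact Submodule.sum_mem _ (fun i _ => Submodule.smul_mem _ _ (Submodule.subset_span ⟨i, rfl⟩))
    have hu : IsUnit (algebraMap S (Localization.Away s) (s ^ k * t)) := by
      have : s ^ k * (t : S) ∈ Submonoid.powers s :=
        Submonoid.mul_mem _ ⟨k, rfl⟩ t.2
      exact hunit ⟨_, this⟩
    have h2 := (Submodule.smul_mem_iff' (Submodule.span (Localization.Away s) (Set.range v))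
      (x := z) hu.unit).1
    apply h2
    rw [Units.smul_def]
    exact h1
  let bs : Module.Basis (Fin r) (Localization.Away s) (LocalizedModule.Away s M) := Module.Basis.mk hli hsp
  exact ⟨Module.Free.of_basis bs, Module.Finite.of_basis bs⟩

theorem projective_of_locally_free
    (h : ∀ (𝔮 : Ideal S) [𝔮.IsMaximal], ∃ s : S, s ∉ 𝔮 ∧
      Module.Free (Localization.Away s) (LocalizedModule.Away s M) ∧
      Module.Finite (Localization.Away s) (LocalizedModule.Away s M)) :
    Module.Projective S M ∧ Module.Finite S M := by
  let t : Set S := {s | Module.Free (Localization.Away s) (LocalizedModule.Away s M) ∧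
      Module.Finite (Localization.Away s) (LocalizedModule.Away s M)}
  have ht : Ideal.span t = ⊤ := by
    by_contra hne
    obtain ⟨𝔮, h𝔮, hle⟩ := Ideal.exists_le_maximal _ hne
    obtain ⟨s, hs, hfr⟩ := h 𝔮
    exact hs (hle (Ideal.subset_span hfr))
  have hfp : Module.FinitePresentation S M := by
    refine Module.FinitePresentation.of_localizationSpan t ht (fun g => ?_)
    haveI := g.2.1
    haveI := g.2.2
    exact Module.finitePresentation_of_projective _ _
  have hflat : Module.Flat S M := by
    refine Module.flat_of_localized_span S M t ht (fun g => ?_)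
    haveI := g.2.1
    haveI : Module.Flat S (Localization.Away g.1) := IsLocalization.flat _ (Submonoid.powers g.1)
    exact Module.Flat.trans S (Localization.Away g.1) (LocalizedModule.Away g.1 M)
  exact ⟨Module.Flat.projective_of_finitePresentation, inferInstance⟩

theorem exists_local_coords [Module.Finite S M] [Module.Projective S M] (𝔭 : Ideal S) [𝔭.IsPrime] :
    ∃ s : S, s ∉ 𝔭 ∧ ∃ (r : ℕ) (m : Fin r → M) (l : Fin r → (M →ₗ[S] Localization.Away s)),
      (∀ i j, l j (m i) = if i = j then 1 else 0) ∧
      ∀ y : M, ∃ (k : ℕ) (c : Fin r → S), s ^ k • y = ∑ i, c i • m i := by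
  classical
  haveI : Module.FinitePresentation S M := Module.finitePresentation_of_projective S M
  haveI : Module.Projective (Localization.AtPrime 𝔭) (LocalizedModule 𝔭.primeCompl M) :=
    inferInstanceAs (Module.Projective (Localization 𝔭.primeCompl) (LocalizedModule 𝔭.primeCompl M))
  haveI : Module.Free (Localization.AtPrime 𝔭) (LocalizedModule 𝔭.primeCompl M) :=
    Module.free_of_flat_of_isLocalRing
  obtain ⟨s, hs, hfr, -⟩ := Module.FinitePresentation.exists_free_localizedModule_powers 𝔭.primeCompl
    (LocalizedModule.mkLinearMap 𝔭.primeCompl M) (Localization.AtPrime 𝔭)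
  refine ⟨s, hs, ?_⟩
  haveI := hfr
  have hnt : Nontrivial (Localization.Away s) := by
    have : (Submonoid.powers s) ≤ 𝔭.primeCompl := Submonoid.powers_le.mpr hs
    exact (IsLocalization.map (M := Submonoid.powers s) (T := 𝔭.primeCompl)
      (Localization.AtPrime 𝔭) (RingHom.id S) this :
        Localization.Away s →+* Localization.AtPrime 𝔭).domain_nontrivial
  let f := LocalizedModule.mkLinearMap (Submonoid.powers s) M
  let b := Module.finBasis (Localization.Away s) (LocalizedModule.Away s M)
  have hsurj : ∀ i, ∃ x : M × Submonoid.powers s, x.2 • b i = f x.1 :=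
    fun i => IsLocalizedModule.surj (Submonoid.powers s) f (b i)
  choose x hx using hsurj
  have hunit : ∀ t : Submonoid.powers s, IsUnit (algebraMap S (Localization.Away s) t) :=
    fun t => IsLocalization.map_units _ t
  let b' := b.unitsSMul (fun i => (hunit (x i).2).unit)
  have hb' : ∀ i, b' i = f (x i).1 := by
    intro i
    rw [Module.Basis.unitsSMul_apply, Units.smul_def, IsUnit.unit_spec, algebraMap_smul]
    exact hx i
  refine ⟨_, fun i => (x i).1,
    fun j => ((b'.coord j).restrictScalars S).comp f, ?_, ?_⟩
  · intro i j
    change b'.coord j (f (x i).1) = _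
    rw [← hb' i, Module.Basis.coord_apply, Module.Basis.repr_self, Finsupp.single_apply]
  · intro y
    obtain ⟨t, ht⟩ := IsLocalization.exist_integer_multiples (Submonoid.powers s) Finset.univ
      (fun i => b'.repr (f y) i)
    have ht' : ∀ i, ∃ c : S, algebraMap S (Localization.Away s) c = (t : S) • b'.repr (f y) i :=
      fun i => ht i (Finset.mem_univ i)
    choose c hc using ht'
    have h1 : f ((t : S) • y) = f (∑ i, c i • (x i).1) := by
      rw [map_smul, map_sum]
      conv_lhs => rw [← b'.sum_repr (f y), Finset.smul_sum]
      refine Finset.sum_congr rfl (fun i _ => ?_)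
      rw [map_smul, ← hb' i, ← algebraMap_smul (Localization.Away s) (c i) (b' i), hc i, smul_assoc]
    obtain ⟨t', ht'⟩ := (IsLocalizedModule.eq_iff_exists (Submonoid.powers s) f).1 h1
    obtain ⟨k, hk⟩ := t.2
    obtain ⟨k', hk'⟩ := t'.2
    refine ⟨k' + k, fun i => s ^ k' * c i, ?_⟩
    rw [Submonoid.smul_def, Submonoid.smul_def, ← hk, ← hk', Finset.smul_sum, ← mul_smul, ← pow_add] at ht'
    rw [ht']
    exact Finset.sum_congr rfl (fun i _ => (mul_smul _ _ _).symm)

end Groth.Agent.Lib.LocFreeH1
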