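import Groth.Agent.Lib.SingleMaps31
import Groth.Agent.Lib.FreeSheaf31
import Mathlib.CategoryTheory.Sites.LocallySurjective
import Mathlib.CategoryTheory.Sites.EpiMono

/-!
# Local generators of an abelian category over a site (helper31)

Let `𝒜` be an abelian category with an additive functor `Γ : 𝒜 ⥤ Sheaf J Ab` preserving
epimorphisms (the "underlying abelian sheaf"), and a family of objects `Z U` (`U : C`) with natural
bijections `e U M : (Z U ⟶ M) ≃ Γ(M)(U)` (`Gen Γ`).  Examples: `𝒜 = Sheaf J Ab` with `Γ = 𝟭`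
and the free abelian sheaves; `𝒜 = SheafOfModules R` with `Γ` the forgetful functor and the free
modules `j_{U!} R_U`.

This file ports `FreeSheaf31` and `HyperLocal31` to this setting:
* `Gen.Zmap`, `Gen.e_map`, `Gen.e_zero`, `Gen.e_add`, `Gen.exists_local_lift`;
* `θfun : Hom_{D(𝒜)}(Z U[0], K) → Γ(H⁰ K)(U)` and its local bijectivity
  (`θfun_loc_surj`, `θfun_loc_inj`).
-/

set_option autoImplicit false
set_option linter.unusedSectionVars false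

open CategoryTheory CategoryTheory.Limits Opposite HomologicalComplex DerivedCategory

universe w v' u' u

namespace Groth.Agent.LocGen31

open Groth.Agent.SingleMaps31

variable {C : Type u} [SmallCategory C] {J : GrothendieckTopology C}
  {𝒜 : Type u'} [Category.{v'} 𝒜] [Abelian 𝒜]

/-- local generators of `𝒜` relative to `Γ : 𝒜 ⥤ Sheaf J Ab` -/
structure Gen (Γ : 𝒜 ⥤ Sheaf J AddCommGrpCat.{u}) where
  /-- the generator over `U` -/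
  Z : C → 𝒜
  /-- morphisms out of `Z U` are sections over `U` -/
  e : ∀ (U : C) (M : 𝒜), (Z U ⟶ M) ≃ (Γ.obj M).obj.obj (op U)
  e_comp : ∀ (U : C) {M N : 𝒜} (g : Z U ⟶ M) (f : M ⟶ N),
    e U N (g ≫ f) = (Γ.map f).hom.app (op U) (e U M g)

namespace Gen

variable {Γ : 𝒜 ⥤ Sheaf J AddCommGrpCat.{u}} (𝒢 : Gen Γ)

/-- the universal section -/
noncomputable def gen (U : C) : (Γ.obj (𝒢.Z U)).obj.obj (op U) := 𝒢.e U _ (𝟙 _)

lemma e_eq (U : C) {M : 𝒜} (g : 𝒢.Z U ⟶ M) :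
    𝒢.e U M g = (Γ.map g).hom.app (op U) (𝒢.gen U) := by
  have := 𝒢.e_comp U (𝟙 (𝒢.Z U)) g
  rw [Category.id_comp] at this
  exact this

/-- the restriction maps `Z V ⟶ Z U` -/
noncomputable def Zmap {U V : C} (h : V ⟶ U) : 𝒢.Z V ⟶ 𝒢.Z U :=
  (𝒢.e V (𝒢.Z U)).symm ((Γ.obj (𝒢.Z U)).obj.map h.op (𝒢.gen U))

lemma e_map {U V : C} (h : V ⟶ U) {M : 𝒜} (g : 𝒢.Z U ⟶ M) :
    𝒢.e V M (𝒢.Zmap h ≫ g) = (Γ.obj M).obj.map h.op (𝒢.e U M g) := by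
  rw [𝒢.e_comp, Zmap, Equiv.apply_symm_apply, 𝒢.e_eq U g]
  exact NatTrans.naturality_apply (Γ.map g).hom h.op (𝒢.gen U)

lemma Zmap_comp {U V W : C} (h : V ⟶ U) (k : W ⟶ V) :
    𝒢.Zmap (k ≫ h) = 𝒢.Zmap k ≫ 𝒢.Zmap h := by
  apply (𝒢.e W (𝒢.Z U)).injective
  rw [𝒢.e_map k (𝒢.Zmap h)]
  have h1 := 𝒢.e_map (k ≫ h) (𝟙 (𝒢.Z U))
  have h2 := 𝒢.e_map h (𝟙 (𝒢.Z U))
  rw [Category.comp_id] at h1 h2
  rw [h1, h2, op_comp, Functor.map_comp]
  rfl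

variable [Γ.Additive]

lemma e_zero (U : C) (M : 𝒜) : 𝒢.e U M 0 = 0 := by
  rw [𝒢.e_eq, Functor.map_zero]
  rfl

lemma e_add (U : C) {M : 𝒜} (g g' : 𝒢.Z U ⟶ M) :
    𝒢.e U M (g + g') = 𝒢.e U M g + 𝒢.e U M g' := by
  rw [𝒢.e_eq, 𝒢.e_eq U g, 𝒢.e_eq U g', Functor.map_add]
  rfl

lemma eq_zero_of_e_eq_zero (U : C) {M : 𝒜} (g : 𝒢.Z U ⟶ M) (hg : 𝒢.e U M g = 0) : g = 0 := by
  apply (𝒢.e U M).injective
  rw [hg, 𝒢.e_zero]

variable [Γ.PreservesEpimorphisms]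

/-- local lifting along an epimorphism -/
theorem exists_local_lift {B B'' : 𝒜} (π : B ⟶ B'') [Epi π] {U : C} (t : 𝒢.Z U ⟶ B'') :
    ∃ S ∈ J U, ∀ ⦃V : C⦄ (f : V ⟶ U), S.arrows f →
      ∃ b : 𝒢.Z V ⟶ B, b ≫ π = 𝒢.Zmap f ≫ t := by
  have hπ : Sheaf.IsLocallySurjective (Γ.map π) :=
    (Sheaf.isLocallySurjective_iff_epi' AddCommGrpCat.{u} (Γ.map π)).2 inferInstance
  refine ⟨_, Presheaf.imageSieve_mem J (Γ.map π).hom (𝒢.e U B'' t), ?_⟩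
  intro V f hf
  obtain ⟨x, hx⟩ := hf
  refine ⟨(𝒢.e V B).symm x, ?_⟩
  apply (𝒢.e V B'').injective
  rw [𝒢.e_comp, Equiv.apply_symm_apply, 𝒢.e_map]
  exact hx

end Gen

end Groth.Agent.LocGen31
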