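import Mathlib

/-!
# Properties of local rings passing to generizations (helper33)

For a property `P` of commutative rings which is invariant under ring isomorphisms and passes to
localizations at primes:
* `of_le` : `p ≤ q` primes of `R`, `P R_q → P R_p`;
* `of_specializes` : on a scheme, `x ⤳ y`, `P O_{X,y} → P O_{X,x}`.
-/

set_option autoImplicit false
set_option linter.style.haveILetI false
universe u

namespace Groth.Agent.Lib.LocGen33

section Ring

variable (P : ∀ (S : Type u) [CommRing S], Prop)
  (hiso : ∀ (S S' : Type u) [CommRing S] [CommRing S'], (S ≃+* S') → P S → P S')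
  (hloc : ∀ (S : Type u) [CommRing S], P S → ∀ (p : Ideal S) [p.IsPrime],
    P (Localization.AtPrime p))

lemma of_eq {R : Type u} [CommRing R] {p p' : Ideal R} [p.IsPrime] [p'.IsPrime] (h : p = p')
    (hp : P (Localization.AtPrime p)) : P (Localization.AtPrime p') := by
  subst h
  exact hp

include hiso hloc in
/-- `p ≤ q` primes of `R`: `P R_q → P R_p`. -/
theorem of_le {R : Type u} [CommRing R] (p q : Ideal R) [p.IsPrime] [q.IsPrime] (h : p ≤ q)
    (hq : P (Localization.AtPrime q)) : P (Localization.AtPrime p) := by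
  have hdisj : Disjoint (q.primeCompl : Set R) (p : Set R) := by
    rw [Set.disjoint_left]
    intro a ha hap
    exact ha (h hap)
  set p' : Ideal (Localization.AtPrime q) := p.map (algebraMap R (Localization.AtPrime q))
    with hp'
  haveI hp'prime : p'.IsPrime :=
    IsLocalization.isPrime_of_isPrime_disjoint q.primeCompl _ p inferInstance hdisj
  have hcomap : p'.comap (algebraMap R (Localization.AtPrime q)) = p :=
    IsLocalization.under_map_of_isPrime_disjoint q.primeCompl _ inferInstance hdisj
  have h1 : P (Localization.AtPrime p') := hloc _ hq p'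
  have e := IsLocalization.localizationLocalizationAtPrimeIsoLocalization q.primeCompl p'
  have h2 : P (Localization.AtPrime (p'.comap (algebraMap R (Localization.AtPrime q)))) :=
    hiso _ _ e.symm.toRingEquiv h1
  exact of_eq P hcomap h2

end Ring

section Scheme

open AlgebraicGeometry

variable (P : ∀ (S : Type u) [CommRing S], Prop)
  (hiso : ∀ (S S' : Type u) [CommRing S] [CommRing S'], (S ≃+* S') → P S → P S')
  (hloc : ∀ (S : Type u) [CommRing S], P S → ∀ (p : Ideal S) [p.IsPrime],
    P (Localization.AtPrime p))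

include hiso hloc in
/-- On a scheme, if `x ⤳ y` and `P O_{X,y}` then `P O_{X,x}`. -/
theorem of_specializes (X : Scheme.{u}) {x y : X} (h : x ⤳ y)
    (hy : P (X.presheaf.stalk y)) : P (X.presheaf.stalk x) := by
  obtain ⟨_, ⟨U, hU, rfl⟩, hyU, -⟩ :=
    (X.isBasis_affineOpens).exists_subset_of_mem_open (Set.mem_univ y) isOpen_univ
  have hxU : x ∈ U := h.mem_open U.2 hyU
  have hU' : IsAffineOpen U := hU
  letI ax := TopCat.Presheaf.algebra_section_stalk X.presheaf (⟨x, hxU⟩ : U)
  letI ay := TopCat.Presheaf.algebra_section_stalk X.presheaf (⟨y, hyU⟩ : U)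
  haveI locx := hU'.isLocalization_stalk ⟨x, hxU⟩
  haveI locy := hU'.isLocalization_stalk ⟨y, hyU⟩
  have hle : (hU'.primeIdealOf ⟨x, hxU⟩).asIdeal ≤ (hU'.primeIdealOf ⟨y, hyU⟩).asIdeal := by
    have hsub : (⟨x, hxU⟩ : U) ⤳ ⟨y, hyU⟩ := (subtype_specializes_iff _ _).mpr h
    have hcont : Continuous (hU'.primeIdealOf) := by
      unfold IsAffineOpen.primeIdealOf
      exact (hU'.isoSpec.hom.base.hom).continuous
    have := hsub.map hcont
    exact (PrimeSpectrum.le_iff_specializes _ _).mpr this
  have ey := IsLocalization.algEquiv (hU'.primeIdealOf ⟨y, hyU⟩).asIdeal.primeCompl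
    (X.presheaf.stalk y) (Localization.AtPrime (hU'.primeIdealOf ⟨y, hyU⟩).asIdeal)
  have ex := IsLocalization.algEquiv (hU'.primeIdealOf ⟨x, hxU⟩).asIdeal.primeCompl
    (Localization.AtPrime (hU'.primeIdealOf ⟨x, hxU⟩).asIdeal) (X.presheaf.stalk x)
  have h1 : P (Localization.AtPrime (hU'.primeIdealOf ⟨y, hyU⟩).asIdeal) :=
    hiso _ _ ey.toRingEquiv hy
  have h2 := of_le P hiso hloc _ _ hle h1
  exact hiso _ _ ex.toRingEquiv h2

end Scheme

end Groth.Agent.Lib.LocGen33
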