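import Mathlib
import Groth.Agent.Lib.FreeModStalk
import Groth.Agent.Lib.RestrictStalk
import Groth.Agent.Lib.CohFinite

/-!
# Local generation on `Spec R` (helper97)

* `exists_gens_of_span_away`, `exists_gens_of_span_away'`: if the localisation `M_a` is spanned by
  `n` elements then there are `n` elements `t j` of `M` with `a ^ k • m ∈ span (t j)` for all `m`.
* `exists_partition`: a finite open cover `U i` of `Spec R` admits `a i` with `D(a i) ≤ U i`
  generating the unit ideal.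
* `span_germ_eq_top_of_epi`: an epi `O^n ⟶ G` makes the germs of the `n` standard sections span
  every stalk.
* `exists_gens_of_epi`: an epi `O_U^n ⟶ M~|_U` and `D(a) ≤ U` give `n` elements of `M` spanning
  `M` up to powers of `a`.
* `span_eq_top_of_pow_smul_mem`: glueing `n` local generators over `m` members of a partition
  to `n * m` global generators.
-/

set_option autoImplicit false
universe u

open CategoryTheory CategoryTheory.Limits AlgebraicGeometry TopologicalSpace Opposite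

namespace Groth.Agent.Lib.LocGen97

open Groth.Agent.Lib.ModStalk Groth.Agent.Lib.ModStalkLin Groth.Agent.Lib.FreeModSch
  Groth.Agent.Lib.QCohStalk Groth.Agent.Lib.FreeModStalk Groth.Agent.Lib.RestrictStalk
  Groth.Agent.Lib.CohFinite

theorem exists_gens_of_span_away {R : Type*} [CommRing R] (a : R) {S : Type*} [CommRing S]
    [Algebra R S] [IsLocalization.Away a S] {M N' : Type*} [AddCommGroup M] [Module R M]
    [AddCommGroup N'] [Module R N'] [Module S N'] [IsScalarTower R S N'] (f : M →ₗ[R] N')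
    [IsLocalizedModule (Submonoid.powers a) f] {n : ℕ} (σ : Fin n → N')
    (hσ : Submodule.span S (Set.range σ) = ⊤) :
    ∃ t : Fin n → M, ∀ m : M, ∃ k : ℕ, a ^ k • m ∈ Submodule.span R (Set.range t) := by
  have hsurj : ∀ y : N', ∃ (k : ℕ) (m : M), a ^ k • y = f m := by
    intro y
    obtain ⟨⟨m, ⟨_, k, rfl⟩⟩, h⟩ := IsLocalizedModule.surj (Submonoid.powers a) f y
    exact ⟨k, m, h⟩
  choose l t ht using fun j => hsurj (σ j)
  refine ⟨t, ?_⟩
  have claim : ∀ y ∈ Submodule.span S (Set.range σ),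
      ∃ (k : ℕ) (n' : M), n' ∈ Submodule.span R (Set.range t) ∧ a ^ k • y = f n' := by
    intro y hy
    induction hy using Submodule.span_induction with
    | mem y h =>
      obtain ⟨j, rfl⟩ := h
      exact ⟨l j, t j, Submodule.subset_span ⟨j, rfl⟩, ht j⟩
    | zero => exact ⟨0, 0, Submodule.zero_mem _, by simp⟩
    | add y1 y2 _ _ h1 h2 =>
      obtain ⟨k1, n1, hn1, e1⟩ := h1
      obtain ⟨k2, n2, hn2, e2⟩ := h2
      refine ⟨k1 + k2, a ^ k2 • n1 + a ^ k1 • n2,
        Submodule.add_mem _ (Submodule.smul_mem _ _ hn1) (Submodule.smul_mem _ _ hn2), ?_⟩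
      rw [smul_add, map_add, map_smul, map_smul, ← e1, ← e2, smul_smul, smul_smul, ← pow_add,
        ← pow_add, add_comm k2 k1]
    | smul c y _ h =>
      obtain ⟨k, n', hn', e⟩ := h
      obtain ⟨⟨r, ⟨_, e', rfl⟩⟩, hr⟩ := IsLocalization.surj (Submonoid.powers a) c
      -- hr : c * algebraMap R S (a ^ e') = algebraMap R S r
      refine ⟨k + e', r • n', Submodule.smul_mem _ _ hn', ?_⟩
      have h1 : a ^ e' • (c • y) = r • y := by
        rw [← algebraMap_smul S (a ^ e') (c • y), smul_smul, mul_comm, hr, algebraMap_smul]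
      rw [map_smul, ← e, pow_add, mul_smul, h1, smul_comm]
  intro m
  have hm : f m ∈ Submodule.span S (Set.range σ) := by rw [hσ]; trivial
  obtain ⟨k, n', hn', e⟩ := claim _ hm
  have h0 : f (a ^ k • m - n') = 0 := by rw [map_sub, map_smul, e, sub_self]
  obtain ⟨⟨_, k', rfl⟩, hk'⟩ := (IsLocalizedModule.eq_zero_iff (Submonoid.powers a) f).mp h0
  refine ⟨k' + k, ?_⟩
  have : a ^ (k' + k) • m = a ^ k' • n' := by
    have h2 : a ^ k' • (a ^ k • m - n') = 0 := hk'
    rw [smul_sub, sub_eq_zero] at h2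
    rw [pow_add, mul_smul, h2]
  rw [this]
  exact Submodule.smul_mem _ _ hn'

/-- local-to-global with a partition of unity. -/
theorem span_eq_top_of_pow_smul_mem {R : Type*} [CommRing R] {M : Type*} [AddCommGroup M]
    [Module R M] {m n : ℕ} (a : Fin m → R) (ha : Ideal.span (Set.range a) = ⊤)
    (t : Fin m → Fin n → M)
    (h : ∀ i (x : M), ∃ k : ℕ, a i ^ k • x ∈ Submodule.span R (Set.range (t i))) :
    ∃ s : Fin (n * m) → M, Submodule.span R (Set.range s) = ⊤ := by
  refine ⟨fun q => t (finProdFinEquiv.symm q).2 (finProdFinEquiv.symm q).1, ?_⟩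
  rw [eq_top_iff]
  rintro x -
  apply Submodule.mem_of_span_eq_top_of_smul_pow_mem _ (Set.range a) ha
  rintro ⟨_, i, rfl⟩
  obtain ⟨k, hk⟩ := h i x
  refine ⟨k, ?_⟩
  refine Submodule.span_mono ?_ hk
  rintro _ ⟨j, rfl⟩
  exact ⟨finProdFinEquiv (j, i), by simp⟩


/-- version of `exists_gens_of_span_away` with explicit structure maps (robust against
instance-path mismatches). -/
theorem exists_gens_of_span_away' {R : Type*} [CommRing R] (a : R) {S : Type*} [CommRing S]
    (ρ : R →+* S) (hρ : ∀ c : S, ∃ (k : ℕ) (r : R), c * ρ (a ^ k) = ρ r)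
    {M N' : Type*} [AddCommGroup M] [Module R M] [AddCommGroup N'] [Module S N']
    (f : M →+ N') (hf : ∀ (r : R) (m : M), f (r • m) = ρ r • f m)
    (h2 : ∀ y : N', ∃ (k : ℕ) (m : M), ρ (a ^ k) • y = f m)
    (h3 : ∀ m : M, f m = 0 → ∃ k : ℕ, a ^ k • m = 0)
    {n : ℕ} (σ : Fin n → N') (hσ : Submodule.span S (Set.range σ) = ⊤) :
    ∃ t : Fin n → M, ∀ m : M, ∃ k : ℕ, a ^ k • m ∈ Submodule.span R (Set.range t) := by
  choose l t ht using fun j => h2 (σ j)
  refine ⟨t, ?_⟩
  have claim : ∀ y ∈ Submodule.span S (Set.range σ),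
      ∃ (k : ℕ) (n' : M), n' ∈ Submodule.span R (Set.range t) ∧ ρ (a ^ k) • y = f n' := by
    intro y hy
    induction hy using Submodule.span_induction with
    | mem y h =>
      obtain ⟨j, rfl⟩ := h
      exact ⟨l j, t j, Submodule.subset_span ⟨j, rfl⟩, ht j⟩
    | zero => exact ⟨0, 0, Submodule.zero_mem _, by simp⟩
    | add y1 y2 _ _ h1 h2 =>
      obtain ⟨k1, n1, hn1, e1⟩ := h1
      obtain ⟨k2, n2, hn2, e2⟩ := h2
      refine ⟨k1 + k2, a ^ k2 • n1 + a ^ k1 • n2,
        Submodule.add_mem _ (Submodule.smul_mem _ _ hn1) (Submodule.smul_mem _ _ hn2), ?_⟩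
      rw [smul_add, map_add, hf, hf, ← e1, ← e2, smul_smul, smul_smul, ← map_mul, ← map_mul,
        ← pow_add, ← pow_add, add_comm k2 k1]
    | smul c y _ h =>
      obtain ⟨k, n', hn', e⟩ := h
      obtain ⟨e', r, hr⟩ := hρ c
      refine ⟨k + e', r • n', Submodule.smul_mem _ _ hn', ?_⟩
      rw [hf, ← e, smul_smul, smul_smul, ← hr, pow_add, map_mul]
      congr 1
      ring
  intro m
  have hm : f m ∈ Submodule.span S (Set.range σ) := by rw [hσ]; trivial
  obtain ⟨k, n', hn', e⟩ := claim _ hm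
  have h0 : f (a ^ k • m - n') = 0 := by rw [map_sub, hf, e, sub_self]
  obtain ⟨k', hk'⟩ := h3 _ h0
  refine ⟨k' + k, ?_⟩
  have : a ^ (k' + k) • m = a ^ k' • n' := by
    rw [smul_sub, sub_eq_zero] at hk'
    rw [pow_add, mul_smul, hk']
  rw [this]
  exact Submodule.smul_mem _ _ hn'

theorem exists_partition {R : Type*} [CommRing R] {m : ℕ}
    (U : Fin m → Opens (PrimeSpectrum R)) (hU : ⨆ i, U i = ⊤) :
    ∃ a : Fin m → R, Ideal.span (Set.range a) = ⊤ ∧ ∀ i, PrimeSpectrum.basicOpen (a i) ≤ U i := by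
  classical
  let J : Fin m → Ideal R := fun i => PrimeSpectrum.vanishingIdeal ((U i : Set (PrimeSpectrum R))ᶜ)
  have hJ : ∀ i, PrimeSpectrum.zeroLocus (J i : Set R) = (U i : Set (PrimeSpectrum R))ᶜ := by
    intro i
    rw [PrimeSpectrum.zeroLocus_vanishingIdeal_eq_closure]
    exact (U i).isOpen.isClosed_compl.closure_eq
  have hsup : ⨆ i, J i = ⊤ := by
    rw [← PrimeSpectrum.zeroLocus_empty_iff_eq_top, PrimeSpectrum.zeroLocus_iSup]
    ext x
    simp only [Set.mem_iInter, Set.mem_empty_iff_false, iff_false, not_forall]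
    have hx : x ∈ (⨆ i, U i : Opens (PrimeSpectrum R)) := by rw [hU]; trivial
    obtain ⟨i, hi⟩ := Opens.mem_iSup.mp hx
    exact ⟨i, by rw [hJ i]; exact fun h => h hi⟩
  have h1 : (1 : R) ∈ ⨆ i, J i := by rw [hsup]; trivial
  rw [Submodule.mem_iSup_iff_exists_finsupp] at h1
  obtain ⟨f, hf, hsum⟩ := h1
  refine ⟨fun i => f i, ?_, ?_⟩
  · rw [Ideal.eq_top_iff_one, ← hsum, Finsupp.sum_fintype _ _ (fun _ => rfl)]
    exact Ideal.sum_mem _ (fun i _ => Ideal.subset_span ⟨i, rfl⟩)
  · intro i x hx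
    by_contra hxU
    have : x ∈ PrimeSpectrum.zeroLocus (J i : Set R) := by rw [hJ i]; exact hxU
    exact hx (this (hf i))

/-- an epi from a free module of rank `n`: the germs of the `n` standard sections span every
stalk. -/
theorem span_germ_eq_top_of_epi {Y : Scheme.{u}} {n : ℕ} {G : Y.Modules}
    (φ : FlatMod.freeMod Y n ⟶ G) [Epi φ] (x : Y) :
    Submodule.span (Y.presheaf.stalk x) (Set.range fun j : Fin n =>
      G.presheaf.germ ⊤ x trivial
        (toSection (Sigma.ι (fun _ : Fin n => Coh.structureModule Y) j ≫ φ))) = ⊤ := by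
  rw [eq_top_iff]
  rintro ν -
  obtain ⟨ζ, rfl⟩ := stalkLin_surjective_of_epi φ x ν
  rw [stalkLin_freeMod_apply]
  exact Submodule.sum_mem _ (fun j _ => Submodule.smul_mem _ _ (Submodule.subset_span ⟨j, rfl⟩))

/-- the basic open `D(a)` as an open of the scheme `Spec R`. -/
noncomputable abbrev bo (R : CommRingCat.{u}) (a : R) : (Spec R).Opens := PrimeSpectrum.basicOpen a

theorem exists_gens_of_epi (R : CommRingCat.{u}) (M : ModuleCat.{u} R) (n : ℕ)
    (U : (Spec R).Opens) (φ : FlatMod.freeMod (↑U) n ⟶ (tilde M).restrict U.ι) [Epi φ] (a : R)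
    (ha : (PrimeSpectrum.basicOpen a : (Spec R).Opens) ≤ U) :
    ∃ t : Fin n → M, ∀ x : M, ∃ k : ℕ, a ^ k • x ∈ Submodule.span R (Set.range t) := by
  have hVaff : IsAffineOpen (bo R a) := IsAffineOpen.Spec_basicOpen a
  have hle : bo R a ≤ U.ι ''ᵁ ⊤ := by rw [Scheme.Opens.ι_image_top]; exact ha
  let s : Fin n → Γ(tilde M, U.ι ''ᵁ ⊤) := fun j =>
    (toSection (Sigma.ι (fun _ : Fin n => Coh.structureModule (↑U)) j ≫ φ) :
      Γ((tilde M).restrict U.ι, ⊤))
  let σ : Fin n → Γ(tilde M, bo R a) := fun j => res (tilde M) hle (s j)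
  have hσ : Submodule.span Γ(Spec R, bo R a) (Set.range σ) = ⊤ := by
    apply span_eq_top_of_forall_span_germ_eq_top (tilde M) hVaff σ
    intro z hz
    obtain ⟨x, rfl⟩ : ∃ x : ↑U, U.ι x = z := ⟨⟨z, ha hz⟩, rfl⟩
    have h1 := span_germ_eq_top_of_epi φ x
    rw [span_restrict_eq_top_iff U.ι (tilde M) x] at h1
    have h2 : (fun j => (tilde M).presheaf.germ (bo R a) (U.ι x) hz (σ j)) =
        fun j => restrictStalkAddEquiv U.ι (tilde M) x
          (((tilde M).restrict U.ι).presheaf.germ ⊤ x trivial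
            (toSection (Sigma.ι (fun _ : Fin n => Coh.structureModule (↑U)) j ≫ φ))) := by
      funext j
      exact ((restrictStalkAddEquiv_germ U.ι (tilde M) x ⊤ trivial _).trans
        (germ_res (tilde M) hle (U.ι x) hz (s j)).symm).symm
    rw [h2]
    exact h1
  have hsm : ∀ (r : R) (y : Γ(tilde M, bo R a)),
      r • y = algebraMap R Γ(Spec R, bo R a) r • y := fun r y => (algebraMap_smul _ r y).symm
  refine exists_gens_of_span_away' (R := R) a (S := Γ(Spec R, bo R a))
    (algebraMap R Γ(Spec R, bo R a)) ?_ (M := M) (N' := Γ(tilde M, bo R a))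
    (tilde.toOpen M (bo R a)).hom.toAddMonoidHom ?_ ?_ ?_ σ hσ
  · intro c
    obtain ⟨⟨r, ⟨_, k, rfl⟩⟩, hr⟩ := IsLocalization.surj (Submonoid.powers a) c
    exact ⟨k, r, hr⟩
  · intro r m
    have := (tilde.toOpen M (bo R a)).hom.map_smul r m
    exact this.trans (hsm r _)
  · intro y
    obtain ⟨⟨m, ⟨_, k, rfl⟩⟩, h⟩ :=
      IsLocalizedModule.surj (Submonoid.powers a) (tilde.toOpen M (bo R a)).hom y
    exact ⟨k, m, (hsm _ _).symm.trans h⟩
  · intro m hm
    obtain ⟨⟨_, k, rfl⟩, hk⟩ := (IsLocalizedModule.eq_zero_iff (Submonoid.powers a)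
      (tilde.toOpen M (bo R a)).hom).mp hm
    exact ⟨k, hk⟩

end Groth.Agent.Lib.LocGen97
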