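import Groth.Agent.Lib.LocGenConst31

/-!
# Cohomology of a derived limit: local bijectivity version (helper31)

Variant of `Gen.isIso_homology_rlim_of_eventually_constant` in which the hypothesis on
cohomological dimension is replaced by its consequence: over the good coverings of the members of
a covering class `B`, the transition maps are eventually bijective on `Hom(Z (Y i)[0], -[m'])` for
`m' = j - 1, j`.
-/

set_option autoImplicit false
set_option linter.unusedSectionVars false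

open CategoryTheory CategoryTheory.Limits Opposite Pretriangulated DerivedCategory
  DerivedCategory.TStructure

universe w u

namespace Groth.Agent.LocGen31

open Groth.Agent.SingleMaps31 Groth.Agent.HomologySheafLocal31 Groth.Agent.RlimTower31

variable {C : Type u} [SmallCategory C] {J : GrothendieckTopology C}
  {𝒜 : Type (u + 1)} [Category.{u} 𝒜] [Abelian 𝒜]
  {Γ : 𝒜 ⥤ Sheaf J AddCommGrpCat.{u}} [Γ.Additive] [PreservesFiniteLimits Γ]
  [PreservesFiniteColimits Γ] [Γ.Faithful] (𝒢 : Gen Γ) [EnoughInjectives 𝒜]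
  [HasDerivedCategory.{w} 𝒜]

namespace Gen

include 𝒢 in
theorem isIso_homology_rlim_of_local_bijective
    (B : Set C) (hB : Covers J B)
    (K : ℕ → DerivedCategory 𝒜) (t : ∀ n, K (n + 1) ⟶ K n) [HasProduct K]
    (j : ℤ) (n : ℕ)
    (hconst : ∀ n', n ≤ n' → IsIso ((homologyFunctor 𝒜 j).map (t n')))
    (hloc : ∀ V ∈ B, ∃ N : ℕ, ∀ T ∈ J V, ∃ (ι : Type u) (Y : ι → C) (g : ∀ i, Y i ⟶ V),
      (∀ i, T.arrows (g i)) ∧ Sieve.ofArrows Y g ∈ J V ∧
      ∀ i, ∀ m' : ℤ, j - 1 ≤ m' → m' ≤ j → ∀ n', N ≤ n' →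
        Function.Bijective (fun ξ : 𝒢.ZD (Y i) ⟶ (shiftFunctor _ m').obj (K (n' + 1)) =>
          ξ ≫ (shiftFunctor _ m').map (t n')))
    (L : DerivedCategory 𝒜) (a : ∀ n, L ⟶ K n) (hL : CohCx.IsRlimVia K t L a) :
    IsIso ((homologyFunctor 𝒜 j).map (a n)) := by
  -- the local statement over the good coverings of a member `V` of `B`
  have key : ∀ V ∈ B, ∃ k : ℕ, ∀ T ∈ J V, ∃ (ι : Type u) (Y : ι → C) (g : ∀ i, Y i ⟶ V),
      (∀ i, T.arrows (g i)) ∧ Sieve.ofArrows Y g ∈ J V ∧
      ∀ i, Function.Bijective (fun ξ : 𝒢.ZD (Y i) ⟶ (shiftFunctor _ j).obj L =>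
        ξ ≫ (shiftFunctor _ j).map (a (n + k))) := by
    intro V hV
    obtain ⟨N₀, hN₀⟩ := hloc V hV
    let N : ℕ := max n N₀
    refine ⟨N - n, fun T hT => ?_⟩
    have hNn : n + (N - n) = N := by
      have : n ≤ N := le_max_left _ _
      omega
    rw [hNn]
    obtain ⟨ι, Y, g, hg, hcov, hbij'⟩ := hN₀ T hT
    refine ⟨ι, Y, g, hg, hcov, fun i => ?_⟩
    have hbij : ∀ m' : ℤ, j - 1 ≤ m' → m' ≤ j → ∀ n', N ≤ n' →
        Function.Bijective (fun ξ : 𝒢.ZD (Y i) ⟶ (shiftFunctor _ m').obj (K (n' + 1)) =>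
          ξ ≫ (shiftFunctor _ m').map (t n')) := fun m' h1 h2 n' hn' =>
      hbij' i m' h1 h2 n' (le_trans (le_max_right _ _) hn')
    constructor
    · intro ξ₁ ξ₂ h12
      rw [← sub_eq_zero]
      refine RlimTri31.eq_zero_of_comp_eq_zero K t L a hL (𝒢.ZD (Y i)) j N ?_ ?_ _ ?_
      · exact limOneIsZero_of_eventually_surjective _ _ N
          (fun n' hn' => (hbij (j - 1) le_rfl (by omega) n' hn').2)
      · exact injective_transition K t (𝒢.ZD (Y i)) j N
          (fun n' hn' => (hbij j (by omega) le_rfl n' hn').1)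
      · rw [Preadditive.sub_comp, sub_eq_zero]
        exact h12
    · intro x
      exact RlimMilnor31.surjective_of_tower K t L a hL (𝒢.ZD (Y i)) j N
        (fun n' hn' => (hbij j (by omega) le_rfl n' hn').2) x
  -- factorization through a later stage
  have hfac : ∀ k : ℕ, (homologyFunctor 𝒜 j).map (a n) =
      (homologyFunctor 𝒜 j).map (a (n + k)) ≫
        (homologyFunctor 𝒜 j).map (CohCx.transition K t n k) := by
    intro k
    rw [← Functor.map_comp, RlimTri31.a_transition K t L a hL n k]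
  have hiso : ∀ k : ℕ, IsIso ((homologyFunctor 𝒜 j).map (CohCx.transition K t n k)) :=
    fun k => isIso_map_transition K t (homologyFunctor 𝒜 j) n hconst k
  have hmono : Mono ((homologyFunctor 𝒜 j).map (a n)) := by
    apply Gen.mono_of_injective_on (Γ := Γ) hB
    intro V hV
    obtain ⟨k, hk⟩ := key V hV
    have hinj : Function.Injective ((Γ.map ((homologyFunctor 𝒜 j).map (a (n + k)))).hom.app
        (op V)) := by
      refine 𝒢.injective_of_local_shift _ j V (fun T hT => ?_)
      obtain ⟨ι, Y, g, hg, hcov, hb⟩ := hk T hT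
      refine ⟨ι, Y, g, hg, hcov, fun i ξ hξ => ?_⟩
      apply (hb i).1
      change ξ ≫ _ = 0 ≫ _
      rw [hξ, zero_comp]
    rw [hfac k]
    have := hiso k
    exact Gen.injective_comp_iso (Γ ⋙ sheafToPresheaf J AddCommGrpCat.{u} ⋙ ev V) _ _ hinj
  have hepi : Epi ((homologyFunctor 𝒜 j).map (a n)) := by
    refine Gen.epi_of_locallySurjective_on (Γ := Γ) hB _ (fun V hV s => ?_)
    obtain ⟨k, hk⟩ := key V hV
    have := hiso k
    refine Gen.imageSieve_mem_of_comm (Γ := Γ) ((homologyFunctor 𝒜 j).map (a (n + k)))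
      ((homologyFunctor 𝒜 j).map (a n)) (𝟙 _)
      ((homologyFunctor 𝒜 j).map (CohCx.transition K t n k)) ?_ V ?_ s
    · rw [Category.id_comp, hfac k]
    · intro s'
      refine 𝒢.imageSieve_mem_of_local_shift (a (n + k)) j V (fun T hT => ?_) s'
      obtain ⟨ι, Y, g, hg, hcov, hb⟩ := hk T hT
      exact ⟨ι, Y, g, hg, hcov, fun i ξ => (hb i).2 ξ⟩
  exact isIso_of_mono_of_epi _

end Gen

end Groth.Agent.LocGen31
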