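import Groth.Agent.Lib.PushLocalC31

/-!
# Maps from a shifted generator: target shift versus test complexes (helper31)

`Hom(Z V[0], K⟦m⟧) ≃ Hom(Q(test V (-m)), K)`, naturally in `K`; hence composition with
`f⟦m⟧'` is bijective on the former iff composition with `f` is bijective on the latter.
-/

set_option autoImplicit false
set_option linter.unusedSectionVars false

open CategoryTheory CategoryTheory.Limits Opposite Pretriangulated DerivedCategory

universe w u

namespace Groth.Agent.LocGen31

section General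

variable {T : Type*} [Category* T] [HasShift T ℤ]

lemma bijective_shift_iff (W : T) (m : ℤ) {K K' : T} (f : K ⟶ K') :
    Function.Bijective (fun ξ : W ⟶ (shiftFunctor T m).obj K => ξ ≫ (shiftFunctor T m).map f) ↔
      Function.Bijective (fun ξ : (shiftFunctor T (-m)).obj W ⟶ K => ξ ≫ f) := by
  let adj : shiftFunctor T (-m) ⊣ shiftFunctor T m := (shiftEquiv T m).symm.toAdjunction
  have h : (fun ξ : W ⟶ (shiftFunctor T m).obj K => ξ ≫ (shiftFunctor T m).map f) ∘
      (adj.homEquiv W K) = (adj.homEquiv W K') ∘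
        (fun ξ : (shiftFunctor T (-m)).obj W ⟶ K => ξ ≫ f) := by
    funext ξ
    exact (adj.homEquiv_naturality_right ξ f).symm
  constructor
  · intro hb
    have h1 : Function.Bijective ((adj.homEquiv W K') ∘
        (fun ξ : (shiftFunctor T (-m)).obj W ⟶ K => ξ ≫ f)) := by
      rw [← h]
      exact hb.comp (adj.homEquiv W K).bijective
    exact (Function.Bijective.of_comp_iff' (adj.homEquiv W K').bijective _).1 h1
  · intro hb
    have h1 : Function.Bijective
        ((fun ξ : W ⟶ (shiftFunctor T m).obj K => ξ ≫ (shiftFunctor T m).map f) ∘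
          (adj.homEquiv W K)) := by
      rw [h]
      exact (adj.homEquiv W K').bijective.comp hb
    exact (Function.Bijective.of_comp_iff _ (adj.homEquiv W K).bijective).1 h1

lemma bijective_precomp_iso_iff {C' : Type*} [Category* C'] {W W' : C'} (e : W ≅ W')
    {K K' : C'} (f : K ⟶ K') :
    Function.Bijective (fun ξ : W ⟶ K => ξ ≫ f) ↔
      Function.Bijective (fun ξ : W' ⟶ K => ξ ≫ f) := by
  let φ : ∀ X : C', (W' ⟶ X) ≃ (W ⟶ X) := fun X =>
    { toFun := fun ξ => e.hom ≫ ξ
      invFun := fun ξ => e.inv ≫ ξ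
      left_inv := fun ξ => by simp
      right_inv := fun ξ => by simp }
  have h : (fun ξ : W ⟶ K => ξ ≫ f) ∘ (φ K) = (φ K') ∘ (fun ξ : W' ⟶ K => ξ ≫ f) := by
    funext ξ
    exact Category.assoc _ _ _
  constructor
  · intro hb
    have h1 : Function.Bijective ((φ K') ∘ (fun ξ : W' ⟶ K => ξ ≫ f)) := by
      rw [← h]
      exact hb.comp (φ K).bijective
    exact (Function.Bijective.of_comp_iff' (φ K').bijective _).1 h1
  · intro hb
    have h1 : Function.Bijective ((fun ξ : W ⟶ K => ξ ≫ f) ∘ (φ K)) := by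
      rw [h]
      exact (φ K').bijective.comp hb
    exact (Function.Bijective.of_comp_iff _ (φ K).bijective).1 h1

end General

variable {C : Type u} [SmallCategory C] {J : GrothendieckTopology C}
  {𝒜 : Type (u + 1)} [Category.{u} 𝒜] [Abelian 𝒜] [HasDerivedCategory.{w} 𝒜]
  {Γ : 𝒜 ⥤ Sheaf J AddCommGrpCat.{u}} [Γ.Additive] [PreservesFiniteLimits Γ]
  [PreservesFiniteColimits Γ] (𝒢 : Gen Γ)

namespace Gen

/-- target shift versus test complex -/
lemma bijective_ZD_shift_iff_test (V : C) (m : ℤ) {K K' : DerivedCategory 𝒜} (f : K ⟶ K') :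
    Function.Bijective (fun ξ : 𝒢.ZD V ⟶ (shiftFunctor _ m).obj K =>
      ξ ≫ (shiftFunctor _ m).map f) ↔
    Function.Bijective (fun ξ : Q.obj (𝒢.test V (-m)) ⟶ K => ξ ≫ f) :=
  (bijective_shift_iff (𝒢.ZD V) m f).trans
    (bijective_precomp_iso_iff (𝒢.testIso V (-m)) f).symm

end Gen

end Groth.Agent.LocGen31
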