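import Groth.Agent.Lib.RlimTower31

/-!
# Milnor-type statements for derived limits (helper31)

* `eq_zero_of_forall_comp_eq_zero`: `Hom(W, L[m]) → ∏ Hom(W, K n[m])` is injective if
  `R¹lim Hom(W, K n[m-1]) = 0`.
* `exists_of_compatible`: compatible families lift to `Hom(W, L[m])`.
* `exists_compatible_of_eventually_surjective`: towers with eventually surjective transition maps.
* `eq_zero_of_comp_mor₁`, `exists_lift_mor₁`.
* `tower_surjective`, `surjective_of_tower`.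
-/

set_option autoImplicit false
set_option linter.unusedSectionVars false

open CategoryTheory CategoryTheory.Limits Opposite Pretriangulated

universe u v' u'

namespace Groth.Agent.RlimMilnor31

open Groth.Agent.RlimTri31 Groth.Agent.RlimTower31

section Tower

variable (A : ℕ → Type u) (t : ∀ n, A (n + 1) → A n)

lemma exists_compatible_of_eventually_surjective (N : ℕ)
    (ht : ∀ n, N ≤ n → Function.Surjective (t n)) (x : A N) :
    ∃ y : ∀ n, A n, (∀ n, t n (y (n + 1)) = y n) ∧ y N = x := by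
  induction N generalizing A with
  | zero =>
    have step : ∀ (n : ℕ) (z : A n), ∃ w : A (n + 1), t n w = z := fun n z => ht n (Nat.zero_le n) z
    choose next hnext using step
    let y : ∀ n, A n := fun n => Nat.rec (motive := A) x (fun n z => next n z) n
    exact ⟨y, fun n => hnext n (y n), rfl⟩
  | succ N ih =>
    obtain ⟨y', hy', hx⟩ := ih (fun n => A (n + 1)) (fun n => t (n + 1))
      (fun n hn => ht (n + 1) (by omega)) x
    let y : ∀ n, A n := fun n => Nat.casesOn (motive := A) n (t 0 (y' 0)) (fun n => y' n)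
    refine ⟨y, fun n => ?_, hx⟩
    cases n with
    | zero => rfl
    | succ n => exact hy' n

end Tower

variable {T : Type u'} [Category.{v'} T] [Preadditive T] [HasZeroObject T] [HasShift T ℤ]
  [∀ n : ℤ, (shiftFunctor T n).Additive] [Pretriangulated T]

lemma eq_zero_of_comp_mor₁ (Tr : Triangle T) (hTr : Tr ∈ distTriang T) (W : T) (m' m : ℤ)
    (hm : m' + 1 = m) (h : ∀ ξ : W ⟶ Tr.obj₃⟦m'⟧, ξ = 0) (ξ : W ⟶ Tr.obj₁⟦m⟧)
    (hξ : ξ ≫ Tr.mor₁⟦m⟧' = 0) : ξ = 0 := by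
  let F := preadditiveCoyoneda.obj (op W)
  have hex := F.homologySequence_exact₁ _ hTr m' m hm
  rw [ShortComplex.ab_exact_iff] at hex
  obtain ⟨x, hx⟩ := hex ξ hξ
  have hx0 : x = 0 := h x
  rw [← hx, hx0]
  exact map_zero _

lemma exists_lift_mor₁ (Tr : Triangle T) (hTr : Tr ∈ distTriang T) (W : T) (m : ℤ)
    (h : ∀ ξ : W ⟶ Tr.obj₃⟦m⟧, ξ = 0) (y : W ⟶ Tr.obj₂⟦m⟧) :
    ∃ x : W ⟶ Tr.obj₁⟦m⟧, x ≫ Tr.mor₁⟦m⟧' = y := by
  let F := preadditiveCoyoneda.obj (op W)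
  have hex := F.homologySequence_exact₂ _ hTr m
  rw [ShortComplex.ab_exact_iff] at hex
  obtain ⟨x, hx⟩ := hex y (h _)
  exact ⟨x, hx⟩

variable (K : ℕ → T) (t : ∀ n, K (n + 1) ⟶ K n)

/-- transition maps are surjective on `Hom(W, -[m'])` when the fibres vanish in degree `m'+1` -/
lemma tower_surjective (W : T) (m' m : ℤ) (hm : m' + 1 = m) (N : ℕ)
    (h : ∀ n, N ≤ n → ∃ (X₁ : T) (f : X₁ ⟶ K (n + 1)) (g : K n ⟶ X₁⟦(1 : ℤ)⟧),
      Triangle.mk f (t n) g ∈ distTriang T ∧ ∀ ξ : W ⟶ X₁⟦m⟧, ξ = 0) (n : ℕ) (hn : N ≤ n) :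
    Function.Surjective (fun ξ : W ⟶ (K (n + 1))⟦m'⟧ => ξ ≫ (t n)⟦m'⟧') := by
  intro y
  obtain ⟨X₁, f, g, hT, hv⟩ := h n hn
  exact exists_lift_mor₂ _ hT W m' m hm hv y

variable [HasProduct K] (L : T) (a : ∀ n, L ⟶ K n)

theorem eq_zero_of_forall_comp_eq_zero (hL : CohCx.IsRlimVia K t L a) (W : T) (m : ℤ)
    (h1 : CohCx.LimOneIsZero (fun n => (W ⟶ (K n)⟦m - 1⟧))
      (fun n => Preadditive.rightComp W ((shiftFunctor T (m - 1)).map (t n))))
    (ξ : W ⟶ L⟦m⟧) (h3 : ∀ n, ξ ≫ (a n)⟦m⟧' = 0) : ξ = 0 := by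
  have h4 : ξ ≫ (Pi.lift a)⟦m⟧' = 0 := by
    apply shiftProd_ext K m
    intro n
    rw [Category.assoc, ← Functor.map_comp, Pi.lift_π, h3, zero_comp]
  obtain ⟨c, hc⟩ := hL
  let F := preadditiveCoyoneda.obj (op W)
  have hex := F.homologySequence_exact₁ _ hc (m - 1) m (by omega)
  rw [ShortComplex.ab_exact_iff] at hex
  obtain ⟨η, hη⟩ := hex ξ h4
  let η' : W ⟶ (∏ᶜ K)⟦m - 1⟧ := η
  obtain ⟨b, hb⟩ := h1 (fun n => η' ≫ (Pi.π K n)⟦m - 1⟧')
  have hb' : ∀ n, b n - b (n + 1) ≫ (t n)⟦m - 1⟧' = η' ≫ (Pi.π K n)⟦m - 1⟧' :=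
    fun n => congrFun hb n
  have h6 : shiftProdLift K (m - 1) b ≫ (φ K t)⟦m - 1⟧' = η' := by
    apply shiftProd_ext K (m - 1)
    intro n
    rw [Category.assoc, ← Functor.map_comp, Pi.lift_π, Functor.map_sub, Functor.map_comp,
      Preadditive.comp_sub, shiftProdLift_π, shiftProdLift_π_assoc, hb']
  have h7 := F.comp_homologySequenceδ _ hc (m - 1) m (by omega)
  have h8 := congrArg (fun f => f.hom (shiftProdLift K (m - 1) b)) h7
  rw [← hη]
  have h9 : η = ((F.shift (m - 1)).map (φ K t)).hom (shiftProdLift K (m - 1) b) := h6.symm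
  rw [h9]
  exact h8

theorem exists_of_compatible (hL : CohCx.IsRlimVia K t L a) (W : T) (m : ℤ)
    (y : ∀ n, W ⟶ (K n)⟦m⟧) (hy : ∀ n, y (n + 1) ≫ (t n)⟦m⟧' = y n) :
    ∃ ξ : W ⟶ L⟦m⟧, ∀ n, ξ ≫ (a n)⟦m⟧' = y n := by
  obtain ⟨c, hc⟩ := hL
  have h0 : shiftProdLift K m y ≫ (φ K t)⟦m⟧' = 0 := by
    apply shiftProd_ext K m
    intro n
    rw [Category.assoc, ← Functor.map_comp, Pi.lift_π, Functor.map_sub, Functor.map_comp,
      Preadditive.comp_sub, shiftProdLift_π, shiftProdLift_π_assoc, hy, sub_self, zero_comp]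
  let F := preadditiveCoyoneda.obj (op W)
  have hex := F.homologySequence_exact₂ _ hc m
  rw [ShortComplex.ab_exact_iff] at hex
  obtain ⟨ξ₀, hξ₀⟩ := hex (shiftProdLift K m y) h0
  let ξ : W ⟶ L⟦m⟧ := ξ₀
  have hξ' : ξ ≫ (Pi.lift a)⟦m⟧' = shiftProdLift K m y := hξ₀
  refine ⟨ξ, fun n => ?_⟩
  have : (a n)⟦m⟧' = (Pi.lift a)⟦m⟧' ≫ (Pi.π K n)⟦m⟧' := by
    rw [← Functor.map_comp, Pi.lift_π]
  rw [this, ← Category.assoc, hξ', shiftProdLift_π]

/-- if the transition maps are eventually surjective on `Hom(W, -[m])`, then so are the maps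
from the derived limit -/
theorem surjective_of_tower (hL : CohCx.IsRlimVia K t L a) (W : T) (m : ℤ) (N : ℕ)
    (hs : ∀ n, N ≤ n → Function.Surjective (fun ξ : W ⟶ (K (n + 1))⟦m⟧ => ξ ≫ (t n)⟦m⟧'))
    (x : W ⟶ (K N)⟦m⟧) : ∃ ξ : W ⟶ L⟦m⟧, ξ ≫ (a N)⟦m⟧' = x := by
  obtain ⟨y, hy, hx⟩ := exists_compatible_of_eventually_surjective
    (fun n => (W ⟶ (K n)⟦m⟧)) (fun n ξ => ξ ≫ (t n)⟦m⟧') N hs x
  obtain ⟨ξ, hξ⟩ := exists_of_compatible K t L a hL W m y hy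
  exact ⟨ξ, (hξ N).trans hx⟩

end Groth.Agent.RlimMilnor31
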