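import Groth.Agent.Lib.LocGenRlim31
import Groth.Agent.Lib.RlimMilnor31

/-!
# Way-out lemmas for `Hom_D(Z Y[0], -)` over local generators (helper31)

Setting of `LocGenRlim31`.  Let `Y : C`, `d : ℕ` and `P` a class of objects of `𝒜` such that
`H^k(Y, Γ F) = 0` for `F ∈ P` and `k > d`.
* `vanish_bounded`: `Hom(Z Y[0], X[m']) = 0` for bounded `X` with cohomology in `P` living in
  degrees `≤ c` with `m' - c > d`.
* `bijective_truncGEπ`: `Hom(Z Y[0], X[m']) ≃ Hom(Z Y[0], (τ_{≥ c+1} X)[m'])` for `X ∈ D⁺` with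
  cohomology in `P`, `m' - c > d`.
* `bijective_of_isIso_homology`: a map `f : K ⟶ K'` in `D⁺` (cohomology in `P`) which is an
  isomorphism on `H^q` for `m' - d ≤ q ≤ m' + 1` induces a bijection on `Hom(Z Y[0], -[m'])`.
-/

set_option autoImplicit false
set_option linter.unusedSectionVars false

open CategoryTheory CategoryTheory.Limits Opposite Pretriangulated DerivedCategory
  DerivedCategory.TStructure

universe w u

namespace Groth.Agent.LocGen31

open Groth.Agent.SingleMaps31 Groth.Agent.RlimTower31 Groth.Agent.TruncStep31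
  Groth.Agent.RlimMilnor31

variable {C : Type u} [SmallCategory C] {J : GrothendieckTopology C}
  {𝒜 : Type (u + 1)} [Category.{u} 𝒜] [Abelian 𝒜]
  {Γ : 𝒜 ⥤ Sheaf J AddCommGrpCat.{u}} [Γ.Additive] [PreservesFiniteLimits Γ]
  [PreservesFiniteColimits Γ] (𝒢 : Gen Γ) [EnoughInjectives 𝒜] [HasDerivedCategory.{w} 𝒜]

namespace Gen

section

variable (hacyc : ∀ (I : 𝒜), Injective I → ∀ (U : C) (p : ℕ),
    Subsingleton (CohSite.HU (Γ.obj I) (p + 1) U))
  (P : ObjectProperty 𝒜) [P.IsClosedUnderIsomorphisms] [P.ContainsZero] (Y : C) (d : ℕ)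
  (hY : ∀ F : 𝒜, P F → ∀ k : ℕ, d < k → Subsingleton (CohSite.HU (Γ.obj F) k Y))

include hacyc hY in
lemma vanish_single (F : 𝒜) (hF : P F) (a m' : ℤ) (h : (d : ℤ) < m' - a)
    (ξ : 𝒢.ZD Y ⟶ (shiftFunctor _ m').obj ((singleFunctor 𝒜 a).obj F)) : ξ = 0 := by
  obtain ⟨k, hk⟩ : ∃ k : ℕ, (k : ℤ) = m' - a := ⟨(m' - a).toNat, by omega⟩
  let i : (shiftFunctor _ m').obj ((singleFunctor 𝒜 a).obj F) ≅
      (shiftFunctor _ ((k : ℕ) : ℤ)).obj ((singleFunctor 𝒜 0).obj F) :=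
    singleShiftIso F a m' k (by omega)
  rw [← cancel_mono i.hom, zero_comp]
  have := 𝒢.subsingleton_hom_ZD_single_nat hacyc Y F k (hY F hF k (by omega))
  exact Subsingleton.elim _ _

include hacyc hY in
lemma vanish_concentrated (a : ℤ) (X : DerivedCategory 𝒜) [X.IsGE a] [X.IsLE a]
    (hX : P ((homologyFunctor 𝒜 a).obj X)) (m' : ℤ) (h : (d : ℤ) < m' - a)
    (ξ : 𝒢.ZD Y ⟶ (shiftFunctor _ m').obj X) : ξ = 0 := by
  obtain ⟨e⟩ := nonempty_iso_single_homology X a
  rw [← cancel_mono ((shiftFunctor _ m').map e.hom), zero_comp]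
  exact 𝒢.vanish_single hacyc P Y d hY _ hX a m' h _

omit [Γ.Additive] [PreservesFiniteLimits Γ] [PreservesFiniteColimits Γ] [EnoughInjectives 𝒜] in
lemma prop_homology_truncGE (X : DerivedCategory 𝒜) (hX : ∀ q, P ((homologyFunctor 𝒜 q).obj X))
    (b q : ℤ) : P ((homologyFunctor 𝒜 q).obj ((t.truncGE b).obj X)) := by
  by_cases hq : b ≤ q
  · have := Groth.Agent.Lib.DWayOut.isIso_homologyMap_truncGEπ X b q hq
    exact P.prop_of_iso (asIso ((homologyFunctor 𝒜 q).map ((t.truncGEπ b).app X))) (hX q)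
  · exact P.prop_of_isZero (isZero_of_isGE ((t.truncGE b).obj X) b q (by omega))

omit [Γ.Additive] [PreservesFiniteLimits Γ] [PreservesFiniteColimits Γ] [EnoughInjectives 𝒜] in
lemma prop_homology_truncLE (X : DerivedCategory 𝒜) (hX : ∀ q, P ((homologyFunctor 𝒜 q).obj X))
    (b q : ℤ) : P ((homologyFunctor 𝒜 q).obj ((t.truncLE b).obj X)) := by
  by_cases hq : q ≤ b
  · have := Groth.Agent.Lib.DWayOut.isIso_homologyMap_truncLEι X b q hq
    exact P.prop_of_iso (asIso ((homologyFunctor 𝒜 q).map ((t.truncLEι b).app X))).symm (hX q)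
  · exact P.prop_of_isZero (isZero_of_isLE ((t.truncLE b).obj X) b q (by omega))

include hacyc hY in
/-- bounded complexes with cohomology in `P` living in low degrees receive no maps -/
theorem vanish_bounded (n : ℕ) : ∀ (a : ℤ) (X : DerivedCategory 𝒜), X.IsGE a → X.IsLE (a + n) →
    (∀ q, P ((homologyFunctor 𝒜 q).obj X)) → ∀ (m' : ℤ), (d : ℤ) < m' - (a + n) →
    ∀ ξ : 𝒢.ZD Y ⟶ (shiftFunctor _ m').obj X, ξ = 0 := by
  induction n with
  | zero =>
    intro a X hGE hLE hX m' h ξ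
    have hLE' : X.IsLE a := by simpa using hLE
    exact 𝒢.vanish_concentrated hacyc P Y d hY a X (hX a) m' (by push_cast at h; omega) ξ
  | succ n ih =>
    intro a X hGE hLE hX m' h ξ
    have hT := t.triangleLEGE_distinguished a (a + 1) rfl X
    -- the image in `τ_{≥ a+1} X` vanishes
    have h3 : ξ ≫ (shiftFunctor _ m').map ((t.truncGEπ (a + 1)).app X) = 0 := by
      have h1 : t.IsGE ((t.truncGE (a + 1)).obj X) (a + 1) := inferInstance
      have h2 : t.IsLE ((t.truncGE (a + 1)).obj X) (a + 1 + n) := by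
        have : t.IsLE X (a + 1 + n) := by
          have h' : a + 1 + (n : ℤ) = a + ((n + 1 : ℕ) : ℤ) := by push_cast; ring
          rw [h']
          exact hLE
        infer_instance
      exact ih (a + 1) _ h1 h2 (prop_homology_truncGE P X hX (a + 1)) m'
        (by push_cast at h ⊢; omega) _
    -- hence `ξ` comes from `τ_{≤ a} X`
    have h1 : ∀ ζ : 𝒢.ZD Y ⟶ (shiftFunctor _ m').obj ((t.truncLE a).obj X), ζ = 0 := by
      intro ζ
      have hGE' : t.IsGE ((t.truncLE a).obj X) a := inferInstance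
      have hLE' : t.IsLE ((t.truncLE a).obj X) a := inferInstance
      exact 𝒢.vanish_concentrated hacyc P Y d hY a _ (prop_homology_truncLE P X hX a a) m'
        (by push_cast at h; omega) ζ
    exact eq_zero_of_comp_mor₂ _ hT (𝒢.ZD Y) m' h1 ξ h3

include hacyc hY in
/-- `Hom(Z Y[0], X[m']) ≃ Hom(Z Y[0], (τ_{≥ c+1} X)[m'])` when `m' - c > d` -/
theorem bijective_truncGEπ (X : DerivedCategory 𝒜) (a₀ : ℤ) [X.IsGE a₀]
    (hX : ∀ q, P ((homologyFunctor 𝒜 q).obj X)) (c m' : ℤ) (h : (d : ℤ) < m' - c) :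
    Function.Bijective (fun ξ : 𝒢.ZD Y ⟶ (shiftFunctor _ m').obj X =>
      ξ ≫ (shiftFunctor _ m').map ((t.truncGEπ (c + 1)).app X)) := by
  have hT := t.triangleLEGE_distinguished c (c + 1) rfl X
  -- the truncation `τ_{≤ c} X` is bounded with cohomology in `P`
  let a := min a₀ c
  have hGE : t.IsGE ((t.truncLE c).obj X) a := by
    have : t.IsGE X a := t.isGE_of_ge X a a₀ (min_le_left _ _)
    infer_instance
  have hLE : t.IsLE ((t.truncLE c).obj X) (a + ((c - a).toNat : ℕ)) := by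
    have h0 : t.IsLE ((t.truncLE c).obj X) c := inferInstance
    have h' : a + (((c - a).toNat : ℕ) : ℤ) = c := by
      have : a ≤ c := min_le_right _ _
      omega
    rw [h']
    exact h0
  have hvan : ∀ m'' : ℤ, m' ≤ m'' →
      ∀ ζ : 𝒢.ZD Y ⟶ (shiftFunctor _ m'').obj ((t.truncLE c).obj X), ζ = 0 := by
    intro m'' hm'' ζ
    refine 𝒢.vanish_bounded hacyc P Y d hY (c - a).toNat a _ hGE hLE
      (prop_homology_truncLE P X hX c) m'' ?_ ζ
    have : a ≤ c := min_le_right _ _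
    omega
  constructor
  · intro ξ₁ ξ₂ h12
    rw [← sub_eq_zero]
    refine eq_zero_of_comp_mor₂ _ hT (𝒢.ZD Y) m' (hvan m' le_rfl) _ ?_
    change (ξ₁ - ξ₂) ≫ (shiftFunctor _ m').map ((t.truncGEπ (c + 1)).app X) = 0
    rw [Preadditive.sub_comp, sub_eq_zero]
    exact h12
  · intro y
    exact exists_lift_mor₂ _ hT (𝒢.ZD Y) m' (m' + 1) rfl (hvan (m' + 1) (by omega)) y

omit [Γ.Additive] [PreservesFiniteLimits Γ] [PreservesFiniteColimits Γ] [EnoughInjectives 𝒜] in
/-- a map of `D(𝒜)` which is an isomorphism on `H^i` for `i ≤ m' + 1` induces a bijection on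
`Hom(W, -[m'])` for `W ∈ D^{≤ 0}` -/
theorem bijective_of_isIso_homology_le (W : DerivedCategory 𝒜) [W.IsLE 0]
    {K₁ K₁' : DerivedCategory 𝒜} (f₁ : K₁ ⟶ K₁') (m' : ℤ)
    (hf : ∀ i, i ≤ m' + 1 → IsIso ((homologyFunctor 𝒜 i).map f₁)) :
    Function.Bijective (fun ξ : W ⟶ (shiftFunctor _ m').obj K₁ =>
      ξ ≫ (shiftFunctor _ m').map f₁) := by
  obtain ⟨C₁, g, h, hT⟩ := distinguished_cocone_triangle f₁
  have hC : C₁.IsGE (m' + 1) := by
    rw [isGE_iff]
    intro i hi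
    have hex := HomologySequence.exact₃ _ hT i (i + 1) rfl
    refine hex.isZero_of_both_zeros ?_ ?_
    · have : IsIso ((homologyFunctor 𝒜 i).map f₁) := hf i (by omega)
      exact (HomologySequence.epi_homologyMap_mor₁_iff _ hT i).1
        (by change Epi ((homologyFunctor 𝒜 i).map f₁); infer_instance)
    · have : IsIso ((homologyFunctor 𝒜 (i + 1)).map f₁) := hf (i + 1) (by omega)
      exact (HomologySequence.mono_homologyMap_mor₁_iff _ hT i (i + 1) rfl).1
        (by change Mono ((homologyFunctor 𝒜 (i + 1)).map f₁); infer_instance)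
  have hvan : ∀ m'' : ℤ, m'' ≤ m' → ∀ ζ : W ⟶ (shiftFunctor _ m'').obj C₁, ζ = 0 := by
    intro m'' hm'' ζ
    have : ((shiftFunctor _ m'').obj C₁).IsGE (m' + 1 - m'') :=
      t.isGE_shift C₁ (m' + 1) m'' (m' + 1 - m'') (by omega)
    exact t.zero_of_isLE_of_isGE ζ 0 (m' + 1 - m'') (by omega) inferInstance this
  constructor
  · intro ξ₁ ξ₂ h12
    rw [← sub_eq_zero]
    refine eq_zero_of_comp_mor₁ _ hT W (m' - 1) m' (by omega) (hvan (m' - 1) (by omega)) _ ?_
    change (ξ₁ - ξ₂) ≫ (shiftFunctor _ m').map f₁ = 0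
    rw [Preadditive.sub_comp, sub_eq_zero]
    exact h12
  · intro y
    exact exists_lift_mor₁ _ hT W m' (hvan m' le_rfl) y

include hacyc hY in
/-- **way-out comparison**: a map in `D⁺` between objects with cohomology in `P` which is an
isomorphism on `H^q` for `m' - d ≤ q ≤ m' + 1` induces a bijection on `Hom(Z Y[0], -[m'])` -/
theorem bijective_of_isIso_homology {K K' : DerivedCategory 𝒜} (f : K ⟶ K') (a₀ : ℤ)
    [K.IsGE a₀] [K'.IsGE a₀] (hK : ∀ q, P ((homologyFunctor 𝒜 q).obj K))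
    (hK' : ∀ q, P ((homologyFunctor 𝒜 q).obj K')) (m' : ℤ)
    (hf : ∀ q, m' - d ≤ q → q ≤ m' + 1 → IsIso ((homologyFunctor 𝒜 q).map f)) :
    Function.Bijective (fun ξ : 𝒢.ZD Y ⟶ (shiftFunctor _ m').obj K =>
      ξ ≫ (shiftFunctor _ m').map f) := by
  let c : ℤ := m' - d - 1
  let f₁ : (t.truncGE (c + 1)).obj K ⟶ (t.truncGE (c + 1)).obj K' := (t.truncGE (c + 1)).map f
  have hnat : (t.truncGEπ (c + 1)).app K ≫ f₁ = f ≫ (t.truncGEπ (c + 1)).app K' :=
    ((t.truncGEπ (c + 1)).naturality f).symm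
  have hb := 𝒢.bijective_truncGEπ hacyc P Y d hY K a₀ hK c m' (by omega)
  have hb' := 𝒢.bijective_truncGEπ hacyc P Y d hY K' a₀ hK' c m' (by omega)
  have hW : (𝒢.ZD Y).IsLE 0 :=
    inferInstanceAs (((singleFunctor 𝒜 0).obj (𝒢.Z Y)).IsLE 0)
  have hb₁ : Function.Bijective (fun ξ : 𝒢.ZD Y ⟶ (shiftFunctor _ m').obj _ =>
      ξ ≫ (shiftFunctor _ m').map f₁) := by
    refine bijective_of_isIso_homology_le (𝒢.ZD Y) f₁ m' (fun i hi => ?_)
    by_cases hic : c + 1 ≤ i
    · have h1 := Groth.Agent.Lib.DWayOut.isIso_homologyMap_truncGEπ K (c + 1) i hic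
      have h2 := Groth.Agent.Lib.DWayOut.isIso_homologyMap_truncGEπ K' (c + 1) i hic
      have h3 : IsIso ((homologyFunctor 𝒜 i).map f) := hf i (by omega) hi
      have h4 : (homologyFunctor 𝒜 i).map ((t.truncGEπ (c + 1)).app K) ≫
          (homologyFunctor 𝒜 i).map f₁ =
          (homologyFunctor 𝒜 i).map f ≫ (homologyFunctor 𝒜 i).map ((t.truncGEπ (c + 1)).app K') := by
        rw [← Functor.map_comp, ← Functor.map_comp, hnat]
      have h5 : IsIso ((homologyFunctor 𝒜 i).map ((t.truncGEπ (c + 1)).app K) ≫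
          (homologyFunctor 𝒜 i).map f₁) := by
        rw [h4]
        infer_instance
      exact IsIso.of_isIso_comp_left ((homologyFunctor 𝒜 i).map ((t.truncGEπ (c + 1)).app K)) _
    · have z1 : IsZero ((homologyFunctor 𝒜 i).obj ((t.truncGE (c + 1)).obj K)) :=
        isZero_of_isGE _ (c + 1) i (by omega)
      have z2 : IsZero ((homologyFunctor 𝒜 i).obj ((t.truncGE (c + 1)).obj K')) :=
        isZero_of_isGE _ (c + 1) i (by omega)
      exact ⟨⟨0, z1.eq_of_src _ _, z2.eq_of_src _ _⟩⟩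
  -- combine
  have hcomp : ∀ ξ : 𝒢.ZD Y ⟶ (shiftFunctor _ m').obj K,
      (ξ ≫ (shiftFunctor _ m').map f) ≫ (shiftFunctor _ m').map ((t.truncGEπ (c + 1)).app K') =
      (ξ ≫ (shiftFunctor _ m').map ((t.truncGEπ (c + 1)).app K)) ≫ (shiftFunctor _ m').map f₁ := by
    intro ξ
    rw [Category.assoc, Category.assoc, ← Functor.map_comp, ← Functor.map_comp, hnat]
  constructor
  · intro ξ₁ ξ₂ h12
    apply hb.1
    apply hb₁.1
    change (ξ₁ ≫ _) ≫ _ = (ξ₂ ≫ _) ≫ _
    rw [← hcomp, ← hcomp]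
    exact congrArg (· ≫ (shiftFunctor _ m').map ((t.truncGEπ (c + 1)).app K')) h12
  · intro y
    obtain ⟨y₁, hy₁⟩ := hb₁.2 (y ≫ (shiftFunctor _ m').map ((t.truncGEπ (c + 1)).app K'))
    obtain ⟨ξ, hξ⟩ := hb.2 y₁
    refine ⟨ξ, hb'.1 ?_⟩
    change (ξ ≫ _) ≫ _ = y ≫ _
    rw [hcomp]
    change (fun ξ => ξ ≫ _) ξ ≫ _ = _
    rw [hξ]
    exact hy₁

end

end Gen

end Groth.Agent.LocGen31
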