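import Mathlib
import Groth.Prelude.Def_W4c5cptfessfintypeLocImm

/-!
# Localizing ring maps, localizing morphisms and localizing immersions (helper34)

Basic theory for `LocImm.IsLocHom`, `LocImm.IsLocalizing`, `LocImm.IsLocImmersion`.
-/

universe u

open CategoryTheory AlgebraicGeometry

namespace Groth.Agent.Lib.LocImm

open _root_.LocImm

section Ring

variable {A B C : Type*} [CommRing A] [CommRing B] [CommRing C]

lemma isLocHom_iff (φ : A →+* B) :
    IsLocHom φ ↔ ∃ S : Submonoid A, S.IsLocalizationMap φ := by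
  let := φ.toAlgebra
  exact exists_congr fun S => isLocalization_iff_isLocalizationMap S B

lemma isLocHom_algebraMap [Algebra A B] (S : Submonoid A) [IsLocalization S B] :
    IsLocHom (algebraMap A B) :=
  (isLocHom_iff _).2 ⟨S, (isLocalization_iff_isLocalizationMap S B).1 inferInstance⟩

lemma IsLocHom.exists_isLocalization [Algebra A B] (h : IsLocHom (algebraMap A B)) :
    ∃ S : Submonoid A, IsLocalization S B := by
  obtain ⟨S, hS⟩ := (isLocHom_iff _).1 h
  exact ⟨S, (isLocalization_iff_isLocalizationMap S B).2 hS⟩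

lemma isLocHom_of_bijective (φ : A →+* B) (h : Function.Bijective φ) : IsLocHom φ := by
  rw [isLocHom_iff]
  refine ⟨⊥, ?_, fun z => ?_, fun {x y} hxy => ⟨1, by rw [h.1 hxy]⟩⟩
  · rintro ⟨y, hy⟩
    rw [Submonoid.mem_bot] at hy
    subst hy
    simp
  · obtain ⟨x, rfl⟩ := h.2 z
    exact ⟨(x, 1), by simp⟩

lemma IsLocHom.comp {φ : A →+* B} {ψ : B →+* C} (hφ : IsLocHom φ) (hψ : IsLocHom ψ) :
    IsLocHom (ψ.comp φ) := by
  let := φ.toAlgebra
  let := ψ.toAlgebra
  let := (ψ.comp φ).toAlgebra
  have : IsScalarTower A B C := IsScalarTower.of_algebraMap_eq (fun _ => rfl)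
  obtain ⟨S, hS⟩ := hφ
  obtain ⟨T, hT⟩ := hψ
  exact ⟨_, IsLocalization.localization_localization_isLocalization S T C⟩

/-- If `A → A'` is localizing and `A → A' → B'` is localizing then `A' → B'` is localizing. -/
lemma IsLocHom.of_comp {φ : A →+* B} {ψ : B →+* C} (hφ : IsLocHom φ)
    (h : IsLocHom (ψ.comp φ)) : IsLocHom ψ := by
  let := φ.toAlgebra
  let := ψ.toAlgebra
  let := (ψ.comp φ).toAlgebra
  have : IsScalarTower A B C := IsScalarTower.of_algebraMap_eq (fun _ => rfl)
  obtain ⟨M, hM⟩ := hφ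
  obtain ⟨N, hN⟩ := h
  have hNM : IsLocalization (N ⊔ M) C := by
    refine IsLocalization.of_le N (N ⊔ M) le_sup_left ?_
    intro r hr
    rw [Submonoid.mem_sup] at hr
    obtain ⟨n, hn, m, hm, rfl⟩ := hr
    rw [map_mul]
    refine (IsLocalization.map_units C ⟨n, hn⟩).mul ?_
    rw [IsScalarTower.algebraMap_apply A B C]
    exact (IsLocalization.map_units B ⟨m, hm⟩).map _
  exact ⟨_, IsLocalization.isLocalization_of_submonoid_le B C M (N ⊔ M) le_sup_right⟩

lemma IsLocHom.flat {φ : A →+* B} (h : IsLocHom φ) : φ.Flat := by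
  let := φ.toAlgebra
  obtain ⟨S, hS⟩ := h
  exact IsLocalization.flat B S

lemma IsLocHom.ringHom_ext {φ : A →+* B} (h : IsLocHom φ) {g₁ g₂ : B →+* C}
    (e : g₁.comp φ = g₂.comp φ) : g₁ = g₂ := by
  let := φ.toAlgebra
  obtain ⟨S, hS⟩ := h
  exact IsLocalization.ringHom_ext S e

end Ring

section RingProps

lemma isLocHom_stableUnderComposition : RingHom.StableUnderComposition IsLocHom :=
  fun _ _ _ _ _ _ _ _ hf hg => IsLocHom.comp hf hg

lemma isLocHom_respectsIso : RingHom.RespectsIso IsLocHom :=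
  isLocHom_stableUnderComposition.respectsIso fun e => isLocHom_of_bijective _ e.bijective

lemma isLocHom_holdsForLocalization : RingHom.HoldsForLocalization IsLocHom :=
  fun _ _ _ _ _ M _ => isLocHom_algebraMap M

lemma isLocHom_holdsForLocalizationAway : RingHom.HoldsForLocalizationAway IsLocHom :=
  isLocHom_holdsForLocalization.holdsForLocalizationAway

lemma isLocHom_isStableUnderBaseChange : RingHom.IsStableUnderBaseChange IsLocHom := by
  refine RingHom.IsStableUnderBaseChange.mk isLocHom_respectsIso ?_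
  intro R S T _ _ _ _ _ h
  obtain ⟨M, hM⟩ := IsLocHom.exists_isLocalization h
  exact isLocHom_algebraMap (Algebra.algebraMapSubmonoid S M)

lemma isLocHom_localizationPreserves : RingHom.LocalizationPreserves IsLocHom :=
  isLocHom_isStableUnderBaseChange.localizationPreserves

lemma isLocHom_stableUnderCompositionWithLocalizationAway :
    RingHom.StableUnderCompositionWithLocalizationAway IsLocHom :=
  isLocHom_stableUnderComposition.stableUnderCompositionWithLocalizationAway
    isLocHom_holdsForLocalizationAway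

lemma bijective_of_isLocHom_of_isLocalHom {A B : Type*} [CommRing A] [CommRing B]
    (φ : A →+* B) (h : IsLocHom φ) [IsLocalHom φ] : Function.Bijective φ := by
  let := φ.toAlgebra
  obtain ⟨S, hS⟩ := h
  have hle : S ≤ IsUnit.submonoid A := fun s hs => by
    have : IsUnit (φ s) := IsLocalization.map_units B ⟨s, hs⟩
    exact (isUnit_map_iff φ s).1 this
  exact (IsLocalization.atUnits A S (S := B) hle).bijective

lemma isLocHom_localRingHom {R S : Type u} [CommRing R] [CommRing S] {p : Ideal R} [p.IsPrime]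
    {q : Ideal S} [q.IsPrime] {f : R →+* S} (h : p = q.comap f) (hf : IsLocHom f) :
    IsLocHom (Localization.localRingHom p q f h) :=
  isLocHom_holdsForLocalization.localRingHom isLocHom_stableUnderComposition
    isLocHom_localizationPreserves h hf

lemma bijective_localRingHom {R S : Type u} [CommRing R] [CommRing S] {p : Ideal R} [p.IsPrime]
    {q : Ideal S} [q.IsPrime] {f : R →+* S} (h : p = q.comap f) (hf : IsLocHom f) :
    Function.Bijective (Localization.localRingHom p q f h) :=
  bijective_of_isLocHom_of_isLocalHom _ (isLocHom_localRingHom h hf)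

end RingProps

section Scheme

variable {X Y Z : Scheme.{u}}

instance hasRingHomProperty :
    HasRingHomProperty @IsLocalizing (RingHom.Locally IsLocHom) := by
  apply HasRingHomProperty.locally_of_iff
  · exact isLocHom_isStableUnderBaseChange.localizationPreserves.away
  · exact isLocHom_stableUnderCompositionWithLocalizationAway
  · intro X Y f
    exact Iff.rfl

lemma IsLocalizing.flat {f : X ⟶ Y} (hf : IsLocalizing f) : Flat f := by
  rw [HasRingHomProperty.iff_exists_appLE (P := @Flat)
    (RingHom.Flat.stableUnderComposition.stableUnderCompositionWithLocalizationAway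
      RingHom.Flat.holdsForLocalizationAway).1]
  intro x
  obtain ⟨U, V, hxV, e, h⟩ := hf x
  exact ⟨U, V, hxV, e, IsLocHom.flat h⟩

lemma epi_of_isLocHom {R S : CommRingCat.{u}} (φ : R ⟶ S) (h : IsLocHom φ.hom) : Epi φ :=
  ⟨fun _ _ w => CommRingCat.hom_ext (IsLocHom.ringHom_ext h congr(($w).hom))⟩

lemma mono_resLE_of_isLocHom (f : X ⟶ Y) (U : Y.affineOpens) (V : X.affineOpens)
    (e : V.1 ≤ f ⁻¹ᵁ U.1) (h : IsLocHom (f.appLE U V e).hom) : Mono (f.resLE U V e) := by
  have : IsAffine (U.1 : Scheme) := U.2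
  have : IsAffine (V.1 : Scheme) := V.2
  have hepi : Epi (f.appLE U V e) := epi_of_isLocHom _ h
  have hepi' : Epi ((f.resLE U V e).appTop) :=
    ((MorphismProperty.epimorphisms CommRingCat).arrow_mk_iso_iff
      (arrowResLEAppIso f U V e)).2 hepi
  refine ⟨fun {T} g₁ g₂ w => ?_⟩
  apply ext_of_isAffine
  have := congr(Scheme.Hom.appTop $w)
  simp only [Scheme.Hom.comp_appTop] at this
  exact (cancel_epi _).1 this

theorem IsLocImmersion.mono {f : X ⟶ Y} (hf : IsLocImmersion f) : Mono f := by
  refine ⟨fun {T} g h w => ?_⟩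
  have hpt : ∀ t, g t = h t := fun t => hf.2 (by
    have := congr(($w) t)
    simpa using this)
  apply Scheme.hom_ext_of_forall
  intro t
  obtain ⟨U, V, hxV, e, hloc⟩ := hf.1 (g t)
  have hW' : g ⁻¹ᵁ V.1 ≤ h ⁻¹ᵁ V.1 := by
    intro s hs
    change h s ∈ V.1
    rw [← hpt s]
    exact hs
  refine ⟨g ⁻¹ᵁ V.1, hxV, ?_⟩
  have := mono_resLE_of_isLocHom f U V e hloc
  have key : g.resLE V.1 (g ⁻¹ᵁ V.1) le_rfl = h.resLE V.1 (g ⁻¹ᵁ V.1) hW' := by
    rw [← cancel_mono (f.resLE U V e), ← cancel_mono U.1.ι]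
    simp only [Category.assoc, Scheme.Hom.resLE_comp_ι, Scheme.Hom.resLE_comp_ι_assoc, w]
  rw [← Scheme.Hom.resLE_comp_ι g (le_refl _), key, Scheme.Hom.resLE_comp_ι]

lemma IsLocalizing.isIso_stalkMap {f : X ⟶ Y} (hf : IsLocalizing f) (x : X) :
    IsIso (f.stalkMap x) := by
  obtain ⟨U, V, hxV, e, h⟩ := hf x
  have := IsAffineOpen.arrowStalkMapIso f U.1 U.2 V.1 V.2 e hxV
  rw [← MorphismProperty.isomorphisms.iff,
    (MorphismProperty.isomorphisms CommRingCat).arrow_mk_iso_iff this,
    MorphismProperty.isomorphisms.iff, ConcreteCategory.isIso_iff_bijective]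
  exact bijective_localRingHom
    congr($(IsAffineOpen.comap_primeIdealOf_appLE U.1 U.2 V.1 V.2 e hxV).1).symm h

end Scheme

section Scheme2

open Limits

variable {X Y Y' : Scheme.{u}}




instance : MorphismProperty.IsStableUnderBaseChange @IsLocalizing :=
  HasRingHomProperty.isStableUnderBaseChange
    (RingHom.locally_isStableUnderBaseChange isLocHom_respectsIso isLocHom_isStableUnderBaseChange)

instance : MorphismProperty.IsStableUnderComposition @IsLocalizing :=
  HasRingHomProperty.stableUnderComposition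
    (RingHom.locally_stableUnderComposition isLocHom_respectsIso isLocHom_localizationPreserves
      isLocHom_stableUnderComposition)

set_option backward.isDefEq.respectTransparency.types false in
lemma IsLocalizing.pullback_snd {f : X ⟶ Y} (g : Y' ⟶ Y) (hf : IsLocalizing f) :
    IsLocalizing (pullback.snd f g) :=
  MorphismProperty.pullback_snd (P := @IsLocalizing.{u}) f g hf

set_option backward.isDefEq.respectTransparency.types false in
lemma IsLocalizing.comp {f : X ⟶ Y} {g : Y ⟶ Y'} (hf : IsLocalizing f) (hg : IsLocalizing g) :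
    IsLocalizing (f ≫ g) :=
  MorphismProperty.comp_mem (W := @IsLocalizing.{u}) f g hf hg

lemma isLocImmersion_iff_mono {f : X ⟶ Y} : IsLocImmersion f ↔ IsLocalizing f ∧ Mono f :=
  ⟨fun h => ⟨h.1, IsLocImmersion.mono h⟩, fun ⟨h, _⟩ => ⟨h, f.injective⟩⟩

theorem IsLocImmersion.pullback_snd {f : X ⟶ Y} (g : Y' ⟶ Y) (hf : IsLocImmersion f) :
    IsLocImmersion (pullback.snd f g) := by
  have := IsLocImmersion.mono hf
  exact ⟨IsLocalizing.pullback_snd g hf.1, (pullback.snd f g).injective⟩

theorem IsLocImmersion.comp {f : X ⟶ Y} {g : Y ⟶ Y'} (hf : IsLocImmersion f)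
    (hg : IsLocImmersion g) : IsLocImmersion (f ≫ g) :=
  ⟨IsLocalizing.comp hf.1 hg.1, by
    have : (⇑(f ≫ g) : X → Y') = g ∘ f := by ext; simp
    rw [this]
    exact hg.2.comp hf.2⟩



lemma exists_specializes_of_mem_closure_image_Spec {R S : CommRingCat.{u}} (φ : S ⟶ R)
    (C : Set (Spec R)) (hC : IsClosed C) (y : Spec S)
    (hy : y ∈ closure ((Spec.map φ) '' C)) : ∃ c ∈ C, (Spec.map φ) c ⤳ y := by
  obtain ⟨I, rfl⟩ := (PrimeSpectrum.isClosed_iff_zeroLocus_ideal C).1 hC
  have hy' : y ∈ closure (PrimeSpectrum.comap φ.hom '' PrimeSpectrum.zeroLocus (I : Set R)) := hy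
  rw [PrimeSpectrum.closure_image_comap_zeroLocus] at hy'
  have : (PrimeSpectrum.asIdeal y).IsPrime := PrimeSpectrum.isPrime y
  obtain ⟨Q, hIQ, hQ, hle⟩ := Ideal.exists_ideal_comap_le_prime (PrimeSpectrum.asIdeal y) I hy'
  refine ⟨(⟨Q, hQ⟩ : PrimeSpectrum R), hIQ, ?_⟩
  exact (PrimeSpectrum.le_iff_specializes (PrimeSpectrum.comap φ.hom ⟨Q, hQ⟩) y).1 hle

lemma exists_specializes_of_mem_closure_image_of_Spec {X : Scheme.{u}} {S : CommRingCat.{u}}
    (f : X ⟶ Spec S) [CompactSpace X] (C : Set X) (hC : IsClosed C) (y : Spec S)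
    (hy : y ∈ closure (f '' C)) : ∃ c ∈ C, f c ⤳ y := by
  obtain ⟨R, g, hg⟩ := (compactSpace_iff_exists (X := X)).1 inferInstance
  obtain ⟨φ, hφ⟩ := Spec.homEquiv.symm.surjective (g ≫ f)
  have hφ' : Spec.map φ = g ≫ f := hφ
  have key := exists_specializes_of_mem_closure_image_Spec φ (g ⁻¹' C)
    (hC.preimage g.continuous) y (by
      rw [hφ']
      have : (⇑(g ≫ f) : Spec R → Spec S) = f ∘ g := by ext; simp
      rw [this, Set.image_comp, Set.image_preimage_eq _ hg]
      exact hy)
  obtain ⟨c, hc, hcy⟩ := key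
  refine ⟨g c, hc, ?_⟩
  rw [hφ'] at hcy
  simpa using hcy

lemma isEmbedding_of_Spec {X : Scheme.{u}} {S : CommRingCat.{u}}
    (f : X ⟶ Spec S) [CompactSpace X] (hf : IsLocImmersion f) : Topology.IsEmbedding f := by
  have hflat : Flat f := IsLocalizing.flat hf.1
  have hgen : GeneralizingMap f := Flat.generalizingMap f
  refine ⟨⟨?_⟩, hf.2⟩
  refine le_antisymm f.continuous.le_induced ?_
  intro V hV
  rw [isOpen_induced_iff]
  set C : Set X := Vᶜ with hCdef
  have hC : IsClosed C := hV.isClosed_compl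
  refine ⟨(closure (f '' C))ᶜ, isClosed_closure.isOpen_compl, ?_⟩
  ext z
  simp only [Set.mem_preimage, Set.mem_compl_iff]
  constructor
  · intro hz
    by_contra hzV
    exact hz (subset_closure ⟨z, hzV, rfl⟩)
  · intro hzV hz
    obtain ⟨c, hc, hcz⟩ := exists_specializes_of_mem_closure_image_of_Spec f C hC _ hz
    obtain ⟨x', hx', hfx'⟩ := hgen hcz
    have : x' = c := hf.2 hfx'
    subst this
    exact (hx'.mem_closed hC hc) hzV

set_option backward.isDefEq.respectTransparency.types false in
lemma isEmbedding_of_isAffine [IsAffine Y] (f : X ⟶ Y) [CompactSpace X]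
    (hf : IsLocImmersion f) : Topology.IsEmbedding f := by
  have h1 : IsLocImmersion (f ≫ Y.isoSpec.hom) := by
    refine ⟨(MorphismProperty.cancel_right_of_respectsIso @IsLocalizing.{u} f Y.isoSpec.hom).2 hf.1,
      ?_⟩
    have := IsLocImmersion.mono hf
    exact (f ≫ Y.isoSpec.hom).injective
  have h2 := isEmbedding_of_Spec _ h1
  exact (MorphismProperty.cancel_right_of_respectsIso (topologically Topology.IsEmbedding)
    f Y.isoSpec.hom).1 h2

set_option backward.isDefEq.respectTransparency.types false in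
theorem IsLocImmersion.isEmbedding {f : X ⟶ Y} [QuasiCompact f] (hf : IsLocImmersion f) :
    Topology.IsEmbedding f := by
  change topologically Topology.IsEmbedding f
  rw [IsZariskiLocalAtTarget.iff_of_openCover (P := topologically Topology.IsEmbedding)
    Y.affineCover]
  intro i
  have : CompactSpace ↑(pullback f (Y.affineCover.f i)) :=
    QuasiCompact.compactSpace_of_compactSpace (pullback.snd _ _)
  exact isEmbedding_of_isAffine (pullback.snd f (Y.affineCover.f i))
    (IsLocImmersion.pullback_snd _ hf)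


end Scheme2

end Groth.Agent.Lib.LocImm
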