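import Groth.Agent.Lib.LocImm9

/-! # Localizing immersions, part 10 (helper34): factorization from two open pieces -/

universe u
open CategoryTheory AlgebraicGeometry Limits

namespace Groth.Agent.Lib.LocImm
open _root_.LocImm

set_option backward.isDefEq.respectTransparency.types false in
theorem glue_factorizations_of_opens {X S : Scheme.{u}} [IsLocallyNoetherian S] (f : X ⟶ S)
    (U₁ U₂ : X.Opens) (hU : U₁ ⊔ U₂ = ⊤) (Y₁ Y₂ W : Scheme.{u}) [IsNoetherian Y₁] [IsNoetherian Y₂]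
    (k₁ : (U₁ : Scheme.{u}) ⟶ Y₁) (k₂ : (U₂ : Scheme.{u}) ⟶ Y₂) (p₁ : Y₁ ⟶ S) (p₂ : Y₂ ⟶ S)
    (hk₁ : IsLocImmersion k₁) (hk₂ : IsLocImmersion k₂)
    [IsSeparated p₁] [IsSeparated p₂] [LocallyOfFiniteType p₁] [LocallyOfFiniteType p₂]
    (h₁ : k₁ ≫ p₁ = U₁.ι ≫ f) (h₂ : k₂ ≫ p₂ = U₂.ι ≫ f)
    (g₁ : W ⟶ Y₁) (g₂ : W ⟶ Y₂) [IsOpenImmersion g₁] [IsOpenImmersion g₂]
    (hg : g₁ ≫ p₁ = g₂ ≫ p₂)
    (k₀ : ((U₁ ⊓ U₂ : X.Opens) : Scheme.{u}) ⟶ W)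
    (hk₀₁ : k₀ ≫ g₁ = X.homOfLE inf_le_left ≫ k₁) (hk₀₂ : k₀ ≫ g₂ = X.homOfLE inf_le_right ≫ k₂)
    (hB1 : ∀ u : U₁, k₁ u ∈ Set.range g₁ → u.1 ∈ U₂)
    (O₁ : Y₁.Opens) (O₂ : Y₂.Opens) (hO₁ : Set.range k₁ ⊆ O₁) (hO₂ : Set.range k₂ ⊆ O₂)
    (H : ∀ z : ↑(pullback p₁ p₂), z ∈ closure (Set.range (pullback.lift g₁ g₂ hg)) →
      pullback.fst p₁ p₂ z ∈ O₁ → pullback.snd p₁ p₂ z ∈ O₂ →
      z ∈ Set.range (pullback.lift g₁ g₂ hg)) :
    ∃ (Y : Scheme.{u}) (k : X ⟶ Y) (p : Y ⟶ S), IsNoetherian Y ∧ IsLocImmersion k ∧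
      IsSeparated p ∧ LocallyOfFiniteType p ∧ QuasiCompact p ∧ k ≫ p = f := by
  have hNO₁ : IsNoetherian (O₁ : Scheme.{u}) := isNoetherian_opens O₁
  have hNO₂ : IsNoetherian (O₂ : Scheme.{u}) := isNoetherian_opens O₂
  let W' : W.Opens := g₁ ⁻¹ᵁ O₁ ⊓ g₂ ⁻¹ᵁ O₂
  let k₁' : (U₁ : Scheme.{u}) ⟶ O₁ := IsOpenImmersion.lift O₁.ι k₁ (by simpa using hO₁)
  let k₂' : (U₂ : Scheme.{u}) ⟶ O₂ := IsOpenImmersion.lift O₂.ι k₂ (by simpa using hO₂)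
  have hk₁' : k₁' ≫ O₁.ι = k₁ := IsOpenImmersion.lift_fac _ _ _
  have hk₂' : k₂' ≫ O₂.ι = k₂ := IsOpenImmersion.lift_fac _ _ _
  let g₁' : (W' : Scheme.{u}) ⟶ O₁ := IsOpenImmersion.lift O₁.ι (W'.ι ≫ g₁) (by
    rintro _ ⟨w, rfl⟩
    simp only [Scheme.Opens.range_ι]
    rw [Scheme.Hom.comp_apply]
    exact w.2.1)
  let g₂' : (W' : Scheme.{u}) ⟶ O₂ := IsOpenImmersion.lift O₂.ι (W'.ι ≫ g₂) (by
    rintro _ ⟨w, rfl⟩
    simp only [Scheme.Opens.range_ι]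
    rw [Scheme.Hom.comp_apply]
    exact w.2.2)
  have hg₁' : g₁' ≫ O₁.ι = W'.ι ≫ g₁ := IsOpenImmersion.lift_fac _ _ _
  have hg₂' : g₂' ≫ O₂.ι = W'.ι ≫ g₂ := IsOpenImmersion.lift_fac _ _ _
  have hog₁ : IsOpenImmersion g₁' := by
    have : IsOpenImmersion (g₁' ≫ O₁.ι) := by rw [hg₁']; infer_instance
    exact IsOpenImmersion.of_comp g₁' O₁.ι
  have hog₂ : IsOpenImmersion g₂' := by
    have : IsOpenImmersion (g₂' ≫ O₂.ι) := by rw [hg₂']; infer_instance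
    exact IsOpenImmersion.of_comp g₂' O₂.ι
  have hg' : g₁' ≫ (O₁.ι ≫ p₁) = g₂' ≫ (O₂.ι ≫ p₂) := by
    rw [← Category.assoc, hg₁', ← Category.assoc, hg₂', Category.assoc, Category.assoc, hg]
  have hk₀W' : Set.range k₀ ⊆ W' := by
    rintro _ ⟨u, rfl⟩
    constructor
    · change g₁ (k₀ u) ∈ O₁
      rw [← Scheme.Hom.comp_apply, hk₀₁, Scheme.Hom.comp_apply]
      exact hO₁ ⟨_, rfl⟩
    · change g₂ (k₀ u) ∈ O₂
      rw [← Scheme.Hom.comp_apply, hk₀₂, Scheme.Hom.comp_apply]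
      exact hO₂ ⟨_, rfl⟩
  let k₀' : ((U₁ ⊓ U₂ : X.Opens) : Scheme.{u}) ⟶ W' :=
    IsOpenImmersion.lift W'.ι k₀ (by simpa using hk₀W')
  have hk₀' : k₀' ≫ W'.ι = k₀ := IsOpenImmersion.lift_fac _ _ _
  have hlk₁' : IsLocImmersion k₁' := by
    refine ⟨MorphismProperty.of_postcomp (W := @IsLocalizing.{u}) (W' := @IsOpenImmersion) k₁' O₁.ι
      inferInstance (by rw [hk₁']; exact hk₁.1), ?_⟩
    have hi : Function.Injective (k₁' ≫ O₁.ι) := by rw [hk₁']; exact hk₁.2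
    have hc : (⇑(k₁' ≫ O₁.ι) : U₁ → Y₁) = O₁.ι ∘ k₁' := by ext; simp
    rw [hc] at hi
    exact hi.of_comp
  have hlk₂' : IsLocImmersion k₂' := by
    refine ⟨MorphismProperty.of_postcomp (W := @IsLocalizing.{u}) (W' := @IsOpenImmersion) k₂' O₂.ι
      inferInstance (by rw [hk₂']; exact hk₂.1), ?_⟩
    have hi : Function.Injective (k₂' ≫ O₂.ι) := by rw [hk₂']; exact hk₂.2
    have hc : (⇑(k₂' ≫ O₂.ι) : U₂ → Y₂) = O₂.ι ∘ k₂' := by ext; simp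
    rw [hc] at hi
    exact hi.of_comp
  -- the closed immersion
  let j : W ⟶ pullback p₁ p₂ := pullback.lift g₁ g₂ hg
  let j' : (W' : Scheme.{u}) ⟶ pullback (O₁.ι ≫ p₁) (O₂.ι ≫ p₂) := pullback.lift g₁' g₂' hg'
  let θ : pullback (O₁.ι ≫ p₁) (O₂.ι ≫ p₂) ⟶ pullback p₁ p₂ :=
    pullback.map (O₁.ι ≫ p₁) (O₂.ι ≫ p₂) p₁ p₂ O₁.ι O₂.ι (𝟙 S) (by simp) (by simp)
  have hθ : IsOpenImmersion θ := inferInstance
  have hj'θ : j' ≫ θ = W'.ι ≫ j := by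
    apply pullback.hom_ext
    · have e1 : θ ≫ pullback.fst p₁ p₂ = pullback.fst _ _ ≫ O₁.ι := pullback.lift_fst _ _ _
      have e2 : j' ≫ pullback.fst _ _ = g₁' := pullback.lift_fst _ _ _
      have e3 : j ≫ pullback.fst p₁ p₂ = g₁ := pullback.lift_fst _ _ _
      rw [Category.assoc, e1, ← Category.assoc, e2, hg₁', Category.assoc, e3]
    · have e1 : θ ≫ pullback.snd p₁ p₂ = pullback.snd _ _ ≫ O₂.ι := pullback.lift_snd _ _ _
      have e2 : j' ≫ pullback.snd _ _ = g₂' := pullback.lift_snd _ _ _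
      have e3 : j ≫ pullback.snd p₁ p₂ = g₂ := pullback.lift_snd _ _ _
      rw [Category.assoc, e1, ← Category.assoc, e2, hg₂', Category.assoc, e3]
  have himm : IsImmersion j' := by
    have : IsImmersion (j' ≫ pullback.fst _ _) := by
      have : j' ≫ pullback.fst (O₁.ι ≫ p₁) (O₂.ι ≫ p₂) = g₁' := pullback.lift_fst _ _ _
      rw [this]; infer_instance
    exact IsImmersion.of_comp j' (pullback.fst _ _)
  have hclosed : IsClosed (Set.range j') := by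
    rw [← closure_subset_iff_isClosed]
    intro z' hz'
    have hz : θ z' ∈ closure (Set.range j) := by
      have h1 : θ z' ∈ closure (θ '' Set.range j') :=
        image_closure_subset_closure_image θ.continuous ⟨z', hz', rfl⟩
      refine closure_mono ?_ h1
      rintro _ ⟨_, ⟨w', rfl⟩, rfl⟩
      refine ⟨W'.ι w', ?_⟩
      rw [← Scheme.Hom.comp_apply, ← Scheme.Hom.comp_apply, hj'θ]
    have hz1 : pullback.fst p₁ p₂ (θ z') ∈ O₁ := by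
      have : θ ≫ pullback.fst p₁ p₂ = pullback.fst _ _ ≫ O₁.ι := pullback.lift_fst _ _ _
      rw [← Scheme.Hom.comp_apply, this, Scheme.Hom.comp_apply]
      exact (pullback.fst (O₁.ι ≫ p₁) (O₂.ι ≫ p₂) z').2
    have hz2 : pullback.snd p₁ p₂ (θ z') ∈ O₂ := by
      have : θ ≫ pullback.snd p₁ p₂ = pullback.snd _ _ ≫ O₂.ι := pullback.lift_snd _ _ _
      rw [← Scheme.Hom.comp_apply, this, Scheme.Hom.comp_apply]
      exact (pullback.snd (O₁.ι ≫ p₁) (O₂.ι ≫ p₂) z').2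
    obtain ⟨w, hw⟩ := H _ hz hz1 hz2
    have hwW' : w ∈ W' := by
      constructor
      · change g₁ w ∈ O₁
        have : j ≫ pullback.fst p₁ p₂ = g₁ := pullback.lift_fst _ _ _
        rw [← this, Scheme.Hom.comp_apply, hw]
        exact hz1
      · change g₂ w ∈ O₂
        have : j ≫ pullback.snd p₁ p₂ = g₂ := pullback.lift_snd _ _ _
        rw [← this, Scheme.Hom.comp_apply, hw]
        exact hz2
    refine ⟨⟨w, hwW'⟩, ?_⟩
    apply θ.isOpenEmbedding.injective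
    rw [← Scheme.Hom.comp_apply, hj'θ, Scheme.Hom.comp_apply]
    exact hw
  have hcl : IsClosedImmersion j' := IsClosedImmersion.of_isPreimmersion j' hclosed
  refine glue_factorizations f U₁ U₂ hU O₁ O₂ W' k₁' k₂' (O₁.ι ≫ p₁) (O₂.ι ≫ p₂) hlk₁' hlk₂'
    (by rw [← Category.assoc, hk₁', h₁]) (by rw [← Category.assoc, hk₂', h₂]) g₁' g₂' hg' k₀'
    ?_ ?_ ?_ hcl
  · rw [← cancel_mono O₁.ι, Category.assoc, hg₁', ← Category.assoc, hk₀', hk₀₁, Category.assoc, hk₁']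
  · rw [← cancel_mono O₂.ι, Category.assoc, hg₂', ← Category.assoc, hk₀', hk₀₂, Category.assoc, hk₂']
  · rintro u ⟨w', hw'⟩
    refine hB1 u ⟨W'.ι w', ?_⟩
    rw [← Scheme.Hom.comp_apply, ← hg₁', Scheme.Hom.comp_apply, hw', ← Scheme.Hom.comp_apply, hk₁']

set_option backward.isDefEq.respectTransparency.types false in
theorem mem_range_lift_of_mem_closure {X S : Scheme.{u}} [IsNoetherian X] (f : X ⟶ S)
    [IsSeparated f] (U₁ U₂ : X.Opens) (Y₁ Y₂ : Scheme.{u})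
    (k₁ : (U₁ : Scheme.{u}) ⟶ Y₁) (k₂ : (U₂ : Scheme.{u}) ⟶ Y₂) (p₁ : Y₁ ⟶ S) (p₂ : Y₂ ⟶ S)
    (hk₁ : IsLocImmersion k₁) (hk₂ : IsLocImmersion k₂)
    (h₁ : k₁ ≫ p₁ = U₁.ι ≫ f) (h₂ : k₂ ≫ p₂ = U₂.ι ≫ f)
    (hcomm : (X.homOfLE (inf_le_left : U₁ ⊓ U₂ ≤ U₁) ≫ k₁) ≫ p₁ =
      (X.homOfLE (inf_le_right : U₁ ⊓ U₂ ≤ U₂) ≫ k₂) ≫ p₂)
    (z : ↑(pullback p₁ p₂))
    (hz : z ∈ closure (Set.range (pullback.lift _ _ hcomm)))
    (hz₁ : pullback.fst p₁ p₂ z ∈ Set.range k₁) (hz₂ : pullback.snd p₁ p₂ z ∈ Set.range k₂) :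
    z ∈ Set.range (pullback.lift _ _ hcomm) := by
  have hN₁ : IsNoetherian (U₁ : Scheme.{u}) := isNoetherian_opens U₁
  have hN₂ : IsNoetherian (U₂ : Scheme.{u}) := isNoetherian_opens U₂
  have hN₁₂ : IsNoetherian ((U₁ ⊓ U₂ : X.Opens) : Scheme.{u}) := isNoetherian_opens (U₁ ⊓ U₂)
  set hh := pullback.lift _ _ hcomm with hhdef
  let κ : pullback (U₁.ι ≫ f) (U₂.ι ≫ f) ⟶ pullback p₁ p₂ :=
    pullback.map (U₁.ι ≫ f) (U₂.ι ≫ f) p₁ p₂ k₁ k₂ (𝟙 S) ((Category.comp_id _).trans h₁.symm)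
      ((Category.comp_id _).trans h₂.symm)
  have hκloc : IsLocalizing κ :=
    MorphismProperty.pullbackMap (P := @IsLocalizing.{u}) hk₁.1 hk₂.1 h₁.symm h₂.symm
  have hm₁ : Mono k₁ := IsLocImmersion.mono hk₁
  have hm₂ : Mono k₂ := IsLocImmersion.mono hk₂
  have hκmono : Mono κ :=
    MorphismProperty.pullbackMap (P := MorphismProperty.monomorphisms Scheme.{u})
      (MorphismProperty.monomorphisms.infer_property k₁)
      (MorphismProperty.monomorphisms.infer_property k₂) h₁.symm h₂.symm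
  have hκqc : QuasiCompact κ :=
    MorphismProperty.pullbackMap (P := @QuasiCompact) (inferInstance : QuasiCompact k₁)
      (inferInstance : QuasiCompact k₂) h₁.symm h₂.symm
  have hκ : IsLocImmersion κ := isLocImmersion_iff_mono.2 ⟨hκloc, hκmono⟩
  have hemb := IsLocImmersion.isEmbedding hκ
  let δ : ((U₁ ⊓ U₂ : X.Opens) : Scheme.{u}) ⟶ pullback (U₁.ι ≫ f) (U₂.ι ≫ f) :=
    (isPullback_opens_inf U₁ U₂).isoPullback.hom ≫ pullback.mapDesc U₁.ι U₂.ι f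
  have hδcl : IsClosedImmersion δ := inferInstance
  have hδκ : δ ≫ κ = hh := by
    apply pullback.hom_ext
    · have e1 : κ ≫ pullback.fst p₁ p₂ = pullback.fst _ _ ≫ k₁ := pullback.lift_fst _ _ _
      have e2 : pullback.mapDesc U₁.ι U₂.ι f ≫ pullback.fst _ _ = pullback.fst _ _ ≫ 𝟙 _ :=
        pullback.lift_fst _ _ _
      have e3 : hh ≫ pullback.fst p₁ p₂ = _ := pullback.lift_fst _ _ _
      rw [Category.assoc, e1, e3]
      simp only [δ, Category.assoc]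
      rw [reassoc_of% e2, IsPullback.isoPullback_hom_fst_assoc]
    · have e1 : κ ≫ pullback.snd p₁ p₂ = pullback.snd _ _ ≫ k₂ := pullback.lift_snd _ _ _
      have e2 : pullback.mapDesc U₁.ι U₂.ι f ≫ pullback.snd _ _ = pullback.snd _ _ ≫ 𝟙 _ :=
        pullback.lift_snd _ _ _
      have e3 : hh ≫ pullback.snd p₁ p₂ = _ := pullback.lift_snd _ _ _
      rw [Category.assoc, e1, e3]
      simp only [δ, Category.assoc]
      rw [reassoc_of% e2, IsPullback.isoPullback_hom_snd_assoc]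
  have hzκ : z ∈ Set.range κ := by
    rw [Scheme.Pullback.range_map]
    exact ⟨hz₁, hz₂⟩
  obtain ⟨t, rfl⟩ := hzκ
  obtain ⟨u, hu⟩ := exists_specializes_of_mem_closure_range hh _ hz
  rw [← hδκ, Scheme.Hom.comp_apply, hemb.isInducing.specializes_iff] at hu
  obtain ⟨u', rfl⟩ := hu.mem_closed δ.isClosedEmbedding.isClosed_range ⟨u, rfl⟩
  exact ⟨u', by rw [← hδκ, Scheme.Hom.comp_apply]⟩

set_option backward.isDefEq.respectTransparency.types false in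
theorem exists_factorization_of_two {X S : Scheme.{u}} [IsNoetherian X] [IsNoetherian S]
    (f : X ⟶ S) [IsSeparated f]
    (U₁ U₂ : X.Opens) (hU : U₁ ⊔ U₂ = ⊤) (Y₁ Y₂ : Scheme.{u}) [IsNoetherian Y₁] [IsNoetherian Y₂]
    (k₁ : (U₁ : Scheme.{u}) ⟶ Y₁) (k₂ : (U₂ : Scheme.{u}) ⟶ Y₂) (p₁ : Y₁ ⟶ S) (p₂ : Y₂ ⟶ S)
    (hk₁ : IsLocImmersion k₁) (hk₂ : IsLocImmersion k₂)
    [IsSeparated p₁] [IsSeparated p₂] [LocallyOfFiniteType p₁] [LocallyOfFiniteType p₂]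
    [QuasiCompact p₁] [QuasiCompact p₂]
    (h₁ : k₁ ≫ p₁ = U₁.ι ≫ f) (h₂ : k₂ ≫ p₂ = U₂.ι ≫ f) :
    ∃ (Y : Scheme.{u}) (k : X ⟶ Y) (p : Y ⟶ S), IsNoetherian Y ∧ IsLocImmersion k ∧
      IsSeparated p ∧ LocallyOfFiniteType p ∧ QuasiCompact p ∧ k ≫ p = f := by
  have hN₁ : IsNoetherian (U₁ : Scheme.{u}) := isNoetherian_opens U₁
  have hN₂ : IsNoetherian (U₂ : Scheme.{u}) := isNoetherian_opens U₂
  have hN₁₂ : IsNoetherian ((U₁ ⊓ U₂ : X.Opens) : Scheme.{u}) := isNoetherian_opens (U₁ ⊓ U₂)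
  have hemb₁ := IsLocImmersion.isEmbedding hk₁
  -- the open set N₁
  have hAopen : IsOpen (U₁.ι ⁻¹' (U₂ : Set X)) := U₂.isOpen.preimage U₁.ι.continuous
  obtain ⟨N₁s, hN₁open, hN₁⟩ := hemb₁.isInducing.isOpen_iff.1 hAopen
  let N₁ : Y₁.Opens := ⟨N₁s, hN₁open⟩
  let a₁ : ((U₁ ⊓ U₂ : X.Opens) : Scheme.{u}) ⟶ U₁ := X.homOfLE inf_le_left
  let a₂ : ((U₁ ⊓ U₂ : X.Opens) : Scheme.{u}) ⟶ U₂ := X.homOfLE inf_le_right
  have hid : RingHom.ContainsIdentities (RingHom.Locally IsLocHom) := by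
    intro R _
    exact RingHom.locally_of isLocHom_respectsIso _
      (isLocHom_of_bijective _ Function.bijective_id)
  have ha₁ : IsLocImmersion a₁ :=
    ⟨HasRingHomProperty.of_isOpenImmersion (P := @IsLocalizing.{u}) hid,
      a₁.isOpenEmbedding.injective⟩
  have ha₂ : IsLocImmersion a₂ :=
    ⟨HasRingHomProperty.of_isOpenImmersion (P := @IsLocalizing.{u}) hid,
      a₂.isOpenEmbedding.injective⟩
  have hf₁ : IsLocImmersion (a₁ ≫ k₁) := IsLocImmersion.comp ha₁ hk₁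
  have hf₂ : IsLocImmersion (a₂ ≫ k₂) := IsLocImmersion.comp ha₂ hk₂
  have hcomm : (a₁ ≫ k₁) ≫ p₁ = (a₂ ≫ k₂) ≫ p₂ := by
    rw [Category.assoc, Category.assoc, h₁, h₂, Scheme.homOfLE_ι_assoc, Scheme.homOfLE_ι_assoc]
  have hN₁range : Set.range (a₁ ≫ k₁) ⊆ N₁ := by
    rintro _ ⟨u, rfl⟩
    rw [Scheme.Hom.comp_apply]
    change a₁ u ∈ k₁ ⁻¹' N₁s
    rw [hN₁]
    change U₁.ι (a₁ u) ∈ U₂
    rw [← Scheme.Hom.comp_apply, Scheme.homOfLE_ι]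
    exact u.2.2
  obtain ⟨W, k₀, g₁, g₂, hg, hk₀, hog₁, hog₂, hk₀₁, hk₀₂, hgN, hsub, hZcl⟩ :=
    exists_common_open' (a₁ ≫ k₁) (a₂ ≫ k₂) p₁ p₂ hf₁ hf₂ hcomm N₁ hN₁range
  have hB1 : ∀ u : U₁, k₁ u ∈ Set.range g₁ → u.1 ∈ U₂ := by
    intro u hu
    have : u ∈ k₁ ⁻¹' N₁s := hgN hu
    rw [hN₁] at this
    exact this
  set hh := pullback.lift (a₁ ≫ k₁) (a₂ ≫ k₂) hcomm with hhdef
  set j := pullback.lift g₁ g₂ hg with hjdef
  have hhj : k₀ ≫ j = hh := by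
    apply pullback.hom_ext
    · rw [Category.assoc, pullback.lift_fst, pullback.lift_fst, hk₀₁]
    · rw [Category.assoc, pullback.lift_snd, pullback.lift_snd, hk₀₂]
  have hstar : ∀ z ∈ closure (Set.range hh), pullback.fst p₁ p₂ z ∈ Set.range k₁ →
      pullback.snd p₁ p₂ z ∈ Set.range k₂ → z ∈ Set.range j := by
    intro z hz hz₁ hz₂
    obtain ⟨u, rfl⟩ := mem_range_lift_of_mem_closure f U₁ U₂ Y₁ Y₂ k₁ k₂ p₁ p₂ hk₁ hk₂ h₁ h₂
      hcomm z hz hz₁ hz₂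
    exact ⟨k₀ u, by rw [← Scheme.Hom.comp_apply, hhj]⟩
  -- Noetherian-ness of the fibre product
  have hNP : IsNoetherian (pullback p₁ p₂) := by
    have h1 : IsLocallyNoetherian (pullback p₁ p₂) := inferInstance
    have h2 : CompactSpace ↥(pullback p₁ p₂) :=
      QuasiCompact.compactSpace_of_compactSpace (pullback.fst p₁ p₂)
    exact { }
  obtain ⟨G, hGfin, hGZ, hG⟩ := exists_finite_generic hZcl
  -- closed sets to remove
  have hfl₁ : Flat k₁ := IsLocalizing.flat hk₁.1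
  have hfl₂ : Flat k₂ := IsLocalizing.flat hk₂.1
  have hgen₁ : StableUnderGeneralization (Set.range k₁) :=
    (Flat.generalizingMap k₁).stableUnderGeneralization_range
  have hgen₂ : StableUnderGeneralization (Set.range k₂) :=
    (Flat.generalizingMap k₂).stableUnderGeneralization_range
  let T₁ : Set Y₁ := ⋃ ζ ∈ {ζ ∈ G | pullback.fst p₁ p₂ ζ ∉ Set.range k₁},
    closure {pullback.fst p₁ p₂ ζ}
  let T₂ : Set Y₂ := ⋃ ζ ∈ {ζ ∈ G | pullback.snd p₁ p₂ ζ ∉ Set.range k₂},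
    closure {pullback.snd p₁ p₂ ζ}
  have hT₁ : IsClosed T₁ :=
    (hGfin.subset (Set.sep_subset _ _)).isClosed_biUnion fun _ _ => isClosed_closure
  have hT₂ : IsClosed T₂ :=
    (hGfin.subset (Set.sep_subset _ _)).isClosed_biUnion fun _ _ => isClosed_closure
  let O₁ : Y₁.Opens := ⟨T₁ᶜ, hT₁.isOpen_compl⟩
  let O₂ : Y₂.Opens := ⟨T₂ᶜ, hT₂.isOpen_compl⟩
  have hO₁ : Set.range k₁ ⊆ O₁ := by
    rintro y hy hyT
    obtain ⟨ζ, hζ, hyζ⟩ := Set.mem_iUnion₂.1 hyT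
    exact hζ.2 (hgen₁ (specializes_iff_mem_closure.2 hyζ) hy)
  have hO₂ : Set.range k₂ ⊆ O₂ := by
    rintro y hy hyT
    obtain ⟨ζ, hζ, hyζ⟩ := Set.mem_iUnion₂.1 hyT
    exact hζ.2 (hgen₂ (specializes_iff_mem_closure.2 hyζ) hy)
  refine glue_factorizations_of_opens f U₁ U₂ hU Y₁ Y₂ W k₁ k₂ p₁ p₂ hk₁ hk₂ h₁ h₂ g₁ g₂ hg k₀
    hk₀₁ hk₀₂ hB1 O₁ O₂ hO₁ hO₂ ?_
  intro z hz hz₁ hz₂
  by_contra hzj
  have hzC : z ∈ closure (Set.range hh) :=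
    closure_minimal hsub isClosed_closure hz
  obtain ⟨ζ, hζG, hζz⟩ := hG z ⟨hzC, hzj⟩
  have hζZ := hGZ hζG
  by_cases hc₁ : pullback.fst p₁ p₂ ζ ∈ Set.range k₁
  · by_cases hc₂ : pullback.snd p₁ p₂ ζ ∈ Set.range k₂
    · exact hζZ.2 (hstar ζ hζZ.1 hc₁ hc₂)
    · refine hz₂ (Set.mem_iUnion₂.2 ⟨ζ, ⟨hζG, hc₂⟩, ?_⟩)
      exact specializes_iff_mem_closure.1 (hζz.map (pullback.snd p₁ p₂).continuous)
  · refine hz₁ (Set.mem_iUnion₂.2 ⟨ζ, ⟨hζG, hc₁⟩, ?_⟩)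
    exact specializes_iff_mem_closure.1 (hζz.map (pullback.fst p₁ p₂).continuous)

end Groth.Agent.Lib.LocImm
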