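import Groth.Agent.Lib.LocImm10

/-! # Localizing immersions, part 11 (helper34): factorization of separated essentially finite type
morphisms of Noetherian schemes -/

universe u
open CategoryTheory AlgebraicGeometry Limits

namespace Groth.Agent.Lib.LocImm
open _root_.LocImm

/-- `f` factors as a localizing immersion into a Noetherian scheme followed by a separated
morphism of finite type. -/
def HasFact {X S : Scheme.{u}} (f : X ⟶ S) : Prop :=
  ∃ (Y : Scheme.{u}) (k : X ⟶ Y) (p : Y ⟶ S), IsNoetherian Y ∧ IsLocImmersion k ∧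
    IsSeparated p ∧ LocallyOfFiniteType p ∧ QuasiCompact p ∧ k ≫ p = f

lemma isLocImmersion_of_isIso {X Y : Scheme.{u}} (e : X ⟶ Y) [IsIso e] : IsLocImmersion e := by
  have hid : RingHom.ContainsIdentities (RingHom.Locally IsLocHom) := by
    intro R _
    exact RingHom.locally_of isLocHom_respectsIso _
      (isLocHom_of_bijective _ Function.bijective_id)
  exact ⟨HasRingHomProperty.of_isOpenImmersion (P := @IsLocalizing.{u}) hid,
    e.isOpenEmbedding.injective⟩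

lemma HasFact.of_iso {X X' S : Scheme.{u}} (e : X' ≅ X) {f : X ⟶ S} (h : HasFact f) :
    HasFact (e.hom ≫ f) := by
  obtain ⟨Y, k, p, hY, hk, hs, hl, hq, hkp⟩ := h
  exact ⟨Y, e.hom ≫ k, p, hY, IsLocImmersion.comp (isLocImmersion_of_isIso e.hom) hk, hs, hl, hq,
    by rw [Category.assoc, hkp]⟩

set_option backward.isDefEq.respectTransparency.types false in
theorem hasFact_of_chart {X S : Scheme.{u}} [IsLocallyNoetherian S] (f : X ⟶ S)
    (U : S.affineOpens) (V : X.affineOpens) (e : V.1 ≤ f ⁻¹ᵁ U.1)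
    (hess : (f.appLE U.1 V.1 e).hom.EssFiniteType) : HasFact (V.1.ι ≫ f) := by
  let A := Γ(S, U.1)
  let B := Γ(X, V.1)
  let φ : A →+* B := (f.appLE U.1 V.1 e).hom
  let _ : Algebra A B := φ.toAlgebra
  have hess' : Algebra.EssFiniteType A B := hess
  let C := Algebra.EssFiniteType.subalgebra A B
  let M := Algebra.EssFiniteType.submonoid A B
  have hloc : IsLocalization M B := Algebra.EssFiniteType.isLocalization A B
  have hAN : IsNoetherianRing A := IsLocallyNoetherian.component_noetherian U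
  have hCN : IsNoetherianRing C := Algebra.FiniteType.isNoetherianRing A C
  let ψ : CommRingCat.of C ⟶ B := CommRingCat.ofHom (algebraMap C B)
  let χ : A ⟶ CommRingCat.of C := CommRingCat.ofHom (algebraMap A C)
  have hχψ : χ ≫ ψ = f.appLE U.1 V.1 e := by
    ext a
    rfl
  let k : (V.1 : Scheme.{u}) ⟶ Spec (CommRingCat.of C) := V.2.isoSpec.hom ≫ Spec.map ψ
  let p : Spec (CommRingCat.of C) ⟶ S := Spec.map χ ≫ U.2.fromSpec
  have hkp : k ≫ p = V.1.ι ≫ f := by
    simp only [k, p, Category.assoc]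
    rw [← Spec.map_comp_assoc, hχψ, IsAffineOpen.SpecMap_appLE_fromSpec f U.2 V.2 e,
      IsAffineOpen.isoSpec_hom_fromSpec_assoc]
  have hψloc : IsLocHom ψ.hom := isLocHom_algebraMap M
  have hk : IsLocImmersion k := by
    refine IsLocImmersion.comp (isLocImmersion_of_isIso _) ⟨?_, ?_⟩
    · exact (HasRingHomProperty.Spec_iff (P := @IsLocalizing.{u})).2
        (RingHom.locally_of isLocHom_respectsIso _ hψloc)
    · exact PrimeSpectrum.localization_comap_injective B M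
  have hN : IsNoetherian (Spec (CommRingCat.of C)) := inferInstance
  have hlft : LocallyOfFiniteType (Spec.map χ) := by
    rw [HasRingHomProperty.Spec_iff (P := @LocallyOfFiniteType)]
    exact (RingHom.finiteType_algebraMap (A := A) (B := C)).2 inferInstance
  exact ⟨_, k, p, hN, hk, inferInstance, inferInstance, inferInstance, hkp⟩

theorem hasFact_bot {X S : Scheme.{u}} [IsNoetherian S] (f : X ⟶ S) :
    HasFact ((⊥ : X.Opens).ι ≫ f) := by
  have hemp : ∀ x : ((⊥ : X.Opens) : Scheme.{u}), False := fun x => x.2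
  exact ⟨S, (⊥ : X.Opens).ι ≫ f, 𝟙 S, inferInstance, ⟨fun x => (hemp x).elim, fun x => (hemp x).elim⟩,
    inferInstance, inferInstance, inferInstance, Category.comp_id _⟩

set_option backward.isDefEq.respectTransparency.types false in
theorem HasFact.sup {X S : Scheme.{u}} [IsNoetherian X] [IsNoetherian S] (f : X ⟶ S)
    [IsSeparated f] (V₁ V₂ : X.Opens) (h₁ : HasFact (V₁.ι ≫ f)) (h₂ : HasFact (V₂.ι ≫ f)) :
    HasFact ((V₁ ⊔ V₂).ι ≫ f) := by
  set T : X.Opens := V₁ ⊔ V₂ with hT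
  have hNT : IsNoetherian (T : Scheme.{u}) := isNoetherian_opens T
  let U₁ : (T : Scheme.{u}).Opens := T.ι ⁻¹ᵁ V₁
  let U₂ : (T : Scheme.{u}).Opens := T.ι ⁻¹ᵁ V₂
  have hU : U₁ ⊔ U₂ = ⊤ := by
    rw [eq_top_iff]
    rintro x -
    have hx : x.1 ∈ V₁ ⊔ V₂ := x.2
    rcases hx with hx | hx
    · exact Or.inl hx
    · exact Or.inr hx
  have hr₁ : Set.range (U₁.ι ≫ T.ι) = Set.range V₁.ι := by
    ext y
    simp only [Scheme.Opens.range_ι]
    constructor
    · rintro ⟨u, rfl⟩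
      exact u.2
    · intro hy
      have hyT : y ∈ T := Or.inl hy
      exact ⟨⟨⟨y, hyT⟩, hy⟩, rfl⟩
  have hr₂ : Set.range (U₂.ι ≫ T.ι) = Set.range V₂.ι := by
    ext y
    simp only [Scheme.Opens.range_ι]
    constructor
    · rintro ⟨u, rfl⟩
      exact u.2
    · intro hy
      have hyT : y ∈ T := Or.inr hy
      exact ⟨⟨⟨y, hyT⟩, hy⟩, rfl⟩
  let e₁ : (U₁ : Scheme.{u}) ≅ V₁ := IsOpenImmersion.isoOfRangeEq (U₁.ι ≫ T.ι) V₁.ι hr₁
  let e₂ : (U₂ : Scheme.{u}) ≅ V₂ := IsOpenImmersion.isoOfRangeEq (U₂.ι ≫ T.ι) V₂.ι hr₂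
  have he₁ : e₁.hom ≫ V₁.ι = U₁.ι ≫ T.ι := IsOpenImmersion.isoOfRangeEq_hom_fac _ _ _
  have he₂ : e₂.hom ≫ V₂.ι = U₂.ι ≫ T.ι := IsOpenImmersion.isoOfRangeEq_hom_fac _ _ _
  obtain ⟨Y₁, k₁, p₁, hY₁, hk₁, hs₁, hl₁, hq₁, hkp₁⟩ := h₁
  obtain ⟨Y₂, k₂, p₂, hY₂, hk₂, hs₂, hl₂, hq₂, hkp₂⟩ := h₂
  exact exists_factorization_of_two (T.ι ≫ f) U₁ U₂ hU Y₁ Y₂ (e₁.hom ≫ k₁) (e₂.hom ≫ k₂) p₁ p₂
    (IsLocImmersion.comp (isLocImmersion_of_isIso e₁.hom) hk₁)
    (IsLocImmersion.comp (isLocImmersion_of_isIso e₂.hom) hk₂)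
    (by rw [Category.assoc, hkp₁, reassoc_of% he₁])
    (by rw [Category.assoc, hkp₂, reassoc_of% he₂])

theorem hasFact_of_essFiniteType {X S : Scheme.{u}} [IsNoetherian X] [IsNoetherian S] (f : X ⟶ S)
    [IsSeparated f] [EssFT.EssFiniteType f] : HasFact f := by
  have key : ∃ O : X.Opens, (Set.univ : Set X) ⊆ (O : Set X) ∧ HasFact (O.ι ≫ f) := by
    refine IsCompact.induction_on (p := fun s => ∃ O : X.Opens, s ⊆ (O : Set X) ∧ HasFact (O.ι ≫ f))
      isCompact_univ ?_ ?_ ?_ ?_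
    · exact ⟨⊥, Set.empty_subset _, hasFact_bot f⟩
    · rintro s t hst ⟨O, hO, h⟩
      exact ⟨O, hst.trans hO, h⟩
    · rintro s t ⟨O₁, hO₁, h₁⟩ ⟨O₂, hO₂, h₂⟩
      refine ⟨O₁ ⊔ O₂, ?_, HasFact.sup f O₁ O₂ h₁ h₂⟩
      exact Set.union_subset (hO₁.trans (show (O₁ : Set X) ⊆ ((O₁ ⊔ O₂ : X.Opens) : Set X) from
        Set.subset_union_left)) (hO₂.trans (show (O₂ : Set X) ⊆ ((O₁ ⊔ O₂ : X.Opens) : Set X) from
        Set.subset_union_right))
    · intro x _
      obtain ⟨U, V, hxV, e, hess⟩ :=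
        EssFT.LocallyEssFiniteType.exists_appLE_essFiniteType (f := f) x
      exact ⟨V.1, mem_nhdsWithin_of_mem_nhds (V.1.isOpen.mem_nhds hxV), V.1, subset_rfl,
        hasFact_of_chart f U V e hess⟩
  obtain ⟨O, hO, h⟩ := key
  have hOtop : O = ⊤ := by
    rw [eq_top_iff]
    intro x _
    exact hO (Set.mem_univ x)
  subst hOtop
  have := HasFact.of_iso (X.topIso).symm h
  simpa using this

end Groth.Agent.Lib.LocImm
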