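import Groth.Agent.Lib.LocImm11
import Mathlib.AlgebraicGeometry.Stalk

/-! # Localizing immersions, part 12 (helper34): Spec of a stalk, composition of ess. f.t. -/

universe u
open CategoryTheory AlgebraicGeometry Limits

namespace Groth.Agent.Lib.LocImm
open _root_.LocImm

set_option backward.isDefEq.respectTransparency.types false in
theorem isLocImmersion_fromSpecStalk (X : Scheme.{u}) (x : X) :
    IsLocImmersion (X.fromSpecStalk x) := by
  obtain ⟨_, ⟨U, hU, rfl⟩, hxU, -⟩ := X.isBasis_affineOpens.exists_subset_of_mem_open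
    (Set.mem_univ x) isOpen_univ
  refine ⟨?_, (X.fromSpecStalk x).isEmbedding.injective⟩
  rw [← hU.fromSpecStalk_eq_fromSpecStalk hxU, IsAffineOpen.fromSpecStalk]
  have hid : RingHom.ContainsIdentities (RingHom.Locally IsLocHom) := by
    intro R _
    exact RingHom.locally_of isLocHom_respectsIso _
      (isLocHom_of_bijective _ Function.bijective_id)
  refine IsLocalizing.comp ?_ (HasRingHomProperty.of_isOpenImmersion (P := @IsLocalizing.{u}) hid)
  rw [HasRingHomProperty.Spec_iff (P := @IsLocalizing.{u})]
  refine RingHom.locally_of isLocHom_respectsIso _ ?_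
  let _ : Algebra Γ(X, U) (X.presheaf.stalk x) := (X.presheaf.germ U x hxU).hom.toAlgebra
  have := hU.isLocalization_stalk ⟨x, hxU⟩
  exact isLocHom_algebraMap (hU.primeIdealOf ⟨x, hxU⟩).asIdeal.primeCompl

lemma locallyEssFiniteType_of_isLocalizing {X Y : Scheme.{u}} {f : X ⟶ Y} (hf : IsLocalizing f) :
    EssFT.LocallyEssFiniteType f := by
  refine ⟨fun x => ?_⟩
  obtain ⟨U, V, hxV, e, h⟩ := hf x
  refine ⟨U, V, hxV, e, ?_⟩
  let _ := (f.appLE U V e).hom.toAlgebra
  obtain ⟨M, hM⟩ := h
  exact Algebra.EssFiniteType.of_isLocalization _ M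

instance locallyEssFiniteType_isStableUnderComposition :
    MorphismProperty.IsStableUnderComposition @EssFT.LocallyEssFiniteType.{u} :=
  HasRingHomProperty.stableUnderComposition (RingHom.locally_stableUnderComposition
    RingHom.EssFiniteType.respectsIso
    RingHom.EssFiniteType.isStableUnderBaseChange.localizationPreserves
    RingHom.EssFiniteType.stableUnderComposition)

lemma essFiniteType_comp {X Y Z : Scheme.{u}} [IsNoetherian X] (f : X ⟶ Y) (g : Y ⟶ Z)
    (hf : EssFT.LocallyEssFiniteType f) (hg : EssFT.LocallyEssFiniteType g) :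
    EssFT.EssFiniteType (f ≫ g) := by
  have : EssFT.LocallyEssFiniteType (f ≫ g) :=
    MorphismProperty.comp_mem (W := @EssFT.LocallyEssFiniteType.{u}) f g hf hg
  exact { }

end Groth.Agent.Lib.LocImm
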