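import Groth.Agent.Lib.LocImm12

/-! # Localizing immersions, part 13 (helper34): open immersions into scheme-theoretic images -/

universe u
open CategoryTheory AlgebraicGeometry Limits

namespace Groth.Agent.Lib.LocImm
open _root_.LocImm

set_option backward.isDefEq.respectTransparency.types false in
/-- If `f ≫ g` is a quasi-compact open immersion, `g` is separated, `f` has dense range and trivial
kernel, then `f` is an open immersion onto the preimage of the range of `f ≫ g`. -/
theorem isOpenImmersion_of_comp_of_ker_eq_bot {X Y Z : Scheme.{u}} (f : X ⟶ Y) (g : Y ⟶ Z)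
    [IsOpenImmersion (f ≫ g)] [QuasiCompact (f ≫ g)] [IsSeparated g] (hker : f.ker = ⊥)
    (hd : DenseRange f) :
    IsOpenImmersion f ∧ Set.range f = g ⁻¹' Set.range (f ≫ g) := by
  have hid : RingHom.ContainsIdentities (RingHom.Locally IsLocHom) := by
    intro R _
    exact RingHom.locally_of isLocHom_respectsIso _
      (isLocHom_of_bijective _ Function.bijective_id)
  have hfg : IsLocImmersion (f ≫ g) :=
    ⟨HasRingHomProperty.of_isOpenImmersion (P := @IsLocalizing.{u}) hid,
      (f ≫ g).isOpenEmbedding.injective⟩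
  have hf : IsLocImmersion f := isLocImmersion_of_comp_of_ker_eq_bot f g hfg hker
  have hqc : QuasiCompact f :=
    MorphismProperty.of_postcomp (W := @QuasiCompact) (W' := @QuasiSeparated) f g inferInstance
      inferInstance
  -- the range
  let i := f ≫ g
  let O : Z.Opens := i.opensRange
  let V : Y.Opens := g ⁻¹ᵁ O
  have hfV : Set.range f ⊆ V := by
    rintro _ ⟨x, rfl⟩
    exact ⟨x, Scheme.Hom.comp_apply f g x⟩
  let f' : X ⟶ V := IsOpenImmersion.lift V.ι f (by simpa using hfV)
  have hf' : f' ≫ V.ι = f := IsOpenImmersion.lift_fac _ _ _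
  let e : X ≅ O := i.isoOpensRange
  have he : e.hom ≫ O.ι = i := Scheme.Hom.isoOpensRange_hom_ι i
  have hsec : f' ≫ ((g ∣_ O) ≫ e.inv) = 𝟙 X := by
    rw [← Category.assoc, Iso.comp_inv_eq, Category.id_comp, ← cancel_mono O.ι, Category.assoc,
      morphismRestrict_ι, ← Category.assoc, hf', he]
  have hcl : IsClosedImmersion f' := by
    have : IsClosedImmersion (f' ≫ ((g ∣_ O) ≫ e.inv)) := by rw [hsec]; infer_instance
    exact IsClosedImmersion.of_comp f' ((g ∣_ O) ≫ e.inv)
  have hdense : DenseRange f' := by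
    intro v
    rw [mem_closure_iff]
    intro W hW hvW
    have hW' : IsOpen (V.ι '' W) := V.ι.isOpenEmbedding.isOpenMap W hW
    obtain ⟨_, ⟨w, hw, rfl⟩, ⟨x, hx⟩⟩ := hd.inter_open_nonempty _ hW' ⟨V.ι v, v, hvW, rfl⟩
    refine ⟨w, hw, x, ?_⟩
    apply V.ι.isOpenEmbedding.injective
    rw [← hx, ← hf', Scheme.Hom.comp_apply]
  have hsurj : Function.Surjective f' := by
    intro v
    have := hdense.closure_range
    rw [f'.isClosedEmbedding.isClosed_range.closure_eq] at this
    have hv : v ∈ Set.range f' := by rw [this]; exact Set.mem_univ v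
    exact hv
  have hrange : Set.range f = g ⁻¹' Set.range (f ≫ g) := by
    apply subset_antisymm
    · rintro _ ⟨x, rfl⟩
      exact ⟨x, Scheme.Hom.comp_apply f g x⟩
    · intro y hy
      obtain ⟨x, hx⟩ := hsurj ⟨y, hy⟩
      refine ⟨x, ?_⟩
      rw [← hf', Scheme.Hom.comp_apply, hx]
      rfl
  refine ⟨?_, hrange⟩
  have hopen : IsOpen (Set.range f) := by
    rw [hrange]
    exact (f ≫ g).isOpenEmbedding.isOpen_range.preimage g.continuous
  have : ∀ x, IsIso (f.stalkMap x) := fun x => IsLocalizing.isIso_stalkMap hf.1 x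
  exact IsOpenImmersion.of_isIso_stalkMap f ⟨IsLocImmersion.isEmbedding hf, hopen⟩

end Groth.Agent.Lib.LocImm
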