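import Groth.Agent.Lib.LocImm

/-! # Localizing immersions, part 2 (helper34): open immersion criteria -/

universe u
open CategoryTheory AlgebraicGeometry Limits

namespace Groth.Agent.Lib.LocImm
open _root_.LocImm

variable {X Y Y' : Scheme.{u}}

/-- In a locally Noetherian scheme, a closed set stable under generization is open. -/
lemma isOpen_of_isClosed_of_stableUnderGeneralization [IsLocallyNoetherian Y] (Z : Set Y)
    (hZ : IsClosed Z) (hg : StableUnderGeneralization Z) : IsOpen Z := by
  let U : Y.Opens := ⟨Zᶜ, hZ.isOpen_compl⟩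
  have hU : StableUnderSpecialization (U : Set Y) := by
    change StableUnderSpecialization Zᶜ
    rwa [stableUnderSpecialization_compl_iff]
  have hsp : SpecializingMap U.ι := by
    intro u y huy
    have huy' : U.ι u ⤳ y := huy
    have hy : y ∈ (U : Set Y) := hU huy' u.2
    let y' : (U : Scheme) := ⟨y, hy⟩
    refine ⟨y', ?_, rfl⟩
    change u ⤳ y'
    rw [← U.ι.isOpenEmbedding.isInducing.specializes_iff]
    exact huy'
  have hcl : IsClosedMap U.ι := (isClosedMap_iff_specializingMap U.ι).2 hsp
  have : IsClosed (Set.range U.ι) := hcl.isClosed_range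
  rw [Scheme.Opens.range_ι] at this
  have h2 : IsClosed Zᶜ := this
  simpa using h2.isOpen_compl

theorem IsLocImmersion.isOpenImmersion_of_isClosed_range [IsLocallyNoetherian Y] {f : X ⟶ Y}
    [QuasiCompact f] (hf : IsLocImmersion f) (hc : IsClosed (Set.range f)) :
    IsOpenImmersion f := by
  have hflat : Flat f := IsLocalizing.flat hf.1
  have hgen : GeneralizingMap f := Flat.generalizingMap f
  have hopen : IsOpen (Set.range f) :=
    isOpen_of_isClosed_of_stableUnderGeneralization _ hc hgen.stableUnderGeneralization_range
  have : ∀ x, IsIso (f.stalkMap x) := fun x => IsLocalizing.isIso_stalkMap hf.1 x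
  exact IsOpenImmersion.of_isIso_stalkMap f ⟨IsLocImmersion.isEmbedding hf, hopen⟩

theorem IsLocImmersion.isOpenImmersion_of_locallyOfFiniteType [IsLocallyNoetherian Y] {f : X ⟶ Y}
    [LocallyOfFiniteType f] (hf : IsLocImmersion f) : IsOpenImmersion f := by
  have hflat : Flat f := IsLocalizing.flat hf.1
  have := IsLocImmersion.mono hf
  exact IsOpenImmersion.of_flat_of_mono f

end Groth.Agent.Lib.LocImm
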