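import Groth.Agent.Lib.LocImm2

/-! # Localizing immersions, part 3 (helper34): affine-local structure, ideal sheaves -/

universe u
open CategoryTheory AlgebraicGeometry Limits

namespace Groth.Agent.Lib.LocImm
open _root_.LocImm

variable {X Y Y' : Scheme.{u}}


lemma isLocHom_res_basicOpen {X : Scheme.{u}} {U : X.Opens} (hU : IsAffineOpen U) (a : Γ(X, U)) :
    IsLocHom (X.presheaf.map (homOfLE (X.basicOpen_le a)).op).hom := by
  have := hU.isLocalization_basicOpen a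
  exact isLocHom_algebraMap (Submonoid.powers a)

lemma isLocHom_app_of_appLE (f : X ⟶ Y) (D : Y.Opens) (V' : X.Opens) (h : V' = f ⁻¹ᵁ D)
    (e' : V' ≤ f ⁻¹ᵁ D) (hl : IsLocHom (f.appLE D V' e').hom) : IsLocHom (f.app D).hom := by
  subst h
  rwa [Scheme.Hom.appLE_eq_app] at hl

theorem IsLocImmersion.exists_affine_nhd {f : X ⟶ Y} [QuasiCompact f] (hf : IsLocImmersion f)
    (x : X) : ∃ V : Y.Opens, f x ∈ V ∧ IsAffineOpen V ∧ IsAffineOpen (f ⁻¹ᵁ V) ∧
      IsLocHom (f.app V).hom := by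
  obtain ⟨U, V, hxV, e, hloc⟩ := hf.1 x
  have hemb := IsLocImmersion.isEmbedding hf
  obtain ⟨W', hW'open, hW'⟩ := hemb.isInducing.isOpen_iff.1 V.1.isOpen
  have hfxW : f x ∈ W' := by
    have : x ∈ f ⁻¹' W' := by rw [hW']; exact hxV
    exact this
  have hfxU : f x ∈ U.1 := e hxV
  obtain ⟨a, ha1, ha2⟩ := U.2.exists_basicOpen_le (V := ⟨W', hW'open⟩) ⟨f x, hfxW⟩ hfxU
  set D : Y.Opens := Y.basicOpen a with hD
  have hDU : D ≤ U.1 := Y.basicOpen_le a
  set φ := f.appLE U V e with hφ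
  have hpre : f ⁻¹ᵁ D = X.basicOpen (φ.hom a) := by
    have h1 : f ⁻¹ᵁ D = X.basicOpen (f.app U a) := Scheme.preimage_basicOpen f a
    have h2 : X.basicOpen (φ.hom a) = V.1 ⊓ X.basicOpen (f.app U a) := by
      rw [hφ, Scheme.Hom.appLE]
      exact Scheme.basicOpen_res _ _ _
    have h3 : f ⁻¹ᵁ D ≤ V.1 := by
      intro z hz
      have hz' : f z ∈ W' := ha1 hz
      have : z ∈ f ⁻¹' W' := hz'
      rw [hW'] at this
      exact this
    rw [h2, ← h1]
    exact (inf_eq_right.2 h3).symm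
  refine ⟨D, ha2, U.2.basicOpen a, ?_, ?_⟩
  · rw [hpre]
    exact V.2.basicOpen _
  · have e' : X.basicOpen (φ.hom a) ≤ f ⁻¹ᵁ D := hpre.ge
    refine isLocHom_app_of_appLE f D _ hpre.symm e' ?_
    have hρY := isLocHom_res_basicOpen U.2 a
    have hρX := isLocHom_res_basicOpen V.2 (φ.hom a)
    refine IsLocHom.of_comp hρY ?_
    have heq : Y.presheaf.map (homOfLE hDU).op ≫ f.appLE D (X.basicOpen (φ.hom a)) e' =
        φ ≫ X.presheaf.map (homOfLE (X.basicOpen_le (φ.hom a))).op := by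
      rw [Scheme.Hom.map_appLE]
      exact (Scheme.Hom.appLE_map f e _).symm
    have heq' : (f.appLE D (X.basicOpen (φ.hom a)) e').hom.comp
        (Y.presheaf.map (homOfLE hDU).op).hom =
        (X.presheaf.map (homOfLE (X.basicOpen_le (φ.hom a))).op).hom.comp φ.hom := by
      rw [← CommRingCat.hom_comp, ← CommRingCat.hom_comp, heq]
    rw [heq']
    exact IsLocHom.comp hloc hρX



theorem isLocImmersion_of_forall_exists_affine_nhd {f : X ⟶ Y}
    (h : ∀ x : X, ∃ V : Y.Opens, f x ∈ V ∧ IsAffineOpen V ∧ IsAffineOpen (f ⁻¹ᵁ V) ∧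
      IsLocHom (f.app V).hom) : IsLocImmersion f := by
  refine ⟨fun x => ?_, fun x x' hxx' => ?_⟩
  · obtain ⟨V, hxV, hV, hV', hl⟩ := h x
    exact ⟨⟨V, hV⟩, ⟨f ⁻¹ᵁ V, hV'⟩, hxV, le_rfl, by rwa [Scheme.Hom.appLE_eq_app]⟩
  · obtain ⟨V, hxV, hV, hV', hl⟩ := h x
    have hx'V : x' ∈ f ⁻¹ᵁ V := by
      change f x' ∈ V
      rw [← hxx']
      exact hxV
    have hmono := mono_resLE_of_isLocHom f ⟨V, hV⟩ ⟨f ⁻¹ᵁ V, hV'⟩ le_rfl
      (by rwa [Scheme.Hom.appLE_eq_app])
    have hinj : Function.Injective (f.resLE V (f ⁻¹ᵁ V) le_rfl) := Scheme.Hom.injective _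
    have hxV' : x ∈ f ⁻¹ᵁ V := hxV
    let p : ((f ⁻¹ᵁ V : X.Opens) : Scheme) := ⟨x, hxV'⟩
    let p' : ((f ⁻¹ᵁ V : X.Opens) : Scheme) := ⟨x', hx'V⟩
    have hres : ∀ q : ((f ⁻¹ᵁ V : X.Opens) : Scheme),
        V.ι (f.resLE V (f ⁻¹ᵁ V) le_rfl q) = f ((f ⁻¹ᵁ V).ι q) := by
      intro q
      have := congr(($(Scheme.Hom.resLE_comp_ι f (le_refl (f ⁻¹ᵁ V)))) q)
      rwa [Scheme.Hom.comp_apply, Scheme.Hom.comp_apply] at this
    have key : p = p' := hinj (by
      apply V.ι.injective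
      rw [hres, hres]
      exact hxx')
    exact congrArg Subtype.val key




lemma eq_bot_of_map_eq_bot {P W : Scheme.{u}} (j : P ⟶ W) [QuasiCompact j]
    (hj : IsLocImmersion j) (K : P.IdealSheafData) (hK : K.map j = ⊥) : K = ⊥ := by
  choose V hjV hV hV' hl using fun p => IsLocImmersion.exists_affine_nhd hj p
  refine Scheme.IdealSheafData.ext_of_iSup_eq_top
    (fun p : P => (⟨j ⁻¹ᵁ V p, hV' p⟩ : P.affineOpens)) ?_ ?_
  · rw [eq_top_iff]
    intro p _
    exact TopologicalSpace.Opens.mem_iSup.2 ⟨p, hjV p⟩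
  · intro p
    have h1 := Scheme.IdealSheafData.ideal_map K j ⟨V p, hV p⟩ (hV' p)
    rw [hK] at h1
    simp only [Scheme.IdealSheafData.ideal_bot, Pi.bot_apply] at h1 ⊢
    let := (j.app (V p)).hom.toAlgebra
    obtain ⟨S, hS⟩ := hl p
    have h2 := IsLocalization.map_under S Γ(P, j ⁻¹ᵁ V p) (K.ideal ⟨_, hV' p⟩)
    rw [← h2]
    have h3 : Ideal.under Γ(W, V p) (K.ideal ⟨_, hV' p⟩) = ⊥ :=
      h1.symm
    rw [h3, Ideal.map_bot]

lemma ker_toImage_eq_bot {X Y : Scheme.{u}} (g : X ⟶ Y) [QuasiCompact g] : g.toImage.ker = ⊥ := by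
  refine Scheme.IdealSheafData.ext_of_iSup_eq_top (fun U : Y.affineOpens =>
    (⟨g.imageι ⁻¹ᵁ U.1, U.2.preimage g.imageι⟩ : g.image.affineOpens)) ?_ ?_
  · rw [eq_top_iff]
    intro z _
    have hz : g.imageι z ∈ (⊤ : Y.Opens) := trivial
    rw [← iSup_affineOpens_eq_top Y] at hz
    obtain ⟨U, hU⟩ := TopologicalSpace.Opens.mem_iSup.1 hz
    exact TopologicalSpace.Opens.mem_iSup.2 ⟨U, hU⟩
  · intro U
    rw [Scheme.Hom.ker_apply]
    simp only [Scheme.IdealSheafData.ideal_bot, Pi.bot_apply]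
    exact (RingHom.injective_iff_ker_eq_bot _).1 (g.toImage_app_injective U)

theorem IsLocImmersion.comap_map_eq {f : X ⟶ Y} [QuasiCompact f] (hf : IsLocImmersion f)
    (I : X.IdealSheafData) : (I.map f).comap f = I := by
  set J := I.map f with hJ
  let g := I.subschemeι ≫ f
  have hJg : J = g.ker := rfl
  have hcond : I.subschemeι ≫ f = g.toImage ≫ J.subschemeι := (Scheme.Hom.toImage_imageι g).symm
  let t : I.subscheme ⟶ pullback f J.subschemeι := pullback.lift I.subschemeι g.toImage hcond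
  have ht1 : t ≫ pullback.fst f J.subschemeι = I.subschemeι := pullback.lift_fst _ _ _
  have ht2 : t ≫ pullback.snd f J.subschemeι = g.toImage := pullback.lift_snd _ _ _
  have : IsClosedImmersion (t ≫ pullback.fst f J.subschemeι) := by rw [ht1]; infer_instance
  have htc : IsClosedImmersion t := IsClosedImmersion.of_comp t (pullback.fst f J.subschemeι)
  have hsnd : IsLocImmersion (pullback.snd f J.subschemeι) := IsLocImmersion.pullback_snd _ hf
  have hker : t.ker = ⊥ := by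
    apply eq_bot_of_map_eq_bot (pullback.snd f J.subschemeι) hsnd
    rw [Scheme.IdealSheafData.map_ker, ht2]
    exact ker_toImage_eq_bot g
  have hiso : IsIso t := IsClosedImmersion.isIso_iff_ker_eq_bot.2 hker
  have hfst : pullback.fst f J.subschemeι = inv t ≫ I.subschemeι := by
    rw [← ht1, IsIso.inv_hom_id_assoc]
  change (pullback.fst f J.subschemeι).ker = I
  rw [hfst, Scheme.Hom.ker_comp_of_isIso, Scheme.IdealSheafData.ker_subschemeι]

end Groth.Agent.Lib.LocImm
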