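import Groth.Agent.Lib.LocImm3

/-! # Localizing immersions, part 4 (helper34): separated localizing morphisms injective on maximal points -/

universe u
open CategoryTheory AlgebraicGeometry Limits

namespace Groth.Agent.Lib.LocImm
open _root_.LocImm

variable {X Y Y' : Scheme.{u}}

lemma exists_maximal_generalization {α : Type*} [TopologicalSpace α] [QuasiSober α] [T0Space α]
    (x : α) : ∃ z : α, z ⤳ x ∧ ∀ z', z' ⤳ z → z' = z := by
  have hirr := isIrreducible_irreducibleComponent (x := x)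
  have hcl : IsClosed (irreducibleComponent x) := isClosed_irreducibleComponent
  have hz : IsGenericPoint hirr.genericPoint (irreducibleComponent x) :=
    hirr.isGenericPoint_genericPoint hcl
  refine ⟨hirr.genericPoint, hz.specializes mem_irreducibleComponent, fun z' hz' => ?_⟩
  have h1 : irreducibleComponent x ⊆ closure {z'} := by
    rw [← hz.def]
    exact specializes_iff_closure_subset.1 hz'
  have h2 : closure {z'} = irreducibleComponent x :=
    eq_irreducibleComponent isIrreducible_singleton.closure.isPreirreducible h1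
  exact IsGenericPoint.eq (isGenericPoint_def.2 h2) hz

set_option backward.isDefEq.respectTransparency.types false in
theorem IsLocImmersion.pullback_fst (f : X ⟶ Y) {g : Y' ⟶ Y} (hg : IsLocImmersion g) :
    IsLocImmersion (pullback.fst f g) := by
  have := IsLocImmersion.mono hg
  exact ⟨MorphismProperty.pullback_fst (P := @IsLocalizing.{u}) f g hg.1,
    (pullback.fst f g).injective⟩

set_option backward.isDefEq.respectTransparency.types false in
/-- restriction of a localizing morphism to a "chart" is a localizing immersion -/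
lemma isLocImmersion_ι_comp {f : X ⟶ Y} (hf : IsLocalizing f) (U : Y.affineOpens)
    (V : X.affineOpens) (e : V.1 ≤ f ⁻¹ᵁ U.1) (h : IsLocHom (f.appLE U V e).hom) :
    IsLocImmersion (V.1.ι ≫ f) := by
  have hmono := mono_resLE_of_isLocHom f U V e h
  have heq : V.1.ι ≫ f = f.resLE U V e ≫ U.1.ι := (Scheme.Hom.resLE_comp_ι f e).symm
  have : Mono (V.1.ι ≫ f) := by rw [heq]; infer_instance
  exact ⟨IsZariskiLocalAtSource.comp (P := @IsLocalizing.{u}) hf V.1.ι, (V.1.ι ≫ f).injective⟩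

/-- A separated localizing morphism which is injective on maximal points is injective. -/
theorem IsLocalizing.injective_of_isSeparated {f : X ⟶ Y} (hf : IsLocalizing f) [IsSeparated f]
    (hinj : Set.InjOn (fun x => f x) {x : X | ∀ x' : X, x' ⤳ x → x' = x}) :
    Function.Injective f := by
  intro x₁ x₂ hx
  obtain ⟨U₁, V₁, hx₁, e₁, hl₁⟩ := hf x₁
  obtain ⟨U₂, V₂, hx₂, e₂, hl₂⟩ := hf x₂
  have hj₁ := isLocImmersion_ι_comp hf U₁ V₁ e₁ hl₁
  have hj₂ := isLocImmersion_ι_comp hf U₂ V₂ e₂ hl₂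
  generalize hj₁def : V₁.1.ι ≫ f = j₁ at hj₁
  generalize hj₂def : V₂.1.ι ≫ f = j₂ at hj₂
  have hq₁ : IsLocImmersion (pullback.fst j₁ j₂) := IsLocImmersion.pullback_fst j₁ hj₂
  have hq₂ : IsLocImmersion (pullback.snd j₁ j₂) := IsLocImmersion.pullback_snd j₂ hj₁
  let p₁ : (V₁.1 : Scheme) := ⟨x₁, hx₁⟩
  let p₂ : (V₂.1 : Scheme) := ⟨x₂, hx₂⟩
  have hp : j₁ p₁ = j₂ p₂ := by
    simp only [← hj₁def, ← hj₂def, Scheme.Hom.comp_apply]
    exact hx
  obtain ⟨ω, hω₁, hω₂⟩ := Scheme.Pullback.exists_preimage_pullback p₁ p₂ hp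
  obtain ⟨ζ, hζω, hζmax⟩ := exists_maximal_generalization ω
  obtain ⟨c, hcc, hc₁, hc₂⟩ : ∃ c : pullback V₁.1.ι V₂.1.ι ⟶ pullback j₁ j₂,
      IsClosedImmersion c ∧ c ≫ pullback.fst j₁ j₂ = pullback.fst V₁.1.ι V₂.1.ι ∧
      c ≫ pullback.snd j₁ j₂ = pullback.snd V₁.1.ι V₂.1.ι := by
    subst hj₁def hj₂def
    exact ⟨pullback.mapDesc V₁.1.ι V₂.1.ι f, inferInstance,
      (pullback.lift_fst _ _ _).trans (Category.comp_id _),
      (pullback.lift_snd _ _ _).trans (Category.comp_id _)⟩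
  -- maximality of images
  have hmax : ∀ (V : X.Opens) (q : pullback j₁ j₂ ⟶ (V : Scheme)) (hq : Flat q),
      ∀ x' : X, x' ⤳ V.ι (q ζ) → x' = V.ι (q ζ) := by
    intro V q hq x' hx'
    have hgen : GeneralizingMap q := Flat.generalizingMap q
    have hx'V : x' ∈ V := V.2.stableUnderGeneralization hx' (q ζ).2
    let x'' : (V : Scheme) := ⟨x', hx'V⟩
    have h1 : x'' ⤳ q ζ := by
      rw [← V.ι.isOpenEmbedding.isInducing.specializes_iff]
      exact hx'
    obtain ⟨ζ', hζ', hqζ'⟩ := hgen h1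
    have : ζ' = ζ := hζmax ζ' hζ'
    subst this
    change V.ι x'' = _
    rw [hqζ']
  have hm₁ := hmax V₁.1 (pullback.fst j₁ j₂) (IsLocalizing.flat hq₁.1)
  have hm₂ := hmax V₂.1 (pullback.snd j₁ j₂) (IsLocalizing.flat hq₂.1)
  have hfζ : f (V₁.1.ι (pullback.fst j₁ j₂ ζ)) = f (V₂.1.ι (pullback.snd j₁ j₂ ζ)) := by
    have := congr(($(pullback.condition (f := j₁) (g := j₂))) ζ)
    simpa [← hj₁def, ← hj₂def, Scheme.Hom.comp_apply] using this
  have hξ : V₁.1.ι (pullback.fst j₁ j₂ ζ) = V₂.1.ι (pullback.snd j₁ j₂ ζ) := hinj hm₁ hm₂ hfζ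
  obtain ⟨w, hw₁, hw₂⟩ := Scheme.Pullback.exists_preimage_pullback _ _ hξ
  have hcw : c w = ζ := by
    apply hq₁.2
    have := congr(($hc₁) w)
    rw [Scheme.Hom.comp_apply] at this
    change pullback.fst j₁ j₂ (c w) = pullback.fst j₁ j₂ ζ
    rw [this, hw₁]
  have hrange : ω ∈ Set.range c := by
    have hcl : IsClosed (Set.range c) := c.isClosedEmbedding.isClosed_range
    exact hζω.mem_closed hcl ⟨w, hcw⟩
  obtain ⟨w', rfl⟩ := hrange
  have h1 : pullback.fst V₁.1.ι V₂.1.ι w' = p₁ := by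
    rw [← hω₁, ← hc₁, Scheme.Hom.comp_apply]
  have h2 : pullback.snd V₁.1.ι V₂.1.ι w' = p₂ := by
    rw [← hω₂, ← hc₂, Scheme.Hom.comp_apply]
  have h3 := congr(($(pullback.condition (f := V₁.1.ι) (g := V₂.1.ι))) w')
  rw [Scheme.Hom.comp_apply, Scheme.Hom.comp_apply, h1, h2] at h3
  exact h3

end Groth.Agent.Lib.LocImm
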