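import Groth.Agent.Lib.LocImm4
import Groth.Prelude.Def_EssFT

/-! # Localizing immersions, part 5 (helper34): essentially finite type maps with an isomorphism on a stalk are localizing near the point -/

universe u
open CategoryTheory AlgebraicGeometry Limits

namespace Groth.Agent.Lib.LocImm
open _root_.LocImm

section RingLemma

variable {A B' : Type*} [CommRing A] [CommRing B'] (ψ : A →+* B')

/-- elements of `B'` that are fractions of elements of `A` with denominator a unit -/
def fracSubring : Subring B' where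
  carrier := {z | ∃ a m : A, IsUnit (ψ m) ∧ z * ψ m = ψ a}
  mul_mem' := by
    rintro z₁ z₂ ⟨a₁, m₁, h₁, e₁⟩ ⟨a₂, m₂, h₂, e₂⟩
    refine ⟨a₁ * a₂, m₁ * m₂, by rw [map_mul]; exact h₁.mul h₂, ?_⟩
    rw [map_mul, map_mul, ← e₁, ← e₂]; ring
  one_mem' := ⟨1, 1, by simp, by simp⟩
  add_mem' := by
    rintro z₁ z₂ ⟨a₁, m₁, h₁, e₁⟩ ⟨a₂, m₂, h₂, e₂⟩
    refine ⟨a₁ * m₂ + a₂ * m₁, m₁ * m₂, by rw [map_mul]; exact h₁.mul h₂, ?_⟩
    rw [map_mul, map_add, map_mul, map_mul, ← e₁, ← e₂]; ring
  zero_mem' := ⟨0, 1, by simp, by simp⟩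
  neg_mem' := by
    rintro z ⟨a, m, h, e⟩
    exact ⟨-a, m, h, by rw [map_neg, ← e]; ring⟩

lemma map_mem_fracSubring (a : A) : ψ a ∈ fracSubring ψ := ⟨a, 1, by simp, by simp⟩

lemma inv_mem_fracSubring {z w : B'} (hz : z ∈ fracSubring ψ) (hzw : z * w = 1) :
    w ∈ fracSubring ψ := by
  obtain ⟨a, m, h, e⟩ := hz
  have ha : IsUnit (ψ a) := by
    rw [← e]
    exact (IsUnit.of_mul_eq_one _ hzw).mul h
  refine ⟨m, a, ha, ?_⟩
  rw [← e]
  calc w * (z * ψ m) = (z * w) * ψ m := by ring
    _ = ψ m := by rw [hzw, one_mul]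

end RingLemma

theorem exists_isLocHom_away {A B : Type u} [CommRing A] [CommRing B] [Algebra A B]
    [IsNoetherianRing A] [hess : Algebra.EssFiniteType A B] (q : Ideal B) [q.IsPrime]
    (p' : Ideal A) [p'.IsPrime] (hpq : p' = q.comap (algebraMap A B))
    (hbij : Function.Bijective (Localization.localRingHom p' q (algebraMap A B) hpq)) :
    ∃ b ∉ q, ∀ (B' : Type u) [CommRing B'] [Algebra B B'] [IsLocalization.Away b B'],
      IsLocHom ((algebraMap B B').comp (algebraMap A B)) := by
  classical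
  subst hpq
  set φ := algebraMap A B with hφ
  set p := q.comap φ with hp
  obtain ⟨σ, hσ⟩ := (Algebra.essFiniteType_iff A B).1 hess
  -- the kernel of `A → A_p` is killed by a single element outside `p`
  have hK : ∃ u ∉ p, ∀ x : A, algebraMap A (Localization.AtPrime p) x = 0 → u * x = 0 := by
    obtain ⟨G, hG⟩ := (isNoetherianRing_iff_ideal_fg A).1 inferInstance
      (RingHom.ker (algebraMap A (Localization.AtPrime p)))
    have : ∀ g ∈ G, ∃ u : p.primeCompl, (u : A) * g = 0 := fun g hg => by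
      have : g ∈ RingHom.ker (algebraMap A (Localization.AtPrime p)) :=
        hG ▸ Ideal.subset_span hg
      exact (IsLocalization.map_eq_zero_iff p.primeCompl _ _).1 this
    choose! u hu using this
    refine ⟨∏ g ∈ G, (u g : A), ?_, ?_⟩
    · exact Submonoid.prod_mem p.primeCompl (fun g _ => (u g).2)
    · intro x hx
      have hxK : x ∈ RingHom.ker (algebraMap A (Localization.AtPrime p)) := hx
      rw [← hG] at hxK
      refine Submodule.span_induction ?_ ?_ ?_ ?_ hxK
      · intro g hg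
        obtain ⟨r, hr⟩ := Finset.dvd_prod_of_mem (fun g => (u g : A)) hg
        rw [hr, mul_comm _ r, mul_assoc, hu g hg, mul_zero]
      · simp
      · intro x y _ _ hx hy
        rw [mul_add, hx, hy, add_zero]
      · intro a x _ hx
        rw [smul_eq_mul, mul_left_comm, hx, mul_zero]
  obtain ⟨u, hup, hu⟩ := hK
  have hS : ∀ c : B, ∃ a s : A, ∃ b₀ : B, s ∉ p ∧ b₀ ∉ q ∧ b₀ * φ a = b₀ * (c * φ s) := by
    intro c
    obtain ⟨z, hz⟩ := hbij.2 (algebraMap B (Localization.AtPrime q) c)
    obtain ⟨a, s, rfl⟩ := IsLocalization.exists_mk'_eq p.primeCompl z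
    rw [Localization.localRingHom_mk', IsLocalization.mk'_eq_iff_eq_mul, ← map_mul,
      IsLocalization.eq_iff_exists q.primeCompl] at hz
    obtain ⟨b₀, hb₀⟩ := hz
    exact ⟨a, s, b₀, s.2, b₀.2, hb₀⟩
  choose a s b₀ hs hb₀ hab using hS
  have hφs : ∀ c, φ (s c) ∉ q := fun c h => hs c h
  have hφu : φ u ∉ q := fun h => hup h
  refine ⟨(∏ c ∈ σ, (b₀ c * φ (s c))) * φ u, ?_, fun B' _ _ _ => ?_⟩
  · refine ‹q.IsPrime›.mul_notMem ?_ hφu
    exact Submonoid.prod_mem q.primeCompl
      (fun c _ => ‹q.IsPrime›.mul_notMem (hb₀ c) (hφs c))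
  set b : B := (∏ c ∈ σ, (b₀ c * φ (s c))) * φ u with hb
  set ψ : A →+* B' := (algebraMap B B').comp φ with hψ
  have hunit : ∀ d : B, d ∣ b → IsUnit (algebraMap B B' d) := fun d hd =>
    isUnit_of_dvd_unit (map_dvd (algebraMap B B') hd) (IsLocalization.Away.algebraMap_isUnit b)
  have hdvd : ∀ c ∈ σ, b₀ c * φ (s c) ∣ b := fun c hc =>
    Dvd.dvd.mul_right (Finset.dvd_prod_of_mem (fun c => b₀ c * φ (s c)) hc) _
  -- images of generators are fractions
  have hgen : ∀ c ∈ σ, algebraMap B B' c ∈ fracSubring ψ := by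
    intro c hc
    have h1 : IsUnit (algebraMap B B' (b₀ c)) := hunit _ ((Dvd.intro _ rfl).trans (hdvd c hc))
    have h2 : IsUnit (ψ (s c)) := hunit _ ((Dvd.intro_left _ rfl).trans (hdvd c hc))
    refine ⟨a c, s c, h2, ?_⟩
    have := congrArg (algebraMap B B') (hab c)
    simp only [map_mul] at this
    exact (h1.mul_left_cancel this).symm
  have hadj : ∀ x ∈ Algebra.adjoin A (σ : Set B), algebraMap B B' x ∈ fracSubring ψ := by
    intro x hx
    induction hx using Algebra.adjoin_induction with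
    | mem x hx => exact hgen x hx
    | algebraMap r => exact map_mem_fracSubring ψ r
    | add x y _ _ hx hy => rw [map_add]; exact (fracSubring ψ).add_mem hx hy
    | mul x y _ _ hx hy => rw [map_mul]; exact (fracSubring ψ).mul_mem hx hy
  have hB : ∀ x : B, algebraMap B B' x ∈ fracSubring ψ := by
    intro x
    obtain ⟨t, ht, htu, hxt⟩ := hσ x
    have h1 := hadj _ hxt
    have h2 := hadj _ ht
    obtain ⟨t', ht'⟩ := htu.exists_right_inv
    have h3 : algebraMap B B' t' ∈ fracSubring ψ :=
      inv_mem_fracSubring ψ h2 (by rw [← map_mul, ht', map_one])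
    have : algebraMap B B' x = algebraMap B B' (x * t) * algebraMap B B' t' := by
      rw [← map_mul, mul_assoc, ht', mul_one]
    rw [this]
    exact (fracSubring ψ).mul_mem h1 h3
  have htop : ∀ z : B', z ∈ fracSubring ψ := by
    intro z
    obtain ⟨⟨x, ⟨_, k, rfl⟩⟩, hx⟩ := IsLocalization.surj (Submonoid.powers b) z
    simp only at hx
    have hbu : IsUnit (algebraMap B B' (b ^ k)) := by
      rw [map_pow]; exact (IsLocalization.Away.algebraMap_isUnit b).pow k
    obtain ⟨w, hw⟩ := hbu.exists_right_inv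
    have hwm : w ∈ fracSubring ψ := inv_mem_fracSubring ψ (hB _) hw
    have : z = algebraMap B B' x * w := by
      rw [← hx, mul_assoc, hw, mul_one]
    rw [this]
    exact (fracSubring ψ).mul_mem (hB x) hwm
  rw [isLocHom_iff]
  refine ⟨(IsUnit.submonoid B').comap ψ, fun y => y.2, fun z => ?_, fun {x y} hxy => ?_⟩
  · obtain ⟨a', m, hm, e⟩ := htop z
    exact ⟨(a', ⟨m, hm⟩), e⟩
  · -- kernel
    have hu' : IsUnit (ψ u) := hunit _ (Dvd.intro_left _ rfl)
    refine ⟨⟨u, hu'⟩, ?_⟩
    have h0 : ψ (x - y) = 0 := by rw [map_sub, hxy, sub_self]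
    -- map to B_q
    have hbq : b ∈ q.primeCompl := by
      refine ‹q.IsPrime›.mul_notMem ?_ hφu
      exact Submonoid.prod_mem q.primeCompl
        (fun c _ => ‹q.IsPrime›.mul_notMem (hb₀ c) (hφs c))
    have h1 : algebraMap B (Localization.AtPrime q) (φ (x - y)) = 0 := by
      have hlift := IsLocalization.Away.lift (S := B') b
        (g := algebraMap B (Localization.AtPrime q)) (IsLocalization.map_units _ ⟨b, hbq⟩)
      have := congrArg (IsLocalization.Away.lift (S := B') b
        (g := algebraMap B (Localization.AtPrime q)) (IsLocalization.map_units _ ⟨b, hbq⟩)) h0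
      simpa [hψ, IsLocalization.Away.lift_eq] using this
    have h2 : algebraMap A (Localization.AtPrime p) (x - y) = 0 := by
      apply hbij.1
      rw [Localization.localRingHom_to_map, map_zero]
      exact h1
    have := hu _ h2
    rw [mul_sub, sub_eq_zero] at this
    exact this

end Groth.Agent.Lib.LocImm
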