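import Groth.Agent.Lib.LocImm5

/-! # Localizing immersions, part 6 (helper34): a separated essentially-finite-type map under two
localizing immersions is a localizing immersion near the image -/

universe u
open CategoryTheory AlgebraicGeometry Limits

namespace Groth.Agent.Lib.LocImm
open _root_.LocImm

lemma exists_chart_of_isIso_stalkMap {Y₁ Y₂ : Scheme.{u}} [IsLocallyNoetherian Y₂] (g : Y₁ ⟶ Y₂)
    [hg : EssFT.LocallyEssFiniteType g] (y : Y₁) [hiso : IsIso (g.stalkMap y)] :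
    ∃ (U₂ : Y₂.affineOpens) (N : Y₁.affineOpens) (_ : y ∈ N.1) (e : N.1 ≤ g ⁻¹ᵁ U₂.1),
      IsLocHom (g.appLE U₂ N e).hom := by
  obtain ⟨U₂, V₁, hy, e, hess⟩ := hg.exists_appLE_essFiniteType y
  let φ := (g.appLE U₂ V₁ e).hom
  let _ : Algebra Γ(Y₂, U₂.1) Γ(Y₁, V₁.1) := φ.toAlgebra
  have hess' : Algebra.EssFiniteType Γ(Y₂, U₂.1) Γ(Y₁, V₁.1) := hess
  have hnoeth : IsNoetherianRing Γ(Y₂, U₂.1) := IsLocallyNoetherian.component_noetherian U₂
  have harrow := IsAffineOpen.arrowStalkMapIso g U₂.1 U₂.2 V₁.1 V₁.2 e hy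
  have hbij : Function.Bijective (Localization.localRingHom
      (U₂.2.primeIdealOf ⟨g y, e hy⟩).asIdeal (V₁.2.primeIdealOf ⟨y, hy⟩).asIdeal φ
      congr($(IsAffineOpen.comap_primeIdealOf_appLE U₂.1 U₂.2 V₁.1 V₁.2 e hy).1).symm) := by
    have h1 := ((MorphismProperty.isomorphisms CommRingCat).arrow_mk_iso_iff harrow).1
      ((MorphismProperty.isomorphisms.iff _).2 hiso)
    rw [MorphismProperty.isomorphisms.iff, ConcreteCategory.isIso_iff_bijective] at h1
    exact h1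
  obtain ⟨b, hbq, hb⟩ := exists_isLocHom_away (A := Γ(Y₂, U₂.1)) (B := Γ(Y₁, V₁.1))
    (V₁.2.primeIdealOf ⟨y, hy⟩).asIdeal (U₂.2.primeIdealOf ⟨g y, e hy⟩).asIdeal
    congr($(IsAffineOpen.comap_primeIdealOf_appLE U₂.1 U₂.2 V₁.1 V₁.2 e hy).1).symm hbij
  have hloc := V₁.2.isLocalization_basicOpen b
  have h2 := hb Γ(Y₁, Y₁.basicOpen b)
  refine ⟨U₂, ⟨Y₁.basicOpen b, V₁.2.basicOpen b⟩, ?_, (Y₁.basicOpen_le b).trans e, ?_⟩
  · -- y ∈ basicOpen b
    rw [Scheme.mem_basicOpen _ _ _ hy]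
    let _ := Y₁.presheaf.algebra_section_stalk ⟨y, hy⟩
    have := V₁.2.isLocalization_stalk ⟨y, hy⟩
    exact IsLocalization.map_units (M := (V₁.2.primeIdealOf ⟨y, hy⟩).asIdeal.primeCompl)
      (Y₁.presheaf.stalk y) ⟨b, hbq⟩
  · have heq : g.appLE U₂.1 (Y₁.basicOpen b) ((Y₁.basicOpen_le b).trans e) =
        g.appLE U₂ V₁ e ≫ Y₁.presheaf.map (homOfLE (Y₁.basicOpen_le b)).op :=
      (Scheme.Hom.appLE_map g e _).symm
    rw [heq, CommRingCat.hom_comp]
    exact h2


set_option backward.isDefEq.respectTransparency.types false in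
lemma isLocalizing_ι_comp_of_isLocHom {Y₁ Y₂ : Scheme.{u}} (g : Y₁ ⟶ Y₂) (U₂ : Y₂.affineOpens)
    (N : Y₁.affineOpens) (e : N.1 ≤ g ⁻¹ᵁ U₂.1) (h : IsLocHom (g.appLE U₂ N e).hom) :
    IsLocalizing (N.1.ι ≫ g) := by
  have heq : N.1.ι ≫ g = g.resLE U₂ N e ≫ U₂.1.ι := (Scheme.Hom.resLE_comp_ι g e).symm
  rw [heq]
  have : IsAffine (N.1 : Scheme) := N.2
  have : IsAffine (U₂.1 : Scheme) := U₂.2
  have h1 : IsLocalizing (g.resLE U₂ N e) := by
    rw [HasRingHomProperty.iff_of_isAffine (P := @IsLocalizing.{u})]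
    have hl := RingHom.locally_of isLocHom_respectsIso _ h
    have : (RingHom.toMorphismProperty (RingHom.Locally IsLocHom)).RespectsIso :=
      RingHom.toMorphismProperty_respectsIso_iff.mp (RingHom.locally_respectsIso isLocHom_respectsIso)
    exact (MorphismProperty.arrow_mk_iso_iff (RingHom.toMorphismProperty (RingHom.Locally IsLocHom))
      (arrowResLEAppIso g U₂ N e)).mpr hl
  have hid : RingHom.ContainsIdentities (RingHom.Locally IsLocHom) := by
    intro R _
    exact RingHom.locally_of isLocHom_respectsIso _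
      (isLocHom_of_bijective _ Function.bijective_id)
  have h2 : IsLocalizing U₂.1.ι :=
    HasRingHomProperty.of_isOpenImmersion (P := @IsLocalizing.{u}) hid
  exact IsLocalizing.comp h1 h2


lemma exists_genericPoints_specializes {α : Type*} [TopologicalSpace α] [QuasiSober α]
    [T0Space α] (x : α) : ∃ z ∈ genericPoints α, z ⤳ x ∧ ∀ z', z' ⤳ z → z' = z := by
  have hirr := isIrreducible_irreducibleComponent (x := x)
  have hcl : IsClosed (irreducibleComponent x) := isClosed_irreducibleComponent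
  have hz : IsGenericPoint hirr.genericPoint (irreducibleComponent x) :=
    hirr.isGenericPoint_genericPoint hcl
  refine ⟨hirr.genericPoint, ?_, hz.specializes mem_irreducibleComponent, fun z' hz' => ?_⟩
  · change closure {hirr.genericPoint} ∈ irreducibleComponents α
    rw [hz.def]
    exact irreducibleComponent_mem_irreducibleComponents x
  have h1 : irreducibleComponent x ⊆ closure {z'} := by
    rw [← hz.def]
    exact specializes_iff_closure_subset.1 hz'
  have h2 : closure {z'} = irreducibleComponent x :=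
    eq_irreducibleComponent isIrreducible_singleton.closure.isPreirreducible h1
  exact IsGenericPoint.eq (isGenericPoint_def.2 h2) hz

set_option backward.isDefEq.respectTransparency.types false in
theorem exists_open_isLocImmersion {X Y₁ Y₂ : Scheme.{u}} [IsNoetherian Y₁]
    [IsLocallyNoetherian Y₂]
    (f₁ : X ⟶ Y₁) (g : Y₁ ⟶ Y₂) (hf₁ : IsLocImmersion f₁) (hf₂ : IsLocImmersion (f₁ ≫ g))
    [IsSeparated g] [EssFT.LocallyEssFiniteType g] :
    ∃ U : Y₁.Opens, Set.range f₁ ⊆ U ∧ IsLocImmersion (U.ι ≫ g) := by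
  classical
  have hstalk : ∀ x : X, IsIso (g.stalkMap (f₁ x)) := by
    intro x
    have h1 : IsIso (f₁.stalkMap x) := IsLocalizing.isIso_stalkMap hf₁.1 x
    have h2 : IsIso ((f₁ ≫ g).stalkMap x) := IsLocalizing.isIso_stalkMap hf₂.1 x
    rw [Scheme.Hom.stalkMap_comp] at h2
    exact @IsIso.of_isIso_comp_right _ _ _ _ _ (g.stalkMap (f₁ x)) (f₁.stalkMap x) h1 h2
  choose U₂ N hN e hloc using fun x => exists_chart_of_isIso_stalkMap g (f₁ x) (hiso := hstalk x)
  let U₀ : Y₁.Opens := ⨆ x, (N x).1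
  have hfin : (genericPoints Y₁).Finite :=
    genericPoints.finite TopologicalSpace.NoetherianSpace.finite_irreducibleComponents
  let S : Set Y₁ := genericPoints Y₁ \ Set.range f₁
  have hSfin : S.Finite := hfin.subset Set.sdiff_subset
  have hclS : ∀ z ∈ closure S, ∃ ζ ∈ S, ζ ⤳ z := by
    intro z hz
    rw [← Set.biUnion_of_singleton S, hSfin.closure_biUnion] at hz
    obtain ⟨ζ, hζ, hz⟩ := Set.mem_iUnion₂.1 hz
    exact ⟨ζ, hζ, specializes_iff_mem_closure.2 hz⟩
  have hflat : Flat f₁ := IsLocalizing.flat hf₁.1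
  have hgenstable : StableUnderGeneralization (Set.range f₁) :=
    (Flat.generalizingMap f₁).stableUnderGeneralization_range
  let U : Y₁.Opens := U₀ ⊓ ⟨(closure S)ᶜ, isClosed_closure.isOpen_compl⟩
  have hrange : Set.range f₁ ⊆ U := by
    rintro _ ⟨x, rfl⟩
    refine ⟨TopologicalSpace.Opens.mem_iSup.2 ⟨x, hN x⟩, fun hx => ?_⟩
    obtain ⟨ζ, hζ, hζx⟩ := hclS _ hx
    exact hζ.2 (hgenstable hζx ⟨x, rfl⟩)
  refine ⟨U, hrange, ?_⟩
  have hlocU₀ : IsLocalizing (U₀.ι ≫ g) := by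
    let 𝒰 : (U₀ : Scheme).OpenCover :=
      { I₀ := X, X := fun x => ((N x).1 : Scheme),
        f := fun x => Y₁.homOfLE (le_iSup (fun x => (N x).1) x),
        mem₀ := by
          rw [Scheme.presieve₀_mem_precoverage_iff]
          refine ⟨fun u => ?_, inferInstance⟩
          obtain ⟨x, hx⟩ := TopologicalSpace.Opens.mem_iSup.1 u.2
          refine ⟨x, ⟨u.1, hx⟩, ?_⟩
          apply U₀.ι.injective
          rw [← Scheme.Hom.comp_apply, Scheme.homOfLE_ι]
          rfl }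
    rw [IsZariskiLocalAtSource.iff_of_openCover (P := @IsLocalizing.{u}) 𝒰]
    intro x
    change IsLocalizing (Y₁.homOfLE (le_iSup (fun x => (N x).1) x) ≫ U₀.ι ≫ g)
    rw [Scheme.homOfLE_ι_assoc]
    exact isLocalizing_ι_comp_of_isLocHom g (U₂ x) (N x) (e x) (hloc x)
  have hlocU : IsLocalizing (U.ι ≫ g) := by
    have : U.ι ≫ g = Y₁.homOfLE (inf_le_left : U ≤ U₀) ≫ U₀.ι ≫ g := by
      rw [Scheme.homOfLE_ι_assoc]
    rw [this]
    exact IsZariskiLocalAtSource.comp (P := @IsLocalizing.{u}) hlocU₀ _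
  have hmax : ∀ η : (U : Scheme), (∀ η' : (U : Scheme), η' ⤳ η → η' = η) →
      η.1 ∈ Set.range f₁ := by
    intro η hη
    obtain ⟨ζ, hζgp, hζη, hζmax⟩ := exists_genericPoints_specializes η.1
    by_cases hζr : ζ ∈ Set.range f₁
    · have hζU : ζ ∈ U := by
        refine ⟨U₀.2.stableUnderGeneralization hζη η.2.1, fun hcl => ?_⟩
        obtain ⟨ζ', hζ', hζ'ζ⟩ := hclS _ hcl
        have : ζ' = ζ := hζmax ζ' hζ'ζ
        exact hζ'.2 (this ▸ hζr)
      let ζU : (U : Scheme) := ⟨ζ, hζU⟩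
      have hsp : ζU ⤳ η := by
        rw [← U.ι.isOpenEmbedding.isInducing.specializes_iff]
        exact hζη
      have := hη ζU hsp
      rw [← this]
      exact hζr
    · exfalso
      have hηcl : η.1 ∈ closure S :=
        closure_mono (show ({ζ} : Set Y₁) ⊆ S from Set.singleton_subset_iff.2 ⟨hζgp, hζr⟩)
          (specializes_iff_mem_closure.1 hζη)
      exact η.2.2 hηcl
  refine ⟨hlocU, IsLocalizing.injective_of_isSeparated hlocU ?_⟩
  intro η₁ hη₁ η₂ hη₂ h12
  obtain ⟨x₁, hx₁⟩ := hmax η₁ hη₁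
  obtain ⟨x₂, hx₂⟩ := hmax η₂ hη₂
  have h12' : g η₁.1 = g η₂.1 := by
    have : (U.ι ≫ g) η₁ = (U.ι ≫ g) η₂ := h12
    rwa [Scheme.Hom.comp_apply, Scheme.Hom.comp_apply] at this
  have hx : (f₁ ≫ g) x₁ = (f₁ ≫ g) x₂ := by
    rw [Scheme.Hom.comp_apply, Scheme.Hom.comp_apply, hx₁, hx₂]
    exact h12'
  have hxx := hf₂.2 hx
  apply U.ι.injective
  change η₁.1 = η₂.1
  rw [← hx₁, ← hx₂, hxx]

end Groth.Agent.Lib.LocImm
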