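import Groth.Agent.Lib.LocImm6

/-! # Localizing immersions, part 7 (helper34): common open for two finite-type targets -/

universe u
open CategoryTheory AlgebraicGeometry Limits

namespace Groth.Agent.Lib.LocImm
open _root_.LocImm

instance (priority := 100) locallyEssFiniteType_of_locallyOfFiniteType {X Y : Scheme.{u}}
    (f : X ⟶ Y) [LocallyOfFiniteType f] : EssFT.LocallyEssFiniteType f := by
  constructor
  intro x
  obtain ⟨U, hU, hfx, _⟩ := TopologicalSpace.Opens.isBasis_iff_nbhd.mp Y.isBasis_affineOpens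
    (TopologicalSpace.Opens.mem_top <| f x)
  obtain ⟨V, hV, hx, e⟩ := TopologicalSpace.Opens.isBasis_iff_nbhd.mp X.isBasis_affineOpens
    (show x ∈ f ⁻¹ᵁ U from hfx)
  refine ⟨⟨U, hU⟩, ⟨V, hV⟩, hx, e, ?_⟩
  have hft := f.finiteType_appLE hU hV e
  let _ := (f.appLE U V e).hom.toAlgebra
  have : Algebra.FiniteType Γ(Y, U) Γ(X, V) := hft
  exact (inferInstance : Algebra.EssFiniteType Γ(Y, U) Γ(X, V))

set_option backward.isDefEq.respectTransparency.types false in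
theorem isLocImmersion_of_comp_of_ker_eq_bot {X Y Z : Scheme.{u}} (f : X ⟶ Y) (g : Y ⟶ Z)
    [QuasiCompact (f ≫ g)] (hfg : IsLocImmersion (f ≫ g)) [IsSeparated g] (hfker : f.ker = ⊥) :
    IsLocImmersion f := by
  have hsnd : IsLocImmersion (pullback.snd (f ≫ g) g) := IsLocImmersion.pullback_snd g hfg
  let Γ : X ⟶ pullback (f ≫ g) g := pullback.lift (𝟙 X) f (by simp)
  have hΓ1 : Γ ≫ pullback.fst (f ≫ g) g = 𝟙 X := pullback.lift_fst _ _ _
  have hΓ2 : Γ ≫ pullback.snd (f ≫ g) g = f := pullback.lift_snd _ _ _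
  have : IsClosedImmersion (Γ ≫ pullback.fst (f ≫ g) g) := by rw [hΓ1]; infer_instance
  have hΓc : IsClosedImmersion Γ := IsClosedImmersion.of_comp Γ (pullback.fst (f ≫ g) g)
  have hker : Γ.ker = ⊥ := by
    apply eq_bot_of_map_eq_bot (pullback.snd (f ≫ g) g) hsnd
    rw [Scheme.IdealSheafData.map_ker, hΓ2, hfker]
  have hiso : IsIso Γ := IsClosedImmersion.isIso_iff_ker_eq_bot.2 hker
  have hloc : IsLocalizing (Γ ≫ pullback.snd (f ≫ g) g) :=
    (MorphismProperty.cancel_left_of_respectsIso @IsLocalizing.{u} Γ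
      (pullback.snd (f ≫ g) g)).2 hsnd.1
  have hinj : Function.Injective (Γ ≫ pullback.snd (f ≫ g) g) := by
    have hc : (⇑(Γ ≫ pullback.snd (f ≫ g) g) : X → Y) = pullback.snd (f ≫ g) g ∘ Γ := by
      ext; simp
    rw [hc]
    exact hsnd.2.comp Γ.homeomorph.injective
  rw [hΓ2] at hloc hinj
  exact ⟨hloc, hinj⟩

set_option backward.isDefEq.respectTransparency.types false in
theorem exists_common_open {X Y₁ Y₂ S : Scheme.{u}} [IsNoetherian X] [IsNoetherian Y₁]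
    [IsNoetherian Y₂] (f₁ : X ⟶ Y₁) (f₂ : X ⟶ Y₂) (π₁ : Y₁ ⟶ S) (π₂ : Y₂ ⟶ S)
    (hf₁ : IsLocImmersion f₁) (hf₂ : IsLocImmersion f₂)
    [IsSeparated π₁] [IsSeparated π₂] [LocallyOfFiniteType π₁] [LocallyOfFiniteType π₂]
    (h : f₁ ≫ π₁ = f₂ ≫ π₂) :
    ∃ (W : Scheme.{u}) (k : X ⟶ W) (g₁ : W ⟶ Y₁) (g₂ : W ⟶ Y₂), IsLocImmersion k ∧
      IsOpenImmersion g₁ ∧ IsOpenImmersion g₂ ∧ g₁ ≫ π₁ = g₂ ≫ π₂ ∧ k ≫ g₁ = f₁ ∧ k ≫ g₂ = f₂ := by
  let hh : X ⟶ pullback π₁ π₂ := pullback.lift f₁ f₂ h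
  have hh1 : hh ≫ pullback.fst π₁ π₂ = f₁ := pullback.lift_fst _ _ _
  have hh2 : hh ≫ pullback.snd π₁ π₂ = f₂ := pullback.lift_snd _ _ _
  let k' : X ⟶ hh.image := hh.toImage
  have hk'ι : k' ≫ hh.imageι = hh := hh.toImage_imageι
  let p₁ : hh.image ⟶ Y₁ := hh.imageι ≫ pullback.fst π₁ π₂
  let p₂ : hh.image ⟶ Y₂ := hh.imageι ≫ pullback.snd π₁ π₂
  have hkp₁ : k' ≫ p₁ = f₁ := by simp only [p₁, ← Category.assoc, hk'ι, hh1]
  have hkp₂ : k' ≫ p₂ = f₂ := by simp only [p₂, ← Category.assoc, hk'ι, hh2]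
  have hkerk' : k'.ker = ⊥ := ker_toImage_eq_bot hh
  have hk' : IsLocImmersion k' := by
    have : IsLocImmersion (k' ≫ p₁) := by rw [hkp₁]; exact hf₁
    exact isLocImmersion_of_comp_of_ker_eq_bot k' p₁ this hkerk'
  have : QuasiCompact π₁ := inferInstance
  have : QuasiCompact π₂ := inferInstance
  have hnoeth : IsNoetherian hh.image := by
    have h1 : IsLocallyNoetherian hh.image := LocallyOfFiniteType.isLocallyNoetherian p₁
    have h2 : CompactSpace hh.image := QuasiCompact.compactSpace_of_compactSpace p₁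
    exact { }
  obtain ⟨U₁, hU₁, hU₁l⟩ := exists_open_isLocImmersion k' p₁ hk' (by rw [hkp₁]; exact hf₁)
  obtain ⟨U₂, hU₂, hU₂l⟩ := exists_open_isLocImmersion k' p₂ hk' (by rw [hkp₂]; exact hf₂)
  have ho₁ : IsOpenImmersion (U₁.ι ≫ p₁) :=
    IsLocImmersion.isOpenImmersion_of_locallyOfFiniteType hU₁l
  have ho₂ : IsOpenImmersion (U₂.ι ≫ p₂) :=
    IsLocImmersion.isOpenImmersion_of_locallyOfFiniteType hU₂l
  let W : hh.image.Opens := U₁ ⊓ U₂
  have hW : Set.range k' ⊆ W := fun z hz => ⟨hU₁ hz, hU₂ hz⟩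
  let k : X ⟶ W := IsOpenImmersion.lift W.ι k' (by simpa using hW)
  have hk : k ≫ W.ι = k' := IsOpenImmersion.lift_fac _ _ _
  refine ⟨W, k, W.ι ≫ p₁, W.ι ≫ p₂, ?_, ?_, ?_, ?_, ?_, ?_⟩
  · refine ⟨MorphismProperty.of_postcomp (W := @IsLocalizing.{u}) (W' := @IsOpenImmersion) k W.ι
      inferInstance (by rw [hk]; exact hk'.1), ?_⟩
    have hi : Function.Injective (k ≫ W.ι) := by rw [hk]; exact hk'.2
    have hc : (⇑(k ≫ W.ι) : X → hh.image) = W.ι ∘ k := by ext; simp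
    rw [hc] at hi
    exact hi.of_comp
  · have : W.ι ≫ p₁ = hh.image.homOfLE (inf_le_left : W ≤ U₁) ≫ (U₁.ι ≫ p₁) := by
      rw [Scheme.homOfLE_ι_assoc]
    rw [this]
    infer_instance
  · have : W.ι ≫ p₂ = hh.image.homOfLE (inf_le_right : W ≤ U₂) ≫ (U₂.ι ≫ p₂) := by
      rw [Scheme.homOfLE_ι_assoc]
    rw [this]
    infer_instance
  · simp only [p₁, p₂, Category.assoc, pullback.condition]
  · rw [← Category.assoc, hk, hkp₁]
  · rw [← Category.assoc, hk, hkp₂]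

end Groth.Agent.Lib.LocImm
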