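import Groth.Agent.Lib.LocImm8

/-! # Localizing immersions, part 9 (helper34): gluing two factorizations -/

universe u
open CategoryTheory AlgebraicGeometry Limits

namespace Groth.Agent.Lib.LocImm
open _root_.LocImm

lemma isNoetherian_opens {X : Scheme.{u}} [IsNoetherian X] (U : X.Opens) :
    IsNoetherian (U : Scheme.{u}) := by
  have h1 : IsLocallyNoetherian (U : Scheme.{u}) := inferInstance
  have h2 : CompactSpace (U : Scheme.{u}) :=
    isCompact_iff_compactSpace.mp (TopologicalSpace.NoetherianSpace.isCompact (U : Set X))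
  exact { }

lemma exists_finite_generic {α : Type*} [TopologicalSpace α] [TopologicalSpace.NoetherianSpace α]
    [QuasiSober α] {Z : Set α} (hZ : IsClosed Z) :
    ∃ G : Set α, G.Finite ∧ G ⊆ Z ∧ ∀ z ∈ Z, ∃ ζ ∈ G, ζ ⤳ z := by
  obtain ⟨S, hSf, hSc, hSi, rfl⟩ :=
    TopologicalSpace.NoetherianSpace.exists_finite_set_isClosed_irreducible hZ
  choose gp hgp using fun t : S => QuasiSober.sober (hSi t.1 t.2) (hSc t.1 t.2)
  have : Finite S := hSf.to_subtype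
  refine ⟨Set.range gp, Set.finite_range gp, ?_, ?_⟩
  · rintro _ ⟨t, rfl⟩
    exact ⟨t.1, t.2, (hgp t).mem⟩
  · rintro z ⟨t, ht, hzt⟩
    exact ⟨gp ⟨t, ht⟩, ⟨⟨t, ht⟩, rfl⟩, (hgp ⟨t, ht⟩).specializes hzt⟩

set_option backward.isDefEq.respectTransparency.types false in
theorem exists_common_open' {X Y₁ Y₂ S : Scheme.{u}} [IsNoetherian X] [IsNoetherian Y₁]
    [IsNoetherian Y₂] (f₁ : X ⟶ Y₁) (f₂ : X ⟶ Y₂) (π₁ : Y₁ ⟶ S) (π₂ : Y₂ ⟶ S)
    (hf₁ : IsLocImmersion f₁) (hf₂ : IsLocImmersion f₂)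
    [IsSeparated π₁] [IsSeparated π₂] [LocallyOfFiniteType π₁] [LocallyOfFiniteType π₂]
    (h : f₁ ≫ π₁ = f₂ ≫ π₂) (N₁ : Y₁.Opens) (hN₁ : Set.range f₁ ⊆ N₁) :
    ∃ (W : Scheme.{u}) (k : X ⟶ W) (g₁ : W ⟶ Y₁) (g₂ : W ⟶ Y₂) (hg : g₁ ≫ π₁ = g₂ ≫ π₂),
      IsLocImmersion k ∧ IsOpenImmersion g₁ ∧ IsOpenImmersion g₂ ∧ k ≫ g₁ = f₁ ∧ k ≫ g₂ = f₂ ∧
      Set.range g₁ ⊆ N₁ ∧
      Set.range (pullback.lift g₁ g₂ hg) ⊆ closure (Set.range (pullback.lift f₁ f₂ h)) ∧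
      IsClosed (closure (Set.range (pullback.lift f₁ f₂ h)) \ Set.range (pullback.lift g₁ g₂ hg)) := by
  let hh : X ⟶ pullback π₁ π₂ := pullback.lift f₁ f₂ h
  have hh1 : hh ≫ pullback.fst π₁ π₂ = f₁ := pullback.lift_fst _ _ _
  have hh2 : hh ≫ pullback.snd π₁ π₂ = f₂ := pullback.lift_snd _ _ _
  let k' : X ⟶ hh.image := hh.toImage
  have hk'ι : k' ≫ hh.imageι = hh := hh.toImage_imageι
  let p₁ : hh.image ⟶ Y₁ := hh.imageι ≫ pullback.fst π₁ π₂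
  let p₂ : hh.image ⟶ Y₂ := hh.imageι ≫ pullback.snd π₁ π₂
  have hkp₁ : k' ≫ p₁ = f₁ := by simp only [p₁, ← Category.assoc, hk'ι, hh1]
  have hkp₂ : k' ≫ p₂ = f₂ := by simp only [p₂, ← Category.assoc, hk'ι, hh2]
  have hkerk' : k'.ker = ⊥ := ker_toImage_eq_bot hh
  have hk' : IsLocImmersion k' := by
    have : IsLocImmersion (k' ≫ p₁) := by rw [hkp₁]; exact hf₁
    exact isLocImmersion_of_comp_of_ker_eq_bot k' p₁ this hkerk'
  have : QuasiCompact π₁ := inferInstance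
  have : QuasiCompact π₂ := inferInstance
  have hnoeth : IsNoetherian hh.image := by
    have h1 : IsLocallyNoetherian hh.image := LocallyOfFiniteType.isLocallyNoetherian p₁
    have h2 : CompactSpace hh.image := QuasiCompact.compactSpace_of_compactSpace p₁
    exact { }
  obtain ⟨U₁, hU₁, hU₁l⟩ := exists_open_isLocImmersion k' p₁ hk' (by rw [hkp₁]; exact hf₁)
  obtain ⟨U₂, hU₂, hU₂l⟩ := exists_open_isLocImmersion k' p₂ hk' (by rw [hkp₂]; exact hf₂)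
  have ho₁ : IsOpenImmersion (U₁.ι ≫ p₁) :=
    IsLocImmersion.isOpenImmersion_of_locallyOfFiniteType hU₁l
  have ho₂ : IsOpenImmersion (U₂.ι ≫ p₂) :=
    IsLocImmersion.isOpenImmersion_of_locallyOfFiniteType hU₂l
  let W : hh.image.Opens := (U₁ ⊓ U₂) ⊓ (p₁ ⁻¹ᵁ N₁)
  have hW : Set.range k' ⊆ W := by
    rintro z ⟨x, rfl⟩
    refine ⟨⟨hU₁ ⟨x, rfl⟩, hU₂ ⟨x, rfl⟩⟩, ?_⟩
    change p₁ (k' x) ∈ N₁
    rw [← Scheme.Hom.comp_apply, hkp₁]
    exact hN₁ ⟨x, rfl⟩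
  let k : X ⟶ W := IsOpenImmersion.lift W.ι k' (by simpa using hW)
  have hk : k ≫ W.ι = k' := IsOpenImmersion.lift_fac _ _ _
  have hg : (W.ι ≫ p₁) ≫ π₁ = (W.ι ≫ p₂) ≫ π₂ := by
    simp only [p₁, p₂, Category.assoc, pullback.condition]
  have hj : pullback.lift (W.ι ≫ p₁) (W.ι ≫ p₂) hg = W.ι ≫ hh.imageι := by
    apply pullback.hom_ext
    · exact (pullback.lift_fst _ _ _).trans (Category.assoc _ _ _).symm
    · exact (pullback.lift_snd _ _ _).trans (Category.assoc _ _ _).symm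
  have hC : closure (Set.range hh) = Set.range hh.imageι := by
    have hd : DenseRange k' := Scheme.Hom.denseRange k'
    have : Set.range hh = hh.imageι '' Set.range k' := by
      rw [← Set.range_comp]
      conv_lhs => rw [← hk'ι]
      rfl
    rw [this, hh.imageι.isClosedEmbedding.closure_image_eq, hd.closure_range, Set.image_univ]
  refine ⟨W, k, W.ι ≫ p₁, W.ι ≫ p₂, hg, ?_, ?_, ?_, ?_, ?_, ?_, ?_, ?_⟩
  · refine ⟨MorphismProperty.of_postcomp (W := @IsLocalizing.{u}) (W' := @IsOpenImmersion) k W.ι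
      inferInstance (by rw [hk]; exact hk'.1), ?_⟩
    have hi : Function.Injective (k ≫ W.ι) := by rw [hk]; exact hk'.2
    have hc : (⇑(k ≫ W.ι) : X → hh.image) = W.ι ∘ k := by ext; simp
    rw [hc] at hi
    exact hi.of_comp
  · have : W.ι ≫ p₁ = hh.image.homOfLE ((inf_le_left.trans inf_le_left : W ≤ U₁)) ≫ (U₁.ι ≫ p₁) := by
      rw [Scheme.homOfLE_ι_assoc]
    rw [this]
    infer_instance
  · have : W.ι ≫ p₂ = hh.image.homOfLE ((inf_le_left.trans inf_le_right : W ≤ U₂)) ≫ (U₂.ι ≫ p₂) := by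
      rw [Scheme.homOfLE_ι_assoc]
    rw [this]
    infer_instance
  · rw [← Category.assoc, hk, hkp₁]
  · rw [← Category.assoc, hk, hkp₂]
  · rintro _ ⟨w, rfl⟩
    exact w.2.2
  · rw [hj, hC]
    rintro _ ⟨w, rfl⟩
    exact ⟨W.ι w, rfl⟩
  · rw [hj, hC]
    have : Set.range hh.imageι \ Set.range (W.ι ≫ hh.imageι) = hh.imageι '' (W : Set hh.image)ᶜ := by
      have hr : Set.range (W.ι ≫ hh.imageι) = hh.imageι '' (W : Set hh.image) := by
        have : (⇑(W.ι ≫ hh.imageι) : W → _) = hh.imageι ∘ W.ι := by ext; simp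
        rw [this, Set.range_comp]
        congr 1
        exact W.range_ι
      rw [hr, ← Set.image_univ, ← Set.image_sdiff hh.imageι.isClosedEmbedding.injective,
        Set.compl_eq_univ_sdiff]
    rw [this]
    exact hh.imageι.isClosedEmbedding.isClosedMap _ W.isOpen.isClosed_compl

set_option backward.isDefEq.respectTransparency.types false in
theorem glue_factorizations {X S : Scheme.{u}} [IsLocallyNoetherian S] (f : X ⟶ S)
    (U₁ U₂ : X.Opens) (hU : U₁ ⊔ U₂ = ⊤) (Y₁ Y₂ W : Scheme.{u}) [IsNoetherian Y₁] [IsNoetherian Y₂]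
    (k₁ : (U₁ : Scheme.{u}) ⟶ Y₁) (k₂ : (U₂ : Scheme.{u}) ⟶ Y₂) (p₁ : Y₁ ⟶ S) (p₂ : Y₂ ⟶ S)
    (hk₁ : IsLocImmersion k₁) (hk₂ : IsLocImmersion k₂)
    [IsSeparated p₁] [IsSeparated p₂] [LocallyOfFiniteType p₁] [LocallyOfFiniteType p₂]
    (h₁ : k₁ ≫ p₁ = U₁.ι ≫ f) (h₂ : k₂ ≫ p₂ = U₂.ι ≫ f)
    (g₁ : W ⟶ Y₁) (g₂ : W ⟶ Y₂) [IsOpenImmersion g₁] [IsOpenImmersion g₂]
    (hg : g₁ ≫ p₁ = g₂ ≫ p₂)
    (k₀ : ((U₁ ⊓ U₂ : X.Opens) : Scheme.{u}) ⟶ W)
    (hk₀₁ : k₀ ≫ g₁ = X.homOfLE inf_le_left ≫ k₁) (hk₀₂ : k₀ ≫ g₂ = X.homOfLE inf_le_right ≫ k₂)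
    (hB1 : ∀ u : U₁, k₁ u ∈ Set.range g₁ → u.1 ∈ U₂)
    (hB2 : IsClosedImmersion (pullback.lift g₁ g₂ hg)) :
    ∃ (Y : Scheme.{u}) (k : X ⟶ Y) (p : Y ⟶ S), IsNoetherian Y ∧ IsLocImmersion k ∧
      IsSeparated p ∧ LocallyOfFiniteType p ∧ QuasiCompact p ∧ k ≫ p = f := by
  obtain ⟨Y, ι₁, ι₂, hι₁, hι₂, hpo, hsurj, heq⟩ := exists_pushout_of_isOpenImmersion g₁ g₂
  obtain ⟨p, hp₁, hp₂⟩ : ∃ p : Y ⟶ S, ι₁ ≫ p = p₁ ∧ ι₂ ≫ p = p₂ :=
    ⟨hpo.desc p₁ p₂ hg, hpo.inl_desc _ _ _, hpo.inr_desc _ _ _⟩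
  subst hp₁ hp₂
  -- pullback square
  have hpb : IsPullback g₁ g₂ ι₁ ι₂ := by
    refine (IsOpenImmersion.isPullback g₂ g₁ ι₂ ι₁ hpo.w ?_).flip
    ext y
    constructor
    · rintro ⟨y₂, hy₂⟩
      obtain ⟨w, hw₁, -⟩ := heq y y₂ hy₂.symm
      exact ⟨w, hw₁⟩
    · rintro ⟨w, rfl⟩
      refine ⟨g₂ w, ?_⟩
      rw [← Scheme.Hom.comp_apply, ← hpo.w, Scheme.Hom.comp_apply]
  have hsep : IsSeparated p := isSeparated_of_two g₁ g₂ ι₁ ι₂ hsurj hpb p hB2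
  have hlft : LocallyOfFiniteType p := by
    refine IsZariskiLocalAtSource.of_openCover (P := @LocallyOfFiniteType) (twoCover ι₁ ι₂ hsurj) ?_
    rintro (_ | _)
    · exact inferInstanceAs (LocallyOfFiniteType (ι₂ ≫ p))
    · exact inferInstanceAs (LocallyOfFiniteType (ι₁ ≫ p))
  have hlN : IsLocallyNoetherian Y := LocallyOfFiniteType.isLocallyNoetherian p
  have hcpt : CompactSpace Y := by
    constructor
    have : (Set.univ : Set Y) = Set.range ι₁ ∪ Set.range ι₂ := by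
      ext y; simpa using hsurj y
    rw [this]
    exact (isCompact_range ι₁.continuous).union (isCompact_range ι₂.continuous)
  have hN : IsNoetherian Y := { }
  -- the morphism k
  obtain ⟨k, hkι₁, hkι₂⟩ := exists_glue_of_sup_eq_top U₁ U₂ hU (k₁ ≫ ι₁) (k₂ ≫ ι₂) (by
    rw [← Category.assoc, ← hk₀₁, ← Category.assoc, ← hk₀₂, Category.assoc, Category.assoc, hpo.w])
  have hkp : k ≫ p = f := by
    refine hom_ext_of_sup_eq_top U₁ U₂ hU _ _ ?_ ?_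
    · rw [← Category.assoc, hkι₁, Category.assoc, h₁]
    · rw [← Category.assoc, hkι₂, Category.assoc, h₂]
  have hid : RingHom.ContainsIdentities (RingHom.Locally IsLocHom) := by
    intro R _
    exact RingHom.locally_of isLocHom_respectsIso _
      (isLocHom_of_bijective _ Function.bijective_id)
  have hloc : IsLocalizing k := by
    refine of_sup_eq_top_of_isZariskiLocalAtSource @IsLocalizing.{u} U₁ U₂ hU k ?_ ?_
    · rw [hkι₁]
      exact IsLocalizing.comp hk₁.1 (HasRingHomProperty.of_isOpenImmersion (P := @IsLocalizing.{u}) hid)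
    · rw [hkι₂]
      exact IsLocalizing.comp hk₂.1 (HasRingHomProperty.of_isOpenImmersion (P := @IsLocalizing.{u}) hid)
  have hk₁app : ∀ u : U₁, k u.1 = ι₁ (k₁ u) := fun u => by
    have := congr(($hkι₁) u)
    simpa [Scheme.Hom.comp_apply] using this
  have hk₂app : ∀ u : U₂, k u.1 = ι₂ (k₂ u) := fun u => by
    have := congr(($hkι₂) u)
    simpa [Scheme.Hom.comp_apply] using this
  have hinj₁ : ∀ x x' : X, x ∈ U₁ → x' ∈ U₁ → k x = k x' → x = x' := by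
    intro x x' hx hx' hxx'
    have := hk₁app ⟨x, hx⟩
    have h' := hk₁app ⟨x', hx'⟩
    simp only at this h'
    rw [this, h'] at hxx'
    have := hk₁.2 (ι₁.isOpenEmbedding.injective hxx')
    exact congrArg Subtype.val this
  have hinj₂ : ∀ x x' : X, x ∈ U₂ → x' ∈ U₂ → k x = k x' → x = x' := by
    intro x x' hx hx' hxx'
    have := hk₂app ⟨x, hx⟩
    have h' := hk₂app ⟨x', hx'⟩
    simp only at this h'
    rw [this, h'] at hxx'
    have := hk₂.2 (ι₂.isOpenEmbedding.injective hxx')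
    exact congrArg Subtype.val this
  have hmixed : ∀ x x' : X, x ∈ U₁ → x' ∈ U₂ → k x = k x' → x = x' := by
    intro x x' hx hx' hxx'
    have e1 := hk₁app ⟨x, hx⟩
    have e2 := hk₂app ⟨x', hx'⟩
    simp only at e1 e2
    rw [e1, e2] at hxx'
    obtain ⟨w, hw₁, hw₂⟩ := heq _ _ hxx'
    have hx₂ : x ∈ U₂ := hB1 ⟨x, hx⟩ ⟨w, hw₁⟩
    refine hinj₂ x x' hx₂ hx' ?_
    rw [e1, e2, hxx']
  have hmem : ∀ x : X, x ∈ U₁ ∨ x ∈ U₂ := by
    intro x
    have : x ∈ U₁ ⊔ U₂ := by rw [hU]; trivial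
    exact this
  have hinj : Function.Injective k := by
    intro x x' hxx'
    rcases hmem x with hx | hx <;> rcases hmem x' with hx' | hx'
    · exact hinj₁ x x' hx hx' hxx'
    · exact hmixed x x' hx hx' hxx'
    · exact (hmixed x' x hx' hx hxx'.symm).symm
    · exact hinj₂ x x' hx hx' hxx'
  exact ⟨Y, k, p, hN, ⟨hloc, hinj⟩, hsep, hlft, inferInstance, hkp⟩

end Groth.Agent.Lib.LocImm
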