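import Mathlib
import Groth.Agent.Lib.CritFibA88
import Groth.Agent.Lib.CritFibE88
import Groth.Agent.S0393

/-!
# Injectivity of localized maps under change of rings (helper88)

Abstract lemmas for Stacks 046Y / EGA IV 11.3.7.  For a ring map `C → C'`, a prime `Q'` of `C'`
with contraction `Q`, and a `C`-linear map `ψ : M → M'` into a `C'`-module:

* `locTrans Q' ψ : M_Q → M'_{Q'}` and `locTrans_mk`;
* `locTrans_injective`: if `C'` is flat over `C` and `ψ` is a base change, `locTrans` is injective;
* `locTrans_surjective`, `locTrans_eq_zero_iff`: if `C → C'` is surjective with kernel `J` and `ψ` is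
  a base change, `locTrans` is surjective with kernel `J • ⊤`;
* `injective_of_flat`, `injective_iff_of_surjective`: descent of injectivity of localized maps.
-/

set_option autoImplicit false
set_option maxHeartbeats 400000
set_option linter.style.haveILetI false
set_option linter.unusedSectionVars false

open TensorProduct Function

namespace Groth.Agent.Lib.LocInjA88

section Helper

variable {C : Type*} [CommRing C] {M : Type*} [AddCommGroup M] [Module C M] (W : Submonoid C)

theorem mk_eq_zero_iff (m : M) (s : W) :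
    LocalizedModule.mk m s = 0 ↔ ∃ t : W, t • m = 0 := by
  rw [← LocalizedModule.zero_mk (1 : W), LocalizedModule.mk_eq]
  constructor
  · rintro ⟨u, hu⟩
    refine ⟨u, ?_⟩
    simpa using hu
  · rintro ⟨t, ht⟩
    refine ⟨t, ?_⟩
    rw [one_smul, ht, smul_zero, smul_zero]

end Helper

section LocTrans

variable {C C' M M' : Type*} [CommRing C] [CommRing C'] [Algebra C C']
  [AddCommGroup M] [Module C M] [AddCommGroup M'] [Module C' M'] [Module C M']
  [IsScalarTower C C' M']
  (Q' : Ideal C') [Q'.IsPrime] (ψ : M →ₗ[C] M')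

theorem algebraMap_mem_primeCompl (s : (Q'.comap (algebraMap C C')).primeCompl) :
    algebraMap C C' (s : C) ∈ Q'.primeCompl := fun h => s.2 (Ideal.mem_comap.mpr h)

theorem smul_mk_eq (c : C) (m' : M') (s' : Q'.primeCompl) :
    c • (LocalizedModule.mk m' s' : LocalizedModule Q'.primeCompl M') =
      LocalizedModule.mk (algebraMap C C' c • m') s' := by
  rw [LocalizedModule.smul'_mk, algebraMap_smul]

theorem isUnit_end (s : (Q'.comap (algebraMap C C')).primeCompl) :
    IsUnit (algebraMap C (Module.End C (LocalizedModule Q'.primeCompl M')) (s : C)) := by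
  rw [Module.End.isUnit_iff]
  have hu := IsLocalizedModule.map_units (LocalizedModule.mkLinearMap Q'.primeCompl M')
    ⟨algebraMap C C' (s : C), algebraMap_mem_primeCompl Q' s⟩
  rw [Module.End.isUnit_iff] at hu
  have heq : ∀ y : LocalizedModule Q'.primeCompl M',
      (algebraMap C (Module.End C (LocalizedModule Q'.primeCompl M')) (s : C)) y =
      (algebraMap C' (Module.End C' (LocalizedModule Q'.primeCompl M'))
        (algebraMap C C' (s : C))) y := by
    intro y
    rw [Module.algebraMap_end_apply, Module.algebraMap_end_apply, algebraMap_smul]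
  constructor
  · intro y₁ y₂ h
    apply hu.1
    rw [← heq, ← heq]
    exact h
  · intro y
    obtain ⟨z, hz⟩ := hu.2 y
    exact ⟨z, by rw [heq]; exact hz⟩

/-- The canonical `C`-linear map `M_Q → M'_{Q'}` over `ψ : M → M'`, `Q = Q' ∩ C`. -/
noncomputable def locTrans :
    LocalizedModule (Q'.comap (algebraMap C C')).primeCompl M →ₗ[C]
      LocalizedModule Q'.primeCompl M' :=
  LocalizedModule.lift (Q'.comap (algebraMap C C')).primeCompl
    (((LocalizedModule.mkLinearMap Q'.primeCompl M').restrictScalars C) ∘ₗ ψ)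
    (fun s => isUnit_end Q' s)

theorem locTrans_mk_one (m : M) :
    locTrans Q' ψ (LocalizedModule.mk m 1) = LocalizedModule.mk (ψ m) 1 := by
  unfold locTrans
  rw [LocalizedModule.lift_mk_one]
  rfl

theorem locTrans_mk (m : M) (s : (Q'.comap (algebraMap C C')).primeCompl) :
    locTrans Q' ψ (LocalizedModule.mk m s) =
      LocalizedModule.mk (ψ m) ⟨algebraMap C C' (s : C), algebraMap_mem_primeCompl Q' s⟩ := by
  have hinj : Injective (fun y : LocalizedModule Q'.primeCompl M' => (s : C) • y) := by
    have := (Module.End.isUnit_iff _).mp (isUnit_end (M' := M') Q' s)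
    exact this.1
  apply hinj
  change (s : C) • locTrans Q' ψ (LocalizedModule.mk m s) = (s : C) • LocalizedModule.mk (ψ m) _
  rw [← map_smul, LocalizedModule.smul'_mk, smul_mk_eq]
  have h1 : (LocalizedModule.mk ((s : C) • m) s : LocalizedModule _ M) = LocalizedModule.mk m 1 :=
    LocalizedModule.mk_cancel s m
  rw [h1, locTrans_mk_one]
  have h2 := LocalizedModule.mk_cancel (M := M')
    (⟨algebraMap C C' (s : C), algebraMap_mem_primeCompl Q' s⟩ : Q'.primeCompl) (ψ m)
  exact h2.symm

/-- **Flat case**: if `C'` is flat over `C` and `ψ` is a base change, `M_Q → M'_{Q'}` is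
injective. -/
theorem locTrans_injective [Module.Flat C C'] (hψ : IsBaseChange C' ψ) :
    Injective (locTrans Q' ψ) := by
  rw [injective_iff_map_eq_zero]
  intro x hx
  induction x using LocalizedModule.induction_on with
  | h m s =>
    rw [locTrans_mk, mk_eq_zero_iff] at hx
    obtain ⟨t', ht'⟩ := hx
    rw [mk_eq_zero_iff]
    -- the annihilator of `m`
    let fm : C →ₗ[C] M := LinearMap.toSpanSingleton C M m
    have h0 : (t' : C') ⊗ₜ[C] m = 0 := by
      apply hψ.equiv.injective
      rw [hψ.equiv_tmul, map_zero]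
      exact ht'
    have h1 : (fm.lTensor C') ((t' : C') ⊗ₜ[C] (1 : C)) = 0 := by
      rw [LinearMap.lTensor_tmul]
      change (t' : C') ⊗ₜ[C] ((1 : C) • m) = 0
      rw [one_smul, h0]
    have hex := Module.Flat.lTensor_exact C' (LinearMap.exact_subtype_ker_map fm)
    obtain ⟨z, hz⟩ := (hex _).mp h1
    have h3 : ∀ z : C' ⊗[C] (LinearMap.ker fm),
        (TensorProduct.rid C C') ((LinearMap.ker fm).subtype.lTensor C' z) ∈
          Ideal.map (algebraMap C C') (LinearMap.ker fm) := by
      intro z
      induction z with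
      | zero => simp
      | add z₁ z₂ h₁ h₂ => rw [map_add, map_add]; exact Ideal.add_mem _ h₁ h₂
      | tmul c' a =>
        rw [LinearMap.lTensor_tmul, TensorProduct.rid_tmul, Submodule.subtype_apply,
          Algebra.smul_def]
        exact Ideal.mul_mem_right _ _ (Ideal.mem_map_of_mem _ a.2)
    have h4 : (t' : C') ∈ Ideal.map (algebraMap C C') (LinearMap.ker fm) := by
      have := h3 z
      rw [hz, TensorProduct.rid_tmul, one_smul] at this
      exact this
    by_contra hcon
    push Not at hcon
    have hle : (show Ideal C from LinearMap.ker fm) ≤ Q'.comap (algebraMap C C') := by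
      intro a ha
      by_contra hna
      exact hcon ⟨a, hna⟩ ha
    have : (t' : C') ∈ Q' := by
      have h5 : Ideal.map (algebraMap C C') (LinearMap.ker fm) ≤ Q' :=
        Ideal.map_le_iff_le_comap.mpr hle
      exact h5 h4
    exact t'.2 this

/-- **Surjective case**: `M_Q → M'_{Q'}` is surjective. -/
theorem locTrans_surjective (hs : Surjective (algebraMap C C')) (hψ : IsBaseChange C' ψ) :
    Surjective (locTrans Q' ψ) := by
  intro y
  induction y using LocalizedModule.induction_on with
  | h m' s' =>
    obtain ⟨m, rfl⟩ := Groth.Agent.Lib.CritFibA88.surjective_of_isBaseChange hs ψ hψ m'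
    obtain ⟨s, hs'⟩ := hs (s' : C')
    have hsQ : s ∈ (Q'.comap (algebraMap C C')).primeCompl := by
      intro h
      apply s'.2
      rw [← hs']
      exact h
    refine ⟨LocalizedModule.mk m ⟨s, hsQ⟩, ?_⟩
    rw [locTrans_mk]
    congr 1
    exact Subtype.ext hs'

/-- **Surjective case**: the kernel of `M_Q → M'_{Q'}` is `J M_Q`, `J = ker (C → C')`. -/
theorem locTrans_eq_zero_iff (hs : Surjective (algebraMap C C')) (hψ : IsBaseChange C' ψ)
    (x : LocalizedModule (Q'.comap (algebraMap C C')).primeCompl M) :
    locTrans Q' ψ x = 0 ↔ x ∈ (RingHom.ker (algebraMap C C')) •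
      (⊤ : Submodule C (LocalizedModule (Q'.comap (algebraMap C C')).primeCompl M)) := by
  constructor
  · intro hx
    induction x using LocalizedModule.induction_on with
    | h m s =>
      rw [locTrans_mk, mk_eq_zero_iff] at hx
      obtain ⟨t', ht'⟩ := hx
      obtain ⟨t, ht⟩ := hs (t' : C')
      have htQ : t ∈ (Q'.comap (algebraMap C C')).primeCompl := by
        intro h
        apply t'.2
        rw [← ht]
        exact h
      have h1 : ψ (t • m) = 0 := by
        rw [map_smul, ← algebraMap_smul C' t (ψ m), ht]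
        exact ht'
      have h2 := (Groth.Agent.Lib.CritFibA88.ker_of_isBaseChange hs ψ hψ (t • m)).mp h1
      have h3 : (LocalizedModule.mk m s : LocalizedModule _ M) =
          LocalizedModule.mk (t • m) (⟨t, htQ⟩ * s) :=
        (LocalizedModule.mk_cancel_common_left (⟨t, htQ⟩ : (Q'.comap (algebraMap C C')).primeCompl)
          s m).symm
      rw [h3]
      -- the linear map `n ↦ mk n (t s)`
      let L : M →ₗ[C] LocalizedModule (Q'.comap (algebraMap C C')).primeCompl M :=
        (LocalizedModule.divBy (⟨t, htQ⟩ * s)) ∘ₗ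
          (LocalizedModule.mkLinearMap (Q'.comap (algebraMap C C')).primeCompl M)
      have hL : ∀ n : M, L n = LocalizedModule.mk n (⟨t, htQ⟩ * s) := by
        intro n
        change LocalizedModule.divBy _ (LocalizedModule.mk n 1) = _
        rw [LocalizedModule.divBy_apply, LocalizedModule.liftOn_mk, one_mul]
      have hmap : ((RingHom.ker (algebraMap C C')) • (⊤ : Submodule C M)).map L ≤
          (RingHom.ker (algebraMap C C')) • (⊤ : Submodule C (LocalizedModule _ M)) := by
        rw [Submodule.map_smul'']
        exact Submodule.smul_mono le_rfl le_top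
      rw [← hL]
      exact hmap ⟨_, h2, rfl⟩
  · intro hx
    refine Submodule.smul_induction_on hx ?_ ?_
    · intro j hj y _
      rw [map_smul]
      induction (locTrans Q' ψ y) using LocalizedModule.induction_on with
      | h m' s' =>
        rw [smul_mk_eq, (RingHom.mem_ker).mp hj, zero_smul, LocalizedModule.zero_mk]
    · intro a b ha hb
      rw [map_add, ha, hb, add_zero]

end LocTrans

section Compat

variable {C C' M M' N N' : Type*} [CommRing C] [CommRing C'] [Algebra C C']
  [AddCommGroup M] [Module C M] [AddCommGroup M'] [Module C' M'] [Module C M']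
  [IsScalarTower C C' M']
  [AddCommGroup N] [Module C N] [AddCommGroup N'] [Module C' N'] [Module C N']
  [IsScalarTower C C' N']
  (Q' : Ideal C') [Q'.IsPrime] (ψM : M →ₗ[C] M') (ψN : N →ₗ[C] N')
  (f : M →ₗ[C] N) (f' : M' →ₗ[C'] N') (hcomm : ∀ m, ψN (f m) = f' (ψM m))

include hcomm in
theorem locTrans_map (x : LocalizedModule (Q'.comap (algebraMap C C')).primeCompl M) :
    locTrans Q' ψN (LocalizedModule.map (Q'.comap (algebraMap C C')).primeCompl f x) =
      LocalizedModule.map Q'.primeCompl f' (locTrans Q' ψM x) := by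
  induction x using LocalizedModule.induction_on with
  | h m s =>
    rw [LocalizedModule.map_mk, locTrans_mk, locTrans_mk, LocalizedModule.map_mk, hcomm]

include hcomm in
/-- Descent of injectivity of localized maps along a flat base change. -/
theorem injective_of_flat [Module.Flat C C'] (hψM : IsBaseChange C' ψM)
    (h : Injective (LocalizedModule.map Q'.primeCompl f')) :
    Injective (LocalizedModule.map (Q'.comap (algebraMap C C')).primeCompl f) := by
  rw [injective_iff_map_eq_zero]
  intro x hx
  apply locTrans_injective Q' ψM hψM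
  rw [map_zero]
  apply h
  rw [map_zero, ← locTrans_map Q' ψM ψN f f' hcomm, hx, map_zero]

include hcomm in
/-- Injectivity of the localized map over a quotient `C' = C/J` is injectivity modulo `J`. -/
theorem injective_iff_of_surjective (hs : Surjective (algebraMap C C'))
    (hψM : IsBaseChange C' ψM) (hψN : IsBaseChange C' ψN) :
    Injective (LocalizedModule.map Q'.primeCompl f') ↔
      ∀ x : LocalizedModule (Q'.comap (algebraMap C C')).primeCompl M,
        LocalizedModule.map (Q'.comap (algebraMap C C')).primeCompl f x ∈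
          (RingHom.ker (algebraMap C C')) • (⊤ : Submodule C (LocalizedModule _ N)) →
        x ∈ (RingHom.ker (algebraMap C C')) • (⊤ : Submodule C (LocalizedModule _ M)) := by
  constructor
  · intro h x hx
    rw [← locTrans_eq_zero_iff Q' ψM hs hψM]
    apply h
    rw [map_zero, ← locTrans_map Q' ψM ψN f f' hcomm]
    exact (locTrans_eq_zero_iff Q' ψN hs hψN _).mpr hx
  · intro h
    rw [injective_iff_map_eq_zero]
    intro y hy
    obtain ⟨x, rfl⟩ := locTrans_surjective Q' ψM hs hψM y
    rw [← locTrans_map Q' ψM ψN f f' hcomm, locTrans_eq_zero_iff Q' ψN hs hψN] at hy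
    exact (locTrans_eq_zero_iff Q' ψM hs hψM x).mpr (h x hy)

end Compat

section Transport

variable {C₁ C₂ X₁ X₂ Y₁ Y₂ : Type*} [CommRing C₁] [CommRing C₂]
  [AddCommGroup X₁] [Module C₁ X₁] [AddCommGroup X₂] [Module C₂ X₂]
  [AddCommGroup Y₁] [Module C₁ Y₁] [AddCommGroup Y₂] [Module C₂ Y₂]

/-- Transport of injectivity of a localized map along semilinear isomorphisms. -/
theorem injective_map_of_semilinearEquiv (e : C₁ ≃+* C₂) (εX : X₁ ≃+ X₂)
    (hεX : ∀ (c : C₁) (x : X₁), εX (c • x) = e c • εX x) (εY : Y₁ ≃+ Y₂)
    (hεY : ∀ (c : C₁) (y : Y₁), εY (c • y) = e c • εY y)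
    (f₁ : X₁ →ₗ[C₁] Y₁) (f₂ : X₂ →ₗ[C₂] Y₂) (hf : ∀ x, εY (f₁ x) = f₂ (εX x))
    (Q : Ideal C₂) [Q.IsPrime]
    (h : Injective (LocalizedModule.map (Q.comap e).primeCompl f₁)) :
    Injective (LocalizedModule.map Q.primeCompl f₂) := by
  rw [injective_iff_map_eq_zero]
  intro x hx
  induction x using LocalizedModule.induction_on with
  | h m s =>
    rw [LocalizedModule.map_mk, mk_eq_zero_iff] at hx
    obtain ⟨t, ht⟩ := hx
    rw [mk_eq_zero_iff]
    set m₁ := εX.symm m with hm₁
    have hm : εX m₁ = m := εX.apply_symm_apply m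
    have ht₁ : e.symm (t : C₂) ∈ (Q.comap e).primeCompl := by
      intro hmem
      apply t.2
      have : e (e.symm (t : C₂)) ∈ Q := hmem
      rwa [e.apply_symm_apply] at this
    have h1 : e.symm (t : C₂) • f₁ m₁ = 0 := by
      apply εY.injective
      rw [hεY, e.apply_symm_apply, hf, hm, map_zero]
      exact ht
    have h2 : LocalizedModule.map (Q.comap e).primeCompl f₁ (LocalizedModule.mk m₁ 1) = 0 := by
      rw [LocalizedModule.map_mk, mk_eq_zero_iff]
      exact ⟨⟨_, ht₁⟩, h1⟩
    have h3 : (LocalizedModule.mk m₁ 1 : LocalizedModule (Q.comap e).primeCompl X₁) = 0 := by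
      apply h
      rw [h2, map_zero]
    rw [mk_eq_zero_iff] at h3
    obtain ⟨r₁, hr₁⟩ := h3
    have hr : e (r₁ : C₁) ∈ Q.primeCompl := fun hmem => r₁.2 hmem
    refine ⟨⟨_, hr⟩, ?_⟩
    change e (r₁ : C₁) • m = 0
    rw [← hm, ← hεX]
    have : (r₁ : C₁) • m₁ = 0 := hr₁
    rw [this, map_zero]

end Transport

section Residue

variable {R : Type*} [CommRing R] [IsLocalRing R] {X : Type*} [AddCommGroup X] [Module R X]

theorem residue_tmul_eq_zero_iff (x : X) :
    (1 : IsLocalRing.ResidueField R) ⊗ₜ[R] x = 0 ↔
      x ∈ IsLocalRing.maximalIdeal R • (⊤ : Submodule R X) := by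
  have := LinearMap.ker_tensorProductMk (R := R) (Q := X) (I := IsLocalRing.maximalIdeal R)
  have h2 : x ∈ LinearMap.ker (TensorProduct.mk R (R ⧸ IsLocalRing.maximalIdeal R) X 1) ↔
      x ∈ IsLocalRing.maximalIdeal R • (⊤ : Submodule R X) := by rw [this]
  rw [← h2, LinearMap.mem_ker]
  exact Iff.rfl

theorem residue_mk_surjective :
    Surjective (TensorProduct.mk R (IsLocalRing.ResidueField R) X 1) := by
  intro z
  induction z with
  | zero => exact ⟨0, map_zero _⟩
  | add z₁ z₂ h₁ h₂ =>
    obtain ⟨x₁, rfl⟩ := h₁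
    obtain ⟨x₂, rfl⟩ := h₂
    exact ⟨x₁ + x₂, map_add _ _ _⟩
  | tmul c x =>
    obtain ⟨a, rfl⟩ := IsLocalRing.residue_surjective c
    refine ⟨a • x, ?_⟩
    rw [TensorProduct.mk_apply, TensorProduct.tmul_smul, TensorProduct.smul_tmul']
    congr 1
    rw [Algebra.smul_def, mul_one]
    rfl

end Residue

section LemmaS

universe u

variable {A T X Y : Type u} [CommRing A] [CommRing T] [IsLocalRing T] [IsNoetherianRing T]
  [Algebra A T]
  [AddCommGroup X] [Module A X] [Module T X] [IsScalarTower A T X] [Module.Finite T X]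
  [AddCommGroup Y] [Module A Y] [Module T Y] [IsScalarTower A T Y] [Module.Flat A Y]

/-- **Stacks 00ME over a non-local base** (wrapper of S0393): `T` Noetherian local `A`-algebra,
`p` the contraction of its maximal ideal, `X` finite over `T`, `Y` flat over `A`, `v : X → Y`
injective modulo `p`. Then `v` is injective and its cokernel is flat over `A`. -/
theorem injective_and_flat_of_injective_mod (v : X →ₗ[T] Y) (p : Ideal A)
    (hp : (IsLocalRing.maximalIdeal T).comap (algebraMap A T) = p)
    (hv : ∀ x, v x ∈ p • (⊤ : Submodule A Y) → x ∈ p • (⊤ : Submodule A X)) :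
    Injective v ∧ Module.Flat A (Y ⧸ LinearMap.range v) := by
  subst hp
  set p := (IsLocalRing.maximalIdeal T).comap (algebraMap A T) with hpdef
  have hunits : ∀ s : p.primeCompl, IsUnit (algebraMap A T (s : A)) := by
    intro s
    by_contra hs
    apply s.2
    change algebraMap A T (s : A) ∈ IsLocalRing.maximalIdeal T
    rw [IsLocalRing.mem_maximalIdeal]
    exact hs
  have hmem : ∀ a : A, IsUnit (algebraMap A T a) → a ∈ p.primeCompl := by
    intro a ha hap
    have : algebraMap A T a ∈ IsLocalRing.maximalIdeal T := hap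
    rw [IsLocalRing.mem_maximalIdeal] at this
    exact this ha
  let Ap := Localization.AtPrime p
  let φ : Ap →+* T := IsLocalization.lift (M := p.primeCompl) (g := algebraMap A T) hunits
  letI algApT : Algebra Ap T := φ.toAlgebra
  have hφ : ∀ a : A, algebraMap Ap T (algebraMap A Ap a) = algebraMap A T a :=
    fun a => IsLocalization.lift_eq _ a
  haveI : IsScalarTower A Ap T := IsScalarTower.of_algebraMap_eq (fun a => (hφ a).symm)
  haveI : IsLocalHom (algebraMap Ap T) := by
    constructor
    intro x hx
    obtain ⟨a, s, rfl⟩ := IsLocalization.exists_mk'_eq p.primeCompl x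
    have h1 : algebraMap Ap T (IsLocalization.mk' Ap a s) * algebraMap A T (s : A) =
        algebraMap A T a := by
      rw [← hφ, ← hφ, ← map_mul, IsLocalization.mk'_spec]
    have h2 : IsUnit (algebraMap A T a) := by
      rw [← h1]
      exact hx.mul (hunits s)
    have h3 : IsUnit (algebraMap A Ap a) := IsLocalization.map_units Ap ⟨a, hmem a h2⟩
    have h4 : IsLocalization.mk' Ap a s * algebraMap A Ap (s : A) = algebraMap A Ap a :=
      IsLocalization.mk'_spec _ _ _
    rw [← h4] at h3
    exact isUnit_of_mul_isUnit_left h3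
  letI modX : Module Ap X := Module.compHom X (algebraMap Ap T)
  letI modY : Module Ap Y := Module.compHom Y (algebraMap Ap T)
  have hsmX : ∀ (a : Ap) (x : X), a • x = algebraMap Ap T a • x := fun _ _ => rfl
  have hsmY : ∀ (a : Ap) (y : Y), a • y = algebraMap Ap T a • y := fun _ _ => rfl
  haveI : IsScalarTower Ap T X := ⟨fun a t x => by
    change (algebraMap Ap T a * t) • x = algebraMap Ap T a • (t • x)
    rw [mul_smul]⟩
  haveI : IsScalarTower Ap T Y := ⟨fun a t y => by
    change (algebraMap Ap T a * t) • y = algebraMap Ap T a • (t • y)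
    rw [mul_smul]⟩
  haveI : IsScalarTower A Ap X := ⟨fun c a x => by
    rw [hsmX, hsmX, Algebra.smul_def, map_mul, hφ, mul_smul, algebraMap_smul]⟩
  haveI : IsScalarTower A Ap Y := ⟨fun c a y => by
    rw [hsmY, hsmY, Algebra.smul_def, map_mul, hφ, mul_smul, algebraMap_smul]⟩
  haveI : Module.Flat Ap Y := (Module.flat_iff_of_isLocalization Ap p.primeCompl Y).mpr inferInstance
  let u : X →ₗ[Ap] Y := v.restrictScalars Ap
  have hmax : IsLocalRing.maximalIdeal Ap = p.map (algebraMap A Ap) :=
    (Localization.AtPrime.map_eq_maximalIdeal).symm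
  have hu : Injective (LinearMap.lTensor (IsLocalRing.ResidueField Ap) u) := by
    rw [injective_iff_map_eq_zero]
    intro z hz
    obtain ⟨x, rfl⟩ := residue_mk_surjective (R := Ap) (X := X) z
    rw [TensorProduct.mk_apply, LinearMap.lTensor_tmul, residue_tmul_eq_zero_iff, hmax,
      Groth.Agent.Lib.CritFibE88.smul_top_map_iff] at hz
    have h2 := hv x hz
    rw [TensorProduct.mk_apply, residue_tmul_eq_zero_iff, hmax,
      Groth.Agent.Lib.CritFibE88.smul_top_map_iff]
    exact h2
  obtain ⟨hinj, hflat⟩ := Groth.Agent.S0393.result (R := Ap) (S := T) (M := Y) (N := X) u hu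
  refine ⟨hinj, ?_⟩
  have hflatA : Module.Flat A (Y ⧸ LinearMap.range u) := Module.Flat.trans A Ap _
  have heq : (LinearMap.range u).restrictScalars A = (LinearMap.range v).restrictScalars A := by
    ext y
    simp only [Submodule.restrictScalars_mem, LinearMap.mem_range]
    rfl
  let e1 : (Y ⧸ (LinearMap.range u).restrictScalars A) ≃ₗ[A] Y ⧸ LinearMap.range u :=
    Submodule.Quotient.restrictScalarsEquiv A (LinearMap.range u)
  let e2 : (Y ⧸ (LinearMap.range v).restrictScalars A) ≃ₗ[A] Y ⧸ LinearMap.range v :=
    Submodule.Quotient.restrictScalarsEquiv A (LinearMap.range v)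
  let e3 : (Y ⧸ (LinearMap.range u).restrictScalars A) ≃ₗ[A]
      (Y ⧸ (LinearMap.range v).restrictScalars A) := Submodule.quotEquivOfEq _ _ heq
  exact Module.Flat.of_linearEquiv (e1.symm ≪≫ₗ e3 ≪≫ₗ e2).symm

end LemmaS

end Groth.Agent.Lib.LocInjA88
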