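import Groth.Agent.Lib.LocInjA88
import Groth.Agent.Lib.CritFibB88

/-!
# Injectivity of localized stage maps (helper88)

Stage calculus for Stacks 046Y / EGA IV 11.3.7: for an exact sequence `M₁ → N₁ → C₁ → 0` over a
`k`-algebra `S₁` and a `k`-algebra `X` with a prime `Q` of `X ⊗[k] S₁`, the localized map
`LocalizedModule.map Q.primeCompl (stageMap k X u₁)`.

* `inj_baseChange_at`, `inj_stage_mono`: ascent of injectivity (with flat cokernel);
* `inj_desc_stage`, `inj_quot_stage`: descent along flat maps, identification along surjections;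
* `noeth_stage`: the Noetherian case (Stacks 00ME) at a stage.
-/

set_option autoImplicit false
set_option maxHeartbeats 400000
set_option linter.style.haveILetI false
set_option linter.unusedSectionVars false

open TensorProduct Function
open Groth.Agent.Lib.FlatLimStage88 Groth.Agent.Lib.FlatLimGlobal88 Groth.Agent.Lib.LocInjA88
open scoped Groth.Agent.Lib.FlatLimStage88

universe u

namespace Groth.Agent.Lib.LocInjB88

section LemmaS'

variable {A T X Y Z : Type u} [CommRing A] [CommRing T] [IsLocalRing T] [IsNoetherianRing T]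
  [Algebra A T]
  [AddCommGroup X] [Module A X] [Module T X] [IsScalarTower A T X] [Module.Finite T X]
  [AddCommGroup Y] [Module A Y] [Module T Y] [IsScalarTower A T Y] [Module.Flat A Y]
  [AddCommGroup Z] [Module A Z]

/-- Variant of `injective_and_flat_of_injective_mod` with the cokernel given by an exact
sequence. -/
theorem injective_and_flat_of_exact_mod (v : X →ₗ[T] Y) (g : Y →ₗ[A] Z)
    (hex : Function.Exact v g) (hg : Surjective g) (p : Ideal A)
    (hp : (IsLocalRing.maximalIdeal T).comap (algebraMap A T) = p)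
    (hv : ∀ x, v x ∈ p • (⊤ : Submodule A Y) → x ∈ p • (⊤ : Submodule A X)) :
    Injective v ∧ Module.Flat A Z := by
  obtain ⟨hinj, hflat⟩ := injective_and_flat_of_injective_mod v p hp hv
  refine ⟨hinj, ?_⟩
  have heq : (LinearMap.range v).restrictScalars A = LinearMap.ker g := by
    ext y
    rw [Submodule.restrictScalars_mem, LinearMap.mem_ker, hex y]
    rfl
  let e1 : (Y ⧸ (LinearMap.range v).restrictScalars A) ≃ₗ[A] Y ⧸ LinearMap.range v :=
    Submodule.Quotient.restrictScalarsEquiv A (LinearMap.range v)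
  let e2 : (Y ⧸ (LinearMap.range v).restrictScalars A) ≃ₗ[A] (Y ⧸ LinearMap.ker g) :=
    Submodule.quotEquivOfEq _ _ heq
  let e3 : (Y ⧸ LinearMap.ker g) ≃ₗ[A] Z := g.quotKerEquivOfSurjective hg
  exact Module.Flat.of_linearEquiv (e1.symm ≪≫ₗ e2 ≪≫ₗ e3).symm

end LemmaS'

section BC

variable {k : Type*} [CommRing k] {S₀ : Type*} [CommRing S₀] [Algebra k S₀]
  {M₀ : Type*} [AddCommGroup M₀] [Module k M₀] [Module S₀ M₀] [IsScalarTower k S₀ M₀]
  {N₀ : Type*} [AddCommGroup N₀] [Module k N₀] [Module S₀ N₀] [IsScalarTower k S₀ N₀]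
  {Z₀ : Type*} [AddCommGroup Z₀] [Module k Z₀] [Module S₀ Z₀] [IsScalarTower k S₀ Z₀]
  (R : Type*) [CommRing R] [Algebra k R]

theorem stageMap_stageMap {M₀' N₀' : Type*} [AddCommGroup M₀'] [Module k M₀'] [Module S₀ M₀']
    [IsScalarTower k S₀ M₀'] [AddCommGroup N₀'] [Module k N₀'] [Module S₀ N₀']
    [IsScalarTower k S₀ N₀'] (v : M₀ →ₗ[S₀] N₀) (v' : M₀' →ₗ[S₀] N₀') (a : M₀ →ₗ[S₀] M₀')
    (b : N₀ →ₗ[S₀] N₀') (h : ∀ m, b (v m) = v' (a m)) (x : R ⊗[k] M₀) :
    stageMap k R b (stageMap k R v x) = stageMap k R v' (stageMap k R a x) := by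
  induction x with
  | zero => simp
  | add x y hx hy => simp only [map_add, hx, hy]
  | tmul r m => simp only [stageMap_tmul, h]

theorem stageMap_exact (v₀ : M₀ →ₗ[S₀] N₀) (g₀ : N₀ →ₗ[S₀] Z₀) (hex : Function.Exact v₀ g₀)
    (hg : Surjective g₀) : Function.Exact (stageMap k R v₀) (stageMap k R g₀) :=
  lTensor_exact R (f := v₀.restrictScalars k) (g := g₀.restrictScalars k) hex hg

theorem stageMap_surjective (g₀ : N₀ →ₗ[S₀] Z₀) (hg : Surjective g₀) :
    Surjective (stageMap k R g₀) :=
  LinearMap.lTensor_surjective R (g := g₀.restrictScalars k) hg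

/-- **Ascent of injectivity** (one level): if the localization of `v₀` at `Q` is injective with
`k`-flat cokernel, the localization of `R ⊗ v₀` at a prime `q'` over `Q` is injective. -/
theorem inj_baseChange_at (v₀ : M₀ →ₗ[S₀] N₀) (g₀ : N₀ →ₗ[S₀] Z₀) (hex : Function.Exact v₀ g₀)
    (hg : Surjective g₀) (q' : Ideal (R ⊗[k] S₀)) [q'.IsPrime]
    (Q : Ideal S₀) [Q.IsPrime]
    (hQ : q'.comap (Algebra.TensorProduct.includeRight : S₀ →ₐ[k] R ⊗[k] S₀) = Q)
    (hinj : Injective (LocalizedModule.map Q.primeCompl v₀))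
    (hflat : Module.Flat k (LocalizedModule Q.primeCompl Z₀)) :
    Injective (LocalizedModule.map q'.primeCompl (stageMap k R v₀)) := by
  subst hQ
  set W := (q'.comap (Algebra.TensorProduct.includeRight : S₀ →ₐ[k] R ⊗[k] S₀)).primeCompl
    with hW
  have hWV : stageSubmonoid k R W ≤ q'.primeCompl := by
    intro x hx
    obtain ⟨w, hw, rfl⟩ := (mem_stageSubmonoid k R _).mp hx
    exact hw
  let ιM : M₀ →ₗ[S₀] LocalizedModule W M₀ := LocalizedModule.mkLinearMap W M₀
  let ιN : N₀ →ₗ[S₀] LocalizedModule W N₀ := LocalizedModule.mkLinearMap W N₀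
  let vloc : LocalizedModule W M₀ →ₗ[S₀] LocalizedModule W N₀ :=
    (LocalizedModule.map W v₀).restrictScalars S₀
  have hvι : ∀ m, vloc (ιM m) = ιN (v₀ m) := by
    intro m
    change LocalizedModule.map W v₀ (LocalizedModule.mk m 1) = LocalizedModule.mk (v₀ m) 1
    rw [LocalizedModule.map_mk]
  -- `R ⊗ vloc` is injective
  let π : LocalizedModule W N₀ →ₗ[k] LocalizedModule W Z₀ :=
    (LocalizedModule.map W g₀).restrictScalars k
  have hπs : Surjective π := LocalizedModule.map_surjective W g₀ hg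
  have hex' : Function.Exact (vloc.restrictScalars k) π :=
    LocalizedModule.map_exact W v₀ g₀ hex
  have h1 : Injective (stageMap k R vloc) :=
    LinearMap.lTensor_injective_of_exact_of_flat π hπs (vloc.restrictScalars k) hinj hex' R
  haveI := isLocalizedModule_stageMap k R W ιM
  rw [injective_iff_map_eq_zero]
  intro z hz
  induction z using LocalizedModule.induction_on with
  | h x s =>
    rw [LocalizedModule.map_mk, mk_eq_zero_iff] at hz
    obtain ⟨t, ht⟩ := hz
    rw [mk_eq_zero_iff]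
    have ht' : stageMap k R v₀ ((t : R ⊗[k] S₀) • x) = 0 := by
      rw [map_smul]
      exact ht
    have h2 : stageMap k R vloc (stageMap k R ιM ((t : R ⊗[k] S₀) • x)) = 0 := by
      rw [stageMap_stageMap R ιM ιN v₀ vloc hvι, ht', map_zero]
    have h3 : stageMap k R ιM ((t : R ⊗[k] S₀) • x) = 0 := by
      apply h1
      rw [h2, map_zero]
    obtain ⟨w, hw⟩ := (IsLocalizedModule.eq_zero_iff (stageSubmonoid k R W)
      (stageMap k R ιM)).mp h3
    refine ⟨⟨(w : R ⊗[k] S₀), hWV w.2⟩ * t, ?_⟩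
    change ((w : R ⊗[k] S₀) * (t : R ⊗[k] S₀)) • x = 0
    rw [mul_smul]
    exact hw

end BC

section Mono

set_option synthInstance.maxHeartbeats 400000 in
/-- **Stage monotonicity for injectivity**: injectivity (with flat cokernel) of the localized
stage map passes from a stage `B` to a later stage `A`. -/
theorem inj_stage_mono {k B A S₀ M₀ N₀ Z₀ : Type u} [CommRing k] [CommRing B] [Algebra k B]
    [CommRing A] [Algebra k A] [Algebra B A] [IsScalarTower k B A]
    [CommRing S₀] [Algebra k S₀]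
    [AddCommGroup M₀] [Module k M₀] [Module S₀ M₀] [IsScalarTower k S₀ M₀]
    [AddCommGroup N₀] [Module k N₀] [Module S₀ N₀] [IsScalarTower k S₀ N₀]
    [AddCommGroup Z₀] [Module k Z₀] [Module S₀ Z₀] [IsScalarTower k S₀ Z₀]
    (v₀ : M₀ →ₗ[S₀] N₀) (g₀ : N₀ →ₗ[S₀] Z₀) (hex : Function.Exact v₀ g₀) (hg : Surjective g₀)
    (Q : Ideal (A ⊗[k] S₀)) [Q.IsPrime]
    (hinj : Injective (LocalizedModule.map
      (Q.comap (sMap (IsScalarTower.toAlgHom k B A) S₀)).primeCompl (stageMap k B v₀)))
    (hflat : Module.Flat B (LocalizedModule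
        (Q.comap (sMap (IsScalarTower.toAlgHom k B A) S₀)).primeCompl (B ⊗[k] Z₀))) :
    Injective (LocalizedModule.map Q.primeCompl (stageMap k A v₀)) := by
  let eS := Algebra.TensorProduct.cancelBaseChange k B A A S₀
  let eM := AlgebraTensorModule.cancelBaseChange k B A A M₀
  let eN := AlgebraTensorModule.cancelBaseChange k B A A N₀
  have hcontr : (Q.comap eS).comap
      (Algebra.TensorProduct.includeRight : B ⊗[k] S₀ →ₐ[B] A ⊗[B] (B ⊗[k] S₀)) =
      Q.comap (sMap (IsScalarTower.toAlgHom k B A) S₀) := by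
    ext x
    simp only [Ideal.mem_comap, Algebra.TensorProduct.includeRight_apply]
    rw [cancelBaseChange_one_tmul']
  have h1 := inj_baseChange_at (k := B) (S₀ := B ⊗[k] S₀) (M₀ := B ⊗[k] M₀) (N₀ := B ⊗[k] N₀)
    (Z₀ := B ⊗[k] Z₀) A
    (stageMap k B v₀) (stageMap k B g₀) (stageMap_exact B v₀ g₀ hex hg)
    (stageMap_surjective B g₀ hg) (Q.comap eS)
    (Q.comap (sMap (IsScalarTower.toAlgHom k B A) S₀)) hcontr hinj hflat
  have hf : ∀ x : A ⊗[B] (B ⊗[k] M₀),
      eN (stageMap B A (stageMap k B v₀) x) = stageMap k A v₀ (eM x) := by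
    intro x
    induction x with
    | zero => simp
    | add x y hx hy => simp only [map_add, hx, hy]
    | tmul a y =>
      induction y with
      | zero => simp
      | add y₁ y₂ h₁ h₂ => simp only [tmul_add, map_add, h₁, h₂]
      | tmul b m =>
        simp only [stageMap_tmul, eN, eM, AlgebraTensorModule.cancelBaseChange_tmul]
  exact injective_map_of_semilinearEquiv eS.toRingEquiv eM.toAddEquiv
    (fun c x => cancelBaseChange_smul' c x) eN.toAddEquiv
    (fun c y => cancelBaseChange_smul' c y)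
    (stageMap B A (stageMap k B v₀)) (stageMap k A v₀) hf Q h1

end Mono

end Groth.Agent.Lib.LocInjB88
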