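import Groth.Agent.Lib.LocInjB88

/-!
# Stage transitions for injectivity of localized stage maps (helper88)

For `u₁ : M₁ →ₗ[S₁] N₁` over a `k`-algebra `S₁` and `k`-algebras `X → Y`:
* `inj_desc_stage`: injectivity of the localized stage map descends from `Y` to `X` when `Y` is flat
  over `X`;
* `inj_quot_stage`: for `X → Y` surjective with kernel `I`, injectivity at `Y` is injectivity modulo
  `I` at `X`;
* `noeth_stage`: Stacks 00ME at a Noetherian stage.
-/

set_option autoImplicit false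
set_option maxHeartbeats 400000
set_option linter.style.haveILetI false
set_option linter.unusedSectionVars false

open TensorProduct Function
open Groth.Agent.Lib.FlatLimStage88 Groth.Agent.Lib.FlatLimGlobal88 Groth.Agent.Lib.LocInjA88
  Groth.Agent.Lib.LocInjB88 Groth.Agent.Lib.CritFibB88
open scoped Groth.Agent.Lib.FlatLimStage88

universe u

namespace Groth.Agent.Lib.LocInjC88

variable {k S₁ M₁ N₁ : Type u} [CommRing k] [CommRing S₁] [Algebra k S₁]
  [AddCommGroup M₁] [Module k M₁] [Module S₁ M₁] [IsScalarTower k S₁ M₁]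
  [AddCommGroup N₁] [Module k N₁] [Module S₁ N₁] [IsScalarTower k S₁ N₁]

section Pair

variable (X Y : Type u) [CommRing X] [CommRing Y] [Algebra k X] [Algebra k Y] [Algebra X Y]
  [IsScalarTower k X Y]

set_option hygiene false in
/-- Sets up the instance package for a morphism of stages `X → Y` with two modules. -/
macro "pair_setup2" : tactic => `(tactic| (
  letI aC := algXY k X Y S₁
  haveI tXC : IsScalarTower X (X ⊗[k] S₁) (Y ⊗[k] S₁) :=
    Groth.Agent.Lib.StageAbs88.isScalarTower_stage (AlgEquiv.refl : Y ⊗[k] S₁ ≃ₐ[Y] Y ⊗[k] S₁) X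
  haveI pC : Algebra.IsPushout X Y (X ⊗[k] S₁) (Y ⊗[k] S₁) :=
    Groth.Agent.Lib.StageAbs88.isPushout_stage (AlgEquiv.refl : Y ⊗[k] S₁ ≃ₐ[Y] Y ⊗[k] S₁) X
  letI mM : Module (X ⊗[k] S₁) (Y ⊗[k] M₁) :=
    Groth.Agent.Lib.StageAbs88.stageModuleTop (AlgEquiv.refl : Y ⊗[k] S₁ ≃ₐ[Y] Y ⊗[k] S₁) X
  haveI tM : IsScalarTower (X ⊗[k] S₁) (Y ⊗[k] S₁) (Y ⊗[k] M₁) :=
    Groth.Agent.Lib.StageAbs88.isScalarTower_stageModuleTop
      (AlgEquiv.refl : Y ⊗[k] S₁ ≃ₐ[Y] Y ⊗[k] S₁) X
  letI mN : Module (X ⊗[k] S₁) (Y ⊗[k] N₁) :=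
    Groth.Agent.Lib.StageAbs88.stageModuleTop (AlgEquiv.refl : Y ⊗[k] S₁ ≃ₐ[Y] Y ⊗[k] S₁) X
  haveI tN : IsScalarTower (X ⊗[k] S₁) (Y ⊗[k] S₁) (Y ⊗[k] N₁) :=
    Groth.Agent.Lib.StageAbs88.isScalarTower_stageModuleTop
      (AlgEquiv.refl : Y ⊗[k] S₁ ≃ₐ[Y] Y ⊗[k] S₁) X
  let ψM : X ⊗[k] M₁ →ₗ[X ⊗[k] S₁] Y ⊗[k] M₁ :=
    Groth.Agent.Lib.StageAbs88.stageMap (AlgEquiv.refl : Y ⊗[k] S₁ ≃ₐ[Y] Y ⊗[k] S₁)
      (LinearEquiv.refl Y (Y ⊗[k] M₁)) (fun _ _ => rfl) X
  have hψM : IsBaseChange (Y ⊗[k] S₁) ψM :=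
    Groth.Agent.Lib.StageAbs88.isBaseChange_stageMap (AlgEquiv.refl : Y ⊗[k] S₁ ≃ₐ[Y] Y ⊗[k] S₁)
      (LinearEquiv.refl Y (Y ⊗[k] M₁)) (fun _ _ => rfl) X
  let ψN : X ⊗[k] N₁ →ₗ[X ⊗[k] S₁] Y ⊗[k] N₁ :=
    Groth.Agent.Lib.StageAbs88.stageMap (AlgEquiv.refl : Y ⊗[k] S₁ ≃ₐ[Y] Y ⊗[k] S₁)
      (LinearEquiv.refl Y (Y ⊗[k] N₁)) (fun _ _ => rfl) X
  have hψN : IsBaseChange (Y ⊗[k] S₁) ψN :=
    Groth.Agent.Lib.StageAbs88.isBaseChange_stageMap (AlgEquiv.refl : Y ⊗[k] S₁ ≃ₐ[Y] Y ⊗[k] S₁)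
      (LinearEquiv.refl Y (Y ⊗[k] N₁)) (fun _ _ => rfl) X
  have hcomm : ∀ m : X ⊗[k] M₁, ψN (stageMap k X u₁ m) = stageMap k Y u₁ (ψM m) := by
    intro m
    induction m with
    | zero => simp
    | add x y hx hy => simp only [map_add, hx, hy]
    | tmul a m => rfl))

set_option synthInstance.maxHeartbeats 400000 in
/-- **Descent of injectivity** along a flat map of stages `X → Y`. -/
theorem inj_desc_stage [Module.Flat X Y] (u₁ : M₁ →ₗ[S₁] N₁)
    (QY : Ideal (Y ⊗[k] S₁)) [QY.IsPrime] (QX : Ideal (X ⊗[k] S₁)) [QX.IsPrime]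
    (hQ : QY.comap (sMap (IsScalarTower.toAlgHom k X Y) S₁) = QX)
    (h : Injective (LocalizedModule.map QY.primeCompl (stageMap k Y u₁))) :
    Injective (LocalizedModule.map QX.primeCompl (stageMap k X u₁)) := by
  subst hQ
  pair_setup2
  haveI fC : Module.Flat (X ⊗[k] S₁) (Y ⊗[k] S₁) :=
    Module.Flat.isBaseChange X (X ⊗[k] S₁) Y (Y ⊗[k] S₁) pC.symm.out
  exact injective_of_flat QY ψM ψN (stageMap k X u₁) (stageMap k Y u₁) hcomm hψM h

set_option synthInstance.maxHeartbeats 400000 in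
/-- **Quotient stages**: for `X → Y` surjective with kernel `I`, injectivity of the localized stage
map at `Y` is injectivity modulo `I` at `X`. -/
theorem inj_quot_stage (hs : Surjective (algebraMap X Y)) (u₁ : M₁ →ₗ[S₁] N₁)
    (QY : Ideal (Y ⊗[k] S₁)) [QY.IsPrime] (QX : Ideal (X ⊗[k] S₁)) [QX.IsPrime]
    (hQ : QY.comap (sMap (IsScalarTower.toAlgHom k X Y) S₁) = QX) :
    Injective (LocalizedModule.map QY.primeCompl (stageMap k Y u₁)) ↔
      ∀ x : LocalizedModule QX.primeCompl (X ⊗[k] M₁),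
        LocalizedModule.map QX.primeCompl (stageMap k X u₁) x ∈
          (RingHom.ker (algebraMap X Y)) •
            (⊤ : Submodule X (LocalizedModule QX.primeCompl (X ⊗[k] N₁))) →
        x ∈ (RingHom.ker (algebraMap X Y)) •
          (⊤ : Submodule X (LocalizedModule QX.primeCompl (X ⊗[k] M₁))) := by
  subst hQ
  pair_setup2
  have hsC : Surjective (algebraMap (X ⊗[k] S₁) (Y ⊗[k] S₁)) :=
    Groth.Agent.Lib.DeformRing88.surjective_of_isPushout (R' := X) (R := Y) (B' := X ⊗[k] S₁)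
      (B := Y ⊗[k] S₁) hs
  have hI : RingHom.ker (algebraMap (X ⊗[k] S₁) (Y ⊗[k] S₁)) =
      (RingHom.ker (algebraMap X Y)).map (algebraMap X (X ⊗[k] S₁)) :=
    Groth.Agent.Lib.DeformRing88.ker_eq_map_of_isPushout (R' := X) (R := Y) (B' := X ⊗[k] S₁)
      (B := Y ⊗[k] S₁) hs
  have key := injective_iff_of_surjective QY ψM ψN (stageMap k X u₁) (stageMap k Y u₁) hcomm hsC
    hψM hψN
  rw [key]
  refine forall_congr' fun x => ?_
  rw [hI, Groth.Agent.Lib.CritFibE88.smul_top_map_iff, Groth.Agent.Lib.CritFibE88.smul_top_map_iff]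
  exact Iff.rfl

end Pair

section NoethGeneric

variable {X C M N Z : Type u} [CommRing X] [CommRing C] [Algebra X C] [IsNoetherianRing C]
  [AddCommGroup M] [Module C M] [Module X M] [IsScalarTower X C M] [Module.Finite C M]
  [AddCommGroup N] [Module C N] [Module X N] [IsScalarTower X C N]
  [AddCommGroup Z] [Module C Z] [Module X Z] [IsScalarTower X C Z]

/-- **Stacks 00ME at a prime of a Noetherian algebra** over an arbitrary base `X`. -/
theorem noeth_generic (f : M →ₗ[C] N) (g : N →ₗ[C] Z) (hex : Function.Exact f g)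
    (hg : Surjective g) (Q : Ideal C) [Q.IsPrime] (p : Ideal X)
    (hp : Q.comap (algebraMap X C) = p)
    (hfl : Module.Flat X (LocalizedModule Q.primeCompl N))
    (hmod : ∀ x : LocalizedModule Q.primeCompl M,
      LocalizedModule.map Q.primeCompl f x ∈
        p • (⊤ : Submodule X (LocalizedModule Q.primeCompl N)) →
      x ∈ p • (⊤ : Submodule X (LocalizedModule Q.primeCompl M))) :
    Injective (LocalizedModule.map Q.primeCompl f) ∧
      Module.Flat X (LocalizedModule Q.primeCompl Z) := by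
  haveI : IsNoetherianRing (Localization Q.primeCompl) :=
    IsLocalization.isNoetherianRing Q.primeCompl _ inferInstance
  have hp' : (IsLocalRing.maximalIdeal (Localization Q.primeCompl)).comap
      (algebraMap X (Localization Q.primeCompl)) = p := by
    rw [← hp]
    ext a
    rw [Ideal.mem_comap, Ideal.mem_comap,
      IsScalarTower.algebraMap_apply X C (Localization Q.primeCompl),
      IsLocalization.AtPrime.to_map_mem_maximal_iff (Localization Q.primeCompl) Q]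
  let g' : LocalizedModule Q.primeCompl N →ₗ[X] LocalizedModule Q.primeCompl Z :=
    (LocalizedModule.map Q.primeCompl g).restrictScalars X
  have hg' : Surjective g' := LocalizedModule.map_surjective Q.primeCompl _ hg
  have hex' : Function.Exact (LocalizedModule.map Q.primeCompl f) g' :=
    LocalizedModule.map_exact Q.primeCompl _ _ hex
  exact injective_and_flat_of_exact_mod (LocalizedModule.map Q.primeCompl f) g' hex' hg' p hp' hmod

end NoethGeneric

section Noeth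

variable {C₁ : Type u} [AddCommGroup C₁] [Module k C₁] [Module S₁ C₁] [IsScalarTower k S₁ C₁]
  (X : Type u) [CommRing X] [Algebra k X]

/-- **Noetherian stage** (Stacks 00ME at a stage). -/
theorem noeth_stage [IsNoetherianRing (X ⊗[k] S₁)] [Module.Finite (X ⊗[k] S₁) (X ⊗[k] M₁)]
    (u₁ : M₁ →ₗ[S₁] N₁) (π₁ : N₁ →ₗ[S₁] C₁) (hex : Function.Exact u₁ π₁) (hπ : Surjective π₁)
    (Q : Ideal (X ⊗[k] S₁)) [Q.IsPrime] (p : Ideal X)
    (hp : Q.comap (algebraMap X (X ⊗[k] S₁)) = p)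
    (hfl : Module.Flat X (LocalizedModule Q.primeCompl (X ⊗[k] N₁)))
    (hmod : ∀ x : LocalizedModule Q.primeCompl (X ⊗[k] M₁),
      LocalizedModule.map Q.primeCompl (stageMap k X u₁) x ∈
        p • (⊤ : Submodule X (LocalizedModule Q.primeCompl (X ⊗[k] N₁))) →
      x ∈ p • (⊤ : Submodule X (LocalizedModule Q.primeCompl (X ⊗[k] M₁)))) :
    Injective (LocalizedModule.map Q.primeCompl (stageMap k X u₁)) ∧
      Module.Flat X (LocalizedModule Q.primeCompl (X ⊗[k] C₁)) :=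
  noeth_generic (stageMap k X u₁) (stageMap k X π₁) (stageMap_exact X u₁ π₁ hex hπ)
    (stageMap_surjective X π₁ hπ) Q p hp hfl hmod

end Noeth

end Groth.Agent.Lib.LocInjC88
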