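import Groth.Agent.Lib.LocInjC88
import Groth.Agent.Lib.CritFibD88

/-!
# Stacks 046Y over a Noetherian base model (helper88)

* `inj_explicit`: explicit stage form: `R` local, `A → R` a Noetherian stage at which the stage of
  `N₁` is flat over `A` at the contraction of `Q`; if the localized stage map of `u₁` at `R` is
  injective modulo `𝔪_R` then it is injective with `R`-flat cokernel.
* `inj_noeth_base`: the same with the stage `A` produced from `R`-flatness of `(R ⊗ N₁)_Q`.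
-/

set_option autoImplicit false
set_option maxHeartbeats 400000
set_option linter.style.haveILetI false
set_option linter.unusedSectionVars false

open TensorProduct Function
open Groth.Agent.Lib.FlatLimStage88 Groth.Agent.Lib.FlatLimGlobal88 Groth.Agent.Lib.LocInjA88
  Groth.Agent.Lib.LocInjB88 Groth.Agent.Lib.LocInjC88 Groth.Agent.Lib.CritFibB88
  Groth.Agent.Lib.CritFibC88 Groth.Agent.Lib.FlatLimCore88
open scoped Groth.Agent.Lib.FlatLimStage88

universe u

namespace Groth.Agent.Lib.LocInjD88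

variable {k S₁ M₁ N₁ C₁ : Type u} [CommRing k] [CommRing S₁] [Algebra k S₁]
  [AddCommGroup M₁] [Module k M₁] [Module S₁ M₁] [IsScalarTower k S₁ M₁]
  [AddCommGroup N₁] [Module k N₁] [Module S₁ N₁] [IsScalarTower k S₁ N₁]
  [AddCommGroup C₁] [Module k C₁] [Module S₁ C₁] [IsScalarTower k S₁ C₁]
  (R : Type u) [CommRing R] [Algebra k R] [IsLocalRing R]

section Explicit

variable (A : Type u) [CommRing A] [Algebra k A] [Algebra A R] [IsScalarTower k A R]

set_option synthInstance.maxHeartbeats 400000 in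
/-- **Stacks 046Y, explicit stage form.** -/
theorem inj_explicit [IsNoetherianRing (A ⊗[k] S₁)] [Module.Finite (A ⊗[k] S₁) (A ⊗[k] M₁)]
    (u₁ : M₁ →ₗ[S₁] N₁) (π₁ : N₁ →ₗ[S₁] C₁) (hex : Function.Exact u₁ π₁) (hπ : Surjective π₁)
    (Q : Ideal (R ⊗[k] S₁)) [Q.IsPrime]
    (hQ : Q.comap (algebraMap R (R ⊗[k] S₁)) = IsLocalRing.maximalIdeal R)
    (h1 : Module.Flat A (LocalizedModule
      (Q.comap (sMap (IsScalarTower.toAlgHom k A R) S₁)).primeCompl (A ⊗[k] N₁)))
    (hmod : ∀ x : LocalizedModule Q.primeCompl (R ⊗[k] M₁),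
      LocalizedModule.map Q.primeCompl (stageMap k R u₁) x ∈
        (IsLocalRing.maximalIdeal R) •
          (⊤ : Submodule R (LocalizedModule Q.primeCompl (R ⊗[k] N₁))) →
      x ∈ (IsLocalRing.maximalIdeal R) •
        (⊤ : Submodule R (LocalizedModule Q.primeCompl (R ⊗[k] M₁)))) :
    Injective (LocalizedModule.map Q.primeCompl (stageMap k R u₁)) ∧
      Module.Flat R (LocalizedModule Q.primeCompl (R ⊗[k] C₁)) := by
  classical
  set m := IsLocalRing.maximalIdeal R with hm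
  set p' : Ideal A := m.comap (algebraMap A R) with hp'
  -- the primes
  have hsκ : Surjective (algebraMap R (R ⧸ m)) := Ideal.Quotient.mk_surjective
  have hkerκ : RingHom.ker (algebraMap R (R ⧸ m)) = m := Ideal.mk_ker
  have hsD : Surjective (algebraMap A (A ⧸ p')) := Ideal.Quotient.mk_surjective
  have hkerD : RingHom.ker (algebraMap A (A ⧸ p')) = p' := Ideal.mk_ker
  let σ : R ⊗[k] S₁ →ₐ[k] (R ⧸ m) ⊗[k] S₁ := sMap (IsScalarTower.toAlgHom k R (R ⧸ m)) S₁
  have hσsurj : Surjective σ := by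
    intro y
    induction y with
    | zero => exact ⟨0, map_zero _⟩
    | add y₁ y₂ h₁ h₂ =>
      obtain ⟨x₁, rfl⟩ := h₁
      obtain ⟨x₂, rfl⟩ := h₂
      exact ⟨x₁ + x₂, map_add _ _ _⟩
    | tmul a c =>
      obtain ⟨r, rfl⟩ := hsκ a
      exact ⟨r ⊗ₜ c, rfl⟩
  have hkerσ : RingHom.ker σ ≤ Q := by
    letI aC := algXY k R (R ⧸ m) S₁
    haveI tXC : IsScalarTower R (R ⊗[k] S₁) ((R ⧸ m) ⊗[k] S₁) :=
      Groth.Agent.Lib.StageAbs88.isScalarTower_stage
        (AlgEquiv.refl : (R ⧸ m) ⊗[k] S₁ ≃ₐ[R ⧸ m] (R ⧸ m) ⊗[k] S₁) R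
    haveI pC : Algebra.IsPushout R (R ⧸ m) (R ⊗[k] S₁) ((R ⧸ m) ⊗[k] S₁) :=
      Groth.Agent.Lib.StageAbs88.isPushout_stage
        (AlgEquiv.refl : (R ⧸ m) ⊗[k] S₁ ≃ₐ[R ⧸ m] (R ⧸ m) ⊗[k] S₁) R
    have h := Groth.Agent.Lib.DeformRing88.ker_eq_map_of_isPushout (R' := R) (R := R ⧸ m)
      (B' := R ⊗[k] S₁) (B := (R ⧸ m) ⊗[k] S₁) hsκ
    rw [hkerκ] at h
    have h' : RingHom.ker σ = m.map (algebraMap R (R ⊗[k] S₁)) := h
    rw [h', Ideal.map_le_iff_le_comap, hQ]
  set Qκ : Ideal ((R ⧸ m) ⊗[k] S₁) := Q.map σ with hQκ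
  haveI hQκp : Qκ.IsPrime := Ideal.map_isPrime_of_surjective hσsurj hkerσ
  have hQκc : Qκ.comap σ = Q := by
    rw [hQκ, Ideal.comap_map_of_surjective' σ hσsurj, sup_eq_left]
    exact hkerσ
  set QA : Ideal (A ⊗[k] S₁) := Q.comap (sMap (IsScalarTower.toAlgHom k A R) S₁) with hQA
  set QD : Ideal ((A ⧸ p') ⊗[k] S₁) :=
    Qκ.comap (sMap (IsScalarTower.toAlgHom k (A ⧸ p') (R ⧸ m)) S₁) with hQD
  have hQDA : QD.comap (sMap (IsScalarTower.toAlgHom k A (A ⧸ p')) S₁) = QA := by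
    rw [hQD, hQA, ← hQκc]
    ext x
    simp only [Ideal.mem_comap]
    rw [sMap_comp S₁ A (A ⧸ p') (R ⧸ m), ← sMap_comp S₁ A R (R ⧸ m)]
  -- step 1: the top fibre
  have s1 : Injective (LocalizedModule.map Qκ.primeCompl (stageMap k (R ⧸ m) u₁)) := by
    refine (inj_quot_stage R (R ⧸ m) hsκ u₁ Qκ Q hQκc).mpr ?_
    rw [hkerκ]
    exact hmod
  -- step 2: descent along the residue field extension
  letI : Field (R ⧸ m) := Ideal.Quotient.field m
  haveI : IsDomain (A ⧸ p') := Ideal.Quotient.isDomain p'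
  haveI : Module.Flat (A ⧸ p') (R ⧸ m) := by
    apply flat_of_injective_of_field
    rw [injective_iff_map_eq_zero]
    intro x hx
    obtain ⟨a, rfl⟩ := Ideal.Quotient.mk_surjective x
    rw [Ideal.Quotient.eq_zero_iff_mem]
    have : algebraMap (A ⧸ p') (R ⧸ m) (Ideal.Quotient.mk p' a) =
        Ideal.Quotient.mk m (algebraMap A R a) := rfl
    rw [this, Ideal.Quotient.eq_zero_iff_mem] at hx
    exact hx
  have s2 : Injective (LocalizedModule.map QD.primeCompl (stageMap k (A ⧸ p') u₁)) :=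
    inj_desc_stage (A ⧸ p') (R ⧸ m) u₁ Qκ QD rfl s1
  -- step 3: the fibre of the stage
  have s3 := (inj_quot_stage A (A ⧸ p') hsD u₁ QD QA hQDA).mp s2
  rw [hkerD] at s3
  -- step 4: the Noetherian criterion at the stage
  have hpQA : QA.comap (algebraMap A (A ⊗[k] S₁)) = p' := by
    ext a
    rw [Ideal.mem_comap, hQA, Ideal.mem_comap, hp', Ideal.mem_comap, ← hQ, Ideal.mem_comap]
    have : sMap (IsScalarTower.toAlgHom k A R) S₁ (algebraMap A (A ⊗[k] S₁) a) =
        algebraMap R (R ⊗[k] S₁) (algebraMap A R a) := by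
      rw [Algebra.TensorProduct.algebraMap_apply, Algebra.TensorProduct.algebraMap_apply, sMap_tmul]
      simp
    rw [this]
  obtain ⟨s4i, s4f⟩ := noeth_stage A u₁ π₁ hex hπ QA p' hpQA h1 s3
  -- step 5: ascent
  exact ⟨inj_stage_mono u₁ π₁ hex hπ Q s4i s4f, flat_stage_mono Q s4f⟩

end Explicit

section NoethBase

set_option synthInstance.maxHeartbeats 400000 in
/-- **Stacks 046Y over a Noetherian base model.** -/
theorem inj_noeth_base [IsNoetherianRing k] [Algebra.FiniteType k S₁] [Module.Finite S₁ M₁]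
    [Module.Finite S₁ N₁]
    (u₁ : M₁ →ₗ[S₁] N₁) (π₁ : N₁ →ₗ[S₁] C₁) (hex : Function.Exact u₁ π₁) (hπ : Surjective π₁)
    (Q : Ideal (R ⊗[k] S₁)) [Q.IsPrime]
    (hQ : Q.comap (algebraMap R (R ⊗[k] S₁)) = IsLocalRing.maximalIdeal R)
    (h1 : Module.Flat R (LocalizedModule Q.primeCompl (R ⊗[k] N₁)))
    (hmod : ∀ x : LocalizedModule Q.primeCompl (R ⊗[k] M₁),
      LocalizedModule.map Q.primeCompl (stageMap k R u₁) x ∈
        (IsLocalRing.maximalIdeal R) •
          (⊤ : Submodule R (LocalizedModule Q.primeCompl (R ⊗[k] N₁))) →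
      x ∈ (IsLocalRing.maximalIdeal R) •
        (⊤ : Submodule R (LocalizedModule Q.primeCompl (R ⊗[k] M₁)))) :
    Injective (LocalizedModule.map Q.primeCompl (stageMap k R u₁)) ∧
      Module.Flat R (LocalizedModule Q.primeCompl (R ⊗[k] C₁)) := by
  obtain ⟨A, hA, hflat⟩ := exists_fg_flat_stage (k := k) (S := S₁) (M := N₁) (R := R) Q
  have hA' := hflat A le_rfl hA
  have : Algebra.FiniteType k A := (Subalgebra.fg_iff_finiteType A).mp hA
  have : IsNoetherianRing A := Algebra.FiniteType.isNoetherianRing k A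
  have : IsNoetherianRing (A ⊗[k] S₁) := Algebra.FiniteType.isNoetherianRing A (A ⊗[k] S₁)
  exact inj_explicit (k := k) R A u₁ π₁ hex hπ Q hQ hA' hmod

end NoethBase

end Groth.Agent.Lib.LocInjD88
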