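import Groth.Agent.Lib.LocInjD88

/-!
# Stacks 046Y: from the Noetherian model to local rings (helper88)

* `exists_lam`: the localization map `R ⊗[k] Model0 cb → N` with its formula on pure tensors;
-/

set_option autoImplicit false
set_option maxHeartbeats 400000
set_option linter.style.haveILetI false
set_option linter.unusedSectionVars false

open TensorProduct Function
open Groth.Agent.Lib.FlatLimStage88 Groth.Agent.Lib.FlatLimGlobal88 Groth.Agent.Lib.LocInjA88
  Groth.Agent.Lib.LocInjB88 Groth.Agent.Lib.LocInjC88 Groth.Agent.Lib.LocInjD88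
  Groth.Agent.Lib.FlatLimModel88
open scoped Groth.Agent.Lib.FlatLimStage88

universe u

namespace Groth.Agent.Lib.LocInjE88

section L2

variable {A T N : Type u} [CommRing A] [CommRing T] [Algebra A T]
  [AddCommGroup N] [Module T N] [Module A N] [IsScalarTower A T N]

/-- `CritFibD88.exists_isBaseChange_model0` with the formula for the map. -/
theorem exists_isBaseChange_model0' {n m : ℕ} (ub : Fin m → Fin n → A)
    (f : (Fin n → T) →ₗ[T] N) (hf : Surjective f)
    (hker : LinearMap.ker f = Submodule.span T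
      (Set.range fun j i => algebraMap A T (ub j i))) :
    ∃ g' : Model0 ub →ₗ[A] N, IsBaseChange T g' ∧
      ∀ w : Fin n → A, g' (Submodule.Quotient.mk w) = f (fun i => algebraMap A T (w i)) := by
  let e1 : T ⊗[A] A ≃ₐ[T] T := Algebra.TensorProduct.rid A T T
  have hub0 : ∀ a : A, iota0 e1 a = algebraMap A T a := by
    intro a
    rw [iota0_apply]
    simp [e1, Algebra.smul_def]
  have hub1 : ∀ j i, iota0 e1 (ub j i) = algebraMap A T (ub j i) := fun j i => hub0 _
  let E1 : T ⊗[A] Model0 ub ≃ₗ[T] N :=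
    modelEquiv e1 f (fun j i => algebraMap A T (ub j i)) hub1 hker hf
  let g' : Model0 ub →ₗ[A] N :=
    (E1.toLinearMap.restrictScalars A) ∘ₗ (TensorProduct.mk A T (Model0 ub) 1)
  refine ⟨g', IsBaseChange.of_equiv E1 (fun x => rfl), fun w => ?_⟩
  change Psi e1 f (fun j i => algebraMap A T (ub j i)) hub1 hker
    ((1 : T) ⊗ₜ[A] Submodule.Quotient.mk w) = _
  rw [Psi_tmul, one_smul]
  congr 1
  funext i
  exact hub0 _

end L2

section L3

variable {k C₀ : Type u} [CommRing k] [CommRing C₀] [Algebra k C₀]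
  (R : Type u) [CommRing R] [Algebra k R]

/-- `CritFibD88.exists_stage_model_equiv` with the formula for the map. -/
theorem exists_stage_model_equiv' {n m : ℕ} (cb : Fin m → Fin n → C₀) :
    ∃ E : R ⊗[k] Model0 cb ≃ₗ[R ⊗[k] C₀] Model0 (fun j i => (1 : R) ⊗ₜ[k] cb j i),
      ∀ (r : R) (w : Fin n → C₀), E (r ⊗ₜ[k] Submodule.Quotient.mk w) =
        r • Submodule.Quotient.mk (fun i => (1 : R) ⊗ₜ[k] w i) := by
  let ub' : Fin m → Fin n → R ⊗[k] C₀ := fun j i => (1 : R) ⊗ₜ[k] cb j i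
  let e2 : R ⊗[k] C₀ ≃ₐ[R] R ⊗[k] C₀ := AlgEquiv.refl
  let f2 : (Fin n → R ⊗[k] C₀) →ₗ[R ⊗[k] C₀] Model0 ub' := Submodule.mkQ _
  have hu2 : LinearMap.ker f2 = Submodule.span (R ⊗[k] C₀) (Set.range ub') := Submodule.ker_mkQ _
  have hf2 : Surjective f2 := Submodule.mkQ_surjective _
  have hub2 : ∀ j i, iota0 e2 (cb j i) = ub' j i := fun j i => rfl
  let E2 : R ⊗[k] Model0 cb ≃ₗ[R] Model0 ub' := modelEquiv e2 f2 ub' hub2 hu2 hf2
  have hE2 : ∀ (c : R ⊗[k] C₀) (y : R ⊗[k] Model0 cb), E2 (c • y) = c • E2 y :=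
    modelEquiv_smul e2 f2 ub' hub2 hu2 hf2
  refine ⟨{ E2 with map_smul' := hE2 }, fun r w => ?_⟩
  change Psi e2 f2 ub' hub2 hu2 (r ⊗ₜ[k] Submodule.Quotient.mk w) = _
  rw [Psi_tmul]
  rfl

end L3

section Lam

variable {k C₀ : Type u} [CommRing k] [CommRing C₀] [Algebra k C₀]
  (R : Type u) [CommRing R] [Algebra k R]
  {T N : Type u} [CommRing T] [Algebra (R ⊗[k] C₀) T]
  [AddCommGroup N] [Module T N] [Module (R ⊗[k] C₀) N] [IsScalarTower (R ⊗[k] C₀) T N]
  [Module R N] [IsScalarTower R (R ⊗[k] C₀) N]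

set_option synthInstance.maxHeartbeats 400000 in
/-- The localization map from the stage of the model module. -/
theorem exists_lam (Q : Ideal (R ⊗[k] C₀)) [Q.IsPrime] [IsLocalization.AtPrime T Q]
    {n m : ℕ} (cb : Fin m → Fin n → C₀) (f : (Fin n → T) →ₗ[T] N) (hf : Surjective f)
    (hker : LinearMap.ker f = Submodule.span T
      (Set.range fun j i => algebraMap (R ⊗[k] C₀) T ((1 : R) ⊗ₜ[k] cb j i))) :
    ∃ Λ : R ⊗[k] Model0 cb →ₗ[R ⊗[k] C₀] N, IsLocalizedModule Q.primeCompl Λ ∧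
      ∀ (r : R) (w : Fin n → C₀), Λ (r ⊗ₜ[k] Submodule.Quotient.mk w) =
        r • f (fun i => algebraMap (R ⊗[k] C₀) T ((1 : R) ⊗ₜ[k] w i)) := by
  obtain ⟨g', hg', hg'f⟩ := exists_isBaseChange_model0' (A := R ⊗[k] C₀) (T := T) (N := N)
    (fun j i => (1 : R) ⊗ₜ[k] cb j i) f hf hker
  obtain ⟨E2, hE2⟩ := exists_stage_model_equiv' (k := k) R cb
  haveI hl' : IsLocalizedModule Q.primeCompl g' :=
    (isLocalizedModule_iff_isBaseChange Q.primeCompl T g').mpr hg'
  haveI hl : IsLocalizedModule Q.primeCompl (g' ∘ₗ E2.toLinearMap) :=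
    IsLocalizedModule.of_linearEquiv_right Q.primeCompl g' E2
  refine ⟨g' ∘ₗ E2.toLinearMap, hl, fun r w => ?_⟩
  rw [LinearMap.comp_apply, LinearEquiv.coe_coe, hE2]
  have h1 : (r • (Submodule.Quotient.mk (fun i => (1 : R) ⊗ₜ[k] w i) :
      Model0 (fun j i => (1 : R) ⊗ₜ[k] cb j i))) =
      (algebraMap R (R ⊗[k] C₀) r) • (Submodule.Quotient.mk (fun i => (1 : R) ⊗ₜ[k] w i) :
        Model0 (fun j i => (1 : R) ⊗ₜ[k] cb j i)) := by
    rw [algebraMap_smul]
  rw [h1, map_smul, hg'f, algebraMap_smul]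

end Lam

end Groth.Agent.Lib.LocInjE88
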