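import Groth.Agent.Lib.LocInjE88

/-!
# Stacks 046Y: stage-module form (helper88)

* `inj_stage_module`: `R` local, `T` the localization of `R ⊗[k] B₀` at a prime `Q` over `𝔪_R`
  (`k` Noetherian, `B₀` of finite type), `M`, `N` modules over `T` presented by matrices with entries
  from `B₀`, `u : M → N` given on the generators by a matrix with entries from `B₀`, `N` flat over
  `R` and `u` injective modulo `𝔪_R`. Then `u` is injective with `R`-flat cokernel.
-/

set_option autoImplicit false
set_option maxHeartbeats 400000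
set_option linter.style.haveILetI false
set_option linter.unusedSectionVars false

open TensorProduct Function
open Groth.Agent.Lib.FlatLimStage88 Groth.Agent.Lib.FlatLimGlobal88 Groth.Agent.Lib.LocInjA88
  Groth.Agent.Lib.LocInjB88 Groth.Agent.Lib.LocInjC88 Groth.Agent.Lib.LocInjD88
  Groth.Agent.Lib.LocInjE88 Groth.Agent.Lib.FlatLimModel88
open scoped Groth.Agent.Lib.FlatLimStage88

universe u

namespace Groth.Agent.Lib.LocInjF88

section Aux

variable {R X Y : Type*} [CommRing R] [AddCommMonoid X] [Module R X] [AddCommMonoid Y] [Module R Y]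

theorem mem_smul_top_of_equiv (e : X →ₗ[R] Y) (I : Ideal R) {x : X}
    (hx : x ∈ I • (⊤ : Submodule R X)) : e x ∈ I • (⊤ : Submodule R Y) := by
  refine Submodule.smul_induction_on hx (fun a ha n _ => ?_) (fun a b ha hb => ?_)
  · rw [map_smul]
    exact Submodule.smul_mem_smul ha Submodule.mem_top
  · rw [map_add]
    exact add_mem ha hb

theorem mem_smul_top_equiv_iff (e : X ≃ₗ[R] Y) (I : Ideal R) (x : X) :
    e x ∈ I • (⊤ : Submodule R Y) ↔ x ∈ I • (⊤ : Submodule R X) := by
  constructor
  · intro h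
    have := mem_smul_top_of_equiv e.symm.toLinearMap I h
    simpa using this
  · exact mem_smul_top_of_equiv e.toLinearMap I

end Aux

section Coker

variable {R T M N Z : Type*} [CommRing R] [CommRing T] [Algebra R T]
  [AddCommGroup M] [Module T M]
  [AddCommGroup N] [Module T N] [Module R N] [IsScalarTower R T N]
  [AddCommGroup Z] [Module R Z]

/-- Flatness of the cokernel from an exact sequence. -/
theorem flat_quot_range_of_exact (u : M →ₗ[T] N) (g : N →ₗ[R] Z) (hex : Function.Exact u g)
    (hg : Surjective g) (hZ : Module.Flat R Z) : Module.Flat R (N ⧸ LinearMap.range u) := by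
  have heq : (LinearMap.range u).restrictScalars R = LinearMap.ker g := by
    ext y
    rw [Submodule.restrictScalars_mem, LinearMap.mem_ker, hex y]
    rfl
  let e1 : (N ⧸ (LinearMap.range u).restrictScalars R) ≃ₗ[R] N ⧸ LinearMap.range u :=
    Submodule.Quotient.restrictScalarsEquiv R (LinearMap.range u)
  let e2 : (N ⧸ (LinearMap.range u).restrictScalars R) ≃ₗ[R] (N ⧸ LinearMap.ker g) :=
    Submodule.quotEquivOfEq _ _ heq
  let e3 : (N ⧸ LinearMap.ker g) ≃ₗ[R] Z := g.quotKerEquivOfSurjective hg
  exact Module.Flat.of_linearEquiv (e1.symm ≪≫ₗ e2 ≪≫ₗ e3)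

end Coker

section StageModule

variable {k B₀ : Type u} [CommRing k] [CommRing B₀] [Algebra k B₀]
  (R : Type u) [CommRing R] [Algebra k R] [IsLocalRing R]
  {T M N : Type u} [CommRing T] [Algebra (R ⊗[k] B₀) T] [Algebra R T]
  [IsScalarTower R (R ⊗[k] B₀) T]
  [AddCommGroup M] [Module T M] [Module (R ⊗[k] B₀) M] [IsScalarTower (R ⊗[k] B₀) T M]
  [Module R M] [IsScalarTower R (R ⊗[k] B₀) M] [IsScalarTower R T M]
  [AddCommGroup N] [Module T N] [Module (R ⊗[k] B₀) N] [IsScalarTower (R ⊗[k] B₀) T N]
  [Module R N] [IsScalarTower R (R ⊗[k] B₀) N] [IsScalarTower R T N]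

set_option synthInstance.maxHeartbeats 400000 in
/-- **Stacks 046Y, stage-module form.** -/
theorem inj_stage_module [IsNoetherianRing k] [Algebra.FiniteType k B₀]
    (Q : Ideal (R ⊗[k] B₀)) [Q.IsPrime] [IsLocalization.AtPrime T Q]
    (hQ : Q.comap (algebraMap R (R ⊗[k] B₀)) = IsLocalRing.maximalIdeal R)
    {nM mM nN mN : ℕ} (pm : Fin mM → Fin nM → B₀) (pn : Fin mN → Fin nN → B₀)
    (vv : Fin nM → Fin nN → B₀)
    (fM : (Fin nM → T) →ₗ[T] M) (hfM : Surjective fM)
    (hkerM : LinearMap.ker fM = Submodule.span T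
      (Set.range fun j i => algebraMap (R ⊗[k] B₀) T ((1 : R) ⊗ₜ[k] pm j i)))
    (fN : (Fin nN → T) →ₗ[T] N) (hfN : Surjective fN)
    (hkerN : LinearMap.ker fN = Submodule.span T
      (Set.range fun j i => algebraMap (R ⊗[k] B₀) T ((1 : R) ⊗ₜ[k] pn j i)))
    (u : M →ₗ[T] N)
    (huf : ∀ j, u (fM (Pi.single j 1)) =
      fN (fun i => algebraMap (R ⊗[k] B₀) T ((1 : R) ⊗ₜ[k] vv j i)))
    (h1 : Module.Flat R N)
    (hmod : ∀ x : M, u x ∈ (IsLocalRing.maximalIdeal R) • (⊤ : Submodule R N) →
      x ∈ (IsLocalRing.maximalIdeal R) • (⊤ : Submodule R M)) :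
    Injective u ∧ Module.Flat R (N ⧸ LinearMap.range u) := by
  classical
  let ι : B₀ →+* T := (algebraMap (R ⊗[k] B₀) T).comp
    (Algebra.TensorProduct.includeRight : B₀ →ₐ[k] R ⊗[k] B₀).toRingHom
  have hι : ∀ b, algebraMap (R ⊗[k] B₀) T ((1 : R) ⊗ₜ[k] b) = ι b := fun b => rfl
  simp only [hι] at hkerM hkerN huf
  -- matrix maps
  let U₀ : (Fin nM → B₀) →ₗ[B₀] (Fin nN → B₀) := Fintype.linearCombination B₀ vv
  have hU₀ : ∀ w, U₀ w = ∑ j, w j • vv j := fun w => Fintype.linearCombination_apply B₀ vv w
  have hufM : ∀ x : Fin nM → T, u (fM x) = fN (∑ j, x j • (fun i => ι (vv j i))) := by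
    intro x
    have hx : x = ∑ j, x j • (Pi.single j (1 : T) : Fin nM → T) := (sum_smul_single x).symm
    conv_lhs => rw [hx]
    simp only [map_sum, map_smul, huf]
  have hιU : ∀ w : Fin nM → B₀,
      (fun i => ι (U₀ w i)) = ∑ j, ι (w j) • (fun i => ι (vv j i)) := by
    intro w
    funext i
    rw [hU₀]
    simp [Finset.sum_apply, map_sum, map_mul]
  -- the enlarged relations for `N`
  let pn' : Fin (mN + mM) → Fin nN → B₀ := Fin.append pn (fun j => U₀ (pm j))
  have hkerN' : LinearMap.ker fN = Submodule.span T (Set.range fun j i => ι (pn' j i)) := by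
    apply le_antisymm
    · rw [hkerN, Submodule.span_le]
      rintro _ ⟨j, rfl⟩
      refine Submodule.subset_span ⟨Fin.castAdd mM j, ?_⟩
      funext i
      simp only [pn', Fin.append_left]
    · rw [Submodule.span_le]
      rintro _ ⟨j, rfl⟩
      induction j using Fin.addCases with
      | left j =>
        rw [SetLike.mem_coe, hkerN]
        refine Submodule.subset_span ⟨j, ?_⟩
        funext i
        simp only [pn', Fin.append_left]
      | right j =>
        rw [SetLike.mem_coe, LinearMap.mem_ker]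
        change fN (fun i => ι (pn' (Fin.natAdd mN j) i)) = 0
        have h1 : (fun i => ι (pn' (Fin.natAdd mN j) i)) = fun i => ι (U₀ (pm j) i) := by
          funext i
          simp only [pn', Fin.append_right]
        rw [h1, hιU, ← hufM]
        have h2 : (fun l => ι (pm j l)) ∈ LinearMap.ker fM := by
          rw [hkerM]
          exact Submodule.subset_span ⟨j, rfl⟩
        rw [LinearMap.mem_ker] at h2
        rw [h2, map_zero]
  obtain ⟨ΛM, hΛMloc, hΛM⟩ := exists_lam (k := k) R Q pm fM hfM hkerM
  obtain ⟨ΛN, hΛNloc, hΛN⟩ := exists_lam (k := k) R Q pn' fN hfN hkerN'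
  simp only [hι] at hΛM hΛN
  -- the model map
  have hle : Submodule.span B₀ (Set.range pm) ≤ (Submodule.span B₀ (Set.range pn')).comap U₀ := by
    rw [Submodule.span_le]
    rintro _ ⟨j, rfl⟩
    rw [SetLike.mem_coe, Submodule.mem_comap]
    refine Submodule.subset_span ⟨Fin.natAdd mN j, ?_⟩
    simp only [pn', Fin.append_right]
  let u₁ : Model0 pm →ₗ[B₀] Model0 pn' := Submodule.mapQ _ _ U₀ hle
  have hu₁ : ∀ w, u₁ (Submodule.Quotient.mk w) = Submodule.Quotient.mk (U₀ w) := fun w => rfl
  let π₁ : Model0 pn' →ₗ[B₀] (Model0 pn' ⧸ LinearMap.range u₁) := (LinearMap.range u₁).mkQ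
  have hex : Function.Exact u₁ π₁ := LinearMap.exact_map_mkQ_range u₁
  have hπ : Surjective π₁ := Submodule.mkQ_surjective _
  -- compatibility
  have hcomm : ∀ y : R ⊗[k] Model0 pm, u (ΛM y) = ΛN (stageMap k R u₁ y) := by
    intro y
    induction y with
    | zero => simp
    | add y₁ y₂ h₁ h₂ => simp only [map_add, h₁, h₂]
    | tmul r x =>
      obtain ⟨w, rfl⟩ := Submodule.Quotient.mk_surjective _ x
      rw [stageMap_tmul, hu₁, hΛM, hΛN, LinearMap.map_smul_of_tower, hufM, hιU]
  haveI := hΛMloc
  haveI := hΛNloc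
  let lamM : LocalizedModule Q.primeCompl (R ⊗[k] Model0 pm) ≃ₗ[R ⊗[k] B₀] M :=
    IsLocalizedModule.iso Q.primeCompl ΛM
  let lamN : LocalizedModule Q.primeCompl (R ⊗[k] Model0 pn') ≃ₗ[R ⊗[k] B₀] N :=
    IsLocalizedModule.iso Q.primeCompl ΛN
  let F := LocalizedModule.map Q.primeCompl (stageMap k R u₁)
  have hlam : ∀ x, lamN (F x) = u (lamM x) := by
    intro x
    induction x using LocalizedModule.induction_on with
    | h y s =>
      apply IsLocalizedModule.smul_injective ΛN s
      change (s : R ⊗[k] B₀) • lamN (F (LocalizedModule.mk y s)) =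
        (s : R ⊗[k] B₀) • u (lamM (LocalizedModule.mk y s))
      have e1 : (s : R ⊗[k] B₀) • lamN (F (LocalizedModule.mk y s)) =
          ΛN (stageMap k R u₁ y) := by
        rw [← map_smul, ← LinearMap.map_smul_of_tower, LocalizedModule.smul'_mk]
        have : (LocalizedModule.mk ((s : R ⊗[k] B₀) • y) s :
            LocalizedModule Q.primeCompl (R ⊗[k] Model0 pm)) = LocalizedModule.mk y 1 :=
          LocalizedModule.mk_cancel s y
        rw [this]
        change lamN (LocalizedModule.map Q.primeCompl (stageMap k R u₁)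
          (LocalizedModule.mk y 1)) = _
        rw [LocalizedModule.map_mk]
        exact IsLocalizedModule.iso_mk_one Q.primeCompl ΛN _
      have e2 : (s : R ⊗[k] B₀) • u (lamM (LocalizedModule.mk y s)) = u (ΛM y) := by
        rw [← LinearMap.map_smul_of_tower, ← map_smul, LocalizedModule.smul'_mk]
        have : (LocalizedModule.mk ((s : R ⊗[k] B₀) • y) s :
            LocalizedModule Q.primeCompl (R ⊗[k] Model0 pm)) = LocalizedModule.mk y 1 :=
          LocalizedModule.mk_cancel s y
        rw [this]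
        congr 1
        exact IsLocalizedModule.iso_mk_one Q.primeCompl ΛM _
      rw [e1, e2, hcomm]
  -- hypotheses at the model
  have h1' : Module.Flat R (LocalizedModule Q.primeCompl (R ⊗[k] Model0 pn')) :=
    Module.Flat.of_linearEquiv (lamN.restrictScalars R)
  have hmod' : ∀ x : LocalizedModule Q.primeCompl (R ⊗[k] Model0 pm),
      F x ∈ (IsLocalRing.maximalIdeal R) •
        (⊤ : Submodule R (LocalizedModule Q.primeCompl (R ⊗[k] Model0 pn'))) →
      x ∈ (IsLocalRing.maximalIdeal R) •
        (⊤ : Submodule R (LocalizedModule Q.primeCompl (R ⊗[k] Model0 pm))) := by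
    intro x hx
    rw [← mem_smul_top_equiv_iff (lamM.restrictScalars R)]
    apply hmod
    have := (mem_smul_top_equiv_iff (lamN.restrictScalars R) _ (F x)).mpr hx
    change u (lamM x) ∈ _
    rw [← hlam]
    exact this
  obtain ⟨hinj, hflat⟩ := inj_noeth_base (k := k) R u₁ π₁ hex hπ Q hQ h1' hmod'
  refine ⟨?_, ?_⟩
  · rw [injective_iff_map_eq_zero]
    intro x hx
    obtain ⟨z, rfl⟩ := lamM.surjective x
    rw [← hlam] at hx
    have h2 : F z = 0 := by
      apply lamN.injective
      rw [hx, map_zero]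
    have h3 : z = 0 := by
      apply hinj
      rw [map_zero]
      exact h2
    rw [h3, map_zero]
  · let G := LocalizedModule.map Q.primeCompl (stageMap k R π₁)
    have hexG : Function.Exact F G :=
      LocalizedModule.map_exact Q.primeCompl _ _ (stageMap_exact R u₁ π₁ hex hπ)
    have hsurjG : Surjective G :=
      LocalizedModule.map_surjective Q.primeCompl _ (stageMap_surjective R π₁ hπ)
    let g : N →ₗ[R] LocalizedModule Q.primeCompl (R ⊗[k] (Model0 pn' ⧸ LinearMap.range u₁)) :=
      (G.restrictScalars R) ∘ₗ (lamN.symm.toLinearMap.restrictScalars R)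
    have hg : Surjective g := hsurjG.comp lamN.symm.surjective
    have hexg : Function.Exact u g := by
      intro y
      change G (lamN.symm y) = 0 ↔ y ∈ Set.range u
      rw [hexG (lamN.symm y)]
      constructor
      · rintro ⟨z, hz⟩
        refine ⟨lamM z, ?_⟩
        rw [← hlam, hz, LinearEquiv.apply_symm_apply]
      · rintro ⟨x, rfl⟩
        refine ⟨lamM.symm x, ?_⟩
        apply lamN.injective
        rw [hlam, LinearEquiv.apply_symm_apply, LinearEquiv.apply_symm_apply]
    exact flat_quot_range_of_exact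
      (Z := LocalizedModule Q.primeCompl (R ⊗[k] (Model0 pn' ⧸ LinearMap.range u₁)))
      u g hexg hg hflat

end StageModule

end Groth.Agent.Lib.LocInjF88
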