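import Groth.Agent.Lib.LocInjF88
import Groth.Agent.Lib.CritFibG88

/-!
# Stacks 046Y / EGA IV 11.3.7 for essentially finitely presented local algebras (helper88)

* `exists_model_data_fam`: a Noetherian model of a finitely presented algebra with lifts of a finite
  family of elements.
* `injective_and_flat_of_essFP`: `R → S` a local homomorphism of local rings, `S` essentially of
  finite presentation over `R`, `M`, `N` finitely presented `S`-modules, `N` flat over `R`,
  `u : M → N` injective modulo `𝔪_R`. Then `u` is injective and `coker u` is flat over `R`.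
-/

set_option autoImplicit false
set_option maxHeartbeats 400000
set_option linter.style.haveILetI false
set_option linter.unusedSectionVars false

open TensorProduct Function
open Groth.Agent.Lib.FlatLimModel88 Groth.Agent.Lib.LocInjF88 Groth.Agent.Lib.CritFibD88
  Groth.Agent.Lib.CritFibG88

universe u

namespace Groth.Agent.Lib.LocInjG88

/-- A Noetherian model of a finitely presented algebra with lifts of a finite family. -/
theorem exists_model_data_fam {R B : Type u} [CommRing R] [CommRing B] [Algebra R B]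
    [Algebra.FinitePresentation R B] {ι : Type*} [Finite ι] (a : ι → B) :
    ∃ (k : Type u) (_ : CommRing k) (_ : Algebra k R) (B₀ : Type u) (_ : CommRing B₀)
      (_ : Algebra k B₀) (e : R ⊗[k] B₀ ≃ₐ[R] B) (ab : ι → B₀),
      Algebra.FiniteType ℤ k ∧ Algebra.FiniteType k B₀ ∧ ∀ i, iota0 e (ab i) = a i := by
  classical
  haveI := Fintype.ofFinite ι
  let eqv : ι ≃ Fin (Fintype.card ι) := Fintype.equivFin ι
  obtain ⟨k, _, _, B₀, _, _, e, ub, hk, hB₀, hub⟩ :=
    Groth.Agent.Lib.FlatLimDirected88.exists_model_data (R := R) (S := B)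
      (fun (_ : Fin 1) (i : Fin (Fintype.card ι)) => a (eqv.symm i))
  refine ⟨k, inferInstance, inferInstance, B₀, inferInstance, inferInstance, e,
    fun i => ub 0 (eqv i), hk, hB₀, fun i => ?_⟩
  rw [hub 0 (eqv i), Equiv.symm_apply_apply]

section Main

variable {R S M N : Type u} [CommRing R] [CommRing S] [IsLocalRing R] [IsLocalRing S]
  [Algebra R S] [IsLocalHom (algebraMap R S)]
  [AddCommGroup M] [Module S M] [Module R M] [IsScalarTower R S M]
  [AddCommGroup N] [Module S N] [Module R N] [IsScalarTower R S N]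

set_option synthInstance.maxHeartbeats 400000 in
/-- **Stacks 046Y / EGA IV 11.3.7**, `R`-submodule form of the hypothesis. -/
theorem injective_and_flat_of_essFP' (hS : CAlgX.IsEssFinitePresentation R S)
    [Module.FinitePresentation S M] [Module.FinitePresentation S N] [Module.Flat R N]
    (u : M →ₗ[S] N)
    (hu : ∀ x : M, u x ∈ (IsLocalRing.maximalIdeal R) • (⊤ : Submodule R N) →
      x ∈ (IsLocalRing.maximalIdeal R) • (⊤ : Submodule R M)) :
    Injective u ∧ Module.Flat R (N ⧸ LinearMap.range u) := by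
  classical
  obtain ⟨B, _, _, _, _, W, hBfp, hWloc⟩ := hS
  haveI hq := isLocalization_atPrime_of_isLocalRing (B := B) (S := S) W
  haveI hqp : ((IsLocalRing.maximalIdeal S).comap (algebraMap B S)).IsPrime :=
    Ideal.comap_isPrime _ _
  set qB : Ideal B := (IsLocalRing.maximalIdeal S).comap (algebraMap B S) with hqB
  -- presentations
  obtain ⟨nM, mM, cM, fM₀, hfM₀, hkerM₀⟩ :=
    exists_presentation_of_isLocalization (C := B) (T := S) (N := M) W
  obtain ⟨nN, mN, cN, fN, hfN, hkerN⟩ :=
    exists_presentation_of_isLocalization (C := B) (T := S) (N := N) W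
  choose v hv using fun j : Fin nM => hfN (u (fM₀ (Pi.single j 1)))
  obtain ⟨s, hs⟩ := IsLocalization.exist_integer_multiples_of_finite W
    (fun p : Fin nM × Fin nN => v p.1 p.2)
  choose cV hcV using hs
  have hunit : IsUnit (algebraMap B S (s : B)) := IsLocalization.map_units S s
  obtain ⟨a, ha⟩ := hunit
  let fM : (Fin nM → S) →ₗ[S] M := (a : S) • fM₀
  have hfMa : ∀ x, fM x = (a : S) • fM₀ x := fun x => rfl
  have hfM : Surjective fM := by
    intro y
    obtain ⟨x, rfl⟩ := hfM₀ y
    refine ⟨((a⁻¹ : Sˣ) : S) • x, ?_⟩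
    rw [hfMa, map_smul, smul_smul, Units.mul_inv, one_smul]
  have hkerM : LinearMap.ker fM = LinearMap.ker fM₀ := by
    ext x
    rw [LinearMap.mem_ker, LinearMap.mem_ker, hfMa]
    constructor
    · intro h
      have : ((a⁻¹ : Sˣ) : S) • ((a : S) • fM₀ x) = 0 := by rw [h, smul_zero]
      rwa [smul_smul, Units.inv_mul, one_smul] at this
    · intro h
      rw [h, smul_zero]
  have huf₀ : ∀ j, u (fM (Pi.single j 1)) = fN (fun i => algebraMap B S (cV (j, i))) := by
    intro j
    rw [hfMa, map_smul, ← hv j, ← map_smul]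
    congr 1
    funext i
    rw [hcV (j, i), Pi.smul_apply, ha, smul_eq_mul, Algebra.smul_def]
  -- the model
  let ent : (Fin mM × Fin nM) ⊕ ((Fin mN × Fin nN) ⊕ (Fin nM × Fin nN)) → B :=
    Sum.elim (fun p => cM p.1 p.2) (Sum.elim (fun p => cN p.1 p.2) cV)
  obtain ⟨k, _, _, B₀, _, _, e, ab, hk, hB₀, hab⟩ := exists_model_data_fam (R := R) (B := B) ent
  haveI : IsNoetherianRing k := Algebra.FiniteType.isNoetherianRing ℤ k
  let pm : Fin mM → Fin nM → B₀ := fun j i => ab (Sum.inl (j, i))
  let pn : Fin mN → Fin nN → B₀ := fun j i => ab (Sum.inr (Sum.inl (j, i)))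
  let vv : Fin nM → Fin nN → B₀ := fun j i => ab (Sum.inr (Sum.inr (j, i)))
  have hpm : ∀ j i, e ((1 : R) ⊗ₜ[k] pm j i) = cM j i := fun j i => hab (Sum.inl (j, i))
  have hpn : ∀ j i, e ((1 : R) ⊗ₜ[k] pn j i) = cN j i := fun j i => hab (Sum.inr (Sum.inl (j, i)))
  have hvv : ∀ j i, e ((1 : R) ⊗ₜ[k] vv j i) = cV (j, i) :=
    fun j i => hab (Sum.inr (Sum.inr (j, i)))
  -- the induced structures
  letI algT : Algebra (R ⊗[k] B₀) S :=
    ((algebraMap B S).comp (e : R ⊗[k] B₀ →+* B)).toAlgebra
  have halgT : ∀ x, algebraMap (R ⊗[k] B₀) S x = algebraMap B S (e x) := fun x => rfl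
  haveI : IsScalarTower R (R ⊗[k] B₀) S := IsScalarTower.of_algebraMap_eq (fun r => by
    rw [halgT, e.commutes, ← IsScalarTower.algebraMap_apply])
  letI modM : Module (R ⊗[k] B₀) M := Module.compHom M (algebraMap (R ⊗[k] B₀) S)
  letI modN : Module (R ⊗[k] B₀) N := Module.compHom N (algebraMap (R ⊗[k] B₀) S)
  have hsmM : ∀ (x : R ⊗[k] B₀) (z : M), x • z = algebraMap (R ⊗[k] B₀) S x • z := fun _ _ => rfl
  have hsmN : ∀ (x : R ⊗[k] B₀) (z : N), x • z = algebraMap (R ⊗[k] B₀) S x • z := fun _ _ => rfl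
  haveI : IsScalarTower (R ⊗[k] B₀) S M := ⟨fun x t z => by
    rw [hsmM, Algebra.smul_def, mul_smul]⟩
  haveI : IsScalarTower (R ⊗[k] B₀) S N := ⟨fun x t z => by
    rw [hsmN, Algebra.smul_def, mul_smul]⟩
  haveI : IsScalarTower R (R ⊗[k] B₀) M := ⟨fun r x z => by
    rw [hsmM, hsmM, Algebra.smul_def, map_mul, mul_smul,
      ← IsScalarTower.algebraMap_apply R (R ⊗[k] B₀) S, algebraMap_smul]⟩
  haveI : IsScalarTower R (R ⊗[k] B₀) N := ⟨fun r x z => by
    rw [hsmN, hsmN, Algebra.smul_def, map_mul, mul_smul,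
      ← IsScalarTower.algebraMap_apply R (R ⊗[k] B₀) S, algebraMap_smul]⟩
  -- the prime
  let Q' : Ideal (R ⊗[k] B₀) := qB.comap (e : R ⊗[k] B₀ →+* B)
  haveI : Q'.IsPrime := Ideal.comap_isPrime _ _
  have hM : Q'.primeCompl.map (e.toRingEquiv : R ⊗[k] B₀ →* B) = qB.primeCompl := by
    ext x
    constructor
    · rintro ⟨y, hy, rfl⟩
      exact hy
    · intro hx
      refine ⟨e.symm x, ?_, e.apply_symm_apply x⟩
      change e.symm x ∉ Q'
      rw [Ideal.mem_comap]
      change ¬ (e (e.symm x) ∈ qB)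
      rw [e.apply_symm_apply]
      exact hx
  haveI : IsLocalization.AtPrime S Q' :=
    IsLocalization.of_ringEquiv_left e.toRingEquiv hM (fun x => rfl)
  have hQ' : Q'.comap (algebraMap R (R ⊗[k] B₀)) = IsLocalRing.maximalIdeal R := by
    ext r
    rw [Ideal.mem_comap, Ideal.mem_comap]
    change e (algebraMap R (R ⊗[k] B₀) r) ∈ qB ↔ _
    rw [e.commutes, hqB, Ideal.mem_comap, ← IsScalarTower.algebraMap_apply,
      IsLocalRing.mem_maximalIdeal, IsLocalRing.mem_maximalIdeal, mem_nonunits_iff,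
      mem_nonunits_iff, not_iff_not]
    exact ⟨fun h => isUnit_of_map_unit (algebraMap R S) r h, fun h => h.map _⟩
  have hkerM' : LinearMap.ker fM = Submodule.span S
      (Set.range fun j i => algebraMap (R ⊗[k] B₀) S ((1 : R) ⊗ₜ[k] pm j i)) := by
    rw [hkerM, hkerM₀]
    congr 2
    funext j i
    rw [halgT, hpm]
  have hkerN' : LinearMap.ker fN = Submodule.span S
      (Set.range fun j i => algebraMap (R ⊗[k] B₀) S ((1 : R) ⊗ₜ[k] pn j i)) := by
    rw [hkerN]
    congr 2
    funext j i
    rw [halgT, hpn]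
  have huf : ∀ j, u (fM (Pi.single j 1)) =
      fN (fun i => algebraMap (R ⊗[k] B₀) S ((1 : R) ⊗ₜ[k] vv j i)) := by
    intro j
    rw [huf₀]
    congr 1
    funext i
    rw [halgT, hvv]
  exact inj_stage_module (k := k) (B₀ := B₀) R (T := S) (M := M) (N := N) Q' hQ' pm pn vv
    fM hfM hkerM' fN hfN hkerN' u huf inferInstance hu

/-- **Stacks 046Y / EGA IV 11.3.7.** -/
theorem injective_and_flat_of_essFP (hS : CAlgX.IsEssFinitePresentation R S)
    [Module.FinitePresentation S M] [Module.FinitePresentation S N] [Module.Flat R N]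
    (u : M →ₗ[S] N)
    (hu : ∀ x : M, u x ∈ (IsLocalRing.maximalIdeal R).map (algebraMap R S) •
        (⊤ : Submodule S N) →
      x ∈ (IsLocalRing.maximalIdeal R).map (algebraMap R S) • (⊤ : Submodule S M)) :
    Injective u ∧ Module.Flat R (N ⧸ LinearMap.range u) := by
  refine injective_and_flat_of_essFP' hS u (fun x hx => ?_)
  rw [← Groth.Agent.Lib.CritFibE88.smul_top_map_iff (S := S)] at hx ⊢
  exact hu x hx

end Main

end Groth.Agent.Lib.LocInjG88
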