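import Mathlib

/-!
# Localization with respect to the inverted morphisms, and adjunctions on complexes

* `isLocalization_inverseImage_of_comp`: if `L₁` is a localization functor with essentially
  surjective arrows and `L₁ ⋙ L₂` is a localization w.r.t. the morphisms it inverts, so is `L₂`.
* `mapHomologicalComplexAdj`: an adjunction of additive functors induces one on homological
  complexes (unit/counit termwise).
-/

set_option autoImplicit false
open CategoryTheory

namespace Groth.Agent.Lib.LocInverseImage66

universe v₁ v₂ v₃ u₁ u₂ u₃
variable {C₁ : Type u₁} [Category.{v₁} C₁] {C₂ : Type u₂} [Category.{v₂} C₂]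
  {C₃ : Type u₃} [Category.{v₃} C₃]

/-- If `L₁` is a localization functor whose arrows are essentially surjective and `L₁ ⋙ L₂` is a
localization with respect to the morphisms it inverts, then so is `L₂`. -/
lemma isLocalization_inverseImage_of_comp (L₁ : C₁ ⥤ C₂) (L₂ : C₂ ⥤ C₃)
    (W₁ : MorphismProperty C₁) [L₁.IsLocalization W₁]
    [(L₁ ⋙ L₂).IsLocalization ((MorphismProperty.isomorphisms C₃).inverseImage (L₁ ⋙ L₂))]
    (harr : ∀ {X Y : C₂} (φ : X ⟶ Y), ∃ (X' Y' : C₁) (g : X' ⟶ Y'),
      Nonempty (Arrow.mk (L₁.map g) ≅ Arrow.mk φ)) :
    L₂.IsLocalization ((MorphismProperty.isomorphisms C₃).inverseImage L₂) := by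
  apply Functor.IsLocalization.of_comp L₁ L₂ W₁ _
    ((MorphismProperty.isomorphisms C₃).inverseImage (L₁ ⋙ L₂))
  · intro X Y f hf
    have := Localization.inverts L₁ W₁ f hf
    simp only [MorphismProperty.inverseImage_iff, MorphismProperty.isomorphisms.iff,
      Functor.comp_map]
    infer_instance
  · ext X Y φ
    constructor
    · intro hφ
      obtain ⟨X', Y', g, ⟨e⟩⟩ := harr φ
      refine ⟨X', Y', g, ?_, ⟨e⟩⟩
      simp only [MorphismProperty.inverseImage_iff, MorphismProperty.isomorphisms.iff,
        Functor.comp_map] at hφ ⊢
      exact ((MorphismProperty.isomorphisms C₃).arrow_mk_iso_iff (L₂.mapArrow.mapIso e)).2 hφ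
    · rintro ⟨X', Y', g, hg, ⟨e⟩⟩
      simp only [MorphismProperty.inverseImage_iff, MorphismProperty.isomorphisms.iff,
        Functor.comp_map] at hg ⊢
      exact ((MorphismProperty.isomorphisms C₃).arrow_mk_iso_iff (L₂.mapArrow.mapIso e)).1 hg

section


variable {A : Type u₁} [Category.{v₁} A] [Preadditive A] {B : Type u₂} [Category.{v₂} B]
  [Preadditive B] {ι : Type*} (c : ComplexShape ι)

/-- An adjunction between additive functors induces an adjunction on homological complexes. -/
def mapHomologicalComplexAdj {F : A ⥤ B} {G : B ⥤ A} [F.Additive] [G.Additive] (adj : F ⊣ G) :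
    F.mapHomologicalComplex c ⊣ G.mapHomologicalComplex c :=
  Adjunction.mkOfUnitCounit
    { unit :=
        { app := fun K =>
            { f := fun i => adj.unit.app (K.X i)
              comm' := fun i j _ => (adj.unit.naturality (K.d i j)).symm }
          naturality := fun K L f => by
            ext i
            exact adj.unit.naturality (f.f i) }
      counit :=
        { app := fun K =>
            { f := fun i => adj.counit.app (K.X i)
              comm' := fun i j _ => (adj.counit.naturality (K.d i j)).symm }
          naturality := fun K L f => by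
            ext i
            exact adj.counit.naturality (f.f i) }
      left_triangle := by
        ext K i
        dsimp
        erw [Category.id_comp]
        exact adj.left_triangle_components (K.X i)
      right_triangle := by
        ext K i
        dsimp
        erw [Category.id_comp]
        exact adj.right_triangle_components (K.X i) }

@[simp] lemma mapHomologicalComplexAdj_unit_app_f {F : A ⥤ B} {G : B ⥤ A} [F.Additive]
    [G.Additive] (adj : F ⊣ G) (K : HomologicalComplex A c) (i : ι) :
    ((mapHomologicalComplexAdj c adj).unit.app K).f i = adj.unit.app (K.X i) := rfl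

instance {F : A ⥤ B} {G : B ⥤ A} [F.Additive] [G.Additive] (adj : F ⊣ G) [IsIso adj.unit] :
    IsIso (mapHomologicalComplexAdj c adj).unit := by
  have : ∀ K, IsIso ((mapHomologicalComplexAdj c adj).unit.app K) := fun K => by
    have : ∀ i, IsIso (((mapHomologicalComplexAdj c adj).unit.app K).f i) := fun i => by
      rw [mapHomologicalComplexAdj_unit_app_f]; exact NatIso.isIso_app_of_isIso adj.unit _
    exact HomologicalComplex.Hom.isIso_of_components _
  exact NatIso.isIso_of_isIso_app _

end

end Groth.Agent.Lib.LocInverseImage66
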