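import Mathlib.CategoryTheory.Localization.CalculusOfFractions
import Mathlib.CategoryTheory.Limits.Shapes.Products
import Mathlib.CategoryTheory.Limits.Preserves.Shapes.Products

/-!
# Localization functors and products (helper25; dual of helper21's `Lib/LocCoprod`)

If `W` has a left calculus of fractions and is stable under products of shape `J`, then a
localization functor for `W` preserves products of shape `J`, and the localized category has
products of shape `J`.
-/

set_option autoImplicit false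
universe w v₁ v₂ u₁ u₂

open CategoryTheory CategoryTheory.Limits

namespace Groth.Agent.Lib.LocProd

variable {C : Type u₁} [Category.{v₁} C] {D : Type u₂} [Category.{v₂} D]
  (L : C ⥤ D) (W : MorphismProperty C) [L.IsLocalization W] [W.HasLeftCalculusOfFractions]
  {J : Type w} [HasProductsOfShape J C]
  (hW : ∀ (X X' : J → C) (s : ∀ j, X j ⟶ X' j), (∀ j, W (s j)) → W (Limits.Pi.map s))

include hW in
/-- Uniqueness of maps into the image of a product. -/
theorem hom_ext (X : J → C) {Y : C} (f f' : L.obj Y ⟶ L.obj (∏ᶜ X))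
    (h : ∀ j, f ≫ L.map (Pi.π X j) = f' ≫ L.map (Pi.π X j)) : f = f' := by
  classical
  obtain ⟨φ, hφ⟩ := Localization.exists_leftFraction L W f
  obtain ⟨φ', hφ'⟩ := Localization.exists_leftFraction L W f'
  obtain ⟨ψ, hψ⟩ := (MorphismProperty.RightFraction.mk φ'.s φ'.hs φ.s).exists_leftFraction
  dsimp at hψ
  have hs₀ : W (φ.s ≫ ψ.s) := W.comp_mem _ _ φ.hs ψ.hs
  have hg : f ≫ L.map (φ.s ≫ ψ.s) = L.map (φ.f ≫ ψ.s) := by
    rw [hφ, L.map_comp, L.map_comp, ← Category.assoc,
      MorphismProperty.LeftFraction.map_comp_map_s]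
  have hg' : f' ≫ L.map (φ.s ≫ ψ.s) = L.map (φ'.f ≫ ψ.f) := by
    rw [hψ, hφ', L.map_comp, L.map_comp, ← Category.assoc,
      MorphismProperty.LeftFraction.map_comp_map_s]
  have H1 : ∀ j, ∃ (ρ : W.LeftFraction ψ.Y' (X j)), Pi.π X j ≫ ρ.s = (φ.s ≫ ψ.s) ≫ ρ.f :=
    fun j => (MorphismProperty.RightFraction.mk (φ.s ≫ ψ.s) hs₀ (Pi.π X j)).exists_leftFraction
  choose ρ hρ using H1
  have H2 : ∀ j, L.map ((φ.f ≫ ψ.s) ≫ (ρ j).f) = L.map ((φ'.f ≫ ψ.f) ≫ (ρ j).f) := by
    intro j
    rw [L.map_comp, ← hg, L.map_comp (φ'.f ≫ ψ.f), ← hg', Category.assoc, Category.assoc,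
      ← L.map_comp, ← hρ j, L.map_comp, ← Category.assoc, ← Category.assoc, h j]
  have H3 : ∀ j, ∃ (V : C) (u : (ρ j).Y' ⟶ V) (_ : W u),
      ((φ.f ≫ ψ.s) ≫ (ρ j).f) ≫ u = ((φ'.f ≫ ψ.f) ≫ (ρ j).f) ≫ u :=
    fun j => (MorphismProperty.map_eq_iff_postcomp L W _ _).1 (H2 j)
  choose V u hu huv using H3
  have hk : (φ.f ≫ ψ.s) ≫ Pi.lift (fun j => (ρ j).f ≫ u j) =
      (φ'.f ≫ ψ.f) ≫ Pi.lift (fun j => (ρ j).f ≫ u j) := by
    apply Pi.hom_ext
    intro j
    simp only [Category.assoc, Pi.lift_π]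
    simpa only [Category.assoc] using huv j
  have hks : (φ.s ≫ ψ.s) ≫ Pi.lift (fun j => (ρ j).f ≫ u j) =
      Limits.Pi.map (fun j => (ρ j).s ≫ u j) := by
    apply Pi.hom_ext
    intro j
    rw [Category.assoc, Pi.lift_π, Pi.map_π, ← Category.assoc, ← hρ j, Category.assoc]
  have hWk : W ((φ.s ≫ ψ.s) ≫ Pi.lift (fun j => (ρ j).f ≫ u j)) := by
    rw [hks]
    exact hW _ _ _ (fun j => W.comp_mem _ _ (ρ j).hs (hu j))
  have i1 : IsIso (L.map ((φ.s ≫ ψ.s) ≫ Pi.lift (fun j => (ρ j).f ≫ u j))) :=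
    Localization.inverts L W _ hWk
  have i2 : IsIso (L.map (φ.s ≫ ψ.s)) := Localization.inverts L W _ hs₀
  have i3 : IsIso (L.map (Pi.lift (fun j => (ρ j).f ≫ u j))) := by
    rw [L.map_comp] at i1
    exact IsIso.of_isIso_comp_left (L.map (φ.s ≫ ψ.s)) _
  have hgg : L.map (φ.f ≫ ψ.s) = L.map (φ'.f ≫ ψ.f) := by
    rw [← cancel_mono (L.map (Pi.lift (fun j => (ρ j).f ≫ u j))), ← L.map_comp, ← L.map_comp,
      hk]
  rw [← cancel_mono (L.map (φ.s ≫ ψ.s)), hg, hg', hgg]

include hW in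
/-- Existence of maps into the image of a product. -/
theorem exists_lift (X : J → C) {Y : C} (f : ∀ j, L.obj Y ⟶ L.obj (X j)) :
    ∃ l : L.obj Y ⟶ L.obj (∏ᶜ X), ∀ j, l ≫ L.map (Pi.π X j) = f j := by
  classical
  have H : ∀ j, ∃ φ : W.LeftFraction Y (X j), f j = φ.map L (Localization.inverts L W) :=
    fun j => Localization.exists_leftFraction L W (f j)
  choose φ hφ using H
  have hs : W (Limits.Pi.map (fun j => (φ j).s)) := hW _ _ _ (fun j => (φ j).hs)
  have := Localization.inverts L W _ hs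
  refine ⟨L.map (Pi.lift (fun j => (φ j).f)) ≫
    inv (L.map (Limits.Pi.map (fun j => (φ j).s))), fun j => ?_⟩
  have := Localization.inverts L W _ (φ j).hs
  rw [hφ j, ← cancel_mono (L.map (φ j).s), MorphismProperty.LeftFraction.map_comp_map_s,
    Category.assoc, Category.assoc, ← L.map_comp, ← Pi.map_π (fun j => (φ j).s) j, L.map_comp,
    IsIso.inv_hom_id_assoc, ← L.map_comp, Pi.lift_π]

include hW in
/-- A localization functor for `W` preserves products of shape `J`. -/
theorem preservesLimit (X : J → C) : PreservesLimit (Discrete.functor X) L := by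
  apply preservesLimit_of_preserves_limit_cone (limit.isLimit (Discrete.functor X))
  apply IsLimit.ofExistsUnique
  intro s
  have : L.EssSurj := Localization.essSurj L W
  let e : L.obj (L.objPreimage s.pt) ≅ s.pt := L.objObjPreimageIso s.pt
  obtain ⟨l, hl⟩ := exists_lift L W hW X (fun j => e.hom ≫ s.π.app ⟨j⟩)
  refine ⟨e.inv ≫ l, ?_, ?_⟩
  · rintro ⟨j⟩
    change (e.inv ≫ l) ≫ L.map (Pi.π X j) = _
    rw [Category.assoc, hl j, Iso.inv_hom_id_assoc]
  · intro m hm
    rw [← cancel_epi e.hom, Iso.hom_inv_id_assoc]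
    apply hom_ext L W hW X
    intro j
    rw [hl j, Category.assoc]
    congr 1
    exact hm ⟨j⟩

include hW in
theorem preservesLimitsOfShape : PreservesLimitsOfShape (Discrete J) L := by
  constructor
  intro K
  have : PreservesLimit (Discrete.functor (K.obj ∘ Discrete.mk)) L :=
    preservesLimit L W hW _
  exact preservesLimit_of_iso_diagram L Discrete.natIsoFunctor.symm

include L hW in
/-- The localized category has products of shape `J`. -/
theorem hasProductsOfShape : HasProductsOfShape J D := by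
  have : L.EssSurj := Localization.essSurj L W
  constructor
  intro K
  have := preservesLimit L W hW (fun j => L.objPreimage (K.obj ⟨j⟩))
  have h : HasLimit (Discrete.functor (fun j => L.objPreimage (K.obj ⟨j⟩)) ⋙ L) :=
    ⟨⟨⟨_, isLimitOfPreserves L (limit.isLimit _)⟩⟩⟩
  have e : Discrete.functor (fun j => L.objPreimage (K.obj ⟨j⟩)) ⋙ L ≅ K :=
    Discrete.natIso (fun ⟨j⟩ => L.objObjPreimageIso (K.obj ⟨j⟩))
  exact hasLimit_of_iso e
end Groth.Agent.Lib.LocProd
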