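import Groth.Agent.Lib.ZariskiProjective
import Groth.Agent.Lib.QCohStalk

/-!
# Local projectivity of quasi-coherent modules is Zariski local (helper81)

* `isAwayData_res`: for quasi-coherent `F`, affine `U`, `f ∈ Γ(X, U)`, the restriction
  `Γ(F, U) → Γ(F, D(f))` is a localization away from `f` (instance-free `IsAwayData` packaging).
* `projective_basicOpen`: `Γ(F, U)` projective ⇒ `Γ(F, D(f))` projective.
* `projective_of_affine_cover`: if `Γ(F, U i)` is projective over `Γ(X, U i)` for an affine open
  cover `U i` of `X`, then `Γ(F, V)` is projective over `Γ(X, V)` for every affine open `V`.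
  (Uses faithfully flat descent of projectivity `S0585`, i.e. Raynaud–Gruson.)
-/

set_option autoImplicit false
universe u
open CategoryTheory AlgebraicGeometry
open Opposite

namespace Groth.Agent.Lib.LocProjective

open Groth.Agent.Lib.ZariskiProjective Groth.Agent.Lib.QCohStalk

/-- Restriction of a quasi-coherent module from an affine open `U` to a basic open `D(f)` is a
localization away from `f`. -/
theorem isAwayData_res {X : Scheme.{u}} (F : X.Modules) [F.IsQuasicoherent] {U : X.Opens}
    (hU : IsAffineOpen U) (f : Γ(X, U)) :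
    IsAwayData f (X.presheaf.map (homOfLE (X.basicOpen_le f)).op).hom
      ((F.presheaf.map (homOfLE (X.basicOpen_le f)).op).hom : Γ(F, U) →+ Γ(F, X.basicOpen f)) where
  ring := hU.isLocalization_basicOpen f
  smul := fun a m => res_smul F (X.basicOpen_le f) a m
  surj := fun t => exists_pow_smul_eq_res F hU f t
  inj := fun s hs => exists_pow_smul_eq_zero F hU f s hs

theorem projective_basicOpen {X : Scheme.{u}} (F : X.Modules) [F.IsQuasicoherent] {U : X.Opens}
    (hU : IsAffineOpen U) (f : Γ(X, U)) [Module.Projective Γ(X, U) Γ(F, U)] :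
    Module.Projective Γ(X, X.basicOpen f) Γ(F, X.basicOpen f) :=
  (isAwayData_res F hU f).projective

/-- Local projectivity of a quasi-coherent module can be checked on an affine open cover. -/
theorem projective_of_affine_cover {X : Scheme.{u}} (F : X.Modules) [F.IsQuasicoherent]
    {ι : Type*} (U : ι → X.Opens) (hU : (⨆ i, U i) = ⊤) (hUa : ∀ i, IsAffineOpen (U i))
    (hp : ∀ i, Module.Projective Γ(X, U i) Γ(F, U i)) (V : X.Opens) (hV : IsAffineOpen V) :
    Module.Projective Γ(X, V) Γ(F, V) := by
  let P : X.affineOpens → Prop := fun W => Module.Projective Γ(X, W.1) Γ(F, W.1)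
  change P ⟨V, hV⟩
  refine of_affine_open_cover (P := P) (fun i => (⟨U i, hUa i⟩ : X.affineOpens)) ?_ ⟨V, hV⟩ ?_ ?_ hp
  · exact hU
  · intro W f hW
    have : Module.Projective Γ(X, W.1) Γ(F, W.1) := hW
    exact (isAwayData_res F W.2 f).projective
  · intro W s hs hW
    refine projective_of_isAwayData (ι := s) (fun g => g.1) ?_ (fun g => Γ(X, X.basicOpen g.1))
      (fun g => Γ(F, X.basicOpen g.1)) _ _ (fun g => isAwayData_res F W.2 g.1) (fun g => hW g)
    rw [Subtype.range_coe_subtype]
    exact hs

end Groth.Agent.Lib.LocProjective
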