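import Groth.Agent.S4450
import Mathlib.AlgebraicGeometry.ValuativeCriterion
import Mathlib.AlgebraicGeometry.Morphisms.Immersion
import Mathlib.AlgebraicGeometry.Morphisms.Proper

/-!
# Local valuative criterion of properness, part 1 (helper85)

`DvrLiftsAt f y t`: discrete valuation subrings of `κ` centred at `y` lift along `f` at the
field-valued point `t : Spec κ ⟶ X`.

Core: if `f' = φ ≫ p` with `φ : X' ⟶ P` an immersion of an integral scheme and `p : P ⟶ Y` proper
(`Y` locally Noetherian), and discrete valuation subrings of the residue field of the generic point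
of `X'` centred at `y` lift along `f'`, then `f'` is proper over an open neighbourhood of `y`.
-/

set_option autoImplicit false
universe u
open CategoryTheory AlgebraicGeometry TopologicalSpace Opposite IsLocalRing

namespace Groth.Agent.Lib.LocProper85

variable {X Y : Scheme.{u}}

/-- Discrete valuation subrings of `κ` whose centre on `Y` is `y` lift along `f` at the point `t`. -/
def DvrLiftsAt (f : X ⟶ Y) (y : Y) {κ : Type u} [Field κ] (t : Spec (.of κ) ⟶ X) : Prop :=
  ∀ A : ValuationSubring κ, IsDiscreteValuationRing A → ∀ g : Spec (.of A) ⟶ Y,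
    g (closedPoint A) = y → Spec.map (CommRingCat.ofHom A.subtype) ≫ g = t ≫ f →
    ∃ l : Spec (.of A) ⟶ X, Spec.map (CommRingCat.ofHom A.subtype) ≫ l = t ∧ l ≫ f = g

/-- Valuative lifting along a universally closed morphism for valuation subrings. -/
theorem exists_lift_of_universallyClosed {X' : Scheme.{u}} (π : X' ⟶ X) [UniversallyClosed π]
    {κ : Type u} [Field κ] (A : ValuationSubring κ) (t' : Spec (.of κ) ⟶ X')
    (l₀ : Spec (.of A) ⟶ X) (h : Spec.map (CommRingCat.ofHom A.subtype) ≫ l₀ = t' ≫ π) :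
    ∃ l : Spec (.of A) ⟶ X', Spec.map (CommRingCat.ofHom A.subtype) ≫ l = t' ∧ l ≫ π = l₀ := by
  have hU : ValuativeCriterion.Existence π := by
    have h := UniversallyClosed.eq_valuativeCriterion
    have : (ValuativeCriterion.Existence ⊓ @QuasiCompact) π := h ▸ ‹UniversallyClosed π›
    exact this.1
  let Sq : ValuativeCommSq π :=
    { R := A, K := κ, i₁ := t', i₂ := l₀, commSq := ⟨h.symm⟩ }
  obtain ⟨⟨l⟩⟩ := hU Sq
  exact ⟨l.l, l.fac_left, l.fac_right⟩

theorem DvrLiftsAt.comp_of_universallyClosed {X' : Scheme.{u}} (π : X' ⟶ X) [UniversallyClosed π]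
    (f : X ⟶ Y) (y : Y) {κ : Type u} [Field κ] (t' : Spec (.of κ) ⟶ X')
    (H : DvrLiftsAt f y (t' ≫ π)) : DvrLiftsAt (π ≫ f) y t' := by
  intro A hA g hg hcomm
  obtain ⟨l₀, hl₀, hl₀f⟩ := H A hA g hg (by rw [hcomm, Category.assoc])
  obtain ⟨l, hl, hlπ⟩ := exists_lift_of_universallyClosed π A t' l₀ hl₀
  exact ⟨l, hl, by rw [← Category.assoc, hlπ, hl₀f]⟩

/-- Two morphisms from the spectrum of a valuation subring to a separated `Y`-scheme which agree on
the generic point and over `Y` are equal. -/
theorem eq_of_isSeparated {P : Scheme.{u}} (p : P ⟶ Y) [IsSeparated p] {κ : Type u} [Field κ]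
    (A : ValuationSubring κ) (l₁ l₂ : Spec (.of A) ⟶ P) (h : l₁ ≫ p = l₂ ≫ p)
    (hK : Spec.map (CommRingCat.ofHom A.subtype) ≫ l₁ =
      Spec.map (CommRingCat.ofHom A.subtype) ≫ l₂) : l₁ = l₂ := by
  have : IsDominant (Spec.map (CommRingCat.ofHom A.subtype)) := by
    constructor
    change DenseRange (PrimeSpectrum.comap A.subtype)
    rw [PrimeSpectrum.denseRange_comap_iff_ker_le_nilRadical,
      (RingHom.injective_iff_ker_eq_bot _).mp Subtype.val_injective]
    exact bot_le
  exact ext_of_isDominant_of_isSeparated p h _ hK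

/-- The boundary of an immersion: over an open of the base avoiding the image of the boundary,
the composite with a proper morphism is proper. -/
theorem isProper_restrict_of_isImmersion {X' P : Scheme.{u}} (φ : X' ⟶ P) [IsImmersion φ]
    (p : P ⟶ Y) [IsProper p] (V : Y.Opens)
    (hV : ∀ b ∈ closure (Set.range φ), b ∉ Set.range φ → p b ∉ V) :
    IsProper ((φ ≫ p) ∣_ V) := by
  rw [morphismRestrict_comp]
  have h1 : IsImmersion (φ ∣_ p ⁻¹ᵁ V) := IsZariskiLocalAtTarget.restrict ‹_› _
  have h2 : IsClosed (Set.range (φ ∣_ p ⁻¹ᵁ V)) := by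
    have : Set.range (φ ∣_ p ⁻¹ᵁ V) = Subtype.val ⁻¹' closure (Set.range φ) := by
      ext ⟨b, hb⟩
      simp only [Set.mem_range]
      constructor
      · rintro ⟨x, hx⟩
        apply subset_closure
        refine ⟨x.1, ?_⟩
        rw [← morphismRestrict_base_coe φ (p ⁻¹ᵁ V) x, hx]
      · intro h
        by_contra hne
        apply hV b h _ hb
        rintro ⟨x, rfl⟩
        exact hne ⟨⟨x, hb⟩, Subtype.ext (morphismRestrict_base_coe φ (p ⁻¹ᵁ V) ⟨x, hb⟩)⟩
    rw [this]
    exact isClosed_closure.preimage continuous_subtype_val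
  have h3 : IsClosedImmersion (φ ∣_ p ⁻¹ᵁ V) := IsClosedImmersion.of_isPreimmersion _ h2
  have h4 : IsProper (p ∣_ V) := IsZariskiLocalAtTarget.restrict ‹_› _
  have h5 : IsProper (φ ∣_ p ⁻¹ᵁ V) := inferInstance
  exact MorphismProperty.comp_mem _ _ _ h5 h4

/-- The image of the boundary of an immersion under a proper morphism is closed. -/
theorem isClosed_image_boundary {X' P : Scheme.{u}} (φ : X' ⟶ P) [IsImmersion φ]
    (p : P ⟶ Y) [IsProper p] :
    IsClosed (p '' (closure (Set.range φ) \ Set.range φ)) := by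
  apply p.isClosedMap
  have := φ.isLocallyClosed_range.isOpen_coborder
  rw [coborder] at this
  exact isOpen_compl_iff.mp this

/-- **Core.** `f' = φ ≫ p` with `φ` an immersion of an integral scheme, `p` proper over a locally
Noetherian base: if discrete valuation subrings of the residue field of the generic point centred
at `y` lift, `f'` is proper over a neighbourhood of `y`. -/
theorem exists_isProper_restrict_of_isImmersion [IsLocallyNoetherian Y] {X' P : Scheme.{u}}
    [IsIntegral X'] (φ : X' ⟶ P) [IsImmersion φ] (p : P ⟶ Y) [IsProper p] (y : Y)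
    (H : DvrLiftsAt (φ ≫ p) y (X'.fromSpecResidueField (genericPoint X'))) :
    ∃ V : Y.Opens, y ∈ V ∧ IsProper ((φ ≫ p) ∣_ V) := by
  let V : Y.Opens := ⟨(p '' (closure (Set.range φ) \ Set.range φ))ᶜ,
    (isClosed_image_boundary φ p).isOpen_compl⟩
  refine ⟨V, ?_, isProper_restrict_of_isImmersion φ p V ?_⟩
  · rintro ⟨b, ⟨hb1, hb2⟩, hby⟩
    have : IsLocallyNoetherian P := LocallyOfFiniteType.isLocallyNoetherian p
    let ξ' := genericPoint X'
    have hsp : φ ξ' ⤳ b := by
      rw [specializes_iff_mem_closure]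
      have hsub : Set.range φ ⊆ closure {φ ξ'} := by
        rintro _ ⟨x, rfl⟩
        have hx : ξ' ⤳ x := (genericPoint_spec X').specializes trivial
        exact (specializes_iff_mem_closure.mp (hx.map φ.continuous))
      exact closure_minimal hsub isClosed_closure hb1
    have hne : b ≠ φ ξ' := fun h => hb2 ⟨ξ', h.symm⟩
    obtain ⟨A, h, hA, hcl, hcomm⟩ := Groth.Agent.S4450.result φ ξ' b hsp hne
    have hcl' : h (closedPoint A) = b := hcl
    have e1 : Spec.map (CommRingCat.ofHom A.subtype) ≫ (h ≫ p) =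
        X'.fromSpecResidueField (genericPoint X') ≫ φ ≫ p := by
      have := congrArg (· ≫ p) hcomm
      simpa only [Category.assoc] using this
    obtain ⟨l, hl, hlf⟩ := H A hA (h ≫ p) ((congrArg (fun z => p z) hcl').trans hby) e1
    have heq : l ≫ φ = h := by
      refine eq_of_isSeparated p A _ _ ((Category.assoc _ _ _).trans hlf) ?_
      exact (Category.assoc _ _ _).symm.trans ((congrArg (· ≫ φ) hl).trans hcomm.symm)
    apply hb2
    refine ⟨l (closedPoint A), ?_⟩
    rw [← hcl', ← heq]
    rfl
  · intro b hb1 hb2 hbV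
    exact hbV ⟨b, ⟨hb1, hb2⟩, rfl⟩

end Groth.Agent.Lib.LocProper85
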