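import Groth.Agent.Lib.LocProper85a
import Groth.Agent.Lib.LocProper85b

/-!
# Local valuative criterion of properness, part 3 (helper85): integral source
-/

set_option autoImplicit false
universe u
open CategoryTheory CategoryTheory.Limits AlgebraicGeometry TopologicalSpace IsLocalRing

namespace Groth.Agent.Lib.LocProper85

variable {X Y : Scheme.{u}}

/-- Properness over an open passes to smaller opens. -/
theorem isProper_restrict_of_le (f : X ⟶ Y) {U V : Y.Opens} (hVU : V ≤ U)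
    (h : IsProper (f ∣_ U)) : IsProper (f ∣_ V) := by
  have h1 : IsProper (f ∣_ U ∣_ (U.ι ⁻¹ᵁ V)) := inferInstance
  have h2 : IsProper (f ∣_ U.ι ''ᵁ (U.ι ⁻¹ᵁ V)) :=
    (MorphismProperty.arrow_mk_iso_iff @IsProper (morphismRestrictRestrict f U (U.ι ⁻¹ᵁ V))).mp h1
  have h3 : U.ι ''ᵁ (U.ι ⁻¹ᵁ V) = V := by
    refine (U.functor_map_eq_inf V).trans (inf_eq_left.mpr hVU)
  exact (MorphismProperty.arrow_mk_iso_iff @IsProper (morphismRestrictEq f h3)).mp h2

/-- `DvrLiftsAt` restricts to opens of the base. -/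
theorem DvrLiftsAt.restrict (f : X ⟶ Y) (U : Y.Opens) (y : Y) (hy : y ∈ U) {κ : Type u} [Field κ]
    (t₀ : Spec (.of κ) ⟶ (f ⁻¹ᵁ U).toScheme) (H : DvrLiftsAt f y (t₀ ≫ (f ⁻¹ᵁ U).ι)) :
    DvrLiftsAt (f ∣_ U) ⟨y, hy⟩ t₀ := by
  intro A hA g₀ hg₀ hcomm
  have hsq := isPullback_morphismRestrict f U
  obtain ⟨l, hl, hlf⟩ := H A hA (g₀ ≫ U.ι) (by
    rw [Scheme.Hom.comp_apply, hg₀]; rfl) (by
    rw [← Category.assoc, hcomm, Category.assoc, Category.assoc, morphismRestrict_ι])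
  refine ⟨hsq.lift g₀ l hlf.symm, ?_, hsq.lift_fst _ _ _⟩
  rw [← cancel_mono (f ⁻¹ᵁ U).ι, Category.assoc, hsq.lift_snd, hl]

/-- A field-valued point of an integral scheme which is the generic point with trivial residue
field extension. -/
def IsBirationalPoint (X : Scheme.{u}) [IsIntegral X] {κ : Type u} [Field κ]
    (t : Spec (.of κ) ⟶ X) : Prop :=
  ∃ e : X.functionField ⟶ CommRingCat.of κ, IsIso e ∧
    t = Spec.map e ≫ X.fromSpecStalk (genericPoint X)

theorem isBirationalPoint_fromSpecResidueField (X : Scheme.{u}) [IsIntegral X] :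
    IsBirationalPoint X (X.fromSpecResidueField (genericPoint X)) := by
  refine ⟨X.residue (genericPoint X), ?_, rfl⟩
  have hbij : Function.Bijective (X.residue (genericPoint X)).hom := by
    constructor
    · rw [injective_iff_map_eq_zero]
      intro a ha
      have h1 : a ∈ maximalIdeal (X.presheaf.stalk (genericPoint X)) :=
        (IsLocalRing.residue_eq_zero_iff a).mp ha
      have h2 : maximalIdeal (X.presheaf.stalk (genericPoint X)) = ⊥ :=
        IsLocalRing.isField_iff_maximalIdeal_eq.mp (Field.toIsField X.functionField)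
      rw [h2] at h1
      exact h1
    · exact X.residue_surjective _
  exact (ConcreteCategory.isIso_iff_bijective _).mpr hbij

/-- Birational points push forward along birational morphisms. -/
theorem IsBirationalPoint.comp {X' : Scheme.{u}} [IsIntegral X'] [IsIntegral X] (π : X' ⟶ X)
    (hgen : π (genericPoint X') = genericPoint X) (hiso : IsIso (π.stalkMap (genericPoint X')))
    {κ : Type u} [Field κ] (t' : Spec (.of κ) ⟶ X') (ht' : IsBirationalPoint X' t') :
    IsBirationalPoint X (t' ≫ π) := by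
  obtain ⟨e', he', rfl⟩ := ht'
  have hsp : π (genericPoint X') ⤳ genericPoint X := hgen ▸ specializes_rfl
  have hsp' : genericPoint X ⤳ π (genericPoint X') := hgen ▸ specializes_rfl
  have hiso2 : IsIso (X.presheaf.stalkSpecializes hsp) := by
    refine ⟨X.presheaf.stalkSpecializes hsp', ?_, ?_⟩ <;>
    · rw [TopCat.Presheaf.stalkSpecializes_comp]
      exact TopCat.Presheaf.stalkSpecializes_refl _ _
  refine ⟨X.presheaf.stalkSpecializes hsp ≫ π.stalkMap (genericPoint X') ≫ e', inferInstance, ?_⟩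
  rw [Category.assoc, ← Scheme.SpecMap_stalkMap_fromSpecStalk, Spec.map_comp, Spec.map_comp,
    Category.assoc, Category.assoc, Scheme.SpecMap_stalkSpecializes_fromSpecStalk]

/-- Integral source, affine base. -/
theorem exists_isProper_restrict_of_isIntegral_of_isAffine [IsLocallyNoetherian Y] [IsAffine Y]
    [IsIntegral X] (f : X ⟶ Y) [IsSeparated f] [LocallyOfFiniteType f] [QuasiCompact f] (y : Y)
    (H : ∀ (κ : Type u) [Field κ] (t : Spec (.of κ) ⟶ X), IsBirationalPoint X t →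
      DvrLiftsAt f y t) :
    ∃ U : Y.Opens, y ∈ U ∧ IsProper (f ∣_ U) := by
  obtain ⟨X', P, π, φ, p₁, hp₁, hφ, hcomm, hπ, hπs, hX', U₀, hU₀, hiso⟩ :=
    exists_chow_compactification Γ(Y, ⊤) X (f ≫ Y.isoSpec.hom)
  let p : P ⟶ Y := p₁ ≫ Y.isoSpec.inv
  have hp : IsProper p := inferInstance
  have hcomm' : φ ≫ p = π ≫ f := by
    simp only [p]
    rw [← Category.assoc, hcomm, Category.assoc, Category.assoc, Iso.hom_inv_id, Category.comp_id]
  obtain ⟨hgen, hstalk⟩ :=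
    Groth.Agent.Lib.ZMTBir.genericPoint_of_isIso_morphismRestrict π U₀ hU₀ hiso
  have Hφ : DvrLiftsAt (φ ≫ p) y (X'.fromSpecResidueField (genericPoint X')) := by
    rw [hcomm']
    exact DvrLiftsAt.comp_of_universallyClosed π f y _
      (H _ _ ((isBirationalPoint_fromSpecResidueField X').comp π hgen hstalk))
  obtain ⟨V, hyV, hV⟩ := exists_isProper_restrict_of_isImmersion φ p y Hφ
  refine ⟨V, hyV, ?_⟩
  rw [hcomm', morphismRestrict_comp] at hV
  have hsurj : Surjective (π ∣_ f ⁻¹ᵁ V) := by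
    constructor
    rintro ⟨x, hx⟩
    obtain ⟨x', rfl⟩ := hπs x
    exact ⟨⟨x', hx⟩, Subtype.ext (morphismRestrict_base_coe π (f ⁻¹ᵁ V) ⟨x', hx⟩)⟩
  have huc0 : UniversallyClosed (π ∣_ f ⁻¹ᵁ V ≫ f ∣_ V) := hV.toUniversallyClosed
  have huc : UniversallyClosed (f ∣_ V) :=
    UniversallyClosed.of_comp_surjective (π ∣_ f ⁻¹ᵁ V) (f ∣_ V)
  exact { }

/-- **Local valuative criterion, integral source.** -/
theorem exists_isProper_restrict_of_isIntegral [IsLocallyNoetherian Y]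
    [IsIntegral X] (f : X ⟶ Y) [IsSeparated f] [LocallyOfFiniteType f] [QuasiCompact f] (y : Y)
    (H : ∀ (κ : Type u) [Field κ] (t : Spec (.of κ) ⟶ X), IsBirationalPoint X t →
      DvrLiftsAt f y t) :
    ∃ U : Y.Opens, y ∈ U ∧ IsProper (f ∣_ U) := by
  obtain ⟨Y₀, hY₀, hyY₀⟩ : ∃ Y₀ : Y.Opens, IsAffineOpen Y₀ ∧ y ∈ Y₀ := by
    obtain ⟨_, ⟨Y₀, hY₀, rfl⟩, hyY₀, -⟩ :=
      Y.isBasis_affineOpens.exists_subset_of_mem_open (Set.mem_univ y) isOpen_univ
    exact ⟨Y₀, hY₀, hyY₀⟩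
  have : IsAffine Y₀.toScheme := hY₀
  by_cases hne : Nonempty (f ⁻¹ᵁ Y₀)
  · have : IsIntegral (f ⁻¹ᵁ Y₀).toScheme := inferInstance
    have hgen : (f ⁻¹ᵁ Y₀).ι (genericPoint (f ⁻¹ᵁ Y₀).toScheme) = genericPoint X :=
      genericPoint_eq_of_isOpenImmersion _
    obtain ⟨V₀, hyV₀, hV₀⟩ := exists_isProper_restrict_of_isIntegral_of_isAffine (f ∣_ Y₀)
      ⟨y, hyY₀⟩ (fun κ _ t₀ ht₀ => DvrLiftsAt.restrict f Y₀ y hyY₀ t₀
        (H κ _ (ht₀.comp (f ⁻¹ᵁ Y₀).ι hgen inferInstance)))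
    refine ⟨Y₀.ι ''ᵁ V₀, ⟨⟨y, hyY₀⟩, hyV₀, rfl⟩, ?_⟩
    exact (MorphismProperty.arrow_mk_iso_iff @IsProper (morphismRestrictRestrict f Y₀ V₀)).mp hV₀
  · refine ⟨Y₀, hyY₀, ?_⟩
    have : IsEmpty (f ⁻¹ᵁ Y₀).toScheme := not_nonempty_iff.mp hne
    infer_instance

end Groth.Agent.Lib.LocProper85
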