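import Groth.Agent.Lib.LocProper85c
import Groth.Agent.Lib.ValCenter2

/-!
# Local valuative criterion of properness, part 5 (helper85): function field form
-/

set_option autoImplicit false
universe u
open CategoryTheory CategoryTheory.Limits AlgebraicGeometry TopologicalSpace IsLocalRing

namespace Groth.Agent.Lib.LocProper85

variable {X Y : Scheme.{u}}

/-- A morphism from the spectrum of a local ring is the canonical one attached to its local
homomorphism; two such with the same centre and local homomorphism (after an injection) agree. -/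
theorem SpecMap_comp_fromSpecStalk_eq_of_comp_eq {R : CommRingCat.{u}} {y : Y}
    (a b : Y.presheaf.stalk y ⟶ R) {K : CommRingCat.{u}} (ι : R ⟶ K)
    (hι : Function.Injective ι.hom) (h : a ≫ ι = b ≫ ι) :
    Spec.map a ≫ Y.fromSpecStalk y = Spec.map b ≫ Y.fromSpecStalk y := by
  have : a = b := by
    ext r
    apply hι
    exact congr($h r)
  rw [this]

/-- From the function-field hypothesis to `DvrLiftsAt` at birational points. -/
theorem dvrLiftsAt_of_forall_valuationSubring [IsIntegral X] (f : X ⟶ Y) (y : Y)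
    (hξ : f (genericPoint X) ⤳ y)
    (HK : ∀ A : ValuationSubring X.functionField, IsDiscreteValuationRing A →
      (∀ r : Y.presheaf.stalk y,
        A.valuation ((Y.presheaf.stalkSpecializes hξ ≫ f.stalkMap (genericPoint X)) r) ≤ 1) →
      (∀ r ∈ IsLocalRing.maximalIdeal (Y.presheaf.stalk y),
        A.valuation ((Y.presheaf.stalkSpecializes hξ ≫ f.stalkMap (genericPoint X)) r) < 1) →
      ∃ x : X, f x = y ∧
        (∀ r : X.presheaf.stalk x,
          A.valuation (X.presheaf.stalkSpecializes (genericPoint_specializes x) r) ≤ 1) ∧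
        (∀ r ∈ IsLocalRing.maximalIdeal (X.presheaf.stalk x),
          A.valuation (X.presheaf.stalkSpecializes (genericPoint_specializes x) r) < 1))
    {κ : Type u} [Field κ] (t : Spec (.of κ) ⟶ X) (ht : IsBirationalPoint X t) :
    DvrLiftsAt f y t := by
  intro A' hA' g hg hcomm
  subst hg
  obtain ⟨e, he, rfl⟩ := ht
  let eq : X.functionField ≃+* κ := (asIso e).commRingCatIsoToRingEquiv
  have heq : ∀ a, eq a = e.hom a := fun a => rfl
  -- the local homomorphism of `g`
  let θ : Y.presheaf.stalk (g (closedPoint A')) ⟶ CommRingCat.of A' := Scheme.stalkClosedPointTo g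
  have hθloc : IsLocalHom θ.hom := inferInstance
  have hgθ : Spec.map θ ≫ Y.fromSpecStalk _ = g := Scheme.Spec_stalkClosedPointTo_fromSpecStalk g
  let ψ : Y.presheaf.stalk (g (closedPoint A')) ⟶ X.functionField :=
    Y.presheaf.stalkSpecializes hξ ≫ f.stalkMap (genericPoint X)
  have hθψ : θ ≫ CommRingCat.ofHom A'.subtype = ψ ≫ e := by
    apply Spec.map_injective
    rw [← cancel_mono (Y.fromSpecStalk (g (closedPoint A')))]
    rw [Spec.map_comp, Category.assoc, hgθ, hcomm, Spec.map_comp, Spec.map_comp, Category.assoc,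
      Category.assoc, Category.assoc, Scheme.SpecMap_stalkSpecializes_fromSpecStalk,
      Scheme.SpecMap_stalkMap_fromSpecStalk]
  have hθψ' : ∀ r, ((θ.hom r : A') : κ) = e.hom (ψ.hom r) := fun r => congr($hθψ r)
  -- the valuation subring of the function field
  let A : ValuationSubring X.functionField := A'.comap eq.toRingHom
  have hmemA : ∀ a, a ∈ A ↔ e.hom a ∈ A' := fun a => Iff.rfl
  let ρ : A →+* A' := (eq.toRingHom.comp A.subtype).codRestrict A'.toSubring (fun a => a.2)
  have hρbij : Function.Bijective ρ := by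
    constructor
    · intro a b hab
      apply Subtype.ext
      apply eq.injective
      exact congrArg Subtype.val hab
    · intro b
      refine ⟨⟨eq.symm b.1, ?_⟩, Subtype.ext (eq.apply_symm_apply b.1)⟩
      change eq (eq.symm b.1) ∈ A'
      rw [eq.apply_symm_apply]; exact b.2
  let ρe : A ≃+* A' := RingEquiv.ofBijective ρ hρbij
  have hA : IsDiscreteValuationRing A :=
    IsDiscreteValuationRing.RingEquivClass.isDiscreteValuationRing ρe.symm
  have hψA : ∀ r, ψ.hom r ∈ A := fun r => by
    rw [hmemA, ← hθψ']; exact (θ.hom r).2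
  obtain ⟨x, hfx, hx1, hx2⟩ := HK A hA
    (fun r => (ValuationSubring.valuation_le_one_iff A _).mpr (hψA r))
    (fun r hr => by
      have h1 : (⟨ψ.hom r, hψA r⟩ : A) ∈ maximalIdeal A := by
        rw [mem_maximalIdeal, mem_nonunits_iff]
        intro hu
        have h2 : IsUnit (ρe ⟨ψ.hom r, hψA r⟩) := hu.map ρe
        have h3 : ρe ⟨ψ.hom r, hψA r⟩ = θ.hom r := Subtype.ext (hθψ' r).symm
        rw [h3] at h2
        exact (mem_maximalIdeal r).mp hr (isUnit_of_map_unit θ.hom r h2)
      exact (ValuationSubring.valuation_lt_one_iff A ⟨ψ.hom r, hψA r⟩).mp h1)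
  -- the morphism `Spec A' ⟶ X`
  let sp : X.presheaf.stalk x ⟶ X.functionField :=
    X.presheaf.stalkSpecializes (genericPoint_specializes x)
  have hspA : ∀ r, e.hom (sp.hom r) ∈ A' := fun r =>
    (hmemA _).mp ((ValuationSubring.valuation_le_one_iff A _).mp (hx1 r))
  let lam : X.presheaf.stalk x ⟶ CommRingCat.of A' :=
    CommRingCat.ofHom ((e.hom.comp sp.hom).codRestrict A'.toSubring hspA)
  have hlam : lam ≫ CommRingCat.ofHom A'.subtype = sp ≫ e := rfl
  refine ⟨Spec.map lam ≫ X.fromSpecStalk x, ?_, ?_⟩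
  · rw [← Category.assoc, ← Spec.map_comp, hlam, Spec.map_comp, Category.assoc,
      Scheme.SpecMap_stalkSpecializes_fromSpecStalk]
  · have hsp' : f x ⤳ g (closedPoint A') := hfx ▸ specializes_rfl
    rw [Category.assoc, ← Scheme.SpecMap_stalkMap_fromSpecStalk,
      ← Scheme.SpecMap_stalkSpecializes_fromSpecStalk hsp']
    refine Eq.trans ?_ hgθ
    simp only [← Category.assoc, ← Spec.map_comp]
    refine SpecMap_comp_fromSpecStalk_eq_of_comp_eq _ _ (CommRingCat.ofHom A'.subtype)
      Subtype.val_injective ?_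
    rw [hθψ, Category.assoc, Category.assoc, hlam]
    simp only [ψ, sp, ← Category.assoc]
    congr 1
    rw [Category.assoc, ← Scheme.Hom.stalkSpecializes_stalkMap f _ _ (genericPoint_specializes x),
      TopCat.Presheaf.stalkSpecializes_comp_assoc]

/-- Properness over a neighbourhood of `y` gives centres for valuation subrings of the function
field dominating `O_{Y,y}`. -/
theorem exists_dom_of_isProper_restrict [IsIntegral X] (f : X ⟶ Y) (y : Y)
    (hξ : f (genericPoint X) ⤳ y) (U : Y.Opens) (hyU : y ∈ U) (hU : IsProper (f ∣_ U))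
    (A : ValuationSubring X.functionField)
    (h1 : ∀ r : Y.presheaf.stalk y,
      A.valuation ((Y.presheaf.stalkSpecializes hξ ≫ f.stalkMap (genericPoint X)) r) ≤ 1)
    (h2 : ∀ r ∈ IsLocalRing.maximalIdeal (Y.presheaf.stalk y),
      A.valuation ((Y.presheaf.stalkSpecializes hξ ≫ f.stalkMap (genericPoint X)) r) < 1) :
    ∃ x : X, f x = y ∧
      (∀ r : X.presheaf.stalk x,
        A.valuation (X.presheaf.stalkSpecializes (genericPoint_specializes x) r) ≤ 1) ∧
      (∀ r ∈ IsLocalRing.maximalIdeal (X.presheaf.stalk x),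
        A.valuation (X.presheaf.stalkSpecializes (genericPoint_specializes x) r) < 1) := by
  let ψ : Y.presheaf.stalk y ⟶ X.functionField :=
    Y.presheaf.stalkSpecializes hξ ≫ f.stalkMap (genericPoint X)
  have hψA : ∀ r, ψ.hom r ∈ A := fun r => (ValuationSubring.valuation_le_one_iff A _).mp (h1 r)
  let ψA : Y.presheaf.stalk y ⟶ CommRingCat.of A :=
    CommRingCat.ofHom (ψ.hom.codRestrict A.toSubring hψA)
  have hψAsub : ψA ≫ CommRingCat.ofHom A.subtype = ψ := rfl
  have hloc : IsLocalHom ψA.hom := by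
    constructor
    intro r hr
    by_contra hnu
    have h3 := h2 r ((mem_maximalIdeal r).mpr hnu)
    have h4 : (ψA.hom r) ∈ maximalIdeal A :=
      (ValuationSubring.valuation_lt_one_iff A (ψA.hom r)).mpr h3
    exact (mem_maximalIdeal _).mp h4 hr
  let g : Spec (CommRingCat.of A) ⟶ Y := Spec.map ψA ≫ Y.fromSpecStalk y
  have hgcl : g (closedPoint A) = y := by
    have : Spec.map ψA (closedPoint A) = closedPoint (Y.presheaf.stalk y) :=
      IsLocalRing.comap_closedPoint ψA.hom
    rw [Scheme.Hom.comp_apply, this, Scheme.fromSpecStalk_closedPoint]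
  have hcomm : Spec.map (CommRingCat.ofHom A.subtype) ≫ g =
      X.fromSpecStalk (genericPoint X) ≫ f := by
    simp only [g]
    rw [← Category.assoc, ← Spec.map_comp, hψAsub, Spec.map_comp, Category.assoc,
      Scheme.SpecMap_stalkSpecializes_fromSpecStalk, Scheme.SpecMap_stalkMap_fromSpecStalk]
  -- restrict to `U`
  have hgU : Set.range g ⊆ Set.range U.ι := by
    rw [Scheme.Opens.range_ι]
    rintro _ ⟨a, rfl⟩
    have hsp : a ⤳ closedPoint A := IsLocalRing.specializes_closedPoint a
    have := hsp.map g.continuous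
    rw [hgcl] at this
    exact this.mem_open U.2 hyU
  let g₀ : Spec (CommRingCat.of A) ⟶ U.toScheme := IsOpenImmersion.lift U.ι g hgU
  have hg₀ : g₀ ≫ U.ι = g := IsOpenImmersion.lift_fac _ _ _
  have hsq := isPullback_morphismRestrict f U
  let t₀ : Spec X.functionField ⟶ (f ⁻¹ᵁ U).toScheme :=
    hsq.lift (Spec.map (CommRingCat.ofHom A.subtype) ≫ g₀) (X.fromSpecStalk (genericPoint X))
      ((Category.assoc _ _ _).trans ((congrArg (_ ≫ ·) hg₀).trans hcomm))
  have ht₀1 : t₀ ≫ f ∣_ U = Spec.map (CommRingCat.ofHom A.subtype) ≫ g₀ := hsq.lift_fst _ _ _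
  have ht₀2 : t₀ ≫ (f ⁻¹ᵁ U).ι = X.fromSpecStalk (genericPoint X) := hsq.lift_snd _ _ _
  have huc : UniversallyClosed (f ∣_ U) := hU.toUniversallyClosed
  obtain ⟨l', hl'1, hl'2⟩ := exists_lift_of_universallyClosed (f ∣_ U) A t₀ g₀ ht₀1.symm
  let l : Spec (CommRingCat.of A) ⟶ X := l' ≫ (f ⁻¹ᵁ U).ι
  have hl1 : Spec.map (CommRingCat.ofHom A.subtype) ≫ l = X.fromSpecStalk (genericPoint X) := by
    simp only [l]
    rw [← Category.assoc, hl'1, ht₀2]
  have hl2 : l ≫ f = g := by
    simp only [l]
    rw [Category.assoc, ← morphismRestrict_ι, ← Category.assoc, hl'2, hg₀]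
  have hdom := Groth.Agent.Lib.ValCenter.dom_of_specMap A l hl1
  refine ⟨l (closedPoint A), ?_, ?_, ?_⟩
  · rw [← Scheme.Hom.comp_apply, hl2, hgcl]
  · intro r
    exact (ValuationSubring.valuation_le_one_iff A _).mpr (hdom.1 r)
  · intro r hr
    exact hdom.2 r hr

end Groth.Agent.Lib.LocProper85
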