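import Mathlib

/-!
# Finitely generated smooth subalgebras of a smooth local ring of a finite type algebra

`exists_smooth_subalgebra`: `B` of finite type over a field `k`, `𝔪` a prime with `B_𝔪` formally smooth over `k`.  Every
finite subset of `B_𝔪` lies in a `k`-subalgebra of `B_𝔪` which is of finite type and formally smooth over `k`
(the image of `B_g` for a suitable `g ∉ 𝔪`).
-/

set_option autoImplicit false
set_option linter.unusedVariables false
set_option linter.unusedSectionVars false
universe u

namespace Groth.Agent.Lib.LocSmoothSub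

variable {k B : Type u} [Field k] [CommRing B] [Algebra k B] [Algebra.FiniteType k B]
  (𝔪 : Ideal B) [𝔪.IsPrime]

omit [Algebra.FiniteType k B] in
/-- an element outside `𝔪` killing the kernel of `B → B_𝔪`. -/
theorem exists_killer [IsNoetherianRing B] : ∃ t : B, t ∉ 𝔪 ∧
    ∀ x : B, algebraMap B (Localization.AtPrime 𝔪) x = 0 → t * x = 0 := by
  classical
  obtain ⟨S, hS⟩ := (isNoetherianRing_iff_ideal_fg B).mp inferInstance
    (RingHom.ker (algebraMap B (Localization.AtPrime 𝔪)))
  have h1 : ∀ x ∈ S, ∃ s : 𝔪.primeCompl, (s : B) * x = 0 := by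
    intro x hx
    have hx0 : algebraMap B (Localization.AtPrime 𝔪) x = 0 := by
      have : x ∈ RingHom.ker (algebraMap B (Localization.AtPrime 𝔪)) := hS ▸ Ideal.subset_span hx
      exact this
    exact (IsLocalization.map_eq_zero_iff 𝔪.primeCompl _ x).mp hx0
  choose! s hs using h1
  have key : ∀ y ∈ Ideal.span (S : Set B), (∏ x ∈ S, (s x : B)) * y = 0 := by
    intro y hy'
    induction hy' using Submodule.span_induction with
    | mem x hx =>
      obtain ⟨c, hc⟩ := Finset.dvd_prod_of_mem (fun x => (s x : B)) hx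
      rw [hc, mul_comm (s x : B) c, mul_assoc, hs x hx, mul_zero]
    | zero => rw [mul_zero]
    | add a b _ _ ha hb => rw [mul_add, ha, hb, add_zero]
    | smul a b _ hb => rw [smul_eq_mul, mul_left_comm, hb, mul_zero]
  refine ⟨∏ x ∈ S, (s x : B), ?_, ?_⟩
  · have : (∏ x ∈ S, (s x : B)) ∈ 𝔪.primeCompl := Submonoid.prod_mem _ fun x _ => (s x).2
    exact this
  · intro y hy
    exact key y (hS ▸ (RingHom.mem_ker.mpr hy))

theorem exists_smooth_subalgebra [Algebra.FormallySmooth k (Localization.AtPrime 𝔪)]
    (V : Finset (Localization.AtPrime 𝔪)) :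
    ∃ C' : Subalgebra k (Localization.AtPrime 𝔪),
      (↑V : Set (Localization.AtPrime 𝔪)) ⊆ C' ∧ Algebra.FiniteType k C' ∧ Algebra.FormallySmooth k C' := by
  classical
  have hfp : Algebra.FinitePresentation k B := Algebra.FinitePresentation.of_finiteType.mp inferInstance
  have hsmAt : Algebra.IsSmoothAt k 𝔪 := ‹_›
  obtain ⟨h, hh, hsm⟩ := Algebra.IsSmoothAt.exists_notMem_smooth k 𝔪
  have : IsNoetherianRing B := Algebra.FiniteType.isNoetherianRing k B
  obtain ⟨t, ht, htker⟩ := exists_killer 𝔪
  have h1 : ∀ c : Localization.AtPrime 𝔪, ∃ (b : B) (s : 𝔪.primeCompl),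
      c * algebraMap B (Localization.AtPrime 𝔪) s = algebraMap B (Localization.AtPrime 𝔪) b := by
    intro c
    obtain ⟨⟨b, s⟩, hbs⟩ := IsLocalization.surj 𝔪.primeCompl c
    exact ⟨b, s, hbs⟩
  choose b s hbs using h1
  set g : B := t * h * ∏ c ∈ V, (s c : B) with hg
  have hg𝔪 : g ∈ 𝔪.primeCompl := by
    refine Submonoid.mul_mem _ (Submonoid.mul_mem _ ht hh) ?_
    exact Submonoid.prod_mem _ fun c _ => (s c).2
  have hunit : ∀ y : Submonoid.powers g, IsUnit (IsScalarTower.toAlgHom k B (Localization.AtPrime 𝔪) y) := by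
    rintro ⟨_, n, rfl⟩
    change IsUnit (algebraMap B (Localization.AtPrime 𝔪) (g ^ n))
    rw [map_pow]
    exact (IsLocalization.map_units (Localization.AtPrime 𝔪) ⟨g, hg𝔪⟩).pow n
  let ψ : Localization.Away g →ₐ[k] Localization.AtPrime 𝔪 :=
    IsLocalization.liftAlgHom (M := Submonoid.powers g) (f := IsScalarTower.toAlgHom k B (Localization.AtPrime 𝔪)) hunit
  have hψalg : ∀ x : B, ψ (algebraMap B (Localization.Away g) x) = algebraMap B (Localization.AtPrime 𝔪) x := by
    intro x
    change IsLocalization.lift _ _ = _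
    rw [IsLocalization.lift_eq]
    rfl
  have hψinj : Function.Injective ψ := by
    rw [injective_iff_map_eq_zero]
    intro x hx
    obtain ⟨a, y, rfl⟩ := IsLocalization.exists_mk'_eq (Submonoid.powers g) x
    have h2 : ψ (IsLocalization.mk' (Localization.Away g) a y) * ψ (algebraMap B (Localization.Away g) y) =
        ψ (algebraMap B (Localization.Away g) a) := by
      rw [← map_mul, IsLocalization.mk'_spec]
    rw [hx, zero_mul, hψalg] at h2
    have h3 := htker a h2.symm
    rw [IsLocalization.mk'_eq_zero_iff]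
    refine ⟨⟨g, Submonoid.mem_powers g⟩, ?_⟩
    change g * a = 0
    have : g * a = (h * ∏ c ∈ V, (s c : B)) * (t * a) := by rw [hg]; ring
    rw [this, h3, mul_zero]
  refine ⟨ψ.range, ?_, ?_, ?_⟩
  · intro c hc
    obtain ⟨e, he⟩ : (s c : B) ∣ g := by
      obtain ⟨e, he⟩ := Finset.dvd_prod_of_mem (fun c => (s c : B)) hc
      exact ⟨t * h * e, by rw [hg, he]; ring⟩
    refine ⟨IsLocalization.mk' (Localization.Away g) (b c * e) ⟨g, Submonoid.mem_powers g⟩, ?_⟩
    have h2 : ψ (IsLocalization.mk' (Localization.Away g) (b c * e) ⟨g, Submonoid.mem_powers g⟩) *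
        ψ (algebraMap B (Localization.Away g) g) = ψ (algebraMap B (Localization.Away g) (b c * e)) := by
      rw [← map_mul]
      congr 1
      exact IsLocalization.mk'_spec _ _ _
    rw [hψalg, hψalg] at h2
    have h3 : c * algebraMap B (Localization.AtPrime 𝔪) g = algebraMap B (Localization.AtPrime 𝔪) (b c * e) := by
      rw [he, map_mul, ← mul_assoc, hbs, map_mul]
    have hu : IsUnit (algebraMap B (Localization.AtPrime 𝔪) g) :=
      IsLocalization.map_units (Localization.AtPrime 𝔪) ⟨g, hg𝔪⟩
    exact hu.mul_left_injective (h2.trans h3.symm)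
  · have h1 : Algebra.FinitePresentation B (Localization.Away g) := IsLocalization.Away.finitePresentation g
    have h2 : Algebra.FinitePresentation k (Localization.Away g) := .trans k B _
    have h3 : Algebra.FiniteType k (Localization.Away g) := inferInstance
    exact Algebra.FiniteType.equiv h3 (AlgEquiv.ofInjective ψ hψinj)
  · have h1 : (↑(PrimeSpectrum.basicOpen h) : Set (PrimeSpectrum B)) ⊆ Algebra.smoothLocus k B :=
      Algebra.basicOpen_subset_smoothLocus_iff.mpr hsm.formallySmooth
    have h2 : (↑(PrimeSpectrum.basicOpen g) : Set (PrimeSpectrum B)) ⊆ Algebra.smoothLocus k B := by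
      intro p hp
      apply h1
      change h ∉ p.asIdeal
      intro hhp
      apply hp
      change g ∈ p.asIdeal
      rw [hg, mul_assoc, mul_left_comm]
      exact Ideal.mul_mem_right _ _ hhp
    have h3 : Algebra.FormallySmooth k (Localization.Away g) := Algebra.basicOpen_subset_smoothLocus_iff.mp h2
    exact Algebra.FormallySmooth.of_equiv (AlgEquiv.ofInjective ψ hψinj)

end Groth.Agent.Lib.LocSmoothSub
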