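import Mathlib
import Groth.Prelude.Def_NonAbH2
import Groth.Prelude.Def_ChGrp

/-!
# Gluing morphisms along an fpqc-locally trivial object (helper18)

Let `P : Over S` be locally trivial for the fpqc topology (`NonAbH1.IsLocallyTrivialFor
Scheme.fpqcPrecoverage P`).  Then those `T : Over S` which admit a point `T ⟶ P` form a covering
sieve of every object of `Over S` for the topology induced by the fpqc topology, which is
subcanonical.  Hence:

* `existsUnique_glue` : a morphism `A ⟶ M` in `Over S` can be constructed by giving its values on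
  the points `g : T ⟶ A` of those `T` which come with a point `p : T ⟶ P`, naturally in `T` and
  independently of `p`.
* `hom_ext_of_pt` : two morphisms `A ⟶ M` agreeing on all such points are equal.
* pseudo-torsor points calculus: `dv`, `dv_act`, `eq_dv`, `comp_dv`, `act_cancel`.
-/

set_option autoImplicit false
set_option maxHeartbeats 400000
universe u
open CategoryTheory MonoidalCategory CartesianMonoidalCategory MonObj GrpObj AlgebraicGeometry

namespace Groth.Agent.Lib.LocTrivGlue18

variable {S : Scheme.{u}}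

/-- The sieve on `A` of the arrows `T ⟶ A` whose source has a point of `P`. -/
def ptSieve (P A : Over S) : Sieve A where
  arrows T _ := Nonempty (T ⟶ P)
  downward_closed := fun ⟨p⟩ h => ⟨h ≫ p⟩

lemma ptSieve_mem {P : Over S} (hP : NonAbH1.IsLocallyTrivialFor Scheme.fpqcPrecoverage P)
    (A : Over S) : ptSieve P A ∈ (Scheme.fpqcTopology.over S) A := by
  obtain ⟨R, hR, hsec⟩ := hP
  rw [GrothendieckTopology.mem_over_iff]
  have h1 : Sieve.generate R ∈ Scheme.fpqcTopology S :=
    Precoverage.generate_mem_toGrothendieck hR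
  have h2 := Scheme.fpqcTopology.pullback_stable A.hom h1
  refine Scheme.fpqcTopology.superset_covering ?_ h2
  intro T g hg
  obtain ⟨U, t, f, hf, htf⟩ := hg
  obtain ⟨s, hs⟩ := hsec f hf
  rw [Sieve.overEquiv_iff]
  exact ⟨Over.homMk (t ≫ s) (by simp [hs, htf])⟩

lemma isSheaf_yoneda (M : Over S) :
    Presieve.IsSheaf (Scheme.fpqcTopology.over S) (yoneda.obj M) :=
  GrothendieckTopology.Subcanonical.isSheaf_of_isRepresentable (yoneda.obj M)

/-- Two morphisms agreeing on all points of objects having a point of `P` are equal. -/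
theorem hom_ext_of_pt {P : Over S} (hP : NonAbH1.IsLocallyTrivialFor Scheme.fpqcPrecoverage P)
    {A M : Over S} (r₁ r₂ : A ⟶ M)
    (h : ∀ ⦃T : Over S⦄ (g : T ⟶ A) (_ : T ⟶ P), g ≫ r₁ = g ≫ r₂) : r₁ = r₂ := by
  have hsep := (isSheaf_yoneda M (ptSieve P A) (ptSieve_mem hP A)).isSeparatedFor
  refine hsep.ext ?_
  intro T g hg
  obtain ⟨p⟩ := hg
  exact h g p

/-- Construct a morphism `A ⟶ M` from its values on the points of those `T` which have a point
of the fpqc-locally trivial `P`. -/
theorem existsUnique_glue {P : Over S}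
    (hP : NonAbH1.IsLocallyTrivialFor Scheme.fpqcPrecoverage P) {A M : Over S}
    (F : ∀ ⦃T : Over S⦄, (T ⟶ A) → (T ⟶ P) → (T ⟶ M))
    (hnat : ∀ ⦃T' T : Over S⦄ (h : T' ⟶ T) (g : T ⟶ A) (p : T ⟶ P),
      F (h ≫ g) (h ≫ p) = h ≫ F g p)
    (hind : ∀ ⦃T : Over S⦄ (g : T ⟶ A) (p₁ p₂ : T ⟶ P), F g p₁ = F g p₂) :
    ∃! r : A ⟶ M, ∀ ⦃T : Over S⦄ (g : T ⟶ A) (p : T ⟶ P), g ≫ r = F g p := by
  have hsh := isSheaf_yoneda M (ptSieve P A) (ptSieve_mem hP A)
  let x : Presieve.FamilyOfElements (yoneda.obj M) (ptSieve P A).arrows :=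
    fun T g hg => F g hg.some
  have hx : x.Compatible := by
    rw [Presieve.compatible_iff_sieveCompatible]
    intro T T' g h hg
    show F (h ≫ g) _ = h ≫ F g _
    rw [← hnat h g hg.some]
    exact hind _ _ _
  obtain ⟨r, hr, hruniq⟩ := hsh x hx
  refine ⟨r, ?_, ?_⟩
  · intro T g p
    have := hr g ⟨p⟩
    show g ≫ r = F g p
    rw [hind g p (Nonempty.some ⟨p⟩)]
    exact this
  · intro r' hr'
    apply hruniq
    intro T g hg
    exact hr' g hg.some

section PseudoTorsor

variable {G X : Over S} [GrpObj G] {a : AlgGrp.Action G X}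

/-- For a pseudo-torsor, the unique `g` with `g • y = x`. -/
noncomputable def dv (ha : NonAbH1.IsPseudoTorsorSch a) {T : Over S} (x y : T ⟶ X) : T ⟶ G :=
  haveI : IsIso (lift a.act (snd G X)) := ha
  lift x y ≫ inv (lift a.act (snd G X)) ≫ fst G X

lemma dv_act (ha : NonAbH1.IsPseudoTorsorSch a) {T : Over S} (x y : T ⟶ X) :
    lift (dv ha x y) y ≫ a.act = x := by
  have : IsIso (lift a.act (snd G X)) := ha
  obtain ⟨w, hw⟩ : ∃ w : T ⟶ G ⊗ X, w = lift x y ≫ inv (lift a.act (snd G X)) := ⟨_, rfl⟩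
  have h1 : w ≫ lift a.act (snd G X) = lift x y := by
    rw [hw, Category.assoc, IsIso.inv_hom_id, Category.comp_id]
  have h2 : w ≫ a.act = x := by
    have := congrArg (· ≫ fst X X) h1
    simpa using this
  have h3 : w ≫ snd G X = y := by
    have := congrArg (· ≫ snd X X) h1
    simpa using this
  have h4 : dv ha x y = w ≫ fst G X := by
    rw [hw, Category.assoc]; rfl
  have h5 : lift (dv ha x y) y = w := by
    apply CartesianMonoidalCategory.hom_ext
    · rw [lift_fst, h4]
    · rw [lift_snd, h3]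
  rw [h5, h2]

lemma eq_dv (ha : NonAbH1.IsPseudoTorsorSch a) {T : Over S} {g : T ⟶ G} {x y : T ⟶ X}
    (h : lift g y ≫ a.act = x) : g = dv ha x y := by
  have : IsIso (lift a.act (snd G X)) := ha
  have h1 : lift g y ≫ lift a.act (snd G X) = lift x y := by
    rw [comp_lift, h, lift_snd]
  have h2 : lift g y = lift x y ≫ inv (lift a.act (snd G X)) := by
    rw [← h1, Category.assoc, IsIso.hom_inv_id, Category.comp_id]
  have h3 := congrArg (· ≫ fst G X) h2
  simp only [lift_fst, Category.assoc] at h3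
  exact h3

lemma act_cancel (ha : NonAbH1.IsPseudoTorsorSch a) {T : Over S} {g g' : T ⟶ G} {y : T ⟶ X}
    (h : lift g y ≫ a.act = lift g' y ≫ a.act) : g = g' := by
  rw [eq_dv ha h, ← eq_dv ha rfl]

lemma comp_dv (ha : NonAbH1.IsPseudoTorsorSch a) {T' T : Over S} (h : T' ⟶ T) (x y : T ⟶ X) :
    h ≫ dv ha x y = dv ha (h ≫ x) (h ≫ y) := by
  apply eq_dv
  rw [← comp_lift, Category.assoc, dv_act]

lemma dv_self (ha : NonAbH1.IsPseudoTorsorSch a) {T : Over S} (x : T ⟶ X) :
    dv ha x x = 1 :=
  (eq_dv ha (AlgGrp.Action.lift_one_act a x)).symm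

lemma dv_act_left (ha : NonAbH1.IsPseudoTorsorSch a) {T : Over S} (k : T ⟶ G) (x y : T ⟶ X) :
    dv ha (lift k x ≫ a.act) y = k * dv ha x y := by
  symm
  apply eq_dv
  rw [AlgGrp.Action.lift_mul_act, dv_act]

end PseudoTorsor

end Groth.Agent.Lib.LocTrivGlue18
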