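import Mathlib.CategoryTheory.Sites.LocallyBijective
import Mathlib.CategoryTheory.Sites.Localization
import Mathlib.CategoryTheory.Limits.FunctorCategory.Basic
import Mathlib.CategoryTheory.Sites.SheafCohomology.Basic
import Mathlib.CategoryTheory.Abelian.GrothendieckAxioms.Sheaf
import Mathlib.Algebra.Category.Grp.AB

/-!
# Sheafification of a presheaf-valued functor preserves a colimit if it does so locally (helper49)

`preservesColimit_comp_presheafToSheaf`: let `G : 𝒜 ⥤ (Dᵒᵖ ⥤ AddCommGrpCat)`, `F : ι ⥤ 𝒜` a diagram with a colimit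
and `K` a Grothendieck topology on the small category `D`.  If every object `V` of `D` has a covering family
`Y k ⟶ V` such that `G ⋙ evaluation at Y k` preserves the colimit of `F`, then `G ⋙ presheafToSheaf K` preserves
the colimit of `F`.
-/

set_option autoImplicit false
universe u v' u'

open CategoryTheory CategoryTheory.Limits Opposite

namespace Groth.Agent.Lib.LocalColimit

variable {D : Type u} [SmallCategory D] (K : GrothendieckTopology D)

section LocIso

variable {P Q : Dᵒᵖ ⥤ AddCommGrpCat.{u}} (φ : P ⟶ Q)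

/-- a morphism of presheaves which is an isomorphism on the members of a covering family of every object
becomes an isomorphism after sheafification -/
theorem W_of_covering
    (h : ∀ V : D, ∃ (κ : Type u) (Y : κ → D) (g : ∀ k, Y k ⟶ V), Sieve.ofArrows Y g ∈ K V ∧
      ∀ k, IsIso (φ.app (op (Y k)))) : K.W φ := by
  have hinj : Presheaf.IsLocallyInjective K φ := by
    constructor
    intro X x y hxy
    obtain ⟨κ, Y, g, hcov, hiso⟩ := h X.unop
    refine K.superset_covering ?_ hcov
    rw [Sieve.ofArrows, Sieve.generate_le_iff, Presieve.ofArrows_le_iff]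
    intro k
    change P.map (g k).op x = P.map (g k).op y
    have := hiso k
    have hb := (ConcreteCategory.isIso_iff_bijective (φ.app (op (Y k)))).1 inferInstance
    apply hb.1
    have e1 := NatTrans.naturality_apply φ (g k).op x
    have e2 := NatTrans.naturality_apply φ (g k).op y
    exact e1.trans ((congrArg _ hxy).trans e2.symm)
  have hsurj : Presheaf.IsLocallySurjective K φ := by
    constructor
    intro U s
    obtain ⟨κ, Y, g, hcov, hiso⟩ := h U
    refine K.superset_covering ?_ hcov
    rw [Sieve.ofArrows, Sieve.generate_le_iff, Presieve.ofArrows_le_iff]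
    intro k
    have := hiso k
    have hb := (ConcreteCategory.isIso_iff_bijective (φ.app (op (Y k)))).1 inferInstance
    obtain ⟨t, ht⟩ := hb.2 (Q.map (g k).op s)
    exact ⟨t, ht⟩
  exact K.W_of_isLocallyBijective φ

end LocIso

section Main

variable {𝒜 : Type u'} [Category.{v'} 𝒜] {ι : Type u} [SmallCategory ι] (F : ι ⥤ 𝒜) [HasColimit F]
  (G : 𝒜 ⥤ (Dᵒᵖ ⥤ AddCommGrpCat.{u}))

/-- the comparison map `colim (G F_i) ⟶ G (colim F_i)` in presheaves -/
noncomputable abbrev cmp : colimit (F ⋙ G) ⟶ G.obj (colimit F) :=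
  colimit.desc (F ⋙ G) (G.mapCocone (colimit.cocone F))

lemma isIso_cmp_app (V : D)
    (hV : PreservesColimit F (G ⋙ (evaluation Dᵒᵖ AddCommGrpCat.{u}).obj (op V))) :
    IsIso ((cmp F G).app (op V)) := by
  let ev := (evaluation Dᵒᵖ AddCommGrpCat.{u}).obj (op V)
  have h1 : IsColimit (ev.mapCocone (colimit.cocone (F ⋙ G))) :=
    isColimitOfPreserves ev (colimit.isColimit (F ⋙ G))
  have h2 : IsColimit ((G ⋙ ev).mapCocone (colimit.cocone F)) :=
    isColimitOfPreserves (G ⋙ ev) (colimit.isColimit F)
  have : (cmp F G).app (op V) = (h1.coconePointUniqueUpToIso h2).hom := by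
    apply h1.hom_ext
    intro j
    rw [IsColimit.comp_coconePointUniqueUpToIso_hom]
    change (colimit.ι (F ⋙ G) j ≫ cmp F G).app (op V) = _
    rw [colimit.ι_desc]
    rfl
  rw [this]
  infer_instance

/-- **Sheafification of `G` preserves the colimit of `F` if `G` does so on a covering family of every object.** -/
theorem preservesColimit_comp_presheafToSheaf
    (h : ∀ V : D, ∃ (κ : Type u) (Y : κ → D) (g : ∀ k, Y k ⟶ V), Sieve.ofArrows Y g ∈ K V ∧
      ∀ k, PreservesColimit F (G ⋙ (evaluation Dᵒᵖ AddCommGrpCat.{u}).obj (op (Y k)))) :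
    PreservesColimit F (G ⋙ presheafToSheaf K AddCommGrpCat.{u}) := by
  set a := presheafToSheaf K AddCommGrpCat.{u} with ha
  have hW : K.W (cmp F G) := W_of_covering K (cmp F G) (fun V => by
    obtain ⟨κ, Y, g, hcov, hpres⟩ := h V
    exact ⟨κ, Y, g, hcov, fun k => isIso_cmp_app F G (Y k) (hpres k)⟩)
  have hiso : IsIso (a.map (cmp F G)) := (K.W_iff _).1 hW
  apply preservesColimit_of_preserves_colimit_cocone (colimit.isColimit F)
  -- the cocone morphism
  let m : colimit.cocone (F ⋙ G) ⟶ G.mapCocone (colimit.cocone F) :=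
    (colimit.isColimit (F ⋙ G)).descCoconeMorphism _
  let m' : a.mapCocone (colimit.cocone (F ⋙ G)) ⟶ a.mapCocone (G.mapCocone (colimit.cocone F)) :=
    (Cocone.functoriality (F ⋙ G) a).map m
  have : IsIso m'.hom := hiso
  have : IsIso m' := Cocone.cocone_iso_of_hom_iso m'
  have hc : IsColimit (a.mapCocone (G.mapCocone (colimit.cocone F))) :=
    IsColimit.ofIsoColimit (isColimitOfPreserves a (colimit.isColimit (F ⋙ G))) (asIso m')
  exact hc

end Main

end Groth.Agent.Lib.LocalColimit
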