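import Groth.Agent.Lib.LocColim
import Mathlib.RingTheory.LocalProperties.Exactness
import Mathlib.Algebra.Module.LocalizedModule.Exact
import Mathlib.Algebra.Homology.ShortComplex.ExactFunctor
import Mathlib.Algebra.Homology.ShortComplex.ModuleCat
import Mathlib.Algebra.Category.ModuleCat.ChangeOfRings
import Mathlib.Algebra.Category.ModuleCat.Abelian

set_option autoImplicit false
universe u

namespace Groth.Agent.Lib.LocalExact

open CategoryTheory CategoryTheory.Limits Groth.Agent.Lib.LocColim

variable {A : Type u} [CommRing A] (S : Submonoid A)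

/-- Restriction of scalars along `A → S⁻¹A`. -/
noncomputable abbrev RS : ModuleCat.{u} (Localization S) ⥤ ModuleCat.{u} A :=
  ModuleCat.restrictScalars.{u} (algebraMap A (Localization S))

/-- The localization functor `ModuleCat A ⥤ ModuleCat S⁻¹A` (without `Shrink`). -/
noncomputable def locFunctor : ModuleCat.{u} A ⥤ ModuleCat.{u} (Localization S) where
  obj X := ModuleCat.of (Localization S) (LocalizedModule S X)
  map f := ModuleCat.ofHom (LocalizedModule.map S f.hom)
  map_id X := by
    ext x
    simp
  map_comp f g := by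
    ext x
    induction x using LocalizedModule.induction_on with
    | h m s => simp [LocalizedModule.map_mk]

theorem locFunctor_map_hom {X Y : ModuleCat.{u} A} (f : X ⟶ Y) :
    ((locFunctor S).map f).hom = LocalizedModule.map S f.hom := rfl

instance : (locFunctor S).Additive where
  map_add {X Y f g} := by
    apply ModuleCat.hom_ext
    show LocalizedModule.map S (f + g).hom =
      LocalizedModule.map S f.hom + LocalizedModule.map S g.hom
    rw [ModuleCat.hom_add, map_add]

/-- The localization functor preserves short exact sequences. -/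
theorem locFunctor_shortExact (Sh : ShortComplex (ModuleCat.{u} A)) (h : Sh.ShortExact) :
    (Sh.map (locFunctor S)).ShortExact := by
  have hex := (ShortComplex.ShortExact.moduleCat_exact_iff_function_exact _).mp h.exact
  have hmono := (ModuleCat.mono_iff_injective _).mp h.mono_f
  have hepi := (ModuleCat.epi_iff_surjective _).mp h.epi_g
  refine ShortComplex.ShortExact.mk' ?_ ?_ ?_
  · rw [ShortComplex.ShortExact.moduleCat_exact_iff_function_exact]
    exact LocalizedModule.map_exact S _ _ hex
  · rw [ModuleCat.mono_iff_injective]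
    exact LocalizedModule.map_injective S _ hmono
  · rw [ModuleCat.epi_iff_surjective]
    exact LocalizedModule.map_surjective S _ hepi

/-- The `A`-module underlying `S⁻¹X` (via restriction of scalars) is `LocalizedModule S X`. -/
noncomputable def resIso (X : ModuleCat.{u} A) :
    (RS S).obj ((locFunctor S).obj X) ≅ ModuleCat.of A (LocalizedModule S X) :=
  LinearEquiv.toModuleIso
    ({ toFun := fun x => x
       invFun := fun x => x
       map_add' := fun _ _ => rfl
       map_smul' := fun a x =>
        algebraMap_smul (Localization S) a (show LocalizedModule S X from x)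
       left_inv := fun _ => rfl
       right_inv := fun _ => rfl } :
      ((RS S).obj ((locFunctor S).obj X)) ≃ₗ[A] LocalizedModule S X)

/-- The localization map `X ⟶ S⁻¹X` as a morphism of `A`-modules. -/
noncomputable def toLoc (X : ModuleCat.{u} A) : X ⟶ (RS S).obj ((locFunctor S).obj X) :=
  ModuleCat.ofHom (LocalizedModule.mkLinearMap S X) ≫ (resIso S X).inv

theorem toLoc_naturality {X Y : ModuleCat.{u} A} (f : X ⟶ Y) :
    toLoc S X ≫ (RS S).map ((locFunctor S).map f) = f ≫ toLoc S Y := by
  ext x
  rw [ModuleCat.hom_comp, ModuleCat.hom_comp, LinearMap.comp_apply, LinearMap.comp_apply]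
  show LocalizedModule.map S f.hom (LocalizedModule.mk x 1) = LocalizedModule.mk (f.hom x) 1
  exact LocalizedModule.map_mk S f.hom x 1

variable (T : ModuleCat.{u} A ⥤ ModuleCat.{u} A) [T.Linear A]

/-- `T(X) → T(S⁻¹X)` is a localization. -/
theorem isLocalizedModule_T_toLoc [PreservesColimitsOfShape (SCat S) T] (X : ModuleCat.{u} A) :
    IsLocalizedModule S (T.map (toLoc S X)).hom := by
  have h1 := isLocalizedModule_map S X T
  have h2 : (T.map (toLoc S X)).hom =
      ((T.mapIso (resIso S X).symm).toLinearEquiv : _ ≃ₗ[A] _).toLinearMap ∘ₗ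
        (T.map (ModuleCat.ofHom (LocalizedModule.mkLinearMap S X) :
          X ⟶ ModuleCat.of A (LocalizedModule S X))).hom := by
    rw [toLoc, T.map_comp, ModuleCat.hom_comp]
    rfl
  rw [h2]
  infer_instance

/-- The localized map of `T(φ)` is `T(S⁻¹φ)`. -/
theorem map_T_eq [PreservesColimitsOfShape (SCat S) T] {X Y : ModuleCat.{u} A} (φ : X ⟶ Y) :
    haveI := isLocalizedModule_T_toLoc S T X
    haveI := isLocalizedModule_T_toLoc S T Y
    IsLocalizedModule.map S (T.map (toLoc S X)).hom (T.map (toLoc S Y)).hom (T.map φ).hom =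
      (T.map ((RS S).map ((locFunctor S).map φ))).hom := by
  have := isLocalizedModule_T_toLoc S T X
  have := isLocalizedModule_T_toLoc S T Y
  apply IsLocalizedModule.linearMap_ext S (T.map (toLoc S X)).hom (T.map (toLoc S Y)).hom
  rw [IsLocalizedModule.map_comp, ← ModuleCat.hom_comp, ← ModuleCat.hom_comp, ← T.map_comp,
    ← T.map_comp, toLoc_naturality]

variable [T.Additive]

section local_global

variable (hT : ∀ (m : Ideal A) [m.IsMaximal], PreservesColimitsOfShape (SCat m.primeCompl) T)
include hT

theorem exact_map_of_local (Sh : ShortComplex (ModuleCat.{u} A))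
    (H : ∀ (m : Ideal A) [m.IsMaximal],
      ((Sh.map (locFunctor m.primeCompl)).map (RS m.primeCompl ⋙ T)).Exact) :
    (Sh.map T).Exact := by
  rw [ShortComplex.ShortExact.moduleCat_exact_iff_function_exact]
  have inst : ∀ (X : ModuleCat.{u} A) (P : Ideal A) [P.IsMaximal],
      IsLocalizedModule.AtPrime P (T.map (toLoc P.primeCompl X)).hom :=
    fun X P _ => isLocalizedModule_T_toLoc _ T X
  have i1 := inst Sh.X₁
  have i2 := inst Sh.X₂
  have i3 := inst Sh.X₃
  refine @exact_of_isLocalized_maximal _ _ _ _ _ _ _ _ _ _ _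
    (fun m _ => T.obj ((RS m.primeCompl).obj ((locFunctor m.primeCompl).obj Sh.X₁)))
    (fun m _ => inferInstance) (fun m _ => inferInstance)
    (fun m _ => (T.map (toLoc m.primeCompl Sh.X₁)).hom) i1
    (fun m _ => T.obj ((RS m.primeCompl).obj ((locFunctor m.primeCompl).obj Sh.X₂)))
    (fun m _ => inferInstance) (fun m _ => inferInstance)
    (fun m _ => (T.map (toLoc m.primeCompl Sh.X₂)).hom) i2
    (fun m _ => T.obj ((RS m.primeCompl).obj ((locFunctor m.primeCompl).obj Sh.X₃)))
    (fun m _ => inferInstance) (fun m _ => inferInstance)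
    (fun m _ => (T.map (toLoc m.primeCompl Sh.X₃)).hom) i3
    (T.map Sh.f).hom (T.map Sh.g).hom ?_
  intro m hm
  rw [map_T_eq, map_T_eq]
  exact (ShortComplex.ShortExact.moduleCat_exact_iff_function_exact _).mp (H m)

omit [T.Additive] in
theorem mono_map_of_local {X Y : ModuleCat.{u} A} (φ : X ⟶ Y)
    (H : ∀ (m : Ideal A) [m.IsMaximal],
      Mono ((RS m.primeCompl ⋙ T).map ((locFunctor m.primeCompl).map φ))) :
    Mono (T.map φ) := by
  rw [ModuleCat.mono_iff_injective]
  have inst : ∀ (X : ModuleCat.{u} A) (P : Ideal A) [P.IsMaximal],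
      IsLocalizedModule.AtPrime P (T.map (toLoc P.primeCompl X)).hom :=
    fun X P _ => isLocalizedModule_T_toLoc _ T X
  have i1 := inst X
  have i2 := inst Y
  refine @injective_of_isLocalized_maximal _ _ _ _ _ _ _ _
    (fun m _ => T.obj ((RS m.primeCompl).obj ((locFunctor m.primeCompl).obj X)))
    (fun m _ => inferInstance) (fun m _ => inferInstance)
    (fun m _ => (T.map (toLoc m.primeCompl X)).hom) i1
    (fun m _ => T.obj ((RS m.primeCompl).obj ((locFunctor m.primeCompl).obj Y)))
    (fun m _ => inferInstance) (fun m _ => inferInstance)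
    (fun m _ => (T.map (toLoc m.primeCompl Y)).hom) i2
    (T.map φ).hom ?_
  intro m hm
  rw [map_T_eq]
  exact (ModuleCat.mono_iff_injective _).mp (H m)

omit [T.Additive] in
theorem epi_map_of_local {X Y : ModuleCat.{u} A} (φ : X ⟶ Y)
    (H : ∀ (m : Ideal A) [m.IsMaximal],
      Epi ((RS m.primeCompl ⋙ T).map ((locFunctor m.primeCompl).map φ))) :
    Epi (T.map φ) := by
  rw [ModuleCat.epi_iff_surjective]
  have inst : ∀ (X : ModuleCat.{u} A) (P : Ideal A) [P.IsMaximal],
      IsLocalizedModule.AtPrime P (T.map (toLoc P.primeCompl X)).hom :=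
    fun X P _ => isLocalizedModule_T_toLoc _ T X
  have i1 := inst X
  have i2 := inst Y
  refine @surjective_of_isLocalized_maximal _ _ _ _ _ _ _ _
    (fun m _ => T.obj ((RS m.primeCompl).obj ((locFunctor m.primeCompl).obj X)))
    (fun m _ => inferInstance) (fun m _ => inferInstance)
    (fun m _ => (T.map (toLoc m.primeCompl X)).hom) i1
    (fun m _ => T.obj ((RS m.primeCompl).obj ((locFunctor m.primeCompl).obj Y)))
    (fun m _ => inferInstance) (fun m _ => inferInstance)
    (fun m _ => (T.map (toLoc m.primeCompl Y)).hom) i2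
    (T.map φ).hom ?_
  intro m hm
  rw [map_T_eq]
  exact (ModuleCat.epi_iff_surjective _).mp (H m)

theorem preservesFiniteLimits_of_local
    (H : ∀ (m : Ideal A) [m.IsMaximal], PreservesFiniteLimits (RS m.primeCompl ⋙ T)) :
    PreservesFiniteLimits T := by
  rw [Functor.preservesFiniteLimits_iff_forall_exact_map_and_mono]
  intro Sh hSh
  have hloc : ∀ (m : Ideal A) [m.IsMaximal],
      ((Sh.map (locFunctor m.primeCompl)).map (RS m.primeCompl ⋙ T)).Exact ∧
        Mono ((RS m.primeCompl ⋙ T).map (Sh.map (locFunctor m.primeCompl)).f) :=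
    fun m _ => (Functor.preservesFiniteLimits_iff_forall_exact_map_and_mono
      (RS m.primeCompl ⋙ T)).mp (H m) _ (locFunctor_shortExact _ Sh hSh)
  exact ⟨exact_map_of_local T hT Sh (fun m _ => (hloc m).1),
    mono_map_of_local T hT Sh.f (fun m _ => (hloc m).2)⟩

theorem preservesFiniteColimits_of_local
    (H : ∀ (m : Ideal A) [m.IsMaximal], PreservesFiniteColimits (RS m.primeCompl ⋙ T)) :
    PreservesFiniteColimits T := by
  rw [Functor.preservesFiniteColimits_iff_forall_exact_map_and_epi]
  intro Sh hSh
  have hloc : ∀ (m : Ideal A) [m.IsMaximal],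
      ((Sh.map (locFunctor m.primeCompl)).map (RS m.primeCompl ⋙ T)).Exact ∧
        Epi ((RS m.primeCompl ⋙ T).map (Sh.map (locFunctor m.primeCompl)).g) :=
    fun m _ => (Functor.preservesFiniteColimits_iff_forall_exact_map_and_epi
      (RS m.primeCompl ⋙ T)).mp (H m) _ (locFunctor_shortExact _ Sh hSh)
  exact ⟨exact_map_of_local T hT Sh (fun m _ => (hloc m).1),
    epi_map_of_local T hT Sh.g (fun m _ => (hloc m).2)⟩

end local_global

end Groth.Agent.Lib.LocalExact
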