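import Mathlib

/-!
# Morphisms from the spectrum of a local ring factor through affine opens (helper37)

* `range_subset_of_closedPoint_mem`: a morphism `Spec B ⟶ X` (`B` local) whose closed point lands
  in an open `U` has range in `U`.
* `exists_eq_SpecMap_fromSpec`: such a morphism factors as `Spec.map g ≫ hV.fromSpec` for an affine
  open `V` containing the image of the closed point.
* `SpecMap_fromSpec_inj`: `Spec.map g ≫ hV.fromSpec` determines `g`.
* `isLocalHom_of_sq_zero`: a surjection with square-zero kernel is a local homomorphism.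
-/

set_option autoImplicit false
universe u
open CategoryTheory AlgebraicGeometry TopologicalSpace

namespace Groth.Agent.Lib.LocalSpecLift

/-- A surjection with square-zero kernel reflects units. -/
lemma isLocalHom_of_sq_zero {B' B : Type*} [CommRing B'] [CommRing B] (φ : B' →+* B)
    (hs : Function.Surjective φ) (hk : RingHom.ker φ ^ 2 = ⊥) : IsLocalHom φ := by
  constructor
  intro b hb
  obtain ⟨c, hc⟩ := hs ((hb.unit⁻¹ : Bˣ) : B)
  have h1 : φ (b * c - 1) = 0 := by
    rw [map_sub, map_mul, hc, map_one, IsUnit.mul_val_inv, sub_self]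
  have hn : IsNilpotent (b * c - 1) := by
    refine ⟨2, ?_⟩
    have : (b * c - 1) ^ 2 ∈ RingHom.ker φ ^ 2 := Ideal.pow_mem_pow (RingHom.mem_ker.mpr h1) 2
    rw [hk] at this
    exact this
  have hu : IsUnit (b * c) := by
    have := hn.isUnit_add_one
    simpa using this
  exact isUnit_of_mul_isUnit_left hu

variable {X : Scheme.{u}}

lemma range_subset_of_closedPoint_mem {B : Type u} [CommRing B] [IsLocalRing B]
    (γ : Spec (CommRingCat.of B) ⟶ X) (U : X.Opens)
    (h : γ.base (IsLocalRing.closedPoint B) ∈ U) : Set.range γ ⊆ (U : Set X) := by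
  rintro _ ⟨p, rfl⟩
  let cB : ↥(Spec (CommRingCat.of B)) := IsLocalRing.closedPoint B
  have hp : p ⤳ cB := IsLocalRing.specializes_closedPoint (R := B) p
  have h3 : γ p ⤳ γ cB := hp.map γ.continuous
  exact h3.mem_open U.isOpen h

lemma exists_eq_SpecMap_fromSpec {B : Type u} [CommRing B] [IsLocalRing B]
    (γ : Spec (CommRingCat.of B) ⟶ X) {V : X.Opens} (hV : IsAffineOpen V)
    (h : γ.base (IsLocalRing.closedPoint B) ∈ V) :
    ∃ g : Γ(X, V) ⟶ CommRingCat.of B, γ = Spec.map g ≫ hV.fromSpec := by
  have hr : Set.range γ ⊆ Set.range hV.fromSpec := by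
    rw [hV.range_fromSpec]
    exact range_subset_of_closedPoint_mem γ V h
  refine ⟨Spec.preimage (IsOpenImmersion.lift hV.fromSpec γ hr), ?_⟩
  rw [Spec.map_preimage, IsOpenImmersion.lift_fac]

lemma SpecMap_fromSpec_inj {B : CommRingCat.{u}} {V : X.Opens} (hV : IsAffineOpen V)
    {g g' : Γ(X, V) ⟶ B} (h : Spec.map g ≫ hV.fromSpec = Spec.map g' ≫ hV.fromSpec) : g = g' := by
  rw [cancel_mono] at h
  exact Spec.map_injective h

end Groth.Agent.Lib.LocalSpecLift
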