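import Mathlib.CategoryTheory.Localization.FiniteProducts

/-!
# The localized category has finite coproducts (helper68)

Dual of `Mathlib.CategoryTheory.Localization.FiniteProducts`: if `L : C ⥤ D` is a localization
functor for `W`, `C` has coproducts of shape `J` (finite) and `W` is stable under coproducts of
shape `J`, then `D` has coproducts of shape `J` and `L` preserves them.
-/

universe v₁ v₂ u₁ u₂

namespace Groth.Agent.Lib.LocalizationCoproducts68

open CategoryTheory CategoryTheory.Limits CategoryTheory.Functor

variable {C : Type u₁} {D : Type u₂} [Category.{v₁} C] [Category.{v₂} D] (L : C ⥤ D)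
  (W : MorphismProperty C) [L.IsLocalization W]

section Adjunction

variable {J : Type*} [Category J] {C' : Type*} [Category C']
  {G : (J ⥤ C') ⥤ C'} (adj : G ⊣ Functor.const J)

/-- The colimit cocone obtained from a left adjoint of the constant functor. -/
@[simps]
def coconeOfAdj (F : J ⥤ C') : Cocone F where
  pt := G.obj F
  ι := adj.unit.app F

/-- The cocones defined by `coconeOfAdj` are colimit cocones. -/
def isColimitCoconeOfAdj (F : J ⥤ C') : IsColimit (coconeOfAdj adj F) where
  desc s := (adj.homEquiv _ _).symm s.ι
  fac s j := by
    have eq := NatTrans.congr_app (adj.unit.naturality s.ι) j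
    have eq' := NatTrans.congr_app (adj.right_triangle_components s.pt) j
    dsimp at eq eq'
    show (adj.unit.app F).app j ≫ (adj.homEquiv _ _).symm s.ι = s.ι.app j
    rw [adj.homEquiv_counit, ← Category.assoc, ← eq, Category.assoc, eq', Category.comp_id]
  uniq s m hm := by
    change G.obj F ⟶ s.pt at m
    change ∀ j, (adj.unit.app F).app j ≫ m = s.ι.app j at hm
    change m = (adj.homEquiv F s.pt).symm s.ι
    rw [Equiv.eq_symm_apply]
    ext j
    rw [adj.homEquiv_unit]
    exact hm j

end Adjunction

namespace HasCoproductsOfShapeAux

variable (J : Type) [HasCoproductsOfShape J C] [W.IsStableUnderCoproductsOfShape J]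

lemma inverts :
    (W.functorCategory (Discrete J)).IsInvertedBy (colim ⋙ L) :=
  fun _ _ f hf => Localization.inverts L W _ (MorphismProperty.colimMap f hf)

variable [W.ContainsIdentities] [Finite J]

/-- The (candidate) colimit functor for the localized category. -/
noncomputable abbrev colimitFunctor :
    (Discrete J ⥤ D) ⥤ D :=
  Localization.lift _ (inverts L W J)
    ((whiskeringRight (Discrete J) C D).obj L)

/-- The functor `colimitFunctor L W J` is induced by `colim ⋙ L`. -/
noncomputable def compColimitFunctorIso :
    ((whiskeringRight (Discrete J) C D).obj L) ⋙ colimitFunctor L W J ≅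
      colim ⋙ L := by
  apply Localization.fac

instance :
    CatCommSq (Functor.const (Discrete J)) L
      ((whiskeringRight (Discrete J) C D).obj L) (Functor.const (Discrete J)) where
  iso := (Functor.compConstIso _ _).symm

noncomputable instance :
    CatCommSq colim ((whiskeringRight (Discrete J) C D).obj L) L (colimitFunctor L W J) where
  iso := (compColimitFunctorIso L W J).symm

/-- The adjunction between `colimitFunctor L W J` and the constant functor. -/
noncomputable def adj :
    colimitFunctor L W J ⊣ Functor.const _ :=
  colimConstAdj.localization ((whiskeringRight (Discrete J) C D).obj L)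
    (W.functorCategory (Discrete J)) L W (colimitFunctor L W J) (Functor.const _)

lemma adj_unit_app (F : Discrete J ⥤ C) :
    (adj L W J).unit.app (F ⋙ L) =
      whiskerRight (colimConstAdj.unit.app F) L ≫
        (Functor.compConstIso (Discrete J) L).inv.app (colim.obj F) ≫
        (Functor.const (Discrete J)).map ((compColimitFunctorIso L W J).inv.app F) := by
  apply colimConstAdj.localization_unit_app

/-- Auxiliary definition for `preservesCoproductsOfShape`. -/
noncomputable def isColimitMapCocone (F : Discrete J ⥤ C) :
    IsColimit (L.mapCocone (colimit.cocone F)) :=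
  IsColimit.ofIsoColimit (isColimitCoconeOfAdj (adj L W J) (F ⋙ L))
    (Cocone.ext ((compColimitFunctorIso L W J).app F) (by
      intro j
      simp [adj_unit_app, colimConstAdj]
      erw [Category.assoc, Iso.inv_hom_id_app, Category.comp_id]))

end HasCoproductsOfShapeAux

variable [W.ContainsIdentities]

include L
lemma hasCoproductsOfShape (J : Type) [Finite J] [HasCoproductsOfShape J C]
    [W.IsStableUnderCoproductsOfShape J] :
    HasCoproductsOfShape J D :=
  hasColimitsOfShape_iff_isRightAdjoint_const.2
    (HasCoproductsOfShapeAux.adj L W J).isRightAdjoint

/-- Any localization functor for `W` preserves finite coproducts indexed by `J` when `W` is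
stable under them. -/
lemma preservesCoproductsOfShape (J : Type) [Finite J]
    [HasCoproductsOfShape J C] [W.IsStableUnderCoproductsOfShape J] :
    PreservesColimitsOfShape (Discrete J) L where
  preservesColimit {F} := preservesColimit_of_preserves_colimit_cocone (colimit.isColimit F)
    (HasCoproductsOfShapeAux.isColimitMapCocone L W J F)

end Groth.Agent.Lib.LocalizationCoproducts68
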