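import Mathlib.CategoryTheory.Localization.CalculusOfFractions
import Mathlib.CategoryTheory.Limits.Shapes.Pullback.IsPullback.Basic

/-!
# Pullback squares in a localization with a calculus of right fractions (helper68)

Let `W` have a calculus of right fractions in `C` and `L : C ⥤ D` be a localization functor.  A
commutative square in `C` which is a "weak pullback up to refinement in `W`" (`hex`) and whose two
projections are jointly monic (`hmono`) is sent by `L` to a pullback square.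
-/

set_option autoImplicit false
universe v₁ v₂ u₁ u₂
open CategoryTheory CategoryTheory.Limits

namespace Groth.Agent.Lib.LocalizationPullback68

variable {C : Type u₁} [Category.{v₁} C] {D : Type u₂} [Category.{v₂} D]
  (W : MorphismProperty C) [W.HasRightCalculusOfFractions] (L : C ⥤ D) [L.IsLocalization W]

/-- Two morphisms of the localization with the same source `L.obj Z₀` have a common denominator. -/
theorem exists_common_denominator {Z₀ T X : C} (α : L.obj Z₀ ⟶ L.obj T) (β : L.obj Z₀ ⟶ L.obj X) :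
    ∃ (Z₁ : C) (s : Z₁ ⟶ Z₀) (_ : W s) (a : Z₁ ⟶ T) (b : Z₁ ⟶ X),
      L.map s ≫ α = L.map a ∧ L.map s ≫ β = L.map b := by
  obtain ⟨ρa, hρa⟩ := Localization.exists_rightFraction L W α
  obtain ⟨ρb, hρb⟩ := Localization.exists_rightFraction L W β
  obtain ⟨ψ, hψ⟩ := MorphismProperty.HasRightCalculusOfFractions.exists_rightFraction
    (W := W) (MorphismProperty.LeftFraction.mk ρa.s ρb.s ρb.hs)
  dsimp at hψ
  refine ⟨ψ.X', ψ.s ≫ ρa.s, W.comp_mem _ _ ψ.hs ρa.hs, ψ.s ≫ ρa.f, ψ.f ≫ ρb.f, ?_, ?_⟩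
  · rw [L.map_comp, L.map_comp, Category.assoc, hρa,
      MorphismProperty.RightFraction.map_s_comp_map]
  · rw [hψ, L.map_comp, L.map_comp, Category.assoc, hρb,
      MorphismProperty.RightFraction.map_s_comp_map]

variable {Y X T P : C} (pT : Y ⟶ T) (pX : Y ⟶ X) (g : T ⟶ P) (f : X ⟶ P)

include W in
theorem existsUnique_lift_obj
    (hex : ∀ (Z : C) (a : Z ⟶ T) (b : Z ⟶ X), a ≫ g = b ≫ f →
      ∃ (Z' : C) (s : Z' ⟶ Z) (_ : W s) (c : Z' ⟶ Y), c ≫ pT = s ≫ a ∧ c ≫ pX = s ≫ b)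
    (hmono : ∀ (Z : C) (c₁ c₂ : Z ⟶ Y), c₁ ≫ pT = c₂ ≫ pT → c₁ ≫ pX = c₂ ≫ pX → c₁ = c₂)
    (Z₀ : C) (α : L.obj Z₀ ⟶ L.obj T) (β : L.obj Z₀ ⟶ L.obj X)
    (h : α ≫ L.map g = β ≫ L.map f) :
    ∃! γ : L.obj Z₀ ⟶ L.obj Y, γ ≫ L.map pT = α ∧ γ ≫ L.map pX = β := by
  have hinv : ∀ {A B : C} (s : A ⟶ B), W s → IsIso (L.map s) :=
    fun s hs => Localization.inverts L W s hs
  -- existence
  obtain ⟨Z₁, s₁, hs₁, a₁, b₁, ha₁, hb₁⟩ := exists_common_denominator W L α β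
  have h1 : L.map (a₁ ≫ g) = L.map (b₁ ≫ f) := by
    rw [L.map_comp, L.map_comp, ← ha₁, ← hb₁, Category.assoc, Category.assoc, h]
  obtain ⟨Z₂, t, ht, hfac⟩ := (MorphismProperty.map_eq_iff_precomp L W _ _).mp h1
  obtain ⟨Z₃, u, hu, c, hc1, hc2⟩ := hex Z₂ (t ≫ a₁) (t ≫ b₁) (by
    rw [Category.assoc, Category.assoc]; exact hfac)
  have hσ : W (u ≫ t ≫ s₁) := W.comp_mem _ _ hu (W.comp_mem _ _ ht hs₁)
  have hσiso : IsIso (L.map (u ≫ t ≫ s₁)) := hinv _ hσ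
  have hs₁iso : IsIso (L.map s₁) := hinv _ hs₁
  have hγ1 : (inv (L.map (u ≫ t ≫ s₁)) ≫ L.map c) ≫ L.map pT = α := by
    rw [Category.assoc, IsIso.inv_comp_eq, ← L.map_comp, hc1, L.map_comp, L.map_comp, ← ha₁,
      L.map_comp, L.map_comp]
    simp only [Category.assoc]
  have hγ2 : (inv (L.map (u ≫ t ≫ s₁)) ≫ L.map c) ≫ L.map pX = β := by
    rw [Category.assoc, IsIso.inv_comp_eq, ← L.map_comp, hc2, L.map_comp, L.map_comp, ← hb₁,
      L.map_comp, L.map_comp]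
    simp only [Category.assoc]
  refine ⟨inv (L.map (u ≫ t ≫ s₁)) ≫ L.map c, ⟨hγ1, hγ2⟩, ?_⟩
  · -- uniqueness
    have huniq : ∀ γ₁ γ₂ : L.obj Z₀ ⟶ L.obj Y, γ₁ ≫ L.map pT = γ₂ ≫ L.map pT →
        γ₁ ≫ L.map pX = γ₂ ≫ L.map pX → γ₁ = γ₂ := by
      intro γ₁ γ₂ hT hX
      obtain ⟨Z₁', s', hs', c₁, c₂, hc₁, hc₂⟩ := exists_common_denominator W L γ₁ γ₂
      have hs'iso : IsIso (L.map s') := hinv _ hs'
      have e1 : L.map (c₁ ≫ pT) = L.map (c₂ ≫ pT) := by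
        rw [L.map_comp, L.map_comp, ← hc₁, ← hc₂, Category.assoc, Category.assoc, hT]
      have e2 : L.map (c₁ ≫ pX) = L.map (c₂ ≫ pX) := by
        rw [L.map_comp, L.map_comp, ← hc₁, ← hc₂, Category.assoc, Category.assoc, hX]
      obtain ⟨A, t₁, ht₁, hf₁⟩ := (MorphismProperty.map_eq_iff_precomp L W _ _).mp e1
      obtain ⟨B, t₂, ht₂, hf₂⟩ := (MorphismProperty.map_eq_iff_precomp L W _ _).mp e2
      obtain ⟨ψ, hψ⟩ := MorphismProperty.HasRightCalculusOfFractions.exists_rightFraction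
        (W := W) (MorphismProperty.LeftFraction.mk t₁ t₂ ht₂)
      dsimp at hψ
      have hv : W (ψ.s ≫ t₁) := W.comp_mem _ _ ψ.hs ht₁
      have hviso : IsIso (L.map (ψ.s ≫ t₁)) := hinv _ hv
      have e3 : (ψ.s ≫ t₁) ≫ c₁ = (ψ.s ≫ t₁) ≫ c₂ := by
        apply hmono
        · simp only [Category.assoc]
          rw [hf₁]
        · rw [hψ]
          simp only [Category.assoc]
          rw [hf₂]
      have e4 : L.map c₁ = L.map c₂ := by
        rw [← cancel_epi (L.map (ψ.s ≫ t₁)), ← L.map_comp, ← L.map_comp, e3]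
      rw [← cancel_epi (L.map s'), hc₁, hc₂, e4]
    rintro γ' ⟨hγ'1, hγ'2⟩
    exact huniq _ _ (hγ'1.trans hγ1.symm) (hγ'2.trans hγ2.symm)

include W in
/-- A square which is a weak pullback up to `W`-refinement with jointly monic projections becomes a
pullback square in the localization. -/
theorem isPullback_map (hcomm : pT ≫ g = pX ≫ f)
    (hex : ∀ (Z : C) (a : Z ⟶ T) (b : Z ⟶ X), a ≫ g = b ≫ f →
      ∃ (Z' : C) (s : Z' ⟶ Z) (_ : W s) (c : Z' ⟶ Y), c ≫ pT = s ≫ a ∧ c ≫ pX = s ≫ b)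
    (hmono : ∀ (Z : C) (c₁ c₂ : Z ⟶ Y), c₁ ≫ pT = c₂ ≫ pT → c₁ ≫ pX = c₂ ≫ pX → c₁ = c₂) :
    IsPullback (L.map pT) (L.map pX) (L.map g) (L.map f) := by
  have hw : L.map pT ≫ L.map g = L.map pX ≫ L.map f := by
    rw [← L.map_comp, ← L.map_comp, hcomm]
  have := Localization.essSurj L W
  have key : ∀ (Z : D) (α : Z ⟶ L.obj T) (β : Z ⟶ L.obj X), α ≫ L.map g = β ≫ L.map f →
      ∃! γ : Z ⟶ L.obj Y, γ ≫ L.map pT = α ∧ γ ≫ L.map pX = β := by
    intro Z α β h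
    let e : L.obj (L.objPreimage Z) ≅ Z := L.objObjPreimageIso Z
    obtain ⟨γ, ⟨hγ1, hγ2⟩, hγu⟩ := existsUnique_lift_obj W L pT pX g f hex hmono (L.objPreimage Z)
      (e.hom ≫ α) (e.hom ≫ β) (by rw [Category.assoc, Category.assoc, h])
    refine ⟨e.inv ≫ γ, ⟨?_, ?_⟩, ?_⟩
    · rw [Category.assoc, hγ1, Iso.inv_hom_id_assoc]
    · rw [Category.assoc, hγ2, Iso.inv_hom_id_assoc]
    · rintro γ' ⟨h1, h2⟩
      rw [Iso.eq_inv_comp]
      apply hγu
      exact ⟨by rw [Category.assoc, h1], by rw [Category.assoc, h2]⟩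
  refine IsPullback.of_isLimit' ⟨hw⟩ (PullbackCone.IsLimit.mk hw
    (fun s => (key s.pt s.fst s.snd s.condition).choose)
    (fun s => (key s.pt s.fst s.snd s.condition).choose_spec.1.1)
    (fun s => (key s.pt s.fst s.snd s.condition).choose_spec.1.2)
    (fun s m h1 h2 => (key s.pt s.fst s.snd s.condition).choose_spec.2 m ⟨h1, h2⟩))

end Groth.Agent.Lib.LocalizationPullback68
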