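import Mathlib

/-!
# Polynomial lemmas for sections `θ_i` with unit differences

Divisibility by `∏ (X - θ_i)` is tested by evaluation at the `θ_i`; Lagrange interpolation.
-/

namespace Groth.Agent.Lib.LogConn58

open Polynomial

variable {R : Type*} [CommRing R] {r : ℕ} (θ : Fin r → R)

/-- The unit `∏_{k ≠ i} (θ_i - θ_k)`. -/
noncomputable def uu (i : Fin r) : R := ∏ k ∈ Finset.univ.erase i, (θ i - θ k)

theorem isUnit_uu (hθ : ∀ i k, i ≠ k → IsUnit (θ i - θ k)) (i : Fin r) : IsUnit (uu θ i) := by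
  unfold uu
  rw [IsUnit.prod_iff]
  intro k hk
  exact hθ i k (Finset.ne_of_mem_erase hk).symm

theorem eval_prod_eq_zero (i : Fin r) : (∏ k, (X - C (θ k))).eval (θ i) = 0 := by
  rw [eval_prod]
  exact Finset.prod_eq_zero (Finset.mem_univ i) (by simp)

/-- `Θ = (X - θ_i) * Θ_i`. -/
theorem prod_eq_mul_erase (i : Fin r) :
    (∏ k, (X - C (θ k))) = (X - C (θ i)) * ∏ k ∈ Finset.univ.erase i, (X - C (θ k)) :=
  (Finset.mul_prod_erase _ _ (Finset.mem_univ i)).symm

theorem eval_prod_erase (i : Fin r) :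
    (∏ k ∈ Finset.univ.erase i, (X - C (θ k))).eval (θ i) = uu θ i := by
  rw [eval_prod, uu]
  simp

theorem eval_derivative_prod (i : Fin r) :
    (derivative (∏ k, (X - C (θ k)))).eval (θ i) = uu θ i := by
  rw [prod_eq_mul_erase θ i, derivative_mul]
  simp [eval_prod_erase]

/-- A polynomial vanishing at all `θ_i` is divisible by `∏ (X - θ_i)`. -/
theorem prod_dvd_of_eval_eq_zero (hθ : ∀ i k, i ≠ k → IsUnit (θ i - θ k)) (p : R[X])
    (hp : ∀ i, p.eval (θ i) = 0) : (∏ i, (X - C (θ i))) ∣ p := by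
  classical
  have key : ∀ s : Finset (Fin r), (∏ i ∈ s, (X - C (θ i))) ∣ p := by
    intro s
    induction s using Finset.induction_on with
    | empty => simp
    | insert k s hk ih =>
      obtain ⟨q, hq⟩ := ih
      have h1 : (∏ i ∈ s, (θ k - θ i)) * q.eval (θ k) = 0 := by
        have := hp k
        rw [hq, eval_mul, eval_prod] at this
        simpa using this
      have hu : IsUnit (∏ i ∈ s, (θ k - θ i)) := by
        rw [IsUnit.prod_iff]
        intro i hi
        exact hθ k i (fun h => hk (h ▸ hi))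
      have h2 : q.eval (θ k) = 0 := by
        have := congrArg (fun x => (↑hu.unit⁻¹ : R) * x) h1
        simpa [← mul_assoc] using this
      obtain ⟨q', hq'⟩ := dvd_iff_isRoot.2 h2
      refine ⟨q', ?_⟩
      rw [Finset.prod_insert hk, hq, hq']
      ring
  exact key Finset.univ

/-- Lagrange interpolation at the `θ_i`. -/
theorem exists_eval_eq (hθ : ∀ i k, i ≠ k → IsUnit (θ i - θ k)) (y : Fin r → R) :
    ∃ p : R[X], ∀ i, p.eval (θ i) = y i := by
  classical
  refine ⟨∑ i, C (y i * ↑(isUnit_uu θ hθ i).unit⁻¹) *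
    ∏ k ∈ Finset.univ.erase i, (X - C (θ k)), ?_⟩
  intro l
  rw [eval_finsetSum, Finset.sum_eq_single l]
  · rw [eval_mul, eval_C, eval_prod_erase, mul_assoc, IsUnit.val_inv_mul, mul_one]
  · intro i _ hil
    rw [eval_mul, eval_prod]
    have : ∏ k ∈ Finset.univ.erase i, eval (θ l) (X - C (θ k)) = 0 :=
      Finset.prod_eq_zero (Finset.mem_erase.2 ⟨fun h => hil h.symm, Finset.mem_univ l⟩) (by simp)
    rw [this, mul_zero]
  · intro h; exact absurd (Finset.mem_univ l) h

/-- Vector version of interpolation. -/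
theorem exists_eval_eq_vec {d : ℕ} (hθ : ∀ i k, i ≠ k → IsUnit (θ i - θ k))
    (y : Fin r → Fin d → R) :
    ∃ v : Fin d → R[X], ∀ i j, (v j).eval (θ i) = y i j := by
  choose p hp using fun j : Fin d => exists_eval_eq θ hθ (fun i => y i j)
  exact ⟨p, fun i j => hp j i⟩

theorem mul_derivative_pow (Θ : R[X]) (N : ℕ) :
    Θ * derivative (Θ ^ N) = (C (N : R) * derivative Θ) * Θ ^ N := by
  cases N with
  | zero => simp
  | succ N =>
    rw [derivative_pow]
    simp only [Nat.add_sub_cancel, pow_succ]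
    ring

end Groth.Agent.Lib.LogConn58
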