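import Groth.Agent.Lib.LogConn58a

/-!
# Logarithmic connections on the trivial bundle over the affine line: residue calculus

The operator `T_N = D₀ - N Θ'` on `R[X]^d` computes `D (v / Θ^N) = T_N v / Θ^N`; modulo `Θ` it is
bijective as soon as `Res_i - N` is bijective for all `i`.
-/

namespace Groth.Agent.Lib.LogConn58

open Polynomial

section Op

variable {R : Type*} [CommRing R] {d r : ℕ} (θ : Fin r → R)
  (D₀ : (Fin d → R[X]) →+ (Fin d → R[X]))
  (hD₀ : ∀ (p : R[X]) (v : Fin d → R[X]),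
    D₀ (p • v) = ((∏ i, (X - C (θ i))) * derivative p) • v + p • D₀ v)
  (Res : Fin r → ((Fin d → R) →ₗ[R] (Fin d → R)))
  (hRes : ∀ (i : Fin r) (m : Fin d → R) (j : Fin d),
    (D₀ (fun j => C (m j)) j).eval (θ i) =
      (∏ k ∈ Finset.univ.erase i, (θ i - θ k)) * Res i m j)

/-- Evaluation of a polynomial vector at `θ_i`. -/
def evv (i : Fin r) (v : Fin d → R[X]) : Fin d → R := fun j => (v j).eval (θ i)

include hD₀ hRes in
theorem eval_D0 (v : Fin d → R[X]) (i : Fin r) (j : Fin d) :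
    (D₀ v j).eval (θ i) = uu θ i * Res i (evv θ i v) j := by
  have hv : v = (fun j => C (evv θ i v j)) +
      (X - C (θ i)) • (fun j => v j /ₘ (X - C (θ i))) := by
    funext j
    simp only [Pi.add_apply, Pi.smul_apply, smul_eq_mul, evv]
    rw [← modByMonic_X_sub_C_eq_C_eval, modByMonic_add_div]
  conv_lhs => rw [hv]
  rw [map_add, hD₀]
  simp only [Pi.add_apply, Pi.smul_apply, smul_eq_mul, eval_add, eval_mul, eval_prod_eq_zero,
    zero_mul, eval_sub, eval_X, eval_C, sub_self, add_zero]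
  rw [hRes]
  rfl

/-- The operator `T_N = D₀ - N Θ'`. -/
noncomputable def TT (N : ℕ) (v : Fin d → R[X]) : Fin d → R[X] :=
  D₀ v - (C (N : R) * derivative (∏ i, (X - C (θ i)))) • v

include hD₀ hRes in
theorem eval_TT (N : ℕ) (v : Fin d → R[X]) (i : Fin r) (j : Fin d) :
    (TT θ D₀ N v j).eval (θ i) =
      uu θ i * (Res i (evv θ i v) j - (N : R) * evv θ i v j) := by
  simp only [TT, Pi.sub_apply, Pi.smul_apply, smul_eq_mul, eval_sub, eval_mul, eval_C,
    eval_derivative_prod]
  rw [eval_D0 θ D₀ hD₀ Res hRes]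
  simp only [evv]
  ring

variable (hθ : ∀ i k, i ≠ k → IsUnit (θ i - θ k))
  (hinv : ∀ (i : Fin r) (N : ℕ), 0 < N →
    Function.Bijective (fun m : Fin d → R => Res i m - (N : R) • m))

include hD₀ hRes hθ hinv in
/-- Injectivity of `T_N` modulo `Θ`. -/
theorem dvd_of_dvd_TT (N : ℕ) (hN : 0 < N) (v : Fin d → R[X])
    (h : ∀ j, (∏ i, (X - C (θ i))) ∣ TT θ D₀ N v j) :
    ∀ j, (∏ i, (X - C (θ i))) ∣ v j := by
  have hz : ∀ i, evv θ i v = 0 := by
    intro i
    have h1 : (fun m : Fin d → R => Res i m - (N : R) • m) (evv θ i v) = 0 := by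
      funext j
      have h2 : (TT θ D₀ N v j).eval (θ i) = 0 := by
        obtain ⟨q, hq⟩ := h j
        rw [hq, eval_mul, eval_prod_eq_zero, zero_mul]
      rw [eval_TT θ D₀ hD₀ Res hRes] at h2
      have hu := isUnit_uu θ hθ i
      have := congrArg (fun x => (↑hu.unit⁻¹ : R) * x) h2
      simpa [← mul_assoc] using this
    have h0 : (fun m : Fin d → R => Res i m - (N : R) • m) 0 = 0 := by simp
    exact (hinv i N hN).1 (h1.trans h0.symm)
  intro j
  refine prod_dvd_of_eval_eq_zero θ hθ _ fun i => ?_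
  exact congrFun (hz i) j

include hD₀ hRes hθ hinv in
/-- Surjectivity of `T_N` modulo `Θ`. -/
theorem exists_TT_sub_dvd (N : ℕ) (hN : 0 < N) (v : Fin d → R[X]) :
    ∃ v' : Fin d → R[X], ∀ j, (∏ i, (X - C (θ i))) ∣ (TT θ D₀ N v' j - v j) := by
  choose m hm using fun i : Fin r =>
    (hinv i N hN).2 ((↑(isUnit_uu θ hθ i).unit⁻¹ : R) • evv θ i v)
  obtain ⟨v', hv'⟩ := exists_eval_eq_vec θ hθ m
  refine ⟨v', fun j => ?_⟩
  refine prod_dvd_of_eval_eq_zero θ hθ _ fun i => ?_
  rw [eval_sub, eval_TT θ D₀ hD₀ Res hRes]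
  have he : evv θ i v' = m i := funext fun j => hv' i j
  have h1 := congrFun (hm i) j
  simp only [Pi.sub_apply, Pi.smul_apply, smul_eq_mul] at h1
  rw [he, h1, ← mul_assoc, IsUnit.mul_val_inv, one_mul]
  simp [evv]

end Op

section Loc

variable {R : Type*} [CommRing R] {d r : ℕ} (θ : Fin r → R)
  (L : Type*) [CommRing L] [Algebra R[X] L] [IsLocalization.Away (∏ i, (X - C (θ i))) L]

/-- The vector `v / Θ^N`. -/
noncomputable def frac (N : ℕ) (v : Fin d → R[X]) : Fin d → L :=
  fun j => (IsLocalization.Away.invSelf (∏ i, (X - C (θ i))) : L) ^ N * algebraMap R[X] L (v j)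

theorem map_mul_invSelf_pow (N : ℕ) :
    algebraMap R[X] L ((∏ i, (X - C (θ i))) ^ N) *
      (IsLocalization.Away.invSelf (∏ i, (X - C (θ i))) : L) ^ N = 1 := by
  rw [map_pow, ← mul_pow, IsLocalization.Away.mul_invSelf, one_pow]

theorem frac_zero (v : Fin d → R[X]) : frac θ L 0 v = fun j => algebraMap R[X] L (v j) := by
  funext j; simp [frac]

theorem pow_smul_frac (N : ℕ) (v : Fin d → R[X]) :
    ((∏ i, (X - C (θ i))) ^ N) • frac θ L N v = fun j => algebraMap R[X] L (v j) := by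
  funext j
  simp only [Pi.smul_apply, frac, Algebra.smul_def]
  rw [← mul_assoc, map_mul_invSelf_pow, one_mul]

theorem frac_succ_smul (N : ℕ) (v : Fin d → R[X]) :
    frac θ L (N + 1) ((∏ i, (X - C (θ i))) • v) = frac θ L N v := by
  funext j
  simp only [frac, Pi.smul_apply, smul_eq_mul, map_mul, pow_succ]
  have := IsLocalization.Away.mul_invSelf (S := L) (∏ i, (X - C (θ i)))
  calc _ = (IsLocalization.Away.invSelf (∏ i, (X - C (θ i))) : L) ^ N *
        (algebraMap R[X] L (∏ i, (X - C (θ i))) *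
          IsLocalization.Away.invSelf (∏ i, (X - C (θ i)))) * algebraMap R[X] L (v j) := by ring
    _ = _ := by rw [this, mul_one]

theorem frac_add (N : ℕ) (v v' : Fin d → R[X]) :
    frac θ L N (v + v') = frac θ L N v + frac θ L N v' := by
  funext j; simp [frac, mul_add]

theorem exists_frac (w : Fin d → L) : ∃ (N : ℕ) (v : Fin d → R[X]), w = frac θ L N v := by
  choose n a h using fun j => IsLocalization.Away.surj (∏ i, (X - C (θ i))) (w j)
  refine ⟨∑ j, n j, fun j => a j * (∏ i, (X - C (θ i))) ^ ((∑ j, n j) - n j), ?_⟩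
  funext j
  have hle : n j ≤ ∑ j, n j := Finset.single_le_sum (fun _ _ => Nat.zero_le _) (Finset.mem_univ j)
  simp only [frac]
  have h1 : w j * algebraMap R[X] L (∏ i, (X - C (θ i))) ^ (∑ j, n j) =
      algebraMap R[X] L (a j * (∏ i, (X - C (θ i))) ^ ((∑ j, n j) - n j)) := by
    rw [map_mul, ← h j, map_pow, mul_assoc, ← pow_add, Nat.add_sub_cancel' hle]
  rw [← h1]
  have h2 := map_mul_invSelf_pow θ L (∑ j, n j)
  rw [map_pow] at h2
  calc w j = w j * (algebraMap R[X] L (∏ i, (X - C (θ i))) ^ (∑ j, n j) *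
        (IsLocalization.Away.invSelf (∏ i, (X - C (θ i))) : L) ^ (∑ j, n j)) := by
          rw [h2, mul_one]
    _ = _ := by ring

include θ in
theorem algebraMap_injective : Function.Injective (algebraMap R[X] L) := by
  refine IsLocalization.injective L (M := Submonoid.powers (∏ i, (X - C (θ i)))) ?_
  rw [Submonoid.powers_le]
  exact (monic_prod_of_monic _ _ fun i _ => monic_X_sub_C (θ i)).mem_nonZeroDivisors

variable (D₀ : (Fin d → R[X]) →+ (Fin d → R[X]))
  (D : (Fin d → L) →+ (Fin d → L))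
  (hD : ∀ (p : R[X]) (w : Fin d → L),
    D (p • w) = ((∏ i, (X - C (θ i))) * derivative p) • w + p • D w)
  (hDD₀ : ∀ v : Fin d → R[X],
    D (fun j => algebraMap R[X] L (v j)) = fun j => algebraMap R[X] L (D₀ v j))

include hD hDD₀ in
/-- `D (v / Θ^N) = T_N v / Θ^N`. -/
theorem D_frac (N : ℕ) (v : Fin d → R[X]) :
    D (frac θ L N v) = frac θ L N (TT θ D₀ N v) := by
  have h1 := hD ((∏ i, (X - C (θ i))) ^ N) (frac θ L N v)
  rw [pow_smul_frac, hDD₀, mul_derivative_pow, mul_smul, pow_smul_frac] at h1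
  have h2 : ((∏ i, (X - C (θ i))) ^ N) • D (frac θ L N v) =
      fun j => algebraMap R[X] L (TT θ D₀ N v j) := by
    rw [eq_sub_of_add_eq' h1.symm]
    funext j
    simp only [TT, Pi.sub_apply, Pi.smul_apply]
    rw [Algebra.smul_def, smul_eq_mul, map_sub, map_mul, map_mul, map_mul]
  funext j
  have h3 := congrFun h2 j
  simp only [Pi.smul_apply, Algebra.smul_def] at h3
  simp only [frac]
  rw [← h3, ← mul_assoc, mul_comm _ (algebraMap R[X] L _), map_mul_invSelf_pow, one_mul]

end Loc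

end Groth.Agent.Lib.LogConn58
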