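import Groth.Agent.Lib.LogConn58b

/-!
# Logarithmic connections on the trivial bundle: main theorems

* `mem_poly_of_D_mem`: `D f ∈ R[X]^d ⇒ f ∈ R[X]^d`;
* `exists_D_add_poly`: `(R[X][1/Θ])^d = D((R[X][1/Θ])^d) + R[X]^d`;
* `bijective_of_charpoly`: `Res - N` is bijective when the characteristic polynomial of `Res` has
  complex coefficients and no nonzero integer root.
-/

namespace Groth.Agent.Lib.LogConn58

open Polynomial

section Main

variable {R : Type*} [CommRing R] {d r : ℕ} (θ : Fin r → R)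
  (L : Type*) [CommRing L] [Algebra R[X] L] [IsLocalization.Away (∏ i, (X - C (θ i))) L]
  (hθ : ∀ i k, i ≠ k → IsUnit (θ i - θ k))
  (D₀ : (Fin d → R[X]) →+ (Fin d → R[X]))
  (hD₀ : ∀ (p : R[X]) (v : Fin d → R[X]),
    D₀ (p • v) = ((∏ i, (X - C (θ i))) * derivative p) • v + p • D₀ v)
  (D : (Fin d → L) →+ (Fin d → L))
  (hD : ∀ (p : R[X]) (w : Fin d → L),
    D (p • w) = ((∏ i, (X - C (θ i))) * derivative p) • w + p • D w)
  (hDD₀ : ∀ v : Fin d → R[X],
    D (fun j => algebraMap R[X] L (v j)) = fun j => algebraMap R[X] L (D₀ v j))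
  (Res : Fin r → ((Fin d → R) →ₗ[R] (Fin d → R)))
  (hRes : ∀ (i : Fin r) (m : Fin d → R) (j : Fin d),
    (D₀ (fun j => C (m j)) j).eval (θ i) =
      (∏ k ∈ Finset.univ.erase i, (θ i - θ k)) * Res i m j)
  (hinv : ∀ (i : Fin r) (N : ℕ), 0 < N →
    Function.Bijective (fun m : Fin d → R => Res i m - (N : R) • m))

include hθ hD₀ hD hDD₀ hRes hinv in
theorem mem_poly_of_D_frac (N : ℕ) : ∀ (v : Fin d → R[X]),
    (∃ v₀ : Fin d → R[X], D (frac θ L N v) = fun j => algebraMap R[X] L (v₀ j)) →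
    ∃ v₁ : Fin d → R[X], frac θ L N v = fun j => algebraMap R[X] L (v₁ j) := by
  induction N with
  | zero => intro v _; exact ⟨v, frac_zero θ L v⟩
  | succ N ih =>
    intro v hv
    obtain ⟨v₀, hv₀⟩ := hv
    have hdvd : ∀ j, (∏ i, (X - C (θ i))) ∣ TT θ D₀ (N + 1) v j := by
      intro j
      have h1 := congrFun hv₀ j
      rw [D_frac θ L D₀ D hD hDD₀] at h1
      simp only [frac] at h1
      have h2 : algebraMap R[X] L (TT θ D₀ (N + 1) v j) =
          algebraMap R[X] L ((∏ i, (X - C (θ i))) ^ (N + 1) * v₀ j) := by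
        rw [map_mul, ← h1, ← mul_assoc, map_mul_invSelf_pow, one_mul]
      have h3 := algebraMap_injective θ L h2
      rw [h3, pow_succ', mul_assoc]
      exact dvd_mul_right _ _
    have hv' := dvd_of_dvd_TT θ D₀ hD₀ Res hRes hθ hinv (N + 1) (Nat.succ_pos N) v hdvd
    choose v₁ hv₁ using hv'
    have hvv : v = (∏ i, (X - C (θ i))) • v₁ := by
      funext j; simp [hv₁ j]
    rw [hvv, frac_succ_smul] at hv₀ ⊢
    exact ih v₁ ⟨v₀, hv₀⟩

include hθ hD₀ hD hDD₀ hRes hinv in
/-- `D f ∈ R[X]^d ⇒ f ∈ R[X]^d`. -/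
theorem mem_poly_of_D_mem (f : Fin d → L)
    (hf : ∃ v : Fin d → R[X], D f = fun j => algebraMap R[X] L (v j)) :
    ∃ v : Fin d → R[X], f = fun j => algebraMap R[X] L (v j) := by
  obtain ⟨N, v, rfl⟩ := exists_frac θ L f
  exact mem_poly_of_D_frac θ L hθ D₀ hD₀ D hD hDD₀ Res hRes hinv N v hf

include hθ hD₀ hD hDD₀ hRes hinv in
theorem exists_D_add_poly_frac (N : ℕ) : ∀ (v : Fin d → R[X]),
    ∃ (w' : Fin d → L) (v₁ : Fin d → R[X]),
      frac θ L N v = D w' + fun j => algebraMap R[X] L (v₁ j) := by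
  induction N with
  | zero =>
    intro v
    exact ⟨0, v, by rw [map_zero, zero_add, frac_zero]⟩
  | succ N ih =>
    intro v
    obtain ⟨v', hv'⟩ := exists_TT_sub_dvd θ D₀ hD₀ Res hRes hθ hinv (N + 1) (Nat.succ_pos N) v
    choose v'' hv'' using hv'
    have hT : TT θ D₀ (N + 1) v' = v + (∏ i, (X - C (θ i))) • v'' := by
      funext j
      have := hv'' j
      simp only [Pi.add_apply, Pi.smul_apply, smul_eq_mul]
      rw [← this]; ring
    obtain ⟨w₁, v₁, h₁⟩ := ih v''
    have h2 : D (frac θ L (N + 1) v') = frac θ L (N + 1) v + frac θ L N v'' := by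
      rw [D_frac θ L D₀ D hD hDD₀, hT, frac_add, frac_succ_smul]
    refine ⟨frac θ L (N + 1) v' - w₁, -v₁, ?_⟩
    rw [map_sub, h2, h₁]
    funext j
    simp only [Pi.add_apply, Pi.sub_apply, Pi.neg_apply, map_neg]
    ring

include hθ hD₀ hD hDD₀ hRes hinv in
/-- `(R[X][1/Θ])^d = D((R[X][1/Θ])^d) + R[X]^d`. -/
theorem exists_D_add_poly (w : Fin d → L) :
    ∃ (w' : Fin d → L) (v : Fin d → R[X]),
      w = D w' + fun j => algebraMap R[X] L (v j) := by
  obtain ⟨N, v, rfl⟩ := exists_frac θ L w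
  exact exists_D_add_poly_frac θ L hθ D₀ hD₀ D hD hDD₀ Res hRes hinv N v

end Main

section Charpoly

variable {R : Type*} [CommRing R] [Algebra ℂ R] {d : ℕ}

theorem bijective_of_charpoly (Res : (Fin d → R) →ₗ[R] (Fin d → R)) (χ : ℂ[X])
    (h : Res.charpoly = χ.map (algebraMap ℂ R))
    (hroot : ∀ n : ℤ, n ≠ 0 → χ.eval (n : ℂ) ≠ 0) (N : ℕ) (hN : 0 < N) :
    Function.Bijective (fun m : Fin d → R => Res m - (N : R) • m) := by
  have h1 : (algebraMap R (Module.End R (Fin d → R)) (N : R) - Res).det =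
      algebraMap ℂ R (χ.eval (N : ℂ)) := by
    rw [← LinearMap.eval_charpoly, h, ← map_natCast (algebraMap ℂ R) N, eval_map, eval₂_at_apply]
  have h2 : IsUnit (algebraMap R (Module.End R (Fin d → R)) (N : R) - Res) := by
    rw [LinearMap.isUnit_iff_isUnit_det, h1]
    refine IsUnit.map _ (isUnit_iff_ne_zero.2 ?_)
    have := hroot (N : ℤ) (by exact_mod_cast hN.ne')
    simpa using this
  have h3 := (Module.End.isUnit_iff _).1 h2
  have h4 : (fun m : Fin d → R => Res m - (N : R) • m) =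
      (fun x => -x) ∘ (algebraMap R (Module.End R (Fin d → R)) (N : R) - Res) := by
    funext m
    show Res m - (N : R) • m = -((algebraMap R (Module.End R (Fin d → R)) (N : R) - Res) m)
    rw [LinearMap.sub_apply, Module.algebraMap_end_apply]
    abel
  rw [h4]
  exact (Equiv.neg _).bijective.comp h3

end Charpoly

end Groth.Agent.Lib.LogConn58
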