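import Groth.Agent.Lib.LogConnH44

set_option autoImplicit false
universe v u
open TensorProduct

namespace Groth.Agent.Lib.LogConn70

open Groth.Agent.Lib.LogConnH44

section

variable {A : Type v} {B L E : Type u} [CommRing A] [CommRing B]
    [Algebra A B] [AddCommGroup L] [Module B L]
    [AddCommGroup E] [Module B E] [Module A E] [IsScalarTower A B E]

theorem coordE_tmul {n : ℕ} (ω : Module.Basis (Fin n) B L) (p : ℕ)
    (K : Set.powersetCard (Fin n) p) (e : E) (η : ↥(⋀[B]^p L)) :
    LogConn.coordE (E := E) ω p K (e ⊗ₜ[B] η) = ((ω.exteriorPower p).coord K η) • e := by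
  simp [LogConn.coordE]

theorem coordE_tmul_ιMulti {n : ℕ} (ω : Module.Basis (Fin n) B L) (p : ℕ)
    (K : Set.powersetCard (Fin n) p) (e : E) (v : Fin p → L) :
    LogConn.coordE (E := E) ω p K (e ⊗ₜ[B] exteriorPower.ιMulti B p v) =
      (Matrix.of fun i j => ω.coord (Set.powersetCard.ofFinEmbEquiv.symm K j) (v i)).det • e := by
  rw [coordE_tmul, exteriorPower.basis_coord, exteriorPower.ιMultiDual_apply_ιMulti]

/-- basis expansion in `E ⊗ ⋀^p L` -/
theorem sum_coordE_tmul {n : ℕ} (ω : Module.Basis (Fin n) B L) (p : ℕ)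
    (x : E ⊗[B] ↥(⋀[B]^p L)) :
    x = ∑ K : Set.powersetCard (Fin n) p,
      (LogConn.coordE (E := E) ω p K x) ⊗ₜ[B] (ω.exteriorPower p K) := by
  induction x using TensorProduct.induction_on with
  | zero => simp
  | tmul e η =>
    conv_lhs => rw [← (ω.exteriorPower p).sum_repr η]
    rw [TensorProduct.tmul_sum]
    apply Finset.sum_congr rfl
    intro K _
    rw [coordE_tmul, TensorProduct.tmul_smul, TensorProduct.smul_tmul']
    rfl
  | add x y hx hy =>
    conv_lhs => rw [hx, hy]
    rw [← Finset.sum_add_distrib]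
    apply Finset.sum_congr rfl
    intro K _
    rw [map_add, TensorProduct.add_tmul]

end

section

variable {A : Type v} {B L E : Type u} [CommRing A] [CommRing B]
    [Algebra A B] [AddCommGroup L] [Module B L] [Module A L] [IsScalarTower A B L]
    [AddCommGroup E] [Module B E] [Module A E] [IsScalarTower A B E]
variable (lam : B) {n : ℕ} (t : Fin n → B) (bΩ : Module.Basis (Fin n) B (KaehlerDifferential A B))
    (hbΩ : ∀ i, bΩ i = KaehlerDifferential.D A B (t i))
    (ω : Module.Basis (Fin n) B L) (ι : KaehlerDifferential A B →ₗ[B] L)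
    (hι : ∀ i, ι (KaehlerDifferential.D A B (t i)) = t i • ω i)

omit [Module A L] [IsScalarTower A B L] in
include hbΩ hι in
theorem coord_iota (a : Fin n) (η : KaehlerDifferential A B) :
    ω.coord a (ι η) = t a * bΩ.coord a η := by
  classical
  conv_lhs => rw [← bΩ.sum_repr η]
  simp only [map_sum, map_smul, hbΩ, hι, Module.Basis.coord_apply, Module.Basis.repr_self,
    smul_eq_mul, Finsupp.single_apply]
  rw [Finset.sum_eq_single a]
  · simp [mul_comm]
  · intro b' _ hb'
    simp [hb']
  · simp

theorem prod_sort_ite {p : ℕ} (K : Set.powersetCard (Fin n) p) (I : Finset (Fin n)) :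
    (∏ j : Fin p, if Set.powersetCard.ofFinEmbEquiv.symm K j ∈ I then (1 : B)
      else t (Set.powersetCard.ofFinEmbEquiv.symm K j)) = ∏ a ∈ (K : Finset (Fin n)) \ I, t a := by
  classical
  have h1 : (∏ j : Fin p, if Set.powersetCard.ofFinEmbEquiv.symm K j ∈ I then (1 : B)
      else t (Set.powersetCard.ofFinEmbEquiv.symm K j)) =
      ∏ a ∈ (K : Finset (Fin n)), if a ∈ I then (1 : B) else t a := by
    rw [← Finset.map_orderEmbOfFin_univ K.val K.prop, Finset.prod_map]
    rfl
  rw [h1, Finset.sdiff_eq_filter, Finset.prod_filter]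
  apply Finset.prod_congr rfl
  intro a _
  by_cases ha : a ∈ I <;> simp [ha]

variable (nabla : E →ₗ[A] E ⊗[B] L)
    (hc : Conn.IsLamConn (ι.compDer (KaehlerDifferential.D A B)) lam nabla)

include hbΩ hι hc in
theorem gen_mem_layer (p : ℕ) (I : Finset (Fin n)) (hI : I.card ≤ p) (e : E) (v : Fin p → L)
    (hv1 : ∀ (k : Fin p) (hk : k.val < I.card), v k = ω (I.orderEmbOfFin rfl ⟨k.val, hk⟩))
    (hv2 : ∀ k : Fin p, I.card ≤ k.val → v k ∈ LinearMap.range ι) :
    LogConn.compProd nabla ω I e ⊗ₜ[B] exteriorPower.ιMulti B p v ∈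
      LogConn.layer nabla ω t p := by
  classical
  unfold LogConn.layer
  rw [Submodule.mem_iInf]
  intro K
  rw [Submodule.mem_comap, LinearMap.restrictScalars_apply, coordE_tmul_ιMulti]
  set Ks := Set.powersetCard.ofFinEmbEquiv.symm K with hKs
  have hKsmem : ∀ j, Ks j ∈ (K : Finset (Fin n)) := by
    intro j
    exact Set.powersetCard.mem_coe_iff.2
      ((Set.powersetCard.mem_range_ofFinEmbEquiv_symm_iff_mem K _).1 ⟨j, rfl⟩)
  by_cases hIK : I ⊆ (K : Finset (Fin n))
  · -- column scaling
    have hw : ∀ k : Fin p, ∃ η : KaehlerDifferential A B, I.card ≤ k.val → v k = ι η := by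
      intro k
      by_cases hk : I.card ≤ k.val
      · obtain ⟨η, hη⟩ := hv2 k hk
        exact ⟨η, fun _ => hη.symm⟩
      · exact ⟨0, fun h => absurd h hk⟩
    choose w hw using hw
    set N' : Matrix (Fin p) (Fin p) B := Matrix.of fun i j =>
      if Ks j ∈ I then ω.coord (Ks j) (v i) else
        (if I.card ≤ i.val then bΩ.coord (Ks j) (w i) else 0) with hN'
    set u : Fin p → B := fun j => if Ks j ∈ I then 1 else t (Ks j) with hu
    have hN : (Matrix.of fun i j => ω.coord (Ks j) (v i)) = Matrix.of fun i j => u j * N' i j := by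
      ext i j
      simp only [Matrix.of_apply, hu, hN']
      by_cases hj : Ks j ∈ I
      · simp [hj]
      · simp only [hj, if_false]
        by_cases hi : I.card ≤ i.val
        · rw [if_pos hi, hw i hi, coord_iota t bΩ hbΩ ω ι hι]
        · rw [if_neg hi, mul_zero, hv1 i (not_le.1 hi), Module.Basis.coord_apply,
            Module.Basis.repr_self, Finsupp.single_apply, if_neg]
          intro h
          exact hj (h ▸ Finset.orderEmbOfFin_mem I rfl _)
    rw [hN, Matrix.det_mul_row, prod_sort_ite t K I, mul_comm, mul_smul]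
    exact smul_mem_piece lam t bΩ hbΩ ω ι hι nabla hc _ _ (mem_piece_of_subset nabla ω t hIK e)
  · -- a zero row
    obtain ⟨i0, hi0I, hi0K⟩ := Finset.not_subset.1 hIK
    have : i0 ∈ Set.range (I.orderEmbOfFin rfl) := by
      rw [Finset.range_orderEmbOfFin]; exact hi0I
    obtain ⟨k, hk⟩ := this
    have hkp : k.val < p := lt_of_lt_of_le k.2 hI
    have hdet : (Matrix.of fun i j => ω.coord (Ks j) (v i)).det = 0 := by
      apply Matrix.det_eq_zero_of_row_eq_zero ⟨k.val, hkp⟩
      intro j
      simp only [Matrix.of_apply]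
      rw [hv1 ⟨k.val, hkp⟩ k.2, Module.Basis.coord_apply, Module.Basis.repr_self,
        Finsupp.single_apply, if_neg]
      intro h
      apply hi0K
      rw [← hk, h]
      exact hKsmem j
    rw [hdet, zero_smul]
    exact Submodule.zero_mem _

end

section

variable {A : Type v} {B L E : Type u} [CommRing A] [CommRing B]
    [Algebra A B] [AddCommGroup L] [Module B L] [Module A L] [IsScalarTower A B L]
    [AddCommGroup E] [Module B E] [Module A E] [IsScalarTower A B E]
variable {n : ℕ} (t : Fin n → B)
    (ω : Module.Basis (Fin n) B L) (ι : KaehlerDifferential A B →ₗ[B] L)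
    (hι : ∀ i, ι (KaehlerDifferential.D A B (t i)) = t i • ω i)
variable (nabla : E →ₗ[A] E ⊗[B] L)

/-- the concatenation of the sorted enumerations of `J` and of `K \ J` -/
noncomputable def gfun {p : ℕ} (K : Set.powersetCard (Fin n) p) (J : Finset (Fin n))
    (hJ : J ⊆ (K : Finset (Fin n))) : Fin p → Fin n := fun k =>
  if h : k.val < J.card then J.orderEmbOfFin rfl ⟨k.val, h⟩
  else ((K : Finset (Fin n)) \ J).orderEmbOfFin
    (by rw [Finset.card_sdiff_of_subset hJ, K.prop]) ⟨k.val - J.card, by
      have := k.2; omega⟩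

theorem gfun_mem_iff {p : ℕ} (K : Set.powersetCard (Fin n) p) (J : Finset (Fin n))
    (hJ : J ⊆ (K : Finset (Fin n))) (k : Fin p) : gfun K J hJ k ∈ J ↔ k.val < J.card := by
  unfold gfun
  constructor
  · intro h
    by_contra hk
    rw [dif_neg hk] at h
    have := Finset.orderEmbOfFin_mem ((K : Finset (Fin n)) \ J)
      (by rw [Finset.card_sdiff_of_subset hJ, K.prop]) ⟨k.val - J.card, by
        have := k.2; omega⟩
    exact (Finset.mem_sdiff.1 this).2 h
  · intro hk
    rw [dif_pos hk]
    exact Finset.orderEmbOfFin_mem J rfl _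

theorem gfun_mem {p : ℕ} (K : Set.powersetCard (Fin n) p) (J : Finset (Fin n))
    (hJ : J ⊆ (K : Finset (Fin n))) (k : Fin p) : gfun K J hJ k ∈ (K : Finset (Fin n)) := by
  by_cases hk : k.val < J.card
  · exact hJ ((gfun_mem_iff K J hJ k).2 hk)
  · unfold gfun
    rw [dif_neg hk]
    exact (Finset.mem_sdiff.1 (Finset.orderEmbOfFin_mem _ _ _)).1

theorem gfun_injective {p : ℕ} (K : Set.powersetCard (Fin n) p) (J : Finset (Fin n))
    (hJ : J ⊆ (K : Finset (Fin n))) : Function.Injective (gfun K J hJ) := by
  intro k k' h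
  by_cases hk : k.val < J.card
  · have hk' : k'.val < J.card := by
      rw [← gfun_mem_iff K J hJ, ← h, gfun_mem_iff]; exact hk
    unfold gfun at h
    rw [dif_pos hk, dif_pos hk'] at h
    have := (J.orderEmbOfFin rfl).injective h
    exact Fin.ext (by simpa using congrArg Fin.val this)
  · have hk' : ¬ k'.val < J.card := by
      rw [← gfun_mem_iff K J hJ, ← h, gfun_mem_iff]; exact hk
    unfold gfun at h
    rw [dif_neg hk, dif_neg hk'] at h
    have := (((K : Finset (Fin n)) \ J).orderEmbOfFin _).injective h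
    have h2 : k.val - J.card = k'.val - J.card := by simpa using congrArg Fin.val this
    exact Fin.ext (by omega)

/-- the permutation sorting `gfun` -/
theorem exists_perm_gfun {p : ℕ} (K : Set.powersetCard (Fin n) p) (J : Finset (Fin n))
    (hJ : J ⊆ (K : Finset (Fin n))) :
    ∃ σ : Equiv.Perm (Fin p), ∀ k, Set.powersetCard.ofFinEmbEquiv.symm K (σ k) = gfun K J hJ k := by
  let σ₀ : Fin p → Fin p := fun k =>
    (K.val.orderIsoOfFin K.prop).symm ⟨gfun K J hJ k, gfun_mem K J hJ k⟩
  have hσ₀ : ∀ k, Set.powersetCard.ofFinEmbEquiv.symm K (σ₀ k) = gfun K J hJ k := by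
    intro k
    rw [Set.powersetCard.ofFinEmbEquiv_symm_apply, ← Finset.coe_orderIsoOfFin_apply]
    simp [σ₀]
  have hinj : Function.Injective σ₀ := by
    intro k k' h
    apply gfun_injective K J hJ
    rw [← hσ₀, ← hσ₀, h]
  exact ⟨Equiv.ofBijective σ₀ (Finite.injective_iff_bijective.1 hinj), hσ₀⟩

end

section

variable {A : Type v} {B L E : Type u} [CommRing A] [CommRing B]
    [Algebra A B] [AddCommGroup L] [Module B L] [Module A L] [IsScalarTower A B L]
    [AddCommGroup E] [Module B E] [Module A E] [IsScalarTower A B E]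
variable (lam : B) {n : ℕ} (t : Fin n → B) (bΩ : Module.Basis (Fin n) B (KaehlerDifferential A B))
    (hbΩ : ∀ i, bΩ i = KaehlerDifferential.D A B (t i))
    (ω : Module.Basis (Fin n) B L) (ι : KaehlerDifferential A B →ₗ[B] L)
    (hι : ∀ i, ι (KaehlerDifferential.D A B (t i)) = t i • ω i)
variable (nabla : E →ₗ[A] E ⊗[B] L)

omit [Module A L] [IsScalarTower A B L] in
include hι in
theorem tmul_basis_mem_span (p : ℕ) (K : Set.powersetCard (Fin n) p) (J : Finset (Fin n))
    (hJ : J ⊆ (K : Finset (Fin n))) (e : E) :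
    ((∏ i ∈ (K : Finset (Fin n)) \ J, t i) • LogConn.compProd nabla ω J e) ⊗ₜ[B]
        (ω.exteriorPower p K) ∈ Submodule.span B (LogConn.gens nabla ω ι p) := by
  classical
  set g := gfun K J hJ with hg
  obtain ⟨σ, hσ⟩ := exists_perm_gfun K J hJ
  set Ks := Set.powersetCard.ofFinEmbEquiv.symm K with hKs
  let c : Fin p → B := fun k => if g k ∈ J then 1 else t (g k)
  let v : Fin p → L := fun k =>
    if g k ∈ J then ω (g k) else ι (KaehlerDifferential.D A B (t (g k)))
  have hvc : v = fun k => c k • ω (g k) := by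
    funext k
    simp only [v, c]
    by_cases h : g k ∈ J
    · simp [h]
    · simp [h, hι]
  have hlp : J.card ≤ p := by
    have := Finset.card_le_card hJ
    rwa [K.prop] at this
  -- the generator
  have hgen : LogConn.compProd nabla ω J e ⊗ₜ[B] exteriorPower.ιMulti B p v ∈
      LogConn.gens nabla ω ι p := by
    refine ⟨J, hlp, e, v, ?_, ?_, rfl⟩
    · intro k hk
      have h1 : g k ∈ J := (gfun_mem_iff K J hJ k).2 hk
      simp only [v, h1, if_true]
      congr 1
      simp only [hg, gfun, dif_pos hk]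
    · intro k hk
      have h1 : ¬ g k ∈ J := fun h => absurd ((gfun_mem_iff K J hJ k).1 h) (not_lt.2 hk)
      simp only [v, h1, if_false]
      exact LinearMap.mem_range_self _ _
  -- compute ιMulti v
  have h1 : exteriorPower.ιMulti B p v = (∏ k, c k) • exteriorPower.ιMulti B p (fun k => ω (g k)) := by
    rw [hvc]
    exact (exteriorPower.ιMulti B p).map_smul_univ c (fun k => ω (g k))
  have h2 : (fun k => ω (g k)) = (fun j => ω (Ks j)) ∘ σ := by
    funext k
    simp only [Function.comp_apply, hσ k]
    rfl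
  have h3 : exteriorPower.ιMulti B p (fun k => ω (g k)) =
      Equiv.Perm.sign σ • (ω.exteriorPower p K) := by
    rw [h2, AlternatingMap.map_perm, exteriorPower.basis_apply]
    rfl
  have h4 : (∏ k, c k) = ∏ i ∈ (K : Finset (Fin n)) \ J, t i := by
    rw [← prod_sort_ite t K J]
    refine Eq.trans ?_ (Equiv.prod_comp σ (fun j => if Ks j ∈ J then (1 : B) else t (Ks j)))
    apply Finset.prod_congr rfl
    intro k _
    simp only [c]
    rw [hσ k]
  have h5 : LogConn.compProd nabla ω J e ⊗ₜ[B] exteriorPower.ιMulti B p v =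
      Equiv.Perm.sign σ • (((∏ i ∈ (K : Finset (Fin n)) \ J, t i) • LogConn.compProd nabla ω J e)
        ⊗ₜ[B] (ω.exteriorPower p K)) := by
    rw [h1, h3, h4]
    rcases Int.units_eq_one_or (Equiv.Perm.sign σ) with h | h
    · rw [h, one_smul, one_smul, TensorProduct.tmul_smul, TensorProduct.smul_tmul']
    · rw [h, Units.neg_smul, Units.neg_smul, one_smul, one_smul, smul_neg, TensorProduct.tmul_neg,
        TensorProduct.tmul_smul, TensorProduct.smul_tmul']
  have h6 := Submodule.subset_span (R := B) hgen
  rw [h5] at h6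
  rcases Int.units_eq_one_or (Equiv.Perm.sign σ) with h | h
  · rwa [h, one_smul] at h6
  · rw [h, Units.neg_smul, one_smul] at h6
    exact (Submodule.neg_mem_iff _).1 h6

variable (hc : Conn.IsLamConn (ι.compDer (KaehlerDifferential.D A B)) lam nabla)

include hbΩ hι hc in
theorem span_gens_eq_layer (p : ℕ) :
    (Submodule.span B (LogConn.gens nabla ω ι p)).restrictScalars A =
      LogConn.layer nabla ω t p := by
  apply le_antisymm
  · -- the layer as a B-submodule
    let layerB : Submodule B (E ⊗[B] ↥(⋀[B]^p L)) :=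
      { carrier := (LogConn.layer nabla ω t p : Set _)
        add_mem' := fun ha hb => Submodule.add_mem _ ha hb
        zero_mem' := Submodule.zero_mem _
        smul_mem' := by
          intro b x hx
          have hx' : x ∈ LogConn.layer nabla ω t p := hx
          show b • x ∈ LogConn.layer nabla ω t p
          unfold LogConn.layer at hx' ⊢
          rw [Submodule.mem_iInf] at hx' ⊢
          intro K
          have := hx' K
          rw [Submodule.mem_comap, LinearMap.restrictScalars_apply] at this ⊢
          rw [map_smul]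
          exact smul_mem_piece lam t bΩ hbΩ ω ι hι nabla hc _ _ this }
    have h1 : Submodule.span B (LogConn.gens nabla ω ι p) ≤ layerB := by
      rw [Submodule.span_le]
      rintro _ ⟨I, hI, e, v, hv1, hv2, rfl⟩
      exact gen_mem_layer lam t bΩ hbΩ ω ι hι nabla hc p I hI e v hv1 hv2
    intro x hx
    exact h1 hx
  · intro x hx
    rw [Submodule.restrictScalars_mem, sum_coordE_tmul ω p x]
    refine Submodule.sum_mem _ fun K _ => ?_
    have hxK : LogConn.coordE (E := E) ω p K x ∈ LogConn.piece nabla ω t (K : Finset (Fin n)) := by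
      unfold LogConn.layer at hx
      rw [Submodule.mem_iInf] at hx
      exact hx K
    -- A-linear map y ↦ y ⊗ ω_K
    let φ : E →ₗ[A] E ⊗[B] ↥(⋀[B]^p L) :=
      ((TensorProduct.mk B E ↥(⋀[B]^p L)).flip (ω.exteriorPower p K)).restrictScalars A
    have hle : LogConn.piece nabla ω t (K : Finset (Fin n)) ≤
        ((Submodule.span B (LogConn.gens nabla ω ι p)).restrictScalars A).comap φ := by
      refine piece_le_of_forall nabla ω t _ _ fun J hJ e => ?_
      rw [Submodule.mem_comap, Submodule.restrictScalars_mem]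
      exact tmul_basis_mem_span t ω ι hι nabla p K J hJ e
    exact hle hxK

end

end Groth.Agent.Lib.LogConn70
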