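import Groth.Agent.Lib.LogConn70
import Groth.Prelude.Def_LogDiff

set_option autoImplicit false
universe v u
open TensorProduct

namespace Groth.Agent.Lib.LogConn70b

open Groth.Agent.Lib.LogConnH44 Groth.Agent.Lib.LogConn70

section

variable {A : Type v} {B L E : Type u} [CommRing A] [CommRing B]
    [Algebra A B] [AddCommGroup L] [Module B L] [Module A L] [IsScalarTower A B L]
    [AddCommGroup E] [Module B E] [Module A E] [IsScalarTower A B E]

/-- basis expansion in `E ⊗ L` -/
theorem sum_comp_tmul {n : ℕ} (ω : Module.Basis (Fin n) B L) (z : E ⊗[B] L) :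
    z = ∑ a : Fin n,
      (TensorProduct.rid B E (TensorProduct.map LinearMap.id (ω.coord a) z)) ⊗ₜ[B] ω a := by
  induction z using TensorProduct.induction_on with
  | zero => simp
  | tmul e l =>
    conv_lhs => rw [← ω.sum_repr l]
    rw [TensorProduct.tmul_sum]
    apply Finset.sum_congr rfl
    intro a _
    simp [TensorProduct.tmul_smul, TensorProduct.smul_tmul']
  | add x y hx hy =>
    conv_lhs => rw [hx, hy]
    rw [← Finset.sum_add_distrib]
    apply Finset.sum_congr rfl
    intro a _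
    rw [map_add, map_add, TensorProduct.add_tmul]

omit [Module A L] [IsScalarTower A B L] in
theorem nabla_eq_sum {n : ℕ} (ω : Module.Basis (Fin n) B L) (nabla : E →ₗ[A] E ⊗[B] L) (y : E) :
    nabla y = ∑ a : Fin n, LogConn.comp nabla ω a y ⊗ₜ[B] ω a := by
  conv_lhs => rw [sum_comp_tmul ω (nabla y)]
  rfl

theorem wedge_oneEquiv_symm_ιMulti (p : ℕ) (α : L) (v : Fin p → L) :
    Conn.wedge p ((exteriorPower.oneEquiv B L).symm α) (exteriorPower.ιMulti B p v) =
      exteriorPower.ιMulti B (p + 1) (Fin.cons α v) := by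
  have h1 : (exteriorPower.oneEquiv B L).symm α = exteriorPower.ιMulti B 1 (fun _ => α) := by
    rw [LinearEquiv.symm_apply_eq, exteriorPower.oneEquiv_ιMulti]
  apply Subtype.ext
  rw [Conn.wedge_apply_coe, h1, exteriorPower.ιMulti_apply_coe, exteriorPower.ιMulti_apply_coe,
    exteriorPower.ιMulti_apply_coe, ExteriorAlgebra.ιMulti_succ_apply,
    ExteriorAlgebra.ιMulti_succ_apply (v := Fin.cons α v)]
  simp [Matrix.vecTail]

end

section

variable {A : Type v} {B L E : Type u} [CommRing A] [CommRing B]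
    [Algebra A B] [AddCommGroup L] [Module B L] [Module A L] [IsScalarTower A B L]
    [AddCommGroup E] [Module B E] [Module A E] [IsScalarTower A B E]
variable (lam : B) {n : ℕ}
    (ω : Module.Basis (Fin n) B L) (ι : KaehlerDifferential A B →ₗ[B] L)
    (nabla : E →ₗ[A] E ⊗[B] L)
    (d : ∀ p : ℕ, ↥(⋀[B]^p L) →ₗ[A] ↥(⋀[B]^(p + 1) L))
    (hd : LogDiff.IsLogRule (KaehlerDifferential.D A B) ι (⇑ω) d)
    (nablas : ∀ p : ℕ, E ⊗[B] ↥(⋀[B]^p L) →ₗ[A] E ⊗[B] ↥(⋀[B]^(p + 1) L))
    (hint : Conn.IsIntegrable nabla (fun p => lam • d p) nablas)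

include hd in
theorem d_basis_eq_zero (p : ℕ) (K : Set.powersetCard (Fin n) p) :
    d p (ω.exteriorPower p K) = 0 := by
  rw [exteriorPower.basis_apply, exteriorPower.ιMulti_family]
  have h := hd p 1 (ω ∘ (Set.powersetCard.ofFinEmbEquiv.symm K))
    (fun k => Or.inr ⟨Set.powersetCard.ofFinEmbEquiv.symm K k, rfl⟩)
  rw [one_smul] at h
  rw [h]
  apply (exteriorPower.ιMulti B (p + 1)).map_coord_zero 0
  simp

include hd hint in
theorem nablas_tmul_basis (p : ℕ) (K : Set.powersetCard (Fin n) p) (y : E) :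
    nablas p (y ⊗ₜ[B] ω.exteriorPower p K) =
      ∑ a : Fin n, LogConn.comp nabla ω a y ⊗ₜ[B]
        exteriorPower.ιMulti B (p + 1)
          (Fin.cons (ω a) (ω ∘ (Set.powersetCard.ofFinEmbEquiv.symm K))) := by
  rw [hint.1 p y _]
  simp only [LinearMap.smul_apply]
  rw [d_basis_eq_zero ω ι d hd, smul_zero, TensorProduct.tmul_zero, add_zero,
    nabla_eq_sum ω nabla y, map_sum, map_sum, LinearMap.sum_apply]
  apply Finset.sum_congr rfl
  intro a _
  rw [Conn.toOne_tmul, Conn.twedge_tmul, exteriorPower.basis_apply, exteriorPower.ιMulti_family,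
    wedge_oneEquiv_symm_ιMulti]

end

section

variable {B L : Type u} [CommRing B] [AddCommGroup L] [Module B L] {n : ℕ}
    (ω : Module.Basis (Fin n) B L)

theorem cons_comp (p : ℕ) (a : Fin n) (f : Fin p → Fin n) :
    (Fin.cons (ω a) (ω ∘ f) : Fin (p + 1) → L) = ω ∘ (Fin.cons a f : Fin (p + 1) → Fin n) := by
  funext i
  refine Fin.cases ?_ (fun j => ?_) i <;> simp

theorem coord_cons_ne_zero (p : ℕ) (K : Set.powersetCard (Fin n) p)
    (K' : Set.powersetCard (Fin n) (p + 1)) (a : Fin n)
    (h : (ω.exteriorPower (p + 1)).coord K' (exteriorPower.ιMulti B (p + 1)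
      (Fin.cons (ω a) (ω ∘ (Set.powersetCard.ofFinEmbEquiv.symm K)))) ≠ 0) :
    a ∉ (K : Finset (Fin n)) ∧ (K' : Finset (Fin n)) = insert a (K : Finset (Fin n)) := by
  classical
  set Ks := Set.powersetCard.ofFinEmbEquiv.symm K with hKs
  set c : Fin (p + 1) → Fin n := Fin.cons a Ks with hc
  rw [cons_comp] at h
  have hKsmem : ∀ j, Ks j ∈ (K : Finset (Fin n)) := fun j =>
    Set.powersetCard.mem_coe_iff.2
      ((Set.powersetCard.mem_range_ofFinEmbEquiv_symm_iff_mem K _).1 ⟨j, rfl⟩)
  have hKssurj : ∀ x ∈ (K : Finset (Fin n)), ∃ j, Ks j = x := fun x hx =>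
    (Set.powersetCard.mem_range_ofFinEmbEquiv_symm_iff_mem K x).2 (Set.powersetCard.mem_coe_iff.1 hx)
  have haK : a ∉ (K : Finset (Fin n)) := by
    intro haK
    obtain ⟨j, hj⟩ := hKssurj a haK
    apply h
    have : exteriorPower.ιMulti B (p + 1) (ω ∘ c) = 0 := by
      apply (exteriorPower.ιMulti B (p + 1)).map_eq_zero_of_eq (ω ∘ c) (i := 0) (j := j.succ)
      · simp [hc, hj]
      · exact (Fin.succ_ne_zero j).symm
    rw [this, map_zero]
  refine ⟨haK, ?_⟩
  by_contra hne
  apply h
  -- some element of insert a K is not in K'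
  have hex : ∃ x ∈ insert a (K : Finset (Fin n)), x ∉ (K' : Finset (Fin n)) := by
    by_contra hcon
    push Not at hcon
    have hsub : insert a (K : Finset (Fin n)) ⊆ (K' : Finset (Fin n)) := hcon
    have hcard : (K' : Finset (Fin n)).card ≤ (insert a (K : Finset (Fin n))).card := by
      rw [Finset.card_insert_of_notMem haK, K.prop, K'.prop]
    exact hne (Finset.eq_of_subset_of_card_le hsub hcard).symm
  obtain ⟨x, hx, hxK'⟩ := hex
  have hxc : ∃ i, c i = x := by
    rcases Finset.mem_insert.1 hx with rfl | hx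
    · exact ⟨0, by simp [hc]⟩
    · obtain ⟨j, hj⟩ := hKssurj x hx
      exact ⟨j.succ, by simp [hc, hj]⟩
  obtain ⟨i, hi⟩ := hxc
  rw [exteriorPower.basis_coord, exteriorPower.ιMultiDual_apply_ιMulti]
  apply Matrix.det_eq_zero_of_row_eq_zero i
  intro j
  simp only [Matrix.of_apply, Function.comp_apply, hi]
  rw [Module.Basis.coord_apply, Module.Basis.repr_self, Finsupp.single_apply, if_neg]
  intro hx'
  apply hxK'
  have hx'' : x = _ := hi.symm.trans hx'
  rw [hx'']
  exact Set.powersetCard.mem_coe_iff.2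
    ((Set.powersetCard.mem_range_ofFinEmbEquiv_symm_iff_mem K' _).1 ⟨j, rfl⟩)

end

section

variable {A : Type v} {B L E : Type u} [CommRing A] [CommRing B]
    [Algebra A B] [AddCommGroup L] [Module B L]
    [AddCommGroup E] [Module B E] [Module A E] [IsScalarTower A B E]

theorem compProd_eq_prod (nabla : E →ₗ[A] E ⊗[B] L) {n : ℕ} (ω : Module.Basis (Fin n) B L)
    (I : Finset (Fin n)) :
    LogConn.compProd nabla ω I =
      (((I.sort (· ≤ ·)).map (fun i => (LogConn.comp nabla ω i : Module.End A E))).prod :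
        Module.End A E) := by
  unfold LogConn.compProd
  induction (I.sort (· ≤ ·)) with
  | nil => rfl
  | cons a l ih =>
    rw [List.foldr_cons, List.map_cons, List.prod_cons, ih]
    rfl

theorem compProd_insert_comm (nabla : E →ₗ[A] E ⊗[B] L) {n : ℕ} (ω : Module.Basis (Fin n) B L)
    (hcomm : ∀ i j : Fin n, Commute (LogConn.comp nabla ω i : Module.End A E)
      (LogConn.comp nabla ω j))
    (a : Fin n) (K : Finset (Fin n)) (ha : a ∉ K) :
    LogConn.compProd nabla ω (insert a K) =
      LogConn.comp nabla ω a ∘ₗ LogConn.compProd nabla ω K := by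
  rw [compProd_eq_prod, compProd_eq_prod]
  have hperm : List.Perm ((insert a K).sort (· ≤ ·)) (a :: K.sort (· ≤ ·)) := by
    rw [← Multiset.coe_eq_coe, Finset.sort_eq, ← Multiset.cons_coe, Finset.sort_eq,
      Finset.insert_val_of_notMem ha]
  have h1 := (hperm.map (fun i => (LogConn.comp nabla ω i : Module.End A E))).prod_eq' ?_
  · rw [h1, List.map_cons, List.prod_cons]
    rfl
  · apply List.pairwise_of_forall_mem_list
    intro x hx y hy
    obtain ⟨i, _, rfl⟩ := List.mem_map.1 hx
    obtain ⟨j, _, rfl⟩ := List.mem_map.1 hy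
    exact hcomm i j

end

section

variable {A : Type v} {B L E : Type u} [CommRing A] [CommRing B]
    [Algebra A B] [AddCommGroup L] [Module B L] [Module A L] [IsScalarTower A B L]
    [AddCommGroup E] [Module B E] [Module A E] [IsScalarTower A B E]
variable (lam : B) {n : ℕ} (t : Fin n → B)
    (ω : Module.Basis (Fin n) B L) (ι : KaehlerDifferential A B →ₗ[B] L)
    (hι : ∀ i, ι (KaehlerDifferential.D A B (t i)) = t i • ω i)
    (nabla : E →ₗ[A] E ⊗[B] L)
    (hc : Conn.IsLamConn (ι.compDer (KaehlerDifferential.D A B)) lam nabla)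
    (d : ∀ p : ℕ, ↥(⋀[B]^p L) →ₗ[A] ↥(⋀[B]^(p + 1) L))
    (hd : LogDiff.IsLogRule (KaehlerDifferential.D A B) ι (⇑ω) d)
    (nablas : ∀ p : ℕ, E ⊗[B] ↥(⋀[B]^p L) →ₗ[A] E ⊗[B] ↥(⋀[B]^(p + 1) L))
    (hint : Conn.IsIntegrable nabla (fun p => lam • d p) nablas)

include hd in
theorem d_ιMulti_basis_eq_zero (p : ℕ) (f : Fin p → Fin n) :
    d p (exteriorPower.ιMulti B p (ω ∘ f)) = 0 := by
  have h := hd p 1 (ω ∘ f) (fun k => Or.inr ⟨f k, rfl⟩)
  rw [one_smul] at h
  rw [h]
  apply (exteriorPower.ιMulti B (p + 1)).map_coord_zero 0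
  simp

include hd hint in
theorem nablas_tmul_ιMulti_basis (p : ℕ) (f : Fin p → Fin n) (y : E) :
    nablas p (y ⊗ₜ[B] exteriorPower.ιMulti B p (ω ∘ f)) =
      ∑ a : Fin n, LogConn.comp nabla ω a y ⊗ₜ[B]
        exteriorPower.ιMulti B (p + 1) (ω ∘ (Fin.cons a f : Fin (p + 1) → Fin n)) := by
  rw [hint.1 p y _]
  simp only [LinearMap.smul_apply]
  rw [d_ιMulti_basis_eq_zero ω ι d hd, smul_zero, TensorProduct.tmul_zero, add_zero,
    nabla_eq_sum ω nabla y, map_sum, map_sum, LinearMap.sum_apply]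
  apply Finset.sum_congr rfl
  intro a _
  rw [Conn.toOne_tmul, Conn.twedge_tmul, wedge_oneEquiv_symm_ιMulti, cons_comp]

include hd hint in
theorem comp_commute (x y : Fin n) :
    Commute (LogConn.comp nabla ω x : Module.End A E) (LogConn.comp nabla ω y) := by
  classical
  rcases eq_or_ne x y with rfl | hxy
  · exact Commute.refl _
  -- it suffices to prove the commutation for the sorted pair
  let K' : Set.powersetCard (Fin n) (1 + 1) := ⟨{x, y}, Finset.card_pair hxy⟩
  set Ks := Set.powersetCard.ofFinEmbEquiv.symm K' with hKs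
  set x' := Ks 0 with hx'
  set y' := Ks 1 with hy'
  have hmem : ∀ j, Ks j = x ∨ Ks j = y := by
    intro j
    have := (Set.powersetCard.mem_range_ofFinEmbEquiv_symm_iff_mem K' (Ks j)).1 ⟨j, rfl⟩
    have h' : Ks j ∈ ({x, y} : Finset (Fin n)) := this
    simpa using h'
  have hne : x' ≠ y' := by
    intro h
    have := Ks.injective h
    exact absurd this (by decide)
  suffices hkey : ∀ m : E, LogConn.comp nabla ω x' (LogConn.comp nabla ω y' m) =
      LogConn.comp nabla ω y' (LogConn.comp nabla ω x' m) by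
    have hcomm' : Commute (LogConn.comp nabla ω x' : Module.End A E) (LogConn.comp nabla ω y') :=
      LinearMap.ext hkey
    rcases hmem 0 with h0 | h0 <;> rcases hmem 1 with h1 | h1
    · exact absurd (h0.trans h1.symm) hne
    · rw [← h0, ← h1]; exact hcomm'
    · rw [← h0, ← h1]; exact hcomm'.symm
    · exact absurd (h0.trans h1.symm) hne
  intro m
  have h0 := hint.2 m
  rw [nabla_eq_sum ω nabla m, map_sum, map_sum] at h0
  have h1 : ∀ b : Fin n, nablas 1 (Conn.toOne (LogConn.comp nabla ω b m ⊗ₜ[B] ω b)) =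
      ∑ a : Fin n, LogConn.comp nabla ω a (LogConn.comp nabla ω b m) ⊗ₜ[B]
        exteriorPower.ιMulti B (1 + 1) (ω ∘ (Fin.cons a (fun _ => b) : Fin (1 + 1) → Fin n)) := by
    intro b
    rw [Conn.toOne_tmul]
    have : (exteriorPower.oneEquiv B L).symm (ω b) =
        exteriorPower.ιMulti B 1 (ω ∘ (fun _ : Fin 1 => b)) := by
      rw [LinearEquiv.symm_apply_eq, exteriorPower.oneEquiv_ιMulti]; rfl
    rw [this]
    exact nablas_tmul_ιMulti_basis lam ω ι nabla d hd nablas hint 1 (fun _ => b) _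
  simp only [h1] at h0
  have h2 := congrArg (LogConn.coordE (E := E) ω (1 + 1) K') h0
  rw [map_zero, map_sum] at h2
  simp only [map_sum, coordE_tmul_ιMulti] at h2
  have h3 : ∀ (a b : Fin n),
      (Matrix.of fun i j => ω.coord (Set.powersetCard.ofFinEmbEquiv.symm K' j)
        ((ω ∘ (Fin.cons a (fun _ => b) : Fin (1 + 1) → Fin n)) i)).det =
      (if a = x' then 1 else 0) * (if b = y' then 1 else 0) -
        (if a = y' then 1 else 0) * (if b = x' then 1 else 0) := by
    intro a b
    rw [Matrix.det_fin_two]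
    simp only [Matrix.of_apply, Function.comp_apply, Module.Basis.coord_apply,
      Module.Basis.repr_self, Finsupp.single_apply]
    rfl
  simp only [h3] at h2
  simp only [sub_smul, Finset.sum_sub_distrib, ite_mul, one_mul, zero_mul, ite_smul, one_smul,
    zero_smul, Finset.sum_ite_eq', Finset.mem_univ, if_true] at h2
  exact sub_eq_zero.1 h2

end

section

variable {A : Type v} {B L E : Type u} [CommRing A] [CommRing B]
    [Algebra A B] [AddCommGroup L] [Module B L] [Module A L] [IsScalarTower A B L]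
    [AddCommGroup E] [Module B E] [Module A E] [IsScalarTower A B E]
variable (lam : B) {n : ℕ} (t : Fin n → B) (bΩ : Module.Basis (Fin n) B (KaehlerDifferential A B))
    (hbΩ : ∀ i, bΩ i = KaehlerDifferential.D A B (t i))
    (ω : Module.Basis (Fin n) B L) (ι : KaehlerDifferential A B →ₗ[B] L)
    (hι : ∀ i, ι (KaehlerDifferential.D A B (t i)) = t i • ω i)
    (nabla : E →ₗ[A] E ⊗[B] L)
    (hc : Conn.IsLamConn (ι.compDer (KaehlerDifferential.D A B)) lam nabla)
    (d : ∀ p : ℕ, ↥(⋀[B]^p L) →ₗ[A] ↥(⋀[B]^(p + 1) L))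
    (hd : LogDiff.IsLogRule (KaehlerDifferential.D A B) ι (⇑ω) d)
    (nablas : ∀ p : ℕ, E ⊗[B] ↥(⋀[B]^p L) →ₗ[A] E ⊗[B] ↥(⋀[B]^(p + 1) L))
    (hint : Conn.IsIntegrable nabla (fun p => lam • d p) nablas)

include hι hc in
/-- `∇ₐ(E_s) ⊆ E_{s ∪ {a}}` for `a ∉ s`, when the components commute. -/
theorem comp_mem_piece_insert'
    (hcomm : ∀ i j : Fin n, Commute (LogConn.comp nabla ω i : Module.End A E)
      (LogConn.comp nabla ω j))
    (a : Fin n) (s : Finset (Fin n)) (h2 : a ∉ s) {x : E}
    (hx : x ∈ LogConn.piece nabla ω t s) :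
    LogConn.comp nabla ω a x ∈ LogConn.piece nabla ω t (insert a s) := by
  classical
  have : LogConn.piece nabla ω t s ≤ (LogConn.piece nabla ω t (insert a s)).comap
      (LogConn.comp nabla ω a) := by
    refine piece_le_of_forall nabla ω t s _ fun K hK e => ?_
    rw [Submodule.mem_comap, comp_smul _ lam nabla hc]
    have h0 : ω.coord a ((ι.compDer (KaehlerDifferential.D A B)) (∏ i ∈ s \ K, t i)) = 0 :=
      coord_iota_D_prod t ω ι hι a (s \ K) (fun h => h2 (Finset.mem_sdiff.1 h).1)
    rw [h0, mul_zero, zero_smul, add_zero]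
    have h3 : LogConn.comp nabla ω a (LogConn.compProd nabla ω K e) =
        LogConn.compProd nabla ω (insert a K) e := by
      rw [compProd_insert_comm nabla ω hcomm a K (fun h => h2 (hK h))]; rfl
    have h4 : s \ K = insert a s \ insert a K := by
      ext b
      simp only [Finset.mem_sdiff, Finset.mem_insert]
      constructor
      · rintro ⟨h5, h6⟩
        refine ⟨Or.inr h5, ?_⟩
        rintro (rfl | h7)
        · exact h2 h5
        · exact h6 h7
      · rintro ⟨h5 | h5, h6⟩
        · exact absurd (Or.inl h5) h6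
        · exact ⟨h5, fun h7 => h6 (Or.inr h7)⟩
    rw [h3, h4]
    exact mem_piece_of_subset nabla ω t (Finset.insert_subset_insert a hK) e
  exact this hx

include hbΩ hι hc hd hint in
theorem nablas_mem_layer (p : ℕ) (x : E ⊗[B] ↥(⋀[B]^p L))
    (hx : x ∈ LogConn.layer nabla ω t p) :
    nablas p x ∈ LogConn.layer nabla ω t (p + 1) := by
  classical
  have hcomm := comp_commute lam ω ι nabla d hd nablas hint
  have hxK : ∀ K : Set.powersetCard (Fin n) p,
      LogConn.coordE (E := E) ω p K x ∈ LogConn.piece nabla ω t (K : Finset (Fin n)) := by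
    intro K
    unfold LogConn.layer at hx
    rw [Submodule.mem_iInf] at hx
    exact hx K
  rw [sum_coordE_tmul ω p x, map_sum]
  refine Submodule.sum_mem _ fun K _ => ?_
  rw [exteriorPower.basis_apply, exteriorPower.ιMulti_family,
    nablas_tmul_ιMulti_basis lam ω ι nabla d hd nablas hint]
  refine Submodule.sum_mem _ fun a _ => ?_
  unfold LogConn.layer
  rw [Submodule.mem_iInf]
  intro K'
  rw [Submodule.mem_comap, LinearMap.restrictScalars_apply, ← cons_comp, coordE_tmul]
  by_cases hzero : (ω.exteriorPower (p + 1)).coord K' (exteriorPower.ιMulti B (p + 1)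
      (Fin.cons (ω a) (ω ∘ (Set.powersetCard.ofFinEmbEquiv.symm K)))) = 0
  · rw [hzero, zero_smul]; exact Submodule.zero_mem _
  · obtain ⟨haK, hK'⟩ := coord_cons_ne_zero ω p K K' a hzero
    rw [hK']
    apply smul_mem_piece lam t bΩ hbΩ ω ι hι nabla hc
    exact comp_mem_piece_insert' lam t ω ι hι nabla hc hcomm a _ haK (hxK K)

end

end Groth.Agent.Lib.LogConn70b
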