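import Groth.Agent.Lib.LogConn70b

set_option autoImplicit false
universe v u
open TensorProduct

namespace Groth.Agent.Lib.LogConn70c

open Groth.Agent.Lib.LogConnH44 Groth.Agent.Lib.LogConn70 Groth.Agent.Lib.LogConn70b

section Commute

variable {A : Type v} {B L E : Type u} [CommRing A] [CommRing B]
    [Algebra A B] [AddCommGroup L] [Module B L] [Module A L] [IsScalarTower A B L]
    [AddCommGroup E] [Module B E] [Module A E] [IsScalarTower A B E]
variable (lam : B) {n : ℕ}
    (ω : Module.Basis (Fin n) B L)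
    (nabla : E →ₗ[A] E ⊗[B] L)
    (d : ∀ p : ℕ, ↥(⋀[B]^p L) →ₗ[A] ↥(⋀[B]^(p + 1) L))
    (hd1 : ∀ b : Fin n, d 1 (exteriorPower.ιMulti B 1 (ω ∘ (fun _ : Fin 1 => b))) = 0)
    (nablas : ∀ p : ℕ, E ⊗[B] ↥(⋀[B]^p L) →ₗ[A] E ⊗[B] ↥(⋀[B]^(p + 1) L))
    (hint : Conn.IsIntegrable nabla (fun p => lam • d p) nablas)

include hd1 hint in
/-- the components of an integrable `λ`-connection commute, as soon as `d ω_b = 0` -/
theorem comp_commute' (x y : Fin n) :
    Commute (LogConn.comp nabla ω x : Module.End A E) (LogConn.comp nabla ω y) := by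
  classical
  rcases eq_or_ne x y with rfl | hxy
  · exact Commute.refl _
  let K' : Set.powersetCard (Fin n) (1 + 1) := ⟨{x, y}, Finset.card_pair hxy⟩
  set Ks := Set.powersetCard.ofFinEmbEquiv.symm K' with hKs
  set x' := Ks 0 with hx'
  set y' := Ks 1 with hy'
  have hmem : ∀ j, Ks j = x ∨ Ks j = y := by
    intro j
    have := (Set.powersetCard.mem_range_ofFinEmbEquiv_symm_iff_mem K' (Ks j)).1 ⟨j, rfl⟩
    have h' : Ks j ∈ ({x, y} : Finset (Fin n)) := this
    simpa using h'
  have hne : x' ≠ y' := by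
    intro h
    have := Ks.injective h
    exact absurd this (by decide)
  suffices hkey : ∀ m : E, LogConn.comp nabla ω x' (LogConn.comp nabla ω y' m) =
      LogConn.comp nabla ω y' (LogConn.comp nabla ω x' m) by
    have hcomm' : Commute (LogConn.comp nabla ω x' : Module.End A E) (LogConn.comp nabla ω y') :=
      LinearMap.ext hkey
    rcases hmem 0 with h0 | h0 <;> rcases hmem 1 with h1 | h1
    · exact absurd (h0.trans h1.symm) hne
    · rw [← h0, ← h1]; exact hcomm'
    · rw [← h0, ← h1]; exact hcomm'.symm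
    · exact absurd (h0.trans h1.symm) hne
  intro m
  have h0 := hint.2 m
  rw [nabla_eq_sum ω nabla m, map_sum, map_sum] at h0
  have h1 : ∀ b : Fin n, nablas 1 (Conn.toOne (LogConn.comp nabla ω b m ⊗ₜ[B] ω b)) =
      ∑ a : Fin n, LogConn.comp nabla ω a (LogConn.comp nabla ω b m) ⊗ₜ[B]
        exteriorPower.ιMulti B (1 + 1) (ω ∘ (Fin.cons a (fun _ => b) : Fin (1 + 1) → Fin n)) := by
    intro b
    rw [Conn.toOne_tmul]
    have : (exteriorPower.oneEquiv B L).symm (ω b) =
        exteriorPower.ιMulti B 1 (ω ∘ (fun _ : Fin 1 => b)) := by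
      rw [LinearEquiv.symm_apply_eq, exteriorPower.oneEquiv_ιMulti]; rfl
    rw [this, hint.1 1 _ _]
    simp only [LinearMap.smul_apply]
    rw [hd1 b, smul_zero, TensorProduct.tmul_zero, add_zero,
      nabla_eq_sum ω nabla (LogConn.comp nabla ω b m), map_sum, map_sum, LinearMap.sum_apply]
    apply Finset.sum_congr rfl
    intro a _
    rw [Conn.toOne_tmul, Conn.twedge_tmul, wedge_oneEquiv_symm_ιMulti, cons_comp]
  simp only [h1] at h0
  have h2 := congrArg (LogConn.coordE (E := E) ω (1 + 1) K') h0
  rw [map_zero, map_sum] at h2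
  simp only [map_sum, coordE_tmul_ιMulti] at h2
  have h3 : ∀ (a b : Fin n),
      (Matrix.of fun i j => ω.coord (Set.powersetCard.ofFinEmbEquiv.symm K' j)
        ((ω ∘ (Fin.cons a (fun _ => b) : Fin (1 + 1) → Fin n)) i)).det =
      (if a = x' then 1 else 0) * (if b = y' then 1 else 0) -
        (if a = y' then 1 else 0) * (if b = x' then 1 else 0) := by
    intro a b
    rw [Matrix.det_fin_two]
    simp only [Matrix.of_apply, Function.comp_apply, Module.Basis.coord_apply,
      Module.Basis.repr_self, Finsupp.single_apply]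
    rfl
  simp only [h3] at h2
  simp only [sub_smul, Finset.sum_sub_distrib, ite_mul, one_mul, zero_mul, ite_smul, one_smul,
    zero_smul, Finset.sum_ite_eq', Finset.mem_univ, if_true] at h2
  exact sub_eq_zero.1 h2

end Commute

section Pieces

variable {A : Type v} {B L E : Type u} [CommRing A] [CommRing B]
    [Algebra A B] [AddCommGroup L] [Module B L] [Module A L] [IsScalarTower A B L]
    [AddCommGroup E] [Module B E] [Module A E] [IsScalarTower A B E]
variable (lam : B) {n : ℕ} (t : Fin n → B) (bΩ : Module.Basis (Fin n) B (KaehlerDifferential A B))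
    (hbΩ : ∀ i, bΩ i = KaehlerDifferential.D A B (t i))
    (ω : Module.Basis (Fin n) B L) (ι : KaehlerDifferential A B →ₗ[B] L)
    (hι : ∀ i, ι (KaehlerDifferential.D A B (t i)) = t i • ω i)
    (nabla : E →ₗ[A] E ⊗[B] L)
    (hc : Conn.IsLamConn (ι.compDer (KaehlerDifferential.D A B)) lam nabla)
    (hcomm : ∀ i j : Fin n, Commute (LogConn.comp nabla ω i : Module.End A E)
      (LogConn.comp nabla ω j))

omit [Module A L] [IsScalarTower A B L] in
include hcomm in
theorem comp_compProd_comm (a : Fin n) (J : Finset (Fin n)) (e : E) :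
    LogConn.comp nabla ω a (LogConn.compProd nabla ω J e) =
      LogConn.compProd nabla ω J (LogConn.comp nabla ω a e) := by
  have h : Commute (LogConn.comp nabla ω a : Module.End A E) (LogConn.compProd nabla ω J) := by
    rw [compProd_eq_prod]
    apply Commute.list_prod_right
    intro x hx
    obtain ⟨i, _, rfl⟩ := List.mem_map.1 hx
    exact hcomm a i
  exact LinearMap.congr_fun h.eq e

include hbΩ hι hc hcomm in
/-- `E_{S ∪ a} ⊆ E_S` -/
theorem piece_insert_le (a : Fin n) (S : Finset (Fin n)) (ha : a ∉ S) :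
    LogConn.piece nabla ω t (insert a S) ≤ LogConn.piece nabla ω t S := by
  classical
  refine piece_le_of_forall nabla ω t _ _ fun J hJ e => ?_
  by_cases haJ : a ∈ J
  · -- J = insert a J₀
    set J₀ := J.erase a with hJ₀
    have hJeq : J = insert a J₀ := (Finset.insert_erase haJ).symm
    have haJ₀ : a ∉ J₀ := Finset.notMem_erase a J
    have hJ₀S : J₀ ⊆ S := by
      intro x hx
      have hxJ : x ∈ J := Finset.mem_of_mem_erase hx
      rcases Finset.mem_insert.1 (hJ hxJ) with rfl | h
      · exact absurd hx haJ₀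
      · exact h
    have h1 : insert a S \ J = S \ J₀ := by
      ext x
      simp only [Finset.mem_sdiff, Finset.mem_insert, hJeq]
      constructor
      · rintro ⟨h1 | h1, h2⟩
        · exact absurd (Or.inl h1) h2
        · exact ⟨h1, fun h => h2 (Or.inr h)⟩
      · rintro ⟨h1, h2⟩
        refine ⟨Or.inr h1, ?_⟩
        rintro (rfl | h)
        · exact ha h1
        · exact h2 h
    rw [h1]
    have h2 : LogConn.compProd nabla ω J e =
        LogConn.compProd nabla ω J₀ (LogConn.comp nabla ω a e) := by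
      rw [hJeq, compProd_insert_comm nabla ω hcomm a J₀ haJ₀, LinearMap.comp_apply,
        comp_compProd_comm ω nabla hcomm]
    rw [h2]
    exact mem_piece_of_subset nabla ω t hJ₀S _
  · have hJS : J ⊆ S := by
      intro x hx
      rcases Finset.mem_insert.1 (hJ hx) with rfl | h
      · exact absurd hx haJ
      · exact h
    have h1 : insert a S \ J = insert a (S \ J) := by
      ext x
      simp only [Finset.mem_sdiff, Finset.mem_insert]
      constructor
      · rintro ⟨h1 | h1, h2⟩
        · exact Or.inl h1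
        · exact Or.inr ⟨h1, h2⟩
      · rintro (rfl | ⟨h1, h2⟩)
        · exact ⟨Or.inl rfl, haJ⟩
        · exact ⟨Or.inr h1, h2⟩
    rw [h1, Finset.prod_insert (fun h => ha (Finset.mem_sdiff.1 h).1), mul_smul]
    exact smul_mem_piece lam t bΩ hbΩ ω ι hι nabla hc _ _ (mem_piece_of_subset nabla ω t hJS e)

include hbΩ hι hc hcomm in
/-- `E_I ⊆ E_{I'}` for `I' ⊆ I` -/
theorem piece_anti {I I' : Finset (Fin n)} (h : I' ⊆ I) :
    LogConn.piece nabla ω t I ≤ LogConn.piece nabla ω t I' := by
  classical
  have key : ∀ D : Finset (Fin n), Disjoint D I' →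
      LogConn.piece nabla ω t (I' ∪ D) ≤ LogConn.piece nabla ω t I' := by
    intro D
    induction D using Finset.induction_on with
    | empty => intro _; rw [Finset.union_empty]
    | insert a D haD ih =>
      intro hdis
      have hdis' : Disjoint D I' := Finset.disjoint_of_subset_left (Finset.subset_insert a D) hdis
      have haI' : a ∉ I' := Finset.disjoint_left.1 hdis (Finset.mem_insert_self a D)
      have : I' ∪ insert a D = insert a (I' ∪ D) := by
        rw [Finset.union_insert]
      rw [this]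
      refine (piece_insert_le lam t bΩ hbΩ ω ι hι nabla hc hcomm a _ ?_).trans (ih hdis')
      simp [haI', haD]
  have := key (I \ I') Finset.sdiff_disjoint
  rwa [Finset.union_sdiff_of_subset h] at this

omit [Module A L] [IsScalarTower A B L] in
include hι in
theorem coord_iota_D_prod_mem (a : Fin n) (S : Finset (Fin n)) (ha : a ∈ S) :
    ω.coord a (ι (KaehlerDifferential.D A B (∏ i ∈ S, t i))) = ∏ i ∈ S, t i := by
  classical
  have hS : S = insert a (S.erase a) := (Finset.insert_erase ha).symm
  have ha' : a ∉ S.erase a := Finset.notMem_erase a S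
  rw [hS, Finset.prod_insert ha', Derivation.leibniz, map_add, map_add, map_smul, map_smul,
    map_smul, map_smul, coord_iota_D_prod t ω ι hι a _ ha', coord_iota_D_t t ω ι hι, if_pos rfl]
  simp [mul_comm]

include hbΩ hι hc hcomm in
/-- every piece is stable under every component -/
theorem comp_mem_piece (i : Fin n) (S : Finset (Fin n)) {x : E}
    (hx : x ∈ LogConn.piece nabla ω t S) :
    LogConn.comp nabla ω i x ∈ LogConn.piece nabla ω t S := by
  classical
  by_cases hiS : i ∈ S
  · have : LogConn.piece nabla ω t S ≤ (LogConn.piece nabla ω t S).comap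
        (LogConn.comp nabla ω i) := by
      refine piece_le_of_forall nabla ω t S _ fun J hJ e => ?_
      rw [Submodule.mem_comap, comp_smul _ lam nabla hc]
      refine Submodule.add_mem _ ?_ ?_
      · by_cases hiJ : i ∈ J
        · rw [comp_compProd_comm ω nabla hcomm]
          exact mem_piece_of_subset nabla ω t hJ _
        · have h3 : LogConn.comp nabla ω i (LogConn.compProd nabla ω J e) =
              LogConn.compProd nabla ω (insert i J) e := by
            rw [compProd_insert_comm nabla ω hcomm i J hiJ]; rfl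
          have h4 : S \ J = insert i (S \ insert i J) := by
            ext x
            simp only [Finset.mem_sdiff, Finset.mem_insert]
            constructor
            · rintro ⟨h1, h2⟩
              by_cases hxi : x = i
              · exact Or.inl hxi
              · exact Or.inr ⟨h1, fun h => h.elim hxi h2⟩
            · rintro (rfl | ⟨h1, h2⟩)
              · exact ⟨hiS, hiJ⟩
              · exact ⟨h1, fun h => h2 (Or.inr h)⟩
          rw [h3, h4, Finset.prod_insert (by simp), mul_smul]
          apply smul_mem_piece lam t bΩ hbΩ ω ι hι nabla hc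
          exact mem_piece_of_subset nabla ω t (Finset.insert_subset hiS hJ) e
      · have e0 : (ι.compDer (KaehlerDifferential.D A B)) (∏ i ∈ S \ J, t i) =
            ι (KaehlerDifferential.D A B (∏ i ∈ S \ J, t i)) := rfl
        rw [e0]
        by_cases hiSJ : i ∈ S \ J
        · rw [coord_iota_D_prod_mem t ω ι hι i _ hiSJ, mul_smul]
          apply smul_mem_piece lam t bΩ hbΩ ω ι hι nabla hc
          exact mem_piece_of_subset nabla ω t hJ e
        · rw [coord_iota_D_prod t ω ι hι i _ hiSJ, mul_zero, zero_smul]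
          exact Submodule.zero_mem _
    exact this hx
  · exact piece_insert_le lam t bΩ hbΩ ω ι hι nabla hc hcomm i S hiS
      (comp_mem_piece_insert' lam t ω ι hι nabla hc hcomm i S hiS hx)

end Pieces

section TwoSystems

variable {A : Type v} {B L E : Type u} [CommRing A] [CommRing B]
    [Algebra A B] [AddCommGroup L] [Module B L] [Module A L] [IsScalarTower A B L]
    [AddCommGroup E] [Module B E] [Module A E] [IsScalarTower A B E]
variable (lam : B) {n : ℕ} (t : Fin n → B) (bΩ : Module.Basis (Fin n) B (KaehlerDifferential A B))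
    (hbΩ : ∀ i, bΩ i = KaehlerDifferential.D A B (t i))
    (ω : Module.Basis (Fin n) B L) (ι : KaehlerDifferential A B →ₗ[B] L)
    (hι : ∀ i, ι (KaehlerDifferential.D A B (t i)) = t i • ω i)
    (t' : Fin n → B) (bΩ' : Module.Basis (Fin n) B (KaehlerDifferential A B))
    (hbΩ' : ∀ i, bΩ' i = KaehlerDifferential.D A B (t' i))
    (ω' : Module.Basis (Fin n) B L)
    (hι' : ∀ i, ι (KaehlerDifferential.D A B (t' i)) = t' i • ω' i)
    (nabla : E →ₗ[A] E ⊗[B] L)
    (hc : Conn.IsLamConn (ι.compDer (KaehlerDifferential.D A B)) lam nabla)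
    (hcomm : ∀ i j : Fin n, Commute (LogConn.comp nabla ω i : Module.End A E)
      (LogConn.comp nabla ω j))
    (hcomm' : ∀ i j : Fin n, Commute (LogConn.comp nabla ω' i : Module.End A E)
      (LogConn.comp nabla ω' j))
    (u : Fin n → Bˣ) (hR1 : ∀ i, t' i = (u i : B) * t i)
    (η : Fin n → KaehlerDifferential A B) (hR2 : ∀ i, ω' i = ω i + ι (η i))

omit [Module A L] [IsScalarTower A B L] in
include hbΩ hι hR2 in
theorem comp_eq_comp_add (a : Fin n) (e : E) :
    LogConn.comp nabla ω a e = LogConn.comp nabla ω' a e +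
      ∑ i, (t a * bΩ.coord a (η i)) • LogConn.comp nabla ω' i e := by
  classical
  have h1 : LogConn.comp nabla ω a e =
      TensorProduct.rid B E (TensorProduct.map LinearMap.id (ω.coord a) (nabla e)) := rfl
  rw [h1, nabla_eq_sum ω' nabla e, map_sum, map_sum]
  have h2 : ∀ i, (TensorProduct.rid B E) ((TensorProduct.map LinearMap.id (ω.coord a))
      (LogConn.comp nabla ω' i e ⊗ₜ[B] ω' i)) =
      (if i = a then LogConn.comp nabla ω' i e else 0) +
        (t a * bΩ.coord a (η i)) • LogConn.comp nabla ω' i e := by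
    intro i
    rw [TensorProduct.map_tmul, TensorProduct.rid_tmul, LinearMap.id_apply, hR2, map_add,
      coord_iota t bΩ hbΩ ω ι hι, add_smul, Module.Basis.coord_apply, Module.Basis.repr_self,
      Finsupp.single_apply]
    congr 1
    split_ifs <;> simp
  simp only [h2, Finset.sum_add_distrib, Finset.sum_ite_eq', Finset.mem_univ, if_true]

include hbΩ hι hbΩ' hι' hc hcomm hcomm' hR1 hR2 in
theorem compProd_mem_piece' (J : Finset (Fin n)) :
    ∀ e : E, LogConn.compProd nabla ω J e ∈ LogConn.piece nabla ω' t' J := by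
  classical
  induction J using Finset.induction_on with
  | empty =>
    intro e
    have := mem_piece_of_subset nabla ω' t' (Finset.Subset.refl (∅ : Finset (Fin n))) e
    simpa [compProd_empty] using this
  | insert a J₀ ha ih =>
    intro e
    rw [compProd_insert_comm nabla ω hcomm a J₀ ha, LinearMap.comp_apply]
    set y := LogConn.compProd nabla ω J₀ e with hy
    have hy' : y ∈ LogConn.piece nabla ω' t' J₀ := ih e
    rw [comp_eq_comp_add t bΩ hbΩ ω ι hι ω' nabla η hR2]
    refine Submodule.add_mem _ ?_ (Submodule.sum_mem _ fun i _ => ?_)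
    · exact comp_mem_piece_insert' lam t' ω' ι hι' nabla hc hcomm' a J₀ ha hy'
    · have h1 : LogConn.comp nabla ω' i y ∈ LogConn.piece nabla ω' t' J₀ :=
        comp_mem_piece lam t' bΩ' hbΩ' ω' ι hι' nabla hc hcomm' i J₀ hy'
      have h2 := prod_smul_mem_piece nabla ω' t' (Finset.subset_insert a J₀) h1
      have h3 : insert a J₀ \ J₀ = {a} := by
        ext b
        simp only [Finset.mem_sdiff, Finset.mem_insert, Finset.mem_singleton]
        constructor
        · rintro ⟨h5 | h5, h6⟩
          · exact h5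
          · exact absurd h5 h6
        · rintro rfl
          exact ⟨Or.inl rfl, ha⟩
      rw [h3, Finset.prod_singleton] at h2
      have h4 : (t a * bΩ.coord a (η i)) • LogConn.comp nabla ω' i y =
          (((u a)⁻¹ : Bˣ).val * bΩ.coord a (η i)) • (t' a • LogConn.comp nabla ω' i y) := by
        rw [smul_smul, hR1 a]
        congr 1
        have : ((u a)⁻¹ : Bˣ).val * (u a : B) = 1 := by simp
        calc t a * bΩ.coord a (η i) = (((u a)⁻¹ : Bˣ).val * (u a : B)) * t a * bΩ.coord a (η i) := by
              rw [this, one_mul]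
          _ = _ := by ring
      rw [h4]
      exact smul_mem_piece lam t' bΩ' hbΩ' ω' ι hι' nabla hc _ _ h2

include hbΩ hι hbΩ' hι' hc hcomm hcomm' hR1 hR2 in
theorem piece_le_piece' (K : Finset (Fin n)) :
    LogConn.piece nabla ω t K ≤ LogConn.piece nabla ω' t' K := by
  classical
  refine piece_le_of_forall nabla ω t K _ fun J hJ e => ?_
  have h1 := compProd_mem_piece' lam t bΩ hbΩ ω ι hι t' bΩ' hbΩ' ω' hι' nabla hc hcomm hcomm' u hR1
    η hR2 J e
  have h2 := prod_smul_mem_piece nabla ω' t' hJ h1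
  have h3 : (∏ i ∈ K \ J, t i) = (∏ i ∈ K \ J, ((u i)⁻¹ : Bˣ).val) * ∏ i ∈ K \ J, t' i := by
    rw [← Finset.prod_mul_distrib]
    apply Finset.prod_congr rfl
    intro i _
    rw [hR1 i, ← mul_assoc]
    simp
  rw [h3, mul_smul]
  exact smul_mem_piece lam t' bΩ' hbΩ' ω' ι hι' nabla hc _ _ h2

end TwoSystems

section TwoSystems2

variable {A : Type v} {B L E : Type u} [CommRing A] [CommRing B]
    [Algebra A B] [AddCommGroup L] [Module B L] [Module A L] [IsScalarTower A B L]
    [AddCommGroup E] [Module B E] [Module A E] [IsScalarTower A B E]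
variable (lam : B) {n : ℕ} (t : Fin n → B) (bΩ : Module.Basis (Fin n) B (KaehlerDifferential A B))
    (hbΩ : ∀ i, bΩ i = KaehlerDifferential.D A B (t i))
    (ω : Module.Basis (Fin n) B L) (ι : KaehlerDifferential A B →ₗ[B] L)
    (hι : ∀ i, ι (KaehlerDifferential.D A B (t i)) = t i • ω i)
    (t' : Fin n → B) (bΩ' : Module.Basis (Fin n) B (KaehlerDifferential A B))
    (hbΩ' : ∀ i, bΩ' i = KaehlerDifferential.D A B (t' i))
    (ω' : Module.Basis (Fin n) B L)
    (hι' : ∀ i, ι (KaehlerDifferential.D A B (t' i)) = t' i • ω' i)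
    (nabla : E →ₗ[A] E ⊗[B] L)
    (hc : Conn.IsLamConn (ι.compDer (KaehlerDifferential.D A B)) lam nabla)
    (hcomm : ∀ i j : Fin n, Commute (LogConn.comp nabla ω i : Module.End A E)
      (LogConn.comp nabla ω j))
    (hcomm' : ∀ i j : Fin n, Commute (LogConn.comp nabla ω' i : Module.End A E)
      (LogConn.comp nabla ω' j))
    (u : Fin n → Bˣ) (hR1 : ∀ i, t' i = (u i : B) * t i)
    (η : Fin n → KaehlerDifferential A B) (hR2 : ∀ i, ω' i = ω i + ι (η i))

include hbΩ hι hbΩ' hι' hc hcomm hcomm' hR1 hR2 in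
theorem layer_le_layer' (p : ℕ) :
    LogConn.layer nabla ω t p ≤ LogConn.layer nabla ω' t' p := by
  classical
  intro x hx
  obtain ⟨xK, hxK, hsum⟩ : ∃ xK : Set.powersetCard (Fin n) p → E,
      (∀ K : Set.powersetCard (Fin n) p, xK K ∈ LogConn.piece nabla ω t (K : Finset (Fin n))) ∧
      x = ∑ K, xK K ⊗ₜ[B] (ω.exteriorPower p K) := by
    refine ⟨fun K => LogConn.coordE (E := E) ω p K x, fun K => ?_, sum_coordE_tmul ω p x⟩
    unfold LogConn.layer at hx
    rw [Submodule.mem_iInf] at hx
    exact hx K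
  unfold LogConn.layer
  rw [Submodule.mem_iInf]
  intro K'
  rw [Submodule.mem_comap, LinearMap.restrictScalars_apply, hsum, map_sum]
  refine Submodule.sum_mem _ fun K _ => ?_
  rw [exteriorPower.basis_apply, exteriorPower.ιMulti_family, coordE_tmul_ιMulti]
  set Ks := Set.powersetCard.ofFinEmbEquiv.symm K with hKs
  set Ks' := Set.powersetCard.ofFinEmbEquiv.symm K' with hKs'
  have hKsmem : ∀ i, Ks i ∈ (K : Finset (Fin n)) := fun i =>
    Set.powersetCard.mem_coe_iff.2
      ((Set.powersetCard.mem_range_ofFinEmbEquiv_symm_iff_mem K _).1 ⟨i, rfl⟩)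
  have hω : ∀ i, ω i = ω' i - ι (η i) := fun i => by rw [hR2 i]; abel
  set N' : Matrix (Fin p) (Fin p) B := Matrix.of fun i j =>
    if Ks' j ∈ (K : Finset (Fin n)) then ω'.coord (Ks' j) ((ω ∘ Ks) i)
    else -(bΩ'.coord (Ks' j) (η (Ks i))) with hN'
  set c : Fin p → B := fun j => if Ks' j ∈ (K : Finset (Fin n)) then 1 else t' (Ks' j) with hcdef
  have hN : (Matrix.of fun i j => ω'.coord (Ks' j) ((ω ∘ Ks) i)) =
      Matrix.of fun i j => c j * N' i j := by
    ext i j
    simp only [Matrix.of_apply, hcdef, hN']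
    by_cases hj : Ks' j ∈ (K : Finset (Fin n))
    · simp [hj]
    · simp only [hj, if_false, Function.comp_apply]
      rw [hω, map_sub, coord_iota t' bΩ' hbΩ' ω' ι hι', Module.Basis.coord_apply,
        Module.Basis.repr_self, Finsupp.single_apply, if_neg, zero_sub, mul_neg]
      intro h
      exact hj (h ▸ hKsmem i)
  rw [hN, Matrix.det_mul_row, prod_sort_ite t' K' (K : Finset (Fin n)), mul_comm, mul_smul]
  apply smul_mem_piece lam t' bΩ' hbΩ' ω' ι hι' nabla hc
  have h1 : xK K ∈ LogConn.piece nabla ω' t' ((K : Finset (Fin n)) ∩ (K' : Finset (Fin n))) :=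
    piece_anti lam t' bΩ' hbΩ' ω' ι hι' nabla hc hcomm' Finset.inter_subset_left
      (piece_le_piece' lam t bΩ hbΩ ω ι hι t' bΩ' hbΩ' ω' hι' nabla hc hcomm hcomm' u hR1 η hR2 _
        (hxK K))
  have h2 := prod_smul_mem_piece nabla ω' t'
    (Finset.inter_subset_right : (K : Finset (Fin n)) ∩ (K' : Finset (Fin n)) ⊆ _) h1
  have h3 : (K' : Finset (Fin n)) \ ((K : Finset (Fin n)) ∩ (K' : Finset (Fin n))) =
      (K' : Finset (Fin n)) \ (K : Finset (Fin n)) := by
    ext a
    simp only [Finset.mem_sdiff, Finset.mem_inter]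
    tauto
  rwa [h3] at h2

end TwoSystems2

section Final

variable {A : Type v} {B L E : Type u} [CommRing A] [CommRing B]
    [Algebra A B] [AddCommGroup L] [Module B L] [Module A L] [IsScalarTower A B L]
    [AddCommGroup E] [Module B E] [Module A E] [IsScalarTower A B E]

theorem layer_eq_layer (lam : B) {n : ℕ} (t : Fin n → B)
    (bΩ : Module.Basis (Fin n) B (KaehlerDifferential A B))
    (hbΩ : ∀ i, bΩ i = KaehlerDifferential.D A B (t i))
    (ω : Module.Basis (Fin n) B L) (ι : KaehlerDifferential A B →ₗ[B] L)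
    (hι : ∀ i, ι (KaehlerDifferential.D A B (t i)) = t i • ω i)
    (nabla : E →ₗ[A] E ⊗[B] L)
    (hc : Conn.IsLamConn (ι.compDer (KaehlerDifferential.D A B)) lam nabla)
    (d : ∀ p : ℕ, ↥(⋀[B]^p L) →ₗ[A] ↥(⋀[B]^(p + 1) L))
    (hd : LogDiff.IsLogRule (KaehlerDifferential.D A B) ι (⇑ω) d)
    (nablas : ∀ p : ℕ, E ⊗[B] ↥(⋀[B]^p L) →ₗ[A] E ⊗[B] ↥(⋀[B]^(p + 1) L))
    (hint : Conn.IsIntegrable nabla (fun p => lam • d p) nablas)
    (u : Fin n → Bˣ) (bΩ' : Module.Basis (Fin n) B (KaehlerDifferential A B))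
    (hbΩ' : ∀ i, bΩ' i = KaehlerDifferential.D A B ((u i : B) * t i))
    (ω' : Module.Basis (Fin n) B L)
    (hω' : ∀ i, ω' i = ω i + ((u i)⁻¹ : Bˣ).val • ι (KaehlerDifferential.D A B (u i : B)))
    (p : ℕ) :
    LogConn.layer nabla ω t p = LogConn.layer nabla ω' (fun i => (u i : B) * t i) p := by
  classical
  set t' : Fin n → B := fun i => (u i : B) * t i with ht'
  have hinvmul : ∀ i, ((u i)⁻¹ : Bˣ).val * (u i : B) = 1 := fun i => by simp
  have hι' : ∀ i, ι (KaehlerDifferential.D A B (t' i)) = t' i • ω' i := by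
    intro i
    simp only [ht']
    rw [Derivation.leibniz, map_add, map_smul, map_smul, hι, hω', smul_add, smul_smul, smul_smul]
    congr 1
    congr 1
    calc t i = t i * (((u i)⁻¹ : Bˣ).val * (u i : B)) := by rw [hinvmul, mul_one]
      _ = _ := by ring
  let η : Fin n → KaehlerDifferential A B := fun i =>
    ((u i)⁻¹ : Bˣ).val • KaehlerDifferential.D A B (u i : B)
  have hR2 : ∀ i, ω' i = ω i + ι (η i) := by
    intro i
    rw [hω' i]
    simp only [η, map_smul]
  have hR2' : ∀ i, ω i = ω' i + ι ((fun i => -η i) i) := by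
    intro i
    rw [hR2 i]
    simp only [map_neg]
    abel
  have hR1 : ∀ i, t' i = (u i : B) * t i := fun i => rfl
  have hR1' : ∀ i, t i = (((u i)⁻¹ : Bˣ) : B) * t' i := by
    intro i
    simp only [ht']
    rw [← mul_assoc, hinvmul, one_mul]
  have hcomm := comp_commute lam ω ι nabla d hd nablas hint
  have hd1' : ∀ b : Fin n, d 1 (exteriorPower.ιMulti B 1 (ω' ∘ (fun _ : Fin 1 => b))) = 0 := by
    intro b
    have e1 : ∀ x : L, exteriorPower.ιMulti B 1 (fun _ : Fin 1 => x) =
        (exteriorPower.oneEquiv B L).symm x := by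
      intro x
      rw [eq_comm, LinearEquiv.symm_apply_eq, exteriorPower.oneEquiv_ιMulti]
    have e2 : (ω' ∘ (fun _ : Fin 1 => b)) = fun _ : Fin 1 => ω' b := rfl
    rw [e2, e1, hω' b, map_add, map_smul, ← e1, ← e1, map_add]
    have h1 : d 1 (exteriorPower.ιMulti B 1 (fun _ : Fin 1 => ω b)) = 0 :=
      d_ιMulti_basis_eq_zero ω ι d hd 1 (fun _ => b)
    have h2 := hd 1 ((u b)⁻¹ : Bˣ).val (fun _ : Fin 1 => ι (KaehlerDifferential.D A B (u b : B)))
      (fun k => Or.inl ⟨_, rfl⟩)
    rw [h1, h2, zero_add]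
    have h3 : KaehlerDifferential.D A B (((u b)⁻¹ : Bˣ).val) =
        -(((u b)⁻¹ : Bˣ).val) ^ 2 • KaehlerDifferential.D A B (u b : B) :=
      Derivation.leibniz_of_mul_eq_one _ (hinvmul b)
    rw [h3, map_smul]
    have h4 : (Fin.cons (-(((u b)⁻¹ : Bˣ).val) ^ 2 • ι (KaehlerDifferential.D A B (u b : B)))
        (fun _ : Fin 1 => ι (KaehlerDifferential.D A B (u b : B))) : Fin (1 + 1) → L) =
        Function.update (Fin.cons (ι (KaehlerDifferential.D A B (u b : B)))
          (fun _ : Fin 1 => ι (KaehlerDifferential.D A B (u b : B)))) 0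
          (-(((u b)⁻¹ : Bˣ).val) ^ 2 • ι (KaehlerDifferential.D A B (u b : B))) := by
      funext k
      refine Fin.cases ?_ (fun j => ?_) k <;> simp
    rw [h4, AlternatingMap.map_update_smul]
    have h5 : Function.update (Fin.cons (ι (KaehlerDifferential.D A B (u b : B)))
          (fun _ : Fin 1 => ι (KaehlerDifferential.D A B (u b : B))) : Fin (1 + 1) → L) 0
          (ι (KaehlerDifferential.D A B (u b : B))) =
        fun _ => ι (KaehlerDifferential.D A B (u b : B)) := by
      funext k
      refine Fin.cases ?_ (fun j => ?_) k <;> simp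
    rw [h5, (exteriorPower.ιMulti B (1 + 1)).map_eq_zero_of_eq _ (i := 0) (j := 1) rfl
      (by decide), smul_zero]
  have hcomm' := comp_commute' lam ω' nabla d hd1' nablas hint
  apply le_antisymm
  · exact layer_le_layer' lam t bΩ hbΩ ω ι hι t' bΩ' hbΩ' ω' hι' nabla hc hcomm hcomm' u hR1 η hR2 p
  · exact layer_le_layer' lam t' bΩ' hbΩ' ω' ι hι' t bΩ hbΩ ω hι nabla hc hcomm' hcomm
      (fun i => (u i)⁻¹) hR1' (fun i => -η i) hR2' p

end Final

end Groth.Agent.Lib.LogConn70c
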