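import Groth.Prelude.Def_W4swconnpcurvhiggsLogLam
import Mathlib

/-!
# helper44: pieces `E_I` of a logarithmic λ-connection are stable under `B`

Lemmas on `LogConn.comp`, `LogConn.compProd`, `LogConn.piece` for a λ-connection with values in a free
module `L` on `ω` with `ι (d tᵢ) = tᵢ ωᵢ` and `d tᵢ` a basis of the Kähler differentials.
-/

set_option autoImplicit false
universe v u
open TensorProduct

namespace Groth.Agent.Lib.LogConnH44

section

variable {A : Type v} {B L E : Type u} [CommRing A] [CommRing B]
    [Algebra A B] [AddCommGroup L] [Module B L]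
    [AddCommGroup E] [Module B E] [Module A E] [IsScalarTower A B E]

theorem compProd_empty (nabla : E →ₗ[A] E ⊗[B] L) {n : ℕ} (ω : Module.Basis (Fin n) B L) :
    LogConn.compProd nabla ω ∅ = LinearMap.id := by
  simp [LogConn.compProd]

theorem compProd_insert (nabla : E →ₗ[A] E ⊗[B] L) {n : ℕ} (ω : Module.Basis (Fin n) B L)
    (a : Fin n) (s : Finset (Fin n)) (h : ∀ x ∈ s, a < x) :
    LogConn.compProd nabla ω (insert a s) = LogConn.comp nabla ω a ∘ₗ LogConn.compProd nabla ω s := by
  have h2 : a ∉ s := fun ha => lt_irrefl _ (h a ha)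
  unfold LogConn.compProd
  rw [Finset.sort_insert (· ≤ ·) (fun b hb => (h b hb).le) h2, List.foldr_cons]

theorem mem_piece_of_subset (nabla : E →ₗ[A] E ⊗[B] L) {n : ℕ} (ω : Module.Basis (Fin n) B L)
    (t : Fin n → B) {I J : Finset (Fin n)} (hJ : J ⊆ I) (e : E) :
    (∏ i ∈ I \ J, t i) • LogConn.compProd nabla ω J e ∈ LogConn.piece nabla ω t I := by
  unfold LogConn.piece
  refine Submodule.mem_iSup_of_mem J (Submodule.mem_iSup_of_mem (Finset.mem_powerset.2 hJ) ?_)
  exact ⟨e, rfl⟩

theorem piece_le_of_forall (nabla : E →ₗ[A] E ⊗[B] L) {n : ℕ} (ω : Module.Basis (Fin n) B L)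
    (t : Fin n → B) (I : Finset (Fin n)) (P : Submodule A E)
    (h : ∀ J, J ⊆ I → ∀ e : E, (∏ i ∈ I \ J, t i) • LogConn.compProd nabla ω J e ∈ P) :
    LogConn.piece nabla ω t I ≤ P := by
  unfold LogConn.piece
  refine iSup_le fun J => iSup_le fun hJ => ?_
  rintro _ ⟨e, rfl⟩
  exact h J (Finset.mem_powerset.1 hJ) e

/-- `t_{I∖J} • E_J ⊆ E_I` for `J ⊆ I`. -/
theorem prod_smul_mem_piece (nabla : E →ₗ[A] E ⊗[B] L) {n : ℕ} (ω : Module.Basis (Fin n) B L)
    (t : Fin n → B) {I J : Finset (Fin n)} (hJ : J ⊆ I) {x : E}
    (hx : x ∈ LogConn.piece nabla ω t J) :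
    (∏ i ∈ I \ J, t i) • x ∈ LogConn.piece nabla ω t I := by
  classical
  have : LogConn.piece nabla ω t J ≤ (LogConn.piece nabla ω t I).comap
      ((LinearMap.lsmul B E (∏ i ∈ I \ J, t i)).restrictScalars A) := by
    refine piece_le_of_forall nabla ω t J _ fun K hK e => ?_
    rw [Submodule.mem_comap]
    change (∏ i ∈ I \ J, t i) • ((∏ i ∈ J \ K, t i) • LogConn.compProd nabla ω K e) ∈ _
    rw [smul_smul, ← Finset.prod_union (by
      rw [Finset.disjoint_left]
      intro a ha hb
      exact (Finset.mem_sdiff.1 ha).2 (Finset.mem_sdiff.1 hb).1)]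
    have : I \ J ∪ J \ K = I \ K := by
      ext a
      simp only [Finset.mem_union, Finset.mem_sdiff]
      constructor
      · rintro (⟨h1, h2⟩ | ⟨h1, h2⟩)
        · exact ⟨h1, fun h => h2 (hK h)⟩
        · exact ⟨hJ h1, h2⟩
      · rintro ⟨h1, h2⟩
        by_cases h3 : a ∈ J
        · exact Or.inr ⟨h3, h2⟩
        · exact Or.inl ⟨h1, h3⟩
    rw [this]
    exact mem_piece_of_subset nabla ω t (hK.trans hJ) e
  exact this hx

end

section

variable {A : Type v} {B L E : Type u} [CommRing A] [CommRing B]
    [Algebra A B] [AddCommGroup L] [Module B L] [Module A L] [IsScalarTower A B L]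
    [AddCommGroup E] [Module B E] [Module A E] [IsScalarTower A B E]

omit [IsScalarTower A B L] in
/-- The twisted Leibniz rule for a component. -/
theorem comp_smul (δ : Derivation A B L) (lam : B) (nabla : E →ₗ[A] E ⊗[B] L)
    (hc : Conn.IsLamConn δ lam nabla) {n : ℕ} (ω : Module.Basis (Fin n) B L) (a : Fin n)
    (b : B) (x : E) :
    LogConn.comp nabla ω a (b • x) =
      b • LogConn.comp nabla ω a x + (lam * ω.coord a (δ b)) • x := by
  unfold LogConn.comp
  rw [Conn.along_apply, Conn.along_apply, hc b x, map_add, map_add, map_smul, map_smul, map_smul,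
    map_smul, TensorProduct.map_tmul, TensorProduct.rid_tmul, LinearMap.id_apply, smul_smul]

variable (lam : B) {n : ℕ} (t : Fin n → B) (bΩ : Module.Basis (Fin n) B (KaehlerDifferential A B))
    (hbΩ : ∀ i, bΩ i = KaehlerDifferential.D A B (t i))
    (ω : Module.Basis (Fin n) B L) (ι : KaehlerDifferential A B →ₗ[B] L)
    (hι : ∀ i, ι (KaehlerDifferential.D A B (t i)) = t i • ω i)

omit [Module A L] [IsScalarTower A B L] in
include hbΩ hι in
/-- `ωₐ^*(ι(db)) = tₐ · cₐ(b)` with `cₐ(b)` the `dtₐ`-coordinate of `db`. -/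
theorem coord_iota_D (a : Fin n) (b : B) :
    ω.coord a (ι (KaehlerDifferential.D A B b)) =
      t a * bΩ.coord a (KaehlerDifferential.D A B b) := by
  classical
  conv_lhs => rw [← bΩ.sum_repr (KaehlerDifferential.D A B b)]
  simp only [map_sum, map_smul, hbΩ, hι, Module.Basis.coord_apply, Module.Basis.repr_self,
    smul_eq_mul, Finsupp.single_apply]
  rw [Finset.sum_eq_single a]
  · simp [mul_comm]
  · intro b' _ hb'
    simp [hb']
  · simp

omit [Module A L] [IsScalarTower A B L] in
include hι in
theorem coord_iota_D_t (a i : Fin n) :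
    ω.coord a (ι (KaehlerDifferential.D A B (t i))) = if i = a then t a else 0 := by
  classical
  rw [hι, map_smul, Module.Basis.coord_apply, Module.Basis.repr_self, Finsupp.single_apply]
  split_ifs with h
  · subst h; simp
  · simp

omit [Module A L] [IsScalarTower A B L] in
include hι in
theorem coord_iota_D_prod (a : Fin n) (S : Finset (Fin n)) (ha : a ∉ S) :
    ω.coord a (ι (KaehlerDifferential.D A B (∏ i ∈ S, t i))) = 0 := by
  classical
  induction S using Finset.induction_on with
  | empty => simp
  | insert i S hi ih =>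
    rw [Finset.prod_insert hi, Derivation.leibniz, map_add, map_add, map_smul, map_smul,
      map_smul, map_smul, ih (fun h => ha (Finset.mem_insert_of_mem h)),
      coord_iota_D_t t ω ι hι, if_neg (fun h : i = a => ha (h ▸ Finset.mem_insert_self _ _))]
    simp

variable (nabla : E →ₗ[A] E ⊗[B] L)
    (hc : Conn.IsLamConn (ι.compDer (KaehlerDifferential.D A B)) lam nabla)

include hι hc in
/-- `∇ₐ(E_s) ⊆ E_{s ∪ {a}}` when `a` is smaller than all elements of `s`. -/
theorem comp_mem_piece_insert (a : Fin n) (s : Finset (Fin n)) (h : ∀ x ∈ s, a < x) {x : E}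
    (hx : x ∈ LogConn.piece nabla ω t s) :
    LogConn.comp nabla ω a x ∈ LogConn.piece nabla ω t (insert a s) := by
  classical
  have h2 : a ∉ s := fun ha => lt_irrefl _ (h a ha)
  have : LogConn.piece nabla ω t s ≤ (LogConn.piece nabla ω t (insert a s)).comap
      (LogConn.comp nabla ω a) := by
    refine piece_le_of_forall nabla ω t s _ fun K hK e => ?_
    rw [Submodule.mem_comap, comp_smul _ lam nabla hc]
    have h0 : ω.coord a ((ι.compDer (KaehlerDifferential.D A B)) (∏ i ∈ s \ K, t i)) = 0 :=
      coord_iota_D_prod t ω ι hι a (s \ K) (fun h => h2 (Finset.mem_sdiff.1 h).1)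
    rw [h0, mul_zero, zero_smul, add_zero]
    have h3 : LogConn.comp nabla ω a (LogConn.compProd nabla ω K e) =
        LogConn.compProd nabla ω (insert a K) e := by
      rw [compProd_insert nabla ω a K (fun x hx => h x (hK hx))]; rfl
    have h4 : s \ K = insert a s \ insert a K := by
      ext b
      simp only [Finset.mem_sdiff, Finset.mem_insert]
      constructor
      · rintro ⟨h5, h6⟩
        refine ⟨Or.inr h5, ?_⟩
        rintro (rfl | h7)
        · exact h2 h5
        · exact h6 h7
      · rintro ⟨h5 | h5, h6⟩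
        · exact absurd (Or.inl h5) h6
        · exact ⟨h5, fun h7 => h6 (Or.inr h7)⟩
    rw [h3, h4]
    exact mem_piece_of_subset nabla ω t (Finset.insert_subset_insert a hK) e
  exact this hx

include hbΩ hι hc in
/-- `b • ∇_J(e) ∈ E_J`. -/
theorem smul_compProd_mem_piece (J : Finset (Fin n)) :
    ∀ (b : B) (e : E), b • LogConn.compProd nabla ω J e ∈ LogConn.piece nabla ω t J := by
  classical
  induction J using Finset.induction_on_min with
  | empty =>
    intro b e
    have := mem_piece_of_subset nabla ω t (Finset.Subset.refl (∅ : Finset (Fin n))) (b • e)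
    simpa [compProd_empty] using this
  | insert a s h ih =>
    intro b e
    have h2 : a ∉ s := fun ha => lt_irrefl _ (h a ha)
    rw [compProd_insert nabla ω a s h, LinearMap.comp_apply]
    set x := LogConn.compProd nabla ω s e with hxdef
    have e1 : b • LogConn.comp nabla ω a x = LogConn.comp nabla ω a (b • x) -
        (∏ i ∈ insert a s \ s, t i) •
          ((lam * bΩ.coord a (KaehlerDifferential.D A B b)) • x) := by
      rw [comp_smul _ lam nabla hc]
      have e0 : (ι.compDer (KaehlerDifferential.D A B)) b = ι (KaehlerDifferential.D A B b) := rfl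
      rw [e0, coord_iota_D t bΩ hbΩ ω ι hι]
      have : insert a s \ s = {a} := by
        ext b
        simp only [Finset.mem_sdiff, Finset.mem_insert, Finset.mem_singleton]
        constructor
        · rintro ⟨h5 | h5, h6⟩
          · exact h5
          · exact absurd h5 h6
        · rintro rfl
          exact ⟨Or.inl rfl, h2⟩
      rw [this, Finset.prod_singleton, smul_smul]
      rw [show t a * (lam * bΩ.coord a (KaehlerDifferential.D A B b)) =
        lam * (t a * bΩ.coord a (KaehlerDifferential.D A B b)) by ring]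
      abel
    rw [e1]
    refine Submodule.sub_mem _ ?_ ?_
    · exact comp_mem_piece_insert lam t ω ι hι nabla hc a s h (ih b e)
    · exact prod_smul_mem_piece nabla ω t (Finset.subset_insert a s) (ih _ e)

include hbΩ hι hc in
/-- The piece `E_I` is stable under multiplication by `B`. -/
theorem smul_mem_piece (I : Finset (Fin n)) (b : B) {x : E}
    (hx : x ∈ LogConn.piece nabla ω t I) : b • x ∈ LogConn.piece nabla ω t I := by
  have : LogConn.piece nabla ω t I ≤ (LogConn.piece nabla ω t I).comap
      ((LinearMap.lsmul B E b).restrictScalars A) := by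
    refine piece_le_of_forall nabla ω t I _ fun J hJ e => ?_
    rw [Submodule.mem_comap]
    change b • ((∏ i ∈ I \ J, t i) • LogConn.compProd nabla ω J e) ∈ _
    rw [smul_comm]
    exact prod_smul_mem_piece nabla ω t hJ
      (smul_compProd_mem_piece lam t bΩ hbΩ ω ι hι nabla hc J b e)
  exact this hx

end

end Groth.Agent.Lib.LogConnH44
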