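import Groth.Agent.Lib.RDLES31
import Mathlib.CategoryTheory.Abelian.RightDerived
import Mathlib.CategoryTheory.Abelian.Refinements
import Mathlib.CategoryTheory.Preadditive.Injective.Preserves
import Mathlib.Algebra.Homology.ShortComplex.ExactFunctor

/-!
# Low-degree exact sequences for the derived functors of a composite (helper65)

Existence-form versions (no spectral sequence) of
* the five-term exact sequence of `Φ ⋙ Ψ`,
* `D n`: if `RʲΦ G = 0` for `1 ≤ j ≤ n` then `RᵐΨ(ΦG) ≅ Rᵐ(Φ⋙Ψ)G` for `m ≤ n` and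
  `0 ⟶ Rⁿ⁺¹Ψ(ΦG) ⟶ Rⁿ⁺¹(Φ⋙Ψ)G ⟶ Ψ(Rⁿ⁺¹ΦG)` is exact,
* `E n`: if `RᵖΨ(R^qΦ G) = 0` for `p, q ≥ 1`, `p + q ∈ {n, n+1}` then
  `Rⁿ(Φ⋙Ψ)G ⟶ Ψ(RⁿΦG) ⟶ Rⁿ⁺¹Ψ(ΦG) ⟶ Rⁿ⁺¹(Φ⋙Ψ)G` is exact,
all proved by dimension shifting from the long exact sequence of `Lib/RDLES31`.
-/

set_option autoImplicit false

universe v₁ v₂ v₃ u₁ u₂ u₃

open CategoryTheory Limits

namespace Groth.Agent.Lib.LowDeg65

section LES

variable {A : Type u₁} [Category.{v₁} A] [Abelian A] [EnoughInjectives A]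
  {B : Type u₂} [Category.{v₂} B] [Abelian B] (F : A ⥤ B) [F.Additive]

/-- chosen connecting morphisms. -/
noncomputable def δ {S : ShortComplex A} (hS : S.ShortExact) (n : ℕ) :
    (F.rightDerived n).obj S.X₃ ⟶ (F.rightDerived (n + 1)).obj S.X₁ :=
  Classical.choose (Groth.Agent.RDPlus31.rightDerived_les F hS) n

@[reassoc]
lemma f_g {S : ShortComplex A} (n : ℕ) :
    (F.rightDerived n).map S.f ≫ (F.rightDerived n).map S.g = 0 := by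
  rw [← Functor.map_comp, S.zero, Functor.map_zero]

variable {S : ShortComplex A} (hS : S.ShortExact)
include hS

lemma mono_zero : Mono ((F.rightDerived 0).map S.f) :=
  (Classical.choose_spec (Groth.Agent.RDPlus31.rightDerived_les F hS)).1

@[reassoc]
lemma g_δ (n : ℕ) : (F.rightDerived n).map S.g ≫ δ F hS n = 0 :=
  ((Classical.choose_spec (Groth.Agent.RDPlus31.rightDerived_les F hS)).2 n).2.1.choose

@[reassoc]
lemma δ_f (n : ℕ) : δ F hS n ≫ (F.rightDerived (n + 1)).map S.f = 0 :=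
  ((Classical.choose_spec (Groth.Agent.RDPlus31.rightDerived_les F hS)).2 n).2.2.choose

lemma exact₁ (n : ℕ) :
    (ShortComplex.mk _ _ (f_g F (S := S) n)).Exact :=
  ((Classical.choose_spec (Groth.Agent.RDPlus31.rightDerived_les F hS)).2 n).1.choose_spec

lemma exact₂ (n : ℕ) : (ShortComplex.mk _ _ (g_δ F hS n)).Exact :=
  ((Classical.choose_spec (Groth.Agent.RDPlus31.rightDerived_les F hS)).2 n).2.1.choose_spec

lemma exact₃ (n : ℕ) : (ShortComplex.mk _ _ (δ_f F hS n)).Exact :=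
  ((Classical.choose_spec (Groth.Agent.RDPlus31.rightDerived_les F hS)).2 n).2.2.choose_spec

/-- the connecting map is epi when the next middle term vanishes. -/
lemma epi_δ (n : ℕ) (h : IsZero ((F.rightDerived (n + 1)).obj S.X₂)) : Epi (δ F hS n) :=
  (exact₃ F hS n).epi_f (h.eq_of_tgt _ _)

lemma mono_δ (n : ℕ) (h : IsZero ((F.rightDerived n).obj S.X₂)) : Mono (δ F hS n) :=
  (exact₂ F hS n).mono_g (h.eq_of_src _ _)

lemma isIso_δ (n : ℕ) (h : IsZero ((F.rightDerived n).obj S.X₂))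
    (h' : IsZero ((F.rightDerived (n + 1)).obj S.X₂)) : IsIso (δ F hS n) := by
  have := epi_δ F hS n h'
  have := mono_δ F hS n h
  exact isIso_of_mono_of_epi _

/-- map induced on `Rⁿ` by `S.g` is mono if `Rⁿ F X₁ = 0`. -/
lemma mono_map_g (n : ℕ) (h : IsZero ((F.rightDerived n).obj S.X₁)) :
    Mono ((F.rightDerived n).map S.g) :=
  (exact₁ F hS n).mono_g (h.eq_of_src _ _)

lemma epi_map_g (n : ℕ) (h : IsZero ((F.rightDerived (n + 1)).obj S.X₁)) :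
    Epi ((F.rightDerived n).map S.g) :=
  (exact₂ F hS n).epi_f (h.eq_of_tgt _ _)

lemma mono_map_f (n : ℕ) (h : IsZero ((F.rightDerived n).obj S.X₃)) :
    Mono ((F.rightDerived (n + 1)).map S.f) :=
  (exact₃ F hS n).mono_g (h.eq_of_src _ _)

lemma epi_map_f (n : ℕ) (h : IsZero ((F.rightDerived n).obj S.X₃)) :
    Epi ((F.rightDerived n).map S.f) :=
  (exact₁ F hS n).epi_f (h.eq_of_tgt _ _)

end LES

section LeftExact

variable {A : Type u₁} [Category.{v₁} A] [Abelian A] [EnoughInjectives A]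
  {B : Type u₂} [Category.{v₂} B] [Abelian B] (F : A ⥤ B) [F.Additive] [PreservesFiniteLimits F]
  {S : ShortComplex A} (hS : S.ShortExact)

omit [EnoughInjectives A] [F.Additive] [Abelian B] in
include hS in
lemma mono_map_f_of_leftExact : Mono (F.map S.f) := by
  have := hS.mono_f
  infer_instance

omit [EnoughInjectives A] in
include hS in
lemma exact_map_of_leftExact : (S.map F).Exact :=
  hS.exact.map_of_mono_of_preservesKernel F hS.mono_f inferInstance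

/-- the connecting morphism `F X₃ ⟶ R¹F X₁` of a left exact functor. -/
noncomputable def δ' : F.obj S.X₃ ⟶ (F.rightDerived 1).obj S.X₁ :=
  F.rightDerivedZeroIsoSelf.inv.app S.X₃ ≫ δ F hS 0

@[reassoc]
lemma map_g_δ' : F.map S.g ≫ δ' F hS = 0 := by
  unfold δ'
  rw [← Category.assoc, F.rightDerivedZeroIsoSelf.inv.naturality, Category.assoc, g_δ, comp_zero]

@[reassoc]
lemma δ'_f : δ' F hS ≫ (F.rightDerived 1).map S.f = 0 := by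
  unfold δ'
  rw [Category.assoc, δ_f, comp_zero]

lemma exact_δ' : (ShortComplex.mk _ _ (map_g_δ' F hS)).Exact := by
  refine (ShortComplex.exact_iff_of_iso (S₁ := ShortComplex.mk _ _ (g_δ F hS 0))
    (S₂ := ShortComplex.mk _ _ (map_g_δ' F hS))
    (ShortComplex.isoMk
    (F.rightDerivedZeroIsoSelf.app S.X₂) (F.rightDerivedZeroIsoSelf.app S.X₃) (Iso.refl _)
    ?_ ?_)).1 (exact₂ F hS 0)
  · exact (F.rightDerivedZeroIsoSelf.hom.naturality S.g).symm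
  · dsimp [δ']
    simp

lemma exact_δ'_f : (ShortComplex.mk _ _ (δ'_f F hS)).Exact := by
  refine (ShortComplex.exact_iff_of_iso (S₁ := ShortComplex.mk _ _ (δ_f F hS 0))
    (S₂ := ShortComplex.mk _ _ (δ'_f F hS))
    (ShortComplex.isoMk
    (F.rightDerivedZeroIsoSelf.app S.X₃) (Iso.refl _) (Iso.refl _) ?_ ?_)).1 (exact₃ F hS 0)
  · dsimp [δ']
    simp
  · simp

lemma epi_δ' (h : IsZero ((F.rightDerived 1).obj S.X₂)) : Epi (δ' F hS) := by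
  have := epi_δ F hS 0 h
  unfold δ'
  infer_instance

end LeftExact

section Setup

variable {A : Type u₁} [Category.{v₁} A] [Abelian A] [EnoughInjectives A]
  {B : Type u₂} [Category.{v₂} B] [Abelian B] [EnoughInjectives B]
  {C : Type u₃} [Category.{v₃} C] [Abelian C]
  (Φ : A ⥤ B) [Φ.Additive] [PreservesFiniteLimits Φ] [Φ.PreservesInjectiveObjects]
  (Ψ : B ⥤ C) [Ψ.Additive] [PreservesFiniteLimits Ψ]
  (G : A)

/-- the first cosyzygy of `G`. -/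
noncomputable abbrev cosyz : A := cokernel (Injective.ι G)

/-- the chosen short exact sequence `0 ⟶ G ⟶ I ⟶ cosyz G ⟶ 0` with `I` injective. -/
noncomputable abbrev sG : ShortComplex A :=
  ShortComplex.mk (Injective.ι G) (cokernel.π (Injective.ι G)) (cokernel.condition _)

omit [EnoughInjectives A] in
lemma sG_shortExact [EnoughInjectives A] : (sG G).ShortExact where
  exact := ShortComplex.exact_of_g_is_cokernel _ (cokernelIsCokernel _)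

omit [EnoughInjectives B] in
lemma isZero_mid {D : Type*} [Category D] [Abelian D] (F : A ⥤ D) [F.Additive] (k : ℕ) :
    IsZero ((F.rightDerived (k + 1)).obj (sG G).X₂) :=
  Functor.isZero_rightDerived_obj_injective_succ F k (Injective.under G)

/-- `ΦC ⟶ R¹ΦG`. -/
noncomputable abbrev dΦ : Φ.obj (cosyz G) ⟶ (Φ.rightDerived 1).obj G :=
  δ' Φ (sG_shortExact G)

instance : Epi (dΦ Φ G) := epi_δ' Φ (sG_shortExact G) (isZero_mid G Φ 0)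

/-- the image of `ΦI ⟶ ΦC`. -/
noncomputable abbrev imB : B := kernel (dΦ Φ G)

noncomputable abbrev ιB : imB Φ G ⟶ Φ.obj (cosyz G) := kernel.ι (dΦ Φ G)

noncomputable abbrev πB : Φ.obj (Injective.under G) ⟶ imB Φ G :=
  kernel.lift (dΦ Φ G) (Φ.map (cokernel.π (Injective.ι G))) (map_g_δ' Φ (sG_shortExact G))

@[reassoc]
lemma πB_ιB : πB Φ G ≫ ιB Φ G = Φ.map (cokernel.π (Injective.ι G)) := kernel.lift_ι _ _ _

instance : Epi (πB Φ G) :=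
  (ShortComplex.exact_iff_epi_kernel_lift _).1 (exact_δ' Φ (sG_shortExact G))

/-- `0 ⟶ ΦG ⟶ ΦI ⟶ B ⟶ 0`. -/
noncomputable abbrev s1 : ShortComplex B :=
  ShortComplex.mk (Φ.map (Injective.ι G)) (πB Φ G) (by
    rw [← cancel_mono (ιB Φ G), Category.assoc, πB_ιB, zero_comp, ← Φ.map_comp,
      cokernel.condition, Φ.map_zero])

/-- `0 ⟶ B ⟶ ΦC ⟶ R¹ΦG ⟶ 0`. -/
noncomputable abbrev s2 : ShortComplex B :=
  ShortComplex.mk (ιB Φ G) (dΦ Φ G) (kernel.condition _)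

lemma s2_shortExact : (s2 Φ G).ShortExact where
  exact := ShortComplex.exact_of_f_is_kernel _ (kernelIsKernel _)

lemma s1_shortExact : (s1 Φ G).ShortExact where
  exact := by
    rw [ShortComplex.exact_iff_exact_up_to_refinements]
    intro T x hx
    have hx' : x ≫ Φ.map (cokernel.π (Injective.ι G)) = 0 := by
      rw [← πB_ιB, ← Category.assoc]
      dsimp at hx
      rw [hx, zero_comp]
    obtain ⟨T', π, hπ, y, hy⟩ :=
      (exact_map_of_leftExact Φ (sG_shortExact G)).exact_up_to_refinements x hx'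
    exact ⟨T', π, hπ, y, hy⟩
  mono_f := mono_map_f_of_leftExact Φ (sG_shortExact G)

instance : Injective (s1 Φ G).X₂ := by
  dsimp
  infer_instance

lemma isZero_mid_s1 (k : ℕ) : IsZero ((Ψ.rightDerived (k + 1)).obj (s1 Φ G).X₂) :=
  Functor.isZero_rightDerived_obj_injective_succ Ψ k _

instance preservesFiniteLimits_comp : PreservesFiniteLimits (Φ ⋙ Ψ) :=
  comp_preservesFiniteLimits Φ Ψ

/-- `ΨB ⟶ R¹Ψ(ΦG)`. -/
noncomputable abbrev d1 : Ψ.obj (imB Φ G) ⟶ (Ψ.rightDerived 1).obj (Φ.obj G) :=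
  δ' Ψ (s1_shortExact Φ G)

instance : Epi (d1 Φ Ψ G) := epi_δ' Ψ _ (isZero_mid_s1 Φ Ψ G 0)

/-- `ΨΦC ⟶ R¹(Φ⋙Ψ)G`. -/
noncomputable abbrev d2 : Ψ.obj (Φ.obj (cosyz G)) ⟶ ((Φ ⋙ Ψ).rightDerived 1).obj G :=
  δ' (Φ ⋙ Ψ) (sG_shortExact G)

instance : Epi (d2 Φ Ψ G) := epi_δ' (Φ ⋙ Ψ) _ (isZero_mid G (Φ ⋙ Ψ) 0)

/-- `Ψ(R¹ΦG) ⟶ R¹Ψ(B)`. -/
noncomputable abbrev d3 : Ψ.obj ((Φ.rightDerived 1).obj G) ⟶ (Ψ.rightDerived 1).obj (imB Φ G) :=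
  δ' Ψ (s2_shortExact Φ G)

lemma edgeA_aux : Ψ.map (πB Φ G) ≫ Ψ.map (ιB Φ G) ≫ d2 Φ Ψ G = 0 := by
  rw [← Category.assoc, ← Ψ.map_comp, πB_ιB]
  exact map_g_δ' (Φ ⋙ Ψ) (sG_shortExact G)

/-- the edge map `R¹Ψ(ΦG) ⟶ R¹(Φ⋙Ψ)G`. -/
noncomputable def edgeA : (Ψ.rightDerived 1).obj (Φ.obj G) ⟶ ((Φ ⋙ Ψ).rightDerived 1).obj G :=
  (exact_δ' Ψ (s1_shortExact Φ G)).desc (Ψ.map (ιB Φ G) ≫ d2 Φ Ψ G) (edgeA_aux Φ Ψ G)

@[reassoc]
lemma d1_edgeA : d1 Φ Ψ G ≫ edgeA Φ Ψ G = Ψ.map (ιB Φ G) ≫ d2 Φ Ψ G :=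
  (exact_δ' Ψ (s1_shortExact Φ G)).g_desc _ _

lemma edgeB_aux : (Φ ⋙ Ψ).map (cokernel.π (Injective.ι G)) ≫ Ψ.map (dΦ Φ G) = 0 := by
  dsimp
  rw [← Ψ.map_comp]
  have := map_g_δ' Φ (sG_shortExact G)
  dsimp at this
  rw [this, Ψ.map_zero]

/-- the edge map `R¹(Φ⋙Ψ)G ⟶ Ψ(R¹ΦG)`. -/
noncomputable def edgeB : ((Φ ⋙ Ψ).rightDerived 1).obj G ⟶ Ψ.obj ((Φ.rightDerived 1).obj G) :=
  (exact_δ' (Φ ⋙ Ψ) (sG_shortExact G)).desc (Ψ.map (dΦ Φ G)) (edgeB_aux Φ Ψ G)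

@[reassoc]
lemma d2_edgeB : d2 Φ Ψ G ≫ edgeB Φ Ψ G = Ψ.map (dΦ Φ G) :=
  (exact_δ' (Φ ⋙ Ψ) (sG_shortExact G)).g_desc _ _

instance : Mono (Ψ.map (ιB Φ G)) := inferInstance

instance mono_edgeA : Mono (edgeA Φ Ψ G) := by
  rw [Preadditive.mono_iff_cancel_zero]
  intro T x hx
  obtain ⟨T', π, hπ, y, hy⟩ := surjective_up_to_refinements_of_epi (d1 Φ Ψ G) x
  have h1 : (y ≫ Ψ.map (ιB Φ G)) ≫ d2 Φ Ψ G = 0 := by
    rw [Category.assoc, ← d1_edgeA, ← Category.assoc, ← hy, Category.assoc, hx, comp_zero]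
  obtain ⟨T'', π', hπ', z, hz⟩ :=
    (exact_δ' (Φ ⋙ Ψ) (sG_shortExact G)).exact_up_to_refinements _ h1
  dsimp at z hz
  have h2 : π' ≫ y = z ≫ Ψ.map (πB Φ G) := by
    rw [← cancel_mono (Ψ.map (ιB Φ G)), Category.assoc, Category.assoc, ← Ψ.map_comp, πB_ιB]
    exact hz
  have h3 : (π' ≫ π) ≫ x = 0 := by
    rw [Category.assoc, hy, ← Category.assoc, h2, Category.assoc]
    have := map_g_δ' Ψ (s1_shortExact Φ G)
    dsimp at this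
    rw [this, comp_zero]
  have : Epi (π' ≫ π) := epi_comp _ _
  exact (cancel_epi (π' ≫ π)).1 (h3.trans comp_zero.symm)

@[reassoc]
lemma edgeA_edgeB : edgeA Φ Ψ G ≫ edgeB Φ Ψ G = 0 := by
  rw [← cancel_epi (d1 Φ Ψ G), d1_edgeA_assoc, d2_edgeB, comp_zero, ← Ψ.map_comp,
    kernel.condition, Ψ.map_zero]

lemma exact_edgeA_edgeB : (ShortComplex.mk _ _ (edgeA_edgeB Φ Ψ G)).Exact := by
  rw [ShortComplex.exact_iff_exact_up_to_refinements]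
  intro T x hx
  dsimp at x hx
  obtain ⟨T', π, hπ, y, hy⟩ := surjective_up_to_refinements_of_epi (d2 Φ Ψ G) x
  have h1 : y ≫ Ψ.map (dΦ Φ G) = 0 := by
    rw [← d2_edgeB, ← Category.assoc, ← hy, Category.assoc, hx, comp_zero]
  obtain ⟨T'', π', hπ', z, hz⟩ :=
    (exact_map_of_leftExact Ψ (s2_shortExact Φ G)).exact_up_to_refinements y h1
  change T'' ⟶ Ψ.obj (imB Φ G) at z
  change π' ≫ y = z ≫ Ψ.map (ιB Φ G) at hz
  refine ⟨T'', π' ≫ π, epi_comp _ _, z ≫ d1 Φ Ψ G, ?_⟩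
  rw [Category.assoc, hy, ← Category.assoc, hz, Category.assoc, Category.assoc, d1_edgeA]

@[reassoc]
lemma edgeB_d3 : edgeB Φ Ψ G ≫ d3 Φ Ψ G = 0 := by
  rw [← cancel_epi (d2 Φ Ψ G), d2_edgeB_assoc, comp_zero]
  exact map_g_δ' Ψ (s2_shortExact Φ G)

lemma exact_edgeB_d3 : (ShortComplex.mk _ _ (edgeB_d3 Φ Ψ G)).Exact := by
  rw [ShortComplex.exact_iff_exact_up_to_refinements]
  intro T x hx
  dsimp at x hx
  obtain ⟨T', π, hπ, y, hy⟩ :=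
    (exact_δ' Ψ (s2_shortExact Φ G)).exact_up_to_refinements x hx
  dsimp at y hy
  refine ⟨T', π, hπ, y ≫ d2 Φ Ψ G, ?_⟩
  rw [Category.assoc, d2_edgeB, hy]

/-- `Rᵏ⁺¹Ψ(B) ≅ Rᵏ⁺²Ψ(ΦG)`. -/
noncomputable def shift1 (k : ℕ) :
    (Ψ.rightDerived (k + 1)).obj (imB Φ G) ≅ (Ψ.rightDerived (k + 2)).obj (Φ.obj G) :=
  have := isIso_δ Ψ (s1_shortExact Φ G) (k + 1) (isZero_mid_s1 Φ Ψ G k)
    (isZero_mid_s1 Φ Ψ G (k + 1))
  asIso (δ Ψ (s1_shortExact Φ G) (k + 1))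

omit [EnoughInjectives B] in
/-- `Rᵏ⁺¹F(cosyz G) ≅ Rᵏ⁺²F(G)` for any additive `F`. -/
noncomputable def shiftG {D : Type*} [Category D] [Abelian D] (F : A ⥤ D) [F.Additive] (k : ℕ) :
    (F.rightDerived (k + 1)).obj (cosyz G) ≅ (F.rightDerived (k + 2)).obj G :=
  have := isIso_δ F (sG_shortExact G) (k + 1) (isZero_mid G F k) (isZero_mid G F (k + 1))
  asIso (δ F (sG_shortExact G) (k + 1))

/-- the transgression `Ψ(R¹ΦG) ⟶ R²Ψ(ΦG)`. -/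
noncomputable def edgeT : Ψ.obj ((Φ.rightDerived 1).obj G) ⟶ (Ψ.rightDerived 2).obj (Φ.obj G) :=
  d3 Φ Ψ G ≫ (shift1 Φ Ψ G 0).hom

/-- the edge map `R²Ψ(ΦG) ⟶ R²(Φ⋙Ψ)G`. -/
noncomputable def edgeE : (Ψ.rightDerived 2).obj (Φ.obj G) ⟶ ((Φ ⋙ Ψ).rightDerived 2).obj G :=
  (shift1 Φ Ψ G 0).inv ≫ (Ψ.rightDerived 1).map (ιB Φ G) ≫ edgeA Φ Ψ (cosyz G) ≫
    (shiftG G (Φ ⋙ Ψ) 0).hom

@[reassoc]
lemma edgeB_edgeT : edgeB Φ Ψ G ≫ edgeT Φ Ψ G = 0 := by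
  unfold edgeT
  rw [edgeB_d3_assoc, zero_comp]

lemma exact_edgeB_edgeT : (ShortComplex.mk _ _ (edgeB_edgeT Φ Ψ G)).Exact := by
  refine (ShortComplex.exact_iff_of_iso (S₁ := ShortComplex.mk _ _ (edgeB_d3 Φ Ψ G))
    (S₂ := ShortComplex.mk _ _ (edgeB_edgeT Φ Ψ G))
    (ShortComplex.isoMk (Iso.refl _) (Iso.refl _) (shift1 Φ Ψ G 0) ?_ ?_)).1
    (exact_edgeB_d3 Φ Ψ G)
  · simp
  · simp [edgeT]

@[reassoc]
lemma edgeT_edgeE : edgeT Φ Ψ G ≫ edgeE Φ Ψ G = 0 := by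
  unfold edgeT edgeE
  have := δ'_f Ψ (s2_shortExact Φ G)
  dsimp at this
  rw [Category.assoc, Iso.hom_inv_id_assoc, reassoc_of% this, zero_comp]

lemma exact_edgeT_edgeE : (ShortComplex.mk _ _ (edgeT_edgeE Φ Ψ G)).Exact := by
  let φ : ShortComplex.mk _ _ (δ'_f Ψ (s2_shortExact Φ G)) ⟶
      ShortComplex.mk _ _ (edgeT_edgeE Φ Ψ G) :=
    { τ₁ := 𝟙 _
      τ₂ := (shift1 Φ Ψ G 0).hom
      τ₃ := edgeA Φ Ψ (cosyz G) ≫ (shiftG G (Φ ⋙ Ψ) 0).hom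
      comm₁₂ := by simp [edgeT]
      comm₂₃ := by simp [edgeE] }
  have h1 : Epi φ.τ₁ := by dsimp [φ]; infer_instance
  have h2 : IsIso φ.τ₂ := by dsimp [φ]; infer_instance
  have h3 : Mono φ.τ₃ := by dsimp [φ]; infer_instance
  exact (ShortComplex.exact_iff_of_epi_of_isIso_of_mono φ).1 (exact_δ'_f Ψ (s2_shortExact Φ G))

/-- **Five-term exact sequence** of `Φ ⋙ Ψ` (existence form). -/
theorem fiveTerm :
    ∃ (a : (Ψ.rightDerived 1).obj (Φ.obj G) ⟶ ((Φ ⋙ Ψ).rightDerived 1).obj G)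
      (b : ((Φ ⋙ Ψ).rightDerived 1).obj G ⟶ Ψ.obj ((Φ.rightDerived 1).obj G))
      (t : Ψ.obj ((Φ.rightDerived 1).obj G) ⟶ (Ψ.rightDerived 2).obj (Φ.obj G))
      (e : (Ψ.rightDerived 2).obj (Φ.obj G) ⟶ ((Φ ⋙ Ψ).rightDerived 2).obj G),
      Mono a ∧ (∃ w, (ShortComplex.mk a b w).Exact) ∧ (∃ w, (ShortComplex.mk b t w).Exact) ∧
        (∃ w, (ShortComplex.mk t e w).Exact) :=
  ⟨edgeA Φ Ψ G, edgeB Φ Ψ G, edgeT Φ Ψ G, edgeE Φ Ψ G, inferInstance,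
    ⟨_, exact_edgeA_edgeB Φ Ψ G⟩, ⟨_, exact_edgeB_edgeT Φ Ψ G⟩, ⟨_, exact_edgeT_edgeE Φ Ψ G⟩⟩

lemma isIso_ιB (h : IsZero ((Φ.rightDerived 1).obj G)) : IsIso (ιB Φ G) :=
  KernelFork.IsLimit.isIso_ι (KernelFork.ofι _ (kernel.condition (dΦ Φ G))) (kernelIsKernel _)
    (h.eq_of_tgt _ _)

end Setup

section Transport

variable {C : Type u₃} [Category.{v₃} C] [Abelian C]

lemma exact_transport {X Y Z X' Y' Z' : C} (a : X ⟶ Y) (b : Y ⟶ Z) (w : a ≫ b = 0)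
    (h : (ShortComplex.mk a b w).Exact) (α : X ≅ X') (β : Y ≅ Y') (γ : Z ≅ Z') :
    ∃ w', (ShortComplex.mk (α.inv ≫ a ≫ β.hom) (β.inv ≫ b ≫ γ.hom) w').Exact := by
  have w' : (α.inv ≫ a ≫ β.hom) ≫ (β.inv ≫ b ≫ γ.hom) = 0 := by
    simp [reassoc_of% w]
  refine ⟨w', (ShortComplex.exact_iff_of_iso (S₁ := ShortComplex.mk a b w)
    (S₂ := ShortComplex.mk _ _ w') (ShortComplex.isoMk α β γ ?_ ?_)).1 h⟩
  · simp
  · simp

end Transport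

section Induction

variable {A : Type u₁} [Category.{v₁} A] [Abelian A] [EnoughInjectives A]
  {B : Type u₂} [Category.{v₂} B] [Abelian B] [EnoughInjectives B]
  {C : Type u₃} [Category.{v₃} C] [Abelian C]
  (Φ : A ⥤ B) [Φ.Additive] [PreservesFiniteLimits Φ] [Φ.PreservesInjectiveObjects]
  (Ψ : B ⥤ C) [Ψ.Additive] [PreservesFiniteLimits Ψ]

omit [EnoughInjectives B] [PreservesFiniteLimits Φ] [Φ.PreservesInjectiveObjects] in
/-- the vanishing hypothesis passes to the cosyzygy. -/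
lemma isZero_cosyz (G : A) (n : ℕ)
    (h : ∀ j, 1 ≤ j → j ≤ n + 1 → IsZero ((Φ.rightDerived j).obj G)) :
    ∀ j, 1 ≤ j → j ≤ n → IsZero ((Φ.rightDerived j).obj (cosyz G)) := by
  intro j hj hjn
  obtain ⟨k, rfl⟩ : ∃ k, j = k + 1 := ⟨j - 1, by omega⟩
  exact (h (k + 2) (by omega) (by omega)).of_iso (shiftG G Φ k)

/-- when `R¹ΦG = 0`: `Rᵏ⁺¹Ψ(ΦC) ≅ Rᵏ⁺²Ψ(ΦG)`. -/
noncomputable def shiftΨ (G : A) (h : IsZero ((Φ.rightDerived 1).obj G)) (k : ℕ) :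
    (Ψ.rightDerived (k + 1)).obj (Φ.obj (cosyz G)) ≅ (Ψ.rightDerived (k + 2)).obj (Φ.obj G) :=
  have := isIso_ιB Φ G h
  ((Ψ.rightDerived (k + 1)).mapIso (asIso (ιB Φ G))).symm ≪≫ shift1 Φ Ψ G k

/-- **`D n`, isomorphism part.** -/
theorem D_iso (n : ℕ) : ∀ (G : A), (∀ j, 1 ≤ j → j ≤ n → IsZero ((Φ.rightDerived j).obj G)) →
    ∀ m, m ≤ n → Nonempty ((Ψ.rightDerived m).obj (Φ.obj G) ≅ ((Φ ⋙ Ψ).rightDerived m).obj G) := by
  have h0 : ∀ G : A, Nonempty ((Ψ.rightDerived 0).obj (Φ.obj G) ≅ ((Φ ⋙ Ψ).rightDerived 0).obj G) :=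
    fun G => ⟨Ψ.rightDerivedZeroIsoSelf.app (Φ.obj G) ≪≫
      ((Φ ⋙ Ψ).rightDerivedZeroIsoSelf.app G).symm⟩
  induction n with
  | zero =>
    intro G _ m hm
    obtain rfl : m = 0 := by omega
    exact h0 G
  | succ n ih =>
    intro G hG m hm
    have hG1 : IsZero ((Φ.rightDerived 1).obj G) := hG 1 le_rfl (by omega)
    match m, hm with
    | 0, _ => exact h0 G
    | 1, _ =>
      have hepi : Epi (edgeA Φ Ψ G) :=
        (exact_edgeA_edgeB Φ Ψ G).epi_f ((Ψ.map_isZero hG1).eq_of_tgt _ _)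
      have : IsIso (edgeA Φ Ψ G) := isIso_of_mono_of_epi _
      exact ⟨asIso (edgeA Φ Ψ G)⟩
    | m + 2, hm =>
      obtain ⟨e⟩ := ih (cosyz G) (isZero_cosyz Φ G n hG) (m + 1) (by omega)
      exact ⟨(shiftΨ Φ Ψ G hG1 m).symm ≪≫ e ≪≫ shiftG G (Φ ⋙ Ψ) m⟩

/-- **`D n`, exact sequence part**: `0 ⟶ Rⁿ⁺¹Ψ(ΦG) ⟶ Rⁿ⁺¹(Φ⋙Ψ)G ⟶ Ψ(Rⁿ⁺¹ΦG)`. -/
theorem D_seq (n : ℕ) : ∀ (G : A), (∀ j, 1 ≤ j → j ≤ n → IsZero ((Φ.rightDerived j).obj G)) →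
    ∃ (a : (Ψ.rightDerived (n + 1)).obj (Φ.obj G) ⟶ ((Φ ⋙ Ψ).rightDerived (n + 1)).obj G)
      (b : ((Φ ⋙ Ψ).rightDerived (n + 1)).obj G ⟶ Ψ.obj ((Φ.rightDerived (n + 1)).obj G)),
      Mono a ∧ ∃ w, (ShortComplex.mk a b w).Exact := by
  induction n with
  | zero =>
    intro G _
    exact ⟨edgeA Φ Ψ G, edgeB Φ Ψ G, inferInstance, _, exact_edgeA_edgeB Φ Ψ G⟩
  | succ n ih =>
    intro G hG
    have hG1 : IsZero ((Φ.rightDerived 1).obj G) := hG 1 le_rfl (by omega)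
    obtain ⟨a, b, ha, w, hab⟩ := ih (cosyz G) (isZero_cosyz Φ G n hG)
    obtain ⟨w', h'⟩ := exact_transport a b w hab (shiftΨ Φ Ψ G hG1 n) (shiftG G (Φ ⋙ Ψ) n)
      (Ψ.mapIso (shiftG G Φ n))
    exact ⟨_, _, inferInstance, w', h'⟩

/-- the vanishing hypothesis of `E_seq`: `RᵖΨ(R^qΦ G) = 0` for `p, q ≥ 1`, `p + q ∈ {n, n + 1}`. -/
def Box (n : ℕ) (G : A) : Prop :=
  ∀ p q, 1 ≤ p → 1 ≤ q → (p + q = n ∨ p + q = n + 1) →
    IsZero ((Ψ.rightDerived p).obj ((Φ.rightDerived q).obj G))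

omit [EnoughInjectives B] [PreservesFiniteLimits Φ] [Φ.PreservesInjectiveObjects]
  [PreservesFiniteLimits Ψ] in
lemma box_cosyz [EnoughInjectives B] (n : ℕ) (G : A) (h : Box Φ Ψ (n + 1) G) :
    Box Φ Ψ n (cosyz G) := by
  intro p q hp hq hpq
  obtain ⟨k, rfl⟩ : ∃ k, q = k + 1 := ⟨q - 1, by omega⟩
  exact (h p (k + 2) hp (by omega) (by omega)).of_iso
    ((Ψ.rightDerived p).mapIso (shiftG G Φ k))

lemma isIso_map_ιB (G : A) (n : ℕ)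
    (h0 : IsZero ((Ψ.rightDerived n).obj ((Φ.rightDerived 1).obj G)))
    (h1 : IsZero ((Ψ.rightDerived (n + 1)).obj ((Φ.rightDerived 1).obj G))) :
    IsIso ((Ψ.rightDerived (n + 1)).map (ιB Φ G)) := by
  have := mono_map_f Ψ (s2_shortExact Φ G) n h0
  have := epi_map_f Ψ (s2_shortExact Φ G) (n + 1) h1
  exact isIso_of_mono_of_epi _

/-- **`E (n+1)`**: `Rⁿ⁺¹(Φ⋙Ψ)G ⟶ Ψ(Rⁿ⁺¹ΦG) ⟶ Rⁿ⁺²Ψ(ΦG) ⟶ Rⁿ⁺²(Φ⋙Ψ)G` is exact when
`RᵖΨ(R^qΦ G) = 0` for `p, q ≥ 1`, `p + q ∈ {n + 1, n + 2}`. -/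
theorem E_seq (n : ℕ) : ∀ (G : A), Box Φ Ψ (n + 1) G →
    ∃ (a : ((Φ ⋙ Ψ).rightDerived (n + 1)).obj G ⟶ Ψ.obj ((Φ.rightDerived (n + 1)).obj G))
      (t : Ψ.obj ((Φ.rightDerived (n + 1)).obj G) ⟶ (Ψ.rightDerived (n + 2)).obj (Φ.obj G))
      (e : (Ψ.rightDerived (n + 2)).obj (Φ.obj G) ⟶ ((Φ ⋙ Ψ).rightDerived (n + 2)).obj G),
      (∃ w, (ShortComplex.mk a t w).Exact) ∧ (∃ w, (ShortComplex.mk t e w).Exact) := by
  induction n with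
  | zero =>
    intro G _
    exact ⟨edgeB Φ Ψ G, edgeT Φ Ψ G, edgeE Φ Ψ G, ⟨_, exact_edgeB_edgeT Φ Ψ G⟩,
      ⟨_, exact_edgeT_edgeE Φ Ψ G⟩⟩
  | succ n ih =>
    intro G hG
    obtain ⟨a, t, e, ⟨w1, h1⟩, ⟨w2, h2⟩⟩ := ih (cosyz G) (box_cosyz Φ Ψ (n + 1) G hG)
    have := isIso_map_ιB Φ Ψ G (n + 1) (hG (n + 1) 1 (by omega) le_rfl (by omega))
      (hG (n + 2) 1 (by omega) le_rfl (by omega))
    let α := shiftG G (Φ ⋙ Ψ) n
    let β := Ψ.mapIso (shiftG G Φ n)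
    let γ : (Ψ.rightDerived (n + 2)).obj (Φ.obj (cosyz G)) ≅
        (Ψ.rightDerived (n + 3)).obj (Φ.obj G) :=
      (asIso ((Ψ.rightDerived (n + 2)).map (ιB Φ G))).symm ≪≫ shift1 Φ Ψ G (n + 1)
    let ε := shiftG G (Φ ⋙ Ψ) (n + 1)
    obtain ⟨w1', h1'⟩ := exact_transport a t w1 h1 α β γ
    obtain ⟨w2', h2'⟩ := exact_transport t e w2 h2 β γ ε
    exact ⟨_, _, _, ⟨w1', h1'⟩, ⟨w2', h2'⟩⟩

end Induction

end Groth.Agent.Lib.LowDeg65
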