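import Groth.Agent.Lib.LpullComp35
import Groth.Agent.Lib.DerivedAdj66
import Groth.Agent.Lib.KInjMain31
import Groth.Agent.Lib.KInjComp31
import Groth.Agent.S0484

/-!
# The derived adjunction `Lf^* ⊣ Rf_*` on unbounded `D(O)` and `R(gf)_* = Rg_* Rf_*` (helper35)

Hypothesis form (`AcycHyp`, `KFlatHyp` of `LpullKFlat35`).
* `isLeftDerivedFunctor_of_isIso_kflat`: recognition of left derived functors on K-flat complexes;
* `isRightDerivedFunctor_of_isIso_kinj`: recognition of right derived functors on K-injective complexes;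
* `nonempty_lpull_adj hf : Nonempty (Lpull f ⊣ Rpush f)`;
* `nonempty_rpush_comp`: `Rpush f ⋙ Rpush g ≅ Rpush (f ≫ g)`.
-/

set_option autoImplicit false
universe u
open CategoryTheory Limits AlgebraicGeometry
attribute [local instance] HasDerivedCategory.standard

namespace Groth.Agent.Lib.LpullKFlat35

/-- enough K-injectives in `X.Modules` -/
theorem hKinj (X : Scheme.{u}) : ∀ K : CochainComplex X.Modules ℤ,
    ∃ (I : CochainComplex X.Modules ℤ) (g : K ⟶ I), I.IsKInjective ∧ QuasiIso g := fun K => by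
  have : IsGrothendieckAbelian.{u} X.Modules :=
    Groth.Agent.S0484.result (Opens.grothendieckTopology X) X.ringCatSheaf
  obtain ⟨I, g, hI, hg, -, -⟩ := Groth.Agent.KInjMain31.exists_kinjective_resolution K
  exact ⟨I, g, hI, hg⟩

section Recognition

variable {X : Scheme.{u}} {H : Type*} [Category H]

/-- recognition of left derived functors on K-flat complexes -/
theorem isLeftDerivedFunctor_of_isIso_kflat
    (F : HomotopyCategory X.Modules (ComplexShape.up ℤ) ⥤ H)
    (hF : ∀ ⦃P Q : CochainComplex X.Modules ℤ⦄ (φ : P ⟶ Q), ModSite.IsKFlat (O := X.sheaf) P →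
      ModSite.IsKFlat (O := X.sheaf) Q → QuasiIso φ →
      IsIso (F.map ((HomotopyCategory.quotient _ _).map φ)))
    (G : DCoh.D X ⥤ H) (β : DerivedCategory.Qh ⋙ G ⟶ F)
    (hβ : ∀ P : CochainComplex X.Modules ℤ, ModSite.IsKFlat (O := X.sheaf) P →
      IsIso (β.app ((HomotopyCategory.quotient _ _).obj P))) :
    G.IsLeftDerivedFunctor β (HomotopyCategory.quasiIso X.Modules (ComplexShape.up ℤ)) := by
  let W := HomotopyCategory.quasiIso X.Modules (ComplexShape.up ℤ)
  have : F.HasLeftDerivedFunctor W :=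
    Groth.Agent.Lib.KFlatTri21.hasLeftDerivedFunctor (O := X.sheaf) F hF
  let LF := F.totalLeftDerived DerivedCategory.Qh W
  let α := F.totalLeftDerivedCounit DerivedCategory.Qh W
  rw [Functor.isLeftDerivedFunctor_iff_isIso_leftDerivedLift LF α W]
  rw [NatTrans.isIso_iff_isIso_app]
  intro K
  obtain ⟨P, p, hP, -, hp⟩ := Groth.Agent.Lib.TorAmpTri21.exists_resolution
    (DerivedCategory.Q.objPreimage K)
  have hiso : IsIso (DerivedCategory.Q.map p) :=
    (DerivedCategory.isIso_Q_map_iff_quasiIso (φ := p)).2 hp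
  let e : DerivedCategory.Qh.obj ((HomotopyCategory.quotient _ _).obj P) ≅ K :=
    @asIso _ _ _ _ (DerivedCategory.Q.map p) hiso ≪≫ DerivedCategory.Q.objObjPreimageIso K
  rw [← NatTrans.isIso_app_iff_of_iso _ e]
  have inst : LF.IsLeftDerivedFunctor α W := inferInstance
  have h1 : IsIso (α.app ((HomotopyCategory.quotient _ _).obj P)) :=
    @Groth.Agent.Lib.KFlatTri21.isIso_counit_app _ _ _ X.sheaf _ _ F hF _ _ DerivedCategory.Qh _
      LF α inst P hP
  have h2 := hβ P hP
  have h3 := LF.leftDerived_fac_app α W G β ((HomotopyCategory.quotient _ _).obj P)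
  rw [← h3] at h2
  exact IsIso.of_isIso_comp_right _ (α.app ((HomotopyCategory.quotient _ _).obj P))

/-- recognition of right derived functors on K-injective complexes -/
theorem isRightDerivedFunctor_of_isIso_kinj
    (F : HomotopyCategory X.Modules (ComplexShape.up ℤ) ⥤ H)
    (G : DCoh.D X ⥤ H) (β : F ⟶ DerivedCategory.Qh ⋙ G)
    (hβ : ∀ I : CochainComplex X.Modules ℤ, I.IsKInjective →
      IsIso (β.app ((HomotopyCategory.quotient _ _).obj I))) :
    G.IsRightDerivedFunctor β (HomotopyCategory.quasiIso X.Modules (ComplexShape.up ℤ)) := by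
  let W := HomotopyCategory.quasiIso X.Modules (ComplexShape.up ℤ)
  have hF := Groth.Agent.KInjDerived31.hasPointwiseRightDerivedFunctor F (hKinj X)
  have : F.HasRightDerivedFunctor W := inferInstance
  let RF := F.totalRightDerived DerivedCategory.Qh W
  let u := F.totalRightDerivedUnit DerivedCategory.Qh W
  rw [Functor.isRightDerivedFunctor_iff_isIso_rightDerivedDesc RF u W]
  apply Groth.Agent.KInjComp31.isIso_natTrans_of_kinj (hKinj X)
  intro I hI
  have h1 := RF.rightDerived_fac_app u W G β ((HomotopyCategory.quotient _ _).obj I)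
  have h2 : IsIso (u.app ((HomotopyCategory.quotient _ _).obj I)) :=
    Groth.Agent.KInjDerived31.isIso_unit_app_of_isKInjective F RF u I
  have h4 := hβ I hI
  rw [← h1] at h4
  exact IsIso.of_isIso_comp_left (u.app ((HomotopyCategory.quotient _ _).obj I)) _

end Recognition

section Adj

variable {X Y : Scheme.{u}} {f : X ⟶ Y}

/-- unit abbreviation for `Rf_*` -/
noncomputable abbrev ru (f : X ⟶ Y) [DCoh.HasRpush f] :
    DCoh.pushKh f ⟶ DerivedCategory.Qh ⋙ DCoh.Rpush f :=
  (DCoh.pushKh f).totalRightDerivedUnit DerivedCategory.Qh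
    (HomotopyCategory.quasiIso X.Modules (ComplexShape.up ℤ))

/-- **`Lf^* ⊣ Rf_*`** on unbounded derived categories -/
theorem nonempty_lpull_adj (hf : AcycHyp f) [DCoh.HasLpull f] [DCoh.HasRpush f] :
    Nonempty (DCoh.Lpull f ⊣ DCoh.Rpush f) := by
  let W₁ := HomotopyCategory.quasiIso Y.Modules (ComplexShape.up ℤ)
  let W₂ := HomotopyCategory.quasiIso X.Modules (ComplexShape.up ℤ)
  have i1 : (DCoh.Lpull f).IsLeftDerivedFunctor (cu f) W₁ := inferInstance
  have i2 : (DCoh.Rpush f).IsRightDerivedFunctor (ru f) W₂ := inferInstance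
  have i3 : (DCoh.Lpull f ⋙ DCoh.Rpush f).IsLeftDerivedFunctor
      ((Functor.associator _ _ _).inv ≫ Functor.whiskerRight (cu f) (DCoh.Rpush f)) W₁ := by
    refine isLeftDerivedFunctor_of_isIso_kflat _ ?_ _ _ ?_
    · intro P Q φ hP hQ hφ
      have := isIso_pullKh_map hf φ hP hQ hφ
      change IsIso ((DCoh.Rpush f).map ((DCoh.pullKh f).map ((HomotopyCategory.quotient _ _).map φ)))
      infer_instance
    · intro P hP
      have := isIso_counit hf P hP
      dsimp
      infer_instance
  have i4 : (DCoh.Rpush f ⋙ DCoh.Lpull f).IsRightDerivedFunctor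
      (Functor.whiskerRight (ru f) (DCoh.Lpull f) ≫ (Functor.associator _ _ _).hom) W₂ := by
    refine isRightDerivedFunctor_of_isIso_kinj _ _ _ ?_
    intro I hI
    have : IsIso ((ru f).app ((HomotopyCategory.quotient _ _).obj I)) :=
      Groth.Agent.KInjComp31.isIso_totalRightDerivedUnit_app (hKinj X) _ I
    dsimp
    infer_instance
  exact ⟨(Groth.Agent.Lib.DerivedAdj66.adjH (Scheme.Modules.pullbackPushforwardAdjunction f)
    (ComplexShape.up ℤ)).derived W₁ W₂ (cu f) (ru f)⟩

end Adj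

section Comp

variable {X Y Z : Scheme.{u}} {f : X ⟶ Y} {g : Y ⟶ Z}

/-- **`Rg_* ∘ Rf_* ≅ R(g ∘ f)_*`** on unbounded derived categories -/
theorem nonempty_rpush_comp (hf : AcycHyp f) (hg : AcycHyp g) (hfg : AcycHyp (f ≫ g))
    (hgK : KFlatHyp g) [DCoh.HasRpush f] [DCoh.HasRpush g] [DCoh.HasRpush (f ≫ g)] :
    Nonempty (DCoh.Rpush f ⋙ DCoh.Rpush g ≅ DCoh.Rpush (f ≫ g)) := by
  have : DCoh.HasLpull f := hasLpull hf
  have : DCoh.HasLpull g := hasLpull hg
  have : DCoh.HasLpull (f ≫ g) := hasLpull hfg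
  obtain ⟨a1⟩ := nonempty_lpull_adj hf
  obtain ⟨a2⟩ := nonempty_lpull_adj hg
  obtain ⟨a3⟩ := nonempty_lpull_adj hfg
  obtain ⟨e⟩ := nonempty_lpull_comp hf hg hfg hgK
  exact ⟨((a2.comp a1).ofNatIsoLeft e).rightAdjointUniq a3⟩

end Comp

end Groth.Agent.Lib.LpullKFlat35
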