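import Groth.Agent.Lib.TorAmpTri21
import Groth.Prelude.Def_DDual2
import Groth.Prelude.Def_DTor2

/-!
# The derived pullback `Lf^*` on `D(O_Y)`, computed on K-flat complexes (helper35)

Hypothesis form.  For `f : X ⟶ Y` the only geometric input is
* `AcycHyp f` (Stacks 06YB): the termwise pullback of an acyclic K-flat complex is acyclic;
and for composition statements
* `KFlatHyp f` (Stacks 06YB, = S0952): the termwise pullback of a K-flat complex is K-flat.
Under `AcycHyp f`:
* `hasLpull : DCoh.HasLpull f`;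
* `isIso_counit`, `lpullIso : (Lpull f).obj (Q P) ≅ Q (f^* P)` for `P` K-flat.
-/

set_option autoImplicit false
universe u
open CategoryTheory Limits AlgebraicGeometry
attribute [local instance] HasDerivedCategory.standard

namespace Groth.Agent.Lib.LpullKFlat35

variable {X Y : Scheme.{u}} (f : X ⟶ Y)

/-- termwise pullback of complexes -/
noncomputable abbrev pullCx : CochainComplex Y.Modules ℤ ⥤ CochainComplex X.Modules ℤ :=
  (Scheme.Modules.pullback f).mapHomologicalComplex (ComplexShape.up ℤ)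

/-- Stacks 06YB (second half): pullback of an acyclic K-flat complex is acyclic -/
def AcycHyp : Prop :=
  ∀ K : CochainComplex Y.Modules ℤ, ModSite.IsKFlat (O := Y.sheaf) K →
    (∀ i : ℤ, IsZero (K.homology i)) → ∀ i : ℤ, IsZero (((pullCx f).obj K).homology i)

/-- Stacks 06YB (first half) = S0952: pullback of a K-flat complex is K-flat -/
def KFlatHyp : Prop :=
  ∀ K : CochainComplex Y.Modules ℤ, ModSite.IsKFlat (O := Y.sheaf) K →
    ModSite.IsKFlat (O := X.sheaf) ((pullCx f).obj K)

variable {f}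

theorem quasiIso_pullCx_map (h : AcycHyp f) {P Q : CochainComplex Y.Modules ℤ} (φ : P ⟶ Q)
    (hP : ModSite.IsKFlat (O := Y.sheaf) P) (hQ : ModSite.IsKFlat (O := Y.sheaf) Q)
    (hφ : QuasiIso φ) : QuasiIso ((pullCx f).map φ) := by
  rw [Groth.Agent.Lib.ConeQuasiIso.quasiIso_iff_acyclic_mappingCone]
  have h1 : (CochainComplex.mappingCone φ).Acyclic :=
    (Groth.Agent.Lib.ConeQuasiIso.quasiIso_iff_acyclic_mappingCone φ).1 hφ
  have h2 := Groth.Agent.Lib.TorAmpTri21.isKFlat_mappingCone φ hP hQ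
  have h3 := h _ h2 (fun i => (HomologicalComplex.exactAt_iff_isZero_homology _ _).1 (h1 i))
  intro i
  rw [HomologicalComplex.exactAt_iff_isZero_homology]
  exact (h3 i).of_iso ((HomologicalComplex.homologyFunctor _ _ i).mapIso
    (CochainComplex.mappingCone.mapHomologicalComplexIso φ (Scheme.Modules.pullback f)).symm)

theorem isIso_pullKh_map (h : AcycHyp f) {P Q : CochainComplex Y.Modules ℤ} (φ : P ⟶ Q)
    (hP : ModSite.IsKFlat (O := Y.sheaf) P) (hQ : ModSite.IsKFlat (O := Y.sheaf) Q)
    (hφ : QuasiIso φ) :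
    IsIso ((DCoh.pullKh f).map ((HomotopyCategory.quotient _ _).map φ)) := by
  have := quasiIso_pullCx_map h φ hP hQ hφ
  change IsIso (DerivedCategory.Q.map ((pullCx f).map φ))
  infer_instance

/-- the existence binder `HasLpull f` holds -/
theorem hasLpull (h : AcycHyp f) : DCoh.HasLpull f :=
  Groth.Agent.Lib.KFlatTri21.hasLeftDerivedFunctor (O := Y.sheaf) (DCoh.pullKh f)
    (fun _ _ φ hP hQ hφ => isIso_pullKh_map h φ hP hQ hφ)

/-- the counit of `Lf^*` is an isomorphism at K-flat complexes -/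
theorem isIso_counit (h : AcycHyp f) [DCoh.HasLpull f] (P : CochainComplex Y.Modules ℤ)
    (hP : ModSite.IsKFlat (O := Y.sheaf) P) :
    IsIso (((DCoh.pullKh f).totalLeftDerivedCounit DerivedCategory.Qh
      (HomotopyCategory.quasiIso Y.Modules (ComplexShape.up ℤ))).app
        ((HomotopyCategory.quotient _ _).obj P)) := by
  have inst : (DCoh.Lpull f).IsLeftDerivedFunctor
      ((DCoh.pullKh f).totalLeftDerivedCounit DerivedCategory.Qh
        (HomotopyCategory.quasiIso Y.Modules (ComplexShape.up ℤ)))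
      (HomotopyCategory.quasiIso Y.Modules (ComplexShape.up ℤ)) := inferInstance
  exact @Groth.Agent.Lib.KFlatTri21.isIso_counit_app _ _ _ Y.sheaf _ _ (DCoh.pullKh f)
    (fun _ _ φ hP hQ hφ => isIso_pullKh_map h φ hP hQ hφ) _ _ DerivedCategory.Qh _
    (DCoh.Lpull f) _ inst P hP

/-- `Lf^* Q(P) ≅ Q(f^* P)` for `P` K-flat -/
noncomputable def lpullIso (h : AcycHyp f) [DCoh.HasLpull f] (P : CochainComplex Y.Modules ℤ)
    (hP : ModSite.IsKFlat (O := Y.sheaf) P) :
    (DCoh.Lpull f).obj (DCoh.toD Y P) ≅ DCoh.toD X ((pullCx f).obj P) :=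
  @asIso _ _ _ _ (((DCoh.pullKh f).totalLeftDerivedCounit DerivedCategory.Qh
      (HomotopyCategory.quasiIso Y.Modules (ComplexShape.up ℤ))).app
        ((HomotopyCategory.quotient _ _).obj P)) (isIso_counit h P hP)

end Groth.Agent.Lib.LpullKFlat35
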