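import Groth.Agent.Lib.LpullKFlat35
import Groth.Agent.Lib.PullbackStalk81
import Groth.Agent.Lib.PerfectD
import Groth.Agent.Lib.FlatModClosure

/-!
# `Lf^*` of flat-amplitude / perfect objects (helper35), hypothesis form

* `isFlat_pullback`: pullback of a (stalkwise) flat module is flat (any modules, any `f`; helper81 stalks).
* `hasFlatAmplitudeIn_lpull` (under `AcycHyp f`): flat amplitude `[a,b]` is preserved by `Lf^*`.
* `resPullNatIso`: `f^* ⋙ (-)|_{f⁻¹V} ≅ (-)|_V ⋙ (f|_V)^*`.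
* `isPerfect_lpull` (under `AcycHyp f`, `AcycHyp (f ∣_ V)`, `KFlatHyp V.ι` for all `V`).
-/

set_option autoImplicit false
universe u
open CategoryTheory Limits AlgebraicGeometry
attribute [local instance] HasDerivedCategory.standard

namespace Groth.Agent.Lib.LpullKFlat35

open Groth.Agent.Lib.SkyMod81 Groth.Agent.Lib.PullbackStalk81

variable {X Y : Scheme.{u}}

theorem flat_extendScalars {R S : Type u} [CommRing R] [CommRing S] (φ : R →+* S)
    (N : ModuleCat.{u} R) [Module.Flat R N] :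
    Module.Flat S ((ModuleCat.extendScalars φ).obj N) := by
  let _ := φ.toAlgebra
  exact inferInstanceAs (Module.Flat S (TensorProduct R S N))

/-- pullback of a flat module is flat -/
theorem isFlat_pullback (f : X ⟶ Y) (M : Y.Modules) (hM : FlatMod.IsFlat M) :
    FlatMod.IsFlat ((Scheme.Modules.pullback f).obj M) := by
  intro x
  have e := (pullbackStalkIso f x).app M
  have h1 : Module.Flat (Y.presheaf.stalk (f x)) ((stalkMod (f x)).obj M) := hM (f x)
  have h2 := flat_extendScalars (f.stalkMap x).hom ((stalkMod (f x)).obj M)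
  have h3 : Module.Flat (X.presheaf.stalk x)
      ((stalkMod (f x) ⋙ ModuleCat.extendScalars (f.stalkMap x).hom).obj M) := h2
  have h4 : Module.Flat (X.presheaf.stalk x)
      ((Scheme.Modules.pullback f ⋙ stalkMod x).obj M) := Module.Flat.of_linearEquiv e.toLinearEquiv
  exact h4

theorem vanishesOutside_pullCx (f : X ⟶ Y) {E : CochainComplex Y.Modules ℤ} {a b : ℤ}
    (h : DCoh.VanishesOutside E a b) : DCoh.VanishesOutside ((pullCx f).obj E) a b :=
  fun i hi => (Scheme.Modules.pullback f).map_isZero (h i hi)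

/-- S0920 core -/
theorem hasFlatAmplitudeIn_lpull {f : X ⟶ Y} (hf : AcycHyp f) [DCoh.HasLpull f] (E : DCoh.D Y)
    (a b : ℤ) (hE : DCoh.HasFlatAmplitudeIn a b E) :
    DCoh.HasFlatAmplitudeIn a b ((DCoh.Lpull f).obj E) := by
  obtain ⟨F, hF, hflat, ⟨e⟩⟩ := hE
  have hK : ModSite.IsKFlat (O := Y.sheaf) F :=
    Groth.Agent.Lib.TorAmp21.isKFlat_of_vanishesOutside F a b hF hflat
  exact ⟨(pullCx f).obj F, vanishesOutside_pullCx f hF,
    fun i => isFlat_pullback f _ (hflat i),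
    ⟨(lpullIso hf F hK).symm ≪≫ (DCoh.Lpull f).mapIso e⟩⟩

theorem isStrictlyPerfect_pullCx (f : X ⟶ Y) {E : CochainComplex Y.Modules ℤ}
    (hE : DCoh.IsStrictlyPerfect E) : DCoh.IsStrictlyPerfect ((pullCx f).obj E) := by
  obtain ⟨⟨a, b, hab⟩, hfree⟩ := hE
  exact ⟨⟨a, b, vanishesOutside_pullCx f hab⟩,
    fun i => Groth.Agent.Lib.FinLocFree2.isFinLocFree_pullback f (hfree i)⟩

theorem isKFlat_of_isStrictlyPerfect {E : CochainComplex X.Modules ℤ}
    (hE : DCoh.IsStrictlyPerfect E) : ModSite.IsKFlat (O := X.sheaf) E := by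
  obtain ⟨⟨a, b, hab⟩, hfree⟩ := hE
  exact Groth.Agent.Lib.TorAmp21.isKFlat_of_vanishesOutside E a b hab
    (fun i => Groth.Agent.Lib.FlatModClosure.isFlat_of_isFinLocFree (hfree i))

/-- `f^* ⋙ (-)|_{f⁻¹V} ≅ (-)|_V ⋙ (f|_V)^*` -/
noncomputable def resPullNatIso (f : X ⟶ Y) (V : Y.Opens) :
    Scheme.Modules.pullback f ⋙ Scheme.Modules.restrictFunctor (f ⁻¹ᵁ V).ι ≅
      Scheme.Modules.restrictFunctor V.ι ⋙ Scheme.Modules.pullback (f ∣_ V) :=
  Functor.isoWhiskerLeft _ (Scheme.Modules.restrictFunctorIsoPullback (f ⁻¹ᵁ V).ι) ≪≫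
    Scheme.Modules.pullbackComp (f ⁻¹ᵁ V).ι f ≪≫
    Scheme.Modules.pullbackCongr (morphismRestrict_ι f V).symm ≪≫
    (Scheme.Modules.pullbackComp (f ∣_ V) V.ι).symm ≪≫
    Functor.isoWhiskerRight (Scheme.Modules.restrictFunctorIsoPullback V.ι).symm _

open Groth.Agent.Lib.PerfectD in
/-- complex-level version -/
noncomputable def resPullCxIso (f : X ⟶ Y) (V : Y.Opens) (P : CochainComplex Y.Modules ℤ) :
    (resCx (f ⁻¹ᵁ V).ι).obj ((pullCx f).obj P) ≅ (pullCx (f ∣_ V)).obj ((resCx V.ι).obj P) :=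
  (Functor.mapHomologicalComplexCompIso (resPullNatIso f V) (ComplexShape.up ℤ)).app P ≪≫
    ((Functor.mapHomologicalComplexCompIso
      (Iso.refl (Scheme.Modules.restrictFunctor V.ι ⋙ Scheme.Modules.pullback (f ∣_ V)))
      (ComplexShape.up ℤ)).app P).symm

open Groth.Agent.Lib.PerfectD in
/-- restriction of a K-flat complex to an open is K-flat, from `KFlatHyp V.ι` -/
theorem isKFlat_resCx (V : Y.Opens) (hV : KFlatHyp V.ι) {P : CochainComplex Y.Modules ℤ}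
    (hP : ModSite.IsKFlat (O := Y.sheaf) P) :
    ModSite.IsKFlat (O := (V : Scheme.{u}).sheaf) ((resCx V.ι).obj P) :=
  Groth.Agent.Lib.ModSiteKFlatBdd66.isKFlat_of_iso
    (((NatIso.mapHomologicalComplex (Scheme.Modules.restrictFunctorIsoPullback V.ι)
      (ComplexShape.up ℤ)).app P).symm) (hV P hP)

open Groth.Agent.Lib.PerfectD in
/-- S0921 core -/
theorem isPerfect_lpull {f : X ⟶ Y} (hf : AcycHyp f)
    (hfV : ∀ V : Y.Opens, AcycHyp (f ∣_ V)) (hV : ∀ V : Y.Opens, KFlatHyp V.ι)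
    [DCoh.HasLpull f] (E : DCoh.D Y) (hE : DCoh.IsPerfect E) :
    DCoh.IsPerfect ((DCoh.Lpull f).obj E) := by
  rw [isPerfect_iff_repOn] at hE ⊢
  intro x
  obtain ⟨V, hxV, E₀, hE₀, ⟨a⟩⟩ := hE (f x)
  refine ⟨f ⁻¹ᵁ V, hxV, (pullCx (f ∣_ V)).obj E₀, isStrictlyPerfect_pullCx _ hE₀, ?_⟩
  -- K-flat representative of `E`
  obtain ⟨P, p, hP, -, hp⟩ := Groth.Agent.Lib.TorAmpTri21.exists_resolution
    (DerivedCategory.Q.objPreimage E)
  have hiso : IsIso (DerivedCategory.Q.map p) :=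
    (DerivedCategory.isIso_Q_map_iff_quasiIso (φ := p)).2 hp
  let eP : DCoh.toD Y P ≅ E :=
    @asIso _ _ _ _ (DerivedCategory.Q.map p) hiso ≪≫ DerivedCategory.Q.objObjPreimageIso E
  have hfV' := hfV V
  have : DCoh.HasLpull (f ∣_ V) := hasLpull hfV'
  have hPV := isKFlat_resCx V (hV V) hP
  have hE₀K := isKFlat_of_isStrictlyPerfect hE₀
  -- `Q(P|_V) ≅ Q(E₀)`
  let b : DerivedCategory.Q.obj ((resCx V.ι).obj P) ≅ DerivedCategory.Q.obj E₀ :=
    ((Scheme.Modules.restrictFunctor V.ι).mapDerivedCategoryFactors.app P).symm ≪≫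
      (DCoh.restrictD V.ι).mapIso eP ≪≫ a
  refine ⟨(DCoh.restrictD (f ⁻¹ᵁ V).ι).mapIso ((DCoh.Lpull f).mapIso eP.symm ≪≫ lpullIso hf P hP) ≪≫
    (Scheme.Modules.restrictFunctor (f ⁻¹ᵁ V).ι).mapDerivedCategoryFactors.app _ ≪≫
    DerivedCategory.Q.mapIso (resPullCxIso f V P) ≪≫
    (lpullIso hfV' _ hPV).symm ≪≫ (DCoh.Lpull (f ∣_ V)).mapIso b ≪≫ lpullIso hfV' _ hE₀K⟩

end Groth.Agent.Lib.LpullKFlat35
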