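import Groth.Agent.Lib.KProjTri35
import Groth.Agent.Lib.LpullHyp35
import Groth.Agent.Lib.LpullComp35
import Groth.Agent.Lib.TildePullback
import Groth.Agent.Lib.TildeStalk81

/-!
# `(K ⊗^L_A B)~ ≅ Lf^*(K~)` for `f = Spec φ` (helper35)
-/

set_option autoImplicit false
set_option linter.unusedSectionVars false
universe u
open CategoryTheory Limits AlgebraicGeometry
attribute [local instance] HasDerivedCategory.standard

namespace Groth.Agent.Lib.LpullTilde35

open Groth.Agent.Lib.LpullKFlat35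

theorem tilde_additive (R : CommRingCat.{u}) : (tilde.functor R).Additive := inferInstance

instance (A : Type u) [CommRing A] : (tilde.functor (CommRingCat.of A)).Additive :=
  tilde_additive (CommRingCat.of A)

theorem tilde_isLeftAdjoint (R : CommRingCat.{u}) : (tilde.functor R).IsLeftAdjoint := inferInstance

instance (A : Type u) [CommRing A] : (tilde.functor (CommRingCat.of A)).IsLeftAdjoint :=
  tilde_isLeftAdjoint (CommRingCat.of A)

variable {A B : Type u} [CommRing A] [CommRing B] (φ : A →+* B)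
  [PreservesFiniteLimits (tilde.functor (CommRingCat.of A))]
  [PreservesFiniteLimits (tilde.functor (CommRingCat.of B))]

/-- the functor `K ↦ Q((K ⊗_A B)~)` -/
noncomputable abbrev F₁ : HomotopyCategory (ModuleCat.{u} A) (ComplexShape.up ℤ) ⥤
    DCoh.D (Spec (CommRingCat.of B)) :=
  DRing.baseChangeKh φ ⋙ DCoh.tildeD (CommRingCat.of B)

/-- the functor `K ↦ Q(f^*(K~))` -/
noncomputable abbrev F₂ : HomotopyCategory (ModuleCat.{u} A) (ComplexShape.up ℤ) ⥤
    DCoh.D (Spec (CommRingCat.of B)) :=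
  (tilde.functor (CommRingCat.of A)).mapHomotopyCategory (ComplexShape.up ℤ) ⋙
    DCoh.pullKh (Spec.map (CommRingCat.ofHom φ))

/-- `F₁ ≅ F₂` -/
noncomputable def τ : F₁ φ ≅ F₂ φ :=
  Functor.associator _ _ _ ≪≫
    Functor.isoWhiskerLeft _ (tilde.functor (CommRingCat.of B)).mapDerivedCategoryFactorsh ≪≫
    (Functor.associator _ _ _).symm ≪≫
    Functor.isoWhiskerRight
      (Functor.mapHomotopyCategoryCompIso
          (Groth.Agent.Lib.TildePullback.tildePullbackIso (CommRingCat.ofHom φ)) (ComplexShape.up ℤ) ≪≫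
        (Functor.mapHomotopyCategoryCompIso (Iso.refl
          (tilde.functor (CommRingCat.of A) ⋙ Scheme.Modules.pullback (Spec.map (CommRingCat.ofHom φ))))
          (ComplexShape.up ℤ)).symm) DerivedCategory.Qh ≪≫
    Functor.associator _ _ _

variable [DRing.HasLBaseChange φ] [DCoh.HasLpull (Spec.map (CommRingCat.ofHom φ))]

/-- counit of `LBaseChange` -/
noncomputable abbrev cuB : DerivedCategory.Qh ⋙ DRing.LBaseChange φ ⟶ DRing.baseChangeKh φ :=
  (DRing.baseChangeKh φ).totalLeftDerivedCounit DerivedCategory.Qh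
    (HomotopyCategory.quasiIso (ModuleCat.{u} A) (ComplexShape.up ℤ))

/-- the structure map of `K ↦ (K ⊗^L_A B)~` -/
noncomputable def β₁ : DerivedCategory.Qh ⋙
    (DRing.LBaseChange φ ⋙ DCoh.tildeD (CommRingCat.of B)) ⟶ F₁ φ :=
  (Functor.associator _ _ _).inv ≫
    Functor.whiskerRight (cuB φ) (DCoh.tildeD (CommRingCat.of B))

/-- the structure map of `K ↦ Lf^*(K~)` -/
noncomputable def β₂ : DerivedCategory.Qh ⋙
    (DCoh.tildeD (CommRingCat.of A) ⋙ DCoh.Lpull (Spec.map (CommRingCat.ofHom φ))) ⟶ F₂ φ :=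
  (Functor.associator _ _ _).inv ≫
    Functor.whiskerRight (tilde.functor (CommRingCat.of A)).mapDerivedCategoryFactorsh.hom
      (DCoh.Lpull (Spec.map (CommRingCat.ofHom φ))) ≫
    (Functor.associator _ _ _).hom ≫
    Functor.whiskerLeft _ (cu (Spec.map (CommRingCat.ofHom φ)))

theorem isLeftDerivedFunctor₁ :
    (DRing.LBaseChange φ ⋙ DCoh.tildeD (CommRingCat.of B)).IsLeftDerivedFunctor (β₁ φ)
      (HomotopyCategory.quasiIso (ModuleCat.{u} A) (ComplexShape.up ℤ)) := by
  apply Groth.Agent.Lib.KProjTri35.isLeftDerivedFunctor_of_isIso_kproj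
  intro P hP _
  have h1 : IsIso ((cuB φ).app ((HomotopyCategory.quotient _ _).obj P)) :=
    Groth.Agent.Lib.KProjTri35.isIso_counit_app (DRing.baseChangeKh φ) DerivedCategory.Qh
      (DRing.LBaseChange φ) (cuB φ) P
  have h2 : (β₁ φ).app ((HomotopyCategory.quotient _ _).obj P) =
      (DCoh.tildeD (CommRingCat.of B)).map ((cuB φ).app ((HomotopyCategory.quotient _ _).obj P)) := by
    simp [β₁]
  rw [h2]
  infer_instance

theorem isLeftDerivedFunctor₂ :
    (DCoh.tildeD (CommRingCat.of A) ⋙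
      DCoh.Lpull (Spec.map (CommRingCat.ofHom φ))).IsLeftDerivedFunctor (β₂ φ)
      (HomotopyCategory.quasiIso (ModuleCat.{u} A) (ComplexShape.up ℤ)) := by
  apply Groth.Agent.Lib.KProjTri35.isLeftDerivedFunctor_of_isIso_kproj
  intro P hP hPf
  have hK : ModSite.IsKFlat (O := (Spec (CommRingCat.of A)).sheaf)
      (((tilde.functor (CommRingCat.of A)).mapHomologicalComplex (ComplexShape.up ℤ)).obj P) :=
    Groth.Agent.Lib.TildeStalk81.isKFlat_tilde (CommRingCat.of A) P
      ((Groth.Agent.Lib.KFlat35.isKFlat_iff P).1 hPf)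
  have h1 : IsIso ((cu (Spec.map (CommRingCat.ofHom φ))).app
      (((tilde.functor (CommRingCat.of A)).mapHomotopyCategory (ComplexShape.up ℤ)).obj
        ((HomotopyCategory.quotient _ _).obj P))) :=
    isIso_counit (Groth.Agent.Lib.LpullHyp35.acycHyp _) _ hK
  have h2 : (β₂ φ).app ((HomotopyCategory.quotient _ _).obj P) =
      (DCoh.Lpull (Spec.map (CommRingCat.ofHom φ))).map
        ((tilde.functor (CommRingCat.of A)).mapDerivedCategoryFactorsh.hom.app
          ((HomotopyCategory.quotient _ _).obj P)) ≫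
      (cu (Spec.map (CommRingCat.ofHom φ))).app
        (((tilde.functor (CommRingCat.of A)).mapHomotopyCategory (ComplexShape.up ℤ)).obj
          ((HomotopyCategory.quotient _ _).obj P)) := by
    simp [β₂]
  rw [h2]
  infer_instance

/-- S1055 -/
theorem nonempty_iso :
    Nonempty (DRing.LBaseChange φ ⋙ DCoh.tildeD (CommRingCat.of B) ≅
      DCoh.tildeD (CommRingCat.of A) ⋙ DCoh.Lpull (Spec.map (CommRingCat.ofHom φ))) := by
  have := isLeftDerivedFunctor₁ φ
  have := isLeftDerivedFunctor₂ φ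
  exact ⟨Functor.leftDerivedNatIso _ _ (β₁ φ) (β₂ φ)
    (HomotopyCategory.quasiIso (ModuleCat.{u} A) (ComplexShape.up ℤ)) (τ φ)⟩

end Groth.Agent.Lib.LpullTilde35
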