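import Groth.Agent.Lib.FinEtQuot46
import Groth.Agent.Lib.H80DecentPt
import Groth.Agent.Lib.EtaleFieldMono
import Groth.Agent.Lib.AlgSpDecentSpec
import Groth.Agent.Lib.AlgSpLocP
import Groth.Agent.Lib.H86ZarGlue
import Groth.Agent.Lib.AlgSpQC
import Groth.Agent.S10196

/-!
# Algebraic spaces locally quasi-finite over a field are schemes (helper46)
-/

set_option autoImplicit false
universe u

namespace Groth.Agent.Lib.LqfField46

open CategoryTheory CategoryTheory.Limits AlgebraicGeometry TopologicalSpace Opposite AlgSp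
open Groth.Agent.Lib.AlgSpDecentSpec Groth.Agent.Lib.AlgSpBasic

theorem exists_artinian_local_nbhd {k : Type u} [Field k] {Z : Scheme.{u}}
    (f : Z ⟶ Spec (CommRingCat.of k)) [LocallyQuasiFinite f] (z : ↥Z) :
    ∃ V : Z.Opens, z ∈ V ∧ IsAffineOpen V ∧ IsArtinianRing ↥Γ(Z, V) ∧ IsLocalRing ↥Γ(Z, V) ∧
      IsFinite (V.ι ≫ f) := by
  have hdisc : DiscreteTopology ↥Z := Groth.Agent.Lib.EtaleFieldMono.discreteTopology_of_lqf_field f
  let V : Z.Opens := ⟨{z}, isOpen_discrete _⟩
  have hsub : Subsingleton ↥(V : Scheme.{u}) := ⟨fun a b => Subtype.ext (a.2.trans b.2.symm)⟩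
  have hne : Nonempty ↥(V : Scheme.{u}) := ⟨⟨z, rfl⟩⟩
  have haff : IsAffine (V : Scheme.{u}) := Groth.Agent.Lib.H80DecentPt.isAffine_of_subsingleton _
  have hV : IsAffineOpen V := haff
  have hLA : IsLocallyArtinian Z := IsLocallyArtinian.of_locallyQuasiFinite f
  have hart : IsArtinianRing ↥Γ(Z, V) := IsLocallyArtinian.isArtinianRing_presheaf_obj ⟨V, hV⟩
  have hqc : QuasiCompact (V.ι ≫ f) := inferInstance
  have hfin : IsFinite (V.ι ≫ f) := IsFinite.of_locallyQuasiFinite _
  refine ⟨V, rfl, hV, hart, ?_, hfin⟩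
  have hsp : Subsingleton (PrimeSpectrum ↥Γ(Z, V)) := by
    have e := Scheme.homeoOfIso hV.isoSpec
    exact e.symm.injective.subsingleton
  have hnt : Nontrivial ↥Γ(Z, V) := by
    have e := Scheme.homeoOfIso hV.isoSpec
    have : Nonempty (PrimeSpectrum ↥Γ(Z, V)) := ⟨e ⟨z, rfl⟩⟩
    exact (PrimeSpectrum.nonempty_iff_nontrivial).1 this
  obtain ⟨m, hm⟩ := Ideal.exists_maximal ↥Γ(Z, V)
  refine IsLocalRing.of_unique_max_ideal ⟨m, hm, fun m' hm' => ?_⟩
  exact congrArg PrimeSpectrum.asIdeal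
    (Subsingleton.elim (⟨m', hm'.isPrime⟩ : PrimeSpectrum ↥Γ(Z, V)) ⟨m, hm.isPrime⟩)

set_option backward.isDefEq.respectTransparency.types false in
theorem lqf_lft_of_forall_exists_isFinite {Y Z : Scheme.{u}} (f : Z ⟶ Y)
    (h : ∀ z : ↥Z, ∃ V : Z.Opens, z ∈ V ∧ IsFinite (V.ι ≫ f)) :
    LocallyQuasiFinite f ∧ LocallyOfFiniteType f := by
  choose V hzV hV using h
  have hcov : iSup V = ⊤ := by
    ext x
    simp only [Opens.coe_iSup, Set.mem_iUnion, Opens.coe_top, Set.mem_univ, iff_true]
    exact ⟨x, hzV x⟩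
  constructor
  · rw [IsZariskiLocalAtSource.iff_of_iSup_eq_top (P := @LocallyQuasiFinite.{u}) V hcov]
    intro z
    have := hV z
    infer_instance
  · rw [IsZariskiLocalAtSource.iff_of_iSup_eq_top (P := @LocallyOfFiniteType.{u}) V hcov]
    intro z
    have := hV z
    infer_instance


variable {k : Type u} [Field k]

/-- The structure morphism of a scheme over `Spec k` as a morphism to the terminal object. -/
noncomputable def toPt (U : Over (Spec (CommRingCat.of k))) :
    U ⟶ Over.mk (𝟙 (Spec (CommRingCat.of k))) := Over.homMk U.hom (by simp)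

theorem comm_toPt {X : Sp (Spec (CommRingCat.of k))}
    (p : X ⟶ (yon (Spec (CommRingCat.of k))).obj (Over.mk (𝟙 _)))
    {U : Over (Spec (CommRingCat.of k))} (a : (yon _).obj U ⟶ X) :
    a ≫ p = (yon _).map (toPt U) ≫ 𝟙 _ := by
  rw [Category.comp_id]
  obtain ⟨g, hg⟩ := (yon (Spec (CommRingCat.of k))).map_surjective (a ≫ p)
  rw [← hg]
  congr 1
  exact Over.mkIdTerminal.hom_ext _ _

theorem lqf_lft_chart {X : Sp (Spec (CommRingCat.of k))}
    (p : X ⟶ (yon (Spec (CommRingCat.of k))).obj (Over.mk (𝟙 _)))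
    (hp : LocP (@LocallyQuasiFinite ⊓ @LocallyOfFiniteType : MorphismProperty Scheme.{u}) p)
    {U : Over (Spec (CommRingCat.of k))} (a : (yon _).obj U ⟶ X) (ha : RepWith @Etale a) :
    LocallyQuasiFinite U.hom ∧ LocallyOfFiniteType U.hom :=
  hp a (𝟙 _) (toPt U) ha (repWith_id @Etale _) (comm_toPt p a)

/-- **An algebraic space locally quasi-finite over a field is a scheme.** -/
theorem exists_iso_yon_of_lqf (X : AlgSp.Space (Spec (CommRingCat.of k)))
    (p : X.obj ⟶ (yon (Spec (CommRingCat.of k))).obj (Over.mk (𝟙 _)))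
    (hp : LocP (@LocallyQuasiFinite ⊓ @LocallyOfFiniteType : MorphismProperty Scheme.{u}) p) :
    ∃ (Z : Over (Spec (CommRingCat.of k))), Nonempty ((yon _).obj Z ≅ X.obj) := by
  obtain ⟨U₀, a₀, ha₀e, ha₀s⟩ := X.property.atlas
  obtain ⟨hq₀, hl₀⟩ := lqf_lft_chart p hp a₀ ha₀e
  have hdisc₀ : DiscreteTopology ↥U₀.left :=
    Groth.Agent.Lib.EtaleFieldMono.discreteTopology_of_lqf_field U₀.hom
  let O : ↥U₀.left → U₀.left.Opens := fun u => ⟨{u}, isOpen_discrete _⟩
  have key : ∀ u : ↥U₀.left, ∃ (M : Over (Spec (CommRingCat.of k)))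
      (φ : (yon _).obj M ⟶ X.obj), RepWith @IsOpenImmersion φ ∧
        Points.ofPt a₀ u ∈ Set.range (Points.map φ) := by
    intro u
    obtain ⟨a, ha_def⟩ : ∃ a, a = (yon _).map (restrictOverι U₀ (O u)) ≫ a₀ := ⟨_, rfl⟩
    have ha : RepWith @Etale a := ha_def ▸ repWith_etale_restrict a₀ ha₀e (O u)
    have hsubU : Subsingleton ↥(restrictOver U₀ (O u)).left :=
      ⟨fun x y => Subtype.ext (x.2.trans y.2.symm)⟩
    have hneU : Nonempty ↥(restrictOver U₀ (O u)).left := ⟨(⟨u, rfl⟩ : ↥(O u))⟩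
    have haffU : IsAffine (restrictOver U₀ (O u)).left :=
      Groth.Agent.Lib.H80DecentPt.isAffine_of_subsingleton _
    -- the open subspace
    have hWo : IsOpen (Set.range (Points.ofPt a)) :=
      (Groth.Agent.Lib.AlgSpQC.isOpenMap_ofPt_of_repWith_etale ha).isOpen_range
    let X' : AlgSp.Space (Spec (CommRingCat.of k)) :=
      ⟨Groth.Agent.Lib.H86AlgSpOpen.openSub X.obj (Set.range (Points.ofPt a)),
        Groth.Agent.Lib.H86AlgSpOpen.isAlgSpace_openSub X.property hWo⟩
    let j : X' ⟶ X := ObjectProperty.homMk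
      (Groth.Agent.Lib.H86AlgSpOpen.openSubι X.obj (Set.range (Points.ofPt a)))
    have hj : RepWith @IsOpenImmersion j.hom := Groth.Agent.Lib.H86AlgSpOpen.openSubι_repWith hWo
    have himage : Set.range (Points.map j.hom) = Set.range (Points.ofPt a) :=
      Groth.Agent.Lib.H86AlgSpOpen.range_map_openSubι
    obtain ⟨a', ha'j, ha'e, ha's, hpres⟩ := Groth.Agent.S10196.result a ha j hj himage
    have sqR := ha.rep.isPullback' a
    have sqR' := (hpres _ _ _ sqR).isPullback
    -- finiteness of `s`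
    obtain ⟨hqU, hlU⟩ := lqf_lft_chart p hp a ha
    have hfinU : IsFinite (restrictOver U₀ (O u)).hom := IsFinite.of_locallyQuasiFinite _
    have hse : Etale (ha.rep.snd a).left := ha.property _ _ _ sqR
    have hRchart : RepWith @Etale ((yon _).map (ha.rep.snd a) ≫ a) :=
      MorphismProperty.comp_mem _ _ _ ((repWith_yon_map_iff _ _).2 hse) ha
    obtain ⟨hqR, hlR⟩ := lqf_lft_chart p hp _ hRchart
    have hfinP : Finite ↥(pullback (restrictOver U₀ (O u)).hom (restrictOver U₀ (O u)).hom) := by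
      have hf1 : IsFinite (pullback.fst (restrictOver U₀ (O u)).hom (restrictOver U₀ (O u)).hom ≫
          (restrictOver U₀ (O u)).hom) := inferInstance
      have := (pullback.fst (restrictOver U₀ (O u)).hom (restrictOver U₀ (O u)).hom ≫
          (restrictOver U₀ (O u)).hom).finite_preimage_singleton (IsLocalRing.closedPoint k)
      exact Set.finite_univ_iff.mp (this.subset fun w _ =>
        Subsingleton.elim (α := ↥(Spec (CommRingCat.of k))) _ _)
    have hfinR : Finite ↥(ha.rep.pullback a).left := by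
      have hE := Groth.Agent.Lib.FinEtQuot46.isEqvRel_of_isPullback sqR
      have hw : (ha.rep.fst' a).left ≫ (restrictOver U₀ (O u)).hom =
          (ha.rep.snd a).left ≫ (restrictOver U₀ (O u)).hom := by
        rw [Over.w, Over.w]
      let ψ : (ha.rep.pullback a).left ⟶
          pullback (restrictOver U₀ (O u)).hom (restrictOver U₀ (O u)).hom :=
        pullback.lift _ _ hw
      have hmono : Mono ψ := by
        constructor
        intro T x y hxy
        apply Groth.Agent.Lib.FinEtQuot46.eq_of_comp_eq hE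
        · have := congrArg (· ≫ pullback.fst _ _) hxy
          simp only [Category.assoc, ψ, pullback.lift_fst] at this
          exact this
        · have := congrArg (· ≫ pullback.snd _ _) hxy
          simp only [Category.assoc, ψ, pullback.lift_snd] at this
          exact this
      exact Finite.of_injective _ ψ.injective
    have hqcR : QuasiCompact (ha.rep.pullback a).hom := inferInstance
    have hfinRh : IsFinite (ha.rep.pullback a).hom := IsFinite.of_locallyQuasiFinite _
    have hfin : IsFinite (ha.rep.snd a).left := by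
      have h1 : IsFinite ((ha.rep.snd a).left ≫ (restrictOver U₀ (O u)).hom) := by
        rw [Over.w]; exact hfinRh
      exact IsFinite.of_comp (ha.rep.snd a).left (restrictOver U₀ (O u)).hom
    obtain ⟨M, e, q, hM, -⟩ := Groth.Agent.Lib.FinEtQuot46.exists_iso_of_chart a' ha'e ha's sqR'
    refine ⟨M, e.hom ≫ j.hom, MorphismProperty.RespectsIso.precomp _ _ _ hj, ?_⟩
    have h1 : Points.ofPt a₀ u ∈ Set.range (Points.ofPt a) := by
      refine ⟨(⟨u, rfl⟩ : ↥(O u)), ?_⟩
      rw [ha_def, Groth.Agent.Lib.AlgSpPoints.ofPt_yon_map_comp]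
      rfl
    rw [← himage] at h1
    obtain ⟨z, hz⟩ := h1
    refine ⟨Points.map e.inv z, ?_⟩
    rw [← Points.map_comp, ← Category.assoc, e.inv_hom_id, Category.id_comp, hz]
  choose M φ hφ hmem using key
  obtain ⟨Z, e, -⟩ := Groth.Agent.Lib.H86ZarGlue.exists_iso_yon_of_openCover (ι := ↥U₀.left)
    (U := M) φ hφ (fun x => by
      have hs : Function.Surjective (Points.ofPt a₀) :=
        Groth.Agent.Lib.AlgSpQC.surjective_ofPt_of_repWith_surjective ha₀s
      obtain ⟨u, rfl⟩ := hs x
      exact ⟨u, hmem u⟩)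
  exact ⟨Z, ⟨e⟩⟩

end Groth.Agent.Lib.LqfField46
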