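import Mathlib

set_option autoImplicit false
set_option linter.unusedSectionVars false
set_option linter.unusedVariables false

open MvPowerSeries

namespace Groth.Agent.Lib.LubinTate58

section Basic

variable {R : Type*} [CommRing R]

/-- The Lubin–Tate series `u T + T ^ q`. -/
noncomputable def ltSeries (u : R) (q : ℕ) : PowerSeries R := u • PowerSeries.X + PowerSeries.X ^ q

theorem subst_ltSeries (u : R) (q : ℕ) {τ : Type*} (H : MvPowerSeries τ R)
    (hH : constantCoeff H = 0) :
    PowerSeries.subst H (ltSeries u q) = u • H + H ^ q := by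
  have hs : PowerSeries.HasSubst H := PowerSeries.HasSubst.of_constantCoeff_zero hH
  unfold ltSeries
  rw [PowerSeries.subst_add hs, PowerSeries.subst_smul hs, PowerSeries.subst_pow hs,
    PowerSeries.subst_X hs]

/-- The vector `(f(X_i))_i`. -/
noncomputable def ltVec (u : R) (q : ℕ) (σ : Type*) : σ → MvPowerSeries σ R :=
  fun i => u • X i + X i ^ q

theorem subst_X_ltSeries (u : R) (q : ℕ) {σ : Type*} (i : σ) :
    PowerSeries.subst (X i : MvPowerSeries σ R) (ltSeries u q) = ltVec u q σ i :=
  subst_ltSeries u q (X i) (by simp)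

theorem constantCoeff_ltVec (u : R) {q : ℕ} (hq : q ≠ 0) {σ : Type*} (i : σ) :
    constantCoeff (ltVec (R := R) u q σ i) = 0 := by
  unfold ltVec
  simp [hq]

theorem hasSubst_ltVec (u : R) {q : ℕ} (hq : q ≠ 0) {σ : Type*} [Finite σ] :
    HasSubst (ltVec (R := R) u q σ) :=
  hasSubst_of_constantCoeff_zero fun i => constantCoeff_ltVec u hq i

theorem ltVec_eq_mul (u : R) {q : ℕ} (hq : q ≠ 0) {σ : Type*} (i : σ) :
    ltVec (R := R) u q σ i = X i * (C u + X i ^ (q - 1)) := by
  unfold ltVec
  obtain ⟨k, rfl⟩ := Nat.exists_eq_succ_of_ne_zero hq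
  rw [Nat.succ_sub_one, mul_add, ← pow_succ', smul_eq_C_mul, mul_comm]

theorem eq_of_le_of_degree_le {σ : Type*} {d e : σ →₀ ℕ} (h : d ≤ e)
    (hdeg : e.degree ≤ d.degree) : d = e := by
  obtain ⟨c, rfl⟩ := le_iff_exists_add.mp h
  rw [map_add] at hdeg
  have hc : c.degree = 0 := by omega
  rw [Finsupp.degree_eq_zero_iff] at hc
  simp [hc]

theorem prod_ltVec (u : R) {q : ℕ} (hq : 2 ≤ q) {σ : Type*} (d : σ →₀ ℕ) :
    (d.prod fun s n => ltVec (R := R) u q σ s ^ n) =
      monomial d 1 * d.prod fun s n => (C u + X s ^ (q - 1)) ^ n := by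
  rw [monomial_one_eq, ← Finsupp.prod_mul]
  refine Finsupp.prod_congr fun s _ => ?_
  rw [ltVec_eq_mul u (by omega), mul_pow]

theorem constantCoeff_prod_aux (u : R) {q : ℕ} (hq : 2 ≤ q) {σ : Type*} (d : σ →₀ ℕ) :
    constantCoeff (d.prod fun s n => (C u + X s ^ (q - 1) : MvPowerSeries σ R) ^ n) =
      u ^ d.degree := by
  rw [map_finsuppProd, Finsupp.degree_apply, ← Finset.prod_pow_eq_pow_sum, Finsupp.prod]
  refine Finset.prod_congr rfl fun s _ => ?_
  have : q - 1 ≠ 0 := by omega
  simp [this]

/-- Key lemma: the coefficient of degree `r` of `D(f(X))` when `D` has order at least `r`. -/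
theorem coeff_subst_ltVec (u : R) {q : ℕ} (hq : 2 ≤ q) {σ : Type*} [Finite σ]
    (D : MvPowerSeries σ R) (e : σ →₀ ℕ)
    (hD : ∀ d : σ →₀ ℕ, d.degree < e.degree → coeff d D = 0) :
    coeff e (subst (ltVec u q σ) D) = u ^ e.degree * coeff e D := by
  rw [coeff_subst (hasSubst_ltVec u (by omega))]
  rw [finsum_eq_single _ e]
  · rw [prod_ltVec u hq, coeff_monomial_mul, if_pos le_rfl, tsub_self, one_mul,
      coeff_zero_eq_constantCoeff_apply, constantCoeff_prod_aux u hq, smul_eq_mul, mul_comm]
  · intro d hde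
    by_cases hlt : d.degree < e.degree
    · rw [hD d hlt, zero_smul]
    · rw [prod_ltVec u hq, coeff_monomial_mul, if_neg, smul_zero]
      intro hle
      exact hde (eq_of_le_of_degree_le hle (by omega))

end Basic

section Defect

variable {R : Type*} [CommRing R] {σ : Type*} [Finite σ]

/-- The Lubin–Tate defect `u G + s G^q - G(f(X))`; `s = 1` is the endomorphism equation,
`s = 0` is the logarithm equation. -/
noncomputable def defect (s u : R) (q : ℕ) (G : MvPowerSeries σ R) : MvPowerSeries σ R :=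
  u • G + s • G ^ q - subst (ltVec u q σ) G

theorem coeff_pow_sub_pow_eq_zero {q : ℕ} (hq : 2 ≤ q) (G G' : MvPowerSeries σ R)
    (hG : constantCoeff G = 0) (hG' : constantCoeff G' = 0) (e : σ →₀ ℕ)
    (h : ∀ d : σ →₀ ℕ, d.degree < e.degree → coeff d G = coeff d G') :
    coeff e (G ^ q - G' ^ q) = 0 := by
  rw [← geom_sum₂_mul]
  apply coeff_of_lt_order
  refine lt_of_lt_of_le ?_ le_order_mul
  have h1 : (1 : ℕ∞) ≤ (∑ i ∈ Finset.range q, G ^ i * G' ^ (q - 1 - i)).order := by
    rw [one_le_order_iff_constCoeff_eq_zero, map_sum]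
    refine Finset.sum_eq_zero fun i hi => ?_
    rw [map_mul, map_pow, map_pow, hG, hG']
    rw [Finset.mem_range] at hi
    by_cases hi0 : i = 0
    · rw [zero_pow (n := q - 1 - i) (by omega), mul_zero]
    · rw [zero_pow hi0, zero_mul]
  have h2 : (e.degree : ℕ∞) ≤ (G - G').order := by
    apply le_order
    intro d hd
    rw [map_sub, sub_eq_zero]
    exact h d (by exact_mod_cast hd)
  calc (e.degree : ℕ∞) < 1 + e.degree := by
        rw [add_comm]; exact_mod_cast Nat.lt_succ_self _
    _ ≤ _ := add_le_add h1 h2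

/-- Core lemma: the degree-`r` part of the defect only sees the degree-`r` part of the change. -/
theorem coeff_defect_sub (s u : R) {q : ℕ} (hq : 2 ≤ q) (G G' : MvPowerSeries σ R)
    (hG : constantCoeff G = 0) (hG' : constantCoeff G' = 0) (e : σ →₀ ℕ)
    (h : ∀ d : σ →₀ ℕ, d.degree < e.degree → coeff d G = coeff d G') :
    coeff e (defect s u q G) =
      coeff e (defect s u q G') + (u - u ^ e.degree) * (coeff e G - coeff e G') := by
  have hsub : HasSubst (ltVec u q σ) := hasSubst_ltVec u (by omega)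
  have hK := coeff_subst_ltVec u hq (G - G') e (fun d hd => by
    rw [map_sub, sub_eq_zero]; exact h d hd)
  rw [subst_sub hsub, map_sub, map_sub] at hK
  have hP := coeff_pow_sub_pow_eq_zero hq G G' hG hG' e h
  rw [map_sub, sub_eq_zero] at hP
  unfold defect
  simp only [map_sub, map_add, coeff_smul, hP]
  linear_combination (-1 : R) * hK

theorem defect_zero (s u : R) {q : ℕ} (hq : 2 ≤ q) :
    defect s u q (0 : MvPowerSeries σ R) = 0 := by
  unfold defect
  have hsub : HasSubst (ltVec u q σ) := hasSubst_ltVec u (by omega)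
  rw [← coe_substAlgHom hsub, map_zero, zero_pow (by omega)]
  simp

/-- The defect of a series without constant term vanishes in degrees `≤ 1`. -/
theorem coeff_defect_of_degree_le_one (s u : R) {q : ℕ} (hq : 2 ≤ q) (G : MvPowerSeries σ R)
    (hG : constantCoeff G = 0) (e : σ →₀ ℕ) (he : e.degree ≤ 1) :
    coeff e (defect s u q G) = 0 := by
  rw [coeff_defect_sub s u hq G 0 hG (map_zero _) e, defect_zero s u hq]
  · rcases Nat.le_one_iff_eq_zero_or_eq_one.mp he with h0 | h1
    · rw [Finsupp.degree_eq_zero_iff] at h0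
      subst h0
      simp [hG]
    · rw [h1]; simp
  · intro d hd
    have : d.degree = 0 := by omega
    rw [Finsupp.degree_eq_zero_iff] at this
    subst this
    simp [hG]

end Defect

section Unique

variable {R : Type*} [CommRing R] {σ : Type*} [Finite σ]

/-- `Good s u q L n G`: `G` has no constant term, the same linear part as `L`, and its defect
vanishes in degrees `≤ n`. -/
def Good (s u : R) (q : ℕ) (L : MvPowerSeries σ R) (n : ℕ) (G : MvPowerSeries σ R) : Prop :=
  constantCoeff G = 0 ∧ (∀ i : σ, coeff (Finsupp.single i 1) G = coeff (Finsupp.single i 1) L) ∧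
    ∀ e : σ →₀ ℕ, e.degree ≤ n → coeff e (defect s u q G) = 0

theorem Good.mono {s u : R} {q : ℕ} {L G : MvPowerSeries σ R} {m n : ℕ} (h : Good s u q L n G)
    (hmn : m ≤ n) : Good s u q L m G :=
  ⟨h.1, h.2.1, fun e he => h.2.2 e (he.trans hmn)⟩

/-- Approximate solutions are unique up to the order of approximation. -/
theorem Good.coeff_eq {s u : R} {q : ℕ} (hq : 2 ≤ q)
    (hu : ∀ r : ℕ, 2 ≤ r → ∀ x : R, (u - u ^ r) * x = 0 → x = 0)
    {L G G' : MvPowerSeries σ R} {n : ℕ} (h : Good s u q L n G) (h' : Good s u q L n G') :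
    ∀ e : σ →₀ ℕ, e.degree ≤ n → coeff e G = coeff e G' := by
  suffices H : ∀ r : ℕ, ∀ e : σ →₀ ℕ, e.degree = r → e.degree ≤ n → coeff e G = coeff e G' from
    fun e he => H _ e rfl he
  intro r
  induction r using Nat.strong_induction_on with
  | _ r ih =>
    intro e her hen
    rcases Nat.lt_or_ge r 2 with hr | hr
    · rcases Nat.le_one_iff_eq_zero_or_eq_one.mp (Nat.lt_succ_iff.mp hr) with h0 | h1
      · rw [h0, Finsupp.degree_eq_zero_iff] at her
        subst her
        simp [h.1, h'.1]
      · have hmem : e ∈ {d : σ →₀ ℕ | d.degree = 1} := by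
          rw [Set.mem_ofPred_eq, her, h1]
        rw [← Finsupp.range_single_one] at hmem
        obtain ⟨i, rfl⟩ := hmem
        rw [h.2.1 i, h'.2.1 i]
    · have hC := coeff_defect_sub s u hq G G' h.1 h'.1 e (fun d hd =>
        ih d.degree (her ▸ hd) d rfl (hd.le.trans hen))
      rw [h.2.2 e hen, h'.2.2 e hen, zero_add, her] at hC
      exact sub_eq_zero.mp (hu r hr _ hC.symm)

/-- Uniqueness for the Lubin–Tate equation. -/
theorem eq_of_defect_eq_zero {s u : R} {q : ℕ} (hq : 2 ≤ q)
    (hu : ∀ r : ℕ, 2 ≤ r → ∀ x : R, (u - u ^ r) * x = 0 → x = 0)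
    {G G' : MvPowerSeries σ R} (hG : constantCoeff G = 0) (hG' : constantCoeff G' = 0)
    (hlin : ∀ i : σ, coeff (Finsupp.single i 1) G = coeff (Finsupp.single i 1) G')
    (hd : defect s u q G = 0) (hd' : defect s u q G' = 0) : G = G' := by
  ext e
  have h1 : Good s u q G' e.degree G := ⟨hG, hlin, fun d _ => by rw [hd, map_zero]⟩
  have h2 : Good s u q G' e.degree G' := ⟨hG', fun _ => rfl, fun d _ => by rw [hd', map_zero]⟩
  exact Good.coeff_eq hq hu h1 h2 e le_rfl

end Unique

section Exist

variable {R : Type*} [CommRing R] {σ : Type*} [Finite σ]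

theorem Good.step {s u : R} {q : ℕ} (hq : 2 ≤ q)
    (hsolve : ∀ G : MvPowerSeries σ R, constantCoeff G = 0 → ∀ e : σ →₀ ℕ, 2 ≤ e.degree →
      ∃ y : R, (u - u ^ e.degree) * y = coeff e (defect s u q G))
    {L G : MvPowerSeries σ R} {n : ℕ} (h : Good s u q L n G) :
    ∃ G' : MvPowerSeries σ R, Good s u q L (n + 1) G' := by
  classical
  rcases Nat.lt_or_ge (n + 1) 2 with hn | hn
  · refine ⟨G, h.1, h.2.1, fun e he => ?_⟩
    exact coeff_defect_of_degree_le_one s u hq G h.1 e (by omega)
  · choose! y hy using fun e => hsolve G h.1 e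
    let Δ : MvPowerSeries σ R := fun e => if e.degree = n + 1 then - y e else 0
    have hΔ : ∀ e : σ →₀ ℕ, coeff e Δ = if e.degree = n + 1 then - y e else 0 := fun e => rfl
    have hΔ0 : ∀ e : σ →₀ ℕ, e.degree ≠ n + 1 → coeff e Δ = 0 := fun e he => by
      rw [hΔ, if_neg he]
    have hc : constantCoeff (G + Δ) = 0 := by
      rw [map_add, h.1, zero_add, ← coeff_zero_eq_constantCoeff_apply, hΔ0]
      rw [map_zero]; omega
    refine ⟨G + Δ, hc, fun i => ?_, fun e he => ?_⟩
    · rw [map_add, hΔ0, add_zero, h.2.1 i]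
      rw [Finsupp.degree_single]; omega
    · rw [coeff_defect_sub s u hq (G + Δ) G hc h.1 e (fun d hd => by
        rw [map_add, hΔ0 d (by omega), add_zero])]
      rw [map_add, add_sub_cancel_left]
      rcases Nat.lt_or_ge e.degree (n + 1) with hlt | hge
      · rw [hΔ0 e (by omega), mul_zero, add_zero]
        exact h.2.2 e (by omega)
      · have heq : e.degree = n + 1 := le_antisymm he hge
        rw [hΔ, if_pos heq, mul_neg, hy e (by omega), add_neg_cancel]

theorem Good.exists {s u : R} {q : ℕ} (hq : 2 ≤ q)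
    (hsolve : ∀ G : MvPowerSeries σ R, constantCoeff G = 0 → ∀ e : σ →₀ ℕ, 2 ≤ e.degree →
      ∃ y : R, (u - u ^ e.degree) * y = coeff e (defect s u q G))
    (L : MvPowerSeries σ R) (hL : constantCoeff L = 0) (n : ℕ) :
    ∃ G : MvPowerSeries σ R, Good s u q L n G := by
  induction n with
  | zero =>
    exact ⟨L, hL, fun _ => rfl, fun e he =>
      coeff_defect_of_degree_le_one s u hq L hL e (by omega)⟩
  | succ n ih =>
    obtain ⟨G, hG⟩ := ih
    exact Good.step hq hsolve hG

/-- Existence and uniqueness for the Lubin–Tate equation with prescribed linear part. -/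
theorem exists_defect_eq_zero {s u : R} {q : ℕ} (hq : 2 ≤ q)
    (hu : ∀ r : ℕ, 2 ≤ r → ∀ x : R, (u - u ^ r) * x = 0 → x = 0)
    (hsolve : ∀ G : MvPowerSeries σ R, constantCoeff G = 0 → ∀ e : σ →₀ ℕ, 2 ≤ e.degree →
      ∃ y : R, (u - u ^ e.degree) * y = coeff e (defect s u q G))
    (L : MvPowerSeries σ R) (hL : constantCoeff L = 0) :
    ∃ G : MvPowerSeries σ R, constantCoeff G = 0 ∧
      (∀ i : σ, coeff (Finsupp.single i 1) G = coeff (Finsupp.single i 1) L) ∧
      defect s u q G = 0 := by
  choose A hA using Good.exists hq hsolve L hL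
  let G : MvPowerSeries σ R := fun e => coeff e (A e.degree)
  have hGc : ∀ e : σ →₀ ℕ, coeff e G = coeff e (A e.degree) := fun e => rfl
  have hGA : ∀ n : ℕ, ∀ e : σ →₀ ℕ, e.degree ≤ n → coeff e G = coeff e (A n) := fun n e he => by
    rw [hGc]
    exact Good.coeff_eq hq hu (hA e.degree) ((hA n).mono he) e le_rfl
  have hG0 : constantCoeff G = 0 := by
    rw [← coeff_zero_eq_constantCoeff_apply, hGA 0 0 (by simp),
      coeff_zero_eq_constantCoeff_apply, (hA 0).1]
  refine ⟨G, hG0, fun i => ?_, ?_⟩
  · rw [hGA 1 _ (by simp), (hA 1).2.1 i]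
  · ext e
    rw [map_zero, coeff_defect_sub s u hq G (A e.degree) hG0 (hA e.degree).1 e (fun d hd => by
      rw [hGA e.degree d hd.le]), hGA e.degree e le_rfl, sub_self, mul_zero, add_zero]
    exact (hA e.degree).2.2 e le_rfl

end Exist

section Compose

variable {R : Type*} [CommRing R] {σ : Type*} [Finite σ] {τ : Type*} [Finite τ]

theorem defect_eq_zero_iff {s u : R} {q : ℕ} (G : MvPowerSeries σ R) :
    defect s u q G = 0 ↔ subst (ltVec u q σ) G = u • G + s • G ^ q := by
  unfold defect
  rw [sub_eq_zero, eq_comm]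

theorem defect_X (u : R) {q : ℕ} (hq : 2 ≤ q) (i : σ) :
    defect 1 u q (X i : MvPowerSeries σ R) = 0 := by
  rw [defect_eq_zero_iff, subst_X (hasSubst_ltVec u (by omega)), one_smul]
  rfl

/-- Composition principle: substituting `f`-endomorphic series into a solution gives a solution. -/
theorem defect_subst_eq_zero {s u : R} {q : ℕ} (hq : 2 ≤ q) (a : σ → MvPowerSeries τ R)
    (ha0 : ∀ i, constantCoeff (a i) = 0) (ha : ∀ i, defect 1 u q (a i) = 0)
    (G : MvPowerSeries σ R) (hG : defect s u q G = 0) :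
    defect s u q (subst a G) = 0 := by
  have hsa : HasSubst a := hasSubst_of_constantCoeff_zero ha0
  have hσ : HasSubst (ltVec u q σ) := hasSubst_ltVec u (by omega)
  have hτ : HasSubst (ltVec u q τ) := hasSubst_ltVec u (by omega)
  rw [defect_eq_zero_iff] at hG ⊢
  rw [subst_comp_subst_apply hsa hτ]
  have key : (fun i => subst (ltVec u q τ) (a i)) = fun i => subst a (ltVec u q σ i) := by
    funext i
    have := ha i
    rw [defect_eq_zero_iff, one_smul] at this
    rw [this]
    unfold ltVec
    rw [subst_add hsa, subst_smul hsa, subst_pow hsa, subst_X hsa]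
  rw [key, ← subst_comp_subst_apply hσ hsa, hG, subst_add hsa, subst_smul hsa, subst_smul hsa,
    subst_pow hsa]

theorem constantCoeff_subst_zero (a : σ → MvPowerSeries τ R)
    (ha0 : ∀ i, constantCoeff (a i) = 0) (G : MvPowerSeries σ R) (hG : constantCoeff G = 0) :
    constantCoeff (subst a G) = 0 :=
  constantCoeff_subst_eq_zero (hasSubst_of_constantCoeff_zero ha0) ha0 hG

end Compose

section Linear

variable {R : Type*} [CommRing R] {σ : Type*} [Fintype σ] {τ : Type*} [Finite τ]

theorem two_le_order_sub_linear (G : MvPowerSeries σ R) (hG : constantCoeff G = 0) :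
    (2 : ℕ∞) ≤ (G - ∑ i, coeff (Finsupp.single i 1) G • (X i : MvPowerSeries σ R)).order := by
  classical
  apply le_order
  intro d hd
  have hd' : d.degree < 2 := by exact_mod_cast hd
  rcases Nat.le_one_iff_eq_zero_or_eq_one.mp (Nat.lt_succ_iff.mp hd') with h0 | h1
  · rw [Finsupp.degree_eq_zero_iff] at h0
    subst h0
    simp [hG]
  · have hmem : d ∈ {d : σ →₀ ℕ | d.degree = 1} := h1
    rw [← Finsupp.range_single_one] at hmem
    obtain ⟨k, rfl⟩ := hmem
    simp [coeff_index_single_X]

/-- Chain rule for linear coefficients. -/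
theorem coeff_single_subst (a : σ → MvPowerSeries τ R) (ha0 : ∀ i, constantCoeff (a i) = 0)
    (G : MvPowerSeries σ R) (hG : constantCoeff G = 0) (j : τ) :
    coeff (Finsupp.single j 1) (subst a G) =
      ∑ i, coeff (Finsupp.single i 1) G * coeff (Finsupp.single j 1) (a i) := by
  have hsa : HasSubst a := hasSubst_of_constantCoeff_zero ha0
  set G₁ : MvPowerSeries σ R := ∑ i, coeff (Finsupp.single i 1) G • (X i : MvPowerSeries σ R)
    with hG₁
  have hdecomp : G = G₁ + (G - G₁) := by ring
  have h2 : (2 : ℕ∞) ≤ (subst a (G - G₁)).order := by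
    refine le_trans ?_ (le_order_subst hsa _)
    have h1 : (1 : ℕ∞) ≤ ⨅ i, (a i).order := le_iInf fun i =>
      one_le_order_iff_constCoeff_eq_zero.mpr (ha0 i)
    calc (2 : ℕ∞) = 1 * 2 := by norm_num
      _ ≤ _ := mul_le_mul' h1 (two_le_order_sub_linear G hG)
  have h0 : coeff (Finsupp.single j 1) (subst a (G - G₁)) = 0 := by
    apply coeff_of_lt_order
    refine lt_of_lt_of_le ?_ h2
    rw [Finsupp.degree_single]
    norm_num
  have h1 : subst a G₁ = ∑ i, coeff (Finsupp.single i 1) G • a i := by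
    rw [hG₁, ← coe_substAlgHom hsa, map_sum]
    refine Finset.sum_congr rfl fun i _ => ?_
    rw [coe_substAlgHom hsa, subst_smul hsa, subst_X hsa]
  have h3 : subst a G = subst a G₁ + subst a (G - G₁) := by
    rw [← subst_add hsa, ← hdecomp]
  rw [h3, map_add, h0, add_zero, h1, map_sum]
  simp only [coeff_smul]

end Linear

section Frobenius

/-- Frobenius for power series over a finite field: `H(X^q) = H(X)^q`. -/
theorem subst_X_pow_card (k : Type*) [Field k] [Finite k] {σ : Type*}
    (H : MvPowerSeries σ k) :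
    subst (fun i => (X i : MvPowerSeries σ k) ^ Nat.card k) H = H ^ Nat.card k := by
  have : Fintype k := Fintype.ofFinite k
  obtain ⟨p, hp⟩ := CharP.exists k
  obtain ⟨n, hprime, hcard⟩ := FiniteField.card k p
  have hp0 : p ≠ 0 := hprime.ne_zero
  have : ExpChar k p := ExpChar.prime hprime
  have hF := map_iterateFrobenius_expand p hp0 H n
  have hid : iterateFrobenius k p n = RingHom.id k := by
    ext x
    rw [iterateFrobenius_def, ← hcard, FiniteField.pow_card, RingHom.id_apply]
  rw [hid, MvPowerSeries.map_id, RingHom.id_apply] at hF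
  rw [Nat.card_eq_fintype_card, hcard, ← hF, expand, coe_substAlgHom]

end Frobenius

section DVR

variable {O : Type*} [CommRing O] [IsDomain O] [IsDiscreteValuationRing O]
  [Finite (IsLocalRing.ResidueField O)] {π : O}

theorem two_le_card : 2 ≤ Nat.card (IsLocalRing.ResidueField O) :=
  Finite.one_lt_card

theorem isUnit_one_sub_pow (hπ : Irreducible π) {m : ℕ} (hm : m ≠ 0) : IsUnit (1 - π ^ m) := by
  apply IsLocalRing.isUnit_one_sub_self_of_mem_nonunits
  rw [← IsLocalRing.mem_maximalIdeal]
  exact Ideal.pow_mem_of_mem _ ((IsLocalRing.mem_maximalIdeal _).mpr hπ.not_isUnit) m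
    (Nat.pos_of_ne_zero hm)

theorem sub_pow_eq (π : O) {r : ℕ} (hr : 2 ≤ r) : π - π ^ r = π * (1 - π ^ (r - 1)) := by
  obtain ⟨k, rfl⟩ : ∃ k, r = k + 1 := ⟨r - 1, by omega⟩
  rw [Nat.add_sub_cancel, pow_succ]
  ring

theorem nzd (hπ : Irreducible π) (r : ℕ) (hr : 2 ≤ r) (x : O) (h : (π - π ^ r) * x = 0) :
    x = 0 := by
  rw [sub_pow_eq π hr, mul_assoc] at h
  rcases mul_eq_zero.mp h with h1 | h1
  · exact absurd h1 hπ.ne_zero
  · rcases mul_eq_zero.mp h1 with h2 | h2
    · exact absurd h2 (isUnit_one_sub_pow hπ (by omega)).ne_zero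
    · exact h2

variable {σ : Type*} [Finite σ]

theorem map_residue_defect (hπ : Irreducible π) (G : MvPowerSeries σ O) :
    MvPowerSeries.map (IsLocalRing.residue O)
      (defect 1 π (Nat.card (IsLocalRing.ResidueField O)) G) = 0 := by
  have hq := two_le_card (O := O)
  have hres : IsLocalRing.residue O π = 0 := by
    rw [IsLocalRing.residue_eq_zero_iff]
    exact (IsLocalRing.mem_maximalIdeal _).mpr hπ.not_isUnit
  unfold defect
  rw [map_sub, map_add, map_subst (hasSubst_ltVec π (by omega)), one_smul, map_pow]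
  have h1 : MvPowerSeries.map (IsLocalRing.residue O) (π • G) = 0 := by
    ext e
    simp [hres]
  have h2 : (fun i => MvPowerSeries.map (IsLocalRing.residue O)
      (ltVec π (Nat.card (IsLocalRing.ResidueField O)) σ i)) =
      fun i => (X i : MvPowerSeries σ (IsLocalRing.ResidueField O)) ^
        Nat.card (IsLocalRing.ResidueField O) := by
    funext i
    unfold ltVec
    rw [map_add, map_pow, map_X]
    have : MvPowerSeries.map (IsLocalRing.residue O) (π • (X i : MvPowerSeries σ O)) = 0 := by
      ext e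
      simp [hres]
    rw [this, zero_add]
  rw [h1, h2, subst_X_pow_card, zero_add, sub_self]

theorem solve (hπ : Irreducible π) (G : MvPowerSeries σ O) (e : σ →₀ ℕ) (he : 2 ≤ e.degree) :
    ∃ y : O, (π - π ^ e.degree) * y =
      coeff e (defect 1 π (Nat.card (IsLocalRing.ResidueField O)) G) := by
  have h0 : IsLocalRing.residue O
      (coeff e (defect 1 π (Nat.card (IsLocalRing.ResidueField O)) G)) = 0 := by
    rw [← coeff_map, map_residue_defect hπ, map_zero]
  rw [IsLocalRing.residue_eq_zero_iff, hπ.maximalIdeal_eq, Ideal.mem_span_singleton] at h0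
  obtain ⟨z, hz⟩ := h0
  obtain ⟨v, hv⟩ := isUnit_one_sub_pow hπ (m := e.degree - 1) (by omega)
  refine ⟨(↑v⁻¹ : O) * z, ?_⟩
  rw [sub_pow_eq π he, ← hv, hz]
  calc π * (v : O) * ((↑v⁻¹ : O) * z) = π * z * ((v : O) * (↑v⁻¹ : O)) := by ring
    _ = π * z := by rw [Units.mul_inv, mul_one]

/-- The Lubin–Tate lemma over a discrete valuation ring with finite residue field. -/
theorem exists_lt (hπ : Irreducible π) (L : MvPowerSeries σ O) (hL : constantCoeff L = 0) :
    ∃ G : MvPowerSeries σ O, constantCoeff G = 0 ∧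
      (∀ i : σ, coeff (Finsupp.single i 1) G = coeff (Finsupp.single i 1) L) ∧
      defect 1 π (Nat.card (IsLocalRing.ResidueField O)) G = 0 :=
  exists_defect_eq_zero two_le_card (nzd hπ) (fun G _ e he => solve hπ G e he) L hL

theorem unique_lt (hπ : Irreducible π) {s : O} {G G' : MvPowerSeries σ O}
    (hG : constantCoeff G = 0) (hG' : constantCoeff G' = 0)
    (hlin : ∀ i : σ, coeff (Finsupp.single i 1) G = coeff (Finsupp.single i 1) G')
    (hd : defect s π (Nat.card (IsLocalRing.ResidueField O)) G = 0)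
    (hd' : defect s π (Nat.card (IsLocalRing.ResidueField O)) G' = 0) : G = G' :=
  eq_of_defect_eq_zero two_le_card (nzd hπ) hG hG' hlin hd hd'

end DVR

section Bridge

variable {R : Type*} [CommRing R]

theorem ltVec_unit (u : R) (q : ℕ) :
    ltVec u q Unit = fun _ => (ltSeries u q : MvPowerSeries Unit R) := by
  funext i
  rfl

theorem fun_subst_X_ltSeries (u : R) (q : ℕ) (σ : Type*) :
    (fun i : σ => PowerSeries.subst (X i : MvPowerSeries σ R) (ltSeries u q)) = ltVec u q σ :=
  funext fun i => subst_X_ltSeries u q i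

/-- The multivariate Lubin–Tate equation in the form used by the statements. -/
theorem lt_eq_iff_defect {σ : Type*} [Finite σ] (u : R) (q : ℕ) (G : MvPowerSeries σ R)
    (hG : constantCoeff G = 0) :
    PowerSeries.subst G (ltSeries u q) =
      MvPowerSeries.subst
        (fun i : σ => PowerSeries.subst (X i : MvPowerSeries σ R) (ltSeries u q)) G ↔
      defect 1 u q G = 0 := by
  rw [subst_ltSeries u q G hG, fun_subst_X_ltSeries, defect_eq_zero_iff, one_smul, eq_comm]

/-- The one-variable commutation equation. -/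
theorem comm_iff_defect (u : R) (q : ℕ) (g : PowerSeries R) (hg : PowerSeries.constantCoeff g = 0) :
    PowerSeries.subst g (ltSeries u q) = PowerSeries.subst (ltSeries u q) g ↔
      defect 1 u q (g : MvPowerSeries Unit R) = 0 := by
  rw [subst_ltSeries u q g hg, PowerSeries.subst_def, ← ltVec_unit, defect_eq_zero_iff, one_smul,
    eq_comm]

/-- The logarithm equation. -/
theorem log_iff_defect (u : R) (q : ℕ) (l : PowerSeries R) :
    PowerSeries.subst (ltSeries u q) l = u • l ↔
      defect 0 u q (l : MvPowerSeries Unit R) = 0 := by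
  rw [PowerSeries.subst_def, ← ltVec_unit, defect_eq_zero_iff, zero_smul, add_zero]

end Bridge

end Groth.Agent.Lib.LubinTate58
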