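import Mathlib
import Groth.Agent.Lib.LubinTate58

set_option autoImplicit false
set_option linter.unusedSectionVars false
set_option linter.unusedVariables false

open MvPowerSeries

namespace Groth.Agent.Lib.LubinTate58

section Pair

variable {R : Type*} [CommRing R] {τ : Type*} [Finite τ]

theorem constantCoeff_pair (a b : MvPowerSeries τ R) (ha : constantCoeff a = 0)
    (hb : constantCoeff b = 0) (i : Fin 2) :
    constantCoeff ((![a, b] : Fin 2 → MvPowerSeries τ R) i) = 0 := by
  fin_cases i
  · exact ha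
  · exact hb

theorem constantCoeff_subst_pair (G : MvPowerSeries (Fin 2) R) (hG : constantCoeff G = 0)
    (a b : MvPowerSeries τ R) (ha : constantCoeff a = 0) (hb : constantCoeff b = 0) :
    constantCoeff (subst ![a, b] G) = 0 :=
  constantCoeff_subst_zero _ (constantCoeff_pair a b ha hb) G hG

theorem defect_subst_pair {s u : R} {q : ℕ} (hq : 2 ≤ q) (G : MvPowerSeries (Fin 2) R)
    (hG : defect s u q G = 0)
    (a b : MvPowerSeries τ R) (ha : constantCoeff a = 0) (hb : constantCoeff b = 0)
    (hda : defect 1 u q a = 0) (hdb : defect 1 u q b = 0) :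
    defect s u q (subst ![a, b] G) = 0 := by
  refine defect_subst_eq_zero hq _ (constantCoeff_pair a b ha hb) ?_ G hG
  intro i
  fin_cases i
  · exact hda
  · exact hdb

theorem coeff_single_subst_pair (G : MvPowerSeries (Fin 2) R) (hG : constantCoeff G = 0)
    (a b : MvPowerSeries τ R) (ha : constantCoeff a = 0) (hb : constantCoeff b = 0) (j : τ) :
    coeff (Finsupp.single j 1) (subst ![a, b] G) =
      coeff (Finsupp.single 0 1) G * coeff (Finsupp.single j 1) a +
        coeff (Finsupp.single 1 1) G * coeff (Finsupp.single j 1) b := by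
  rw [coeff_single_subst _ (constantCoeff_pair a b ha hb) G hG, Fin.sum_univ_two]
  rfl

end Pair

section FormalGroup

variable {R : Type*} [CommRing R]

/-- A solution of the Lubin–Tate equation with linear part `X + Y` is a commutative formal
group law, provided solutions are unique. -/
theorem exists_formalGroup_of_defect {u : R} {q : ℕ} (hq : 2 ≤ q)
    (hu : ∀ r : ℕ, 2 ≤ r → ∀ x : R, (u - u ^ r) * x = 0 → x = 0)
    (G : MvPowerSeries (Fin 2) R) (hG0 : constantCoeff G = 0)
    (hGX : coeff (Finsupp.single 0 1) G = 1) (hGY : coeff (Finsupp.single 1 1) G = 1)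
    (hGd : defect 1 u q G = 0) :
    ∃ F : FormalGroup R, F.IsComm ∧ F.toPowerSeries = G := by
  have X0 : ∀ {τ : Type} [Finite τ] (i : τ), constantCoeff (X i : MvPowerSeries τ R) = 0 :=
    fun i => by simp
  have hassoc : subst ![subst ![(X 0 : MvPowerSeries (Fin 3) R), X 1] G, X 2] G =
      subst ![(X 0 : MvPowerSeries (Fin 3) R), subst ![X 1, X 2] G] G := by
    have c01 := constantCoeff_subst_pair G hG0 (X 0 : MvPowerSeries (Fin 3) R) (X 1) (X0 _) (X0 _)
    have c12 := constantCoeff_subst_pair G hG0 (X 1 : MvPowerSeries (Fin 3) R) (X 2) (X0 _) (X0 _)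
    have d01 := defect_subst_pair hq G hGd (X 0 : MvPowerSeries (Fin 3) R) (X 1) (X0 _) (X0 _)
      (defect_X u hq _) (defect_X u hq _)
    have d12 := defect_subst_pair hq G hGd (X 1 : MvPowerSeries (Fin 3) R) (X 2) (X0 _) (X0 _)
      (defect_X u hq _) (defect_X u hq _)
    refine eq_of_defect_eq_zero hq hu
      (constantCoeff_subst_pair G hG0 _ _ c01 (X0 _))
      (constantCoeff_subst_pair G hG0 _ _ (X0 _) c12) ?_
      (defect_subst_pair hq G hGd _ _ c01 (X0 _) d01 (defect_X u hq _))
      (defect_subst_pair hq G hGd _ _ (X0 _) c12 (defect_X u hq _) d12)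
    intro j
    rw [coeff_single_subst_pair G hG0 _ _ c01 (X0 _), coeff_single_subst_pair G hG0 _ _ (X0 _) c12,
      coeff_single_subst_pair G hG0 _ _ (X0 _) (X0 _),
      coeff_single_subst_pair G hG0 _ _ (X0 _) (X0 _), hGX, hGY]
    ring
  have hcomm : G = subst ![(X 1 : MvPowerSeries (Fin 2) R), X 0] G := by
    refine eq_of_defect_eq_zero hq hu hG0
      (constantCoeff_subst_pair G hG0 _ _ (X0 _) (X0 _)) ?_ hGd
      (defect_subst_pair hq G hGd _ _ (X0 _) (X0 _) (defect_X u hq _) (defect_X u hq _))
    intro j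
    rw [coeff_single_subst_pair G hG0 _ _ (X0 _) (X0 _), hGX, hGY]
    fin_cases j
    · simp [coeff_index_single_X, hGX]
    · simp [coeff_index_single_X, hGY]
  exact ⟨⟨G, hG0, hGX, hGY, hassoc⟩, ⟨hcomm⟩, rfl⟩

end FormalGroup

end Groth.Agent.Lib.LubinTate58
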