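import Mathlib
import Groth.Agent.Lib.LubinTate58

set_option autoImplicit false
set_option linter.unusedSectionVars false
set_option linter.unusedVariables false

open MvPowerSeries

namespace Groth.Agent.Lib.LubinTate58

section Map

variable {R S : Type*} [CommRing R] [CommRing S] (φ : R →+* S) {σ : Type*} [Finite σ]

theorem map_smul_ps (c : R) (G : MvPowerSeries σ R) :
    MvPowerSeries.map φ (c • G) = φ c • MvPowerSeries.map φ G := by
  ext e
  simp

theorem map_ltVec (u : R) (q : ℕ) (i : σ) :
    MvPowerSeries.map φ (ltVec u q σ i) = ltVec (φ u) q σ i := by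
  unfold ltVec
  rw [map_add, map_pow, map_smul_ps, map_X]

theorem map_defect (s u : R) {q : ℕ} (hq : 2 ≤ q) (G : MvPowerSeries σ R) :
    MvPowerSeries.map φ (defect s u q G) = defect (φ s) (φ u) q (MvPowerSeries.map φ G) := by
  unfold defect
  rw [map_sub, map_add, map_smul_ps, map_smul_ps, map_pow,
    map_subst (hasSubst_ltVec u (by omega))]
  simp only [map_ltVec]

theorem map_ltSeries (u : R) (q : ℕ) :
    PowerSeries.map φ (ltSeries u q) = ltSeries (φ u) q := by
  unfold ltSeries
  rw [map_add, map_pow, PowerSeries.map_X]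
  congr 1
  ext n
  simp [PowerSeries.coeff_X, apply_ite φ]

end Map

section Additive

variable {R : Type*} [CommRing R] {σ : Type*} [Finite σ]

theorem defect_zero_add (u : R) {q : ℕ} (hq : 2 ≤ q) (A B : MvPowerSeries σ R) :
    defect 0 u q (A + B) = defect 0 u q A + defect 0 u q B := by
  unfold defect
  rw [subst_add (hasSubst_ltVec u (by omega)), zero_smul, zero_smul, zero_smul, smul_add]
  ring

theorem defect_zero_smul (u : R) {q : ℕ} (hq : 2 ≤ q) (c : R) (A : MvPowerSeries σ R) :
    defect 0 u q (c • A) = c • defect 0 u q A := by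
  unfold defect
  rw [subst_smul (hasSubst_ltVec u (by omega)), zero_smul, zero_smul, add_zero, add_zero,
    smul_sub, smul_comm]

end Additive

section Field

variable {K : Type*} [Field K] {σ : Type*} [Finite σ]

/-- Existence of logarithm-type series over a field. -/
theorem exists_log {u : K} {q : ℕ} (hq : 2 ≤ q) (hu : ∀ r : ℕ, 2 ≤ r → u - u ^ r ≠ 0)
    (L : MvPowerSeries σ K) (hL : constantCoeff L = 0) :
    ∃ G : MvPowerSeries σ K, constantCoeff G = 0 ∧
      (∀ i : σ, coeff (Finsupp.single i 1) G = coeff (Finsupp.single i 1) L) ∧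
      defect 0 u q G = 0 := by
  refine exists_defect_eq_zero hq (fun r hr x hx => ?_) (fun G _ e he => ?_) L hL
  · exact (mul_eq_zero.mp hx).resolve_left (hu r hr)
  · exact ⟨(u - u ^ e.degree)⁻¹ * coeff e (defect 0 u q G), by
      rw [← mul_assoc, mul_inv_cancel₀ (hu _ he), one_mul]⟩

theorem unique_log {s u : K} {q : ℕ} (hq : 2 ≤ q) (hu : ∀ r : ℕ, 2 ≤ r → u - u ^ r ≠ 0)
    {G G' : MvPowerSeries σ K} (hG : constantCoeff G = 0) (hG' : constantCoeff G' = 0)
    (hlin : ∀ i : σ, coeff (Finsupp.single i 1) G = coeff (Finsupp.single i 1) G')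
    (hd : defect s u q G = 0) (hd' : defect s u q G' = 0) : G = G' :=
  eq_of_defect_eq_zero hq (fun r hr x hx => (mul_eq_zero.mp hx).resolve_left (hu r hr))
    hG hG' hlin hd hd'

end Field

section DVRField

variable {O : Type*} [CommRing O] [IsDomain O] [IsDiscreteValuationRing O]
  [Finite (IsLocalRing.ResidueField O)] {π : O}
  {K : Type*} [Field K] [Algebra O K] [IsFractionRing O K]

theorem algebraMap_sub_pow_ne_zero (hπ : Irreducible π) (r : ℕ) (hr : 2 ≤ r) :
    algebraMap O K π - algebraMap O K π ^ r ≠ 0 := by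
  rw [← map_pow, ← map_sub]
  intro h
  have h0 : π - π ^ r = 0 := (IsFractionRing.injective O K) (by rw [h, map_zero])
  have := nzd hπ r hr 1 (by rw [h0, zero_mul])
  exact one_ne_zero this

end DVRField

end Groth.Agent.Lib.LubinTate58
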