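/-
helper84: a unirational function field of transcendence degree one over an infinite field embeds
into `k(X)` (restriction to a general line), hence is purely transcendental by Lüroth's theorem.
-/
import Mathlib

set_option autoImplicit false
set_option maxHeartbeats 800000
set_option linter.style.haveILetI false

namespace Groth.Agent.Lib.Luroth84

open Polynomial

section line

variable {k : Type*} [Field k] {n : ℕ}

theorem exists_eval_ne_zero [Infinite k] (f : MvPolynomial (Fin n) k) (hf : f ≠ 0) :
    ∃ p : Fin n → k, MvPolynomial.eval p f ≠ 0 := by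
  by_contra h
  push Not at h
  exact hf (MvPolynomial.funext fun p => by simpa using h p)

/-- Restriction of a polynomial function to the line through `p` and `q`. -/
noncomputable def line (p q : Fin n → k) : MvPolynomial (Fin n) k →ₐ[k] k[X] :=
  MvPolynomial.aeval fun i => C (p i) + C (q i - p i) * X

theorem eval_zero_line (p q : Fin n → k) (f : MvPolynomial (Fin n) k) :
    (line p q f).eval 0 = MvPolynomial.eval p f := by
  have : (Polynomial.evalRingHom 0).comp (line p q).toRingHom = MvPolynomial.eval p := by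
    apply MvPolynomial.ringHom_ext
    · intro c; simp [line]
    · intro i; simp [line]
  exact RingHom.congr_fun this f

theorem eval_one_line (p q : Fin n → k) (f : MvPolynomial (Fin n) k) :
    (line p q f).eval 1 = MvPolynomial.eval q f := by
  have : (Polynomial.evalRingHom 1).comp (line p q).toRingHom = MvPolynomial.eval q := by
    apply MvPolynomial.ringHom_ext
    · intro c; simp [line]
    · intro i; simp [line]
  exact RingHom.congr_fun this f

theorem exists_line [Infinite k] (d u v : MvPolynomial (Fin n) k) (hd : d ≠ 0) (hv : v ≠ 0)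
    (huv : ¬ ∃ c : k, u = MvPolynomial.C c * v) :
    ∃ θ : MvPolynomial (Fin n) k →ₐ[k] k[X], θ d ≠ 0 ∧ θ v ≠ 0 ∧
      ¬ ∃ c : k, θ u = C c * θ v := by
  obtain ⟨p, hp⟩ := exists_eval_ne_zero (d * v) (mul_ne_zero hd hv)
  rw [map_mul] at hp
  have hdp := left_ne_zero_of_mul hp
  have hvp := right_ne_zero_of_mul hp
  set h := MvPolynomial.C (MvPolynomial.eval p u) * v - MvPolynomial.C (MvPolynomial.eval p v) * u
    with hh
  have hne : h ≠ 0 := by
    intro h0
    apply huv
    refine ⟨MvPolynomial.eval p u / MvPolynomial.eval p v, ?_⟩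
    have h1 : MvPolynomial.C (MvPolynomial.eval p v) * u
        = MvPolynomial.C (MvPolynomial.eval p u) * v := (sub_eq_zero.mp h0).symm
    have hC : (MvPolynomial.C (MvPolynomial.eval p v) : MvPolynomial (Fin n) k) ≠ 0 := by
      simpa using hvp
    apply mul_left_cancel₀ hC
    rw [h1, ← mul_assoc, ← map_mul, mul_div_cancel₀ _ hvp]
  obtain ⟨q, hq⟩ := exists_eval_ne_zero h hne
  refine ⟨line p q, ?_, ?_, ?_⟩
  · intro h0; apply hdp; rw [← eval_zero_line p q, h0, eval_zero]
  · intro h0; apply hvp; rw [← eval_zero_line p q, h0, eval_zero]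
  · rintro ⟨c, hc⟩
    apply hq
    have e0 := congrArg (Polynomial.eval 0) hc
    have e1 := congrArg (Polynomial.eval 1) hc
    simp only [eval_mul, eval_C, eval_zero_line, eval_one_line] at e0 e1
    simp only [hh, map_sub, map_mul, MvPolynomial.eval_C]
    rw [e0, e1]; ring

end line

section loc

variable {k : Type*} [Field k] {R : Type*} [CommRing R] [IsDomain R] [Algebra k R]
  {L : Type*} [Field L] [Algebra R L] [Algebra k L] [IsScalarTower k R L] [IsFractionRing R L]
  {F : Type*} [Field F] [Algebra k F]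
  {K : Type*} [Field K] [Algebra k K]

/-- Specialisation along `θ : R → F`: the elements of `K ⊆ Frac R` with a denominator not killed
by `θ` form a subalgebra `V`, on which `θ` induces a homomorphism to `F`. -/
theorem exists_specialization (θ : R →ₐ[k] F) (φ : K →ₐ[k] L) :
    ∃ (V : Subalgebra k K) (ψ : V →ₐ[k] F), ∀ (z : K) (a b : R), θ b ≠ 0 →
      φ z = algebraMap R L a / algebraMap R L b → ∃ hz : z ∈ V, ψ ⟨z, hz⟩ = θ a / θ b := by
  have hP : (RingHom.ker θ).IsPrime := RingHom.ker_isPrime θ
  let O := Localization.AtPrime (RingHom.ker θ)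
  have hunitL : ∀ y : (RingHom.ker θ).primeCompl,
      IsUnit ((IsScalarTower.toAlgHom k R L) (y : R)) := fun y => by
    have : (y : R) ≠ 0 := fun h0 => y.2 (by rw [h0]; exact Ideal.zero_mem _)
    exact (IsUnit.mk0 _ ((map_ne_zero_iff _ (IsFractionRing.injective R L)).mpr this))
  have hunitF : ∀ y : (RingHom.ker θ).primeCompl, IsUnit (θ (y : R)) := fun y =>
    IsUnit.mk0 _ (fun h0 => y.2 ((RingHom.mem_ker).mpr h0))
  let ι : O →ₐ[k] L := IsLocalization.liftAlgHom (M := (RingHom.ker θ).primeCompl) hunitL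
  let ρ : O →ₐ[k] F := IsLocalization.liftAlgHom (M := (RingHom.ker θ).primeCompl) hunitF
  have hι : Function.Injective ι := by
    have := (IsLocalization.lift_injective_iff (M := (RingHom.ker θ).primeCompl) (S := O)
      (g := (IsScalarTower.toAlgHom k R L).toRingHom) hunitL).mpr (fun x y => by
        rw [(IsLocalization.injective O
          (Ideal.primeCompl_le_nonZeroDivisors (RingHom.ker θ))).eq_iff]
        exact ((IsFractionRing.injective R L).eq_iff).symm)
    exact this
  let e : O ≃ₐ[k] ι.range := AlgEquiv.ofInjective ι hι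
  let V : Subalgebra k K := ι.range.comap φ
  let φV : V →ₐ[k] ι.range := (φ.comp V.val).codRestrict ι.range (fun z => z.2)
  refine ⟨V, ρ.comp (e.symm.toAlgHom.comp φV), ?_⟩
  intro z a b hb hz
  have hbP : b ∈ (RingHom.ker θ).primeCompl := fun h => hb ((RingHom.mem_ker).mp h)
  have hιo : ι (IsLocalization.mk' O a ⟨b, hbP⟩) = φ z := by
    rw [hz]
    have hb0 : algebraMap R L b ≠ 0 := by
      have : (b : R) ≠ 0 := fun h0 => hb (by rw [h0, map_zero])
      exact (map_ne_zero_iff _ (IsFractionRing.injective R L)).mpr this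
    refine (IsLocalization.lift_mk'_spec (M := (RingHom.ker θ).primeCompl) (S := O)
      (g := (IsScalarTower.toAlgHom k R L).toRingHom) hunitL a _ ⟨b, hbP⟩).mpr ?_
    simp only [AlgHom.toRingHom_eq_coe, RingHom.coe_coe, IsScalarTower.coe_toAlgHom']
    field_simp
  have hzV : z ∈ V := ⟨_, hιo⟩
  refine ⟨hzV, ?_⟩
  have hρo : ρ (IsLocalization.mk' O a ⟨b, hbP⟩) = θ a / θ b := by
    refine (IsLocalization.lift_mk'_spec (M := (RingHom.ker θ).primeCompl) (S := O)
      (g := θ.toRingHom) hunitF a _ ⟨b, hbP⟩).mpr ?_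
    simp only [AlgHom.toRingHom_eq_coe, RingHom.coe_coe]
    field_simp
  rw [← hρo]
  simp only [AlgHom.comp_apply]
  congr 1
  apply (AlgEquiv.symm_apply_eq e).mpr
  apply Subtype.ext
  exact hιo.symm

end loc

section main

open scoped IntermediateField.algebraAdjoinAdjoin

variable {k : Type*} [Field k] [Infinite k] {K : Type*} [Field K] [Algebra k K]

theorem exists_algHom_ratFunc (S : Finset K) (hS : IntermediateField.adjoin k (S : Set K) = ⊤)
    (x : K) (hx : Transcendental k x)
    (halg : Algebra.IsAlgebraic (IntermediateField.adjoin k {x}) K)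
    (n : ℕ) (φ : K →ₐ[k] FractionRing (MvPolynomial (Fin n) k)) :
    Nonempty (K →ₐ[k] RatFunc k) := by
  classical
  set R := MvPolynomial (Fin n) k with hR
  set L := FractionRing R with hL
  choose a b hb hab using fun s : K => IsFractionRing.div_surjective R (φ s)
  have hb0 : ∀ s, b s ≠ 0 := fun s => nonZeroDivisors.ne_zero (hb s)
  have hbL : ∀ s, algebraMap R L (b s) ≠ 0 := fun s =>
    (map_ne_zero_iff _ (IsFractionRing.injective R L)).mpr (hb0 s)
  let S' := insert x S
  let d : R := ∏ s ∈ S', b s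
  have hd : d ≠ 0 := Finset.prod_ne_zero_iff.mpr fun s _ => hb0 s
  have huv : ¬ ∃ c : k, a x = MvPolynomial.C c * b x := by
    rintro ⟨c, hc⟩
    have h1 : φ x = φ (algebraMap k K c) := by
      rw [← hab x, hc, map_mul, mul_div_assoc, div_self (hbL x), mul_one, AlgHom.commutes,
        IsScalarTower.algebraMap_apply k R L]
      rfl
    have h2 := φ.injective h1
    exact hx (h2 ▸ isAlgebraic_algebraMap c)
  obtain ⟨θ, hθd, hθv, hθuv⟩ := exists_line d (a x) (b x) hd (hb0 x) huv
  let θ' : R →ₐ[k] RatFunc k := (IsScalarTower.toAlgHom k k[X] (RatFunc k)).comp θ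
  have hθ'inj : ∀ f g, θ' f = θ' g ↔ θ f = θ g := fun f g =>
    (IsFractionRing.injective k[X] (RatFunc k)).eq_iff
  have hθ'0 : ∀ f, θ' f = 0 ↔ θ f = 0 := fun f => by
    rw [← map_zero θ', hθ'inj, map_zero]
  obtain ⟨V, ψ, hψ⟩ := exists_specialization θ' φ
  have hθb : ∀ s ∈ S', θ' (b s) ≠ 0 := by
    intro s hs
    have h1 : θ d = ∏ s ∈ S', θ (b s) := map_prod θ _ _
    rw [h1] at hθd
    rw [Ne, hθ'0]
    exact Finset.prod_ne_zero_iff.mp hθd s hs
  have hS'V : ∀ s ∈ S', s ∈ V := fun s hs => (hψ s (a s) (b s) (hθb s hs) (hab s).symm).1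
  have hxS' : x ∈ S' := Finset.mem_insert_self x S
  have hxV : x ∈ V := hS'V x hxS'
  -- `ψ x` is transcendental
  have hψx : Transcendental k (ψ ⟨x, hxV⟩) := by
    obtain ⟨_, h2⟩ := hψ x (a x) (b x) (hθb x hxS') (hab x).symm
    rw [h2]
    apply RatFunc.transcendental_of_ne_C
    rintro ⟨c, hc⟩
    apply hθuv
    refine ⟨c, ?_⟩
    rw [div_eq_iff (hθb x hxS')] at hc
    apply IsFractionRing.injective k[X] (RatFunc k)
    rw [map_mul, RatFunc.algebraMap_C]
    exact hc
  -- injectivity
  have hAV : Algebra.adjoin k {x} ≤ V := Algebra.adjoin_le (by simpa using hxV)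
  have hψinj : Function.Injective ψ := by
    rw [injective_iff_map_eq_zero]
    rintro ⟨y, hyV⟩ h0
    by_contra hne
    have hy0 : y ≠ 0 := fun h => hne (Subtype.ext h)
    have halg1 : IsAlgebraic (Algebra.adjoin k {x}) y :=
      (IsFractionRing.isAlgebraic_iff (Algebra.adjoin k {x}) (IntermediateField.adjoin k {x})
        K).mpr (halg.isAlgebraic y)
    obtain ⟨g, hg0, hg⟩ :=
      halg1.exists_nonzero_coeff_and_aeval_eq_zero (mem_nonZeroDivisors_of_ne_zero hy0)
    have hmem : ∀ g : (Algebra.adjoin k {x})[X], aeval y g ∈ V := fun g => by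
      rw [Polynomial.aeval_eq_sum_range]
      exact V.sum_mem fun i _ => by
        rw [Algebra.smul_def]
        exact V.mul_mem (hAV (g.coeff i).2) (V.pow_mem hyV i)
    have hdec : aeval y g = aeval y g.divX * y + ((g.coeff 0 : Algebra.adjoin k {x}) : K) := by
      conv_lhs => rw [← Polynomial.divX_mul_X_add g]
      simp only [map_add, map_mul, aeval_X, aeval_C]
      rfl
    obtain ⟨G, hG⟩ : ((g.coeff 0 : Algebra.adjoin k {x}) : K) ∈
        (aeval x : k[X] →ₐ[k] K).range := by
      rw [← Algebra.adjoin_singleton_eq_range_aeval]; exact (g.coeff 0).2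
    replace hG : aeval x G = ((g.coeff 0 : Algebra.adjoin k {x}) : K) := hG
    have hG0 : G ≠ 0 := by
      rintro rfl
      apply hg0
      apply Subtype.ext
      rw [← hG]; simp
    have hV : (aeval (⟨x, hxV⟩ : V) G : V) = - (⟨aeval y g.divX, hmem _⟩ * ⟨y, hyV⟩) := by
      apply Subtype.ext
      rw [Polynomial.aeval_subalgebra_coe]
      simp only [NegMemClass.coe_neg, MulMemClass.coe_mul]
      rw [hG]
      linear_combination hdec.symm.trans hg
    have h3 : aeval (ψ ⟨x, hxV⟩) G = 0 := by
      rw [Polynomial.aeval_algHom_apply, hV, map_neg, map_mul, h0, mul_zero, neg_zero]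
    exact hψx ⟨G, hG0, h3⟩
  haveI : IsFractionRing V K := IsFractionRing.of_field V K (fun z => by
    have hz : z ∈ IntermediateField.adjoin k (S : Set K) := hS ▸ IntermediateField.mem_top
    obtain ⟨r, hr, s, hs, rfl⟩ := IntermediateField.mem_adjoin_iff_div.mp hz
    have hle : Algebra.adjoin k (S : Set K) ≤ V :=
      Algebra.adjoin_le fun s hs => hS'V s (Finset.mem_insert_of_mem hs)
    exact ⟨⟨r, hle hr⟩, ⟨s, hle hs⟩, rfl⟩)
  exact ⟨IsFractionRing.liftAlgHom (g := ψ) hψinj⟩

end main

section final

variable {k : Type*} [Field k] {K : Type*} [Field K] [Algebra k K]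

theorem exists_adjoin_eq_top_of_algHom_ratFunc (x : K) (hx : Transcendental k x)
    (ψ : K →ₐ[k] RatFunc k) :
    ∃ t : K, Transcendental k t ∧ IntermediateField.adjoin k {t} = ⊤ := by
  let E : IntermediateField k (RatFunc k) := ψ.fieldRange
  have hE : E ≠ ⊥ := by
    intro h
    have h1 : ψ x ∈ E := ⟨x, rfl⟩
    rw [h, IntermediateField.mem_bot] at h1
    obtain ⟨c, hc⟩ := h1
    have h2 : IsAlgebraic k (ψ x) := hc ▸ isAlgebraic_algebraMap c
    exact hx ((isAlgebraic_algHom_iff ψ ψ.injective).mp h2)
  obtain ⟨t, ht⟩ : RatFunc.Luroth.generator E ∈ E := RatFunc.Luroth.generator_mem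
  refine ⟨t, ?_, ?_⟩
  · intro h
    exact RatFunc.Luroth.transcendental_generator hE
      (ht ▸ (isAlgebraic_algHom_iff ψ ψ.injective).mpr h)
  · apply IntermediateField.map_injective ψ
    rw [IntermediateField.adjoin_map, Set.image_singleton, ← AlgHom.fieldRange_eq_map]
    have := RatFunc.Luroth.eq_adjoin_generator (E := E)
    rw [← ht] at this
    exact this.symm

end final

end Groth.Agent.Lib.Luroth84
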