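import Groth.Agent.Lib.NzdFiber88
import Mathlib.LinearAlgebra.TensorProduct.Pi
import Mathlib.RingTheory.FiniteType

/-!
# Mittag-Leffler descends along universally injective maps; countable generation (helper88)

* `isMittagLeffler_of_univInj`: if `f : M → M'` is universally injective and `M'` is
  Mittag-Leffler then so is `M` (Stacks 05CX).
* `isCountablyGenerated_of_finiteType`: a finite module over a finite type `R`-algebra is
  countably generated over `R`.
-/

set_option autoImplicit false
set_option maxHeartbeats 400000

open TensorProduct Function
open scoped Pointwise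

universe u

namespace Groth.Agent.Lib.MLUnivInj88

open Groth.Agent.Lib.NzdFiber88

section ML

variable {R : Type u} [CommRing R] {M M' : Type u} [AddCommGroup M] [Module R M]
  [AddCommGroup M'] [Module R M']

theorem isMittagLeffler_of_univInj (f : M →ₗ[R] M') (hf : FlatCA.UnivInj R f)
    (h : CAlg.IsMittagLeffler R M') : CAlg.IsMittagLeffler R M := by
  intro ι Q _ _
  have hsq : ∀ w : M ⊗[R] (∀ i, Q i),
      TensorProduct.piRightHom R R M' Q (f.rTensor _ w) =
        fun i => f.rTensor (Q i) (TensorProduct.piRightHom R R M Q w i) := by
    intro w
    induction w with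
    | zero =>
      funext i
      simp
    | add x y hx hy =>
      rw [map_add, map_add, hx, hy, map_add]
      funext i
      simp
    | tmul m q =>
      funext i
      simp
  have hinj : Injective (f.rTensor (∀ i, Q i)) :=
    rTensor_injective_of_lTensor f _ (hf _)
  intro w w' hww'
  apply hinj
  apply h ι Q
  rw [hsq, hsq, hww']

end ML

section Ctbl

theorem isCountablyGenerated_of_finiteType {R : Type u} (S : Type u) [CommRing R] [CommRing S]
    [Algebra R S] [Algebra.FiniteType R S]
    (N : Type u) [AddCommGroup N] [Module S N] [Module R N] [IsScalarTower R S N]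
    [Module.Finite S N] : CAlg.IsCountablyGenerated R N := by
  classical
  obtain ⟨m, φ, hφ⟩ := Algebra.FiniteType.iff_quotient_mvPolynomial''.mp
    (inferInstance : Algebra.FiniteType R S)
  -- `S` is spanned over `R` by the images of monomials
  let T : Set S := Set.range (fun d : Fin m →₀ ℕ => φ (MvPolynomial.monomial d 1))
  have hT : T.Countable := Set.countable_range _
  have hTspan : Submodule.span R T = ⊤ := by
    rw [eq_top_iff]
    rintro s -
    obtain ⟨P, rfl⟩ := hφ s
    induction P using MvPolynomial.induction_on' with
    | monomial d a =>
      have : MvPolynomial.monomial d a = a • MvPolynomial.monomial d (1 : R) := by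
        rw [MvPolynomial.smul_monomial, smul_eq_mul, mul_one]
      rw [this, map_smul]
      exact Submodule.smul_mem _ _ (Submodule.subset_span ⟨d, rfl⟩)
    | add P P' hP hP' =>
      rw [map_add]
      exact Submodule.add_mem _ hP hP'
  obtain ⟨G, hG⟩ := (inferInstance : Module.Finite S N)
  refine ⟨T • (G : Set N), hT.image2 G.countable_toSet _, ?_⟩
  rw [Submodule.span_smul_of_span_eq_top hTspan, hG]
  rfl

end Ctbl

end Groth.Agent.Lib.MLUnivInj88
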