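import Groth.Agent.Lib.GLLift55g

/-!
# Diagonalisable Hopf algebras: basis characterisation and transfer (helper55)

* `isDiag_of_basis`, `exists_basis_of_isDiag`: `IsDiag K B` iff some group of group-likes is a basis.
* `isDiag_bcMap`: `IsDiag S (S ⊗[R] A) → IsDiag T (T ⊗[R] A)` along any `R`-algebra map `S → T`.
* `isDiag_of_bialgEquiv`, `cancelBialgEquiv`, `isDiag_cancel_iff`.
-/

set_option autoImplicit false
set_option linter.unusedSectionVars false
set_option linter.unusedVariables false

universe u

open TensorProduct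

namespace Groth.Agent.Lib.MTBase55

open Groth.Agent.Lib.MultType58 Groth.Agent.Lib.GLLift55

section Basis

variable {K : Type u} [CommRing K] {B : Type u} [CommRing B] [HopfAlgebra K B]

theorem isDiag_of_basis (M : Type u) [CommGroup M] (γ : M →* GroupLike K B)
    (hli : LinearIndependent K (fun m => ((γ m : GroupLike K B) : B)))
    (hspan : Submodule.span K (Set.range fun m => ((γ m : GroupLike K B) : B)) = ⊤) :
    SGA3b.IsDiag K B := by
  classical
  let Φ : MonoidAlgebra K M →ₐc[K] B :=
    (MonoidAlgebra.liftGroupLikeBialgHom : MonoidAlgebra K (GroupLike K B) →ₐc[K] B).comp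
      (MonoidAlgebra.mapDomainBialgHom K γ)
  have hΦs : ∀ (m : M) (r : K), Φ (MonoidAlgebra.single m r) = r • ((γ m : GroupLike K B) : B) := by
    intro m r
    show MonoidAlgebra.liftGroupLikeBialgHom (MonoidAlgebra.mapDomainBialgHom K γ
      (MonoidAlgebra.single m r)) = _
    rw [MonoidAlgebra.mapDomainBialgHom_single]
    show MonoidAlgebra.lift K B (GroupLike K B) _ (MonoidAlgebra.single (γ m) r) = _
    rw [MonoidAlgebra.lift_single]
    rfl
  have happ : ∀ x : MonoidAlgebra K M,
      Φ x = Finsupp.linearCombination K (fun m => ((γ m : GroupLike K B) : B)) x.coeff := by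
    intro x
    induction x using MonoidAlgebra.induction_linear with
    | zero => simp
    | add a b ha hb => rw [map_add, ha, hb, MonoidAlgebra.coeff_add, map_add]
    | single m r =>
      rw [hΦs, MonoidAlgebra.coeff_single, Finsupp.linearCombination_single]
  have hbij : Function.Bijective Φ := by
    constructor
    · rw [injective_iff_map_eq_zero]
      intro x hx
      rw [happ] at hx
      have := (linearIndependent_iff.mp hli) x.coeff hx
      apply MonoidAlgebra.ext
      rw [this]
      rfl
    · intro a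
      have ha : a ∈ Submodule.span K (Set.range fun m => ((γ m : GroupLike K B) : B)) := by
        rw [hspan]
        trivial
      rw [Finsupp.mem_span_range_iff_exists_finsupp] at ha
      obtain ⟨c, hc⟩ := ha
      refine ⟨MonoidAlgebra.ofCoeff c, ?_⟩
      rw [happ, Finsupp.linearCombination_apply]
      exact hc
  exact ⟨M, inferInstance, ⟨(BialgEquiv.ofBijective Φ hbij).symm⟩⟩

theorem exists_basis_of_isDiag (h : SGA3b.IsDiag K B) :
    ∃ (M : Type u) (_ : CommGroup M) (γ : M →* GroupLike K B),
      LinearIndependent K (fun m => ((γ m : GroupLike K B) : B)) ∧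
      Submodule.span K (Set.range fun m => ((γ m : GroupLike K B) : B)) = ⊤ := by
  obtain ⟨M, _, ⟨e⟩⟩ := h
  let w : Module.Basis M K B := (MonoidAlgebra.basis M K).map e.symm.toLinearEquiv
  have hwa : ∀ m, w m = e.symm (MonoidAlgebra.single m 1) := by
    intro m
    show (MonoidAlgebra.basis M K).map e.symm.toLinearEquiv m = _
    rw [Module.Basis.map_apply, MonoidAlgebra.basis_apply]
    rfl
  let γ : M →* GroupLike K B :=
    { toFun := fun m => ⟨e.symm (MonoidAlgebra.single m 1),
        (MonoidAlgebra.isGroupLikeElem_single_one (R := K) m).map e.symm⟩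
      map_one' := by
        apply GroupLike.val_injective
        show e.symm (MonoidAlgebra.single (1 : M) (1 : K)) = 1
        have : (MonoidAlgebra.single (1 : M) (1 : K)) = 1 := rfl
        rw [this, map_one]
      map_mul' := fun m m' => by
        apply GroupLike.val_injective
        show e.symm (MonoidAlgebra.single (m * m') (1 : K)) =
          e.symm (MonoidAlgebra.single m 1) * e.symm (MonoidAlgebra.single m' 1)
        rw [← map_mul, MonoidAlgebra.single_mul_single, mul_one] }
  have hγ : (fun m => ((γ m : GroupLike K B) : B)) = w := by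
    funext m
    rw [hwa]
    rfl
  refine ⟨M, inferInstance, γ, ?_, ?_⟩
  · rw [hγ]
    exact w.linearIndependent
  · rw [hγ]
    exact w.span_eq

theorem isDiag_of_bialgEquiv {B' : Type u} [CommRing B'] [HopfAlgebra K B'] (e : B ≃ₐc[K] B')
    (h : SGA3b.IsDiag K B) : SGA3b.IsDiag K B' := by
  obtain ⟨M, i, ⟨θ⟩⟩ := h
  exact ⟨M, i, ⟨e.symm.trans θ⟩⟩

end Basis

section BcMap

variable {R : Type u} [CommRing R] {A : Type u} [CommRing A] [HopfAlgebra R A]
variable {S : Type u} [CommRing S] [Algebra R S] {T : Type u} [CommRing T] [Algebra R T]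

/-- Diagonalisability of the base changes of `A` passes along algebra maps. -/
theorem isDiag_bcMap (ι : S →ₐ[R] T) (h : SGA3b.IsDiag S (S ⊗[R] A)) :
    SGA3b.IsDiag T (T ⊗[R] A) := by
  obtain ⟨M, _, γ, hli, hspan⟩ := exists_basis_of_isDiag h
  let v : Module.Basis M S (S ⊗[R] A) := Module.Basis.mk hli hspan.ge
  have hv : ∀ m, v m = ((γ m : GroupLike S (S ⊗[R] A)) : S ⊗[R] A) := fun m =>
    Module.Basis.mk_apply hli hspan.ge m
  let v' : Module.Basis M T (T ⊗[R] A) := bcBasis ι v
  have hv' : ∀ m, v' m = bcMap A ι ((γ m : GroupLike S (S ⊗[R] A)) : S ⊗[R] A) := by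
    intro m
    show bcBasis ι v m = _
    rw [bcBasis_apply, hv]
  let γ' : M →* GroupLike T (T ⊗[R] A) :=
    { toFun := fun m => ⟨bcMap A ι ((γ m : GroupLike S (S ⊗[R] A)) : S ⊗[R] A),
        isGroupLikeElem_bcMap ι (γ m).2⟩
      map_one' := by
        apply GroupLike.val_injective
        show bcMap A ι ((γ 1 : GroupLike S (S ⊗[R] A)) : S ⊗[R] A) = 1
        rw [map_one γ, GroupLike.val_one, map_one]
      map_mul' := fun m m' => by
        apply GroupLike.val_injective
        show bcMap A ι ((γ (m * m') : GroupLike S (S ⊗[R] A)) : S ⊗[R] A) =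
          bcMap A ι ((γ m : GroupLike S (S ⊗[R] A)) : S ⊗[R] A) *
          bcMap A ι ((γ m' : GroupLike S (S ⊗[R] A)) : S ⊗[R] A)
        rw [map_mul γ, GroupLike.val_mul, map_mul] }
  have hγ' : (fun m => ((γ' m : GroupLike T (T ⊗[R] A)) : T ⊗[R] A)) = v' := by
    funext m
    rw [hv']
    rfl
  apply isDiag_of_basis M γ'
  · rw [hγ']
    exact v'.linearIndependent
  · rw [hγ']
    exact v'.span_eq

end BcMap

section Cancel

variable (R : Type u) [CommRing R] (S : Type u) [CommRing S] [Algebra R S]
  (K : Type u) [CommRing K] [Algebra R K] [Algebra S K] [IsScalarTower R S K]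
  (B : Type u) [CommRing B] [HopfAlgebra R B]

/-- Transitivity of base change, as a bialgebra isomorphism. -/
noncomputable def cancelBialgEquiv : K ⊗[S] (S ⊗[R] B) ≃ₐc[K] K ⊗[R] B :=
  BialgEquiv.ofBijective (cancelBialgHom R S K B)
    (Algebra.TensorProduct.cancelBaseChange R S K K B).bijective

theorem isDiag_cancel_iff :
    SGA3b.IsDiag K (K ⊗[S] (S ⊗[R] B)) ↔ SGA3b.IsDiag K (K ⊗[R] B) :=
  ⟨isDiag_of_bialgEquiv (cancelBialgEquiv R S K B),
    isDiag_of_bialgEquiv (cancelBialgEquiv R S K B).symm⟩

end Cancel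

end Groth.Agent.Lib.MTBase55
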