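import Groth.Agent.Lib.MTBase55b
import Groth.Agent.Lib.EtaleLiftSurj
import Groth.Agent.S2970

/-!
# Lifting diagonalising étale covers along nil-surjections (helper55)

* `isDiag_of_surjective_nil`: S2970 for an arbitrary surjection `K → K₀` with nil kernel.
* `finite_of_nil_ker`, `faithfullyFlat_of_surjective_nil`.
* `exists_etale_diag_lift`.
-/

set_option autoImplicit false
set_option linter.unusedSectionVars false
set_option linter.unusedVariables false

universe u

open TensorProduct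

namespace Groth.Agent.Lib.MTBase55

open Groth.Agent.Lib.MultType58 Groth.Agent.Lib.GLLift55

section C1

theorem isDiag_of_surjective_nil (K : Type u) [CommRing K] (B : Type u) [CommRing B]
    [HopfAlgebra K B] (K₀ : Type u) [CommRing K₀] [Algebra K K₀]
    (hs : Function.Surjective (algebraMap K K₀))
    (hn : ∀ x ∈ RingHom.ker (algebraMap K K₀), IsNilpotent x)
    (h : SGA3b.IsMultType K B) (h0 : SGA3b.IsDiag K₀ (K₀ ⊗[K] B)) : SGA3b.IsDiag K B := by
  have hs' : Function.Surjective (Algebra.ofId K K₀) := hs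
  have hn' : ∀ x ∈ RingHom.ker (Algebra.ofId K K₀), IsNilpotent x := by
    intro x hx
    apply hn
    rw [RingHom.mem_ker] at hx ⊢
    exact hx
  apply Groth.Agent.S2970.result K B (RingHom.ker (Algebra.ofId K K₀)) hn' h
  exact isDiag_bcMap (Ideal.quotientKerAlgEquivOfSurjective hs').symm.toAlgHom h0

end C1

section StepB

variable {S : Type u} [CommRing S] {T : Type u} [CommRing T] [Algebra S T]
  {T₀ : Type u} [CommRing T₀] [Algebra S T₀]

theorem finite_of_nil_ker [Algebra.FiniteType S T] [Module.Finite S T₀] (ψ : T →ₐ[S] T₀)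
    (hn : ∀ x ∈ RingHom.ker ψ, IsNilpotent x) : Module.Finite S T := by
  haveI : Algebra.IsIntegral S T := by
    refine ⟨fun x => ?_⟩
    obtain ⟨p, hp, hpx⟩ := IsIntegral.of_finite S (ψ x)
    have h1 : ψ (Polynomial.aeval x p) = 0 := by
      rw [← Polynomial.aeval_algHom_apply]
      exact hpx
    obtain ⟨N, hN⟩ := hn _ ((RingHom.mem_ker).2 h1)
    refine ⟨p ^ N, hp.pow N, ?_⟩
    show Polynomial.aeval x (p ^ N) = 0
    rw [map_pow, hN]
  exact Algebra.IsIntegral.finite

theorem faithfullyFlat_of_surjective_nil {S₀ : Type u} [CommRing S₀] [Algebra S S₀]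
    [Algebra S₀ T₀] [IsScalarTower S S₀ T₀] [Module.Flat S T] [Module.FaithfullyFlat S₀ T₀]
    (hs : Function.Surjective (algebraMap S S₀))
    (hn : ∀ x ∈ RingHom.ker (algebraMap S S₀), IsNilpotent x) (ψ : T →ₐ[S] T₀) :
    Module.FaithfullyFlat S T := by
  apply Module.FaithfullyFlat.of_comap_surjective
  intro p
  have hker : RingHom.ker (algebraMap S S₀) ≤ p.asIdeal := by
    intro x hx
    obtain ⟨N, hN⟩ := hn x hx
    exact p.isPrime.mem_of_pow_mem N (hN ▸ p.asIdeal.zero_mem)
  have hprime : (p.asIdeal.map (algebraMap S S₀)).IsPrime :=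
    Ideal.map_isPrime_of_surjective hs hker
  obtain ⟨q₀, hq₀⟩ := PrimeSpectrum.comap_surjective_of_faithfullyFlat (A := S₀) (B := T₀)
    ⟨p.asIdeal.map (algebraMap S S₀), hprime⟩
  refine ⟨PrimeSpectrum.comap (ψ : T →+* T₀) q₀, ?_⟩
  apply PrimeSpectrum.ext
  have h1 : (PrimeSpectrum.comap (algebraMap S₀ T₀) q₀).asIdeal =
      p.asIdeal.map (algebraMap S S₀) := by
    rw [hq₀]
  rw [PrimeSpectrum.comap_asIdeal] at h1
  rw [PrimeSpectrum.comap_asIdeal, PrimeSpectrum.comap_asIdeal, Ideal.comap_comap]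
  have h2 : ((ψ : T →+* T₀).comp (algebraMap S T)) =
      (algebraMap S₀ T₀).comp (algebraMap S S₀) := by
    rw [← IsScalarTower.algebraMap_eq]
    exact ψ.comp_algebraMap
  rw [h2, ← Ideal.comap_comap, h1, Ideal.comap_map_of_surjective' _ hs]
  apply le_antisymm
  · exact sup_le le_rfl hker
  · exact le_sup_left

end StepB

section LemmaL

variable {R : Type u} [CommRing R] {A : Type u} [CommRing A] [HopfAlgebra R A]

theorem exists_etale_diag_lift (h : SGA3b.IsMultType R A)
    (S : Type u) [CommRing S] [Algebra R S] (S₀ : Type u) [CommRing S₀] [Algebra S S₀]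
    (hs : Function.Surjective (algebraMap S S₀))
    (hn : ∀ x ∈ RingHom.ker (algebraMap S S₀), IsNilpotent x)
    (T₀ : Type u) [CommRing T₀] [Algebra S₀ T₀] [Algebra S T₀] [Algebra R T₀]
    [IsScalarTower S S₀ T₀] [IsScalarTower R S T₀] [Algebra.Etale S₀ T₀]
    [Module.FaithfullyFlat S₀ T₀] (hD : SGA3b.IsDiag T₀ (T₀ ⊗[R] A)) :
    ∃ (T : Type u) (_ : CommRing T) (_ : Algebra S T) (_ : Algebra R T)
      (_ : IsScalarTower R S T), Algebra.Etale S T ∧ Module.FaithfullyFlat S T ∧
      (Module.Finite S₀ T₀ → Module.Finite S T) ∧ SGA3b.IsDiag T (T ⊗[R] A) := by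
  obtain ⟨T, _, _, ψ, het, hsurj, hker⟩ :=
    Groth.Agent.Lib.EtaleLiftSurj.exists_etale_lift (R := S) (B := S₀) (B' := T₀) hs
  letI algRT : Algebra R T := ((algebraMap S T).comp (algebraMap R S)).toAlgebra
  haveI tow : IsScalarTower R S T := IsScalarTower.of_algebraMap_eq' rfl
  have hnψ : ∀ x ∈ RingHom.ker ψ, IsNilpotent x := by
    intro x hx
    rw [hker] at hx
    exact map_nil _ hn x hx
  refine ⟨T, inferInstance, inferInstance, algRT, tow, het, ?_, ?_, ?_⟩
  · exact faithfullyFlat_of_surjective_nil hs hn ψ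
  · intro hfin
    haveI : Module.Finite S S₀ := Module.Finite.of_surjective (Algebra.linearMap S S₀) hs
    haveI : Module.Finite S T₀ := Module.Finite.trans S₀ T₀
    exact finite_of_nil_ker ψ hnψ
  · let ψR : T →ₐ[R] T₀ := ψ.restrictScalars R
    letI algTT₀ : Algebra T T₀ := (ψ : T →+* T₀).toAlgebra
    haveI : IsScalarTower R T T₀ := IsScalarTower.of_algebraMap_eq' (ψR.comp_algebraMap).symm
    have hmt : SGA3b.IsMultType T (T ⊗[R] A) := isMultType_baseChange T h
    have h0' : SGA3b.IsDiag T₀ (T₀ ⊗[T] (T ⊗[R] A)) := (isDiag_cancel_iff R T T₀ A).2 hD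
    exact isDiag_of_surjective_nil T (T ⊗[R] A) T₀ hsurj hnψ hmt h0'

end LemmaL

end Groth.Agent.Lib.MTBase55
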