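import Groth.Agent.Lib.MVSquare31
import Groth.Agent.Lib.BrownCompact
import Mathlib.CategoryTheory.Adjunction.Additive
import Mathlib.CategoryTheory.Adjunction.Limits

/-!
# Compact objects in a Mayer–Vietoris square of triangulated categories

Helper library of helper31 (statement S16411).
-/

set_option autoImplicit false
set_option linter.unusedSectionVars false

namespace Groth.Agent.Lib.MVCompact31

open CategoryTheory Limits Pretriangulated W4c3perfectstacks CohDer Groth.Agent.S0475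
  Groth.Agent.Lib.MVSquare31

universe v u u'

section FFgeneral

variable {D : Type u} [Category.{v} D] [Preadditive D]

lemma FF_map (K : D) {ι : Type v} {X X' : ι → D} {pt pt' : D} (inj : ∀ i, X i ⟶ pt)
    (inj' : ∀ i, X' i ⟶ pt') (c : ∀ i, X i ⟶ X' i) (φ : pt ⟶ pt')
    (hφ : ∀ i, inj i ≫ φ = c i ≫ inj' i) {f : K ⟶ pt} (hf : f ∈ FF K inj) :
    f ≫ φ ∈ FF K inj' := by
  induction hf using AddSubgroup.closure_induction with
  | mem x hx =>
    obtain ⟨i, g, rfl⟩ := hx
    rw [Category.assoc, hφ, ← Category.assoc]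
    exact FF_gen K inj' i _
  | zero => simp
  | add x y _ _ hx hy => simpa using add_mem hx hy
  | neg x _ hx => simpa using neg_mem hx

lemma FF_exists_sum (K : D) {ι : Type v} {X : ι → D} {pt : D} (inj : ∀ i, X i ⟶ pt)
    {f : K ⟶ pt} (hf : f ∈ FF K inj) :
    ∃ (F : Finset ι) (g : ∀ i, K ⟶ X i), f = ∑ i ∈ F, g i ≫ inj i := by
  classical
  induction hf using AddSubgroup.closure_induction with
  | mem x hx =>
    obtain ⟨i, g, rfl⟩ := hx
    refine ⟨{i}, Function.update (fun _ => 0) i g, ?_⟩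
    rw [Finset.sum_singleton, Function.update_self]
  | zero => exact ⟨∅, fun _ => 0, by simp⟩
  | add x y _ _ hx hy =>
    obtain ⟨F, g, rfl⟩ := hx
    obtain ⟨F', g', rfl⟩ := hy
    refine ⟨F ∪ F', fun i => (if i ∈ F then g i else 0) + (if i ∈ F' then g' i else 0), ?_⟩
    have h1 : ∑ i ∈ F, g i ≫ inj i =
        ∑ i ∈ F ∪ F', (if i ∈ F then g i else 0) ≫ inj i := by
      rw [← Finset.sum_subset Finset.subset_union_left
        (f := fun i => (if i ∈ F then g i else 0) ≫ inj i)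
        (by intro i _ hi; simp [hi])]
      exact Finset.sum_congr rfl (fun i hi => by simp [hi])
    have h2 : ∑ i ∈ F', g' i ≫ inj i =
        ∑ i ∈ F ∪ F', (if i ∈ F' then g' i else 0) ≫ inj i := by
      rw [← Finset.sum_subset Finset.subset_union_right
        (f := fun i => (if i ∈ F' then g' i else 0) ≫ inj i)
        (by intro i _ hi; simp [hi])]
      exact Finset.sum_congr rfl (fun i hi => by simp [hi])
    rw [h1, h2, ← Finset.sum_add_distrib]
    exact Finset.sum_congr rfl (fun i _ => (Preadditive.add_comp _ _ _ _ _ _).symm)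
  | neg x _ hx =>
    obtain ⟨F, g, rfl⟩ := hx
    exact ⟨F, fun i => -g i, by simp [Preadditive.neg_comp]⟩

end FFgeneral

section Transfer

variable {C : Type u} {D : Type u'} [Category.{v} C] [Category.{v} D] [Preadditive C]
  [Preadditive D] {L : C ⥤ D} {Rr : D ⥤ C} (adj : L ⊣ Rr) [L.Additive]

include adj in
lemma FF_homEquiv {K : C} {κ : Type v} {Y : κ → D} {pt : D} (n : ∀ i, Y i ⟶ pt)
    {y : L.obj K ⟶ pt} (hy : y ∈ FF (L.obj K) n) :
    adj.homEquiv _ _ y ∈ FF K (X := fun i => Rr.obj (Y i)) (fun i => Rr.map (n i)) := by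
  have : Rr.Additive := adj.right_adjoint_additive
  induction hy using AddSubgroup.closure_induction with
  | mem y hy =>
    obtain ⟨i, g, rfl⟩ := hy
    rw [Adjunction.homEquiv_naturality_right]
    exact FF_gen K _ i _
  | zero =>
    rw [Adjunction.homEquiv_unit, Functor.map_zero, comp_zero]
    exact zero_mem _
  | add y y' _ _ h h' =>
    rw [Adjunction.homEquiv_unit, Functor.map_add, Preadditive.comp_add,
      ← Adjunction.homEquiv_unit, ← Adjunction.homEquiv_unit]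
    exact add_mem h h'
  | neg y _ h =>
    rw [Adjunction.homEquiv_unit, Functor.map_neg, Preadditive.comp_neg,
      ← Adjunction.homEquiv_unit]
    exact neg_mem h

variable [HasCoproducts.{v} C] [HasCoproducts.{v} D]

include adj in
lemma mem_FF_map_sigma {N : C} (hN : IsCompactObject (L.obj N)) {κ : Type v} (M : κ → C)
    (y : L.obj N ⟶ L.obj (∐ M)) :
    y ∈ FF (L.obj N) (X := fun i => L.obj (M i)) (fun i => L.map (Sigma.ι M i)) := by
  have : PreservesColimitsOfShape (Discrete κ) L :=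
    (adj.leftAdjoint_preservesColimits).preservesColimitsOfShape
  have hc : IsColimit (Cofan.mk (L.obj (∐ M)) (fun i => L.map (Sigma.ι M i)) :
      Cofan fun i => L.obj (M i)) :=
    isColimitOfHasCoproductOfPreservesColimit L M
  rw [FF_eq_top_of_isColimit hN _ hc]
  trivial

include adj in
lemma mem_FF_of_adj {N : C} (hN : IsCompactObject (L.obj N)) {κ : Type v} (M : κ → C)
    (x : N ⟶ Rr.obj (L.obj (∐ M))) :
    x ∈ FF N (X := fun i => Rr.obj (L.obj (M i))) (fun i => Rr.map (L.map (Sigma.ι M i))) := by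
  have h := FF_homEquiv adj _ (mem_FF_map_sigma adj hN M ((adj.homEquiv _ _).symm x))
  rwa [Equiv.apply_symm_apply] at h

end Transfer

section MVc

variable {S S' R R' : Type u} [Category.{v} S] [Category.{v} S'] [Category.{v} R] [Category.{v} R']
    [Preadditive S] [Preadditive S'] [Preadditive R] [Preadditive R']
    [HasZeroObject S] [HasZeroObject S'] [HasZeroObject R] [HasZeroObject R']
    [HasShift S ℤ] [HasShift S' ℤ] [HasShift R ℤ] [HasShift R' ℤ]
    [∀ n : ℤ, (shiftFunctor S n).Additive] [∀ n : ℤ, (shiftFunctor S' n).Additive]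
    [∀ n : ℤ, (shiftFunctor R n).Additive] [∀ n : ℤ, (shiftFunctor R' n).Additive]
    [Pretriangulated S] [Pretriangulated S'] [Pretriangulated R] [Pretriangulated R']
    (q : MVSq S S' R R')
    [q.jst.CommShift ℤ] [q.fst.CommShift ℤ] [q.jpst.CommShift ℤ] [q.gst.CommShift ℤ]
    [q.jst.IsTriangulated] [q.fst.IsTriangulated] [q.jpst.IsTriangulated] [q.gst.IsTriangulated]
    [HasCoproducts.{v} S] [HasCoproducts.{v} S'] [HasCoproducts.{v} R] [HasCoproducts.{v} R']

lemma bc2App_naturality {P P' : R} (p : P ⟶ P') :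
    q.fst.map (q.jls.map p) ≫ q.bc2App P' = q.bc2App P ≫ q.jpls.map (q.gst.map p) := by
  have h1 := q.adjJp.unit.naturality (q.fst.map (q.jls.map p))
  have h2 := q.e.inv.naturality (q.jls.map p)
  have h3 := q.adjJ.counit.naturality p
  dsimp at h1 h2 h3
  simp only [MVSq.bc2App, Category.assoc]
  rw [reassoc_of% h1, ← Functor.map_comp, ← Functor.map_comp, ← Functor.map_comp,
    ← Functor.map_comp, reassoc_of% h2, ← Functor.map_comp, h3]
  simp only [Functor.map_comp]

lemma mem_FF_mvC (hq : q.IsMV) {N₀ : S} (hN₀ : IsCompactObject (q.gst.obj (q.jst.obj N₀)))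
    {κ : Type v} (M : κ → S) (x : N₀ ⟶ mvC q (∐ M)) :
    x ∈ FF N₀ (X := fun i => mvC q (M i))
      (fun i => q.fls.map (q.fst.map (q.jls.map (q.jst.map (Sigma.ι M i))))) := by
  obtain ⟨x₁, hx₁⟩ : ∃ x₁ : q.fst.obj N₀ ⟶ q.fst.obj (q.jls.obj (q.jst.obj (∐ M))),
      x₁ = (q.adjF.homEquiv _ _).symm x := ⟨_, rfl⟩
  obtain ⟨x₂, hx₂⟩ : ∃ x₂ : q.fst.obj N₀ ⟶ q.jpls.obj (q.gst.obj (q.jst.obj (∐ M))),
      x₂ = x₁ ≫ q.bc2App (q.jst.obj (∐ M)) := ⟨_, rfl⟩
  obtain ⟨x₃, hx₃⟩ : ∃ x₃ : q.jpst.obj (q.fst.obj N₀) ⟶ q.gst.obj (q.jst.obj (∐ M)),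
      x₃ = (q.adjJp.homEquiv _ _).symm x₂ := ⟨_, rfl⟩
  obtain ⟨x₄, hx₄⟩ : ∃ x₄ : q.gst.obj (q.jst.obj N₀) ⟶ q.gst.obj (q.jst.obj (∐ M)),
      x₄ = q.e.hom.app N₀ ≫ x₃ := ⟨_, rfl⟩
  have h4 : x₄ ∈ FF (q.gst.obj (q.jst.obj N₀)) (X := fun i => q.gst.obj (q.jst.obj (M i)))
      (fun i => q.gst.map (q.jst.map (Sigma.ι M i))) :=
    mem_FF_map_sigma (L := q.jst ⋙ q.gst) (q.adjJ.comp q.adjG) hN₀ M x₄
  have h3 : x₃ ∈ FF (q.jpst.obj (q.fst.obj N₀)) (X := fun i => q.gst.obj (q.jst.obj (M i)))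
      (fun i => q.gst.map (q.jst.map (Sigma.ι M i))) := by
    have := FF_precomp (q.e.inv.app N₀) _ h4
    rw [hx₄] at this
    have h : q.e.inv.app N₀ ≫ q.e.hom.app N₀ ≫ x₃ = x₃ := by
      rw [← Category.assoc, Iso.inv_hom_id_app]
      exact Category.id_comp _
    rwa [h] at this
  have h2 : x₂ ∈ FF (q.fst.obj N₀) (X := fun i => q.jpls.obj (q.gst.obj (q.jst.obj (M i))))
      (fun i => q.jpls.map (q.gst.map (q.jst.map (Sigma.ι M i)))) := by
    have := FF_homEquiv q.adjJp _ h3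
    rwa [hx₃, Equiv.apply_symm_apply] at this
  have h1 : x₁ ∈ FF (q.fst.obj N₀) (X := fun i => q.fst.obj (q.jls.obj (q.jst.obj (M i))))
      (fun i => q.fst.map (q.jls.map (q.jst.map (Sigma.ι M i)))) := by
    have hb := hq.isIso_bc2App
    have := FF_map (q.fst.obj N₀) _
      (fun i => q.fst.map (q.jls.map (q.jst.map (Sigma.ι M i))))
      (fun i => inv (q.bc2App (q.jst.obj (M i)))) (inv (q.bc2App (q.jst.obj (∐ M)))) ?_ h2
    · rwa [hx₂, Category.assoc, IsIso.hom_inv_id, Category.comp_id] at this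
    · intro i
      rw [IsIso.comp_inv_eq, Category.assoc, bc2App_naturality, IsIso.inv_hom_id_assoc]
  have h0 := FF_homEquiv q.adjF _ h1
  rwa [hx₁, Equiv.apply_symm_apply] at h0

theorem isCompactObject_of_pullbacks (hq : q.IsMV) (N : S)
    (hU : IsCompactObject (q.jst.obj N)) (hX' : IsCompactObject (q.fst.obj N))
    (hU' : IsCompactObject (q.gst.obj (q.jst.obj N))) : IsCompactObject N := by
  classical
  have hjls : q.jls.Additive := q.adjJ.right_adjoint_additive
  have hfls : q.fls.Additive := q.adjF.right_adjoint_additive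
  rw [isCompactObject_iff]
  intro κ M
  rw [eq_top_iff]
  intro x _
  -- the Mayer–Vietoris triangles
  obtain ⟨dM, hdM⟩ := mv_exists q hq (∐ M)
  choose di hdi using fun i => mv_exists q hq (M i)
  obtain ⟨Φ, hΦ⟩ : ∃ Φ : ∀ i, mvA q (M i) ⊞ mvB q (M i) ⟶ mvA q (∐ M) ⊞ mvB q (∐ M),
      ∀ i, Φ i = biprod.map (q.jls.map (q.jst.map (Sigma.ι M i)))
        (q.fls.map (q.fst.map (Sigma.ι M i))) := ⟨_, fun _ => rfl⟩
  obtain ⟨Cm, hCm⟩ : ∃ Cm : ∀ i, mvC q (M i) ⟶ mvC q (∐ M),
      ∀ i, Cm i = q.fls.map (q.fst.map (q.jls.map (q.jst.map (Sigma.ι M i)))) :=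
    ⟨_, fun _ => rfl⟩
  have hUnat : ∀ i, Sigma.ι M i ≫ mvU q (∐ M) = mvU q (M i) ≫ Φ i := by
    intro i
    have hJ := q.adjJ.unit.naturality (Sigma.ι M i)
    have hF := q.adjF.unit.naturality (Sigma.ι M i)
    dsimp at hJ hF
    rw [hΦ i]
    apply biprod.hom_ext
    · simp only [Category.assoc, biprod.map_fst, biprod.lift_fst_assoc, biprod.lift_fst]
      exact hJ
    · simp only [Category.assoc, biprod.map_snd, biprod.lift_snd_assoc, biprod.lift_snd]
      exact hF
  have hVnat : ∀ i, Φ i ≫ mvV q (∐ M) = mvV q (M i) ≫ Cm i := by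
    intro i
    have hJ := q.adjJ.unit.naturality (Sigma.ι M i)
    have hFA := q.adjF.unit.naturality (q.jls.map (q.jst.map (Sigma.ι M i)))
    dsimp at hJ hFA
    rw [hΦ i, hCm i]
    apply biprod.hom_ext'
    · simp only [biprod.inl_desc_assoc, biprod.inl_map_assoc, biprod.inl_desc]
      exact hFA
    · simp only [biprod.inr_desc_assoc, biprod.inr_map_assoc, biprod.inr_desc,
        Preadditive.neg_comp, Preadditive.comp_neg, ← Functor.map_comp, hJ]
  have hdnat : ∀ i, di i ≫ (shiftFunctor S (1 : ℤ)).map (Sigma.ι M i) = Cm i ≫ dM := by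
    intro i
    rw [hCm i]
    exact mv_natural q hq _ _ (Sigma.ι M i) _ _ (hdi i) hdM
  -- step 1
  have h1 : x ≫ mvU q (∐ M) ∈ FF N Φ := by
    have hA := mem_FF_of_adj q.adjJ hU M (x ≫ q.adjJ.unit.app (∐ M))
    have hB := mem_FF_of_adj q.adjF hX' M (x ≫ q.adjF.unit.app (∐ M))
    have hA' := FF_map N _ Φ (fun i => biprod.inl) biprod.inl
      (fun i => by rw [hΦ i]; exact (biprod.inl_map _ _).symm) hA
    have hB' := FF_map N _ Φ (fun i => biprod.inr) biprod.inr
      (fun i => by rw [hΦ i]; exact (biprod.inr_map _ _).symm) hB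
    have : x ≫ mvU q (∐ M) = (x ≫ q.adjJ.unit.app (∐ M)) ≫ biprod.inl +
        (x ≫ q.adjF.unit.app (∐ M)) ≫ biprod.inr := by
      apply biprod.hom_ext <;> simp
    rw [this]
    exact add_mem hA' hB'
  obtain ⟨F, y, hy⟩ := FF_exists_sum N Φ h1
  -- step 2
  have hsum : ∑ i ∈ F, (y i ≫ mvV q (M i)) ≫ Cm i = 0 := by
    have h := congrArg (fun z => z ≫ mvV q (∐ M)) hy
    simp only [Category.assoc, mvU_mvV, comp_zero, Preadditive.sum_comp] at h
    rw [h]
    exact Finset.sum_congr rfl (fun i _ => by rw [Category.assoc, hVnat])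
  have h2 : ∀ j ∈ F, y j ≫ mvV q (M j) = 0 := by
    intro j hj
    have h := congrArg
      (fun z => z ≫ q.fls.map (q.fst.map (q.jls.map (q.jst.map (Sigma.π M j))))) hsum
    simp only [Preadditive.sum_comp, zero_comp] at h
    rw [Finset.sum_eq_single j] at h
    · rw [hCm j] at h
      simp only [Category.assoc, ← Functor.map_comp, Sigma.ι_π_eq_id,
        CategoryTheory.Functor.map_id, Category.comp_id] at h
      exact h
    · intro i _ hij
      rw [hCm i]
      simp only [Category.assoc, ← Functor.map_comp, Sigma.ι_π_of_ne _ hij, Functor.map_zero,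
        comp_zero]
    · intro h'
      exact absurd hj h'
  -- step 3
  have h3 : ∀ i, ∃ xi : N ⟶ M i, i ∈ F → y i = xi ≫ mvU q (M i) := by
    intro i
    by_cases hi : i ∈ F
    · obtain ⟨xi, hxi⟩ := Triangle.coyoneda_exact₂ _ (hdi i) (y i) (h2 i hi)
      exact ⟨xi, fun _ => hxi⟩
    · exact ⟨0, fun h => absurd h hi⟩
  choose xi hxi using h3
  -- step 4
  obtain ⟨x', hx'⟩ : ∃ x' : N ⟶ ∐ M, x' = x - ∑ i ∈ F, xi i ≫ Sigma.ι M i := ⟨_, rfl⟩
  have h4 : x' ≫ mvU q (∐ M) = 0 := by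
    rw [hx', Preadditive.sub_comp, Preadditive.sum_comp, hy, sub_eq_zero]
    refine Finset.sum_congr rfl (fun i hi => ?_)
    rw [Category.assoc, hUnat, ← Category.assoc, ← hxi i hi]
  -- step 5
  have h5 : (shiftFunctor S (1 : ℤ)).map x' ≫ (shiftFunctor S (1 : ℤ)).map (mvU q (∐ M)) = 0 := by
    rw [← Functor.map_comp, h4, Functor.map_zero]
  obtain ⟨z, hz⟩ : ∃ z : (shiftFunctor S (1 : ℤ)).obj N ⟶ mvC q (∐ M),
      (shiftFunctor S (1 : ℤ)).map x' = z ≫ dM := Triangle.coyoneda_exact₁ _ hdM _ h5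
  have hN1 : IsCompactObject (q.gst.obj (q.jst.obj ((shiftFunctor S (1 : ℤ)).obj N))) := by
    have := Groth.Agent.Lib.BrownCompact.hasCoproductsNat (D := R')
    have h := Groth.Agent.Lib.BrownCompact.isCompactObject_shift hU' 1
    exact isCompactObject_of_functor h (𝟭 R')
      ((q.gst.mapIso ((q.jst.commShiftIso (1 : ℤ)).app N) ≪≫
        (q.gst.commShiftIso (1 : ℤ)).app (q.jst.obj N)).symm)
  have hz' : z ∈ FF _ Cm := by
    have hCm' : Cm = fun i => q.fls.map (q.fst.map (q.jls.map (q.jst.map (Sigma.ι M i)))) :=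
      funext hCm
    rw [hCm']
    exact mem_FF_mvC q hq hN1 M z
  obtain ⟨F', zz, hzz⟩ := FF_exists_sum _ Cm hz'
  obtain ⟨w, hw⟩ : ∃ w : ∀ i, N ⟶ M i,
      ∀ i, (shiftFunctor S (1 : ℤ)).map (w i) = zz i ≫ di i :=
    ⟨fun i => (shiftFunctor S (1 : ℤ)).preimage (zz i ≫ di i), fun i => Functor.map_preimage _ _⟩
  have hx'2 : x' = ∑ i ∈ F', w i ≫ Sigma.ι M i := by
    apply (shiftFunctor S (1 : ℤ)).map_injective
    rw [hz, hzz, Preadditive.sum_comp, Functor.map_sum]
    refine Finset.sum_congr rfl (fun i _ => ?_)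
    rw [Category.assoc, ← hdnat, ← Category.assoc, Functor.map_comp, hw]
  have hfin : x = ∑ i ∈ F, xi i ≫ Sigma.ι M i + ∑ i ∈ F', w i ≫ Sigma.ι M i := by
    rw [← hx'2, hx']
    abel
  rw [hfin]
  exact add_mem (sum_mem fun i _ => FF_gen _ _ i _) (sum_mem fun i _ => FF_gen _ _ i _)

end MVc

end Groth.Agent.Lib.MVCompact31
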