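import Groth.Agent.Lib.AffVanMV

/-!
# Mayer–Vietoris for sheaf cohomology, elementwise, with naturality

Site level (`S : J.MayerVietorisSquare`, `A` an abelian sheaf):
* elementwise exactness of the Mayer–Vietoris sequence (`sq_exists_of_δ_eq_zero`, `sq_δ_sub`,
  `sq_exists_δ_eq`, `sq_res_δ`, `sq_exists_res_eq`, `sq_eq_zero₀`);
* naturality of the connecting map in the sheaf (`sq_δ_map`) and along a morphism of squares
  (`sq_res_δ_hom`).

For a topological space and opens `V₁ V₂ ≤ W ≤ V₁ ⊔ V₂` the same in terms of `CohTop.HU`, `CohTop.res`,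
`CohTop.HUmap`, with `mvδ A h1 h2 hW n : H'^n(V₁ ⊓ V₂, A) →+ H'^(n+1)(W, A)`.
-/

set_option autoImplicit false
universe u
open CategoryTheory TopologicalSpace Opposite Limits Abelian

namespace Groth.Agent.Lib.MVNat

section Site

variable {C : Type u} [Category.{u} C] {J : GrothendieckTopology C}
  [HasWeakSheafify J (Type u)] [HasSheafify J AddCommGrpCat.{u}]
  [HasExt.{u} (Sheaf J AddCommGrpCat.{u})]
  (S : J.MayerVietorisSquare) (A : Sheaf J AddCommGrpCat.{u})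

/-- Exactness at `H'^n(X₁)`. -/
theorem sq_exists_of_δ_eq_zero (n : ℕ) (β : A.H' n S.X₁) (hβ : S.δ A n (n + 1) rfl β = 0) :
    ∃ (a : A.H' n S.X₂) (b : A.H' n S.X₃),
      (A.cohomologyPresheaf n).map S.f₁₂.op a - (A.cohomologyPresheaf n).map S.f₁₃.op b = β := by
  have hex := (S.sequence_exact A n (n + 1) rfl).exact 1
  rw [ShortComplex.ab_exact_iff] at hex
  obtain ⟨y, hy⟩ := hex β hβ
  obtain ⟨⟨a, b⟩, rfl⟩ :=
    (AddCommGrpCat.biprodIsoProd _ _).addCommGroupIsoToAddEquiv.symm.surjective y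
  refine ⟨a, b, ?_⟩
  rw [← hy]
  exact (GrothendieckTopology.MayerVietorisSquare.fromBiprod_biprodIsoProd_inv_apply S A
    (n := n) a b).symm

theorem sq_δ_sub (n : ℕ) (a : A.H' n S.X₂) (b : A.H' n S.X₃) :
    S.δ A n (n + 1) rfl ((A.cohomologyPresheaf n).map S.f₁₂.op a -
      (A.cohomologyPresheaf n).map S.f₁₃.op b) = 0 := by
  have h3 := GrothendieckTopology.MayerVietorisSquare.fromBiprod_biprodIsoProd_inv_apply S A
    (n := n) a b
  have h5 := congr($(GrothendieckTopology.MayerVietorisSquare.fromBiprod_δ S A n (n + 1) rfl)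
    ((AddCommGrpCat.biprodIsoProd _ _).inv ⟨a, b⟩))
  rw [← h3]
  exact h5

/-- Exactness at `H'^(n+1)(X₄)`. -/
theorem sq_exists_δ_eq (n : ℕ) (α : A.H' (n + 1) S.X₄)
    (hα1 : (A.cohomologyPresheaf (n + 1)).map S.f₂₄.op α = 0)
    (hα2 : (A.cohomologyPresheaf (n + 1)).map S.f₃₄.op α = 0) :
    ∃ β : A.H' n S.X₁, S.δ A n (n + 1) rfl β = α := by
  have hex := (S.sequence_exact A n (n + 1) rfl).exact 2
  rw [ShortComplex.ab_exact_iff] at hex
  have hα : S.toBiprod A (n + 1) α = 0 := by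
    rw [GrothendieckTopology.MayerVietorisSquare.toBiprod_apply, hα1, hα2]
    exact map_zero (AddCommGrpCat.biprodIsoProd _ _).inv.hom
  exact hex α hα

lemma toBiprod_eq_zero_iff (n : ℕ) (α : A.H' n S.X₄) :
    S.toBiprod A n α = 0 ↔ (A.cohomologyPresheaf n).map S.f₂₄.op α = 0 ∧
      (A.cohomologyPresheaf n).map S.f₃₄.op α = 0 := by
  rw [GrothendieckTopology.MayerVietorisSquare.toBiprod_apply]
  constructor
  · intro h
    have h' := congrArg (AddCommGrpCat.biprodIsoProd _ _).hom.hom h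
    rw [map_zero] at h'
    have h'' : ((A.cohomologyPresheaf n).map S.f₂₄.op α, (A.cohomologyPresheaf n).map S.f₃₄.op α) =
        (0 : ↑(A.H' n S.X₂) × ↑(A.H' n S.X₃)) := by
      rw [← h']
      exact ((AddCommGrpCat.biprodIsoProd _ _).addCommGroupIsoToAddEquiv.apply_symm_apply _).symm
    exact ⟨congrArg Prod.fst h'', congrArg Prod.snd h''⟩
  · rintro ⟨h1, h2⟩
    rw [h1, h2]
    exact map_zero (AddCommGrpCat.biprodIsoProd _ _).inv.hom

theorem sq_res_δ (n : ℕ) (β : A.H' n S.X₁) :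
    (A.cohomologyPresheaf (n + 1)).map S.f₂₄.op (S.δ A n (n + 1) rfl β) = 0 ∧
      (A.cohomologyPresheaf (n + 1)).map S.f₃₄.op (S.δ A n (n + 1) rfl β) = 0 := by
  rw [← toBiprod_eq_zero_iff]
  exact congr($(GrothendieckTopology.MayerVietorisSquare.δ_toBiprod S A n (n + 1) rfl) β)

/-- Exactness at `H'^n(X₂) × H'^n(X₃)`. -/
theorem sq_exists_res_eq (n : ℕ) (a : A.H' n S.X₂) (b : A.H' n S.X₃)
    (hab : (A.cohomologyPresheaf n).map S.f₁₂.op a - (A.cohomologyPresheaf n).map S.f₁₃.op b = 0) :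
    ∃ α : A.H' n S.X₄, (A.cohomologyPresheaf n).map S.f₂₄.op α = a ∧
      (A.cohomologyPresheaf n).map S.f₃₄.op α = b := by
  have hex := (S.sequence_exact A n (n + 1) rfl).exact 0
  rw [ShortComplex.ab_exact_iff] at hex
  have h3 := GrothendieckTopology.MayerVietorisSquare.fromBiprod_biprodIsoProd_inv_apply S A
    (n := n) a b
  rw [hab] at h3
  obtain ⟨α, hα⟩ := hex _ h3
  refine ⟨α, ?_⟩
  have hα' : S.toBiprod A n α = (AddCommGrpCat.biprodIsoProd _ _).inv ⟨a, b⟩ := hα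
  rw [GrothendieckTopology.MayerVietorisSquare.toBiprod_apply] at hα'
  have h4 := (AddCommGrpCat.biprodIsoProd _ _).addCommGroupIsoToAddEquiv.symm.injective hα'
  exact ⟨congrArg Prod.fst h4, congrArg Prod.snd h4⟩

/-- Injectivity of `H'^0(X₄) → H'^0(X₂) × H'^0(X₃)`. -/
theorem sq_eq_zero₀ (α : A.H' 0 S.X₄)
    (hα1 : (A.cohomologyPresheaf 0).map S.f₂₄.op α = 0)
    (hα2 : (A.cohomologyPresheaf 0).map S.f₃₄.op α = 0) : α = 0 := by
  have hα : S.toBiprod A 0 α = 0 := (toBiprod_eq_zero_iff S A 0 α).2 ⟨hα1, hα2⟩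
  have h1 := GrothendieckTopology.MayerVietorisSquare.biprodAddEquiv_symm_biprodIsoProd_hom_toBiprod_apply
    S A (n := 0) α
  rw [hα, map_zero] at h1
  have h2 : (Ext.mk₀ S.shortComplex.g).comp α (zero_add 0) = 0 :=
    h1.symm.trans (map_zero (Ext.biprodAddEquiv.symm))
  have hinj := Ext.precomp_mk₀_injective_of_epi A S.shortComplex.g
  exact hinj (h2.trans (map_zero ((Ext.mk₀ S.shortComplex.g).precomp A (zero_add 0))).symm)

/-! ### Naturality -/

lemma δ_apply (n : ℕ) (β : A.H' n S.X₁) :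
    S.δ A n (n + 1) rfl β = S.shortComplex_shortExact.extClass.comp β (add_comm 1 n) := rfl

omit [HasWeakSheafify J (Type u)] in
lemma map_apply {A A' : Sheaf J AddCommGrpCat.{u}} (φ : A ⟶ A') (n : ℕ) (U : C)
    (x : A.H' n U) :
    ((Sheaf.cohomologyPresheafFunctor J n).map φ).app (op U) x =
      Ext.comp (show Ext _ A n from x) (Ext.mk₀ φ) (add_zero n) := rfl

/-- The functor sending an object to the free abelian sheaf on it. -/
noncomputable abbrev FF : C ⥤ Sheaf J AddCommGrpCat.{u} :=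
  yoneda ⋙ (Functor.whiskeringRight _ _ _).obj AddCommGrpCat.free ⋙ presheafToSheaf J _

omit [HasWeakSheafify J (Type u)] in
lemma res_apply (n : ℕ) {U U' : C} (g : U' ⟶ U) (x : A.H' n U) :
    (A.cohomologyPresheaf n).map g.op x =
      (Ext.mk₀ ((FF (J := J)).map g)).comp (show Ext _ A n from x) (zero_add n) := rfl

/-- The connecting map is natural in the sheaf. -/
theorem sq_δ_map {A A' : Sheaf J AddCommGrpCat.{u}} (φ : A ⟶ A') (n : ℕ) (β : A.H' n S.X₁) :
    ((Sheaf.cohomologyPresheafFunctor J (n + 1)).map φ).app (op S.X₄) (S.δ A n (n + 1) rfl β) =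
      S.δ A' n (n + 1) rfl (((Sheaf.cohomologyPresheafFunctor J n).map φ).app (op S.X₁) β) := by
  rw [δ_apply, δ_apply, map_apply, map_apply]
  exact Ext.comp_assoc_of_third_deg_zero _ _ _ _

variable {S} in
omit [HasExt.{u} (Sheaf J AddCommGrpCat.{u})] in
lemma scHom_comm₁₂ {S' : J.MayerVietorisSquare} (ψ : S'.toSquare ⟶ S.toSquare) :
    (FF (J := J)).map ψ.τ₁ ≫ biprod.lift ((FF (J := J)).map S.f₁₂) (-(FF (J := J)).map S.f₁₃) =
      biprod.lift ((FF (J := J)).map S'.f₁₂) (-(FF (J := J)).map S'.f₁₃) ≫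
        biprod.map ((FF (J := J)).map ψ.τ₂) ((FF (J := J)).map ψ.τ₃) := by
  apply biprod.hom_ext
  · rw [Category.assoc, Category.assoc, biprod.lift_fst, biprod.map_fst, biprod.lift_fst_assoc,
      ← Functor.map_comp, ← Functor.map_comp, ψ.comm₁₂]
  · rw [Category.assoc, Category.assoc, biprod.lift_snd, biprod.map_snd, biprod.lift_snd_assoc,
      Preadditive.neg_comp, Preadditive.comp_neg, neg_inj,
      ← Functor.map_comp, ← Functor.map_comp, ψ.comm₁₃]

variable {S} in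
omit [HasExt.{u} (Sheaf J AddCommGrpCat.{u})] in
lemma scHom_comm₂₃ {S' : J.MayerVietorisSquare} (ψ : S'.toSquare ⟶ S.toSquare) :
    biprod.map ((FF (J := J)).map ψ.τ₂) ((FF (J := J)).map ψ.τ₃) ≫
        biprod.desc ((FF (J := J)).map S.f₂₄) ((FF (J := J)).map S.f₃₄) =
      biprod.desc ((FF (J := J)).map S'.f₂₄) ((FF (J := J)).map S'.f₃₄) ≫
        (FF (J := J)).map ψ.τ₄ := by
  apply biprod.hom_ext'
  · rw [biprod.inl_map_assoc, biprod.inl_desc, biprod.inl_desc_assoc,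
      ← Functor.map_comp, ← Functor.map_comp, ψ.comm₂₄]
  · rw [biprod.inr_map_assoc, biprod.inr_desc, biprod.inr_desc_assoc,
      ← Functor.map_comp, ← Functor.map_comp, ψ.comm₃₄]

variable {S} in
/-- The morphism of Mayer–Vietoris short complexes attached to a morphism of squares. -/
noncomputable def scHom {S' : J.MayerVietorisSquare} (ψ : S'.toSquare ⟶ S.toSquare) :
    S'.shortComplex ⟶ S.shortComplex where
  τ₁ := (FF (J := J)).map ψ.τ₁
  τ₂ := biprod.map ((FF (J := J)).map ψ.τ₂) ((FF (J := J)).map ψ.τ₃)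
  τ₃ := (FF (J := J)).map ψ.τ₄
  comm₁₂ := scHom_comm₁₂ ψ
  comm₂₃ := scHom_comm₂₃ ψ

variable {S} in
/-- The connecting map is compatible with restriction along a morphism of squares. -/
theorem sq_res_δ_hom {S' : J.MayerVietorisSquare} (ψ : S'.toSquare ⟶ S.toSquare) (n : ℕ)
    (β : A.H' n S.X₁) :
    (A.cohomologyPresheaf (n + 1)).map ψ.τ₄.op (S.δ A n (n + 1) rfl β) =
      S'.δ A n (n + 1) rfl ((A.cohomologyPresheaf n).map ψ.τ₁.op β) := by
  rw [δ_apply, δ_apply, res_apply, res_apply]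
  have hnat := ShortComplex.ShortExact.extClass_naturality S'.shortComplex_shortExact
    S.shortComplex_shortExact (scHom ψ)
  have e1 : (Ext.mk₀ ((FF (J := J)).map ψ.τ₄)).comp
      (S.shortComplex_shortExact.extClass.comp (show Ext _ A n from β) (add_comm 1 n))
        (zero_add (n + 1)) =
      ((Ext.mk₀ (scHom ψ).τ₃).comp S.shortComplex_shortExact.extClass (zero_add 1)).comp
        (show Ext _ A n from β) (add_comm 1 n) :=
    (Ext.comp_assoc _ _ _ _ _ (by omega)).symm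
  rw [e1, ← hnat]
  exact Ext.comp_assoc _ _ _ _ _ (by omega)

end Site

section Opens

open Groth.Agent.Lib.FlasqueAcyclic Groth.Agent.Lib.AffVanTop

variable {X : TopCat.{u}} (A : CohTop.Ab X)
  {W V₁ V₂ : Opens X} (h1 : V₁ ≤ W) (h2 : V₂ ≤ W) (hW : W ≤ V₁ ⊔ V₂)

/-- The Mayer–Vietoris connecting map. -/
noncomputable def mvδ (n : ℕ) : CohTop.HU A n (V₁ ⊓ V₂) →+ CohTop.HU A (n + 1) W :=
  ((mvSquare h1 h2 hW).δ A n (n + 1) rfl).hom

/-- Exactness at `H'^n(V₁ ⊓ V₂)`. -/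
theorem exists_of_mvδ_eq_zero (n : ℕ) (β : CohTop.HU A n (V₁ ⊓ V₂))
    (hβ : mvδ A h1 h2 hW n β = 0) :
    ∃ (a : CohTop.HU A n V₁) (b : CohTop.HU A n V₂),
      CohTop.res A n inf_le_left a - CohTop.res A n inf_le_right b = β :=
  sq_exists_of_δ_eq_zero (mvSquare h1 h2 hW) A n β hβ

theorem mvδ_res_sub_res (n : ℕ) (a : CohTop.HU A n V₁) (b : CohTop.HU A n V₂) :
    mvδ A h1 h2 hW n (CohTop.res A n inf_le_left a - CohTop.res A n inf_le_right b) = 0 :=
  sq_δ_sub (mvSquare h1 h2 hW) A n a b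

/-- Exactness at `H'^(n+1)(W)`. -/
theorem exists_mvδ_eq (n : ℕ) (α : CohTop.HU A (n + 1) W)
    (hα1 : CohTop.res A (n + 1) h1 α = 0) (hα2 : CohTop.res A (n + 1) h2 α = 0) :
    ∃ β : CohTop.HU A n (V₁ ⊓ V₂), mvδ A h1 h2 hW n β = α :=
  sq_exists_δ_eq (mvSquare h1 h2 hW) A n α hα1 hα2

theorem res_mvδ_left (n : ℕ) (β : CohTop.HU A n (V₁ ⊓ V₂)) :
    CohTop.res A (n + 1) h1 (mvδ A h1 h2 hW n β) = 0 :=
  (sq_res_δ (mvSquare h1 h2 hW) A n β).1

theorem res_mvδ_right (n : ℕ) (β : CohTop.HU A n (V₁ ⊓ V₂)) :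
    CohTop.res A (n + 1) h2 (mvδ A h1 h2 hW n β) = 0 :=
  (sq_res_δ (mvSquare h1 h2 hW) A n β).2

include hW in
/-- Exactness at `H'^n(V₁) × H'^n(V₂)`. -/
theorem exists_res_eq (n : ℕ) (a : CohTop.HU A n V₁) (b : CohTop.HU A n V₂)
    (hab : CohTop.res A n inf_le_left a - CohTop.res A n inf_le_right b = 0) :
    ∃ α : CohTop.HU A n W, CohTop.res A n h1 α = a ∧ CohTop.res A n h2 α = b :=
  sq_exists_res_eq (mvSquare h1 h2 hW) A n a b hab

include hW in
/-- Injectivity of `H'^0(W) → H'^0(V₁) × H'^0(V₂)`. -/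
theorem eq_zero_of_res_eq_zero₀ (α : CohTop.HU A 0 W)
    (hα1 : CohTop.res A 0 h1 α = 0) (hα2 : CohTop.res A 0 h2 α = 0) : α = 0 :=
  sq_eq_zero₀ (mvSquare h1 h2 hW) A α hα1 hα2

/-- The connecting map is natural in the sheaf. -/
theorem mvδ_HUmap {A A' : CohTop.Ab X} (φ : A ⟶ A') (n : ℕ) (β : CohTop.HU A n (V₁ ⊓ V₂)) :
    CohTop.HUmap φ (n + 1) W (mvδ A h1 h2 hW n β) =
      mvδ A' h1 h2 hW n (CohTop.HUmap φ n (V₁ ⊓ V₂) β) :=
  sq_δ_map (mvSquare h1 h2 hW) φ n β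

/-- The connecting map commutes with restriction to smaller opens. -/
theorem res_mvδ {W' V₁' V₂' : Opens X} (h1' : V₁' ≤ W') (h2' : V₂' ≤ W') (hW' : W' ≤ V₁' ⊔ V₂')
    (hV₁ : V₁' ≤ V₁) (hV₂ : V₂' ≤ V₂) (hWW : W' ≤ W) (n : ℕ) (β : CohTop.HU A n (V₁ ⊓ V₂)) :
    CohTop.res A (n + 1) hWW (mvδ A h1 h2 hW n β) =
      mvδ A h1' h2' hW' n (CohTop.res A n (inf_le_inf hV₁ hV₂) β) := by
  let ψ : (mvSquare h1' h2' hW').toSquare ⟶ (mvSquare h1 h2 hW).toSquare :=
    { τ₁ := homOfLE (inf_le_inf hV₁ hV₂)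
      τ₂ := homOfLE hV₁
      τ₃ := homOfLE hV₂
      τ₄ := homOfLE hWW
      comm₁₂ := Subsingleton.elim _ _
      comm₁₃ := Subsingleton.elim _ _
      comm₂₄ := Subsingleton.elim _ _
      comm₃₄ := Subsingleton.elim _ _ }
  exact sq_res_δ_hom A ψ n β

/-- Restriction commutes with the maps induced by morphisms of sheaves. -/
theorem res_HUmap {A A' : CohTop.Ab X} (φ : A ⟶ A') (n : ℕ) {U V : Opens X} (h : V ≤ U)
    (α : CohTop.HU A n U) :
    CohTop.res A' n h (CohTop.HUmap φ n U α) = CohTop.HUmap φ n V (CohTop.res A n h α) := by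
  have := ((Sheaf.cohomologyPresheafFunctor (Opens.grothendieckTopology X) n).map φ).naturality
    (homOfLE h).op
  exact (congr($this α)).symm

end Opens

end Groth.Agent.Lib.MVNat
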