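import Groth.Prelude.Def_W4c3perfectstacksMV
import Mathlib.CategoryTheory.Triangulated.Functor
import Mathlib.CategoryTheory.Triangulated.Pretriangulated
import Mathlib.CategoryTheory.Triangulated.Triangulated

/-!
# Mayer–Vietoris squares of triangulated categories

Helper library of helper31 (statements S16407–S16412).
-/

set_option autoImplicit false
set_option linter.unusedSectionVars false

namespace Groth.Agent.Lib.MVSquare31

open CategoryTheory Limits Pretriangulated W4c3perfectstacks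

universe v u

section General

variable {C : Type*} [Category C] [Preadditive C] [HasZeroObject C] [HasShift C ℤ]
  [∀ n : ℤ, (shiftFunctor C n).Additive] [Pretriangulated C]

/-- injectivity of post-composition with `mor₁`, given vanishing of maps from the shift into
`obj₃` -/
lemma eq_zero_of_comp_mor₁ (T : Triangle C) (hT : T ∈ distTriang C) {V : C}
    (hV : ∀ g : (shiftFunctor C (1 : ℤ)).obj V ⟶ T.obj₃, g = 0) (x : V ⟶ T.obj₁)
    (hx : x ≫ T.mor₁ = 0) : x = 0 := by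
  apply (shiftFunctor C (1 : ℤ)).map_injective
  rw [Functor.map_zero]
  obtain ⟨g, hg⟩ := Triangle.coyoneda_exact₁ T hT ((shiftFunctor C (1 : ℤ)).map x)
    (by rw [← Functor.map_comp, hx, Functor.map_zero])
  rw [hg, hV g, zero_comp]

/-- a map into a shift corresponds to a map out of the opposite shift -/
lemma eq_zero_of_shift_neg {W Y : C} (n : ℤ)
    (h : ∀ y : (shiftFunctor C (-n)).obj W ⟶ Y, y = 0) (x : W ⟶ (shiftFunctor C n).obj Y) :
    x = 0 := by
  have adj : shiftFunctor C (-n) ⊣ shiftFunctor C n := (shiftEquiv C n).symm.toAdjunction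
  apply (adj.homEquiv _ _).symm.injective
  rw [h ((adj.homEquiv _ _).symm x), Adjunction.homEquiv_counit, Functor.map_zero, zero_comp]

/-- in a distinguished triangle `X ⟶ A ⊞ B ⟶ C` whose second map restricts to an isomorphism
`B ≅ C`, the first projection `X ⟶ A` is an isomorphism (formulated with abstract biproduct
data) -/
lemma isIso_comp_fst_of_biprod_data {X Y C' A B : C} (u : X ⟶ Y) (v : Y ⟶ C')
    (d : C' ⟶ (shiftFunctor C (1 : ℤ)).obj X) (hT : Triangle.mk u v d ∈ distTriang C)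
    (P₁ : Y ⟶ A) (P₂ : Y ⟶ B) (I₁ : A ⟶ Y) (I₂ : B ⟶ Y)
    (h11 : I₁ ≫ P₁ = 𝟙 A) (h21 : I₂ ≫ P₁ = 0) (htot : P₁ ≫ I₁ + P₂ ≫ I₂ = 𝟙 Y)
    (ι₀ : B ⟶ C') [IsIso ι₀] (hι : I₂ ≫ v = -ι₀) : IsIso (u ≫ P₁) := by
  have hσ : (-(inv ι₀ ≫ I₂)) ≫ v = 𝟙 C' := by
    rw [Preadditive.neg_comp, Category.assoc, hι, Preadditive.comp_neg, neg_neg, IsIso.inv_hom_id]
  have hvd : v ≫ d = 0 := comp_distTriang_mor_zero₂₃ _ hT
  have huv : u ≫ v = 0 := comp_distTriang_mor_zero₁₂ _ hT
  have hd : d = 0 := by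
    rw [← Category.id_comp d, ← hσ, Category.assoc, hvd, comp_zero]
  have hmono : Mono u := Triangle.mono₁ _ hT hd
  obtain ⟨γ, hγ⟩ : ∃ γ : A ⟶ C', γ = I₁ ≫ v := ⟨_, rfl⟩
  have hv : v = P₁ ≫ γ - P₂ ≫ ι₀ := by
    rw [hγ, sub_eq_add_neg, ← Preadditive.comp_neg, ← hι, ← Category.assoc P₁,
      ← Category.assoc P₂, ← Preadditive.add_comp, htot, Category.id_comp]
  have hs : (I₁ + γ ≫ inv ι₀ ≫ I₂) ≫ v = 0 := by
    rw [Preadditive.add_comp, Category.assoc, Category.assoc, hι, ← hγ, Preadditive.comp_neg,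
      Preadditive.comp_neg, IsIso.inv_hom_id, Category.comp_id, add_neg_cancel]
  obtain ⟨s', hs'⟩ : ∃ s' : A ⟶ X, I₁ + γ ≫ inv ι₀ ≫ I₂ = s' ≫ u :=
    Triangle.coyoneda_exact₂ _ hT _ hs
  have h1 : (u ≫ P₁) ≫ γ = (u ≫ P₂) ≫ ι₀ := by
    have h0 := huv
    rw [hv, Preadditive.comp_sub, ← Category.assoc, ← Category.assoc] at h0
    exact sub_eq_zero.1 h0
  refine ⟨⟨s', ?_, ?_⟩⟩
  · rw [← cancel_mono u, Category.assoc, ← hs', Category.id_comp, Preadditive.comp_add,
      ← Category.assoc (u ≫ P₁) γ, h1, Category.assoc (u ≫ P₂), IsIso.hom_inv_id_assoc,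
      Category.assoc, Category.assoc, ← Preadditive.comp_add, htot, Category.comp_id]
  · rw [← Category.assoc, ← hs', Preadditive.add_comp, h11, Category.assoc, Category.assoc, h21,
      comp_zero, comp_zero, add_zero]

end General

section Adj

variable {C D : Type*} [Category C] [Category D] [HasZeroMorphisms C] [HasZeroMorphisms D]
  {F : C ⥤ D} {G : D ⥤ C} (adj : F ⊣ G)

include adj in
lemma eq_zero_of_isZero_leftAdj {W : C} (hW : IsZero (F.obj W)) {P : D} (x : W ⟶ G.obj P) :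
    x = 0 :=
  (adj.homEquiv _ _).symm.injective (hW.eq_of_src _ _)

include adj in
lemma isZero_rightAdj {X : D} (hX : IsZero X) : IsZero (G.obj X) := by
  rw [IsZero.iff_id_eq_zero]
  exact (adj.homEquiv _ _).symm.injective (hX.eq_of_tgt _ _)

end Adj

section CommShift

variable {C D : Type*} [Category C] [Category D] [Preadditive C] [Preadditive D]
  [HasShift C ℤ] [HasShift D ℤ] [∀ n : ℤ, (shiftFunctor D n).Additive]
  (F : C ⥤ D) [F.CommShift ℤ]

lemma isZero_map_shift {W : C} (hW : IsZero (F.obj W)) (n : ℤ) :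
    IsZero (F.obj ((shiftFunctor C n).obj W)) :=
  IsZero.of_iso ((shiftFunctor D n).map_isZero hW) ((F.commShiftIso n).app W)

lemma map_shift_eq_zero {X Y : C} (x : X ⟶ Y) (hx : F.map x = 0) (n : ℤ) :
    F.map ((shiftFunctor C n).map x) = 0 := by
  have h := (F.commShiftIso n).hom.naturality x
  dsimp at h
  rw [← cancel_mono ((F.commShiftIso n).hom.app Y), zero_comp, h, hx, Functor.map_zero, comp_zero]

lemma isIso_map_shift {X Y : C} (x : X ⟶ Y) (hx : IsIso (F.map x)) (n : ℤ) :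
    IsIso (F.map ((shiftFunctor C n).map x)) := by
  have h := (F.commShiftIso n).hom.naturality x
  dsimp at h
  have h2 : F.map ((shiftFunctor C n).map x) =
      (F.commShiftIso n).hom.app X ≫ (shiftFunctor D n).map (F.map x) ≫
        (F.commShiftIso n).inv.app Y := by
    rw [← reassoc_of% h, Iso.hom_inv_id_app]
    exact (Category.comp_id _).symm
  rw [h2]
  infer_instance

end CommShift

section Algebra

variable {𝒜 : Type*} [Category 𝒜] [Preadditive 𝒜]

/-- a comparison map out of a split cokernel is an isomorphism -/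
lemma isIso_of_biprod_data {X Y Q C A B : 𝒜}
    (P₁ : Y ⟶ A) (P₂ : Y ⟶ B) (I₁ : A ⟶ Y) (I₂ : B ⟶ Y)
    (htot : P₁ ≫ I₁ + P₂ ≫ I₂ = 𝟙 Y)
    (u : X ⟶ Y) (w : Y ⟶ Q) [Epi w] (huw : u ≫ w = 0) (t : Q ⟶ C)
    (α : X ⟶ A) [IsIso α] (hα : u ≫ P₁ = α) (ι₀ : B ⟶ C) [IsIso ι₀]
    (hι : I₂ ≫ w ≫ t = -ι₀) : IsIso t := by
  obtain ⟨γ, hγ⟩ : ∃ γ : A ⟶ C, γ = I₁ ≫ w ≫ t := ⟨_, rfl⟩
  obtain ⟨β, hβdef⟩ : ∃ β : X ⟶ B, β = u ≫ P₂ := ⟨_, rfl⟩
  have hu : u = α ≫ I₁ + β ≫ I₂ := by
    rw [← hα, hβdef, Category.assoc, Category.assoc, ← Preadditive.comp_add, htot,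
      Category.comp_id]
  have hwt : w ≫ t = P₁ ≫ γ - P₂ ≫ ι₀ := by
    rw [hγ, sub_eq_add_neg, ← Preadditive.comp_neg, ← hι, ← Category.assoc P₁,
      ← Category.assoc P₂, ← Preadditive.add_comp, htot, Category.id_comp]
  have hβ : β ≫ ι₀ = α ≫ γ := by
    have h0 : u ≫ (w ≫ t) = 0 := by rw [reassoc_of% huw, zero_comp]
    rw [hwt, Preadditive.comp_sub, ← Category.assoc, ← Category.assoc, hα, ← hβdef] at h0
    exact (sub_eq_zero.1 h0).symm
  have hβ' : inv α ≫ β = γ ≫ inv ι₀ := by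
    rw [IsIso.inv_comp_eq, ← Category.assoc, ← hβ, Category.assoc, IsIso.hom_inv_id,
      Category.comp_id]
  have hR : P₁ ≫ inv α ≫ u = P₁ ≫ I₁ + P₁ ≫ γ ≫ inv ι₀ ≫ I₂ := by
    conv_lhs => rw [hu]
    rw [Preadditive.comp_add, Preadditive.comp_add, IsIso.inv_hom_id_assoc,
      ← Category.assoc (inv α) β I₂, hβ', Category.assoc]
  have hL : (w ≫ t) ≫ inv ι₀ ≫ I₂ = P₁ ≫ γ ≫ inv ι₀ ≫ I₂ - P₂ ≫ I₂ := by
    rw [hwt, Preadditive.sub_comp, Category.assoc, Category.assoc, IsIso.hom_inv_id_assoc]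
  have key' : (w ≫ t) ≫ inv ι₀ ≫ I₂ = P₁ ≫ inv α ≫ u - 𝟙 Y := by
    rw [hR, hL, ← htot]
    abel
  obtain ⟨τ, hτ⟩ : ∃ τ : C ⟶ Q, τ = -(inv ι₀ ≫ I₂ ≫ w) := ⟨_, rfl⟩
  refine ⟨⟨τ, ?_, ?_⟩⟩ <;> rw [hτ]
  · rw [← cancel_epi w]
    calc w ≫ t ≫ (-(inv ι₀ ≫ I₂ ≫ w)) = -(((w ≫ t) ≫ inv ι₀ ≫ I₂) ≫ w) := by
          simp only [Preadditive.comp_neg, Category.assoc]
      _ = -((P₁ ≫ inv α ≫ u - 𝟙 Y) ≫ w) := by rw [key']
      _ = w ≫ 𝟙 Q := by
          rw [Preadditive.sub_comp, Category.assoc, Category.assoc, huw, comp_zero, comp_zero,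
            Category.id_comp, Category.comp_id]
          abel
  · rw [Preadditive.neg_comp, Category.assoc, Category.assoc, hι, Preadditive.comp_neg, neg_neg,
      IsIso.inv_hom_id]

end Algebra

section MV

variable {S S' R R' : Type u} [Category.{v} S] [Category.{v} S'] [Category.{v} R] [Category.{v} R']
    [Preadditive S] [Preadditive S'] [Preadditive R] [Preadditive R']
    [HasZeroObject S] [HasZeroObject S'] [HasZeroObject R] [HasZeroObject R']
    [HasShift S ℤ] [HasShift S' ℤ] [HasShift R ℤ] [HasShift R' ℤ]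
    [∀ n : ℤ, (shiftFunctor S n).Additive] [∀ n : ℤ, (shiftFunctor S' n).Additive]
    [∀ n : ℤ, (shiftFunctor R n).Additive] [∀ n : ℤ, (shiftFunctor R' n).Additive]
    [Pretriangulated S] [Pretriangulated S'] [Pretriangulated R] [Pretriangulated R']
    (q : MVSq S S' R R')
    [q.jst.CommShift ℤ] [q.fst.CommShift ℤ] [q.jpst.CommShift ℤ] [q.gst.CommShift ℤ]
    [q.jst.IsTriangulated] [q.fst.IsTriangulated] [q.jpst.IsTriangulated] [q.gst.IsTriangulated]

lemma isZero_jpst_fst {W : S} (hW : IsZero (q.jst.obj W)) :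
    IsZero (q.jpst.obj (q.fst.obj W)) :=
  IsZero.of_iso (q.gst.map_isZero hW) (q.e.symm.app W)

lemma isZero_jst_fls (hq : q.IsMV) {M : S'} (hM : IsZero (q.jpst.obj M)) :
    IsZero (q.jst.obj (q.fls.obj M)) := by
  have := hq.isIso_bcApp M
  exact IsZero.of_iso (isZero_rightAdj q.adjG hM) (asIso (q.bcApp M))

/-- right orthogonal of the kernel of `j^*` -/
def IsOrth (Y : S) : Prop := ∀ (W : S), IsZero (q.jst.obj W) → ∀ x : W ⟶ Y, x = 0

lemma isOrth_jls (P : R) : IsOrth q (q.jls.obj P) :=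
  fun _ hW x => eq_zero_of_isZero_leftAdj q.adjJ hW x

lemma eq_zero_fst_jls (hq : q.IsMV) {W' : S'} (hW' : IsZero (q.jpst.obj W')) (P : R)
    (y : W' ⟶ q.fst.obj (q.jls.obj P)) : y = 0 := by
  have := hq.isIso_bc2App P
  rw [← cancel_mono (q.bc2App P), zero_comp]
  exact eq_zero_of_isZero_leftAdj q.adjJp hW' _

lemma isOrth_fls_fst_jls (hq : q.IsMV) (P : R) :
    IsOrth q (q.fls.obj (q.fst.obj (q.jls.obj P))) := fun W hW x => by
  apply (q.adjF.homEquiv _ _).symm.injective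
  rw [eq_zero_fst_jls q hq (isZero_jpst_fst q hW) P ((q.adjF.homEquiv _ _).symm x)]
  exact (eq_zero_fst_jls q hq (isZero_jpst_fst q hW) P _).symm

variable {q} in
lemma IsOrth.shift {Y : S} (hY : IsOrth q Y) (n : ℤ) : IsOrth q ((shiftFunctor S n).obj Y) :=
  fun _ hW x => eq_zero_of_shift_neg n (fun y => hY _ (isZero_map_shift q.jst hW (-n)) y) x

lemma fst_map_eq {W N : S} (x : W ⟶ N) :
    q.fst.map x = (q.adjF.homEquiv _ _).symm (x ≫ q.adjF.unit.app N) := by
  rw [Equiv.eq_symm_apply, Adjunction.homEquiv_unit]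
  exact (q.adjF.unit.naturality x).symm

lemma isIso_jst_map_unitJ (hq : q.IsMV) (N : S) : IsIso (q.jst.map (q.adjJ.unit.app N)) := by
  have := hq.isIso_counitJ
  have h := q.adjJ.left_triangle_components N
  have : IsIso (q.jst.map (q.adjJ.unit.app N) ≫ q.adjJ.counit.app (q.jst.obj N)) := by
    rw [h]; exact IsIso.id _
  exact IsIso.of_isIso_comp_right _ (q.adjJ.counit.app (q.jst.obj N))

lemma isIso_jpst_map_unitJp (hq : q.IsMV) (M : S') :
    IsIso (q.jpst.map (q.adjJp.unit.app M)) := by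
  have := hq.isIso_counitJp
  have h := q.adjJp.left_triangle_components M
  have : IsIso (q.jpst.map (q.adjJp.unit.app M) ≫ q.adjJp.counit.app (q.jpst.obj M)) := by
    rw [h]; exact IsIso.id _
  exact IsIso.of_isIso_comp_right _ (q.adjJp.counit.app (q.jpst.obj M))

/-- `f^*` is fully faithful into objects killed by `j^*` -/
lemma bijective_fst_map_of_isZero (hq : q.IsMV) (W : S) {Z : S} (hZ : IsZero (q.jst.obj Z)) :
    Function.Bijective (fun x : W ⟶ Z => q.fst.map x) := by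
  have := hq.isIso_unitF Z hZ
  constructor
  · intro x x' h
    dsimp at h
    rw [fst_map_eq, fst_map_eq] at h
    have h2 := (q.adjF.homEquiv _ _).symm.injective h
    exact (cancel_mono _).1 h2
  · intro y
    refine ⟨q.adjF.homEquiv _ _ y ≫ inv (q.adjF.unit.app Z), ?_⟩
    dsimp
    rw [fst_map_eq, Category.assoc, IsIso.inv_hom_id, Category.comp_id, Equiv.symm_apply_apply]

/-- the fibre of the unit `N ⟶ j_* j^* N` -/
lemma exists_fibre_unitJ (hq : q.IsMV) (N : S) :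
    ∃ (Z : S) (i : Z ⟶ N) (c : q.jls.obj (q.jst.obj N) ⟶ (shiftFunctor S (1 : ℤ)).obj Z),
      Triangle.mk i (q.adjJ.unit.app N) c ∈ distTriang S ∧ IsZero (q.jst.obj Z) := by
  obtain ⟨Z, i, c, hT⟩ := distinguished_cocone_triangle₁ (q.adjJ.unit.app N)
  refine ⟨Z, i, c, hT, ?_⟩
  have hT' := q.jst.map_distinguished _ hT
  have := isIso_jst_map_unitJ q hq N
  exact (Triangle.isZero₁_iff_isIso₂ _ hT').2 this

/-- `f^*` is bijective on maps out of objects killed by `j^*` -/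
theorem bijective_fst_map (hq : q.IsMV) {W : S} (hW : IsZero (q.jst.obj W)) (N : S) :
    Function.Bijective (fun x : W ⟶ N => q.fst.map x) := by
  obtain ⟨Z, i, c, hT, hZ⟩ := exists_fibre_unitJ q hq N
  have hT' := q.fst.map_distinguished _ hT
  have hbZ := bijective_fst_map_of_isZero q hq W hZ
  constructor
  · intro x x' h
    suffices h0 : ∀ x : W ⟶ N, q.fst.map x = 0 → x = 0 by
      have := h0 (x - x') (by rw [Functor.map_sub]; exact sub_eq_zero.2 h)
      exact sub_eq_zero.1 this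
    intro x hx
    obtain ⟨z, hz⟩ : ∃ z : W ⟶ Z, x = z ≫ i :=
      Triangle.coyoneda_exact₂ _ hT x (isOrth_jls q _ W hW _)
    have hz0 : q.fst.map z = 0 := by
      refine eq_zero_of_comp_mor₁ _ hT' (V := q.fst.obj W) ?_ (q.fst.map z) ?_
      · intro g
        rw [← cancel_epi ((q.fst.commShiftIso (1 : ℤ)).hom.app W), comp_zero]
        exact eq_zero_fst_jls q hq (isZero_jpst_fst q (isZero_map_shift q.jst hW 1)) _ _
      · show q.fst.map z ≫ q.fst.map i = 0
        rw [← Functor.map_comp, ← hz, hx]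
    have : z = 0 := hbZ.1 (by dsimp; rw [hz0, Functor.map_zero])
    rw [hz, this, zero_comp]
  · intro y
    obtain ⟨y', hy'⟩ : ∃ y' : q.fst.obj W ⟶ q.fst.obj Z, y = y' ≫ q.fst.map i :=
      Triangle.coyoneda_exact₂ _ hT' y (eq_zero_fst_jls q hq (isZero_jpst_fst q hW) _ _)
    obtain ⟨z, hz⟩ := hbZ.2 y'
    dsimp at hz
    exact ⟨z ≫ i, by dsimp; rw [Functor.map_comp, hz, hy']⟩

lemma eq_zero_of_comp_unitF (hq : q.IsMV) {W : S} (hW : IsZero (q.jst.obj W)) (N : S)
    (x : W ⟶ N) (hx : x ≫ q.adjF.unit.app N = 0) : x = 0 := by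
  apply (bijective_fst_map q hq hW N).1
  dsimp
  rw [fst_map_eq, hx, Functor.map_zero, Adjunction.homEquiv_counit, Functor.map_zero, zero_comp]

lemma eq_zero_of_comp_shift_unitF (hq : q.IsMV) {W : S} (hW : IsZero (q.jst.obj W)) (N : S)
    (n : ℤ) (y : W ⟶ (shiftFunctor S n).obj N)
    (hy : y ≫ (shiftFunctor S n).map (q.adjF.unit.app N) = 0) : y = 0 := by
  have adj : shiftFunctor S (-n) ⊣ shiftFunctor S n := (shiftEquiv S n).symm.toAdjunction
  apply (adj.homEquiv _ _).symm.injective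
  have h1 : (adj.homEquiv _ _).symm y ≫ q.adjF.unit.app N = 0 := by
    rw [← Adjunction.homEquiv_naturality_right_symm, hy, Adjunction.homEquiv_counit,
      Functor.map_zero, zero_comp]
  rw [eq_zero_of_comp_unitF q hq (isZero_map_shift q.jst hW (-n)) N _ h1,
    Adjunction.homEquiv_counit, Functor.map_zero, zero_comp]

lemma exists_lift_unitF (hq : q.IsMV) {W : S} (hW : IsZero (q.jst.obj W)) (N : S)
    (y : W ⟶ q.fls.obj (q.fst.obj N)) : ∃ x : W ⟶ N, x ≫ q.adjF.unit.app N = y := by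
  obtain ⟨x, hx⟩ := (bijective_fst_map q hq hW N).2 ((q.adjF.homEquiv _ _).symm y)
  dsimp at hx
  rw [fst_map_eq] at hx
  exact ⟨x, (q.adjF.homEquiv _ _).symm.injective hx⟩

section Triangle

/-- the three other vertices of the Mayer–Vietoris triangle -/
abbrev mvA (N : S) : S := q.jls.obj (q.jst.obj N)
abbrev mvB (N : S) : S := q.fls.obj (q.fst.obj N)
abbrev mvC (N : S) : S := q.fls.obj (q.fst.obj (q.jls.obj (q.jst.obj N)))

noncomputable abbrev mvU (N : S) : N ⟶ mvA q N ⊞ mvB q N :=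
  biprod.lift (q.adjJ.unit.app N) (q.adjF.unit.app N)

noncomputable abbrev mvV (N : S) : mvA q N ⊞ mvB q N ⟶ mvC q N :=
  biprod.desc (q.adjF.unit.app (q.jls.obj (q.jst.obj N)))
    (-(q.fls.map (q.fst.map (q.adjJ.unit.app N))))

lemma mvU_mvV (N : S) : mvU q N ≫ mvV q N = 0 := by
  rw [biprod.lift_desc, Preadditive.comp_neg]
  have := q.adjF.unit.naturality (q.adjJ.unit.app N)
  dsimp at this
  rw [this]
  abel

lemma jpst_fst_map_eq_zero {Y Y' : S} (x : Y ⟶ Y') (hx : q.jst.map x = 0) :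
    q.jpst.map (q.fst.map x) = 0 := by
  have h := q.e.hom.naturality x
  dsimp at h
  rw [← cancel_epi (q.e.hom.app Y), comp_zero, ← h, hx, Functor.map_zero, zero_comp]

lemma isIso_jpst_fst_map {Y Y' : S} (x : Y ⟶ Y') (hx : IsIso (q.jst.map x)) :
    IsIso (q.jpst.map (q.fst.map x)) := by
  have h := q.e.hom.naturality x
  dsimp at h
  have h2 : q.jpst.map (q.fst.map x) =
      q.e.inv.app Y ≫ q.gst.map (q.jst.map x) ≫ q.e.hom.app Y' := by
    rw [h, Iso.inv_hom_id_app_assoc]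
  rw [h2]
  infer_instance

lemma fst_map_comp_eq_zero (hq : q.IsMV) {Y Y' : S} (x : Y ⟶ Y') (hx : q.jst.map x = 0) (P : R)
    (s' : q.fst.obj Y' ⟶ q.fst.obj (q.jls.obj P)) : q.fst.map x ≫ s' = 0 := by
  have := hq.isIso_bc2App P
  rw [← cancel_mono (q.bc2App P), zero_comp]
  apply (q.adjJp.homEquiv _ _).symm.injective
  rw [Category.assoc, Adjunction.homEquiv_naturality_left_symm, jpst_fst_map_eq_zero q x hx,
    zero_comp, Adjunction.homEquiv_counit, Functor.map_zero, zero_comp]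

/-- rigidity: maps killed by `j^*` compose to zero with maps into `f_* f^* j_* P` -/
lemma comp_eq_zero_of_jst_map_eq_zero (hq : q.IsMV) {Y Y' : S} (x : Y ⟶ Y')
    (hx : q.jst.map x = 0) (P : R) (s : Y' ⟶ q.fls.obj (q.fst.obj (q.jls.obj P))) :
    x ≫ s = 0 := by
  apply (q.adjF.homEquiv _ _).symm.injective
  rw [Adjunction.homEquiv_naturality_left_symm, fst_map_comp_eq_zero q hq x hx,
    Adjunction.homEquiv_counit, Functor.map_zero, zero_comp]

/-- the third map of a distinguished triangle on `mvU` is killed by `j^*` -/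
lemma jst_map_mor₃_eq_zero (hq : q.IsMV) (N : S) {Y : S} (w : mvA q N ⊞ mvB q N ⟶ Y)
    (d : Y ⟶ (shiftFunctor S (1 : ℤ)).obj N)
    (hT : Triangle.mk (mvU q N) w d ∈ distTriang S) : q.jst.map d = 0 := by
  have h1 : d ≫ (shiftFunctor S (1 : ℤ)).map (mvU q N) = 0 := comp_distTriang_mor_zero₃₁ _ hT
  have h2 : d ≫ (shiftFunctor S (1 : ℤ)).map (q.adjJ.unit.app N) = 0 := by
    have : q.adjJ.unit.app N = mvU q N ≫ biprod.fst := by simp
    rw [this, Functor.map_comp, reassoc_of% h1, zero_comp]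
  have := isIso_map_shift q.jst _ (isIso_jst_map_unitJ q hq N) 1
  rw [← cancel_mono (q.jst.map ((shiftFunctor S (1 : ℤ)).map (q.adjJ.unit.app N))), zero_comp,
    ← Functor.map_comp, h2, Functor.map_zero]

theorem mv_unique (hq : q.IsMV) (N : S) (d d' : mvC q N ⟶ (shiftFunctor S (1 : ℤ)).obj N)
    (hT : Triangle.mk (mvU q N) (mvV q N) d ∈ distTriang S)
    (hT' : Triangle.mk (mvU q N) (mvV q N) d' ∈ distTriang S) : d = d' := by
  obtain ⟨c, hc₁, hc₂⟩ : ∃ c : mvC q N ⟶ mvC q N, mvV q N ≫ c = 𝟙 _ ≫ mvV q N ∧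
      d ≫ (shiftFunctor S (1 : ℤ)).map (𝟙 N) = c ≫ d' :=
    complete_distinguished_triangle_morphism _ _ hT hT' (𝟙 N) (𝟙 _)
      (by
        show mvU q N ≫ 𝟙 _ = 𝟙 N ≫ mvU q N
        rw [Category.comp_id, Category.id_comp])
  have h0 : mvV q N ≫ (c - 𝟙 _) = 0 := by
    rw [Preadditive.comp_sub, hc₁, Category.id_comp, Category.comp_id, sub_self]
  obtain ⟨s, hs⟩ : ∃ s : (shiftFunctor S (1 : ℤ)).obj N ⟶ mvC q N, c - 𝟙 _ = d ≫ s :=
    Triangle.yoneda_exact₃ _ hT (c - 𝟙 _) h0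
  have hds : d ≫ s = 0 :=
    comp_eq_zero_of_jst_map_eq_zero q hq d (jst_map_mor₃_eq_zero q hq N _ d hT) _ s
  have hc : c = 𝟙 _ := by
    rw [hds] at hs
    exact sub_eq_zero.1 hs
  rw [hc, Category.id_comp, CategoryTheory.Functor.map_id, Category.comp_id] at hc₂
  exact hc₂

theorem mv_natural (hq : q.IsMV) (N₁ N₂ : S) (φ : N₁ ⟶ N₂)
    (d₁ : mvC q N₁ ⟶ (shiftFunctor S (1 : ℤ)).obj N₁)
    (d₂ : mvC q N₂ ⟶ (shiftFunctor S (1 : ℤ)).obj N₂)
    (h₁ : Triangle.mk (mvU q N₁) (mvV q N₁) d₁ ∈ distTriang S)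
    (h₂ : Triangle.mk (mvU q N₂) (mvV q N₂) d₂ ∈ distTriang S) :
    d₁ ≫ (shiftFunctor S (1 : ℤ)).map φ =
      q.fls.map (q.fst.map (q.jls.map (q.jst.map φ))) ≫ d₂ := by
  let b : mvA q N₁ ⊞ mvB q N₁ ⟶ mvA q N₂ ⊞ mvB q N₂ :=
    biprod.map (q.jls.map (q.jst.map φ)) (q.fls.map (q.fst.map φ))
  let c₀ : mvC q N₁ ⟶ mvC q N₂ := q.fls.map (q.fst.map (q.jls.map (q.jst.map φ)))
  have hJ := q.adjJ.unit.naturality φ
  have hF := q.adjF.unit.naturality φ
  have hFA := q.adjF.unit.naturality (q.jls.map (q.jst.map φ))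
  dsimp at hJ hF hFA
  have hb : mvU q N₁ ≫ b = φ ≫ mvU q N₂ := by
    apply biprod.hom_ext
    · rw [Category.assoc, biprod.map_fst, biprod.lift_fst_assoc, Category.assoc, biprod.lift_fst]
      exact hJ.symm
    · rw [Category.assoc, biprod.map_snd, biprod.lift_snd_assoc, Category.assoc, biprod.lift_snd]
      exact hF.symm
  have hc₀ : mvV q N₁ ≫ c₀ = b ≫ mvV q N₂ := by
    apply biprod.hom_ext'
    · simp only [b, c₀, biprod.inl_desc_assoc, biprod.inl_map_assoc, biprod.inl_desc]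
      exact hFA.symm
    · simp only [b, c₀, biprod.inr_desc_assoc, biprod.inr_map_assoc, biprod.inr_desc,
        Preadditive.neg_comp, Preadditive.comp_neg, ← Functor.map_comp, hJ]
  obtain ⟨c, hc₁, hc₂⟩ : ∃ c : mvC q N₁ ⟶ mvC q N₂, mvV q N₁ ≫ c = b ≫ mvV q N₂ ∧
      d₁ ≫ (shiftFunctor S (1 : ℤ)).map φ = c ≫ d₂ :=
    complete_distinguished_triangle_morphism _ _ h₁ h₂ φ b hb
  have h0 : mvV q N₁ ≫ (c - c₀) = 0 := by
    rw [Preadditive.comp_sub, hc₁, hc₀, sub_self]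
  obtain ⟨s, hs⟩ : ∃ s : (shiftFunctor S (1 : ℤ)).obj N₁ ⟶ mvC q N₂, c - c₀ = d₁ ≫ s :=
    Triangle.yoneda_exact₃ _ h₁ (c - c₀) h0
  have hds : d₁ ≫ s = 0 :=
    comp_eq_zero_of_jst_map_eq_zero q hq d₁ (jst_map_mor₃_eq_zero q hq N₁ _ d₁ h₁) _ s
  have hc : c = c₀ := by
    rw [hds] at hs
    exact sub_eq_zero.1 hs
  rw [hc₂, hc]

end Triangle

section Existence

lemma bcApp_naturality {M M' : S'} (m : M ⟶ M') :
    q.jst.map (q.fls.map m) ≫ q.bcApp M' = q.bcApp M ≫ q.gls.map (q.jpst.map m) := by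
  have h1 := q.adjG.unit.naturality (q.jst.map (q.fls.map m))
  have h2 := q.e.hom.naturality (q.fls.map m)
  have h3 := q.adjF.counit.naturality m
  dsimp at h1 h2 h3
  simp only [MVSq.bcApp, Category.assoc]
  rw [reassoc_of% h1, ← Functor.map_comp, ← Functor.map_comp, ← Functor.map_comp,
    ← Functor.map_comp, reassoc_of% h2, ← Functor.map_comp, h3]
  simp only [Functor.map_comp]

lemma isIso_jst_map_fls_map (hq : q.IsMV) {M M' : S'} (m : M ⟶ M')
    (hm : IsIso (q.jpst.map m)) : IsIso (q.jst.map (q.fls.map m)) := by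
  have := hq.isIso_bcApp M
  have := hq.isIso_bcApp M'
  have h : q.jst.map (q.fls.map m) =
      q.bcApp M ≫ q.gls.map (q.jpst.map m) ≫ inv (q.bcApp M') := by
    rw [← reassoc_of% (bcApp_naturality q m), IsIso.hom_inv_id, Category.comp_id]
  rw [h]
  infer_instance

/-- the cone of `mvU` is right orthogonal to the kernel of `j^*` -/
lemma isOrth_cone_mvU (hq : q.IsMV) (N : S) {Q : S} (w : mvA q N ⊞ mvB q N ⟶ Q)
    (d' : Q ⟶ (shiftFunctor S (1 : ℤ)).obj N)
    (hT : Triangle.mk (mvU q N) w d' ∈ distTriang S) : IsOrth q Q := by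
  intro W hW x
  have h1 : (x ≫ d') ≫ (shiftFunctor S (1 : ℤ)).map (q.adjF.unit.app N) = 0 := by
    have h0 : d' ≫ (shiftFunctor S (1 : ℤ)).map (mvU q N) = 0 := comp_distTriang_mor_zero₃₁ _ hT
    have : q.adjF.unit.app N = mvU q N ≫ biprod.snd := by simp
    rw [this, Functor.map_comp, Category.assoc, reassoc_of% h0, zero_comp, comp_zero]
  have h2 : x ≫ d' = 0 := eq_zero_of_comp_shift_unitF q hq hW N 1 _ h1
  obtain ⟨y, hy⟩ : ∃ y : W ⟶ mvA q N ⊞ mvB q N, x = y ≫ w :=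
    Triangle.coyoneda_exact₃ _ hT x h2
  obtain ⟨n, hn⟩ := exists_lift_unitF q hq hW N (y ≫ biprod.snd)
  have hy2 : y = n ≫ mvU q N := by
    apply biprod.hom_ext
    · rw [isOrth_jls q _ W hW (y ≫ biprod.fst),
        isOrth_jls q _ W hW ((n ≫ mvU q N) ≫ biprod.fst)]
    · rw [Category.assoc, biprod.lift_snd, hn]
  rw [hy, hy2, Category.assoc]
  have : mvU q N ≫ w = 0 := comp_distTriang_mor_zero₁₂ _ hT
  rw [this, comp_zero]

/-- between objects right orthogonal to the kernel of `j^*`, isomorphisms are detected by `j^*` -/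
lemma isIso_of_isOrth {Y Y' : S} (t : Y ⟶ Y') (hY : IsOrth q Y) (hY' : IsOrth q Y')
    (ht : IsIso (q.jst.map t)) : IsIso t := by
  obtain ⟨Ct, a, b, hT⟩ := distinguished_cocone_triangle t
  have hT' := q.jst.map_distinguished _ hT
  have hZ : IsZero (q.jst.obj Ct) := (Triangle.isZero₃_iff_isIso₁ _ hT').2 ht
  have hCt : IsZero Ct := by
    rw [IsZero.iff_id_eq_zero]
    have hb : 𝟙 Ct ≫ b = 0 := (hY.shift 1) Ct hZ _
    obtain ⟨g, hg⟩ : ∃ g : Ct ⟶ Y', 𝟙 Ct = g ≫ a := Triangle.coyoneda_exact₃ _ hT (𝟙 Ct) hb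
    rw [hg, hY' Ct hZ g, zero_comp]
  exact (Triangle.isZero₃_iff_isIso₁ _ hT).1 hCt

theorem mv_exists (hq : q.IsMV) (N : S) :
    ∃ d : mvC q N ⟶ (shiftFunctor S (1 : ℤ)).obj N,
      Triangle.mk (mvU q N) (mvV q N) d ∈ distTriang S := by
  obtain ⟨Q, w, d', hT⟩ := distinguished_cocone_triangle (mvU q N)
  obtain ⟨t, ht⟩ : ∃ t : Q ⟶ mvC q N, mvV q N = w ≫ t :=
    Triangle.yoneda_exact₂ _ hT (mvV q N) (mvU_mvV q N)
  have hiso : IsIso t := by
    apply isIso_of_isOrth q t (isOrth_cone_mvU q hq N w d' hT) (isOrth_fls_fst_jls q hq _)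
    have hT₀ := q.jst.map_distinguished _ hT
    have hd0 : q.jst.map d' = 0 := jst_map_mor₃_eq_zero q hq N w d' hT
    have hepi : Epi (q.jst.map w) := by
      refine (Triangle.mor₃_eq_zero_iff_epi₂ _ hT₀).1 ?_
      show q.jst.map d' ≫ _ = 0
      rw [hd0, zero_comp]
    have hα := isIso_jst_map_unitJ q hq N
    have hι : IsIso (q.jst.map (q.fls.map (q.fst.map (q.adjJ.unit.app N)))) :=
      isIso_jst_map_fls_map q hq _ (isIso_jpst_fst_map q _ hα)
    refine isIso_of_biprod_data (q.jst.map biprod.fst) (q.jst.map biprod.snd)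
      (q.jst.map biprod.inl) (q.jst.map biprod.inr) ?_ (q.jst.map (mvU q N)) (q.jst.map w) ?_
      (q.jst.map t) (q.jst.map (q.adjJ.unit.app N)) ?_
      (q.jst.map (q.fls.map (q.fst.map (q.adjJ.unit.app N)))) ?_
    · rw [← Functor.map_comp, ← Functor.map_comp, ← Functor.map_add, biprod.total,
        CategoryTheory.Functor.map_id]
    · have h0 : mvU q N ≫ w = 0 := comp_distTriang_mor_zero₁₂ _ hT
      rw [← Functor.map_comp, h0, Functor.map_zero]
    · rw [← Functor.map_comp, biprod.lift_fst]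
    · rw [← Functor.map_comp, ← Functor.map_comp, ← ht, biprod.inr_desc, Functor.map_neg]
  refine ⟨inv t ≫ d', isomorphic_distinguished _ hT _ ?_⟩
  refine Triangle.isoMk _ _ (Iso.refl _) (Iso.refl _) (asIso t).symm ?_ ?_ ?_
  · show mvU q N ≫ 𝟙 _ = 𝟙 _ ≫ mvU q N
    rw [Category.comp_id, Category.id_comp]
  · show mvV q N ≫ inv t = 𝟙 _ ≫ w
    rw [ht, Category.assoc, IsIso.hom_inv_id, Category.comp_id, Category.id_comp]
  · show (inv t ≫ d') ≫ (shiftFunctor S (1 : ℤ)).map (𝟙 _) = inv t ≫ d'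
    rw [CategoryTheory.Functor.map_id, Category.comp_id]

end Existence

section Glue

lemma isOrth_fls_jpls (P' : R') : IsOrth q (q.fls.obj (q.jpls.obj P')) := fun W hW x => by
  apply (q.adjF.homEquiv _ _).symm.injective
  rw [eq_zero_of_isZero_leftAdj q.adjJp (isZero_jpst_fst q hW) ((q.adjF.homEquiv _ _).symm x)]
  exact (eq_zero_of_isZero_leftAdj q.adjJp (isZero_jpst_fst q hW) _).symm

/-- isomorphisms in `S'` are detected by `j'^*` together with maps out of the kernel of `j'^*` -/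
lemma isIso_of_jpst_of_bijective {Y Y' : S'} (φ : Y ⟶ Y') (h1 : IsIso (q.jpst.map φ))
    (hsurj : ∀ (W' : S'), IsZero (q.jpst.obj W') → ∀ g : W' ⟶ Y', ∃ y : W' ⟶ Y, y ≫ φ = g)
    (hinj : ∀ (W' : S'), IsZero (q.jpst.obj W') → ∀ y : W' ⟶ Y, y ≫ φ = 0 → y = 0) :
    IsIso φ := by
  obtain ⟨Cφ, a', b', hT⟩ := distinguished_cocone_triangle φ
  have hT' := q.jpst.map_distinguished _ hT
  have hZ : IsZero (q.jpst.obj Cφ) := (Triangle.isZero₃_iff_isIso₁ _ hT').2 h1
  have hCφ : IsZero Cφ := by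
    rw [IsZero.iff_id_eq_zero]
    have hb0 : b' = 0 := by
      have adj : shiftFunctor S' (-(1 : ℤ)) ⊣ shiftFunctor S' (1 : ℤ) :=
        (shiftEquiv S' (1 : ℤ)).symm.toAdjunction
      apply (adj.homEquiv _ _).symm.injective
      have h2 : (adj.homEquiv _ _).symm b' ≫ φ = 0 := by
        have h3 : b' ≫ (shiftFunctor S' (1 : ℤ)).map φ = 0 := comp_distTriang_mor_zero₃₁ _ hT
        rw [← Adjunction.homEquiv_naturality_right_symm, h3, Adjunction.homEquiv_counit,
          Functor.map_zero, zero_comp]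
      rw [hinj _ (isZero_map_shift q.jpst hZ (-1)) _ h2, Adjunction.homEquiv_counit,
        Functor.map_zero, zero_comp]
    obtain ⟨g, hg⟩ : ∃ g : Cφ ⟶ Y', 𝟙 Cφ = g ≫ a' :=
      Triangle.coyoneda_exact₃ _ hT (𝟙 Cφ) (by
        show 𝟙 Cφ ≫ b' = 0
        rw [hb0, comp_zero])
    obtain ⟨y, hy⟩ := hsurj Cφ hZ g
    have : φ ≫ a' = 0 := comp_distTriang_mor_zero₁₂ _ hT
    rw [hg, ← hy, Category.assoc, this, comp_zero]
  exact (Triangle.isZero₃_iff_isIso₁ _ hT).1 hCφ

variable (hq : q.IsMV) (NU : R) (N' : S') (δ : q.jpst.obj N' ≅ q.gst.obj NU) (N : S)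
    (a : N ⟶ q.jls.obj NU ⊞ q.fls.obj N')
    (d : q.fls.obj (q.jpls.obj (q.gst.obj NU)) ⟶ (shiftFunctor S (1 : ℤ)).obj N)

/-- the middle map of the glueing triangle -/
noncomputable abbrev glueV : q.jls.obj NU ⊞ q.fls.obj N' ⟶ q.fls.obj (q.jpls.obj (q.gst.obj NU)) :=
  biprod.desc (q.adjF.unit.app (q.jls.obj NU) ≫ q.fls.map (q.bc2App NU))
    (-(q.fls.map (q.adjJp.unit.app N' ≫ q.jpls.map δ.hom)))

include hq in
lemma glue_isIso_jst_map (hT : Triangle.mk a (glueV q NU N' δ) d ∈ distTriang S) :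
    IsIso (q.jst.map (a ≫ biprod.fst)) := by
  have hT₀ := q.jst.map_distinguished _ hT
  have h1 : IsIso (q.jpst.map (q.adjJp.unit.app N' ≫ q.jpls.map δ.hom)) := by
    have := isIso_jpst_map_unitJp q hq N'
    rw [Functor.map_comp]
    infer_instance
  have hι : IsIso (q.jst.map (q.fls.map (q.adjJp.unit.app N' ≫ q.jpls.map δ.hom))) :=
    isIso_jst_map_fls_map q hq _ h1
  rw [Functor.map_comp]
  refine isIso_comp_fst_of_biprod_data (q.jst.map a) (q.jst.map (glueV q NU N' δ)) _ hT₀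
    (q.jst.map biprod.fst) (q.jst.map biprod.snd) (q.jst.map biprod.inl) (q.jst.map biprod.inr)
    ?_ ?_ ?_ (q.jst.map (q.fls.map (q.adjJp.unit.app N' ≫ q.jpls.map δ.hom))) ?_
  · rw [← Functor.map_comp, biprod.inl_fst, CategoryTheory.Functor.map_id]
  · rw [← Functor.map_comp, biprod.inr_fst, Functor.map_zero]
  · rw [← Functor.map_comp, ← Functor.map_comp, ← Functor.map_add, biprod.total,
      CategoryTheory.Functor.map_id]
  · rw [← Functor.map_comp, biprod.inr_desc, Functor.map_neg]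

include hq in
theorem glue_isIso_fst (hT : Triangle.mk a (glueV q NU N' δ) d ∈ distTriang S) :
    IsIso ((q.adjJ.homEquiv N NU).symm (a ≫ biprod.fst)) := by
  have := glue_isIso_jst_map q hq NU N' δ N a d hT
  have := hq.isIso_counitJ
  rw [Adjunction.homEquiv_counit]
  infer_instance

lemma symm_bc2App : (q.adjJp.homEquiv _ _).symm (q.bc2App NU) =
    q.e.inv.app (q.jls.obj NU) ≫ q.gst.map (q.adjJ.counit.app NU) := by
  rw [Equiv.symm_apply_eq, Adjunction.homEquiv_unit, Functor.map_comp]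
  rfl

lemma glue_chase (hT : Triangle.mk a (glueV q NU N' δ) d ∈ distTriang S) :
    q.jpst.map ((q.adjF.homEquiv N N').symm (a ≫ biprod.snd)) ≫ δ.hom =
      q.e.inv.app N ≫ q.gst.map ((q.adjJ.homEquiv N NU).symm (a ≫ biprod.fst)) := by
  have h0 : a ≫ glueV q NU N' δ = 0 := comp_distTriang_mor_zero₁₂ _ hT
  have ha : a = biprod.lift (a ≫ biprod.fst) (a ≫ biprod.snd) := by
    apply biprod.hom_ext <;> simp
  have h1 : (a ≫ biprod.fst) ≫ q.adjF.unit.app (q.jls.obj NU) ≫ q.fls.map (q.bc2App NU) =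
      (a ≫ biprod.snd) ≫ q.fls.map (q.adjJp.unit.app N' ≫ q.jpls.map δ.hom) := by
    rw [ha, biprod.lift_desc, Preadditive.comp_neg] at h0
    have := sub_eq_zero.1 ((sub_eq_add_neg _ _).trans h0)
    simpa using this
  have h2 : q.fst.map (a ≫ biprod.fst) ≫ q.bc2App NU =
      (q.adjF.homEquiv N N').symm (a ≫ biprod.snd) ≫ q.adjJp.unit.app N' ≫ q.jpls.map δ.hom := by
    have := congrArg (q.adjF.homEquiv _ _).symm h1
    rw [← Category.assoc, Adjunction.homEquiv_naturality_right_symm,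
      Adjunction.homEquiv_naturality_right_symm, ← fst_map_eq] at this
    exact this
  have h3 := congrArg (q.adjJp.homEquiv _ _).symm h2
  rw [Adjunction.homEquiv_naturality_left_symm, Adjunction.homEquiv_naturality_left_symm,
    symm_bc2App] at h3
  have h4 : (q.adjJp.homEquiv N' (q.gst.obj NU)).symm
      (q.adjJp.unit.app N' ≫ q.jpls.map δ.hom) = δ.hom := by
    rw [Equiv.symm_apply_eq, Adjunction.homEquiv_unit]
  rw [h4] at h3
  rw [← h3]
  have h5 := q.e.inv.naturality (a ≫ biprod.fst)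
  dsimp at h5
  rw [reassoc_of% h5, ← Functor.map_comp, Adjunction.homEquiv_counit]

include hq in
theorem glue_isIso_snd (hT : Triangle.mk a (glueV q NU N' δ) d ∈ distTriang S) :
    IsIso ((q.adjF.homEquiv N N').symm (a ≫ biprod.snd)) := by
  have hψ := glue_isIso_fst q hq NU N' δ N a d hT
  have hchase := glue_chase q NU N' δ N a d hT
  -- maps out of objects killed by `j^*`
  have hinj5 : ∀ (W : S), IsZero (q.jst.obj W) → ∀ x : W ⟶ N, x ≫ a ≫ biprod.snd = 0 → x = 0 := by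
    intro W hW x hx
    have hxa : x ≫ a = 0 := by
      apply biprod.hom_ext
      · rw [zero_comp]
        exact isOrth_jls q _ W hW _
      · rw [zero_comp, Category.assoc, hx]
    refine eq_zero_of_comp_mor₁ _ hT ?_ x hxa
    intro g
    exact isOrth_fls_jpls q _ _ (isZero_map_shift q.jst hW 1) g
  have hsurj5 : ∀ (W : S), IsZero (q.jst.obj W) → ∀ y : W ⟶ q.fls.obj N',
      ∃ x : W ⟶ N, x ≫ a ≫ biprod.snd = y := by
    intro W hW y
    obtain ⟨x, hx⟩ : ∃ x : W ⟶ N, y ≫ biprod.inr = x ≫ a :=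
      Triangle.coyoneda_exact₂ _ hT (y ≫ biprod.inr) (isOrth_fls_jpls q _ W hW _)
    exact ⟨x, by rw [← Category.assoc, ← hx, Category.assoc, biprod.inr_snd, Category.comp_id]⟩
  apply isIso_of_jpst_of_bijective q
  · -- `j'^*` of the map is invertible
    have h : q.jpst.map ((q.adjF.homEquiv N N').symm (a ≫ biprod.snd)) =
        (q.e.inv.app N ≫ q.gst.map ((q.adjJ.homEquiv N NU).symm (a ≫ biprod.fst))) ≫ δ.inv := by
      rw [← hchase, Category.assoc, Iso.hom_inv_id, Category.comp_id]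
    rw [h]
    infer_instance
  · intro W' hW' g
    have hε := hq.isIso_counitF W' hW'
    obtain ⟨x, hx⟩ := hsurj5 _ (isZero_jst_fls q hq hW') (q.fls.map g)
    refine ⟨inv (q.adjF.counit.app W') ≫ q.fst.map x, ?_⟩
    rw [Category.assoc, ← Adjunction.homEquiv_naturality_left_symm, hx,
      Adjunction.homEquiv_counit]
    have := q.adjF.counit.naturality g
    dsimp at this
    rw [this, IsIso.inv_hom_id_assoc]
  · intro W' hW' y hy
    have hε := hq.isIso_counitF W' hW'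
    obtain ⟨x, hx⟩ := (bijective_fst_map q hq (isZero_jst_fls q hq hW') N).2
      (q.adjF.counit.app W' ≫ y)
    dsimp at hx
    have hx0 : x ≫ a ≫ biprod.snd = 0 := by
      apply (q.adjF.homEquiv _ _).symm.injective
      rw [Adjunction.homEquiv_naturality_left_symm, hx, Category.assoc, hy, comp_zero,
        Adjunction.homEquiv_counit, Functor.map_zero, zero_comp]
    have := hinj5 _ (isZero_jst_fls q hq hW') x hx0
    rw [this, Functor.map_zero] at hx
    rw [← cancel_epi (q.adjF.counit.app W'), ← hx, comp_zero]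

end Glue

end MV


end Groth.Agent.Lib.MVSquare31
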