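import Groth.Prelude.Def_EGA41
import Mathlib

/-!
# helper44: p-bases (EGA 0_IV 21.1-21.2)

For a `p`-basis `x` of `B` over `A` (with `C = A[B^p]`), `B` is the `C`-algebra
`C[X_i]/(X_i^p - x_i^p)`: ring homs out of `B` are determined by and can be prescribed through
a ring hom on `C` and values `z i` with `z i ^ p` the image of `x i ^ p`.
-/

set_option autoImplicit false
universe u v w

namespace Groth.Agent.Lib.PBasisH44

open EGA41

section Mon

variable {ι : Type*} {M : Type*} [CommMonoid M]

/-- the monomial `∏ z_i ^ n_i` -/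
noncomputable def mon (z : ι → M) (n : ι →₀ ℕ) : M := n.prod fun i k => z i ^ k

theorem mon_zero (z : ι → M) : mon z 0 = 1 := by
  simp [mon]

theorem mon_add (z : ι → M) (e f : ι →₀ ℕ) : mon z (e + f) = mon z e * mon z f := by
  unfold mon
  exact Finsupp.prod_add_index' (fun _ => pow_zero _) (fun _ _ _ => pow_add _ _ _)

theorem mon_single (z : ι → M) (i : ι) (k : ℕ) : mon z (Finsupp.single i k) = z i ^ k := by
  unfold mon
  exact Finsupp.prod_single_index (pow_zero _)

theorem map_mon {N : Type*} [CommMonoid N] {F : Type*} [FunLike F M N] [MonoidHomClass F M N]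
    (v : F) (z : ι → M) (n : ι →₀ ℕ) : v (mon z n) = mon (fun i => v (z i)) n := by
  unfold mon
  rw [map_finsuppProd]
  simp only [map_pow]

variable (p : ℕ)

/-- exponents reduced mod `p` -/
noncomputable def red (n : ι →₀ ℕ) : ι →₀ ℕ := n.mapRange (· % p) (Nat.zero_mod p)

/-- exponents divided by `p` -/
noncomputable def quo (n : ι →₀ ℕ) : ι →₀ ℕ := n.mapRange (· / p) (Nat.zero_div p)

theorem red_lt (hp : 0 < p) (n : ι →₀ ℕ) (i : ι) : red p n i < p := by
  simp only [red, Finsupp.mapRange_apply]
  exact Nat.mod_lt _ hp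

theorem mon_eq_quo_mul_red (z : ι → M) (n : ι →₀ ℕ) :
    mon z n = mon (fun i => z i ^ p) (quo p n) * mon z (red p n) := by
  classical
  unfold mon
  rw [Finsupp.prod_of_support_subset (quo p n) (s := n.support)
      (Finsupp.support_mapRange) _ (fun _ _ => pow_zero _),
    Finsupp.prod_of_support_subset (red p n) (s := n.support)
      (Finsupp.support_mapRange) _ (fun _ _ => pow_zero _),
    Finsupp.prod, ← Finset.prod_mul_distrib]
  refine Finset.prod_congr rfl fun i _ => ?_
  simp only [quo, red, Finsupp.mapRange_apply]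
  rw [← pow_mul, ← pow_add, Nat.div_add_mod]

end Mon

section Core

variable (p : ℕ) [hp : Fact p.Prime] {A B : Type u} [CommRing A] [CommRing B] [Algebra A B]
  {ι : Type u} {x : ι → B}

theorem pMonomial_eq_mon (x : ι → B) (e : ι →₀ ℕ) : pMonomial x e = mon x e := rfl

omit hp in
theorem pow_mem (b : B) : b ^ p ∈ pPowerSubalgebra p A B :=
  Algebra.subset_adjoin ⟨b, rfl⟩

/-- the `C`-basis of reduced monomials -/
noncomputable def basis (hx : IsPBasis p A x) :
    Module.Basis {e : ι →₀ ℕ // ∀ i, e i < p} (pPowerSubalgebra p A B) B :=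
  Module.Basis.mk hx.1 (by rw [hx.2])

omit hp in
theorem basis_apply (hx : IsPBasis p A x) (e : {e : ι →₀ ℕ // ∀ i, e i < p}) :
    basis p hx e = mon x e.1 := by
  unfold basis
  rw [Module.Basis.mk_apply]
  rfl

variable {E : Type w} [CommRing E]

/-- every monomial is a `C`-multiple of a reduced monomial -/
theorem mon_eq_smul_basis (hx : IsPBasis p A x) (n : ι →₀ ℕ) :
    mon x n = (mon (fun i => (⟨x i ^ p, pow_mem p (x i)⟩ : pPowerSubalgebra p A B)) (quo p n)) •
      basis p hx ⟨red p n, red_lt p hp.out.pos n⟩ := by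
  rw [basis_apply, Algebra.smul_def, mon_eq_quo_mul_red p x n]
  congr 1
  have := map_mon (algebraMap (pPowerSubalgebra p A B) B)
    (fun i => (⟨x i ^ p, pow_mem p (x i)⟩ : pPowerSubalgebra p A B)) (quo p n)
  rw [this]
  rfl

theorem exists_ringHom (hx : IsPBasis p A x) (g : pPowerSubalgebra p A B →+* E) (z : ι → E)
    (hz : ∀ i, z i ^ p = g ⟨x i ^ p, pow_mem p (x i)⟩) :
    ∃ v : B →+* E, (∀ c : pPowerSubalgebra p A B, v (c : B) = g c) ∧ ∀ i, v (x i) = z i := by
  classical
  let _ : Algebra (pPowerSubalgebra p A B) E := g.toAlgebra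
  let b := basis p hx
  let v₀ : B →ₗ[pPowerSubalgebra p A B] E :=
    b.constr (pPowerSubalgebra p A B) (fun e => mon z e.1)
  have hv₀b : ∀ e, v₀ (b e) = mon z e.1 := fun e => b.constr_basis _ _ e
  have hv₀ : ∀ n : ι →₀ ℕ, v₀ (mon x n) = mon z n := by
    intro n
    rw [mon_eq_smul_basis p hx n, map_smul, hv₀b, Algebra.smul_def, mon_eq_quo_mul_red p z n]
    congr 1
    have : algebraMap (pPowerSubalgebra p A B) E = g := rfl
    rw [this, map_mon]
    simp only [hz]
  have hmul : ∀ s t : B, v₀ (s * t) = v₀ s * v₀ t := by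
    have : (LinearMap.mul (pPowerSubalgebra p A B) B).compr₂ v₀ =
        (LinearMap.mul (pPowerSubalgebra p A B) E).compl₁₂ v₀ v₀ := by
      refine b.ext fun e => b.ext fun f => ?_
      simp only [LinearMap.compr₂_apply, LinearMap.mul_apply', LinearMap.compl₁₂_apply]
      rw [hv₀b, hv₀b, basis_apply, basis_apply, ← mon_add, hv₀, mon_add]
    intro s t
    exact LinearMap.congr_fun (LinearMap.congr_fun this s) t
  have hone : v₀ 1 = 1 := by
    have := hv₀ 0
    rwa [mon_zero, mon_zero] at this
  let v : B →+* E :=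
    { toFun := v₀
      map_one' := hone
      map_mul' := hmul
      map_zero' := map_zero v₀
      map_add' := map_add v₀ }
  refine ⟨v, ?_, ?_⟩
  · intro c
    have : (c : B) = c • (1 : B) := by rw [Algebra.smul_def, mul_one]; rfl
    change v₀ (c : B) = g c
    rw [this, map_smul, hone, Algebra.smul_def, mul_one]
    rfl
  · intro i
    have := hv₀ (Finsupp.single i 1)
    rwa [mon_single, mon_single, pow_one, pow_one] at this

omit hp in
theorem ringHom_ext (hx : IsPBasis p A x) (v v' : B →+* E)
    (hC : ∀ c : pPowerSubalgebra p A B, v (c : B) = v' (c : B)) (hxv : ∀ i, v (x i) = v' (x i)) :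
    v = v' := by
  ext s
  have hs : s ∈ Submodule.span (pPowerSubalgebra p A B)
      (Set.range fun e : {e : ι →₀ ℕ // ∀ i, e i < p} => pMonomial x e.1) := by
    rw [hx.2]; trivial
  induction hs using Submodule.span_induction with
  | mem s hs =>
    obtain ⟨e, rfl⟩ := hs
    change v (mon x e.1) = v' (mon x e.1)
    rw [map_mon, map_mon]
    simp only [hxv]
  | zero => simp
  | add s t _ _ hs ht => rw [map_add, map_add, hs, ht]
  | smul c s _ hs =>
    rw [Algebra.smul_def, map_mul, map_mul, hs]
    congr 1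
    exact hC c

end Core


section Deriv

open TrivSqZeroExt

variable (p : ℕ) [hp : Fact p.Prime] {A B : Type u} [CommRing A] [CommRing B] [Algebra A B]
  [CharP B p] {ι : Type u} {x : ι → B} {L : Type w} [AddCommGroup L] [Module B L]

omit hp [CharP B p] in
/-- derivations that agree on `C` and on the `x i` are equal -/
theorem derivation_ext (hx : IsPBasis p A x) (D D' : Derivation ℤ B L)
    (hC : ∀ c : pPowerSubalgebra p A B, D (c : B) = D' (c : B)) (hxv : ∀ i, D (x i) = D' (x i)) :
    D = D' := by
  classical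
  -- the equalizer is a submonoid
  let S : Submonoid B :=
    { carrier := {b | D b = D' b}
      one_mem' := by simp
      mul_mem' := by
        intro a b ha hb
        simp only [Set.mem_ofPred_eq] at ha hb ⊢
        rw [Derivation.leibniz, Derivation.leibniz, ha, hb] }
  have hmon : ∀ n : ι →₀ ℕ, mon x n ∈ S := by
    intro n
    unfold mon
    exact Submonoid.prod_mem S fun i _ => Submonoid.pow_mem S (hxv i) _
  ext s
  have hs : s ∈ Submodule.span (pPowerSubalgebra p A B)
      (Set.range fun e : {e : ι →₀ ℕ // ∀ i, e i < p} => pMonomial x e.1) := by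
    rw [hx.2]; trivial
  induction hs using Submodule.span_induction with
  | mem s hs =>
    obtain ⟨e, rfl⟩ := hs
    exact hmon e.1
  | zero => simp
  | add s t _ _ hs ht => rw [map_add, map_add, hs, ht]
  | smul c s _ hs =>
    rw [Algebra.smul_def]
    change D ((c : B) * s) = D' ((c : B) * s)
    rw [Derivation.leibniz, Derivation.leibniz, hs, hC c]

/-- existence of a derivation with prescribed restriction to `C` and values on the `p`-basis,
assuming a compatible right action -/
theorem exists_derivation_aux [Module Bᵐᵒᵖ L] [IsCentralScalar B L] (hx : IsPBasis p A x)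
    (D₀ : pPowerSubalgebra p A B →+ L)
    (hD₀ : ∀ c c' : pPowerSubalgebra p A B, D₀ (c * c') = (c : B) • D₀ c' + (c' : B) • D₀ c)
    (hD₀p : ∀ i, D₀ ⟨x i ^ p, pow_mem p (x i)⟩ = 0) (y : ι → L) :
    ∃ D' : Derivation ℤ B L, (∀ c : pPowerSubalgebra p A B, D' (c : B) = D₀ c) ∧
      ∀ i, D' (x i) = y i := by
  classical
  have hD₀one : D₀ 1 = 0 := by
    have := hD₀ 1 1
    simp only [mul_one, OneMemClass.coe_one, one_smul] at this
    exact (add_eq_left (a := D₀ 1)).1 this.symm
  let g : pPowerSubalgebra p A B →+* TrivSqZeroExt B L :=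
    { toFun := fun c => inl (c : B) + inr (D₀ c)
      map_one' := by
        rw [hD₀one]
        simp
      map_mul' := by
        intro c c'
        ext
        · simp
        · simp only [snd_add, snd_inl, snd_inr, zero_add, snd_mul, fst_add, fst_inl, fst_inr,
            add_zero, hD₀, MulMemClass.coe_mul, op_smul_eq_smul]
      map_zero' := by simp
      map_add' := by
        intro c c'
        ext
        · simp
        · simp }
  let z : ι → TrivSqZeroExt B L := fun i => inl (x i) + inr (y i)
  have hz : ∀ i, z i ^ p = g ⟨x i ^ p, pow_mem p (x i)⟩ := by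
    intro i
    ext
    · simp [z, g]
    · change (z i ^ p).snd = (inl (x i ^ p) + inr (D₀ ⟨x i ^ p, pow_mem p (x i)⟩)).snd
      rw [snd_pow, hD₀p]
      simp only [snd_add, snd_inl, snd_inr, add_zero]
      rw [← Nat.cast_smul_eq_nsmul B, CharP.cast_eq_zero B p, zero_smul]
  obtain ⟨v, hvC, hvx⟩ := exists_ringHom p hx g z hz
  have hfst : (fstHom ℤ B L : TrivSqZeroExt B L →+* B).comp v = RingHom.id B := by
    refine ringHom_ext p hx _ _ ?_ ?_
    · intro c
      simp [hvC, g]
    · intro i
      simp [hvx, z]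
  have hfst' : ∀ s, (v s).fst = s := fun s => RingHom.congr_fun hfst s
  let D'₀ : B →+ L :=
    { toFun := fun s => (v s).snd
      map_zero' := by simp
      map_add' := by intro s t; simp }
  refine ⟨Derivation.mk' D'₀.toIntLinearMap ?_, ?_, ?_⟩
  · intro s t
    change (v (s * t)).snd = s • (v t).snd + t • (v s).snd
    rw [map_mul, snd_mul, hfst', hfst', op_smul_eq_smul]
  · intro c
    change (v (c : B)).snd = D₀ c
    rw [hvC]
    simp [g]
  · intro i
    change (v (x i)).snd = y i
    rw [hvx]
    simp [z]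

theorem exists_derivation (hx : IsPBasis p A x)
    (D₀ : pPowerSubalgebra p A B →+ L)
    (hD₀ : ∀ c c' : pPowerSubalgebra p A B, D₀ (c * c') = (c : B) • D₀ c' + (c' : B) • D₀ c)
    (hD₀p : ∀ i, D₀ ⟨x i ^ p, pow_mem p (x i)⟩ = 0) (y : ι → L) :
    ∃ D' : Derivation ℤ B L, (∀ c : pPowerSubalgebra p A B, D' (c : B) = D₀ c) ∧
      ∀ i, D' (x i) = y i := by
  let _ : Module Bᵐᵒᵖ L := Module.compHom L ((RingHom.id B).fromOpposite fun a b => mul_comm a b)
  have : IsCentralScalar B L := ⟨fun b l => rfl⟩
  exact exists_derivation_aux p hx D₀ hD₀ hD₀p y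

end Deriv

end Groth.Agent.Lib.PBasisH44
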