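import Groth.Agent.Lib.MacLaneH44
import Groth.Agent.S2468

/-!
# helper44: MacLane's criterion, part 2 (p-bases)

`F ⊆ k ⊆ K` fields of characteristic `p`, `F` perfect.
* `mem_pPower_iff`: `F[L^p] = L^p`.
* `indep_map_of_LD`: under `LD p k K`, `p`-independent families of `k` stay `p`-independent in `K`.
* `LD_of_indep_map`: if a `p`-basis of `k` stays `p`-independent in `K` then `LD p k K`.
-/

set_option autoImplicit false
universe u
open EGA41

namespace Groth.Agent.Lib.MacLane2H44

open Groth.Agent.Lib.PBasisH44 Groth.Agent.Lib.MacLaneH44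

section PPower

variable (p : ℕ) [hp : Fact p.Prime] {F L : Type u} [Field F] [Field L] [Algebra F L]
  [CharP F p] [CharP L p] [PerfectRing F p]

theorem mem_pPower_iff (x : L) : x ∈ pPowerSubalgebra p F L ↔ ∃ c : L, c ^ p = x := by
  constructor
  · intro hx
    unfold pPowerSubalgebra at hx
    induction hx using Algebra.adjoin_induction with
    | mem y hy =>
      obtain ⟨b, rfl⟩ := hy
      exact ⟨b, rfl⟩
    | algebraMap r =>
      obtain ⟨s, hs⟩ := surjective_frobenius F p r
      refine ⟨algebraMap F L s, ?_⟩
      rw [← map_pow]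
      congr 1
    | add a b _ _ ha hb =>
      obtain ⟨c, rfl⟩ := ha
      obtain ⟨d, rfl⟩ := hb
      exact ⟨c + d, add_pow_char c d p⟩
    | mul a b _ _ ha hb =>
      obtain ⟨c, rfl⟩ := ha
      obtain ⟨d, rfl⟩ := hb
      exact ⟨c * d, mul_pow c d p⟩
  · rintro ⟨c, rfl⟩
    exact pow_mem p c

end PPower

section Main

variable (p : ℕ) [hp : Fact p.Prime] {F k K : Type u} [Field F] [Field k] [Field K]
  [Algebra F k] [Algebra k K] [Algebra F K] [IsScalarTower F k K]
  [CharP F p] [CharP k p] [CharP K p] [PerfectRing F p]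

omit hp [CharP K p] [Algebra F K] [IsScalarTower F k K] [CharP F p] [PerfectRing F p] [CharP k p] in
theorem smul_pow_char (a : k) (y : K) : (a • y) ^ p = a ^ p • y ^ p := by
  rw [Algebra.smul_def, Algebra.smul_def, mul_pow, map_pow]

omit [IsScalarTower F k K] [CharP k p] in
/-- Under `LD`, `p`-independent families of `k` stay `p`-independent in `K`. -/
theorem indep_map_of_LD (h : LD p k K) {ι : Type u} (x : ι → k) (hx : IsPIndependent p F x) :
    IsPIndependent p F (fun i => algebraMap k K (x i)) := by
  classical
  unfold IsPIndependent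
  rw [linearIndependent_iff']
  intro s g hsum
  have hmon : ∀ e : ι →₀ ℕ, pMonomial (fun i => algebraMap k K (x i)) e =
      algebraMap k K (pMonomial x e) := fun e => (map_mon (algebraMap k K) x e).symm
  choose c hc using fun e : {e : ι →₀ ℕ // ∀ i, e i < p} => (mem_pPower_iff p (g e : K)).1 (g e).2
  let V : Submodule k K := Submodule.span k (Set.range fun e : s => c e.1)
  have hVfin : Module.Finite k V := Module.Finite.span_of_finite k (Set.finite_range _)
  let bV := Module.finBasis k V
  let sv : Fin (Module.finrank k V) → K := fun j => (bV j : K)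
  have hsv : LinearIndependent k sv :=
    bV.linearIndependent.map' V.subtype (Submodule.ker_subtype V)
  have hcV : ∀ e : {e : ι →₀ ℕ // ∀ i, e i < p}, e ∈ s → c e ∈ V := fun e he =>
    Submodule.subset_span ⟨⟨e, he⟩, rfl⟩
  let a : {e : ι →₀ ℕ // ∀ i, e i < p} → Fin (Module.finrank k V) → k := fun e j =>
    if he : e ∈ s then bV.repr ⟨c e, hcV e he⟩ j else 0
  have hca : ∀ e ∈ s, c e = ∑ j, a e j • sv j := by
    intro e he
    have := bV.sum_repr ⟨c e, hcV e he⟩
    have h2 := congrArg (fun v : V => (v : K)) this
    simp only [Submodule.coe_sum, Submodule.coe_smul] at h2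
    rw [← h2]
    apply Finset.sum_congr rfl
    intro j _
    simp only [a, dif_pos he, sv]
  -- rewrite the relation
  have hrel : ∑ j, (∑ e ∈ s, a e j ^ p * pMonomial x e.1) • sv j ^ p = 0 := by
    rw [← hsum]
    simp only [Finset.sum_smul]
    rw [Finset.sum_comm]
    apply Finset.sum_congr rfl
    intro e he
    rw [Subalgebra.smul_def, smul_eq_mul, ← hc e, hca e he, sum_pow_char, Finset.sum_mul, hmon]
    apply Finset.sum_congr rfl
    intro j _
    rw [smul_pow_char, Algebra.smul_def, Algebra.smul_def, map_mul]
    ring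
  have hLD := h _ sv hsv
  rw [Fintype.linearIndependent_iff] at hLD
  have h1 := hLD _ hrel
  -- use p-independence in `k`
  unfold IsPIndependent at hx
  rw [linearIndependent_iff'] at hx
  have h2 : ∀ j, ∀ e ∈ s, a e j = 0 := by
    intro j e he
    have h3 := hx s (fun e => (⟨a e j ^ p, pow_mem p (a e j)⟩ : pPowerSubalgebra p F k)) (by
      rw [← h1 j]
      apply Finset.sum_congr rfl
      intro e _
      rw [Subalgebra.smul_def]
      rfl) e he
    have h4 : a e j ^ p = 0 := congrArg Subtype.val h3
    exact pow_eq_zero_iff hp.out.ne_zero |>.1 h4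
  intro e he
  have h5 : c e = 0 := by
    rw [hca e he]
    apply Finset.sum_eq_zero
    intro j _
    rw [h2 j e he, zero_smul]
  apply Subtype.ext
  rw [← hc e, h5, zero_pow hp.out.ne_zero]
  rfl

omit [IsScalarTower F k K] in
/-- If a `p`-basis of `k` stays `p`-independent in `K`, then `LD p k K`. -/
theorem LD_of_indep_map {ι : Type u} (x : ι → k) (hx : IsPBasis p F x)
    (hK : IsPIndependent p F (fun i => algebraMap k K (x i))) : LD p k K := by
  classical
  intro n s hs
  rw [Fintype.linearIndependent_iff]
  intro g hg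
  have hmon : ∀ e : ι →₀ ℕ, pMonomial (fun i => algebraMap k K (x i)) e =
      algebraMap k K (pMonomial x e) := fun e => (map_mon (algebraMap k K) x e).symm
  let bk := basis p hx
  let r : Fin n → ({e : ι →₀ ℕ // ∀ i, e i < p} →₀ pPowerSubalgebra p F k) := fun i => bk.repr (g i)
  choose cc hcc using fun (i : Fin n) (e : {e : ι →₀ ℕ // ∀ i, e i < p}) =>
    (mem_pPower_iff p ((r i e : pPowerSubalgebra p F k) : k)).1 (r i e).2
  let S : Finset {e : ι →₀ ℕ // ∀ i, e i < p} := Finset.univ.biUnion fun i => (r i).support
  have hgi : ∀ i, g i = ∑ e ∈ S, cc i e ^ p * pMonomial x e.1 := by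
    intro i
    have h1 : g i = (r i).sum fun e c => c • bk e := (bk.linearCombination_repr (g i)).symm
    rw [h1, Finsupp.sum_of_support_subset (r i) (s := S)
      (Finset.subset_biUnion_of_mem (fun i => (r i).support) (Finset.mem_univ i))
      (fun e c => c • bk e) (fun e _ => zero_smul _ _)]
    apply Finset.sum_congr rfl
    intro e _
    rw [Subalgebra.smul_def, smul_eq_mul, hcc, basis_apply]
    rfl
  have hrel : ∑ e ∈ S, (⟨(∑ i, cc i e • s i) ^ p, pow_mem p _⟩ : pPowerSubalgebra p F K) •
      pMonomial (fun i => algebraMap k K (x i)) e.1 = 0 := by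
    rw [← hg]
    simp only [Subalgebra.smul_def, smul_eq_mul, sum_pow_char, Finset.sum_mul]
    rw [Finset.sum_comm]
    apply Finset.sum_congr rfl
    intro i _
    rw [hgi i, Finset.sum_smul]
    apply Finset.sum_congr rfl
    intro e _
    rw [smul_pow_char, hmon, Algebra.smul_def, Algebra.smul_def, map_mul]
    ring
  unfold IsPIndependent at hK
  rw [linearIndependent_iff'] at hK
  have h1 := hK S _ hrel
  have h2 : ∀ e ∈ S, ∀ i, cc i e = 0 := by
    intro e he
    have h3 : (∑ i, cc i e • s i) ^ p = 0 := congrArg Subtype.val (h1 e he)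
    have h4 : ∑ i, cc i e • s i = 0 := pow_eq_zero_iff hp.out.ne_zero |>.1 h3
    exact Fintype.linearIndependent_iff.1 hs _ h4
  intro i
  rw [hgi i]
  apply Finset.sum_eq_zero
  intro e he
  rw [h2 e he i, zero_pow hp.out.ne_zero, zero_mul]

omit hp [CharP F p] [CharP k p] [CharP K p] [PerfectRing F p] [Algebra F k] [Algebra F K]
  [IsScalarTower F k K] in
theorem injective_iff_linearIndependent_comp_basis {V W : Type*} [AddCommGroup V] [Module K V]
    [AddCommGroup W] [Module K W] {ι : Type*} (b : Module.Basis ι K V) (f : V →ₗ[K] W) :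
    Function.Injective f ↔ LinearIndependent K (fun i => f (b i)) := by
  constructor
  · intro hf
    exact b.linearIndependent.map' f (LinearMap.ker_eq_bot.2 hf)
  · intro hli
    rw [injective_iff_map_eq_zero]
    intro v hv
    have h1 : f v = Finsupp.linearCombination K (fun i => f (b i)) (b.repr v) := by
      conv_lhs => rw [← b.linearCombination_repr v]
      rw [Finsupp.linearCombination_apply, Finsupp.linearCombination_apply, map_finsuppSum]
      simp only [map_smul]
    rw [hv] at h1
    have h2 := (linearIndependent_iff.1 hli) (b.repr v) h1.symm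
    exact b.repr.map_eq_zero_iff.1 h2

omit [CharP F p] [PerfectRing F p] in
/-- For a `p`-basis `x` of `k` over `F`: `K ⊗ Ω_{k/F} → Ω_{K/F}` is injective iff `x` stays
`p`-independent in `K`. -/
theorem mapBaseChange_injective_iff {ι : Type u} (x : ι → k) (hx : IsPBasis p F x) :
    Function.Injective (KaehlerDifferential.mapBaseChange F k K) ↔
      IsPIndependent p F (fun i => algebraMap k K (x i)) := by
  obtain ⟨b, hb⟩ := (Groth.Agent.S2468.result p (k := F) (K := k) x).2.2.1 hx
  rw [(Groth.Agent.S2468.result p (k := F) (K := K) (fun i => algebraMap k K (x i))).1,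
    injective_iff_linearIndependent_comp_basis (b.baseChange K)]
  have : (fun i => KaehlerDifferential.mapBaseChange F k K ((b.baseChange K) i)) =
      fun i => KaehlerDifferential.D F K (algebraMap k K (x i)) := by
    funext i
    rw [Module.Basis.baseChange_apply, KaehlerDifferential.mapBaseChange_tmul, one_smul, hb,
      KaehlerDifferential.map_D]
  rw [this]

end Main

end Groth.Agent.Lib.MacLane2H44
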