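import Groth.Agent.Lib.MacLane2H44
import Groth.Agent.Lib.PBasisField3H44

/-!
# helper44: MacLane's criterion, part 3 (formal smoothness)

* `mapBaseChange_injective_of_subsingleton_h1`, `subsingleton_h1_of_mapBaseChange_injective`:
  the Jacobi–Zariski sequence.
* For fields `F ⊆ k ⊆ K` of characteristic `p` with `F` perfect:
  `LD p k K ↔ Function.Injective (mapBaseChange F k K) ↔ Algebra.FormallySmooth k K`.
-/

set_option autoImplicit false
universe u
open EGA41

namespace Groth.Agent.Lib.MacLane3H44

open Groth.Agent.Lib.PBasisH44 Groth.Agent.Lib.MacLaneH44 Groth.Agent.Lib.MacLane2H44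

section JZ

variable (R S T : Type*) [CommRing R] [CommRing S] [CommRing T] [Algebra R S] [Algebra R T]
  [Algebra S T] [IsScalarTower R S T]

theorem mapBaseChange_injective_of_subsingleton_h1 [Subsingleton (Algebra.H1Cotangent S T)] :
    Function.Injective (KaehlerDifferential.mapBaseChange R S T) := by
  rw [injective_iff_map_eq_zero]
  intro x hx
  obtain ⟨y, rfl⟩ := (Algebra.H1Cotangent.exact_δ_mapBaseChange R S T x).1 hx
  rw [Subsingleton.elim y 0, map_zero]

theorem subsingleton_h1_of_mapBaseChange_injective [Subsingleton (Algebra.H1Cotangent R T)]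
    (h : Function.Injective (KaehlerDifferential.mapBaseChange R S T)) :
    Subsingleton (Algebra.H1Cotangent S T) := by
  refine ⟨fun a b => ?_⟩
  have key : ∀ y : Algebra.H1Cotangent S T, y = 0 := by
    intro y
    have h1 : Algebra.H1Cotangent.δ R S T y = 0 := by
      apply h
      rw [map_zero]
      exact (Algebra.H1Cotangent.exact_δ_mapBaseChange R S T _).2 ⟨y, rfl⟩
    obtain ⟨z, rfl⟩ := (Algebra.H1Cotangent.exact_map_δ R S T y).1 h1
    rw [Subsingleton.elim z 0, map_zero]
  rw [key a, key b]

end JZ

section Fields

variable (p : ℕ) [hp : Fact p.Prime] (F k K : Type u) [Field F] [Field k] [Field K]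
  [Algebra F k] [Algebra k K] [Algebra F K] [IsScalarTower F k K]
  [CharP F p] [CharP k p] [CharP K p] [PerfectRing F p]

theorem LD_iff_mapBaseChange_injective :
    LD p k K ↔ Function.Injective (KaehlerDifferential.mapBaseChange F k K) := by
  obtain ⟨B, hB⟩ := Groth.Agent.Lib.PBasisField3H44.exists_pBasis p F k
  rw [mapBaseChange_injective_iff p (Subtype.val : B → k) hB]
  constructor
  · intro h
    exact indep_map_of_LD p h _ hB.1
  · intro h
    exact LD_of_indep_map p _ hB h

omit [CharP k p] in
include p in
theorem formallySmooth_iff_mapBaseChange_injective :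
    Algebra.FormallySmooth k K ↔ Function.Injective (KaehlerDifferential.mapBaseChange F k K) := by
  constructor
  · intro h
    exact mapBaseChange_injective_of_subsingleton_h1 F k K
  · intro h
    have : Algebra.FormallySmooth F K :=
      Groth.Agent.Lib.PBasisField3H44.formallySmooth_of_perfectRing p F K
    have := subsingleton_h1_of_mapBaseChange_injective F k K h
    exact ⟨inferInstance, inferInstance⟩

include F in
theorem formallySmooth_iff_LD : Algebra.FormallySmooth k K ↔ LD p k K := by
  rw [formallySmooth_iff_mapBaseChange_injective p F k K, LD_iff_mapBaseChange_injective p F k K]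

end Fields

section ChangeBase

open TensorProduct

variable (R F k K : Type*) [CommRing R] [CommRing F] [CommRing k] [CommRing K]
  [Algebra R F] [Algebra R k] [Algebra R K] [Algebra F k] [Algebra F K] [Algebra k K]
  [IsScalarTower R F k] [IsScalarTower R F K] [IsScalarTower R k K] [IsScalarTower F k K]

theorem map_self_injective_of_surjective (hs : Function.Surjective (algebraMap R F)) :
    Function.Injective (KaehlerDifferential.map R F K K) := by
  rw [injective_iff_map_eq_zero]
  intro x hx
  have := KaehlerDifferential.subsingleton_of_surjective R F hs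
  obtain ⟨y, rfl⟩ := (KaehlerDifferential.exact_mapBaseChange_map R F K x).1 hx
  rw [Subsingleton.elim y 0, map_zero]

theorem map_comp_mapBaseChange (z : K ⊗[k] Ω[k⁄R]) :
    KaehlerDifferential.map R F K K (KaehlerDifferential.mapBaseChange R k K z) =
      KaehlerDifferential.mapBaseChange F k K
        ((KaehlerDifferential.map R F k k).lTensor K z) := by
  induction z using TensorProduct.induction_on with
  | zero => simp
  | add a b ha hb => simp only [map_add, ha, hb]
  | tmul x y =>
    rw [LinearMap.lTensor_tmul, KaehlerDifferential.mapBaseChange_tmul,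
      KaehlerDifferential.mapBaseChange_tmul, map_smul]
    congr 1
    have key : ((KaehlerDifferential.map R F K K).restrictScalars k) ∘ₗ
        (KaehlerDifferential.map R R k K) =
        (KaehlerDifferential.map F F k K) ∘ₗ (KaehlerDifferential.map R F k k) := by
      apply Derivation.liftKaehlerDifferential_unique
      ext a
      simp [KaehlerDifferential.map_D]
    exact LinearMap.congr_fun key y

/-- If `R → F` is surjective, injectivity of `K ⊗ Ω_{k/R} → Ω_{K/R}` and of
`K ⊗ Ω_{k/F} → Ω_{K/F}` are equivalent. -/
theorem mapBaseChange_injective_iff_of_surjective (hs : Function.Surjective (algebraMap R F)) :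
    Function.Injective (KaehlerDifferential.mapBaseChange R k K) ↔
      Function.Injective (KaehlerDifferential.mapBaseChange F k K) := by
  have hα := map_self_injective_of_surjective R F K hs
  have hsurj : Function.Surjective ((KaehlerDifferential.map R F k k).lTensor K) :=
    LinearMap.lTensor_surjective K (KaehlerDifferential.map_surjective R F k)
  constructor
  · intro h y y' hyy'
    obtain ⟨z, rfl⟩ := hsurj y
    obtain ⟨z', rfl⟩ := hsurj y'
    rw [← map_comp_mapBaseChange, ← map_comp_mapBaseChange] at hyy'
    rw [h (hα hyy')]
  · intro h z z' hzz'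
    have := congrArg (KaehlerDifferential.map R F K K) hzz'
    rw [map_comp_mapBaseChange, map_comp_mapBaseChange] at this
    have h2 := h this
    let e : Ω[k⁄R] ≃ₗ[k] Ω[k⁄F] := LinearEquiv.ofBijective (KaehlerDifferential.map R F k k)
      ⟨map_self_injective_of_surjective R F k hs, KaehlerDifferential.map_surjective R F k⟩
    have he : (KaehlerDifferential.map R F k k).lTensor K = (e.lTensor K).toLinearMap := by
      rw [LinearEquiv.coe_lTensor]
      rfl
    rw [he] at h2
    exact (e.lTensor K).injective h2

end ChangeBase

end Groth.Agent.Lib.MacLane3H44
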