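import Groth.Agent.Lib.MacLane4H44

/-!
# helper44: separable (geometrically reduced) field extensions are formally smooth,
universe-polymorphic version

`Lib/MacLane4H44` proves `FormallySmooth k K ↔ IsGeometricallyReduced k K` for fields in one
universe.  Here the implication `←` is extended to base fields in another universe, by replacing
the base field by its image.
-/

set_option autoImplicit false
universe v w

namespace Groth.Agent.Lib.MacLane6H44

open Groth.Agent.Lib.MacLaneH44 Groth.Agent.Lib.MacLane4H44

variable (k : Type v) (L : Type w) [Field k] [Field L] [Algebra k L]

/-- transfer of formal smoothness from the image of the base field -/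
theorem formallySmooth_of_fieldRange
    (h : letI := (algebraMap k L).fieldRange.toAlgebra
      Algebra.FormallySmooth (algebraMap k L).fieldRange L) :
    Algebra.FormallySmooth k L := by
  letI : Algebra k (algebraMap k L).fieldRange := (algebraMap k L).rangeRestrictField.toAlgebra
  haveI : IsScalarTower k (algebraMap k L).fieldRange L :=
    IsScalarTower.of_algebraMap_eq (fun x => rfl)
  have hbij : Function.Bijective (algebraMap k (algebraMap k L).fieldRange) := by
    constructor
    · exact (algebraMap k (algebraMap k L).fieldRange).injective
    · rintro ⟨_, x, rfl⟩
      exact ⟨x, rfl⟩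
  let e : k ≃ₐ[k] (algebraMap k L).fieldRange :=
    AlgEquiv.ofBijective (Algebra.ofId k _) hbij
  haveI : Algebra.FormallySmooth k (algebraMap k L).fieldRange :=
    Algebra.FormallySmooth.of_equiv e
  haveI := h
  exact Algebra.FormallySmooth.comp k (algebraMap k L).fieldRange L

theorem LD_fieldRange (p : ℕ) (h : LD p k L) : LD p (algebraMap k L).fieldRange L := by
  intro n s hs
  have h1 : LinearIndependent k s := by
    have := hs.map_of_injective_injective (R' := k) (M' := L)
      (fun r => (⟨algebraMap k L r, r, rfl⟩ : (algebraMap k L).fieldRange)) (AddMonoidHom.id L)
      (by
        intro r hr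
        have : algebraMap k L r = 0 := congrArg Subtype.val hr
        exact (map_eq_zero _).1 this)
      (by intro m hm; exact hm)
      (by
        intro r m
        simp only [AddMonoidHom.id_apply]
        rw [Algebra.smul_def, Algebra.smul_def]
        rfl)
    exact this
  have h2 := h n s h1
  have := h2.map_of_surjective_injective (R' := (algebraMap k L).fieldRange) (M' := L)
    (fun r => (⟨algebraMap k L r, r, rfl⟩ : (algebraMap k L).fieldRange)) (AddMonoidHom.id L)
    (by rintro ⟨_, x, rfl⟩; exact ⟨x, rfl⟩)
    (by intro m hm; exact hm)
    (by
      intro r m
      simp only [AddMonoidHom.id_apply]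
      rw [Algebra.smul_def, Algebra.smul_def]
      rfl)
  exact this

/-- a separable (geometrically reduced) field extension is formally smooth -/
theorem formallySmooth_of_isGeometricallyReduced [Algebra.IsGeometricallyReduced k L] :
    Algebra.FormallySmooth k L := by
  apply formallySmooth_of_fieldRange
  obtain h0 | ⟨p, hp, hchar⟩ := CharP.exists' k
  · haveI : CharZero (algebraMap k L).fieldRange :=
      charZero_of_injective_ringHom (algebraMap k L).rangeRestrictField.injective
    exact formallySmooth_of_charZero (algebraMap k L).fieldRange L
  · haveI : CharP (algebraMap k L).fieldRange p :=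
      charP_of_injective_ringHom (algebraMap k L).rangeRestrictField.injective p
    have h1 : LD p k L := (isGeometricallyReduced_iff_LD p k L).1 inferInstance
    exact (charP_main p (algebraMap k L).fieldRange L).2.1.2 (LD_fieldRange k L p h1)

end Groth.Agent.Lib.MacLane6H44
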