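import Mathlib

/-!
# helper44: MacLane's criterion, part 1 (linear disjointness form)

For fields `k ⊆ K` of characteristic `p`:
* `LD p k K`: every finite `k`-linearly independent family in `K` stays `k`-linearly independent
  after taking `p`-th powers.
* `LD.isReduced_tensor`: `LD p k K` implies `K ⊗[k] R` is reduced for every reduced `k`-algebra `R`.
* `LD.of_isReduced`: if `K ⊗[k] AlgebraicClosure k` is reduced then `LD p k K`.
* `isGeometricallyReduced_iff_LD`.
-/

set_option autoImplicit false
universe u v w
open TensorProduct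

namespace Groth.Agent.Lib.MacLaneH44

section Tensor

variable {k : Type u} {K : Type v} {R : Type w} [Field k] [AddCommGroup K] [Module k K]
  [AddCommGroup R] [Module k R]

/-- For a linearly independent family `s` in `K`, `Σ s_i ⊗ y_i = 0` forces `y = 0`. -/
theorem finsupp_sum_tmul_eq_zero {ι : Type*} (s : ι → K) (hs : LinearIndependent k s)
    (y : ι →₀ R) (h : (y.sum fun i r => s i ⊗ₜ[k] r) = 0) : y = 0 := by
  classical
  let φ : (ι →₀ R) →ₗ[k] K ⊗[k] R :=
    (Finsupp.linearCombination k s).rTensor R ∘ₗ (TensorProduct.finsuppScalarLeft k R ι).symm.toLinearMap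
  have hφ : ∀ i r, φ (Finsupp.single i r) = s i ⊗ₜ[k] r := by
    intro i r
    simp [φ, TensorProduct.finsuppScalarLeft_symm_apply_single]
  have hinj : Function.Injective φ := by
    have h1 : Function.Injective ((Finsupp.linearCombination k s).rTensor R) :=
      Module.Flat.rTensor_preserves_injective_linearMap (M := R) (Finsupp.linearCombination k s) hs
    have h2 : Function.Injective (TensorProduct.finsuppScalarLeft k R ι).symm :=
      (TensorProduct.finsuppScalarLeft k R ι).symm.injective
    exact h1.comp h2
  have hy : φ y = y.sum fun i r => s i ⊗ₜ[k] r := by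
    conv_lhs => rw [← Finsupp.sum_single y]
    rw [Finsupp.sum, map_sum]
    simp only [hφ]
    rfl
  apply hinj
  rw [hy, h, map_zero]

theorem sum_tmul_eq_zero {ι : Type*} [Fintype ι] (s : ι → K) (hs : LinearIndependent k s)
    (y : ι → R) (h : ∑ i, s i ⊗ₜ[k] y i = 0) : ∀ i, y i = 0 := by
  classical
  have := finsupp_sum_tmul_eq_zero s hs (Finsupp.equivFunOnFinite.symm y) (by
    rw [Finsupp.sum_fintype _ _ (fun i => by simp)]
    simpa using h)
  intro i
  have h2 := DFunLike.congr_fun this i
  simpa using h2

end Tensor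

section LD

variable (p : ℕ) [hp : Fact p.Prime] (k : Type u) (K : Type v) [Field k] [Field K] [Algebra k K]

/-- MacLane's linear disjointness condition. -/
def LD : Prop :=
  ∀ (n : ℕ) (s : Fin n → K), LinearIndependent k s → LinearIndependent k (fun i => s i ^ p)

variable {p k K}

omit hp in
theorem LD.of_finite (h : LD p k K) {ι : Type*} [Finite ι] (s : ι → K)
    (hs : LinearIndependent k s) : LinearIndependent k (fun i => s i ^ p) := by
  obtain ⟨n, ⟨e⟩⟩ := Finite.exists_equiv_fin ι
  have h1 := h n (s ∘ e.symm) (hs.comp _ e.symm.injective)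
  have h2 := h1.comp e e.injective
  convert h2 using 1
  funext i
  simp

/-- `LD` implies that `K ⊗[k] R` is reduced for every reduced `k`-algebra `R`. -/
theorem LD.isReduced_tensor [CharP k p] (h : LD p k K) (R : Type w) [CommRing R] [Algebra k R]
    [IsReduced R] : IsReduced (K ⊗[k] R) := by
  classical
  rcases subsingleton_or_nontrivial (K ⊗[k] R) with hsub | hnt
  · exact ⟨fun x _ => Subsingleton.elim _ _⟩
  have hchar : CharP (K ⊗[k] R) p :=
    charP_of_injective_algebraMap (algebraMap k (K ⊗[k] R)).injective p
  have hexp : ExpChar (K ⊗[k] R) p := ExpChar.prime hp.out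
  have hcharR : CharP R p := by
    have : Nontrivial R := by
      by_contra hR
      rw [not_nontrivial_iff_subsingleton] at hR
      exact not_subsingleton (K ⊗[k] R) inferInstance
    exact charP_of_injective_algebraMap (algebraMap k R).injective p
  rw [isReduced_iff_pow_one_lt p hp.out.one_lt]
  intro z hz
  let b := Module.Basis.ofVectorSpace k K
  obtain ⟨c, rfl⟩ := (TensorProduct.equivFinsuppOfBasisLeft (N := R) b).symm.surjective z
  rw [TensorProduct.equivFinsuppOfBasisLeft_symm_apply] at hz ⊢
  rw [Finsupp.sum, sum_pow_char] at hz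
  -- the `p`-th powers of the basis vectors in the support are linearly independent
  have hli : LinearIndependent k (fun i : c.support => (b i) ^ p) :=
    h.of_finite (fun i : c.support => b i) (b.linearIndependent.comp _ Subtype.val_injective)
  have hz' : ∑ i : c.support, ((b i) ^ p) ⊗ₜ[k] ((c i) ^ p) = 0 := by
    rw [← hz, ← Finset.sum_coe_sort c.support]
    apply Finset.sum_congr rfl
    intro i _
    rw [Algebra.TensorProduct.tmul_pow]
  have h0 := sum_tmul_eq_zero (fun i : c.support => (b i) ^ p) hli (fun i => (c i) ^ p) hz'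
  have hc : c = 0 := by
    ext i
    by_cases hi : i ∈ c.support
    · have := h0 ⟨i, hi⟩
      exact IsReduced.eq_zero _ ⟨p, this⟩
    · simpa using hi
  rw [hc]
  simp

/-- If `K ⊗[k] Ω` is reduced for a field `Ω ⊇ k` containing all `p`-th roots of elements of `k`,
then `LD p k K`. -/
theorem LD.of_isReduced [CharP k p] (Ω : Type w) [Field Ω] [Algebra k Ω]
    (hroot : ∀ a : k, ∃ α : Ω, α ^ p = algebraMap k Ω a) [IsReduced (K ⊗[k] Ω)] : LD p k K := by
  classical
  intro n s hs
  rw [Fintype.linearIndependent_iff]
  intro g hg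
  choose α hα using fun i => hroot (g i)
  rcases subsingleton_or_nontrivial (K ⊗[k] Ω) with hsub | hnt
  · intro i
    have h1 := sum_tmul_eq_zero s hs (fun _ => (1 : Ω)) (Subsingleton.elim _ _)
    exact absurd (h1 i) one_ne_zero
  have hchar : CharP (K ⊗[k] Ω) p :=
    charP_of_injective_algebraMap (algebraMap k (K ⊗[k] Ω)).injective p
  have hexp : ExpChar (K ⊗[k] Ω) p := ExpChar.prime hp.out
  have hz : (∑ i, s i ⊗ₜ[k] α i) ^ p = 0 := by
    rw [sum_pow_char]
    have : ∀ i, (s i ⊗ₜ[k] α i) ^ p = (g i • s i ^ p) ⊗ₜ[k] (1 : Ω) := by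
      intro i
      rw [Algebra.TensorProduct.tmul_pow, hα, TensorProduct.smul_tmul, Algebra.smul_def, mul_one]
    simp only [this]
    rw [← TensorProduct.sum_tmul, hg, TensorProduct.zero_tmul]
  have hz0 : ∑ i, s i ⊗ₜ[k] α i = 0 := IsReduced.eq_zero _ ⟨p, hz⟩
  have h0 := sum_tmul_eq_zero s hs α hz0
  intro i
  have h1 := hα i
  rw [h0 i, zero_pow hp.out.ne_zero] at h1
  exact (map_eq_zero (algebraMap k Ω)).1 h1.symm

variable (p k K) in
/-- MacLane: geometrically reduced iff linearly disjoint from `k^{1/p}`. -/
theorem isGeometricallyReduced_iff_LD [CharP k p] :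
    Algebra.IsGeometricallyReduced k K ↔ LD p k K := by
  rw [Algebra.isGeometricallyReduced_field_iff]
  constructor
  · intro h
    have : IsReduced (K ⊗[k] AlgebraicClosure k) :=
      isReduced_of_injective (Algebra.TensorProduct.comm k K (AlgebraicClosure k)).toRingHom
        (Algebra.TensorProduct.comm k K (AlgebraicClosure k)).injective
    exact LD.of_isReduced (AlgebraicClosure k)
      (fun a => IsAlgClosed.exists_pow_nat_eq _ hp.out.pos)
  · intro h
    have := h.isReduced_tensor (AlgebraicClosure k)
    exact isReduced_of_injective (Algebra.TensorProduct.comm k (AlgebraicClosure k) K).toRingHom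
      (Algebra.TensorProduct.comm k (AlgebraicClosure k) K).injective

end LD

end Groth.Agent.Lib.MacLaneH44
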