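import Groth.Agent.Lib.SymTensorType

/-!
# Trace of an endomorphism on symmetric tensors (`Groth.Agent.Lib.MacMahon38`, helper38)

For a finite free module `M` with basis `b : Basis κ A M` and `u : M →ₗ M` with matrix `U`, the trace of
the endomorphism induced by `u^{⊗ n}` on the symmetric tensors `TS A M n` is
`symTr U n = ∑ q : Fin n → κ, ∏ i, U (orep n q i) (q i)` (`trace_eq_symTr`).
The MacMahon-type identity `charpolyRev U * ∑ symTr U n tⁿ = 1` (`charpolyRev_mul_symTr`) is proved for
lower triangular matrices directly and in general through the generic matrix and triangularization over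
an algebraically closed field.
-/

set_option autoImplicit false
set_option linter.unusedSectionVars false
open scoped TensorProduct
open PiTensorProduct

namespace Groth.Agent.Lib.MacMahon38

open Groth.Agent.Lib.SymTensorFlat Groth.Agent.Lib.SymTensorGen Groth.Agent.Lib.SymTensorType

universe uA uM uκ

section defs

variable {A : Type uA} [CommRing A] {κ : Type uκ} [Fintype κ]

/-- the trace polynomial of the `n`-th symmetric tensor power -/
noncomputable def symTr (U : Matrix κ κ A) (n : ℕ) : A :=
  ∑ q : Fin n → κ, ∏ i, U (orep n q i) (q i)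

theorem symTr_map {B : Type*} [CommRing B] (φ : A →+* B) (U : Matrix κ κ A) (n : ℕ) :
    symTr (U.map φ) n = φ (symTr U n) := by
  unfold symTr
  rw [map_sum]
  refine Finset.sum_congr rfl fun q _ => ?_
  rw [map_prod]
  rfl

end defs

section traceFormula

variable {A : Type uA} [CommRing A] {M : Type uM} [AddCommGroup M] [Module A M]
  {κ : Type uκ} [Fintype κ] [DecidableEq κ] (b : Module.Basis κ A M) (n : ℕ)

/-- orbits of colourings -/
abbrev Orb (κ : Type uκ) (n : ℕ) : Type uκ := Quotient (orbSetoid κ n)

noncomputable instance : Fintype (Orb κ n) := Fintype.ofFinite _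

theorem orep_eq (q : Fin n → κ) : orep n q = (Quotient.mk (orbSetoid κ n) q).out := rfl

theorem mk_orep (q : Fin n → κ) :
    Quotient.mk (orbSetoid κ n) (orep n q) = Quotient.mk (orbSetoid κ n) q :=
  Quotient.out_eq _

theorem mk_comp (q : Fin n → κ) (σ : Equiv.Perm (Fin n)) :
    Quotient.mk (orbSetoid κ n) (q ∘ σ) = Quotient.mk (orbSetoid κ n) q :=
  Quotient.sound ((orbSetoid κ n).symm ⟨σ, rfl⟩)

/-- coordinates of symmetric tensors: functions on orbits -/
noncomputable def tsEquiv : TS A M n ≃ₗ[A] (Orb κ n → A) where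
  toFun v := fun α => (tbasis b n).equivFun v.1 α.out
  map_add' v w := by
    funext α
    simp
  map_smul' c v := by
    funext α
    simp
  invFun a := ⟨(tbasis b n).equivFun.symm (fun q => a (Quotient.mk _ q)), by
    rw [mem_TS]
    intro σ
    apply (tbasis b n).equivFun.injective
    funext q
    rw [equivFun_reindex, LinearEquiv.apply_symm_apply, mk_comp]⟩
  left_inv v := by
    apply Subtype.ext
    apply (tbasis b n).equivFun.injective
    funext q
    simp only [LinearEquiv.apply_symm_apply]
    obtain ⟨σ, hσ⟩ := orep_spec n q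
    rw [← orep_eq, hσ, ← equivFun_reindex, (mem_TS.1 v.2) σ]
  right_inv a := by
    funext α
    simp only [LinearEquiv.apply_symm_apply]
    rw [Quotient.out_eq]

theorem tsEquiv_apply (v : TS A M n) (α : Orb κ n) :
    tsEquiv b n v α = (tbasis b n).repr v.1 α.out := rfl

theorem tsEquiv_symm_coe (a : Orb κ n → A) :
    ((tsEquiv b n).symm a : ⨂[A] _ : Fin n, M) =
      ∑ q : Fin n → κ, a (Quotient.mk _ q) • tbasis b n q := by
  change (tbasis b n).equivFun.symm (fun q => a (Quotient.mk _ q)) = _
  rw [Module.Basis.equivFun_symm_apply]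

include b in
theorem free_TS : Module.Free A (TS A M n) :=
  Module.Free.of_equiv (tsEquiv b n).symm

include b in
theorem finite_TS : Module.Finite A (TS A M n) :=
  Module.Finite.equiv (tsEquiv b n).symm

theorem repr_map_tbasis (u : M →ₗ[A] M) (q q0 : Fin n → κ) :
    (tbasis b n).repr (PiTensorProduct.map (fun _ : Fin n => u) (tbasis b n q)) q0 =
      ∏ i, LinearMap.toMatrix b b u (q0 i) (q i) := by
  rw [Basis.piTensorProduct_apply, PiTensorProduct.map_tprod,
    Basis.piTensorProduct_repr_tprod_apply]
  refine Finset.prod_congr rfl fun i _ => ?_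
  rw [LinearMap.toMatrix_apply]

/-- the trace formula -/
theorem trace_eq_symTr (u : M →ₗ[A] M) (γ : TS A M n →ₗ[A] TS A M n)
    (hγ : ∀ x : TS A M n, ((γ x : TS A M n) : ⨂[A] _ : Fin n, M) =
      PiTensorProduct.map (fun _ : Fin n => u) (x : ⨂[A] _ : Fin n, M)) :
    LinearMap.trace A _ γ = symTr (LinearMap.toMatrix b b u) n := by
  classical
  let B : Module.Basis (Orb κ n) A (TS A M n) := Module.Basis.ofEquivFun (tsEquiv b n)
  rw [LinearMap.trace_eq_matrix_trace A B γ, Matrix.trace]
  simp only [Matrix.diag_apply, LinearMap.toMatrix_apply]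
  have key : ∀ α : Orb κ n, B.repr (γ (B α)) α =
      ∑ q : Fin n → κ, (if Quotient.mk _ q = α then
        ∏ i, LinearMap.toMatrix b b u (orep n q i) (q i) else 0) := by
    intro α
    have h1 : B.repr (γ (B α)) α = tsEquiv b n (γ (B α)) α := by
      rw [Module.Basis.ofEquivFun_repr_apply]
    rw [h1, tsEquiv_apply, hγ]
    have h2 : ((B α : TS A M n) : ⨂[A] _ : Fin n, M) =
        ∑ q : Fin n → κ, (Pi.single α (1 : A) : Orb κ n → A) (Quotient.mk _ q) • tbasis b n q := by
      rw [Module.Basis.coe_ofEquivFun, tsEquiv_symm_coe]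
    rw [h2, map_sum, map_sum, Finsupp.finsetSum_apply]
    refine Finset.sum_congr rfl fun q _ => ?_
    rw [map_smul, map_smul, Finsupp.smul_apply, repr_map_tbasis, smul_eq_mul]
    by_cases hq : Quotient.mk _ q = α
    · rw [if_pos hq, ← hq, Pi.single_eq_same, one_mul]
      rfl
    · rw [if_neg hq, Pi.single_eq_of_ne hq, zero_mul]
  rw [Finset.sum_congr rfl fun α _ => key α, Finset.sum_comm]
  unfold symTr
  refine Finset.sum_congr rfl fun q _ => ?_
  rw [Finset.sum_ite_eq]
  simp

end traceFormula

section triangular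

variable {A : Type uA} [CommRing A] {d : ℕ}

theorem prod_eq_zero_of_orep_ne (U : Matrix (Fin d) (Fin d) A) (hU : ∀ i j, i < j → U i j = 0)
    {n : ℕ} (q : Fin n → Fin d) (hq : orep n q ≠ q) : ∏ i, U (orep n q i) (q i) = 0 := by
  by_contra h
  apply hq
  have h1 : ∀ i, q i ≤ orep n q i := by
    intro i
    by_contra hlt
    push Not at hlt
    exact h (Finset.prod_eq_zero (Finset.mem_univ i) (hU _ _ hlt))
  obtain ⟨σ, hσ⟩ := orep_spec n q
  have h2 : ∑ i, ((orep n q i : Fin d) : ℕ) = ∑ i, ((q i : Fin d) : ℕ) := by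
    rw [hσ]
    exact Equiv.sum_comp σ (fun i => ((q i : Fin d) : ℕ))
  have h3 := (Finset.sum_eq_sum_iff_of_le (s := Finset.univ)
    (f := fun i => ((q i : Fin d) : ℕ)) (g := fun i => ((orep n q i : Fin d) : ℕ))
    (fun i _ => h1 i)).1 h2.symm
  funext i
  exact (Fin.ext (h3 i (Finset.mem_univ i))).symm

theorem sum_etype {κ : Type*} [Fintype κ] [DecidableEq κ] {n : ℕ} (c : Fin n → κ) :
    ∑ j, etype c j = n := by
  unfold etype
  simp only [Finsupp.finsetSum_apply]
  rw [Finset.sum_comm]
  simp [Finsupp.single_apply]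

theorem exists_etype_eq {κ : Type*} [Fintype κ] [DecidableEq κ] :
    ∀ (n : ℕ) (l : κ →₀ ℕ), ∑ j, l j = n → ∃ c : Fin n → κ, etype c = l := by
  intro n
  induction n with
  | zero =>
    intro l hl
    refine ⟨Fin.elim0, ?_⟩
    have h0 : ∀ j, l j = 0 := fun j =>
      (Finset.sum_eq_zero_iff.1 hl) j (Finset.mem_univ j)
    ext j
    rw [h0 j]
    simp [etype]
  | succ n ih =>
    intro l hl
    have hex : ∃ j, l j ≠ 0 := by
      by_contra hno
      push Not at hno
      rw [Finset.sum_eq_zero fun j _ => hno j] at hl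
      exact absurd hl (Nat.succ_ne_zero n).symm
    obtain ⟨j, hj⟩ := hex
    have hle : Finsupp.single j 1 ≤ l := by
      rw [Finsupp.le_def]
      intro i
      rw [Finsupp.single_apply]
      split_ifs with h
      · subst h; exact Nat.one_le_iff_ne_zero.2 hj
      · exact Nat.zero_le _
    have hl' : l = (l - Finsupp.single j 1) + Finsupp.single j 1 := (tsub_add_cancel_of_le hle).symm
    have hsum : ∑ i, (l - Finsupp.single j 1 : κ →₀ ℕ) i = n := by
      have : ∑ i, l i = ∑ i, (l - Finsupp.single j 1 : κ →₀ ℕ) i +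
          ∑ i, (Finsupp.single j 1 : κ →₀ ℕ) i := by
        rw [← Finset.sum_add_distrib]
        refine Finset.sum_congr rfl fun i _ => ?_
        conv_lhs => rw [hl']
        rfl
      rw [hl] at this
      have h1 : ∑ i, (Finsupp.single j 1 : κ →₀ ℕ) i = 1 := by
        simp [Finsupp.single_apply]
      omega
    obtain ⟨c', hc'⟩ := ih _ hsum
    refine ⟨Fin.cons j c', ?_⟩
    rw [hl', ← hc']
    unfold etype
    rw [Fin.sum_univ_succ, add_comm]
    simp

theorem prod_eq_prod_pow_etype {κ : Type*} [Fintype κ] [DecidableEq κ] {n : ℕ} (lam : κ → A)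
    (c : Fin n → κ) : ∏ i, lam (c i) = ∏ j, lam j ^ etype c j := by
  have h := congrArg (MvPolynomial.eval lam) (prod_X_eq_monomial (R := A) c)
  rw [map_prod, MvPolynomial.eval_monomial, one_mul] at h
  simp only [MvPolynomial.eval_X] at h
  rw [h, Finsupp.prod_fintype]
  intro j
  exact pow_zero _

theorem symTr_of_lowerTriangular (U : Matrix (Fin d) (Fin d) A) (hU : ∀ i j, i < j → U i j = 0)
    (n : ℕ) :
    symTr U n = ∑ l ∈ Finset.finsuppAntidiag Finset.univ n, ∏ j, U j j ^ l j := by
  classical
  unfold symTr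
  have h1 : ∑ q : Fin n → Fin d, ∏ i, U (orep n q i) (q i) =
      ∑ q ∈ Finset.univ.filter (fun q : Fin n → Fin d => orep n q = q), ∏ i, U (q i) (q i) := by
    rw [Finset.sum_filter]
    refine Finset.sum_congr rfl fun q _ => ?_
    split_ifs with h
    · rw [h]
    · exact prod_eq_zero_of_orep_ne U hU q h
  rw [h1]
  refine Finset.sum_bij (fun q _ => etype q) ?_ ?_ ?_ ?_
  · intro q _
    rw [Finset.mem_finsuppAntidiag]
    exact ⟨sum_etype q, Finset.subset_univ _⟩
  · intro q hq q' hq' h
    rw [Finset.mem_filter] at hq hq'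
    obtain ⟨σ, hσ⟩ := exists_perm_of_cnt_eq q q' ((etype_eq_iff q' q).1 h.symm)
    rw [← hq.2, ← hq'.2, hσ, orep_comp]
  · intro l hl
    rw [Finset.mem_finsuppAntidiag] at hl
    obtain ⟨c, hc⟩ := exists_etype_eq n l hl.1
    refine ⟨orep n c, ?_, ?_⟩
    · rw [Finset.mem_filter]
      refine ⟨Finset.mem_univ _, ?_⟩
      obtain ⟨σ, hσ⟩ := orep_spec n c
      rw [hσ, orep_comp, ← hσ]
    · obtain ⟨σ, hσ⟩ := orep_spec n c
      rw [hσ, etype_comp_perm, hc]
  · intro q _
    exact prod_eq_prod_pow_etype (fun j => U j j) q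

theorem geom_mul (a : A) :
    ((1 - Polynomial.X * Polynomial.C a : Polynomial A) : PowerSeries A) *
      PowerSeries.mk (fun k => a ^ k) = 1 := by
  ext n
  rw [Polynomial.coe_sub, Polynomial.coe_one, Polynomial.coe_mul, Polynomial.coe_X,
    Polynomial.coe_C, sub_mul, one_mul, map_sub, mul_assoc]
  cases n with
  | zero => simp
  | succ k =>
    rw [PowerSeries.coeff_succ_X_mul, PowerSeries.coeff_C_mul]
    simp [pow_succ']

theorem geom_prod (lam : Fin d → A) :
    ((∏ j, (1 - Polynomial.X * Polynomial.C (lam j)) : Polynomial A) : PowerSeries A) *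
      PowerSeries.mk (fun n => ∑ l ∈ Finset.finsuppAntidiag Finset.univ n, ∏ j, lam j ^ l j) = 1 := by
  have h1 : PowerSeries.mk (fun n => ∑ l ∈ Finset.finsuppAntidiag Finset.univ n, ∏ j, lam j ^ l j) =
      ∏ j, PowerSeries.mk (fun k => lam j ^ k) := by
    ext n
    rw [PowerSeries.coeff_mk, PowerSeries.coeff_prod]
    refine Finset.sum_congr rfl fun l _ => ?_
    refine Finset.prod_congr rfl fun j _ => ?_
    rw [PowerSeries.coeff_mk]
  have h2 : ((∏ j, (1 - Polynomial.X * Polynomial.C (lam j)) : Polynomial A) : PowerSeries A) =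
      ∏ j, ((1 - Polynomial.X * Polynomial.C (lam j) : Polynomial A) : PowerSeries A) := by
    simp only [← Polynomial.coeToPowerSeries.ringHom_apply]
    exact map_prod (Polynomial.coeToPowerSeries.ringHom (R := A)) _ _
  rw [h1, h2, ← Finset.prod_mul_distrib]
  exact Finset.prod_eq_one fun j _ => geom_mul (lam j)

theorem charpolyRev_of_lowerTriangular (U : Matrix (Fin d) (Fin d) A)
    (hU : ∀ i j, i < j → U i j = 0) :
    U.charpolyRev = ∏ j, (1 - Polynomial.X * Polynomial.C (U j j)) := by
  unfold Matrix.charpolyRev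
  rw [Matrix.det_of_isLowerTriangular]
  · refine Finset.prod_congr rfl fun j _ => ?_
    simp
  · intro i j hij
    have hij' : i < j := hij
    simp [hij'.ne, hU i j hij']

/-- the MacMahon-type identity for lower triangular matrices -/
theorem charpolyRev_mul_symTr_of_lowerTriangular (U : Matrix (Fin d) (Fin d) A)
    (hU : ∀ i j, i < j → U i j = 0) :
    (U.charpolyRev : PowerSeries A) * PowerSeries.mk (fun n => symTr U n) = 1 := by
  rw [charpolyRev_of_lowerTriangular U hU]
  simp only [symTr_of_lowerTriangular U hU]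
  exact geom_prod (fun j => U j j)

end triangular

section field

universe uK uV

open Module in
/-- triangularization over an algebraically closed field -/
theorem exists_basis_lowerTriangular {K : Type uK} [Field K] [IsAlgClosed K] :
    ∀ (d : ℕ) (V : Type uV) [AddCommGroup V] [Module K V] [FiniteDimensional K V]
      (u : V →ₗ[K] V), Module.finrank K V = d →
      ∃ b : Module.Basis (Fin d) K V, ∀ i j, i < j → LinearMap.toMatrix b b u i j = 0 := by
  intro d
  induction d with
  | zero =>
    intro V _ _ _ u h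
    exact ⟨Module.finBasisOfFinrankEq K V h, fun i => i.elim0⟩
  | succ d ih =>
    intro V _ _ _ u h
    have hnt : Nontrivial V := Module.nontrivial_of_finrank_pos (R := K) (by omega)
    obtain ⟨c, hc⟩ := Module.End.exists_eigenvalue (K := K) (V := Module.Dual K V) u.dualMap
    obtain ⟨φ, hφ⟩ := hc.exists_hasEigenvector
    have hφ0 : φ ≠ 0 := hφ.2
    have hφu : ∀ x, φ (u x) = c * φ x := by
      intro x
      have := congrArg (fun ψ : Module.Dual K V => ψ x) hφ.apply_eq_smul
      simpa using this
    let N : Submodule K V := LinearMap.ker φ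
    have hN : ∀ x ∈ N, u x ∈ N := by
      intro x hx
      rw [LinearMap.mem_ker] at hx ⊢
      rw [hφu, hx, mul_zero]
    have hfr : Module.finrank K N = d := by
      have : Module.finrank K (LinearMap.ker φ) + 1 = Module.finrank K V :=
        Module.Dual.finrank_ker_add_one_of_ne_zero hφ0
      change Module.finrank K (LinearMap.ker φ) = d
      omega
    obtain ⟨b', hb'⟩ := ih N (u.restrict hN) hfr
    obtain ⟨y, hy⟩ : ∃ y, φ y ≠ 0 := by
      by_contra hno
      push Not at hno
      exact hφ0 (LinearMap.ext hno)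
    have hli : ∀ (a : K), ∀ x ∈ N, a • y + x = 0 → a = 0 := by
      intro a x hx h0
      have := congrArg φ h0
      rw [map_add, map_smul, LinearMap.mem_ker.1 hx, add_zero, map_zero, smul_eq_mul] at this
      exact (mul_eq_zero.1 this).resolve_right hy
    have hsp : ∀ z : V, ∃ a : K, z + a • y ∈ N := by
      intro z
      refine ⟨-(φ z / φ y), ?_⟩
      rw [LinearMap.mem_ker, map_add, map_smul, smul_eq_mul]
      field_simp
      ring
    let b : Module.Basis (Fin (d + 1)) K V := Module.Basis.mkFinCons y b' hli hsp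
    refine ⟨b, ?_⟩
    intro i j hij
    obtain ⟨j', rfl⟩ : ∃ j', Fin.succ j' = j := Fin.exists_succ_eq.2 (by
      intro h0; rw [h0] at hij; exact absurd hij (Fin.not_lt_zero _))
    rw [LinearMap.toMatrix_apply]
    have hbj : b (Fin.succ j') = (b' j' : V) := by
      change (Module.Basis.mkFinCons y b' hli hsp : Fin (d + 1) → V) (Fin.succ j') = _
      rw [Module.Basis.coe_mkFinCons, Fin.cons_succ]
      rfl
    have hbk : ∀ k, (b' k : V) = b (Fin.succ k) := by
      intro k
      change _ = (Module.Basis.mkFinCons y b' hli hsp : Fin (d + 1) → V) (Fin.succ k)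
      rw [Module.Basis.coe_mkFinCons, Fin.cons_succ]
      rfl
    have hu : u (b' j' : V) = ∑ k, (LinearMap.toMatrix b' b' (u.restrict hN) k j') • b (Fin.succ k) := by
      have h1 : (u.restrict hN) (b' j') = ∑ k, (b'.repr ((u.restrict hN) (b' j')) k) • b' k :=
        (b'.sum_repr _).symm
      have h2 := congrArg (fun x : N => (x : V)) h1
      simp only [LinearMap.coe_restrict_apply, Submodule.coe_sum, Submodule.coe_smul] at h2
      rw [h2]
      refine Finset.sum_congr rfl fun k _ => ?_
      rw [LinearMap.toMatrix_apply, hbk]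
    rw [hbj, hu, map_sum, Finsupp.finsetSum_apply]
    refine Finset.sum_eq_zero fun k _ => ?_
    rw [map_smul, Module.Basis.repr_self, Finsupp.smul_apply, Finsupp.single_apply, smul_eq_mul]
    split_ifs with hk
    · subst hk
      rw [hb' k j' (Fin.succ_lt_succ_iff.1 hij), zero_mul]
    · rw [mul_zero]


end field

section general

/-- the identity `det(1 - tU) * ∑ symTr U n tⁿ = 1` -/
def Holds {A : Type*} [CommRing A] {κ : Type*} [Fintype κ] [DecidableEq κ] (U : Matrix κ κ A) : Prop :=
  (U.charpolyRev : PowerSeries A) * PowerSeries.mk (fun n => symTr U n) = 1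

theorem charpolyRev_map_hom {A B : Type*} [CommRing A] [CommRing B] {κ : Type*} [Fintype κ]
    [DecidableEq κ] (U : Matrix κ κ A) (f : A →+* B) :
    (U.map f).charpolyRev = U.charpolyRev.map f := by
  unfold Matrix.charpolyRev
  rw [← Polynomial.coe_mapRingHom, RingHom.map_det]
  congr 1
  ext i j : 1
  simp [Matrix.one_apply, Matrix.map_apply]
  split_ifs <;> simp

theorem map_lhs {A B : Type*} [CommRing A] [CommRing B] {κ : Type*} [Fintype κ]
    [DecidableEq κ] (U : Matrix κ κ A) (f : A →+* B) :
    PowerSeries.map f ((U.charpolyRev : PowerSeries A) * PowerSeries.mk (fun n => symTr U n)) =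
      ((U.map f).charpolyRev : PowerSeries B) * PowerSeries.mk (fun n => symTr (U.map f) n) := by
  rw [map_mul, ← Polynomial.polynomial_map_coe, charpolyRev_map_hom]
  congr 1
  ext n
  rw [PowerSeries.coeff_map, PowerSeries.coeff_mk, PowerSeries.coeff_mk, symTr_map]

theorem Holds.map {A B : Type*} [CommRing A] [CommRing B] {κ : Type*} [Fintype κ]
    [DecidableEq κ] {U : Matrix κ κ A} (h : Holds U) (f : A →+* B) : Holds (U.map f) := by
  unfold Holds at h ⊢
  rw [← map_lhs, h, map_one]

theorem Holds.of_map {A B : Type*} [CommRing A] [CommRing B] {κ : Type*} [Fintype κ]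
    [DecidableEq κ] {U : Matrix κ κ A} (f : A →+* B) (hf : Function.Injective f)
    (h : Holds (U.map f)) : Holds U := by
  unfold Holds at h ⊢
  rw [← map_lhs] at h
  have hinj : Function.Injective (PowerSeries.map f) := by
    intro x y hxy
    ext n
    apply hf
    rw [← PowerSeries.coeff_map, ← PowerSeries.coeff_map, hxy]
  apply hinj
  rw [h, map_one]

theorem holds_of_isAlgClosed {K : Type*} [Field K] [IsAlgClosed K] {κ : Type*} [Fintype κ]
    [DecidableEq κ] (U : Matrix κ κ K) : Holds U := by
  let u : (κ → K) →ₗ[K] (κ → K) := Matrix.toLin' U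
  obtain ⟨b', hb'⟩ := exists_basis_lowerTriangular (K := K) (Module.finrank K (κ → K)) (κ → K) u rfl
  have hU : LinearMap.toMatrix (Pi.basisFun K κ) (Pi.basisFun K κ) u = U := by
    rw [LinearMap.toMatrix_eq_toMatrix', LinearMap.toMatrix'_toLin']
  have h1 : ∀ n, symTr U n = symTr (LinearMap.toMatrix b' b' u) n := by
    intro n
    rw [← trace_eq_symTr b' n u (TSmap u n) (fun x => rfl)]
    conv_lhs => rw [← hU]
    rw [← trace_eq_symTr (Pi.basisFun K κ) n u (TSmap u n) (fun x => rfl)]
  have h2 : U.charpolyRev = (LinearMap.toMatrix b' b' u).charpolyRev := by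
    rw [← Matrix.reverse_charpoly, ← Matrix.reverse_charpoly, LinearMap.charpoly_toMatrix]
    conv_lhs => rw [← hU]
    rw [LinearMap.charpoly_toMatrix]
  unfold Holds
  rw [h2]
  simp only [h1]
  exact charpolyRev_mul_symTr_of_lowerTriangular _ hb'

/-- the MacMahon-type identity over any commutative ring -/
theorem holds {A : Type*} [CommRing A] {κ : Type*} [Fintype κ] [DecidableEq κ]
    (U : Matrix κ κ A) : Holds U := by
  let R := MvPolynomial (κ × κ) ℤ
  let G : Matrix κ κ R := Matrix.mvPolynomialX κ κ ℤ
  let K := AlgebraicClosure (FractionRing R)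
  let ψ : R →+* K := algebraMap R K
  have hψ : Function.Injective ψ := by
    have : ψ = (algebraMap (FractionRing R) K).comp (algebraMap R (FractionRing R)) :=
      IsScalarTower.algebraMap_eq R (FractionRing R) K
    rw [this]
    exact (algebraMap (FractionRing R) K).injective.comp (IsFractionRing.injective R (FractionRing R))
  have hG : Holds G := Holds.of_map ψ hψ (holds_of_isAlgClosed _)
  have := hG.map (MvPolynomial.eval₂Hom (Int.castRingHom A) fun p : κ × κ => U p.1 p.2)
  rwa [show G.map (MvPolynomial.eval₂Hom (Int.castRingHom A) fun p : κ × κ => U p.1 p.2) = U from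
    Matrix.mvPolynomialX_map_eval₂ _ U] at this

end general

section module

open Polynomial

variable {A : Type uA} [CommRing A] {M : Type uM} [AddCommGroup M] [Module A M]
  {κ : Type uκ} [Fintype κ] [DecidableEq κ] (b : Module.Basis κ A M)

theorem det_one_sub_baseChange (u : M →ₗ[A] M) :
    LinearMap.det (LinearMap.id - (X : A[X]) • u.baseChange A[X]) =
      (LinearMap.toMatrix b b u).charpolyRev := by
  rw [← LinearMap.det_toMatrix (Algebra.TensorProduct.basis A[X] b)]
  unfold Matrix.charpolyRev
  congr 1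
  have h := map_sub (LinearMap.toMatrix (Algebra.TensorProduct.basis A[X] b)
    (Algebra.TensorProduct.basis A[X] b)) LinearMap.id ((X : A[X]) • u.baseChange A[X])
  rw [h, map_smul, LinearMap.toMatrix_id, LinearMap.toMatrix_baseChange,
    Polynomial.algebraMap_eq]

include b in
/-- main theorem in module form -/
theorem det_mul_trace_eq_one (u : M →ₗ[A] M)
    (γ : ∀ n : ℕ, TS A M n →ₗ[A] TS A M n)
    (hγ : ∀ (n : ℕ) (x : TS A M n), ((γ n x : TS A M n) : ⨂[A] _ : Fin n, M) =
      PiTensorProduct.map (fun _ : Fin n => u) (x : ⨂[A] _ : Fin n, M)) :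
    ((LinearMap.det (LinearMap.id - (X : A[X]) • u.baseChange A[X]) : A[X]) : PowerSeries A) *
      PowerSeries.mk (fun n => LinearMap.trace A _ (γ n)) = 1 := by
  rw [det_one_sub_baseChange b]
  simp only [fun n => trace_eq_symTr b n u (γ n) (hγ n)]
  exact holds _

end module

end Groth.Agent.Lib.MacMahon38
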