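import Mathlib
import Groth.Prelude.Def_Magnet

/-!
# Descending an action of a monoid object to a pushout (helper24)

If a pushout square `Z → X → P`, `Z → Y → P` of objects with actions of a monoid object `A` and
equivariant maps `Z → X`, `Z → Y` stays a pushout after `A ◁ -` and `(A ⊗ A) ◁ -`, then `P` carries
a unique action making `X → P` and `Y → P` equivariant, and `P` is a pushout for equivariant maps.
-/

set_option autoImplicit false
universe v₁ u₁

namespace Groth.Agent.Lib.MagnetPushout24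

open CategoryTheory CategoryTheory.Limits MonoidalCategory CartesianMonoidalCategory MonObj Opposite
open Magnet Magnet.MonAct

variable {C : Type u₁} [Category.{v₁} C] [CartesianMonoidalCategory C]
variable {A Z X Y P : C} [MonObj A]

theorem exists_monAct_of_isPushout (aZ : MonAct A Z) (aX : MonAct A X) (aY : MonAct A Y)
    {i : Z ⟶ X} {j : Z ⟶ Y} {ν₁ : X ⟶ P} {ν₂ : Y ⟶ P}
    (hi : IsEquivariant aZ aX i) (hj : IsEquivariant aZ aY j)
    (hP : IsPushout i j ν₁ ν₂)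
    (h1 : IsPushout (A ◁ i) (A ◁ j) (A ◁ ν₁) (A ◁ ν₂))
    (h2 : IsPushout ((A ⊗ A) ◁ i) ((A ⊗ A) ◁ j) ((A ⊗ A) ◁ ν₁) ((A ⊗ A) ◁ ν₂)) :
    ∃ aP : MonAct A P, IsEquivariant aX aP ν₁ ∧ IsEquivariant aY aP ν₂ ∧
      ∀ (Q : C) (aQ : MonAct A Q) (f₁ : X ⟶ Q) (f₂ : Y ⟶ Q) (w : i ≫ f₁ = j ≫ f₂),
        IsEquivariant aX aQ f₁ → IsEquivariant aY aQ f₂ →
          IsEquivariant aP aQ (hP.desc f₁ f₂ w) := by
  unfold IsEquivariant at hi hj
  have compat : (A ◁ i) ≫ aX.act ≫ ν₁ = (A ◁ j) ≫ aY.act ≫ ν₂ := by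
    rw [← reassoc_of% hi, ← reassoc_of% hj, hP.w]
  have hact1 : (A ◁ ν₁) ≫ h1.desc (aX.act ≫ ν₁) (aY.act ≫ ν₂) compat = aX.act ≫ ν₁ :=
    h1.inl_desc _ _ _
  have hact2 : (A ◁ ν₂) ≫ h1.desc (aX.act ≫ ν₁) (aY.act ≫ ν₂) compat = aY.act ≫ ν₂ :=
    h1.inr_desc _ _ _
  have hone : (η[A] ▷ P) ≫ h1.desc (aX.act ≫ ν₁) (aY.act ≫ ν₂) compat = (λ_ P).hom := by
    rw [← cancel_epi (λ_ P).inv, Iso.inv_hom_id]
    apply hP.hom_ext
    · rw [Category.comp_id, leftUnitor_inv_naturality_assoc, whisker_exchange_assoc, hact1,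
        reassoc_of% aX.one_act, Iso.inv_hom_id_assoc]
    · rw [Category.comp_id, leftUnitor_inv_naturality_assoc, whisker_exchange_assoc, hact2,
        reassoc_of% aY.one_act, Iso.inv_hom_id_assoc]
  have hmul : (μ[A] ▷ P) ≫ h1.desc (aX.act ≫ ν₁) (aY.act ≫ ν₂) compat =
      (α_ A A P).hom ≫ (A ◁ h1.desc (aX.act ≫ ν₁) (aY.act ≫ ν₂) compat) ≫
        h1.desc (aX.act ≫ ν₁) (aY.act ≫ ν₂) compat := by
    apply h2.hom_ext
    · rw [whisker_exchange_assoc, hact1, reassoc_of% aX.mul_act,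
        associator_naturality_right_assoc, ← MonoidalCategory.whiskerLeft_comp_assoc, hact1,
        MonoidalCategory.whiskerLeft_comp_assoc, hact1]
    · rw [whisker_exchange_assoc, hact2, reassoc_of% aY.mul_act,
        associator_naturality_right_assoc, ← MonoidalCategory.whiskerLeft_comp_assoc, hact2,
        MonoidalCategory.whiskerLeft_comp_assoc, hact2]
  refine ⟨⟨h1.desc (aX.act ≫ ν₁) (aY.act ≫ ν₂) compat, hone, hmul⟩, hact1.symm, hact2.symm, ?_⟩
  intro Q aQ f₁ f₂ w hf₁ hf₂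
  unfold IsEquivariant at hf₁ hf₂ ⊢
  apply h1.hom_ext
  · rw [reassoc_of% hact1, hP.inl_desc, hf₁, ← MonoidalCategory.whiskerLeft_comp_assoc,
      hP.inl_desc]
  · rw [reassoc_of% hact2, hP.inr_desc, hf₂, ← MonoidalCategory.whiskerLeft_comp_assoc,
      hP.inr_desc]

end Groth.Agent.Lib.MagnetPushout24
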