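import Mathlib
import Groth.Agent.Lib.Ferrand24p
import Groth.Agent.Lib.Ferrand24s

/-!
# Whiskering Ferrand pushouts in `Over S` with a flat object (helper24)
-/

set_option autoImplicit false
universe u

namespace Groth.Agent.Lib.Ferrand24

open AlgebraicGeometry CategoryTheory CategoryTheory.Limits TopologicalSpace MonoidalCategory
  CartesianMonoidalCategory

/-- The base change square of `k ▷ W`. -/
theorem isPullback_whiskerRight_left {S : Scheme.{u}} {A B : Over S} (k : A ⟶ B) (W : Over S) :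
    IsPullback (pullback.fst A.hom W.hom) (k ▷ W).left k.left (pullback.fst B.hom W.hom) := by
  have e1 : (k ▷ W).left ≫ pullback.fst B.hom W.hom = pullback.fst A.hom W.hom ≫ k.left :=
    Over.whiskerRight_left_fst _
  have e2 : (k ▷ W).left ≫ pullback.snd B.hom W.hom = pullback.snd A.hom W.hom :=
    Over.whiskerRight_left_snd _
  have big : IsPullback (pullback.fst A.hom W.hom)
      ((k ▷ W).left ≫ pullback.snd B.hom W.hom) (k.left ≫ B.hom) W.hom := by
    rw [e2, Over.w k]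
    exact IsPullback.of_hasPullback A.hom W.hom
  exact IsPullback.of_bot big e1.symm (IsPullback.of_hasPullback B.hom W.hom)

/-- **Whiskering a Ferrand pushout with a flat object** of `Over S` gives a pushout square. -/
theorem isPushout_whiskerRight_of_flat {S : Scheme.{u}} {X T Z P : Over S}
    {i : Z ⟶ X} {j : Z ⟶ T} {a : X ⟶ P} {b : T ⟶ P} [IsClosedImmersion i.left]
    (hP : IsPushout i.left j.left a.left b.left) [IsAffineHom a.left] [IsAffineHom b.left]
    (W : Over S) [Flat W.hom] :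
    IsPushout (i ▷ W) (j ▷ W) (a ▷ W) (b ▷ W) := by
  have w0 : i ≫ a = j ≫ b := by
    ext : 1
    exact hP.w
  have w : (i ▷ W) ≫ (a ▷ W) = (j ▷ W) ≫ (b ▷ W) := by
    rw [← comp_whiskerRight, ← comp_whiskerRight, w0]
  obtain ⟨hX, hT⟩ := charts_of_isAffineHom hP.w
  refine IsPushout.of_map (Over.forget S) w ?_
  haveI : Flat (pullback.fst P.hom W.hom) := inferInstance
  exact isPushout_flat_baseChange hX hT hP (pullback.fst P.hom W.hom) (pullback.fst X.hom W.hom)
    (pullback.fst T.hom W.hom) (pullback.fst Z.hom W.hom) (a ▷ W).left (b ▷ W).left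
    (i ▷ W).left (j ▷ W).left (isPullback_whiskerRight_left a W) (isPullback_whiskerRight_left b W)
    (isPullback_whiskerRight_left i W) (Over.whiskerRight_left_fst _)
    (congrArg (fun k => k.left) w)

/-- left-whiskered version -/
theorem isPushout_whiskerLeft_of_flat {S : Scheme.{u}} {X T Z P : Over S}
    {i : Z ⟶ X} {j : Z ⟶ T} {a : X ⟶ P} {b : T ⟶ P} [IsClosedImmersion i.left]
    (hP : IsPushout i.left j.left a.left b.left) [IsAffineHom a.left] [IsAffineHom b.left]
    (W : Over S) [Flat W.hom] :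
    IsPushout (W ◁ i) (W ◁ j) (W ◁ a) (W ◁ b) :=
  IsPushout.of_iso (isPushout_whiskerRight_of_flat hP W) (β_ Z W) (β_ X W) (β_ T W) (β_ P W)
    (BraidedCategory.braiding_naturality_left i W) (BraidedCategory.braiding_naturality_left j W)
    (BraidedCategory.braiding_naturality_left a W) (BraidedCategory.braiding_naturality_left b W)

/-- The pushout of two closed immersions into affine schemes exists and is affine. -/
theorem exists_affine_pushout {X T Z : Scheme.{u}} (ι : Z ⟶ X) (ξ : Z ⟶ T) [IsClosedImmersion ι]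
    [IsClosedImmersion ξ] [IsAffine X] [IsAffine T] :
    ∃ (P : Scheme.{u}) (a : X ⟶ P) (b : T ⟶ P), IsPushout ι ξ a b ∧ IsAffine P ∧
      IsClosedImmersion a ∧ IsClosedImmersion b := by
  have hX : ∀ x : X, ∃ k : Pair ι ξ, IsAffineOpen k.G ∧ IsAffineOpen k.H ∧ x ∈ k.G :=
    fun _ => ⟨⟨⊤, ⊤, rfl⟩, isAffineOpen_top _, isAffineOpen_top _, trivial⟩
  have hT : ∀ t : T, ∃ k : Pair ι ξ, IsAffineOpen k.G ∧ IsAffineOpen k.H ∧ t ∈ k.H :=
    fun _ => ⟨⟨⊤, ⊤, rfl⟩, isAffineOpen_top _, isAffineOpen_top _, trivial⟩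
  obtain ⟨P, a, b, hP, -, hb, hjs, ha, -⟩ := ferrand hX hT
  refine ⟨P, a, b, hP, ?_, ha inferInstance, hb⟩
  obtain ⟨e, he, hae, hbe, -, -⟩ := chart_of_pair hX hT hP (⟨⊤, ⊤, rfl⟩ : Pair ι ξ)
    (isAffineOpen_top _) (isAffineOpen_top _)
  haveI : Surjective e := ⟨fun p => by
    rcases hjs p with ⟨x, rfl⟩ | ⟨t, rfl⟩
    · exact ⟨chartA (⟨⊤, ⊤, rfl⟩ : Pair ι ξ) (isAffineOpen_top _) ⟨x, trivial⟩,
        (congr($hae ⟨x, trivial⟩)).symm⟩
    · exact ⟨chartB (⟨⊤, ⊤, rfl⟩ : Pair ι ξ) (isAffineOpen_top _) ⟨t, trivial⟩,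
        (congr($hbe ⟨t, trivial⟩)).symm⟩⟩
  haveI : IsIso e := (isIso_iff_isOpenImmersion_and_surjective e).mpr ⟨he, inferInstance⟩
  exact IsAffine.of_isIso (inv e)

/-- the same in `Over S` -/
theorem exists_affine_pushout_over {S : Scheme.{u}} {X T Z : Over S} (i : Z ⟶ X) (j : Z ⟶ T)
    [IsClosedImmersion i.left] [IsClosedImmersion j.left] [IsAffine X.left] [IsAffine T.left] :
    ∃ (P : Over S) (a : X ⟶ P) (b : T ⟶ P), IsPushout i j a b ∧
      IsPushout i.left j.left a.left b.left ∧ IsAffine P.left ∧ IsClosedImmersion a.left ∧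
      IsClosedImmersion b.left := by
  obtain ⟨P₀, a₀, b₀, hP₀, hPaff, ha₀, hb₀⟩ := exists_affine_pushout i.left j.left
  have w : i.left ≫ X.hom = j.left ≫ T.hom := (Over.w i).trans (Over.w j).symm
  refine ⟨Over.mk (hP₀.desc X.hom T.hom w), Over.homMk a₀ (hP₀.inl_desc _ _ _),
    Over.homMk b₀ (hP₀.inr_desc _ _ _), ?_, hP₀, hPaff, ha₀, hb₀⟩
  refine IsPushout.of_map (Over.forget S) ?_ hP₀
  ext : 1
  exact hP₀.w

end Groth.Agent.Lib.Ferrand24
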