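/-
helper24: Mal'cev operation `k1 - k0 + k2` on scheme morphisms `Y ⟶ P` that agree on a
"square-zero thickening" `j : Y0 ⟶ Y` (surjective, `ker (j.app V)` of square zero).
-/
import Mathlib

set_option autoImplicit false
universe u
open CategoryTheory AlgebraicGeometry TopologicalSpace Opposite

namespace Groth.Agent.Lib.Malcev24

variable {Y0 Y P : Scheme.{u}}

/-- Two scheme morphisms with the same base map and the same `appLE` are equal. -/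
theorem hom_ext_appLE {f g : Y ⟶ P} (hb : f.base = g.base)
    (h : ∀ (U : P.Opens) (e : g ⁻¹ᵁ U ≤ f ⁻¹ᵁ U), f.appLE U (g ⁻¹ᵁ U) e = g.app U) : f = g := by
  refine Scheme.Hom.ext hb fun U => ?_
  have e : g ⁻¹ᵁ U ≤ f ⁻¹ᵁ U := by rw [hb]
  rw [← h U e, Scheme.Hom.appLE]
  rfl

theorem appLE_congr_hom {f g : Y ⟶ P} (h : f = g) (U : P.Opens) (V : Y.Opens) (e : V ≤ f ⁻¹ᵁ U)
    (e' : V ≤ g ⁻¹ᵁ U) : f.appLE U V e = g.appLE U V e' := by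
  subst h; rfl

/-- The sheaf map of `k` transported to the base map of `k0`. -/
noncomputable def cAt (k0 k : Y ⟶ P) (hb : k.base = k0.base) :
    P.presheaf ⟶ k0.base _* Y.presheaf :=
  k.c ≫ (TopCat.Presheaf.pushforwardEq hb _).hom

/-- `cAt` on sections, with the expected types. -/
noncomputable def cAtApp (k0 k : Y ⟶ P) (hb : k.base = k0.base) (U : P.Opens) :
    Γ(P, U) ⟶ Γ(Y, k0 ⁻¹ᵁ U) :=
  (cAt k0 k hb).app (op U)

theorem cAt_app_comp_map (k0 k : Y ⟶ P) (hb : k.base = k0.base) (U : P.Opens) (V : Y.Opens)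
    (e0 : V ≤ k0 ⁻¹ᵁ U) (e : V ≤ k ⁻¹ᵁ U) :
    cAtApp k0 k hb U ≫ Y.presheaf.map (homOfLE e0).op = k.appLE U V e := by
  rw [cAtApp, cAt, NatTrans.comp_app, TopCat.Presheaf.pushforwardEq_hom_app, Category.assoc,
    ← Functor.map_comp, Scheme.Hom.appLE]
  rfl

theorem map_cAt (k0 k : Y ⟶ P) (hb : k.base = k0.base) (U : P.Opens) (V : Y.Opens)
    (e0 : V ≤ k0 ⁻¹ᵁ U) (e : V ≤ k ⁻¹ᵁ U) (s : Γ(P, U)) :
    Y.presheaf.map (homOfLE e0).op (cAtApp k0 k hb U s) = k.appLE U V e s :=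
  congr($(cAt_app_comp_map k0 k hb U V e0 e) s)

theorem cAt_self (k0 : Y ⟶ P) (U : P.Opens) (s : Γ(P, U)) :
    cAtApp k0 k0 rfl U s = k0.app U s := by
  have := map_cAt k0 k0 rfl U (k0 ⁻¹ᵁ U) le_rfl le_rfl s
  rw [Scheme.Hom.appLE_eq_app] at this
  rw [← this]
  change _ = (Y.presheaf.map (𝟙 _)) _
  rw [Y.presheaf.map_id]
  rfl

/-- The kernel of `j` on sections has square zero. -/
def SqZeroKer (j : Y0 ⟶ Y) : Prop :=
  ∀ (V : Y.Opens) (a b : Γ(Y, V)), j.app V a = 0 → j.app V b = 0 → a * b = 0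

theorem base_eq_of_comp_eq (j : Y0 ⟶ Y) (hsurj : Function.Surjective j.base) {k k0 : Y ⟶ P}
    (h : j ≫ k = j ≫ k0) : k.base = k0.base := by
  ext y
  obtain ⟨y0, rfl⟩ := hsurj y
  exact congr(($h).base y0)

theorem app_cAt (j : Y0 ⟶ Y) {k k0 : Y ⟶ P} (h : j ≫ k = j ≫ k0) (hb : k.base = k0.base)
    (U : P.Opens) (s : Γ(P, U)) :
    j.app (k0 ⁻¹ᵁ U) (cAtApp k0 k hb U s) = j.app (k0 ⁻¹ᵁ U) (k0.app U s) := by
  have e : k0 ⁻¹ᵁ U ≤ k ⁻¹ᵁ U := by rw [hb]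
  have h3 : cAtApp k0 k hb U = k.appLE U (k0 ⁻¹ᵁ U) e := by
    rw [← cAt_app_comp_map k0 k hb U (k0 ⁻¹ᵁ U) le_rfl e]
    change _ = _ ≫ Y.presheaf.map (𝟙 _)
    rw [Y.presheaf.map_id, Category.comp_id]
  have h1 : cAtApp k0 k hb U ≫ j.app (k0 ⁻¹ᵁ U) =
      (j ≫ k).appLE U (j ⁻¹ᵁ (k0 ⁻¹ᵁ U)) (by rw [h]; exact le_rfl) := by
    rw [h3, Scheme.Hom.app_eq_appLE, Scheme.Hom.appLE_comp_appLE]
  have h4 : k0.app U ≫ j.app (k0 ⁻¹ᵁ U) = (j ≫ k0).appLE U (j ⁻¹ᵁ (k0 ⁻¹ᵁ U)) le_rfl := by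
    rw [Scheme.Hom.comp_appLE, Scheme.Hom.appLE_eq_app]
  have h5 := appLE_congr_hom h U (j ⁻¹ᵁ (k0 ⁻¹ᵁ U)) (by rw [h]; exact le_rfl) le_rfl
  have := h1.trans (h5.trans h4.symm)
  exact congr($this s)

section Construction

variable (j : Y0 ⟶ Y) (hj : SqZeroKer j) (k1 k0 k2 : Y ⟶ P)
  (hb1 : k1.base = k0.base) (hb2 : k2.base = k0.base)
  (h1 : j ≫ k1 = j ≫ k0) (h2 : j ≫ k2 = j ≫ k0)

/-- The function `s ↦ k1 s - k0 s + k2 s` on sections. -/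
noncomputable def mFun (U : P.Opens) (s : Γ(P, U)) : Γ(Y, k0 ⁻¹ᵁ U) :=
  cAtApp k0 k1 hb1 U s - k0.app U s + cAtApp k0 k2 hb2 U s

include h1 in
theorem app_sub1 (U : P.Opens) (s : Γ(P, U)) :
    j.app (k0 ⁻¹ᵁ U) (cAtApp k0 k1 hb1 U s - k0.app U s) = 0 := by
  rw [map_sub, app_cAt j h1 hb1, sub_self]

include h2 in
theorem app_sub2 (U : P.Opens) (s : Γ(P, U)) :
    j.app (k0 ⁻¹ᵁ U) (cAtApp k0 k2 hb2 U s - k0.app U s) = 0 := by
  rw [map_sub, app_cAt j h2 hb2, sub_self]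

include hj h1 h2 in
theorem mFun_mul (U : P.Opens) (s t : Γ(P, U)) :
    mFun k1 k0 k2 hb1 hb2 U (s * t) = mFun k1 k0 k2 hb1 hb2 U s * mFun k1 k0 k2 hb1 hb2 U t := by
  have e1 := hj _ _ _ (app_sub1 j k1 k0 hb1 h1 U s) (app_sub2 j k0 k2 hb2 h2 U t)
  have e2 := hj _ _ _ (app_sub2 j k0 k2 hb2 h2 U s) (app_sub1 j k1 k0 hb1 h1 U t)
  simp only [mFun, map_mul]
  linear_combination (-1 : Γ(Y, k0 ⁻¹ᵁ U)) * e1 - e2

/-- The sheaf map of the Mal'cev morphism. -/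
noncomputable def mC : P.presheaf ⟶ k0.base _* Y.presheaf where
  app U := CommRingCat.ofHom
    { toFun := mFun k1 k0 k2 hb1 hb2 U.unop
      map_one' := by simp [mFun]
      map_mul' := mFun_mul j hj k1 k0 k2 hb1 hb2 h1 h2 U.unop
      map_zero' := by simp [mFun]
      map_add' := fun s t => by simp only [mFun, map_add]; abel }
  naturality U V i := by
    ext s
    have hA := congr($((cAt k0 k1 hb1).naturality i) s)
    have hB := congr($(k0.c.naturality i) s)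
    have hC := congr($((cAt k0 k2 hb2).naturality i) s)
    simp only [CommRingCat.comp_apply] at hA hB hC
    simp only [CommRingCat.comp_apply, CommRingCat.hom_ofHom, RingHom.coe_mk, MonoidHom.coe_mk,
      OneHom.coe_mk, mFun, map_add, map_sub]
    exact congr_arg₂ (· + ·) (congr_arg₂ (· - ·) hA hB) hC

include hj h1 h2 in
theorem mFun_sub_nilp (U : P.Opens) (s : Γ(P, U)) :
    (mFun k1 k0 k2 hb1 hb2 U s - k0.app U s) * (mFun k1 k0 k2 hb1 hb2 U s - k0.app U s) = 0 := by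
  have e : j.app (k0 ⁻¹ᵁ U) (mFun k1 k0 k2 hb1 hb2 U s - k0.app U s) = 0 := by
    have : mFun k1 k0 k2 hb1 hb2 U s - k0.app U s =
        (cAtApp k0 k1 hb1 U s - k0.app U s) + (cAtApp k0 k2 hb2 U s - k0.app U s) := by
      simp only [mFun]; abel
    rw [this, map_add, app_sub1 j k1 k0 hb1 h1, app_sub2 j k0 k2 hb2 h2, add_zero]
  exact hj _ _ _ e e

/-- The Mal'cev morphism `k1 - k0 + k2`. -/
noncomputable def malcev : Y ⟶ P where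
  base := k0.base
  c := mC j hj k1 k0 k2 hb1 hb2 h1 h2
  prop x := by
    constructor
    intro a ha
    obtain ⟨U, hxU, s, rfl⟩ := P.presheaf.exists_germ_eq a
    have key := PresheafedSpace.stalkMap_germ_apply
      (⟨k0.base, mC j hj k1 k0 k2 hb1 hb2 h1 h2⟩ : Y.toPresheafedSpace ⟶ P.toPresheafedSpace)
      U x hxU s
    rw [key] at ha
    have key0 := PresheafedSpace.stalkMap_germ_apply k0.toPshHom U x hxU s
    have hloc := k0.toLRSHom.prop x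
    apply hloc.map_nonunit
    rw [key0]
    change IsUnit (Y.presheaf.germ (k0 ⁻¹ᵁ U) x hxU (mFun k1 k0 k2 hb1 hb2 U s)) at ha
    change IsUnit (Y.presheaf.germ (k0 ⁻¹ᵁ U) x hxU (k0.app U s))
    have hn : IsNilpotent (Y.presheaf.germ (k0 ⁻¹ᵁ U) x hxU
        (k0.app U s - mFun k1 k0 k2 hb1 hb2 U s)) := by
      refine ⟨2, ?_⟩
      rw [← map_pow, pow_two]
      have := mFun_sub_nilp j hj k1 k0 k2 hb1 hb2 h1 h2 U s
      have h' : (k0.app U s - mFun k1 k0 k2 hb1 hb2 U s) *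
          (k0.app U s - mFun k1 k0 k2 hb1 hb2 U s) = 0 := by
        linear_combination this
      rw [h', map_zero]
    have := hn.isUnit_add_left_of_commute ha (Commute.all _ _)
    rw [← map_add] at this
    convert this using 2
    abel

@[simp] theorem malcev_base : (malcev j hj k1 k0 k2 hb1 hb2 h1 h2).base = k0.base := rfl

theorem malcev_app (U : P.Opens) (s : Γ(P, U)) :
    (malcev j hj k1 k0 k2 hb1 hb2 h1 h2).app U s = mFun k1 k0 k2 hb1 hb2 U s := rfl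

theorem malcev_appLE (U : P.Opens) (V : Y.Opens)
    (e : V ≤ (malcev j hj k1 k0 k2 hb1 hb2 h1 h2) ⁻¹ᵁ U)
    (e0 : V ≤ k0 ⁻¹ᵁ U) (e1 : V ≤ k1 ⁻¹ᵁ U) (e2 : V ≤ k2 ⁻¹ᵁ U) (s : Γ(P, U)) :
    (malcev j hj k1 k0 k2 hb1 hb2 h1 h2).appLE U V e s =
      k1.appLE U V e1 s - k0.appLE U V e0 s + k2.appLE U V e2 s := by
  have hm : (malcev j hj k1 k0 k2 hb1 hb2 h1 h2).appLE U V e s =
      Y.presheaf.map (homOfLE e0).op (mFun k1 k0 k2 hb1 hb2 U s) := rfl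
  rw [hm, mFun, map_add, map_sub]
  have a1 := map_cAt k0 k1 hb1 U V e0 e1 s
  have a2 := map_cAt k0 k2 hb2 U V e0 e2 s
  have a0 : Y.presheaf.map (homOfLE e0).op (k0.app U s) = k0.appLE U V e0 s := by
    rw [Scheme.Hom.appLE, CommRingCat.comp_apply]
  exact congr_arg₂ (· + ·) (congr_arg₂ (· - ·) a1 a0) a2

end Construction

section Properties

variable (j : Y0 ⟶ Y) (hj : SqZeroKer j)

/-- `m(k1, k0, k0) = k1`. -/
theorem malcev_right (k1 k0 : Y ⟶ P) (hb1 : k1.base = k0.base) (h1 : j ≫ k1 = j ≫ k0) :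
    malcev j hj k1 k0 k0 hb1 rfl h1 rfl = k1 := by
  refine hom_ext_appLE hb1.symm fun U e => ?_
  ext s
  rw [malcev_appLE j hj k1 k0 k0 hb1 rfl h1 rfl U _ e (by rw [hb1]) le_rfl (by rw [hb1]),
    sub_add_cancel, Scheme.Hom.appLE_eq_app]

/-- `m(k0, k0, k2) = k2`. -/
theorem malcev_left (k0 k2 : Y ⟶ P) (hb2 : k2.base = k0.base) (h2 : j ≫ k2 = j ≫ k0) :
    malcev j hj k0 k0 k2 rfl hb2 rfl h2 = k2 := by
  refine hom_ext_appLE hb2.symm fun U e => ?_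
  ext s
  rw [malcev_appLE j hj k0 k0 k2 rfl hb2 rfl h2 U _ e (by rw [hb2]) (by rw [hb2]) le_rfl,
    sub_self, zero_add, Scheme.Hom.appLE_eq_app]

/-- Naturality: `m(k1, k0, k2) ≫ n = m(k1 ≫ n, k0 ≫ n, k2 ≫ n)`. -/
theorem malcev_comp {P' : Scheme.{u}} (k1 k0 k2 : Y ⟶ P) (hb1 : k1.base = k0.base)
    (hb2 : k2.base = k0.base) (h1 : j ≫ k1 = j ≫ k0) (h2 : j ≫ k2 = j ≫ k0) (n : P ⟶ P')
    (hb1' : (k1 ≫ n).base = (k0 ≫ n).base) (hb2' : (k2 ≫ n).base = (k0 ≫ n).base)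
    (h1' : j ≫ k1 ≫ n = j ≫ k0 ≫ n) (h2' : j ≫ k2 ≫ n = j ≫ k0 ≫ n) :
    malcev j hj k1 k0 k2 hb1 hb2 h1 h2 ≫ n =
      malcev j hj (k1 ≫ n) (k0 ≫ n) (k2 ≫ n) hb1' hb2' h1' h2' := by
  refine hom_ext_appLE rfl fun U e => ?_
  ext s
  have e1 : (k0 ≫ n) ⁻¹ᵁ U ≤ (k1 ≫ n) ⁻¹ᵁ U := by rw [hb1']
  have e2 : (k0 ≫ n) ⁻¹ᵁ U ≤ (k2 ≫ n) ⁻¹ᵁ U := by rw [hb2']
  have e0 : (k0 ≫ n) ⁻¹ᵁ U ≤ k0 ⁻¹ᵁ (n ⁻¹ᵁ U) := le_rfl
  have hL : ((malcev j hj k1 k0 k2 hb1 hb2 h1 h2 ≫ n).appLE U _ e) s =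
      (malcev j hj k1 k0 k2 hb1 hb2 h1 h2).appLE (n ⁻¹ᵁ U) ((k0 ≫ n) ⁻¹ᵁ U) e0 (n.app U s) := by
    rw [Scheme.Hom.comp_appLE, CommRingCat.comp_apply]
    rfl
  have hR : (malcev j hj (k1 ≫ n) (k0 ≫ n) (k2 ≫ n) hb1' hb2' h1' h2').app U s =
      (malcev j hj (k1 ≫ n) (k0 ≫ n) (k2 ≫ n) hb1' hb2' h1' h2').appLE U ((k0 ≫ n) ⁻¹ᵁ U)
        le_rfl s := by
    rw [← Scheme.Hom.appLE_eq_app]
    rfl
  refine hL.trans (Eq.trans ?_ hR.symm)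
  have a := malcev_appLE j hj k1 k0 k2 hb1 hb2 h1 h2 (n ⁻¹ᵁ U) ((k0 ≫ n) ⁻¹ᵁ U) e0 le_rfl e1 e2
    (n.app U s)
  have b := malcev_appLE j hj (k1 ≫ n) (k0 ≫ n) (k2 ≫ n) hb1' hb2' h1' h2' U ((k0 ≫ n) ⁻¹ᵁ U)
    le_rfl le_rfl e1 e2 s
  refine a.trans (Eq.trans ?_ b.symm)
  simp only [Scheme.Hom.comp_appLE, CommRingCat.comp_apply]

end Properties

end Groth.Agent.Lib.Malcev24
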