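/-
helper24: the base change `j : Y ×_S S₀ ⟶ Y` of `S₀ = Spec (R/J) ⟶ S = Spec R` with `J² = 0`
is surjective and has square-zero kernel on sections.
-/
import Mathlib
import Groth.Agent.Lib.Malcev24

set_option autoImplicit false
universe u
open CategoryTheory CategoryTheory.Limits AlgebraicGeometry TopologicalSpace Opposite

namespace Groth.Agent.Lib.Malcev24

/-- A section of the structure sheaf vanishing locally vanishes. -/
theorem section_eq_zero_of_locally {A : Scheme.{u}} (V : A.Opens) (s : Γ(A, V))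
    (h : ∀ x ∈ V, ∃ (W : A.Opens) (hW : W ≤ V), x ∈ W ∧
      (A.presheaf.map (homOfLE hW).op).hom s = 0) : s = 0 := by
  choose W hW hx hs using h
  fapply A.sheaf.eq_of_locally_eq' (fun x : V => W x.1 x.2) V (fun x => homOfLE (hW x.1 x.2))
  · intro y hy
    exact Opens.mem_iSup.mpr ⟨⟨y, hy⟩, hx y hy⟩
  · intro x
    change (A.presheaf.map _).hom s = (A.presheaf.map _).hom 0
    rw [map_zero]
    exact hs x.1 x.2

variable (R : Type u) [CommRing R] (J : Ideal R)

/-- `Spec (R/J) ⟶ Spec R` is surjective when `J² = 0`. -/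
theorem surjective_specMap_mk (hJ : J * J = ⊥) :
    Surjective (Spec.map (CommRingCat.ofHom (Ideal.Quotient.mk J))) := by
  rw [surjective_iff]
  intro p
  have hle : J ≤ p.asIdeal := by
    intro x hx
    have : x * x ∈ J * J := Ideal.mul_mem_mul hx hx
    rw [hJ] at this
    have h0 : x * x = 0 := this
    have : x * x ∈ p.asIdeal := by rw [h0]; exact Ideal.zero_mem _
    rcases p.isPrime.mem_or_mem this with h | h <;> exact h
  have hker : RingHom.ker (Ideal.Quotient.mk J) ≤ p.asIdeal := by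
    rw [Ideal.mk_ker]; exact hle
  have hprime : (Ideal.map (Ideal.Quotient.mk J) p.asIdeal).IsPrime :=
    Ideal.map_isPrime_of_surjective Ideal.Quotient.mk_surjective hker
  refine ⟨⟨Ideal.map (Ideal.Quotient.mk J) p.asIdeal, hprime⟩, ?_⟩
  apply PrimeSpectrum.ext
  change Ideal.comap (Ideal.Quotient.mk J) (Ideal.map (Ideal.Quotient.mk J) p.asIdeal) = p.asIdeal
  rw [Ideal.comap_map_of_surjective' _ Ideal.Quotient.mk_surjective, sup_eq_left]
  exact hker

variable {R J}

theorem surjective_fst (hJ : J * J = ⊥) {Y : Scheme.{u}} (f : Y ⟶ Spec (CommRingCat.of R)) :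
    Function.Surjective
      (pullback.fst f (Spec.map (CommRingCat.ofHom (Ideal.Quotient.mk J)))).base := by
  have := surjective_specMap_mk R J hJ
  have h : Surjective (pullback.fst f (Spec.map (CommRingCat.ofHom (Ideal.Quotient.mk J)))) :=
    inferInstance
  exact h.surj

/-- Affine-local: the kernel of `j` on sections over an affine open `W` lies in `J · Γ(Y, W)`. -/
theorem mem_map_of_app_eq_zero {Y : Scheme.{u}} (f : Y ⟶ Spec (CommRingCat.of R))
    {W : Y.Opens} (hW : IsAffineOpen W) (α : CommRingCat.of R ⟶ Γ(Y, W))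
    (hα : Spec.map α = hW.fromSpec ≫ f) (a : Γ(Y, W))
    (ha : (pullback.fst f (Spec.map (CommRingCat.ofHom (Ideal.Quotient.mk J)))).app W a = 0) :
    a ∈ Ideal.map α.hom J := by
  let A : CommRingCat.{u} := Γ(Y, W)
  let I : Ideal A := Ideal.map α.hom J
  let q : A ⟶ CommRingCat.of (A ⧸ I) := CommRingCat.ofHom (Ideal.Quotient.mk I)
  have hJI : ∀ r ∈ J, (Ideal.Quotient.mk I) (α.hom r) = 0 := by
    intro r hr
    rw [Ideal.Quotient.eq_zero_iff_mem]
    exact Ideal.mem_map_of_mem _ hr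
  let ρ : CommRingCat.of (R ⧸ J) ⟶ CommRingCat.of (A ⧸ I) :=
    CommRingCat.ofHom (Ideal.Quotient.lift J ((Ideal.Quotient.mk I).comp α.hom) hJI)
  have hρ : CommRingCat.ofHom (Ideal.Quotient.mk J) ≫ ρ = α ≫ q := by
    ext r
    rfl
  let i := Spec.map (CommRingCat.ofHom (Ideal.Quotient.mk J))
  have hcond : (Spec.map q ≫ hW.fromSpec) ≫ f = Spec.map ρ ≫ i := by
    rw [Category.assoc, ← hα, ← Spec.map_comp, ← Spec.map_comp, hρ]
  let t := pullback.lift (Spec.map q ≫ hW.fromSpec) (Spec.map ρ) hcond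
  have ht : t ≫ pullback.fst f i = Spec.map q ≫ hW.fromSpec := pullback.lift_fst _ _ _
  let j := pullback.fst f i
  -- compute `(t ≫ j).appLE W ⊤`
  have e1 : (⊤ : (Spec (CommRingCat.of (A ⧸ I))).Opens) ≤ (t ≫ j) ⁻¹ᵁ W := by
    rw [ht]
    intro x _
    change hW.fromSpec ((Spec.map q) x) ∈ W
    have : hW.fromSpec ((Spec.map q) x) ∈ hW.fromSpec.opensRange := ⟨_, rfl⟩
    rwa [hW.opensRange_fromSpec] at this
  have h1 : Spec.map ((t ≫ j).appLE W ⊤ e1) ≫ hW.fromSpec =
      (isAffineOpen_top _).fromSpec ≫ (t ≫ j) :=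
    IsAffineOpen.SpecMap_appLE_fromSpec (t ≫ j) hW (isAffineOpen_top _) e1
  have h1' : Spec.map ((t ≫ j).appLE W ⊤ e1) ≫ hW.fromSpec =
      Spec.map (q ≫ (Scheme.ΓSpecIso _).inv) ≫ hW.fromSpec := by
    refine h1.trans ?_
    rw [IsAffineOpen.fromSpec_top, Scheme.isoSpec_Spec_inv, ht, ← Category.assoc, ← Spec.map_comp]
  rw [cancel_mono] at h1'
  have h2 : (t ≫ j).appLE W ⊤ e1 = q ≫ (Scheme.ΓSpecIso _).inv := Spec.map_injective h1'
  have h3 : (t ≫ j).appLE W ⊤ e1 a = 0 := by
    rw [Scheme.Hom.comp_appLE, CommRingCat.comp_apply]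
    change (t.appLE _ _ _) (j.app W a) = 0
    rw [ha, map_zero]
  rw [h2, CommRingCat.comp_apply] at h3
  have h4 : q a = 0 := by
    have := congr((Scheme.ΓSpecIso (CommRingCat.of (A ⧸ I))).hom $h3)
    rw [map_zero] at this
    rw [← this]
    exact (congr($((Scheme.ΓSpecIso (CommRingCat.of (A ⧸ I))).inv_hom_id) (q a))).symm
  exact Ideal.Quotient.eq_zero_iff_mem.mp h4

theorem sqZeroKer_fst (hJ : J * J = ⊥) {Y : Scheme.{u}} (f : Y ⟶ Spec (CommRingCat.of R)) :
    SqZeroKer (pullback.fst f (Spec.map (CommRingCat.ofHom (Ideal.Quotient.mk J)))) := by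
  intro V a b ha hb
  set j := pullback.fst f (Spec.map (CommRingCat.ofHom (Ideal.Quotient.mk J))) with hj
  apply section_eq_zero_of_locally
  intro x hx
  obtain ⟨_, ⟨W, hW, rfl⟩, hxW, hWV⟩ :=
    Y.isBasis_affineOpens.exists_subset_of_mem_open hx V.2
  refine ⟨W, hWV, hxW, ?_⟩
  let α : CommRingCat.of R ⟶ Γ(Y, W) := Spec.preimage (hW.fromSpec ≫ f)
  have hα : Spec.map α = hW.fromSpec ≫ f := Spec.map_preimage _
  have key : ∀ c : Γ(Y, V), j.app V c = 0 →
      (Y.presheaf.map (homOfLE hWV).op).hom c ∈ Ideal.map α.hom J := by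
    intro c hc
    apply mem_map_of_app_eq_zero f hW α hα
    have hnat := congr($(j.naturality (homOfLE hWV).op) c)
    rw [CommRingCat.comp_apply, CommRingCat.comp_apply] at hnat
    rw [hj] at hc
    erw [hnat, hc, map_zero]
  have h1 := key a ha
  have h2 := key b hb
  rw [map_mul]
  have h3 := Ideal.mul_mem_mul h1 h2
  rw [← Ideal.map_mul, hJ, Ideal.map_bot] at h3
  exact h3

end Groth.Agent.Lib.Malcev24
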