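/-
helper24: total versions of the Mal'cev operation, at the scheme level and in `Over S`.
-/
import Mathlib
import Groth.Agent.Lib.Malcev24b

set_option autoImplicit false
universe u
open CategoryTheory CategoryTheory.Limits AlgebraicGeometry TopologicalSpace Opposite

namespace Groth.Agent.Lib.Malcev24

section Total

variable {Y0 Y P P' : Scheme.{u}} (j : Y0 ⟶ Y) (hj : SqZeroKer j)
  (hsurj : Function.Surjective j.base)

open Classical in
/-- Total version of `malcev`: `k1 - k0 + k2` when `k1`, `k2` agree with `k0` along `j`. -/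
noncomputable def malcevT (k1 k0 k2 : Y ⟶ P) : Y ⟶ P :=
  if h : j ≫ k1 = j ≫ k0 ∧ j ≫ k2 = j ≫ k0 then
    malcev j hj k1 k0 k2 (base_eq_of_comp_eq j hsurj h.1) (base_eq_of_comp_eq j hsurj h.2) h.1 h.2
  else k0

theorem malcevT_right (k1 k0 : Y ⟶ P) (h1 : j ≫ k1 = j ≫ k0) :
    malcevT j hj hsurj k1 k0 k0 = k1 := by
  rw [malcevT, dif_pos ⟨h1, rfl⟩]
  exact malcev_right j hj k1 k0 _ h1

theorem malcevT_left (k0 k2 : Y ⟶ P) (h2 : j ≫ k2 = j ≫ k0) :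
    malcevT j hj hsurj k0 k0 k2 = k2 := by
  rw [malcevT, dif_pos ⟨rfl, h2⟩]
  exact malcev_left j hj k0 k2 _ h2

theorem malcevT_comp (k1 k0 k2 : Y ⟶ P) (h1 : j ≫ k1 = j ≫ k0) (h2 : j ≫ k2 = j ≫ k0)
    (n : P ⟶ P') :
    malcevT j hj hsurj k1 k0 k2 ≫ n = malcevT j hj hsurj (k1 ≫ n) (k0 ≫ n) (k2 ≫ n) := by
  have h1' : j ≫ k1 ≫ n = j ≫ k0 ≫ n := by rw [reassoc_of% h1]
  have h2' : j ≫ k2 ≫ n = j ≫ k0 ≫ n := by rw [reassoc_of% h2]
  rw [malcevT, dif_pos ⟨h1, h2⟩, malcevT, dif_pos ⟨h1', h2'⟩]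
  exact malcev_comp j hj k1 k0 k2 _ _ h1 h2 n _ _ h1' h2'

end Total

section OverS

variable {S : Scheme.{u}} {Y0 : Scheme.{u}} {Y P P' : Over S} (j : Y0 ⟶ Y.left)
  (hj : SqZeroKer j) (hsurj : Function.Surjective j.base)

/-- The Mal'cev operation in `Over S`. -/
noncomputable def malcevO (k1 k0 k2 : Y ⟶ P) : Y ⟶ P :=
  Over.homMk (malcevT j hj hsurj k1.left k0.left k2.left) (by
    by_cases h : j ≫ k1.left = j ≫ k0.left ∧ j ≫ k2.left = j ≫ k0.left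
    · rw [malcevT_comp j hj hsurj _ _ _ h.1 h.2, Over.w, Over.w, Over.w,
        malcevT_right j hj hsurj _ _ rfl]
    · rw [malcevT, dif_neg h, Over.w])

theorem malcevO_right (k1 k0 : Y ⟶ P) (h1 : j ≫ k1.left = j ≫ k0.left) :
    malcevO j hj hsurj k1 k0 k0 = k1 := by
  ext
  exact malcevT_right j hj hsurj _ _ h1

theorem malcevO_left (k0 k2 : Y ⟶ P) (h2 : j ≫ k2.left = j ≫ k0.left) :
    malcevO j hj hsurj k0 k0 k2 = k2 := by
  ext
  exact malcevT_left j hj hsurj _ _ h2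

theorem malcevO_comp (k1 k0 k2 : Y ⟶ P) (h1 : j ≫ k1.left = j ≫ k0.left)
    (h2 : j ≫ k2.left = j ≫ k0.left) (n : P ⟶ P') :
    malcevO j hj hsurj k1 k0 k2 ≫ n = malcevO j hj hsurj (k1 ≫ n) (k0 ≫ n) (k2 ≫ n) := by
  ext
  exact malcevT_comp j hj hsurj _ _ _ h1 h2 n.left

end OverS

end Groth.Agent.Lib.Malcev24
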