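import Mathlib

/-!
# Automorphisms of matrix algebras and `n`-torsion-like invertible modules

Explicit matrix-unit arguments for: every `R`-algebra automorphism of `M_n(R)` is inner iff
every invertible `R`-module `N` with `N^n ≃ R^n` is free.
-/

namespace Groth.Agent.Lib.MatAutPic

open Matrix TensorProduct

universe u
variable {R : Type u} [CommRing R] {n : ℕ}

section Backward

variable (φ : Matrix (Fin n) (Fin n) R ≃ₐ[R] Matrix (Fin n) (Fin n) R)

/-- images of the matrix units -/
noncomputable def E (i j : Fin n) : Matrix (Fin n) (Fin n) R := φ (Matrix.single i j 1)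

lemma E_mul_same (i j k : Fin n) : E φ i j * E φ j k = E φ i k := by
  simp [E, ← map_mul]

lemma E_mul_of_ne (i j k l : Fin n) (h : j ≠ k) : E φ i j * E φ k l = 0 := by
  simp [E, ← map_mul, Matrix.single_mul_single_of_ne (c := (1 : R)) i j k h]

lemma sum_E : ∑ i, E φ i i = 1 := by
  simp only [E]
  rw [← map_sum, Matrix.sum_single_one, map_one]

variable (o : Fin n)

/-- the column module `E₀₀ Rⁿ` -/
noncomputable abbrev colMod : Submodule R (Fin n → R) :=
  LinearMap.range (Matrix.mulVecLin (E φ o o))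

/-- the row module `Rⁿ E₀₀` (as columns of the transpose) -/
noncomputable abbrev rowMod : Submodule R (Fin n → R) :=
  LinearMap.range (Matrix.mulVecLin (E φ o o)ᵀ)

lemma mem_colMod_iff (v : Fin n → R) : v ∈ colMod φ o ↔ E φ o o *ᵥ v = v := by
  constructor
  · rintro ⟨w, rfl⟩
    simp only [Matrix.mulVecLin_apply, Matrix.mulVec_mulVec, E_mul_same]
  · intro h
    exact ⟨v, by simpa using h⟩

lemma mem_rowMod_iff (w : Fin n → R) : w ∈ rowMod φ o ↔ w ᵥ* E φ o o = w := by
  constructor
  · rintro ⟨v, rfl⟩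
    simp only [Matrix.mulVecLin_apply, Matrix.mulVec_transpose, Matrix.vecMul_vecMul, E_mul_same]
  · intro h
    exact ⟨w, by simpa [Matrix.mulVec_transpose] using h⟩

lemma E_mulVec_mem (i : Fin n) (v : Fin n → R) : E φ o i *ᵥ v ∈ colMod φ o := by
  rw [mem_colMod_iff, Matrix.mulVec_mulVec, E_mul_same]

/-- key: outer products of column-module and row-module vectors are multiples of `E₀₀` -/
lemma vecMulVec_eq (v w : Fin n → R) (hv : v ∈ colMod φ o) (hw : w ∈ rowMod φ o) :
    vecMulVec v w = (φ.symm (vecMulVec v w) o o) • E φ o o := by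
  rw [mem_colMod_iff] at hv
  rw [mem_rowMod_iff] at hw
  have h1 : E φ o o * vecMulVec v w * E φ o o = vecMulVec v w := by
    rw [Matrix.mul_vecMulVec, Matrix.vecMulVec_mul, hv, hw]
  have h2 : φ.symm (vecMulVec v w) =
      (φ.symm (vecMulVec v w) o o) • Matrix.single o o (1 : R) := by
    conv_lhs => rw [← h1]
    rw [map_mul, map_mul]
    simp only [E, AlgEquiv.symm_apply_apply]
    rw [Matrix.single_mul_mul_single]
    simp [Matrix.smul_single]
  have h3 := congrArg φ h2
  rw [AlgEquiv.apply_symm_apply, map_smul] at h3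
  exact h3

/-- the pairing `colMod × rowMod → R` -/
noncomputable def pairing : colMod φ o →ₗ[R] rowMod φ o →ₗ[R] R :=
  LinearMap.mk₂ R (fun v w => φ.symm (vecMulVec v.1 w.1) o o)
    (fun v₁ v₂ w => by simp [Matrix.add_vecMulVec])
    (fun c v w => by simp [Matrix.smul_vecMulVec])
    (fun v w₁ w₂ => by simp [Matrix.vecMulVec_add])
    (fun c v w => by simp [Matrix.vecMulVec_smul])

/-- the canonical element of `colMod ⊗ rowMod` -/
noncomputable def tau : colMod φ o ⊗[R] rowMod φ o :=
  ∑ k : Fin n, (⟨E φ o o *ᵥ Pi.single k 1, ⟨_, rfl⟩⟩ : colMod φ o) ⊗ₜ[R]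
    (⟨(E φ o o)ᵀ *ᵥ Pi.single k 1, ⟨_, rfl⟩⟩ : rowMod φ o)

lemma smul_tau (v : colMod φ o) (w : rowMod φ o) :
    (pairing φ o v w) • tau φ o = v ⊗ₜ[R] w := by
  have key := vecMulVec_eq φ o v.1 w.1 v.2 w.2
  have hw := (mem_rowMod_iff φ o w.1).1 w.2
  simp only [tau, Finset.smul_sum, TensorProduct.smul_tmul']
  have h1 : ∀ k : Fin n,
      (pairing φ o v w • (⟨E φ o o *ᵥ Pi.single k 1, ⟨_, rfl⟩⟩ : colMod φ o)) = w.1 k • v := by
    intro k
    apply Subtype.ext
    simp only [SetLike.val_smul, pairing, LinearMap.mk₂_apply]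
    rw [← Matrix.smul_mulVec, ← key, Matrix.vecMulVec_mulVec]
    simp
  simp only [h1]
  simp only [TensorProduct.smul_tmul, ← TensorProduct.tmul_sum]
  congr 1
  apply Subtype.ext
  simp only [AddSubmonoidClass.coe_finsetSum, SetLike.val_smul]
  simp_rw [← Matrix.mulVec_smul, ← Matrix.mulVec_sum]
  have h2 : ∑ k : Fin n, w.1 k • (Pi.single k (1 : R) : Fin n → R) = w.1 := by
    ext j
    simp [Finset.sum_apply, Pi.single_apply]
  rw [h2, Matrix.mulVec_transpose, hw]

lemma lift_pairing_tau : TensorProduct.lift (pairing φ o) (tau φ o) = 1 := by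
  simp only [tau, map_sum, TensorProduct.lift.tmul, pairing, LinearMap.mk₂_apply]
  have h1 : ∀ k : Fin n, vecMulVec (E φ o o *ᵥ Pi.single k 1) ((E φ o o)ᵀ *ᵥ Pi.single k 1) =
      E φ o o * Matrix.single k k (1 : R) * E φ o o := by
    intro k
    rw [Matrix.single_eq_single_vecMulVec_single, Matrix.mul_vecMulVec, Matrix.vecMulVec_mul,
      Matrix.mulVec_transpose]
  simp only [h1]
  rw [← Matrix.sum_apply, ← map_sum, ← Finset.sum_mul, ← Finset.mul_sum, Matrix.sum_single_one,
    mul_one, E_mul_same]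
  simp [E]

/-- `colMod ⊗ rowMod ≃ R` -/
noncomputable def tensorEquiv : colMod φ o ⊗[R] rowMod φ o ≃ₗ[R] R :=
  LinearEquiv.ofLinearMap (TensorProduct.lift (pairing φ o))
    (LinearMap.toSpanSingleton R _ (tau φ o))
    (by
      ext
      simp [lift_pairing_tau])
    (by
      ext v w
      simp [smul_tau])

lemma invertible_colMod : Module.Invertible R (colMod φ o) := .left (tensorEquiv φ o)

/-- `(E₀₀ Rⁿ)ⁿ ≃ Rⁿ` -/
noncomputable def powEquiv : (Fin n → colMod φ o) ≃ₗ[R] (Fin n → R) where
  toFun x := ∑ i, E φ i o *ᵥ (x i).1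
  map_add' x y := by
    simp [Matrix.mulVec_add, Finset.sum_add_distrib]
  map_smul' c x := by
    simp [Matrix.mulVec_smul, Finset.smul_sum]
  invFun v := fun i => ⟨E φ o i *ᵥ v, E_mulVec_mem φ o i v⟩
  left_inv x := by
    funext j
    apply Subtype.ext
    simp only
    rw [Matrix.mulVec_sum]
    simp only [Matrix.mulVec_mulVec]
    rw [Finset.sum_eq_single j]
    · rw [E_mul_same]
      exact (mem_colMod_iff φ o _).1 (x j).2
    · intro i _ hij
      rw [E_mul_of_ne φ o j i o (Ne.symm hij), Matrix.zero_mulVec]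
    · simp
  right_inv v := by
    simp only [Matrix.mulVec_mulVec, E_mul_same]
    rw [← Matrix.sum_mulVec, sum_E, Matrix.one_mulVec]

theorem exists_inner (hn : 0 < n)
    (H : ∀ (N : Type u) [AddCommGroup N] [Module R N] [Module.Invertible R N],
      Nonempty ((Fin n → N) ≃ₗ[R] (Fin n → R)) → Module.Free R N)
    (φ : Matrix (Fin n) (Fin n) R ≃ₐ[R] Matrix (Fin n) (Fin n) R) :
    ∃ P : GL (Fin n) R, ∀ A : Matrix (Fin n) (Fin n) R, φ A = P.1 * A * (P⁻¹).1 := by
  set o : Fin n := ⟨0, hn⟩
  have := invertible_colMod φ o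
  have hfree := H (colMod φ o) ⟨powEquiv φ o⟩
  obtain ⟨g⟩ := (Module.Invertible.free_iff_linearEquiv).1 hfree
  set v₁ : colMod φ o := g.symm 1 with hv₁
  have hgen : ∀ x : colMod φ o, x = g x • v₁ := by
    intro x
    apply g.injective
    simp [hv₁]
  let P : Matrix (Fin n) (Fin n) R := Matrix.of (fun a i => (E φ i o *ᵥ v₁.1) a)
  have hPmul : ∀ c : Fin n → R, P *ᵥ c = ∑ i, c i • (E φ i o *ᵥ v₁.1) := by
    intro c
    ext a
    simp [P, Matrix.mulVec, dotProduct, Finset.sum_apply, mul_comm]
  have hPsurj : Function.Surjective P.mulVec := by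
    intro v
    refine ⟨fun i => g ⟨E φ o i *ᵥ v, E_mulVec_mem φ o i v⟩, ?_⟩
    rw [hPmul]
    have h2 : ∀ i : Fin n,
        g ⟨E φ o i *ᵥ v, E_mulVec_mem φ o i v⟩ • (E φ i o *ᵥ v₁.1) = E φ i i *ᵥ v := by
      intro i
      rw [← Matrix.mulVec_smul]
      have := congrArg Subtype.val (hgen ⟨E φ o i *ᵥ v, E_mulVec_mem φ o i v⟩)
      simp only [SetLike.val_smul] at this
      rw [← this, Matrix.mulVec_mulVec, E_mul_same]
    simp only [h2]
    rw [← Matrix.sum_mulVec, sum_E, Matrix.one_mulVec]
  have hPunit : IsUnit P := Matrix.mulVec_surjective_iff_isUnit.1 hPsurj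
  have hcomm : ∀ A : Matrix (Fin n) (Fin n) R, φ A * P = P * A := by
    intro A
    have hA : ∀ k : Fin n, A * Matrix.single k o (1 : R) = ∑ i, A i k • Matrix.single i o (1 : R) := by
      intro k
      ext a b
      simp only [Matrix.sum_apply, Matrix.smul_apply, Matrix.single_apply, smul_eq_mul]
      by_cases hb : b = o
      · subst hb
        simp [Matrix.mul_apply, Matrix.single_apply]
      · simp [Matrix.mul_apply, Ne.symm hb]
    ext a k
    have h1 : (φ A * P) a k = (φ A *ᵥ (E φ k o *ᵥ v₁.1)) a := by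
      simp [Matrix.mul_apply, Matrix.mulVec, dotProduct, P]
    rw [h1, Matrix.mulVec_mulVec]
    have h2 : φ A * E φ k o = ∑ i, A i k • E φ i o := by
      simp only [E]
      rw [← map_mul, hA k, map_sum]
      simp only [map_smul]
    rw [h2, Matrix.sum_mulVec]
    simp [Matrix.mul_apply, P, Finset.sum_apply, Matrix.smul_mulVec, mul_comm]
  refine ⟨hPunit.unit, fun A => ?_⟩
  have : φ A = φ A * P * (hPunit.unit⁻¹ : GL (Fin n) R).1 := by
    rw [mul_assoc]
    have : P * (hPunit.unit⁻¹ : GL (Fin n) R).1 = 1 := hPunit.mul_val_inv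
    rw [this, mul_one]
  rw [this, hcomm A]
  rfl

end Backward

section Forward

variable (N : Type u) [AddCommGroup N] [Module R N]

/-- a matrix over `R` acting on `Nⁿ` -/
def matActLin (A : Matrix (Fin n) (Fin n) R) : Module.End R (Fin n → N) where
  toFun x := fun i => ∑ j, A i j • x j
  map_add' x y := by
    funext i
    simp [smul_add, Finset.sum_add_distrib]
  map_smul' c x := by
    funext i
    simp [Finset.smul_sum, smul_comm c]

@[simp] lemma matActLin_apply (A : Matrix (Fin n) (Fin n) R) (x : Fin n → N) (i : Fin n) :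
    matActLin N A x i = ∑ j, A i j • x j := rfl

/-- the algebra homomorphism `M_n(R) → End(Nⁿ)` -/
def matAct : Matrix (Fin n) (Fin n) R →ₐ[R] Module.End R (Fin n → N) where
  toFun := matActLin N
  map_one' := by
    ext j x i
    simp [Matrix.one_apply, Pi.single_apply]
  map_mul' A B := by
    ext j x i
    simp only [LinearMap.coe_comp, LinearMap.coe_single, Function.comp_apply, matActLin_apply,
      Module.End.mul_apply, Matrix.mul_apply, Finset.sum_smul, Finset.smul_sum, mul_smul]
    rw [Finset.sum_comm]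
  map_zero' := by
    ext j x i
    simp
  map_add' A B := by
    ext j x i
    simp [add_smul, Finset.sum_add_distrib]
  commutes' c := by
    ext j x i
    simp [Matrix.algebraMap_matrix_apply, Pi.single_apply, Module.algebraMap_end_apply]

@[simp] lemma matAct_apply (A : Matrix (Fin n) (Fin n) R) (x : Fin n → N) (i : Fin n) :
    matAct N A x i = ∑ j, A i j • x j := rfl

variable [Module.Invertible R N]

lemma matAct_bijective : Function.Bijective (matAct (R := R) (n := n) N) := by
  constructor
  · rw [injective_iff_map_eq_zero]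
    intro A hA
    ext i j
    have h1 : ∀ x : N, A i j • x = (0 : R) • x := by
      intro x
      have := congrFun (LinearMap.congr_fun hA (Pi.single j x)) i
      simpa [Pi.single_apply] using this
    exact FaithfulSMul.eq_of_smul_eq_smul h1
  · intro f
    have hsc : ∀ i j : Fin n, ∃ a : R, ∀ x : N, a • x = f (Pi.single j x) i := by
      intro i j
      obtain ⟨a, ha⟩ := (Module.Invertible.toModuleEnd_bijective R N).surjective
        ((LinearMap.proj i).comp (f.comp (LinearMap.single R (fun _ : Fin n => N) j)))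
      exact ⟨a, fun x => by simpa using LinearMap.congr_fun ha x⟩
    choose a ha using hsc
    refine ⟨Matrix.of a, ?_⟩
    ext j x i
    simp only [LinearMap.coe_comp, LinearMap.coe_single, Function.comp_apply, matAct_apply,
      Matrix.of_apply]
    rw [Finset.sum_eq_single j]
    · simp [ha]
    · intro k _ hk
      simp [Pi.single_apply, hk]
    · simp

/-- the automorphism of `M_n(R)` attached to `ψ : Nⁿ ≃ Rⁿ` -/
noncomputable def autOf (ψ : (Fin n → N) ≃ₗ[R] (Fin n → R)) :
    Matrix (Fin n) (Fin n) R ≃ₐ[R] Matrix (Fin n) (Fin n) R :=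
  ((AlgEquiv.ofBijective (matAct N) (matAct_bijective N)).trans (ψ.conjAlgEquiv R)).trans
    LinearMap.toMatrixAlgEquiv'

lemma autOf_mulVec (ψ : (Fin n → N) ≃ₗ[R] (Fin n → R)) (A : Matrix (Fin n) (Fin n) R)
    (y : Fin n → N) : autOf N ψ A *ᵥ ψ y = ψ (matAct N A y) := by
  have : Matrix.toLinAlgEquiv' (autOf N ψ A) = ψ.conjAlgEquiv R (matAct N A) := by
    simp [autOf]
  have h2 := LinearMap.congr_fun this (ψ y)
  simpa [LinearEquiv.conjAlgEquiv_apply] using h2

theorem free_of_inner (hn : 0 < n)
    (H : ∀ φ : Matrix (Fin n) (Fin n) R ≃ₐ[R] Matrix (Fin n) (Fin n) R,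
      ∃ P : GL (Fin n) R, ∀ A : Matrix (Fin n) (Fin n) R, φ A = P.1 * A * (P⁻¹).1)
    (ψ : (Fin n → N) ≃ₗ[R] (Fin n → R)) : Module.Free R N := by
  set o : Fin n := ⟨0, hn⟩
  obtain ⟨P, hP⟩ := H (autOf N ψ)
  -- the map `R → N`
  let h : R →ₗ[R] N :=
    (LinearMap.proj o).comp (ψ.symm.toLinearMap.comp
      ((Matrix.mulVecLin P.1).comp (LinearMap.toSpanSingleton R (Fin n → R) (Pi.single o 1))))
  have hsurj : Function.Surjective h := by
    intro x
    set y : Fin n → N := Pi.single o x with hy
    have hTy : matAct N (Matrix.single o o (1 : R)) y = y := by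
      funext i
      simp only [matAct_apply, hy]
      by_cases hi : i = o
      · rw [hi, Finset.sum_eq_single o]
        · simp
        · intro k _ hk
          simp [Pi.single_apply, hk]
        · simp
      · simp [Ne.symm hi, Pi.single_apply, hi]
    have h1 := autOf_mulVec N ψ (Matrix.single o o (1 : R)) y
    rw [hTy, hP, ← Matrix.mulVec_mulVec, ← Matrix.mulVec_mulVec] at h1
    set z : Fin n → R := (P⁻¹ : GL (Fin n) R).1 *ᵥ ψ y with hz
    have h2 : Matrix.single o o (1 : R) *ᵥ z = z o • Pi.single o 1 := by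
      ext i
      simp only [Matrix.mulVec, dotProduct, Matrix.single_apply, Pi.smul_apply, Pi.single_apply,
        smul_eq_mul]
      by_cases hi : i = o
      · rw [hi]; simp
      · simp [hi, Ne.symm hi]
    refine ⟨z o, ?_⟩
    simp only [h, LinearMap.coe_comp, Function.comp_apply, LinearMap.toSpanSingleton_apply,
      LinearEquiv.coe_coe, Matrix.mulVecLin_apply, LinearMap.coe_proj, Function.eval]
    rw [← h2, h1, LinearEquiv.symm_apply_apply, hy]
    simp
  have hbij := Module.Invertible.bijective_of_surjective hsurj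
  exact Module.Free.of_equiv (LinearEquiv.ofBijective h hbij)

end Forward

end Groth.Agent.Lib.MatAutPic
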