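import Groth.Agent.Lib.MatAutPic
import Groth.Agent.Lib.InvertiblePow

/-!
# The module of liftings of an automorphism of `M_n(A)`

`L = {M | M N = α(N) M ∀ N}` is isomorphic to the column module `E₀₀ Aⁿ`, hence invertible, and
`⨂ⁿ L ≃ A`.
-/

namespace Groth.Agent.Lib.MatAutPic

open Matrix TensorProduct

universe u
variable {R : Type u} [CommRing R] {n : ℕ}
variable (φ : Matrix (Fin n) (Fin n) R ≃ₐ[R] Matrix (Fin n) (Fin n) R) (o : Fin n)

/-- the matrix with columns `E_{io} v` -/
noncomputable def colMat (v : Fin n → R) : Matrix (Fin n) (Fin n) R :=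
  Matrix.of (fun a i => (E φ i o *ᵥ v) a)

lemma colMat_comm (v : Fin n → R) (A : Matrix (Fin n) (Fin n) R) :
    φ A * colMat φ o v = colMat φ o v * A := by
  have hA : ∀ k : Fin n, A * Matrix.single k o (1 : R) = ∑ i, A i k • Matrix.single i o (1 : R) := by
    intro k
    ext a b
    simp only [Matrix.sum_apply, Matrix.smul_apply, Matrix.single_apply, smul_eq_mul]
    by_cases hb : b = o
    · subst hb
      simp [Matrix.mul_apply, Matrix.single_apply]
    · simp [Matrix.mul_apply, Ne.symm hb]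
  ext a k
  have h1 : (φ A * colMat φ o v) a k = (φ A *ᵥ (E φ k o *ᵥ v)) a := by
    simp [Matrix.mul_apply, Matrix.mulVec, dotProduct, colMat]
  rw [h1, Matrix.mulVec_mulVec]
  have h2 : φ A * E φ k o = ∑ i, A i k • E φ i o := by
    simp only [E]
    rw [← map_mul, hA k, map_sum]
    simp only [map_smul]
  rw [h2, Matrix.sum_mulVec]
  simp [Matrix.mul_apply, colMat, Finset.sum_apply, Matrix.smul_mulVec, mul_comm]

/-- the module of liftings -/
abbrev liftMod : Submodule R (Matrix (Fin n) (Fin n) R) :=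
  LinearMap.ker (LinearMap.mul R (Matrix (Fin n) (Fin n) R) -
    (LinearMap.lcomp R (Matrix (Fin n) (Fin n) R) φ.toLinearMap).comp
      (LinearMap.mul R (Matrix (Fin n) (Fin n) R)).flip)

lemma mem_liftMod_iff (M : Matrix (Fin n) (Fin n) R) :
    M ∈ liftMod φ ↔ ∀ A, M * A = φ A * M := by
  rw [LinearMap.mem_ker, LinearMap.sub_apply, sub_eq_zero]
  constructor
  · intro h A
    simpa using LinearMap.congr_fun h A
  · intro h
    ext A : 1
    simpa using h A

lemma colMat_mulVec_single (v : Fin n → R) (i : Fin n) :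
    colMat φ o v *ᵥ Pi.single i 1 = E φ i o *ᵥ v := by
  ext a
  simp [colMat, Matrix.mulVec, dotProduct, Pi.single_apply]

/-- `L ≃ E₀₀ Rⁿ` -/
noncomputable def liftModEquiv : liftMod φ ≃ₗ[R] colMod φ o where
  toFun M := ⟨M.1 *ᵥ Pi.single o 1, by
    rw [mem_colMod_iff, Matrix.mulVec_mulVec]
    have h := (mem_liftMod_iff φ M.1).1 M.2 (Matrix.single o o 1)
    rw [show E φ o o = φ (Matrix.single o o 1) from rfl, ← h, ← Matrix.mulVec_mulVec]
    congr 1
    ext a
    simp [Matrix.mulVec, dotProduct, Matrix.single_apply, Pi.single_apply, eq_comm]⟩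
  map_add' M M' := by
    apply Subtype.ext
    simp only [Submodule.coe_add, Matrix.add_mulVec]
  map_smul' c M := by
    apply Subtype.ext
    simp only [SetLike.val_smul, Matrix.smul_mulVec, RingHom.id_apply]
  invFun v := ⟨colMat φ o v.1, (mem_liftMod_iff φ _).2 fun A => (colMat_comm φ o v.1 A).symm⟩
  left_inv M := by
    apply Subtype.ext
    simp only
    ext a i
    have h := (mem_liftMod_iff φ M.1).1 M.2 (Matrix.single i o 1)
    have h1 : colMat φ o (M.1 *ᵥ Pi.single o 1) a i = (E φ i o *ᵥ (M.1 *ᵥ Pi.single o 1)) a := rfl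
    rw [h1, Matrix.mulVec_mulVec, show E φ i o = φ (Matrix.single i o 1) from rfl, ← h,
      ← Matrix.mulVec_mulVec]
    have h2 : Matrix.single i o (1 : R) *ᵥ Pi.single o 1 = Pi.single i 1 := by
      ext b
      simp [Matrix.mulVec, dotProduct, Matrix.single_apply, Pi.single_apply, eq_comm]
    rw [h2]
    simp [Matrix.mulVec, dotProduct, Pi.single_apply]
  right_inv v := by
    apply Subtype.ext
    simp only
    rw [colMat_mulVec_single]
    exact (mem_colMod_iff φ o v.1).1 v.2

lemma invertible_liftMod (hn : 0 < n) : Module.Invertible R (liftMod φ) :=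
  have := invertible_colMod φ ⟨0, hn⟩
  Module.Invertible.congr (liftModEquiv φ ⟨0, hn⟩).symm

theorem nonempty_tensorPower_liftMod_equiv (hn : 0 < n) :
    Nonempty ((⨂[R] _ : Fin n, liftMod φ) ≃ₗ[R] R) := by
  have := invertible_liftMod φ hn
  exact Groth.Agent.Lib.InvertiblePow.nonempty_tensorPower_equiv
    ((LinearEquiv.piCongrRight fun _ => liftModEquiv φ ⟨0, hn⟩) ≪≫ₗ powEquiv φ ⟨0, hn⟩)

end Groth.Agent.Lib.MatAutPic
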