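import Mathlib.CategoryTheory.Adjunction.Unique
import Mathlib.CategoryTheory.Adjunction.Basic

/-!
# A mate identity for base change maps (helper39)

Abstract form of: `(g' ≫ f)^* f_* F ≅ g'^* f^* f_* F ⟶ g'^* F` equals
`(f' ≫ g)^* f_* F ≅ f'^* g^* f_* F ⟶ f'^* f'_* g'^* F ⟶ g'^* F` (base change map, then counit).
-/

universe v₁ v₂ v₃ v₄ u₁ u₂ u₃ u₄

namespace Groth.Agent.Lib.MateBC39

open CategoryTheory

variable {𝒳 : Type u₁} [Category.{v₁} 𝒳] {𝒴 : Type u₂} [Category.{v₂} 𝒴]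
  {𝒳' : Type u₃} [Category.{v₃} 𝒳'] {𝒴' : Type u₄} [Category.{v₄} 𝒴']
  {Lf : 𝒴 ⥤ 𝒳} {Rf : 𝒳 ⥤ 𝒴} (Af : Lf ⊣ Rf)
  {Lg : 𝒴 ⥤ 𝒴'} {Rg : 𝒴' ⥤ 𝒴} (Ag : Lg ⊣ Rg)
  {Lf' : 𝒴' ⥤ 𝒳'} {Rf' : 𝒳' ⥤ 𝒴'} (Af' : Lf' ⊣ Rf')
  {Lg' : 𝒳 ⥤ 𝒳'} {Rg' : 𝒳' ⥤ 𝒳} (Ag' : Lg' ⊣ Rg')
  {Lh : 𝒴 ⥤ 𝒳'} {Rh : 𝒳' ⥤ 𝒴} (Ah : Lh ⊣ Rh)
  {Lh' : 𝒴 ⥤ 𝒳'} {Rh' : 𝒳' ⥤ 𝒴} (Ah' : Lh' ⊣ Rh')
  (c₁ : Rg' ⋙ Rf ≅ Rh) (c₂ : Rf' ⋙ Rg ≅ Rh') (eR : Rh ≅ Rh') (eL : Lh ≅ Lh')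

/-- the abstract base change map `g^* f_* F ⟶ f'_* g'^* F` -/
def bc (F : 𝒳) : Lg.obj (Rf.obj F) ⟶ Rf'.obj (Lg'.obj F) :=
  (Ag.homEquiv _ _).symm
    (Rf.map (Ag'.unit.app F) ≫ c₁.hom.app _ ≫ eR.hom.app _ ≫ c₂.inv.app _)

lemma lhs_transpose (F : 𝒳) :
    Ah.homEquiv _ _ ((Adjunction.leftAdjointUniq Ah ((Af.comp Ag').ofNatIsoRight c₁)).hom.app
      (Rf.obj F) ≫ Lg'.map (Af.counit.app F)) =
      Rf.map (Ag'.unit.app F) ≫ c₁.hom.app _ := by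
  rw [Adjunction.homEquiv_naturality_right, Adjunction.homEquiv_leftAdjointUniq_hom_app]
  simp only [Adjunction.ofNatIsoRight_unit, NatTrans.comp_app, Functor.whiskerLeft_app,
    Adjunction.comp_unit_app, Category.assoc, Functor.comp_obj, Functor.id_obj]
  have h1 : c₁.hom.app (Lg'.obj (Lf.obj (Rf.obj F))) ≫ Rh.map (Lg'.map (Af.counit.app F)) =
      Rf.map (Rg'.map (Lg'.map (Af.counit.app F))) ≫ c₁.hom.app (Lg'.obj F) :=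
    (c₁.hom.naturality (Lg'.map (Af.counit.app F))).symm
  have h2 : Ag'.unit.app (Lf.obj (Rf.obj F)) ≫ Rg'.map (Lg'.map (Af.counit.app F)) =
      Af.counit.app F ≫ Ag'.unit.app F := (Ag'.unit.naturality (Af.counit.app F)).symm
  rw [h1, ← Rf.map_comp_assoc, h2, Rf.map_comp_assoc, Adjunction.right_triangle_components_assoc]

lemma rhs_transpose (F : 𝒳) :
    Ah'.homEquiv _ _ ((Adjunction.leftAdjointUniq Ah' ((Ag.comp Af').ofNatIsoRight c₂)).hom.app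
      (Rf.obj F) ≫ Lf'.map (bc Ag Ag' c₁ c₂ eR F) ≫ Af'.counit.app (Lg'.obj F)) =
      Rf.map (Ag'.unit.app F) ≫ c₁.hom.app _ ≫ eR.hom.app _ := by
  rw [Adjunction.homEquiv_naturality_right, Adjunction.homEquiv_leftAdjointUniq_hom_app]
  simp only [Adjunction.ofNatIsoRight_unit, NatTrans.comp_app, Functor.whiskerLeft_app,
    Adjunction.comp_unit_app, Category.assoc, Functor.comp_obj, Functor.id_obj, Functor.map_comp]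
  have h1 : c₂.hom.app (Lf'.obj (Lg.obj (Rf.obj F))) ≫ Rh'.map (Lf'.map (bc Ag Ag' c₁ c₂ eR F)) =
      Rg.map (Rf'.map (Lf'.map (bc Ag Ag' c₁ c₂ eR F))) ≫ c₂.hom.app _ :=
    (c₂.hom.naturality (Lf'.map (bc Ag Ag' c₁ c₂ eR F))).symm
  have h1' : c₂.hom.app (Lf'.obj (Rf'.obj (Lg'.obj F))) ≫ Rh'.map (Af'.counit.app (Lg'.obj F)) =
      Rg.map (Rf'.map (Af'.counit.app (Lg'.obj F))) ≫ c₂.hom.app _ :=
    (c₂.hom.naturality (Af'.counit.app (Lg'.obj F))).symm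
  have h2 : Af'.unit.app (Lg.obj (Rf.obj F)) ≫ Rf'.map (Lf'.map (bc Ag Ag' c₁ c₂ eR F)) =
      bc Ag Ag' c₁ c₂ eR F ≫ Af'.unit.app _ := (Af'.unit.naturality (bc Ag Ag' c₁ c₂ eR F)).symm
  have h3 : Ag.unit.app (Rf.obj F) ≫ Rg.map (bc Ag Ag' c₁ c₂ eR F) =
      Rf.map (Ag'.unit.app F) ≫ c₁.hom.app _ ≫ eR.hom.app _ ≫ c₂.inv.app _ := by
    unfold bc
    exact (Ag.homEquiv_unit _ _ _).symm.trans (Equiv.apply_symm_apply _ _)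
  rw [reassoc_of% h1, h1', ← Rg.map_comp_assoc, ← Rg.map_comp_assoc, h2, Category.assoc,
    Adjunction.right_triangle_components, Category.comp_id, reassoc_of% h3]
  simp

include Ah Ah' in
theorem mate_identity
    (compat : ∀ (M : 𝒴) (N : 𝒳') (ψ : Lh'.obj M ⟶ N),
      Ah.homEquiv _ _ (eL.hom.app M ≫ ψ) ≫ eR.hom.app N = Ah'.homEquiv _ _ ψ) (F : 𝒳) :
    (Adjunction.leftAdjointUniq Ah ((Af.comp Ag').ofNatIsoRight c₁)).hom.app (Rf.obj F) ≫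
        Lg'.map (Af.counit.app F) =
      eL.hom.app (Rf.obj F) ≫
        (Adjunction.leftAdjointUniq Ah' ((Ag.comp Af').ofNatIsoRight c₂)).hom.app (Rf.obj F) ≫
          Lf'.map (bc Ag Ag' c₁ c₂ eR F) ≫ Af'.counit.app (Lg'.obj F) := by
  apply (Ah.homEquiv _ _).injective
  refine (lhs_transpose Af Ag' Ah c₁ F).trans ?_
  have h := compat _ _ ((Adjunction.leftAdjointUniq Ah' ((Ag.comp Af').ofNatIsoRight c₂)).hom.app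
    (Rf.obj F) ≫ Lf'.map (bc Ag Ag' c₁ c₂ eR F) ≫ Af'.counit.app (Lg'.obj F))
  rw [rhs_transpose] at h
  rw [← cancel_mono (eR.hom.app (Lg'.obj F))]
  exact (Category.assoc _ _ _).trans h.symm

end Groth.Agent.Lib.MateBC39
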