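import Groth.Agent.Lib.MatlisLC9
import Groth.Agent.Lib.DepthBasic

/-!
# Associated primes of the Matlis dual of top local cohomology (helper9)
-/

set_option autoImplicit false
universe u

namespace Groth.Agent.Lib.MatlisLC9

open Groth.Agent.Lib.LocCohLES Groth.Agent.Lib.LocCohTorsion Groth.Agent.Lib.LocCohH0
  Groth.Agent.Lib.H29LocCohReg Groth.Agent.Lib.H29TorsionInj Groth.Agent.Lib.H47Reflexive
  Groth.Agent.Lib.H29ExtSupport IsLocalRing
open scoped Pointwise

variable {A : Type u} [CommRing A] [IsNoetherianRing A] [IsLocalRing A]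
  (E : Type u) [AddCommGroup E] [Module A E]
  (f : IsLocalRing.ResidueField A →ₗ[A] E) (hf : InjHull.IsInjectiveHull f)

/-- `Ass D^n(M) ⊆ Ass M` in the unmixed case. -/
theorem ass_D_subset (n : ℕ) (M : Type u) [AddCommGroup M] [Module A M] [Module.Finite A M]
    (hn : Module.supportDim A M = (n : WithBot ℕ∞))
    (hA : ∀ q ∈ associatedPrimes A M, ringKrullDim (A ⧸ q) = (n : WithBot ℕ∞)) :
    associatedPrimes A (D A E n M) ⊆ associatedPrimes A M := by
  intro p hp
  by_contra hpM
  obtain ⟨hpp, φ, hφ⟩ := isAssociatedPrime_iff.1 hp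
  haveI := hpp
  have hann : Module.annihilator A M ≤ p := by
    intro a ha
    rw [hφ, Submodule.mem_colon_singleton, Submodule.mem_bot]
    ext y
    change a • φ y = 0
    rw [← map_smul, smul_H_eq_zero_of_mem_annihilator _ _ _ ha, map_zero]
  have hpS : (⟨p, hpp⟩ : PrimeSpectrum A) ∈ Module.support A M :=
    Module.mem_support_iff_of_finite.2 hann
  have hdp : ringKrullDim (A ⧸ p) ≤ (n : WithBot ℕ∞) :=
    hn ▸ Groth.Agent.Lib.DepthRees.ringKrullDim_quotient_le_supportDim ⟨p, hpp⟩ hpS
  have hnot : ∀ q ∈ associatedPrimes A M, ¬ p ≤ q := by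
    intro q hq hle
    have hne : p ≠ q := fun h => hpM (h ▸ hq)
    obtain ⟨x, hxq, hxp⟩ := SetLike.exists_of_lt (lt_of_le_of_ne hle hne)
    have h1 := Groth.Agent.Lib.DepthBasic.ringKrullDim_quotient_succ_le_of_lt hle hxq hxp
    rw [hA q hq] at h1
    exact not_succ_le n (h1.trans hdp)
  have hex : ∃ x ∈ p, ∀ q ∈ associatedPrimes A M, x ∉ q := by
    classical
    by_contra hno
    push Not at hno
    let S : Finset (Ideal A) := (associatedPrimes.finite A M).toFinset
    have hsub : ((p : Ideal A) : Set A) ⊆ ⋃ q ∈ (↑S : Set (Ideal A)), (id q : Ideal A) := by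
      intro x hx
      obtain ⟨q, hq, hxq⟩ := hno x hx
      exact Set.mem_biUnion (Finset.mem_coe.2 ((Set.Finite.mem_toFinset _).2 hq)) hxq
    obtain ⟨q, hq, hle⟩ := (Ideal.subset_union_prime (f := id) ⊥ ⊥
      (fun i hi _ _ => ((Set.Finite.mem_toFinset _).1 hi).isPrime)).1 hsub
    exact hnot q ((Set.Finite.mem_toFinset _).1 hq) hle
  obtain ⟨x, hxp, hx⟩ := hex
  have hxreg : IsSMulRegular M x := by
    by_contra hnr
    have : x ∈ ⋃ q ∈ associatedPrimes A M, (q : Set A) := by
      rw [biUnion_associatedPrimes_eq_compl_regular A M]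
      exact hnr
    obtain ⟨q, hq, hxq⟩ := Set.mem_iUnion₂.1 this
    exact hx q hq hxq
  have hxm : x ∈ maximalIdeal A := le_maximalIdeal hpp.ne_top hxp
  have hdim := Groth.Agent.Lib.NonVanish9.supportDim_quot_add_one M hxm hxreg
  rw [hn] at hdim
  haveI : Subsingleton (LocCoh.H (maximalIdeal A) n
      (M ⧸ LinearMap.range (mulMap (M := M) x))) :=
    Groth.Agent.Lib.LocCohVanishing.subsingleton_H_of_supportDim_lt (maximalIdeal A) _ n
      (lt_of_add_one_eq hdim)
  have hxφ : x • φ = 0 := by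
    have : x ∈ (⊥ : Submodule A (D A E n M)).colon {φ} := hφ ▸ hxp
    rwa [Submodule.mem_colon_singleton, Submodule.mem_bot] at this
  have hφ0 : φ = 0 := by
    ext y
    obtain ⟨y', rfl⟩ := smul_surjective_of_regular (maximalIdeal A) n M hxreg inferInstance y
    rw [map_smul]
    exact LinearMap.congr_fun hxφ y'
  apply hpp.ne_top
  rw [hφ, hφ0, Ideal.eq_top_iff_one, Submodule.mem_colon_singleton, smul_zero]
  exact Submodule.zero_mem _

variable [IsAdicComplete (maximalIdeal A) A]

include hf in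
/-- `Ass M ⊆ Ass D^n(M)` in the unmixed case. -/
theorem ass_subset_ass_D (n : ℕ) (M : Type u) [AddCommGroup M] [Module A M] [Module.Finite A M]
    (hn : Module.supportDim A M = (n : WithBot ℕ∞))
    (hA : ∀ q ∈ associatedPrimes A M, ringKrullDim (A ⧸ q) = (n : WithBot ℕ∞)) :
    associatedPrimes A M ⊆ associatedPrimes A (D A E n M) := by
  intro q hq
  obtain ⟨hqp, m0, hm0⟩ := isAssociatedPrime_iff.1 hq
  haveI := hqp
  set K : Submodule A M := LinearMap.ker (LocalizedModule.mkLinearMap q.primeCompl M) with hKdef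
  have hK : ∀ m, m ∈ K ↔ ∃ s ∈ q.primeCompl, s • m = 0 := fun m =>
    LocalizedModule.mem_ker_mkLinearMap_iff
  have hreg : ∀ a, a ∉ q → IsSMulRegular (M ⧸ K) a := by
    intro a ha
    rw [isSMulRegular_iff_right_eq_zero_of_smul]
    intro z hz
    obtain ⟨m, rfl⟩ := Submodule.Quotient.mk_surjective _ z
    rw [← Submodule.Quotient.mk_smul, Submodule.Quotient.mk_eq_zero, hK] at hz
    obtain ⟨s, hs, hsm⟩ := hz
    rw [Submodule.Quotient.mk_eq_zero, hK]
    exact ⟨s * a, q.primeCompl.mul_mem hs ha, by rw [mul_smul]; exact hsm⟩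
  have hqN : (⟨q, hqp⟩ : PrimeSpectrum A) ∈ Module.support A (M ⧸ K) := by
    rw [Module.mem_support_iff_exists_annihilator]
    refine ⟨Submodule.Quotient.mk m0, ?_⟩
    intro a ha
    rw [Submodule.mem_annihilator_span_singleton, ← Submodule.Quotient.mk_smul,
      Submodule.Quotient.mk_eq_zero, hK] at ha
    obtain ⟨s, hs, hsm⟩ := ha
    have hsa : s * a ∈ q := by
      rw [hm0, Submodule.mem_colon_singleton, Submodule.mem_bot, mul_smul]
      exact hsm
    exact (hqp.mem_or_mem hsa).resolve_left hs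
  have hdimN : Module.supportDim A (M ⧸ K) = (n : WithBot ℕ∞) := by
    apply le_antisymm
    · rw [← hn]
      exact Module.supportDim_le_of_surjective _ (Submodule.mkQ_surjective K)
    · rw [← hA q hq]
      exact Groth.Agent.Lib.DepthRees.ringKrullDim_quotient_le_supportDim ⟨q, hqp⟩ hqN
  haveI := finite_D E f hf n M
  have hannD : Module.annihilator A (D A E n M) ≤ q := by
    intro a ha
    by_contra haq
    have h1 : ∀ y : LocCoh.H (maximalIdeal A) n M, a • y = 0 :=
      smul_eq_zero_of_dual E f hf _ (fun ψ => Module.mem_annihilator.1 ha ψ)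
    have h2 : ∀ y : LocCoh.H (maximalIdeal A) n (M ⧸ K), a • y = 0 := by
      intro y
      obtain ⟨y', rfl⟩ := Hmap_surjective_of_supportDim_le (maximalIdeal A) n K.mkQ
        (Submodule.mkQ_surjective K) hn.le y
      rw [← map_smul, h1, map_zero]
    exact false_of_regular_kills n (M ⧸ K) hdimN (hreg a haq) h2
  obtain ⟨p, hpmin, hpq⟩ := Ideal.exists_minimalPrimes_le hannD
  have hpD : p ∈ associatedPrimes A (D A E n M) :=
    Module.associatedPrimes.minimalPrimes_annihilator_subset_associatedPrimes A _ hpmin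
  have hpM := ass_D_subset E n M hn hA hpD
  by_cases hpq' : p = q
  · exact hpq' ▸ hpD
  · exfalso
    haveI := hpmin.1.1
    obtain ⟨x, hxq, hxp⟩ := SetLike.exists_of_lt (lt_of_le_of_ne hpq hpq')
    have h1 := Groth.Agent.Lib.DepthBasic.ringKrullDim_quotient_succ_le_of_lt hpq hxq hxp
    rw [hA q hq, hA p hpM] at h1
    exact not_succ_le n h1

end Groth.Agent.Lib.MatlisLC9
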