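import Groth.Agent.Lib.WeaklyEtaleField96
import Groth.Agent.Lib.HenselPair
import Groth.Agent.S1977
import Groth.Prelude.Def_EtAlgD

/-!
# The largest weakly étale subalgebra over a field (helper96)

* `mem_maxWeaklyEtale_iff`: `y ∈ EtAlgD.maxWeaklyEtale K A` iff `y` is a root of a separable
  polynomial over `K`.
* `maxWeaklyEtale_map_val`, `bijOn_mk_nilradical`, `isField_maxWeaklyEtale`,
  `isSeparable_maxWeaklyEtale`.
-/

namespace Groth.Agent.Lib.MaxWeaklyEtale96

open Polynomial Groth.Agent.Lib.StepWeaklyEtale96 Groth.Agent.Lib.WeaklyEtaleFibre96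
  Groth.Agent.Lib.WeaklyEtaleField96

universe u

variable (K : Type u) [Field K] (A : Type u) [CommRing A] [Algebra K A]

instance : Algebra.WeaklyEtale K ↥(EtAlgD.maxWeaklyEtale K A) := Groth.Agent.S1977.result K A

variable {K A}

theorem aeval_subtype (S : Subalgebra K A) (y : S) (g : K[X]) :
    ((aeval y g : S) : A) = aeval (y : A) g :=
  (Polynomial.aeval_algHom_apply S.val y g).symm

theorem mem_maxWeaklyEtale_iff (y : A) :
    y ∈ EtAlgD.maxWeaklyEtale K A ↔ ∃ g : K[X], g.Separable ∧ aeval y g = 0 := by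
  constructor
  · intro hy
    obtain ⟨g, hg, h0⟩ :=
      exists_separable_aeval_eq_zero K ↥(EtAlgD.maxWeaklyEtale K A) ⟨y, hy⟩
    refine ⟨g, hg, ?_⟩
    have := aeval_subtype (EtAlgD.maxWeaklyEtale K A) ⟨y, hy⟩ g
    rw [h0] at this
    exact this.symm
  · rintro ⟨g, hg, h0⟩
    have hwe : Algebra.WeaklyEtale K ↥(Algebra.adjoin K ({y} : Set A)) := by
      refine Groth.Agent.S1977.weaklyEtale_adjoin K A {y} ?_
      rintro x rfl
      exact ⟨g, hg, h0⟩
    have hle : Algebra.adjoin K ({y} : Set A) ≤ EtAlgD.maxWeaklyEtale K A := le_sSup hwe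
    exact hle (Algebra.subset_adjoin rfl)

theorem maxWeaklyEtale_map_val (A' : Subalgebra K A) :
    (EtAlgD.maxWeaklyEtale K A').map A'.val = EtAlgD.maxWeaklyEtale K A ⊓ A' := by
  ext x
  rw [Subalgebra.mem_map, Algebra.mem_inf]
  constructor
  · rintro ⟨y, hy, rfl⟩
    obtain ⟨g, hg, h0⟩ := (mem_maxWeaklyEtale_iff y).mp hy
    refine ⟨(mem_maxWeaklyEtale_iff _).mpr ⟨g, hg, ?_⟩, y.2⟩
    have := aeval_subtype A' y g
    rw [h0] at this
    exact this.symm
  · rintro ⟨hx, hxA'⟩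
    obtain ⟨g, hg, h0⟩ := (mem_maxWeaklyEtale_iff x).mp hx
    refine ⟨⟨x, hxA'⟩, (mem_maxWeaklyEtale_iff _).mpr ⟨g, hg, Subtype.ext ?_⟩, rfl⟩
    rw [aeval_subtype A' ⟨x, hxA'⟩ g]
    exact h0

theorem exists_monic_separable {y : A} {g : K[X]} (hg : g.Separable) (h0 : aeval y g = 0) :
    ∃ f : K[X], f.Monic ∧ f.Separable ∧ aeval y f = 0 := by
  have hne : g ≠ 0 := hg.ne_zero
  have hlc : g.leadingCoeff ≠ 0 := leadingCoeff_ne_zero.mpr hne
  refine ⟨g * C g.leadingCoeff⁻¹, monic_mul_leadingCoeff_inv hne, ?_, ?_⟩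
  · exact hg.mul_unit ((isUnit_C.mpr (isUnit_iff_ne_zero.mpr (inv_ne_zero hlc))))
  · rw [map_mul, h0, zero_mul]

theorem bijOn_mk_nilradical :
    Set.BijOn (Ideal.Quotient.mkₐ K (nilradical A)) (EtAlgD.maxWeaklyEtale K A)
      (EtAlgD.maxWeaklyEtale K (A ⧸ nilradical A)) := by
  refine ⟨?_, ?_, ?_⟩
  · intro y hy
    obtain ⟨g, hg, h0⟩ := (mem_maxWeaklyEtale_iff y).mp hy
    refine (mem_maxWeaklyEtale_iff _).mpr ⟨g, hg, ?_⟩
    rw [Polynomial.aeval_algHom_apply, h0, map_zero]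
  · intro y₁ hy₁ y₂ hy₂ h
    have hd : y₁ - y₂ ∈ nilradical A := by
      rw [← Ideal.Quotient.eq]
      exact h
    have hdM : y₁ - y₂ ∈ EtAlgD.maxWeaklyEtale K A := Subalgebra.sub_mem _ hy₁ hy₂
    haveI : IsReduced ↥(EtAlgD.maxWeaklyEtale K A) :=
      isReduced_of_weaklyEtale_field K _
    have hnil : IsNilpotent (⟨y₁ - y₂, hdM⟩ : ↥(EtAlgD.maxWeaklyEtale K A)) := by
      obtain ⟨n, hn⟩ := mem_nilradical.mp hd
      exact ⟨n, Subtype.ext (by simpa using hn)⟩
    have := congrArg Subtype.val hnil.eq_zero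
    exact sub_eq_zero.mp this
  · intro z hz
    obtain ⟨g, hg, h0⟩ := (mem_maxWeaklyEtale_iff z).mp hz
    obtain ⟨f, hfm, hfs, hf0⟩ := exists_monic_separable hg h0
    obtain ⟨y, rfl⟩ := Ideal.Quotient.mk_surjective z
    haveI : HenselianRing A (nilradical A) :=
      Groth.Agent.Lib.HenselPair.henselian_of_nilpotent _ (fun x hx => mem_nilradical.mp hx)
    have hmk : ∀ h : K[X], Ideal.Quotient.mk (nilradical A) (aeval y h) =
        aeval (Ideal.Quotient.mk (nilradical A) y) h := fun h =>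
      (Polynomial.aeval_algHom_apply (Ideal.Quotient.mkₐ K (nilradical A)) y h).symm
    have h1 : (f.map (algebraMap K A)).eval y ∈ nilradical A := by
      rw [Polynomial.eval_map_algebraMap, ← Ideal.Quotient.eq_zero_iff_mem, hmk, hf0]
    have h2 : IsUnit (Ideal.Quotient.mk (nilradical A)
        ((f.map (algebraMap K A)).derivative.eval y)) := by
      rw [Polynomial.derivative_map, Polynomial.eval_map_algebraMap, hmk]
      obtain ⟨a, b, hab⟩ := hfs
      have := congrArg (aeval (Ideal.Quotient.mk (nilradical A) y)) hab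
      rw [map_add, map_mul, map_mul, hf0, mul_zero, zero_add, map_one] at this
      exact IsUnit.of_mul_eq_one _ (by rwa [mul_comm] at this)
    obtain ⟨a, ha, haa⟩ := HenselianRing.is_henselian (f.map (algebraMap K A))
      (hfm.map _) y h1 h2
    refine ⟨a, (mem_maxWeaklyEtale_iff a).mpr ⟨f, hfs, ?_⟩, ?_⟩
    · rw [← Polynomial.eval_map_algebraMap]
      exact ha
    · exact (Ideal.Quotient.eq.mpr haa)

theorem isField_maxWeaklyEtale (hA : ∀ e : A, IsIdempotentElem e → e = 0 ∨ e = 1)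
    [Nontrivial A] : IsField ↥(EtAlgD.maxWeaklyEtale K A) := by
  refine ⟨⟨0, 1, fun h => zero_ne_one (congrArg Subtype.val h)⟩, mul_comm, ?_⟩
  intro a ha
  obtain ⟨b, hb⟩ := vnr_of_weaklyEtale_field K ↥(EtAlgD.maxWeaklyEtale K A) a
  have hidem : IsIdempotentElem ((a * b : ↥(EtAlgD.maxWeaklyEtale K A)) : A) := by
    have : (a * b) * (a * b) = a * b := by
      calc (a * b) * (a * b) = (a * b * a) * b := by ring
        _ = a * b := by rw [hb]
    exact congrArg Subtype.val this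
  rcases hA _ hidem with h0 | h1
  · exfalso
    apply ha
    have : a * b = 0 := Subtype.ext h0
    rw [← hb, this, zero_mul]
  · exact ⟨b, Subtype.ext h1⟩

theorem isSeparable_maxWeaklyEtale :
    Algebra.IsSeparable K ↥(EtAlgD.maxWeaklyEtale K A) := by
  rw [Algebra.isSeparable_def]
  intro x
  obtain ⟨g, hg, h0⟩ := exists_separable_aeval_eq_zero K ↥(EtAlgD.maxWeaklyEtale K A) x
  exact hg.of_dvd (minpoly.dvd K x h0)

end Groth.Agent.Lib.MaxWeaklyEtale96
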