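import Groth.Prelude.Def_CAlgX
import Mathlib.LinearAlgebra.Matrix.ToLin
import Mathlib.LinearAlgebra.Matrix.Determinant.Basic
import Mathlib.LinearAlgebra.Matrix.Adjugate
import Mathlib.RingTheory.Ideal.Maps

/-!
# McCoy's theorem for matrices over a commutative ring (helper45)

`M : Matrix (Fin n) (Fin m) R` viewed as `R^m → R^n`.  It is injective iff the annihilator of the
ideal of `m × m` minors is zero.
-/

set_option autoImplicit false
universe u

namespace Groth.Agent.Lib.McCoy

open Matrix

variable {R : Type u} [CommRing R]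

/-- Multiplying a matrix on the right by the "column selection" matrix. -/
theorem submatrix_id_eq_mul {n m k : Type} [Fintype m] [DecidableEq m] [Fintype k]
    (N : Matrix n m R) (c : k → m) :
    N.submatrix id c = N * (Matrix.of fun (j : m) (l : k) => if c l = j then (1 : R) else 0) := by
  ext i l
  simp [Matrix.mul_apply]

/-- If `N v = 0` for a square matrix then `det N • v = 0`. -/
theorem det_smul_eq_zero_of_mulVec_eq_zero {m : Type} [Fintype m] [DecidableEq m]
    (N : Matrix m m R) (v : m → R) (h : N.mulVec v = 0) : N.det • v = 0 := by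
  have := congrArg (fun w => (Matrix.adjugate N).mulVec w) h
  simp only [Matrix.mulVec_mulVec, Matrix.adjugate_mul, Matrix.mulVec_zero] at this
  rw [Matrix.smul_mulVec, Matrix.one_mulVec] at this
  exact this

/-- Easy direction of McCoy: if `M v = 0`, every `m × m` minor kills `v`. -/
theorem minor_mul_eq_zero_of_mulVec_eq_zero {n m : ℕ} (M : Matrix (Fin n) (Fin m) R)
    (v : Fin m → R) (h : M.mulVec v = 0) (rows : Fin m → Fin n) (cols : Fin m → Fin m)
    (j : Fin m) : (M.submatrix rows cols).det * v j = 0 := by
  have h0 : (M.submatrix rows id).mulVec v = 0 := by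
    ext i
    have := congrFun h (rows i)
    simpa [Matrix.mulVec, dotProduct] using this
  have h1 := det_smul_eq_zero_of_mulVec_eq_zero _ v h0
  have h2 : M.submatrix rows cols = (M.submatrix rows id).submatrix id cols := by
    ext; simp
  rw [h2, submatrix_id_eq_mul, Matrix.det_mul, mul_comm _ (Matrix.det (Matrix.of _)), mul_assoc]
  have := congrFun h1 j
  simp only [Pi.smul_apply, smul_eq_mul, Pi.zero_apply] at this
  rw [this, mul_zero]

/-- Easy direction: zero annihilator of the `m × m` minors implies injectivity. -/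
theorem injective_of_annihilator_minorIdeal_eq_bot {n m : ℕ} (M : Matrix (Fin n) (Fin m) R)
    (h : (CAlgX.minorIdeal M m).annihilator = ⊥) : Function.Injective (Matrix.mulVecLin M) := by
  rw [← LinearMap.ker_eq_bot, LinearMap.ker_eq_bot']
  intro v hv
  have hv' : M.mulVec v = 0 := hv
  ext j
  have : v j ∈ (CAlgX.minorIdeal M m).annihilator := by
    unfold CAlgX.minorIdeal
    rw [Submodule.mem_annihilator_span]
    rintro ⟨_, ⟨fg, rfl⟩⟩
    simp only [smul_eq_mul]
    rw [mul_comm]
    exact minor_mul_eq_zero_of_mulVec_eq_zero M v hv' fg.1 fg.2 j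
  rw [h] at this
  simpa using this

/-- Key step: if `a` kills all `(r+1)`-minors but not some `r`-minor (with `r < m`), then `M` has a
nonzero kernel vector. -/
theorem exists_kernel_vector {n m r : ℕ} (M : Matrix (Fin n) (Fin m) R) (a : R) (hr : r < m)
    (hsucc : ∀ (rows : Fin (r + 1) → Fin n) (cols : Fin (r + 1) → Fin m),
      a * (M.submatrix rows cols).det = 0)
    (rows : Fin r → Fin n) (cols : Fin r → Fin m) (hne : a * (M.submatrix rows cols).det ≠ 0) :
    ∃ v : Fin m → R, v ≠ 0 ∧ M.mulVec v = 0 := by
  classical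
  -- a column not among `cols`
  obtain ⟨j₀, hj₀⟩ : ∃ j₀ : Fin m, j₀ ∉ Finset.univ.image cols := by
    by_contra hcon
    push Not at hcon
    have h1 : (Finset.univ : Finset (Fin m)) ⊆ Finset.univ.image cols := fun j _ => hcon j
    have h2 := Finset.card_le_card h1
    have h3 : (Finset.univ.image cols).card ≤ r := by
      simpa using (Finset.card_image_le (s := (Finset.univ : Finset (Fin r))) (f := cols))
    simp at h2
    omega
  have hj₀' : ∀ k : Fin r, cols k ≠ j₀ := by
    intro k hk
    exact hj₀ (Finset.mem_image.mpr ⟨k, Finset.mem_univ _, hk⟩)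
  let cols' : Fin (r + 1) → Fin m := Fin.cons j₀ cols
  let c : Fin (r + 1) → R := fun k =>
    (-1) ^ (k : ℕ) * (M.submatrix rows (cols' ∘ k.succAbove)).det
  have hdet : ∀ i : Fin n, (M.submatrix (Fin.cons i rows) cols').det
      = ∑ k, M i (cols' k) * c k := by
    intro i
    rw [Matrix.det_succ_row_zero]
    refine Finset.sum_congr rfl fun k _ => ?_
    have : (M.submatrix (Fin.cons i rows : Fin (r + 1) → Fin n) cols').submatrix Fin.succ k.succAbove
        = M.submatrix rows (cols' ∘ k.succAbove) := by
      ext p q
      simp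
    rw [this]
    simp only [Matrix.submatrix_apply, Fin.cons_zero, c]
    ring
  let v : Fin m → R := fun j => ∑ k, if cols' k = j then a * c k else 0
  refine ⟨v, ?_, ?_⟩
  · intro hv
    have := congrFun hv j₀
    simp only [v, Pi.zero_apply] at this
    rw [Fin.sum_univ_succ] at this
    have hz : ∀ k : Fin r, (if cols' k.succ = j₀ then a * c k.succ else 0) = 0 := by
      intro k
      rw [if_neg]
      simpa [cols'] using hj₀' k
    simp only [hz, Finset.sum_const_zero, add_zero] at this
    apply hne
    have hc0 : c 0 = (M.submatrix rows cols).det := by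
      simp only [c, Fin.val_zero, pow_zero, one_mul]
      congr 2
    simpa [cols', hc0] using this
  · ext i
    simp only [Matrix.mulVec, dotProduct, Pi.zero_apply, v]
    have : ∑ j, M i j * ∑ k, (if cols' k = j then a * c k else 0)
        = a * ∑ k, M i (cols' k) * c k := by
      simp_rw [Finset.mul_sum]
      rw [Finset.sum_comm]
      refine Finset.sum_congr rfl fun k _ => ?_
      simp only [mul_ite, mul_zero]
      rw [Finset.sum_ite_eq]
      simp only [Finset.mem_univ, if_true]
      ring
    rw [this, ← hdet]
    exact hsucc _ _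

/-- If `a` kills all `k`-minors then it kills all `(k+1)`-minors. -/
theorem kills_succ {n m k : ℕ} (M : Matrix (Fin n) (Fin m) R) (a : R)
    (h : ∀ (rows : Fin k → Fin n) (cols : Fin k → Fin m), a * (M.submatrix rows cols).det = 0)
    (rows : Fin (k + 1) → Fin n) (cols : Fin (k + 1) → Fin m) :
    a * (M.submatrix rows cols).det = 0 := by
  rw [Matrix.det_succ_row_zero, Finset.mul_sum]
  refine Finset.sum_eq_zero fun l _ => ?_
  have : (M.submatrix rows cols).submatrix Fin.succ l.succAbove
      = M.submatrix (rows ∘ Fin.succ) (cols ∘ l.succAbove) := by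
    ext p q; simp
  rw [this]
  have h' := h (rows ∘ Fin.succ) (cols ∘ l.succAbove)
  calc a * ((-1) ^ (l : ℕ) * (M.submatrix rows cols) 0 l
        * (M.submatrix (rows ∘ Fin.succ) (cols ∘ l.succAbove)).det)
      = ((-1) ^ (l : ℕ) * (M.submatrix rows cols) 0 l)
        * (a * (M.submatrix (rows ∘ Fin.succ) (cols ∘ l.succAbove)).det) := by ring
    _ = 0 := by rw [h', mul_zero]

/-- McCoy's theorem, hard direction: an injective matrix has `m × m` minors with zero
annihilator. -/
theorem annihilator_minorIdeal_eq_bot_of_injective {n m : ℕ} (M : Matrix (Fin n) (Fin m) R)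
    (hinj : Function.Injective (Matrix.mulVecLin M)) :
    (CAlgX.minorIdeal M m).annihilator = ⊥ := by
  classical
  rw [eq_bot_iff]
  intro a ha
  rw [Submodule.mem_bot]
  by_contra hane
  have hm : ∀ (rows : Fin m → Fin n) (cols : Fin m → Fin m),
      a * (M.submatrix rows cols).det = 0 := by
    intro rows cols
    have := (Submodule.mem_annihilator.mp ha) ((M.submatrix rows cols).det)
      (Ideal.subset_span ⟨(rows, cols), rfl⟩)
    simpa using this
  -- P k : a kills all k-minors
  let P : ℕ → Prop := fun k => ∀ (rows : Fin k → Fin n) (cols : Fin k → Fin m),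
    a * (M.submatrix rows cols).det = 0
  have hP0 : ¬ P 0 := by
    intro h
    have := h Fin.elim0 Fin.elim0
    simp at this
    exact hane this
  have hPm : P m := hm
  have hex : ∃ k, P k := ⟨m, hPm⟩
  let k := Nat.find hex
  have hk : P k := Nat.find_spec hex
  have hkpos : k ≠ 0 := by
    intro h0
    rw [h0] at hk
    exact hP0 hk
  obtain ⟨r, hr⟩ : ∃ r, k = r + 1 := Nat.exists_eq_succ_of_ne_zero hkpos
  have hrk : r < k := by omega
  have hnr : ¬ P r := Nat.find_min hex hrk
  have hkm : k ≤ m := Nat.find_min' hex hPm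
  simp only [P, not_forall] at hnr
  obtain ⟨rows, cols, hne⟩ := hnr
  have hsucc : ∀ (rows : Fin (r + 1) → Fin n) (cols : Fin (r + 1) → Fin m),
      a * (M.submatrix rows cols).det = 0 := by
    have := hk
    rw [hr] at this
    exact this
  obtain ⟨v, hv, hMv⟩ := exists_kernel_vector M a (by omega) hsucc rows cols hne
  apply hv
  apply hinj
  simpa using hMv

/-- McCoy's theorem. -/
theorem injective_iff {n m : ℕ} (M : Matrix (Fin n) (Fin m) R) :
    Function.Injective (Matrix.mulVecLin M) ↔ (CAlgX.minorIdeal M m).annihilator = ⊥ :=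
  ⟨annihilator_minorIdeal_eq_bot_of_injective M, injective_of_annihilator_minorIdeal_eq_bot M⟩

/-- Minors of size larger than the number of columns vanish. -/
theorem minorIdeal_eq_bot_of_lt {n m r : ℕ} (M : Matrix (Fin n) (Fin m) R) (h : m < r) :
    CAlgX.minorIdeal M r = ⊥ := by
  unfold CAlgX.minorIdeal
  rw [Ideal.span_eq_bot]
  rintro _ ⟨fg, rfl⟩
  obtain ⟨i, j, hij, hne⟩ : ∃ i j : Fin r, fg.2 i = fg.2 j ∧ i ≠ j := by
    by_contra hcon
    push Not at hcon
    have hinj : Function.Injective fg.2 := fun i j hij => hcon i j hij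
    have := Fintype.card_le_of_injective _ hinj
    simp at this
    omega
  exact Matrix.det_zero_of_column_eq hne (fun k => by simp [hij])

/-- If the ideal of `m × m` minors is nonzero, the rank is `m`. -/
theorem matrixRank_eq_of_minorIdeal_ne_bot {n m : ℕ} (M : Matrix (Fin n) (Fin m) R)
    (h : CAlgX.minorIdeal M m ≠ ⊥) : CAlgX.matrixRank M = m := by
  unfold CAlgX.matrixRank
  apply IsGreatest.csSup_eq
  refine ⟨h, ?_⟩
  intro r hr
  by_contra hlt
  push Not at hlt
  exact hr (minorIdeal_eq_bot_of_lt M hlt)

end Groth.Agent.Lib.McCoy
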