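import Groth.Agent.S8904
import Groth.Agent.S8903
import Groth.Agent.Lib.H78GlobGen
import Groth.Agent.Lib.H78SecCoord
import Groth.Prelude.Def_MeroDiv

/-!
# Existence of regular meromorphic sections of invertible modules (helper82)

If every weakly associated point of `X` is a generic point and quasi-compact opens have finitely
many irreducible components, every invertible module has a regular meromorphic section.
-/

set_option autoImplicit false
universe u
open CategoryTheory CategoryTheory.Limits AlgebraicGeometry TopologicalSpace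

namespace Groth.Agent.Lib.RegMero82

open Mero Groth.Agent.Lib.StrictTransform82 Groth.Agent.Lib.AssPoints
  Groth.Agent.Lib.StructureModule Groth.Agent.Lib.H90Invertible Groth.Agent.Lib.H78GlobGen
  Groth.Agent.Lib.H78SecCoord Groth.Agent.Lib.H78TensorGen Groth.Agent.Lib.QCohStalk

variable {X : Scheme.{u}} {L : X.Modules}

/-- freeness of the germ of a generator -/
theorem smul_germ_gen_eq_zero {V : X.Opens} {e : Γ(L, V)} (he : IsGen L V e) (z : X) (hz : z ∈ V)
    (r : X.presheaf.stalk z) (h : r • L.presheaf.germ V z hz e = 0) : r = 0 := by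
  obtain ⟨N₀, hzN₀, f₀, rfl⟩ := X.presheaf.exists_germ_eq (x := z) r
  set N : X.Opens := N₀ ⊓ V with hN
  have hzN : z ∈ N := ⟨hzN₀, hz⟩
  set f : Γ(X, N) := X.presheaf.map (homOfLE (inf_le_left : N ≤ N₀)).op f₀ with hf
  have h1 : L.presheaf.germ N z hzN (f • rs L (inf_le_right : N ≤ V) e) =
      L.presheaf.germ N z hzN 0 := by
    rw [Mero.germ_smul, map_zero, germ_res, hf, TopCat.Presheaf.germ_res_apply]
    exact h
  obtain ⟨N', hzN', i₁, i₂, h2⟩ := TopCat.Presheaf.germ_eq L.presheaf z hzN hzN _ _ h1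
  rw [map_zero] at h2
  have h3 : X.presheaf.map i₁.op f • rs L (i₁.le.trans inf_le_right) e =
      (0 : Γ(X, N')) • rs L (i₁.le.trans inf_le_right) e := by
    rw [zero_smul, ← h2]
    have := res_smul L i₁.le f (rs L (inf_le_right : N ≤ V) e)
    rw [res_res] at this
    exact this.symm
  have h4 : X.presheaf.map i₁.op f = 0 := (he N' (i₁.le.trans inf_le_right)).1 h3
  have h5 : X.presheaf.germ N₀ z hzN₀ f₀ = X.presheaf.germ N' z hzN' (X.presheaf.map i₁.op f) := by
    rw [TopCat.Presheaf.germ_res_apply, hf, TopCat.Presheaf.germ_res_apply]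
  rw [h5, h4, map_zero]

/-- comparison coefficient between two generators is a unit -/
theorem isUnit_of_germ_gen_eq_smul {V V' : X.Opens} {e : Γ(L, V)} {e' : Γ(L, V')}
    (he : IsGen L V e) (he' : IsGen L V' e') (z : X) (hz : z ∈ V) (hz' : z ∈ V')
    (c : X.presheaf.stalk z) (h : L.presheaf.germ V' z hz' e' = c • L.presheaf.germ V z hz e) :
    IsUnit c := by
  have h1 : L.presheaf.germ V z hz e ∈
      Submodule.span (X.presheaf.stalk z) {L.presheaf.germ V' z hz' e'} := by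
    rw [span_germ_gen_eq_top he' z hz']
    trivial
  obtain ⟨c', hc'⟩ := Submodule.mem_span_singleton.mp h1
  rw [h, smul_smul] at hc'
  have h2 : (c' * c - 1) • L.presheaf.germ V z hz e = 0 := by
    rw [sub_smul, one_smul, hc', sub_self]
  have h3 := smul_germ_gen_eq_zero he z hz _ h2
  exact IsUnit.of_mul_eq_one _ (by rw [mul_comm]; exact sub_eq_zero.mp h3)

/-- A section of an invertible module vanishing at all weakly associated points is zero. -/
theorem eq_zero_of_germ_weakAss (hL : PicF.IsInvertible L) {O : X.Opens} (σ : Γ(L, O))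
    (h : ∀ (z : X) (hz : z ∈ O), Curv2.IsWeakAssPoint (Coh.structureModule X) z →
      L.presheaf.germ O z hz σ = 0) : σ = 0 := by
  apply Groth.Agent.S8861.eq_zero_of_germ_eq_zero
  intro y hy
  obtain ⟨V, hyV, e, he⟩ := (isInvertible_iff_exists_isGen L).mp hL y
  set N : X.Opens := O ⊓ V with hN
  have hyN : y ∈ N := ⟨hy, hyV⟩
  set f : Γ(X, N) := coord he (inf_le_right : N ≤ V) (rs L (inf_le_left : N ≤ O) σ) with hf
  have hfe : f • rs L (inf_le_right : N ≤ V) e = rs L (inf_le_left : N ≤ O) σ :=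
    coord_spec he _ _
  have hgerm : ∀ (z : X) (hz : z ∈ N), X.presheaf.germ N z hz f • L.presheaf.germ V z hz.2 e =
      L.presheaf.germ O z hz.1 σ := by
    intro z hz
    have h1 := congrArg (L.presheaf.germ N z hz) hfe
    rw [Mero.germ_smul, germ_res, germ_res] at h1
    exact h1
  have hf0 : X.presheaf.germ N y hyN f = 0 := by
    by_contra hne
    obtain ⟨z, hzN, -, hzass, hz0⟩ :=
      Groth.Agent.S8904.exists_weakAss_germ_ne_zero X f y hyN hne
    apply hz0
    apply smul_germ_gen_eq_zero he z hzN.2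
    rw [hgerm z hzN]
    exact h z hzN.1 hzass
  rw [← hgerm y hyN, hf0, zero_smul]

/-- gluing of local fractions to a meromorphic section -/
theorem exists_merMod_section (W : X → X.Opens) (hxW : ∀ x, x ∈ W x) (m : ∀ x, Γ(L, W x))
    (b : ∀ x, regSub X (W x))
    (hcompat : ∀ (x x' z : X) (hz : z ∈ W x) (hz' : z ∈ W x'),
      X.presheaf.germ (W x') z hz' (b x').1 • L.presheaf.germ (W x) z hz (m x) =
        X.presheaf.germ (W x) z hz (b x).1 • L.presheaf.germ (W x') z hz' (m x')) :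
    ∃ s : Γ(Mero.merMod L, ⊤), ∀ (x z : X) (hz : z ∈ W x), s.1 ⟨z, Opens.mem_top z⟩ =
      LocalizedModule.mk (L.presheaf.germ (W x) z hz (m x)) (regGerm ⟨z, hz⟩ (b x)) := by
  let sfun : ∀ z : (⊤ : X.Opens), MStalk L z.1 := fun z =>
    LocalizedModule.mk (L.presheaf.germ (W z.1) z.1 (hxW z.1) (m z.1))
      (regGerm ⟨z.1, hxW z.1⟩ (b z.1))
  have hs : ∀ (x z : X) (hz : z ∈ W x), sfun ⟨z, Opens.mem_top z⟩ =
      LocalizedModule.mk (L.presheaf.germ (W x) z hz (m x)) (regGerm ⟨z, hz⟩ (b x)) := by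
    intro x z hz
    change LocalizedModule.mk _ _ = _
    rw [LocalizedModule.mk_eq]
    refine ⟨1, ?_⟩
    simp only [one_smul, Submonoid.smul_def]
    exact hcompat z x z (hxW z) hz
  refine ⟨⟨sfun, fun x => ⟨W x.1, hxW x.1, homOfLE le_top, m x.1, b x.1, fun y => ?_⟩⟩, hs⟩
  exact hs x.1 y.1 y.2


/-- regularity of a meromorphic section from local descriptions -/
theorem isRegularMero_of_local (s : Γ(Mero.merMod L, ⊤))
    (h : ∀ x : X, ∃ (W : X.Opens) (hx : x ∈ W) (e : Γ(L, W)) (a : Γ(X, W)) (b : regSub X W),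
      IsGen L W e ∧ X.presheaf.germ W x hx a ∈ nonZeroDivisors (X.presheaf.stalk x) ∧
      s.1 ⟨x, Opens.mem_top x⟩ =
        LocalizedModule.mk (L.presheaf.germ W x hx (a • e)) (regGerm ⟨x, hx⟩ b)) :
    Mero.IsRegularMero L s := by
  intro x q hq
  obtain ⟨W, hx, e, a, b, he, ha, hsx⟩ := h x
  rw [hsx] at hq
  induction q using Localization.induction_on with
  | H rt =>
    obtain ⟨r, t⟩ := rt
    rw [LocalizedModule.mk_smul_mk, ← LocalizedModule.zero_mk 1, LocalizedModule.mk_eq] at hq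
    obtain ⟨u, hu⟩ := hq
    simp only [one_smul, smul_zero, Submonoid.smul_def] at hu
    rw [Mero.germ_smul, smul_smul, smul_smul] at hu
    have h1 := smul_germ_gen_eq_zero he x hx _ hu
    have h2 : (u : X.presheaf.stalk x) * r = 0 :=
      (mul_right_mem_nonZeroDivisors_eq_zero_iff ha).mp h1
    have h3 : r = 0 := (mul_left_mem_nonZeroDivisors_eq_zero_iff
      (regStalk_le_nonZeroDivisors x u.2)).mp h2
    rw [h3]
    exact Localization.mk_zero t

section Combination

theorem exists_combination {ι : Type*} [DecidableEq ι] (F : Finset ι) {A : Type*} [CommRing A]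
    {B : ι → Type*} [∀ i, CommRing (B i)] (φ : ∀ i, A →+* B i)
    (z : ι → ι → A) (hz1 : ∀ i ∈ F, ∀ j ∈ F, i ≠ j → IsUnit (φ i (z i j)))
    (hz0 : ∀ i ∈ F, ∀ j ∈ F, i ≠ j → φ j (z i j) = 0) (a₁ b₁ : ι → A) :
    ∃ a b : A, ∀ i ∈ F, ∃ d : B i, IsUnit d ∧ φ i a = d * φ i (a₁ i) ∧ φ i b = d * φ i (b₁ i) := by
  set δ : ι → A := fun i => ∏ j ∈ F.erase i, z i j with hδ
  have hδ0 : ∀ i ∈ F, ∀ j ∈ F, j ≠ i → φ i (δ j) = 0 := by
    intro i hi j hj hji
    rw [hδ, map_prod]
    exact Finset.prod_eq_zero (Finset.mem_erase.mpr ⟨hji.symm, hi⟩) (hz0 j hj i hi hji)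
  have hδ1 : ∀ i ∈ F, IsUnit (φ i (δ i)) := by
    intro i hi
    rw [hδ, map_prod]
    have : ∀ j ∈ F.erase i, IsUnit (φ i (z i j)) := by
      intro j hj
      obtain ⟨hji, hjF⟩ := Finset.mem_erase.mp hj
      exact hz1 i hi j hjF hji.symm
    exact (Finset.prod_induction _ IsUnit (fun _ _ => IsUnit.mul) isUnit_one this)
  have key : ∀ (c : ι → A), ∀ i ∈ F, φ i (∑ j ∈ F, δ j * c j) = φ i (δ i) * φ i (c i) := by
    intro c i hi
    rw [map_sum, Finset.sum_eq_single i]
    · rw [map_mul]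
    · intro j hj hji
      rw [map_mul, hδ0 i hi j hj hji, zero_mul]
    · intro hi'
      exact (hi' hi).elim
  exact ⟨∑ j ∈ F, δ j * a₁ j, ∑ j ∈ F, δ j * b₁ j, fun i hi =>
    ⟨φ i (δ i), hδ1 i hi, key a₁ i hi, key b₁ i hi⟩⟩

end Combination


section Generic

theorem specializes_of_primeIdealOf_le {W : X.Opens} (hW : IsAffineOpen W) (x z : W)
    (h : (hW.primeIdealOf z).asIdeal ≤ (hW.primeIdealOf x).asIdeal) : z.1 ⤳ x.1 := by
  have h1 : hW.primeIdealOf z ⤳ hW.primeIdealOf x :=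
    (PrimeSpectrum.le_iff_specializes _ _).mp h
  have h2 := h1.map hW.fromSpec.continuous
  rw [hW.fromSpec_primeIdealOf z, hW.fromSpec_primeIdealOf x] at h2
  exact h2

theorem primeIdealOf_injective {W : X.Opens} (hW : IsAffineOpen W) (x z : W)
    (h : hW.primeIdealOf x = hW.primeIdealOf z) : x = z := by
  apply Subtype.ext
  rw [← hW.fromSpec_primeIdealOf x, ← hW.fromSpec_primeIdealOf z, h]

theorem primeIdealOf_mem_minimalPrimes {W : X.Opens} (hW : IsAffineOpen W) (y : W)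
    (hgen : ∀ y' : X, y' ⤳ y.1 → y' = y.1) :
    (hW.primeIdealOf y).asIdeal ∈ minimalPrimes Γ(X, W) := by
  refine ⟨⟨(hW.primeIdealOf y).isPrime, bot_le⟩, ?_⟩
  rintro q ⟨hq, -⟩ hqp
  let y' : W := ⟨hW.fromSpec ⟨q, hq⟩, fromSpec_mem hW _⟩
  have hy'q : hW.primeIdealOf y' = ⟨q, hq⟩ := primeIdealOf_fromSpec hW _
  have h1 : y'.1 ⤳ y.1 := by
    apply specializes_of_primeIdealOf_le hW
    rw [hy'q]
    exact hqp
  have h2 : y' = y := Subtype.ext (hgen _ h1)
  rw [← h2, hy'q]

theorem exists_sep {W : X.Opens} (hW : IsAffineOpen W) (i j : W)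
    (hi : ∀ y' : X, y' ⤳ i.1 → y' = i.1) (hj : ∀ y' : X, y' ⤳ j.1 → y' = j.1) (hij : i ≠ j) :
    ∃ z : Γ(X, W), IsUnit (X.presheaf.germ W i.1 i.2 z) ∧ X.presheaf.germ W j.1 j.2 z = 0 := by
  have hnle : ¬ (hW.primeIdealOf j).asIdeal ≤ (hW.primeIdealOf i).asIdeal := by
    intro hle
    have h1 := specializes_of_primeIdealOf_le hW i j hle
    exact hij (Subtype.ext (hi _ h1)).symm
  obtain ⟨z₀, hz₀j, hz₀i⟩ := SetLike.not_le_iff_exists.mp hnle
  have hmin := primeIdealOf_mem_minimalPrimes hW j hj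
  obtain ⟨s, hs, n, hsn⟩ := Groth.Agent.S8904.exists_mul_pow_mem_of_mem_minimalPrimes hmin hz₀j
  rw [Ideal.mem_bot] at hsn
  refine ⟨z₀ ^ n, ?_, ?_⟩
  · rw [map_pow]
    exact ((isUnit_germ_iff hW i z₀).mpr hz₀i).pow n
  · have h1 := congrArg (X.presheaf.germ W j.1 j.2) hsn
    rw [map_mul, map_zero] at h1
    exact ((isUnit_germ_iff hW j s).mpr hs).mul_right_eq_zero.mp h1

end Generic


section LocalData

theorem exists_local_data
    (ha : ∀ x : X, Curv2.IsWeakAssPoint (Coh.structureModule X) x → ∀ y : X, y ⤳ x → y = x)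
    (hb : ∀ U : X.Opens, IsCompact (U : Set X) → (irreducibleComponents ↥(U : Scheme.{u})).Finite)
    (V : X → X.Opens) (hV : ∀ x, x ∈ V x) (E : ∀ x, Γ(L, V x)) (hE : ∀ x, IsGen L (V x) (E x))
    (x : X) :
    ∃ (W : X.Opens) (_ : x ∈ W) (e : Γ(L, W)) (a b : Γ(X, W)), IsGen L W e ∧
      a ∈ regSub X W ∧ b ∈ regSub X W ∧
      ∀ (η : X) (hη : η ∈ W), (∀ y : X, y ⤳ η → y = η) →
        X.presheaf.germ W η hη a • L.presheaf.germ W η hη e =
          X.presheaf.germ W η hη b • L.presheaf.germ (V η) η (hV η) (E η) := by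
  classical
  obtain ⟨_, ⟨W, hW, rfl⟩, hxW, hWV⟩ :=
    X.isBasis_affineOpens.exists_subset_of_mem_open (hV x) (V x).2
  replace hWV : W ≤ V x := hWV
  replace hW : IsAffineOpen W := hW
  set e : Γ(L, W) := rs L hWV (E x) with he_def
  have he : IsGen L W e := (hE x).mono hWV
  have hfin := Groth.Agent.S8904.finite_generic_points X W (hb W hW.isCompact)
  let F : Finset W :=
    (hfin.preimage (f := (Subtype.val : W → X)) Subtype.val_injective.injOn).toFinset
  have hF : ∀ y : W, y ∈ F ↔ ∀ y' : X, y' ⤳ y.1 → y' = y.1 := by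
    intro y
    change y ∈ (hfin.preimage (f := (Subtype.val : W → X)) Subtype.val_injective.injOn).toFinset ↔ _
    rw [Set.Finite.mem_toFinset, Set.mem_preimage, Set.mem_setOf_eq]
    exact ⟨fun h => h.2, fun h => ⟨y.2, h⟩⟩
  -- comparison coefficients
  have hc : ∀ y : W, ∃ c : X.presheaf.stalk y.1,
      L.presheaf.germ (V y.1) y.1 (hV y.1) (E y.1) = c • L.presheaf.germ W y.1 y.2 e := by
    intro y
    have h1 : L.presheaf.germ (V y.1) y.1 (hV y.1) (E y.1) ∈
        Submodule.span (X.presheaf.stalk y.1) {L.presheaf.germ W y.1 y.2 e} := by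
      rw [span_germ_gen_eq_top he y.1 y.2]
      trivial
    obtain ⟨c, hc⟩ := Submodule.mem_span_singleton.mp h1
    exact ⟨c, hc.symm⟩
  choose c hc using hc
  have hcu : ∀ y : W, IsUnit (c y) := fun y =>
    isUnit_of_germ_gen_eq_smul he (hE y.1) y.1 y.2 (hV y.1) (c y) (hc y)
  -- fractions
  have hab : ∀ y : W, ∃ a₁ b₁ : Γ(X, W), b₁ ∉ (hW.primeIdealOf y).asIdeal ∧
      c y * X.presheaf.germ W y.1 y.2 b₁ = X.presheaf.germ W y.1 y.2 a₁ := by
    intro y
    haveI := hW.isLocalization_stalk y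
    obtain ⟨⟨a₁, b₁⟩, h⟩ := IsLocalization.surj (hW.primeIdealOf y).asIdeal.primeCompl (c y)
    exact ⟨a₁, b₁.1, b₁.2, h⟩
  choose a₁ b₁ hb₁ hab₁ using hab
  -- separating elements
  have hz : ∀ i j : W, ∃ z : Γ(X, W), i ∈ F → j ∈ F → i ≠ j →
      IsUnit (X.presheaf.germ W i.1 i.2 z) ∧ X.presheaf.germ W j.1 j.2 z = 0 := by
    intro i j
    by_cases h : i ∈ F ∧ j ∈ F ∧ i ≠ j
    · obtain ⟨z, hz⟩ := exists_sep hW i j ((hF i).mp h.1) ((hF j).mp h.2.1) h.2.2
      exact ⟨z, fun _ _ _ => hz⟩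
    · exact ⟨0, fun h1 h2 h3 => (h ⟨h1, h2, h3⟩).elim⟩
  choose z hz using hz
  obtain ⟨a, b, hab⟩ := exists_combination F
    (B := fun y : W => X.presheaf.stalk y.1)
    (φ := fun y : W => (X.presheaf.germ W y.1 y.2).hom) z
    (fun i hi j hj hij => (hz i j hi hj hij).1) (fun i hi j hj hij => (hz i j hi hj hij).2) a₁ b₁
  have hub₁ : ∀ y : W, IsUnit (X.presheaf.germ W y.1 y.2 (b₁ y)) := fun y =>
    (isUnit_germ_iff hW y (b₁ y)).mpr (hb₁ y)
  have hua₁ : ∀ y : W, IsUnit (X.presheaf.germ W y.1 y.2 (a₁ y)) := fun y => by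
    rw [← hab₁ y]
    exact (hcu y).mul (hub₁ y)
  have hreg : ∀ r : Γ(X, W), (∀ y ∈ F, IsUnit (X.presheaf.germ W y.1 y.2 r)) →
      r ∈ regSub X W := by
    intro r hr
    rw [Groth.Agent.S12513.result X W hW]
    apply Groth.Agent.S8861.mem_nonZeroDivisors_of_isUnit_germ
    intro y hy hyass
    exact hr ⟨y, hy⟩ ((hF ⟨y, hy⟩).mpr (ha y hyass))
  refine ⟨W, hxW, e, a, b, he, ?_, ?_, ?_⟩
  · apply hreg
    intro y hy
    obtain ⟨d, hd, h1, -⟩ := hab y hy
    have h1' : X.presheaf.germ W y.1 y.2 a = d * X.presheaf.germ W y.1 y.2 (a₁ y) := h1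
    rw [h1']
    exact hd.mul (hua₁ y)
  · apply hreg
    intro y hy
    obtain ⟨d, hd, -, h2⟩ := hab y hy
    have h2' : X.presheaf.germ W y.1 y.2 b = d * X.presheaf.germ W y.1 y.2 (b₁ y) := h2
    rw [h2']
    exact hd.mul (hub₁ y)
  · intro η hη hgen
    have hy : (⟨η, hη⟩ : W) ∈ F := (hF ⟨η, hη⟩).mpr hgen
    obtain ⟨d, hd, h1, h2⟩ := hab ⟨η, hη⟩ hy
    have h1' : X.presheaf.germ W η hη a = d * X.presheaf.germ W η hη (a₁ ⟨η, hη⟩) := h1
    have h2' : X.presheaf.germ W η hη b = d * X.presheaf.germ W η hη (b₁ ⟨η, hη⟩) := h2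
    rw [h1', h2', hc ⟨η, hη⟩, ← hab₁ ⟨η, hη⟩, smul_smul]
    congr 1
    ring

end LocalData


/-- **Existence of regular meromorphic sections.** If every weakly associated point of `X` is a
generic point and quasi-compact opens have finitely many irreducible components, then every
invertible module has a regular meromorphic section. -/
theorem hasRegularMero
    (ha : ∀ x : X, Curv2.IsWeakAssPoint (Coh.structureModule X) x → ∀ y : X, y ⤳ x → y = x)
    (hb : ∀ U : X.Opens, IsCompact (U : Set X) → (irreducibleComponents ↥(U : Scheme.{u})).Finite)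
    (hL : PicF.IsInvertible L) : Mero.HasRegularMero L := by
  have h0 : ∀ x : X, ∃ (V : X.Opens) (_ : x ∈ V) (E : Γ(L, V)), IsGen L V E := by
    intro x
    obtain ⟨V, hxV, E, hE⟩ := (isInvertible_iff_exists_isGen L).mp hL x
    exact ⟨V, hxV, E, hE⟩
  choose V hV E hE using h0
  choose W hxW e a b he haR hbR hstar using exists_local_data ha hb V hV E hE
  have hcompat : ∀ (x x' z : X) (hz : z ∈ W x) (hz' : z ∈ W x'),
      X.presheaf.germ (W x') z hz' (b x') • L.presheaf.germ (W x) z hz (a x • e x) =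
        X.presheaf.germ (W x) z hz (b x) • L.presheaf.germ (W x') z hz' (a x' • e x') := by
    intro x x' z hz hz'
    set O : X.Opens := W x ⊓ W x' with hO
    set σ : Γ(L, O) :=
      X.presheaf.map (homOfLE (inf_le_right : O ≤ W x')).op (b x') •
          rs L (inf_le_left : O ≤ W x) (a x • e x) -
        X.presheaf.map (homOfLE (inf_le_left : O ≤ W x)).op (b x) •
          rs L (inf_le_right : O ≤ W x') (a x' • e x') with hσ
    have hσgerm : ∀ (w : X) (hw : w ∈ O), L.presheaf.germ O w hw σ =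
        X.presheaf.germ (W x') w hw.2 (b x') • L.presheaf.germ (W x) w hw.1 (a x • e x) -
          X.presheaf.germ (W x) w hw.1 (b x) • L.presheaf.germ (W x') w hw.2 (a x' • e x') := by
      intro w hw
      rw [hσ, map_sub, Mero.germ_smul, Mero.germ_smul, germ_res, germ_res,
        TopCat.Presheaf.germ_res_apply, TopCat.Presheaf.germ_res_apply]
    have hσ0 : σ = 0 := by
      apply eq_zero_of_germ_weakAss hL
      intro w hw hwass
      have hgen := ha w hwass
      rw [hσgerm w hw, Mero.germ_smul, Mero.germ_smul, hstar x w hw.1 hgen,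
        hstar x' w hw.2 hgen, smul_smul, smul_smul, mul_comm, sub_self]
    have h1 := hσgerm z ⟨hz, hz'⟩
    rw [hσ0, map_zero] at h1
    exact (sub_eq_zero.mp h1.symm)
  obtain ⟨s, hs⟩ := exists_merMod_section W hxW (fun x => a x • e x)
    (fun x => ⟨b x, hbR x⟩) hcompat
  refine ⟨s, isRegularMero_of_local s (fun x => ⟨W x, hxW x, e x, a x, ⟨b x, hbR x⟩, he x,
    haR x ⟨x, hxW x⟩, hs x x (hxW x)⟩)⟩

end Groth.Agent.Lib.RegMero82
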