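import Groth.Agent.S8864
import Groth.Agent.S8903
import Groth.Agent.Lib.RegMero82
import Groth.Prelude.Def_MeroDiv

/-!
# Divisors and invertible modules (helper82)
-/

set_option autoImplicit false
universe u
open CategoryTheory CategoryTheory.Limits AlgebraicGeometry TopologicalSpace

namespace Groth.Agent.Lib.MeroDiv82

open Mero Groth.Agent.Lib.H90Invertible Groth.Agent.Lib.H78GlobGen
  Groth.Agent.Lib.H78SecCoord Groth.Agent.Lib.H78TensorGen Groth.Agent.Lib.QCohStalk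
  Groth.Agent.Lib.RegMero82

variable {X : Scheme.{u}}

theorem algebraMap_eq_mk (x : X) (r : X.presheaf.stalk x) :
    algebraMap (X.presheaf.stalk x) (KStalk X x) r = LocalizedModule.mk r 1 :=
  (Localization.mk_one_eq_algebraMap r).symm

/-- equality of fractions with regular denominators -/
theorem mk_eq_mk_iff (x : X) (a a' : X.presheaf.stalk x) (b b' : regStalk X x) :
    (LocalizedModule.mk a b : KStalk X x) = LocalizedModule.mk a' b' ↔
      (b' : X.presheaf.stalk x) * a = b * a' := by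
  rw [LocalizedModule.mk_eq]
  constructor
  · rintro ⟨u, hu⟩
    simp only [Submonoid.smul_def, smul_eq_mul] at hu
    exact (mul_cancel_left_mem_nonZeroDivisors (regStalk_le_nonZeroDivisors x u.2)).mp hu
  · intro h
    exact ⟨1, by simp only [one_smul, Submonoid.smul_def, smul_eq_mul]; exact h⟩

/-- a meromorphic function which is pointwise a function is a function -/
theorem exists_toK_eq (U : X.Opens) (w : Γ(Mero.kmod X, U))
    (hw : ∀ z : U, w.1 z ∈ (algebraMap (X.presheaf.stalk z.1) (KStalk X z.1)).range) :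
    ∃ r : Γ(X, U), Mero.toK X U r = w := by
  have hloc : ∀ z : U, ∃ (N : X.Opens) (_ : z.1 ∈ N) (hNU : N ≤ U) (ρ : Γ(X, N)),
      ∀ (y : X) (hy : y ∈ N), w.1 ⟨y, hNU hy⟩ =
        LocalizedModule.mk (X.presheaf.germ N y hy ρ) 1 := by
    intro z
    obtain ⟨V, hzV, i, a, b, hab⟩ := w.2 z
    have hVU : V ≤ U := i.le
    obtain ⟨ρ₀, hρ₀⟩ := hw z
    rw [algebraMap_eq_mk] at hρ₀
    have h1 : w.1 z = LocalizedModule.mk (X.presheaf.germ V z.1 hzV a) (regGerm ⟨z.1, hzV⟩ b) :=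
      hab ⟨z.1, hzV⟩
    rw [h1, mk_eq_mk_iff] at hρ₀
    obtain ⟨N₀, hzN₀, ρ₁, rfl⟩ := X.presheaf.exists_germ_eq (x := z.1) ρ₀
    set N₁ : X.Opens := N₀ ⊓ V with hN₁
    have hzN₁ : z.1 ∈ N₁ := ⟨hzN₀, hzV⟩
    have h2 : X.presheaf.germ N₁ z.1 hzN₁
        (X.presheaf.map (homOfLE (inf_le_right : N₁ ≤ V)).op b.1 *
          X.presheaf.map (homOfLE (inf_le_left : N₁ ≤ N₀)).op ρ₁) =
        X.presheaf.germ N₁ z.1 hzN₁ (X.presheaf.map (homOfLE (inf_le_right : N₁ ≤ V)).op a) := by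
      rw [map_mul, TopCat.Presheaf.germ_res_apply, TopCat.Presheaf.germ_res_apply,
        TopCat.Presheaf.germ_res_apply]
      simpa using hρ₀
    obtain ⟨N, hzN, j₁, j₂, h3⟩ := TopCat.Presheaf.germ_eq X.presheaf z.1 hzN₁ hzN₁ _ _ h2
    have hNN₁ : N ≤ N₁ := j₁.le
    refine ⟨N, hzN, hNN₁.trans (inf_le_right.trans hVU),
      X.presheaf.map (homOfLE (hNN₁.trans inf_le_left)).op ρ₁, fun y hy => ?_⟩
    have hyV : y ∈ V := (hNN₁ hy).2
    have h4 : w.1 ⟨y, hVU hyV⟩ =
        LocalizedModule.mk (X.presheaf.germ V y hyV a) (regGerm ⟨y, hyV⟩ b) := hab ⟨y, hyV⟩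
    rw [h4]
    have h5 := congrArg (X.presheaf.germ N y hy) h3
    rw [TopCat.Presheaf.germ_res_apply, TopCat.Presheaf.germ_res_apply, map_mul,
      TopCat.Presheaf.germ_res_apply, TopCat.Presheaf.germ_res_apply,
      TopCat.Presheaf.germ_res_apply] at h5
    change _ = (LocalizedModule.mk _ (1 : regStalk X y) : KStalk X y)
    rw [mk_eq_mk_iff, TopCat.Presheaf.germ_res_apply]
    simp only [OneMemClass.coe_one, one_mul]
    exact h5.symm
  choose N hzN hNU ρ hρ using hloc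
  have hcover : U ≤ iSup N := fun y hy => Opens.mem_iSup.2 ⟨⟨y, hy⟩, hzN ⟨y, hy⟩⟩
  have hcompat : TopCat.Presheaf.IsCompatible X.presheaf N ρ := by
    intro z z'
    apply TopCat.Presheaf.section_ext X.sheaf (N z ⊓ N z')
    intro y hy
    change X.presheaf.germ (N z ⊓ N z') y hy
        (X.presheaf.map (homOfLE (inf_le_left : N z ⊓ N z' ≤ N z)).op (ρ z)) =
      X.presheaf.germ (N z ⊓ N z') y hy
        (X.presheaf.map (homOfLE (inf_le_right : N z ⊓ N z' ≤ N z')).op (ρ z'))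
    rw [TopCat.Presheaf.germ_res_apply, TopCat.Presheaf.germ_res_apply]
    have h1 := hρ z y hy.1
    have h2 := hρ z' y hy.2
    rw [h1] at h2
    have h3 := (mk_eq_mk_iff y _ _ 1 1).mp h2
    simpa using h3
  obtain ⟨g', hg', -⟩ := X.sheaf.existsUnique_gluing' N U (fun z => homOfLE (hNU z)) hcover ρ hcompat
  obtain ⟨g, rfl⟩ : ∃ g : Γ(X, U), g = g' := ⟨g', rfl⟩
  have hg : ∀ z : U, X.presheaf.map (homOfLE (hNU z)).op g = ρ z := hg'
  refine ⟨g, ?_⟩
  apply Subtype.ext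
  funext y
  rw [toK_apply, hρ y y.1 (hzN y), ← hg y, TopCat.Presheaf.germ_res_apply]

end Groth.Agent.Lib.MeroDiv82
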