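import Groth.Agent.Lib.MeroDiv82
import Groth.Agent.S5096
import Groth.Agent.Lib.IdealMod2

/-!
# An invertible module with a regular meromorphic section is `O_X(D)` (helper82)
-/

set_option autoImplicit false
universe u
open CategoryTheory CategoryTheory.Limits AlgebraicGeometry TopologicalSpace

namespace Groth.Agent.Lib.MeroDiv82

open Mero Groth.Agent.Lib.H90Invertible Groth.Agent.Lib.H78GlobGen
  Groth.Agent.Lib.H78SecCoord Groth.Agent.Lib.H78TensorGen Groth.Agent.Lib.QCohStalk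
  Groth.Agent.Lib.RegMero82

variable {X : Scheme.{u}} {L : X.Modules}

/-- local form of a regular meromorphic section of an invertible module -/
theorem exists_local_form (hL : PicF.IsInvertible L) (s : Γ(Mero.merMod L, ⊤))
    (hs : Mero.IsRegularMero L s) (x : X) :
    ∃ (W : X.Opens) (_ : x ∈ W) (e : Γ(L, W)) (a b : regSub X W), IsGen L W e ∧
      ∀ (z : X) (hz : z ∈ W), s.1 ⟨z, Opens.mem_top z⟩ =
        LocalizedModule.mk (X.presheaf.germ W z hz a.1 • L.presheaf.germ W z hz e)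
          (regGerm ⟨z, hz⟩ b) := by
  obtain ⟨V, hxV, i, m, b', hmb⟩ := s.2 ⟨x, Opens.mem_top x⟩
  obtain ⟨V₂, hxV₂, e₂, he₂⟩ := (isInvertible_iff_exists_isGen L).mp hL x
  set W : X.Opens := V ⊓ V₂ with hW
  have hxW : x ∈ W := ⟨hxV, hxV₂⟩
  set e : Γ(L, W) := rs L (inf_le_right : W ≤ V₂) e₂ with he_def
  have he : IsGen L W e := he₂.mono inf_le_right
  set a₀ : Γ(X, W) := coord he le_rfl (rs L (inf_le_left : W ≤ V) m) with ha₀
  have hspec : a₀ • rs L (le_refl W) e = rs L (inf_le_left : W ≤ V) m := coord_spec he le_rfl _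
  have hgerm : ∀ (z : X) (hz : z ∈ W), X.presheaf.germ W z hz a₀ • L.presheaf.germ W z hz e =
      L.presheaf.germ V z hz.1 m := by
    intro z hz
    have h1 := congrArg (L.presheaf.germ W z hz) hspec
    have e1 : L.presheaf.germ W z hz (rs L (le_refl W) e) = L.presheaf.germ W z hz e :=
      germ_res L (le_refl W) z hz e
    have e2 : L.presheaf.germ W z hz (rs L (inf_le_left : W ≤ V) m) =
        L.presheaf.germ V z hz.1 m := germ_res L _ z hz m
    rw [Mero.germ_smul, e1, e2] at h1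
    exact h1
  have hform : ∀ (z : X) (hz : z ∈ W), s.1 ⟨z, Opens.mem_top z⟩ =
      LocalizedModule.mk (X.presheaf.germ W z hz a₀ • L.presheaf.germ W z hz e)
        (regGerm ⟨z, hz⟩ ⟨X.presheaf.map (homOfLE (inf_le_left : W ≤ V)).op b'.1,
          regSub_res _ b'.2⟩) := by
    intro z hz
    have h1 : s.1 ⟨z, Opens.mem_top z⟩ =
        LocalizedModule.mk (L.presheaf.germ V z hz.1 m) (regGerm ⟨z, hz.1⟩ b') := hmb ⟨z, hz.1⟩
    rw [h1]
    exact mk_congr (hgerm z hz).symm
      (TopCat.Presheaf.germ_res_apply X.presheaf (homOfLE inf_le_left) z hz b'.1).symm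
  have ha₀reg : a₀ ∈ regSub X W := by
    intro z
    change X.presheaf.germ W z.1 z.2 a₀ ∈ nonZeroDivisors (X.presheaf.stalk z.1)
    rw [mem_nonZeroDivisors_iff_right]
    intro r hr
    have h1 : (Localization.mk r (1 : regStalk X z.1)) • s.1 ⟨z.1, Opens.mem_top z.1⟩ = 0 := by
      rw [hform z.1 z.2, LocalizedModule.mk_smul_mk, smul_smul, hr, zero_smul,
        LocalizedModule.zero_mk]
    have h2 := hs z.1 _ h1
    rw [Localization.mk_one_eq_algebraMap] at h2
    exact algebraMap_KStalk_injective z.1 (h2.trans (map_zero _).symm)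
  exact ⟨W, hxW, e, ⟨a₀, ha₀reg⟩, ⟨_, regSub_res _ b'.2⟩, he, hform⟩

section Tau

variable (hL : PicF.IsInvertible L) (s : Γ(Mero.merMod L, ⊤)) (hs : Mero.IsRegularMero L s)

include hL hs in
theorem exists_tau (x : X) (ν : L.presheaf.stalk x) :
    ∃ t : KStalk X x, t • s.1 ⟨x, Opens.mem_top x⟩ = LocalizedModule.mk ν 1 := by
  obtain ⟨W, hxW, e, a, b, he, hform⟩ := exists_local_form hL s hs x
  have h1 : ν ∈ Submodule.span (X.presheaf.stalk x) {L.presheaf.germ W x hxW e} := by
    rw [span_germ_gen_eq_top he x hxW]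
    trivial
  obtain ⟨r, rfl⟩ := Submodule.mem_span_singleton.mp h1
  refine ⟨Localization.mk (r * X.presheaf.germ W x hxW b.1) (regGerm ⟨x, hxW⟩ a), ?_⟩
  rw [hform x hxW, LocalizedModule.mk_smul_mk, LocalizedModule.mk_eq]
  refine ⟨1, ?_⟩
  simp only [one_smul, Submonoid.smul_def, Submonoid.coe_mul, Submonoid.coe_one]
  simp only [smul_smul]
  congr 1
  ring

include hs in
theorem smul_sAt_injective (x : X) (t t' : KStalk X x)
    (h : t • s.1 ⟨x, Opens.mem_top x⟩ = t' • s.1 ⟨x, Opens.mem_top x⟩) : t = t' := by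
  have h1 : (t - t') • s.1 ⟨x, Opens.mem_top x⟩ = 0 := by rw [sub_smul, h, sub_self]
  exact sub_eq_zero.mp (hs x _ h1)

/-- division by the regular meromorphic section `s` -/
noncomputable def tau (x : X) (ν : L.presheaf.stalk x) : KStalk X x :=
  Classical.choose (exists_tau hL s hs x ν)

theorem tau_spec (x : X) (ν : L.presheaf.stalk x) :
    tau hL s hs x ν • s.1 ⟨x, Opens.mem_top x⟩ = LocalizedModule.mk ν 1 :=
  Classical.choose_spec (exists_tau hL s hs x ν)

theorem tau_eq_of (x : X) (ν : L.presheaf.stalk x) (t : KStalk X x)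
    (h : t • s.1 ⟨x, Opens.mem_top x⟩ = LocalizedModule.mk ν 1) : tau hL s hs x ν = t :=
  smul_sAt_injective s hs x _ _ ((tau_spec hL s hs x ν).trans h.symm)

theorem tau_add (x : X) (ν ν' : L.presheaf.stalk x) :
    tau hL s hs x (ν + ν') = tau hL s hs x ν + tau hL s hs x ν' := by
  apply tau_eq_of
  rw [add_smul, tau_spec, tau_spec, LocalizedModule.mk_add_mk]
  simp

theorem tau_zero (x : X) : tau hL s hs x 0 = 0 := by
  apply tau_eq_of
  rw [zero_smul, LocalizedModule.zero_mk]

theorem tau_smul (x : X) (r : X.presheaf.stalk x) (ν : L.presheaf.stalk x) :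
    tau hL s hs x (r • ν) = r • tau hL s hs x ν := by
  apply tau_eq_of
  rw [smul_assoc, tau_spec, LocalizedModule.smul'_mk]

theorem tau_formula {W : X.Opens} {e : Γ(L, W)} (a b : regSub X W)
    (hform : ∀ (z : X) (hz : z ∈ W), s.1 ⟨z, Opens.mem_top z⟩ =
      LocalizedModule.mk (X.presheaf.germ W z hz a.1 • L.presheaf.germ W z hz e)
        (regGerm ⟨z, hz⟩ b))
    (z : X) (hz : z ∈ W) (r : X.presheaf.stalk z) :
    tau hL s hs z (r • L.presheaf.germ W z hz e) =
      LocalizedModule.mk (r * X.presheaf.germ W z hz b.1) (regGerm ⟨z, hz⟩ a) := by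
  apply tau_eq_of
  change Localization.mk (r * X.presheaf.germ W z hz b.1) (regGerm ⟨z, hz⟩ a) • _ = _
  rw [hform z hz, LocalizedModule.mk_smul_mk, LocalizedModule.mk_eq]
  refine ⟨1, ?_⟩
  simp only [one_smul, Submonoid.smul_def, Submonoid.coe_mul, Submonoid.coe_one]
  simp only [smul_smul]
  congr 1
  ring

end Tau


section Divisor

/-- the unit `a / b` of `K_{X,z}` for regular germs `a`, `b` -/
noncomputable def fracUnit (z : X) (a b : regStalk X z) : (KStalk X z)ˣ where
  val := LocalizedModule.mk a.1 b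
  inv := LocalizedModule.mk b.1 a
  val_inv := by
    refine LocalizedModule.mk_mul_mk.trans ?_
    exact (mk_congr (mul_comm _ _) rfl).trans (mk_self_eq_one (b * a))
  inv_val := by
    refine LocalizedModule.mk_mul_mk.trans ?_
    exact (mk_congr (mul_comm _ _) rfl).trans (mk_self_eq_one (a * b))

theorem fracUnit_val (z : X) (a b : regStalk X z) :
    (fracUnit z a b : KStalk X z) = LocalizedModule.mk a.1 b := rfl

theorem fracUnit_inv_val (z : X) (a b : regStalk X z) :
    ((fracUnit z a b)⁻¹ : (KStalk X z)ˣ).val = LocalizedModule.mk b.1 a := rfl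

theorem fracUnit_class_eq (z : X) (a₁ b₁ a₂ b₂ : regStalk X z) (u : (X.presheaf.stalk z)ˣ)
    (h : (b₂ : X.presheaf.stalk z) * a₁ = b₁ * a₂ * u) :
    (QuotientGroup.mk (fracUnit z a₁ b₁) : Germ X z) = QuotientGroup.mk (fracUnit z a₂ b₂) := by
  rw [QuotientGroup.eq]
  refine ⟨u⁻¹, ?_⟩
  apply Units.ext
  rw [Units.coe_map, Units.val_mul, fracUnit_inv_val, fracUnit_val]
  change algebraMap (X.presheaf.stalk z) (KStalk X z) ((u⁻¹ : (X.presheaf.stalk z)ˣ) : _) = _
  rw [algebraMap_eq_mk]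
  refine Eq.trans ?_ LocalizedModule.mk_mul_mk.symm
  rw [mk_eq_mk_iff]
  simp only [Submonoid.coe_mul, OneMemClass.coe_one, one_mul, smul_eq_mul]
  have h1 : (a₁ : X.presheaf.stalk z) * b₂ * ((u⁻¹ : (X.presheaf.stalk z)ˣ) : X.presheaf.stalk z) =
      b₁ * a₂ * (u * ((u⁻¹ : (X.presheaf.stalk z)ˣ) : X.presheaf.stalk z)) := by
    rw [mul_comm (a₁ : X.presheaf.stalk z), h]
    ring
  rw [Units.mul_inv, mul_one] at h1
  exact h1

/-- two local forms of the same meromorphic section give the same divisor germ -/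
theorem local_form_compat (s : Γ(Mero.merMod L, ⊤)) {W W' : X.Opens} {e : Γ(L, W)} {e' : Γ(L, W')}
    (he : IsGen L W e) (he' : IsGen L W' e') (a b : regSub X W) (a' b' : regSub X W')
    (hform : ∀ (z : X) (hz : z ∈ W), s.1 ⟨z, Opens.mem_top z⟩ =
      LocalizedModule.mk (X.presheaf.germ W z hz a.1 • L.presheaf.germ W z hz e)
        (regGerm ⟨z, hz⟩ b))
    (hform' : ∀ (z : X) (hz : z ∈ W'), s.1 ⟨z, Opens.mem_top z⟩ =
      LocalizedModule.mk (X.presheaf.germ W' z hz a'.1 • L.presheaf.germ W' z hz e')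
        (regGerm ⟨z, hz⟩ b'))
    (z : X) (hz : z ∈ W) (hz' : z ∈ W') :
    (QuotientGroup.mk (fracUnit z (regGerm ⟨z, hz⟩ a) (regGerm ⟨z, hz⟩ b)) : Germ X z) =
      QuotientGroup.mk (fracUnit z (regGerm ⟨z, hz'⟩ a') (regGerm ⟨z, hz'⟩ b')) := by
  have h1 : L.presheaf.germ W' z hz' e' ∈
      Submodule.span (X.presheaf.stalk z) {L.presheaf.germ W z hz e} := by
    rw [span_germ_gen_eq_top he z hz]
    trivial
  obtain ⟨c, hc⟩ := Submodule.mem_span_singleton.mp h1
  have hcu : IsUnit c := isUnit_of_germ_gen_eq_smul he he' z hz hz' c hc.symm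
  have h2 := (hform z hz).symm.trans (hform' z hz')
  rw [LocalizedModule.mk_eq] at h2
  obtain ⟨v, hv⟩ := h2
  simp only [Submonoid.smul_def] at hv
  rw [← hc] at hv
  simp only [smul_smul] at hv
  have h3 := smul_germ_gen_eq_zero he z hz _ (sub_eq_zero.mpr hv |>.symm ▸ (sub_smul _ _ _))
  have h4 := sub_eq_zero.mp h3
  have h5 := (mul_cancel_left_mem_nonZeroDivisors (regStalk_le_nonZeroDivisors z v.2)).mp
    (by simpa only [mul_assoc] using h4)
  apply fracUnit_class_eq z _ _ _ _ hcu.unit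
  simp only [IsUnit.unit_spec]
  rw [h5]
  ring

end Divisor


section LocalForm

/-- a local form `s = (a / b) • e` of a meromorphic section -/
structure LocalForm (L : X.Modules) (s : Γ(Mero.merMod L, ⊤)) where
  /-- the open -/
  W : X.Opens
  /-- the generator -/
  e : Γ(L, W)
  /-- numerator -/
  a : regSub X W
  /-- denominator -/
  b : regSub X W
  isGen : IsGen L W e
  form : ∀ (z : X) (hz : z ∈ W), s.1 ⟨z, Opens.mem_top z⟩ =
      LocalizedModule.mk (X.presheaf.germ W z hz a.1 • L.presheaf.germ W z hz e)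
        (regGerm ⟨z, hz⟩ b)

variable {s : Γ(Mero.merMod L, ⊤)}

/-- the divisor germ of a local form -/
noncomputable def LocalForm.cls (F : LocalForm L s) (z : X) (hz : z ∈ F.W) : Germ X z :=
  QuotientGroup.mk (fracUnit z (regGerm ⟨z, hz⟩ F.a) (regGerm ⟨z, hz⟩ F.b))

theorem LocalForm.cls_eq (F F' : LocalForm L s) (z : X) (hz : z ∈ F.W) (hz' : z ∈ F'.W) :
    F.cls z hz = F'.cls z hz' :=
  local_form_compat s F.isGen F'.isGen F.a F.b F'.a F'.b F.form F'.form z hz hz'

/-- the unit `a / b` of `Γ(W, K_X)` -/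
noncomputable def sectionUnit {W : X.Opens} (a b : regSub X W) : (Γ(Mero.kmod X, W))ˣ where
  val := Mero.toK X W a.1 * Groth.Agent.S8864.invK X W b
  inv := Mero.toK X W b.1 * Groth.Agent.S8864.invK X W a
  val_inv := by
    have h1 := Groth.Agent.S8864.toK_mul_invK X W a
    have h2 := Groth.Agent.S8864.toK_mul_invK X W b
    calc Mero.toK X W a.1 * Groth.Agent.S8864.invK X W b *
          (Mero.toK X W b.1 * Groth.Agent.S8864.invK X W a)
        = (Mero.toK X W a.1 * Groth.Agent.S8864.invK X W a) *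
          (Mero.toK X W b.1 * Groth.Agent.S8864.invK X W b) := by ring
      _ = 1 := by rw [h1, h2, one_mul]
  inv_val := by
    have h1 := Groth.Agent.S8864.toK_mul_invK X W a
    have h2 := Groth.Agent.S8864.toK_mul_invK X W b
    calc Mero.toK X W b.1 * Groth.Agent.S8864.invK X W a *
          (Mero.toK X W a.1 * Groth.Agent.S8864.invK X W b)
        = (Mero.toK X W a.1 * Groth.Agent.S8864.invK X W a) *
          (Mero.toK X W b.1 * Groth.Agent.S8864.invK X W b) := by ring
      _ = 1 := by rw [h1, h2, one_mul]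

theorem sectionUnit_val_apply {W : X.Opens} (a b : regSub X W) (y : W) :
    (sectionUnit a b).val.1 y = LocalizedModule.mk (X.presheaf.germ W y.1 y.2 a.1) (regGerm y b) := by
  change (LocalizedModule.mk (X.presheaf.germ W y.1 y.2 a.1) 1 : KStalk X y.1) *
    LocalizedModule.mk 1 (regGerm y b) = _
  refine LocalizedModule.mk_mul_mk.trans ?_
  exact mk_congr (mul_one _) (one_mul _)

theorem sectionUnit_map_evalK {W : X.Opens} (a b : regSub X W) (y : W) :
    Units.map (Mero.evalK X W y).toMonoidHom (sectionUnit a b) =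
      fracUnit y.1 (regGerm y a) (regGerm y b) := by
  apply Units.ext
  exact sectionUnit_val_apply a b y

end LocalForm

section Main

variable (hL : PicF.IsInvertible L) (s : Γ(Mero.merMod L, ⊤)) (hs : Mero.IsRegularMero L s)

include hL hs in
theorem exists_localForm (x : X) : ∃ F : LocalForm L s, x ∈ F.W := by
  obtain ⟨W, hxW, e, a, b, he, hform⟩ := exists_local_form hL s hs x
  exact ⟨⟨W, e, a, b, he, hform⟩, hxW⟩

/-- a chosen local form near `x` -/
noncomputable def lf (x : X) : LocalForm L s := Classical.choose (exists_localForm hL s hs x)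

theorem lf_mem (x : X) : x ∈ (lf hL s hs x).W := Classical.choose_spec (exists_localForm hL s hs x)

/-- the divisor of a regular meromorphic section of an invertible module -/
noncomputable def divisorOf : Mero.Divisor X :=
  ⟨fun x => (lf hL s hs x).cls x (lf_mem hL s hs x), fun x =>
    ⟨(lf hL s hs x).W, lf_mem hL s hs x, sectionUnit (lf hL s hs x).a (lf hL s hs x).b, fun y => by
      rw [germOf, sectionUnit_map_evalK]
      exact LocalForm.cls_eq _ _ y.1 _ y.2⟩⟩

theorem divisorOf_apply (F : LocalForm L s) (z : X) (hz : z ∈ F.W) :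
    (divisorOf hL s hs).1 z = F.cls z hz :=
  LocalForm.cls_eq _ _ z _ hz

theorem divisorOf_eq_germOf (F : LocalForm L s) (z : F.W) :
    (divisorOf hL s hs).1 z.1 = Mero.germOf (sectionUnit F.a F.b) z := by
  rw [divisorOf_apply hL s hs F z.1 z.2, germOf, sectionUnit_map_evalK]
  rfl

end Main


section Phi

variable (hL : PicF.IsInvertible L) (s : Γ(Mero.merMod L, ⊤)) (hs : Mero.IsRegularMero L s)

/-- `tau` times the local unit is a function germ -/
theorem tau_mul_fracUnit (F : LocalForm L s) (z : X) (hz : z ∈ F.W) (r : X.presheaf.stalk z) :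
    tau hL s hs z (r • L.presheaf.germ F.W z hz F.e) *
      (fracUnit z (regGerm ⟨z, hz⟩ F.a) (regGerm ⟨z, hz⟩ F.b) : KStalk X z) =
      algebraMap (X.presheaf.stalk z) (KStalk X z) r := by
  rw [tau_formula hL s hs F.a F.b F.form z hz r, fracUnit_val, algebraMap_eq_mk]
  refine LocalizedModule.mk_mul_mk.trans ?_
  rw [mk_eq_mk_iff]
  simp only [Submonoid.coe_mul, OneMemClass.coe_one, one_mul, smul_eq_mul]
  ring

/-- every germ of `L` is a multiple of the germ of a generator -/
theorem exists_eq_smul_germ (F : LocalForm L s) (z : X) (hz : z ∈ F.W) (ν : L.presheaf.stalk z) :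
    ∃ r : X.presheaf.stalk z, ν = r • L.presheaf.germ F.W z hz F.e := by
  have h1 : ν ∈ Submodule.span (X.presheaf.stalk z) {L.presheaf.germ F.W z hz F.e} := by
    rw [span_germ_gen_eq_top F.isGen z hz]
    trivial
  obtain ⟨r, hr⟩ := Submodule.mem_span_singleton.mp h1
  exact ⟨r, hr.symm⟩

/-- the values of the morphism `L ⟶ O_X(D)` -/
noncomputable def phiFun (U : X.Opens) (ℓ : Γ(L, U)) : ∀ y : U, KStalk X y.1 :=
  fun y => tau hL s hs y.1 (L.presheaf.germ U y.1 y.2 ℓ)

theorem phi_pred (U : X.Opens) (ℓ : Γ(L, U)) :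
    (Mero.divLoc X (divisorOf hL s hs)).pred (phiFun hL s hs U ℓ) := by
  refine ⟨fun y => ?_, fun y => ?_⟩
  · set F := lf hL s hs y.1 with hF
    have hyW : y.1 ∈ F.W := lf_mem hL s hs y.1
    set N : X.Opens := U ⊓ F.W with hN
    set r : Γ(X, N) := coord F.isGen (inf_le_right : N ≤ F.W) (rs L (inf_le_left : N ≤ U) ℓ)
      with hr
    have hspec : r • rs L (inf_le_right : N ≤ F.W) F.e = rs L (inf_le_left : N ≤ U) ℓ :=
      coord_spec F.isGen _ _
    refine ⟨N, ⟨y.2, hyW⟩, homOfLE inf_le_left,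
      r * X.presheaf.map (homOfLE (inf_le_right : N ≤ F.W)).op F.b.1,
      ⟨X.presheaf.map (homOfLE (inf_le_right : N ≤ F.W)).op F.a.1, regSub_res _ F.a.2⟩,
      fun z => ?_⟩
    have h1 := congrArg (L.presheaf.germ N z.1 z.2) hspec
    have e1 : L.presheaf.germ N z.1 z.2 (rs L (inf_le_right : N ≤ F.W) F.e) =
        L.presheaf.germ F.W z.1 z.2.2 F.e := germ_res L _ z.1 z.2 F.e
    have e2 : L.presheaf.germ N z.1 z.2 (rs L (inf_le_left : N ≤ U) ℓ) =
        L.presheaf.germ U z.1 z.2.1 ℓ := germ_res L _ z.1 z.2 ℓ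
    rw [Mero.germ_smul, e1, e2] at h1
    change tau hL s hs z.1 (L.presheaf.germ U z.1 z.2.1 ℓ) = _
    rw [← h1, tau_formula hL s hs F.a F.b F.form z.1 z.2.2]
    refine mk_congr ?_ ?_
    · rw [map_mul, TopCat.Presheaf.germ_res_apply]
    · exact (TopCat.Presheaf.germ_res_apply X.presheaf (homOfLE inf_le_right) z.1 z.2 F.a.1).symm
  · set F := lf hL s hs y.1 with hF
    have hyW : y.1 ∈ F.W := lf_mem hL s hs y.1
    rw [Groth.Agent.S5096.divCond_iff (divisorOf hL s hs) (sectionUnit F.a F.b) ⟨y.1, hyW⟩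
      (divisorOf_eq_germOf hL s hs F ⟨y.1, hyW⟩)]
    obtain ⟨r, hr⟩ := exists_eq_smul_germ s F y.1 hyW (L.presheaf.germ U y.1 y.2 ℓ)
    change tau hL s hs y.1 (L.presheaf.germ U y.1 y.2 ℓ) * _ ∈ _
    have h2 := tau_mul_fracUnit hL s hs F y.1 hyW r
    rw [fracUnit_val] at h2
    rw [hr, sectionUnit_val_apply]
    exact ⟨r, h2.symm⟩

/-- the additive maps on sections -/
noncomputable def phiHom (U : X.Opens) : Γ(L, U) →+ Γ(Mero.divMod (divisorOf hL s hs), U) where
  toFun ℓ := ⟨phiFun hL s hs U ℓ, phi_pred hL s hs U ℓ⟩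
  map_zero' := Subtype.ext <| funext fun y => by
    change tau hL s hs y.1 (L.presheaf.germ U y.1 y.2 0) = 0
    rw [map_zero, tau_zero]
  map_add' ℓ ℓ' := Subtype.ext <| funext fun y => by
    change tau hL s hs y.1 (L.presheaf.germ U y.1 y.2 (ℓ + ℓ')) =
      tau hL s hs y.1 (L.presheaf.germ U y.1 y.2 ℓ) + tau hL s hs y.1 (L.presheaf.germ U y.1 y.2 ℓ')
    rw [map_add, tau_add]

theorem phiHom_apply (U : X.Opens) (ℓ : Γ(L, U)) (y : U) :
    (phiHom hL s hs U ℓ).1 y = tau hL s hs y.1 (L.presheaf.germ U y.1 y.2 ℓ) := rfl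

/-- the morphism `L ⟶ O_X(D)`, "division by `s`" -/
noncomputable def phi : L ⟶ Mero.divMod (divisorOf hL s hs) :=
  ⟨PresheafOfModules.homMk
    { app := fun U => AddCommGrpCat.ofHom (phiHom hL s hs U.unop)
      naturality := fun {U V} i => by
        ext ℓ
        refine Subtype.ext (funext fun y => ?_)
        exact congrArg (tau hL s hs y.1)
          (TopCat.Presheaf.germ_res_apply' L.presheaf i y.1 y.2 ℓ) }
    (fun U r ℓ => Subtype.ext <| funext fun y =>
      (congrArg (tau hL s hs y.1) (Mero.germ_smul L U.unop y.1 y.2 r ℓ)).trans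
        (tau_smul hL s hs y.1 _ _))⟩

end Phi


section Iso

open Opposite

variable (hL : PicF.IsInvertible L) (s : Γ(Mero.merMod L, ⊤)) (hs : Mero.IsRegularMero L s)

theorem injective_phiHom (U : X.Opens) : Function.Injective (phiHom hL s hs U) := by
  rw [injective_iff_map_eq_zero]
  intro ℓ hℓ
  apply Groth.Agent.S8861.eq_zero_of_germ_eq_zero
  intro z hz
  have h1 : tau hL s hs z (L.presheaf.germ U z hz ℓ) = 0 :=
    congrArg (fun t : Γ(Mero.divMod (divisorOf hL s hs), U) => t.1 ⟨z, hz⟩) hℓ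
  have h2 := tau_spec hL s hs z (L.presheaf.germ U z hz ℓ)
  rw [h1, zero_smul, ← LocalizedModule.zero_mk 1, LocalizedModule.mk_eq] at h2
  obtain ⟨v, hv⟩ := h2
  simp only [one_smul, smul_zero, Submonoid.smul_def] at hv
  exact Groth.Agent.S8903.smul_eq_zero_of_invertible L hL z v
    (regStalk_le_nonZeroDivisors z v.2) _ hv.symm

theorem surjective_phiHom (F : LocalForm L s) (U : X.Opens) (hU : U ≤ F.W) :
    Function.Surjective (phiHom hL s hs U) := by
  intro t
  let t' : Γ(Mero.kmod X, U) := ⟨t.1, t.2.1⟩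
  let fU : Γ(Mero.kmod X, U) :=
    (Mero.kmod X).presheaf.map (homOfLE hU).op (sectionUnit F.a F.b).val
  have hw : ∀ z : U, (t' * fU).1 z ∈
      (algebraMap (X.presheaf.stalk z.1) (KStalk X z.1)).range := by
    intro z
    have h1 := t.2.2 z
    rw [Groth.Agent.S5096.divCond_iff (divisorOf hL s hs) (sectionUnit F.a F.b) ⟨z.1, hU z.2⟩
      (divisorOf_eq_germOf hL s hs F ⟨z.1, hU z.2⟩)] at h1
    exact h1
  obtain ⟨r, hr⟩ := exists_toK_eq U (t' * fU) hw
  refine ⟨r • rs L hU F.e, ?_⟩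
  apply Subtype.ext
  funext z
  have hzW : z.1 ∈ F.W := hU z.2
  change tau hL s hs z.1 (L.presheaf.germ U z.1 z.2 (r • rs L hU F.e)) = t.1 z
  have e1 : L.presheaf.germ U z.1 z.2 (rs L hU F.e) = L.presheaf.germ F.W z.1 hzW F.e :=
    germ_res L hU z.1 z.2 F.e
  rw [Mero.germ_smul, e1]
  have h1 := congrArg (fun q : Γ(Mero.kmod X, U) => q.1 z) hr
  have h2 : (LocalizedModule.mk (X.presheaf.germ U z.1 z.2 r) 1 : KStalk X z.1) =
      t.1 z * (fracUnit z.1 (regGerm ⟨z.1, hzW⟩ F.a) (regGerm ⟨z.1, hzW⟩ F.b) : KStalk X z.1) := by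
    rw [fracUnit_val, ← sectionUnit_val_apply F.a F.b ⟨z.1, hzW⟩]
    exact h1
  have h3 := tau_mul_fracUnit hL s hs F z.1 hzW (X.presheaf.germ U z.1 z.2 r)
  rw [algebraMap_eq_mk, h2] at h3
  exact (Units.mul_left_inj _).mp h3

theorem phi_app_apply (U : X.Opens) (ℓ : Γ(L, U)) :
    (phi hL s hs).val.app (op U) ℓ = phiHom hL s hs U ℓ := rfl

theorem isIso_phi : IsIso (phi hL s hs) := by
  let ι : Type u := {p : X.Opens × X // p.1 ≤ (lf hL s hs p.2).W}
  apply Groth.Agent.Lib.IdealMod.isIso_of_bijective_on_basis (phi hL s hs) (fun p : ι => p.1.1)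
  · rw [Opens.isBasis_iff_nbhd]
    intro O x hx
    refine ⟨O ⊓ (lf hL s hs x).W, ⟨⟨(O ⊓ (lf hL s hs x).W, x), inf_le_right⟩, rfl⟩,
      ⟨hx, lf_mem hL s hs x⟩, inf_le_left⟩
  · intro p
    exact ⟨injective_phiHom hL s hs p.1.1,
      surjective_phiHom hL s hs (lf hL s hs p.1.2) p.1.1 p.2⟩

/-- **An invertible module with a regular meromorphic section is `O_X(D)`.** -/
theorem nonempty_iso_divMod (hL : PicF.IsInvertible L) (s : Γ(Mero.merMod L, ⊤))
    (hs : Mero.IsRegularMero L s) : ∃ D : Mero.Divisor X, Nonempty (L ≅ Mero.divMod D) :=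
  ⟨divisorOf hL s hs, ⟨haveI := isIso_phi hL s hs; asIso (phi hL s hs)⟩⟩

end Iso

end Groth.Agent.Lib.MeroDiv82
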