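import Groth.Agent.Lib.CDivDepth
import Groth.Agent.S8863
import Groth.Prelude.Def_MeroDiv

/-!
# Divisors (`Mero.Divisor`) on a locally Noetherian scheme and depth-one points (helper63)

Non-integral analogue of `Lib/CDivDepth`.

* `exists_depth_one_prime`   : algebra: `a ∉ b R_q` (`b` regular) ⇒ some depth-one prime `P ≤ q` has
  `a ∉ b R_P`.
* `exists_local_form`        : a divisor is near every point the class of `a / b`, `a, b` regular
  sections over an affine open.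
* `isEffectiveAt_of_depth_one` : a divisor effective at all depth-one generizations of `x` is
  effective at `x`.
* `eq_one_of_isEffectiveAt_inv` : `D` and `D⁻¹` effective at `x` ⇒ `D_x = 1`.
-/

set_option autoImplicit false
universe u
open CategoryTheory AlgebraicGeometry TopologicalSpace

namespace Groth.Agent.Lib.MeroDivDepth

section Alg

variable {R : Type u} [CommRing R] [IsNoetherianRing R]

theorem exists_depth_one_prime (q : Ideal R) [q.IsPrime] (a b : R) (hreg : IsSMulRegular R b)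
    (hf : ∀ s : R, s ∉ q → s * a ∉ Ideal.span {b}) :
    ∃ P : Ideal R, ∃ _ : P.IsPrime, P ≤ q ∧
      LocCoh.depth (Localization.AtPrime P) (Localization.AtPrime P) = 1 ∧
      ∀ s : R, s ∉ P → s * a ∉ Ideal.span {b} := by
  set N : Submodule R R := Ideal.span {b} with hN
  set abar : R ⧸ N := Submodule.Quotient.mk a with habar
  have hann : ∀ s : R, s ∈ (⊥ : Submodule R (R ⧸ N)).colon {abar} ↔ s * a ∈ Ideal.span {b} := by
    intro s
    rw [Submodule.mem_colon_singleton, Submodule.mem_bot, habar, ← Submodule.Quotient.mk_smul,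
      Submodule.Quotient.mk_eq_zero, hN, smul_eq_mul]
  have hle : (⊥ : Submodule R (R ⧸ N)).colon {abar} ≤ q := by
    intro s hs
    by_contra hsq
    exact hf s hsq ((hann s).mp hs)
  obtain ⟨P, hPmin, hPq⟩ := Ideal.exists_minimalPrimes_le hle
  haveI hPprime : P.IsPrime := hPmin.1.1
  have hPass : P ∈ associatedPrimes R (R ⧸ N) := by
    have h1 : (Submodule.span R {abar}).annihilator = (⊥ : Submodule R (R ⧸ N)).colon {abar} := by
      ext s
      rw [Submodule.mem_annihilator_span_singleton, Submodule.mem_colon_singleton,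
        Submodule.mem_bot]
    have h2 : P ∈ associatedPrimes R (Submodule.span R {abar}) := by
      apply Module.associatedPrimes.minimalPrimes_annihilator_subset_associatedPrimes
      rw [← h1] at hPmin
      exact hPmin
    exact associatedPrimes.subset_of_injective (f := (Submodule.span R {abar}).subtype)
      (Submodule.subtype_injective _) h2
  have hbP : b ∈ P := by
    apply hPmin.1.2
    rw [hann]
    exact Ideal.mul_mem_right _ _ (Ideal.subset_span rfl)
  have hdepth := (Groth.Agent.Lib.H8CM.depth_localization_of_mem_associatedPrimes P hbP hreg).1 hPass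
  refine ⟨P, hPprime, hPq, hdepth, ?_⟩
  intro s hsP hs
  exact hsP (hPmin.1.2 ((hann s).mpr hs))

end Alg

section Sch

open Mero Groth.Agent.Lib

variable {X : Scheme.{u}}

/-- `a / s = c / 1` in `K_{X,x}` iff `a = s c`. -/
theorem mk_eq_algebraMap_iff (x : X) (a : X.presheaf.stalk x) (s : regStalk X x)
    (c : X.presheaf.stalk x) :
    (LocalizedModule.mk a s : KStalk X x) = algebraMap (X.presheaf.stalk x) (KStalk X x) c ↔
      a = s * c := by
  have h1 : (LocalizedModule.mk a s : KStalk X x) = IsLocalization.mk' (KStalk X x) a s := by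
    rw [← Localization.mk_eq_mk']
    rfl
  rw [h1, IsLocalization.mk'_eq_iff_eq_mul, ← map_mul]
  constructor
  · intro h
    rw [mul_comm]
    exact algebraMap_KStalk_injective x h
  · intro h
    rw [h, mul_comm]

/-- A regular section is a nonzerodivisor of the ring of sections. -/
theorem isSMulRegular_of_mem_regSub (U : X.Opens) (s : Γ(X, U)) (hs : s ∈ Mero.regSub X U) :
    IsSMulRegular Γ(X, U) s := by
  rw [isSMulRegular_iff_right_eq_zero_of_smul]
  intro a ha
  refine TopCat.Presheaf.section_ext X.sheaf U a 0 (fun x hx => ?_)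
  change (X.presheaf.germ U x hx).hom a = (X.presheaf.germ U x hx).hom 0
  rw [map_zero]
  apply mem_nonZeroDivisors_iff_right.mp (hs ⟨x, hx⟩)
  change (X.presheaf.germ U x hx).hom a * (X.presheaf.germ U x hx).hom s = 0
  rw [← map_mul, mul_comm, ← smul_eq_mul, ha, map_zero]

/-- Near every point a divisor is the class of `a / b` with `a, b` regular sections over an affine
open. -/
theorem exists_local_form (D : Mero.Divisor X) (x : X) :
    ∃ (V : X.Opens) (_ : IsAffineOpen V) (_ : x ∈ V) (a b : Γ(X, V)) (_ : a ∈ regSub X V)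
      (hb : b ∈ regSub X V),
      ∀ y : V, ∃ g : (KStalk X y.1)ˣ,
        (g : KStalk X y.1) =
          LocalizedModule.mk (X.presheaf.germ V y.1 y.2 a) (regGerm y ⟨b, hb⟩) ∧
        D.1 y.1 = QuotientGroup.mk g := by
  obtain ⟨U, hxU, f, hU⟩ := D.2 x
  obtain ⟨V₁, m₁, i₁, a₁, b₁, w₁⟩ := (f : Γ(kmod X, U)).2 ⟨x, hxU⟩
  obtain ⟨V₂, m₂, i₂, a₂, b₂, w₂⟩ := ((f⁻¹ : (Γ(kmod X, U))ˣ) : Γ(kmod X, U)).2 ⟨x, hxU⟩
  obtain ⟨_, ⟨V, hV, rfl⟩, hxV, hVsub⟩ := X.isBasis_affineOpens.exists_subset_of_mem_open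
    (show x ∈ ((V₁ ⊓ V₂ : X.Opens) : Set X) from ⟨m₁, m₂⟩) (V₁ ⊓ V₂).isOpen
  have hV1 : V ≤ V₁ := fun z hz => (hVsub hz).1
  have hV2 : V ≤ V₂ := fun z hz => (hVsub hz).2
  have hVU : V ≤ U := hV1.trans i₁.le
  -- values of `f` and `f⁻¹` on `V`
  have hf1 : ∀ y : V, (f : Γ(kmod X, U)).1 ⟨y.1, hVU y.2⟩ =
      LocalizedModule.mk (X.presheaf.germ V₁ y.1 (hV1 y.2) a₁) (regGerm ⟨y.1, hV1 y.2⟩ b₁) :=
    fun y => w₁ ⟨y.1, hV1 y.2⟩
  have hf2 : ∀ y : V, ((f⁻¹ : (Γ(kmod X, U))ˣ) : Γ(kmod X, U)).1 ⟨y.1, hVU y.2⟩ =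
      LocalizedModule.mk (X.presheaf.germ V₂ y.1 (hV2 y.2) a₂) (regGerm ⟨y.1, hV2 y.2⟩ b₂) :=
    fun y => w₂ ⟨y.1, hV2 y.2⟩
  have hnzd : ∀ y : V, X.presheaf.germ V₁ y.1 (hV1 y.2) a₁ ∈ nonZeroDivisors (X.presheaf.stalk y.1) := by
    intro y
    have h1 : ((f : Γ(kmod X, U)) * ((f⁻¹ : (Γ(kmod X, U))ˣ) : Γ(kmod X, U))).1 ⟨y.1, hVU y.2⟩ = 1 := by
      rw [Units.mul_inv]
      rfl
    rw [kmod_mul_apply, hf1 y, hf2 y] at h1
    replace h1 : (LocalizedModule.mk (X.presheaf.germ V₁ y.1 (hV1 y.2) a₁ *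
        X.presheaf.germ V₂ y.1 (hV2 y.2) a₂) (regGerm ⟨y.1, hV1 y.2⟩ b₁ * regGerm ⟨y.1, hV2 y.2⟩ b₂) :
        KStalk X y.1) = 1 := LocalizedModule.mk_mul_mk.symm.trans h1
    rw [← (algebraMap (X.presheaf.stalk y.1) (KStalk X y.1)).map_one, mk_eq_algebraMap_iff,
      mul_one] at h1
    have h2 : X.presheaf.germ V₁ y.1 (hV1 y.2) a₁ * X.presheaf.germ V₂ y.1 (hV2 y.2) a₂ ∈
        nonZeroDivisors (X.presheaf.stalk y.1) := by
      rw [h1]
      exact regStalk_le_nonZeroDivisors y.1 (Submonoid.mul_mem _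
        (regGerm ⟨y.1, hV1 y.2⟩ b₁).2 (regGerm ⟨y.1, hV2 y.2⟩ b₂).2)
    exact (mul_mem_nonZeroDivisors.mp h2).1
  refine ⟨V, hV, hxV, X.presheaf.map (homOfLE hV1).op a₁, X.presheaf.map (homOfLE hV1).op b₁.1,
    ?_, regSub_res (homOfLE hV1) b₁.2, ?_⟩
  · intro y
    change X.presheaf.germ V y.1 y.2 (X.presheaf.map (homOfLE hV1).op a₁) ∈ _
    rw [TopCat.Presheaf.germ_res_apply]
    exact hnzd y
  · intro y
    refine ⟨Units.map (evalK X U ⟨y.1, hVU y.2⟩).toMonoidHom f, ?_, hU ⟨y.1, hVU y.2⟩⟩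
    change (f : Γ(kmod X, U)).1 ⟨y.1, hVU y.2⟩ = _
    rw [hf1 y]
    exact mk_congr (TopCat.Presheaf.germ_res_apply X.presheaf (homOfLE hV1) y.1 y.2 a₁).symm
      (TopCat.Presheaf.germ_res_apply X.presheaf (homOfLE hV1) y.1 y.2 b₁.1).symm

/-- effectivity at `y` in terms of a local equation `a / s`. -/
theorem isEffectiveAt_iff_local [IsLocallyNoetherian X] (D : Mero.Divisor X) (y : X)
    (a : X.presheaf.stalk y) (s : regStalk X y) (ha : a ∈ nonZeroDivisors (X.presheaf.stalk y))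
    (g : (KStalk X y)ˣ) (hg : (g : KStalk X y) = LocalizedModule.mk a s)
    (hD : D.1 y = QuotientGroup.mk g) :
    IsEffectiveAt D y ↔ ∃ c : X.presheaf.stalk y, a = s * c := by
  constructor
  · rintro ⟨t, ht⟩
    rw [hD, QuotientGroup.eq] at ht
    obtain ⟨u, hu⟩ := ht
    have h1 : (g : KStalk X y) * algebraMap (X.presheaf.stalk y) (KStalk X y) (u : X.presheaf.stalk y) =
        algebraMap (X.presheaf.stalk y) (KStalk X y) (t : X.presheaf.stalk y) := by
      have h2 := congrArg (fun z : (KStalk X y)ˣ => ((g * z : (KStalk X y)ˣ) : KStalk X y)) hu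
      simp only [mul_inv_cancel_left] at h2
      exact h2
    refine ⟨(t : X.presheaf.stalk y) * ((u⁻¹ : (X.presheaf.stalk y)ˣ) : X.presheaf.stalk y), ?_⟩
    rw [← mk_eq_algebraMap_iff, ← hg, map_mul, ← h1, mul_assoc, ← map_mul, Units.mul_inv, map_one,
      mul_one]
  · rintro ⟨c, hc⟩
    have hcn : c ∈ nonZeroDivisors (X.presheaf.stalk y) := by
      rw [hc] at ha
      exact (mul_mem_nonZeroDivisors.mp ha).2
    rw [← Groth.Agent.S8863.result X y] at hcn
    refine ⟨⟨c, hcn⟩, ?_⟩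
    rw [hD]
    congr 1
    apply Units.ext
    rw [hg, IsUnit.unit_spec]
    exact (mk_eq_algebraMap_iff y a s c).mpr hc

/-- divisibility of germs in terms of sections over an affine open. -/
theorem exists_eq_mul_iff {V : X.Opens} (hV : IsAffineOpen V) (y : X) (hy : y ∈ V)
    (a b : Γ(X, V)) :
    (∃ c : X.presheaf.stalk y, X.presheaf.germ V y hy a = X.presheaf.germ V y hy b * c) ↔
      ∃ s : Γ(X, V), s ∉ (hV.primeIdealOf ⟨y, hy⟩).asIdeal ∧ s * a ∈ Ideal.span {b} := by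
  letI : Algebra Γ(X, V) (X.presheaf.stalk y) := X.presheaf.algebra_section_stalk ⟨y, hy⟩
  haveI := hV.isLocalization_stalk ⟨y, hy⟩
  have hgerm : ∀ r : Γ(X, V), X.presheaf.germ V y hy r = algebraMap Γ(X, V) (X.presheaf.stalk y) r :=
    fun r => rfl
  constructor
  · rintro ⟨c, hc⟩
    obtain ⟨⟨c', s⟩, hcs⟩ := IsLocalization.surj (hV.primeIdealOf ⟨y, hy⟩).asIdeal.primeCompl c
    have h1 : algebraMap Γ(X, V) (X.presheaf.stalk y) (s.1 * a) =
        algebraMap Γ(X, V) (X.presheaf.stalk y) (b * c') := by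
      rw [map_mul, map_mul, ← hgerm a, hc, hgerm b, ← hcs]
      ring
    obtain ⟨t, ht⟩ := (IsLocalization.eq_iff_exists (hV.primeIdealOf ⟨y, hy⟩).asIdeal.primeCompl
      (X.presheaf.stalk y)).mp h1
    refine ⟨t.1 * s.1, fun h => (Ideal.IsPrime.mem_or_mem inferInstance h).elim t.2 s.2, ?_⟩
    rw [Ideal.mem_span_singleton']
    refine ⟨t.1 * c', ?_⟩
    linear_combination (-1 : Γ(X, V)) * ht
  · rintro ⟨s, hs, hsa⟩
    rw [Ideal.mem_span_singleton'] at hsa
    obtain ⟨c', hc'⟩ := hsa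
    have hu : IsUnit (algebraMap Γ(X, V) (X.presheaf.stalk y) s) :=
      IsLocalization.map_units (X.presheaf.stalk y)
        (⟨s, hs⟩ : (hV.primeIdealOf ⟨y, hy⟩).asIdeal.primeCompl)
    obtain ⟨u, hu'⟩ := hu
    refine ⟨algebraMap Γ(X, V) (X.presheaf.stalk y) c' * ↑u⁻¹, ?_⟩
    rw [hgerm, hgerm]
    have h2 : algebraMap Γ(X, V) (X.presheaf.stalk y) s * algebraMap Γ(X, V) (X.presheaf.stalk y) a =
        algebraMap Γ(X, V) (X.presheaf.stalk y) c' * algebraMap Γ(X, V) (X.presheaf.stalk y) b := by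
      rw [← map_mul, ← map_mul, hc']
    rw [← hu'] at h2
    calc algebraMap Γ(X, V) (X.presheaf.stalk y) a
        = ↑u⁻¹ * (↑u * algebraMap Γ(X, V) (X.presheaf.stalk y) a) := by
          rw [← mul_assoc, Units.inv_mul, one_mul]
      _ = _ := by rw [h2]; ring

/-- **Depth-one criterion**: a divisor effective at all depth-one generizations of `x` is effective
at `x`. -/
theorem isEffectiveAt_of_depth_one [IsLocallyNoetherian X] (D : Mero.Divisor X) (x : X)
    (h : ∀ y : X, y ⤳ x → LocCoh.depth (X.presheaf.stalk y) (X.presheaf.stalk y) = 1 →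
      IsEffectiveAt D y) : IsEffectiveAt D x := by
  obtain ⟨V, hV, hxV, a, b, ha, hb, hloc⟩ := exists_local_form D x
  haveI : IsNoetherianRing Γ(X, V) := IsLocallyNoetherian.component_noetherian ⟨V, hV⟩
  obtain ⟨g, hg, hD⟩ := hloc ⟨x, hxV⟩
  rw [isEffectiveAt_iff_local D x _ _ (ha ⟨x, hxV⟩) g hg hD]
  by_contra hne
  have hne' : ¬ ∃ c : X.presheaf.stalk x,
      X.presheaf.germ V x hxV a = X.presheaf.germ V x hxV b * c := hne
  rw [exists_eq_mul_iff hV x hxV a b] at hne'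
  push Not at hne'
  obtain ⟨P, hP, hPq, hdepth, hnot⟩ := exists_depth_one_prime
    (hV.primeIdealOf ⟨x, hxV⟩).asIdeal a b (isSMulRegular_of_mem_regSub V b hb) hne'
  have hyV : hV.fromSpec ⟨P, hP⟩ ∈ V := AssPoints.fromSpec_mem hV _
  have hyx : hV.fromSpec ⟨P, hP⟩ ⤳ x := by
    have h1 : (⟨P, hP⟩ : PrimeSpectrum Γ(X, V)) ⤳ hV.primeIdealOf ⟨x, hxV⟩ :=
      (PrimeSpectrum.le_iff_specializes _ _).mp hPq
    have h2 := h1.map hV.fromSpec.continuous
    rwa [hV.fromSpec_primeIdealOf ⟨x, hxV⟩] at h2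
  have hdy : LocCoh.depth (X.presheaf.stalk (hV.fromSpec ⟨P, hP⟩))
      (X.presheaf.stalk (hV.fromSpec ⟨P, hP⟩)) = 1 := by
    rw [CDivDepth.depth_stalk_fromSpec hV]
    exact hdepth
  have heff := h _ hyx hdy
  obtain ⟨g', hg', hD'⟩ := hloc ⟨_, hyV⟩
  rw [isEffectiveAt_iff_local D _ _ _ (ha ⟨_, hyV⟩) g' hg' hD'] at heff
  have heff' : ∃ c : X.presheaf.stalk (hV.fromSpec ⟨P, hP⟩),
      X.presheaf.germ V _ hyV a = X.presheaf.germ V _ hyV b * c := heff
  rw [exists_eq_mul_iff hV _ hyV a b, AssPoints.primeIdealOf_fromSpec] at heff'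
  obtain ⟨s, hs, hsa⟩ := heff'
  exact hnot s hs hsa

/-- If `D` and `D⁻¹` are effective at `x`, the germ of `D` at `x` is trivial. -/
theorem eq_one_of_isEffectiveAt_inv (D : Mero.Divisor X) (x : X) (h1 : IsEffectiveAt D x)
    (h2 : IsEffectiveAt D⁻¹ x) : D.1 x = 1 := by
  obtain ⟨s, hs⟩ := h1
  obtain ⟨t, ht⟩ := h2
  have h3 : (D⁻¹ : Mero.Divisor X).1 x = (D.1 x)⁻¹ := rfl
  rw [h3, hs, ← QuotientGroup.mk_inv, QuotientGroup.eq, inv_inv] at ht
  obtain ⟨u, hu⟩ := ht
  -- `s * t = u` in `O_{X,x}`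
  have h4 : (s : X.presheaf.stalk x) * t = u := by
    apply algebraMap_KStalk_injective x
    have := congrArg (fun z : (KStalk X x)ˣ => (z : KStalk X x)) hu
    simp only [Units.val_mul, IsUnit.unit_spec] at this
    rw [map_mul, ← this]
    rfl
  rw [hs, QuotientGroup.eq_one_iff]
  have hsu : IsUnit (s : X.presheaf.stalk x) := IsUnit.of_mul_eq_one (t * ↑u⁻¹) (by
    rw [← mul_assoc, h4, Units.mul_inv])
  refine ⟨hsu.unit, ?_⟩
  apply Units.ext
  rfl

/-- effective at a point where the germ is trivial. -/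
theorem isEffectiveAt_of_eq_one (D : Mero.Divisor X) (x : X) (h : D.1 x = 1) :
    IsEffectiveAt D x := by
  refine ⟨1, ?_⟩
  rw [h]
  symm
  rw [QuotientGroup.eq_one_iff]
  refine ⟨1, ?_⟩
  apply Units.ext
  simp

/-- A point of the support of `D` has a depth-one generization in the support. -/
theorem exists_depth_one_mem_supp [IsLocallyNoetherian X] (D : Mero.Divisor X) (x : X)
    (hx : D.1 x ≠ 1) :
    ∃ y : X, y ⤳ x ∧ LocCoh.depth (X.presheaf.stalk y) (X.presheaf.stalk y) = 1 ∧ D.1 y ≠ 1 := by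
  by_contra hcon
  push Not at hcon
  apply hx
  apply eq_one_of_isEffectiveAt_inv
  · exact isEffectiveAt_of_depth_one D x
      (fun y hyx hdy => isEffectiveAt_of_eq_one D y (hcon y hyx hdy))
  · refine isEffectiveAt_of_depth_one D⁻¹ x (fun y hyx hdy => isEffectiveAt_of_eq_one D⁻¹ y ?_)
    have h3 : (D⁻¹ : Mero.Divisor X).1 y = (D.1 y)⁻¹ := rfl
    rw [h3, hcon y hyx hdy, inv_one]

end Sch

end Groth.Agent.Lib.MeroDivDepth
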