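import Groth.Agent.Lib.AssPoints
import Groth.Agent.Lib.StructureModuleStalk
import Groth.Prelude.Def_MeroSh
import Mathlib.AlgebraicGeometry.Stalk

/-!
# Pulling back regular sections (`Mero.regSub`)

* `exists_weakAss_of_germ_ne_zero`: ring-level version of
  `AssPoints.exists_isWeakAssPoint_of_germ_ne_zero` for the structure sheaf;
* `app_mem_regSub_of_isUnit_at_weakAss`: if the germ of `s` at `f x'` is a unit for every weakly
  associated point `x'` of `O_X` with `f x' ∈ U`, then `f.app U s` is a regular section;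
* `isUnit_of_mem_nonZeroDivisors_of_forall_prime_eq`, `prime_eq_closedPoint_of_maximal`:
  at a point without proper generizations every non-zero-divisor germ is a unit;
* `isUnit_of_mem_nonZeroDivisors_of_isAssociatedPrime`: same at an associated point of `O_Y`;
* `maximalIdeal_eq_bot_of_isReduced_of_radical_ann`, `eq_of_specializes_of_isWeakAssPoint_of_isReduced`:
  on a reduced scheme, weakly associated points of `O_X` have no proper generizations.
-/

set_option autoImplicit false
universe u
open CategoryTheory CategoryTheory.Limits AlgebraicGeometry TopologicalSpace Opposite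

namespace Groth.Agent.Lib.MeroPullback

open Groth.Agent.Lib.AssPoints Groth.Agent.Lib.QCohStalk Groth.Agent.Lib.StructureModule
  Groth.Agent.Lib.StructureModuleStalk

/-- In a local ring with a single prime ideal, every non-zero-divisor is a unit. -/
theorem isUnit_of_mem_nonZeroDivisors_of_forall_prime_eq {R : Type*} [CommRing R] [IsLocalRing R]
    (hR : ∀ p : PrimeSpectrum R, p = IsLocalRing.closedPoint R) {a : R}
    (ha : a ∈ nonZeroDivisors R) : IsUnit a := by
  by_contra hnu
  have hmem : a ∈ IsLocalRing.maximalIdeal R := hnu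
  have hnil : a ∈ nilradical R := by
    rw [nilradical_eq_sInf, Ideal.mem_sInf]
    intro J hJ
    have := hR ⟨J, hJ⟩
    have hJ' : J = IsLocalRing.maximalIdeal R := congrArg PrimeSpectrum.asIdeal this
    rw [hJ']
    exact hmem
  obtain ⟨n, hn⟩ := hnil
  have h1 : (a ^ n) ∈ nonZeroDivisors R := pow_mem ha n
  rw [hn] at h1
  have : (1 : R) = 0 := (mem_nonZeroDivisors_iff_right.mp h1) 1 (by simp)
  exact one_ne_zero this

/-- If the maximal ideal of a local ring is an associated prime of the ring, every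
non-zero-divisor is a unit. -/
theorem isUnit_of_mem_nonZeroDivisors_of_isAssociatedPrime {R : Type*} [CommRing R]
    [IsLocalRing R] (hR : IsAssociatedPrime (IsLocalRing.maximalIdeal R) R) {a : R}
    (ha : a ∈ nonZeroDivisors R) : IsUnit a := by
  by_contra hnu
  have hmem : a ∈ IsLocalRing.maximalIdeal R := hnu
  obtain ⟨b, hb⟩ := hR.2
  rw [hb] at hmem
  obtain ⟨n, hn⟩ := hmem
  rw [Submodule.mem_colon_singleton, Submodule.mem_bot, smul_eq_mul] at hn
  have hb0 : b = 0 := (mem_nonZeroDivisors_iff_left.mp (pow_mem ha n)) b hn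
  subst hb0
  have h1 : (1 : R) ∈ IsLocalRing.maximalIdeal R := by
    rw [hb]
    apply Ideal.le_radical
    rw [Submodule.mem_colon_singleton, Submodule.mem_bot, smul_zero]
  exact (Ideal.ne_top_iff_one _).mp (IsLocalRing.maximalIdeal.isMaximal _).ne_top h1

/-- At a point without proper generizations, the local ring has a single prime. -/
theorem prime_eq_closedPoint_of_maximal {Y : Scheme.{u}} (y : Y)
    (hy : ∀ y' : Y, y' ⤳ y → y' = y) (p : PrimeSpectrum (Y.presheaf.stalk y)) :
    p = IsLocalRing.closedPoint (Y.presheaf.stalk y) := by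
  have hinj : Function.Injective (Y.fromSpecStalk y) :=
    (Y.fromSpecStalk y).isEmbedding.injective
  apply hinj
  have h1 : Y.fromSpecStalk y p ⤳ y := by
    have : Y.fromSpecStalk y p ∈ Set.range (Y.fromSpecStalk y) := ⟨p, rfl⟩
    rw [Scheme.range_fromSpecStalk] at this
    exact this
  rw [hy _ h1]
  exact (Scheme.fromSpecStalk_closedPoint).symm

/-- Conversely, if the local ring at `y` has a single prime, `y` has no proper generization. -/
theorem eq_of_specializes_of_forall_prime_eq {Y : Scheme.{u}} (y : Y)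
    (hy : ∀ p : PrimeSpectrum (Y.presheaf.stalk y), p = IsLocalRing.closedPoint (Y.presheaf.stalk y))
    (y' : Y) (h : y' ⤳ y) : y' = y := by
  have : y' ∈ Set.range (Y.fromSpecStalk y) := by
    rw [Scheme.range_fromSpecStalk]
    exact h
  obtain ⟨p, rfl⟩ := this
  rw [hy p]
  exact Scheme.fromSpecStalk_closedPoint

/-- A reduced local ring whose maximal ideal is the radical of the annihilator of an element is a
field: its maximal ideal is zero. -/
theorem maximalIdeal_eq_bot_of_isReduced_of_radical_ann {R : Type*} [CommRing R] [IsLocalRing R]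
    [IsReduced R] (a : R)
    (ha : Ideal.radical (LinearMap.ker (LinearMap.toSpanSingleton R R a)) =
      IsLocalRing.maximalIdeal R) : IsLocalRing.maximalIdeal R = ⊥ := by
  have hann : ∀ r ∈ IsLocalRing.maximalIdeal R, r * a = 0 := by
    intro r hr
    rw [← ha] at hr
    obtain ⟨n, hn⟩ := hr
    rw [LinearMap.mem_ker, LinearMap.toSpanSingleton_apply, smul_eq_mul] at hn
    have : IsNilpotent (r * a) := by
      refine ⟨n + 1, ?_⟩
      have : (r * a) ^ (n + 1) = (r ^ n * a) * (r * a ^ n) := by ring
      rw [this, hn, zero_mul]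
    exact this.eq_zero
  have ha0 : a ≠ 0 := by
    rintro rfl
    have h1 : (1 : R) ∈ IsLocalRing.maximalIdeal R := by
      rw [← ha]
      apply Ideal.le_radical
      rw [LinearMap.mem_ker, LinearMap.toSpanSingleton_apply, smul_zero]
    exact (Ideal.ne_top_iff_one _).mp (IsLocalRing.maximalIdeal.isMaximal _).ne_top h1
  -- `a` is a unit: otherwise it lies in every prime, hence is nilpotent
  have hunit : IsUnit a := by
    by_contra hnu
    have ham : a ∈ IsLocalRing.maximalIdeal R := hnu
    apply ha0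
    have hnil : a ∈ nilradical R := by
      rw [nilradical_eq_sInf, Ideal.mem_sInf]
      intro P hP
      have hP' : P.IsPrime := hP
      have h2 : a * a ∈ P := by rw [hann a ham]; exact P.zero_mem
      exact (hP'.mem_or_mem h2).elim id id
    exact (show IsNilpotent a from hnil).eq_zero
  rw [eq_bot_iff]
  intro r hr
  rw [Submodule.mem_bot]
  exact (hunit.mul_left_eq_zero).mp (hann r hr)

/-- On a reduced scheme, a weakly associated point of the structure sheaf has no proper
generization. -/
theorem eq_of_specializes_of_isWeakAssPoint_of_isReduced {X : Scheme.{u}} [IsReduced X] (x : X)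
    (hx : Curv2.IsWeakAssPoint (Coh.structureModule X) x) (z : X) (hz : z ⤳ x) : z = x := by
  obtain ⟨a, ha⟩ := (isWeakAssPoint_structureModule_iff x).mp hx
  have hbot := maximalIdeal_eq_bot_of_isReduced_of_radical_ann a ha
  apply eq_of_specializes_of_forall_prime_eq x _ z hz
  intro p
  apply PrimeSpectrum.ext
  change p.asIdeal = IsLocalRing.maximalIdeal _
  rw [hbot, eq_bot_iff, ← hbot]
  exact IsLocalRing.le_maximalIdeal p.2.ne_top

/-- Ring-level form of `exists_isWeakAssPoint_of_germ_ne_zero` for the structure sheaf. -/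
theorem exists_weakAss_of_germ_ne_zero {X : Scheme.{u}} {W : X.Opens} (α : Γ(X, W)) (x : X)
    (hx : x ∈ W) (hα : X.presheaf.germ W x hx α ≠ 0) :
    ∃ (x' : X) (hx' : x' ∈ W), x' ⤳ x ∧ Curv2.IsWeakAssPoint (Coh.structureModule X) x' ∧
      X.presheaf.germ W x' hx' α ≠ 0 := by
  haveI : (Coh.structureModule X).IsQuasicoherent := isQuasicoherent_structureModule X
  have hmodx : (Coh.structureModule X).presheaf.germ W x hx (toSec W α) ≠ 0 :=
    fun h0 => hα ((germ_toSec_eq_zero_iff W x hx α).mp h0)
  obtain ⟨x', hx'W, hsp, hx'ass, hx'ne⟩ :=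
    exists_isWeakAssPoint_of_germ_ne_zero (Coh.structureModule X) (toSec W α) x hx hmodx
  exact ⟨x', hx'W, hsp, hx'ass, fun h0 => hx'ne ((germ_toSec_eq_zero_iff W x' hx'W α).mpr h0)⟩

/-- If the germ of `s` at `f x'` is a unit for every weakly associated point `x'` of `O_X` lying
over `U`, then the pullback of `s` is a regular section. -/
theorem app_mem_regSub_of_isUnit_at_weakAss {X Y : Scheme.{u}} (f : X ⟶ Y) (U : Y.Opens)
    (s : Γ(Y, U))
    (h : ∀ (x' : X) (hx' : f x' ∈ U), Curv2.IsWeakAssPoint (Coh.structureModule X) x' →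
      IsUnit (Y.presheaf.germ U (f x') hx' s)) :
    f.app U s ∈ Mero.regSub X (f ⁻¹ᵁ U) := by
  intro x
  rw [mem_nonZeroDivisors_iff_right]
  intro a ha
  by_contra hne
  obtain ⟨V₀, hxV₀, α₀, rfl⟩ := TopCat.Presheaf.exists_germ_eq X.presheaf a
  set V₁ : X.Opens := V₀ ⊓ f ⁻¹ᵁ U with hV₁
  have hxV₁ : x.1 ∈ V₁ := ⟨hxV₀, x.2⟩
  set α₁ : Γ(X, V₁) := X.presheaf.map (homOfLE inf_le_left : V₁ ⟶ V₀).op α₀ with hα₁
  set t₁ : Γ(X, V₁) := X.presheaf.map (homOfLE inf_le_right : V₁ ⟶ f ⁻¹ᵁ U).op (f.app U s) with ht₁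
  have h1 : X.presheaf.germ V₁ x.1 hxV₁ (α₁ * t₁) = 0 := by
    rw [map_mul, hα₁, ht₁, TopCat.Presheaf.germ_res_apply, TopCat.Presheaf.germ_res_apply]
    exact ha
  obtain ⟨W, hxW, iU, iV, hW⟩ := TopCat.Presheaf.germ_eq X.presheaf x.1 hxV₁ hxV₁ _ 0
    (by rw [h1, map_zero])
  rw [map_zero] at hW
  set α : Γ(X, W) := X.presheaf.map iU.op α₁ with hα
  set t : Γ(X, W) := X.presheaf.map iU.op t₁ with ht
  have hαt : α * t = 0 := by rw [hα, ht, ← map_mul]; exact hW
  have hαx : X.presheaf.germ W x.1 hxW α ≠ 0 := by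
    rw [hα, hα₁, TopCat.Presheaf.germ_res_apply, TopCat.Presheaf.germ_res_apply]
    exact hne
  have hWU : W ≤ f ⁻¹ᵁ U := iU.le.trans inf_le_right
  have htdef : t = X.presheaf.map (homOfLE hWU).op (f.app U s) := by
    rw [ht, ht₁, ← ConcreteCategory.comp_apply, ← Functor.map_comp]
    rfl
  obtain ⟨x', hx'W, -, hx'ass, hx'ne⟩ := exists_weakAss_of_germ_ne_zero α x.1 hxW hαx
  have hfx'U : f x' ∈ U := hWU hx'W
  have hsunit := h x' hfx'U hx'ass
  have htunit : IsUnit (X.presheaf.germ W x' hx'W t) := by
    rw [htdef, TopCat.Presheaf.germ_res_apply, ← Scheme.Hom.germ_stalkMap_apply f U x' hfx'U s]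
    exact hsunit.map _
  apply hx'ne
  have h2 : X.presheaf.germ W x' hx'W α * X.presheaf.germ W x' hx'W t = 0 := by
    rw [← map_mul, hαt, map_zero]
  exact (htunit.mul_left_eq_zero).mp h2

end Groth.Agent.Lib.MeroPullback
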