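import Groth.Agent.Lib.MilKSymbol

/-!
# General-degree symbol calculus in Milnor K-theory (`MilK`)

* `K_induction`, `addMonoidHom_ext`: symbols generate `K F n`.
* `IsSteinbergSymbol.skew`, `pairSym_isSteinberg`: the two-slot symbol in slots `i < j`.
* `symbol_eq_zero_of_eq_neg`, `symbol_swap`, `symbol_perm`: `{…, a, …, -a, …} = 0`,
  skew-symmetry, permutation sign.
* `symbol_append_comm`: graded commutativity on symbols.
-/

set_option autoImplicit false

universe u v

namespace Groth.Agent.Lib.MilKGeneral

open MilK Groth.Agent.Lib.MilKSymbol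

variable {F : Type u} [Field F]

section Induction

theorem K_induction {n : ℕ} {P : K F n → Prop} (hsym : ∀ x : Fin n → Fˣ, P (symbol x))
    (hadd : ∀ x y, P x → P y → P (x + y)) (hneg : ∀ x, P x → P (-x)) (y : K F n) : P y := by
  have h0 : P 0 := by
    have := hadd _ _ (hsym fun _ => 1) (hneg _ (hsym fun _ => 1))
    rwa [add_neg_cancel] at this
  have hz : ∀ (r : ℤ) (x : K F n), P x → P (r • x) := by
    intro r x hx
    induction r using Int.induction_on with
    | zero => rwa [zero_smul]
    | succ i ih => rw [add_smul, one_smul]; exact hadd _ _ ih hx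
    | pred i ih => rw [sub_smul, one_smul, sub_eq_add_neg]; exact hadd _ _ ih (hneg _ hx)
  obtain ⟨t, rfl⟩ := mk_surjective F n y
  induction t using PiTensorProduct.induction_on with
  | smul_tprod r f =>
    rw [map_zsmul, mk_tprod]
    exact hz _ _ (hsym _)
  | add a b ha hb => rw [map_add]; exact hadd _ _ ha hb

theorem addMonoidHom_ext {n : ℕ} {M : Type*} [AddCommGroup M] {f g : K F n →+ M}
    (h : ∀ x : Fin n → Fˣ, f (symbol x) = g (symbol x)) : f = g := by
  ext y
  induction y using K_induction with
  | hsym x => exact h x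
  | hadd x y hx hy => rw [map_add, map_add, hx, hy]
  | hneg x hx => rw [map_neg, map_neg, hx]

end Induction

section Abstract

variable {M : Type*} [AddCommGroup M] {s : Fˣ → Fˣ → M}

theorem _root_.Groth.Agent.Lib.MilKSymbol.IsSteinbergSymbol.skew (hs : IsSteinbergSymbol s)
    (a b : Fˣ) : s a b = -s b a := by
  have h := hs.neg_self (a * b)
  have e1 : -(a * b) = (-a) * b := by simp
  have e2 : -(a * b) = a * (-b) := by simp
  rw [hs.mul_left] at h
  nth_rewrite 1 [e1] at h
  rw [e2, hs.mul_right, hs.mul_right, hs.neg_self, hs.neg_self, zero_add, add_zero] at h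
  exact eq_neg_of_add_eq_zero_left h

theorem _root_.Groth.Agent.Lib.MilKSymbol.IsSteinbergSymbol.inv_right (hs : IsSteinbergSymbol s)
    (a c : Fˣ) : s a c⁻¹ = -s a c := by
  have := hs.mul_right a c c⁻¹
  rw [mul_inv_cancel, hs.one_right] at this
  exact eq_neg_of_add_eq_zero_right this.symm

theorem _root_.Groth.Agent.Lib.MilKSymbol.IsSteinbergSymbol.zpow_left (hs : IsSteinbergSymbol s)
    (a c : Fˣ) (k : ℤ) : s (a ^ k) c = k • s a c := by
  induction k using Int.induction_on with
  | zero => simp [hs.one_left]
  | succ i ih => rw [zpow_add_one, hs.mul_left, ih, add_smul, one_smul]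
  | pred i ih => rw [zpow_sub_one, hs.mul_left, ih, hs.inv_left, sub_smul, one_smul, sub_eq_add_neg]

theorem _root_.Groth.Agent.Lib.MilKSymbol.IsSteinbergSymbol.zpow_right (hs : IsSteinbergSymbol s)
    (a c : Fˣ) (k : ℤ) : s a (c ^ k) = k • s a c := by
  induction k using Int.induction_on with
  | zero => simp [hs.one_right]
  | succ i ih => rw [zpow_add_one, hs.mul_right, ih, add_smul, one_smul]
  | pred i ih =>
    rw [zpow_sub_one, hs.mul_right, ih, hs.inv_right, sub_smul, one_smul, sub_eq_add_neg]

end Abstract

section Pair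

variable {n : ℕ}

/-- The symbol with slots `i`, `j` replaced by `a`, `b`. -/
def pairSym (x : Fin n → Fˣ) (i j : Fin n) (a b : Fˣ) : K F n :=
  symbol (Function.update (Function.update x i a) j b)

theorem pairSym_self (x : Fin n → Fˣ) (i j : Fin n) :
    pairSym x i j (x i) (x j) = symbol x := by
  unfold pairSym
  rw [Function.update_eq_self, Function.update_eq_self]

theorem pairSym_isSteinberg (x : Fin n → Fˣ) {i j : Fin n} (hij : i < j) :
    IsSteinbergSymbol (pairSym x i j) where
  mul_left a b c := by
    unfold pairSym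
    have e : ∀ d : Fˣ, Function.update (Function.update x i d) j c =
        Function.update (Function.update x j c) i d :=
      fun d => Function.update_comm hij.ne d c x
    rw [e (a * b), e a, e b, symbol_update_mul]
  mul_right a b c := by
    unfold pairSym
    rw [symbol_update_mul]
  steinberg a b hab := by
    apply symbol_eq_zero_of_isSteinberg
    refine ⟨i, j, hij, ?_⟩
    simpa [Function.update_of_ne hij.ne] using hab

/-- `{…, a, …, -a, …} = 0`. -/
theorem symbol_eq_zero_of_eq_neg (x : Fin n → Fˣ) {i j : Fin n} (hij : i ≠ j)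
    (h : x i = -x j) : symbol x = 0 := by
  rcases lt_or_gt_of_ne hij with hlt | hgt
  · have hs := pairSym_isSteinberg x hlt
    have := hs.neg_self (x i)
    have e : -x i = x j := by rw [h, neg_neg]
    rwa [e, pairSym_self] at this
  · have hs := pairSym_isSteinberg x hgt
    have := hs.neg_self (x j)
    rwa [← h, pairSym_self] at this

/-- `{…, a, …, a, …} = {…, a, …, -1, …}`. -/
theorem symbol_eq_of_eq (x : Fin n → Fˣ) {i j : Fin n} (hij : i ≠ j) (h : x i = x j) :
    symbol x = symbol (Function.update x j (-1)) := by
  have key : symbol (Function.update x j (-x j)) = 0 := by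
    apply symbol_eq_zero_of_eq_neg _ hij
    rw [Function.update_self, Function.update_of_ne hij, h, neg_neg]
  have e : -x j = (-1) * x j := by simp
  rw [e, symbol_update_mul, Function.update_eq_self] at key
  have e2 : ((-1 : Fˣ))⁻¹ = -1 := by simp
  calc symbol x = -symbol (Function.update x j (-1)) := eq_neg_of_add_eq_zero_right key
    _ = symbol (Function.update x j (-1)⁻¹) := (symbol_update_inv x j (-1)).symm
    _ = _ := by rw [e2]

end Pair

section Perm

variable {n : ℕ}

theorem comp_swap_eq_update (x : Fin n → Fˣ) (i j : Fin n) :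
    x ∘ Equiv.swap i j = Function.update (Function.update x i (x j)) j (x i) := by
  funext k
  by_cases hkj : k = j
  · subst hkj
    simp
  · by_cases hki : k = i
    · subst hki
      simp [Function.update_of_ne hkj]
    · simp [Function.update_of_ne hkj, Function.update_of_ne hki, Equiv.swap_apply_of_ne_of_ne hki hkj]

theorem symbol_swap (x : Fin n → Fˣ) {i j : Fin n} (hij : i ≠ j) :
    symbol (x ∘ Equiv.swap i j) = -symbol x := by
  have main : ∀ {i j : Fin n}, i < j → symbol (x ∘ Equiv.swap i j) = -symbol x := by
    intro i j hlt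
    have hs := pairSym_isSteinberg x hlt
    rw [comp_swap_eq_update]
    have := hs.skew (x j) (x i)
    rw [pairSym_self] at this
    exact this
  rcases lt_or_gt_of_ne hij with hlt | hgt
  · exact main hlt
  · rw [Equiv.swap_comm]
    exact main hgt

theorem symbol_perm (x : Fin n → Fˣ) (σ : Equiv.Perm (Fin n)) :
    symbol (x ∘ σ) = ((Equiv.Perm.sign σ : ℤˣ) : ℤ) • symbol x := by
  induction σ using Equiv.Perm.swap_induction_on generalizing x with
  | one => simp
  | swap_mul f i j hij ih =>
    have e : x ∘ ⇑(Equiv.swap i j * f) = (x ∘ Equiv.swap i j) ∘ f := by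
      funext k
      simp [Equiv.Perm.mul_apply]
    rw [e, ih, symbol_swap x hij, Equiv.Perm.sign_mul, Equiv.Perm.sign_swap hij]
    simp

end Perm

section GradedComm

theorem finRotate_val (N : ℕ) (j : Fin (N+1)) :
    (finRotate (N+1) j).val = (j.val + 1) % (N+1) := by
  rw [finRotate_apply, Fin.val_add]
  simp

theorem finRotate_pow_val (N : ℕ) (k : ℕ) (i : Fin N) :
    (((finRotate N)^k) i).val = (i.val + k) % N := by
  cases N with
  | zero => exact i.elim0
  | succ N =>
    induction k with
    | zero => simp [Nat.mod_eq_of_lt i.isLt]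
    | succ k ih =>
      rw [pow_succ', Equiv.Perm.mul_apply, finRotate_val, ih]
      rw [Nat.mod_add_mod, add_assoc]

theorem sign_finRotate_pow (n m : ℕ) :
    Equiv.Perm.sign ((finRotate (n + m)) ^ m) = (-1) ^ (n * m) := by
  rw [map_pow, sign_finRotate, ← pow_mul]
  rcases Nat.eq_zero_or_pos m with rfl | hm
  · simp
  · have h : (n + m - 1) * m = n * m + (m - 1) * m := by
      rw [← add_mul]; congr 1; omega
    rw [h, pow_add]
    have hev : Even ((m - 1) * m) := by
      rw [mul_comm]
      exact Nat.even_mul_pred_self m
    rw [Even.neg_one_pow hev, mul_one]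

/-- Graded commutativity on symbols. -/
theorem symbol_append_comm {n m : ℕ} (a : Fin n → Fˣ) (b : Fin m → Fˣ) :
    symbol (Fin.append a b) =
      ((-1 : ℤ) ^ (n * m)) • symbol (Fin.append b a ∘ Fin.cast (Nat.add_comm n m)) := by
  set x : Fin (n + m) → Fˣ := Fin.append b a ∘ Fin.cast (Nat.add_comm n m) with hx
  have key : x ∘ ((finRotate (n + m)) ^ m) = Fin.append a b := by
    funext i
    refine Fin.addCases (fun i' => ?_) (fun j => ?_) i
    · rw [Fin.append_left]
      have e : Fin.cast (Nat.add_comm n m) (((finRotate (n + m)) ^ m) (Fin.castAdd m i')) =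
          Fin.natAdd m i' := by
        apply Fin.ext
        rw [Fin.val_cast, finRotate_pow_val, Fin.val_castAdd, Fin.val_natAdd,
          Nat.mod_eq_of_lt (by have := i'.isLt; omega), add_comm]
      simp only [hx, Function.comp_apply]
      rw [e, Fin.append_right]
    · rw [Fin.append_right]
      have e : Fin.cast (Nat.add_comm n m) (((finRotate (n + m)) ^ m) (Fin.natAdd n j)) =
          Fin.castAdd n j := by
        apply Fin.ext
        rw [Fin.val_cast, finRotate_pow_val, Fin.val_castAdd, Fin.val_natAdd]
        have h1 : n + j.val + m = (n + m) + j.val := by omega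
        rw [h1, Nat.add_mod_left, Nat.mod_eq_of_lt (by have := j.isLt; omega)]
      simp only [hx, Function.comp_apply]
      rw [e, Fin.append_left]
  rw [← key, symbol_perm, sign_finRotate_pow]
  simp

end GradedComm

end Groth.Agent.Lib.MilKGeneral
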