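import Groth.Agent.Lib.MilKGeneral

/-!
# Tame symbols on Milnor K-groups of a discretely valued field: formal consequences of
`MilK.IsTameSymbol`

* `symbol_update_zpow_mul`: `{…, a^e w, …} = e • {…, a, …} + {…, w, …}`.
* `exists_zpow_mul_unit`: every unit of the fraction field is `π^e * u`.
* `tame_unit_symbol`: the tame symbol kills symbols of units.
* `tame_induction`: `K L (n+1)` is generated by `{π, u₁, …, uₙ}` and `{u₀, …, uₙ}`.
* `tame_neg_unif_cons`: `∂ {-π, π^{e₁} u₁, …, π^{eₙ} uₙ} = {ū₁, …, ūₙ}`.
-/

set_option autoImplicit false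
set_option linter.unusedSectionVars false

universe u v

namespace Groth.Agent.Lib.MilKTame

open MilK Groth.Agent.Lib.MilKSymbol Groth.Agent.Lib.MilKGeneral

section Slot

variable {F : Type u} [Field F] {n : ℕ}

/-- one slot of the symbol as a monoid hom -/
noncomputable def slotHom (x : Fin n → Fˣ) (k : Fin n) : Fˣ →* Multiplicative (K F n) where
  toFun a := Multiplicative.ofAdd (symbol (Function.update x k a))
  map_one' := by rw [symbol_update_one]; rfl
  map_mul' a b := by rw [symbol_update_mul]; rfl

theorem symbol_update_zpow (x : Fin n → Fˣ) (k : Fin n) (a : Fˣ) (e : ℤ) :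
    symbol (Function.update x k (a ^ e)) = e • symbol (Function.update x k a) :=
  congrArg Multiplicative.toAdd (map_zpow (slotHom x k) a e)

theorem symbol_update_zpow_mul (x : Fin n → Fˣ) (k : Fin n) (a w : Fˣ) (e : ℤ) :
    symbol (Function.update x k (a ^ e * w)) =
      e • symbol (Function.update x k a) + symbol (Function.update x k w) := by
  rw [symbol_update_mul, symbol_update_zpow]

theorem cons_eq_update (a : Fˣ) (f : Fin n → Fˣ) :
    (Fin.cons a f : Fin (n + 1) → Fˣ) = Function.update (Fin.cons 1 f) 0 a := by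
  rw [Fin.update_cons_zero]

theorem symbol_cons_mul' (a b : Fˣ) (f : Fin n → Fˣ) :
    (symbol (Fin.cons (a * b) f : Fin (n + 1) → Fˣ) : K F (n + 1)) =
      symbol (Fin.cons a f : Fin (n + 1) → Fˣ) + symbol (Fin.cons b f : Fin (n + 1) → Fˣ) := by
  rw [cons_eq_update (a * b), cons_eq_update a, cons_eq_update b, symbol_update_mul]

theorem symbol_cons_zpow_mul (a w : Fˣ) (e : ℤ) (f : Fin n → Fˣ) :
    (symbol (Fin.cons (a ^ e * w) f : Fin (n + 1) → Fˣ) : K F (n + 1)) =
      e • symbol (Fin.cons a f : Fin (n + 1) → Fˣ) + symbol (Fin.cons w f : Fin (n + 1) → Fˣ) := by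
  rw [cons_eq_update (a ^ e * w), cons_eq_update a, cons_eq_update w, symbol_update_zpow_mul]

end Slot

section DVR

variable (A : Type u) [CommRing A] [IsDomain A] [IsDiscreteValuationRing A]
  (L : Type v) [Field L] [Algebra A L] [IsFractionRing A L]

theorem unitFrac_mul_unit (ϖ : A) (h : ϖ ≠ 0) (w : Aˣ) (h' : ϖ * (w : A) ≠ 0) :
    unitFrac A L (ϖ * (w : A)) h' = unitFrac A L ϖ h * unitToFrac A L w := by
  apply Units.ext
  simp [unitToFrac]

theorem unitToFrac_neg_one : unitToFrac A L (-1) = -1 := by
  apply Units.ext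
  simp [unitToFrac]

theorem unitResidue_neg_one : unitResidue A (-1) = -1 := by
  apply Units.ext
  simp [unitResidue]

theorem exists_zpow_mul_unit (ϖ : A) (hϖ : Irreducible ϖ) (a : Lˣ) :
    ∃ (e : ℤ) (w : Aˣ), a = unitFrac A L ϖ hϖ.ne_zero ^ e * unitToFrac A L w := by
  obtain ⟨x, y, hy, hxy⟩ := IsFractionRing.div_surjective (A := A) (a : L)
  have hy0 : y ≠ 0 := nonZeroDivisors.ne_zero hy
  have hx0 : x ≠ 0 := by
    rintro rfl
    rw [map_zero, zero_div] at hxy
    exact a.ne_zero hxy.symm
  obtain ⟨m, ux, hx⟩ := IsDiscreteValuationRing.eq_unit_mul_pow_irreducible hx0 hϖ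
  obtain ⟨k, uy, hy'⟩ := IsDiscreteValuationRing.eq_unit_mul_pow_irreducible hy0 hϖ
  refine ⟨(m : ℤ) - k, ux * uy⁻¹, ?_⟩
  apply Units.ext
  have hπ0 : algebraMap A L ϖ ≠ 0 := (unitFrac A L ϖ hϖ.ne_zero).ne_zero
  have huy0 : algebraMap A L (uy : A) ≠ 0 := (unitToFrac A L uy).ne_zero
  rw [← hxy, hx, hy']
  simp only [Units.val_mul, Units.val_zpow_eq_zpow_val, coe_unitFrac, unitToFrac, Units.coe_map,
    MonoidHom.coe_coe, map_mul, map_pow, map_units_inv]
  rw [zpow_sub₀ hπ0, zpow_natCast, zpow_natCast]
  field_simp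

end DVR

section Strip

variable {F : Type u} [Field F] {n : ℕ}

/-- `{-π, π^{e₁} w₁, …, π^{eₙ} wₙ} = {-π, w₁, …, wₙ}`. -/
theorem symbol_strip (π : Fˣ) (e : Fin n → ℤ) (w : Fin n → Fˣ) :
    (symbol (Fin.cons (-π) (fun i => π ^ e i * w i) : Fin (n + 1) → Fˣ) : K F (n + 1)) =
      symbol (Fin.cons (-π) w : Fin (n + 1) → Fˣ) := by
  classical
  have key : ∀ S : Finset (Fin n),
      (symbol (Fin.cons (-π) (fun i => if i ∈ S then π ^ e i * w i else w i) :
        Fin (n + 1) → Fˣ) : K F (n + 1)) = symbol (Fin.cons (-π) w : Fin (n + 1) → Fˣ) := by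
    intro S
    induction S using Finset.induction_on with
    | empty => simp
    | insert k S hk ih =>
      set y : Fin (n + 1) → Fˣ :=
        Fin.cons (-π) (fun i => if i ∈ S then π ^ e i * w i else w i) with hy
      have e1 : (Fin.cons (-π) (fun i => if i ∈ insert k S then π ^ e i * w i else w i) :
          Fin (n + 1) → Fˣ) = Function.update y k.succ (π ^ e k * w k) := by
        funext j
        refine Fin.cases ?_ (fun i => ?_) j
        · rw [Function.update_of_ne (Fin.succ_ne_zero k).symm]
          simp [hy]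
        · by_cases hik : i = k
          · subst hik
            simp
          · have : i.succ ≠ k.succ := fun h => hik (Fin.succ_injective _ h)
            rw [Function.update_of_ne this]
            simp [hy, Finset.mem_insert, hik]
      have hyk : y k.succ = w k := by simp [hy, hk]
      have hy0 : y 0 = -π := by simp [hy]
      rw [e1, symbol_update_zpow_mul]
      have z : (symbol (Function.update y k.succ π) : K F (n + 1)) = 0 := by
        apply symbol_eq_zero_of_eq_neg _ (Fin.succ_ne_zero k).symm
        rw [Function.update_of_ne (Fin.succ_ne_zero k).symm, Function.update_self, hy0]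
      rw [z, smul_zero, zero_add, ← hyk, Function.update_eq_self, ih]
  have := key Finset.univ
  simpa using this

end Strip

section Tame

variable {A : Type u} [CommRing A] [IsDomain A] [IsDiscreteValuationRing A]
  {L : Type v} [Field L] [Algebra A L] [IsFractionRing A L]
  {n : ℕ} {d : K L (n + 1) →+ K (IsLocalRing.ResidueField A) n}

theorem tame_unit_cons (hd : IsTameSymbol A L n d) (u0 : Aˣ) (u : Fin n → Aˣ) :
    d (symbol (Fin.cons (unitToFrac A L u0) (fun i => unitToFrac A L (u i)))) = 0 := by
  obtain ⟨ϖ, hϖ⟩ := IsDiscreteValuationRing.exists_irreducible A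
  have hirr : Irreducible (ϖ * (u0 : A)) := (irreducible_mul_units u0).2 hϖ
  have h1 := hd (ϖ * u0) hirr u
  rw [unitFrac_mul_unit A L ϖ hϖ.ne_zero u0 hirr.ne_zero, symbol_cons_mul', map_add, hd ϖ hϖ u] at h1
  exact left_eq_add.mp h1.symm

theorem tame_unit_symbol (hd : IsTameSymbol A L n d) (u : Fin (n + 1) → Aˣ) :
    d (symbol (fun i => unitToFrac A L (u i))) = 0 := by
  have e : (fun i => unitToFrac A L (u i)) =
      Fin.cons (unitToFrac A L (u 0)) (fun i => unitToFrac A L (u i.succ)) := by
    funext j
    refine Fin.cases ?_ (fun i => ?_) j <;> simp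
  rw [e]
  exact tame_unit_cons hd (u 0) (fun i => u i.succ)

theorem tame_neg_unif_cons (hd : IsTameSymbol A L n d) (ϖ : A) (hϖ : Irreducible ϖ)
    (e : Fin n → ℤ) (u : Fin n → Aˣ) :
    d (symbol (Fin.cons (-unitFrac A L ϖ hϖ.ne_zero)
      (fun i => unitFrac A L ϖ hϖ.ne_zero ^ e i * unitToFrac A L (u i)))) =
      symbol (fun i => unitResidue A (u i)) := by
  rw [symbol_strip]
  have e1 : -unitFrac A L ϖ hϖ.ne_zero = unitToFrac A L (-1) * unitFrac A L ϖ hϖ.ne_zero := by
    rw [unitToFrac_neg_one]; simp
  rw [e1, symbol_cons_mul', map_add, tame_unit_cons hd, zero_add, hd ϖ hϖ u]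

end Tame

section Generators

variable (A : Type u) [CommRing A] [IsDomain A] [IsDiscreteValuationRing A]
  (L : Type v) [Field L] [Algebra A L] [IsFractionRing A L]

/-- The generators `{π, u₁, …, uₙ}` and `{u₀, …, uₙ}` of `K L (n + 1)`. -/
def tameGens (ϖ : A) (hϖ : Irreducible ϖ) (n : ℕ) : Set (K L (n + 1)) :=
  {y | ∃ u : Fin n → Aˣ, y = symbol (Fin.cons (unitFrac A L ϖ hϖ.ne_zero)
      (fun i => unitToFrac A L (u i)))} ∪
  {y | ∃ u : Fin (n + 1) → Aˣ, y = symbol (fun i => unitToFrac A L (u i))}

variable {A L}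

theorem symbol_update_unif_mem (ϖ : A) (hϖ : Irreducible ϖ) {n : ℕ} :
    ∀ (S : Finset (Fin (n + 1))) (x : Fin (n + 1) → Lˣ) (k : Fin (n + 1)), k ∉ S →
      (∀ i, i ∉ S → i ≠ k → x i ∈ Set.range (unitToFrac A L)) →
      symbol (Function.update x k (unitFrac A L ϖ hϖ.ne_zero)) ∈
        AddSubgroup.closure (tameGens A L ϖ hϖ n) := by
  classical
  intro S
  induction S using Finset.induction_on with
  | empty =>
    intro x k _ hx
    set π := unitFrac A L ϖ hϖ.ne_zero with hπ
    have base : ∀ z : Fin (n + 1) → Lˣ, z 0 = π →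
        (∀ i : Fin n, z i.succ ∈ Set.range (unitToFrac A L)) →
        symbol z ∈ AddSubgroup.closure (tameGens A L ϖ hϖ n) := by
      intro z hz0 hz
      choose u hu using hz
      apply AddSubgroup.subset_closure
      left
      refine ⟨u, ?_⟩
      congr 1
      funext j
      refine Fin.cases ?_ (fun i => ?_) j
      · simpa using hz0
      · simpa using (hu i).symm
    by_cases hk : k = 0
    · subst hk
      apply base
      · simp
      · intro i
        rw [Function.update_of_ne (Fin.succ_ne_zero i)]
        exact hx _ (Finset.notMem_empty _) (Fin.succ_ne_zero i)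
    · set y := Function.update x k π with hy
      have hsw : symbol y = -symbol (y ∘ Equiv.swap 0 k) := by
        have := symbol_swap (y ∘ Equiv.swap 0 k) (Ne.symm hk)
        rw [← this]
        congr 1
        funext j
        simp
      rw [hsw]
      apply AddSubgroup.neg_mem
      apply base
      · simp [hy]
      · intro i
        simp only [Function.comp_apply]
        by_cases hik : i.succ = k
        · rw [hik, Equiv.swap_apply_right, hy, Function.update_of_ne (Ne.symm hk)]
          exact hx _ (Finset.notMem_empty _) (Ne.symm hk)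
        · rw [Equiv.swap_apply_of_ne_of_ne (Fin.succ_ne_zero i) hik, hy,
            Function.update_of_ne hik]
          exact hx _ (Finset.notMem_empty _) hik
  | insert l S hl ih =>
    intro x k hk hx
    set π := unitFrac A L ϖ hϖ.ne_zero with hπ
    have hkl : k ≠ l := fun h => hk (h ▸ Finset.mem_insert_self _ _)
    have hkS : k ∉ S := fun h => hk (Finset.mem_insert_of_mem h)
    obtain ⟨e, w, hxl⟩ := exists_zpow_mul_unit A L ϖ hϖ (x l)
    set y := Function.update x k π with hy
    have hyl : y l = π ^ e * unitToFrac A L w := by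
      rw [hy, Function.update_of_ne (Ne.symm hkl), hxl]
    have hy' : y = Function.update y l (π ^ e * unitToFrac A L w) := by
      rw [← hyl, Function.update_eq_self]
    rw [hy', symbol_update_zpow_mul]
    apply AddSubgroup.add_mem
    · apply AddSubgroup.zsmul_mem
      have h1 : symbol (Function.update y l π) =
          symbol (Function.update (Function.update y l π) l (-1)) := by
        apply symbol_eq_of_eq _ hkl
        rw [Function.update_of_ne hkl, Function.update_self, hy, Function.update_self]
      rw [h1, Function.update_idem, hy, Function.update_comm hkl]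
      apply ih _ _ hkS
      intro i hiS hik
      by_cases hil : i = l
      · subst hil
        rw [Function.update_self]
        exact ⟨-1, unitToFrac_neg_one A L⟩
      · rw [Function.update_of_ne hil]
        exact hx i (by simp [Finset.mem_insert, hil, hiS]) hik
    · rw [hy, Function.update_comm hkl]
      apply ih _ _ hkS
      intro i hiS hik
      by_cases hil : i = l
      · subst hil
        rw [Function.update_self]
        exact ⟨w, rfl⟩
      · rw [Function.update_of_ne hil]
        exact hx i (by simp [Finset.mem_insert, hil, hiS]) hik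

theorem symbol_mem_closure_tameGens (ϖ : A) (hϖ : Irreducible ϖ) {n : ℕ} :
    ∀ (S : Finset (Fin (n + 1))) (x : Fin (n + 1) → Lˣ),
      (∀ i, i ∉ S → x i ∈ Set.range (unitToFrac A L)) →
      symbol x ∈ AddSubgroup.closure (tameGens A L ϖ hϖ n) := by
  classical
  intro S
  induction S using Finset.induction_on with
  | empty =>
    intro x hx
    have hx' : ∀ i, x i ∈ Set.range (unitToFrac A L) := fun i => hx i (Finset.notMem_empty _)
    choose u hu using hx'
    apply AddSubgroup.subset_closure
    right
    refine ⟨u, ?_⟩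
    congr 1
    funext i
    exact (hu i).symm
  | insert k S hk ih =>
    intro x hx
    obtain ⟨e, w, hxk⟩ := exists_zpow_mul_unit A L ϖ hϖ (x k)
    have hx' : x = Function.update x k (unitFrac A L ϖ hϖ.ne_zero ^ e * unitToFrac A L w) := by
      rw [← hxk, Function.update_eq_self]
    rw [hx', symbol_update_zpow_mul]
    apply AddSubgroup.add_mem
    · apply AddSubgroup.zsmul_mem
      apply symbol_update_unif_mem ϖ hϖ S x k hk
      intro i hiS hik
      exact hx i (by simp [Finset.mem_insert, hik, hiS])
    · apply ih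
      intro i hiS
      by_cases hik : i = k
      · subst hik
        rw [Function.update_self]
        exact ⟨w, rfl⟩
      · rw [Function.update_of_ne hik]
        exact hx i (by simp [Finset.mem_insert, hik, hiS])

/-- `K L (n + 1)` is generated by the symbols `{π, u₁, …, uₙ}` and `{u₀, …, uₙ}`. -/
theorem closure_tameGens (ϖ : A) (hϖ : Irreducible ϖ) (n : ℕ) :
    AddSubgroup.closure (tameGens A L ϖ hϖ n) = ⊤ := by
  rw [eq_top_iff]
  intro y _
  clear ‹y ∈ (⊤ : AddSubgroup (K L (n + 1)))›
  induction y using K_induction with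
  | hsym x =>
    exact symbol_mem_closure_tameGens ϖ hϖ Finset.univ x (fun i hi => absurd (Finset.mem_univ i) hi)
  | hadd x y hx hy => exact AddSubgroup.add_mem _ hx hy
  | hneg x hx => exact AddSubgroup.neg_mem _ hx

theorem tame_induction (ϖ : A) (hϖ : Irreducible ϖ) {n : ℕ} {P : K L (n + 1) → Prop}
    (h1 : ∀ u : Fin n → Aˣ, P (symbol (Fin.cons (unitFrac A L ϖ hϖ.ne_zero)
      (fun i => unitToFrac A L (u i)))))
    (h2 : ∀ u : Fin (n + 1) → Aˣ, P (symbol (fun i => unitToFrac A L (u i))))
    (hadd : ∀ x y, P x → P y → P (x + y)) (hneg : ∀ x, P x → P (-x)) (y : K L (n + 1)) : P y := by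
  have hy : y ∈ AddSubgroup.closure (tameGens A L ϖ hϖ n) := by
    rw [closure_tameGens]; trivial
  induction hy using AddSubgroup.closure_induction with
  | mem x hx =>
    rcases hx with ⟨u, rfl⟩ | ⟨u, rfl⟩
    · exact h1 u
    · exact h2 u
  | zero =>
    have := hadd _ _ (h2 fun _ => 1) (hneg _ (h2 fun _ => 1))
    rwa [add_neg_cancel] at this
  | add x y _ _ hx hy => exact hadd _ _ hx hy
  | neg x _ hx => exact hneg _ hx

theorem tame_hom_ext (ϖ : A) (hϖ : Irreducible ϖ) {n : ℕ} {M : Type*} [AddCommGroup M]
    {f g : K L (n + 1) →+ M}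
    (h1 : ∀ u : Fin n → Aˣ, f (symbol (Fin.cons (unitFrac A L ϖ hϖ.ne_zero)
      (fun i => unitToFrac A L (u i)))) = g (symbol (Fin.cons (unitFrac A L ϖ hϖ.ne_zero)
      (fun i => unitToFrac A L (u i)))))
    (h2 : ∀ u : Fin (n + 1) → Aˣ, f (symbol (fun i => unitToFrac A L (u i))) =
      g (symbol (fun i => unitToFrac A L (u i)))) : f = g := by
  ext y
  refine tame_induction ϖ hϖ (P := fun y => f y = g y) h1 h2 ?_ ?_ y
  · intro x y hx hy
    rw [map_add, map_add, hx, hy]
  · intro x hx
    rw [map_neg, map_neg, hx]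

end Generators

end Groth.Agent.Lib.MilKTame
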