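import Groth.Prelude.Def_GSzMilK
import Mathlib

/-!
# Basic symbol calculus in Milnor K-theory (`MilK`)
-/

set_option autoImplicit false

universe u

namespace Groth.Agent.Lib.MilKSymbol

open MilK

variable {F : Type u} [Field F]

/-- Multiplicativity of the symbol in one slot. -/
theorem symbol_update_mul {n : ℕ} (x : Fin n → Fˣ) (i : Fin n) (a b : Fˣ) :
    symbol (Function.update x i (a * b)) =
      symbol (Function.update x i a) + symbol (Function.update x i b) := by
  classical
  unfold symbol
  rw [← map_add]
  congr 1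
  have h : ∀ c : Fˣ, (fun j => Additive.ofMul (Function.update x i c j)) =
      Function.update (fun j => Additive.ofMul (x j)) i (Additive.ofMul c) := by
    intro c
    funext j
    by_cases hj : j = i
    · subst hj; simp
    · simp [Function.update_of_ne hj]
  rw [h, h, h, ofMul_mul, MultilinearMap.map_update_add]

theorem symbol_update_one {n : ℕ} (x : Fin n → Fˣ) (i : Fin n) :
    symbol (Function.update x i 1) = 0 := by
  have := symbol_update_mul x i 1 1
  rw [one_mul] at this
  exact left_eq_add.mp this

theorem symbol_update_inv {n : ℕ} (x : Fin n → Fˣ) (i : Fin n) (a : Fˣ) :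
    symbol (Function.update x i a⁻¹) = -symbol (Function.update x i a) := by
  have := symbol_update_mul x i a a⁻¹
  rw [mul_inv_cancel, symbol_update_one] at this
  exact eq_neg_of_add_eq_zero_right this.symm

/-- degree two symbols -/
theorem symbol2_mul_left (a b c : Fˣ) :
    (symbol ![a * b, c] : K F 2) = symbol ![a, c] + symbol ![b, c] := by
  have := symbol_update_mul ![(1 : Fˣ), c] 0 a b
  have h : ∀ d : Fˣ, Function.update ![(1 : Fˣ), c] 0 d = ![d, c] := by
    intro d
    funext j
    fin_cases j <;> simp
  rwa [h, h, h] at this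

theorem symbol2_mul_right (a b c : Fˣ) :
    (symbol ![a, b * c] : K F 2) = symbol ![a, b] + symbol ![a, c] := by
  have := symbol_update_mul ![a, (1 : Fˣ)] 1 b c
  have h : ∀ d : Fˣ, Function.update ![a, (1 : Fˣ)] 1 d = ![a, d] := by
    intro d
    funext j
    fin_cases j <;> simp
  rwa [h, h, h] at this

theorem symbol2_one_left (c : Fˣ) : (symbol ![1, c] : K F 2) = 0 := by
  have := symbol2_mul_left (1 : Fˣ) 1 c
  rw [one_mul] at this
  exact left_eq_add.mp this

theorem symbol2_one_right (a : Fˣ) : (symbol ![a, 1] : K F 2) = 0 := by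
  have := symbol2_mul_right a (1 : Fˣ) 1
  rw [one_mul] at this
  exact left_eq_add.mp this

theorem symbol2_inv_left (a c : Fˣ) : (symbol ![a⁻¹, c] : K F 2) = -symbol ![a, c] := by
  have := symbol2_mul_left a a⁻¹ c
  rw [mul_inv_cancel, symbol2_one_left] at this
  exact eq_neg_of_add_eq_zero_right this.symm

theorem symbol2_steinberg (a b : Fˣ) (h : (a : F) + b = 1) : (symbol ![a, b] : K F 2) = 0 := by
  apply symbol_eq_zero_of_isSteinberg
  exact ⟨0, 1, by decide, by simpa using h⟩

/-- `{x, -x} = 0`. -/
theorem symbol2_neg_self (x : Fˣ) : (symbol ![x, -x] : K F 2) = 0 := by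
  by_cases hx : x = 1
  · subst hx
    exact symbol2_one_left _
  · have hx' : (x : F) ≠ 1 := fun h => hx (Units.ext h)
    have hxi : ((x⁻¹ : Fˣ) : F) ≠ 1 := by
      intro h
      apply hx
      have : x⁻¹ = 1 := Units.ext h
      simpa using this
    let u : Fˣ := Units.mk0 (1 - (x : F)) (sub_ne_zero.2 (Ne.symm hx'))
    let v : Fˣ := Units.mk0 (1 - ((x⁻¹ : Fˣ) : F)) (sub_ne_zero.2 (Ne.symm hxi))
    have huv : -x * v = u := by
      apply Units.ext
      simp only [Units.val_mul, Units.val_neg, u, v, Units.val_mk0, Units.val_inv_eq_inv_val]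
      have : (x : F) ≠ 0 := x.ne_zero
      field_simp
      ring
    have h1 : (symbol ![x, u] : K F 2) = 0 := symbol2_steinberg x u (by simp [u])
    have h2 : (symbol ![x⁻¹, v] : K F 2) = 0 := symbol2_steinberg x⁻¹ v (by simp [v])
    have h3 : (symbol ![x, v] : K F 2) = 0 := by
      have := symbol2_inv_left x v
      rw [h2] at this
      exact neg_eq_zero.mp this.symm
    have h4 := symbol2_mul_right x (-x) v
    rw [huv, h1, h3, add_zero] at h4
    exact h4.symm

/-- `{x, x} = {x, -1}`. -/
theorem symbol2_self (x : Fˣ) : (symbol ![x, x] : K F 2) = symbol ![x, -1] := by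
  have h : x = (-1) * (-x) := by simp
  have := symbol2_mul_right x (-1) (-x)
  rw [← h, symbol2_neg_self, add_zero] at this
  exact this


section Abstract

/-- Bimultiplicative maps on units killing pairs `(a, b)` with `a + b = 1`. -/
structure IsSteinbergSymbol {M : Type*} [AddCommGroup M] (s : Fˣ → Fˣ → M) : Prop where
  mul_left : ∀ a b c, s (a * b) c = s a c + s b c
  mul_right : ∀ a b c, s a (b * c) = s a b + s a c
  steinberg : ∀ a b : Fˣ, (a : F) + b = 1 → s a b = 0

namespace IsSteinbergSymbol

variable {M : Type*} [AddCommGroup M] {s : Fˣ → Fˣ → M} (hs : IsSteinbergSymbol s)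
include hs

theorem one_left (c : Fˣ) : s 1 c = 0 := by
  have := hs.mul_left 1 1 c
  rw [one_mul] at this
  exact left_eq_add.mp this

theorem one_right (a : Fˣ) : s a 1 = 0 := by
  have := hs.mul_right a 1 1
  rw [one_mul] at this
  exact left_eq_add.mp this

theorem inv_left (a c : Fˣ) : s a⁻¹ c = -s a c := by
  have := hs.mul_left a a⁻¹ c
  rw [mul_inv_cancel, hs.one_left] at this
  exact eq_neg_of_add_eq_zero_right this.symm

theorem pow_left (a c : Fˣ) (k : ℕ) : s (a ^ k) c = k • s a c := by
  induction k with
  | zero => simp [hs.one_left]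
  | succ k ih => rw [pow_succ, hs.mul_left, ih, succ_nsmul]

theorem pow_right (a c : Fˣ) (k : ℕ) : s a (c ^ k) = k • s a c := by
  induction k with
  | zero => simp [hs.one_right]
  | succ k ih => rw [pow_succ, hs.mul_right, ih, succ_nsmul]

theorem neg_self (x : Fˣ) : s x (-x) = 0 := by
  by_cases hx : x = 1
  · subst hx
    exact hs.one_left _
  · have hx' : (x : F) ≠ 1 := fun h => hx (Units.ext h)
    have hxi : ((x⁻¹ : Fˣ) : F) ≠ 1 := by
      intro h
      apply hx
      have : x⁻¹ = 1 := Units.ext h
      simpa using this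
    let u : Fˣ := Units.mk0 (1 - (x : F)) (sub_ne_zero.2 (Ne.symm hx'))
    let v : Fˣ := Units.mk0 (1 - ((x⁻¹ : Fˣ) : F)) (sub_ne_zero.2 (Ne.symm hxi))
    have huv : -x * v = u := by
      apply Units.ext
      simp only [Units.val_mul, Units.val_neg, u, v, Units.val_mk0, Units.val_inv_eq_inv_val]
      have : (x : F) ≠ 0 := x.ne_zero
      field_simp
      ring
    have h1 : s x u = 0 := hs.steinberg x u (by simp [u])
    have h2 : s x⁻¹ v = 0 := hs.steinberg x⁻¹ v (by simp [v])
    have h3 : s x v = 0 := by
      have := hs.inv_left x v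
      rw [h2] at this
      exact neg_eq_zero.mp this.symm
    have h4 := hs.mul_right x (-x) v
    rw [huv, h1, h3, add_zero] at h4
    exact h4.symm

theorem self_eq (x : Fˣ) : s x x = s x (-1) := by
  have h : x = (-1) * (-x) := by simp
  have := hs.mul_right x (-1) (-x)
  rw [← h, hs.neg_self, add_zero] at this
  exact this

end IsSteinbergSymbol

theorem exists_nonsquare_pair (F : Type u) [Field F] [Fintype F] [DecidableEq F]
    (hF : ringChar F ≠ 2) : ∃ a : F, ¬IsSquare a ∧ ¬IsSquare (1 - a) := by
  by_contra hcon
  push Not at hcon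
  let χ := quadraticChar F
  let N := Finset.univ.filter (fun a : F => χ a = -1)
  let S := Finset.univ.filter (fun a : F => χ a = 1)
  have hsum : (∑ a : F, χ a) = (S.card : ℤ) - N.card := by
    have hpt : ∀ a : F, χ a = (if χ a = 1 then (1 : ℤ) else 0) - (if χ a = -1 then (1 : ℤ) else 0) := by
      intro a
      by_cases ha : a = 0
      · subst ha
        simp [χ]
      · rcases quadraticChar_dichotomy ha with h | h
        · simp [χ, h]
        · simp [χ, h]
    calc (∑ a : F, χ a) = ∑ a : F, ((if χ a = 1 then (1 : ℤ) else 0) - (if χ a = -1 then (1 : ℤ) else 0)) :=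
          Finset.sum_congr rfl (fun a _ => hpt a)
      _ = (S.card : ℤ) - N.card := by
          rw [Finset.sum_sub_distrib, Finset.sum_boole, Finset.sum_boole]
  have h0 : (S.card : ℤ) = N.card := by
    have := quadraticChar_sum_zero hF
    rw [hsum] at this
    linarith
  have h1 : (1 : F) ∈ S := by simp [S, χ]
  have hle : N.card ≤ (S.erase 1).card := by
    apply Finset.card_le_card_of_injOn (fun a => 1 - a)
    · intro a ha
      have ha' : χ a = -1 := by simpa [N] using ha
      have hns : ¬IsSquare a := quadraticChar_neg_one_iff_not_isSquare.1 ha'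
      have hsq := hcon a hns
      have hne0 : 1 - a ≠ 0 := by
        intro h
        have : a = 1 := by linear_combination -h
        rw [this] at ha'
        simp [χ] at ha'
      have hne1 : 1 - a ≠ 1 := by
        intro h
        have : a = 0 := by linear_combination -h
        rw [this] at ha'
        simp [χ] at ha'
      simp only [Finset.coe_erase, Set.mem_sdiff, Finset.mem_coe, Set.mem_singleton_iff]
      refine ⟨?_, hne1⟩
      simp only [S, Finset.mem_filter, Finset.mem_univ, true_and]
      exact (quadraticChar_one_iff_isSquare hne0).2 hsq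
    · intro a _ b _ hab
      simpa using hab
  rw [Finset.card_erase_of_mem h1] at hle
  have hpos : 0 < S.card := Finset.card_pos.2 ⟨1, h1⟩
  have : (N.card : ℤ) ≤ S.card - 1 := by
    have := Int.ofNat_le.2 hle
    rw [Nat.cast_sub hpos] at this
    simpa using this
  linarith

/-- Over a finite field every Steinberg symbol vanishes. -/
theorem IsSteinbergSymbol.eq_zero_of_finite [Finite F] {M : Type*} [AddCommGroup M]
    {s : Fˣ → Fˣ → M} (hs : IsSteinbergSymbol s) (a b : Fˣ) : s a b = 0 := by
  classical
  haveI : Fintype F := Fintype.ofFinite F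
  obtain ⟨g, hg⟩ := IsCyclic.exists_monoid_generator (α := Fˣ)
  have h2 : 2 • s g g = 0 := by
    rw [hs.self_eq, ← hs.pow_right]
    simp [hs.one_right]
  have hgg : s g g = 0 := by
    by_cases hF : ringChar F = 2
    · haveI : CharP F 2 := ringChar.of_eq hF
      have : (-1 : Fˣ) = 1 := by
        apply Units.ext
        simp [CharTwo.neg_eq]
      rw [hs.self_eq, this, hs.one_right]
    · obtain ⟨a, ha, ha'⟩ := exists_nonsquare_pair F hF
      have ha0 : a ≠ 0 := by
        rintro rfl
        exact ha IsSquare.zero
      have hb0 : 1 - a ≠ 0 := by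
        intro h
        rw [h] at ha'
        exact ha' IsSquare.zero
      obtain ⟨i, hi⟩ := hg (Units.mk0 a ha0)
      obtain ⟨j, hj⟩ := hg (Units.mk0 (1 - a) hb0)
      have hodd : ∀ (c : F) (hc : c ≠ 0) (k : ℕ), g ^ k = Units.mk0 c hc → ¬IsSquare c → Odd k := by
        intro c hc k hk hns
        by_contra hev
        rw [Nat.not_odd_iff_even] at hev
        obtain ⟨m, rfl⟩ := hev
        apply hns
        refine ⟨((g ^ m : Fˣ) : F), ?_⟩
        have := congr_arg (fun u : Fˣ => (u : F)) hk
        simp only [Units.val_mk0] at this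
        rw [← this, pow_add]
        simp
      have hio := hodd a ha0 i hi ha
      have hjo := hodd (1 - a) hb0 j hj ha'
      have h3 : s (Units.mk0 a ha0) (Units.mk0 (1 - a) hb0) = 0 :=
        hs.steinberg _ _ (by simp)
      rw [← hi, ← hj, hs.pow_left, hs.pow_right, smul_smul] at h3
      obtain ⟨m, hm⟩ := (hio.mul hjo)
      rw [hm, add_nsmul, mul_nsmul, h2, nsmul_zero, zero_add, one_nsmul] at h3
      exact h3
  obtain ⟨i, rfl⟩ := hg a
  obtain ⟨j, rfl⟩ := hg b
  rw [hs.pow_left, hs.pow_right, hgg]
  simp

end Abstract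

/-- Elements of `K F n` vanish as soon as all symbols do. -/
theorem eq_zero_of_symbol_eq_zero {n : ℕ} (h : ∀ y : Fin n → Fˣ, (symbol y : K F n) = 0)
    (x : K F n) : x = 0 := by
  obtain ⟨t, rfl⟩ := mk_surjective F n x
  induction t using PiTensorProduct.induction_on with
  | smul_tprod r f =>
    rw [map_zsmul, mk_tprod, h, smul_zero]
  | add a b ha hb => rw [map_add, ha, hb, add_zero]

theorem symbol_eq_zero_of_finite [Finite F] {n : ℕ} (y : Fin (n + 2) → Fˣ) :
    (symbol y : K F (n + 2)) = 0 := by
  classical
  let s : Fˣ → Fˣ → K F (n + 2) := fun a b =>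
    symbol (Function.update (Function.update y 0 a) 1 b)
  have h01 : (0 : Fin (n + 2)) ≠ 1 := by
    intro h
    have := congr_arg Fin.val h
    simp at this
  have hs : IsSteinbergSymbol s :=
    { mul_left := fun a b c => by
        simp only [s]
        have e : ∀ d : Fˣ, Function.update (Function.update y 0 d) 1 c =
            Function.update (Function.update y 1 c) 0 d := fun d => Function.update_comm h01 d c y
        rw [e (a * b), e a, e b, symbol_update_mul]
      mul_right := fun a b c => by
        simp only [s]
        rw [symbol_update_mul]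
      steinberg := fun a b hab => by
        apply symbol_eq_zero_of_isSteinberg
        refine ⟨0, 1, ?_, ?_⟩
        · rw [Fin.lt_def]; simp
        · simpa [Function.update_of_ne h01] using hab }
  have := hs.eq_zero_of_finite (y 0) (y 1)
  simpa [s] using this


end Groth.Agent.Lib.MilKSymbol
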