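import Groth.Agent.Lib.AbCx31
import Groth.Prelude.Def_Formal2

/-!
# Milnor sequence for towers of cochain complexes of abelian groups (helper31)

For a tower `K : ℕᵒᵖ ⥤ Cx` with surjective transition maps in every degree,
`ker (H^p(lim K) ⟶ lim H^p(K_n)) ≃+ lim¹ H^{p-1}(K_n)` (`Formal2.limOne`).
-/

set_option autoImplicit false

open CategoryTheory CategoryTheory.Limits Opposite HomologicalComplex
open Groth.Agent.AbCx31 Groth.Agent.MLTower31

universe u

namespace Groth.Agent.Milnor31

section TowerDiff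

variable (G : ℕ → Type u) [∀ n, AddCommGroup (G n)] (t : ∀ n, G (n + 1) →+ G n)

lemma towerDiff_apply (x : ∀ n, G n) (n : ℕ) :
    Formal2.towerDiff G t x n = x n - t n (x (n + 1)) := rfl

lemma towerDiff_surjective (ht : ∀ n, Function.Surjective (t n)) :
    Function.Surjective (Formal2.towerDiff G t) := by
  intro z
  have step : ∀ (n : ℕ) (x : G n), ∃ y : G (n + 1), t n y = x - z n := fun n x => ht n _
  choose next hnext using step
  let w : ∀ n, G n := fun n => Nat.rec (motive := G) 0 (fun n x => next n x) n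
  refine ⟨w, funext fun n => ?_⟩
  rw [towerDiff_apply]
  have : w (n + 1) = next n (w n) := rfl
  rw [this, hnext]
  abel

end TowerDiff

section ClsHom

variable (M : Cx.{u}) {N : Cx.{u}}

lemma clsHom_eq_zero_iff (p q r : ℤ) (hpq : p + 1 = q) (hqr : q + 1 = r)
    (x : AddMonoidHom.ker (M.d q r).hom) :
    clsHom M q r hqr x = 0 ↔ ∃ w : M.X p, (M.d p q).hom w = x.1 :=
  cls_eq_zero_iff M p q r hpq hqr x.1 x.2

lemma clsHom_surjective (q r : ℤ) (hqr : q + 1 = r) :
    Function.Surjective (clsHom M q r hqr) := by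
  intro h
  obtain ⟨z, hz, rfl⟩ := exists_cls M q r hqr h
  exact ⟨⟨z, hz⟩, rfl⟩

lemma d_map_eq_zero (φ : M ⟶ N) (q r : ℤ) (x : AddMonoidHom.ker (M.d q r).hom) :
    (N.d q r).hom ((φ.f q).hom x.1) = 0 := by
  rw [comm_apply]
  have : (M.d q r).hom x.1 = 0 := x.2
  rw [this, map_zero]

lemma homologyMap_clsHom (φ : M ⟶ N) (q r : ℤ) (hqr : q + 1 = r)
    (x : AddMonoidHom.ker (M.d q r).hom) :
    (homologyMap φ q).hom (clsHom M q r hqr x) =
      clsHom N q r hqr ⟨(φ.f q).hom x.1, d_map_eq_zero M φ q r x⟩ :=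
  homologyMap_cls M φ q r hqr x.1 x.2

end ClsHom

section Tower

variable (K : ℕᵒᵖ ⥤ Cx.{u})

/-- the `n`-th complex of the tower -/
abbrev T (n : ℕ) : Cx.{u} := K.obj (op n)

/-- the transition map -/
abbrev τ (n : ℕ) : T K (n + 1) ⟶ T K n := K.map (homOfLE (Nat.le_succ n)).op

/-- the product of the degree `q` terms -/
abbrev P (q : ℤ) : Type u := ∀ n : ℕ, (T K n).X q

/-- `(w_n) ↦ (w_n - τ w_{n+1})` -/
noncomputable def D (q : ℤ) : P K q →+ P K q :=
  Formal2.towerDiff (fun n => (T K n).X q) (fun n => ((τ K n).f q).hom)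

lemma D_apply (q : ℤ) (w : P K q) (n : ℕ) :
    D K q w n = w n - ((τ K n).f q).hom (w (n + 1)) := rfl

/-- the levelwise differential -/
def dP (q p : ℤ) : P K q →+ P K p where
  toFun w n := ((T K n).d q p).hom (w n)
  map_zero' := by ext n; simp
  map_add' x y := by ext n; simp

lemma dP_apply (q p : ℤ) (w : P K q) (n : ℕ) : dP K q p w n = ((T K n).d q p).hom (w n) := rfl

lemma dP_D (q p : ℤ) (w : P K q) : dP K q p (D K q w) = D K p (dP K q p w) := by
  ext n
  simp only [dP_apply, D_apply, map_sub]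
  rw [comm_apply]

lemma dP_dP (q p r : ℤ) (w : P K q) : dP K p r (dP K q p w) = 0 := by
  ext n
  simp only [dP_apply]
  exact ConcreteCategory.congr_hom ((T K n).d_comp_d q p r) (w n)

/-- element of the limit from a family killed by `D` -/
noncomputable def mkP (q : ℤ) (s : P K q) (hs : D K q s = 0) : (limit K).X q :=
  mkX K q (sectionOfSucc (termTower K q) s (fun n => by
    have := congrFun hs n
    rw [D_apply] at this
    exact (sub_eq_zero.1 this).symm))

lemma π_mkP (q : ℤ) (s : P K q) (hs : D K q s = 0) (n : ℕ) :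
    (πX K (op n) q).hom (mkP K q s hs) = s n :=
  π_mkX K q _ (op n)

lemma ext_P (q : ℤ) (x y : (limit K).X q)
    (h : ∀ n : ℕ, (πX K (op n) q).hom x = (πX K (op n) q).hom y) : x = y :=
  ext_X K q x y (fun i => h i.unop)

/-- the family of an element of the limit -/
noncomputable def famX (q : ℤ) (x : (limit K).X q) : P K q := fun n => (πX K (op n) q).hom x

lemma D_famX (q : ℤ) (x : (limit K).X q) : D K q (famX K q x) = 0 := by
  ext n
  rw [D_apply]
  exact sub_eq_zero.2 (map_πX K (homOfLE (Nat.le_succ n)).op q x).symm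

lemma d_mkP (q p : ℤ) (s : P K q) (hs : D K q s = 0) (hs' : D K p (dP K q p s) = 0) :
    ((limit K).d q p).hom (mkP K q s hs) = mkP K p (dP K q p s) hs' := by
  apply ext_P
  intro n
  rw [πX_d, π_mkP, π_mkP, dP_apply]

variable (q p : ℤ) (hqp : q + 1 = p)

/-- families `w` in degree `q` whose differentials are compatible -/
noncomputable def W : AddSubgroup (P K q) := ((D K p).comp (dP K q p)).ker

lemma W_prop (w : W K q p) : D K p (dP K q p w.1) = 0 := w.2

lemma d_mkP_dP (w : W K q p) :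
    ((limit K).d p (p + 1)).hom (mkP K p (dP K q p w.1) (W_prop K q p w)) = 0 := by
  apply ext_P
  intro n
  rw [πX_d, π_mkP, map_zero, dP_apply]
  exact ConcreteCategory.congr_hom ((T K n).d_comp_d q p (p + 1)) (w.1 n)

/-- `W ⟶ Z^p(lim K)` -/
noncomputable def γ : W K q p →+ AddMonoidHom.ker ((limit K).d p (p + 1)).hom :=
  AddMonoidHom.mk' (fun w => ⟨mkP K p (dP K q p w.1) (W_prop K q p w), d_mkP_dP K q p w⟩)
    (fun a b => by
      apply Subtype.ext
      apply ext_P
      intro n
      change (πX K (op n) p).hom (mkP K p (dP K q p (a + b : W K q p).1) (W_prop K q p (a + b))) =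
        (πX K (op n) p).hom (mkP K p (dP K q p a.1) (W_prop K q p a) +
          mkP K p (dP K q p b.1) (W_prop K q p b))
      rw [map_add, π_mkP, π_mkP, π_mkP]
      change dP K q p (a.1 + b.1) n = _
      rw [map_add]
      rfl)

lemma γ_val (w : W K q p) : (γ K q p w).1 = mkP K p (dP K q p w.1) (W_prop K q p w) := rfl

/-- `W ⟶ H^p(lim K)` -/
noncomputable def α₀ : W K q p →+
    ((homologyFunctor AddCommGrpCat.{u} (ComplexShape.up ℤ) p).obj (limit K) : AddCommGrpCat.{u}) :=
  (clsHom (limit K) p (p + 1) rfl).comp (γ K q p)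

include hqp in
lemma α₀_mem_ker (w : W K q p) :
    α₀ K q p w ∈ (limit.post K (homologyFunctor _ _ p)).hom.ker := by
  change (limit.post K (homologyFunctor _ _ p)).hom (α₀ K q p w) = 0
  apply limit_ext
  intro i
  rw [map_zero]
  refine (π_post K p i _).trans ?_
  change (homologyMap (limit.π K i) p).hom (clsHom (limit K) p (p + 1) rfl (γ K q p w)) = 0
  rw [homologyMap_clsHom, clsHom_eq_zero_iff (K.obj i) q p (p + 1) hqp rfl]
  refine ⟨w.1 i.unop, ?_⟩
  change _ = (πX K (op i.unop) p).hom (mkP K p (dP K q p w.1) (W_prop K q p w))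
  rw [π_mkP]
  rfl

/-- `W ⟶ ker (H^p(lim K) ⟶ lim H^p(K_n))` -/
noncomputable def α : W K q p →+ (limit.post K (homologyFunctor _ _ p)).hom.ker :=
  (α₀ K q p).codRestrict _ (α₀_mem_ker K q p hqp)

lemma δ_mem (w : W K q p) (n : ℕ) : D K q w.1 n ∈ AddMonoidHom.ker ((T K n).d q p).hom := by
  rw [AddMonoidHom.mem_ker]
  have := congrFun (W_prop K q p w) n
  rw [← dP_D] at this
  exact this

/-- the cocycles `w_n - τ w_{n+1}` -/
noncomputable def δfun (w : W K q p) (n : ℕ) : AddMonoidHom.ker ((T K n).d q p).hom :=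
  ⟨D K q w.1 n, δ_mem K q p w n⟩

/-- the tower of cohomology groups, and its transition maps -/
abbrev Hq (n : ℕ) : Type u := (T K n).homology q

/-- transition maps on cohomology -/
noncomputable abbrev tH (n : ℕ) : Hq K q (n + 1) →+ Hq K q n := (homologyMap (τ K n) q).hom

/-- `W ⟶ ∏ H^q(K_n)` -/
noncomputable def β₀ : W K q p →+ (∀ n, Hq K q n) :=
  AddMonoidHom.mk' (fun w n => clsHom (T K n) q p hqp (δfun K q p w n)) (fun a b => by
    funext n
    change clsHom (T K n) q p hqp (δfun K q p (a + b) n) =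
      clsHom (T K n) q p hqp (δfun K q p a n) + clsHom (T K n) q p hqp (δfun K q p b n)
    rw [← map_add]
    congr 1
    apply Subtype.ext
    change D K q (a.1 + b.1) n = D K q a.1 n + D K q b.1 n
    rw [map_add]
    rfl)

/-- `W ⟶ lim¹ H^q(K_n)` -/
noncomputable def β : W K q p →+ Formal2.limOne (Hq K q) (tH K q) :=
  (QuotientAddGroup.mk' _).comp (β₀ K q p hqp)

variable (hK : ∀ (n : ℕ) (q : ℤ), Function.Surjective ((τ K n).f q).hom)

include hqp in
lemma α_surjective : Function.Surjective (α K q p hqp) := by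
  rintro ⟨h, hh⟩
  rw [AddMonoidHom.mem_ker] at hh
  obtain ⟨x, hx, rfl⟩ := exists_cls (limit K) p (p + 1) rfl h
  have hw : ∀ n : ℕ, ∃ w, ((T K n).d q p).hom w = (πX K (op n) p).hom x := by
    intro n
    have hz' : ((T K n).d p (p + 1)).hom ((πX K (op n) p).hom x) = 0 := by
      rw [← πX_d, hx, map_zero]
    have h0 : cls (T K n) p (p + 1) rfl ((πX K (op n) p).hom x) hz' = 0 := by
      have := homologyMap_cls (limit K) (limit.π K (op n)) p (p + 1) rfl x hx
      rw [← this, ← π_post, hh]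
      exact map_zero _
    exact (cls_eq_zero_iff (T K n) q p (p + 1) hqp rfl _ _).1 h0
  choose w hw using hw
  have hdw : dP K q p w = famX K p x := funext hw
  have hW : w ∈ W K q p := by
    change D K p (dP K q p w) = 0
    rw [hdw, D_famX]
  refine ⟨⟨w, hW⟩, Subtype.ext ?_⟩
  change clsHom (limit K) p (p + 1) rfl (γ K q p ⟨w, hW⟩) = cls (limit K) p (p + 1) rfl x hx
  change _ = clsHom (limit K) p (p + 1) rfl ⟨x, hx⟩
  congr 1
  apply Subtype.ext
  apply ext_P
  intro n
  rw [γ_val, π_mkP]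
  exact hw n

include hK in
lemma β_surjective : Function.Surjective (β K q p hqp) := by
  intro c
  obtain ⟨h, rfl⟩ := QuotientAddGroup.mk_surjective c
  have hz : ∀ n, ∃ z : AddMonoidHom.ker ((T K n).d q p).hom, clsHom (T K n) q p hqp z = h n :=
    fun n => clsHom_surjective (T K n) q p hqp (h n)
  choose z hz using hz
  obtain ⟨w, hw⟩ := towerDiff_surjective (fun n => (T K n).X q)
    (fun n => ((τ K n).f q).hom) (fun n => hK n q) (fun n => (z n).1)
  have hw' : D K q w = fun n => (z n).1 := hw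
  have hW : w ∈ W K q p := by
    change D K p (dP K q p w) = 0
    rw [← dP_D, hw']
    ext n
    exact (z n).2
  refine ⟨⟨w, hW⟩, ?_⟩
  change (QuotientAddGroup.mk (β₀ K q p hqp ⟨w, hW⟩) : Formal2.limOne (Hq K q) (tH K q)) = _
  congr 1
  funext n
  change clsHom (T K n) q p hqp (δfun K q p ⟨w, hW⟩ n) = h n
  rw [← hz n]
  congr 1
  apply Subtype.ext
  exact congrFun hw' n

lemma α_eq_zero_iff (w : W K q p) :
    α K q p hqp w = 0 ↔ ∃ v : (limit K).X q,
      ((limit K).d q p).hom v = mkP K p (dP K q p w.1) (W_prop K q p w) := by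
  have : α K q p hqp w = 0 ↔ clsHom (limit K) p (p + 1) rfl (γ K q p w) = 0 := by
    constructor
    · intro h; exact congrArg Subtype.val h
    · intro h; exact Subtype.ext h
  rw [this, clsHom_eq_zero_iff (limit K) q p (p + 1) hqp rfl]
  rfl

lemma β_eq_zero_iff (w : W K q p) :
    β K q p hqp w = 0 ↔ ∃ h : ∀ n, Hq K q n,
      ∀ n, h n - tH K q n (h (n + 1)) = clsHom (T K n) q p hqp (δfun K q p w n) := by
  have : β K q p hqp w = 0 ↔ β₀ K q p hqp w ∈ (Formal2.towerDiff (Hq K q) (tH K q)).range :=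
    QuotientAddGroup.eq_zero_iff _
  rw [this]
  constructor
  · rintro ⟨h, hh⟩
    exact ⟨h, fun n => congrFun hh n⟩
  · rintro ⟨h, hh⟩
    exact ⟨h, funext hh⟩

/-- the class of `τ y` -/
lemma tH_clsHom (n : ℕ) (y : AddMonoidHom.ker ((T K (n + 1)).d q p).hom) :
    tH K q n (clsHom (T K (n + 1)) q p hqp y) =
      clsHom (T K n) q p hqp ⟨((τ K n).f q).hom y.1, d_map_eq_zero _ (τ K n) q p y⟩ :=
  homologyMap_clsHom _ (τ K n) q p hqp y

include hK in
lemma ker_α_eq_ker_β : (α K q p hqp).ker = (β K q p hqp).ker := by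
  ext w
  rw [AddMonoidHom.mem_ker, AddMonoidHom.mem_ker, α_eq_zero_iff, β_eq_zero_iff]
  constructor
  · rintro ⟨v, hv⟩
    have hy : ∀ n, w.1 n - (πX K (op n) q).hom v ∈ AddMonoidHom.ker ((T K n).d q p).hom := by
      intro n
      rw [AddMonoidHom.mem_ker, map_sub, ← πX_d, hv, π_mkP, dP_apply, sub_self]
    refine ⟨fun n => clsHom (T K n) q p hqp ⟨_, hy n⟩, fun n => ?_⟩
    rw [tH_clsHom, ← map_sub]
    congr 1
    apply Subtype.ext
    change (w.1 n - (πX K (op n) q).hom v) -
      ((τ K n).f q).hom (w.1 (n + 1) - (πX K (op (n + 1)) q).hom v) = D K q w.1 n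
    rw [map_sub, D_apply]
    have := map_πX K (homOfLE (Nat.le_succ n)).op q v
    rw [this]
    abel
  · rintro ⟨h, hh⟩
    have hy : ∀ n, ∃ y : AddMonoidHom.ker ((T K n).d q p).hom, clsHom (T K n) q p hqp y = h n :=
      fun n => clsHom_surjective (T K n) q p hqp (h n)
    choose y hy using hy
    -- the boundaries
    have hu : ∀ n, ∃ u : (T K n).X (q - 1), ((T K n).d (q - 1) q).hom u =
        D K q w.1 n - ((y n).1 - ((τ K n).f q).hom (y (n + 1)).1) := by
      intro n
      have h1 := hh n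
      rw [← hy n, ← hy (n + 1), tH_clsHom, ← map_sub] at h1
      have h2 : clsHom (T K n) q p hqp (δfun K q p w n -
          (y n - ⟨((τ K n).f q).hom (y (n + 1)).1, d_map_eq_zero _ (τ K n) q p _⟩)) = 0 := by
        rw [map_sub, h1, sub_self]
      exact (clsHom_eq_zero_iff (T K n) (q - 1) q p (by ring) hqp _).1 h2
    choose u hu using hu
    obtain ⟨e, he⟩ := towerDiff_surjective (fun n => (T K n).X (q - 1))
      (fun n => ((τ K n).f (q - 1)).hom) (fun n => hK n (q - 1)) u
    have he' : D K (q - 1) e = u := he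
    let vf : P K q := fun n => w.1 n - (y n).1 - ((T K n).d (q - 1) q).hom (e n)
    have hvf : D K q vf = 0 := by
      ext n
      have h3 : ((T K n).d (q - 1) q).hom (D K (q - 1) e n) = ((T K n).d (q - 1) q).hom (u n) := by
        rw [he']
      rw [D_apply, map_sub, comm_apply] at h3
      rw [hu n, D_apply] at h3
      simp only [D_apply, vf, map_sub]
      rw [Pi.zero_apply]
      rw [sub_eq_iff_eq_add] at h3
      rw [h3]
      abel
    refine ⟨mkP K q vf hvf, ?_⟩
    apply ext_P
    intro n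
    rw [πX_d, π_mkP, π_mkP, dP_apply]
    simp only [vf, map_sub]
    have h4 : ((T K n).d q p).hom (y n).1 = 0 := (y n).2
    have h5 : ((T K n).d q p).hom (((T K n).d (q - 1) q).hom (e n)) = 0 :=
      ConcreteCategory.congr_hom ((T K n).d_comp_d (q - 1) q p) (e n)
    rw [h4, h5, sub_zero, sub_zero]

include hqp hK in
theorem nonempty_ker_post_addEquiv_limOne :
    Nonempty ((limit.post K (homologyFunctor _ _ p)).hom.ker ≃+
      Formal2.limOne (Hq K q) (tH K q)) := by
  let e₁ := QuotientAddGroup.quotientKerEquivOfSurjective (α K q p hqp) (α_surjective K q p hqp)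
  let e₂ := QuotientAddGroup.quotientKerEquivOfSurjective (β K q p hqp)
    (β_surjective K q p hqp hK)
  let e₃ := QuotientAddGroup.quotientAddEquivOfEq (ker_α_eq_ker_β K q p hqp hK)
  exact ⟨e₁.symm.trans (e₃.trans e₂)⟩

end Tower

end Groth.Agent.Milnor31
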