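import Mathlib
import Groth.Agent.S2019
import Groth.Agent.S14949
import Groth.Agent.S14952
import Groth.Agent.S14953
import Groth.Agent.S14954
import Groth.Agent.Lib.RingFibreSq24

/-!
# Finite etale algebras over a Milnor square (helper24)

Algebra form.  `C = B ×_A A'` with `A' → A` surjective (`EtMil.IsFibreSquare C B A' A`).

* `finite_etale_of_fibreSquare`: a `C`-algebra `C'` whose base changes to `B` and to `A'` are
  finite etale is finite etale.
* `isPushout_of_fibreSquares`: a fibre square `C' = E₁ ×_{E₀} E₂` over the Milnor square with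
  `E₀ = A ⊗_B E₁ = A ⊗_{A'} E₂` satisfies `E₁ = B ⊗_C C'` and `E₂ = A' ⊗_C C'`.
-/

set_option autoImplicit false
universe u

namespace Groth.Agent.Lib.MilnorEtale24

open TensorProduct

section AlgebraForm

variable (C B A' A : Type u) [CommRing C] [CommRing B] [CommRing A'] [CommRing A]
  [Algebra C B] [Algebra C A'] [Algebra B A] [Algebra A' A] [Algebra C A]
  [IsScalarTower C B A] [IsScalarTower C A' A]

/-- A `C`-algebra over a Milnor square whose two base changes are finite etale is finite etale. -/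
theorem finite_etale_of_fibreSquare (hsq : EtMil.IsFibreSquare C B A' A)
    (C' E₁ E₂ : Type u) [CommRing C'] [CommRing E₁] [CommRing E₂]
    [Algebra C C'] [Algebra B E₁] [Algebra C' E₁] [Algebra C E₁] [IsScalarTower C B E₁]
    [IsScalarTower C C' E₁] [Algebra.IsPushout C B C' E₁]
    [Algebra A' E₂] [Algebra C' E₂] [Algebra C E₂] [IsScalarTower C A' E₂]
    [IsScalarTower C C' E₂] [Algebra.IsPushout C A' C' E₂]
    [Module.Finite B E₁] [Algebra.Etale B E₁] [Module.Finite A' E₂] [Algebra.Etale A' E₂] :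
    Module.Finite C C' ∧ Algebra.Etale C C' := by
  let e₁ : B ⊗[C] C' ≃ₐ[B] E₁ := Algebra.IsPushout.equiv C B C' E₁
  let e₂ : A' ⊗[C] C' ≃ₐ[A'] E₂ := Algebra.IsPushout.equiv C A' C' E₂
  haveI : Module.Flat B (B ⊗[C] C') := Module.Flat.of_linearEquiv e₁.toLinearEquiv
  haveI : Module.Flat A' (A' ⊗[C] C') := Module.Flat.of_linearEquiv e₂.toLinearEquiv
  haveI : Module.FinitePresentation B E₁ := Module.FinitePresentation.of_finite_of_finitePresentation B E₁
  haveI : Module.FinitePresentation A' E₂ :=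
    Module.FinitePresentation.of_finite_of_finitePresentation A' E₂
  haveI : Module.FinitePresentation B (B ⊗[C] C') :=
    Module.finitePresentation_of_surjective e₁.symm.toLinearEquiv.toLinearMap
      e₁.symm.surjective (by
        rw [LinearMap.ker_eq_bot.mpr e₁.symm.injective]
        exact Submodule.fg_bot)
  haveI : Module.FinitePresentation A' (A' ⊗[C] C') :=
    Module.finitePresentation_of_surjective e₂.symm.toLinearEquiv.toLinearMap
      e₂.symm.surjective (by
        rw [LinearMap.ker_eq_bot.mpr e₂.symm.injective]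
        exact Submodule.fg_bot)
  haveI : Module.Finite B (B ⊗[C] C') := inferInstance
  haveI : Module.Finite A' (A' ⊗[C] C') := inferInstance
  haveI hflat : Module.Flat C C' := Groth.Agent.S14952.result C B A' A hsq C'
  haveI hfin : Module.Finite C C' := Groth.Agent.S14953.result C B A' A hsq C'
  haveI hfp : Module.FinitePresentation C C' := Groth.Agent.S14954.result C B A' A hsq C'
  haveI hafp : Algebra.FinitePresentation C C' := Algebra.FinitePresentation.of_finitePresentation C C'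
  haveI : Subsingleton (B ⊗[C] Ω[C'⁄C]) :=
    (KaehlerDifferential.tensorKaehlerEquivBase C B C' E₁).toEquiv.subsingleton
  haveI : Subsingleton (A' ⊗[C] Ω[C'⁄C]) :=
    (KaehlerDifferential.tensorKaehlerEquivBase C A' C' E₂).toEquiv.subsingleton
  haveI hΩ : Subsingleton Ω[C'⁄C] := Groth.Agent.S14949.result C B A' A hsq Ω[C'⁄C]
  haveI : Algebra.FormallyUnramified C C' := ⟨hΩ⟩
  exact ⟨hfin, Algebra.Etale.of_formallyUnramified_of_flat⟩

/-- Milnor patching of algebras: a fibre square `C' = E₁ ×_{E₀} E₂` lying over a Milnor square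
`C = B ×_A A'` with `E₀ = A ⊗_B E₁ = A ⊗_{A'} E₂` is obtained by base change from `C'`. -/
theorem isPushout_of_fibreSquares (hsq : EtMil.IsFibreSquare C B A' A)
    (C' E₁ E₂ E₀ : Type u) [CommRing C'] [CommRing E₁] [CommRing E₂] [CommRing E₀]
    [Algebra C C'] [Algebra B E₁] [Algebra A' E₂] [Algebra A E₀]
    [Algebra C' E₁] [Algebra C' E₂] [Algebra E₁ E₀] [Algebra E₂ E₀]
    [Algebra C E₁] [Algebra C E₂] [Algebra B E₀] [Algebra A' E₀]
    [IsScalarTower C B E₁] [IsScalarTower C C' E₁] [IsScalarTower C A' E₂] [IsScalarTower C C' E₂]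
    [IsScalarTower B A E₀] [IsScalarTower B E₁ E₀] [IsScalarTower A' A E₀] [IsScalarTower A' E₂ E₀]
    [Algebra.IsPushout B A E₁ E₀] [Algebra.IsPushout A' A E₂ E₀]
    (hcomm : ∀ c : C', algebraMap E₁ E₀ (algebraMap C' E₁ c) = algebraMap E₂ E₀ (algebraMap C' E₂ c))
    (hinj : ∀ c : C', algebraMap C' E₁ c = 0 → algebraMap C' E₂ c = 0 → c = 0)
    (hsurj : ∀ (x : E₁) (y : E₂), algebraMap E₁ E₀ x = algebraMap E₂ E₀ y →
      ∃ c : C', algebraMap C' E₁ c = x ∧ algebraMap C' E₂ c = y) :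
    Algebra.IsPushout C B C' E₁ ∧ Algebra.IsPushout C A' C' E₂ := by
  let e₁ : A ⊗[B] E₁ ≃ₐ[A] E₀ := Algebra.IsPushout.equiv B A E₁ E₀
  let e₂ : A ⊗[A'] E₂ ≃ₐ[A] E₀ := Algebra.IsPushout.equiv A' A E₂ E₀
  let φ : A ⊗[B] E₁ ≃ₗ[A] A ⊗[A'] E₂ := e₁.toLinearEquiv ≪≫ₗ e₂.toLinearEquiv.symm
  have hφ : ∀ (x : E₁) (y : E₂), φ ((1 : A) ⊗ₜ[B] x) = (1 : A) ⊗ₜ[A'] y ↔
      algebraMap E₁ E₀ x = algebraMap E₂ E₀ y := by
    intro x y
    have h1 : e₁ ((1 : A) ⊗ₜ[B] x) = algebraMap E₁ E₀ x := by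
      simp only [e₁, Algebra.IsPushout.equiv_tmul, map_one, one_mul]
    have h2 : e₂ ((1 : A) ⊗ₜ[A'] y) = algebraMap E₂ E₀ y := by
      simp only [e₂, Algebra.IsPushout.equiv_tmul, map_one, one_mul]
    show e₂.toLinearEquiv.symm (e₁.toLinearEquiv ((1 : A) ⊗ₜ[B] x)) = _ ↔ _
    rw [LinearEquiv.symm_apply_eq]
    show e₁ ((1 : A) ⊗ₜ[B] x) = e₂ ((1 : A) ⊗ₜ[A'] y) ↔ _
    rw [h1, h2]
  let ψ₁ : C' →ₗ[C] E₁ := (IsScalarTower.toAlgHom C C' E₁).toLinearMap
  let ψ₂ : C' →ₗ[C] E₂ := (IsScalarTower.toAlgHom C C' E₂).toLinearMap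
  let Φ₀ : C' →ₗ[C] EtMil.glue C φ :=
    LinearMap.codRestrict (EtMil.glue C φ) (ψ₁.prod ψ₂) (fun c => (hφ _ _).mpr (hcomm c))
  have hΦ : Function.Bijective Φ₀ := by
    constructor
    · rw [injective_iff_map_eq_zero]
      intro c hc
      have h0 : (ψ₁.prod ψ₂) c = 0 := congr(($hc).1)
      exact hinj c congr(($h0).1) congr(($h0).2)
    · rintro ⟨⟨x, y⟩, hxy⟩
      obtain ⟨c, hc1, hc2⟩ := hsurj x y ((hφ x y).mp hxy)
      refine ⟨c, Subtype.ext ?_⟩
      show ((algebraMap C' E₁ c, algebraMap C' E₂ c) : E₁ × E₂) = (x, y)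
      rw [hc1, hc2]
  let Φ : C' ≃ₗ[C] EtMil.glue C φ := LinearEquiv.ofBijective Φ₀ hΦ
  obtain ⟨hb1, hb2⟩ := Groth.Agent.S2019.result C B A' A hsq E₁ E₂ φ
  have k1 : ψ₁.liftBaseChange B = (EtMil.glueFst C φ).liftBaseChange B ∘ₗ
      (Φ.baseChange C B (M := C') (N := EtMil.glue C φ)).toLinearMap := by
    apply TensorProduct.AlgebraTensorModule.ext
    intro b c
    simp only [LinearMap.liftBaseChange_tmul, LinearMap.coe_comp, LinearEquiv.coe_coe,
      Function.comp_apply, LinearEquiv.baseChange_tmul]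
    rfl
  have k2 : ψ₂.liftBaseChange A' = (EtMil.glueSnd C φ).liftBaseChange A' ∘ₗ
      (Φ.baseChange C A' (M := C') (N := EtMil.glue C φ)).toLinearMap := by
    apply TensorProduct.AlgebraTensorModule.ext
    intro b c
    simp only [LinearMap.liftBaseChange_tmul, LinearMap.coe_comp, LinearEquiv.coe_coe,
      Function.comp_apply, LinearEquiv.baseChange_tmul]
    rfl
  have hbij1 : Function.Bijective (ψ₁.liftBaseChange B) := by
    rw [k1]
    exact hb1.comp (LinearEquiv.bijective _)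
  have hbij2 : Function.Bijective (ψ₂.liftBaseChange A') := by
    rw [k2]
    exact hb2.comp (LinearEquiv.bijective _)
  constructor
  · constructor
    exact IsBaseChange.of_equiv (LinearEquiv.ofBijective _ hbij1) (fun x => by
      simp only [LinearEquiv.ofBijective_apply, LinearMap.liftBaseChange_tmul, one_smul]
      rfl)
  · constructor
    exact IsBaseChange.of_equiv (LinearEquiv.ofBijective _ hbij2) (fun x => by
      simp only [LinearEquiv.ofBijective_apply, LinearMap.liftBaseChange_tmul, one_smul]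
      rfl)

end AlgebraForm

section Cat

open CategoryTheory Groth.Agent.Lib.RingFibreSq24

variable {C B A' A C' E₁ E₂ E₀ : CommRingCat.{u}}

/-- **Milnor patching, categorical form.**  A cube of commutative rings whose bottom face is a
Milnor square `C = B ×_A A'` (with `A' → A` surjective), whose top face is a fibre square
`C' = E₁ ×_{E₀} E₂` and whose two faces over `A` are pushouts: then the two faces over `C` are
pushouts; if moreover `B → E₁` and `A' → E₂` are finite etale then so is `C → C'`. -/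
theorem milnor_patch
    (π₁ : C ⟶ B) (π₂ : C ⟶ A') (q : B ⟶ A) (p : A' ⟶ A)
    (π₁' : C' ⟶ E₁) (π₂' : C' ⟶ E₂) (q' : E₁ ⟶ E₀) (p' : E₂ ⟶ E₀)
    (φC : C ⟶ C') (φB : B ⟶ E₁) (φA' : A' ⟶ E₂) (φA : A ⟶ E₀)
    (sq : IsFibreSq π₁.hom π₂.hom q.hom p.hom) (hp : Function.Surjective p.hom)
    (sq' : IsFibreSq π₁'.hom π₂'.hom q'.hom p'.hom)
    (h1 : π₁ ≫ φB = φC ≫ π₁') (h2 : π₂ ≫ φA' = φC ≫ π₂')
    (hq : IsPushout q φB φA q') (hpp : IsPushout p φA' φA p') :
    IsPushout π₁ φC φB π₁' ∧ IsPushout π₂ φC φA' π₂' ∧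
      (φB.hom.Finite → φB.hom.Etale → φA'.hom.Finite → φA'.hom.Etale →
        φC.hom.Finite ∧ φC.hom.Etale) := by
  letI : Algebra C B := π₁.hom.toAlgebra
  letI : Algebra C A' := π₂.hom.toAlgebra
  letI : Algebra B A := q.hom.toAlgebra
  letI : Algebra A' A := p.hom.toAlgebra
  letI : Algebra C A := (π₁ ≫ q).hom.toAlgebra
  haveI : IsScalarTower C B A := IsScalarTower.of_algebraMap_eq' rfl
  haveI : IsScalarTower C A' A := IsScalarTower.of_algebraMap_eq' (by
    ext c
    exact sq.comm c)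
  letI : Algebra C C' := φC.hom.toAlgebra
  letI : Algebra B E₁ := φB.hom.toAlgebra
  letI : Algebra A' E₂ := φA'.hom.toAlgebra
  letI : Algebra A E₀ := φA.hom.toAlgebra
  letI : Algebra C' E₁ := π₁'.hom.toAlgebra
  letI : Algebra C' E₂ := π₂'.hom.toAlgebra
  letI : Algebra E₁ E₀ := q'.hom.toAlgebra
  letI : Algebra E₂ E₀ := p'.hom.toAlgebra
  letI : Algebra C E₁ := (π₁ ≫ φB).hom.toAlgebra
  letI : Algebra C E₂ := (π₂ ≫ φA').hom.toAlgebra
  letI : Algebra B E₀ := (q ≫ φA).hom.toAlgebra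
  letI : Algebra A' E₀ := (p ≫ φA).hom.toAlgebra
  haveI : IsScalarTower C B E₁ := IsScalarTower.of_algebraMap_eq' rfl
  haveI : IsScalarTower C C' E₁ := IsScalarTower.of_algebraMap_eq' congr(($h1).hom)
  haveI : IsScalarTower C A' E₂ := IsScalarTower.of_algebraMap_eq' rfl
  haveI : IsScalarTower C C' E₂ := IsScalarTower.of_algebraMap_eq' congr(($h2).hom)
  haveI : IsScalarTower B A E₀ := IsScalarTower.of_algebraMap_eq' rfl
  haveI : IsScalarTower B E₁ E₀ := IsScalarTower.of_algebraMap_eq' congr(($(hq.w)).hom)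
  haveI : IsScalarTower A' A E₀ := IsScalarTower.of_algebraMap_eq' rfl
  haveI : IsScalarTower A' E₂ E₀ := IsScalarTower.of_algebraMap_eq' congr(($(hpp.w)).hom)
  haveI : Algebra.IsPushout B A E₁ E₀ :=
    (CommRingCat.isPushout_iff_isPushout (R := B) (S := E₁) (R' := A) (S' := E₀)).mp hq
  haveI : Algebra.IsPushout A' A E₂ E₀ :=
    (CommRingCat.isPushout_iff_isPushout (R := A') (S := E₂) (R' := A) (S' := E₀)).mp hpp
  have hsq : EtMil.IsFibreSquare C B A' A := by
    refine ⟨hp, fun b a' h => ?_⟩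
    obtain ⟨c, hc1, hc2⟩ := sq.surj b a' h
    exact ⟨c, ⟨hc1, hc2⟩, fun c' hc' => sq.ext (hc'.1.trans hc1.symm) (hc'.2.trans hc2.symm)⟩
  obtain ⟨P1, P2⟩ := isPushout_of_fibreSquares C B A' A hsq C' E₁ E₂ E₀
    (fun c => sq'.comm c) (fun c hc1 hc2 => sq'.inj c hc1 hc2)
    (fun x y hxy => sq'.surj x y hxy)
  refine ⟨(CommRingCat.isPushout_iff_isPushout (R := C) (S := C') (R' := B) (S' := E₁)).mpr P1,
    (CommRingCat.isPushout_iff_isPushout (R := C) (S := C') (R' := A') (S' := E₂)).mpr P2, ?_⟩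
  intro hB hB' hA hA'
  haveI : Module.Finite B E₁ := hB
  haveI : Algebra.Etale B E₁ := hB'
  haveI : Module.Finite A' E₂ := hA
  haveI : Algebra.Etale A' E₂ := hA'
  exact finite_etale_of_fibreSquare C B A' A hsq C' E₁ E₂

end Cat

end Groth.Agent.Lib.MilnorEtale24
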