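import Mathlib
import Groth.Agent.Lib.Ferrand24a

/-!
# A cartesian square criterion for affine morphisms (helper24)

`isPullback_of_isPushout_sections`: a commutative square of schemes `X' → T`, `X' → X`, `T → W`,
`X → W` with all morphisms to `W`/`X` affine is cartesian as soon as, over every affine open of
`W`, the rings of sections form a pushout square.
-/

set_option autoImplicit false
universe u

namespace Groth.Agent.Lib.MilnorEtale24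

open CategoryTheory CategoryTheory.Limits AlgebraicGeometry Groth.Agent.Lib.Ferrand24

/-- compatibility of `appLE` with a commutative square of schemes, morphism form -/
theorem appLE_comp_sq {A B C D : Scheme.{u}} {f : A ⟶ B} {g : B ⟶ D} {f' : A ⟶ C} {g' : C ⟶ D}
    (w : f ≫ g = f' ≫ g') (UD : D.Opens) (UB : B.Opens) (UC : C.Opens) (UA : A.Opens)
    (h₁ : UB ≤ g ⁻¹ᵁ UD) (h₂ : UA ≤ f ⁻¹ᵁ UB) (h₃ : UC ≤ g' ⁻¹ᵁ UD) (h₄ : UA ≤ f' ⁻¹ᵁ UC) :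
    g.appLE UD UB h₁ ≫ f.appLE UB UA h₂ = g'.appLE UD UC h₃ ≫ f'.appLE UC UA h₄ := by
  ext s
  exact appLE_sq w UD UB UC UA h₁ h₂ h₃ h₄ s

/-- `appLE` of a composite that is given by an equation. -/
theorem appLE_of_comp_eq {A B D : Scheme.{u}} {f : A ⟶ B} {g : B ⟶ D} {k : A ⟶ D}
    (w : f ≫ g = k) (UD : D.Opens) (UB : B.Opens) (UA : A.Opens)
    (h₁ : UB ≤ g ⁻¹ᵁ UD) (h₂ : UA ≤ f ⁻¹ᵁ UB) (h₃ : UA ≤ k ⁻¹ᵁ UD) :
    g.appLE UD UB h₁ ≫ f.appLE UB UA h₂ = k.appLE UD UA h₃ := by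
  subst w
  rw [Scheme.Hom.appLE_comp_appLE]

theorem isIso_app_of_isIso_appLE {A B : Scheme.{u}} (c : A ⟶ B) (U : B.Opens) (V : A.Opens)
    (hV : V = c ⁻¹ᵁ U) (e : V ≤ c ⁻¹ᵁ U) (h : IsIso (c.appLE U V e)) : IsIso (c.app U) := by
  subst hV
  rw [Scheme.Hom.app_eq_appLE]
  exact h

/-- A commutative square of affine morphisms is cartesian if its sections over affine opens of
the base are pushout squares. -/
theorem isPullback_of_isPushout_sections {X' T X W : Scheme.{u}} (a' : X' ⟶ T) (f : X' ⟶ X)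
    (π : T ⟶ W) (a : X ⟶ W) [IsAffineHom π] [IsAffineHom a] [IsAffineHom f]
    (w : a' ≫ π = f ≫ a)
    (H : ∀ (Ω : W.Opens) (_ : IsAffineOpen Ω), ∃ (V : X'.Opens) (e₁ : V ≤ a' ⁻¹ᵁ π ⁻¹ᵁ Ω)
      (e₂ : V ≤ f ⁻¹ᵁ a ⁻¹ᵁ Ω), V = f ⁻¹ᵁ a ⁻¹ᵁ Ω ∧
      IsPushout (π.appLE Ω (π ⁻¹ᵁ Ω) le_rfl) (a.appLE Ω (a ⁻¹ᵁ Ω) le_rfl)
        (a'.appLE (π ⁻¹ᵁ Ω) V e₁) (f.appLE (a ⁻¹ᵁ Ω) V e₂)) :
    IsPullback a' f π a := by
  let c : X' ⟶ pullback π a := pullback.lift a' f w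
  have hc1 : c ≫ pullback.fst π a = a' := pullback.lift_fst _ _ _
  have hc2 : c ≫ pullback.snd π a = f := pullback.lift_snd _ _ _
  haveI : IsAffineHom (pullback.snd π a) := MorphismProperty.pullback_snd _ _ inferInstance
  haveI : IsAffineHom (c ≫ pullback.snd π a) := by
    rw [hc2]
    infer_instance
  haveI : IsAffineHom c := IsAffineHom.of_comp c (pullback.snd π a)
  suffices hiso : IsIso c from
    IsPullback.of_iso_pullback ⟨w⟩ (asIso c) hc1 hc2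
  have hP : (MorphismProperty.isomorphisms Scheme.{u}) c := by
    apply IsZariskiLocalAtTarget.of_forall_exists_morphismRestrict
    intro x
    obtain ⟨_, ⟨Ω, hΩ, rfl⟩, hxΩ, -⟩ := W.isBasis_affineOpens.exists_subset_of_mem_open
      (Set.mem_univ ((pullback.snd π a ≫ a) x)) isOpen_univ
    have hU : IsAffineOpen ((pullback.snd π a) ⁻¹ᵁ a ⁻¹ᵁ Ω) :=
      (hΩ.preimage a).preimage (pullback.snd π a)
    refine ⟨(pullback.snd π a) ⁻¹ᵁ a ⁻¹ᵁ Ω, hxΩ, ?_⟩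
    rw [MorphismProperty.isomorphisms.iff, isIso_morphismRestrict_iff_isIso_app c hU]
    obtain ⟨V, e₁, e₂, hV, POH⟩ := H Ω hΩ
    have hpre : V = c ⁻¹ᵁ (pullback.snd π a) ⁻¹ᵁ a ⁻¹ᵁ Ω := by
      rw [← Scheme.Hom.comp_preimage c, hc2]
      exact hV
    have hUY : (pullback.snd π a) ⁻¹ᵁ a ⁻¹ᵁ Ω =
        (pullback.fst π a) ⁻¹ᵁ π ⁻¹ᵁ Ω ⊓ (pullback.snd π a) ⁻¹ᵁ a ⁻¹ᵁ Ω := by
      rw [← Scheme.Hom.comp_preimage, ← Scheme.Hom.comp_preimage, pullback.condition, inf_idem]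
    have POQ := (isIso_pushoutSection_iff (IsPullback.of_hasPullback π a)
      (le_refl (a ⁻¹ᵁ Ω)) (le_refl (π ⁻¹ᵁ Ω)) hUY).mp
      (isIso_pushoutSection_of_isAffineOpen (IsPullback.of_hasPullback π a)
        (le_refl (a ⁻¹ᵁ Ω)) (le_refl (π ⁻¹ᵁ Ω)) hUY hΩ (hΩ.preimage a) (hΩ.preimage π))
    refine isIso_app_of_isIso_appLE c _ _ hpre hpre.le ?_
    have key : c.appLE ((pullback.snd π a) ⁻¹ᵁ a ⁻¹ᵁ Ω) V hpre.le =
        (POQ.isoIsPushout _ _ POH).hom := by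
      apply POQ.hom_ext
      · rw [IsPushout.inl_isoIsPushout_hom]
        exact appLE_of_comp_eq hc1 _ _ _ _ _ _
      · rw [IsPushout.inr_isoIsPushout_hom]
        exact appLE_of_comp_eq hc2 _ _ _ _ _ _
    rw [key]
    infer_instance
  exact (MorphismProperty.isomorphisms.iff c).mp hP

end Groth.Agent.Lib.MilnorEtale24
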