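import Mathlib
import Groth.Agent.Lib.MilnorEtale24a
import Groth.Agent.Lib.MilnorEtale24b
import Groth.Agent.Lib.Ferrand24n

/-!
# Gluing finite etale covers along a Ferrand pushout (helper24)

`finite_etale_of_pushouts`: let `W = X ⊔_Z Y` be a Ferrand pushout (closed immersion `Z → X`,
integral `Z → Y`, covered by affine pairs) and let `X' → X`, `Y' → Y` be finite etale with
`X' ×_X Z = Z' = Y' ×_Y Z`.  If `T = X' ⊔_{Z'} Y'` then `T → W` is finite etale and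
`X' = T ×_W X`, `Y' = T ×_W Y`.
-/

set_option autoImplicit false
universe u

namespace Groth.Agent.Lib.MilnorEtale24

open CategoryTheory CategoryTheory.Limits AlgebraicGeometry Groth.Agent.Lib.Ferrand24
  Groth.Agent.Lib.RingFibreSq24

variable {Z X Y W Z' X' Y' T : Scheme.{u}}

/-- charts pull back along affine morphisms -/
theorem charts_pullback {i : Z ⟶ X} {j : Z ⟶ Y} {i' : Z' ⟶ X'} {j' : Z' ⟶ Y'} (f : X' ⟶ X)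
    (g : Y' ⟶ Y) (h : Z' ⟶ Z) [IsAffineHom f] [IsAffineHom g] (wX : i' ≫ f = h ≫ i)
    (wY : j' ≫ g = h ≫ j)
    (hX : ∀ x : X, ∃ k : Pair i j, IsAffineOpen k.G ∧ IsAffineOpen k.H ∧ x ∈ k.G)
    (hY : ∀ y : Y, ∃ k : Pair i j, IsAffineOpen k.G ∧ IsAffineOpen k.H ∧ y ∈ k.H) :
    (∀ x : X', ∃ k : Pair i' j', IsAffineOpen k.G ∧ IsAffineOpen k.H ∧ x ∈ k.G) ∧
      (∀ y : Y', ∃ k : Pair i' j', IsAffineOpen k.G ∧ IsAffineOpen k.H ∧ y ∈ k.H) := by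
  have hk : ∀ k : Pair i j, i' ⁻¹ᵁ f ⁻¹ᵁ k.G = j' ⁻¹ᵁ g ⁻¹ᵁ k.H := by
    intro k
    rw [← Scheme.Hom.comp_preimage, ← Scheme.Hom.comp_preimage, wX, wY,
      Scheme.Hom.comp_preimage, Scheme.Hom.comp_preimage, k.eq]
  constructor
  · intro x
    obtain ⟨k, hG, hH, hx⟩ := hX (f x)
    exact ⟨⟨f ⁻¹ᵁ k.G, g ⁻¹ᵁ k.H, hk k⟩, hG.preimage f, hH.preimage g, hx⟩
  · intro y
    obtain ⟨k, hG, hH, hy⟩ := hY (g y)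
    exact ⟨⟨f ⁻¹ᵁ k.G, g ⁻¹ᵁ k.H, hk k⟩, hG.preimage f, hH.preimage g, hy⟩

theorem finite_appLE_of_eq {A B : Scheme.{u}} (g : A ⟶ B) [IsFinite g] (H : B.Opens)
    (hH : IsAffineOpen H) (V : A.Opens) (hV : V = g ⁻¹ᵁ H) (e : V ≤ g ⁻¹ᵁ H) :
    (g.appLE H V e).hom.Finite := by
  subst hV
  rw [← Scheme.Hom.app_eq_appLE]
  exact IsFinite.finite_app g H hH

/-- **Gluing finite etale covers along a Ferrand pushout.** -/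
theorem finite_etale_of_pushouts
    {i : Z ⟶ X} {j : Z ⟶ Y} [IsClosedImmersion i] [IsIntegralHom j]
    (hX : ∀ x : X, ∃ k : Pair i j, IsAffineOpen k.G ∧ IsAffineOpen k.H ∧ x ∈ k.G)
    (hY : ∀ y : Y, ∃ k : Pair i j, IsAffineOpen k.G ∧ IsAffineOpen k.H ∧ y ∈ k.H)
    {a : X ⟶ W} {b : Y ⟶ W} (hpo : IsPushout i j a b)
    {i' : Z' ⟶ X'} {j' : Z' ⟶ Y'} (f : X' ⟶ X) (g : Y' ⟶ Y) (h : Z' ⟶ Z)
    (hfX : IsPullback i' h f i) (hgY : IsPullback j' h g j)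
    [IsFinite f] [Etale f] [IsFinite g] [Etale g]
    {a' : X' ⟶ T} {b' : Y' ⟶ T} (hpo' : IsPushout i' j' a' b')
    (π : T ⟶ W) (ha : a' ≫ π = f ≫ a) (hb : b' ≫ π = g ≫ b) :
    IsFinite π ∧ Etale π ∧ IsPullback a' f π a ∧ IsPullback b' g π b := by
  haveI : IsClosedImmersion i' := MorphismProperty.of_isPullback hfX.flip inferInstance
  haveI : IsIntegralHom j' := MorphismProperty.of_isPullback hgY.flip inferInstance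
  obtain ⟨hX', hY'⟩ := charts_pullback f g h hfX.w hgY.w hX hY
  obtain ⟨-, hbcl, hjs, -, haint⟩ := props_of_isPushout_of_charts hX hY hpo
  obtain ⟨-, hbcl', hjs', -, haint'⟩ := props_of_isPushout_of_charts hX' hY' hpo'
  haveI : IsClosedImmersion b := hbcl
  haveI : IsIntegralHom a := haint inferInstance
  haveI : IsClosedImmersion b' := hbcl'
  haveI : IsIntegralHom a' := haint' inferInstance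
  have hpreX : ∀ Ω : W.Opens, a' ⁻¹ᵁ π ⁻¹ᵁ Ω = f ⁻¹ᵁ a ⁻¹ᵁ Ω := fun Ω => by
    rw [← Scheme.Hom.comp_preimage, ← Scheme.Hom.comp_preimage, ha]
  have hpreY : ∀ Ω : W.Opens, b' ⁻¹ᵁ π ⁻¹ᵁ Ω = g ⁻¹ᵁ b ⁻¹ᵁ Ω := fun Ω => by
    rw [← Scheme.Hom.comp_preimage, ← Scheme.Hom.comp_preimage, hb]
  -- `π` is affine
  have haff : ∀ Ω : W.Opens, IsAffineOpen Ω → IsAffineOpen (π ⁻¹ᵁ Ω) := by
    intro Ω hΩ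
    have hG : IsAffineOpen (a ⁻¹ᵁ Ω) := hΩ.preimage a
    have hH : IsAffineOpen (b ⁻¹ᵁ Ω) := hΩ.preimage b
    have hk : i' ⁻¹ᵁ f ⁻¹ᵁ a ⁻¹ᵁ Ω = j' ⁻¹ᵁ g ⁻¹ᵁ b ⁻¹ᵁ Ω := by
      rw [← hpreX, ← hpreY, ← Scheme.Hom.comp_preimage i' a', ← Scheme.Hom.comp_preimage j' b',
        hpo'.w]
    obtain ⟨U, hU, hUa, hUb⟩ := exists_affineOpen_of_pair hX' hY' hpo'
      ⟨f ⁻¹ᵁ a ⁻¹ᵁ Ω, g ⁻¹ᵁ b ⁻¹ᵁ Ω, hk⟩ (hG.preimage f) (hH.preimage g)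
    have hUeq : π ⁻¹ᵁ Ω = U := by
      apply le_antisymm
      · intro t ht
        rcases hjs' t with ⟨x, rfl⟩ | ⟨y, rfl⟩
        · have h1 : x ∈ a' ⁻¹ᵁ π ⁻¹ᵁ Ω := ht
          rw [hpreX] at h1
          have h2 : x ∈ a' ⁻¹ᵁ U := by
            rw [hUa]
            exact h1
          exact h2
        · have h1 : y ∈ b' ⁻¹ᵁ π ⁻¹ᵁ Ω := ht
          rw [hpreY] at h1
          have h2 : y ∈ b' ⁻¹ᵁ U := by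
            rw [hUb]
            exact h1
          exact h2
      · intro t ht
        rcases hjs' t with ⟨x, rfl⟩ | ⟨y, rfl⟩
        · have h1 : x ∈ a' ⁻¹ᵁ U := ht
          rw [hUa] at h1
          have h2 : x ∈ a' ⁻¹ᵁ π ⁻¹ᵁ Ω := by
            rw [hpreX]
            exact h1
          exact h2
        · have h1 : y ∈ b' ⁻¹ᵁ U := ht
          rw [hUb] at h1
          have h2 : y ∈ b' ⁻¹ᵁ π ⁻¹ᵁ Ω := by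
            rw [hpreY]
            exact h1
          exact h2
    rw [hUeq]
    exact hU
  haveI : IsAffineHom π := ⟨haff⟩
  -- the cube of sections
  have cube : ∀ (Ω : W.Opens) (_ : IsAffineOpen Ω),
      IsPushout (b.appLE Ω (b ⁻¹ᵁ Ω) le_rfl) (π.appLE Ω (π ⁻¹ᵁ Ω) le_rfl)
        (g.appLE (b ⁻¹ᵁ Ω) (b' ⁻¹ᵁ π ⁻¹ᵁ Ω) (hpreY Ω).le)
        (b'.appLE (π ⁻¹ᵁ Ω) (b' ⁻¹ᵁ π ⁻¹ᵁ Ω) le_rfl) ∧
      IsPushout (a.appLE Ω (a ⁻¹ᵁ Ω) le_rfl) (π.appLE Ω (π ⁻¹ᵁ Ω) le_rfl)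
        (f.appLE (a ⁻¹ᵁ Ω) (a' ⁻¹ᵁ π ⁻¹ᵁ Ω) (hpreX Ω).le)
        (a'.appLE (π ⁻¹ᵁ Ω) (a' ⁻¹ᵁ π ⁻¹ᵁ Ω) le_rfl) ∧
      (π.appLE Ω (π ⁻¹ᵁ Ω) le_rfl).hom.Finite ∧ (π.appLE Ω (π ⁻¹ᵁ Ω) le_rfl).hom.Etale := by
    intro Ω hΩ
    have hG : IsAffineOpen (a ⁻¹ᵁ Ω) := hΩ.preimage a
    have hH : IsAffineOpen (b ⁻¹ᵁ Ω) := hΩ.preimage b
    have hTΩ : IsAffineOpen (π ⁻¹ᵁ Ω) := haff Ω hΩ
    have hG' : IsAffineOpen (a' ⁻¹ᵁ π ⁻¹ᵁ Ω) := hTΩ.preimage a'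
    have hH' : IsAffineOpen (b' ⁻¹ᵁ π ⁻¹ᵁ Ω) := hTΩ.preimage b'
    have hNeq : i ⁻¹ᵁ a ⁻¹ᵁ Ω = j ⁻¹ᵁ b ⁻¹ᵁ Ω := by
      rw [← Scheme.Hom.comp_preimage, ← Scheme.Hom.comp_preimage, hpo.w]
    have hNeq' : i' ⁻¹ᵁ a' ⁻¹ᵁ π ⁻¹ᵁ Ω = j' ⁻¹ᵁ b' ⁻¹ᵁ π ⁻¹ᵁ Ω := by
      rw [← Scheme.Hom.comp_preimage i', ← Scheme.Hom.comp_preimage j', hpo'.w]
    have hZ' : i' ⁻¹ᵁ a' ⁻¹ᵁ π ⁻¹ᵁ Ω = h ⁻¹ᵁ i ⁻¹ᵁ a ⁻¹ᵁ Ω := by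
      rw [hpreX, ← Scheme.Hom.comp_preimage i', hfX.w, Scheme.Hom.comp_preimage]
    have sq := sections_isFibreSq hX hY hpo Ω hΩ hG hH hNeq.le
    have sq' := sections_isFibreSq hX' hY' hpo' (π ⁻¹ᵁ Ω) hTΩ hG' hH' hNeq'.le
    have hp : Function.Surjective (i.app (a ⁻¹ᵁ Ω)).hom := i.app_surjective _ hG
    rw [Scheme.Hom.app_eq_appLE, Scheme.Hom.app_eq_appLE, Scheme.Hom.app_eq_appLE] at sq sq'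
    rw [Scheme.Hom.app_eq_appLE] at hp
    have hUY : i' ⁻¹ᵁ a' ⁻¹ᵁ π ⁻¹ᵁ Ω =
        j' ⁻¹ᵁ b' ⁻¹ᵁ π ⁻¹ᵁ Ω ⊓ h ⁻¹ᵁ i ⁻¹ᵁ a ⁻¹ᵁ Ω := by
      rw [← hNeq', ← hZ', inf_idem]
    have hUX : i' ⁻¹ᵁ a' ⁻¹ᵁ π ⁻¹ᵁ Ω =
        i' ⁻¹ᵁ a' ⁻¹ᵁ π ⁻¹ᵁ Ω ⊓ h ⁻¹ᵁ i ⁻¹ᵁ a ⁻¹ᵁ Ω := by
      rw [← hZ', inf_idem]
    have hq := ((isIso_pushoutSection_iff hgY hNeq.le (hpreY Ω).le hUY).mp
      (isIso_pushoutSection_of_isAffineOpen hgY hNeq.le (hpreY Ω).le hUY hH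
        (hG.preimage i) hH')).flip
    have hpp := ((isIso_pushoutSection_iff hfX (le_refl (i ⁻¹ᵁ a ⁻¹ᵁ Ω)) (hpreX Ω).le hUX).mp
      (isIso_pushoutSection_of_isAffineOpen hfX (le_refl (i ⁻¹ᵁ a ⁻¹ᵁ Ω)) (hpreX Ω).le hUX hG
        (hG.preimage i) hG')).flip
    have h1 : b.appLE Ω (b ⁻¹ᵁ Ω) le_rfl ≫ g.appLE (b ⁻¹ᵁ Ω) (b' ⁻¹ᵁ π ⁻¹ᵁ Ω) (hpreY Ω).le =
        π.appLE Ω (π ⁻¹ᵁ Ω) le_rfl ≫ b'.appLE (π ⁻¹ᵁ Ω) (b' ⁻¹ᵁ π ⁻¹ᵁ Ω) le_rfl :=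
      appLE_comp_sq hb.symm _ _ _ _ _ _ _ _
    have h2 : a.appLE Ω (a ⁻¹ᵁ Ω) le_rfl ≫ f.appLE (a ⁻¹ᵁ Ω) (a' ⁻¹ᵁ π ⁻¹ᵁ Ω) (hpreX Ω).le =
        π.appLE Ω (π ⁻¹ᵁ Ω) le_rfl ≫ a'.appLE (π ⁻¹ᵁ Ω) (a' ⁻¹ᵁ π ⁻¹ᵁ Ω) le_rfl :=
      appLE_comp_sq ha.symm _ _ _ _ _ _ _ _
    obtain ⟨P1, P2, P3⟩ := milnor_patch _ _ _ _ _ _ _ _ _ _ _ _ sq hp sq' h1 h2 hq hpp
    refine ⟨P1, P2, P3 ?_ ?_ ?_ ?_⟩
    · exact finite_appLE_of_eq g _ hH _ (hpreY Ω) _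
    · exact Etale.etale_appLE g hH hH' _
    · exact finite_appLE_of_eq f _ hG _ (hpreX Ω) _
    · exact Etale.etale_appLE f hG hG' _
  refine ⟨?_, ?_, ?_, ?_⟩
  · exact { toIsAffineHom := inferInstance
            finite_app := fun Ω hΩ => by
              rw [Scheme.Hom.app_eq_appLE]
              exact (cube Ω hΩ).2.2.1 }
  · refine ⟨fun {U} hU {V} hV e => ?_⟩
    have e1 : (π.appLE U (π ⁻¹ᵁ U) le_rfl).hom.Etale := (cube U hU).2.2.2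
    have e2 : ((𝟙 T : T ⟶ T).appLE (π ⁻¹ᵁ U) V e).hom.Etale :=
      Etale.etale_appLE (𝟙 T) (hU.preimage π) hV e
    have e3 : π.appLE U V e = π.appLE U (π ⁻¹ᵁ U) le_rfl ≫ (𝟙 T : T ⟶ T).appLE (π ⁻¹ᵁ U) V e :=
      (appLE_of_comp_eq (Category.id_comp π) _ _ _ _ _ _).symm
    rw [e3]
    exact RingHom.Etale.stableUnderComposition _ _ e1 e2
  · apply isPullback_of_isPushout_sections a' f π a ha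
    intro Ω hΩ
    exact ⟨a' ⁻¹ᵁ π ⁻¹ᵁ Ω, le_rfl, (hpreX Ω).le, hpreX Ω, (cube Ω hΩ).2.1.flip⟩
  · haveI : IsAffineHom b := inferInstance
    apply isPullback_of_isPushout_sections b' g π b hb
    intro Ω hΩ
    exact ⟨b' ⁻¹ᵁ π ⁻¹ᵁ Ω, le_rfl, (hpreY Ω).le, hpreY Ω, (cube Ω hΩ).1.flip⟩

end Groth.Agent.Lib.MilnorEtale24
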