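import Mathlib
import Groth.Agent.Lib.MilnorEtale24a

/-!
# Properties of algebras over a Milnor square, I: finite type (helper24)

`B' = B ×_A A'` with `A' → A` surjective, `D'` a `B'`-algebra.  If `B ⊗_{B'} D'` is of finite type
over `B` and `A' ⊗_{B'} D'` is of finite type over `A'` then `D'` is of finite type over `B'`.
-/

set_option autoImplicit false
universe u

namespace Groth.Agent.Lib.MilnorProps24

open TensorProduct

section General

variable {R : Type u} [CommRing R] (X : Type u) [CommRing X] [Algebra R X]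
  (D : Type u) [CommRing D] [Algebra R D]

/-- every element of `X ⊗ D` is an `X`-combination of finitely many `1 ⊗ d` -/
theorem exists_finset_mem_span (x : X ⊗[R] D) :
    ∃ t : Finset D, x ∈ Submodule.span X ((fun d : D => ((1 : X) ⊗ₜ[R] d : X ⊗[R] D)) '' t) := by
  classical
  induction x using TensorProduct.induction_on with
  | zero => exact ⟨∅, Submodule.zero_mem _⟩
  | tmul b d =>
    refine ⟨{d}, ?_⟩
    have : b ⊗ₜ[R] d = b • ((1 : X) ⊗ₜ[R] d : X ⊗[R] D) := by
      rw [TensorProduct.smul_tmul', smul_eq_mul, mul_one]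
    rw [this]
    apply Submodule.smul_mem
    apply Submodule.subset_span
    exact ⟨d, by simp, rfl⟩
  | add x y hx hy =>
    obtain ⟨t₁, h₁⟩ := hx
    obtain ⟨t₂, h₂⟩ := hy
    refine ⟨t₁ ∪ t₂, Submodule.add_mem _ ?_ ?_⟩
    · refine Submodule.span_mono ?_ h₁
      apply Set.image_mono
      intro d hd
      simp only [Finset.coe_union, Set.mem_union]
      exact Or.inl hd
    · refine Submodule.span_mono ?_ h₂
      apply Set.image_mono
      intro d hd
      simp only [Finset.coe_union, Set.mem_union]
      exact Or.inr hd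

/-- a finite subset of `X ⊗ D` lies in the `X`-span of `1 ⊗ t` for a finite `t` -/
theorem exists_finset_subset_span (s : Finset (X ⊗[R] D)) :
    ∃ t : Finset D, (s : Set (X ⊗[R] D)) ⊆
      Submodule.span X ((fun d : D => ((1 : X) ⊗ₜ[R] d : X ⊗[R] D)) '' t) := by
  classical
  induction s using Finset.induction_on with
  | empty => exact ⟨∅, by simp⟩
  | insert x s _ ih =>
    obtain ⟨t₁, h₁⟩ := ih
    obtain ⟨t₂, h₂⟩ := exists_finset_mem_span X D x
    refine ⟨t₁ ∪ t₂, ?_⟩
    intro y hy
    simp only [Finset.coe_insert, Set.mem_insert_iff] at hy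
    rcases hy with rfl | hy
    · refine Submodule.span_mono ?_ h₂
      apply Set.image_mono
      intro d hd
      simp only [Finset.coe_union, Set.mem_union]
      exact Or.inr hd
    · refine Submodule.span_mono ?_ (h₁ hy)
      apply Set.image_mono
      intro d hd
      simp only [Finset.coe_union, Set.mem_union]
      exact Or.inl hd

/-- If `X ⊗ D` is of finite type over `X`, there is a finite `t ⊆ D` such that for every
subalgebra `D''` of `D` containing `t`, the `X`-span of `1 ⊗ D''` is everything. -/
theorem exists_finset_span_eq_top [Algebra.FiniteType X (X ⊗[R] D)] :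
    ∃ t : Finset D, ∀ D'' : Subalgebra R D, (t : Set D) ⊆ D'' →
      Submodule.span X ((fun d : D => ((1 : X) ⊗ₜ[R] d : X ⊗[R] D)) '' (D'' : Set D)) = ⊤ := by
  obtain ⟨s, hs⟩ := (Algebra.FiniteType.out : (⊤ : Subalgebra X (X ⊗[R] D)).FG)
  obtain ⟨t, ht⟩ := exists_finset_subset_span X D s
  refine ⟨t, fun D'' htD => ?_⟩
  -- the span is a subalgebra
  let S : Subalgebra X (X ⊗[R] D) :=
    { Submodule.span X ((fun d : D => ((1 : X) ⊗ₜ[R] d : X ⊗[R] D)) '' (D'' : Set D)) with
      mul_mem' := by
        intro x y hx hy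
        refine Submodule.span_induction (p := fun x _ => x * y ∈ Submodule.span X
          ((fun d : D => ((1 : X) ⊗ₜ[R] d : X ⊗[R] D)) '' (D'' : Set D))) ?_ ?_ ?_ ?_ hx
        · rintro _ ⟨d, hd, rfl⟩
          refine Submodule.span_induction (p := fun y _ => ((1 : X) ⊗ₜ[R] d) * y ∈
            Submodule.span X ((fun d : D => ((1 : X) ⊗ₜ[R] d : X ⊗[R] D)) '' (D'' : Set D)))
            ?_ ?_ ?_ ?_ hy
          · rintro _ ⟨d', hd', rfl⟩
            apply Submodule.subset_span
            refine ⟨d * d', D''.mul_mem hd hd', ?_⟩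
            simp only [Algebra.TensorProduct.tmul_mul_tmul, mul_one]
          · rw [mul_zero]; exact Submodule.zero_mem _
          · intro a b _ _ ha hb
            rw [mul_add]; exact Submodule.add_mem _ ha hb
          · intro c a _ ha
            rw [mul_smul_comm]; exact Submodule.smul_mem _ c ha
        · rw [zero_mul]; exact Submodule.zero_mem _
        · intro a b _ _ ha hb
          rw [add_mul]; exact Submodule.add_mem _ ha hb
        · intro c a _ ha
          rw [smul_mul_assoc]; exact Submodule.smul_mem _ c ha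
      algebraMap_mem' := by
        intro c
        have : algebraMap X (X ⊗[R] D) c = c • ((1 : X) ⊗ₜ[R] (1 : D)) := by
          rw [Algebra.algebraMap_eq_smul_one]
          rfl
        rw [this]
        apply Submodule.smul_mem
        apply Submodule.subset_span
        exact ⟨1, D''.one_mem, rfl⟩ }
  have hS : (S : Set (X ⊗[R] D)) =
      Submodule.span X ((fun d : D => ((1 : X) ⊗ₜ[R] d : X ⊗[R] D)) '' (D'' : Set D)) := rfl
  have htop : S = ⊤ := by
    rw [eq_top_iff, ← hs]
    apply Algebra.adjoin_le
    intro x hx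
    show x ∈ (S : Set (X ⊗[R] D))
    rw [hS]
    refine Submodule.span_mono ?_ (ht hx)
    exact Set.image_mono htD
  rw [eq_top_iff]
  intro x _
  have : x ∈ (S : Set (X ⊗[R] D)) := by
    rw [htop]; trivial
  rw [hS] at this
  exact this

end General

section Milnor

variable (B' B A' A : Type u) [CommRing B'] [CommRing B] [CommRing A'] [CommRing A]
  [Algebra B' B] [Algebra B' A'] [Algebra B A] [Algebra A' A] [Algebra B' A]
  [IsScalarTower B' B A] [IsScalarTower B' A' A]

/-- **Finite type descends along a Milnor square.** -/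
theorem finiteType_of_baseChange (hsq : EtMil.IsFibreSquare B' B A' A)
    (D' : Type u) [CommRing D'] [Algebra B' D']
    [Algebra.FiniteType B (B ⊗[B'] D')] [Algebra.FiniteType A' (A' ⊗[B'] D')] :
    Algebra.FiniteType B' D' := by
  classical
  obtain ⟨t₁, h₁⟩ := exists_finset_span_eq_top (R := B') B D'
  obtain ⟨t₂, h₂⟩ := exists_finset_span_eq_top (R := B') A' D'
  let D'' : Subalgebra B' D' := Algebra.adjoin B' ((t₁ ∪ t₂ : Finset D') : Set D')
  have ht₁ : (t₁ : Set D') ⊆ D'' := fun d hd =>
    Algebra.subset_adjoin (by simp only [Finset.coe_union, Set.mem_union]; exact Or.inl hd)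
  have ht₂ : (t₂ : Set D') ⊆ D'' := fun d hd =>
    Algebra.subset_adjoin (by simp only [Finset.coe_union, Set.mem_union]; exact Or.inr hd)
  haveI : Subsingleton (B ⊗[B'] (D' ⧸ Subalgebra.toSubmodule D'')) :=
    Groth.Agent.S14953.subsingleton_tensor_quotient B D' (Subalgebra.toSubmodule D'')
      (D'' : Set D') (fun _ h => h) (h₁ D'' ht₁)
  haveI : Subsingleton (A' ⊗[B'] (D' ⧸ Subalgebra.toSubmodule D'')) :=
    Groth.Agent.S14953.subsingleton_tensor_quotient A' D' (Subalgebra.toSubmodule D'')
      (D'' : Set D') (fun _ h => h) (h₂ D'' ht₂)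
  haveI : Subsingleton (D' ⧸ Subalgebra.toSubmodule D'') :=
    Groth.Agent.S14949.result B' B A' A hsq _
  have htop : D'' = ⊤ := by
    rw [eq_top_iff]
    intro d _
    have : (Submodule.Quotient.mk d : D' ⧸ Subalgebra.toSubmodule D'') = 0 :=
      Subsingleton.elim _ _
    exact (Submodule.Quotient.mk_eq_zero _).mp this
  refine ⟨?_⟩
  rw [← htop]
  exact Subalgebra.fg_adjoin_finset _

end Milnor

end Groth.Agent.Lib.MilnorProps24
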