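import Mathlib
import Groth.Agent.Lib.MilnorProps24a

/-!
# Properties of algebras over a Milnor square, II: finite presentation (helper24)
-/

set_option autoImplicit false
universe u

namespace Groth.Agent.Lib.MilnorProps24

open TensorProduct

section General

variable {R : Type u} [CommRing R] (X : Type u) [CommRing X] [Algebra R X]

/-- every element of `X ⊗ L` is an `X`-combination of finitely many `1 ⊗ l` -/
theorem exists_finset_mem_span' (L : Type u) [AddCommGroup L] [Module R L] (x : X ⊗[R] L) :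
    ∃ t : Finset L, x ∈ Submodule.span X ((fun d : L => ((1 : X) ⊗ₜ[R] d : X ⊗[R] L)) '' t) := by
  classical
  induction x using TensorProduct.induction_on with
  | zero => exact ⟨∅, Submodule.zero_mem _⟩
  | tmul b d =>
    refine ⟨{d}, ?_⟩
    have : b ⊗ₜ[R] d = b • ((1 : X) ⊗ₜ[R] d : X ⊗[R] L) := by
      rw [TensorProduct.smul_tmul', smul_eq_mul, mul_one]
    rw [this]
    apply Submodule.smul_mem
    apply Submodule.subset_span
    exact ⟨d, by simp, rfl⟩
  | add x y hx hy =>
    obtain ⟨t₁, h₁⟩ := hx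
    obtain ⟨t₂, h₂⟩ := hy
    refine ⟨t₁ ∪ t₂, Submodule.add_mem _ ?_ ?_⟩
    · refine Submodule.span_mono ?_ h₁
      apply Set.image_mono
      intro d hd
      simp only [Finset.coe_union, Set.mem_union]
      exact Or.inl hd
    · refine Submodule.span_mono ?_ h₂
      apply Set.image_mono
      intro d hd
      simp only [Finset.coe_union, Set.mem_union]
      exact Or.inr hd

theorem exists_finset_subset_span' (L : Type u) [AddCommGroup L] [Module R L]
    (s : Finset (X ⊗[R] L)) :
    ∃ t : Finset L, (s : Set (X ⊗[R] L)) ⊆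
      Submodule.span X ((fun d : L => ((1 : X) ⊗ₜ[R] d : X ⊗[R] L)) '' t) := by
  classical
  induction s using Finset.induction_on with
  | empty => exact ⟨∅, by simp⟩
  | insert x s _ ih =>
    obtain ⟨t₁, h₁⟩ := ih
    obtain ⟨t₂, h₂⟩ := exists_finset_mem_span' X L x
    refine ⟨t₁ ∪ t₂, ?_⟩
    intro y hy
    simp only [Finset.coe_insert, Set.mem_insert_iff] at hy
    rcases hy with rfl | hy
    · refine Submodule.span_mono ?_ h₂
      apply Set.image_mono
      intro d hd
      simp only [Finset.coe_union, Set.mem_union]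
      exact Or.inr hd
    · refine Submodule.span_mono ?_ (h₁ hy)
      apply Set.image_mono
      intro d hd
      simp only [Finset.coe_union, Set.mem_union]
      exact Or.inl hd

variable {P D : Type u} [CommRing P] [Algebra R P] [CommRing D] [Algebra R D]

/-- The `X`-span of `1 ⊗ K''` in `X ⊗ P` is an ideal, for an ideal `K''` of `P`. -/
theorem mul_mem_span_one_tmul (K'' : Ideal P) (z y : X ⊗[R] P)
    (hy : y ∈ Submodule.span X ((fun p : P => ((1 : X) ⊗ₜ[R] p : X ⊗[R] P)) '' (K'' : Set P))) :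
    z * y ∈ Submodule.span X ((fun p : P => ((1 : X) ⊗ₜ[R] p : X ⊗[R] P)) '' (K'' : Set P)) := by
  induction z using TensorProduct.induction_on with
  | zero => rw [zero_mul]; exact Submodule.zero_mem _
  | add z₁ z₂ h₁ h₂ => rw [add_mul]; exact Submodule.add_mem _ h₁ h₂
  | tmul x p =>
    refine Submodule.span_induction (p := fun y _ => (x ⊗ₜ[R] p) * y ∈ Submodule.span X
      ((fun p : P => ((1 : X) ⊗ₜ[R] p : X ⊗[R] P)) '' (K'' : Set P))) ?_ ?_ ?_ ?_ hy
    · rintro _ ⟨k, hk, rfl⟩
      have : (x ⊗ₜ[R] p) * ((1 : X) ⊗ₜ[R] k) = x • ((1 : X) ⊗ₜ[R] (p * k) : X ⊗[R] P) := by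
        rw [Algebra.TensorProduct.tmul_mul_tmul, mul_one, TensorProduct.smul_tmul', smul_eq_mul,
          mul_one]
      rw [this]
      apply Submodule.smul_mem
      apply Submodule.subset_span
      exact ⟨p * k, K''.mul_mem_left p hk, rfl⟩
    · rw [mul_zero]; exact Submodule.zero_mem _
    · intro a b _ _ ha hb
      rw [mul_add]; exact Submodule.add_mem _ ha hb
    · intro c a _ ha
      rw [mul_smul_comm]; exact Submodule.smul_mem _ c ha

/-- Key one-sided lemma for descent of finite presentation. -/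
theorem exists_finset_span_eq_top_ker [Module.Flat R D] [Algebra.FinitePresentation R P]
    (π : P →ₐ[R] D) (hπ : Function.Surjective π) [Algebra.FinitePresentation X (X ⊗[R] D)] :
    ∃ t : Finset P, (t : Set P) ⊆ RingHom.ker π ∧ ∀ K'' : Ideal P, (t : Set P) ⊆ K'' →
      K'' ≤ RingHom.ker π →
      Submodule.span X ((fun k : ↥((RingHom.ker π).restrictScalars R) =>
        ((1 : X) ⊗ₜ[R] k : X ⊗[R] ↥((RingHom.ker π).restrictScalars R))) ''
          {k | (k : P) ∈ K''}) = ⊤ := by
  classical
  set KM : Submodule R P := (RingHom.ker π).restrictScalars R with hKM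
  let g : ↥KM →ₗ[R] P := KM.subtype
  let f : P →ₗ[R] D := π.toLinearMap
  have hg : Function.Injective g := Subtype.val_injective
  have hf : Function.Surjective f := hπ
  have hex : Function.Exact g f := by
    intro p
    constructor
    · intro hp
      exact ⟨⟨p, hp⟩, rfl⟩
    · rintro ⟨k, rfl⟩
      exact k.2
  have hinj : Function.Injective (g.lTensor X) :=
    LinearMap.lTensor_injective_of_exact_of_flat f hf g hg hex X
  have hex' : Function.Exact (g.lTensor X) (f.lTensor X) := lTensor_exact X hex hf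
  -- the algebra map `1 ⊗ π`
  let Φ : X ⊗[R] P →ₐ[X] X ⊗[R] D := Algebra.TensorProduct.map (AlgHom.id X X) π
  have hΦ : ∀ z, Φ z = f.lTensor X z := by
    intro z
    induction z using TensorProduct.induction_on with
    | zero => simp
    | add a b ha hb => rw [map_add, map_add, ha, hb]
    | tmul x p => rfl
  have hΦsurj : Function.Surjective Φ := by
    intro z
    obtain ⟨w, hw⟩ := LinearMap.lTensor_surjective X hf z
    exact ⟨w, (hΦ w).trans hw⟩
  obtain ⟨s, hs⟩ := Algebra.FinitePresentation.ker_fG_of_surjective Φ hΦsurj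
  -- lift the generators to `X ⊗ K`
  have hlift : ∀ z ∈ s, ∃ y : X ⊗[R] ↥KM, g.lTensor X y = z := by
    intro z hz
    have hz' : z ∈ RingHom.ker Φ.toRingHom := by
      rw [← hs]; exact Ideal.subset_span hz
    have : f.lTensor X z = 0 := by
      rw [← hΦ]; exact hz'
    exact (hex' z).mp this
  choose! y hy using hlift
  obtain ⟨t₀, ht₀⟩ := exists_finset_subset_span' X ↥KM (s.image y)
  refine ⟨t₀.image g, ?_, ?_⟩
  · intro p hp
    rw [Finset.coe_image] at hp
    obtain ⟨k, _, rfl⟩ := hp
    exact k.2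
  · intro K'' htK hK
    -- the ideal `I₀`
    set I₀ : Submodule X (X ⊗[R] P) :=
      Submodule.span X ((fun p : P => ((1 : X) ⊗ₜ[R] p : X ⊗[R] P)) '' (K'' : Set P)) with hI₀
    set S : Submodule X (X ⊗[R] ↥KM) :=
      Submodule.span X ((fun k : ↥KM => ((1 : X) ⊗ₜ[R] k : X ⊗[R] ↥KM)) '' {k | (k : P) ∈ K''})
      with hS
    -- generators lie in `I₀`
    have hsI : ∀ z ∈ s, z ∈ I₀ := by
      intro z hz
      have h1 : y z ∈ Submodule.span X
          ((fun d : ↥KM => ((1 : X) ⊗ₜ[R] d : X ⊗[R] ↥KM)) '' (t₀ : Set ↥KM)) :=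
        ht₀ (by rw [Finset.coe_image]; exact ⟨z, hz, rfl⟩)
      have h2 : (g.baseChange X) (y z) ∈ I₀ := by
        refine Submodule.span_induction (p := fun w _ => (g.baseChange X) w ∈ I₀) ?_ ?_ ?_ ?_ h1
        · rintro _ ⟨k, hk, rfl⟩
          apply Submodule.subset_span
          refine ⟨g k, htK ?_, ?_⟩
          · rw [Finset.coe_image]; exact ⟨k, hk, rfl⟩
          · simp only [LinearMap.baseChange_tmul]
        · rw [map_zero]; exact Submodule.zero_mem _
        · intro a b _ _ ha hb
          rw [map_add]; exact Submodule.add_mem _ ha hb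
        · intro c a _ ha
          rw [map_smul]; exact Submodule.smul_mem _ c ha
      have h3 : (g.baseChange X) (y z) = z := (hy z hz)
      rw [← h3]
      exact h2
    -- the kernel lies in `I₀`
    have hker : ∀ z, f.lTensor X z = 0 → z ∈ I₀ := by
      intro z hz
      have hz' : z ∈ Ideal.span (s : Set (X ⊗[R] P)) := by
        rw [hs]
        show Φ z = 0
        rw [hΦ]; exact hz
      refine Submodule.span_induction (p := fun w _ => w ∈ I₀) ?_ ?_ ?_ ?_ hz'
      · intro w hw; exact hsI w hw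
      · exact Submodule.zero_mem _
      · intro a b _ _ ha hb; exact Submodule.add_mem _ ha hb
      · intro c a _ ha
        rw [smul_eq_mul]
        exact mul_mem_span_one_tmul X K'' c a ha
    -- `I₀` is in the image of `S`
    have hI₀S : ∀ z ∈ I₀, ∃ w ∈ S, (g.baseChange X) w = z := by
      intro z hz
      refine Submodule.span_induction (p := fun z _ => ∃ w ∈ S, (g.baseChange X) w = z)
        ?_ ?_ ?_ ?_ hz
      · rintro _ ⟨k, hk, rfl⟩
        refine ⟨(1 : X) ⊗ₜ[R] (⟨k, hK hk⟩ : ↥KM), Submodule.subset_span ⟨⟨k, hK hk⟩, hk, rfl⟩, ?_⟩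
        simp only [LinearMap.baseChange_tmul]
        rfl
      · exact ⟨0, Submodule.zero_mem _, map_zero _⟩
      · rintro a b _ _ ⟨wa, hwa, rfl⟩ ⟨wb, hwb, rfl⟩
        exact ⟨wa + wb, Submodule.add_mem _ hwa hwb, map_add _ _ _⟩
      · rintro c a _ ⟨wa, hwa, rfl⟩
        exact ⟨c • wa, Submodule.smul_mem _ c hwa, map_smul _ _ _⟩
    rw [eq_top_iff]
    intro w _
    have h1 : f.lTensor X (g.lTensor X w) = 0 := hex'.apply_apply_eq_zero w
    obtain ⟨w₀, hw₀, hw₀'⟩ := hI₀S _ (hker _ h1)
    have : w₀ = w := hinj hw₀'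
    rw [← this]
    exact hw₀

end General

section Milnor

variable (B' B A' A : Type u) [CommRing B'] [CommRing B] [CommRing A'] [CommRing A]
  [Algebra B' B] [Algebra B' A'] [Algebra B A] [Algebra A' A] [Algebra B' A]
  [IsScalarTower B' B A] [IsScalarTower B' A' A]

/-- **Finite presentation descends along a Milnor square** (for flat algebras). -/
theorem finitePresentation_of_baseChange (hsq : EtMil.IsFibreSquare B' B A' A)
    (D' : Type u) [CommRing D'] [Algebra B' D'] [Module.Flat B' D']
    [Algebra.FinitePresentation B (B ⊗[B'] D')] [Algebra.FinitePresentation A' (A' ⊗[B'] D')] :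
    Algebra.FinitePresentation B' D' := by
  classical
  haveI : Algebra.FiniteType B' D' := finiteType_of_baseChange B' B A' A hsq D'
  obtain ⟨n, π, hπ⟩ := Algebra.FiniteType.iff_quotient_mvPolynomial''.mp
    (inferInstance : Algebra.FiniteType B' D')
  obtain ⟨t₁, ht₁, h₁⟩ := exists_finset_span_eq_top_ker B π hπ
  obtain ⟨t₂, ht₂, h₂⟩ := exists_finset_span_eq_top_ker A' π hπ
  set K'' : Ideal (MvPolynomial (Fin n) B') := Ideal.span ((t₁ ∪ t₂ : Finset _) : Set _) with hK''
  have htK₁ : (t₁ : Set (MvPolynomial (Fin n) B')) ⊆ K'' := fun p hp =>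
    Ideal.subset_span (by simp only [Finset.coe_union, Set.mem_union]; exact Or.inl hp)
  have htK₂ : (t₂ : Set (MvPolynomial (Fin n) B')) ⊆ K'' := fun p hp =>
    Ideal.subset_span (by simp only [Finset.coe_union, Set.mem_union]; exact Or.inr hp)
  have hK : K'' ≤ RingHom.ker π := by
    rw [hK'', Ideal.span_le]
    intro p hp
    simp only [Finset.coe_union, Set.mem_union] at hp
    rcases hp with hp | hp
    · exact ht₁ hp
    · exact ht₂ hp
  set KM : Submodule B' (MvPolynomial (Fin n) B') := (RingHom.ker π).restrictScalars B' with hKM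
  let N : Submodule B' ↥KM := (K''.restrictScalars B').comap KM.subtype
  have hN : ∀ k : ↥KM, k ∈ N ↔ (k : MvPolynomial (Fin n) B') ∈ K'' := fun k => Iff.rfl
  haveI : Subsingleton (B ⊗[B'] (↥KM ⧸ N)) :=
    Groth.Agent.S14953.subsingleton_tensor_quotient B ↥KM N {k | (k : MvPolynomial (Fin n) B') ∈ K''}
      (fun k hk => hk) (h₁ K'' htK₁ hK)
  haveI : Subsingleton (A' ⊗[B'] (↥KM ⧸ N)) :=
    Groth.Agent.S14953.subsingleton_tensor_quotient A' ↥KM N {k | (k : MvPolynomial (Fin n) B') ∈ K''}
      (fun k hk => hk) (h₂ K'' htK₂ hK)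
  haveI : Subsingleton (↥KM ⧸ N) := Groth.Agent.S14949.result B' B A' A hsq _
  have hle : RingHom.ker π ≤ K'' := by
    intro p hp
    have : (Submodule.Quotient.mk (⟨p, hp⟩ : ↥KM) : ↥KM ⧸ N) = 0 := Subsingleton.elim _ _
    exact (hN _).mp ((Submodule.Quotient.mk_eq_zero _).mp this)
  have heq : RingHom.ker π = K'' := le_antisymm hle hK
  refine ⟨n, π, hπ, ?_⟩
  show (RingHom.ker π).FG
  rw [heq]
  exact ⟨_, rfl⟩

end Milnor

end Groth.Agent.Lib.MilnorProps24
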