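import Mathlib
import Groth.Agent.Lib.MilnorProps24b

/-!
# Properties of algebras over a Milnor square, III: flat, smooth, etale (helper24)
-/

set_option autoImplicit false
universe u

namespace Groth.Agent.Lib.MilnorProps24

open TensorProduct Groth.Agent.Lib.RingFibreSq24

section General

variable {R : Type u} [CommRing R] (X : Type u) [CommRing X] [Algebra R X]
  (D : Type u) [CommRing D] [Algebra R D]

/-- If the base change `X ⊗ D` is smooth over `X`, the fibres of `R → D` at primes in the image of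
`Spec X` are (formally) smooth. -/
theorem formallySmooth_fiber_of_baseChange [Algebra.Smooth X (X ⊗[R] D)]
    (I : Ideal R) [I.IsPrime] (q : Ideal X) [q.IsPrime] (hq : I = q.comap (algebraMap R X)) :
    Algebra.FormallySmooth I.ResidueField (I.Fiber D) := by
  letI : Algebra I.ResidueField q.ResidueField :=
    (Ideal.ResidueField.map I q (algebraMap R X) hq).toAlgebra
  haveI : IsScalarTower R I.ResidueField q.ResidueField := by
    refine IsScalarTower.of_algebraMap_eq' ?_
    ext r
    rw [RingHom.comp_apply]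
    show algebraMap R q.ResidueField r =
      Ideal.ResidueField.map I q (algebraMap R X) hq (algebraMap R I.ResidueField r)
    rw [Ideal.ResidueField.map_algebraMap, ← IsScalarTower.algebraMap_apply]
  let e₁ : q.ResidueField ⊗[I.ResidueField] (I.ResidueField ⊗[R] D) ≃ₐ[q.ResidueField]
      q.ResidueField ⊗[R] D :=
    Algebra.TensorProduct.cancelBaseChange R I.ResidueField q.ResidueField q.ResidueField D
  let e₂ : q.ResidueField ⊗[X] (X ⊗[R] D) ≃ₐ[q.ResidueField] q.ResidueField ⊗[R] D :=
    Algebra.TensorProduct.cancelBaseChange R X q.ResidueField q.ResidueField D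
  haveI : Algebra.Smooth q.ResidueField (q.ResidueField ⊗[X] (X ⊗[R] D)) := inferInstance
  haveI : Algebra.Smooth q.ResidueField
      (q.ResidueField ⊗[I.ResidueField] (I.ResidueField ⊗[R] D)) :=
    Algebra.Smooth.of_equiv (e₂.trans e₁.symm)
  haveI : Algebra.Smooth I.ResidueField (I.ResidueField ⊗[R] D) :=
    Algebra.Smooth.of_smooth_tensorProduct_of_faithfullyFlat q.ResidueField
  exact inferInstance

end General

section Milnor

variable (B' B A' A : Type u) [CommRing B'] [CommRing B] [CommRing A'] [CommRing A]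
  [Algebra B' B] [Algebra B' A'] [Algebra B A] [Algebra A' A] [Algebra B' A]
  [IsScalarTower B' B A] [IsScalarTower B' A' A]

variable {B' B A' A} in
theorem isFibreSq_of_isFibreSquare (hsq : EtMil.IsFibreSquare B' B A' A) :
    IsFibreSq (algebraMap B' B) (algebraMap B' A') (algebraMap B A) (algebraMap A' A) := by
  refine ⟨?_, ?_, ?_⟩
  · intro c
    rw [← IsScalarTower.algebraMap_apply, ← IsScalarTower.algebraMap_apply]
  · intro c h₁ h₂
    obtain ⟨b', -, huniq⟩ := hsq.2 0 0 (by rw [map_zero, map_zero])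
    rw [huniq c ⟨h₁, h₂⟩, huniq 0 ⟨map_zero _, map_zero _⟩]
  · intro b a' h
    obtain ⟨b', hb', -⟩ := hsq.2 b a' h
    exact ⟨b', hb'.1, hb'.2⟩

/-- every prime of `B'` comes from `B` or from `A'` -/
theorem exists_prime_over (hsq : EtMil.IsFibreSquare B' B A' A) (I : Ideal B') [hI : I.IsPrime] :
    (∃ (q : Ideal B) (_ : q.IsPrime), I = q.comap (algebraMap B' B)) ∨
    (∃ (q : Ideal A') (_ : q.IsPrime), I = q.comap (algebraMap B' A')) := by
  rcases (isFibreSq_of_isFibreSquare hsq).range_comap hsq.1 ⟨I, hI⟩ with ⟨q, hq⟩ | ⟨q, hq⟩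
  · left
    exact ⟨q.asIdeal, q.isPrime, (congrArg PrimeSpectrum.asIdeal hq).symm⟩
  · right
    exact ⟨q.asIdeal, q.isPrime, (congrArg PrimeSpectrum.asIdeal hq).symm⟩

/-- **Flatness descends along a Milnor square.** -/
theorem flat_of_baseChange (hsq : EtMil.IsFibreSquare B' B A' A)
    (D' : Type u) [CommRing D'] [Algebra B' D']
    [Module.Flat B (B ⊗[B'] D')] [Module.Flat A' (A' ⊗[B'] D')] : Module.Flat B' D' :=
  Groth.Agent.S14952.result B' B A' A hsq D'

/-- **Smoothness descends along a Milnor square.** -/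
theorem smooth_of_baseChange (hsq : EtMil.IsFibreSquare B' B A' A)
    (D' : Type u) [CommRing D'] [Algebra B' D']
    [Algebra.Smooth B (B ⊗[B'] D')] [Algebra.Smooth A' (A' ⊗[B'] D')] : Algebra.Smooth B' D' := by
  haveI : Module.Flat B' D' := flat_of_baseChange B' B A' A hsq D'
  haveI : Algebra.FinitePresentation B' D' := finitePresentation_of_baseChange B' B A' A hsq D'
  refine Algebra.Smooth.of_formallySmooth_fiber fun I hI => ?_
  rcases exists_prime_over B' B A' A hsq I with ⟨q, hq, hIq⟩ | ⟨q, hq, hIq⟩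
  · exact formallySmooth_fiber_of_baseChange B D' I q hIq
  · exact formallySmooth_fiber_of_baseChange A' D' I q hIq

/-- **Etaleness descends along a Milnor square.** -/
theorem etale_of_baseChange (hsq : EtMil.IsFibreSquare B' B A' A)
    (D' : Type u) [CommRing D'] [Algebra B' D']
    [Algebra.Etale B (B ⊗[B'] D')] [Algebra.Etale A' (A' ⊗[B'] D')] : Algebra.Etale B' D' := by
  haveI : Algebra.Smooth B' D' := smooth_of_baseChange B' B A' A hsq D'
  letI : Algebra D' (B ⊗[B'] D') := Algebra.TensorProduct.rightAlgebra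
  letI : Algebra D' (A' ⊗[B'] D') := Algebra.TensorProduct.rightAlgebra
  haveI : Subsingleton (B ⊗[B'] Ω[D'⁄B']) :=
    (KaehlerDifferential.tensorKaehlerEquivBase B' B D' (B ⊗[B'] D')).toEquiv.subsingleton
  haveI : Subsingleton (A' ⊗[B'] Ω[D'⁄B']) :=
    (KaehlerDifferential.tensorKaehlerEquivBase B' A' D' (A' ⊗[B'] D')).toEquiv.subsingleton
  haveI hΩ : Subsingleton Ω[D'⁄B'] := Groth.Agent.S14949.result B' B A' A hsq Ω[D'⁄B']
  haveI : Algebra.FormallyUnramified B' D' := ⟨hΩ⟩
  exact ⟨⟨inferInstance, inferInstance⟩, inferInstance⟩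

end Milnor

end Groth.Agent.Lib.MilnorProps24
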