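import Mathlib
import Groth.Agent.Lib.MilnorProps24c

/-!
# Properties of algebras over a Milnor square, IV: the five equivalences (helper24)

Algebra form (`props_iff`) and `CommRingCat` cube form (`milnor_props`).
-/

set_option autoImplicit false
universe u

namespace Groth.Agent.Lib.MilnorProps24

open TensorProduct Groth.Agent.Lib.RingFibreSq24 Groth.Agent.Lib.MilnorEtale24

section AlgebraForm

variable (B' B A' A : Type u) [CommRing B'] [CommRing B] [CommRing A'] [CommRing A]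
  [Algebra B' B] [Algebra B' A'] [Algebra B A] [Algebra A' A] [Algebra B' A]
  [IsScalarTower B' B A] [IsScalarTower B' A' A]

/-- The five equivalences for a `B'`-algebra `D'` with base changes `D = B ⊗ D'`,
`C' = A' ⊗ D'`. -/
theorem props_iff (hsq : EtMil.IsFibreSquare B' B A' A)
    (D' D C' : Type u) [CommRing D'] [CommRing D] [CommRing C']
    [Algebra B' D'] [Algebra B D] [Algebra D' D] [Algebra B' D] [IsScalarTower B' B D]
    [IsScalarTower B' D' D] [Algebra.IsPushout B' B D' D]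
    [Algebra A' C'] [Algebra D' C'] [Algebra B' C'] [IsScalarTower B' A' C']
    [IsScalarTower B' D' C'] [Algebra.IsPushout B' A' D' C'] :
    (Algebra.FiniteType B' D' ↔ Algebra.FiniteType B D ∧ Algebra.FiniteType A' C') ∧
    (Module.Flat B' D' ↔ Module.Flat B D ∧ Module.Flat A' C') ∧
    (Module.Flat B' D' ∧ Algebra.FinitePresentation B' D' ↔
      (Module.Flat B D ∧ Algebra.FinitePresentation B D) ∧
        (Module.Flat A' C' ∧ Algebra.FinitePresentation A' C')) ∧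
    (Algebra.Smooth B' D' ↔ Algebra.Smooth B D ∧ Algebra.Smooth A' C') ∧
    (Algebra.Etale B' D' ↔ Algebra.Etale B D ∧ Algebra.Etale A' C') := by
  let e₁ : B ⊗[B'] D' ≃ₐ[B] D := Algebra.IsPushout.equiv B' B D' D
  let e₂ : A' ⊗[B'] D' ≃ₐ[A'] C' := Algebra.IsPushout.equiv B' A' D' C'
  refine ⟨⟨?_, ?_⟩, ⟨?_, ?_⟩, ⟨?_, ?_⟩, ⟨?_, ?_⟩, ⟨?_, ?_⟩⟩
  · intro h
    exact ⟨Algebra.FiniteType.equiv inferInstance e₁, Algebra.FiniteType.equiv inferInstance e₂⟩
  · rintro ⟨h1, h2⟩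
    haveI : Algebra.FiniteType B (B ⊗[B'] D') := Algebra.FiniteType.equiv h1 e₁.symm
    haveI : Algebra.FiniteType A' (A' ⊗[B'] D') := Algebra.FiniteType.equiv h2 e₂.symm
    exact finiteType_of_baseChange B' B A' A hsq D'
  · intro h
    exact ⟨Module.Flat.of_linearEquiv e₁.symm.toLinearEquiv,
      Module.Flat.of_linearEquiv e₂.symm.toLinearEquiv⟩
  · rintro ⟨h1, h2⟩
    haveI : Module.Flat B (B ⊗[B'] D') := Module.Flat.of_linearEquiv e₁.toLinearEquiv
    haveI : Module.Flat A' (A' ⊗[B'] D') := Module.Flat.of_linearEquiv e₂.toLinearEquiv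
    exact flat_of_baseChange B' B A' A hsq D'
  · rintro ⟨h1, h2⟩
    exact ⟨⟨Module.Flat.of_linearEquiv e₁.symm.toLinearEquiv, Algebra.FinitePresentation.equiv e₁⟩,
      ⟨Module.Flat.of_linearEquiv e₂.symm.toLinearEquiv, Algebra.FinitePresentation.equiv e₂⟩⟩
  · rintro ⟨⟨h1, h1'⟩, ⟨h2, h2'⟩⟩
    haveI : Module.Flat B (B ⊗[B'] D') := Module.Flat.of_linearEquiv e₁.toLinearEquiv
    haveI : Module.Flat A' (A' ⊗[B'] D') := Module.Flat.of_linearEquiv e₂.toLinearEquiv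
    haveI : Algebra.FinitePresentation B (B ⊗[B'] D') := Algebra.FinitePresentation.equiv e₁.symm
    haveI : Algebra.FinitePresentation A' (A' ⊗[B'] D') :=
      Algebra.FinitePresentation.equiv e₂.symm
    haveI : Module.Flat B' D' := flat_of_baseChange B' B A' A hsq D'
    exact ⟨inferInstance, finitePresentation_of_baseChange B' B A' A hsq D'⟩
  · intro h
    exact ⟨Algebra.Smooth.of_equiv e₁, Algebra.Smooth.of_equiv e₂⟩
  · rintro ⟨h1, h2⟩
    haveI : Algebra.Smooth B (B ⊗[B'] D') := Algebra.Smooth.of_equiv e₁.symm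
    haveI : Algebra.Smooth A' (A' ⊗[B'] D') := Algebra.Smooth.of_equiv e₂.symm
    exact smooth_of_baseChange B' B A' A hsq D'
  · intro h
    exact ⟨Algebra.Etale.of_equiv e₁, Algebra.Etale.of_equiv e₂⟩
  · rintro ⟨h1, h2⟩
    haveI : Algebra.Etale B (B ⊗[B'] D') := Algebra.Etale.of_equiv e₁.symm
    haveI : Algebra.Etale A' (A' ⊗[B'] D') := Algebra.Etale.of_equiv e₂.symm
    exact etale_of_baseChange B' B A' A hsq D'

end AlgebraForm

section Cat

open CategoryTheory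

variable {C B A' A C' E₁ E₂ E₀ : CommRingCat.{u}}

/-- **The five equivalences, categorical cube form.** -/
theorem milnor_props
    (π₁ : C ⟶ B) (π₂ : C ⟶ A') (q : B ⟶ A) (p : A' ⟶ A)
    (π₁' : C' ⟶ E₁) (π₂' : C' ⟶ E₂) (q' : E₁ ⟶ E₀) (p' : E₂ ⟶ E₀)
    (φC : C ⟶ C') (φB : B ⟶ E₁) (φA' : A' ⟶ E₂) (φA : A ⟶ E₀)
    (sq : IsFibreSq π₁.hom π₂.hom q.hom p.hom) (hp : Function.Surjective p.hom)
    (sq' : IsFibreSq π₁'.hom π₂'.hom q'.hom p'.hom)
    (h1 : π₁ ≫ φB = φC ≫ π₁') (h2 : π₂ ≫ φA' = φC ≫ π₂')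
    (hq : IsPushout q φB φA q') (hpp : IsPushout p φA' φA p') :
    (φC.hom.FiniteType ↔ φB.hom.FiniteType ∧ φA'.hom.FiniteType) ∧
    (φC.hom.Flat ↔ φB.hom.Flat ∧ φA'.hom.Flat) ∧
    (φC.hom.Flat ∧ φC.hom.FinitePresentation ↔
      (φB.hom.Flat ∧ φB.hom.FinitePresentation) ∧ (φA'.hom.Flat ∧ φA'.hom.FinitePresentation)) ∧
    (φC.hom.Smooth ↔ φB.hom.Smooth ∧ φA'.hom.Smooth) ∧
    (φC.hom.Etale ↔ φB.hom.Etale ∧ φA'.hom.Etale) := by
  letI : Algebra C B := π₁.hom.toAlgebra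
  letI : Algebra C A' := π₂.hom.toAlgebra
  letI : Algebra B A := q.hom.toAlgebra
  letI : Algebra A' A := p.hom.toAlgebra
  letI : Algebra C A := (π₁ ≫ q).hom.toAlgebra
  haveI : IsScalarTower C B A := IsScalarTower.of_algebraMap_eq' rfl
  haveI : IsScalarTower C A' A := IsScalarTower.of_algebraMap_eq' (by
    ext c
    exact sq.comm c)
  letI : Algebra C C' := φC.hom.toAlgebra
  letI : Algebra B E₁ := φB.hom.toAlgebra
  letI : Algebra A' E₂ := φA'.hom.toAlgebra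
  letI : Algebra A E₀ := φA.hom.toAlgebra
  letI : Algebra C' E₁ := π₁'.hom.toAlgebra
  letI : Algebra C' E₂ := π₂'.hom.toAlgebra
  letI : Algebra E₁ E₀ := q'.hom.toAlgebra
  letI : Algebra E₂ E₀ := p'.hom.toAlgebra
  letI : Algebra C E₁ := (π₁ ≫ φB).hom.toAlgebra
  letI : Algebra C E₂ := (π₂ ≫ φA').hom.toAlgebra
  letI : Algebra B E₀ := (q ≫ φA).hom.toAlgebra
  letI : Algebra A' E₀ := (p ≫ φA).hom.toAlgebra
  haveI : IsScalarTower C B E₁ := IsScalarTower.of_algebraMap_eq' rfl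
  haveI : IsScalarTower C C' E₁ := IsScalarTower.of_algebraMap_eq' congr(($h1).hom)
  haveI : IsScalarTower C A' E₂ := IsScalarTower.of_algebraMap_eq' rfl
  haveI : IsScalarTower C C' E₂ := IsScalarTower.of_algebraMap_eq' congr(($h2).hom)
  haveI : IsScalarTower B A E₀ := IsScalarTower.of_algebraMap_eq' rfl
  haveI : IsScalarTower B E₁ E₀ := IsScalarTower.of_algebraMap_eq' congr(($(hq.w)).hom)
  haveI : IsScalarTower A' A E₀ := IsScalarTower.of_algebraMap_eq' rfl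
  haveI : IsScalarTower A' E₂ E₀ := IsScalarTower.of_algebraMap_eq' congr(($(hpp.w)).hom)
  haveI : Algebra.IsPushout B A E₁ E₀ :=
    (CommRingCat.isPushout_iff_isPushout (R := B) (S := E₁) (R' := A) (S' := E₀)).mp hq
  haveI : Algebra.IsPushout A' A E₂ E₀ :=
    (CommRingCat.isPushout_iff_isPushout (R := A') (S := E₂) (R' := A) (S' := E₀)).mp hpp
  have hsq : EtMil.IsFibreSquare C B A' A := by
    refine ⟨hp, fun b a' h => ?_⟩
    obtain ⟨c, hc1, hc2⟩ := sq.surj b a' h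
    exact ⟨c, ⟨hc1, hc2⟩, fun c' hc' => sq.ext (hc'.1.trans hc1.symm) (hc'.2.trans hc2.symm)⟩
  obtain ⟨P1, P2⟩ := isPushout_of_fibreSquares C B A' A hsq C' E₁ E₂ E₀
    (fun c => sq'.comm c) (fun c hc1 hc2 => sq'.inj c hc1 hc2)
    (fun x y hxy => sq'.surj x y hxy)
  haveI := P1
  haveI := P2
  exact props_iff C B A' A hsq C' E₁ E₂

end Cat

end Groth.Agent.Lib.MilnorProps24
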