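import Mathlib
import Groth.Agent.Lib.MilnorProps24d
import Groth.Agent.Lib.MilnorEtale24c

/-!
# Properties of morphisms to a pushout along two closed immersions (helper24)

Scheme-level version of the five Milnor-square equivalences.
-/

set_option autoImplicit false
universe u

namespace Groth.Agent.Lib.MilnorProps24

open AlgebraicGeometry CategoryTheory CategoryTheory.Limits TopologicalSpace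
open Groth.Agent.Lib.Ferrand24 Groth.Agent.Lib.RingFibreSq24 Groth.Agent.Lib.MilnorEtale24

variable {X Y Z P X' Y' Z' P' : Scheme.{u}}

/-- the fibre condition for a closed immersion `j` -/
theorem haff_of_isClosedImmersion (i : Z ⟶ X) (j : Z ⟶ Y) [IsClosedImmersion j] (y : Y) :
    ∃ U : X.Opens, IsAffineOpen U ∧ j ⁻¹' {y} ⊆ i ⁻¹' (U : Set X) := by
  by_cases hy : ∃ z, j z = y
  · obtain ⟨z, rfl⟩ := hy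
    obtain ⟨_, ⟨U, hU, rfl⟩, hzU, -⟩ :=
      X.isBasis_affineOpens.exists_subset_of_mem_open (Set.mem_univ (i z)) isOpen_univ
    refine ⟨U, hU, ?_⟩
    intro z' hz'
    have : z' = z := j.isClosedEmbedding.injective hz'
    rw [this]
    exact hzU
  · refine ⟨⊥, isAffineOpen_bot X, ?_⟩
    intro z hz
    exact absurd ⟨z, hz⟩ hy

section Setup

variable (i : Z ⟶ X) (j : Z ⟶ Y) [IsClosedImmersion i] [IsClosedImmersion j]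
  (a : X ⟶ P) (b : Y ⟶ P) (hP : IsPushout i j a b)
  (f : X' ⟶ X) (g : Y' ⟶ Y) (i' : Z' ⟶ X') (j' : Z' ⟶ Y') (c : Z' ⟶ Z)
  (hX : IsPullback i' c f i) (hY : IsPullback j' c g j)
  (a' : X' ⟶ P') (b' : Y' ⟶ P') (hP' : IsPushout i' j' a' b') (h : P' ⟶ P)
  (ha : a' ≫ h = f ≫ a) (hb : b' ≫ h = g ≫ b)

include hP hX hY hP' ha hb in
/-- **The cube of sections** and the five ring-level equivalences over affine opens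
`Ω' ⊆ h⁻¹ Ω`. -/
theorem cube_props (Ω : P.Opens) (hΩ : IsAffineOpen Ω) (Ω' : P'.Opens) (hΩ' : IsAffineOpen Ω')
    (hle : Ω' ≤ h ⁻¹ᵁ Ω) (eX : a' ⁻¹ᵁ Ω' ≤ f ⁻¹ᵁ a ⁻¹ᵁ Ω) (eY : b' ⁻¹ᵁ Ω' ≤ g ⁻¹ᵁ b ⁻¹ᵁ Ω) :
    IsAffineOpen (a ⁻¹ᵁ Ω) ∧ IsAffineOpen (b ⁻¹ᵁ Ω) ∧ IsAffineOpen (a' ⁻¹ᵁ Ω') ∧
    IsAffineOpen (b' ⁻¹ᵁ Ω') ∧
    (((h.appLE Ω Ω' hle).hom.FiniteType ↔ (g.appLE (b ⁻¹ᵁ Ω) (b' ⁻¹ᵁ Ω') eY).hom.FiniteType ∧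
        (f.appLE (a ⁻¹ᵁ Ω) (a' ⁻¹ᵁ Ω') eX).hom.FiniteType) ∧
    ((h.appLE Ω Ω' hle).hom.Flat ↔ (g.appLE (b ⁻¹ᵁ Ω) (b' ⁻¹ᵁ Ω') eY).hom.Flat ∧
        (f.appLE (a ⁻¹ᵁ Ω) (a' ⁻¹ᵁ Ω') eX).hom.Flat) ∧
    ((h.appLE Ω Ω' hle).hom.Flat ∧ (h.appLE Ω Ω' hle).hom.FinitePresentation ↔
      ((g.appLE (b ⁻¹ᵁ Ω) (b' ⁻¹ᵁ Ω') eY).hom.Flat ∧
        (g.appLE (b ⁻¹ᵁ Ω) (b' ⁻¹ᵁ Ω') eY).hom.FinitePresentation) ∧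
      ((f.appLE (a ⁻¹ᵁ Ω) (a' ⁻¹ᵁ Ω') eX).hom.Flat ∧
        (f.appLE (a ⁻¹ᵁ Ω) (a' ⁻¹ᵁ Ω') eX).hom.FinitePresentation)) ∧
    ((h.appLE Ω Ω' hle).hom.Smooth ↔ (g.appLE (b ⁻¹ᵁ Ω) (b' ⁻¹ᵁ Ω') eY).hom.Smooth ∧
        (f.appLE (a ⁻¹ᵁ Ω) (a' ⁻¹ᵁ Ω') eX).hom.Smooth) ∧
    ((h.appLE Ω Ω' hle).hom.Etale ↔ (g.appLE (b ⁻¹ᵁ Ω) (b' ⁻¹ᵁ Ω') eY).hom.Etale ∧
        (f.appLE (a ⁻¹ᵁ Ω) (a' ⁻¹ᵁ Ω') eX).hom.Etale)) := by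
  haveI : IsClosedImmersion i' := MorphismProperty.of_isPullback hX.flip inferInstance
  haveI : IsClosedImmersion j' := MorphismProperty.of_isPullback hY.flip inferInstance
  obtain ⟨hXc, hYc⟩ := exists_charts i j (haff_of_isClosedImmersion i j)
  obtain ⟨hXc', hYc'⟩ := exists_charts i' j' (haff_of_isClosedImmersion i' j')
  obtain ⟨-, hbcl, hjs, hacl, -⟩ := props_of_isPushout_of_charts hXc hYc hP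
  obtain ⟨-, hbcl', hjs', hacl', -⟩ := props_of_isPushout_of_charts hXc' hYc' hP'
  haveI : IsClosedImmersion b := hbcl
  haveI : IsClosedImmersion a := hacl inferInstance
  haveI : IsClosedImmersion b' := hbcl'
  haveI : IsClosedImmersion a' := hacl' inferInstance
  have hG : IsAffineOpen (a ⁻¹ᵁ Ω) := hΩ.preimage a
  have hH : IsAffineOpen (b ⁻¹ᵁ Ω) := hΩ.preimage b
  have hG' : IsAffineOpen (a' ⁻¹ᵁ Ω') := hΩ'.preimage a'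
  have hH' : IsAffineOpen (b' ⁻¹ᵁ Ω') := hΩ'.preimage b'
  refine ⟨hG, hH, hG', hH', ?_⟩
  have hNeq : i ⁻¹ᵁ a ⁻¹ᵁ Ω = j ⁻¹ᵁ b ⁻¹ᵁ Ω := by
    rw [← Scheme.Hom.comp_preimage, ← Scheme.Hom.comp_preimage, hP.w]
  have hNeq' : i' ⁻¹ᵁ a' ⁻¹ᵁ Ω' = j' ⁻¹ᵁ b' ⁻¹ᵁ Ω' := by
    rw [← Scheme.Hom.comp_preimage i', ← Scheme.Hom.comp_preimage j', hP'.w]
  have hZ'le : i' ⁻¹ᵁ a' ⁻¹ᵁ Ω' ≤ c ⁻¹ᵁ i ⁻¹ᵁ a ⁻¹ᵁ Ω := by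
    intro z hz
    have h1 : i' z ∈ f ⁻¹ᵁ a ⁻¹ᵁ Ω := eX hz
    have h2 : f (i' z) = i (c z) := congr($(hX.w) z)
    show a (i (c z)) ∈ Ω
    rw [← h2]
    exact h1
  have sq := sections_isFibreSq hXc hYc hP Ω hΩ hG hH hNeq.le
  have sq' := sections_isFibreSq hXc' hYc' hP' Ω' hΩ' hG' hH' hNeq'.le
  have hp : Function.Surjective (i.app (a ⁻¹ᵁ Ω)).hom := i.app_surjective _ hG
  rw [Scheme.Hom.app_eq_appLE, Scheme.Hom.app_eq_appLE, Scheme.Hom.app_eq_appLE] at sq sq'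
  rw [Scheme.Hom.app_eq_appLE] at hp
  have hUY : i' ⁻¹ᵁ a' ⁻¹ᵁ Ω' = j' ⁻¹ᵁ b' ⁻¹ᵁ Ω' ⊓ c ⁻¹ᵁ i ⁻¹ᵁ a ⁻¹ᵁ Ω :=
    le_antisymm (le_inf hNeq'.le hZ'le) (inf_le_left.trans hNeq'.ge)
  have hUX : i' ⁻¹ᵁ a' ⁻¹ᵁ Ω' = i' ⁻¹ᵁ a' ⁻¹ᵁ Ω' ⊓ c ⁻¹ᵁ i ⁻¹ᵁ a ⁻¹ᵁ Ω :=
    le_antisymm (le_inf le_rfl hZ'le) inf_le_left
  have hq := ((isIso_pushoutSection_iff hY hNeq.le eY hUY).mp
    (isIso_pushoutSection_of_isAffineOpen hY hNeq.le eY hUY hH (hG.preimage i) hH')).flip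
  have hpp := ((isIso_pushoutSection_iff hX (le_refl (i ⁻¹ᵁ a ⁻¹ᵁ Ω)) eX hUX).mp
    (isIso_pushoutSection_of_isAffineOpen hX (le_refl (i ⁻¹ᵁ a ⁻¹ᵁ Ω)) eX hUX hG
      (hG.preimage i) hG')).flip
  have h1 : b.appLE Ω (b ⁻¹ᵁ Ω) le_rfl ≫ g.appLE (b ⁻¹ᵁ Ω) (b' ⁻¹ᵁ Ω') eY =
      h.appLE Ω Ω' hle ≫ b'.appLE Ω' (b' ⁻¹ᵁ Ω') le_rfl :=
    appLE_comp_sq hb.symm _ _ _ _ _ _ _ _
  have h2 : a.appLE Ω (a ⁻¹ᵁ Ω) le_rfl ≫ f.appLE (a ⁻¹ᵁ Ω) (a' ⁻¹ᵁ Ω') eX =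
      h.appLE Ω Ω' hle ≫ a'.appLE Ω' (a' ⁻¹ᵁ Ω') le_rfl :=
    appLE_comp_sq ha.symm _ _ _ _ _ _ _ _
  exact milnor_props _ _ _ _ _ _ _ _ _ _ _ _ sq hp sq' h1 h2 hq hpp

include hP hX hY hP' ha hb in
/-- **Generic local-to-global equivalence** for a property detected on affine charts. -/
theorem scheme_iff_of_cube
    (P₀ : ∀ {A B : Scheme.{u}}, (A ⟶ B) → Prop) (Q : ∀ {R S : CommRingCat.{u}}, (R ⟶ S) → Prop)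
    (hall : ∀ {A B : Scheme.{u}} (k : A ⟶ B), P₀ k → ∀ (U : B.Opens) (V : A.Opens),
      IsAffineOpen U → IsAffineOpen V → ∀ e : V ≤ k ⁻¹ᵁ U, Q (k.appLE U V e))
    (hex : ∀ {A B : Scheme.{u}} (k : A ⟶ B), (∀ x : A, ∃ (U : B.Opens) (V : A.Opens),
      IsAffineOpen U ∧ IsAffineOpen V ∧ x ∈ V ∧ ∃ e : V ≤ k ⁻¹ᵁ U, Q (k.appLE U V e)) → P₀ k)
    (hcube : ∀ (Ω : P.Opens) (_ : IsAffineOpen Ω) (Ω' : P'.Opens) (_ : IsAffineOpen Ω')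
      (hle : Ω' ≤ h ⁻¹ᵁ Ω) (eX : a' ⁻¹ᵁ Ω' ≤ f ⁻¹ᵁ a ⁻¹ᵁ Ω) (eY : b' ⁻¹ᵁ Ω' ≤ g ⁻¹ᵁ b ⁻¹ᵁ Ω),
      (Q (h.appLE Ω Ω' hle) ↔ Q (g.appLE (b ⁻¹ᵁ Ω) (b' ⁻¹ᵁ Ω') eY) ∧
        Q (f.appLE (a ⁻¹ᵁ Ω) (a' ⁻¹ᵁ Ω') eX))) :
    P₀ h ↔ P₀ f ∧ P₀ g := by
  have heX : ∀ (Ω : P.Opens) (Ω' : P'.Opens), Ω' ≤ h ⁻¹ᵁ Ω → a' ⁻¹ᵁ Ω' ≤ f ⁻¹ᵁ a ⁻¹ᵁ Ω := by
    intro Ω Ω' hle x hx
    have h1 : h (a' x) ∈ Ω := hle hx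
    have h2 : h (a' x) = a (f x) := congr($ha x)
    show a (f x) ∈ Ω
    rw [← h2]
    exact h1
  have heY : ∀ (Ω : P.Opens) (Ω' : P'.Opens), Ω' ≤ h ⁻¹ᵁ Ω → b' ⁻¹ᵁ Ω' ≤ g ⁻¹ᵁ b ⁻¹ᵁ Ω := by
    intro Ω Ω' hle y hy
    have h1 : h (b' y) ∈ Ω := hle hy
    have h2 : h (b' y) = b (g y) := congr($hb y)
    show b (g y) ∈ Ω
    rw [← h2]
    exact h1
  -- affine pairs around a point of `P'`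
  have hpair : ∀ t : P', ∃ (Ω : P.Opens) (Ω' : P'.Opens), IsAffineOpen Ω ∧ IsAffineOpen Ω' ∧
      t ∈ Ω' ∧ Ω' ≤ h ⁻¹ᵁ Ω := by
    intro t
    obtain ⟨_, ⟨Ω, hΩ, rfl⟩, htΩ, -⟩ :=
      P.isBasis_affineOpens.exists_subset_of_mem_open (Set.mem_univ (h t)) isOpen_univ
    obtain ⟨_, ⟨Ω', hΩ', rfl⟩, htΩ', hle⟩ :=
      P'.isBasis_affineOpens.exists_subset_of_mem_open (show t ∈ h ⁻¹ᵁ Ω from htΩ) (h ⁻¹ᵁ Ω).2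
    exact ⟨Ω, Ω', hΩ, hΩ', htΩ', hle⟩
  constructor
  · intro hh
    constructor
    · apply hex
      intro x
      obtain ⟨Ω, Ω', hΩ, hΩ', htΩ', hle⟩ := hpair (a' x)
      obtain ⟨hG, hH, hG', hH', -⟩ := cube_props i j a b hP f g i' j' c hX hY a' b' hP' h ha hb
        Ω hΩ Ω' hΩ' hle (heX Ω Ω' hle) (heY Ω Ω' hle)
      refine ⟨a ⁻¹ᵁ Ω, a' ⁻¹ᵁ Ω', hG, hG', htΩ', heX Ω Ω' hle, ?_⟩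
      exact ((hcube Ω hΩ Ω' hΩ' hle (heX Ω Ω' hle) (heY Ω Ω' hle)).mp
        (hall h hh Ω Ω' hΩ hΩ' hle)).2
    · apply hex
      intro y
      obtain ⟨Ω, Ω', hΩ, hΩ', htΩ', hle⟩ := hpair (b' y)
      obtain ⟨hG, hH, hG', hH', -⟩ := cube_props i j a b hP f g i' j' c hX hY a' b' hP' h ha hb
        Ω hΩ Ω' hΩ' hle (heX Ω Ω' hle) (heY Ω Ω' hle)
      refine ⟨b ⁻¹ᵁ Ω, b' ⁻¹ᵁ Ω', hH, hH', htΩ', heY Ω Ω' hle, ?_⟩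
      exact ((hcube Ω hΩ Ω' hΩ' hle (heX Ω Ω' hle) (heY Ω Ω' hle)).mp
        (hall h hh Ω Ω' hΩ hΩ' hle)).1
  · rintro ⟨hf, hg⟩
    apply hex
    intro t
    obtain ⟨Ω, Ω', hΩ, hΩ', htΩ', hle⟩ := hpair t
    obtain ⟨hG, hH, hG', hH', -⟩ := cube_props i j a b hP f g i' j' c hX hY a' b' hP' h ha hb
      Ω hΩ Ω' hΩ' hle (heX Ω Ω' hle) (heY Ω Ω' hle)
    refine ⟨Ω, Ω', hΩ, hΩ', htΩ', hle, ?_⟩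
    exact (hcube Ω hΩ Ω' hΩ' hle (heX Ω Ω' hle) (heY Ω Ω' hle)).mpr
      ⟨hall g hg _ _ hH hH' _, hall f hf _ _ hG hG' _⟩

end Setup

end Groth.Agent.Lib.MilnorProps24
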