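import Mathlib
import Groth.Agent.Lib.MilnorProps24e

/-!
# The five equivalences for morphisms to a pushout along two closed immersions (helper24)
-/

set_option autoImplicit false
universe u

namespace Groth.Agent.Lib.MilnorProps24

open AlgebraicGeometry CategoryTheory CategoryTheory.Limits TopologicalSpace

section Local

variable {P₀ : MorphismProperty Scheme.{u}}
  {Q : ∀ {R S : Type u} [CommRing R] [CommRing S], (R →+* S) → Prop} [HasRingHomProperty P₀ Q]

theorem hall_of_hasRingHomProperty {A B : Scheme.{u}} (k : A ⟶ B) (hk : P₀ k) (U : B.Opens)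
    (V : A.Opens) (hU : IsAffineOpen U) (hV : IsAffineOpen V) (e : V ≤ k ⁻¹ᵁ U) :
    Q (k.appLE U V e).hom :=
  HasRingHomProperty.appLE P₀ k hk ⟨U, hU⟩ ⟨V, hV⟩ e

theorem hex_of_hasRingHomProperty [P₀.IsStableUnderComposition]
    (hopen : ∀ {A B : Scheme.{u}} (i : A ⟶ B), IsOpenImmersion i → P₀ i)
    {A B : Scheme.{u}} (k : A ⟶ B)
    (H : ∀ x : A, ∃ (U : B.Opens) (V : A.Opens), IsAffineOpen U ∧ IsAffineOpen V ∧ x ∈ V ∧
      ∃ e : V ≤ k ⁻¹ᵁ U, Q (k.appLE U V e).hom) : P₀ k := by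
  haveI : P₀.RespectsRight @IsOpenImmersion :=
    ⟨fun i hi f hf => P₀.comp_mem f i hf (hopen i hi)⟩
  rw [IsZariskiLocalAtSource.iff_exists_resLE (P := P₀)]
  intro x
  obtain ⟨U, V, hU, hV, hx, e, hQ⟩ := H x
  refine ⟨U, V, hx, e, ?_⟩
  haveI : IsAffine U.toScheme := hU
  haveI : IsAffine V.toScheme := hV
  rw [HasRingHomProperty.iff_of_isAffine (P := P₀)]
  have : (RingHom.toMorphismProperty Q).RespectsIso :=
    RingHom.toMorphismProperty_respectsIso_iff.mp
      (HasRingHomProperty.isLocal_ringHomProperty P₀).respectsIso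
  exact (MorphismProperty.arrow_mk_iso_iff (RingHom.toMorphismProperty Q)
    (arrowResLEAppIso k U V e)).mpr hQ

end Local

variable {X Y Z P X' Y' Z' P' : Scheme.{u}}

/-- **The five equivalences for `h : P' ⟶ P`.** -/
theorem scheme_props_iff
    (i : Z ⟶ X) (j : Z ⟶ Y) [IsClosedImmersion i] [IsClosedImmersion j]
    (a : X ⟶ P) (b : Y ⟶ P) (hP : IsPushout i j a b)
    (f : X' ⟶ X) (g : Y' ⟶ Y) (i' : Z' ⟶ X') (j' : Z' ⟶ Y') (c : Z' ⟶ Z)
    (hX : IsPullback i' c f i) (hY : IsPullback j' c g j)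
    (a' : X' ⟶ P') (b' : Y' ⟶ P') (hP' : IsPushout i' j' a' b') (h : P' ⟶ P)
    (ha : a' ≫ h = f ≫ a) (hb : b' ≫ h = g ≫ b) :
    (LocallyOfFiniteType h ↔ LocallyOfFiniteType f ∧ LocallyOfFiniteType g) ∧
    (Flat h ↔ Flat f ∧ Flat g) ∧
    ((Flat h ∧ LocallyOfFinitePresentation h) ↔
      (Flat f ∧ LocallyOfFinitePresentation f) ∧ (Flat g ∧ LocallyOfFinitePresentation g)) ∧
    (Smooth h ↔ Smooth f ∧ Smooth g) ∧
    (Etale h ↔ Etale f ∧ Etale g) := by
  have cube := cube_props i j a b hP f g i' j' c hX hY a' b' hP' h ha hb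
  refine ⟨?_, ?_, ?_, ?_, ?_⟩
  · refine scheme_iff_of_cube i j a b hP f g i' j' c hX hY a' b' hP' h ha hb
      (fun {A B} k => LocallyOfFiniteType k) (fun {R S} φ => φ.hom.FiniteType)
      (fun k hk U V hU hV e => hall_of_hasRingHomProperty (P₀ := @LocallyOfFiniteType) k hk U V hU hV e)
      (fun k H => hex_of_hasRingHomProperty (P₀ := @LocallyOfFiniteType)
        (fun i hi => inferInstance) k H) ?_
    intro Ω hΩ Ω' hΩ' hle eX eY
    exact (cube Ω hΩ Ω' hΩ' hle eX eY).2.2.2.2.1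
  · refine scheme_iff_of_cube i j a b hP f g i' j' c hX hY a' b' hP' h ha hb
      (fun {A B} k => Flat k) (fun {R S} φ => φ.hom.Flat)
      (fun k hk U V hU hV e => hall_of_hasRingHomProperty (P₀ := @Flat) k hk U V hU hV e)
      (fun k H => hex_of_hasRingHomProperty (P₀ := @Flat)
        (fun i hi => inferInstance) k H) ?_
    intro Ω hΩ Ω' hΩ' hle eX eY
    exact (cube Ω hΩ Ω' hΩ' hle eX eY).2.2.2.2.2.1
  · refine scheme_iff_of_cube i j a b hP f g i' j' c hX hY a' b' hP' h ha hb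
      (fun {A B} k => Flat k ∧ LocallyOfFinitePresentation k)
      (fun {R S} φ => φ.hom.Flat ∧ φ.hom.FinitePresentation)
      (fun k hk U V hU hV e =>
        ⟨hall_of_hasRingHomProperty (P₀ := @Flat) k hk.1 U V hU hV e,
          hall_of_hasRingHomProperty (P₀ := @LocallyOfFinitePresentation) k hk.2 U V hU hV e⟩)
      (fun k H =>
        ⟨hex_of_hasRingHomProperty (P₀ := @Flat) (fun i hi => inferInstance) k (fun x => by
            obtain ⟨U, V, hU, hV, hx, e, hQ⟩ := H x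
            exact ⟨U, V, hU, hV, hx, e, hQ.1⟩),
          hex_of_hasRingHomProperty (P₀ := @LocallyOfFinitePresentation)
            (fun i hi => inferInstance) k (fun x => by
            obtain ⟨U, V, hU, hV, hx, e, hQ⟩ := H x
            exact ⟨U, V, hU, hV, hx, e, hQ.2⟩)⟩) ?_
    intro Ω hΩ Ω' hΩ' hle eX eY
    exact (cube Ω hΩ Ω' hΩ' hle eX eY).2.2.2.2.2.2.1
  · refine scheme_iff_of_cube i j a b hP f g i' j' c hX hY a' b' hP' h ha hb
      (fun {A B} k => Smooth k) (fun {R S} φ => φ.hom.Smooth)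
      (fun k hk U V hU hV e => hall_of_hasRingHomProperty (P₀ := @Smooth) k hk U V hU hV e)
      (fun k H => hex_of_hasRingHomProperty (P₀ := @Smooth)
        (fun i hi => inferInstance) k H) ?_
    intro Ω hΩ Ω' hΩ' hle eX eY
    exact (cube Ω hΩ Ω' hΩ' hle eX eY).2.2.2.2.2.2.2.1
  · refine scheme_iff_of_cube i j a b hP f g i' j' c hX hY a' b' hP' h ha hb
      (fun {A B} k => Etale k) (fun {R S} φ => φ.hom.Etale)
      (fun k hk U V hU hV e => hall_of_hasRingHomProperty (P₀ := @Etale) k hk U V hU hV e)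
      (fun k H => hex_of_hasRingHomProperty (P₀ := @Etale)
        (fun i hi => inferInstance) k H) ?_
    intro Ω hΩ Ω' hΩ' hle eX eY
    exact (cube Ω hΩ Ω' hΩ' hle eX eY).2.2.2.2.2.2.2.2

end Groth.Agent.Lib.MilnorProps24
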