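import Mathlib
import Groth.Agent.S14949
import Groth.Agent.S14953
import Groth.Agent.S2019
import Groth.Agent.S2020

/-!
# Relative Milnor squares: finiteness / finite presentation (helper34)

Setting: `B' = B ×_A A'` Milnor square, `B' → D'` a ring map, `D = D' ⊗_{B'} B`, `C' = D' ⊗_{B'} A'`.
* `subsingleton_of_rel`: a `D'`-module `Q` with `D ⊗_{D'} Q = 0 = C' ⊗_{D'} Q` is zero.
* `finite_of_rel`: `D ⊗ L'` finite over `D`, `C' ⊗ L'` finite over `C'` ⇒ `L'` finite over `D'`.
* `finitePresentation_of_rel`: `L'` flat over `B'`, `D ⊗ L'` f.p. over `D`, `C' ⊗ L'` f.p. over `C'`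
  ⇒ `L'` f.p. over `D'` (no hypothesis on `B' → D'`).
-/

set_option autoImplicit false
universe u
open TensorProduct

namespace Groth.Agent.Lib.MilnorRel34

section cancel

variable {R : Type u} (S A Bb : Type u) [CommRing R] [CommRing S] [CommRing A] [CommRing Bb]
  [Algebra R S] [Algebra R A] [Algebra A Bb] [Algebra S Bb] [Algebra R Bb]
  [IsScalarTower R A Bb] [IsScalarTower R S Bb] [Algebra.IsPushout R S A Bb]

/-- naturality of `cancelBaseChange.symm` in the module. -/
theorem cancel_symm_natural {M M' : Type u} [AddCommGroup M] [Module R M] [Module A M]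
    [IsScalarTower R A M] [AddCommGroup M'] [Module R M'] [Module A M'] [IsScalarTower R A M']
    (g : M →ₗ[A] M') (x : S ⊗[R] M) :
    (Algebra.IsPushout.cancelBaseChange R S A Bb M').symm ((g.restrictScalars R).lTensor S x) =
      g.baseChange Bb ((Algebra.IsPushout.cancelBaseChange R S A Bb M).symm x) := by
  induction x using TensorProduct.induction_on with
  | zero => simp
  | tmul s m =>
    rw [LinearMap.lTensor_tmul, Algebra.IsPushout.cancelBaseChange_symm_tmul,
      Algebra.IsPushout.cancelBaseChange_symm_tmul, LinearMap.baseChange_tmul]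
    rfl
  | add x y hx hy => simp only [map_add, hx, hy]

include S in
/-- If `L` is flat over `R`, `f : F → L` an `A`-linear surjection, then `Bb ⊗_A ker f → Bb ⊗_A F` is
injective, where `Bb = S ⊗_R A`. -/
theorem baseChange_ker_injective {F L : Type u} [AddCommGroup F] [Module R F] [Module A F]
    [IsScalarTower R A F] [AddCommGroup L] [Module R L] [Module A L] [IsScalarTower R A L]
    [Module.Flat R L] (f : F →ₗ[A] L) (hf : Function.Surjective f) :
    Function.Injective ((LinearMap.ker f).subtype.baseChange Bb) := by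
  set K := LinearMap.ker f
  have hinj : Function.Injective ((K.subtype.restrictScalars R).lTensor S) :=
    LinearMap.lTensor_injective_of_exact_of_flat (f.restrictScalars R) hf
      (K.subtype.restrictScalars R) K.injective_subtype
      (LinearMap.exact_subtype_ker_map f) S
  intro x y hxy
  obtain ⟨x', rfl⟩ := (Algebra.IsPushout.cancelBaseChange R S A Bb K).symm.surjective x
  obtain ⟨y', rfl⟩ := (Algebra.IsPushout.cancelBaseChange R S A Bb K).symm.surjective y
  rw [← cancel_symm_natural, ← cancel_symm_natural] at hxy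
  rw [hinj ((Algebra.IsPushout.cancelBaseChange R S A Bb F).symm.injective hxy)]

include S in
/-- If `L` is flat over `R`, `f : F → L` surjective `A`-linear with `F` finite over `A`, and
`Bb ⊗_A L` is f.p. over `Bb`, then `Bb ⊗_A ker f` is finite over `Bb`. -/
theorem finite_baseChange_ker {F L : Type u} [AddCommGroup F] [Module R F] [Module A F]
    [IsScalarTower R A F] [AddCommGroup L] [Module R L] [Module A L] [IsScalarTower R A L]
    [Module.Finite A F] [Module.Flat R L] [Module.FinitePresentation Bb (Bb ⊗[A] L)]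
    (f : F →ₗ[A] L) (hf : Function.Surjective f) :
    Module.Finite Bb (Bb ⊗[A] LinearMap.ker f) := by
  set K := LinearMap.ker f
  let g : Bb ⊗[A] K →ₗ[Bb] Bb ⊗[A] F := K.subtype.baseChange Bb
  have hg : Function.Injective g := baseChange_ker_injective (R := R) S A Bb f hf
  have hex : Function.Exact (K.subtype.lTensor Bb) (f.lTensor Bb) :=
    lTensor_exact Bb (LinearMap.exact_subtype_ker_map f) hf
  have hrange : LinearMap.range g = LinearMap.ker (f.baseChange Bb) := by
    ext x
    rw [LinearMap.mem_ker, LinearMap.mem_range]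
    exact ((hex x).symm)
  have hfg : (LinearMap.ker (f.baseChange Bb)).FG :=
    Module.FinitePresentation.fg_ker (f.baseChange Bb) (LinearMap.lTensor_surjective Bb hf)
  rw [← hrange] at hfg
  have : Module.Finite Bb (LinearMap.range g) := Module.Finite.iff_fg.mpr hfg
  exact Module.Finite.equiv (LinearEquiv.ofInjective g hg).symm

end cancel

section rel

variable (B' B A' A : Type u) [CommRing B'] [CommRing B] [CommRing A'] [CommRing A]
  [Algebra B' B] [Algebra B' A'] [Algebra B A] [Algebra A' A] [Algebra B' A]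
  [IsScalarTower B' B A] [IsScalarTower B' A' A]
  (D' D C' : Type u) [CommRing D'] [CommRing D] [CommRing C']
  [Algebra B' D'] [Algebra B D] [Algebra A' C'] [Algebra D' D] [Algebra B' D]
  [IsScalarTower B' B D] [IsScalarTower B' D' D] [Algebra.IsPushout B' B D' D]
  [Algebra D' C'] [Algebra B' C'] [IsScalarTower B' A' C'] [IsScalarTower B' D' C']
  [Algebra.IsPushout B' A' D' C']

include B A' A in
theorem subsingleton_of_rel (hsq : EtMil.IsFibreSquare B' B A' A)
    (Q : Type u) [AddCommGroup Q] [Module D' Q] [Module B' Q] [IsScalarTower B' D' Q]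
    [Subsingleton (D ⊗[D'] Q)] [Subsingleton (C' ⊗[D'] Q)] : Subsingleton Q := by
  have h1 : Subsingleton (B ⊗[B'] Q) :=
    (Algebra.IsPushout.cancelBaseChange B' B D' D Q).symm.toEquiv.subsingleton
  have h2 : Subsingleton (A' ⊗[B'] Q) :=
    (Algebra.IsPushout.cancelBaseChange B' A' D' C' Q).symm.toEquiv.subsingleton
  exact Groth.Agent.S14949.result B' B A' A hsq Q

include B A' A in
theorem finite_of_rel (hsq : EtMil.IsFibreSquare B' B A' A)
    (L' : Type u) [AddCommGroup L'] [Module D' L'] [Module B' L'] [IsScalarTower B' D' L']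
    [Module.Finite D (D ⊗[D'] L')] [Module.Finite C' (C' ⊗[D'] L')] : Module.Finite D' L' := by
  classical
  obtain ⟨s₁, hs₁⟩ := Groth.Agent.S14953.exists_finset_span (R := D') D L'
  obtain ⟨s₂, hs₂⟩ := Groth.Agent.S14953.exists_finset_span (R := D') C' L'
  let N : Submodule D' L' := Submodule.span D' ((s₁ ∪ s₂ : Finset L') : Set L')
  have h1 : (s₁ : Set L') ⊆ N := fun x hx => Submodule.subset_span (by simp [hx])
  have h2 : (s₂ : Set L') ⊆ N := fun x hx => Submodule.subset_span (by simp [hx])
  have := Groth.Agent.S14953.subsingleton_tensor_quotient D L' N s₁ h1 hs₁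
  have := Groth.Agent.S14953.subsingleton_tensor_quotient C' L' N s₂ h2 hs₂
  have hQ : Subsingleton (L' ⧸ N) := subsingleton_of_rel B' B A' A D' D C' hsq (L' ⧸ N)
  have hN : N = ⊤ := Submodule.Quotient.subsingleton_iff.mp hQ
  exact ⟨⟨s₁ ∪ s₂, hN⟩⟩

include B A' A in
theorem finitePresentation_of_rel (hsq : EtMil.IsFibreSquare B' B A' A)
    (L' : Type u) [AddCommGroup L'] [Module D' L'] [Module B' L'] [IsScalarTower B' D' L']
    [Module.Flat B' L']
    [Module.FinitePresentation D (D ⊗[D'] L')] [Module.FinitePresentation C' (C' ⊗[D'] L')] :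
    Module.FinitePresentation D' L' := by
  have hfin : Module.Finite D' L' := finite_of_rel B' B A' A D' D C' hsq L'
  obtain ⟨n, f, hf⟩ := Module.Finite.exists_fin' D' L'
  have h1 : Module.Finite D (D ⊗[D'] LinearMap.ker f) :=
    finite_baseChange_ker (R := B') B D' D f hf
  have h2 : Module.Finite C' (C' ⊗[D'] LinearMap.ker f) :=
    finite_baseChange_ker (R := B') A' D' C' f hf
  have hK : Module.Finite D' (LinearMap.ker f) :=
    finite_of_rel B' B A' A D' D C' hsq (LinearMap.ker f)
  exact Module.finitePresentation_of_surjective f hf (Module.Finite.iff_fg.mp hK)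

end rel

section glue

variable (B' B A' A : Type u) [CommRing B'] [CommRing B] [CommRing A'] [CommRing A]
    [Algebra B' B] [Algebra B' A'] [Algebra B A] [Algebra A' A] [Algebra B' A] [IsScalarTower B' B A]
    [IsScalarTower B' A' A]
    (D' D C' C : Type u) [CommRing D'] [CommRing D] [CommRing C'] [CommRing C]
    [Algebra B' D'] [Algebra B D] [Algebra A' C'] [Algebra A C]
    [Algebra D' D] [Algebra B' D] [IsScalarTower B' B D] [IsScalarTower B' D' D]
    [Algebra.IsPushout B' B D' D]
    [Algebra D' C'] [Algebra B' C'] [IsScalarTower B' A' C'] [IsScalarTower B' D' C']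
    [Algebra.IsPushout B' A' D' C']
    [Algebra D' C] [Algebra B' C] [IsScalarTower B' A C] [IsScalarTower B' D' C]
    [Algebra.IsPushout B' A D' C]
    [Algebra D C] [IsScalarTower D' D C] [Algebra B C] [IsScalarTower B A C] [IsScalarTower B D C]
    [Algebra C' C] [IsScalarTower D' C' C] [Algebra A' C] [IsScalarTower A' A C]
    [IsScalarTower A' C' C]

include B' D' in
theorem isPushout_BADC : Algebra.IsPushout B A D C := by
  have : IsScalarTower B' D C := IsScalarTower.of_algebraMap_eq fun x => by
    rw [IsScalarTower.algebraMap_apply B' D' C, IsScalarTower.algebraMap_apply D' D C,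
      ← IsScalarTower.algebraMap_apply B' D' D]
  exact (Algebra.IsPushout.comp_iff B' B D' (T := A) (S' := D) (T' := C)).mp inferInstance

include B' D' in
theorem isPushout_A'AC'C : Algebra.IsPushout A' A C' C := by
  have : IsScalarTower B' C' C := IsScalarTower.of_algebraMap_eq fun x => by
    rw [IsScalarTower.algebraMap_apply B' D' C, IsScalarTower.algebraMap_apply D' C' C,
      ← IsScalarTower.algebraMap_apply B' D' C']
  exact (Algebra.IsPushout.comp_iff B' A' D' (T := A) (S' := C') (T' := C)).mp inferInstance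

variable {N M' : Type u} [AddCommGroup N] [Module D N] [Module D' N] [IsScalarTower D' D N]
    [AddCommGroup M'] [Module C' M'] [Module D' M'] [IsScalarTower D' C' M']
    (φ : C ⊗[D] N ≃ₗ[C] C ⊗[C'] M')
    [Module B N] [IsScalarTower B D N] [Module A' M'] [IsScalarTower A' C' M']

/-- the absolute gluing isomorphism attached to a relative one. -/
noncomputable def phi0 [Algebra.IsPushout B A D C] [Algebra.IsPushout A' A C' C] :
    A ⊗[B] N ≃ₗ[A] A ⊗[A'] M' :=
  (Algebra.IsPushout.cancelBaseChange B A D C N).symm ≪≫ₗ (φ.restrictScalars A) ≪≫ₗ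
    (Algebra.IsPushout.cancelBaseChange A' A C' C M')

variable [Module B' N] [IsScalarTower B' B N] [IsScalarTower B' D' N]
    [Module B' M'] [IsScalarTower B' A' M'] [IsScalarTower B' D' M']

theorem mem_glue_iff [Algebra.IsPushout B A D C] [Algebra.IsPushout A' A C' C] (x : N × M') :
    x ∈ EtMil.glue B' (phi0 B A' A D C' C φ) ↔ x ∈ EtMil.glue D' φ := by
  show phi0 B A' A D C' C φ ((1 : A) ⊗ₜ[B] x.1) = (1 : A) ⊗ₜ[A'] x.2 ↔
    φ ((1 : C) ⊗ₜ[D] x.1) = (1 : C) ⊗ₜ[C'] x.2
  simp only [phi0, LinearEquiv.trans_apply, Algebra.IsPushout.cancelBaseChange_symm_tmul, map_one,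
    LinearEquiv.restrictScalars_apply]
  rw [← LinearEquiv.eq_symm_apply, Algebra.IsPushout.cancelBaseChange_symm_tmul, map_one]

/-- the two glued modules coincide. -/
noncomputable def glueEquiv [Algebra.IsPushout B A D C] [Algebra.IsPushout A' A C' C] :
    ↥(EtMil.glue B' (phi0 B A' A D C' C φ)) ≃ₗ[B'] ↥(EtMil.glue D' φ) where
  toFun x := ⟨x.1, (mem_glue_iff B' B A' A D' D C' C φ x.1).mp x.2⟩
  invFun x := ⟨x.1, (mem_glue_iff B' B A' A D' D C' C φ x.1).mpr x.2⟩
  map_add' _ _ := rfl
  map_smul' _ _ := rfl
  left_inv _ := rfl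
  right_inv _ := rfl

include B A' A D C' C in
theorem flat_glue (hsq : EtMil.IsFibreSquare B' B A' A) [Module.Flat B N] [Module.Flat A' M'] :
    Module.Flat B' ↥(EtMil.glue D' φ) := by
  have h1 : Algebra.IsPushout B A D C := isPushout_BADC B' B A D' D C
  have h2 : Algebra.IsPushout A' A C' C := isPushout_A'AC'C B' A' A D' C' C
  have hfl : Module.Flat B' ↥(EtMil.glue B' (phi0 B A' A D C' C φ)) :=
    (Groth.Agent.S2020.result B' B A' A hsq).1 N M' (phi0 B A' A D C' C φ) inferInstance inferInstance
  exact Module.Flat.of_linearEquiv (glueEquiv B' B A' A D' D C' C φ).symm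

include B A' A D C' C in
theorem bijective_fst (hsq : EtMil.IsFibreSquare B' B A' A) :
    Function.Bijective (LinearMap.liftBaseChange D (EtMil.glueFst D' φ)) := by
  have h1 : Algebra.IsPushout B A D C := isPushout_BADC B' B A D' D C
  have h2 : Algebra.IsPushout A' A C' C := isPushout_A'AC'C B' A' A D' C' C
  have hb := (Groth.Agent.S2019.result B' B A' A hsq N M' (phi0 B A' A D C' C φ)).1
  let t : B ⊗[B'] ↥(EtMil.glue B' (phi0 B A' A D C' C φ)) → D ⊗[D'] ↥(EtMil.glue D' φ) :=
    fun x => (Algebra.IsPushout.cancelBaseChange B' B D' D ↥(EtMil.glue D' φ)).symm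
      ((glueEquiv B' B A' A D' D C' C φ).lTensor B x)
  have ht : Function.Bijective t :=
    (Algebra.IsPushout.cancelBaseChange B' B D' D ↥(EtMil.glue D' φ)).symm.bijective.comp
      ((glueEquiv B' B A' A D' D C' C φ).lTensor B).bijective
  have heq : (LinearMap.liftBaseChange D (EtMil.glueFst D' φ)) ∘ t =
      LinearMap.liftBaseChange B (EtMil.glueFst B' (phi0 B A' A D C' C φ)) := by
    funext x
    induction x using TensorProduct.induction_on with
    | zero => simp [t]
    | tmul b y =>
      simp only [Function.comp_apply, t, LinearEquiv.lTensor_tmul,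
        Algebra.IsPushout.cancelBaseChange_symm_tmul, LinearMap.liftBaseChange_tmul]
      rw [algebraMap_smul]
      rfl
    | add x y hx hy =>
      simp only [Function.comp_apply] at hx hy ⊢
      have : t (x + y) = t x + t y := by simp [t]
      rw [this, map_add, map_add, hx, hy]
  rw [← heq] at hb
  exact (Function.Bijective.of_comp_iff _ ht).mp hb

include B A' A D C' C in
theorem bijective_snd (hsq : EtMil.IsFibreSquare B' B A' A) :
    Function.Bijective (LinearMap.liftBaseChange C' (EtMil.glueSnd D' φ)) := by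
  have h1 : Algebra.IsPushout B A D C := isPushout_BADC B' B A D' D C
  have h2 : Algebra.IsPushout A' A C' C := isPushout_A'AC'C B' A' A D' C' C
  have hb := (Groth.Agent.S2019.result B' B A' A hsq N M' (phi0 B A' A D C' C φ)).2
  let t : A' ⊗[B'] ↥(EtMil.glue B' (phi0 B A' A D C' C φ)) → C' ⊗[D'] ↥(EtMil.glue D' φ) :=
    fun x => (Algebra.IsPushout.cancelBaseChange B' A' D' C' ↥(EtMil.glue D' φ)).symm
      ((glueEquiv B' B A' A D' D C' C φ).lTensor A' x)
  have ht : Function.Bijective t :=
    (Algebra.IsPushout.cancelBaseChange B' A' D' C' ↥(EtMil.glue D' φ)).symm.bijective.comp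
      ((glueEquiv B' B A' A D' D C' C φ).lTensor A').bijective
  have heq : (LinearMap.liftBaseChange C' (EtMil.glueSnd D' φ)) ∘ t =
      LinearMap.liftBaseChange A' (EtMil.glueSnd B' (phi0 B A' A D C' C φ)) := by
    funext x
    induction x using TensorProduct.induction_on with
    | zero => simp [t]
    | tmul b y =>
      simp only [Function.comp_apply, t, LinearEquiv.lTensor_tmul,
        Algebra.IsPushout.cancelBaseChange_symm_tmul, LinearMap.liftBaseChange_tmul]
      rw [algebraMap_smul]
      rfl
    | add x y hx hy =>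
      simp only [Function.comp_apply] at hx hy ⊢
      have : t (x + y) = t x + t y := by simp [t]
      rw [this, map_add, map_add, hx, hy]
  rw [← heq] at hb
  exact (Function.Bijective.of_comp_iff _ ht).mp hb

include B A' A D C' C in
/-- Relative Milnor glueing preserves finite presentation (given flatness over the base square). -/
theorem finitePresentation_glue (hsq : EtMil.IsFibreSquare B' B A' A)
    [Module.FinitePresentation D N] [Module.Flat B N] [Module.FinitePresentation C' M']
    [Module.Flat A' M'] : Module.FinitePresentation D' ↥(EtMil.glue D' φ) := by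
  have hfl : Module.Flat B' ↥(EtMil.glue D' φ) := flat_glue B' B A' A D' D C' C φ hsq
  have e1 : (D ⊗[D'] ↥(EtMil.glue D' φ)) ≃ₗ[D] N :=
    LinearEquiv.ofBijective _ (bijective_fst B' B A' A D' D C' C φ hsq)
  have e2 : (C' ⊗[D'] ↥(EtMil.glue D' φ)) ≃ₗ[C'] M' :=
    LinearEquiv.ofBijective _ (bijective_snd B' B A' A D' D C' C φ hsq)
  have : Module.FinitePresentation D (D ⊗[D'] ↥(EtMil.glue D' φ)) :=
    Module.FinitePresentation.of_equiv e1.symm
  have : Module.FinitePresentation C' (C' ⊗[D'] ↥(EtMil.glue D' φ)) :=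
    Module.FinitePresentation.of_equiv e2.symm
  exact finitePresentation_of_rel B' B A' A D' D C' hsq ↥(EtMil.glue D' φ)

end glue

end Groth.Agent.Lib.MilnorRel34
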