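import Mathlib
import Groth.Agent.Lib.DegOrd1
set_option maxHeartbeats 800000
set_option autoImplicit false
set_option linter.style.haveILetI false
universe u v

namespace Groth.Agent.Lib.MinGen
open Groth.Agent.Lib.CommonFactor Groth.Agent.Lib.DegOrd

section pid
variable (O : Type u) [CommRing O] [IsDomain O] [IsNoetherianRing O] [IsLocalRing O]
  [Ring.KrullDimLE 1 O] (K : Type u) [Field K] [Algebra O K] [IsFractionRing O K]

theorem isPrincipalIdealRing_integralClosure (hfin : Module.Finite O ↥(integralClosure O K)) :
    IsPrincipalIdealRing ↥(integralClosure O K) := by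
  haveI : Ring.DimensionLEOne O := ⟨fun hp hp' => Ideal.IsPrime.isMaximal_of_ne_bot hp' hp⟩
  haveI : IsFractionRing ↥(integralClosure O K) K :=
    integralClosure.isFractionRing_of_finite_extension K K
  haveI : IsNoetherianRing ↥(integralClosure O K) :=
    isNoetherian_of_tower O (isNoetherian_of_isNoetherianRing_of_finite O _)
  haveI : IsDedekindDomain ↥(integralClosure O K) := by
    rw [isDedekindDomain_iff _ K]
    refine ⟨inferInstance, inferInstance, inferInstance, ?_⟩
    intro x hx
    have hx' : IsIntegral O x := isIntegral_trans x hx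
    exact ⟨⟨x, hx'⟩, rfl⟩
  haveI : Finite (MaximalSpectrum ↥(integralClosure O K)) :=
    finite_maximalSpectrum_of_finite O _
  apply IsPrincipalIdealRing.of_finite_primes
  have : {I : Ideal ↥(integralClosure O K) | I.IsPrime} ⊆
      insert ⊥ (Set.range (fun m : MaximalSpectrum ↥(integralClosure O K) => m.asIdeal)) := by
    intro I hI
    by_cases h : I = ⊥
    · exact Set.mem_insert_iff.mpr (Or.inl h)
    · exact Set.mem_insert_of_mem _ ⟨⟨I, Ideal.IsPrime.isMaximal hI h⟩, rfl⟩
  exact ((Set.finite_range _).insert _).subset this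

end pid

section reduction
variable {O : Type u} [CommRing O] [IsLocalRing O] [IsNoetherianRing O]
  {S : Type v} [CommRing S] [IsDomain S] [Algebra O S]
  [Finite (MaximalSpectrum S)] [Infinite (O ⧸ IsLocalRing.maximalIdeal O)]

/-- If `mS` is principal (S a semilocal integral extension domain of a local ring with infinite
residue field), it is generated by an element of `m`. -/
theorem exists_mem_span_eq_map (t : S)
    (ht : Ideal.map (algebraMap O S) (IsLocalRing.maximalIdeal O) = Ideal.span {t}) :
    ∃ x ∈ IsLocalRing.maximalIdeal O,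
      Ideal.span {algebraMap O S x} = Ideal.map (algebraMap O S) (IsLocalRing.maximalIdeal O) := by
  classical
  set m := IsLocalRing.maximalIdeal O with hm
  by_cases ht0 : t = 0
  · refine ⟨0, m.zero_mem, ?_⟩
    rw [ht, ht0, map_zero]
  obtain ⟨r, gen, hgen⟩ := Submodule.fg_iff_exists_fin_generating_family.mp
    (IsNoetherian.noetherian m)
  have hgm : ∀ j, gen j ∈ m := fun j => by
    rw [← hgen]; exact Submodule.subset_span ⟨j, rfl⟩
  -- `algebraMap (gen j) = t * w j`
  have hw : ∀ j, ∃ w : S, algebraMap O S (gen j) = t * w := fun j => by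
    have : algebraMap O S (gen j) ∈ Ideal.span {t} := by
      rw [← ht]; exact Ideal.mem_map_of_mem _ (hgm j)
    obtain ⟨w, hw⟩ := Ideal.mem_span_singleton'.mp this
    exact ⟨w, by rw [← hw, mul_comm]⟩
  choose w hw using hw
  -- `Σ u j * w j = 1`
  have htmem : t ∈ Ideal.map (algebraMap O S) m := by
    rw [ht]; exact Ideal.mem_span_singleton_self t
  have hmap : Ideal.map (algebraMap O S) m = Ideal.span (Set.range fun j => algebraMap O S (gen j)) := by
    have hm' : m = Ideal.span (Set.range gen) := hgen.symm
    rw [hm', Ideal.map_span, ← Set.range_comp]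
    rfl
  rw [hmap] at htmem
  obtain ⟨u, hu⟩ := (Ideal.mem_span_range_iff_exists_fun).mp htmem
  have hone : ∑ j, u j * w j = 1 := by
    have : t * ∑ j, u j * w j = t * 1 := by
      rw [Finset.mul_sum, mul_one]
      conv_rhs => rw [← hu]
      refine Finset.sum_congr rfl fun j _ => ?_
      rw [hw j]; ring
    exact mul_left_cancel₀ ht0 this
  -- the linear map `g`
  let g : (Fin r → O) →ₗ[O] S :=
    { toFun := fun c => ∑ j, c j • w j
      map_add' := fun c c' => by simp [add_smul, Finset.sum_add_distrib]
      map_smul' := fun a c => by simp [mul_smul, Finset.smul_sum] }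
  have hgx : ∀ c : Fin r → O, algebraMap O S (∑ j, c j * gen j) = t * g c := by
    intro c
    change _ = t * ∑ j, c j • w j
    rw [map_sum, Finset.mul_sum]
    refine Finset.sum_congr rfl fun j _ => ?_
    rw [map_mul, hw j, Algebra.smul_def]; ring
  -- find `c` with `g c` a unit
  have hex : ∃ c : Fin r → O, IsUnit (g c) := by
    by_contra hcon
    push Not at hcon
    haveI : Fintype (MaximalSpectrum S) := Fintype.ofFinite _
    let p : MaximalSpectrum S → Submodule O (Fin r → O) := fun n =>
      Submodule.comap g ((n.asIdeal : Submodule S S).restrictScalars O)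
    have hcov : ⋃ n ∈ (Finset.univ : Finset (MaximalSpectrum S)), (p n : Set (Fin r → O)) =
        Set.univ := by
      rw [Set.eq_univ_iff_forall]
      intro c
      obtain ⟨I, hI, hcI⟩ := exists_max_ideal_of_mem_nonunits (hcon c)
      exact Set.mem_biUnion (Finset.mem_univ (⟨I, hI⟩ : MaximalSpectrum S)) hcI
    obtain ⟨n, -, hfi⟩ := Submodule.exists_finiteIndex_of_cover hcov
    haveI : Finite ((Fin r → O) ⧸ p n) := AddSubgroup.finite_quotient_of_finiteIndex
    haveI := n.isMaximal
    -- some `w j ∉ n`
    obtain ⟨j, hj⟩ : ∃ j, w j ∉ n.asIdeal := by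
      by_contra h
      push Not at h
      have : (1 : S) ∈ n.asIdeal := by
        rw [← hone]
        exact Ideal.sum_mem _ fun j _ => Ideal.mul_mem_left _ _ (h j)
      exact n.isMaximal.ne_top ((Ideal.eq_top_iff_one _).mpr this)
    let c : Fin r → O := Pi.single j 1
    have hgc : g c = w j := by
      change ∑ i, (Pi.single j (1 : O) : Fin r → O) i • w i = w j
      rw [Finset.sum_eq_single j]
      · simp
      · intro i _ hij
        rw [Pi.single_apply, if_neg hij, zero_smul]
      · intro h; exact absurd (Finset.mem_univ j) h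
    let ψ : O ⧸ m → (Fin r → O) ⧸ p n := fun a => Submodule.Quotient.mk (Quotient.out a • c)
    have hψ : Function.Injective ψ := by
      intro a a' haa
      have h1 : (Quotient.out a - Quotient.out a') • c ∈ p n := by
        rw [sub_smul]
        exact (Submodule.Quotient.eq _).mp haa
      have h2 : (Quotient.out a - Quotient.out a') • w j ∈ n.asIdeal := by
        have : g ((Quotient.out a - Quotient.out a') • c) ∈ n.asIdeal := h1
        rwa [map_smul, hgc] at this
      rw [Algebra.smul_def] at h2
      have h3 : algebraMap O S (Quotient.out a - Quotient.out a') ∈ n.asIdeal :=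
        (n.isMaximal.isPrime.mem_or_mem h2).resolve_right hj
      have h4 : Quotient.out a - Quotient.out a' ∈ m := by
        have hle : Ideal.comap (algebraMap O S) n.asIdeal ≤ m :=
          IsLocalRing.le_maximalIdeal (Ideal.comap_ne_top _ n.isMaximal.ne_top)
        exact hle h3
      have h5 : Ideal.Quotient.mk m (Quotient.out a) = Ideal.Quotient.mk m (Quotient.out a') :=
        Ideal.Quotient.eq.mpr h4
      have h6 : ∀ b : O ⧸ m, Ideal.Quotient.mk m (Quotient.out b) = b := fun b =>
        Quotient.out_eq b
      rwa [h6, h6] at h5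
    haveI : Finite (O ⧸ m) := Finite.of_injective ψ hψ
    exact not_finite (O ⧸ m)
  obtain ⟨c, hc⟩ := hex
  refine ⟨∑ j, c j * gen j, Ideal.sum_mem _ fun j _ => Ideal.mul_mem_left _ _ (hgm j), ?_⟩
  rw [hgx, ht]
  exact Ideal.span_singleton_mul_right_unit hc t

end reduction

section locbasis
variable {O K : Type u} [CommRing O] [IsDomain O] [Field K] [Algebra O K] [IsFractionRing O K]
  {M : Type v} [AddCommGroup M] [Module O M] {V : Type v} [AddCommGroup V] [Module O V]
  [Module K V] [IsScalarTower O K V]

theorem exists_basis_of_isLocalizedModule (f : M →ₗ[O] V)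
    [IsLocalizedModule (nonZeroDivisors O) f] (hf : Function.Injective f)
    [FiniteDimensional K V] :
    ∃ e : Fin (Module.finrank K V) → M, LinearIndependent O e ∧
      ∀ m : M, ∃ d : O, d ≠ 0 ∧ d • m ∈ Submodule.span O (Set.range e) := by
  classical
  set n := Module.finrank K V with hn
  let bV : Module.Basis (Fin n) K V := Module.finBasis K V
  choose ms hms using fun i => IsLocalizedModule.surj (nonZeroDivisors O) f (bV i)
  let e : Fin n → M := fun i => (ms i).1
  have hsu : ∀ i, IsUnit (algebraMap O K ((ms i).2 : O)) := fun i =>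
    IsLocalization.map_units K (ms i).2
  have he' : ∀ i, f (e i) = (hsu i).unit • bV i := fun i => by
    rw [← hms i, Units.smul_def, IsUnit.unit_spec, algebraMap_smul]
    rfl
  have hliK : LinearIndependent K (fun i => f (e i)) := by
    have h1 := bV.linearIndependent.units_smul (fun i => (hsu i).unit)
    convert h1 using 2 with i
    exact he' i
  have hliA : LinearIndependent O (fun i => f (e i)) := hliK.restrict_scalars' O
  have hliAe : LinearIndependent O e := LinearIndependent.of_comp f hliA
  refine ⟨e, hliAe, ?_⟩
  let bE : Module.Basis (Fin n) K V :=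
    basisOfLinearIndependentOfCardEqFinrank' _ hliK (by simp [hn])
  have hbE : ∀ i, bE i = f (e i) := fun i => by simp [bE]
  intro m
  obtain ⟨d, hd⟩ := IsLocalization.exist_integer_multiples (nonZeroDivisors O) Finset.univ
    (fun i => bE.repr (f m) i)
  choose a ha using fun i => hd i (Finset.mem_univ i)
  refine ⟨(d : O), nonZeroDivisors.ne_zero d.2, ?_⟩
  have : (d : O) • m = ∑ i, a i • e i := by
    apply hf
    rw [map_sum, map_smul]
    conv_lhs => rw [← bE.sum_repr (f m), Finset.smul_sum]
    refine Finset.sum_congr rfl fun i _ => ?_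
    rw [map_smul, hbE, ← algebraMap_smul K (a i), ha i, smul_assoc]
  rw [this]
  exact Submodule.sum_mem _ fun i _ => Submodule.smul_mem _ _ (Submodule.subset_span ⟨i, rfl⟩)

end locbasis

end Groth.Agent.Lib.MinGen
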