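import Groth.Prelude.Def_ArtFun5
import Groth.Agent.Lib.ArtFunFibre
import Groth.Agent.Lib.ArtFunFactor
import Groth.Agent.Lib.FiniteLengthSupport
import Mathlib.RingTheory.Ideal.GoingUp
import Mathlib.RingTheory.Noetherian.Orzech

/-!
# Endomorphisms of objects of `Art Λ k` (helper1)

* `isFiniteLength_carrier`: an object of `Art Λ k` has finite length as a `Λ`-module (when `k` is finite over the
  Noetherian ring `Λ`);
* `rng`: the range of a morphism as a `Λ`-submodule;
* `exists_min_rng`: in a nonempty set of endomorphisms there is one with inclusion-minimal range;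
* `exists_idem`: an endomorphism `c` mapping its range onto itself can be normalised to an idempotent `ψ` with the same
  range and `c ∘ ψ = c`, which fixes every element (of any functor) fixed by `c`.
-/

set_option autoImplicit false
universe u v

open CategoryTheory ArtFun ArtFun.Art IsLocalRing

namespace Groth.Agent.Lib.MinVersalA

variable {Λ : Type u} {k : Type u} [CommRing Λ] [Field k] [Algebra Λ k]

section FiniteLength

variable [IsNoetherianRing Λ] [Module.Finite Λ k]

theorem isFiniteLength_carrier (A : Art Λ k) : IsFiniteLength Λ A := by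
  have hfin : Module.Finite Λ A := Groth.Agent.Lib.ArtFunFibre.finite_carrier A
  have hint : Algebra.IsIntegral Λ A := Algebra.IsIntegral.of_finite Λ A
  apply Groth.Agent.Lib.FiniteLengthSupport.isFiniteLength_of_support_isMaximal
  intro p hp
  have hann := Module.annihilator_le_of_mem_support hp
  have hker : RingHom.ker (algebraMap Λ A) ≤ p.asIdeal := by
    intro c hc
    apply hann
    rw [Module.mem_annihilator]
    intro a
    rw [Algebra.smul_def, (RingHom.mem_ker).1 hc, zero_mul]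
  obtain ⟨Q, -, hQ, hQp⟩ := Ideal.exists_ideal_over_prime_of_isIntegral p.asIdeal (⊥ : Ideal A)
    (by rw [← RingHom.ker_eq_comap_bot]; exact hker)
  have hQmax : Q.IsMaximal := IsArtinianRing.isMaximal_of_isPrime Q
  rw [← hQp]
  exact Ideal.isMaximal_comap_of_isIntegral_of_isMaximal Q

theorem isArtinian_carrier (A : Art Λ k) : IsArtinian Λ A :=
  ((isFiniteLength_iff_isNoetherian_isArtinian).1 (isFiniteLength_carrier A)).2

theorem isNoetherian_carrier (A : Art Λ k) : IsNoetherian Λ A :=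
  ((isFiniteLength_iff_isNoetherian_isArtinian).1 (isFiniteLength_carrier A)).1

end FiniteLength

/-- the range of a morphism, as a `Λ`-submodule. -/
def rng {C D : Art Λ k} (c : C ⟶ D) : Submodule Λ D := LinearMap.range c.toAlgHom.toLinearMap

theorem mem_rng {C D : Art Λ k} (c : C ⟶ D) (y : D) : y ∈ rng c ↔ ∃ x, c x = y := Iff.rfl

theorem apply_mem_rng {C D : Art Λ k} (c : C ⟶ D) (x : C) : c x ∈ rng c := ⟨x, rfl⟩

theorem comp_apply' {C D E : Art Λ k} (c : C ⟶ D) (d : D ⟶ E) (x : C) : (c ≫ d) x = d (c x) := rfl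

theorem rng_comp_le {C D E : Art Λ k} (c : C ⟶ D) (d : D ⟶ E) : rng (c ≫ d) ≤ rng d := by
  rintro _ ⟨x, rfl⟩
  exact ⟨c x, rfl⟩

theorem rng_comp_of_surjective {C D E : Art Λ k} (c : C ⟶ D) (d : D ⟶ E) (hc : Function.Surjective c) :
    rng (c ≫ d) = rng d := by
  apply le_antisymm (rng_comp_le c d)
  rintro _ ⟨y, rfl⟩
  obtain ⟨x, rfl⟩ := hc y
  exact ⟨x, rfl⟩

section Min

variable [IsNoetherianRing Λ] [Module.Finite Λ k]

theorem exists_min_rng (C : Art Λ k) (T : Set (C ⟶ C)) (hT : T.Nonempty) :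
    ∃ c ∈ T, ∀ m ∈ T, rng m ≤ rng c → rng c ≤ rng m := by
  have hart : IsArtinian Λ C := isArtinian_carrier C
  have hwf : WellFounded ((· < ·) : Submodule Λ C → Submodule Λ C → Prop) := wellFounded_lt
  obtain ⟨c₀, hc₀⟩ := hT
  obtain ⟨B, ⟨c, hcT, rfl⟩, hmin⟩ := hwf.has_min {B | ∃ c ∈ T, rng c = B} ⟨rng c₀, c₀, hc₀, rfl⟩
  refine ⟨c, hcT, ?_⟩
  intro m hm hle
  by_contra hne
  exact hmin (rng m) ⟨m, hm, rfl⟩ (lt_of_le_not_ge hle hne)

theorem exists_idem (C : Art Λ k) (c : C ⟶ C) (hc : rng c ≤ rng (c ≫ c)) :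
    ∃ ψ : C ⟶ C, ψ ≫ ψ = ψ ∧ rng ψ = rng c ∧ ψ ≫ c = c ∧
      ∀ (F : Art Λ k ⥤ Type v) (x : F.obj C), F.map c x = x → F.map ψ x = x := by
  have hK : RingHom.ker c.toAlgHom ≤ maximalIdeal C := Groth.Agent.Lib.ArtFunFactor.ker_le_maximalIdeal c
  set Q : Art Λ k := Art.quot C (RingHom.ker c.toAlgHom) hK with hQ
  set q : C ⟶ Q := Art.quotMk C (RingHom.ker c.toAlgHom) hK with hq
  set ĉ : Q ⟶ C := Art.quotFactor hK c le_rfl with hĉ
  have hqĉ : q ≫ ĉ = c := Art.quotMk_quotFactor hK c le_rfl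
  have hqsurj : Function.Surjective q := Art.quotMk_surjective C _ hK
  have hĉq : ∀ a : C, ĉ (q a) = c a := fun a => rfl
  have hq_eq : ∀ a b : C, c a = c b → q a = q b := by
    intro a b hab
    change Ideal.Quotient.mk _ a = Ideal.Quotient.mk _ b
    rw [Ideal.Quotient.eq, RingHom.mem_ker, map_sub]
    exact sub_eq_zero.2 hab
  set β : Q ⟶ Q := ĉ ≫ q with hβ
  have hβsurj : Function.Surjective β := by
    intro y
    obtain ⟨a, rfl⟩ := hqsurj y
    obtain ⟨b, hb⟩ := hc (apply_mem_rng c a)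
    refine ⟨q b, ?_⟩
    change q (ĉ (q b)) = q a
    rw [hĉq]
    apply hq_eq
    exact hb
  have hnoeth : IsNoetherian Λ Q := isNoetherian_carrier Q
  have hβinj : Function.Injective β :=
    IsNoetherian.injective_of_surjective_endomorphism β.toAlgHom.toLinearMap hβsurj
  obtain ⟨ν, hβν, hνβ⟩ := Groth.Agent.Lib.ArtFunFactor.exists_inv_of_bijective β ⟨hβinj, hβsurj⟩
  have hνsurj : Function.Surjective ν := by
    intro y
    refine ⟨β y, ?_⟩
    change (β ≫ ν) y = y
    rw [hβν]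
    rfl
  refine ⟨q ≫ ν ≫ ĉ, ?_, ?_, ?_, ?_⟩
  · calc (q ≫ ν ≫ ĉ) ≫ q ≫ ν ≫ ĉ = q ≫ (ν ≫ (ĉ ≫ q)) ≫ ν ≫ ĉ := by simp only [Category.assoc]
      _ = q ≫ ν ≫ ĉ := by rw [← hβ, hνβ, Category.id_comp]
  · have h1 : rng (q ≫ ν ≫ ĉ) = rng ĉ := by
      rw [← Category.assoc]
      apply rng_comp_of_surjective
      exact hνsurj.comp hqsurj
    rw [h1, ← hqĉ, rng_comp_of_surjective q ĉ hqsurj]
  · calc (q ≫ ν ≫ ĉ) ≫ c = q ≫ (ν ≫ (ĉ ≫ q)) ≫ ĉ := by rw [← hqĉ]; simp only [Category.assoc]
      _ = c := by rw [← hβ, hνβ, Category.id_comp, hqĉ]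
  · intro F x hx
    have h1 : F.map β (F.map q x) = F.map q x := by
      rw [hβ, CategoryTheory.Functor.map_comp_apply, ← CategoryTheory.Functor.map_comp_apply F q ĉ, hqĉ, hx]
    have h2 : F.map ν (F.map q x) = F.map q x := by
      have h3 := congrArg (F.map ν) h1
      rw [← CategoryTheory.Functor.map_comp_apply, hβν, CategoryTheory.Functor.map_id_apply] at h3
      exact h3.symm
    rw [CategoryTheory.Functor.map_comp_apply, CategoryTheory.Functor.map_comp_apply, h2,
      ← CategoryTheory.Functor.map_comp_apply, hqĉ, hx]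

end Min

end Groth.Agent.Lib.MinVersalA
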