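import Groth.Agent.Lib.MinVersalA
import Groth.Agent.Lib.H71ArtFunProRep
import Groth.Agent.Lib.H59ArtFunSection
import Groth.Prelude.Def_W4sfdMinVersal

/-!
# An idempotent endomorphism with minimal image preserving a versal family (helper1)

For a versal family `ξ` over a coefficient ring `R` we construct, level by level, an idempotent endomorphism `e` of `R`
with `e_* ξ = ξ` whose image modulo `m²` is minimal among the endomorphisms preserving `ξ`.
-/

set_option autoImplicit false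
universe u v

open CategoryTheory ArtFun ArtFun.Art IsLocalRing

namespace Groth.Agent.Lib.MinVersalB

open Groth.Agent.Lib.MinVersalA Groth.Agent.Lib.H59ArtFunSection

variable {Λ : Type u} {k : Type u} [CommRing Λ] [Field k] [Algebra Λ k]

/-- the `(m+1)`-st power of the maximal ideal of the `m`-th truncation vanishes. -/
theorem maximalIdeal_trunc_pow (S : CRing Λ k) (m : ℕ) :
    maximalIdeal (S.trunc m) ^ (m + 1) = ⊥ := by
  rw [← le_bot_iff]
  calc maximalIdeal (S.carrier ⧸ CRing.mpow S m) ^ (m + 1)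
      ≤ ((maximalIdeal S.carrier).map (Ideal.Quotient.mk (CRing.mpow S m))) ^ (m + 1) :=
        Ideal.pow_right_mono (CRing.maximalIdeal_quot_le S m) _
    _ = (CRing.mpow S m).map (Ideal.Quotient.mk (CRing.mpow S m)) := by rw [← Ideal.map_pow]
    _ = ⊥ := Ideal.map_quotient_self _
    _ ≤ ⊥ := le_rfl

/-- a map to the `m`-th truncation of a coefficient ring kills `m_R^(m+1)`. -/
theorem mpow_le_ker_of_trunc (R S : CRing Λ k) (m : ℕ) (χ : HomSet R.carrier R.res (S.trunc m)) :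
    R.mpow m ≤ RingHom.ker (χ.1 : R.carrier →+* S.trunc m) := by
  intro a ha
  have h1 : χ.1 a ∈ maximalIdeal (S.trunc m) ^ (m + 1) :=
    Groth.Agent.Lib.H71ArtFunFormal.map_maximalIdeal_pow_le R χ (m + 1) (Ideal.mem_map_of_mem _ ha)
  rw [maximalIdeal_trunc_pow] at h1
  exact h1

/-- morphisms into the `0`-th truncation are unique. -/
theorem hom_trunc_zero_ext (S : CRing Λ k) {A : Art Λ k} (f g : A ⟶ S.trunc 0) : f = g := by
  apply Art.hom_ext
  apply AlgHom.ext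
  intro x
  apply res_trunc_zero_injective S
  rw [Art.res_app, Art.res_app]

theorem truncMap_surjective (S : CRing Λ k) (n : ℕ) : Function.Surjective (S.truncMap n) := by
  intro y
  obtain ⟨a, rfl⟩ := Ideal.Quotient.mk_surjective y
  exact ⟨Ideal.Quotient.mk _ a, rfl⟩

section Main

variable (R : CRing Λ k) {F : Art Λ k ⥤ Type v} (ξ : Family R.carrier R.res F)

/-- the endomorphism `ψ` of `R/m^(n+1)` preserves the `n`-th component of the formal element of `ξ`. -/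
def Pres (n : ℕ) (ψ : R.trunc n ⟶ R.trunc n) : Prop :=
  F.map ψ (ξ.app _ (R.truncHom n)) = ξ.app _ (R.truncHom n)

/-- `ψ'` lifts `ψ`. -/
def Lifts (n : ℕ) (ψ' : R.trunc (n + 1) ⟶ R.trunc (n + 1)) (ψ : R.trunc n ⟶ R.trunc n) : Prop :=
  ψ' ≫ R.truncMap n = R.truncMap n ≫ ψ

variable {R ξ}

theorem pres_comp {n : ℕ} {a b : R.trunc n ⟶ R.trunc n} (ha : Pres R ξ n a) (hb : Pres R ξ n b) :
    Pres R ξ n (a ≫ b) := by
  unfold Pres at *
  rw [CategoryTheory.Functor.map_comp_apply, ha, hb]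

theorem pres_id (n : ℕ) : Pres R ξ n (𝟙 _) := by
  unfold Pres
  rw [CategoryTheory.Functor.map_id_apply]

theorem lifts_comp {n : ℕ} {a' b' : R.trunc (n + 1) ⟶ R.trunc (n + 1)} {a b : R.trunc n ⟶ R.trunc n}
    (ha : Lifts R n a' a) (hb : Lifts R n b' b) : Lifts R n (a' ≫ b') (a ≫ b) := by
  unfold Lifts at *
  rw [Category.assoc, hb, ← Category.assoc, ha, Category.assoc]

theorem lifts_apply {n : ℕ} {a' : R.trunc (n + 1) ⟶ R.trunc (n + 1)} {a : R.trunc n ⟶ R.trunc n}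
    (ha : Lifts R n a' a) (x : R.trunc (n + 1)) : R.truncMap n (a' x) = a (R.truncMap n x) :=
  congrArg (fun f : R.trunc (n + 1) ⟶ R.trunc n => f x) ha

theorem pres_truncMapOfHom (e : R.carrier →ₐ[Λ] R.carrier) (he : R.res.comp e = R.res)
    (hξe : ξ.along e he = ξ) (n : ℕ) : Pres R ξ n (CRing.truncMapOfHom e he n) := by
  unfold Pres
  rw [← ξ.natural]
  have h := congrArg (fun ζ : Family R.carrier R.res F => ζ.app _ (R.truncHom n)) hξe
  exact h

theorem exists_lift (hξ : IsVersal ξ) (n : ℕ) (ψ : R.trunc n ⟶ R.trunc n) (hψ : Pres R ξ n ψ) :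
    ∃ ψ' : R.trunc (n + 1) ⟶ R.trunc (n + 1), Pres R ξ (n + 1) ψ' ∧ Lifts R n ψ' ψ := by
  obtain ⟨χ, hχ1, hχ2⟩ := hξ (R.truncMap n) (truncMap_surjective R n) (HomSet.map ψ (R.truncHom n))
    (ξ.app _ (R.truncHom (n + 1))) (by
      rw [← ξ.natural, CRing.truncMap_truncHom, ξ.natural]
      exact hψ.symm)
  have hker := mpow_le_ker_of_trunc R R (n + 1) χ
  refine ⟨Groth.Agent.Lib.H71ArtFunFormal.factor R χ (n + 1) hker, ?_, ?_⟩
  · unfold Pres
    rw [← ξ.natural, Groth.Agent.Lib.H71ArtFunFormal.map_factor_truncHom, hχ2]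
  · unfold Lifts
    apply Art.hom_ext
    apply AlgHom.ext
    intro x
    obtain ⟨a, rfl⟩ := truncHom_surjective R (n + 1) x
    have h1 : R.truncMap n (χ.1 a) = ψ ((R.truncHom n).1 a) :=
      congrArg (fun t : HomSet R.carrier R.res (R.trunc n) => t.1 a) hχ1
    exact h1

variable [IsNoetherianRing Λ] [Module.Finite Λ k]

theorem exists_step (hξ : IsVersal ξ) (n : ℕ) (ψ : R.trunc n ⟶ R.trunc n) (hψ : Pres R ξ n ψ)
    (hψi : ψ ≫ ψ = ψ) :
    ∃ ψ' : R.trunc (n + 1) ⟶ R.trunc (n + 1), Pres R ξ (n + 1) ψ' ∧ ψ' ≫ ψ' = ψ' ∧ Lifts R n ψ' ψ ∧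
      ∀ m : R.trunc (n + 1) ⟶ R.trunc (n + 1), Pres R ξ (n + 1) m → Lifts R n m ψ →
        rng m ≤ rng ψ' → rng ψ' ≤ rng m := by
  obtain ⟨c₀, hc₀p, hc₀l⟩ := exists_lift hξ n ψ hψ
  obtain ⟨c, ⟨hcp, hcl⟩, hcmin⟩ := exists_min_rng (R.trunc (n + 1))
    {m | Pres R ξ (n + 1) m ∧ Lifts R n m ψ} ⟨c₀, hc₀p, hc₀l⟩
  have hcc : rng c ≤ rng (c ≫ c) := by
    apply hcmin (c ≫ c) ⟨pres_comp hcp hcp, ?_⟩ (rng_comp_le c c)
    have := lifts_comp hcl hcl
    rwa [hψi] at this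
  obtain ⟨ψ', hi, hr, hc', hF⟩ := exists_idem (R.trunc (n + 1)) c hcc
  refine ⟨ψ', hF F _ hcp, hi, ?_, ?_⟩
  · unfold Lifts
    apply Art.hom_ext
    apply AlgHom.ext
    intro x
    change R.truncMap n (ψ' x) = ψ (R.truncMap n x)
    have hy : ψ' x ∈ rng c := by
      rw [← hr]
      exact apply_mem_rng ψ' x
    obtain ⟨z, hz'⟩ := hy
    have hz : c z = ψ' x := hz'
    have h1 : ψ (R.truncMap n (ψ' x)) = R.truncMap n (ψ' x) := by
      rw [← hz, lifts_apply hcl]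
      exact congrArg (fun f : R.trunc n ⟶ R.trunc n => f (R.truncMap n z)) hψi
    have h2 : c (ψ' x) = c x := congrArg (fun f : R.trunc (n + 1) ⟶ R.trunc (n + 1) => f x) hc'
    have h3 := congrArg (R.truncMap n) h2
    rw [lifts_apply hcl, lifts_apply hcl, h1] at h3
    exact h3
  · intro m hmp hml hle
    rw [hr] at hle ⊢
    exact hcmin m ⟨hmp, hml⟩ hle

/-- The idempotent endomorphism. -/
theorem exists_idem_endo (hξ : IsVersal ξ) :
    ∃ (e : R.carrier →ₐ[Λ] R.carrier) (he : R.res.comp e = R.res), ξ.along e he = ξ ∧ e.comp e = e ∧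
      ∀ (e' : R.carrier →ₐ[Λ] R.carrier) (he' : R.res.comp e' = R.res), ξ.along e' he' = ξ →
        ∀ x : R.carrier, ∃ z : R.carrier, e x - e (e' (e z)) ∈ maximalIdeal R.carrier ^ 2 := by
  have step : ∀ (n : ℕ) (ψ : {ψ : R.trunc n ⟶ R.trunc n // Pres R ξ n ψ ∧ ψ ≫ ψ = ψ}),
      ∃ ψ' : {ψ : R.trunc (n + 1) ⟶ R.trunc (n + 1) // Pres R ξ (n + 1) ψ ∧ ψ ≫ ψ = ψ},
        Lifts R n ψ'.1 ψ.1 ∧ ∀ m : R.trunc (n + 1) ⟶ R.trunc (n + 1), Pres R ξ (n + 1) m →
          Lifts R n m ψ.1 → rng m ≤ rng ψ'.1 → rng ψ'.1 ≤ rng m := by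
    intro n ψ
    obtain ⟨ψ', h1, h2, h3, h4⟩ := exists_step hξ n ψ.1 ψ.2.1 ψ.2.2
    exact ⟨⟨ψ', h1, h2⟩, h3, h4⟩
  choose next hnext using step
  let seq : ∀ n : ℕ, {ψ : R.trunc n ⟶ R.trunc n // Pres R ξ n ψ ∧ ψ ≫ ψ = ψ} :=
    fun n => Nat.rec (motive := fun n => {ψ : R.trunc n ⟶ R.trunc n // Pres R ξ n ψ ∧ ψ ≫ ψ = ψ})
      ⟨𝟙 _, pres_id 0, Category.id_comp _⟩ (fun n prev => next n prev) n
  have hseq : ∀ n, Lifts R n (seq (n + 1)).1 (seq n).1 ∧
      ∀ m : R.trunc (n + 1) ⟶ R.trunc (n + 1), Pres R ξ (n + 1) m →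
        Lifts R n m (seq n).1 → rng m ≤ rng (seq (n + 1)).1 → rng (seq (n + 1)).1 ≤ rng m :=
    fun n => hnext n (seq n)
  let φ : ∀ n : ℕ, HomSet R.carrier R.res (R.trunc n) := fun n => HomSet.map (seq n).1 (R.truncHom n)
  have hφ : ∀ n, HomSet.map (R.truncMap n) (φ (n + 1)) = φ n := by
    intro n
    apply Groth.Agent.Lib.ArtFunBasic.homSet_ext
    intro r
    change R.truncMap n ((seq (n + 1)).1 ((R.truncHom (n + 1)).1 r)) = (seq n).1 ((R.truncHom n).1 r)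
    rw [lifts_apply (hseq n).1]
    rfl
  obtain ⟨e, he, hen⟩ := Groth.Agent.Lib.H71ArtFunProRep.exists_algHom_of_compatible R R φ hφ
  have hen' : ∀ n r, (R.truncHom n).1 (e r) = (seq n).1 ((R.truncHom n).1 r) := fun n r =>
    congrArg (fun t : HomSet R.carrier R.res (R.trunc n) => t.1 r) (hen n)
  have hξe : ξ.along e he = ξ := by
    apply Groth.Agent.Lib.H71ArtFunFormal.toFormalElt_injective
    apply FormalElt.ext'
    intro n
    rw [Groth.Agent.Lib.ArtFunBasic.toFormalElt_along_elt, hen n]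
    change ξ.app _ (HomSet.map (seq n).1 (R.truncHom n)) = ξ.app _ (R.truncHom n)
    rw [ξ.natural]
    exact (seq n).2.1
  refine ⟨e, he, hξe, ?_, ?_⟩
  · apply Groth.Agent.Lib.ArtFunBasic.algHom_eq_of_forall_trunc_eq R
    intro n
    apply AlgHom.ext
    intro r
    change (R.truncHom n).1 (e (e r)) = (R.truncHom n).1 (e r)
    rw [hen', hen']
    exact congrArg (fun f : R.trunc n ⟶ R.trunc n => f ((R.truncHom n).1 r)) (seq n).2.2
  · intro e' he' hξe' x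
    set ψ₁ := (seq 1).1 with hψ₁
    set m : R.trunc 1 ⟶ R.trunc 1 := ψ₁ ≫ CRing.truncMapOfHom e' he' 1 ≫ ψ₁ with hm
    have hmp : Pres R ξ 1 m :=
      pres_comp (seq 1).2.1 (pres_comp (pres_truncMapOfHom e' he' hξe' 1) (seq 1).2.1)
    have hml : Lifts R 0 m (seq 0).1 := hom_trunc_zero_ext R _ _
    have hle : rng m ≤ rng ψ₁ := by
      rw [hm, ← Category.assoc]
      exact rng_comp_le _ _
    have hge := (hseq 0).2 m hmp hml hle
    obtain ⟨w, hw'⟩ := hge (apply_mem_rng ψ₁ ((R.truncHom 1).1 x))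
    obtain ⟨z, rfl⟩ := truncHom_surjective R 1 w
    have hw : m ((R.truncHom 1).1 z) = ψ₁ ((R.truncHom 1).1 x) := hw'
    refine ⟨z, ?_⟩
    have h1 : m ((R.truncHom 1).1 z) = (R.truncHom 1).1 (e (e' (e z))) := by
      change ψ₁ (CRing.truncMapOfHom e' he' 1 (ψ₁ ((R.truncHom 1).1 z))) = _
      rw [← hen', truncMapOfHom_truncHom, ← hen']
    rw [h1, ← hen'] at hw
    have h2 := (truncHom_eq_iff R 1 _ _).1 hw.symm
    exact h2

end Main

end Groth.Agent.Lib.MinVersalB
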