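import Groth.Agent.Lib.MinVersalB
import Groth.Agent.Lib.H59SchlessCRingQuot
import Groth.Agent.Lib.H59ArtFunMinimal
import Groth.Agent.Lib.ArtFunSurj
import Groth.Agent.S12720

/-!
# A versal family is a retract-extension of a minimal versal family (helper1)

`exists_minimal_retract`: for a versal family `ξ` over `R` (of a functor with `F(k)` a point) there are a coefficient ring
`R'` with a minimal versal family `ξ'`, and maps `f : R' → R`, `p : R → R'` with `p ∘ f = id`, `f_* ξ' = ξ`, `p_* ξ = ξ'`.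
-/

set_option autoImplicit false
universe u v

open CategoryTheory ArtFun ArtFun.Art IsLocalRing

namespace Groth.Agent.Lib.MinVersalC

open Groth.Agent.Lib.MinVersalA Groth.Agent.Lib.MinVersalB Groth.Agent.Lib.H59ArtFunSection
  Groth.Agent.Lib.H59SchlessCRingQuot

variable {Λ : Type u} {k : Type u} [CommRing Λ] [Field k] [Algebra Λ k]
  [IsNoetherianRing Λ] [Module.Finite Λ k]

theorem exists_minimal_retract {F : Art Λ k ⥤ Type v} (h0 : H0 F) (R : CRing Λ k)
    (ξ : Family R.carrier R.res F) (hξ : IsVersal ξ) :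
    ∃ (R' : CRing Λ k) (ξ' : Family R'.carrier R'.res F)
      (f : R'.carrier →ₐ[Λ] R.carrier) (hf : R.res.comp f = R'.res)
      (p : R.carrier →ₐ[Λ] R'.carrier) (hp : R'.res.comp p = R.res),
      p.comp f = AlgHom.id Λ R'.carrier ∧ ξ'.IsMinimalVersal ∧ ξ'.along f hf = ξ ∧ ξ.along p hp = ξ' := by
  obtain ⟨e, he, hξe, hee, hmin⟩ := exists_idem_endo hξ
  have hee' : ∀ x, e (e x) = e x := fun x => DFunLike.congr_fun hee x
  have heres : ∀ x, R.res (e x) = R.res x := fun x => DFunLike.congr_fun he x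
  set J : Ideal R.carrier := RingHom.ker (e : R.carrier →+* R.carrier) with hJdef
  have hJ : J ≤ maximalIdeal R.carrier := by
    intro a ha
    rw [CRing.mem_maximalIdeal_iff, ← heres]
    have : e a = 0 := ha
    rw [this, map_zero]
  set R' : CRing Λ k := quot R J hJ with hR'
  set p : R.carrier →ₐ[Λ] R'.carrier := quotMk R J hJ with hpdef
  have hp : R'.res.comp p = R.res := res_comp_quotMk R J hJ
  have hpsurj : Function.Surjective p := quotMk_surjective R J hJ
  let f : R'.carrier →ₐ[Λ] R.carrier := Ideal.Quotient.liftₐ J e (fun a ha => ha)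
  have hfp : ∀ x, f (p x) = e x := fun x => rfl
  have hf : R.res.comp f = R'.res := by
    apply AlgHom.ext
    intro y
    obtain ⟨x, rfl⟩ := hpsurj y
    change R.res (f (p x)) = R'.res (p x)
    rw [hfp, heres]
    exact (DFunLike.congr_fun hp x).symm
  have hpe : ∀ x, p (e x) = p x := by
    intro x
    change Ideal.Quotient.mk J (e x) = Ideal.Quotient.mk J x
    rw [Ideal.Quotient.eq, hJdef, RingHom.mem_ker]
    change e (e x - x) = 0
    rw [map_sub, hee', sub_self]
  have hpf : ∀ y, p (f y) = y := by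
    intro y
    obtain ⟨x, rfl⟩ := hpsurj y
    rw [hfp, hpe]
  have hfpcomp : f.comp p = e := AlgHom.ext fun x => hfp x
  set ξ' : Family R'.carrier R'.res F := ξ.along p hp with hξ'
  have hξ'f : ξ'.along f hf = ξ := by
    rw [hξ', Groth.Agent.Lib.H71ArtFunProRep.along_along]
    rw [← hξe]
    congr 1
  have hvers' : IsVersal ξ' := by
    intro B A μ hμ φ y hy
    obtain ⟨ψ, hψ1, hψ2⟩ := hξ μ hμ ⟨φ.1.comp p, by rw [← AlgHom.comp_assoc, φ.2, hp]⟩ y hy
    have hψ1' : ∀ x, μ (ψ.1 x) = φ.1 (p x) := fun x =>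
      congrArg (fun t : HomSet R.carrier R.res A => t.1 x) hψ1
    refine ⟨⟨ψ.1.comp f, by rw [← AlgHom.comp_assoc, ψ.2, hf]⟩, ?_, ?_⟩
    · apply Groth.Agent.Lib.ArtFunBasic.homSet_ext
      intro y
      change μ (ψ.1 (f y)) = φ.1 y
      rw [hψ1', hpf]
    · change ξ.app B ⟨(ψ.1.comp f).comp p, _⟩ = y
      rw [← hψ2]
      have h1 := congrArg (fun ζ : Family R.carrier R.res F => ζ.app B ψ) hξe
      rw [← h1]
      change ξ.app B _ = ξ.app B _
      congr 1
  refine ⟨R', ξ', f, hf, p, hp, AlgHom.ext hpf, ⟨hvers', ?_⟩, hξ'f, rfl⟩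
  intro S u g hg hpush
  obtain ⟨h, hh, hhu⟩ := Groth.Agent.S12720.result h0 R ξ hξ S u
  -- the endomorphism `e' = f ∘ g ∘ h`
  have hgh : R'.res.comp (g.comp h) = R.res := by rw [← AlgHom.comp_assoc, hg, hh]
  have he' : R.res.comp (f.comp (g.comp h)) = R.res := by rw [← AlgHom.comp_assoc, hf, hgh]
  have h1 : (ξ.along h hh).along g hg = ξ' := by
    apply Groth.Agent.Lib.H71ArtFunFormal.toFormalElt_injective
    change ((ξ.along h hh).along g hg).toFormalElt = ξ'.toFormalElt
    rw [Groth.Agent.Lib.H59ArtFunMinimal.toFormalElt_along, hhu, hpush]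
  have hξe' : ξ.along (f.comp (g.comp h)) he' = ξ := by
    calc ξ.along (f.comp (g.comp h)) he' = ((ξ.along h hh).along g hg).along f hf :=
          Groth.Agent.Lib.H71ArtFunProRep.family_ext' fun _ _ => rfl
      _ = ξ'.along f hf := by rw [h1]
      _ = ξ := hξ'f
  have key : ∀ y : R'.carrier, ∃ s : S.carrier, y - g s ∈ maximalIdeal R'.carrier ^ 2 := by
    intro y
    obtain ⟨z, hz⟩ := hmin _ he' hξe' (f y)
    refine ⟨h (e z), ?_⟩
    have h2 : p (e (f y) - e ((f.comp (g.comp h)) (e z))) = y - g (h (e z)) := by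
      rw [map_sub, hpe, hpe, hpf]
      change y - p (f (g (h (e z)))) = _
      rw [hpf]
    rw [← h2]
    exact CRing.mpow_le_comap p hp 1 hz
  have hgres : ∀ s, R'.res (g s) = S.res s := fun s => DFunLike.congr_fun hg s
  have hcond : Ideal.map g (maximalIdeal S.carrier) ⊔ maximalIdeal R'.carrier ^ 2 =
      maximalIdeal R'.carrier := by
    apply le_antisymm
    · apply sup_le
      · rw [Ideal.map_le_iff_le_comap]
        intro s hs
        rw [Ideal.mem_comap, CRing.mem_maximalIdeal_iff, hgres, ← CRing.mem_maximalIdeal_iff]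
        exact hs
      · exact Ideal.pow_le_self two_ne_zero
    · intro y hy
      obtain ⟨s, hs⟩ := key y
      have hgs : g s ∈ maximalIdeal R'.carrier := by
        have h3 : g s = y - (y - g s) := by ring
        rw [h3]
        exact Ideal.sub_mem _ hy (Ideal.pow_le_self two_ne_zero hs)
      have hsm : s ∈ maximalIdeal S.carrier := by
        rw [CRing.mem_maximalIdeal_iff, ← hgres, ← CRing.mem_maximalIdeal_iff]
        exact hgs
      have h4 : y = g s + (y - g s) := by ring
      rw [h4]
      exact Ideal.add_mem _ (Ideal.mem_sup_left (Ideal.mem_map_of_mem _ hsm)) (Ideal.mem_sup_right hs)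
  have hpre : IsPrecomplete (maximalIdeal S.carrier) S.carrier := S.isAdicComplete.toIsPrecomplete
  exact ((Groth.Agent.Lib.ArtFunSurj.tfae_surjective S.res R'.res S.res_surjective R'.res_surjective
    g hg).out 1 0).1 hcond

end Groth.Agent.Lib.MinVersalC
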