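import Groth.Agent.Lib.MinVersalB
import Groth.Agent.Lib.H59PowerSeriesCRing2
import Groth.Agent.Lib.ArtFunSurj

/-!
# A versal coefficient ring with a retraction is a power series ring over the retract (helper1)

Let `f : R' → R`, `p : R → R'` be morphisms of coefficient rings with `p ∘ f = id`, and let `ξ` be a versal family over `R`
with `(f ∘ p)_* ξ = ξ`.  Then `R ≅ R'[[X_1, …, X_d]]` compatibly with `f` (`powerSeries_of_retract`).
-/

set_option autoImplicit false
universe u v

open CategoryTheory ArtFun ArtFun.Art IsLocalRing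

namespace Groth.Agent.Lib.MinVersalD

open Groth.Agent.Lib.MinVersalB Groth.Agent.Lib.H59ArtFunSection Groth.Agent.Lib.H59PowerSeriesCRing

/-- minimal generators of an ideal `I` modulo an ideal `J`. -/
theorem exists_min_gens' {R : Type*} [CommRing R] [IsLocalRing R] [IsNoetherianRing R] (I J : Ideal R) :
    ∃ (d : ℕ) (x : Fin d → R), (∀ i, x i ∈ I) ∧ I ≤ Ideal.span (Set.range x) ⊔ J ∧
      ∀ c : Fin d → R, ∑ i, c i * x i ∈ J → ∀ i, c i ∈ maximalIdeal R := by
  classical
  have hex : ∃ d, ∃ x : Fin d → R, (∀ i, x i ∈ I) ∧ I ≤ Ideal.span (Set.range x) ⊔ J := by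
    obtain ⟨n, s, hs⟩ := Submodule.fg_iff_exists_fin_generating_family.1 (IsNoetherian.noetherian I)
    refine ⟨n, s, ?_, ?_⟩
    · intro i
      rw [← hs]
      exact Submodule.subset_span ⟨i, rfl⟩
    · intro r hr
      rw [← hs] at hr
      exact Submodule.mem_sup_left hr
  obtain ⟨x, hxm, hgen⟩ := Nat.find_spec hex
  have hmin := fun m (hm : m < Nat.find hex) => Nat.find_min hex hm
  generalize hd : Nat.find hex = d at x hxm hgen hmin
  refine ⟨d, x, hxm, hgen, ?_⟩
  intro c hc j
  by_contra hcj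
  have hu : IsUnit (c j) := by
    by_contra hnu
    exact hcj ((mem_maximalIdeal _).2 hnu)
  cases d with
  | zero => exact Fin.elim0 j
  | succ d' =>
    apply hmin d' (Nat.lt_succ_self d')
    refine ⟨x ∘ j.succAbove, fun i => hxm _, ?_⟩
    set T : Ideal R := Ideal.span (Set.range (x ∘ j.succAbove)) ⊔ J with hT
    have hsum : ∑ i, c (j.succAbove i) * x (j.succAbove i) ∈ T := by
      apply Submodule.mem_sup_left
      apply Submodule.sum_mem
      intro i _
      exact Ideal.mul_mem_left _ _ (Ideal.subset_span ⟨i, rfl⟩)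
    have hcx : c j * x j ∈ T := by
      rw [Fin.sum_univ_succAbove _ j] at hc
      have h2 : c j * x j = (c j * x j + ∑ i, c (j.succAbove i) * x (j.succAbove i)) -
          ∑ i, c (j.succAbove i) * x (j.succAbove i) := by ring
      rw [h2]
      exact T.sub_mem (Submodule.mem_sup_right hc) hsum
    have hxj : x j ∈ T := by
      have h3 : x j = ↑hu.unit⁻¹ * (c j * x j) := by
        rw [← mul_assoc, IsUnit.val_inv_mul, one_mul]
      rw [h3]
      exact Ideal.mul_mem_left _ _ hcx
    have hspan : Ideal.span (Set.range x) ≤ T := by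
      rw [Ideal.span_le]
      rintro _ ⟨i, rfl⟩
      by_cases hij : i = j
      · rw [hij]; exact hxj
      · obtain ⟨i', rfl⟩ := Fin.exists_succAbove_eq hij
        exact Submodule.mem_sup_left (Ideal.subset_span ⟨i', rfl⟩)
    exact hgen.trans (sup_le hspan le_sup_right)

/-- a power series minus its constant coefficient is a combination of the variables. -/
theorem exists_decomp_ps {A : Type*} [CommRing A] (d : ℕ) (s : MvPowerSeries (Fin d) A) :
    ∃ g : Fin d → MvPowerSeries (Fin d) A,
      s = MvPowerSeries.C (MvPowerSeries.constantCoeff s) + ∑ i, g i * MvPowerSeries.X i := by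
  have h1 : s - MvPowerSeries.C (MvPowerSeries.constantCoeff s) ∈
      (Ideal.span (Set.range (MvPowerSeries.X : Fin d → MvPowerSeries (Fin d) A))) ^ 1 := by
    apply Groth.Agent.Lib.H59PowerSeries.mem_pow_span_X_of_coeff_eq_zero
    intro e he
    have he0 : e = 0 := by
      rw [Nat.lt_one_iff] at he
      exact (Finsupp.degree_eq_zero_iff e).1 he
    rw [he0, MvPowerSeries.coeff_zero_eq_constantCoeff_apply, map_sub,
      MvPowerSeries.constantCoeff_C, sub_self]
  rw [pow_one] at h1
  obtain ⟨g, hg⟩ := (Submodule.mem_span_range_iff_exists_fun _).1 h1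
  refine ⟨g, ?_⟩
  have h2 : ∑ i, g i * MvPowerSeries.X i = s - MvPowerSeries.C (MvPowerSeries.constantCoeff s) := by
    rw [← hg]
    rfl
  rw [h2]
  ring

variable {Λ : Type u} {k : Type u} [CommRing Λ] [Field k] [Algebra Λ k]

section Retract

variable (R' R : CRing Λ k) (f : R'.carrier →ₐ[Λ] R.carrier) (hf : R.res.comp f = R'.res)
  (p : R.carrier →ₐ[Λ] R'.carrier) (hp : R'.res.comp p = R.res) (hpf : ∀ y, p (f y) = y)

include hf in
theorem f_mem_maximalIdeal (y : R'.carrier) (hy : y ∈ maximalIdeal R'.carrier) :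
    f y ∈ maximalIdeal R.carrier := by
  rw [CRing.mem_maximalIdeal_iff] at hy ⊢
  rw [← hy, ← hf]
  rfl

include hp in
theorem p_mem_maximalIdeal (y : R.carrier) (hy : y ∈ maximalIdeal R.carrier) :
    p y ∈ maximalIdeal R'.carrier := by
  rw [CRing.mem_maximalIdeal_iff] at hy ⊢
  rw [← hy, ← hp]
  rfl

include hp in
theorem ker_p_le : RingHom.ker (p : R.carrier →+* R'.carrier) ≤ maximalIdeal R.carrier := by
  intro a ha
  rw [CRing.mem_maximalIdeal_iff, ← hp]
  change R'.res (p a) = 0
  have h0 : p a = 0 := ha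
  rw [h0, map_zero]

include hpf in
theorem sub_mem_ker (z : R.carrier) : z - f (p z) ∈ RingHom.ker (p : R.carrier →+* R'.carrier) := by
  rw [RingHom.mem_ker]
  change p (z - f (p z)) = 0
  rw [map_sub, hpf, sub_self]

include hf hp hpf in
/-- the projection onto `ker p` maps `m²` into `m · ker p`. -/
theorem sub_mem_mul_ker (z : R.carrier) (hz : z ∈ maximalIdeal R.carrier ^ 2) :
    z - f (p z) ∈ maximalIdeal R.carrier * RingHom.ker (p : R.carrier →+* R'.carrier) := by
  rw [pow_two] at hz
  refine Submodule.mul_induction_on hz ?_ ?_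
  · intro u hu v hv
    have h1 : u * v - f (p (u * v)) = u * (v - f (p v)) + f (p v) * (u - f (p u)) := by
      rw [map_mul, map_mul]; ring
    rw [h1]
    apply Ideal.add_mem
    · exact Ideal.mul_mem_mul hu (sub_mem_ker R' R f p hpf v)
    · exact Ideal.mul_mem_mul (f_mem_maximalIdeal R' R f hf _ (p_mem_maximalIdeal R' R p hp _ hv))
        (sub_mem_ker R' R f p hpf u)
  · intro a b ha hb
    have h1 : a + b - f (p (a + b)) = (a - f (p a)) + (b - f (p b)) := by
      rw [map_add, map_add]; ring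
    rw [h1]
    exact Ideal.add_mem _ ha hb

variable (d : ℕ) (x : Fin d → R.carrier) (hxI : ∀ i, p (x i) = 0)
  (hgen : RingHom.ker (p : R.carrier →+* R'.carrier) ≤ Ideal.span (Set.range x) ⊔
    maximalIdeal R.carrier * RingHom.ker (p : R.carrier →+* R'.carrier))
  (hli : ∀ c : Fin d → R.carrier,
    ∑ i, c i * x i ∈ maximalIdeal R.carrier * RingHom.ker (p : R.carrier →+* R'.carrier) →
      ∀ i, c i ∈ maximalIdeal R.carrier)
  (φ : (ps R' d).carrier →ₐ[Λ] R.carrier) (hφ : R.res.comp φ = (ps R' d).res)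
  (hφC : φ.comp (psC R' d) = f) (hφX : ∀ i, φ (psX R' d i) = x i)

include hφC in
theorem phi_C (a : R'.carrier) : φ (psC R' d a) = f a := DFunLike.congr_fun hφC a

include hp hpf hxI hφ hφC hφX in
theorem p_phi (s : (ps R' d).carrier) : p (φ s) = MvPowerSeries.constantCoeff s := by
  have h := hom_ext_complete R' d R' (p.comp φ) (constCoeffₐ (Fin d) R'.carrier)
    (by rw [← AlgHom.comp_assoc, hp, hφ]) rfl
    (by
      apply AlgHom.ext
      intro a
      change p (φ (psC R' d a)) =
        MvPowerSeries.constantCoeff (MvPowerSeries.C a : MvPowerSeries (Fin d) R'.carrier)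
      rw [phi_C R' R f d φ hφC, hpf, MvPowerSeries.constantCoeff_C])
    (by
      intro i
      change p (φ (psX R' d i)) =
        MvPowerSeries.constantCoeff (MvPowerSeries.X i : MvPowerSeries (Fin d) R'.carrier)
      rw [hφX, hxI, MvPowerSeries.constantCoeff_X])
  exact DFunLike.congr_fun h s

include hφ in
theorem phi_mem_maximalIdeal (s : (ps R' d).carrier) (hs : s ∈ maximalIdeal (ps R' d).carrier) :
    φ s ∈ maximalIdeal R.carrier := by
  rw [CRing.mem_maximalIdeal_iff] at hs ⊢
  rw [← hs, ← hφ]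
  rfl

include hφ in
theorem phi_pow_mem (N : ℕ) (s : (ps R' d).carrier) (hs : s ∈ maximalIdeal (ps R' d).carrier ^ N) :
    φ s ∈ maximalIdeal R.carrier ^ N := by
  have h1 : (maximalIdeal (ps R' d).carrier ^ N).map (φ : (ps R' d).carrier →+* R.carrier) ≤
      maximalIdeal R.carrier ^ N := by
    rw [Ideal.map_pow]
    apply Ideal.pow_right_mono
    rw [Ideal.map_le_iff_le_comap]
    intro a ha
    exact phi_mem_maximalIdeal R' R d φ hφ a ha
  exact h1 (Ideal.mem_map_of_mem _ hs)

theorem psC_mem_maximalIdeal (a : R'.carrier) (ha : a ∈ maximalIdeal R'.carrier) :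
    psC R' d a ∈ maximalIdeal (ps R' d).carrier := by
  rw [CRing.mem_maximalIdeal_iff] at ha ⊢
  rw [← ha]
  exact DFunLike.congr_fun (res_comp_psC R' d) a

/-- a power series minus its constant coefficient is a combination of the variables. -/
theorem exists_decomp (s : (ps R' d).carrier) :
    ∃ g : Fin d → (ps R' d).carrier,
      s = psC R' d (MvPowerSeries.constantCoeff s) + ∑ i, g i * psX R' d i :=
  exists_decomp_ps d s

include hp hpf hgen hφ hφC hφX in
theorem phi_surjective : Function.Surjective φ := by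
  have hcond : Ideal.map φ (maximalIdeal (ps R' d).carrier) ⊔ maximalIdeal R.carrier ^ 2 =
      maximalIdeal R.carrier := by
    apply le_antisymm
    · apply sup_le
      · rw [Ideal.map_le_iff_le_comap]
        intro s hs
        exact phi_mem_maximalIdeal R' R d φ hφ s hs
      · exact Ideal.pow_le_self two_ne_zero
    · intro y hy
      have h1 : y = f (p y) + (y - f (p y)) := by ring
      rw [h1]
      apply Ideal.add_mem
      · apply Ideal.mem_sup_left
        rw [← phi_C R' R f d φ hφC]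
        exact Ideal.mem_map_of_mem _ (psC_mem_maximalIdeal R' d _ (p_mem_maximalIdeal R' R p hp y hy))
      · have h2 := hgen (sub_mem_ker R' R f p hpf y)
        have h3 : Ideal.span (Set.range x) ≤ Ideal.map φ (maximalIdeal (ps R' d).carrier) := by
          rw [Ideal.span_le]
          rintro _ ⟨i, rfl⟩
          rw [← hφX]
          exact Ideal.mem_map_of_mem _ (psX_mem_maximalIdeal R' d i)
        have h4 : maximalIdeal R.carrier * RingHom.ker (p : R.carrier →+* R'.carrier) ≤
            maximalIdeal R.carrier ^ 2 := by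
          rw [pow_two]
          exact Ideal.mul_mono_right (ker_p_le R' R p hp)
        exact (sup_le_sup h3 h4) h2
  have hpre : IsPrecomplete (maximalIdeal (ps R' d).carrier) (ps R' d).carrier :=
    (ps R' d).isAdicComplete.toIsPrecomplete
  exact ((Groth.Agent.Lib.ArtFunSurj.tfae_surjective (ps R' d).res R.res (ps R' d).res_surjective
    R.res_surjective φ hφ).out 1 0).1 hcond

include hf hp hpf hxI hli hφ hφC hφX in
/-- the base of the induction: `φ` is injective modulo squares of the maximal ideals. -/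
theorem base (s : (ps R' d).carrier) (hs : φ s ∈ maximalIdeal R.carrier ^ 2) :
    s ∈ maximalIdeal (ps R' d).carrier ^ 2 := by
  obtain ⟨g, hg⟩ := exists_decomp R' d s
  choose g' hg' using fun i => exists_decomp R' d (g i)
  set a := MvPowerSeries.constantCoeff s with ha
  set b : Fin d → R'.carrier := fun i => MvPowerSeries.constantCoeff (g i) with hb
  have hXm : ∀ i, psX R' d i ∈ maximalIdeal (ps R' d).carrier := psX_mem_maximalIdeal R' d
  -- the remainder
  have hrem : ∀ i, g i - psC R' d (b i) ∈ maximalIdeal (ps R' d).carrier := by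
    intro i
    have h1 : g i - psC R' d (b i) = ∑ j, g' i j * psX R' d j := by
      have := hg' i
      rw [sub_eq_iff_eq_add']
      exact this
    rw [h1]
    exact Ideal.sum_mem _ fun j _ => Ideal.mul_mem_left _ _ (hXm j)
  have hs_eq : s = psC R' d a + ∑ i, psC R' d (b i) * psX R' d i +
      ∑ i, (g i - psC R' d (b i)) * psX R' d i := by
    rw [add_assoc, ← Finset.sum_add_distrib]
    conv_lhs => rw [hg]
    congr 1
    apply Finset.sum_congr rfl
    intro i _
    ring
  have hlast : ∑ i, (g i - psC R' d (b i)) * psX R' d i ∈ maximalIdeal (ps R' d).carrier ^ 2 := by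
    rw [pow_two]
    exact Ideal.sum_mem _ fun i _ => Ideal.mul_mem_mul (hrem i) (hXm i)
  -- apply `φ`
  have hφs : φ s = f a + ∑ i, f (b i) * x i + ∑ i, φ (g i - psC R' d (b i)) * x i := by
    conv_lhs => rw [hs_eq]
    simp only [map_add, map_sum, map_mul, phi_C R' R f d φ hφC, hφX]
  have hxk : ∀ i, x i ∈ RingHom.ker (p : R.carrier →+* R'.carrier) := fun i => hxI i
  have hφlast : ∑ i, φ (g i - psC R' d (b i)) * x i ∈
      maximalIdeal R.carrier * RingHom.ker (p : R.carrier →+* R'.carrier) :=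
    Ideal.sum_mem _ fun i _ => Ideal.mul_mem_mul (phi_mem_maximalIdeal R' R d φ hφ _ (hrem i)) (hxk i)
  have hmk : maximalIdeal R.carrier * RingHom.ker (p : R.carrier →+* R'.carrier) ≤
      maximalIdeal R.carrier ^ 2 := by
    rw [pow_two]
    exact Ideal.mul_mono_right (ker_p_le R' R p hp)
  -- `a ∈ m'^2`
  have ha2 : a ∈ maximalIdeal R'.carrier ^ 2 := by
    have h1 : p (φ s) = a := p_phi R' R f p hp hpf d x hxI φ hφ hφC hφX s
    rw [← h1]
    exact CRing.mpow_le_comap p hp 1 hs
  have hfa : f a ∈ maximalIdeal R.carrier ^ 2 := CRing.mpow_le_comap f hf 1 ha2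
  have hCa : psC R' d a ∈ maximalIdeal (ps R' d).carrier ^ 2 :=
    CRing.mpow_le_comap (psC R' d) (res_comp_psC R' d) 1 ha2
  -- the linear part
  set z := ∑ i, f (b i) * x i with hz
  have hz2 : z ∈ maximalIdeal R.carrier ^ 2 := by
    have h1 : z = φ s - f a - ∑ i, φ (g i - psC R' d (b i)) * x i := by rw [hφs]; ring
    rw [h1]
    exact Ideal.sub_mem _ (Ideal.sub_mem _ hs hfa) (hmk hφlast)
  have hpz : p z = 0 := by
    rw [hz, map_sum]
    apply Finset.sum_eq_zero
    intro i _
    rw [map_mul, hxI, mul_zero]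
  have hzmk : z ∈ maximalIdeal R.carrier * RingHom.ker (p : R.carrier →+* R'.carrier) := by
    have h1 := sub_mem_mul_ker R' R f hf p hp hpf z hz2
    rwa [hpz, map_zero, sub_zero] at h1
  have hbm : ∀ i, b i ∈ maximalIdeal R'.carrier := by
    intro i
    have h1 := hli (fun i => f (b i)) hzmk i
    rw [CRing.mem_maximalIdeal_iff] at h1 ⊢
    rw [← h1, ← hf]
    rfl
  have hlin : ∑ i, psC R' d (b i) * psX R' d i ∈ maximalIdeal (ps R' d).carrier ^ 2 := by
    rw [pow_two]
    exact Ideal.sum_mem _ fun i _ => Ideal.mul_mem_mul (psC_mem_maximalIdeal R' d _ (hbm i)) (hXm i)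
  rw [hs_eq]
  exact Ideal.add_mem _ (Ideal.add_mem _ hCa hlin) hlast

variable {F : Art Λ k ⥤ Type v} (ξ : Family R.carrier R.res F) (hξ : IsVersal ξ)
  (hfp : R.res.comp (f.comp p) = R.res) (hξe : ξ.along (f.comp p) hfp = ξ)

include hp hφ hφC hξ hξe in
/-- the inductive step: injectivity modulo `m^(j+1)` implies injectivity modulo `m^(j+2)` (for `j ≥ 1`). -/
theorem step (hφsurj : Function.Surjective φ) (j : ℕ) (hj : 1 ≤ j)
    (hQ : ∀ s : (ps R' d).carrier, φ s ∈ maximalIdeal R.carrier ^ (j + 1) →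
      s ∈ maximalIdeal (ps R' d).carrier ^ (j + 1))
    (s : (ps R' d).carrier) (hs : φ s ∈ maximalIdeal R.carrier ^ (j + 1 + 1)) :
    s ∈ maximalIdeal (ps R' d).carrier ^ (j + 1 + 1) := by
  set μ : (ps R' d).trunc (j + 1) ⟶ R.trunc (j + 1) := CRing.truncMapOfHom φ hφ (j + 1) with hμ
  have hμT : ∀ t : (ps R' d).carrier,
      μ (((ps R' d).truncHom (j + 1)).1 t) = (R.truncHom (j + 1)).1 (φ t) := fun t => rfl
  have hμsurj : Function.Surjective μ := by
    intro t
    obtain ⟨r, rfl⟩ := truncHom_surjective R (j + 1) t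
    obtain ⟨t', rfl⟩ := hφsurj r
    exact ⟨((ps R' d).truncHom (j + 1)).1 t', rfl⟩
  let ξS : Family (ps R' d).carrier (ps R' d).res F :=
    (ξ.along p hp).along (psC R' d) (res_comp_psC R' d)
  have hy : F.map μ (ξS.app _ ((ps R' d).truncHom (j + 1))) = ξ.app _ (R.truncHom (j + 1)) := by
    rw [← ξS.natural]
    have h1 := congrArg (fun ζ : Family R.carrier R.res F => ζ.app _ (R.truncHom (j + 1))) hξe
    refine Eq.trans ?_ h1
    change ξ.app _ _ = ξ.app _ _
    congr 1
    apply Groth.Agent.Lib.ArtFunBasic.homSet_ext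
    intro r
    change (R.truncHom (j + 1)).1 (φ (psC R' d (p r))) = (R.truncHom (j + 1)).1 (f (p r))
    rw [phi_C R' R f d φ hφC]
  obtain ⟨ψ, hψ1, -⟩ := hξ μ hμsurj (R.truncHom (j + 1)) _ hy
  have hψ1' : ∀ r, μ (ψ.1 r) = (R.truncHom (j + 1)).1 r := fun r =>
    congrArg (fun t : HomSet R.carrier R.res (R.trunc (j + 1)) => t.1 r) hψ1
  have hψker := mpow_le_ker_of_trunc R (ps R' d) (j + 1) ψ
  have hψ0 : ∀ r ∈ maximalIdeal R.carrier ^ (j + 1 + 1), ψ.1 r = 0 := fun r hr => hψker hr
  set T : (ps R' d).carrier →ₐ[Λ] (ps R' d).trunc (j + 1) := ((ps R' d).truncHom (j + 1)).1 with hT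
  set θ : (ps R' d).carrier →ₐ[Λ] (ps R' d).trunc (j + 1) := ψ.1.comp φ with hθ
  have hθφ : ∀ t, θ t = ψ.1 (φ t) := fun t => rfl
  have hT0 : ∀ w ∈ maximalIdeal (ps R' d).carrier ^ (j + 1 + 1), T w = 0 := by
    intro w hw
    have h1 := (truncHom_eq_iff (ps R' d) (j + 1) w 0).2 (by rwa [sub_zero])
    rw [hT, h1, map_zero]
  have hR0 : ∀ r : R.carrier, (R.truncHom (j + 1)).1 r = 0 → r ∈ maximalIdeal R.carrier ^ (j + 1 + 1) := by
    intro r hr
    have h1 := (truncHom_eq_iff R (j + 1) r 0).1 (by rw [hr, map_zero])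
    rwa [sub_zero] at h1
  have hμθ : ∀ t, μ (θ t - T t) = 0 := by
    intro t
    rw [map_sub, hT, hμT, hθφ, hψ1', sub_self]
  -- the kernel of `μ` comes from `m^(j+1)`
  have hK : ∀ t : (ps R' d).trunc (j + 1), μ t = 0 →
      ∃ w ∈ maximalIdeal (ps R' d).carrier ^ (j + 1), T w = t := by
    intro t ht
    obtain ⟨w, rfl⟩ := truncHom_surjective (ps R' d) (j + 1) t
    refine ⟨w, hQ w ?_, rfl⟩
    rw [hμT] at ht
    exact Ideal.pow_le_pow_right (Nat.le_succ _) (hR0 _ ht)
  have hδ : ∀ t : (ps R' d).carrier, ∃ w ∈ maximalIdeal (ps R' d).carrier ^ (j + 1),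
      θ t = T t + T w := by
    intro t
    obtain ⟨w, hw, hwt⟩ := hK (θ t - T t) (hμθ t)
    exact ⟨w, hw, by rw [hwt]; ring⟩
  have hθ2 : ∀ w ∈ maximalIdeal (ps R' d).carrier ^ 2, θ w = T w := by
    intro w hw
    rw [pow_two] at hw
    refine Submodule.mul_induction_on hw ?_ ?_
    · intro a ha b hb
      obtain ⟨wa, hwa, hθa⟩ := hδ a
      obtain ⟨wb, hwb, hθb⟩ := hδ b
      have h1 : θ (a * b) = T (a * b) + T (a * wb + wa * b + wa * wb) := by
        rw [map_mul, hθa, hθb]
        simp only [map_add, map_mul]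
        ring
      have hmem : a * wb + wa * b + wa * wb ∈ maximalIdeal (ps R' d).carrier ^ (j + 1 + 1) := by
        have hpow : maximalIdeal (ps R' d).carrier ^ (j + 1 + 1) =
            maximalIdeal (ps R' d).carrier * maximalIdeal (ps R' d).carrier ^ (j + 1) := by
          rw [pow_succ']
        have hwa1 : wa ∈ maximalIdeal (ps R' d).carrier :=
          Ideal.pow_le_self (Nat.succ_ne_zero j) hwa
        rw [hpow]
        apply Ideal.add_mem
        · apply Ideal.add_mem
          · exact Ideal.mul_mem_mul ha hwb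
          · rw [mul_comm wa b]
            exact Ideal.mul_mem_mul hb hwa
        · exact Ideal.mul_mem_mul hwa1 hwb
      rw [h1, hT0 _ hmem, add_zero]
    · intro a b ha hb
      rw [map_add, map_add, ha, hb]
  -- conclusion
  obtain ⟨w, hw, hθs⟩ := hδ s
  have hθs0 : θ s = 0 := by rw [hθφ]; exact hψ0 _ hs
  have hw2 : w ∈ maximalIdeal (ps R' d).carrier ^ 2 :=
    Ideal.pow_le_pow_right (by omega) hw
  have hφw : φ w ∈ maximalIdeal R.carrier ^ (j + 1 + 1) := by
    apply hR0
    rw [← hμT]
    have h1 : ((ps R' d).truncHom (j + 1)).1 w = θ s - T s := by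
      rw [hθs]
      change T w = _
      ring
    rw [h1]
    exact hμθ s
  have hTw : T w = 0 := by
    rw [← hθ2 w hw2, hθφ]
    exact hψ0 _ hφw
  have hTs : T s = 0 := by
    rw [hθs0, hTw, add_zero] at hθs
    exact hθs.symm
  have h2 := (truncHom_eq_iff (ps R' d) (j + 1) s 0).1 (by rw [← hT, hTs, map_zero])
  rwa [sub_zero] at h2

end Retract

section Main

theorem powerSeries_of_retract {F : Art Λ k ⥤ Type v} (R' R : CRing Λ k)
    (f : R'.carrier →ₐ[Λ] R.carrier) (hf : R.res.comp f = R'.res)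
    (p : R.carrier →ₐ[Λ] R'.carrier) (hp : R'.res.comp p = R.res) (hpf : ∀ y, p (f y) = y)
    (ξ : Family R.carrier R.res F) (hξ : IsVersal ξ)
    (hfp : R.res.comp (f.comp p) = R.res) (hξe : ξ.along (f.comp p) hfp = ξ) :
    ∃ (n : ℕ) (E : R.carrier ≃ₐ[Λ] MvPowerSeries (Fin n) R'.carrier),
      ∀ a : R'.carrier, E (f a) = algebraMap R'.carrier (MvPowerSeries (Fin n) R'.carrier) a := by
  obtain ⟨d, x, hxI, hgen, hli⟩ := exists_min_gens' (RingHom.ker (p : R.carrier →+* R'.carrier))
    (maximalIdeal R.carrier * RingHom.ker (p : R.carrier →+* R'.carrier))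
  have hxI' : ∀ i, p (x i) = 0 := fun i => hxI i
  have hxm : ∀ i, x i ∈ maximalIdeal R.carrier := fun i => ker_p_le R' R p hp (hxI i)
  obtain ⟨φ, hφ, hφC, hφX⟩ := exists_hom_complete R' d R f hf x hxm
  have hsurj : Function.Surjective φ := phi_surjective R' R f p hp hpf d x hgen φ hφ hφC hφX
  have hQ : ∀ j : ℕ, ∀ s : (ps R' d).carrier, φ s ∈ maximalIdeal R.carrier ^ (j + 1 + 1) →
      s ∈ maximalIdeal (ps R' d).carrier ^ (j + 1 + 1) := by
    intro j
    induction j with
    | zero =>
      intro s hs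
      exact base R' R f hf p hp hpf d x hxI' hli φ hφ hφC hφX s hs
    | succ j ih =>
      intro s hs
      exact step R' R f p hp d φ hφ hφC ξ hξ hfp hξe hsurj (j + 1) (Nat.le_add_left 1 j) ih s hs
  have hinj : Function.Injective φ := by
    rw [injective_iff_map_eq_zero]
    intro s hs
    apply eq_of_forall_truncHom_eq (ps R' d)
    intro n
    rw [map_zero, ← map_zero ((ps R' d).truncHom n).1, truncHom_eq_iff, sub_zero]
    apply Ideal.pow_le_pow_right (Nat.le_succ (n + 1))
    apply hQ n s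
    rw [hs]
    exact Ideal.zero_mem _
  refine ⟨d, (AlgEquiv.ofBijective φ ⟨hinj, hsurj⟩).symm, ?_⟩
  intro a
  rw [← phi_C R' R f d φ hφC a]
  have h1 : (AlgEquiv.ofBijective φ ⟨hinj, hsurj⟩).symm (φ (psC R' d a)) = psC R' d a :=
    (AlgEquiv.ofBijective φ ⟨hinj, hsurj⟩).symm_apply_apply (psC R' d a)
  refine h1.trans ?_
  rw [MvPowerSeries.algebraMap_apply]
  rfl

end Main

end Groth.Agent.Lib.MinVersalD
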