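import Mathlib

/-
Lib/MinorsKer (helper70): the kernel of `A[a_0..a_N] → A[y_1..y_s]`, `a_j ↦ ∑ (m_i)_j y_i`, for linearly
independent `m_i` with projective quotient, is generated by the maximal minors of `[m; a]` (S16254).
* `det_mul_rect`: pre-Cauchy–Binet `det (M * N) = ∑_p (∏ N (p i) i) det (M.submatrix id p)`.
* `exists_retraction`: a left inverse `R` with `R mᵀ = 1`.
* `det_bigM_mul_bigR`: `det ([m; a] [Rᵀ | e_j]) = a_j - (mᵀ R a)_j`.
* `ker_eq_span_minors`: the statement.
-/

set_option autoImplicit false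
universe u
open Matrix Finset Equiv

namespace Groth.Agent.Lib.MinorsKer


section CB
variable {R : Type u} [CommRing R] {n k : Type} [Fintype n] [DecidableEq n] [Fintype k]
  [DecidableEq k]

/-- pre-Cauchy–Binet: expansion of `det (M * N)` over all maps choosing columns. -/
theorem det_mul_rect (M : Matrix n k R) (N : Matrix k n R) :
    det (M * N) = ∑ p : n → k, (∏ i, N (p i) i) * det (M.submatrix id p) := by
  calc det (M * N) = ∑ p : n → k, ∑ σ : Perm n,
        (Equiv.Perm.sign σ : ℤ) * ∏ i, M (σ i) (p i) * N (p i) i := by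
        simp only [det_apply', mul_apply, prod_univ_sum, mul_sum, Fintype.piFinset_univ]
        rw [Finset.sum_comm]
    _ = ∑ p : n → k, (∏ i, N (p i) i) * det (M.submatrix id p) := by
        refine Finset.sum_congr rfl fun p _ => ?_
        rw [det_apply', Finset.mul_sum]
        refine Finset.sum_congr rfl fun σ _ => ?_
        simp only [submatrix_apply, id_eq, Finset.prod_mul_distrib]
        ring

end CB



theorem exists_retraction (A : Type u) [CommRing A] (N s : ℕ) (m : Fin s → (Fin (N + 1) → A))
    (hli : LinearIndependent A m)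
    (hproj : Module.Projective A ((Fin (N + 1) → A) ⧸ Submodule.span A (Set.range m))) :
    ∃ R : Fin s → Fin (N + 1) → A, ∀ i i' : Fin s,
      ∑ j, R i j * m i' j = if i = i' then 1 else 0 := by
  classical
  set S := Submodule.span A (Set.range m) with hS
  obtain ⟨σ, hσ⟩ := Module.projective_lifting_property S.mkQ LinearMap.id (Submodule.mkQ_surjective S)
  let π : (Fin (N + 1) → A) →ₗ[A] (Fin (N + 1) → A) := LinearMap.id - σ ∘ₗ S.mkQ
  have hπmem : ∀ v, π v ∈ S := by
    intro v
    rw [← Submodule.ker_mkQ S, LinearMap.mem_ker]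
    have h1 : S.mkQ (σ (S.mkQ v)) = S.mkQ v := LinearMap.congr_fun hσ (S.mkQ v)
    simp only [π, LinearMap.sub_apply, LinearMap.id_apply, LinearMap.comp_apply, map_sub, h1,
      sub_self]
  have hπS : ∀ v ∈ S, π v = v := by
    intro v hv
    have h1 : S.mkQ v = 0 := (Submodule.Quotient.mk_eq_zero S).mpr hv
    simp only [π, LinearMap.sub_apply, LinearMap.id_apply, LinearMap.comp_apply, h1, map_zero,
      sub_zero]
  let ρ : (Fin (N + 1) → A) →ₗ[A] S := π.codRestrict S hπmem
  let b : Module.Basis (Fin s) A S := Module.Basis.span hli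
  have hb : ∀ i, (b i : Fin (N + 1) → A) = m i := fun i => congrArg Subtype.val (Module.Basis.span_apply hli i)
  refine ⟨fun i j => b.repr (ρ (Pi.single j 1)) i, fun i i' => ?_⟩
  have h1 : ρ (m i') = b i' := by
    apply Subtype.ext
    rw [hb]
    exact hπS (m i') (Submodule.subset_span ⟨i', rfl⟩)
  have h2 : m i' = ∑ j, m i' j • (Pi.single j 1 : Fin (N + 1) → A) := by
    funext k
    simp [Finset.sum_apply, Pi.single_apply]
  have h3 : b.repr (ρ (m i')) i = ∑ j, m i' j * b.repr (ρ (Pi.single j 1)) i := by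
    conv_lhs => rw [h2]
    simp only [map_sum, map_smul, Finsupp.coe_finsetSum, Finsupp.coe_smul, Finset.sum_apply,
      Pi.smul_apply, smul_eq_mul]
  rw [h1, Module.Basis.repr_self, Finsupp.single_apply] at h3
  rw [Finset.sum_congr rfl (fun j _ => mul_comm _ _), ← h3]
  by_cases h : i = i'
  · rw [if_pos h, if_pos h.symm]
  · rw [if_neg h, if_neg (fun h' => h h'.symm)]



section Setup
open MvPolynomial
variable {A : Type u} [CommRing A] {N s : ℕ}

/-- the `(s+1) × (N+1)` matrix with rows `m_1, …, m_s` and `(a_0, …, a_N)` -/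
noncomputable def bigM (m : Fin s → (Fin (N + 1) → A)) :
    Matrix (Fin (s + 1)) (Fin (N + 1)) (MvPolynomial (Fin (N + 1)) A) :=
  Matrix.of fun i j => Fin.snoc (α := fun _ => MvPolynomial (Fin (N + 1)) A)
    (fun i' : Fin s => C (m i' j)) (X j) i

/-- the `(N+1) × (s+1)` matrix with columns the rows of `R` and `e_j` -/
noncomputable def bigR (R : Fin s → (Fin (N + 1) → A)) (j : Fin (N + 1)) :
    Matrix (Fin (N + 1)) (Fin (s + 1)) (MvPolynomial (Fin (N + 1)) A) :=
  Matrix.of fun j' i => Fin.snoc (α := fun _ => MvPolynomial (Fin (N + 1)) A)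
    (fun i' : Fin s => C (R i' j')) (if j' = j then 1 else 0) i

theorem minor_eq (m : Fin s → (Fin (N + 1) → A)) (c : Fin (s + 1) → Fin (N + 1)) :
    (Matrix.of fun (i : Fin (s + 1)) (j : Fin (s + 1)) =>
          (Fin.snoc (α := fun _ => MvPolynomial (Fin (N + 1)) A)
            (fun i' : Fin s => MvPolynomial.C (m i' (c j))) (MvPolynomial.X (c j)) i)).det =
      ((bigM m).submatrix id c).det := rfl

theorem det_bigM_mul_bigR (m R : Fin s → (Fin (N + 1) → A))
    (hR : ∀ i i' : Fin s, ∑ j, R i j * m i' j = if i = i' then 1 else 0) (j : Fin (N + 1)) :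
    (bigM m * bigR R j).det =
      X j - ∑ i : Fin s, (∑ j' : Fin (N + 1), X j' * C (R i j')) * C (m i j) := by
  classical
  have h11 : ∀ i i' : Fin s, (bigM m * bigR R j) (Fin.castSucc i) (Fin.castSucc i') =
      (1 : Matrix (Fin s) (Fin s) (MvPolynomial (Fin (N + 1)) A)) i i' := by
    intro i i'
    simp only [Matrix.mul_apply, bigM, bigR, Matrix.of_apply, Fin.snoc_castSucc]
    simp only [← C_mul, ← map_sum]
    rw [Finset.sum_congr rfl (fun j' _ => mul_comm _ _), hR i' i, Matrix.one_apply]
    by_cases h : i = i'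
    · rw [if_pos h, if_pos h.symm, C_1]
    · rw [if_neg h, if_neg (fun h' => h h'.symm), C_0]
  have h12 : ∀ i : Fin s, (bigM m * bigR R j) (Fin.castSucc i) (Fin.last s) = C (m i j) := by
    intro i
    simp only [Matrix.mul_apply, bigM, bigR, Matrix.of_apply, Fin.snoc_castSucc, Fin.snoc_last]
    simp
  have h21 : ∀ i' : Fin s, (bigM m * bigR R j) (Fin.last s) (Fin.castSucc i') =
      ∑ j' : Fin (N + 1), X j' * C (R i' j') := by
    intro i'
    simp only [Matrix.mul_apply, bigM, bigR, Matrix.of_apply, Fin.snoc_castSucc, Fin.snoc_last]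
  have h22 : (bigM m * bigR R j) (Fin.last s) (Fin.last s) = X j := by
    simp only [Matrix.mul_apply, bigM, bigR, Matrix.of_apply, Fin.snoc_last]
    simp
  have hblock : (bigM m * bigR R j).submatrix (finSumFinEquiv : Fin s ⊕ Fin 1 ≃ Fin (s + 1))
      finSumFinEquiv = Matrix.fromBlocks 1
        (Matrix.of fun (i : Fin s) (_ : Fin 1) => C (m i j))
        (Matrix.of fun (_ : Fin 1) (i' : Fin s) => ∑ j' : Fin (N + 1), X j' * C (R i' j'))
        (Matrix.of fun (_ : Fin 1) (_ : Fin 1) => X j) := by
    refine Matrix.ext fun x y => ?_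
    rcases x with i | x <;> rcases y with i' | y
    · simp only [submatrix_apply, finSumFinEquiv_apply_left, fromBlocks_apply₁₁]
      exact h11 i i'
    · have hy : Fin.natAdd s y = Fin.last s := by
        apply Fin.ext; simp
      simp only [submatrix_apply, finSumFinEquiv_apply_left, finSumFinEquiv_apply_right,
        fromBlocks_apply₁₂, hy, of_apply]
      exact h12 i
    · have hx : Fin.natAdd s x = Fin.last s := by
        apply Fin.ext; simp
      simp only [submatrix_apply, finSumFinEquiv_apply_left, finSumFinEquiv_apply_right,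
        fromBlocks_apply₂₁, hx, of_apply]
      exact h21 i'
    · have hx : Fin.natAdd s x = Fin.last s := by
        apply Fin.ext; simp
      have hy : Fin.natAdd s y = Fin.last s := by
        apply Fin.ext; simp
      simp only [submatrix_apply, finSumFinEquiv_apply_right, fromBlocks_apply₂₂, hx, hy, of_apply]
      exact h22
  rw [← Matrix.det_submatrix_equiv_self (finSumFinEquiv : Fin s ⊕ Fin 1 ≃ Fin (s + 1)), hblock,
    Matrix.det_fromBlocks_one₁₁, Matrix.det_fin_one]
  simp only [Matrix.sub_apply, Matrix.mul_apply, Matrix.of_apply]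

end Setup


section Main
open MvPolynomial

theorem ker_eq_span_minors (A : Type u) [CommRing A] (N s : ℕ) (m : Fin s → (Fin (N + 1) → A))
    (hli : LinearIndependent A m)
    (hproj : Module.Projective A ((Fin (N + 1) → A) ⧸ Submodule.span A (Set.range m))) :
    RingHom.ker (MvPolynomial.aeval (R := A) (S₁ := MvPolynomial (Fin s) A)
        (fun j : Fin (N + 1) => ∑ i : Fin s, MvPolynomial.C (m i j) * MvPolynomial.X i)) =
      Ideal.span (Set.range fun c : Fin (s + 1) → Fin (N + 1) =>
        (Matrix.of fun (i : Fin (s + 1)) (j : Fin (s + 1)) =>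
          (Fin.snoc (α := fun _ => MvPolynomial (Fin (N + 1)) A)
            (fun i' : Fin s => MvPolynomial.C (m i' (c j))) (MvPolynomial.X (c j)) i)).det) := by
  classical
  obtain ⟨R, hR⟩ := exists_retraction A N s m hli hproj
  set φ : MvPolynomial (Fin (N + 1)) A →ₐ[A] MvPolynomial (Fin s) A :=
    MvPolynomial.aeval (R := A) (S₁ := MvPolynomial (Fin s) A)
      (fun j : Fin (N + 1) => ∑ i : Fin s, MvPolynomial.C (m i j) * MvPolynomial.X i) with hφ
  let ψ : MvPolynomial (Fin s) A →ₐ[A] MvPolynomial (Fin (N + 1)) A :=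
    MvPolynomial.aeval (fun i : Fin s => ∑ j : Fin (N + 1), C (R i j) * X j)
  apply le_antisymm
  · intro f hf
    rw [RingHom.mem_ker] at hf
    have hL : ∀ j : Fin (N + 1), (X j : MvPolynomial (Fin (N + 1)) A) - ψ (φ (X j)) ∈
        Ideal.span (Set.range fun c : Fin (s + 1) → Fin (N + 1) =>
          (Matrix.of fun (i : Fin (s + 1)) (j : Fin (s + 1)) =>
            (Fin.snoc (α := fun _ => MvPolynomial (Fin (N + 1)) A)
              (fun i' : Fin s => MvPolynomial.C (m i' (c j))) (MvPolynomial.X (c j)) i)).det) := by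
      intro j
      have h1 := det_bigM_mul_bigR m R hR j
      have h2 : ψ (φ (X j)) =
          ∑ i : Fin s, (∑ j' : Fin (N + 1), X j' * C (R i j')) * C (m i j) := by
        simp only [hφ, ψ, aeval_X, map_sum, map_mul, algHom_C, algebraMap_eq]
        refine Finset.sum_congr rfl fun i _ => ?_
        rw [mul_comm]
        congr 1
        exact Finset.sum_congr rfl fun j' _ => mul_comm _ _
      rw [h2, ← h1, det_mul_rect]
      refine Ideal.sum_mem _ fun c _ => Ideal.mul_mem_left _ _ (Ideal.subset_span ⟨c, ?_⟩)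
      exact minor_eq m c
    have hcomp : (Ideal.Quotient.mkₐ A (Ideal.span (Set.range fun c : Fin (s + 1) → Fin (N + 1) =>
          (Matrix.of fun (i : Fin (s + 1)) (j : Fin (s + 1)) =>
            (Fin.snoc (α := fun _ => MvPolynomial (Fin (N + 1)) A)
              (fun i' : Fin s => MvPolynomial.C (m i' (c j))) (MvPolynomial.X (c j)) i)).det))).comp
        (ψ.comp φ) = Ideal.Quotient.mkₐ A _ := by
      apply MvPolynomial.algHom_ext
      intro j
      simp only [AlgHom.comp_apply, Ideal.Quotient.mkₐ_eq_mk]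
      rw [eq_comm, Ideal.Quotient.eq]
      exact hL j
    have h3 := AlgHom.congr_fun hcomp f
    simp only [AlgHom.comp_apply, hf, map_zero, Ideal.Quotient.mkₐ_eq_mk] at h3
    exact Ideal.Quotient.eq_zero_iff_mem.mp h3.symm
  · rw [Ideal.span_le]
    rintro _ ⟨c, rfl⟩
    rw [SetLike.mem_coe, RingHom.mem_ker]
    show φ _ = 0
    rw [AlgHom.map_det]
    set M' := φ.mapMatrix (Matrix.of fun (i : Fin (s + 1)) (j : Fin (s + 1)) =>
          (Fin.snoc (α := fun _ => MvPolynomial (Fin (N + 1)) A)
            (fun i' : Fin s => MvPolynomial.C (m i' (c j))) (MvPolynomial.X (c j)) i)) with hM'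
    have hrow1 : ∀ (i : Fin s) (j : Fin (s + 1)), M' (Fin.castSucc i) j = C (m i (c j)) := by
      intro i j
      simp only [hM', AlgHom.mapMatrix_apply, Matrix.map_apply, Matrix.of_apply, Fin.snoc_castSucc,
        hφ, algHom_C, algebraMap_eq]
    have hrow2 : ∀ j : Fin (s + 1), M' (Fin.last s) j = ∑ i : Fin s, C (m i (c j)) * X i := by
      intro j
      simp only [hM', AlgHom.mapMatrix_apply, Matrix.map_apply, Matrix.of_apply, Fin.snoc_last,
        hφ, aeval_X]
    have hupd : M' = M'.updateRow (Fin.last s)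
        (∑ k, (Fin.snoc (α := fun _ => MvPolynomial (Fin s) A) (fun i : Fin s => X i) 0 k) • M' k) := by
      refine Matrix.ext fun i j => ?_
      by_cases hi : i = Fin.last s
      · subst hi
        rw [Matrix.updateRow_self, Finset.sum_apply, Fin.sum_univ_castSucc, hrow2]
        simp only [Fin.snoc_castSucc, Fin.snoc_last, Pi.smul_apply, smul_eq_mul, zero_mul, add_zero,
          hrow1]
        exact Finset.sum_congr rfl fun i _ => mul_comm _ _
      · rw [Matrix.updateRow_ne hi]
    rw [hupd, Matrix.det_updateRow_sum, Fin.snoc_last, zero_smul]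

end Main

end Groth.Agent.Lib.MinorsKer
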