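import Groth.Agent.Lib.MixExact35
import Groth.Agent.Lib.BifunctorColim35
import Groth.Agent.Lib.DerivedCoprod
import Groth.Agent.Lib.SemiFree35

/-!
# `- ⊗^L_R M : D(R) ⥤ D(A)` preserves coproducts (helper35)
-/

set_option autoImplicit false
universe u w'

open CategoryTheory CategoryTheory.Limits Category MonoidalCategory

attribute [local instance] HasDerivedCategory.standard

namespace Groth.Agent.Lib.MixCoprod35

open DerivedCategory Groth.Agent.Lib.KFlat35 DTen Groth.Agent.Lib.DTenBase35
  Groth.Agent.Lib.MixZig35 Groth.Agent.Lib.LBaseAdj35 Groth.Agent.Lib.MixTau35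
  Groth.Agent.Lib.MixExact35

section KFlat

variable {R : Type u} [CommRing R] {J : Type w'} [HasColimitsOfShape (Discrete J) (ModuleCat.{u} R)]
  [HasExactColimitsOfShape (Discrete J) (ModuleCat.{u} R)]

/-- tensoring on the left with a complex preserves coproducts of complexes -/
lemma preservesColimitsOfShape_tensorLeftCx (L : DRing.Cx R) :
    PreservesColimitsOfShape (Discrete J)
      ((curriedTensor (ModuleCat.{u} R)).map₂CochainComplex.obj L) := by
  haveI : ∀ X₁ : ModuleCat.{u} R, PreservesColimitsOfShape (Discrete J)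
      ((curriedTensor (ModuleCat.{u} R)).obj X₁) :=
    fun X₁ => inferInstanceAs (PreservesColimitsOfShape (Discrete J) (tensorLeft X₁))
  exact Groth.Agent.Lib.BifunctorColim35.preservesColimitsOfShape_map₂ _ (Discrete J) L

/-- a coproduct of K-flat complexes is K-flat -/
theorem isKFlat_of_isColimit_discrete (F : Discrete J ⥤ DRing.Cx R)
    (hF : ∀ j, IsKFlat (F.obj j)) {c : Cocone F} (hc : IsColimit c) : IsKFlat c.pt := by
  rw [isKFlat_iff]
  intro L hL i
  let G := (curriedTensor (ModuleCat.{u} R)).map₂CochainComplex.obj L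
  haveI : PreservesColimitsOfShape (Discrete J) G := preservesColimitsOfShape_tensorLeftCx L
  have hc1 : IsColimit (G.mapCocone c) := isColimitOfPreserves G hc
  have hc2 := isColimitOfPreserves
    (HomologicalComplex.homologyFunctor (ModuleCat.{u} R) (ComplexShape.up ℤ) i) hc1
  exact Groth.Agent.Lib.SemiFree35.isZero_of_isColimit_of_isZero hc2
    (fun j => (isKFlat_iff _).1 (hF j) L hL i)

end KFlat

section Main

variable {R A : Type u} [CommRing R] [CommRing A] {φ : R →+* A} [HasRHomRel φ] [HasLTenMix φ]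
  (d : Data φ) {J : Type w'}
  [HasColimitsOfShape (Discrete J) (ModuleCat.{u} R)]
  [HasExactColimitsOfShape (Discrete J) (ModuleCat.{u} R)]
  [HasColimitsOfShape (Discrete J) (ModuleCat.{u} A)]
  [HasExactColimitsOfShape (Discrete J) (ModuleCat.{u} A)]

/-- `P ↦ Q (X P)` -/
noncomputable def Ξ : DRing.Cx R ⥤ Dual.D A := Prod.sectL (DRing.Cx R) d.N ⋙ mixT φ ⋙ Q

lemma Ξ_obj (P : DRing.Cx R) : (Ξ d).obj P = Q.obj (d.X P) := rfl

lemma Ξ_map {P P' : DRing.Cx R} (f : P ⟶ P') : (Ξ d).map f = Q.map (d.Xmap f) := rfl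

/-- `P ↦ Q (N ⊗ (P ⊗_R A))` -/
noncomputable def Ξ' : DRing.Cx R ⥤ Dual.D A :=
  extCx φ ⋙ (curriedTensor (ModuleCat.{u} A)).map₂CochainComplex.obj d.N ⋙ Q

/-- the braiding identifies `Ξ` and `Ξ'` -/
noncomputable def ΞIso : Ξ d ≅ Ξ' d :=
  NatIso.ofComponents (fun P => Q.mapIso (braidCx ((extCx φ).obj P) d.N)) (by
    intro P P' f
    change Q.map (d.Xmap f) ≫ Q.map (braidCx ((extCx φ).obj P') d.N).hom =
      Q.map (braidCx ((extCx φ).obj P) d.N).hom ≫ Q.map (d.N ◁ (extCx φ).map f)
    rw [← Functor.map_comp, ← Functor.map_comp, d.Xmap_eq]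
    congr 1
    have h := braidCx_naturality ((extCx φ).map f) (𝟙 d.N)
    rw [MonoidalCategory.tensorHom_id, MonoidalCategory.id_tensorHom] at h
    exact h)

omit [HasRHomRel φ] [HasLTenMix φ] [HasExactColimitsOfShape (Discrete J) (ModuleCat.{u} R)]
  [HasExactColimitsOfShape (Discrete J) (ModuleCat.{u} A)] in
variable (φ) (J) in
lemma preservesColimitsOfShape_extCx : PreservesColimitsOfShape (Discrete J) (extCx φ) := by
  apply HomologicalComplex.preservesColimitsOfShape_of_eval
  intro i
  haveI : PreservesColimitsOfShape (Discrete J) (ModuleCat.extendScalars.{u, u, u} φ) :=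
    (ModuleCat.extendRestrictScalarsAdj.{u, u, u} φ).leftAdjoint_preservesColimits.preservesColimitsOfShape
  exact inferInstanceAs (PreservesColimitsOfShape (Discrete J)
    (HomologicalComplex.eval (ModuleCat.{u} R) (ComplexShape.up ℤ) i ⋙
      ModuleCat.extendScalars.{u, u, u} φ))

variable (J) in
lemma preservesColimitsOfShape_Ξ : PreservesColimitsOfShape (Discrete J) (Ξ d) := by
  haveI := preservesColimitsOfShape_extCx φ J
  haveI : PreservesColimitsOfShape (Discrete J)
      ((curriedTensor (ModuleCat.{u} A)).map₂CochainComplex.obj d.N) :=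
    preservesColimitsOfShape_tensorLeftCx d.N
  haveI : PreservesColimitsOfShape (Discrete J) (Ξ' d) := by
    dsimp only [Ξ']
    infer_instance
  exact preservesColimitsOfShape_of_natIso (ΞIso d).symm

omit [HasRHomRel φ] [HasLTenMix φ] [HasColimitsOfShape (Discrete J) (ModuleCat.{u} R)]
  [HasExactColimitsOfShape (Discrete J) (ModuleCat.{u} R)]
  [HasColimitsOfShape (Discrete J) (ModuleCat.{u} A)]
  [HasExactColimitsOfShape (Discrete J) (ModuleCat.{u} A)] in
/-- precomposing the injections of a colimit cofan with isomorphisms gives a colimit cofan -/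
noncomputable def isColimitCofanOfIso {C : Type*} [Category C] {X Y : J → C} (e : ∀ j, X j ≅ Y j)
    (c : Cofan Y) (hc : IsColimit c) :
    IsColimit (Cofan.mk c.pt (fun j => (e j).hom ≫ c.inj j)) :=
  mkCofanColimit _ (fun t => Cofan.IsColimit.desc hc (fun j => (e j).inv ≫ t.inj j))
    (fun t j => by
      change ((e j).hom ≫ c.inj j) ≫ _ = _
      rw [Category.assoc, Cofan.IsColimit.fac, Iso.hom_inv_id_assoc])
    (fun t m h => by
      refine Cofan.IsColimit.hom_ext hc _ _ (fun j => ?_)
      rw [Cofan.IsColimit.fac, ← h j]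
      change _ = (e j).inv ≫ ((e j).hom ≫ c.inj j) ≫ m
      rw [Category.assoc, Iso.inv_hom_id_assoc])

/-- `- ⊗^L_R M` preserves coproducts. -/
theorem preservesColimit_F' (X : J → Dual.D R) :
    PreservesColimit (Discrete.functor X) (F' φ) := by
  obtain ⟨d⟩ := nonempty_data φ
  let P : J → DRing.Cx R := fun j => rep (X j)
  have hP : ∀ j, IsKFlat (P j) := fun j => isKFlat_rep (X j)
  have hPP : IsKFlat (∐ P) :=
    isKFlat_of_isColimit_discrete (Discrete.functor P) (fun j => hP j.as) (coproductIsCoproduct P)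
  -- the colimit cofan of `X`
  have hQ : IsColimit (Cofan.mk (Q.obj (∐ P)) (fun j => Q.map (Sigma.ι P j))) :=
    (isColimitMapCoconeCofanMkEquiv Q P (Sigma.ι P)) (isColimitOfPreserves Q
      (coproductIsCoproduct P))
  let c₁ : Cofan X := Cofan.mk (Q.obj (∐ P)) (fun j => (repIso (X j)).inv ≫ Q.map (Sigma.ι P j))
  have hc₁ : IsColimit c₁ := isColimitCofanOfIso (fun j => (repIso (X j)).symm) _ hQ
  refine preservesColimit_of_preserves_colimit_cocone hc₁ ?_
  refine (isColimitMapCoconeCofanMkEquiv (F' φ) X _).symm ?_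
  -- the image of the cofan of the `P j` under `Ξ`
  haveI := preservesColimitsOfShape_Ξ d J
  have hΞ : IsColimit (Cofan.mk ((Ξ d).obj (∐ P)) (fun j => (Ξ d).map (Sigma.ι P j))) :=
    (isColimitMapCoconeCofanMkEquiv (Ξ d) P (Sigma.ι P)) (isColimitOfPreserves (Ξ d)
      (coproductIsCoproduct P))
  let e : ∀ j, (F' φ).obj (X j) ≅ (Ξ d).obj (P j) := fun j =>
    αZ d (hP j) (repIso (X j)).symm
  have h2 := isColimitCofanOfIso e _ hΞ
  refine IsColimit.ofIsoColimit h2 (Cofan.ext (d.α (∐ P) hPP).symm (fun j => ?_))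
  change ((αZ d (hP j) (repIso (X j)).symm).hom ≫ Q.map (d.Xmap (Sigma.ι P j))) ≫
    (d.α (∐ P) hPP).inv = (F' φ).map ((repIso (X j)).inv ≫ Q.map (Sigma.ι P j))
  rw [Iso.comp_inv_eq, Functor.map_comp, Category.assoc, d.α_naturality (hP j) hPP (Sigma.ι P j)]
  dsimp only [αZ, Iso.trans_hom, Functor.mapIso_hom, Iso.symm_hom]
  rw [Category.assoc]

end Main

end Groth.Agent.Lib.MixCoprod35
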