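import Groth.Agent.Lib.MixTau35
import Groth.Agent.Lib.TensorExact35
import Groth.Agent.Lib.FiveLemmaTri35
import Mathlib.CategoryTheory.Triangulated.Adjunction

/-!
# Weak exactness of `- ⊗^L_R M : D(R) ⥤ D(A)` for `M = RHom(A, R)` (helper35)
-/

set_option autoImplicit false
universe u

open CategoryTheory CategoryTheory.Limits Category MonoidalCategory Pretriangulated

attribute [local instance] HasDerivedCategory.standard

namespace Groth.Agent.Lib.MixExact35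

open DerivedCategory Groth.Agent.Lib.KFlat35 DTen Groth.Agent.Lib.DTenBase35
  Groth.Agent.Lib.MixZig35 Groth.Agent.Lib.LBaseAdj35 Groth.Agent.Lib.MixTau35
  Groth.Agent.Lib.FiveLemmaTri35 HomologicalComplex CochainComplex

variable {R A : Type u} [CommRing R] [CommRing A] {φ : R →+* A} [HasRHomRel φ] [HasLTenMix φ]
  (d : Data φ)

set_option backward.isDefEq.respectTransparency false

/-- compatibility of `coneIso₁` with `inr` (copy of `TensorExact35.inr_coneIso₁` without the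
`HasLTen` hypothesis). -/
lemma inr_coneIso₁ {B : Type u} [CommRing B] {X Y : DRing.Cx B} (f : X ⟶ Y) (P : DRing.Cx B) :
    (mappingCone.inr f ▷ P) ≫
        (Groth.Agent.Lib.BifunctorCone66.coneIso₁ (curriedTensor (ModuleCat.{u} B)) f P).hom =
      mappingCone.inr (HomologicalComplex.mapBifunctorMap f (𝟙 P) (curriedTensor (ModuleCat.{u} B))
        (ComplexShape.up ℤ)) := by
  rw [← cancel_mono
    (Groth.Agent.Lib.BifunctorCone66.coneIso₁ (curriedTensor (ModuleCat.{u} B)) f P).inv,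
    Category.assoc, Iso.hom_inv_id, Category.comp_id]
  dsimp only [Groth.Agent.Lib.BifunctorCone66.coneIso₁, Groth.Agent.Lib.BifunctorCone66.coneDesc₁]
  rw [mappingCone.inr_desc]
  rfl

/-- `X f` as a bifunctor map -/
noncomputable abbrev ψ {P P' : DRing.Cx R} (f : P ⟶ P') : d.X P ⟶ d.X P' :=
  HomologicalComplex.mapBifunctorMap ((extCx φ).map f) (𝟙 d.N)
    (curriedTensor (ModuleCat.{u} A)) (ComplexShape.up ℤ)

lemma ψ_eq' {P P' : DRing.Cx R} (f : P ⟶ P') : ψ d f = (extCx φ).map f ▷ d.N := rfl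

lemma ψ_eq {P P' : DRing.Cx R} (f : P ⟶ P') : ψ d f = d.Xmap f :=
  (ψ_eq' d f).trans (d.Xmap_eq f).symm

/-- `X (cone f) ≅ cone (X f)` -/
noncomputable def coneIsoX {P P' : DRing.Cx R} (f : P ⟶ P') :
    d.X (mappingCone f) ≅ mappingCone (ψ d f) :=
  (MonoidalCategory.tensorRight d.N).mapIso
      (mappingCone.mapHomologicalComplexIso f (ModuleCat.extendScalars.{u, u, u} φ)) ≪≫
    Groth.Agent.Lib.BifunctorCone66.coneIso₁ (curriedTensor (ModuleCat.{u} A))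
      ((extCx φ).map f) d.N

lemma inr_coneIsoX {P P' : DRing.Cx R} (f : P ⟶ P') :
    d.Xmap (mappingCone.inr f) ≫ (coneIsoX d f).hom = mappingCone.inr (ψ d f) := by
  dsimp only [coneIsoX, Iso.trans_hom, Functor.mapIso_hom]
  rw [d.Xmap_eq, ← Category.assoc]
  change ((extCx φ).map (mappingCone.inr f) ▷ d.N ≫
    (mappingCone.mapHomologicalComplexIso f (ModuleCat.extendScalars.{u, u, u} φ)).hom ▷ d.N) ≫ _ = _
  rw [← MonoidalCategory.comp_whiskerRight, mappingCone.map_inr]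
  exact inr_coneIso₁ ((extCx φ).map f) d.N

/-- `F' Z ≅ Q (X P)` for `Z ≅ Q P` with `P` K-flat -/
noncomputable def αZ {Z : Dual.D R} {P : DRing.Cx R} (hP : IsKFlat P) (z : Z ≅ Q.obj P) :
    (F' φ).obj Z ≅ Q.obj (d.X P) :=
  (F' φ).mapIso z ≪≫ d.α P hP

lemma αZ_naturality {Z Z' : Dual.D R} {P P' : DRing.Cx R} (hP : IsKFlat P) (hP' : IsKFlat P')
    (z : Z ≅ Q.obj P) (z' : Z' ≅ Q.obj P') (g : Z ⟶ Z') (f : P ⟶ P')
    (h : g ≫ z'.hom = z.hom ≫ Q.map f) :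
    (F' φ).map g ≫ (αZ d hP' z').hom = (αZ d hP z).hom ≫ Q.map (d.Xmap f) := by
  dsimp only [αZ, Iso.trans_hom, Functor.mapIso_hom]
  rw [← Category.assoc, ← Functor.map_comp, h, Functor.map_comp, Category.assoc,
    d.α_naturality hP hP' f, Category.assoc]

/-- `- ⊗^L_R M` is weakly exact. -/
theorem weaklyExact_F' : WeaklyExact (F' φ) := by
  obtain ⟨d⟩ := nonempty_data φ
  intro T hT
  have hP₁ := isKFlat_rep T.obj₁
  have hP₂ := isKFlat_rep T.obj₂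
  let z₁ : T.obj₁ ≅ Q.obj (rep T.obj₁) := (repIso T.obj₁).symm
  let z₂ : T.obj₂ ≅ Q.obj (rep T.obj₂) := (repIso T.obj₂).symm
  obtain ⟨f, hf⟩ := Groth.Agent.Lib.DCopower.exists_Q_map_eq (rep T.obj₁) (rep T.obj₂)
    (z₁.inv ≫ T.mor₁ ≫ z₂.hom)
  let T' := Q.mapTriangle.obj (mappingCone.triangle f)
  have hT' : T' ∈ distTriang (Dual.D R) :=
    (DerivedCategory.mem_distTriang_iff T').2 ⟨_, _, f, ⟨Iso.refl _⟩⟩
  have comm : T.mor₁ ≫ z₂.hom = z₁.hom ≫ T'.mor₁ := by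
    change T.mor₁ ≫ z₂.hom = z₁.hom ≫ Q.map f
    rw [hf, Iso.hom_inv_id_assoc]
  let e : T ≅ T' := isoTriangleOfIso₁₂ T T' hT hT' z₁ z₂ comm
  let z₃ : T.obj₃ ≅ Q.obj (mappingCone f) := Triangle.π₃.mapIso e
  have c₂ : T.mor₂ ≫ z₃.hom = z₂.hom ≫ Q.map (mappingCone.inr f) := e.hom.comm₂
  have hC : IsKFlat (mappingCone f) := isKFlat_mappingCone f hP₁ hP₂
  let α₁ := αZ d hP₁ z₁
  let α₂ := αZ d hP₂ z₂
  let α₃ : (F' φ).obj T.obj₃ ≅ Q.obj (mappingCone (ψ d f)) :=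
    αZ d hC z₃ ≪≫ Q.mapIso (coneIsoX d f)
  let T'' := Q.mapTriangle.obj (mappingCone.triangle (ψ d f))
  have hT'' : T'' ∈ distTriang (Dual.D A) :=
    (DerivedCategory.mem_distTriang_iff T'').2 ⟨_, _, ψ d f, ⟨Iso.refl _⟩⟩
  refine ⟨α₃.hom ≫ T''.mor₃ ≫ (α₁.inv)⟦(1 : ℤ)⟧', ?_⟩
  refine isomorphic_distinguished _ hT'' _ (Triangle.isoMk _ _ α₁ α₂ α₃ ?_ ?_ ?_)
  · change (F' φ).map T.mor₁ ≫ α₂.hom = α₁.hom ≫ Q.map (ψ d f)
    rw [ψ_eq]
    exact αZ_naturality d hP₁ hP₂ z₁ z₂ T.mor₁ f comm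
  · change (F' φ).map T.mor₂ ≫ (αZ d hC z₃).hom ≫ Q.map (coneIsoX d f).hom =
      α₂.hom ≫ Q.map (mappingCone.inr (ψ d f))
    rw [← Category.assoc, αZ_naturality d hP₂ hC z₂ z₃ T.mor₂ (mappingCone.inr f) c₂,
      Category.assoc, ← Functor.map_comp, inr_coneIsoX]
  · change (α₃.hom ≫ T''.mor₃ ≫ (α₁.inv)⟦(1 : ℤ)⟧') ≫ (α₁.hom)⟦(1 : ℤ)⟧' = α₃.hom ≫ T''.mor₃
    rw [Category.assoc, Category.assoc, ← Functor.map_comp, Iso.inv_hom_id,
      CategoryTheory.Functor.map_id, Category.comp_id]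

omit [HasLTenMix φ] in
/-- `RHom(A, -)` is weakly exact (it is the right adjoint of a triangulated functor). -/
theorem weaklyExact_G : WeaklyExact (RHomRel φ) := by
  letI : (RHomRel φ).CommShift ℤ := (relAdj φ).rightAdjointCommShift ℤ
  haveI : (relAdj φ).CommShift ℤ := (relAdj φ).commShift_of_leftAdjoint ℤ
  haveI : (RHomRel φ).IsTriangulated := (relAdj φ).isTriangulated_rightAdjoint
  intro T hT
  exact ⟨_, (RHomRel φ).map_distinguished T hT⟩

end Groth.Agent.Lib.MixExact35
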