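import Groth.Agent.Lib.MixCoprod35
import Groth.Agent.Lib.FiveLemmaCoprod35
import Groth.Agent.Lib.GenUnit35

/-!
# `RHom(A, -) ≅ - ⊗^L_R RHom(A, R)` for `A` perfect over `R`: the dévissage (helper35)
-/

set_option autoImplicit false
universe u w'

open CategoryTheory CategoryTheory.Limits Category MonoidalCategory Pretriangulated

attribute [local instance] HasDerivedCategory.standard

namespace Groth.Agent.Lib.MixMain35

open DerivedCategory Groth.Agent.Lib.KFlat35 DTen Groth.Agent.Lib.DTenBase35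
  Groth.Agent.Lib.MixZig35 Groth.Agent.Lib.LBaseAdj35 Groth.Agent.Lib.MixTau35
  Groth.Agent.Lib.MixExact35 Groth.Agent.Lib.MixCoprod35 Groth.Agent.Lib.FiveLemmaTri35
  Groth.Agent.FinSupp31 Groth.Agent.Lib.CompactPerf35

variable {R A : Type u} [CommRing R] [CommRing A] {φ : R →+* A} [HasRHomRel φ] [HasLTenMix φ]
  (d : Data φ)

/-! ### The natural family -/

/-- `Hom(Z, F' K) → Hom(Z, G K)`, postcomposition with `τ`. -/
noncomputable def fam (Z : Dual.D A) : NatFamily (F' φ) (RHomRel φ) Z Z where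
  θ K :=
    { toFun := fun g => g ≫ (τ d).app K
      map_zero' := zero_comp
      map_add' := fun g g' => Preadditive.add_comp _ _ _ g g' _ }
  nat {K K'} f g := by
    change (g ≫ (F' φ).map f) ≫ (τ d).app K' = (g ≫ (τ d).app K) ≫ (RHomRel φ).map f
    rw [Category.assoc, Category.assoc, (τ d).naturality f]

lemma fam_θ_apply (Z : Dual.D A) (K : Dual.D R) (g : Z ⟶ (F' φ).obj K) :
    (fam d Z).θ K g = g ≫ (τ d).app K := rfl

lemma bijective_θ_of_isIso (Z : Dual.D A) (K : Dual.D R) [IsIso ((τ d).app K)] :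
    Function.Bijective ((fam d Z).θ K) :=
  ⟨fun g g' h => (cancel_mono ((τ d).app K)).1 h,
    fun h => ⟨h ≫ inv ((τ d).app K), by
      change (h ≫ inv ((τ d).app K)) ≫ (τ d).app K = h
      rw [Category.assoc, IsIso.inv_hom_id, Category.comp_id]⟩⟩

/-! ### Coproducts, decomposition form -/

section Abstract

variable {C D : Type*} [Category C] [Category D] [Preadditive C] [Preadditive D]
  {Φ Ψ : C ⥤ D} {Z₁ Z₂ : D} (F : NatFamily Φ Ψ Z₁ Z₂)

open Classical in
/-- `θ` is bijective on a coproduct of objects on which it is bijective, provided maps from `Z₁`,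
`Z₂` into the values on the coproduct decompose as finite sums. -/
theorem bijective_coprod' {J : Type*} (X : J → C) [HasCoproduct X]
    (h₁ : ∀ g : Z₁ ⟶ Φ.obj (∐ X), ∃ s : Finset J,
      g = ∑ j ∈ s, (g ≫ Φ.map (Sigma.π X j)) ≫ Φ.map (Sigma.ι X j))
    (h₂ : ∀ g : Z₂ ⟶ Ψ.obj (∐ X), ∃ s : Finset J,
      g = ∑ j ∈ s, (g ≫ Ψ.map (Sigma.π X j)) ≫ Ψ.map (Sigma.ι X j))
    (hX : ∀ j, Function.Bijective (F.θ (X j))) : Function.Bijective (F.θ (∐ X)) := by
  constructor
  · rw [injective_iff_map_eq_zero]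
    intro g hg
    obtain ⟨s, hs⟩ := h₁ g
    have h0 : ∀ j, g ≫ Φ.map (Sigma.π X j) = 0 := by
      intro j
      apply (injective_iff_map_eq_zero _).1 (hX j).1
      rw [F.nat, hg, zero_comp]
    rw [hs]
    refine Finset.sum_eq_zero (fun j _ => ?_)
    rw [h0 j, zero_comp]
  · intro h
    obtain ⟨s, hs⟩ := h₂ h
    choose g' hg' using fun j => (hX j).2 (h ≫ Ψ.map (Sigma.π X j))
    refine ⟨∑ j ∈ s, g' j ≫ Φ.map (Sigma.ι X j), ?_⟩
    rw [map_sum]
    conv_rhs => rw [hs]
    refine Finset.sum_congr rfl (fun j _ => ?_)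
    rw [F.nat, hg']

end Abstract

/-! ### Decomposition of maps into `G (∐ X)` -/

section Decomp

open Classical in
/-- maps from `Z` to `G (∐ X)` decompose when `Z|_R` is compact relative to `X` -/
lemma decomp_G {J : Type w'} (X : J → Dual.D R) [HasCoproduct X] (Z : Dual.D A)
    (hZ : FinSupp X ((DRing.restrictD φ).obj Z)) (g : Z ⟶ (RHomRel φ).obj (∐ X)) :
    ∃ s : Finset J, g = ∑ j ∈ s, (g ≫ (RHomRel φ).map (Sigma.π X j)) ≫
      (RHomRel φ).map (Sigma.ι X j) := by
  obtain ⟨s, hs⟩ := hZ (((relAdj φ).homEquiv _ _).symm g)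
  refine ⟨s, ?_⟩
  haveI : (RHomRel φ).Additive := (relAdj φ).right_adjoint_additive
  have h1 : g = g ≫ (RHomRel φ).map (e X s) := by
    conv_lhs => rw [← ((relAdj φ).homEquiv _ _).apply_symm_apply g, ← hs,
      Adjunction.homEquiv_naturality_right, Equiv.apply_symm_apply]
  conv_lhs => rw [h1]
  unfold e
  rw [Functor.map_sum, Preadditive.comp_sum]
  refine Finset.sum_congr rfl (fun j _ => ?_)
  rw [Functor.map_comp, Category.assoc]

end Decomp

/-! ### `F'` preserves zero morphisms -/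

open ZeroObject in
lemma isZero_F'_zero : IsZero ((F' φ).obj (0 : Dual.D R)) := by
  obtain ⟨δ, hδ⟩ := weaklyExact_F' (φ := φ) _ (contractible_distinguished (0 : Dual.D R))
  have h : (F' φ).map (𝟙 (0 : Dual.D R)) ≫ (F' φ).map (0 : (0 : Dual.D R) ⟶ 0) = 0 :=
    comp_distTriang_mor_zero₁₂ _ hδ
  rw [IsZero.iff_id_eq_zero]
  have h0 : (0 : (0 : Dual.D R) ⟶ 0) = 𝟙 0 := (isZero_zero _).eq_of_src _ _
  rw [h0, CategoryTheory.Functor.map_id, Category.comp_id] at h
  exact h

open ZeroObject in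
instance : (F' φ).PreservesZeroMorphisms :=
  Functor.preservesZeroMorphisms_of_map_zero_object ((isZero_F'_zero).isoZero)

/-! ### The dévissage -/

/-- all shifts of `K` have `τ` bijective against all shifts of `A` -/
def PT : ObjectProperty (Dual.D R) := fun K => ∀ n : ℤ, (fam d ((unit A)⟦n⟧)).Good K

instance : (PT d).IsClosedUnderIsomorphisms where
  of_iso e h := fun n => (h n).of_iso _ e.symm

section Coprod

variable {J : Type w'}
  [HasColimitsOfShape (Discrete J) (ModuleCat.{u} R)]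
  [HasExactColimitsOfShape (Discrete J) (ModuleCat.{u} R)]
  [HasColimitsOfShape (Discrete J) (ModuleCat.{u} A)]
  [HasExactColimitsOfShape (Discrete J) (ModuleCat.{u} A)]

lemma PT_coprod (hA : DRing.IsPerfect R ((DRing.restrictD φ).obj (unit A)))
    (X : J → Dual.D R) (c : Cofan X) (hc : IsColimit c) (hX : ∀ j, PT d (X j)) : PT d c.pt := by
  intro n
  apply NatFamily.good_of_forall_shift
  intro m
  let X' : J → Dual.D R := fun j => (X j)⟦m⟧
  have hc' : IsColimit (Cofan.mk (c.pt⟦m⟧) (fun j => (c.inj j)⟦m⟧')) :=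
    (isColimitMapCoconeCofanMkEquiv (shiftFunctor (Dual.D R) m) X c.inj)
      (isColimitOfPreserves (shiftFunctor (Dual.D R) m)
        (IsColimit.ofIsoColimit hc (Cofan.ext (Iso.refl _) (fun _ => by simp))))
  let ψ : c.pt⟦m⟧ ≅ ∐ X' := hc'.coconePointUniqueUpToIso (colimit.isColimit _)
  refine (fam d ((unit A)⟦n⟧)).bijective_of_iso ψ ?_
  refine bijective_coprod' (fam d ((unit A)⟦n⟧)) X' ?_ ?_ ?_
  · haveI := preservesColimit_F' (φ := φ) X'
    exact Groth.Agent.Lib.FiveLemmaCoprod35.decomp (F' φ) X' (cptAll_single (J := J) n _)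
  · obtain ⟨E, a, b, hE, hfp, ⟨eA⟩⟩ := hA
    have hcA : CptAll J ((DRing.restrictD φ).obj (unit A)) :=
      (cptAll_of_bounded_finite_projective (J := J) E a b hE hfp).of_iso eA.symm
    exact decomp_G X' _ (finSupp_of_iso_left _
      (((DRing.restrictD φ).commShiftIso n).app (unit A)) (hcA n _))
  · intro j
    exact (hX j n) m _ ⟨Iso.refl _⟩

end Coprod

/-- every object satisfies `PT`, given the base case -/
theorem PT_all (hA : DRing.IsPerfect R ((DRing.restrictD φ).obj (unit A)))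
    (hbase : ∀ m : ℤ, IsIso ((τ d).app ((unit R)⟦m⟧))) (K : Dual.D R) : PT d K := by
  refine Groth.Agent.Lib.LocGen35.prop_of_localizing (PT d) ?_ ?_ ?_ ?_ K
  · intro p n
    let a : (unit R)⟦-p⟧ ≅ DerivedCategory.Q.obj (S R p) :=
      ((DerivedCategory.singleFunctors (ModuleCat.{u} R)).shiftIso (-p) p 0 (by omega)).app
        (ModuleCat.of R R)
    refine NatFamily.Good.of_iso_shift _ (-p) a.symm ?_
    apply NatFamily.good_of_forall_shift
    intro m
    haveI := hbase m
    exact bijective_θ_of_isIso d _ _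
  · intro T hT h₁ h₂ n
    exact NatFamily.Good.mid _ weaklyExact_F' weaklyExact_G T.rotate
      (rot_of_distTriang _ hT) (h₂ n) ((h₁ n).shift _ 1)
  · intro J X c hc hX
    exact PT_coprod d hA X c hc hX
  · intro X c hc hX
    exact PT_coprod d hA X c hc hX

/-- `τ` is an isomorphism, given the base case -/
theorem isIso_τ (hA : DRing.IsPerfect R ((DRing.restrictD φ).obj (unit A)))
    (hbase : ∀ m : ℤ, IsIso ((τ d).app ((unit R)⟦m⟧))) : IsIso (τ d) := by
  haveI : ∀ K, IsIso ((τ d).app K) := by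
    intro K
    apply Groth.Agent.Lib.GenUnit35.isIso_of_bijective_shift
    intro n
    exact (PT_all d hA hbase K n).bijective
  exact NatIso.isIso_of_isIso_app _

end Groth.Agent.Lib.MixMain35
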