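import Groth.Agent.Lib.MixZig35

/-!
# The natural transformation `- ⊗^L_R RHom(A, R) ⟶ RHom(A, -)` (helper35)

Built from the zigzag of `MixZig35` on K-projective K-flat representatives.
-/

set_option autoImplicit false
universe u

open CategoryTheory CategoryTheory.Limits Category MonoidalCategory

attribute [local instance] HasDerivedCategory.standard

namespace Groth.Agent.Lib.MixTau35

open DerivedCategory Groth.Agent.Lib.KFlat35 DTen Groth.Agent.Lib.DTenBase35
  Groth.Agent.Lib.MixZig35 Groth.Agent.Lib.LBaseAdj35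

variable {R A : Type u} [CommRing R] [CommRing A] {φ : R →+* A} [HasRHomRel φ] [HasLTenMix φ]
  (d : Data φ)

lemma isKFlat_rep (K : Dual.D R) : IsKFlat (rep K) := (exists_good' K).choose_spec.2.1

/-- the evaluation `(F' K)|_R ⟶ K` -/
noncomputable def c (K : Dual.D R) : (DRing.restrictD φ).obj ((F' φ).obj K) ⟶ K :=
  (DRing.restrictD φ).map ((F' φ).map (repIso K).inv) ≫ d.c₀ (rep K) (isKFlat_rep K) ≫
    (repIso K).hom

lemma c_naturality {K K' : Dual.D R} (f : K ⟶ K') :
    (DRing.restrictD φ).map ((F' φ).map f) ≫ c d K' = c d K ≫ f := by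
  obtain ⟨f', hf'⟩ := Groth.Agent.Lib.DCopower.exists_Q_map_eq (rep K) (rep K')
    ((repIso K).hom ≫ f ≫ (repIso K').inv)
  have h1 : f ≫ (repIso K').inv = (repIso K).inv ≫ Q.map f' := by
    rw [hf', Iso.inv_hom_id_assoc]
  have h2 : Q.map f' ≫ (repIso K').hom = (repIso K).hom ≫ f := by
    rw [hf', Category.assoc, Category.assoc, Iso.inv_hom_id, Category.comp_id]
  dsimp only [c]
  rw [← Category.assoc, ← Functor.map_comp, ← Functor.map_comp, h1, Functor.map_comp,
    Functor.map_comp, Category.assoc, Category.assoc, Category.assoc,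
    ← Category.assoc ((DRing.restrictD φ).map ((F' φ).map (Q.map f'))),
    d.c₀_naturality (isKFlat_rep K) (isKFlat_rep K') f', Category.assoc, h2]

/-- on `Q P` with `P` K-flat, `c` is the zigzag evaluation -/
lemma c_Q (P : DRing.Cx R) (hP : IsKFlat P) : c d (Q.obj P) = d.c₀ P hP := by
  obtain ⟨r, hr⟩ := Groth.Agent.Lib.DCopower.exists_Q_map_eq (rep (Q.obj P)) P
    (repIso (Q.obj P)).hom
  have h := d.c₀_naturality (isKFlat_rep (Q.obj P)) hP r
  dsimp only [c]
  rw [← hr, ← h, ← Category.assoc, ← Functor.map_comp,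
    ← Functor.map_comp, hr, Iso.inv_hom_id, CategoryTheory.Functor.map_id,
    CategoryTheory.Functor.map_id, Category.id_comp]

/-- the natural transformation `- ⊗^L_R RHom(A, R) ⟶ RHom(A, -)` -/
noncomputable def τ : F' φ ⟶ RHomRel φ where
  app K := (relAdj φ).homEquiv _ _ (c d K)
  naturality K K' f := by
    rw [← Adjunction.homEquiv_naturality_left, ← Adjunction.homEquiv_naturality_right,
      c_naturality]

lemma comp_τ_app {W : Dual.D A} {K : Dual.D R} (g : W ⟶ (F' φ).obj K) :
    g ≫ (τ d).app K = (relAdj φ).homEquiv _ _ ((DRing.restrictD φ).map g ≫ c d K) := by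
  change g ≫ (relAdj φ).homEquiv _ _ (c d K) = _
  rw [← Adjunction.homEquiv_naturality_left]

/-- `τ` is an isomorphism at `K` as soon as `(F' K, c K)` is terminal -/
lemma isIso_τ_app_of_bijective (K : Dual.D R)
    (h : ∀ W : Dual.D A, Function.Bijective
      (fun g : W ⟶ (F' φ).obj K => (DRing.restrictD φ).map g ≫ c d K)) :
    IsIso ((τ d).app K) := by
  rw [isIso_iff_yoneda_map_bijective]
  intro W
  have key : (fun g : W ⟶ (F' φ).obj K => g ≫ (τ d).app K) =
      (fun t => (relAdj φ).homEquiv _ _ t) ∘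
        (fun g : W ⟶ (F' φ).obj K => (DRing.restrictD φ).map g ≫ c d K) := by
    funext g
    exact comp_τ_app d g
  rw [key]
  exact ((relAdj φ).homEquiv _ _).bijective.comp (h W)

end Groth.Agent.Lib.MixTau35
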