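import Groth.Agent.Lib.DTenMix35
import Groth.Agent.Lib.LBaseAdj35

/-!
# The evaluation zigzag `(K ⊗^L_R RHom(A, R))|_R ⟶ K` on good representatives (helper35)

`φ : R → A`, `M = RHom(A, R) = (RHomRel φ).obj (unit R)`.  For a K-flat complex `P` of `R`-modules we
construct `c⁰ P : ((LTenMix φ).obj (Q P, M))|_R ⟶ Q P`, natural in chain maps `P ⟶ P'`.
-/

set_option autoImplicit false
universe u

open CategoryTheory CategoryTheory.Limits Category MonoidalCategory

attribute [local instance] HasDerivedCategory.standard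

namespace Groth.Agent.Lib.MixZig35

open DerivedCategory Groth.Agent.Lib.KFlat35 DTen Groth.Agent.Lib.DTenBase35
  Groth.Agent.Lib.DTenMix35 Groth.Agent.Lib.ProjFormula35

variable {R A : Type u} [CommRing R] [CommRing A] (φ : R →+* A)

/-! ### Naturality of the projection formula in the second variable -/

lemma pfCx_naturality (L : DRing.Cx A) {K K' : DRing.Cx R} (f : K ⟶ K') :
    ((resCx φ).obj L ◁ f) ≫ pfCx φ L K' =
      pfCx φ L K ≫ (resCx φ).map (L ◁ (extCx φ).map f) := by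
  dsimp only [pfCx]
  have h1 := (unitCx φ).naturality f
  have h2 := resTenCx_naturality φ (𝟙 L) ((extCx φ).map f)
  rw [CategoryTheory.Functor.map_id, MonoidalCategory.id_tensorHom,
    MonoidalCategory.id_tensorHom] at h2
  dsimp only [Functor.id_map, Functor.comp_map] at h1
  rw [Category.assoc, ← h2, ← Category.assoc, ← Category.assoc, ← MonoidalCategory.whiskerLeft_comp,
    ← MonoidalCategory.whiskerLeft_comp, h1]

lemma pfIso_inv_naturality (L : DRing.Cx A) {K K' : DRing.Cx R} (f : K ⟶ K') :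
    (resCx φ).map (L ◁ (extCx φ).map f) ≫ (pfIso φ L K').inv =
      (pfIso φ L K).inv ≫ ((resCx φ).obj L ◁ f) := by
  rw [Iso.comp_inv_eq, Category.assoc, Iso.eq_inv_comp]
  exact (pfCx_naturality φ L f).symm

/-! ### The data -/

variable [HasRHomRel φ]

/-- Representing data for `M = RHom(A, R)` and its evaluation map. -/
structure Data where
  /-- a complex of `A`-modules representing `M` -/
  N : DRing.Cx A
  hNp : N.IsKProjective
  hNf : IsKFlat N
  eM : Q.obj N ≅ (RHomRel φ).obj (unit R)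
  /-- a K-projective resolution over `R` of the restriction of `N` -/
  N' : DRing.Cx R
  hN'p : N'.IsKProjective
  s : N' ⟶ (resCx φ).obj N
  hs : QuasiIso s
  /-- the evaluation as a chain map -/
  ε : N' ⟶ 𝟙_ (DRing.Cx R)
  hε : Q.map ε = Q.map s ≫ (resFactors φ).inv.app N ≫ (DRing.restrictD φ).map eM.hom ≫
    relEv φ (unit R)

lemma nonempty_data : Nonempty (Data φ) := by
  obtain ⟨N, hNp, hNf, ⟨eM⟩⟩ := exists_good' ((RHomRel φ).obj (unit R))
  obtain ⟨N', s, hN'p, -, -, hs, -⟩ :=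
    Groth.Agent.Lib.SemiFreeKProj35.exists_kprojective_resolution ((resCx φ).obj N)
  haveI := hN'p
  obtain ⟨ε, hε⟩ := Groth.Agent.Lib.DCopower.exists_Q_map_eq N' (𝟙_ (DRing.Cx R))
    (Q.map s ≫ (resFactors φ).inv.app N ≫ (DRing.restrictD φ).map eM.hom ≫ relEv φ (unit R))
  exact ⟨⟨N, hNp, hNf, eM, N', hN'p, s, hs, ε, hε⟩⟩

variable {φ} (d : Data φ)

namespace Data

instance : d.N.IsKProjective := d.hNp
instance : d.N'.IsKProjective := d.hN'p
instance : QuasiIso d.s := d.hs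

/-- the evaluation `Q (N|_R) ⟶ Q R[0]` -/
noncomputable def ev' : Q.obj ((resCx φ).obj d.N) ⟶ Q.obj (𝟙_ (DRing.Cx R)) :=
  (resFactors φ).inv.app d.N ≫ (DRing.restrictD φ).map d.eM.hom ≫ relEv φ (unit R)

lemma Q_map_ε : Q.map d.ε = Q.map d.s ≫ d.ev' := d.hε

/-- `X P = (P ⊗_R A) ⊗_A N` -/
noncomputable abbrev X (P : DRing.Cx R) : DRing.Cx A := (mixT φ).obj (P, d.N)

/-- functoriality of `X` -/
noncomputable abbrev Xmap {P P' : DRing.Cx R} (f : P ⟶ P') : d.X P ⟶ d.X P' :=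
  (mixT φ).map (X := (P, d.N)) (Y := (P', d.N)) (f, 𝟙 d.N)

lemma Xmap_eq {P P' : DRing.Cx R} (f : P ⟶ P') : d.Xmap f = (extCx φ).map f ▷ d.N := by
  dsimp only [Xmap, mixT]
  simp

/-- `(X P)|_R ≅ N|_R ⊗_R P` -/
noncomputable def pfSwap (P : DRing.Cx R) :
    (resCx φ).obj (d.X P) ≅ (resCx φ).obj d.N ⊗ P :=
  (resCx φ).mapIso (braidCx ((extCx φ).obj P) d.N) ≪≫ (pfIso φ d.N P).symm

lemma pfSwap_naturality {P P' : DRing.Cx R} (f : P ⟶ P') :
    (resCx φ).map (d.Xmap f) ≫ (d.pfSwap P').hom =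
      (d.pfSwap P).hom ≫ ((resCx φ).obj d.N ◁ f) := by
  dsimp only [pfSwap, Iso.trans_hom, Functor.mapIso_hom, Iso.symm_hom]
  rw [Xmap_eq, ← Category.assoc, ← Functor.map_comp]
  have h := braidCx_naturality ((extCx φ).map f) (𝟙 d.N)
  rw [MonoidalCategory.tensorHom_id, MonoidalCategory.id_tensorHom] at h
  rw [h, Functor.map_comp, Category.assoc, pfIso_inv_naturality, Category.assoc]

/-! ### The zigzag -/

lemma quasiIso_s_whiskerRight (P : DRing.Cx R) (hP : IsKFlat P) : QuasiIso (d.s ▷ P) := by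
  have := quasiIso_tensorHom_right hP d.s
  exact this

/-- the zigzag `Q((X P)|_R) ⟶ Q P` for `P` K-flat -/
noncomputable def κ (P : DRing.Cx R) (hP : IsKFlat P) :
    Q.obj ((resCx φ).obj (d.X P)) ⟶ Q.obj P :=
  haveI := d.quasiIso_s_whiskerRight P hP
  Q.map (d.pfSwap P).hom ≫ inv (Q.map (d.s ▷ P)) ≫ Q.map ((d.ε ▷ P) ≫ (λ_ P).hom)

lemma κ_naturality {P P' : DRing.Cx R} (hP : IsKFlat P) (hP' : IsKFlat P') (f : P ⟶ P') :
    Q.map ((resCx φ).map (d.Xmap f)) ≫ d.κ P' hP' = d.κ P hP ≫ Q.map f := by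
  haveI := d.quasiIso_s_whiskerRight P hP
  haveI := d.quasiIso_s_whiskerRight P' hP'
  dsimp only [κ]
  rw [← Category.assoc, ← Functor.map_comp, pfSwap_naturality, Functor.map_comp, Category.assoc,
    Category.assoc, Category.assoc]
  congr 1
  -- move `N|_R ◁ f` across the inverse
  have h1 : Q.map ((resCx φ).obj d.N ◁ f) ≫ inv (Q.map (d.s ▷ P')) =
      inv (Q.map (d.s ▷ P)) ≫ Q.map (d.N' ◁ f) := by
    rw [IsIso.comp_inv_eq, Category.assoc, IsIso.eq_inv_comp, ← Functor.map_comp,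
      ← Functor.map_comp, whisker_exchange]
  rw [← Category.assoc, h1, Category.assoc]
  congr 1
  rw [← Functor.map_comp, ← Functor.map_comp]
  congr 1
  rw [← Category.assoc, whisker_exchange, Category.assoc, Category.assoc,
    MonoidalCategory.leftUnitor_naturality]

end Data

/-! ### Derived level -/

variable [HasLTenMix φ]

variable (φ) in
/-- `F' = - ⊗^L_R M`, `M = RHom(A, R)` -/
noncomputable abbrev F' : Dual.D R ⥤ Dual.D A :=
  (Functor.curry.obj (LTenMix φ)).flip.obj ((RHomRel φ).obj (unit R))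

lemma F'_map {K K' : Dual.D R} (f : K ⟶ K') :
    (F' φ).map f = (LTenMix φ).map (X := (K, (RHomRel φ).obj (unit R)))
      (Y := (K', (RHomRel φ).obj (unit R))) (f, 𝟙 _) := rfl

namespace Data

/-- `F' (Q P) ≅ Q (X P)` for `P` K-flat -/
noncomputable def α (P : DRing.Cx R) (hP : IsKFlat P) : (F' φ).obj (Q.obj P) ≅ Q.obj (d.X P) :=
  haveI := isIso_εMix_right φ P d.N hP d.hNf
  (LTenMix φ).mapIso (Iso.prod (Iso.refl (Q.obj P)) d.eM.symm) ≪≫ asIso ((εMix φ).app (P, d.N))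

lemma α_hom (P : DRing.Cx R) (hP : IsKFlat P) :
    (d.α P hP).hom = (LTenMix φ).map (X := (Q.obj P, (RHomRel φ).obj (unit R)))
      (Y := (Q.obj P, Q.obj d.N)) (𝟙 _, d.eM.inv) ≫ (εMix φ).app (P, d.N) := rfl

lemma α_naturality {P P' : DRing.Cx R} (hP : IsKFlat P) (hP' : IsKFlat P') (f : P ⟶ P') :
    (F' φ).map (Q.map f) ≫ (d.α P' hP').hom = (d.α P hP).hom ≫ Q.map (d.Xmap f) := by
  rw [α_hom, α_hom, F'_map, ← Category.assoc, ← Functor.map_comp]
  have e1 : ((Q.map f, 𝟙 ((RHomRel φ).obj (unit R))) :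
        ((Q.obj P, (RHomRel φ).obj (unit R)) : Dual.D R × Dual.D A) ⟶
          (Q.obj P', (RHomRel φ).obj (unit R))) ≫
      ((𝟙 (Q.obj P'), d.eM.inv) : ((Q.obj P', (RHomRel φ).obj (unit R)) : Dual.D R × Dual.D A) ⟶
          (Q.obj P', Q.obj d.N)) =
      ((𝟙 (Q.obj P), d.eM.inv) : ((Q.obj P, (RHomRel φ).obj (unit R)) : Dual.D R × Dual.D A) ⟶
          (Q.obj P, Q.obj d.N)) ≫
        (QMix R A).map (X := (P, d.N)) (Y := (P', d.N)) (f, 𝟙 d.N) := by
    refine Prod.ext ?_ ?_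
    · change Q.map f ≫ 𝟙 _ = 𝟙 _ ≫ Q.map f
      rw [Category.comp_id, Category.id_comp]
    · change 𝟙 _ ≫ d.eM.inv = d.eM.inv ≫ Q.map (𝟙 d.N)
      rw [CategoryTheory.Functor.map_id, Category.id_comp, Category.comp_id]
  rw [e1, Functor.map_comp, Category.assoc, Category.assoc]
  congr 1
  exact (εMix φ).naturality (X := (P, d.N)) (Y := (P', d.N)) (f, 𝟙 d.N)

/-- the evaluation `(F' (Q P))|_R ⟶ Q P` for `P` K-flat -/
noncomputable def c₀ (P : DRing.Cx R) (hP : IsKFlat P) :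
    (DRing.restrictD φ).obj ((F' φ).obj (Q.obj P)) ⟶ Q.obj P :=
  (DRing.restrictD φ).map (d.α P hP).hom ≫ (resFactors φ).hom.app (d.X P) ≫ d.κ P hP

lemma c₀_naturality {P P' : DRing.Cx R} (hP : IsKFlat P) (hP' : IsKFlat P') (f : P ⟶ P') :
    (DRing.restrictD φ).map ((F' φ).map (Q.map f)) ≫ d.c₀ P' hP' = d.c₀ P hP ≫ Q.map f := by
  dsimp only [c₀]
  rw [← Category.assoc, ← Functor.map_comp, α_naturality d hP hP' f, Functor.map_comp,
    Category.assoc, Category.assoc, Category.assoc, ← κ_naturality d hP hP' f]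
  congr 1
  rw [← Category.assoc, ← Category.assoc]
  congr 1
  exact (resFactors φ).hom.naturality (d.Xmap f)

end Data

end Groth.Agent.Lib.MixZig35
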