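import Groth.Agent.Lib.ModSubLC22g
import Groth.Agent.Lib.ARSysDescent22
import Groth.Agent.Lib.EtConstr22f

/-!
# AR-adic systems of constructible sheaves of modules: locality (helper22)

* `isARAdicConstr_iff`: for a system of constructible sheaves on a Noetherian scheme, being AR-adic
  with constructible adic approximation is the same as being AR-adic;
* `isZero_of_isZero_pull`: inverse images along a jointly surjective family detect zero sheaves;
* `isARAdicConstr_of_pull_family`: a termwise killed system of constructible sheaves which becomes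
  AR-adic after inverse image along a finite jointly surjective family of morphisms from Noetherian
  schemes is AR-adic.
-/

set_option autoImplicit false
set_option linter.style.haveILetI false
set_option linter.unusedSectionVars false
universe u

open CategoryTheory AlgebraicGeometry Limits MorphismProperty Opposite Topology

namespace Groth.Agent.Lib.ModSubLC22

open Groth.Agent.Lib.ModConst22 Groth.Agent.Lib.EtOverSite22 Groth.Agent.Lib.EtLocConst22
  Groth.Agent.Lib.EtLCKer22 Groth.Agent.Lib.EtExt22 Groth.Agent.Lib.EtConst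
  Groth.Agent.Lib.EtModStalk22 Groth.Agent.Lib.EtConstr22

variable {Λ : Type (u + 1)} [CommRing Λ] [IsNoetherianRing Λ]

open scoped ZeroObject

/-- The statement-level notion: AR-adic with an adic approximation by constructible sheaves. -/
def IsARAdicConstr (I : Ideal Λ) {X : Scheme.{u}} (F : ARSys.PS (EtModW.Mod Λ X)) : Prop :=
  ARSys.TermKilled I F ∧ ∃ (Y : ARSys.PS (EtModW.Mod Λ X)) (v : Y ⟶ F),
    ARSys.IsAdic I Y ∧ (∀ n : ℕ, EtModW.IsConstructible Λ (Y.obj (op n))) ∧ ARSys.IsARIso v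

theorem isARAdicConstr_iff (I : Ideal Λ) {X : Scheme.{u}} [IsNoetherian X]
    (F : ARSys.PS (EtModW.Mod Λ X)) (hc : ∀ n : ℕ, EtModW.IsConstructible Λ (F.obj (op n))) :
    IsARAdicConstr I F ↔ ARSys.IsARAdic I F := by
  constructor
  · rintro ⟨tk, Y, v, hY, -, hv⟩
    exact ⟨tk, Y, v, hY, hv⟩
  · rintro ⟨tk, Y, v, hY, hv⟩
    refine ⟨tk, Y, v, hY, ?_, hv⟩
    exact prop_of_kerNull_of_isStrict (fun A => EtModW.IsConstructible Λ A)
      (fun i _ h => isConstructibleMod_of_mono i h) (fun p _ h => isConstructibleMod_of_epi p h)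
      v hv.1 (fun n m h => Groth.Agent.Lib.ARSysBasic.IsQuot.epi (hY.2 n m h)) hc

theorem isARAdicNoeth_of_isARAdicConstr (I : Ideal Λ) {X : Scheme.{u}} [IsNoetherian X]
    (F : ARSys.PS (EtModW.Mod Λ X)) (hc : ∀ n : ℕ, EtModW.IsConstructible Λ (F.obj (op n)))
    (h : IsARAdicConstr I F) : ARSys.IsARAdicNoeth I F :=
  ⟨(isARAdicConstr_iff I F hc).1 h, fun n => isNoetherianObject_of_isConstructibleM (hc n)⟩

/-- Inverse images are linear. -/
theorem pull_map_smul {T X : Scheme.{u}} (g : T ⟶ X) {Z W : EtModW.Mod Λ X} (a : Λ) (f : Z ⟶ W) :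
    (EtModW.pull Λ g).map (a • f) = a • (EtModW.pull Λ g).map f := by
  let adj : EtModW.pull Λ g ⊣ EtModW.push Λ g :=
    (EtCoh.bc g).sheafAdjunctionContinuous (ModuleCat.{u + 1} Λ) X.smallEtaleTopology
      T.smallEtaleTopology
  have hR : ∀ {F G : EtModW.Mod Λ T} (a : Λ) (φ : F ⟶ G),
      (EtModW.push Λ g).map (a • φ) = a • (EtModW.push Λ g).map φ := fun a φ => rfl
  exact Groth.Agent.Lib.AdjLinear22.map_smul_of_rightAdjoint_linear adj hR a f

/-- Inverse images along a jointly surjective family detect zero sheaves. -/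
theorem isZero_of_isZero_pull {X : Scheme.{u}} (Z : EtModW.Mod Λ X)
    (h : ∀ x : X, ∃ (T : Scheme.{u}) (g : T ⟶ X), x ∈ Set.range g ∧
      IsZero ((EtModW.pull Λ g).obj Z)) : IsZero Z := by
  have hiso : IsIso (0 : Z ⟶ 0) := by
    apply isIso_of_isIso_pullM
    intro x
    obtain ⟨T, g, hx, hz⟩ := h x
    refine ⟨T, g, hx, ?_⟩
    have hz' : IsZero ((pullA (MC.{u} Λ) g).obj (0 : EtModW.Mod Λ X)) :=
      Functor.map_isZero _ (isZero_zero _)
    exact ⟨0, hz.eq_of_src _ _, hz'.eq_of_src _ _⟩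
  exact (isZero_zero _).of_iso (asIso (0 : Z ⟶ 0))

/-- Locality of AR-adicity for systems of constructible sheaves. -/
theorem isARAdicConstr_of_pull_family (I : Ideal Λ) {X : Scheme.{u}} [IsNoetherian X]
    {ι : Type} [Fintype ι] (T : ι → Scheme.{u}) [∀ i, IsNoetherian (T i)] (g : ∀ i, T i ⟶ X)
    (hsurj : ∀ x : X, ∃ i, x ∈ Set.range (g i))
    (F : ARSys.PS (EtModW.Mod Λ X)) (hc : ∀ n : ℕ, EtModW.IsConstructible Λ (F.obj (op n)))
    (hk : ARSys.TermKilled I F)
    (h : ∀ i, IsARAdicConstr I (F ⋙ EtModW.pull Λ (g i))) : IsARAdicConstr I F := by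
  rw [isARAdicConstr_iff I F hc]
  have hI : I.FG := IsNoetherian.noetherian I
  refine Groth.Agent.Lib.ARSysDescent22.isARAdic_of_whisker
    (D := fun i => EtModW.Mod Λ (T i)) (fun i => EtModW.pull Λ (g i)) (P := fun _ => True)
    ⟨fun _ _ => trivial, fun _ _ _ => trivial, fun _ _ _ => trivial⟩ ?_ I ?_ ?_ hI F
    (fun _ => trivial) hk ?_
  · intro Z _ hZ
    apply isZero_of_isZero_pull Z
    intro x
    obtain ⟨i, hi⟩ := hsurj x
    exact ⟨T i, g i, hi, hZ i⟩
  · intro i Z W a f
    exact pull_map_smul (g i) a f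
  · intro Z _ k
    obtain ⟨Q, p, hp⟩ := Groth.Agent.Lib.ARSysQuot.exists_isQuot I (Or.inl hI) k Z
    exact ⟨Q, p, hp, trivial⟩
  · intro i
    exact isARAdicNoeth_of_isARAdicConstr I _
      (fun n => isConstructibleMod_pull Λ (g i) (hc n)) (h i)

end Groth.Agent.Lib.ModSubLC22
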