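import Groth.Agent.Lib.ModARDescent22
import Groth.Agent.Lib.EtModStalk22d

/-!
# Finite type locally constant sheaves of modules on a connected scheme (helper22)

* `isZero_of_isFTLC_of_isZero_stalk`: on a connected scheme a finite type locally constant sheaf of
  modules with one vanishing geometric stalk is zero;
* `IsQuot.nonempty_iso`: quotients modulo an ideal are unique;
* `exists_isQuot_isFTLC`: the quotient of a finite type locally constant sheaf modulo an ideal is
  finite type locally constant;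
* `isNoetherianObject_of_finite`: finitely generated modules over a Noetherian ring are Noetherian
  objects;
* `isARAdicConstr_of_stalk`: a system of finite type locally constant (and constructible) sheaves on
  a connected Noetherian scheme is AR-adic as soon as one stalk system is.
-/

set_option autoImplicit false
set_option linter.style.haveILetI false
set_option linter.unusedSectionVars false
universe u

open CategoryTheory AlgebraicGeometry Limits MorphismProperty Opposite Topology

namespace Groth.Agent.Lib.ModSubLC22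

open Groth.Agent.Lib.ModConst22 Groth.Agent.Lib.EtOverSite22 Groth.Agent.Lib.EtLocConst22
  Groth.Agent.Lib.EtLCKer22 Groth.Agent.Lib.EtExt22 Groth.Agent.Lib.EtConst
  Groth.Agent.Lib.EtModStalk22 Groth.Agent.Lib.EtConstr22 Groth.Agent.Lib.EtGerm
  Groth.Agent.Lib.EtStalkConservative

section Quot

universe w v₁ u₁
variable {C : Type u₁} [Category.{v₁} C] [Abelian C] {A : Type w} [CommRing A] [Linear A C]

open ARSys Groth.Agent.Lib.ARSysBasic Groth.Agent.Lib.ARSysExact in
/-- Quotients modulo an ideal are unique up to isomorphism. -/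
theorem IsQuot.nonempty_iso {I : Ideal A} {X X' Q Q' : C} (e : X ≅ X') {p : X ⟶ Q} {p' : X' ⟶ Q'}
    (hp : IsQuot I p) (hp' : IsQuot I p') : Nonempty (Q ≅ Q') := by
  obtain ⟨ψ, hψ⟩ := IsQuot.exists_fac hp (e.hom ≫ p') (homKilledBy_of_killedBy _ hp'.1)
  obtain ⟨ψ', hψ'⟩ := IsQuot.exists_fac hp' (e.inv ≫ p) (homKilledBy_of_killedBy _ hp.1)
  have := IsQuot.epi hp
  have := IsQuot.epi hp'
  refine ⟨⟨ψ, ψ', ?_, ?_⟩⟩
  · rw [← cancel_epi p, reassoc_of% hψ, hψ', e.hom_inv_id_assoc, Category.comp_id]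
  · rw [← cancel_epi p', reassoc_of% hψ', hψ, e.inv_hom_id_assoc, Category.comp_id]

end Quot

variable {Λ : Type (u + 1)} [CommRing Λ]

/-- On a connected scheme, a finite type locally constant sheaf of modules with one vanishing
geometric stalk is zero. -/
theorem isZero_of_isFTLC_of_isZero_stalk {T : Scheme.{u}} [ConnectedSpace T]
    (G : EtModW.Mod Λ T) (hG : EtModW.IsFTLocConst Λ G) {Ω : Type u} [Field Ω] [IsSepClosed Ω]
    (ξ : Spec (CommRingCat.of Ω) ⟶ T) (hz : IsZero ((EtModW.stalk Λ ξ).obj G)) : IsZero G := by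
  obtain ⟨ι, U, hU, h⟩ := (isLC_iff_pull G).1 ((isFTLC_iff_isLC Λ G).1 hG)
  choose M hM hα using h
  have key : ∀ (i : ι) (Ω' : Type u) [Field Ω'] [IsSepClosed Ω']
      (ξ' : Spec (CommRingCat.of Ω') ⟶ T) (v : (U i).left), (U i).hom v = ξ' default →
      Nonempty ((EtModW.stalk Λ ξ').obj G ≅ M i) := by
    intro i Ω' _ _ ξ' v hv
    obtain ⟨α⟩ := hα i
    exact nonempty_stalk_iso_of_pull_isoM G (U i) (M i) α ξ' v hv
  let Z0 : Set T := {t | IsZero ((EtModW.stalk Λ (stdPt t)).obj G)}
  have hmem : ∀ (i : ι) (v : (U i).left), (U i).hom v ∈ Z0 ↔ IsZero (M i) := by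
    intro i v
    obtain ⟨e⟩ := key i _ (stdPt ((U i).hom v)) v (stdPt_default _).symm
    exact ⟨fun h => h.of_iso e.symm, fun h => h.of_iso e⟩
  have hclopen : IsClopen Z0 := by
    constructor
    · rw [← isOpen_compl_iff, isOpen_iff_forall_mem_open]
      intro t ht
      obtain ⟨i, v, hv⟩ := hU t
      refine ⟨Set.range (U i).hom, ?_, (homX (U i)).isOpenMap.isOpen_range, ⟨v, hv⟩⟩
      rintro _ ⟨v', rfl⟩
      have h1 : (U i).hom v ∉ Z0 := by
        have : (U i).hom v = t := hv
        rw [this]; exact ht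
      rw [hmem] at h1
      show (U i).hom v' ∉ Z0
      rw [hmem]
      exact h1
    · rw [isOpen_iff_forall_mem_open]
      intro t ht
      obtain ⟨i, v, hv⟩ := hU t
      refine ⟨Set.range (U i).hom, ?_, (homX (U i)).isOpenMap.isOpen_range, ⟨v, hv⟩⟩
      rintro _ ⟨v', rfl⟩
      have h1 : (U i).hom v ∈ Z0 := by
        have : (U i).hom v = t := hv
        rw [this]; exact ht
      rw [hmem] at h1
      show (U i).hom v' ∈ Z0
      rw [hmem]
      exact h1
  have hne : Z0.Nonempty := by
    obtain ⟨i, v, hv⟩ := hU (ξ default)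
    obtain ⟨e⟩ := key i Ω ξ v hv
    exact ⟨(U i).hom v, (hmem i v).2 (hz.of_iso e.symm)⟩
  have huniv : Z0 = Set.univ := hclopen.eq_univ hne
  apply isZero_of_forall_stalkM
  intro x
  have : x ∈ Z0 := huniv ▸ Set.mem_univ x
  exact this

/-- Constant sheaves of modules: the constant sheaf functor is a left adjoint of a linear functor,
so it preserves quotients modulo an ideal. -/
theorem isQuot_constM {T : Scheme.{u}} (I : Ideal Λ) {M N : MC.{u} Λ} (q : M ⟶ N)
    (hq : ARSys.IsQuot I q) :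
    ARSys.IsQuot I ((constantSheaf T.smallEtaleTopology (MC.{u} Λ)).map q) := by
  let adj := constantSheafAdj T.smallEtaleTopology (MC.{u} Λ) (topIsTerminal' T)
  have hR : ∀ {F G : EtModW.Mod Λ T} (a : Λ) (φ : F ⟶ G),
      ((sheafSections T.smallEtaleTopology (MC.{u} Λ)).obj (op (EtCoh.top T))).map (a • φ) =
        a • ((sheafSections T.smallEtaleTopology (MC.{u} Λ)).obj (op (EtCoh.top T))).map φ :=
    fun a φ => rfl
  exact Groth.Agent.Lib.AdjLinear22.isQuot_map_leftAdjoint adj hR I q hq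

theorem isQuot_pull {T X : Scheme.{u}} (g : T ⟶ X) (I : Ideal Λ) {Z Q : EtModW.Mod Λ X}
    (p : Z ⟶ Q) (hp : ARSys.IsQuot I p) : ARSys.IsQuot I ((EtModW.pull Λ g).map p) := by
  let adj : EtModW.pull Λ g ⊣ EtModW.push Λ g :=
    (EtCoh.bc g).sheafAdjunctionContinuous (ModuleCat.{u + 1} Λ) X.smallEtaleTopology
      T.smallEtaleTopology
  have hR : ∀ {F G : EtModW.Mod Λ T} (a : Λ) (φ : F ⟶ G),
      (EtModW.push Λ g).map (a • φ) = a • (EtModW.push Λ g).map φ := fun a φ => rfl
  exact Groth.Agent.Lib.AdjLinear22.isQuot_map_leftAdjoint adj hR I p hp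

variable [IsNoetherianRing Λ]

/-- The quotient of a finite type locally constant sheaf modulo a power of an ideal is finite type
locally constant. -/
theorem exists_isQuot_isFTLC {X : Scheme.{u}} (I : Ideal Λ) (Z : EtModW.Mod Λ X)
    (hZ : EtModW.IsFTLocConst Λ Z) (k : ℕ) :
    ∃ (Q : EtModW.Mod Λ X) (p : Z ⟶ Q), ARSys.IsQuot (I ^ k) p ∧ EtModW.IsFTLocConst Λ Q := by
  have hI : I.FG := IsNoetherian.noetherian I
  obtain ⟨Q, p, hp⟩ := Groth.Agent.Lib.ARSysQuot.exists_isQuot I (Or.inl hI) k Z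
  refine ⟨Q, p, hp, ?_⟩
  obtain ⟨ι, U, hU, h⟩ := (isLC_iff_pull Z).1 ((isFTLC_iff_isLC Λ Z).1 hZ)
  refine isFTLC_of_cover Λ U hU (fun i => ?_)
  obtain ⟨M, hM, ⟨α⟩⟩ := h i
  obtain ⟨N, q, hq⟩ := Groth.Agent.Lib.ARSysQuot.exists_isQuot I (Or.inl hI) k M
  have hN : PFT Λ N := by
    haveI : Module.Finite Λ M := hM
    have hepi : Epi q := Groth.Agent.Lib.ARSysBasic.IsQuot.epi hq
    exact Module.Finite.of_surjective q.hom ((ModuleCat.epi_iff_surjective q).1 hepi)
  obtain ⟨e⟩ := IsQuot.nonempty_iso α (isQuot_pull (homX (U i)) (I ^ k) p hp)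
    (isQuot_constM (T := (U i).left) (I ^ k) q hq)
  exact (isFTLC_iff_isLC Λ _).2 ((isLC_constM N hN).of_iso e.symm)

/-- Finitely generated modules over a Noetherian ring are Noetherian objects. -/
theorem isNoetherianObject_of_finite (M : ModuleCat.{u + 1} Λ) [Module.Finite Λ M] :
    IsNoetherianObject M := by
  rw [isNoetherianObject_iff_monotone_chain_condition]
  intro f
  have hN : IsNoetherian Λ M := isNoetherian_of_isNoetherianRing_of_finite Λ M
  let g : ℕ →o Submodule Λ M := (M.subobjectModule.toOrderEmbedding.toOrderHom).comp f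
  obtain ⟨n, hn⟩ := (monotone_stabilizes_iff_noetherian.mpr hN) g
  refine ⟨n, fun m hm => ?_⟩
  exact M.subobjectModule.injective (hn m hm)

/-- A system of finite type locally constant constructible sheaves on a connected Noetherian
scheme is AR-adic as soon as one of its stalk systems is. -/
theorem isARAdicConstr_of_stalk (I : Ideal Λ) {X : Scheme.{u}} [IsNoetherian X] [ConnectedSpace X]
    (F : ARSys.PS (EtModW.Mod Λ X)) (hc : ∀ n : ℕ, EtModW.IsConstructible Λ (F.obj (op n)))
    (hl : ∀ n : ℕ, EtModW.IsFTLocConst Λ (F.obj (op n))) (hk : ARSys.TermKilled I F)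
    {Ω : Type u} [Field Ω] [IsSepClosed Ω] (s : Spec (CommRingCat.of Ω) ⟶ X)
    (h : ARSys.IsARAdic I (F ⋙ EtModW.stalk Λ s)) : IsARAdicConstr I F := by
  rw [isARAdicConstr_iff I F hc]
  have hI : I.FG := IsNoetherian.noetherian I
  refine Groth.Agent.Lib.ARSysDescent22.isARAdic_of_whisker (ι := Unit)
    (D := fun _ => ModuleCat.{u + 1} Λ) (fun _ => EtModW.stalk Λ s)
    (P := fun Z => EtModW.IsFTLocConst Λ Z)
    ⟨fun e h => isFTLC_of_iso Λ e h, fun φ h1 h2 => isFTLC_kernel φ h1 h2,
      fun φ h1 h2 => isFTLC_cokernel φ h1 h2⟩ ?_ I ?_ ?_ hI F hl hk ?_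
  · intro Z hZ h0
    exact isZero_of_isFTLC_of_isZero_stalk Z hZ s (h0 ())
  · intro _ Z W a f
    exact Groth.Agent.Lib.AdjLinear22.map_smul_of_rightAdjoint_linear (stalkAdj s)
      (fun a f => skyscraperM_map_smul s a f) a f
  · intro Z hZ k
    exact exists_isQuot_isFTLC I Z hZ k
  · intro _
    refine ⟨h, fun n => ?_⟩
    haveI : Module.Finite Λ ((EtModW.stalk Λ s).obj (F.obj (op n))) :=
      finite_stalk_of_isFTLC _ (hl n) s
    exact isNoetherianObject_of_finite ((EtModW.stalk Λ s).obj (F.obj (op n)))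

end Groth.Agent.Lib.ModSubLC22
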