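import Groth.Agent.Lib.ModSubLC22g
import Groth.Agent.Lib.ARSysPres22
import Groth.Agent.Lib.EtStrat22
import Groth.Agent.Lib.ModFTLCStalk22

/-!
# Uniform stratification for an adic system of constructible sheaves of modules (helper22)

* `isLC_biproduct_constM`: a finite constant sum of a finite type locally constant sheaf of modules
  is finite type locally constant;
* `exists_uniform_strataM`: on a Noetherian scheme, for a Noetherian coefficient ring `Λ` and any
  ideal `I`, an `I`-adic system of constructible sheaves of `Λ`-modules admits a single finite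
  stratification along which every member is finite type locally constant.
-/

set_option autoImplicit false
set_option linter.style.haveILetI false
set_option linter.unusedSectionVars false
universe u

open CategoryTheory AlgebraicGeometry Limits MorphismProperty Opposite Topology

namespace Groth.Agent.Lib.ModSubLC22

open Groth.Agent.Lib.ModConst22 Groth.Agent.Lib.EtOverSite22 Groth.Agent.Lib.EtLocConst22
  Groth.Agent.Lib.EtLCKer22 Groth.Agent.Lib.EtExt22 Groth.Agent.Lib.EtConst
  Groth.Agent.Lib.EtModStalk22 Groth.Agent.Lib.EtConstr22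

variable {Λ : Type (u + 1)} [CommRing Λ]

attribute [local instance] Abelian.hasFiniteBiproducts

instance additive_constantSheafM (T : Scheme.{u}) :
    (constantSheaf T.smallEtaleTopology (MC.{u} Λ)).Additive := by
  haveI : PreservesColimitsOfSize.{0, 0} (constantSheaf T.smallEtaleTopology (MC.{u} Λ)) :=
    (constantSheafAdj T.smallEtaleTopology (MC.{u} Λ) (topIsTerminal' T)).leftAdjoint_preservesColimits
  haveI : PreservesFiniteColimits (constantSheaf T.smallEtaleTopology (MC.{u} Λ)) :=
    PreservesColimitsOfSize.preservesFiniteColimits _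
  haveI : PreservesBinaryBiproducts (constantSheaf T.smallEtaleTopology (MC.{u} Λ)) :=
    preservesBinaryBiproducts_of_preservesBinaryCoproducts _
  exact Functor.additive_of_preservesBinaryBiproducts _

theorem pft_biproduct_const (M : MC.{u} Λ) (hM : PFT Λ M) (ι : Type) [Finite ι] :
    PFT Λ (⨁ fun _ : ι => M) := by
  haveI : Module.Finite Λ M := hM
  have e := ModuleCat.biproductIsoPi (fun _ : ι => M)
  haveI : Module.Finite Λ (ModuleCat.of Λ (∀ _ : ι, M)) :=
    inferInstanceAs (Module.Finite Λ (∀ _ : ι, M))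
  exact Module.Finite.equiv e.symm.toLinearEquiv

/-- A finite constant sum of a finite type locally constant sheaf is finite type locally constant. -/
theorem isLC_biproduct_constM [IsNoetherianRing Λ] {T : Scheme.{u}} {F : EtModW.Mod Λ T}
    (hF : IsLC (MC.{u} Λ) (PFT Λ) F) (ι : Type) [Finite ι] :
    IsLC (MC.{u} Λ) (PFT Λ) (⨁ fun _ : ι => F) := by
  haveI := Fintype.ofFinite ι
  obtain ⟨κ, U, hU, h⟩ := (isLC_iff_pull F).1 hF
  rw [isLC_iff_pull]
  refine ⟨κ, U, hU, fun k => ?_⟩
  obtain ⟨M, hM, ⟨α⟩⟩ := h k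
  let p := pullA (MC.{u} Λ) (homX (U k))
  refine ⟨⨁ fun _ : ι => M, pft_biproduct_const M hM ι, ⟨?_⟩⟩
  exact p.mapBiproduct (fun _ : ι => F) ≪≫ biproduct.mapIso (fun _ => α) ≪≫
    ((constantSheaf (U k).left.smallEtaleTopology (MC.{u} Λ)).mapBiproduct (fun _ : ι => M)).symm

variable [IsNoetherianRing Λ]

open Groth.Agent.Lib.ARSysDescent22 (Adm) in
/-- Local constancy after inverse image is closed under kernels and cokernels. -/
theorem adm_isLC_pull {T X : Scheme.{u}} (g : T ⟶ X) :
    Adm (fun Z : EtModW.Mod Λ X => IsLC (MC.{u} Λ) (PFT Λ) ((pullA (MC.{u} Λ) g).obj Z)) := by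
  let p := pullA (MC.{u} Λ) g
  refine ⟨fun e h => h.of_iso (p.mapIso e), fun φ h1 h2 => ?_, fun φ h1 h2 => ?_⟩
  · have e1 : p.obj (kernel φ) ≅ kernel (p.map φ) := PreservesKernel.iso p φ
    exact (isLC_ker_cokerM (p.map φ) h1 h2).1.of_iso e1.symm
  · have e1 : p.obj (cokernel φ) ≅ cokernel (p.map φ) := PreservesCokernel.iso p φ
    exact (isLC_ker_cokerM (p.map φ) h1 h2).2.of_iso e1.symm

/-- Finite constant sums of constructible sheaves of modules are constructible. -/
theorem isConstructibleMod_biproduct_const {X : Scheme.{u}} {F : EtModW.Mod Λ X}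
    (hF : EtModW.IsConstructible Λ F) (ι : Type) [Finite ι] :
    EtModW.IsConstructible Λ (⨁ fun _ : ι => F) := by
  haveI := Fintype.ofFinite ι
  have hF' := (isConstructibleMod_iff Λ F).1 hF
  refine (isConstructibleMod_iff Λ _).2 (IsConstructibleA.of_pair hF' hF' fun _ g h1 _ => ?_)
  let p := pullA (MC.{u} Λ) g
  exact (isLC_biproduct_constM h1 ι).of_iso (p.mapBiproduct (fun _ : ι => F)).symm

open Groth.Agent.Lib.ARSysPres22 Groth.Agent.Lib.GrGen22 in
/-- Uniform stratification for an adic system of constructible sheaves of modules. -/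
theorem exists_uniform_strataM (I : Ideal Λ) (X : Scheme.{u}) [IsNoetherian X]
    (F : ARSys.PS (EtModW.Mod Λ X)) (hF : ARSys.IsAdic I F)
    (hc : EtModW.IsConstructible Λ (F.obj (op 0))) :
    Strat (Set.univ : Set X)
      (fun _ g => ∀ n : ℕ, IsLC (MC.{u} Λ) (PFT Λ) ((pullA (MC.{u} Λ) g).obj (F.obj (op n)))) := by
  have hI : I.FG := IsNoetherian.noetherian I
  obtain ⟨r, b, hspan⟩ := Submodule.fg_iff_exists_fin_generating_family.1 hI
  have hspan' : Ideal.span (Set.range b) = I := hspan
  have hb : ∀ j, b j ∈ I := fun j => hspan' ▸ Ideal.subset_span ⟨j, rfl⟩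
  have h0N : IsNoetherianObject (F.obj (op 0)) := isNoetherianObject_of_isConstructibleM hc
  obtain ⟨i₀, hbound⟩ := exists_bound_pres I F hF b hb h0N
  -- the kernels of the presentation are constructible
  have hP : ∀ q, EtModW.IsConstructible Λ (Pq (r := r) (F.obj (op 0)) q) := fun q =>
    isConstructibleMod_biproduct_const hc _
  have hK : ∀ q, EtModW.IsConstructible Λ ((K I F hF b hb q : Subobject _) : EtModW.Mod Λ X) :=
    fun q => isConstructibleMod_of_mono (K I F hF b hb q).arrow (hP q)
  -- common stratification for `F_0, K_0, …, K_{i₀}`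
  let Q : Fin (i₀ + 1 + 1) → ∀ T : Scheme.{u}, (T ⟶ X) → Prop := Fin.cases
    (fun T g => IsLC (MC.{u} Λ) (PFT Λ) ((pullA (MC.{u} Λ) g).obj (F.obj (op 0))))
    (fun j T g => IsLC (MC.{u} Λ) (PFT Λ)
      ((pullA (MC.{u} Λ) g).obj ((K I F hF b hb j.1 : Subobject _) : EtModW.Mod Λ X)))
  have hQs : ∀ j, StablePre (Q j) := by
    intro j
    refine Fin.cases ?_ (fun j => ?_) j
    · exact stablePre_isLC _
    · exact stablePre_isLC _
  have hQ : ∀ j, Strat (Set.univ : Set X) (Q j) := by
    intro j
    refine Fin.cases ?_ (fun j => ?_) j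
    · exact (isConstructibleA_iff_strataA_univ _).1 ((isConstructibleMod_iff Λ _).1 hc)
    · exact (isConstructibleA_iff_strataA_univ _).1 ((isConstructibleMod_iff Λ _).1 (hK j.1))
  refine (Strat.finite_family Strat.trivial Q hQs hQ).mono fun T g hg => ?_
  have h0 : IsLC (MC.{u} Λ) (PFT Λ) ((pullA (MC.{u} Λ) g).obj (F.obj (op 0))) := hg 0
  have hKm : ∀ q, q ≤ i₀ → IsLC (MC.{u} Λ) (PFT Λ)
      ((pullA (MC.{u} Λ) g).obj ((K I F hF b hb q : Subobject _) : EtModW.Mod Λ X)) :=
    fun q hq => hg (Fin.succ ⟨q, Nat.lt_succ_of_le hq⟩)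
  let p := pullA (MC.{u} Λ) g
  intro n
  refine prop_of_bound I F hF b hb hspan' (adm_isLC_pull g) ?_ ?_ i₀ hbound h0 hKm n
  · intro S hS h1 h3
    exact isLC_of_extM (S.map p) (hS.map_of_exact p) h1 h3
  · intro Z hZ ι _
    haveI := Fintype.ofFinite ι
    exact (isLC_biproduct_constM hZ ι).of_iso (p.mapBiproduct (fun _ : ι => Z)).symm

end Groth.Agent.Lib.ModSubLC22
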