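import Groth.Agent.Lib.ModShriek
import Groth.Prelude.Def_ModSite2

/-!
# The counit `j_! j^* F ⟶ F` is a monomorphism for a subterminal object (helper65)
-/

universe u
open CategoryTheory Opposite Limits DirectSum

attribute [local instance] Classical.propDecidable

namespace Groth.Agent.Lib.ModCounitMono65

open Groth.Agent.Lib.ModShriekPre Groth.Agent.Lib.ModShriek

section Pre

variable {C : Type u} [SmallCategory C] {R : Cᵒᵖ ⥤ RingCat.{u}} {X : C}

lemma sumMap_injective (hX : ∀ V : C, Subsingleton (V ⟶ X)) (N' : PresheafOfModules.{u} R) (V : C) :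
    Function.Injective (sumMap (X := X) N' V) := by
  rw [injective_iff_map_eq_zero]
  intro m hm
  have := hX V
  by_cases h : Nonempty (V ⟶ X)
  · obtain ⟨φ⟩ := h
    have hm' : m = DirectSum.of (fun ψ : V ⟶ X => summand ((restr R X).obj N') ψ) φ (m φ) := by
      refine DFinsupp.ext (fun ψ => ?_)
      obtain rfl : ψ = φ := Subsingleton.elim _ _
      exact (DirectSum.of_eq_same _ _).symm
    rw [hm', sumMap_of, toN_apply] at hm
    rw [hm', hm]
    exact map_zero (DirectSum.of (fun ψ : V ⟶ X => summand ((restr R X).obj N') ψ) φ)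
  · refine DFinsupp.ext (fun ψ => (h ⟨ψ⟩).elim)

lemma mono_counitApp (hX : ∀ V : C, Subsingleton (V ⟶ X)) (N' : PresheafOfModules.{u} R) :
    Mono (counitApp (X := X) N') := by
  apply PresheafOfModules.mono_of_injective
  intro V
  exact sumMap_injective hX N' V.unop

end Pre

section Sheaf

variable {C : Type u} [SmallCategory C] (J : GrothendieckTopology C) (R : Sheaf J RingCat.{u}) (X : C)

/-- the identity morphism of ringed sites `(C/X, R|_X) ⟶ (C, R)` -/
abbrev φX : R.over X ⟶ ((Over.forget X).sheafPushforwardContinuous RingCat.{u} (J.over X) J).obj R :=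
  𝟙 (R.over X)

lemma counit_adjC (F : SheafOfModules.{u} R) :
    (SheafOfModules.PullbackConstruction.adjunction.{u} (φX J R X)).counit.app F =
      (PresheafOfModules.sheafification.{u} (𝟙 R.obj)).map
        ((PresheafOfModules.pullbackPushforwardAdjunction.{u} (φX J R X).hom).counit.app F.val) ≫
        (PresheafOfModules.sheafificationAdjunction.{u} (𝟙 R.obj)).counit.app F := by
  rw [SheafOfModules.PullbackConstruction.adjunction, Adjunction.mkOfHomEquiv_counit_app]
  dsimp only [Equiv.invFun_as_coe, Equiv.symm_trans_apply, Equiv.symm_symm]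
  rw [Adjunction.homEquiv_counit]
  congr 2
  refine Eq.trans (show _ = ((PresheafOfModules.pullbackPushforwardAdjunction.{u}
    (φX J R X).hom).homEquiv _ _).symm (𝟙 _) from rfl) ?_
  rw [Adjunction.homEquiv_counit, CategoryTheory.Functor.map_id, Category.id_comp]

instance : (PresheafOfModules.sheafification.{u} (𝟙 R.obj)).PreservesMonomorphisms := by
  have : PreservesFiniteLimits (PresheafOfModules.sheafification.{u} (𝟙 R.obj)) := inferInstance
  have : PreservesLimitsOfShape WalkingCospan (PresheafOfModules.sheafification.{u} (𝟙 R.obj)) :=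
    inferInstance
  exact preservesMonomorphisms_of_preservesLimitsOfShape _

/-- **the counit `j_! j^* F ⟶ F` is a monomorphism when `X` is subterminal** -/
theorem mono_counit_app (hX : ∀ V : C, Subsingleton (V ⟶ X)) (F : SheafOfModules.{u} R) :
    Mono ((SheafOfModules.pullbackPushforwardAdjunction.{u} (φX J R X)).counit.app F) := by
  have h1 := Adjunction.leftAdjointUniq_hom_app_counit
    (SheafOfModules.pullbackPushforwardAdjunction.{u} (φX J R X))
    (SheafOfModules.PullbackConstruction.adjunction.{u} (φX J R X)) F
  rw [← h1, counit_adjC]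
  have h3 := Adjunction.leftAdjointUniq_hom_app_counit
    (PresheafOfModules.pullbackPushforwardAdjunction.{u} (φX J R X).hom)
    (Groth.Agent.Lib.ModShriekPre.adj R.obj X) F.val
  have h4 : Mono ((Groth.Agent.Lib.ModShriekPre.adj R.obj X).counit.app F.val) :=
    mono_counitApp hX F.val
  have h5 : Mono ((PresheafOfModules.pullbackPushforwardAdjunction.{u}
      (φX J R X).hom).counit.app F.val) := by
    rw [← h3]
    have h6 : Mono (((PresheafOfModules.pullbackPushforwardAdjunction.{u}
        (φX J R X).hom).leftAdjointUniq (Groth.Agent.Lib.ModShriekPre.adj R.obj X)).hom.app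
        ((PresheafOfModules.pushforward (φX J R X).hom).obj F.val)) := inferInstance
    exact @mono_comp _ _ _ _ _ _ h6 _ h4
  have h7 : Mono ((PresheafOfModules.sheafification.{u} (𝟙 R.obj)).map
      ((PresheafOfModules.pullbackPushforwardAdjunction.{u} (φX J R X).hom).counit.app F.val)) :=
    inferInstance
  have h8 : IsIso ((PresheafOfModules.sheafificationAdjunction.{u} (𝟙 R.obj)).counit.app F) :=
    inferInstance
  have h9 : Mono ((PresheafOfModules.sheafification.{u} (𝟙 R.obj)).map
      ((PresheafOfModules.pullbackPushforwardAdjunction.{u} (φX J R X).hom).counit.app F.val) ≫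
      (PresheafOfModules.sheafificationAdjunction.{u} (𝟙 R.obj)).counit.app F) :=
    @mono_comp _ _ _ _ _ _ h7 _ (@IsIso.mono_of_iso _ _ _ _ _ h8)
  have h10 : Mono (((SheafOfModules.pullbackPushforwardAdjunction.{u} (φX J R X)).leftAdjointUniq
      (SheafOfModules.PullbackConstruction.adjunction.{u} (φX J R X))).hom.app
        ((SheafOfModules.pushforward (φX J R X)).obj F)) := inferInstance
  exact @mono_comp _ _ _ _ _ _ h10 _ h9

end Sheaf

end Groth.Agent.Lib.ModCounitMono65
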