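import Groth.Agent.Lib.ModThickening22

/-!
# From a finite stratification to a dense open (helper22)

* `exists_inter_interior_nonempty`: if a nonempty open set is covered by finitely many locally closed
  sets then it meets the interior of one of them;
* `dense_iUnion_interior`: the union of the interiors of finitely many locally closed sets covering
  the space is dense;
* `isFTLC_pull_opens_of_le_range`: if `g : T ⟶ X` is an immersion, `V` an open contained in the
  range of `g` and `g⁻¹ F` is finite type locally constant, then so is `F|_V`;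
* `exists_dense_open_isFTLC`: sheaves which are finite type locally constant on the strata of a
  finite stratification by immersions are finite type locally constant on a dense open.
-/

set_option autoImplicit false
set_option linter.style.haveILetI false
set_option linter.unusedSectionVars false
universe u

open CategoryTheory AlgebraicGeometry Limits MorphismProperty Opposite Topology

namespace Groth.Agent.Lib.ModThickening22

section topology

variable {X : Type*} [TopologicalSpace X]

theorem exists_inter_interior_nonempty {ι : Type*} (s : Finset ι) (S : ι → Set X)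
    (hS : ∀ k ∈ s, IsLocallyClosed (S k)) :
    ∀ (O : Set X), IsOpen O → O.Nonempty → O ⊆ ⋃ k ∈ s, S k →
      ∃ k ∈ s, (O ∩ interior (S k)).Nonempty := by
  classical
  induction s using Finset.induction_on with
  | empty =>
    intro O _ hne hcov
    obtain ⟨x, hx⟩ := hne
    have := hcov hx
    simp at this
  | insert a s ha ih =>
    intro O hO hne hcov
    have ih' := ih (fun k hk => hS k (Finset.mem_insert_of_mem hk))
    obtain ⟨Oa, Ca, hOa, hCa, hSa⟩ := hS a (Finset.mem_insert_self a s)
    by_cases h1 : (O ∩ Oa ∩ Caᶜ).Nonempty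
    · -- a nonempty open subset missing `S a`
      have hcov' : O ∩ Oa ∩ Caᶜ ⊆ ⋃ k ∈ s, S k := by
        intro x hx
        have hx' := hcov hx.1.1
        simp only [Finset.mem_insert, Set.mem_iUnion, exists_prop] at hx' ⊢
        obtain ⟨k, hk | hk, hxk⟩ := hx'
        · exfalso
          rw [hk, hSa] at hxk
          exact hx.2 hxk.2
        · exact ⟨k, hk, hxk⟩
      obtain ⟨k, hk, x, hx1, hx2⟩ := ih' _ ((hO.inter hOa).inter hCa.isOpen_compl) h1 hcov'
      exact ⟨k, Finset.mem_insert_of_mem hk, x, hx1.1.1, hx2⟩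
    · rw [Set.not_nonempty_iff_eq_empty] at h1
      have hsub : O ∩ Oa ⊆ S a := by
        intro x hx
        rw [hSa]
        refine ⟨hx.2, ?_⟩
        by_contra hxC
        have : x ∈ O ∩ Oa ∩ Caᶜ := ⟨hx, hxC⟩
        rw [h1] at this
        exact this
      by_cases h2 : (O ∩ Oa).Nonempty
      · obtain ⟨x, hx⟩ := h2
        refine ⟨a, Finset.mem_insert_self a s, x, hx.1, ?_⟩
        exact interior_maximal hsub (hO.inter hOa) hx
      · rw [Set.not_nonempty_iff_eq_empty] at h2
        have hcov' : O ⊆ ⋃ k ∈ s, S k := by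
          intro x hx
          have hx' := hcov hx
          simp only [Finset.mem_insert, Set.mem_iUnion, exists_prop] at hx' ⊢
          obtain ⟨k, hk | hk, hxk⟩ := hx'
          · exfalso
            rw [hk, hSa] at hxk
            have : x ∈ O ∩ Oa := ⟨hx, hxk.1⟩
            rw [h2] at this
            exact this
          · exact ⟨k, hk, hxk⟩
        obtain ⟨k, hk, hk'⟩ := ih' O hO hne hcov'
        exact ⟨k, Finset.mem_insert_of_mem hk, hk'⟩

theorem dense_iUnion_interior {ι : Type*} [Finite ι] (S : ι → Set X)
    (hS : ∀ k, IsLocallyClosed (S k)) (hcov : (⋃ k, S k) = Set.univ) :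
    Dense (⋃ k, interior (S k)) := by
  classical
  haveI := Fintype.ofFinite ι
  rw [dense_iff_inter_open]
  intro O hO hne
  obtain ⟨k, -, x, hx1, hx2⟩ := exists_inter_interior_nonempty Finset.univ S (fun k _ => hS k) O hO
    hne (by
      intro x _
      have : x ∈ ⋃ k, S k := hcov ▸ Set.mem_univ x
      simpa using this)
  exact ⟨x, hx1, Set.mem_iUnion.2 ⟨k, hx2⟩⟩

end topology

section sheaves

open Groth.Agent.Lib.ModConst22 Groth.Agent.Lib.EtOverSite22 Groth.Agent.Lib.EtLocConst22
  Groth.Agent.Lib.ModSubLC22 Groth.Agent.Lib.ProEtModTransfer22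

variable {Λ : Type (u + 1)} [CommRing Λ]

/-- If `g : T ⟶ X` is an immersion, `V` an open subset of `X` contained in the range of `g`, and
`g⁻¹ F` is finite type locally constant, then so is `F|_V`. -/
theorem isFTLC_pull_opens_of_le_range {T X : Scheme.{u}} (g : T ⟶ X) [IsImmersion g]
    (V : X.Opens) (hV : (V : Set X) ⊆ Set.range g) (F : EtModW.Mod Λ X)
    (h : EtModW.IsFTLocConst Λ ((EtModW.pull Λ g).obj F)) :
    EtModW.IsFTLocConst Λ ((EtModW.pull Λ V.ι).obj F) := by
  let p1 : pullback g V.ι ⟶ T := pullback.fst g V.ι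
  let p2 : pullback g V.ι ⟶ ↑V := pullback.snd g V.ι
  have hsurj : Function.Surjective p2 := by
    intro v
    obtain ⟨t, ht⟩ := hV v.2
    obtain ⟨z, -, hz⟩ := Scheme.Pullback.exists_preimage_pullback (f := g) (g := V.ι) t v ht
    exact ⟨z, hz⟩
  haveI : Surjective p2 := ⟨hsurj⟩
  haveI : IsClosedImmersion p2 := IsClosedImmersion.of_isPreimmersion p2 (by
    rw [hsurj.range_eq]
    exact isClosed_univ)
  apply isFTLC_of_pull_thickening p2
  have hcond : p2 ≫ V.ι = p1 ≫ g := pullback.condition.symm
  have e : (EtModW.pull Λ p2).obj ((EtModW.pull Λ V.ι).obj F) ≅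
      (EtModW.pull Λ p1).obj ((EtModW.pull Λ g).obj F) :=
    ((pullCompA (MC.{u} Λ) p2 V.ι).app F).symm ≪≫ (pullCongrA (MC.{u} Λ) hcond).app F ≪≫
      (pullCompA (MC.{u} Λ) p1 g).app F
  exact isFTLC_of_iso Λ e.symm (isFTLC_pull Λ p1 h)

/-- Sheaves which are finite type locally constant on the strata of a finite stratification by
immersions are finite type locally constant on a dense open subscheme. -/
theorem exists_dense_open_isFTLC {X : Scheme.{u}} {m : ℕ} (T : Fin m → Scheme.{u})
    (g : ∀ k, T k ⟶ X) (hg : ∀ k, IsImmersion (g k))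
    (hcov : (⋃ k, Set.range (fun t => (g k).base t)) = Set.univ)
    {ν : Type*} (F : ν → EtModW.Mod Λ X)
    (h : ∀ k n, EtModW.IsFTLocConst Λ ((EtModW.pull Λ (g k)).obj (F n))) :
    ∃ U : X.Opens, Dense (U : Set X) ∧
      ∀ n, EtModW.IsFTLocConst Λ ((EtModW.pull Λ U.ι).obj (F n)) := by
  let Vk : Fin m → X.Opens := fun k => ⟨interior (Set.range (g k)), isOpen_interior⟩
  let U : X.Opens := ⨆ k, Vk k
  have hU : (U : Set X) = ⋃ k, interior (Set.range (g k)) := by
    ext x
    simp [U, Vk]
  refine ⟨U, ?_, fun n => ?_⟩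
  · rw [hU]
    exact dense_iUnion_interior (fun k => Set.range (g k))
      (fun k => haveI := hg k; (g k).isLocallyClosed_range) hcov
  · have hle : ∀ k, Vk k ≤ U := fun k => le_iSup Vk k
    let j : ULift.{u} (Fin m) → (↑U : Scheme.{u}).Etale := fun k =>
      MorphismProperty.Over.mk ⊤ (X.homOfLE (hle k.down)) inferInstance
    have hj : EtCoh.Covers j := by
      intro x
      have hx : x.1 ∈ (U : Set X) := x.2
      rw [hU, Set.mem_iUnion] at hx
      obtain ⟨k, hk⟩ := hx
      refine ⟨ULift.up k, ⟨x.1, hk⟩, ?_⟩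
      apply Subtype.ext
      exact X.homOfLE_apply (hle k) ⟨x.1, hk⟩
    refine isFTLC_of_cover Λ j hj (fun k => ?_)
    haveI := hg k.down
    have h1 := isFTLC_pull_opens_of_le_range (g k.down) (Vk k.down) interior_subset (F n)
      (h k.down n)
    have hcond : X.homOfLE (hle k.down) ≫ U.ι = (Vk k.down).ι := X.homOfLE_ι _
    have e : (EtModW.pull Λ (X.homOfLE (hle k.down))).obj ((EtModW.pull Λ U.ι).obj (F n)) ≅
        (EtModW.pull Λ (Vk k.down).ι).obj (F n) :=
      ((pullCompA (MC.{u} Λ) (X.homOfLE (hle k.down)) U.ι).app (F n)).symm ≪≫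
        (pullCongrA (MC.{u} Λ) hcond).app (F n)
    exact isFTLC_of_iso Λ e.symm h1

end sheaves

end Groth.Agent.Lib.ModThickening22
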