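import Groth.Agent.Lib.ModLCKer22b
import Groth.Agent.Lib.EtExt22c

/-!
# Extensions of finite type locally constant sheaves of modules, part 1 (helper22)

Module analogue of `EtExt22a/b`: restriction of constant sheaves, exactness of restriction,
`isLC_biprodM`, `constDescM`, `epi_of_constSecM_mem`, `exists_lift_listM`.
-/

set_option autoImplicit false
set_option linter.style.haveILetI false
set_option linter.unusedSectionVars false
universe u

open CategoryTheory AlgebraicGeometry Limits MorphismProperty Opposite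

namespace Groth.Agent.Lib.ModConst22

open Groth.Agent.Lib.EtOverSite22 Groth.Agent.Lib.EtLocConst22 Groth.Agent.Lib.ConstRestr22
  Groth.Agent.Lib.ConstOver22 Groth.Agent.Lib.EtLCKer22 Groth.Agent.Lib.EtConst
  Groth.Agent.Lib.EtExt22 Groth.Agent.Lib.EtTensorRestr65

variable {Λ : Type (u + 1)} [CommRing Λ] {T : Scheme.{u}}

section restr

variable (W : T.Etale)

/-- The restriction of a constant sheaf of modules to an étale `W ⟶ T` is constant. -/
noncomputable def restrConstIsoM (N : MC.{u} Λ) :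
    (restrAlongA W (MC.{u} Λ)).obj (constShM Λ T N) ≅ constShM Λ W.left N :=
  constRestrIso (EtShriek.compEtale (homX W)) W.left.smallEtaleTopology T.smallEtaleTopology
    (MC.{u} Λ) N

theorem restrConstIsoM_inv_constSecM (N : MC.{u} Λ) (V : W.left.Etale) (ν : N) :
    (restrConstIsoM W N).inv.hom.app (op V) (constSecM N V ν) =
      constSecM N ((EtShriek.compEtale (homX W)).obj V) ν := by
  have h := toSheafify_constRestrIso_inv (EtShriek.compEtale (homX W))
    W.left.smallEtaleTopology T.smallEtaleTopology (MC.{u} Λ) N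
  exact congrArg (fun f => (f.app (op V)).hom ν) h

theorem restrConstIsoM_hom_constSecM (N : MC.{u} Λ) (V : W.left.Etale) (ν : N) :
    (restrConstIsoM W N).hom.hom.app (op V)
      (constSecM N ((EtShriek.compEtale (homX W)).obj V) ν) = constSecM N V ν := by
  rw [← restrConstIsoM_inv_constSecM W N V ν]
  have h : (restrConstIsoM W N).inv ≫ (restrConstIsoM W N).hom = 𝟙 _ := Iso.inv_hom_id _
  have h2 := congrArg (fun f => (f.hom.app (op V)).hom (constSecM N V ν)) h
  exact h2

instance preservesFiniteLimits_restrM : PreservesFiniteLimits (restrAlongA W (MC.{u} Λ)) := by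
  haveI : PreservesFiniteLimits (pullA (MC.{u} Λ) (homX W)) :=
    Groth.Agent.Lib.EtModPullExact22.preservesFiniteLimits_pullMod (Λ := Λ) (homX W)
  exact preservesFiniteLimits_of_natIso (pullIsoRestrA (MC.{u} Λ) W)

instance preservesFiniteColimits_restrM : PreservesFiniteColimits (restrAlongA W (MC.{u} Λ)) := by
  haveI : PreservesColimitsOfSize.{0, 0} (pullA (MC.{u} Λ) (homX W)) :=
    (pullPushAdjA (MC.{u} Λ) (homX W)).leftAdjoint_preservesColimits
  haveI : PreservesFiniteColimits (pullA (MC.{u} Λ) (homX W)) :=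
    PreservesColimitsOfSize.preservesFiniteColimits _
  exact preservesFiniteColimits_of_natIso (pullIsoRestrA (MC.{u} Λ) W)

instance additive_restrM : (restrAlongA W (MC.{u} Λ)).Additive :=
  Functor.additive_of_preserves_binary_products _

end restr

/-- Local constancy can be checked after restriction to an étale covering. -/
theorem isLC_of_cover_restrM {κ : Type u} (j : κ → T.Etale) (hj : EtCoh.Covers j)
    {F : EtModW.Mod Λ T} {P : MC.{u} Λ → Prop}
    (h : ∀ k, IsLC (MC.{u} Λ) P ((restrAlongA (j k) (MC.{u} Λ)).obj F)) :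
    IsLC (MC.{u} Λ) P F :=
  IsLC.of_cover j hj fun k => (h k).of_iso ((pullIsoRestrA (MC.{u} Λ) (j k)).app F).symm

theorem isLC_restrM {F : EtModW.Mod Λ T} {P : MC.{u} Λ → Prop} (h : IsLC (MC.{u} Λ) P F)
    (W : T.Etale) : IsLC (MC.{u} Λ) P ((restrAlongA W (MC.{u} Λ)).obj F) :=
  (h.pull (homX W)).of_iso ((pullIsoRestrA (MC.{u} Λ) W).app F)

/-- Constant sheaves are locally constant. -/
theorem isLC_constM {P : MC.{u} Λ → Prop} (M : MC.{u} Λ) (hM : P M) :
    IsLC (MC.{u} Λ) P (constShM Λ T M) := by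
  rw [isLC_iff_pull]
  refine ⟨PUnit, fun _ => EtCoh.top T, fun x => ⟨PUnit.unit, x, rfl⟩, fun _ => ⟨M, hM, ⟨?_⟩⟩⟩
  exact (pullConstIsoA (MC.{u} Λ) (homX (EtCoh.top T))).app M

/-- Restriction form of local constancy. -/
theorem exists_restr_iso_of_isLCM {F : EtModW.Mod Λ T} {P : MC.{u} Λ → Prop}
    (h : IsLC (MC.{u} Λ) P F) :
    ∃ (ι : Type u) (U : ι → T.Etale), EtCoh.Covers U ∧ ∀ i, ∃ M : MC.{u} Λ, P M ∧
      Nonempty ((restrAlongA (U i) (MC.{u} Λ)).obj F ≅ constShM Λ (U i).left M) := by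
  obtain ⟨ι, U, hU, h⟩ := (isLC_iff_pull F).1 h
  refine ⟨ι, U, hU, fun i => ?_⟩
  obtain ⟨M, hM, ⟨α⟩⟩ := h i
  exact ⟨M, hM, ⟨((pullIsoRestrA (MC.{u} Λ) (U i)).app F).symm ≪≫ α⟩⟩

/-- epimorphisms of étale sheaves of modules are locally surjective, pointwise form -/
lemma exists_lift_of_epiM {F G : EtModW.Mod Λ T} (a : F ⟶ G) [Epi a] {P : T.Etale}
    (t : EtModW.sect Λ G P) (x : P.left) :
    ∃ (Z : T.Etale) (k : Z ⟶ P) (z : Z.left), k.left z = x ∧
      ∃ s : EtModW.sect Λ F Z, a.hom.app (op Z) s = G.obj.map k.op t := by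
  have hls : Sheaf.IsLocallySurjective a :=
    (Sheaf.isLocallySurjective_iff_epi' (φ := a)).2 inferInstance
  have hS := Presheaf.imageSieve_mem T.smallEtaleTopology a.hom (U := op P) t
  obtain ⟨Z, k, z, hk, hz⟩ := (Groth.Agent.Lib.EtPushEpi39.mem_smallEtale_iff P _).1 hS x
  exact ⟨Z, k, z, hz, hk⟩

/-- Finitely many sections lift simultaneously along an epimorphism, étale-locally. -/
theorem exists_lift_listM {E G : EtModW.Mod Λ T} (π : E ⟶ G) [Epi π] {U : T.Etale}
    (l : List (EtModW.sect Λ G U)) (x : U.left) :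
    ∃ (V : T.Etale) (g : V ⟶ U), x ∈ Set.range g.left ∧
      ∀ s ∈ l, ∃ e : EtModW.sect Λ E V, π.hom.app (op V) e = G.obj.map g.op s := by
  induction l with
  | nil => exact ⟨U, 𝟙 U, ⟨x, rfl⟩, by simp⟩
  | cons s l ih =>
    obtain ⟨V, g, ⟨y, hy⟩, hl⟩ := ih
    obtain ⟨V', g', z, hz, e, he⟩ := exists_lift_of_epiM π (G.obj.map g.op s) y
    refine ⟨V', g' ≫ g, ⟨z, ?_⟩, ?_⟩
    · rw [← hy, ← hz]
      rfl
    · intro t ht
      rcases List.mem_cons.1 ht with rfl | ht
      · exact ⟨e, he.trans (res_compM _ g g' _).symm⟩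
      · obtain ⟨e', he'⟩ := hl t ht
        refine ⟨E.obj.map g'.op e', ?_⟩
        rw [res_compM, ← he']
        exact hom_resM π g' e'

/-- A biproduct of finite type locally constant sheaves is finite type locally constant. -/
theorem isLC_biprodM {F G : EtModW.Mod Λ T} (hF : IsLC (MC.{u} Λ) (PFT Λ) F)
    (hG : IsLC (MC.{u} Λ) (PFT Λ) G) : IsLC (MC.{u} Λ) (PFT Λ) (F ⊞ G) := by
  obtain ⟨ι, U, hU, h⟩ := exists_common_cover hF hG
  refine IsLC.of_cover U hU fun i => ?_
  obtain ⟨⟨M, hM, ⟨α⟩⟩, ⟨N, hN, ⟨β⟩⟩⟩ := h i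
  haveI : Module.Finite Λ M := hM
  haveI : Module.Finite Λ N := hN
  let p := pullA (MC.{u} Λ) (homX (U i))
  haveI : PreservesFiniteLimits p :=
    Groth.Agent.Lib.EtModPullExact22.preservesFiniteLimits_pullMod (Λ := Λ) (homX (U i))
  haveI : p.Additive := Functor.additive_of_preserves_binary_products _
  haveI : PreservesBiproductsOfShape WalkingPair p := PreservesFiniteBiproducts.preserves
  haveI : PreservesBinaryBiproducts p := preservesBinaryBiproducts_of_preservesBiproducts p
  let Φ := constantSheaf (U i).left.smallEtaleTopology (MC.{u} Λ)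
  haveI : Φ.Additive := Functor.additive_of_preserves_binary_products _
  haveI : PreservesBiproductsOfShape WalkingPair Φ := PreservesFiniteBiproducts.preserves
  haveI : PreservesBinaryBiproducts Φ := preservesBinaryBiproducts_of_preservesBiproducts Φ
  have e1 : p.obj (F ⊞ G) ≅ p.obj F ⊞ p.obj G := p.mapBiprod F G
  have e2 : p.obj F ⊞ p.obj G ≅ Φ.obj M ⊞ Φ.obj N := biprod.mapIso α β
  have e3 : Φ.obj (M ⊞ N) ≅ Φ.obj M ⊞ Φ.obj N := Φ.mapBiprod M N
  have hMN : PFT Λ (M ⊞ N : MC.{u} Λ) := by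
    have e := ModuleCat.biprodIsoProd M N
    exact Module.Finite.equiv e.toLinearEquiv.symm
  have h0 : IsLC (MC.{u} Λ) (PFT Λ) (Φ.obj (M ⊞ N)) := isLC_constM _ hMN
  exact h0.of_iso (e1 ≪≫ e2 ≪≫ e3.symm).symm

/-- the morphism `P̲ ⟶ E` attached to a linear map `P ⟶ E(T)` -/
noncomputable def constDescM {P : MC.{u} Λ} (E : EtModW.Mod Λ T)
    (L : P →ₗ[Λ] EtModW.sect Λ E (EtCoh.top T)) : constShM Λ T P ⟶ E :=
  constLiftM E
    { app := fun U => ModuleCat.ofHom ((E.obj.map (toTop U.unop).op).hom.comp L)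
      naturality := by
        intro U V f
        apply ModuleCat.hom_ext
        apply LinearMap.ext
        intro p
        have h : toTop V.unop = f.unop ≫ toTop U.unop := (toTop_comp f.unop).symm
        show E.obj.map (toTop V.unop).op (L p) = E.obj.map f (E.obj.map (toTop U.unop).op (L p))
        rw [h]
        exact res_compM E (toTop U.unop) f.unop (L p) }

theorem constDescM_constSecM {P : MC.{u} Λ} (E : EtModW.Mod Λ T)
    (L : P →ₗ[Λ] EtModW.sect Λ E (EtCoh.top T)) (U : T.Etale) (p : P) :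
    (constDescM E L).hom.app (op U) (constSecM P U p) = E.obj.map (toTop U).op (L p) :=
  constLiftM_constSecM E _ U p

/-- A morphism to a constant sheaf hitting all constant sections is an epimorphism. -/
theorem epi_of_constSecM_mem {Q : EtModW.Mod Λ T} {N : MC.{u} Λ} (q : Q ⟶ constShM Λ T N)
    (h : ∀ (V : T.Etale) (ν : N), ∃ s : EtModW.sect Λ Q V, q.hom.app (op V) s = constSecM N V ν) :
    Epi q := by
  rw [← Sheaf.isLocallySurjective_iff_epi' (φ := q)]
  refine ⟨fun {U} t => ?_⟩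
  rw [Groth.Agent.Lib.EtPushEpi39.mem_smallEtale_iff]
  intro x
  obtain ⟨V, g, ν, ⟨z, hz⟩, hν⟩ := exists_constSecM_eq_pt N t x
  obtain ⟨s, hs⟩ := h V ν
  exact ⟨V, g, z, ⟨s, hs.trans hν.symm⟩, hz⟩

end Groth.Agent.Lib.ModConst22
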