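import Groth.Agent.Lib.ModExt22a

/-!
# Extensions of finite type locally constant sheaves of modules, part 2 (helper22)

Over a Noetherian ring `Λ`, an extension of finite type locally constant sheaves of `Λ`-modules
on the small étale site is finite type locally constant (`isLC_of_extM`, `isFTLC_of_ext`).
-/

set_option autoImplicit false
set_option linter.style.haveILetI false
set_option linter.unusedSectionVars false
universe u

open CategoryTheory AlgebraicGeometry Limits MorphismProperty Opposite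

namespace Groth.Agent.Lib.ModConst22

open Groth.Agent.Lib.EtOverSite22 Groth.Agent.Lib.EtLocConst22 Groth.Agent.Lib.ConstRestr22
  Groth.Agent.Lib.ConstOver22 Groth.Agent.Lib.EtLCKer22 Groth.Agent.Lib.EtConst
  Groth.Agent.Lib.EtExt22 Groth.Agent.Lib.EtTensorRestr65

variable {Λ : Type (u + 1)} [CommRing Λ] [IsNoetherianRing Λ] {T : Scheme.{u}}

/-- An extension of `N̲` (with `N` finitely generated) by a finite type locally constant sheaf such
that the constant sections of a generating family of `N` lift to global sections is finite type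
locally constant. -/
theorem isLC_of_ext_globalM {F E : EtModW.Mod Λ T} {N : MC.{u} Λ} [Module.Finite Λ N]
    (i : F ⟶ E) (π : E ⟶ constShM Λ T N) (w : i ≫ π = 0)
    (hS : (ShortComplex.mk i π w).ShortExact) (hF : IsLC (MC.{u} Λ) (PFT Λ) F)
    {r : ℕ} (ν : Fin r → N) (hν : Submodule.span Λ (Set.range ν) = ⊤)
    (hl : ∀ j : Fin r, ∃ e : EtModW.sect Λ E (EtCoh.top T),
      π.hom.app (op (EtCoh.top T)) e = constSecM N (EtCoh.top T) (ν j)) :
    IsLC (MC.{u} Λ) (PFT Λ) E := by
  classical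
  choose e he using hl
  let L : (Fin r → Λ) →ₗ[Λ] EtModW.sect Λ E (EtCoh.top T) := Fintype.linearCombination Λ e
  let νL : (Fin r → Λ) →ₗ[Λ] N := Fintype.linearCombination Λ ν
  have hνL : Function.Surjective νL := by
    rw [← LinearMap.range_eq_top, Fintype.range_linearCombination, hν]
  let πT : EtModW.sect Λ E (EtCoh.top T) →ₗ[Λ] EtModW.sect Λ (constShM Λ T N) (EtCoh.top T) :=
    (π.hom.app (op (EtCoh.top T))).hom
  have hAB : πT ∘ₗ L = constSecM N (EtCoh.top T) ∘ₗ νL := by
    apply LinearMap.pi_ext'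
    intro j
    apply LinearMap.ext_ring
    simp only [LinearMap.coe_comp, Function.comp_apply, LinearMap.coe_single, L, νL,
      Fintype.linearCombination_apply_single, one_smul]
    exact he j
  let P : MC.{u} Λ := ModuleCat.of Λ (Fin r → Λ)
  haveI : Module.Finite Λ P := inferInstanceAs (Module.Finite Λ (Fin r → Λ))
  let l : constShM Λ T P ⟶ E := constDescM E L
  have hq : ∀ (V : T.Etale) (c : Fin r → Λ),
      (l ≫ π).hom.app (op V) (constSecM P V c) = constSecM N V (νL c) := by
    intro V c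
    show π.hom.app (op V) (l.hom.app (op V) (constSecM P V c)) = _
    rw [constDescM_constSecM, hom_resM π (toTop V)]
    have h1 := LinearMap.congr_fun hAB c
    simp only [LinearMap.coe_comp, Function.comp_apply] at h1
    change (constShM Λ T N).obj.map (toTop V).op (πT (L c)) = _
    rw [h1, constSecM_res]
  haveI : Epi (l ≫ π) := epi_of_constSecM_mem (l ≫ π) fun V n => by
    obtain ⟨c, rfl⟩ := hνL n
    exact ⟨_, hq V c⟩
  obtain ⟨κ, ⟨ε⟩⟩ :=
    Groth.Agent.Lib.AbelianLift22.exists_iso_cokernel_of_lift i π w hS l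
  have hPc : IsLC (MC.{u} Λ) (PFT Λ) (constShM Λ T P) :=
    isLC_constM P (inferInstance : Module.Finite Λ P)
  have hNc : IsLC (MC.{u} Λ) (PFT Λ) (constShM Λ T N) :=
    isLC_constM N (inferInstance : Module.Finite Λ N)
  have hQ : IsLC (MC.{u} Λ) (PFT Λ) (kernel (l ≫ π)) := (isLC_ker_cokerM (l ≫ π) hPc hNc).1
  have hFP : IsLC (MC.{u} Λ) (PFT Λ) (F ⊞ constShM Λ T P) := isLC_biprodM hF hPc
  exact (isLC_ker_cokerM κ hQ hFP).2.of_iso ε.symm

/-- An extension of a constant sheaf with finitely generated value by a finite type locally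
constant sheaf is finite type locally constant. -/
theorem isLC_of_ext_constM (S : ShortComplex (EtModW.Mod Λ T)) (hS : S.ShortExact) {N : MC.{u} Λ}
    [Module.Finite Λ N] (β : S.X₃ ≅ constShM Λ T N) (hF : IsLC (MC.{u} Λ) (PFT Λ) S.X₁) :
    IsLC (MC.{u} Λ) (PFT Λ) S.X₂ := by
  classical
  obtain ⟨r, ν, hν⟩ := Module.Finite.exists_fin (R := Λ) (M := N)
  let π₁ : S.X₂ ⟶ constShM Λ T N := S.g ≫ β.hom
  have w₁ : S.f ≫ π₁ = 0 := by simp [π₁]
  have hS₁ : (ShortComplex.mk S.f π₁ w₁).ShortExact :=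
    ShortComplex.shortExact_of_iso
      (ShortComplex.isoMk (Iso.refl _) (Iso.refl _) β (by simp) (by simp [π₁]) :
        S ≅ ShortComplex.mk S.f π₁ w₁) hS
  haveI : Epi π₁ := hS₁.epi_g
  let l : List (EtModW.sect Λ (constShM Λ T N) (EtCoh.top T)) :=
    List.ofFn (fun j : Fin r => constSecM N (EtCoh.top T) (ν j))
  have hx := fun x : T => exists_lift_listM π₁ l (x : (EtCoh.top T).left)
  choose W g hW hl using hx
  have hcov : EtCoh.Covers W := by
    intro x
    obtain ⟨y, hy⟩ := hW x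
    refine ⟨x, y, ?_⟩
    have hw : (g x).left ≫ (EtCoh.top T).hom = (W x).hom := Over.w (g x)
    rw [← hw]
    exact hy
  refine isLC_of_cover_restrM W hcov fun x => ?_
  let R := restrAlongA (W x) (MC.{u} Λ)
  let γ := restrConstIsoM (W x) N
  let π₂ : R.obj S.X₂ ⟶ constShM Λ (W x).left N := R.map π₁ ≫ γ.hom
  have w₂ : R.map S.f ≫ π₂ = 0 := by
    simp only [π₂]
    rw [← Category.assoc, ← R.map_comp, w₁, Functor.map_zero, zero_comp]
  have hS₂ : ((ShortComplex.mk S.f π₁ w₁).map R).ShortExact := hS₁.map_of_exact R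
  have hS₃ : (ShortComplex.mk (R.map S.f) π₂ w₂).ShortExact :=
    ShortComplex.shortExact_of_iso
      (ShortComplex.isoMk (Iso.refl _) (Iso.refl _) γ
        ((Category.id_comp _).trans (Category.comp_id _).symm) (Category.id_comp _) :
        (ShortComplex.mk S.f π₁ w₁).map R ≅ ShortComplex.mk (R.map S.f) π₂ w₂) hS₂
  refine isLC_of_ext_globalM (R.map S.f) π₂ w₂ hS₃ (isLC_restrM hF (W x)) ν hν fun j => ?_
  obtain ⟨e, he⟩ := hl x (constSecM N (EtCoh.top T) (ν j)) ((List.mem_ofFn' _ _).2 ⟨j, rfl⟩)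
  rw [constSecM_res] at he
  let c : (EtShriek.compEtale (homX (W x))).obj (EtCoh.top (W x).left) ⟶ W x :=
    strHom (W x) (EtCoh.top (W x).left)
  refine ⟨S.X₂.obj.map c.op e, ?_⟩
  show γ.hom.hom.app (op (EtCoh.top (W x).left))
    (π₁.hom.app (op ((EtShriek.compEtale (homX (W x))).obj (EtCoh.top (W x).left)))
      (S.X₂.obj.map c.op e)) = _
  rw [hom_resM π₁ c e, he, constSecM_res]
  exact restrConstIsoM_hom_constSecM (W x) N (EtCoh.top (W x).left) (ν j)

/-- Extensions of finite type locally constant sheaves of modules over a Noetherian ring are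
finite type locally constant. -/
theorem isLC_of_extM (S : ShortComplex (EtModW.Mod Λ T)) (hS : S.ShortExact)
    (h1 : IsLC (MC.{u} Λ) (PFT Λ) S.X₁) (h3 : IsLC (MC.{u} Λ) (PFT Λ) S.X₃) :
    IsLC (MC.{u} Λ) (PFT Λ) S.X₂ := by
  obtain ⟨ι, U, hU, h⟩ := exists_restr_iso_of_isLCM h3
  refine isLC_of_cover_restrM U hU fun i => ?_
  obtain ⟨N, hN, ⟨β⟩⟩ := h i
  haveI : Module.Finite Λ N := hN
  let R := restrAlongA (U i) (MC.{u} Λ)
  exact isLC_of_ext_constM (S.map R) (hS.map_of_exact R) β (isLC_restrM h1 (U i))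

theorem isFTLC_of_ext (S : ShortComplex (EtModW.Mod Λ T)) (hS : S.ShortExact)
    (h1 : EtModW.IsFTLocConst Λ S.X₁) (h3 : EtModW.IsFTLocConst Λ S.X₃) :
    EtModW.IsFTLocConst Λ S.X₂ :=
  (isFTLC_iff_isLC Λ _).2
    (isLC_of_extM S hS ((isFTLC_iff_isLC Λ _).1 h1) ((isFTLC_iff_isLC Λ _).1 h3))

end Groth.Agent.Lib.ModConst22
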