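import Mathlib.Algebra.Category.ModuleCat.ChangeOfRings
import Mathlib.Algebra.Category.Grp.ZModuleEquivalence
import Mathlib.CategoryTheory.Sites.Adjunction
import Mathlib.CategoryTheory.Sites.Pullback
import Mathlib.CategoryTheory.Adjunction.Whiskering

/-!
# Forgetting the module structure commutes with inverse images of sheaves (helper22)

For a commutative ring `Λ : Type w`, sites `(C, J)`, `(D, K)` and a continuous functor `G : C ⥤ D`:

* `UF Λ = forget₂ (ModuleCat Λ) AddCommGrpCat` has a right adjoint `VF Λ` (coinduced modules), `adjUV`;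
* `USh Λ J = sheafCompose J (UF Λ)`, its right adjoint `VSh Λ J` and `adjSh : USh ⊣ VSh` with
  objectwise unit and counit (`adjSh_unit_hom`, `adjSh_counit_hom`);
* for ANY adjunctions `adjA : LA ⊣ G_*` (modules) and `adjB : LB ⊣ G_*` (abelian groups), the mate
  `beta adjA adjB F : LB (U F) ⟶ U (LA F)` is an ISOMORPHISM (`isIso_beta`, `betaIso`), with
  `ush_map_unit` (`U η^A = η^B ≫ G_* β`) and `beta_comp_counit` (`β ≫ U ε^A = ε^B`).

This allows to transfer statements about `f⁻¹`/`f_*` from abelian sheaves to sheaves of modules.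
-/

set_option autoImplicit false
universe w v₁ u₁ v₂ u₂

open CategoryTheory Limits

namespace Groth.Agent.Lib.ModForgetPull22

variable (Λ : Type w) [CommRing Λ]

/-- The forgetful functor from `Λ`-modules to abelian groups. -/
abbrev UF : ModuleCat.{w} Λ ⥤ AddCommGrpCat.{w} := forget₂ (ModuleCat.{w} Λ) AddCommGrpCat.{w}

/-- `UF` as restriction of scalars to `ℤ` followed by the equivalence with abelian groups. -/
noncomputable def ufIso : ModuleCat.restrictScalars.{w} (Int.castRingHom Λ) ⋙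
    forget₂ (ModuleCat.{w} ℤ) AddCommGrpCat.{w} ≅ UF Λ :=
  NatIso.ofComponents (fun M => Iso.refl _) (fun f => by
    rfl)

/-- The right adjoint of the forgetful functor (coinduced modules). -/
noncomputable abbrev VF : AddCommGrpCat.{w} ⥤ ModuleCat.{w} Λ :=
  (forget₂ (ModuleCat.{w} ℤ) AddCommGrpCat.{w}).inv ⋙
    ModuleCat.coextendScalars.{0, w, w} (Int.castRingHom Λ)

/-- The adjunction `UF ⊣ VF`. -/
noncomputable def adjUV : UF Λ ⊣ VF Λ :=
  ((ModuleCat.restrictCoextendScalarsAdj.{w} (Int.castRingHom Λ)).comp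
    (forget₂ (ModuleCat.{w} ℤ) AddCommGrpCat.{w}).asEquivalence.toAdjunction).ofNatIsoLeft
      (ufIso Λ)

instance : (UF Λ).IsLeftAdjoint := (adjUV Λ).isLeftAdjoint
instance : (VF Λ).IsRightAdjoint := (adjUV Λ).isRightAdjoint

variable {C : Type u₁} [Category.{v₁} C] (J : GrothendieckTopology C)

instance : J.HasSheafCompose (VF Λ) := by
  have : PreservesLimitsOfSize.{v₁, max u₁ v₁} (VF Λ) := (adjUV Λ).rightAdjoint_preservesLimits
  infer_instance

variable [J.HasSheafCompose (UF Λ)]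

/-- The forgetful functor on sheaves. -/
noncomputable abbrev USh : Sheaf J (ModuleCat.{w} Λ) ⥤ Sheaf J AddCommGrpCat.{w} :=
  sheafCompose J (UF Λ)

/-- Its right adjoint. -/
noncomputable abbrev VSh : Sheaf J AddCommGrpCat.{w} ⥤ Sheaf J (ModuleCat.{w} Λ) :=
  sheafCompose J (VF Λ)

/-- The adjunction `USh ⊣ VSh`, computed objectwise. -/
noncomputable def adjSh : USh Λ J ⊣ VSh Λ J :=
  (Adjunction.whiskerRight Cᵒᵖ (adjUV Λ)).restrictFullyFaithful
    (fullyFaithfulSheafToPresheaf J _) (fullyFaithfulSheafToPresheaf J _)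
    (Iso.refl _) (Iso.refl _)

theorem adjSh_unit_hom (F : Sheaf J (ModuleCat.{w} Λ)) :
    ((adjSh Λ J).unit.app F).hom = Functor.whiskerLeft F.obj (adjUV Λ).unit := by
  have h : (sheafToPresheaf J _).map ((adjSh Λ J).unit.app F) = _ :=
    Adjunction.map_restrictFullyFaithful_unit_app _ _ _ _ _ F
  refine h.trans ?_
  apply NatTrans.ext
  funext X
  change (adjUV Λ).unit.app (F.obj.obj X) ≫
    ((VF Λ).map (𝟙 ((UF Λ).obj (F.obj.obj X))) ≫ 𝟙 _) = (adjUV Λ).unit.app (F.obj.obj X)
  rw [CategoryTheory.Functor.map_id, Category.comp_id]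
  exact Category.comp_id _

theorem adjSh_counit_hom (H : Sheaf J AddCommGrpCat.{w}) :
    ((adjSh Λ J).counit.app H).hom = Functor.whiskerLeft H.obj (adjUV Λ).counit := by
  have h : (sheafToPresheaf J _).map ((adjSh Λ J).counit.app H) = _ :=
    Adjunction.map_restrictFullyFaithful_counit_app _ _ _ _ _ H
  refine h.trans ?_
  apply NatTrans.ext
  funext X
  change 𝟙 _ ≫ (UF Λ).map (𝟙 ((VF Λ).obj (H.obj.obj X))) ≫ (adjUV Λ).counit.app (H.obj.obj X) =
    (adjUV Λ).counit.app (H.obj.obj X)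
  rw [CategoryTheory.Functor.map_id, Category.id_comp]
  exact Category.id_comp _


section mate

variable {D : Type u₂} [Category.{v₂} D] (K : GrothendieckTopology D) (G : C ⥤ D)
  [G.IsContinuous J K] [K.HasSheafCompose (UF Λ)]

/-- Pushforward of sheaves of modules. -/
noncomputable abbrev pushA : Sheaf K (ModuleCat.{w} Λ) ⥤ Sheaf J (ModuleCat.{w} Λ) :=
  G.sheafPushforwardContinuous (ModuleCat.{w} Λ) J K

/-- Pushforward of abelian sheaves. -/
noncomputable abbrev pushB : Sheaf K AddCommGrpCat.{w} ⥤ Sheaf J AddCommGrpCat.{w} :=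
  G.sheafPushforwardContinuous AddCommGrpCat.{w} J K

theorem ush_pushA_obj (P : Sheaf K (ModuleCat.{w} Λ)) :
    (USh Λ J).obj ((pushA Λ J K G).obj P) = (pushB J K G).obj ((USh Λ K).obj P) := rfl

omit [K.HasSheafCompose (UF Λ)] [J.HasSheafCompose (UF Λ)] in
theorem vsh_pushB_obj (H : Sheaf K AddCommGrpCat.{w}) :
    (VSh Λ J).obj ((pushB J K G).obj H) = (pushA Λ J K G).obj ((VSh Λ K).obj H) := rfl


variable {Λ J K G}
variable {LA : Sheaf J (ModuleCat.{w} Λ) ⥤ Sheaf K (ModuleCat.{w} Λ)}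
  {LB : Sheaf J AddCommGrpCat.{w} ⥤ Sheaf K AddCommGrpCat.{w}}
  (adjA : LA ⊣ pushA Λ J K G) (adjB : LB ⊣ pushB J K G)

/-- The comparison morphism `G⁻¹ (U F) ⟶ U (G⁻¹ F)` (mate of the strict commutation of the
pushforwards with the forgetful functors). -/
noncomputable def beta (F : Sheaf J (ModuleCat.{w} Λ)) :
    LB.obj ((USh Λ J).obj F) ⟶ (USh Λ K).obj (LA.obj F) :=
  (adjB.homEquiv ((USh Λ J).obj F) ((USh Λ K).obj (LA.obj F))).symm
    ((USh Λ J).map (adjA.unit.app F))

theorem homEquiv_beta (F : Sheaf J (ModuleCat.{w} Λ)) :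
    adjB.homEquiv _ _ (beta adjA adjB F) = (USh Λ J).map (adjA.unit.app F) :=
  Equiv.apply_symm_apply _ _

/-- The unit of the module adjunction, after forgetting, is the unit of the abelian adjunction
followed by the pushforward of `beta`. -/
theorem ush_map_unit (F : Sheaf J (ModuleCat.{w} Λ)) :
    (USh Λ J).map (adjA.unit.app F) =
      adjB.unit.app ((USh Λ J).obj F) ≫ (pushB J K G).map (beta adjA adjB F) := by
  rw [← homEquiv_beta adjA adjB F, Adjunction.homEquiv_unit]

/-- Compatibility of `beta` with counits. -/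
theorem beta_comp_counit (E : Sheaf K (ModuleCat.{w} Λ)) :
    beta adjA adjB ((pushA Λ J K G).obj E) ≫ (USh Λ K).map (adjA.counit.app E) =
      adjB.counit.app ((USh Λ K).obj E) := by
  apply (adjB.homEquiv _ _).injective
  have e1 := adjB.homEquiv_naturality_right (beta adjA adjB ((pushA Λ J K G).obj E))
    ((USh Λ K).map (adjA.counit.app E))
  have e2 : adjB.homEquiv _ _ (beta adjA adjB ((pushA Λ J K G).obj E)) ≫
      (pushB J K G).map ((USh Λ K).map (adjA.counit.app E)) =
      𝟙 ((pushB J K G).obj ((USh Λ K).obj E)) := by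
    have h2 := congrArg (fun t => t ≫ (pushB J K G).map ((USh Λ K).map (adjA.counit.app E)))
      (homEquiv_beta adjA adjB ((pushA Λ J K G).obj E))
    refine h2.trans ?_
    have h3 : (USh Λ J).map (adjA.unit.app ((pushA Λ J K G).obj E) ≫
        (pushA Λ J K G).map (adjA.counit.app E)) = 𝟙 _ := by
      rw [adjA.right_triangle_components]
      exact (USh Λ J).map_id _
    exact ((USh Λ J).map_comp _ _).symm.trans h3
  have e3 : adjB.homEquiv _ _ (adjB.counit.app ((USh Λ K).obj E)) =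
      𝟙 ((pushB J K G).obj ((USh Λ K).obj E)) := by
    rw [Adjunction.homEquiv_unit]
    exact adjB.right_triangle_components _
  exact e1.trans (e2.trans e3.symm)


omit [K.HasSheafCompose (UF Λ)] [J.HasSheafCompose (UF Λ)] in
theorem pushA_map_vsh_map {P H : Sheaf K AddCommGrpCat.{w}} (φ : P ⟶ H) :
    (pushA Λ J K G).map ((VSh Λ K).map φ) = (VSh Λ J).map ((pushB J K G).map φ) := rfl

theorem pushA_map_unit (P : Sheaf K (ModuleCat.{w} Λ)) :
    (pushA Λ J K G).map ((adjSh Λ K).unit.app P) =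
      (adjSh Λ J).unit.app ((pushA Λ J K G).obj P) := by
  apply Sheaf.hom_ext
  change Functor.whiskerLeft G.op ((adjSh Λ K).unit.app P).hom =
    ((adjSh Λ J).unit.app ((pushA Λ J K G).obj P)).hom
  rw [adjSh_unit_hom, adjSh_unit_hom]
  rfl

theorem beta_comp (F : Sheaf J (ModuleCat.{w} Λ)) (H : Sheaf K AddCommGrpCat.{w})
    (φ : (USh Λ K).obj (LA.obj F) ⟶ H) :
    beta adjA adjB F ≫ φ =
      (adjB.homEquiv ((USh Λ J).obj F) H).symm
        (((adjSh Λ J).homEquiv F ((pushB J K G).obj H)).symm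
          (adjA.homEquiv F ((VSh Λ K).obj H) ((adjSh Λ K).homEquiv (LA.obj F) H φ))) := by
  apply (adjB.homEquiv _ _).injective
  refine Eq.trans ?_ (Equiv.apply_symm_apply (adjB.homEquiv ((USh Λ J).obj F) H) _).symm
  apply ((adjSh Λ J).homEquiv _ _).injective
  refine Eq.trans ?_
    (Equiv.apply_symm_apply ((adjSh Λ J).homEquiv F ((pushB J K G).obj H)) _).symm
  have e1 : adjB.homEquiv _ _ (beta adjA adjB F ≫ φ) =
      (USh Λ J).map (adjA.unit.app F) ≫ (pushB J K G).map φ :=
    (adjB.homEquiv_naturality_right _ _).trans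
      (congrArg (fun t => t ≫ (pushB J K G).map φ) (homEquiv_beta adjA adjB F))
  let P : Sheaf K (ModuleCat.{w} Λ) := LA.obj F
  let ηA : F ⟶ (pushA Λ J K G).obj P := adjA.unit.app F
  -- left hand side
  have l1 : (adjSh Λ J).homEquiv F ((pushB J K G).obj H)
      (adjB.homEquiv _ _ (beta adjA adjB F ≫ φ)) =
      (adjSh Λ J).unit.app F ≫ (VSh Λ J).map ((USh Λ J).map ηA ≫ (pushB J K G).map φ) :=
    (congrArg ((adjSh Λ J).homEquiv F ((pushB J K G).obj H)) e1).trans
      (Adjunction.homEquiv_unit _ _ _ _)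
  have l2 : (adjSh Λ J).unit.app F ≫ (VSh Λ J).map ((USh Λ J).map ηA ≫ (pushB J K G).map φ) =
      ηA ≫ (adjSh Λ J).unit.app ((pushA Λ J K G).obj P) ≫
        (VSh Λ J).map ((pushB J K G).map φ) := by
    have n1 : ηA ≫ (adjSh Λ J).unit.app ((pushA Λ J K G).obj P) =
        (adjSh Λ J).unit.app F ≫ (VSh Λ J).map ((USh Λ J).map ηA) :=
      (adjSh Λ J).unit.naturality ηA
    have n2 : (VSh Λ J).map ((USh Λ J).map ηA ≫ (pushB J K G).map φ) =
        (VSh Λ J).map ((USh Λ J).map ηA) ≫ (VSh Λ J).map ((pushB J K G).map φ) :=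
      (VSh Λ J).map_comp _ _
    calc (adjSh Λ J).unit.app F ≫ (VSh Λ J).map ((USh Λ J).map ηA ≫ (pushB J K G).map φ)
        = (adjSh Λ J).unit.app F ≫ (VSh Λ J).map ((USh Λ J).map ηA) ≫
            (VSh Λ J).map ((pushB J K G).map φ) := congrArg _ n2
      _ = ((adjSh Λ J).unit.app F ≫ (VSh Λ J).map ((USh Λ J).map ηA)) ≫
            (VSh Λ J).map ((pushB J K G).map φ) := (Category.assoc _ _ _).symm
      _ = (ηA ≫ (adjSh Λ J).unit.app ((pushA Λ J K G).obj P)) ≫
            (VSh Λ J).map ((pushB J K G).map φ) :=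
          congrArg (fun t => t ≫ (VSh Λ J).map ((pushB J K G).map φ)) n1.symm
      _ = _ := Category.assoc _ _ _
  -- right hand side
  have r1 : adjA.homEquiv F ((VSh Λ K).obj H) ((adjSh Λ K).homEquiv P H φ) =
      ηA ≫ (pushA Λ J K G).map ((adjSh Λ K).unit.app P ≫ (VSh Λ K).map φ) :=
    (Adjunction.homEquiv_unit _ _ _ _).trans
      (congrArg (fun t => ηA ≫ (pushA Λ J K G).map t) (Adjunction.homEquiv_unit _ _ _ _))
  have r2 : (pushA Λ J K G).map ((adjSh Λ K).unit.app P ≫ (VSh Λ K).map φ) =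
      (adjSh Λ J).unit.app ((pushA Λ J K G).obj P) ≫ (VSh Λ J).map ((pushB J K G).map φ) :=
    ((pushA Λ J K G).map_comp _ _).trans
      (congrArg (fun t => t ≫ (pushA Λ J K G).map ((VSh Λ K).map φ)) (pushA_map_unit P))
  exact l1.trans (l2.trans ((congrArg (fun t => ηA ≫ t) r2).symm.trans r1.symm))

/-- **The comparison morphism is an isomorphism**: the forgetful functor from sheaves of modules to
abelian sheaves commutes with inverse images. -/
instance isIso_beta (F : Sheaf J (ModuleCat.{w} Λ)) : IsIso (beta adjA adjB F) := by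
  apply isIso_of_coyoneda_map_bijective
  intro H
  let Φ : ((USh Λ K).obj (LA.obj F) ⟶ H) ≃ (LB.obj ((USh Λ J).obj F) ⟶ H) :=
    ((adjSh Λ K).homEquiv (LA.obj F) H).trans ((adjA.homEquiv F ((VSh Λ K).obj H)).trans
      (((adjSh Λ J).homEquiv F ((pushB J K G).obj H)).symm.trans
        (adjB.homEquiv ((USh Λ J).obj F) H).symm))
  have h : (fun φ : (USh Λ K).obj (LA.obj F) ⟶ H => beta adjA adjB F ≫ φ) = Φ :=
    funext (fun φ => beta_comp adjA adjB F H φ)
  rw [h]
  exact Φ.bijective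

/-- The comparison isomorphism. -/
noncomputable def betaIso (F : Sheaf J (ModuleCat.{w} Λ)) :
    LB.obj ((USh Λ J).obj F) ≅ (USh Λ K).obj (LA.obj F) :=
  asIso (beta adjA adjB F)

end mate

end Groth.Agent.Lib.ModForgetPull22
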