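import Groth.Agent.Lib.CechFreeRes
import Mathlib.Algebra.Category.ModuleCat.Presheaf.Free
import Mathlib.Algebra.Category.ModuleCat.Presheaf.Sheafification
import Mathlib.Algebra.Category.ModuleCat.Presheaf.Abelian
import Mathlib.Algebra.Category.ModuleCat.Presheaf.Colimits
import Mathlib.Algebra.Category.ModuleCat.Sheaf.Abelian
import Mathlib.CategoryTheory.Adjunction.Additive

/-!
# The Čech nerve of an epimorphism of sheaves of sets gives a free resolution of `O`-modules
(helper95)
-/

open CategoryTheory Limits Opposite Simplicial AlgebraicTopology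

set_option backward.defeqAttrib.useBackward true
set_option backward.isDefEq.respectTransparency false
set_option linter.unusedSectionVars false

namespace Groth.Agent.Lib.ModFreeRes

open Groth.Agent.Lib.CechNerveFunctor Groth.Agent.Lib.AugQuasiIso Groth.Agent.Lib.CechFreeRes

universe u

section Presheaf

variable {C : Type u} [SmallCategory C] (R₀ : Cᵒᵖ ⥤ RingCat.{u})

/-- evaluation of a presheaf of modules at `U`, as an abelian group -/
noncomputable abbrev evAb (U : Cᵒᵖ) : PresheafOfModules.{u} R₀ ⥤ AddCommGrpCat.{u} :=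
  PresheafOfModules.evaluation R₀ U ⋙ forget₂ (ModuleCat.{u} (R₀.obj U)) AddCommGrpCat.{u}

/-- the free module functor over `R₀(U)`, as an abelian group -/
noncomputable abbrev freeAb (U : Cᵒᵖ) : Type u ⥤ AddCommGrpCat.{u} :=
  ModuleCat.free (R₀.obj U) ⋙ forget₂ (ModuleCat.{u} (R₀.obj U)) AddCommGrpCat.{u}

/-- evaluating the free presheaf of modules -/
noncomputable def freeEvIso (U : Cᵒᵖ) :
    PresheafOfModules.free R₀ ⋙ evAb R₀ U ≅ (evaluation Cᵒᵖ (Type u)).obj U ⋙ freeAb R₀ U :=
  NatIso.ofComponents (fun _ => Iso.refl _)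

variable {P' P : Cᵒᵖ ⥤ Type u} (g : P' ⟶ P)

lemma isIso_of_evAb {M N : PresheafOfModules.{u} R₀} (f : M ⟶ N)
    (hf : ∀ U, IsIso ((evAb R₀ U).map f)) : IsIso f := by
  have : IsIso ((PresheafOfModules.toPresheaf R₀).map f) := by
    have : ∀ U, IsIso (((PresheafOfModules.toPresheaf R₀).map f).app U) := hf
    exact NatIso.isIso_of_isIso_app _
  exact isIso_of_reflects_iso f (PresheafOfModules.toPresheaf R₀)

/-- presheaf level: the complex of free presheaves of modules on the Čech nerve of a sectionwise
surjective map of presheaves resolves the free presheaf of modules on the target. -/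
lemma quasiIso_ε_presheafMod (hg : ∀ U, Function.Surjective (g.app U)) :
    QuasiIso (AlternatingFaceMapComplex.ε.app
      (((SimplicialObject.Augmented.whiskering _ _).obj (PresheafOfModules.free R₀)).obj
          (Arrow.mk g).augmentedCechNerve)) := by
  apply quasiIso_of_forall_map (fun U : Cᵒᵖ => evAb R₀ U) (fun f hf => isIso_of_evAb R₀ f hf)
  intro U
  rw [quasiIso_iff_of_arrow_mk_iso _ _ (epsMapArrowIso (evAb R₀ U) _)]
  refine quasiIso_ε_of_iso ?_
    (quasiIso_ε_of_extraDegeneracy ((extraDegeneracyEval g hg U).map (freeAb R₀ U)))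
  exact (whiskeringCompIso _ _ _) ≪≫
    ((SimplicialObject.Augmented.whiskering _ _).mapIso (freeEvIso R₀ U).symm).app _ ≪≫
    (whiskeringCompIso (PresheafOfModules.free R₀) (evAb R₀ U) _).symm

end Presheaf

section Sheaf

variable {C : Type u} [SmallCategory C] {J : GrothendieckTopology C} (R : Sheaf J RingCat.{u})

/-- sheafification of presheaves of `R`-modules -/
noncomputable abbrev shf : PresheafOfModules.{u} R.obj ⥤ SheafOfModules.{u} R :=
  PresheafOfModules.sheafification (𝟙 R.obj)

/-- the free sheaf of `R`-modules on a presheaf of sets -/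
noncomputable abbrev freeSh : (Cᵒᵖ ⥤ Type u) ⥤ SheafOfModules.{u} R :=
  PresheafOfModules.free R.obj ⋙ shf R

instance : (shf R).Additive :=
  (PresheafOfModules.sheafificationAdjunction (𝟙 R.obj)).left_adjoint_additive

lemma quasiIso_ε_sheafifyMod {P' P : Cᵒᵖ ⥤ Type u} (g : P' ⟶ P)
    (hg : ∀ U, Function.Surjective (g.app U)) :
    QuasiIso (AlternatingFaceMapComplex.ε.app
      (((SimplicialObject.Augmented.whiskering _ _).obj (freeSh R)).obj
        (Arrow.mk g).augmentedCechNerve)) := by
  have h := quasiIso_ε_presheafMod R.obj g hg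
  have h2 : QuasiIso (((shf R).mapHomologicalComplex _).map
    (AlternatingFaceMapComplex.ε.app
      (((SimplicialObject.Augmented.whiskering _ _).obj (PresheafOfModules.free R.obj)).obj
          (Arrow.mk g).augmentedCechNerve))) := inferInstance
  rw [quasiIso_iff_of_arrow_mk_iso _ _ (epsMapArrowIso (shf R) _)] at h2
  exact quasiIso_ε_of_iso (whiskeringCompIso _ _ _) h2

/-- a left adjoint whose right adjoint takes values in sheaves inverts `J.W`. -/
lemma isIso_map_of_W_of_adjunction {𝒟 : Type*} [Category* 𝒟] {L : (Cᵒᵖ ⥤ Type u) ⥤ 𝒟}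
    {G : 𝒟 ⥤ (Cᵒᵖ ⥤ Type u)} (adj : L ⊣ G) (hG : ∀ N, Presheaf.IsSheaf J (G.obj N))
    {P Q : Cᵒᵖ ⥤ Type u} (w : P ⟶ Q) (hw : J.W w) : IsIso (L.map w) := by
  rw [isIso_iff_coyoneda_map_bijective]
  intro N
  have h := hw (G.obj N) (hG N)
  have e : (fun x : L.obj Q ⟶ N => L.map w ≫ x) =
      (adj.homEquiv P N).symm ∘ (fun g => w ≫ g) ∘ (adj.homEquiv Q N) := by
    ext x
    simp only [Function.comp_apply]
    rw [Adjunction.homEquiv_naturality_left_symm, Equiv.symm_apply_apply]
  rw [e]
  exact (Equiv.bijective _).comp (h.comp (Equiv.bijective _))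

/-- the forgetful functor from sheaves of modules to presheaves of sets -/
noncomputable abbrev GP : SheafOfModules.{u} R ⥤ (Cᵒᵖ ⥤ Type u) :=
  (SheafOfModules.forget R ⋙ PresheafOfModules.restrictScalars (𝟙 R.obj)) ⋙
    (PresheafOfModules.toPresheaf R.obj ⋙
      (Functor.whiskeringRight _ _ _).obj (forget AddCommGrpCat.{u}))

/-- the free sheaf of modules on a presheaf of sets is left adjoint to the forgetful functor -/
noncomputable def adjP : freeSh R ⊣ GP R :=
  (PresheafOfModules.freeAdjunction R.obj).comp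
    (PresheafOfModules.sheafificationAdjunction (𝟙 R.obj))

lemma isSheaf_GP (N : SheafOfModules.{u} R) : Presheaf.IsSheaf J ((GP R).obj N) :=
  ((sheafCompose J (forget AddCommGrpCat.{u})).obj ((SheafOfModules.toSheaf R).obj N)).2

lemma isIso_freeSh_map_of_W {P Q : Cᵒᵖ ⥤ Type u} (w : P ⟶ Q) (hw : J.W w) :
    IsIso ((freeSh R).map w) :=
  isIso_map_of_W_of_adjunction (adjP R) (isSheaf_GP R) w hw

/-- the free sheaf of modules on a sheaf of sets -/
noncomputable abbrev Lfree : Sheaf J (Type u) ⥤ SheafOfModules.{u} R :=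
  sheafToPresheaf J (Type u) ⋙ freeSh R

variable {K' K : Sheaf J (Type u)} (f : K' ⟶ K) [Epi f]

/-- **Čech resolution for modules**: for an epimorphism `K' ⟶ K` of sheaves of sets, the complex of
free sheaves of `R`-modules on the Čech nerve resolves the free sheaf of modules on `K`. -/
theorem quasiIso_ε_cechNerveMod :
    QuasiIso ((AlternatingFaceMapComplex.ε (C := SheafOfModules.{u} R)).app
      (((SimplicialObject.Augmented.whiskering _ _).obj (Lfree R)).obj
          (Arrow.mk f).augmentedCechNerve)) := by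
  have hg : ∀ U, Function.Surjective ((Subfunctor.toRange f.hom).app U) := by
    rintro U ⟨y, x, rfl⟩
    exact ⟨x, Subtype.ext (Subfunctor.toRange_app_val f.hom x)⟩
  have h1 := quasiIso_ε_sheafifyMod R (Subfunctor.toRange f.hom) hg
  let φ : Arrow.mk (Subfunctor.toRange f.hom) ⟶ Arrow.mk f.hom :=
    Arrow.homMk (𝟙 _) (Subfunctor.range f.hom).ι (by simp)
  let Ψ := ((SimplicialObject.Augmented.whiskering _ _).obj (freeSh R)).map
    (Arrow.mapAugmentedCechNerve φ)
  have hl : IsIso Ψ.left := by
    have : IsIso (Arrow.mapCechNerve φ) := by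
      have : IsIso φ.left := by dsimp [φ]; infer_instance
      have : Mono φ.right := by dsimp [φ]; infer_instance
      infer_instance
    change IsIso (Functor.whiskerRight (Arrow.mapCechNerve φ) (freeSh R))
    infer_instance
  have hr : IsIso Ψ.right := isIso_freeSh_map_of_W R _ (W_range_ι J f)
  have : IsIso Ψ := comma_isIso_of_isIso_left_right Ψ
  have h2 := quasiIso_ε_of_iso (asIso Ψ) h1
  refine quasiIso_ε_of_iso ?_ h2
  exact ((SimplicialObject.Augmented.whiskering _ _).obj (freeSh R)).mapIso
    (compIso (sheafToPresheaf J (Type u)) (Arrow.mk f)).symm ≪≫ whiskeringCompIso _ _ _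

end Sheaf

end Groth.Agent.Lib.ModFreeRes
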