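import Groth.Agent.Lib.SuppExact21
import Groth.Agent.Lib.ModShriekRestr
import Mathlib.CategoryTheory.Adjunction.Triple

/-!
# Extension by zero is a subobject; maps into injective modules extend from an open

Ringed site `(C, J, O)`, object `U` such that extension by zero `j_! : Mod(O_U) ⥤ Mod(O)` is
fully faithful (unit `G ⟶ (j_! G)|_U` an isomorphism; e.g. `U` an open of a topological space):

* `mono_counit`: the counit `j_!(N|_U) ⟶ N` is a monomorphism;
* `exists_restr_map_eq`: for an injective module `I`, every map `N|_U ⟶ I|_U` is the restriction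
  of a map `N ⟶ I`.
-/

set_option autoImplicit false
universe u
open CategoryTheory CategoryTheory.Limits Opposite

namespace Groth.Agent.Lib.ModInjFlasque92

section Site

variable {C : Type u} [SmallCategory C] {J : GrothendieckTopology C}
  (O : Sheaf J CommRingCat.{u}) (U : C)

open Groth.Agent.Lib.SuppAdj21

/-- restriction to `U` inverts the counit of `j_! ⊣ (-)|_U` when `j_!` is fully faithful -/
lemma isIso_restr_map_counit [IsIso (ModSite.extZeroAdj O U).unit] (N : ModSite.Mod O) :
    IsIso ((ModSite.restr O U).map ((ModSite.extZeroAdj O U).counit.app N)) := by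
  have htri := (ModSite.extZeroAdj O U).right_triangle_components N
  have h1 : IsIso ((ModSite.extZeroAdj O U).unit.app ((ModSite.restr O U).obj N)) := inferInstance
  have h2 : IsIso ((ModSite.extZeroAdj O U).unit.app ((ModSite.restr O U).obj N) ≫
      (ModSite.restr O U).map ((ModSite.extZeroAdj O U).counit.app N)) := by
    rw [htri]
    infer_instance
  exact IsIso.of_isIso_comp_left
    ((ModSite.extZeroAdj O U).unit.app ((ModSite.restr O U).obj N)) _

/-- **`j_!(N|_U) ⟶ N` is a monomorphism** -/
theorem mono_counit [IsIso (ModSite.extZeroAdj O U).unit] (N : ModSite.Mod O) :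
    Mono ((ModSite.extZeroAdj O U).counit.app N) := by
  let ε := (ModSite.extZeroAdj O U).counit.app N
  have hT : IsT U (kernel ε) := IsT.of_mono (kernel.ι ε) (isT_extZero O U _)
  have hnull : ModSite.IsNullOn O U (kernel ε) := by
    have hiso : IsIso ((ModSite.restr O U).map ε) := isIso_restr_map_counit O U N
    have hz : IsZero (kernel ((ModSite.restr O U).map ε)) := isZero_kernel_of_mono _
    exact hz.of_iso (PreservesKernel.iso (ModSite.restr O U) ε)
  have h0 : 𝟙 (kernel ε) = 0 := comp_eq_zero_of_isT hT hnull (𝟙 _)
  apply Preadditive.mono_of_kernel_zero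
  calc kernel.ι ε = 𝟙 _ ≫ kernel.ι ε := (Category.id_comp _).symm
    _ = 0 := by rw [h0, zero_comp]

/-- **maps into an injective module extend from `U`** -/
theorem exists_restr_map_eq [IsIso (ModSite.extZeroAdj O U).unit] (I : ModSite.Mod O)
    [Injective I] (N : ModSite.Mod O)
    (g : (ModSite.restr O U).obj N ⟶ (ModSite.restr O U).obj I) :
    ∃ f : N ⟶ I, (ModSite.restr O U).map f = g := by
  let adj := ModSite.extZeroAdj O U
  have := mono_counit O U N
  let g' : (ModSite.extZero O U).obj ((ModSite.restr O U).obj N) ⟶ I :=
    (adj.homEquiv _ _).symm g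
  refine ⟨Injective.factorThru g' (adj.counit.app N), ?_⟩
  have h1 : adj.counit.app N ≫ Injective.factorThru g' (adj.counit.app N) = g' :=
    Injective.comp_factorThru _ _
  have h2 : adj.homEquiv _ _ (adj.counit.app N ≫ Injective.factorThru g' (adj.counit.app N)) =
      (ModSite.restr O U).map (Injective.factorThru g' (adj.counit.app N)) := by
    rw [Adjunction.homEquiv_unit, Functor.map_comp, ← Category.assoc,
      adj.right_triangle_components, Category.id_comp]
  rw [← h2, h1]
  exact (adj.homEquiv _ _).apply_symm_apply g

end Site

end Groth.Agent.Lib.ModInjFlasque92
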