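import Groth.Agent.Lib.ModInjFlasque92
import Groth.Prelude.Def_Coh

/-!
# Injective `O_Y`-modules on a scheme are flasque

For an open `W` of a scheme `Y`: extension by zero along `W ⊆ Y` is fully faithful (adjoint triple
with the fully faithful direct image), so maps `N|_W ⟶ I|_W` into an injective module extend,
the unit `I ⟶ j_* j^* I` is a split epimorphism, and `I` is flasque.
-/

set_option autoImplicit false
universe u
open CategoryTheory CategoryTheory.Limits Opposite AlgebraicGeometry TopologicalSpace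

namespace Groth.Agent.Lib.ModInjFlasque92

section Abstract

variable {A B : Type*} [Category A] [Category B] {R : A ⥤ B} {P : B ⥤ A}

/-- if every map `R N ⟶ R I` comes from a map `N ⟶ I`, the unit `I ⟶ P R I` is a split epi -/
lemma exists_section_unit (adj : R ⊣ P) (I : A)
    (h : ∀ (N : A) (g : R.obj N ⟶ R.obj I), ∃ f : N ⟶ I, R.map f = g) :
    ∃ s : P.obj (R.obj I) ⟶ I, s ≫ adj.unit.app I = 𝟙 _ := by
  obtain ⟨f, hf⟩ := h (P.obj (R.obj I)) (adj.counit.app (R.obj I))
  refine ⟨f, ?_⟩
  apply (adj.homEquiv _ _).symm.injective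
  rw [Adjunction.homEquiv_counit, Adjunction.homEquiv_counit, Functor.map_comp, Category.assoc,
    adj.left_triangle_components, Category.comp_id, hf, CategoryTheory.Functor.map_id,
    Category.id_comp]

/-- transfer of the extension property along `R₀ ⋙ E ≅ R` with `E` fully faithful -/
lemma exists_map_eq_of_iso {B' : Type*} [Category B'] {R₀ : A ⥤ B'} {E : B' ⥤ B} [E.Full]
    [E.Faithful] (θ : R₀ ⋙ E ≅ R) (I : A)
    (h₀ : ∀ (N : A) (g₀ : R₀.obj N ⟶ R₀.obj I), ∃ f : N ⟶ I, R₀.map f = g₀)
    (N : A) (g : R.obj N ⟶ R.obj I) : ∃ f : N ⟶ I, R.map f = g := by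
  obtain ⟨f, hf⟩ := h₀ N (E.preimage (θ.hom.app N ≫ g ≫ θ.inv.app I))
  refine ⟨f, ?_⟩
  have hnat := θ.hom.naturality f
  have h1 : E.map (R₀.map f) = θ.hom.app N ≫ g ≫ θ.inv.app I := by
    rw [hf]
    exact E.map_preimage _
  have h2 : R.map f = θ.inv.app N ≫ (R₀ ⋙ E).map f ≫ θ.hom.app I := by
    rw [hnat, ← Category.assoc, Iso.inv_hom_id_app, Category.id_comp]
  rw [h2, Functor.comp_map, h1]
  simp

end Abstract

section Scheme

variable (Y : Scheme.{u}) (W : Y.Opens)

/-- restriction to the localised site, in `ModSite` form -/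
noncomputable abbrev R₀ : SheafOfModules.{u} Y.ringCatSheaf ⥤
    SheafOfModules.{u} (Y.ringCatSheaf.over W) :=
  ModSite.restr Y.sheaf W

/-- the right adjoint of `R₀` built from Mathlib's direct image -/
noncomputable def adj₂ : R₀ Y W ⊣ (Scheme.Modules.overEquiv W).functor ⋙
    Scheme.Modules.pushforward W.ι :=
  ((Scheme.Modules.restrictAdjunction W.ι).comp
    (Scheme.Modules.overEquiv W).symm.toAdjunction).ofNatIsoLeft
    (Functor.isoWhiskerRight (Scheme.Modules.overFunctorEquiv W).symm _ ≪≫
      Functor.associator _ _ _ ≪≫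
      Functor.isoWhiskerLeft _ (Scheme.Modules.overEquiv W).unitIso.symm ≪≫
      Functor.rightUnitor _)

instance isIso_unit_extZeroAdj : IsIso (ModSite.extZeroAdj Y.sheaf W).unit := by
  let t : Adjunction.Triple (ModSite.extZero Y.sheaf W) (R₀ Y W)
      ((Scheme.Modules.overEquiv W).functor ⋙ Scheme.Modules.pushforward W.ι) :=
    ⟨ModSite.extZeroAdj Y.sheaf W, adj₂ Y W⟩
  have hfull : (Scheme.Modules.pushforward W.ι).Full := inferInstance
  have hfaith : (Scheme.Modules.pushforward W.ι).Faithful := inferInstance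
  have hfull₀ : (Scheme.Modules.overEquiv W).functor.Full := inferInstance
  have hfaith₀ : (Scheme.Modules.overEquiv W).functor.Faithful := inferInstance
  have hfull' : ((Scheme.Modules.overEquiv W).functor ⋙ Scheme.Modules.pushforward W.ι).Full :=
    @Functor.Full.comp _ _ _ _ _ _ _ _ hfull₀ hfull
  have hfaith' : ((Scheme.Modules.overEquiv W).functor ⋙
      Scheme.Modules.pushforward W.ι).Faithful :=
    @Functor.Faithful.comp _ _ _ _ _ _ _ _ hfaith₀ hfaith
  have : IsIso (adj₂ Y W).counit := @Adjunction.counit_isIso_of_R_fully_faithful _ _ _ _ _ _ (adj₂ Y W) hfull' hfaith'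
  exact t.isIso_unit_iff_isIso_counit.2 this

/-- **maps into an injective module extend from an open subscheme** -/
theorem exists_restrict_map_eq (I : Y.Modules) [Injective I] (N : Y.Modules)
    (g : (Scheme.Modules.restrictFunctor W.ι).obj N ⟶ (Scheme.Modules.restrictFunctor W.ι).obj I) :
    ∃ f : N ⟶ I, (Scheme.Modules.restrictFunctor W.ι).map f = g := by
  let I' : SheafOfModules.{u} Y.ringCatSheaf := I
  have hI' : Injective I' := ‹Injective I›
  exact exists_map_eq_of_iso (R₀ := R₀ Y W) (E := (Scheme.Modules.overEquiv W).functor)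
    (Scheme.Modules.overFunctorEquiv W) I'
    (fun N' g₀ => exists_restr_map_eq Y.sheaf W I' N' g₀) N g

/-- the unit `I ⟶ j_* j^* I` is a split epimorphism for `I` injective -/
theorem exists_section_unit_restrictAdjunction (I : Y.Modules) [Injective I] :
    ∃ s : (Scheme.Modules.pushforward W.ι).obj ((Scheme.Modules.restrictFunctor W.ι).obj I) ⟶ I,
      s ≫ (Scheme.Modules.restrictAdjunction W.ι).unit.app I = 𝟙 _ :=
  exists_section_unit (Scheme.Modules.restrictAdjunction W.ι) I
    (fun N g => exists_restrict_map_eq Y W I N g)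

variable {Y}

lemma presheaf_res_res (M : Y.Modules) {A B C : Y.Opens} (h₁ : B ≤ A) (h₂ : C ≤ B)
    (x : Γ(M, A)) :
    M.presheaf.map (homOfLE h₂).op (M.presheaf.map (homOfLE h₁).op x) =
      M.presheaf.map (homOfLE (h₂.trans h₁)).op x := by
  rw [← ConcreteCategory.comp_apply, ← M.presheaf.map_comp]
  rfl

lemma presheaf_res_id (M : Y.Modules) {A : Y.Opens} (h : A ≤ A) (x : Γ(M, A)) :
    M.presheaf.map (homOfLE h).op x = x := by
  have : (homOfLE h).op = 𝟙 (op A) := rfl
  rw [this, M.presheaf.map_id]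
  rfl

/-- **the restriction maps of an injective `O_Y`-module are surjective** -/
theorem res_surjective_of_injective (I : Y.Modules) [Injective I] {V' V : Y.Opens} (h : V' ≤ V) :
    Function.Surjective (I.presheaf.map (homOfLE h).op) := by
  intro t
  obtain ⟨s, hs⟩ := exists_section_unit_restrictAdjunction Y V' I
  have hle : V'.ι ''ᵁ (V'.ι ⁻¹ᵁ V) ≤ V' := by
    rintro x ⟨y, -, rfl⟩
    exact y.2
  have hge : V' ≤ V'.ι ''ᵁ (V'.ι ⁻¹ᵁ V) := fun x hx => ⟨⟨x, hx⟩, h hx, rfl⟩
  let x : Γ(I, V'.ι ''ᵁ (V'.ι ⁻¹ᵁ V)) := I.presheaf.map (homOfLE hle).op t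
  have h1 : (s ≫ (Scheme.Modules.restrictAdjunction V'.ι).unit.app I).app V = 𝟙 _ := by
    rw [hs]
    rfl
  have h2 : I.presheaf.map (homOfLE (V'.ι.image_preimage_le V)).op (s.app V x) = x :=
    ConcreteCategory.congr_hom h1 x
  refine ⟨s.app V x, ?_⟩
  have h3 := presheaf_res_res I (V'.ι.image_preimage_le V) hge (s.app V x)
  rw [h2] at h3
  refine h3.symm.trans ?_
  exact (presheaf_res_res I hle hge t).trans (presheaf_res_id I _ t)

/-- **an injective `O_Y`-module is flasque** -/
theorem isFlasque_of_injective (I : Y.Modules) [Injective I] :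
    TopCat.Sheaf.IsFlasque (Coh.toAb I) where
  epi {U V} i := by
    apply (AddCommGrpCat.epi_iff_surjective _).2
    exact res_surjective_of_injective I i.unop.le

end Scheme

end Groth.Agent.Lib.ModInjFlasque92
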