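import Groth.Agent.Lib.ModInjFlasque92b
import Mathlib.CategoryTheory.Sites.LocallySurjective
import Mathlib.CategoryTheory.Sites.EpiMono

/-!
# The unit `I ⟶ j_* j^* I` is an epimorphism for injective `O_Y`-modules `I`
-/

set_option autoImplicit false
universe u
open CategoryTheory CategoryTheory.Limits Opposite AlgebraicGeometry TopologicalSpace

namespace Groth.Agent.Lib.ModInjFlasque92

variable {Y : Scheme.{u}}

/-- a morphism of `O_Y`-modules which is surjective on sections over every open is an epi -/
theorem epi_of_surjective_app {M N : Y.Modules} (φ : M ⟶ N)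
    (h : ∀ V : Y.Opens, Function.Surjective (φ.app V)) : Epi φ := by
  let ψ := (SheafOfModules.toSheaf Y.ringCatSheaf).map φ
  have hls : Sheaf.IsLocallySurjective ψ := by
    refine ⟨fun {V} s => ?_⟩
    intro x hx
    obtain ⟨t, ht⟩ := h V s
    exact ⟨V, 𝟙 V, ⟨t, by
      rw [show (𝟙 V : V ⟶ V).op = 𝟙 (op V) from rfl]
      erw [CategoryTheory.Functor.map_id]
      exact ht⟩, hx⟩
  have hepi : Epi ψ := Sheaf.epi_of_isLocallySurjective ψ
  have hfaith : (SheafOfModules.toSheaf.{u} Y.ringCatSheaf).Faithful := inferInstance
  have hre : (SheafOfModules.toSheaf.{u} Y.ringCatSheaf).ReflectsEpimorphisms :=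
    Functor.reflectsEpimorphisms_of_faithful _
  exact hre.reflects φ hepi

/-- **the unit `I ⟶ j_* j^* I` is an epimorphism when `I` is injective** -/
theorem epi_unit_of_injective {U : Scheme.{u}} (j : U ⟶ Y) [IsOpenImmersion j] (I : Y.Modules)
    [Injective I] : Epi ((Scheme.Modules.restrictAdjunction j).unit.app I) := by
  apply epi_of_surjective_app
  intro V
  exact res_surjective_of_injective I (j.image_preimage_le V)

end Groth.Agent.Lib.ModInjFlasque92
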