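import Groth.Agent.Lib.ModConst22a
import Groth.Agent.Lib.EtModPullExact22

/-!
# Morphisms between constant étale sheaves of modules are locally constant (helper22)

Module analogue of `EtLCKer22a/b`.

* `exists_const_homM`: a morphism `θ : M̲ ⟶ N̲` of constant sheaves of `Λ`-modules with `M`
  finitely generated is, étale-locally, induced by a `Λ`-linear map `M ⟶ N`;
* `isLC_ker_coker_constM`, `isLC_ker_cokerM`: over a Noetherian ring, kernels and cokernels of
  morphisms of finite type locally constant sheaves are finite type locally constant.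
-/

set_option autoImplicit false
set_option linter.style.haveILetI false
set_option linter.unusedSectionVars false
universe u

open CategoryTheory AlgebraicGeometry Limits MorphismProperty Opposite

namespace Groth.Agent.Lib.ModConst22

open Groth.Agent.Lib.EtOverSite22 Groth.Agent.Lib.EtLocConst22
  Groth.Agent.Lib.ConstOver22 Groth.Agent.Lib.EtLCKer22

variable {Λ : Type (u + 1)} [CommRing Λ] {X : Scheme.{u}}

theorem res_compM (F : EtModW.Mod Λ X) {U V V' : X.Etale} (g : V ⟶ U) (g' : V' ⟶ V)
    (s : EtModW.sect Λ F U) :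
    F.obj.map (g' ≫ g).op s = F.obj.map g'.op (F.obj.map g.op s) := by
  rw [op_comp, Functor.map_comp]
  rfl

/-- Finitely many sections of a constant sheaf are simultaneously constant on an étale
neighbourhood of a given point. -/
theorem exists_constSecM_eq_list (N : MC.{u} Λ) {U : X.Etale}
    (l : List (EtModW.sect Λ (constShM Λ X N) U)) (x : U.left) :
    ∃ (V : X.Etale) (g : V ⟶ U), x ∈ Set.range g.left ∧
      ∀ s ∈ l, ∃ n : N, (constShM Λ X N).obj.map g.op s = constSecM N V n := by
  induction l with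
  | nil => exact ⟨U, 𝟙 U, ⟨x, rfl⟩, by simp⟩
  | cons s l ih =>
    obtain ⟨V, g, ⟨y, hy⟩, hl⟩ := ih
    obtain ⟨V', g', n, ⟨z, hz⟩, hn⟩ :=
      exists_constSecM_eq_pt N ((constShM Λ X N).obj.map g.op s) y
    refine ⟨V', g' ≫ g, ⟨z, ?_⟩, ?_⟩
    · rw [← hy, ← hz]
      rfl
    · intro t ht
      rcases List.mem_cons.1 ht with rfl | ht
      · exact ⟨n, (res_compM _ g g' _).trans hn⟩
      · obtain ⟨n', hn'⟩ := hl t ht
        refine ⟨n', (res_compM _ g g' _).trans ?_⟩
        rw [hn']
        exact constSecM_res N g' n'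

/-- Naturality of a morphism of sheaves, on sections. -/
theorem hom_resM {F G : EtModW.Mod Λ X} (θ : F ⟶ G) {U V : X.Etale} (g : V ⟶ U)
    (s : EtModW.sect Λ F U) :
    θ.hom.app (op V) (F.obj.map g.op s) = G.obj.map g.op (θ.hom.app (op U) s) := by
  have h := θ.hom.naturality g.op
  exact congrArg (fun f => f.hom s) h

/-- A morphism between constant sheaves of modules with finitely generated source is,
étale-locally, induced by a linear map. -/
theorem exists_const_homM {M N : MC.{u} Λ} [Module.Finite Λ M]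
    (θ : constShM Λ X M ⟶ constShM Λ X N) (x : X) :
    ∃ (W : X.Etale) (ψ : M ⟶ N), x ∈ Set.range W.hom ∧
      ∀ (V : X.Etale) (_ : V ⟶ W) (m : M),
        θ.hom.app (op V) (constSecM M V m) = constSecM N V (ψ m) := by
  classical
  obtain ⟨r, s, hs⟩ := Module.Finite.exists_fin (R := Λ) (M := M)
  let l : List (EtModW.sect Λ (constShM Λ X N) (EtCoh.top X)) :=
    List.ofFn (fun j : Fin r => θ.hom.app (op (EtCoh.top X)) (constSecM M (EtCoh.top X) (s j)))
  obtain ⟨W, g, ⟨y, hy⟩, hl⟩ := exists_constSecM_eq_list N l (x : (EtCoh.top X).left)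
  have hl' : ∀ j : Fin r, ∃ n : N, θ.hom.app (op W) (constSecM M W (s j)) = constSecM N W n := by
    intro j
    obtain ⟨n, hn⟩ := hl (θ.hom.app (op (EtCoh.top X)) (constSecM M (EtCoh.top X) (s j)))
      ((List.mem_ofFn' _ _).2 ⟨j, rfl⟩)
    refine ⟨n, ?_⟩
    rw [← hn, ← hom_resM θ g, constSecM_res]
  choose n hn using hl'
  haveI : Nonempty W.left := ⟨y⟩
  let π : (Fin r → Λ) →ₗ[Λ] M := Fintype.linearCombination Λ s
  let ν : (Fin r → Λ) →ₗ[Λ] N := Fintype.linearCombination Λ n
  have hπ : Function.Surjective π := by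
    rw [← LinearMap.range_eq_top, Fintype.range_linearCombination, hs]
  let θW : EtModW.sect Λ (constShM Λ X M) W →ₗ[Λ] EtModW.sect Λ (constShM Λ X N) W :=
    (θ.hom.app (op W)).hom
  have hAB : (θW ∘ₗ constSecM M W) ∘ₗ π = constSecM N W ∘ₗ ν := by
    apply LinearMap.pi_ext'
    intro j
    apply LinearMap.ext_ring
    simp only [LinearMap.coe_comp, Function.comp_apply, LinearMap.coe_single, π, ν,
      Fintype.linearCombination_apply_single, one_smul]
    exact hn j
  have hle : LinearMap.ker π ≤ LinearMap.ker ν := by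
    intro c hc
    rw [LinearMap.mem_ker] at hc ⊢
    apply constSecM_injective N W
    have h1 := LinearMap.congr_fun hAB c
    simp only [LinearMap.coe_comp, Function.comp_apply] at h1
    rw [← h1, hc, map_zero, map_zero, map_zero]
  let ψ₀ : M →ₗ[Λ] N :=
    ((LinearMap.ker π).liftQ ν hle) ∘ₗ (LinearMap.quotKerEquivOfSurjective π hπ).symm.toLinearMap
  have hψ₀ : ∀ c, ψ₀ (π c) = ν c := by
    intro c
    have : (LinearMap.quotKerEquivOfSurjective π hπ).symm (π c) =
        Submodule.Quotient.mk c := by
      rw [LinearEquiv.symm_apply_eq]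
      rfl
    change ((LinearMap.ker π).liftQ ν hle) ((LinearMap.quotKerEquivOfSurjective π hπ).symm (π c)) = _
    rw [this]
    rfl
  refine ⟨W, ModuleCat.ofHom ψ₀, ⟨y, ?_⟩, ?_⟩
  · have hw : g.left ≫ (EtCoh.top X).hom = W.hom := Over.w g
    rw [← hw]
    exact hy
  · intro V h m
    obtain ⟨c, rfl⟩ := hπ m
    have e1 : constSecM M V (π c) = (constShM Λ X M).obj.map h.op (constSecM M W (π c)) :=
      (constSecM_res M h (π c)).symm
    have h1 := LinearMap.congr_fun hAB c
    simp only [LinearMap.coe_comp, Function.comp_apply] at h1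
    rw [e1, hom_resM θ h]
    change (constShM Λ X N).obj.map h.op (θW (constSecM M W (π c))) = _
    rw [h1, constSecM_res]
    change _ = constSecM N V (ψ₀ (π c))
    rw [hψ₀]

end Groth.Agent.Lib.ModConst22
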