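import Groth.Agent.Lib.ModLCKer22a

/-!
# Kernels and cokernels of finite type locally constant sheaves of modules (helper22)

Module analogue of `EtLCKer22b`, over a Noetherian coefficient ring.
-/

set_option autoImplicit false
set_option linter.style.haveILetI false
set_option linter.unusedSectionVars false
universe u

open CategoryTheory AlgebraicGeometry Limits MorphismProperty Opposite

namespace Groth.Agent.Lib.ModConst22

open Groth.Agent.Lib.EtOverSite22 Groth.Agent.Lib.EtLocConst22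
  Groth.Agent.Lib.ConstOver22 Groth.Agent.Lib.EtLCKer22

variable {Λ : Type (u + 1)} [CommRing Λ] {X : Scheme.{u}}

/-- Over `W`, a morphism of constant sheaves which is given by `ψ` on constant sections equals
the constant morphism. -/
theorem overPullback_map_eq_constM {M N : MC.{u} Λ} (θ : constShM Λ X M ⟶ constShM Λ X N)
    (W : X.Etale) (ψ : M ⟶ N)
    (h : ∀ (V : X.Etale) (_ : V ⟶ W) (m : M),
      θ.hom.app (op V) (constSecM M V m) = constSecM N V (ψ m)) :
    (X.smallEtaleTopology.overPullback (MC.{u} Λ) W).map θ =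
      (X.smallEtaleTopology.overPullback (MC.{u} Λ) W).map
        ((constantSheaf X.smallEtaleTopology (MC.{u} Λ)).map ψ) := by
  apply overPullback_map_eq
  apply NatTrans.ext
  funext V
  apply ModuleCat.hom_ext
  ext m
  exact (h V.unop.left V.unop.hom m).trans (constSecM_map ψ V.unop.left m).symm

/-- restriction to the over-site of `W` -/
noncomputable abbrev RwM (W : X.Etale) :
    Sheaf X.smallEtaleTopology (MC.{u} Λ) ⥤ Sheaf (X.smallEtaleTopology.over W) (MC.{u} Λ) :=
  X.smallEtaleTopology.overPullback (MC.{u} Λ) W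

/-- the constant sheaf functor -/
noncomputable abbrev PhiM (Λ : Type (u + 1)) [CommRing Λ] (X : Scheme.{u}) :
    MC.{u} Λ ⥤ Sheaf X.smallEtaleTopology (MC.{u} Λ) :=
  constantSheaf X.smallEtaleTopology (MC.{u} Λ)

section iso

variable {M N : MC.{u} Λ} (θ : constShM Λ X M ⟶ constShM Λ X N) (W : X.Etale) (ψ : M ⟶ N)
  (h : (RwM W).map θ = (RwM W).map ((PhiM Λ X).map ψ))

instance additive_overPullbackM : (RwM (Λ := Λ) W).Additive :=
  Functor.additive_of_preserves_binary_products _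

include h in
theorem nonempty_kernel_over_isoM :
    Nonempty ((kernel θ).over W ≅
      (constantSheaf (X.smallEtaleTopology.over W) (MC.{u} Λ)).obj (kernel ψ)) := by
  have e1 : (RwM W).obj (kernel θ) ≅ kernel ((RwM W).map θ) := PreservesKernel.iso (RwM W) θ
  have e2 : kernel ((RwM W).map θ) ≅ kernel ((RwM W).map ((PhiM Λ X).map ψ)) := kernelIsoOfEq h
  have e3 : (RwM W).obj (kernel ((PhiM Λ X).map ψ)) ≅ kernel ((RwM W).map ((PhiM Λ X).map ψ)) :=
    PreservesKernel.iso (RwM W) ((PhiM Λ X).map ψ)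
  have e4 : (PhiM Λ X).obj (kernel ψ) ≅ kernel ((PhiM Λ X).map ψ) :=
    PreservesKernel.iso (PhiM Λ X) ψ
  exact ⟨e1 ≪≫ e2 ≪≫ e3.symm ≪≫ (RwM W).mapIso e4.symm ≪≫
    constOverIso X.smallEtaleTopology (MC.{u} Λ) W (kernel ψ)⟩

include h in
theorem nonempty_cokernel_over_isoM :
    Nonempty ((cokernel θ).over W ≅
      (constantSheaf (X.smallEtaleTopology.over W) (MC.{u} Λ)).obj (cokernel ψ)) := by
  have e1 : (RwM W).obj (cokernel θ) ≅ cokernel ((RwM W).map θ) :=
    PreservesCokernel.iso (RwM W) θ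
  have e2 : cokernel ((RwM W).map θ) ≅ cokernel ((RwM W).map ((PhiM Λ X).map ψ)) :=
    cokernelIsoOfEq h
  have e3 : (RwM W).obj (cokernel ((PhiM Λ X).map ψ)) ≅
      cokernel ((RwM W).map ((PhiM Λ X).map ψ)) :=
    PreservesCokernel.iso (RwM W) ((PhiM Λ X).map ψ)
  have e4 : (PhiM Λ X).obj (cokernel ψ) ≅ cokernel ((PhiM Λ X).map ψ) :=
    PreservesCokernel.iso (PhiM Λ X) ψ
  exact ⟨e1 ≪≫ e2 ≪≫ e3.symm ≪≫ (RwM W).mapIso e4.symm ≪≫
    constOverIso X.smallEtaleTopology (MC.{u} Λ) W (cokernel ψ)⟩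

end iso

variable [IsNoetherianRing Λ]

theorem finite_kernel {M N : MC.{u} Λ} [Module.Finite Λ M] (ψ : M ⟶ N) :
    Module.Finite Λ (kernel ψ : MC.{u} Λ) := by
  haveI : IsNoetherian Λ M := isNoetherian_of_isNoetherianRing_of_finite Λ M
  have : Function.Injective (kernel.ι ψ).hom := (ModuleCat.mono_iff_injective _).1 inferInstance
  exact Module.Finite.of_injective (kernel.ι ψ).hom this

theorem finite_cokernel {M N : MC.{u} Λ} [Module.Finite Λ N] (ψ : M ⟶ N) :
    Module.Finite Λ (cokernel ψ : MC.{u} Λ) := by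
  have : Function.Surjective (cokernel.π ψ).hom := (ModuleCat.epi_iff_surjective _).1 inferInstance
  exact Module.Finite.of_surjective (cokernel.π ψ).hom this

/-- Kernel and cokernel of a morphism of constant sheaves with finitely generated values are
locally constant of finite type. -/
theorem isLC_ker_coker_constM {T : Scheme.{u}} {M N : MC.{u} Λ} [Module.Finite Λ M]
    [Module.Finite Λ N] (θ : constShM Λ T M ⟶ constShM Λ T N) :
    IsLC (MC.{u} Λ) (PFT Λ) (kernel θ) ∧ IsLC (MC.{u} Λ) (PFT Λ) (cokernel θ) := by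
  have hx := fun x : T => exists_const_homM θ x
  choose W ψ hW hψ using hx
  have hcov : EtCoh.Covers W := by
    intro x
    obtain ⟨y, hy⟩ := hW x
    exact ⟨x, y, hy⟩
  have heq := fun x => overPullback_map_eq_constM θ (W x) (ψ x) (hψ x)
  constructor
  · exact ⟨T, W, hcov, fun x => ⟨kernel (ψ x), finite_kernel (ψ x),
      nonempty_kernel_over_isoM θ (W x) (ψ x) (heq x)⟩⟩
  · exact ⟨T, W, hcov, fun x => ⟨cokernel (ψ x), finite_cokernel (ψ x),
      nonempty_cokernel_over_isoM θ (W x) (ψ x) (heq x)⟩⟩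

/-- Kernel and cokernel of a morphism of finite type locally constant sheaves of modules over a
Noetherian ring are finite type locally constant. -/
theorem isLC_ker_cokerM {T : Scheme.{u}} {F G : EtModW.Mod Λ T} (φ : F ⟶ G)
    (hF : IsLC (MC.{u} Λ) (PFT Λ) F) (hG : IsLC (MC.{u} Λ) (PFT Λ) G) :
    IsLC (MC.{u} Λ) (PFT Λ) (kernel φ) ∧ IsLC (MC.{u} Λ) (PFT Λ) (cokernel φ) := by
  obtain ⟨ι, U, hU, h⟩ := exists_common_cover hF hG
  have key : ∀ i, IsLC (MC.{u} Λ) (PFT Λ) ((pullA (MC.{u} Λ) (homX (U i))).obj (kernel φ)) ∧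
      IsLC (MC.{u} Λ) (PFT Λ) ((pullA (MC.{u} Λ) (homX (U i))).obj (cokernel φ)) := by
    intro i
    obtain ⟨⟨M, hM, ⟨α⟩⟩, ⟨N, hN, ⟨β⟩⟩⟩ := h i
    haveI : Module.Finite Λ M := hM
    haveI : Module.Finite Λ N := hN
    let p := pullA (MC.{u} Λ) (homX (U i))
    haveI : PreservesFiniteLimits p :=
      Groth.Agent.Lib.EtModPullExact22.preservesFiniteLimits_pullMod (Λ := Λ) (homX (U i))
    haveI : PreservesColimitsOfSize.{0, 0} p :=
      (pullPushAdjA (MC.{u} Λ) (homX (U i))).leftAdjoint_preservesColimits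
    haveI : PreservesFiniteColimits p := PreservesColimitsOfSize.preservesFiniteColimits p
    let θ : constShM Λ (U i).left M ⟶ constShM Λ (U i).left N := α.inv ≫ p.map φ ≫ β.hom
    obtain ⟨h1, h2⟩ := isLC_ker_coker_constM θ
    have e1 : p.obj (kernel φ) ≅ kernel (p.map φ) := PreservesKernel.iso p φ
    have e2 : kernel (p.map φ) ≅ kernel θ :=
      kernel.mapIso (p.map φ) θ α β (by simp [θ])
    have e3 : p.obj (cokernel φ) ≅ cokernel (p.map φ) := PreservesCokernel.iso p φ
    have e4 : cokernel (p.map φ) ≅ cokernel θ :=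
      cokernel.mapIso (p.map φ) θ α β (by simp [θ])
    exact ⟨h1.of_iso (e1 ≪≫ e2).symm, h2.of_iso (e3 ≪≫ e4).symm⟩
  exact ⟨IsLC.of_cover U hU (fun i => (key i).1), IsLC.of_cover U hU (fun i => (key i).2)⟩

theorem isFTLC_kernel {T : Scheme.{u}} {F G : EtModW.Mod Λ T} (φ : F ⟶ G)
    (hF : EtModW.IsFTLocConst Λ F) (hG : EtModW.IsFTLocConst Λ G) :
    EtModW.IsFTLocConst Λ (kernel φ) :=
  (isFTLC_iff_isLC Λ _).2
    (isLC_ker_cokerM φ ((isFTLC_iff_isLC Λ _).1 hF) ((isFTLC_iff_isLC Λ _).1 hG)).1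

theorem isFTLC_cokernel {T : Scheme.{u}} {F G : EtModW.Mod Λ T} (φ : F ⟶ G)
    (hF : EtModW.IsFTLocConst Λ F) (hG : EtModW.IsFTLocConst Λ G) :
    EtModW.IsFTLocConst Λ (cokernel φ) :=
  (isFTLC_iff_isLC Λ _).2
    (isLC_ker_cokerM φ ((isFTLC_iff_isLC Λ _).1 hF) ((isFTLC_iff_isLC Λ _).1 hG)).2

end Groth.Agent.Lib.ModConst22
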