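import Groth.Agent.Lib.ProEtDetect22
import Groth.Agent.Lib.AdicTower22
import Groth.Agent.Lib.AdjLinear22
import Mathlib.CategoryTheory.Sites.Limits

/-!
# Limits of adic systems of pro-étale sheaves (helper22)

`isQuot_limit_π`: for an `I`-adic system `(Q_n)` of sheaves of `Λ`-modules on the pro-étale site
(`I` finitely generated), the projection `lim Q_n ⟶ Q_n` is a quotient map modulo `I^{n+1}`.
-/

set_option autoImplicit false
set_option linter.style.haveILetI false
universe u

open CategoryTheory CategoryTheory.Limits AlgebraicGeometry Opposite EtModW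

namespace Groth.Agent.Lib.ProEtAdicLim22

open Groth.Agent.Lib.ProEtQuot22 Groth.Agent.Lib.ProEtDetect22 Groth.Agent.Lib.AdicTower22

variable {Λ : Type (u + 1)} [CommRing Λ] {X : Scheme.{u}}

section sections

variable (Q : ℕᵒᵖ ⥤ EtModW.ModP Λ X) (W : X.ProEt)

/-- The transition maps on sections. -/
noncomputable abbrev trW (a b : ℕ) (h : a ≤ b) :
    (Q.obj (op b)).obj.obj (op W) →ₗ[Λ] (Q.obj (op a)).obj.obj (op W) :=
  ((Q.map (homOfLE h).op).hom.app (op W)).hom

/-- The projections on sections. -/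
noncomputable abbrev πW (n : ℕ) :
    (limit Q).obj.obj (op W) →ₗ[Λ] (Q.obj (op n)).obj.obj (op W) :=
  ((limit.π Q (op n)).hom.app (op W)).hom

theorem trW_id (a : ℕ) (x : (Q.obj (op a)).obj.obj (op W)) : trW Q W a a le_rfl x = x := by
  have h1 : (homOfLE (le_refl a)).op = 𝟙 (op a) := Subsingleton.elim _ _
  change ((Q.map (homOfLE (le_refl a)).op).hom.app (op W)).hom x = x
  rw [h1, Q.map_id]
  rfl

theorem trW_comp (a b c : ℕ) (hab : a ≤ b) (hbc : b ≤ c) (x : (Q.obj (op c)).obj.obj (op W)) :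
    trW Q W a b hab (trW Q W b c hbc x) = trW Q W a c (hab.trans hbc) x := by
  have h1 : (homOfLE (hab.trans hbc)).op = (homOfLE hbc).op ≫ (homOfLE hab).op :=
    Subsingleton.elim _ _
  change _ = ((Q.map (homOfLE (hab.trans hbc)).op).hom.app (op W)).hom x
  rw [h1, Q.map_comp]
  rfl

theorem trW_πW (a b : ℕ) (h : a ≤ b) (x : (limit Q).obj.obj (op W)) :
    trW Q W a b h (πW Q W b x) = πW Q W a x := by
  have h1 := limit.w Q (homOfLE h).op
  change _ = ((limit.π Q (op a)).hom.app (op W)).hom x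
  rw [← h1]
  rfl

/-- The cone of sections over `W` is a limit cone of sets. -/
noncomputable def isLimitSections :
    IsLimit ((secU Λ W ⋙ forget (ModuleCat.{u + 1} Λ)).mapCone (limit.cone Q)) :=
  isLimitOfPreserves _ (limit.isLimit Q)

theorem glue_sections (x : ∀ n, (Q.obj (op n)).obj.obj (op W))
    (hx : ∀ n, trW Q W n (n + 1) (Nat.le_succ n) (x (n + 1)) = x n) :
    ∃ y : (limit Q).obj.obj (op W), ∀ n, πW Q W n y = x n := by
  have hfull : ∀ (a b : ℕ) (h : a ≤ b), trW Q W a b h (x b) = x a := by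
    intro a b h
    induction b, h using Nat.le_induction with
    | base => exact trW_id Q W a (x a)
    | succ b h ih =>
      rw [← ih, ← hx b, trW_comp]
  let s : (Q ⋙ secU Λ W ⋙ forget (ModuleCat.{u + 1} Λ)).sections :=
    ⟨fun j => x j.unop, by
      intro j j' f
      have hle : j'.unop ≤ j.unop := leOfHom f.unop
      have hf : f = (homOfLE hle).op := Subsingleton.elim _ _
      rw [hf]
      exact hfull j'.unop j.unop hle⟩
  refine ⟨(Types.isLimitEquivSections (isLimitSections Q W)).symm s, fun n => ?_⟩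
  exact Types.isLimitEquivSections_symm_apply (isLimitSections Q W) s (op n)

theorem sep_sections (y : (limit Q).obj.obj (op W)) (hy : ∀ n, πW Q W n y = 0) : y = 0 := by
  apply (Types.isLimitEquivSections (isLimitSections Q W)).injective
  apply Subtype.ext
  funext j
  induction j with | op n => ?_
  have h0 : πW Q W n 0 = 0 := map_zero _
  exact (hy n).trans h0.symm

end sections

/-- Sections of an adic system over a weakly contractible object form an adic tower. -/
theorem isAdicLimit (I : Ideal Λ) (hI : I.FG) (Q : ℕᵒᵖ ⥤ EtModW.ModP Λ X)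
    (hQ : ARSys.IsAdic I Q) (W : X.ProEt) (hW : ProEtS.IsWC W) :
    IsAdicLimit I (πW Q W) (trW Q W) where
  tr_id := trW_id Q W
  tr_comp := trW_comp Q W
  comp := trW_πW Q W
  glue := glue_sections Q W
  sep := sep_sections Q W
  surj n := (Groth.Agent.Lib.ProEtQuot22.main (I ^ (n + 1)) (hI.pow) _ _
    (Q.map (homOfLE (Nat.le_succ n)).op) (hQ.2 n (n + 1) (Nat.le_succ n)) W hW).1
  ker n := (Groth.Agent.Lib.ProEtQuot22.main (I ^ (n + 1)) (hI.pow) _ _
    (Q.map (homOfLE (Nat.le_succ n)).op) (hQ.2 n (n + 1) (Nat.le_succ n)) W hW).2.le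
  kill n a ha m := congrArg (fun f => (f.hom.app (op W)).hom m) (hQ.1 n a ha)

/-- For an adic system of pro-étale sheaves, `lim Q ⟶ Q_n` is a quotient map modulo `I^{n+1}`. -/
theorem isQuot_limit_π (I : Ideal Λ) (hI : I.FG) (Q : ℕᵒᵖ ⥤ EtModW.ModP Λ X)
    (hQ : ARSys.IsAdic I Q) (n : ℕ) : ARSys.IsQuot (I ^ (n + 1)) (limit.π Q (op n)) := by
  refine ⟨hQ.1 n, fun Y φ hφ => ?_⟩
  haveI hepi : Epi (limit.π Q (op n)) := epi_of_forall_isWC _ (fun W hW =>
    (isAdicLimit I hI Q hQ W hW).surjective_π n)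
  have h0 : kernel.ι (limit.π Q (op n)) ≫ φ = 0 := by
    apply eq_of_forall_isWC
    intro W hW s
    have hA := isAdicLimit I hI Q hQ W hW
    set x := ((kernel.ι (limit.π Q (op n))).hom.app (op W)).hom s with hx
    have hx0 : πW Q W n x = 0 :=
      congrArg (fun f => (f.hom.app (op W)).hom s) (kernel.condition (limit.π Q (op n)))
    have hmem : x ∈ (I ^ (n + 1) • ⊤ : Submodule Λ ((limit Q).obj.obj (op W))) := by
      rw [← hA.ker_π_eq hI n]
      exact hx0
    have hle : (I ^ (n + 1) • ⊤ : Submodule Λ ((limit Q).obj.obj (op W))) ≤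
        LinearMap.ker (φ.hom.app (op W)).hom := by
      rw [Submodule.smul_le]
      intro a ha y _
      rw [LinearMap.mem_ker, map_smul]
      exact congrArg (fun f => (f.hom.app (op W)).hom y) (hφ a ha)
    exact hle hmem
  refine ⟨Abelian.epiDesc _ φ h0, Abelian.comp_epiDesc _ φ h0, fun ψ hψ => ?_⟩
  rw [← cancel_epi (limit.π Q (op n)), hψ, Abelian.comp_epiDesc]

section pullback

variable [ProEtS.EpsCont X]

/-- The adjunction `ε⁻¹ ⊣ ε_*` on sheaves of modules. -/
noncomputable abbrev epsAdjMod (Λ : Type (u + 1)) [CommRing Λ] (X : Scheme.{u})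
    [ProEtS.EpsCont X] :=
  (ProEtS.eps X).sheafAdjunctionContinuous (ModuleCat.{u + 1} Λ) X.smallEtaleTopology
    (Scheme.ProEt.topology X)

theorem epsPushMod_map_smul {A B : EtModW.ModP Λ X} (a : Λ) (f : A ⟶ B) :
    ((ProEtS.eps X).sheafPushforwardContinuous (ModuleCat.{u + 1} Λ) X.smallEtaleTopology
      (Scheme.ProEt.topology X)).map (a • f) =
    a • ((ProEtS.eps X).sheafPushforwardContinuous (ModuleCat.{u + 1} Λ) X.smallEtaleTopology
      (Scheme.ProEt.topology X)).map f := rfl

/-- `ε⁻¹` preserves adic systems. -/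
theorem isAdic_epsPullMod (I : Ideal Λ) (G : ARSys.PS (EtModW.Mod Λ X)) (hG : ARSys.IsAdic I G) :
    ARSys.IsAdic I (G ⋙ EtModW.epsPullMod Λ X) :=
  ⟨fun n => Groth.Agent.Lib.AdjLinear22.killedBy_obj_leftAdjoint (epsAdjMod Λ X)
      (fun a f => epsPushMod_map_smul a f) _ (hG.1 n),
    fun n m h => Groth.Agent.Lib.AdjLinear22.isQuot_map_leftAdjoint (epsAdjMod Λ X)
      (fun a f => epsPushMod_map_smul a f) _ _ (hG.2 n m h)⟩

end pullback

end Groth.Agent.Lib.ProEtAdicLim22
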