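import Groth.Agent.Lib.ProEtEps22a
import Groth.Agent.Lib.LanExact
import Groth.Prelude.Def_EtModW
import Mathlib.Algebra.Category.ModuleCat.AB
import Mathlib.CategoryTheory.Sites.Pullback

/-!
# `ε⁻¹` on sheaves of modules is left exact (helper22)

* `preservesFiniteLimits_lan_eps`: the left Kan extension along `ε : X_ét ⥤ X_proét` of presheaves
  of modules preserves finite limits (filtered colimits of modules are exact);
* `preservesFiniteLimits_epsPullMod`: `EtModW.epsPullMod Λ X` preserves finite limits (instance).
-/

set_option autoImplicit false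
set_option linter.style.haveILetI false
universe u

open CategoryTheory AlgebraicGeometry Limits Opposite ProEtS

namespace Groth.Agent.Lib.ProEtEpsExact22

open Groth.Agent.Lib.ProEtEps22

variable (Λ : Type (u + 1)) [CommRing Λ] (X : Scheme.{u})

instance isFiltered_costructuredArrow_eps (W : X.ProEtᵒᵖ) :
    IsFiltered (CostructuredArrow (eps X).op W) :=
  IsFiltered.of_equivalence (structuredArrowOpEquivalence (eps X) (unop W))

instance hasExact_eps (W : X.ProEtᵒᵖ) :
    HasExactColimitsOfShape (CostructuredArrow (eps X).op W) (ModuleCat.{u + 1} Λ) := by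
  have := AB5OfSize_shrink.{u, u + 1, u + 1, u + 1} (ModuleCat.{u + 1} Λ)
  infer_instance

instance preservesFiniteLimits_lan_eps : PreservesFiniteLimits ((eps X).op.lan :
    (X.Etaleᵒᵖ ⥤ ModuleCat.{u + 1} Λ) ⥤ (X.ProEtᵒᵖ ⥤ ModuleCat.{u + 1} Λ)) :=
  Groth.Agent.Lib.LanExact.preservesFiniteLimits_lan _

instance preservesFiniteLimits_epsPullMod [ProEtS.EpsCont X] :
    PreservesFiniteLimits (EtModW.epsPullMod Λ X) := by
  have h1 : PreservesFiniteLimits ((eps X).op.lan ⋙
      presheafToSheaf (Scheme.ProEt.topology X) (ModuleCat.{u + 1} Λ)) :=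
    comp_preservesFiniteLimits _ _
  have h2 : PreservesFiniteLimits (Functor.sheafPullbackConstruction.sheafPullback (eps X)
      (ModuleCat.{u + 1} Λ) X.smallEtaleTopology (Scheme.ProEt.topology X)) := by
    unfold Functor.sheafPullbackConstruction.sheafPullback
    apply comp_preservesFiniteLimits
  exact preservesFiniteLimits_of_natIso (Functor.sheafPullbackConstruction.sheafPullbackIso
    (eps X) (ModuleCat.{u + 1} Λ) X.smallEtaleTopology (Scheme.ProEt.topology X)).symm

end Groth.Agent.Lib.ProEtEpsExact22
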