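import Groth.Agent.Lib.ModFTLCStalk22
import Groth.Agent.Lib.ProEtEpsExact22
import Groth.Agent.Lib.ProEtAdicLim22
import Mathlib.CategoryTheory.Subobject.ArtinianObject
import Mathlib.RingTheory.Artinian.Module

/-!
# Mittag-Leffler for systems of finite type locally constant sheaves (helper22)

* `ml_of_whisker_at`, `isML_of_whisker`: the Mittag-Leffler condition descends along a finite
  jointly conservative family of exact functors;
* `isML_whisker`: right exact additive functors preserve the Mittag-Leffler condition;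
* `isML_of_isArtinianObject`: systems of Artinian objects are Mittag-Leffler;
* `isClopen_zeroStalkLocus`, `exists_points`, `isZero_of_isFTLC_of_isZero_stalks`;
* `isML_of_isFTLC`: a system of finite type locally constant sheaves of modules on a Noetherian
  scheme, with `I^(n+1) F_n = 0` and `Λ/I^k` Artinian, is Mittag-Leffler; `isML_epsPull`.
-/

set_option autoImplicit false
set_option linter.style.haveILetI false
set_option linter.unusedSectionVars false
universe w v₁ v₂ u₁ u₂ u

open CategoryTheory AlgebraicGeometry Limits MorphismProperty Opposite Topology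

namespace Groth.Agent.Lib.ModMLStalk22

open ARSys Groth.Agent.Lib.ARSysDescent22
open Groth.Agent.S3188 (imSys imι Im sm image_le_iff_factors image_factors_iff image_sm_le)

section abstract

variable {C : Type u₁} [Category.{v₁} C] [Abelian C]
variable {ι : Type} [Fintype ι] {D : ι → Type u₂} [∀ i, Category.{v₂} (D i)] [∀ i, Abelian (D i)]
variable (L : ∀ i, C ⥤ D i) [∀ i, (L i).Additive] [∀ i, PreservesFiniteLimits (L i)]
  [∀ i, PreservesFiniteColimits (L i)]
variable {P : C → Prop} (adm : Adm P)
  (hrefl : ∀ Z : C, P Z → (∀ i, IsZero ((L i).obj Z)) → IsZero Z)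
variable {X : ARSys.PS C} (hXP : ∀ n : ℕ, P (X.obj (op n)))

include adm hrefl hXP in
/-- The Mittag-Leffler condition at a fixed index descends. -/
theorem ml_of_whisker_at (n r : ℕ)
    (hr : ∀ i, ∀ s : ℕ, r ≤ s →
      imageSubobject (shiftMap (X ⋙ L i) s n) = imageSubobject (shiftMap (X ⋙ L i) r n)) :
    ∀ s : ℕ, r ≤ s → imageSubobject (shiftMap X s n) = imageSubobject (shiftMap X r n) := by
  intro s hs
  apply le_antisymm (image_sm_le X n hs)
  rw [image_le_iff_factors, image_factors_iff]
  apply eq_zero_of_map_eq_zero L adm hrefl _ (hXP _) (adm.coker _ (hXP _) (hXP _))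
  intro i
  show (L i).map (shiftMap X r n ≫ cokernel.π (shiftMap X s n)) = 0
  have h1 : (imageSubobject ((L i).map (shiftMap X s n))).Factors ((L i).map (shiftMap X r n)) := by
    have e : imageSubobject ((L i).map (shiftMap X s n)) =
        imageSubobject ((L i).map (shiftMap X r n)) := hr i s hs
    rw [e, ← image_le_iff_factors]
  rw [image_factors_iff] at h1
  rw [Functor.map_comp, ← π_comp_cokernelComparison, reassoc_of% h1, zero_comp]

include adm hrefl hXP in
/-- The Mittag-Leffler condition descends along a finite jointly conservative family of exact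
functors. -/
theorem isML_of_whisker (h : ∀ i, IsML (X ⋙ L i)) : IsML X := by
  intro n
  choose r₀ hr₀ using fun i => h i n
  let r := Finset.univ.sup r₀
  refine ⟨r, ml_of_whisker_at L adm hrefl hXP n r (fun i s hs => ?_)⟩
  have hri : r₀ i ≤ r := Finset.le_sup (Finset.mem_univ i)
  rw [hr₀ i s (hri.trans hs), hr₀ i r hri]

end abstract

section preserve

variable {C : Type u₁} [Category.{v₁} C] [Abelian C] {D : Type u₂} [Category.{v₂} D] [Abelian D]
  (L : C ⥤ D) [L.Additive] [PreservesFiniteColimits L]

theorem imageSubobject_map_le {A B Z : C} (f : A ⟶ Z) (g : B ⟶ Z)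
    (h : imageSubobject f ≤ imageSubobject g) :
    imageSubobject (L.map f) ≤ imageSubobject (L.map g) := by
  rw [image_le_iff_factors, image_factors_iff] at h ⊢
  rw [← cancel_mono (cokernelComparison g L), Category.assoc, π_comp_cokernelComparison,
    ← L.map_comp, h, L.map_zero, zero_comp]

/-- Right exact additive functors preserve the Mittag-Leffler condition. -/
theorem isML_whisker {X : ARSys.PS C} (h : IsML X) : IsML (X ⋙ L) := by
  intro n
  obtain ⟨r, hr⟩ := h n
  refine ⟨r, fun s hs => ?_⟩
  have e := hr s hs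
  exact le_antisymm (imageSubobject_map_le L _ _ e.le) (imageSubobject_map_le L _ _ e.ge)

/-- Systems of Artinian objects are Mittag-Leffler. -/
theorem isML_of_isArtinianObject {X : ARSys.PS C} (h : ∀ n : ℕ, IsArtinianObject (X.obj (op n))) :
    IsML X := by
  intro n
  haveI := h n
  let f : ℕ →o (Subobject (X.obj (op n)))ᵒᵈ :=
    { toFun := fun s => OrderDual.toDual (imageSubobject (shiftMap X s n))
      monotone' := fun r s hrs => image_sm_le X n hrs }
  obtain ⟨r, hr⟩ := antitone_chain_condition_of_isArtinianObject f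
  exact ⟨r, fun s hs => (congrArg OrderDual.ofDual (hr s hs)).symm⟩

end preserve

section modules

variable {Λ : Type (u + 1)} [CommRing Λ]

/-- Artinian modules are Artinian objects of the category of modules. -/
theorem isArtinianObject_of_isArtinian (M : ModuleCat.{u + 1} Λ) [IsArtinian Λ M] :
    IsArtinianObject M := by
  rw [isArtinianObject_iff_antitone_chain_condition]
  intro f
  let g : ℕ →o (Submodule Λ M)ᵒᵈ :=
    (M.subobjectModule.dual.toOrderEmbedding.toOrderHom).comp f
  obtain ⟨n, hn⟩ := IsArtinian.monotone_stabilizes g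
  refine ⟨n, fun m hm => ?_⟩
  exact M.subobjectModule.dual.injective (hn m hm)

/-- A finitely generated module killed by an ideal with Artinian quotient ring is Artinian. -/
theorem isArtinian_of_finite_of_killed (J : Ideal Λ) [IsArtinianRing (Λ ⧸ J)] (M : Type*)
    [AddCommGroup M] [Module Λ M] [Module.Finite Λ M] (h : ∀ a ∈ J, ∀ x : M, a • x = 0) :
    IsArtinian Λ M := by
  have hM : Module.IsTorsionBySet Λ M J := fun x a => h a a.2 x
  letI := hM.module
  haveI : IsScalarTower Λ (Λ ⧸ J) M := hM.isScalarTower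
  haveI : Module.Finite (Λ ⧸ J) M := Module.Finite.of_restrictScalars_finite Λ (Λ ⧸ J) M
  haveI : IsArtinian (Λ ⧸ J) M := isArtinian_of_fg_of_artinian'
  exact isArtinian_of_surjective_algebraMap (S := Λ) (R := Λ ⧸ J) Ideal.Quotient.mk_surjective

end modules

section geometric

open Groth.Agent.Lib.ModConst22 Groth.Agent.Lib.EtOverSite22 Groth.Agent.Lib.EtLocConst22
  Groth.Agent.Lib.EtLCKer22 Groth.Agent.Lib.EtExt22 Groth.Agent.Lib.EtConst
  Groth.Agent.Lib.EtModStalk22 Groth.Agent.Lib.EtConstr22 Groth.Agent.Lib.EtGerm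
  Groth.Agent.Lib.EtStalkConservative Groth.Agent.Lib.ModSubLC22

variable {Λ : Type (u + 1)} [CommRing Λ]

/-- The locus where the stalks of a finite type locally constant sheaf vanish is clopen. -/
theorem isClopen_zeroStalkLocus {T : Scheme.{u}} (G : EtModW.Mod Λ T)
    (hG : EtModW.IsFTLocConst Λ G) :
    IsClopen {t : T | IsZero ((EtModW.stalk Λ (stdPt t)).obj G)} := by
  obtain ⟨ι, U, hU, h⟩ := (isLC_iff_pull G).1 ((isFTLC_iff_isLC Λ G).1 hG)
  choose M hM hα using h
  have key : ∀ (i : ι) (Ω' : Type u) [Field Ω'] [IsSepClosed Ω']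
      (ξ' : Spec (CommRingCat.of Ω') ⟶ T) (v : (U i).left), (U i).hom v = ξ' default →
      Nonempty ((EtModW.stalk Λ ξ').obj G ≅ M i) := by
    intro i Ω' _ _ ξ' v hv
    obtain ⟨α⟩ := hα i
    exact nonempty_stalk_iso_of_pull_isoM G (U i) (M i) α ξ' v hv
  let Z0 : Set T := {t | IsZero ((EtModW.stalk Λ (stdPt t)).obj G)}
  have hmem : ∀ (i : ι) (v : (U i).left), (U i).hom v ∈ Z0 ↔ IsZero (M i) := by
    intro i v
    obtain ⟨e⟩ := key i _ (stdPt ((U i).hom v)) v (stdPt_default _).symm
    exact ⟨fun h => h.of_iso e.symm, fun h => h.of_iso e⟩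
  change IsClopen Z0
  constructor
  · rw [← isOpen_compl_iff, isOpen_iff_forall_mem_open]
    intro t ht
    obtain ⟨i, v, hv⟩ := hU t
    refine ⟨Set.range (U i).hom, ?_, (homX (U i)).isOpenMap.isOpen_range, ⟨v, hv⟩⟩
    rintro _ ⟨v', rfl⟩
    have h1 : (U i).hom v ∉ Z0 := by
      have : (U i).hom v = t := hv
      rw [this]; exact ht
    rw [hmem] at h1
    show (U i).hom v' ∉ Z0
    rw [hmem]
    exact h1
  · rw [isOpen_iff_forall_mem_open]
    intro t ht
    obtain ⟨i, v, hv⟩ := hU t
    refine ⟨Set.range (U i).hom, ?_, (homX (U i)).isOpenMap.isOpen_range, ⟨v, hv⟩⟩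
    rintro _ ⟨v', rfl⟩
    have h1 : (U i).hom v ∈ Z0 := by
      have : (U i).hom v = t := hv
      rw [this]; exact ht
    rw [hmem] at h1
    show (U i).hom v' ∈ Z0
    rw [hmem]
    exact h1

/-- In a Noetherian space there are finitely many points such that every clopen set containing
them is everything. -/
theorem exists_points (T : Type*) [TopologicalSpace T] [TopologicalSpace.NoetherianSpace T] :
    ∃ (m : ℕ) (p : Fin m → T), ∀ Z0 : Set T, IsClopen Z0 → (∀ i, p i ∈ Z0) → Z0 = Set.univ := by
  haveI : Finite (irreducibleComponents T) :=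
    TopologicalSpace.NoetherianSpace.finite_irreducibleComponents.to_subtype
  choose q hq using fun Z : irreducibleComponents T => Z.2.1.nonempty
  let e : irreducibleComponents T ≃ Fin (Nat.card (irreducibleComponents T)) := Finite.equivFin _
  refine ⟨_, fun i => q (e.symm i), fun Z0 hZ0 hp => ?_⟩
  rw [Set.eq_univ_iff_forall]
  intro x
  let Z : irreducibleComponents T :=
    ⟨irreducibleComponent x, irreducibleComponent_mem_irreducibleComponents x⟩
  have h1 : q Z ∈ Z0 := by
    have h0 : q (e.symm (e Z)) ∈ Z0 := hp (e Z)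
    rwa [Equiv.symm_apply_apply] at h0
  have h2 : irreducibleComponent x ⊆ Z0 :=
    isIrreducible_irreducibleComponent.isConnected.isPreconnected.subset_isClopen hZ0
      ⟨q Z, hq Z, h1⟩
  exact h2 mem_irreducibleComponent

/-- A finite type locally constant sheaf whose stalks vanish at a family of points meeting every
clopen subset is zero. -/
theorem isZero_of_isFTLC_of_isZero_stalks {T : Scheme.{u}} {ι : Type*} (p : ι → T)
    (hp : ∀ Z0 : Set T, IsClopen Z0 → (∀ i, p i ∈ Z0) → Z0 = Set.univ)
    (G : EtModW.Mod Λ T) (hG : EtModW.IsFTLocConst Λ G)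
    (hz : ∀ i, IsZero ((EtModW.stalk Λ (stdPt (p i))).obj G)) : IsZero G := by
  have huniv := hp _ (isClopen_zeroStalkLocus G hG) hz
  apply isZero_of_forall_stalkM
  intro x
  have : x ∈ {t : T | IsZero ((EtModW.stalk Λ (stdPt t)).obj G)} := huniv ▸ Set.mem_univ x
  exact this

variable [IsNoetherianRing Λ]

/-- A system of finite type locally constant sheaves of modules on a Noetherian scheme, with
`I^(n+1) F_n = 0` and all `Λ/I^k` Artinian, satisfies the Mittag-Leffler condition. -/
theorem isML_of_isFTLC (I : Ideal Λ) (hart : ∀ k : ℕ, IsArtinianRing (Λ ⧸ I ^ k))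
    {X : Scheme.{u}} [IsNoetherian X] (F : ARSys.PS (EtModW.Mod Λ X))
    (hk : ARSys.TermKilled I F) (hF : ∀ n : ℕ, EtModW.IsFTLocConst Λ (F.obj (op n))) :
    ARSys.IsML F := by
  obtain ⟨m, p, hp⟩ := exists_points X
  refine isML_of_whisker (ι := Fin m) (D := fun _ => ModuleCat.{u + 1} Λ)
    (fun i => EtModW.stalk Λ (stdPt (p i))) (P := fun Z => EtModW.IsFTLocConst Λ Z)
    ⟨fun e h => isFTLC_of_iso Λ e h, fun φ h1 h2 => isFTLC_kernel φ h1 h2,
      fun φ h1 h2 => isFTLC_cokernel φ h1 h2⟩
    (fun Z hZ h0 => isZero_of_isFTLC_of_isZero_stalks p hp Z hZ h0) hF (fun i => ?_)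
  apply isML_of_isArtinianObject
  intro n
  haveI : Module.Finite Λ ((EtModW.stalk Λ (stdPt (p i))).obj (F.obj (op n))) :=
    finite_stalk_of_isFTLC _ (hF n) _
  haveI := hart (n + 1)
  haveI : IsArtinian Λ ((EtModW.stalk Λ (stdPt (p i))).obj (F.obj (op n))) := by
    refine isArtinian_of_finite_of_killed (I ^ (n + 1)) _ (fun a ha x => ?_)
    have h1 : (EtModW.stalk Λ (stdPt (p i))).map (a • 𝟙 (F.obj (op n))) =
        a • (EtModW.stalk Λ (stdPt (p i))).map (𝟙 (F.obj (op n))) :=
      Groth.Agent.Lib.AdjLinear22.map_smul_of_rightAdjoint_linear (stalkAdj (stdPt (p i)))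
        (fun a f => skyscraperM_map_smul (stdPt (p i)) a f) a _
    rw [hk n a ha, Functor.map_zero, CategoryTheory.Functor.map_id] at h1
    have h2 : (a • 𝟙 ((EtModW.stalk Λ (stdPt (p i))).obj (F.obj (op n)))).hom x = 0 := by
      rw [← h1]
      rfl
    exact h2
  exact isArtinianObject_of_isArtinian ((EtModW.stalk Λ (stdPt (p i))).obj (F.obj (op n)))

end geometric

end Groth.Agent.Lib.ModMLStalk22
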