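import Groth.Agent.Lib.ModPairProd68
import Groth.Agent.Lib.IdealSheafComap
import Groth.Agent.Lib.BlowUpUniv
import Mathlib.AlgebraicGeometry.Limits

/-!
# Coproducts of modulus pairs (helper68)

For a family `X a` of schemes with ideal sheaves `I a`, we construct the ideal sheaf
`sigmaIdeal X I` on `∐ X` whose restriction to `X a` is `I a`, and show that it gives the
coproduct in `ModPair.Pair`.
-/

set_option autoImplicit false
universe v u
open CategoryTheory CategoryTheory.Limits AlgebraicGeometry TopologicalSpace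

namespace Groth.Agent.Lib.ModPairCoprod68

section General

variable {X Y : Scheme.{u}}

/-- Kernels commute with base change along open immersions. -/
theorem ker_eq_comap_of_isPullback {X Y U V : Scheme.{u}} (f : X ⟶ Y) (f' : U ⟶ V) (iU : U ⟶ X)
    (iV : V ⟶ Y) [IsOpenImmersion iV] [QuasiCompact f] (H : IsPullback f' iU iV f) :
    f'.ker = f.ker.comap iV := by
  apply Scheme.IdealSheafData.ext
  funext W
  rw [Scheme.ker_ideal_of_isPullback_of_isOpenImmersion f f' iU iV H W,
    Scheme.IdealSheafData.ideal_comap_of_isOpenImmersion]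

/-- Restriction to an open subscheme preserves binary infima of ideal sheaves. -/
theorem comap_inf_of_isOpenImmersion (j : X ⟶ Y) [IsOpenImmersion j] (K L : Y.IdealSheafData) :
    (K ⊓ L).comap j = K.comap j ⊓ L.comap j := by
  apply Scheme.IdealSheafData.ext
  funext W
  rw [Scheme.IdealSheafData.ideal_inf, Pi.inf_apply,
    Scheme.IdealSheafData.ideal_comap_of_isOpenImmersion,
    Scheme.IdealSheafData.ideal_comap_of_isOpenImmersion,
    Scheme.IdealSheafData.ideal_comap_of_isOpenImmersion, Scheme.IdealSheafData.ideal_inf,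
    Pi.inf_apply, Ideal.comap_inf]

/-- `(I.map j).comap j = I` for a quasi-compact open immersion `j`. -/
theorem comap_map_of_isOpenImmersion (j : X ⟶ Y) [IsOpenImmersion j] [QuasiCompact j]
    (I : X.IdealSheafData) : (I.map j).comap j = I := by
  have H : IsPullback I.subschemeι (𝟙 _) j (I.subschemeι ≫ j) :=
    IsPullback.of_vert_isIso_mono ⟨by simp⟩
  have h := ker_eq_comap_of_isPullback (I.subschemeι ≫ j) I.subschemeι (𝟙 _) j H
  rw [Scheme.IdealSheafData.ker_subschemeι] at h
  exact h.symm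

end General

section Sigma

variable {σ : Type v} [Small.{u} σ] (X : σ → Scheme.{u}) (I : ∀ a, (X a).IdealSheafData)

theorem isClosed_range_sigmaι (b : σ) : IsClosed (Set.range (Sigma.ι X b).base) := by
  rw [← isOpen_compl_iff]
  have h : (Set.range (Sigma.ι X b).base)ᶜ =
      ⋃ (a : σ) (_ : a ≠ b), Set.range (Sigma.ι X a).base := by
    ext t
    simp only [Set.mem_compl_iff, Set.mem_iUnion, exists_prop]
    constructor
    · intro ht
      obtain ⟨a, x, rfl⟩ := (sigmaOpenCover X).exists_eq t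
      refine ⟨a, ?_, ⟨x, rfl⟩⟩
      rintro rfl
      exact ht ⟨x, rfl⟩
    · rintro ⟨a, hab, ⟨x, rfl⟩⟩ ⟨y, hy⟩
      have := (sigmaι_eq_iff X b a y x).mp hy
      exact hab (congrArg Sigma.fst this).symm
  rw [h]
  exact isOpen_iUnion fun a => isOpen_iUnion fun _ => (Sigma.ι X a).isOpenEmbedding.isOpen_range

instance isClosedImmersion_sigmaι (b : σ) : IsClosedImmersion (Sigma.ι X b) :=
  .of_isPreimmersion _ (isClosed_range_sigmaι X b)

/-- The open complement of the `b`-th summand. -/
def complOpen (b : σ) : (∐ X).Opens :=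
  ⟨(Set.range (Sigma.ι X b).base)ᶜ, (isClosed_range_sigmaι X b).isOpen_compl⟩

instance isClosedImmersion_complOpen_ι (b : σ) : IsClosedImmersion (complOpen X b).ι := by
  apply IsClosedImmersion.of_isPreimmersion
  rw [Scheme.Opens.range_ι]
  show IsClosed (Set.range (Sigma.ι X b).base)ᶜ
  exact (Sigma.ι X b).isOpenEmbedding.isOpen_range.isClosed_compl

/-- The ideal sheaf on `∐ X` restricting to `I a` on `X a`. -/
noncomputable def sigmaIdeal : (∐ X).IdealSheafData :=
  ⨅ a, (I a).map (Sigma.ι X a)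

theorem ker_complOpen_le (a b : σ) (hab : a ≠ b) :
    (complOpen X b).ι.ker ≤ (I a).map (Sigma.ι X a) := by
  have hsub : Set.range ((I a).subschemeι ≫ Sigma.ι X a).base ⊆
      Set.range (complOpen X b).ι.base := by
    rintro _ ⟨z, rfl⟩
    rw [Scheme.Opens.range_ι]
    rintro ⟨y, hy⟩
    rw [Scheme.Hom.comp_apply] at hy
    have := (sigmaι_eq_iff X b a y _).mp hy
    exact hab (congrArg Sigma.fst this).symm
  have hfac : IsOpenImmersion.lift (complOpen X b).ι ((I a).subschemeι ≫ Sigma.ι X a) hsub ≫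
      (complOpen X b).ι = (I a).subschemeι ≫ Sigma.ι X a := IsOpenImmersion.lift_fac _ _ _
  have h := Scheme.Hom.le_ker_comp
    (IsOpenImmersion.lift (complOpen X b).ι ((I a).subschemeι ≫ Sigma.ι X a) hsub)
    (complOpen X b).ι
  rw [hfac] at h
  exact h

theorem comap_ker_complOpen (b : σ) :
    (complOpen X b).ι.ker.comap (Sigma.ι X b) = ⊤ := by
  apply Groth.Agent.Lib.BlowUpUniv.comap_eq_top
  intro y hy
  have hy' : (Sigma.ι X b).base y ∈
      ((complOpen X b).ι.ker.support : Set (∐ X : Scheme.{u})) := hy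
  rw [Scheme.Hom.support_ker, Scheme.Opens.range_ι] at hy'
  have hcl : IsClosed ((complOpen X b : (∐ X).Opens) : Set (∐ X : Scheme.{u})) :=
    (Sigma.ι X b).isOpenEmbedding.isOpen_range.isClosed_compl
  rw [hcl.closure_eq] at hy'
  exact hy' ⟨y, rfl⟩

theorem comap_sigmaIdeal (b : σ) : (sigmaIdeal X I).comap (Sigma.ι X b) = I b := by
  apply le_antisymm
  · calc (sigmaIdeal X I).comap (Sigma.ι X b)
        ≤ ((I b).map (Sigma.ι X b)).comap (Sigma.ι X b) :=
          Scheme.IdealSheafData.comap_mono _ (iInf_le _ b)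
      _ ≤ I b := Scheme.IdealSheafData.comap_map_le _ _
  · have hle : (I b).map (Sigma.ι X b) ⊓ (complOpen X b).ι.ker ≤ sigmaIdeal X I := by
      refine le_iInf fun a => ?_
      by_cases hab : a = b
      · subst hab
        exact inf_le_left
      · exact inf_le_right.trans (ker_complOpen_le X I a b hab)
    have h1 : ((I b).map (Sigma.ι X b) ⊓ (complOpen X b).ι.ker).comap (Sigma.ι X b) ≤
        (sigmaIdeal X I).comap (Sigma.ι X b) :=
      Scheme.IdealSheafData.comap_mono (Sigma.ι X b) hle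
    rw [comap_inf_of_isOpenImmersion, comap_map_of_isOpenImmersion, comap_ker_complOpen,
      inf_top_eq] at h1
    exact h1

end Sigma

section Pair

open Groth.Agent.Lib.ModPairClosure68

variable {σ : Type v} [Small.{u} σ]

/-- Inequalities of ideal sheaves on a coproduct can be checked on the summands. -/
theorem le_of_forall_comap_sigmaι_le (X : σ → Scheme.{u}) {K L : (∐ X).IdealSheafData}
    (h : ∀ a, K.comap (Sigma.ι X a) ≤ L.comap (Sigma.ι X a)) : K ≤ L := by
  rw [← sup_eq_right]
  apply Groth.Agent.Lib.IdealSheafComap.ext_of_openCover (sigmaOpenCover X)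
  intro a
  show (K ⊔ L).comap (Sigma.ι X a) = L.comap (Sigma.ι X a)
  rw [Scheme.IdealSheafData.comap_sup, sup_eq_right]
  exact h a

variable (P : σ → ModPair.Pair.{u})

theorem isEffCartier_sigmaIdeal :
    BlowUp.IsEffCartierIdeal
      (sigmaIdeal (fun a => (P a).total) (fun a => (P a).mod)) := by
  apply isEffCartierIdeal_of_forall_exists_isOpenImmersion
  intro t
  obtain ⟨a, x, rfl⟩ := (sigmaOpenCover fun a => (P a).total).exists_eq t
  refine ⟨_, Sigma.ι (fun a => (P a).total) a, inferInstance, ⟨x, rfl⟩, ?_⟩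
  rw [comap_sigmaIdeal]
  exact (P a).isEffCartier

/-- The coproduct of a family of modulus pairs. -/
noncomputable def sigmaPair : ModPair.Pair.{u} :=
  ⟨∐ fun a => (P a).total, sigmaIdeal (fun a => (P a).total) (fun a => (P a).mod),
    isEffCartier_sigmaIdeal P⟩

/-- The inclusions into the coproduct. -/
noncomputable def sigmaPairι (a : σ) : P a ⟶ sigmaPair P :=
  ⟨Sigma.ι (fun a => (P a).total) a,
    le_of_eq (comap_sigmaIdeal (fun a => (P a).total) (fun a => (P a).mod) a).symm⟩

/-- The morphism out of the coproduct induced by a family of ambient morphisms. -/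
noncomputable def sigmaPairDesc {Q : ModPair.Pair.{u}} (f : ∀ a, P a ⟶ Q) : sigmaPair P ⟶ Q :=
  ⟨Sigma.desc (fun a => (f a).hom), by
    show sigmaIdeal (fun a => (P a).total) (fun a => (P a).mod) ≤
      Q.mod.comap (Sigma.desc (fun a => (f a).hom))
    apply le_of_forall_comap_sigmaι_le
    intro a
    rw [comap_sigmaIdeal, ← Scheme.IdealSheafData.comap_comp, Sigma.ι_desc]
    exact (f a).cond⟩

/-- The cofan of inclusions is a colimit cofan. -/
noncomputable def isColimitSigmaCofan : IsColimit (Cofan.mk (sigmaPair P) (sigmaPairι P)) :=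
  Cofan.IsColimit.mk _ (fun s => sigmaPairDesc P (fun a => s.inj a))
    (fun s a => by
      apply ModPair.Pair.Hom.ext
      exact Sigma.ι_desc _ _)
    (fun s m hm => by
      apply ModPair.Pair.Hom.ext
      apply Sigma.hom_ext
      intro a
      have h1 : Sigma.ι (fun a => (P a).total) a ≫ m.hom = (s.inj a).hom :=
        congrArg ModPair.Pair.Hom.hom (hm a)
      have h2 : Sigma.ι (fun a => (P a).total) a ≫
          (sigmaPairDesc P (fun a => s.inj a)).hom = (s.inj a).hom :=
        Sigma.ι_desc (fun a => (s.inj a).hom) a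
      exact h1.trans h2.symm)

end Pair

section Map

variable {σ : Type v} [Small.{u} σ]

/-- Coproducts of schemes are universal: the summand `X a` is the preimage of `X' a`. -/
theorem isPullback_sigmaι_sigmaMap {X X' : σ → Scheme.{u}} (f : ∀ a, X a ⟶ X' a) (a : σ) :
    IsPullback (f a) (Sigma.ι X a) (Sigma.ι X' a) (Limits.Sigma.map f) := by
  refine IsOpenImmersion.isPullback _ _ _ _ (by simp) ?_
  apply le_antisymm
  · rintro t ⟨y, hy⟩
    obtain ⟨c, x, rfl⟩ := (sigmaOpenCover X).exists_eq t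
    have h1 : (Limits.Sigma.map f).base ((Sigma.ι X c).base x) = (Sigma.ι X' c).base ((f c).base x) := by
      rw [← Scheme.Hom.comp_apply, Limits.Sigma.ι_map, Scheme.Hom.comp_apply]
    have h2 : (Sigma.ι X' a).base y = (Sigma.ι X' c).base ((f c).base x) := hy.trans h1
    have h3 := (sigmaι_eq_iff X' a c y _).mp h2
    obtain rfl : a = c := congrArg Sigma.fst h3
    exact ⟨x, rfl⟩
  · rintro _ ⟨x, rfl⟩
    refine ⟨(f a).base x, ?_⟩
    rw [← Scheme.Hom.comp_apply, ← Scheme.Hom.comp_apply, Limits.Sigma.ι_map]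

/-- A property local on the target which holds for all `f a` holds for `Sigma.map f`. -/
theorem sigmaMap_of_isZariskiLocalAtTarget (Q : MorphismProperty Scheme.{u})
    [IsZariskiLocalAtTarget Q] {X X' : σ → Scheme.{u}} (f : ∀ a, X a ⟶ X' a)
    (hf : ∀ a, Q (f a)) : Q (Limits.Sigma.map f) := by
  refine IsZariskiLocalAtTarget.of_openCover (sigmaOpenCover X') ?_
  intro a
  have e : Q ((isPullback_sigmaι_sigmaMap f a).flip.isoPullback.hom ≫
      pullback.snd (Limits.Sigma.map f) (Sigma.ι X' a)) := by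
    rw [IsPullback.isoPullback_hom_snd]
    exact hf a
  exact (MorphismProperty.cancel_left_of_respectsIso Q _ _).mp e

/-- Being an isomorphism over an open `U'` can be checked locally on `U'`. -/
theorem isIso_morphismRestrict_of_forall_exists {Y Y' : Scheme.{u}} (F : Y ⟶ Y') (U' : Y'.Opens)
    (H : ∀ x ∈ U', ∃ V' : Y'.Opens, x ∈ V' ∧ V' ≤ U' ∧ IsIso (F ∣_ V')) : IsIso (F ∣_ U') := by
  show MorphismProperty.isomorphisms Scheme (F ∣_ U')
  apply IsZariskiLocalAtTarget.of_forall_exists_morphismRestrict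
  intro x
  obtain ⟨V', hxV', hle, hiso⟩ := H x.1 x.2
  refine ⟨U'.ι ⁻¹ᵁ V', hxV', ?_⟩
  rw [(MorphismProperty.isomorphisms Scheme).arrow_mk_iso_iff (morphismRestrictRestrict F U' _)]
  have h : U'.ι ''ᵁ (U'.ι ⁻¹ᵁ V') = V' := by
    rw [Scheme.Hom.image_preimage_eq_opensRange_inf, Scheme.Opens.opensRange_ι, inf_eq_right]
    exact hle
  rw [h]
  exact hiso

/-- If `g` is the base change of `F` along an open immersion `j` and `g` is an isomorphism over
`W`, then `F` is an isomorphism over `j(W)`. -/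
theorem isIso_morphismRestrict_image_of_isPullback {Z Z' Y Y' : Scheme.{u}} (g : Z ⟶ Z')
    (i : Z ⟶ Y) (j : Z' ⟶ Y') (F : Y ⟶ Y') [IsOpenImmersion i] [IsOpenImmersion j]
    (H : IsPullback g i j F) (W : Z'.Opens) [IsIso (g ∣_ W)] : IsIso (F ∣_ (j ''ᵁ W)) := by
  have hcomp : ((g ⁻¹ᵁ W).ι ≫ i) ≫ F = (g ∣_ W) ≫ W.ι ≫ j := by
    rw [Category.assoc, ← H.w, ← Category.assoc, ← morphismRestrict_ι, Category.assoc]
  have hoi : IsOpenImmersion (((g ⁻¹ᵁ W).ι ≫ i) ≫ F) := by
    rw [hcomp]
    infer_instance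
  apply Groth.Agent.Lib.ModPairProd68.isIso_morphismRestrict_of_chart F (j ''ᵁ W)
    ((g ⁻¹ᵁ W).ι ≫ i)
  · ext y
    constructor
    · rintro ⟨z, rfl⟩
      show F.base (((g ⁻¹ᵁ W).ι ≫ i).base z) ∈ j ''ᵁ W
      rw [← Scheme.Hom.comp_apply, hcomp, Scheme.Hom.comp_apply, Scheme.Hom.comp_apply]
      exact ⟨_, ((g ∣_ W).base z).2, rfl⟩
    · rintro ⟨w, hw, hwy⟩
      obtain ⟨z, hz1, hz2⟩ := Scheme.exists_preimage_of_isPullback H.flip y w hwy.symm
      have hzW : z ∈ g ⁻¹ᵁ W := by
        show g.base z ∈ W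
        rw [hz2]
        exact hw
      refine ⟨⟨z, hzW⟩, ?_⟩
      rw [Scheme.Hom.comp_apply]
      exact hz1
  · rw [hcomp]
    ext y
    constructor
    · rintro ⟨z, rfl⟩
      rw [Scheme.Hom.comp_apply, Scheme.Hom.comp_apply]
      exact ⟨_, ((g ∣_ W).base z).2, rfl⟩
    · rintro ⟨w, hw, rfl⟩
      obtain ⟨z, hz⟩ := (g ∣_ W).homeomorph.surjective ⟨w, hw⟩
      refine ⟨z, ?_⟩
      rw [Scheme.Hom.comp_apply, Scheme.Hom.comp_apply]
      have hz' : (g ∣_ W).base z = ⟨w, hw⟩ := hz
      rw [hz']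
      rfl

end Map

section PairMap

open Groth.Agent.Lib.ModPairProd68

variable {σ : Type v} [Small.{u} σ]

/-- The sum of a family of admissible blow-ups is an admissible blow-up (scheme level). -/
theorem isAdmBlowup_sigmaMap {X X' : σ → Scheme.{u}} (I : ∀ a, (X a).IdealSheafData)
    (I' : ∀ a, (X' a).IdealSheafData) (f : ∀ a, X a ⟶ X' a)
    (hf : ∀ a, ModPair.IsAdmBlowup (I a) (I' a) (f a)) :
    ModPair.IsAdmBlowup (sigmaIdeal X I) (sigmaIdeal X' I') (Limits.Sigma.map f) := by
  refine ⟨?_, ?_, ?_⟩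
  · show sigmaIdeal X I = (sigmaIdeal X' I').comap (Limits.Sigma.map f)
    apply Groth.Agent.Lib.IdealSheafComap.ext_of_openCover (sigmaOpenCover X)
    intro a
    show (sigmaIdeal X I).comap (Sigma.ι X a) =
      ((sigmaIdeal X' I').comap (Limits.Sigma.map f)).comap (Sigma.ι X a)
    rw [comap_sigmaIdeal, ← Scheme.IdealSheafData.comap_comp, Limits.Sigma.ι_map,
      Scheme.IdealSheafData.comap_comp, comap_sigmaIdeal]
    exact (hf a).1
  · exact sigmaMap_of_isZariskiLocalAtTarget @IsProper f (fun a => (hf a).2.1)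
  · apply isIso_morphismRestrict_of_forall_exists
    intro t ht
    obtain ⟨a, x, rfl⟩ := (sigmaOpenCover X').exists_eq t
    have hmin : ModPair.IsMinimal (I' a) (sigmaIdeal X' I') (Sigma.ι X' a) :=
      (comap_sigmaIdeal X' I' a).symm
    have hint := interior_eq_preimage_of_isMinimal _ _ _ hmin
    refine ⟨(Sigma.ι X' a) ''ᵁ ModPair.interior (I' a), ?_, ?_, ?_⟩
    · refine ⟨x, ?_, rfl⟩
      rw [hint]
      exact ht
    · rintro _ ⟨y, hy, rfl⟩
      rw [hint] at hy
      exact hy
    · have : IsIso (f a ∣_ ModPair.interior (I' a)) := (hf a).2.2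
      exact isIso_morphismRestrict_image_of_isPullback (f a) (Sigma.ι X a) (Sigma.ι X' a)
        (Limits.Sigma.map f) (isPullback_sigmaι_sigmaMap f a) _

variable (P P' : σ → ModPair.Pair.{u}) (g : ∀ a, P a ⟶ P' a)

/-- The morphism of coproduct pairs induced by a family of ambient morphisms. -/
noncomputable def sigmaPairMap : sigmaPair P ⟶ sigmaPair P' :=
  sigmaPairDesc P (fun a => g a ≫ sigmaPairι P' a)

theorem sigmaPairι_sigmaPairMap (a : σ) :
    sigmaPairι P a ≫ sigmaPairMap P P' g = g a ≫ sigmaPairι P' a := by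
  apply ModPair.Pair.Hom.ext
  exact Sigma.ι_desc _ _

theorem admBlowup_sigmaPairMap (hg : ∀ a, ModPair.Pair.admBlowup (g a)) :
    ModPair.Pair.admBlowup (sigmaPairMap P P' g) :=
  isAdmBlowup_sigmaMap (fun a => (P a).mod) (fun a => (P' a).mod) (fun a => (g a).hom) hg

end PairMap

end Groth.Agent.Lib.ModPairCoprod68
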