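import Mathlib.AlgebraicGeometry.Modules.Tilde
import Mathlib.AlgebraicGeometry.Modules.Sheaf
import Mathlib.AlgebraicGeometry.AffineScheme
import Mathlib.Algebra.Category.ModuleCat.Colimits
import Mathlib.CategoryTheory.Limits.Preserves.Basic
import Mathlib.CategoryTheory.Adjunction.Limits

/-!
# Sections over an affine open of a colimit-preserving family of quasi-coherent modules (helper44)

If `H : 𝒞 ⥤ X.Modules` preserves colimits and takes quasi-coherent values, then for an affine open `V`
the functor `c ↦ Γ(V, H c)` (to abelian groups) preserves colimits: restrict to `Spec Γ(X, V)`, where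
`tilde` is fully faithful and cocontinuous, hence reflects colimits.
-/

set_option autoImplicit false
universe u w w' v₁ u₁

open CategoryTheory CategoryTheory.Limits AlgebraicGeometry Opposite

namespace Groth.Agent.Lib.SecColimH44

section Spec

variable {R : CommRingCat.{u}} {𝒞 : Type u₁} [Category.{v₁} 𝒞]
  (H : 𝒞 ⥤ (Spec (.of R)).Modules) [∀ c, (H.obj c).IsQuasicoherent]

/-- a functor with quasi-coherent values on `Spec R` is `tilde` of its global sections -/
noncomputable def tildeΓIso : (H ⋙ moduleSpecΓFunctor) ⋙ tilde.functor R ≅ H :=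
  NatIso.ofComponents (fun c =>
    @asIso _ _ _ _ (Scheme.Modules.fromTildeΓ (H.obj c))
      (Scheme.Modules.isIso_fromTildeΓ_of_isQuasicoherent (R := R) (H.obj c)))
    (fun f => Scheme.Modules.fromTildeΓNatTrans.naturality (H.map f))

instance preservesColimits_comp_Γ [PreservesColimitsOfSize.{w', w} H] :
    PreservesColimitsOfSize.{w', w} (H ⋙ moduleSpecΓFunctor) := by
  have : PreservesColimitsOfSize.{w', w} ((H ⋙ moduleSpecΓFunctor) ⋙ tilde.functor R) :=
    preservesColimits_of_natIso (tildeΓIso H).symm
  exact preservesColimits_of_reflects_of_preserves (H ⋙ moduleSpecΓFunctor) (tilde.functor R)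

end Spec

section Scheme

variable {X : Scheme.{u}} {𝒞 : Type u₁} [Category.{v₁} 𝒞]
  (H : 𝒞 ⥤ X.Modules) [∀ c, (H.obj c).IsQuasicoherent]

/-- sections over `V`, as a functor to abelian groups -/
noncomputable abbrev secFunctor (V : X.Opens) : X.Modules ⥤ Ab.{u} :=
  Scheme.Modules.toPresheaf X ⋙ (evaluation _ _).obj (op V)

variable {V : X.Opens} (hV : IsAffineOpen V)

theorem fromSpec_image_top : hV.fromSpec ''ᵁ ⊤ = V := by
  rw [Scheme.Hom.image_top_eq_opensRange, hV.opensRange_fromSpec]

/-- the restriction of `H` to `Spec Γ(X, V)` -/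
noncomputable abbrev restr : 𝒞 ⥤ (Spec (.of Γ(X, V))).Modules :=
  H ⋙ Scheme.Modules.restrictFunctor hV.fromSpec

instance (c : 𝒞) : ((restr H hV).obj c).IsQuasicoherent :=
  Scheme.Modules.isQuasicoherent_restrictFunctor hV.fromSpec (H.obj c)

/-- sections over an affine open are global sections of the restriction -/
noncomputable def secIso :
    (restr H hV ⋙ moduleSpecΓFunctor) ⋙ forget₂ (ModuleCat Γ(X, V)) Ab.{u} ≅ H ⋙ secFunctor V :=
  NatIso.ofComponents
    (fun c => (H.obj c).presheaf.mapIso (eqToIso (fromSpec_image_top hV).symm).op)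
    (fun {c c'} f => ((H.map f).mapPresheaf.naturality _).symm)

include hV in
theorem preservesColimits_sec [PreservesColimitsOfSize.{u, u} H] :
    PreservesColimitsOfSize.{u, u} (H ⋙ secFunctor V) := by
  have : PreservesColimitsOfSize.{u, u} (restr H hV) := inferInstance
  exact preservesColimits_of_natIso (secIso H hV)

end Scheme

end Groth.Agent.Lib.SecColimH44
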