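import Groth.Agent.Lib.LinLiftH44
import Groth.Agent.Lib.CechSumH44
import Groth.Agent.Lib.SecColimH44
import Groth.Agent.Lib.CechEquivH44
import Groth.Agent.Lib.OXModTensorColim
import Groth.Agent.Lib.OXModTensorQCoh
import Groth.Agent.Lib.PullbackAffine
import Groth.Prelude.Def_ega3

/-!
# The Čech complex of `F ⊗_A M` is `C ⊗_A M` (helper44, K2c geometry)

For `X` over `Spec A`, `F` quasi-coherent and a finite family `U` of opens with affine multi-intersections:
`cechFun A F U : M ↦ Č(U, F ⊗_A M)` is naturally isomorphic to `M ↦ C ⊗_A M`, where `C = cechCx A F U` is the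
Čech complex of `F ⊗_A A` with its functorial `A`-module structure (`cechTFunIso`).
-/

set_option autoImplicit false
universe u

open CategoryTheory CategoryTheory.Limits AlgebraicGeometry Opposite MonoidalCategory CohIII

namespace Groth.Agent.Lib.TensorACechH44

open Groth.Agent.Lib.OXModTensor Groth.Agent.Lib.OXModTensorQCoh

section Instances

variable (A : Type u) [CommRing A]

theorem tilde_additive (R : CommRingCat.{u}) : (tilde.functor R).Additive := inferInstance
theorem tilde_isLeftAdjoint (R : CommRingCat.{u}) : (tilde.functor R).IsLeftAdjoint := inferInstance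

instance : (tilde.functor (CommRingCat.of A)).Additive := tilde_additive (CommRingCat.of A)
instance : (tilde.functor (CommRingCat.of A)).IsLeftAdjoint := tilde_isLeftAdjoint (CommRingCat.of A)

variable {X : Scheme.{u}} (F : X.Modules)

/-- tensoring on the right is tensoring on the left, up to the braiding -/
noncomputable def tensorRightModIso : DCoh.tensorRightMod F ≅ tensorLeftFunctor F :=
  Functor.isoWhiskerLeft _
    (Functor.isoWhiskerRight (BraidedCategory.tensorLeftIsoTensorRight (CohB1.toPMod F)).symm _)

instance : PreservesColimitsOfSize.{u, u} (DCoh.tensorRightMod F) :=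
  preservesColimits_of_natIso (tensorRightModIso F).symm

variable [X.Over (Spec (CommRingCat.of A))]

noncomputable instance : PreservesColimitsOfSize.{u, u} (tensorAFunctor A F) := by
  unfold tensorAFunctor
  infer_instance

instance : (tensorAFunctor A F).Additive := by
  unfold tensorAFunctor
  infer_instance

instance isQuasicoherent_tensorAFunctor_obj [F.IsQuasicoherent] (M : ModuleCat.{u} A) :
    ((tensorAFunctor A F).obj M).IsQuasicoherent := by
  have h1 : ((tilde.functor (CommRingCat.of A)).obj M).IsQuasicoherent :=
    inferInstanceAs (tilde (R := CommRingCat.of A) M).IsQuasicoherent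
  have h2 : ((Scheme.Modules.pullback (X ↘ Spec (CommRingCat.of A))).obj
      ((tilde.functor (CommRingCat.of A)).obj M)).IsQuasicoherent := inferInstance
  exact isQuasicoherent_tensorMod _ F

end Instances

section Cech

open Groth.Agent.Lib.CechSumH44 Groth.Agent.Lib.SecColimH44 Groth.Agent.Lib.LinLiftH44
  Groth.Agent.Lib.EWCxH44

variable (A : Type u) [CommRing A] {X : Scheme.{u}} [X.Over (Spec (CommRingCat.of A))]
  (F : X.Modules) {ι : Type u} (U : ι → X.Opens)

instance : (Scheme.Modules.toPresheaf X).Additive where
  map_add := rfl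

/-- `M ↦ Č(U, F ⊗_A M)`, the Čech complex (of abelian groups) of `F ⊗_A M` -/
noncomputable def cechFun : ModuleCat.{u} A ⥤ CochainComplex AddCommGrpCat.{u} ℕ :=
  tensorAFunctor A F ⋙ Scheme.Modules.toPresheaf X ⋙ cechComplexFunctor U

instance : (cechFun A F U).Additive := by
  unfold cechFun
  haveI : (cechComplexFunctor (A := AddCommGrpCat.{u}) U).Additive := cech_additive U
  haveI : (Scheme.Modules.toPresheaf X ⋙ cechComplexFunctor (A := AddCommGrpCat.{u}) U).Additive :=
    inferInstance
  infer_instance

theorem cechFun_homology (p : ℕ) (M : ModuleCat.{u} A) :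
    (cechFun A F U ⋙ HomologicalComplex.homologyFunctor AddCommGrpCat.{u} _ p).obj M =
      CohB1.cechH U ((tensorAFunctor A F).obj M) p := rfl

variable [F.IsQuasicoherent] [Finite ι]
  (hU : ∀ (n : ℕ) (a : Fin (n + 1) → ι), IsAffineOpen (∏ᶜ fun k => U (a k)))

include hU in
theorem preservesColimits_cechFun_eval (n : ℕ) :
    PreservesColimitsOfSize.{u, u}
      (cechFun A F U ⋙ HomologicalComplex.eval AddCommGrpCat.{u} (ComplexShape.up ℕ) n) :=
  preservesColimits_cechX U (tensorAFunctor A F ⋙ Scheme.Modules.toPresheaf X) n
    (fun a => preservesColimits_sec (tensorAFunctor A F) (hU n a))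

/-- the complex of `A`-modules `C` with `Č(U, F ⊗_A M) ≅ C ⊗_A M`: the Čech complex of `F ⊗_A A` with its
functorial `A`-module structure -/
noncomputable def cechCx : CochainComplex (ModuleCat.{u} A) ℕ :=
  (linLift (cechFun A F U)).obj (ModuleCat.of A A)

include hU in
/-- **Čech cohomology of `F ⊗_A M` is `H^p(C ⊗_A M)`, naturally in `M`.** -/
theorem nonempty_cechTFunIso (p : ℕ) :
    Nonempty (TFun (cechCx A F U) p ⋙ forget₂ (ModuleCat.{u} A) AddCommGrpCat.{u} ≅
      cechFun A F U ⋙ HomologicalComplex.homologyFunctor AddCommGrpCat.{u} _ p) := by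
  have : ∀ n, PreservesColimitsOfSize.{u, u}
      (cechFun A F U ⋙ HomologicalComplex.eval AddCommGrpCat.{u} (ComplexShape.up ℕ) n) :=
    preservesColimits_cechFun_eval A F U hU
  exact ⟨Functor.isoWhiskerRight (homologyIso (linLift (cechFun A F U)) p) _ ≪≫
    Functor.associator _ _ _ ≪≫ linLiftHomologyIso (cechFun A F U) p⟩

end Cech

end Groth.Agent.Lib.TensorACechH44
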