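import Groth.Agent.Lib.FormalCoker13
import Groth.Agent.Lib.TensorALinH44
import Groth.Agent.Lib.TensorAModel2H44
import Groth.Agent.Lib.TensorACechH44

/-!
# `F ⊗_A (A/J)` is `F / J F` (helper21)

For a cocontinuous additive functor `G : ModuleCat A ⥤ X.Modules` which sends multiplication by `a : A` to
`Formal.smulMod A _ a` (for instance `CohIII.tensorAFunctor A F`), the map `G(A) ⟶ G(A/J)` is a cokernel
of multiplication by `J` (`FormalCoker13.IsCokerSmul`).  Consequently
`tensorAFunctor A F (A / I^n) ≅ Formal.modPow I n F`, compatibly with the projections from `F`.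
-/

set_option autoImplicit false
set_option linter.style.haveILetI false
universe u

open CategoryTheory CategoryTheory.Limits AlgebraicGeometry Opposite CohIII

namespace Groth.Agent.Lib.ModPowTensor21

open Groth.Agent.Lib.FormalCoker13 Formal

variable {A : Type u} [CommRing A]

section Alg

variable (J : Ideal A)

/-- the family of multiplications `∐_{a ∈ J} A ⟶ A` -/
noncomputable def sigmaJ : (∐ fun _ : J => ModuleCat.of A A) ⟶ ModuleCat.of A A :=
  Sigma.desc fun a => (a : A) • 𝟙 (ModuleCat.of A A)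

/-- the quotient map `A ⟶ A/J` -/
noncomputable def piJ : ModuleCat.of A A ⟶ ModuleCat.of A (A ⧸ J) :=
  ModuleCat.ofHom (Submodule.mkQ J)

theorem smul_piJ (a : A) (ha : a ∈ J) : ((a : A) • 𝟙 (ModuleCat.of A A)) ≫ piJ J = 0 := by
  ext
  change Submodule.mkQ J (a • (1 : A)) = 0
  rw [Submodule.mkQ_apply, Submodule.Quotient.mk_eq_zero]
  simpa using ha

theorem sigmaJ_piJ : sigmaJ J ≫ piJ J = 0 := by
  apply Sigma.hom_ext
  intro a
  rw [comp_zero, sigmaJ, Sigma.ι_desc_assoc]
  exact smul_piJ J a a.2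

theorem le_ker_of_sigmaJ_comp {Z : ModuleCat.{u} A} (g : ModuleCat.of A A ⟶ Z)
    (hg : sigmaJ J ≫ g = 0) : J ≤ LinearMap.ker g.hom := by
  intro a ha
  rw [LinearMap.mem_ker]
  have h1 : ((a : A) • 𝟙 (ModuleCat.of A A)) ≫ g = 0 := by
    have := congrArg (fun φ => Sigma.ι (fun _ : J => ModuleCat.of A A) ⟨a, ha⟩ ≫ φ) hg
    simpa only [sigmaJ, Sigma.ι_desc_assoc, comp_zero] using this
  have h2 := congrArg (fun φ : ModuleCat.of A A ⟶ Z => φ.hom (1 : A)) h1
  change g.hom (a • (1 : A)) = 0 at h2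
  simpa using h2

/-- `A ⟶ A/J` is a cokernel of `∐_{a ∈ J} A ⟶ A` -/
noncomputable def isColimitPiJ : IsColimit (CokernelCofork.ofπ (piJ J) (sigmaJ_piJ J)) :=
  haveI : Epi (piJ J) := (ModuleCat.epi_iff_surjective _).mpr (Submodule.mkQ_surjective J)
  CokernelCofork.IsColimit.ofπ' (piJ J) (sigmaJ_piJ J) (fun {Z} g hg =>
    ⟨ModuleCat.ofHom (J.liftQ g.hom (le_ker_of_sigmaJ_comp J g hg)), by
      ext
      rfl⟩)

end Alg

section Functor

variable {X : Scheme.{u}} [X.Over (Spec (CommRingCat.of A))]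
  (G : ModuleCat.{u} A ⥤ X.Modules) [G.Additive] [PreservesColimitsOfSize.{u, u} G]
  (hG : ∀ (M : ModuleCat.{u} A) (a : A), G.map (a • 𝟙 M) = Formal.smulMod A (G.obj M) a)
include hG

/-- `G(A) ⟶ G(A/J)` is a cokernel of multiplication by `J`. -/
theorem isCokerSmul_map_piJ (J : Ideal A) : IsCokerSmul J (G.map (piJ J)) := by
  have hc : IsColimit ((CokernelCofork.ofπ (piJ J) (sigmaJ_piJ J)).map G) :=
    CokernelCofork.mapIsColimit _ (isColimitPiJ J) G
  refine ⟨fun a ha => ?_, ?_, ?_⟩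
  · rw [← hG, ← G.map_comp, smul_piJ J a ha, G.map_zero]
  · exact epi_of_isColimit_cofork hc
  · intro T g hg
    have hz : G.map (sigmaJ J) ≫ g = 0 := by
      haveI : IsIso (sigmaComparison G (fun _ : J => ModuleCat.of A A)) := inferInstance
      rw [← cancel_epi (sigmaComparison G (fun _ : J => ModuleCat.of A A)), comp_zero]
      apply Sigma.hom_ext
      intro a
      rw [comp_zero, ι_comp_sigmaComparison_assoc, ← G.map_comp_assoc, sigmaJ, Sigma.ι_desc, hG]
      exact hg a a.2
    refine ⟨hc.desc (CokernelCofork.ofπ g hz), ?_⟩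
    exact hc.fac (CokernelCofork.ofπ g hz) WalkingParallelPair.one

end Functor

section TensorA

variable (A) {X : Scheme.{u}} [X.Over (Spec (CommRingCat.of A))] (F : X.Modules)

/-- `F ⊗_A (A/I^n) ≅ F / I^n F`, compatibly with the projections from `F` -/
theorem exists_iso_modPow (I : Ideal A) (n : ℕ) :
    ∃ e : (tensorAFunctor A F).obj (ModuleCat.of A (A ⧸ I ^ n)) ≅ Formal.modPow I n F,
      (Groth.Agent.Lib.TensorAModel2H44.tensorASelfIso A F).inv ≫
        (tensorAFunctor A F).map (piJ (I ^ n)) ≫ e.hom = Formal.modPowπ I n F := by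
  have h1 : IsCokerSmul (I ^ n) ((tensorAFunctor A F).map (piJ (I ^ n))) :=
    isCokerSmul_map_piJ (tensorAFunctor A F)
      (fun M a => Groth.Agent.Lib.TensorALinH44.tensorAFunctor_map_smul A F M a) (I ^ n)
  have h2 : IsCokerSmul (I ^ n) ((Groth.Agent.Lib.TensorAModel2H44.tensorASelfIso A F).inv ≫
      (tensorAFunctor A F).map (piJ (I ^ n))) :=
    h1.of_iso_left (Groth.Agent.Lib.TensorAModel2H44.tensorASelfIso A F).inv
  obtain ⟨e, he⟩ := h2.uniqueIso (isCokerSmul_modPowπ I n F)
  exact ⟨e, by rw [← he, Category.assoc]⟩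

end TensorA

end Groth.Agent.Lib.ModPowTensor21
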