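/-
helper11: naturality of the associator of helper42's `MonLoc.LocData` in the last variable.
-/
import Groth.Agent.Lib.MonLoc
import Groth.Agent.Lib.MonLocColim

universe v₁ v₂ u₁ u₂
open CategoryTheory MonoidalCategory

namespace Groth.Agent.Lib.MonLoc.LocData

variable {C : Type u₁} {D : Type u₂} [Category.{v₁} C] [Category.{v₂} D] [MonoidalCategory C]
    [SymmetricCategory C] (L : LocData C D)

lemma associator_hom_naturality_right (M N : D) {K K' : D} (f : K ⟶ K') :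
    L.tensMap (𝟙 (L.tens M N)) f ≫ (L.associator M N K').hom =
      (L.associator M N K).hom ≫ L.tensMap (𝟙 M) (L.tensMap (𝟙 N) f) := by
  have := L.isIso_whiskerRight (L.η (L.fg.obj M ⊗ L.fg.obj N)) (L.fg.obj K)
  have := L.isIso_whiskerRight (L.η (L.fg.obj M ⊗ L.fg.obj N)) (L.fg.obj K')
  have h1 : L.a.map (L.η (L.fg.obj M ⊗ L.fg.obj N) ▷ L.fg.obj K) ≫
      L.a.map (L.fg.obj (L.tens M N) ◁ L.fg.map f) =
      L.a.map ((L.fg.obj M ⊗ L.fg.obj N) ◁ L.fg.map f) ≫
        L.a.map (L.η (L.fg.obj M ⊗ L.fg.obj N) ▷ L.fg.obj K') := by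
    rw [← Functor.map_comp, ← Functor.map_comp, whisker_exchange]
  have h2 : L.a.map ((L.fg.obj M ⊗ L.fg.obj N) ◁ L.fg.map f) ≫
      L.a.map (α_ (L.fg.obj M) (L.fg.obj N) (L.fg.obj K')).hom =
      L.a.map (α_ (L.fg.obj M) (L.fg.obj N) (L.fg.obj K)).hom ≫
        L.a.map (L.fg.obj M ◁ (L.fg.obj N ◁ L.fg.map f)) := by
    rw [← Functor.map_comp, ← Functor.map_comp, associator_naturality_right]
  have h3 : L.a.map (L.fg.obj M ◁ (L.fg.obj N ◁ L.fg.map f)) ≫
      L.a.map (L.fg.obj M ◁ L.η (L.fg.obj N ⊗ L.fg.obj K')) =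
      L.a.map (L.fg.obj M ◁ L.η (L.fg.obj N ⊗ L.fg.obj K)) ≫
        L.a.map (L.fg.obj M ◁ L.fg.map (L.a.map (L.fg.obj N ◁ L.fg.map f))) := by
    rw [← Functor.map_comp, ← Functor.map_comp, ← MonoidalCategory.whiskerLeft_comp,
      ← MonoidalCategory.whiskerLeft_comp]
    congr 2
    exact L.adj.unit.naturality (L.fg.obj N ◁ L.fg.map f)
  simp only [associator, tensMap, Iso.trans_hom, Iso.symm_hom, asIso_inv, Functor.mapIso_hom,
    asIso_hom, CategoryTheory.Functor.map_id, id_tensorHom]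
  rw [← cancel_epi (L.a.map (L.η (L.fg.obj M ⊗ L.fg.obj N) ▷ L.fg.obj K)), ← Category.assoc, h1,
    Category.assoc, IsIso.hom_inv_id_assoc]
  simp only [Category.assoc, IsIso.hom_inv_id_assoc]
  rw [← Category.assoc, h2, Category.assoc, h3]

end Groth.Agent.Lib.MonLoc.LocData
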