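/-
helper11: keystone ModSiteTensor, part F4.  The tensor product of flat modules is flat (S9085).
-/
import Groth.Agent.Lib.MonLocAssoc
import Groth.Agent.Lib.ModSiteFlat

universe u
open CategoryTheory Opposite Limits MonoidalCategory

namespace Groth.Agent.Lib.ModSiteFlat

open Groth.Agent.Lib.ModSiteTensor Groth.Agent.Lib.MonLoc Groth.Agent.Lib.ModSiteProj

variable {C : Type u} [SmallCategory C] {J : GrothendieckTopology C} {O : Sheaf J CommRingCat.{u}}

lemma tensorBi_obj_map_eq_tensMap (M : ModSite.Mod O) {N N' : ModSite.Mod O} (f : N ⟶ N') :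
    ((ModSite.tensorBi O).obj M).map f = (locData O).tensMap (𝟙 M) f := by
  rw [tensorBi_obj_map]
  unfold LocData.tensMap
  rw [CategoryTheory.Functor.map_id, id_tensorHom]
  rfl

/-- the tensor product of flat modules is flat (S9085) -/
theorem isFlat_tensor (G F : ModSite.Mod O) (hG : ModSite.IsFlat G) (hF : ModSite.IsFlat F) :
    ModSite.IsFlat (((ModSite.tensorBi O).obj G).obj F) := by
  rw [isFlat_iff_preservesMono] at hG hF ⊢
  refine ⟨fun {N' N} m hm => ?_⟩
  have h := (locData O).associator_hom_naturality_right G F m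
  have h1 : Mono (((ModSite.tensorBi O).obj F).map m) := inferInstance
  have h2 : Mono (((ModSite.tensorBi O).obj G).map (((ModSite.tensorBi O).obj F).map m)) :=
    inferInstance
  rw [tensorBi_obj_map_eq_tensMap, tensorBi_obj_map_eq_tensMap] at h2
  have h3 : Mono ((locData O).tensMap (𝟙 ((locData O).tens G F)) m ≫
      ((locData O).associator G F N).hom) := by
    rw [h]
    exact @mono_comp _ _ _ _ _ _ inferInstance _ h2
  have h4 : Mono ((locData O).tensMap (𝟙 ((locData O).tens G F)) m) :=
    mono_of_mono _ ((locData O).associator G F N).hom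
  rw [tensorBi_obj_map_eq_tensMap]
  exact h4

end Groth.Agent.Lib.ModSiteFlat
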