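/-
helper11: keystone ModSiteTensor, part E1.  Sections of maps out of the unit module, pure tensors in the sheafified tensor
product, and the explicit form of the left unit isomorphism on pure tensors.
-/
import Groth.Agent.Lib.ModSiteFlat
import Groth.Agent.Lib.ModSiteProjNat
import Groth.Agent.Lib.ModSiteFlatTensor
import Mathlib.LinearAlgebra.TensorProduct.Finiteness

universe u
open CategoryTheory Opposite Limits MonoidalCategory

namespace Groth.Agent.Lib.MonLoc.LocData

variable {C D : Type*} [Category C] [Category D] [MonoidalCategory C] [SymmetricCategory C]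
  (L : LocData C D)

lemma η_fg_map_leftUnitor_hom (M : D) :
    L.η (L.fg.obj L.unit ⊗ L.fg.obj M) ≫ L.fg.map (L.leftUnitor M).hom =
      (whiskerRightIso L.unitIso (L.fg.obj M)).hom ≫ (λ_ (L.fg.obj M)).hom := by
  simp only [leftUnitor, counitIso, Iso.trans_hom, Functor.mapIso_hom, asIso_hom, Functor.map_comp]
  have h1 := L.adj.unit.naturality
    ((whiskerRightIso L.unitIso (L.fg.obj M)).hom ≫ (λ_ (L.fg.obj M)).hom)
  have h2 := L.adj.right_triangle_components M
  simp only [Functor.id_map, Functor.comp_map, Functor.id_obj, Functor.comp_obj] at h1 h2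
  simp only [η, Functor.map_comp] at h1 ⊢
  rw [← Category.assoc, ← Category.assoc, Category.assoc (L.adj.unit.app _), ← h1, Category.assoc, h2,
    Category.comp_id]

end Groth.Agent.Lib.MonLoc.LocData

namespace Groth.Agent.Lib.ModSiteUnitSec

open Groth.Agent.Lib.ModSiteTensor Groth.Agent.Lib.MonLoc Groth.Agent.Lib.ModSiteFlat
  Groth.Agent.Lib.ModSiteProj Groth.Agent.Lib.ModSiteTensorW

/-- an element of a tensor product is a finite sum of pure tensors, indexed by `Fin l` -/
lemma exists_fin_sum_tmul {R : Type*} [CommRing R] {M N : Type*} [AddCommGroup M] [AddCommGroup N]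
    [Module R M] [Module R N] (x : TensorProduct R M N) :
    ∃ (l : ℕ) (m : Fin l → M) (n : Fin l → N), x = ∑ k, m k ⊗ₜ[R] n k := by
  obtain ⟨S, hS⟩ := TensorProduct.exists_finset x
  refine ⟨S.card, fun k => (S.equivFin.symm k).1.1, fun k => (S.equivFin.symm k).1.2, ?_⟩
  rw [hS, ← Finset.sum_coe_sort S (fun i => i.1 ⊗ₜ[R] i.2)]
  exact (Equiv.sum_comp S.equivFin.symm (fun i : S => i.1.1 ⊗ₜ[R] i.1.2)).symm

variable {C : Type u} [SmallCategory C] {J : GrothendieckTopology C} (O : Sheaf J CommRingCat.{u})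

/-- the section over `V` of a map from the unit -/
noncomputable def sec {M : ModSite.Mod O} (x : ModSite.unit O ⟶ M) (V : C) : ModSite.sect M V :=
  x.val.app (op V) (1 : O.obj.obj (op V))

variable {O}

lemma sec_comp {M N : ModSite.Mod O} (x : ModSite.unit O ⟶ M) (f : M ⟶ N) (V : C) :
    sec O (x ≫ f) V = f.val.app (op V) (sec O x V) := rfl

lemma hom_ext_sec {M : ModSite.Mod O} {x y : ModSite.unit O ⟶ M} (h : ∀ V, sec O x V = sec O y V) :
    x = y := by
  apply (SheafOfModules.unitHomEquiv M).injective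
  apply PresheafOfModules.sections_ext
  intro X
  exact h X.unop

lemma sec_map {M : ModSite.Mod O} (x : ModSite.unit O ⟶ M) {V W : C} (g : W ⟶ V) :
    M.val.map g.op (sec O x V) = sec O x W :=
  PresheafOfModules.sections_property (SheafOfModules.unitHomEquiv M x) g.op

/-- a map out of the unit is multiplication of its section -/
lemma unit_app_apply {M : ModSite.Mod O} (x : ModSite.unit O ⟶ M) (V : C) (a : O.obj.obj (op V)) :
    x.val.app (op V) a = a • sec O x V := by
  have h := (x.val.app (op V)).hom.map_smul a (1 : O.obj.obj (op V))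
  have e : (a • (1 : O.obj.obj (op V)) : O.obj.obj (op V)) = a := mul_one a
  exact (congrArg (fun z => (x.val.app (op V)).hom z) e.symm).trans h

/-- the image of a pure tensor in the sheafified tensor product -/
noncomputable def tm {M N : ModSite.Mod O} {V : C} (a : ModSite.sect M V) (b : ModSite.sect N V) :
    ModSite.sect ((locData O).tens M N) V :=
  ((locData O).η ((fg O).obj M ⊗ (fg O).obj N)).app (op V) (a ⊗ₜ b)

lemma tensMap_tm {M M' N N' : ModSite.Mod O} (f : M ⟶ M') (g : N ⟶ N') {V : C}
    (a : ModSite.sect M V) (b : ModSite.sect N V) :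
    ((locData O).tensMap f g).val.app (op V) (tm a b) =
      tm (f.val.app (op V) a) (g.val.app (op V) b) := by
  unfold tm
  have h := (locData O).adj.unit.naturality ((fg O).map f ⊗ₘ (fg O).map g)
  have h2 := congrArg (fun k => (k.app (op V)) (a ⊗ₜ b)) h
  exact h2.symm

lemma pre_leftUnitor_hom_apply (P : PMod O) {V : C} (a : O.obj.obj (op V)) (t : P.obj (op V)) :
    ((λ_ P).hom.app (op V)) (a ⊗ₜ t) = a • t :=
  ModuleCat.MonoidalCategory.leftUnitor_hom_apply (R := O.obj.obj (op V)) a t

lemma leftUnitor_hom_tm (M : ModSite.Mod O) {V : C} (a : O.obj.obj (op V)) (t : ModSite.sect M V) :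
    ((locData O).leftUnitor M).hom.val.app (op V) (tm (M := ModSite.unit O) a t) = a • t := by
  unfold tm
  have h := (locData O).η_fg_map_leftUnitor_hom M
  have h' : (whiskerRightIso (locData O).unitIso ((locData O).fg.obj M)).hom ≫
      (λ_ ((locData O).fg.obj M)).hom = (λ_ ((fg O).obj M)).hom := by
    have : (whiskerRightIso (locData O).unitIso ((locData O).fg.obj M)).hom = 𝟙 _ := by
      change (𝟙 _) ▷ _ = 𝟙 _
      exact id_whiskerRight _ _
    exact (congrArg (fun k => k ≫ (λ_ ((locData O).fg.obj M)).hom) this).trans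
      (Category.id_comp (λ_ ((fg O).obj M)).hom)
  have h2 := congrArg (fun k => (k.app (op V)) (a ⊗ₜ t)) (h.trans h')
  exact h2.trans (pre_leftUnitor_hom_apply ((fg O).obj M) a t)

lemma leftUnitor_inv_apply (M : ModSite.Mod O) {V : C} (t : ModSite.sect M V) :
    ((locData O).leftUnitor M).inv.val.app (op V) t =
      tm (M := ModSite.unit O) (1 : O.obj.obj (op V)) t := by
  have h := leftUnitor_hom_tm M (1 : O.obj.obj (op V)) t
  rw [one_smul] at h
  have h2 := congrArg (fun z => ((locData O).leftUnitor M).inv.val.app (op V) z) h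
  refine h2.symm.trans ?_
  have h3 : ((locData O).leftUnitor M).hom ≫ ((locData O).leftUnitor M).inv = 𝟙 _ :=
    ((locData O).leftUnitor M).hom_inv_id
  exact congrArg (fun k : (locData O).tens (ModSite.unit O) M ⟶ (locData O).tens (ModSite.unit O) M =>
    k.val.app (op V) (tm (M := ModSite.unit O) (1 : O.obj.obj (op V)) t)) h3

lemma flip_map_eq_tensMap (H : ModSite.Mod O) {M M' : ModSite.Mod O} (f : M ⟶ M') :
    ((ModSite.tensorBi O).flip.obj H).map f = (locData O).tensMap f (𝟙 H) := by
  change ((ModSite.tensorBi O).map f).app H = _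
  rw [tensorBi_map_app]
  unfold LocData.tensMap
  rw [CategoryTheory.Functor.map_id, tensorHom_id]
  rfl

/-- the sheafification unit on sections of the presheaf tensor product, as a linear map -/
noncomputable def ηL (M N : ModSite.Mod O) (V : C) :
    TensorProduct (O.obj.obj (op V)) (ModSite.sect M V) (ModSite.sect N V) →ₗ[O.obj.obj (op V)]
      ModSite.sect ((locData O).tens M N) V :=
  (((locData O).η ((fg O).obj M ⊗ (fg O).obj N)).app (op V)).hom

lemma tm_eq {M N : ModSite.Mod O} {V : C} (a : ModSite.sect M V) (b : ModSite.sect N V) :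
    tm a b = ηL M N V (a ⊗ₜ b) := rfl

lemma tm_add_left {M N : ModSite.Mod O} {V : C} (a a' : ModSite.sect M V) (b : ModSite.sect N V) :
    tm (a + a') b = tm a b + tm a' b := by
  rw [tm_eq, tm_eq, tm_eq, TensorProduct.add_tmul, map_add]

lemma tm_sum_left {M N : ModSite.Mod O} {V : C} {ι : Type*} (s : Finset ι) (a : ι → ModSite.sect M V)
    (b : ModSite.sect N V) : tm (∑ i ∈ s, a i) b = ∑ i ∈ s, tm (a i) b := by
  simp only [tm_eq]
  rw [TensorProduct.sum_tmul, map_sum]

lemma tm_sum_right {M N : ModSite.Mod O} {V : C} {ι : Type*} (s : Finset ι) (a : ModSite.sect M V)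
    (b : ι → ModSite.sect N V) : tm a (∑ i ∈ s, b i) = ∑ i ∈ s, tm a (b i) := by
  simp only [tm_eq]
  rw [TensorProduct.tmul_sum, map_sum]

lemma tm_smul {M N : ModSite.Mod O} {V : C} (r : O.obj.obj (op V)) (a : ModSite.sect M V)
    (b : ModSite.sect N V) : tm (r • a) b = tm a (r • b) := by
  rw [tm_eq, tm_eq, TensorProduct.smul_tmul]

lemma tm_zero_right {M N : ModSite.Mod O} {V : C} (a : ModSite.sect M V) :
    tm a (0 : ModSite.sect N V) = 0 := by
  rw [tm_eq, TensorProduct.tmul_zero, map_zero]

lemma locSurj_tm {M N : ModSite.Mod O} {V : C} (z : ModSite.sect ((locData O).tens M N) V) :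
    ∃ S ∈ J V, ∀ ⦃W : C⦄ (g : W ⟶ V), S g →
      ∃ (l : ℕ) (x : Fin l → ModSite.sect M W) (y : Fin l → ModSite.sect N W),
        ((locData O).tens M N).val.map g.op z = ∑ k, tm (x k) (y k) := by
  obtain ⟨S, hS, h⟩ := locSurj_η O ((fg O).obj M ⊗ (fg O).obj N) V z
  refine ⟨S, hS, fun W g hg => ?_⟩
  obtain ⟨t, ht⟩ := h g hg
  obtain ⟨l, x, y, hxy⟩ := exists_fin_sum_tmul (R := O.obj.obj (op W))
    (M := ModSite.sect M W) (N := ModSite.sect N W) t
  refine ⟨l, x, y, ?_⟩
  have h1 : ηL M N W t = ∑ k, tm (x k) (y k) :=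
    (congrArg (ηL M N W) hxy).trans (map_sum (ηL M N W) _ _)
  exact ht.symm.trans h1

end Groth.Agent.Lib.ModSiteUnitSec
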