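/-
helper11: keystone ModSiteTensor, part E2.  Equational criterion of flatness (matrix form), direction flat => criterion,
on a small ringed site, in terms of maps out of the unit module.
-/
import Groth.Agent.Lib.ModSiteUnitSec

universe u
open CategoryTheory Opposite Limits MonoidalCategory

namespace Groth.Agent.Lib.ModSiteEqCrit

open Groth.Agent.Lib.ModSiteTensor Groth.Agent.Lib.MonLoc Groth.Agent.Lib.ModSiteFlat
  Groth.Agent.Lib.ModSiteProj Groth.Agent.Lib.ModSiteTensorW Groth.Agent.Lib.ModSiteUnitSec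

variable {C : Type u} [SmallCategory C] {J : GrothendieckTopology C} {O : Sheaf J CommRingCat.{u}}

/-- the functor `- ⊗ H` -/
noncomputable abbrev T (H : ModSite.Mod O) : ModSite.Mod O ⥤ ModSite.Mod O := (ModSite.tensorBi O).flip.obj H

lemma T_map_tm (H : ModSite.Mod O) {M M' : ModSite.Mod O} (f : M ⟶ M') {V : C}
    (a : ModSite.sect M V) (b : ModSite.sect H V) :
    ((T H).map f).val.app (op V) (tm a b) = tm (f.val.app (op V) a) b :=
  (congrArg (fun k : (locData O).tens M H ⟶ (locData O).tens M' H => k.val.app (op V) (tm a b))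
    (flip_map_eq_tensMap H f)).trans (tensMap_tm f (𝟙 H) a b)

/-- the unit isomorphism `O ⊗ H ≅ H` -/
noncomputable abbrev lam (H : ModSite.Mod O) : (T H).obj (ModSite.unit O) ≅ H := (locData O).leftUnitor H

lemma lam_inv_apply (H : ModSite.Mod O) {V : C} (t : ModSite.sect H V) :
    (lam H).inv.val.app (op V) t = tm (M := ModSite.unit O) (1 : O.obj.obj (op V)) t :=
  leftUnitor_inv_apply H t

lemma lam_hom_tm (H : ModSite.Mod O) {V : C} (a : O.obj.obj (op V)) (t : ModSite.sect H V) :
    (lam H).hom.val.app (op V) (tm (M := ModSite.unit O) a t) = a • t :=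
  leftUnitor_hom_tm H a t

/-- (**): endomorphisms of the unit commute past the unit isomorphism -/
lemma comm_unit (H : ModSite.Mod O) (f : ModSite.unit O ⟶ ModSite.unit O) (x : ModSite.unit O ⟶ H) :
    x ≫ (lam H).inv ≫ (T H).map f = f ≫ x ≫ (lam H).inv := by
  apply hom_ext_sec
  intro V
  have hL : sec O (x ≫ (lam H).inv ≫ (T H).map f) V = tm (sec O f V) (sec O x V) := by
    have h1 : sec O (x ≫ (lam H).inv ≫ (T H).map f) V =
        ((T H).map f).val.app (op V) ((lam H).inv.val.app (op V) (sec O x V)) := rfl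
    rw [h1, lam_inv_apply, T_map_tm]
    rfl
  have hR : sec O (f ≫ x ≫ (lam H).inv) V = tm (sec O f V) (sec O x V) := by
    have h1 : sec O (f ≫ x ≫ (lam H).inv) V =
        (lam H).inv.val.app (op V) (x.val.app (op V) (sec O f V)) := rfl
    rw [h1, lam_inv_apply, unit_app_apply, ← tm_smul]
    congr 1
    exact @mul_one (O.obj.obj (op V)) _ (sec O f V)
  rw [hL, hR]


section Matrix

instance : HasFiniteBiproducts (ModSite.Mod O) := Abelian.hasFiniteBiproducts

variable (H : ModSite.Mod O) {n m : ℕ} (A : Fin m → Fin n → (ModSite.unit O ⟶ ModSite.unit O))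
  (s : Fin n → (ModSite.unit O ⟶ H))

/-- the finite free module `O^n` as a biproduct -/
noncomputable abbrev Fr (n : ℕ) : ModSite.Mod O := ⨁ (fun _ : Fin n => ModSite.unit O)

/-- the transpose map `O^n ⟶ O^m` -/
noncomputable def β : Fr (O := O) n ⟶ Fr (O := O) m := biproduct.matrix (fun i j => A j i)

lemma ι_β (i : Fin n) : biproduct.ι (fun _ : Fin n => ModSite.unit O) i ≫ β A =
    ∑ j, A j i ≫ biproduct.ι (fun _ : Fin m => ModSite.unit O) j := by
  unfold β
  rw [biproduct.ι_matrix, biproduct.lift_eq]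

lemma β_π (j : Fin m) : β A ≫ biproduct.π (fun _ : Fin m => ModSite.unit O) j =
    ∑ i, biproduct.π (fun _ : Fin n => ModSite.unit O) i ≫ A j i := by
  unfold β
  rw [biproduct.matrix_π, biproduct.desc_eq]

/-- the element of `O^n ⊗ H` given by the sections `s` -/
noncomputable def σ : ModSite.unit O ⟶ (T H).obj (Fr n) :=
  ∑ i, s i ≫ (lam H).inv ≫ (T H).map (biproduct.ι (fun _ : Fin n => ModSite.unit O) i)

lemma σ_β (hrel : ∀ j, ∑ i, A j i ≫ s i = 0) : σ H s ≫ (T H).map (β A) = 0 := by
  unfold σ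
  rw [Preadditive.sum_comp]
  have h1 : ∀ i : Fin n, (s i ≫ (lam H).inv ≫
      (T H).map (biproduct.ι (fun _ : Fin n => ModSite.unit O) i)) ≫ (T H).map (β A) =
      ∑ j, (A j i ≫ s i) ≫ (lam H).inv ≫
        (T H).map (biproduct.ι (fun _ : Fin m => ModSite.unit O) j) := by
    intro i
    rw [Category.assoc, Category.assoc, ← Functor.map_comp, ι_β, Functor.map_sum,
      Preadditive.comp_sum, Preadditive.comp_sum]
    refine Finset.sum_congr rfl (fun j _ => ?_)
    have hc := comm_unit H (A j i) (s i)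
    rw [Functor.map_comp]
    calc s i ≫ (lam H).inv ≫ (T H).map (A j i) ≫ (T H).map (biproduct.ι (fun _ => ModSite.unit O) j)
        = (s i ≫ (lam H).inv ≫ (T H).map (A j i)) ≫
            (T H).map (biproduct.ι (fun _ => ModSite.unit O) j) := by simp only [Category.assoc]
      _ = (A j i ≫ s i ≫ (lam H).inv) ≫ (T H).map (biproduct.ι (fun _ => ModSite.unit O) j) := by
          rw [hc]
      _ = _ := by simp only [Category.assoc]
  rw [Finset.sum_congr rfl (fun i _ => h1 i), Finset.sum_comm]
  refine Finset.sum_eq_zero (fun j _ => ?_)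
  rw [← Preadditive.sum_comp, hrel j, zero_comp]

/-- evaluation of morphisms at a section, as an additive map -/
noncomputable def evalHom {M N : ModSite.Mod O} {W : C} (z : ModSite.sect M W) :
    (M ⟶ N) →+ ModSite.sect N W where
  toFun f := f.val.app (op W) z
  map_zero' := rfl
  map_add' f g := rfl

lemma sum_val_app {M N : ModSite.Mod O} {W : C} {ι : Type*} (t : Finset ι) (f : ι → (M ⟶ N))
    (z : ModSite.sect M W) :
    (∑ i ∈ t, f i).val.app (op W) z = ∑ i ∈ t, (f i).val.app (op W) z :=
  map_sum (evalHom (N := N) z) f t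

lemma σ_π (i : Fin n) :
    σ H s ≫ (T H).map (biproduct.π (fun _ : Fin n => ModSite.unit O) i) ≫ (lam H).hom = s i := by
  unfold σ
  rw [Preadditive.sum_comp, Finset.sum_eq_single i]
  · rw [Category.assoc, Category.assoc, ← Category.assoc ((T H).map _), ← Functor.map_comp,
      biproduct.ι_π_self, CategoryTheory.Functor.map_id, Category.id_comp, Iso.inv_hom_id,
      Category.comp_id]
  · intro i' _ hne
    rw [Category.assoc, Category.assoc, ← Category.assoc ((T H).map _), ← Functor.map_comp,
      biproduct.ι_π_ne _ hne, Functor.map_zero, zero_comp, comp_zero, comp_zero]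
  · intro h
    exact absurd (Finset.mem_univ i) h

lemma app_sum {M N : ModSite.Mod O} (f : M ⟶ N) {W : C} {ι : Type*} (t : Finset ι)
    (z : ι → ModSite.sect M W) :
    f.val.app (op W) (∑ i ∈ t, z i) = ∑ i ∈ t, f.val.app (op W) (z i) :=
  map_sum (f.val.app (op W)).hom z t

lemma T_map_sum_tm {M M' : ModSite.Mod O} (f : M ⟶ M') {W : C} {l : ℕ}
    (x : Fin l → ModSite.sect M W) (y : Fin l → ModSite.sect H W) :
    ((T H).map f).val.app (op W) (∑ k, tm (x k) (y k)) = ∑ k, tm (f.val.app (op W) (x k)) (y k) :=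
  (app_sum ((T H).map f) Finset.univ (fun k => tm (x k) (y k))).trans
    (Finset.sum_congr rfl fun k _ => T_map_tm H f (x k) (y k))

lemma lam_hom_sum_tm {W : C} {l : ℕ} (a : Fin l → O.obj.obj (op W)) (y : Fin l → ModSite.sect H W) :
    (lam H).hom.val.app (op W) (∑ k, tm (M := ModSite.unit O) (a k) (y k)) = ∑ k, a k • y k :=
  (app_sum (lam H).hom Finset.univ (fun k => tm (M := ModSite.unit O) (a k) (y k))).trans
    (Finset.sum_congr rfl fun k _ => lam_hom_tm H (a k) (y k))

/-- the section of an endomorphism of the unit, as an element of the ring -/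
noncomputable def secU (f : ModSite.unit O ⟶ ModSite.unit O) (W : C) : O.obj.obj (op W) := sec O f W

theorem main (hH : ModSite.IsFlat H) (hrel : ∀ j, ∑ i, A j i ≫ s i = 0) (V : C) :
    ∃ S ∈ J V, ∀ ⦃W : C⦄ (g : W ⟶ V), S g →
      ∃ (l : ℕ) (t : Fin l → ModSite.sect H W) (a : Fin n → Fin l → O.obj.obj (op W)),
        (∀ i, sec O (s i) W = ∑ k, a i k • t k) ∧
        (∀ j k, ∑ i, a i k * secU (A j i) W = 0) := by
  have : PreservesFiniteLimits (T H) := hH.1
  have hl := isLimitOfHasKernelOfPreservesLimit (T H) (β A)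
  obtain ⟨σ', hσ'⟩ : ∃ σ' : ModSite.unit O ⟶ (T H).obj (kernel (β A)),
      σ' ≫ (T H).map (kernel.ι (β A)) = σ H s :=
    ⟨(Fork.IsLimit.lift' hl (σ H s) (by rw [σ_β H A s hrel, comp_zero])).1,
      (Fork.IsLimit.lift' hl (σ H s) (by rw [σ_β H A s hrel, comp_zero])).2⟩
  obtain ⟨S, hS, h⟩ := locSurj_tm (M := kernel (β A)) (N := H) (sec O σ' V)
  refine ⟨S, hS, fun W g hg => ?_⟩
  obtain ⟨l, x, y, hxy⟩ := h g hg
  replace hxy : sec O σ' W = ∑ k, tm (x k) (y k) := (sec_map σ' g).symm.trans hxy
  refine ⟨l, y, fun i k => (biproduct.π (fun _ : Fin n => ModSite.unit O) i).val.app (op W)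
    ((kernel.ι (β A)).val.app (op W) (x k)), ?_, ?_⟩
  · intro i
    have h1 : sec O (s i) W = ((T H).map (biproduct.π (fun _ : Fin n => ModSite.unit O) i) ≫
        (lam H).hom).val.app (op W) (((T H).map (kernel.ι (β A))).val.app (op W) (sec O σ' W)) := by
      have h2 := σ_π H s i
      rw [← hσ', Category.assoc] at h2
      exact (congrArg (fun z => sec O z W) h2).symm
    refine h1.trans ?_
    have h3 : ((T H).map (kernel.ι (β A))).val.app (op W) (sec O σ' W) =
        ∑ k, tm ((kernel.ι (β A)).val.app (op W) (x k)) (y k) :=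
      (congrArg (fun z => ((T H).map (kernel.ι (β A))).val.app (op W) z) hxy).trans
        (T_map_sum_tm H (kernel.ι (β A)) x y)
    have h4 : ((T H).map (biproduct.π (fun _ : Fin n => ModSite.unit O) i)).val.app (op W)
        (∑ k, tm ((kernel.ι (β A)).val.app (op W) (x k)) (y k)) = _ :=
      T_map_sum_tm H (biproduct.π (fun _ : Fin n => ModSite.unit O) i) _ y
    have h5 := lam_hom_sum_tm H (fun k => (biproduct.π (fun _ : Fin n => ModSite.unit O) i).val.app (op W)
      ((kernel.ι (β A)).val.app (op W) (x k))) y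
    exact ((congrArg (fun z => ((T H).map (biproduct.π (fun _ : Fin n => ModSite.unit O) i) ≫
        (lam H).hom).val.app (op W) z) h3).trans
      (congrArg (fun z => (lam H).hom.val.app (op W) z) h4)).trans h5
  · intro j k
    have h0 : kernel.ι (β A) ≫ β A ≫ biproduct.π (fun _ : Fin m => ModSite.unit O) j = 0 := by
      rw [← Category.assoc, kernel.condition, zero_comp]
    rw [β_π] at h0
    have h1 : (kernel.ι (β A) ≫ ∑ i, biproduct.π (fun _ : Fin n => ModSite.unit O) i ≫ A j i).val.app
        (op W) (x k) = 0 := by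
      rw [h0]
      rfl
    have h2 : (kernel.ι (β A) ≫ ∑ i, biproduct.π (fun _ : Fin n => ModSite.unit O) i ≫ A j i).val.app
        (op W) (x k) = ∑ i, (biproduct.π (fun _ : Fin n => ModSite.unit O) i ≫ A j i).val.app (op W)
          ((kernel.ι (β A)).val.app (op W) (x k)) :=
      sum_val_app Finset.univ (fun i => biproduct.π (fun _ : Fin n => ModSite.unit O) i ≫ A j i)
        ((kernel.ι (β A)).val.app (op W) (x k))
    rw [h2] at h1
    refine Eq.trans (Finset.sum_congr rfl (fun i _ => ?_)) h1
    exact (unit_app_apply (A j i) W _).symm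

end Matrix

end Groth.Agent.Lib.ModSiteEqCrit
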