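/-
helper11: keystone ModSiteTensor, part E3.  Equational criterion of flatness (matrix form, flat => criterion) at an
object `Y` of a small ringed site, in terms of sections: `eqCrit_elt`.
-/
import Groth.Agent.Lib.ModSiteEqCrit
import Groth.Agent.Lib.ModSiteFreeOn

universe u
open CategoryTheory Opposite Limits MonoidalCategory

namespace Groth.Agent.Lib.ModSiteEqCrit

open Groth.Agent.Lib.ModSiteTensor Groth.Agent.Lib.MonLoc Groth.Agent.Lib.ModSiteFlat
  Groth.Agent.Lib.ModSiteProj Groth.Agent.Lib.ModSiteTensorW Groth.Agent.Lib.ModSiteUnitSec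
  Groth.Agent.Lib.ModSiteFreeOn

variable {C : Type u} [SmallCategory C] {J : GrothendieckTopology C} (O : Sheaf J CommRingCat.{u})

/-- maps out of the unit module on `C/Y` are sections over `Y` -/
noncomputable def unitEquiv (Y : C) (M' : ModSite.Mod (O.over Y)) :
    (ModSite.unit (O.over Y) ⟶ M') ≃ M'.val.obj (op (Over.mk (𝟙 Y))) :=
  (SheafOfModules.unitHomEquiv M').trans (sectionsEquivOfIsInitial _ (isInitialOp Y))

lemma unitEquiv_apply (Y : C) {M' : ModSite.Mod (O.over Y)} (x : ModSite.unit (O.over Y) ⟶ M') :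
    unitEquiv O Y M' x = sec (O.over Y) x (Over.mk (𝟙 Y)) := rfl

lemma sec_unitEquiv_symm (Y : C) {M' : ModSite.Mod (O.over Y)} (z : M'.val.obj (op (Over.mk (𝟙 Y)))) :
    sec (O.over Y) ((unitEquiv O Y M').symm z) (Over.mk (𝟙 Y)) = z :=
  (unitEquiv O Y M').apply_symm_apply z


lemma sec_add {M : ModSite.Mod O} (x y : ModSite.unit O ⟶ M) (V : C) :
    sec O (x + y) V = sec O x V + sec O y V := rfl

lemma sec_sum {M : ModSite.Mod O} {ι : Type*} (t : Finset ι) (x : ι → (ModSite.unit O ⟶ M)) (V : C) :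
    sec O (∑ i ∈ t, x i) V = ∑ i ∈ t, sec O (x i) V :=
  sum_val_app t x (1 : O.obj.obj (op V))

lemma eqCrit_slice (H : ModSite.Mod O) (hH : ModSite.IsFlat H) (Y : C) {n m : ℕ}
    (A : Fin m → Fin n → O.obj.obj (op Y)) (s : Fin n → ModSite.sect H Y)
    (hrel : ∀ j, ∑ i, A j i • s i = 0)
    (A' : Fin m → Fin n → (ModSite.unit (O.over Y) ⟶ ModSite.unit (O.over Y)))
    (s' : Fin n → (ModSite.unit (O.over Y) ⟶ (ModSite.restr O Y).obj H))
    (hA' : ∀ j i, sec (O.over Y) (A' j i) (Over.mk (𝟙 Y)) = A j i)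
    (hs' : ∀ i, sec (O.over Y) (s' i) (Over.mk (𝟙 Y)) = s i) :
    ∃ S ∈ J Y, ∀ ⦃W : C⦄ (g : W ⟶ Y), S g →
      ∃ (l : ℕ) (t : Fin l → ModSite.sect H W) (a : Fin n → Fin l → O.obj.obj (op W)),
        (∀ i, H.val.map g.op (s i) = ∑ k, a i k • t k) ∧
        (∀ j k, ∑ i, a i k * (O.obj.map g.op).hom (A j i) = 0) := by
  have hH' : ModSite.IsFlat ((ModSite.restr O Y).obj H) := isFlat_restr Y H hH
  have hrel' : ∀ j, ∑ i, A' j i ≫ s' i = 0 := by
    intro j
    apply (unitEquiv O Y ((ModSite.restr O Y).obj H)).injective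
    have e1 : unitEquiv O Y ((ModSite.restr O Y).obj H) (∑ i, A' j i ≫ s' i) =
        ∑ i, sec (O.over Y) (A' j i ≫ s' i) (Over.mk (𝟙 Y)) :=
      sec_sum (O.over Y) Finset.univ (fun i => A' j i ≫ s' i) (Over.mk (𝟙 Y))
    have e2 : unitEquiv O Y ((ModSite.restr O Y).obj H) 0 = 0 := rfl
    rw [e1, e2]
    refine Eq.trans (Finset.sum_congr rfl (fun i _ => ?_)) (hrel j)
    have h3 : sec (O.over Y) (A' j i ≫ s' i) (Over.mk (𝟙 Y)) =
        (s' i).val.app (op (Over.mk (𝟙 Y))) (sec (O.over Y) (A' j i) (Over.mk (𝟙 Y))) := rfl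
    rw [h3, hA' j i]
    have h4 := unit_app_apply (s' i) (Over.mk (𝟙 Y)) (A j i)
    rw [hs' i] at h4
    exact h4
  obtain ⟨S', hS', h⟩ := main ((ModSite.restr O Y).obj H) A' s' hH' hrel' (Over.mk (𝟙 Y))
  refine ⟨Sieve.overEquiv (Over.mk (𝟙 Y)) S', (J.mem_over_iff S').1 hS', fun W g hg => ?_⟩
  rw [Sieve.overEquiv_iff] at hg
  obtain ⟨l, t, a, h1, h2⟩ := h _ hg
  refine ⟨l, t, a, fun i => ?_, fun j k => ?_⟩
  · refine Eq.trans ?_ (h1 i)
    have h3 := sec_map (s' i) (Over.homMk g : Over.mk (g ≫ (Over.mk (𝟙 Y)).hom) ⟶ Over.mk (𝟙 Y))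
    rw [hs' i] at h3
    exact h3
  · refine Eq.trans ?_ (h2 j k)
    refine Finset.sum_congr rfl (fun i _ => ?_)
    congr 1
    have h3 := sec_map (A' j i) (Over.homMk g : Over.mk (g ≫ (Over.mk (𝟙 Y)).hom) ⟶ Over.mk (𝟙 Y))
    rw [hA' j i] at h3
    exact h3

/-- the equational criterion (matrix form) for a flat module, at an object `Y` -/
theorem eqCrit_elt (H : ModSite.Mod O) (hH : ModSite.IsFlat H) (Y : C) {n m : ℕ}
    (A : Fin m → Fin n → O.obj.obj (op Y)) (s : Fin n → ModSite.sect H Y)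
    (hrel : ∀ j, ∑ i, A j i • s i = 0) :
    ∃ S ∈ J Y, ∀ ⦃W : C⦄ (g : W ⟶ Y), S g →
      ∃ (l : ℕ) (t : Fin l → ModSite.sect H W) (a : Fin n → Fin l → O.obj.obj (op W)),
        (∀ i, H.val.map g.op (s i) = ∑ k, a i k • t k) ∧
        (∀ j k, ∑ i, a i k * (O.obj.map g.op).hom (A j i) = 0) :=
  eqCrit_slice O H hH Y A s hrel
    (fun j i => (unitEquiv O Y (ModSite.unit (O.over Y))).symm (A j i))
    (fun i => (unitEquiv O Y ((ModSite.restr O Y).obj H)).symm (s i))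
    (fun j i => sec_unitEquiv_symm O Y (M' := ModSite.unit (O.over Y)) (A j i))
    (fun i => sec_unitEquiv_symm O Y (M' := (ModSite.restr O Y).obj H) (s i))

end Groth.Agent.Lib.ModSiteEqCrit
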