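import Groth.Agent.Lib.ModSiteTensorW
import Groth.Agent.Lib.ModSiteFlat
import Groth.Agent.Lib.ModSiteEqCritSlice

/-!
# Converse of the equational criterion of flatness on a ringed site

If the sheaf of modules `F` satisfies the (single relation) local equational criterion, then `F` is flat.
-/

set_option autoImplicit false
universe u
open CategoryTheory CategoryTheory.Limits Opposite MonoidalCategory TensorProduct

namespace Groth.Agent.Lib.ModSiteEqCritConv

open Groth.Agent.Lib.ModSiteTensorW

variable {C : Type u} [SmallCategory C] (J : GrothendieckTopology C) {R : Cᵒᵖ ⥤ CommRingCat.{u}}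

/-- the single-relation local equational criterion for a presheaf of modules -/
def LocEC (Q : PM R) : Prop :=
  ∀ (U : C) (n : ℕ) (f : Fin n → R.obj (op U)) (s : Fin n → Q.obj (op U)),
    ∑ j, f j • s j = 0 →
    ∃ S ∈ J U, ∀ ⦃V : C⦄ (g : V ⟶ U), S g →
      ∃ (l : ℕ) (t : Fin l → Q.obj (op V)) (a : Fin n → Fin l → R.obj (op V)),
        (∀ j, res Q g (s j) = ∑ k, a j k • t k) ∧ (∀ k, ∑ j, a j k * resR g (f j) = 0)

lemma resR_mul {U V : C} (i : V ⟶ U) (r r' : R.obj (op U)) : resR i (r * r') = resR i r * resR i r' :=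
  map_mul (R.map i.op).hom r r'

lemma resR_sum {ι : Type*} (S : Finset ι) {U V : C} (i : V ⟶ U) (r : ι → R.obj (op U)) :
    resR i (∑ l ∈ S, r l) = ∑ l ∈ S, resR i (r l) := map_sum (R.map i.op).hom r S

lemma resR_zero {U V : C} (i : V ⟶ U) : resR i (0 : R.obj (op U)) = 0 := map_zero (R.map i.op).hom

/-- the sieve of arrows over which the relations `A` among the sections `s` become trivial -/
def goodSieve (Q : PM R) {U : C} {n m : ℕ} (A : Fin m → Fin n → R.obj (op U)) (s : Fin n → Q.obj (op U)) :
    Sieve U where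
  arrows V g := ∃ (l : ℕ) (t : Fin l → Q.obj (op V)) (a : Fin n → Fin l → R.obj (op V)),
    (∀ i, res Q g (s i) = ∑ k, a i k • t k) ∧ (∀ j k, ∑ i, a i k * resR g (A j i) = 0)
  downward_closed := by
    rintro V W g ⟨l, t, a, h1, h2⟩ h
    refine ⟨l, fun k => res Q h (t k), fun i k => resR h (a i k), fun i => ?_, fun j k => ?_⟩
    · rw [← res_res, h1 i, res_sum]
      exact Finset.sum_congr rfl fun k _ => res_smul _ _ _
    · have := congrArg (resR h) (h2 j k)
      rw [resR_zero, resR_sum] at this
      refine Eq.trans (Finset.sum_congr rfl fun i _ => ?_) this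
      rw [resR_mul, resR_resR]

/-- the matrix form of the local equational criterion, by induction on the number of relations -/
theorem goodSieve_mem (Q : PM R) (hQ : LocEC J Q) (m : ℕ) :
    ∀ (U : C) (n : ℕ) (A : Fin m → Fin n → R.obj (op U)) (s : Fin n → Q.obj (op U)),
      (∀ j, ∑ i, A j i • s i = 0) → goodSieve Q A s ∈ J U := by
  classical
  induction m with
  | zero =>
    intro U n A s _
    refine J.superset_covering ?_ (J.top_mem U)
    intro V g _
    refine ⟨n, fun k => res Q g (s k), fun i k => if i = k then 1 else 0, fun i => ?_, fun j => Fin.elim0 j⟩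
    rw [Finset.sum_eq_single i]
    · simp
    · intro k _ hk
      simp only [if_neg (Ne.symm hk), zero_smul]
    · intro h; exact absurd (Finset.mem_univ i) h
  | succ m ih =>
    intro U n A s hrel
    have h1 := ih U n (fun j => A j.castSucc) s (fun j => hrel j.castSucc)
    refine J.transitive h1 _ (fun V g hg => ?_)
    obtain ⟨l, t, a, ht, ha⟩ := hg
    -- the last relation, rewritten in terms of `t`
    let f : Fin l → R.obj (op V) := fun k => ∑ i, a i k * resR g (A (Fin.last m) i)
    have hft : ∑ k, f k • t k = 0 := by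
      have h2 := congrArg (res Q g) (hrel (Fin.last m))
      rw [res_zero, res_sum] at h2
      rw [← h2]
      have h3 : ∀ i, res Q g (A (Fin.last m) i • s i) =
          ∑ k, (a i k * resR g (A (Fin.last m) i)) • t k := by
        intro i
        rw [res_smul, ht i, Finset.smul_sum]
        refine Finset.sum_congr rfl fun k _ => ?_
        rw [smul_smul, mul_comm]
      rw [Finset.sum_congr rfl fun i _ => h3 i, Finset.sum_comm]
      refine Finset.sum_congr rfl fun k _ => ?_
      rw [Finset.sum_smul]
    obtain ⟨S, hS, hcrit⟩ := hQ V l f t hft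
    refine J.superset_covering ?_ hS
    intro W h hh
    obtain ⟨l', z, b, hz, hb⟩ := hcrit h hh
    refine ⟨l', z, fun i r => ∑ k, resR h (a i k) * b k r, fun i => ?_, fun j r => ?_⟩
    · rw [← res_res, ht i, res_sum]
      have h3 : ∀ k, res Q h (a i k • t k) = ∑ r, (resR h (a i k) * b k r) • z r := by
        intro k
        rw [res_smul, hz k, Finset.smul_sum]
        exact Finset.sum_congr rfl fun r _ => smul_smul _ _ _
      rw [Finset.sum_congr rfl fun k _ => h3 k, Finset.sum_comm]
      refine Finset.sum_congr rfl fun r _ => ?_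
      rw [Finset.sum_smul]
    · -- `∑ i, (∑ k, a i k|W * b k r) * A j i|W = ∑ k, b k r * (∑ i, a i k * A j i|V)|W`
      have h4 : ∑ i, (∑ k, resR h (a i k) * b k r) * resR (h ≫ g) (A j i) =
          ∑ k, b k r * resR h (∑ i, a i k * resR g (A j i)) := by
        simp only [Finset.sum_mul, Finset.mul_sum, resR_sum, resR_mul, resR_resR]
        rw [Finset.sum_comm]
        refine Finset.sum_congr rfl fun k _ => Finset.sum_congr rfl fun i _ => ?_
        ring
      rw [h4]
      refine Fin.lastCases ?_ (fun j' => ?_) j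
      · exact hb r
      · refine Finset.sum_eq_zero fun k _ => ?_
        rw [ha j' k, resR_zero, mul_zero]

/-- the matrix form with arbitrary finite index types -/
theorem exists_trivial_of_locEC (Q : PM R) (hQ : LocEC J Q) (U : C) {ι κ : Type*} [Fintype ι] [Fintype κ]
    (A : κ → ι → R.obj (op U)) (s : ι → Q.obj (op U)) (hrel : ∀ j, ∑ i, A j i • s i = 0) :
    ∃ S ∈ J U, ∀ ⦃V : C⦄ (g : V ⟶ U), S g →
      ∃ (l : ℕ) (t : Fin l → Q.obj (op V)) (a : ι → Fin l → R.obj (op V)),
        (∀ i, res Q g (s i) = ∑ k, a i k • t k) ∧ (∀ j k, ∑ i, a i k * resR g (A j i) = 0) := by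
  let en := Fintype.equivFin ι
  let em := Fintype.equivFin κ
  have hrel' : ∀ j : Fin (Fintype.card κ), ∑ i : Fin (Fintype.card ι),
      A (em.symm j) (en.symm i) • s (en.symm i) = 0 := by
    intro j
    rw [Equiv.sum_comp en.symm (fun i => A (em.symm j) i • s i)]
    exact hrel _
  have h := goodSieve_mem J Q hQ _ U _ (fun j i => A (em.symm j) (en.symm i)) (fun i => s (en.symm i)) hrel'
  refine ⟨_, h, fun V g hg => ?_⟩
  obtain ⟨l, t, a, h1, h2⟩ := hg
  refine ⟨l, t, fun i k => a (en i) k, fun i => ?_, fun j k => ?_⟩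
  · have h3 := h1 (en i)
    simp only [Equiv.symm_apply_apply] at h3
    exact h3
  · have h3 := h2 (em j) k
    simp only [Equiv.symm_apply_apply] at h3
    rw [← h3]
    exact (Equiv.sum_comp en.symm (fun i => a (en i) k * resR g (A j i))).symm.trans
      (Finset.sum_congr rfl fun i _ => by simp)

/-- if `f` is sectionwise injective and `Q` satisfies the local equational criterion, `f ▷ Q` is locally injective -/
theorem locInj_whiskerRight_of_locEC {P P' : PM R} (f : P ⟶ P') (Q : PM R)
    (hf : ∀ U : C, Function.Injective (f.app (op U))) (hQ : LocEC J Q) : LocInj J (f ▷ Q) := by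
  classical
  intro U t ht
  obtain ⟨S, hS⟩ := TensorProduct.exists_finset (R := ↑(R.obj (op U))) (M := ↑(P.obj (op U)))
    (N := ↑(Q.obj (op U))) t
  let p : S → P.obj (op U) := fun l => l.1.1
  let q : S → Q.obj (op U) := fun l => l.1.2
  have htsum : t = ∑ l : S, (p l ⊗ₜ q l : ↑((P ⊗ Q).obj (op U))) :=
    hS.trans (Finset.sum_coe_sort S (fun l => l.1 ⊗ₜ[↑(R.obj (op U))] l.2)).symm
  have h0 : (∑ l : S, (f.app (op U) (p l)) ⊗ₜ[↑(R.obj (op U))] q l :
      ↑(P'.obj (op U)) ⊗[↑(R.obj (op U))] ↑(Q.obj (op U))) = 0 :=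
    (whiskerRight_app_tsum f Q p q).symm.trans
      ((congrArg (fun s => (f ▷ Q).app (op U) s) htsum.symm).trans ht)
  -- swap the factors
  have h0' : (∑ l : S, q l ⊗ₜ[↑(R.obj (op U))] (f.app (op U) (p l)) :
      ↑(Q.obj (op U)) ⊗[↑(R.obj (op U))] ↑(P'.obj (op U))) = 0 := by
    have := congrArg (TensorProduct.comm (↑(R.obj (op U))) (↑(P'.obj (op U))) (↑(Q.obj (op U)))) h0
    rw [map_sum, map_zero] at this
    exact this
  obtain ⟨κ, _, h, k, a, y, h₁, h₂⟩ := exists_vanishesTrivially_of_sum_tmul_eq_zero
    (A := ↑(R.obj (op U))) q (fun l => f.app (op U) (p l)) h0'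
  -- the equational criterion for the relations `h₂`
  obtain ⟨T, hT, hcrit⟩ := exists_trivial_of_locEC J Q hQ U (fun j l => a l j) (Sum.elim q h) h₂
  refine ⟨T, hT, fun V g hg => ?_⟩
  obtain ⟨l', z, b, hz, hb⟩ := hcrit g hg
  let pV : S ⊕ κ → P.obj (op V) := Sum.elim (fun l => res P g (p l)) (fun _ => 0)
  let qV : S ⊕ κ → Q.obj (op V) := fun l => res Q g (Sum.elim q h l)
  have hvan : VanishesTrivially (↑(R.obj (op V))) pV qV := by
    refine ⟨l', b, z, hz, fun r => ?_⟩
    apply hf V
    rw [map_zero, map_sum]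
    have h3 : ∀ l, f.app (op V) (b l r • pV l) = ∑ j, (b l r * resR g (a l j)) • res P' g (y j) := by
      intro l
      have h4 : f.app (op V) (pV l) = res P' g (Sum.elim (fun l => f.app (op U) (p l)) (fun _ => 0) l) := by
        rcases l with l | l
        · exact app_res f g (p l)
        · change f.app (op V) 0 = res P' g 0
          rw [map_zero, res_zero]
      rw [map_smul, h4, h₁ l, res_sum, Finset.smul_sum]
      refine Finset.sum_congr rfl fun j _ => ?_
      rw [res_smul, smul_smul]
    rw [Finset.sum_congr rfl fun l _ => h3 l, Finset.sum_comm]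
    refine Finset.sum_eq_zero fun j _ => ?_
    rw [← Finset.sum_smul, hb j r, zero_smul]
  have hsum := sum_tmul_eq_zero_of_vanishesTrivially _ hvan
  rw [Fintype.sum_sum_type] at hsum
  have hκ : ∑ l : κ, pV (Sum.inr l) ⊗ₜ[↑(R.obj (op V))] qV (Sum.inr l) = 0 := by
    refine Finset.sum_eq_zero fun l _ => ?_
    change (0 : P.obj (op V)) ⊗ₜ _ = _
    rw [zero_tmul]
  rw [hκ, add_zero] at hsum
  rw [htsum]
  exact (res_tsum g p q).trans hsum

section Site

open ModSite

variable {J} {O : Sheaf J CommRingCat.{u}}

/-- sheafification of a locally injective map of presheaves of modules is a monomorphism -/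
theorem mono_sheafify_map_of_locInj {P P' : PM O.obj} (g : P ⟶ P') (h : LocInj J g) :
    Mono ((sheafify O).map g) := by
  have h1 : Presheaf.IsLocallyInjective J (ab g) := (isLocallyInjective_iff J g).2 h
  have h2 : Sheaf.IsLocallyInjective ((presheafToSheaf J AddCommGrpCat.{u}).map (ab g)) :=
    (Presheaf.isLocallyInjective_presheafToSheaf_map_iff _ _).2 h1
  have h3 : Mono ((presheafToSheaf J AddCommGrpCat.{u}).map (ab g)) :=
    Sheaf.mono_of_isLocallyInjective _
  have h4 : Mono ((SheafOfModules.toSheaf (ringSh O)).map ((sheafify O).map g)) := h3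
  exact (SheafOfModules.toSheaf (ringSh O)).mono_of_mono_map h4

/-- a monomorphism of sheaves of modules is injective on sections -/
theorem injective_app_of_mono {A B : Mod O} (i : A ⟶ B) [Mono i] (U : C) :
    Function.Injective (i.val.app (op U)) := by
  have : Mono ((SheafOfModules.evaluation (ringSh O) (op U)).map i) := inferInstance
  exact (ModuleCat.mono_iff_injective _).1 this

/-- a sheaf of modules satisfying the local equational criterion is flat -/
theorem isFlat_of_locEC (F : Mod O) (hF : LocEC J (R := O.obj) F.val) : IsFlat F := by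
  rw [Groth.Agent.Lib.ModSiteFlat.isFlat_iff_preservesMono_flip]
  constructor
  intro A B i hi
  have h0 : ((tensorBi O).flip.obj F).map i =
      (sheafify O).map ((show @Quiver.Hom (PM O.obj) _ A.val B.val from i.val) ▷ (F.val : PM O.obj)) := rfl
  rw [h0]
  exact mono_sheafify_map_of_locInj _
    (locInj_whiskerRight_of_locEC J _ _ (fun U => injective_app_of_mono i U) hF)

end Site

end Groth.Agent.Lib.ModSiteEqCritConv
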