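/-
helper11: keystone ModSiteTensor, part E4.  Finite free modules on a ringed site: coordinates, decomposition of sections.
-/
import Groth.Agent.Lib.ModSiteEqCritSlice
import Mathlib.Algebra.Category.ModuleCat.Sheaf.Quasicoherent

universe u
open CategoryTheory Opposite Limits MonoidalCategory

namespace Groth.Agent.Lib.ModSiteFinFree

open Groth.Agent.Lib.ModSiteUnitSec Groth.Agent.Lib.ModSiteEqCrit

variable {C : Type u} [SmallCategory C] {J : GrothendieckTopology C} (O : Sheaf J CommRingCat.{u})

/-- the free module on `I` -/
noncomputable abbrev fr (I : Type u) : ModSite.Mod O := SheafOfModules.free (R := ModSite.ringSh O) I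

/-- the coprojection -/
noncomputable abbrev inj {I : Type u} (i : I) : ModSite.unit O ⟶ fr O I := SheafOfModules.ιFree i

/-- maps out of a free module -/
noncomputable def freeDesc {I : Type u} {N : ModSite.Mod O} (x : I → (ModSite.unit O ⟶ N)) : fr O I ⟶ N :=
  Cofan.IsColimit.desc (SheafOfModules.isColimitFreeCofan I) x

@[reassoc (attr := simp)]
lemma inj_freeDesc {I : Type u} {N : ModSite.Mod O} (x : I → (ModSite.unit O ⟶ N)) (i : I) :
    inj O i ≫ freeDesc O x = x i :=
  Cofan.IsColimit.fac (SheafOfModules.isColimitFreeCofan I) x i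

lemma free_hom_ext {I : Type u} {N : ModSite.Mod O} {f g : fr O I ⟶ N}
    (h : ∀ i, inj O i ≫ f = inj O i ≫ g) : f = g :=
  Cofan.IsColimit.hom_ext (SheafOfModules.isColimitFreeCofan I) _ _ h

variable {I : Type u} [DecidableEq I]

/-- the coordinate projections -/
noncomputable def coord (i : I) : fr O I ⟶ ModSite.unit O :=
  freeDesc O (fun i' => if i' = i then 𝟙 _ else 0)

lemma inj_coord (i' i : I) : inj O i' ≫ coord O i = if i' = i then 𝟙 _ else 0 :=
  inj_freeDesc O _ i'

lemma sum_coord_inj [Fintype I] : ∑ i : I, coord O i ≫ inj O i = 𝟙 (fr O I) := by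
  apply free_hom_ext
  intro i'
  rw [Preadditive.comp_sum, Category.comp_id, Finset.sum_eq_single i']
  · rw [← Category.assoc, inj_coord, if_pos rfl, Category.id_comp]
  · intro i _ hne
    rw [← Category.assoc, inj_coord, if_neg (Ne.symm hne), zero_comp]
  · intro h
    exact absurd (Finset.mem_univ i') h

/-- every section of a finite free module is the combination of the basis sections with its coordinates -/
lemma free_decomp [Fintype I] {W : C} (y : ModSite.sect (fr O I) W) :
    y = ∑ i : I, ((coord O i).val.app (op W) y : O.obj.obj (op W)) • sec O (inj O i) W := by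
  have h := congrArg (fun k : fr O I ⟶ fr O I => k.val.app (op W) y) (sum_coord_inj O (I := I))
  have h2 : (∑ i : I, coord O i ≫ inj O i).val.app (op W) y =
      ∑ i : I, (coord O i ≫ inj O i).val.app (op W) y :=
    sum_val_app Finset.univ (fun i : I => coord O i ≫ inj O i) y
  have h3 : (𝟙 (fr O I) : fr O I ⟶ fr O I).val.app (op W) y = y := rfl
  refine (h3.symm.trans (h.symm.trans h2)).trans (Finset.sum_congr rfl (fun i _ => ?_))
  exact unit_app_apply (inj O i) W _

end Groth.Agent.Lib.ModSiteFinFree
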