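/-
helper11: keystone ModSiteTensor, part F5.  An acyclic bounded below chain complex of flat modules stays acyclic
after tensoring (S6149).
-/
import Groth.Agent.Lib.AbTensorFlatSeq
import Groth.Agent.Lib.ModSiteFlatSES

universe u
open CategoryTheory Opposite Limits

namespace Groth.Agent.Lib.ModSiteFlat

open Groth.Agent.Lib.ModSiteTensor Groth.Agent.Lib.AbTensorFlat

variable {C : Type u} [SmallCategory C] {J : GrothendieckTopology C} {O : Sheaf J CommRingCat.{u}}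

lemma epi_of_isZero_tgt {A : Type*} [Category A] {X Y : A} (f : X ⟶ Y) (h : IsZero Y) : Epi f :=
  ⟨fun _ _ _ => h.eq_of_src _ _⟩

theorem acyclic_tensor (M : ChainComplex (ModSite.Mod O) ℤ) (F : ModSite.Mod O)
    (hb : ∃ i₀ : ℤ, ∀ i, i < i₀ → IsZero (M.X i)) (hM : ∀ i, ModSite.IsFlat (M.X i))
    (hac : M.Acyclic) :
    ((((ModSite.tensorBi O).flip.obj F).mapHomologicalComplex (ComplexShape.down ℤ)).obj M).Acyclic := by
  obtain ⟨i₀, hi₀⟩ := hb
  intro j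
  by_cases hj : j < i₀
  · apply HomologicalComplex.ExactAt.of_isZero
    exact ((ModSite.tensorBi O).flip.obj F).map_isZero (hi₀ j hj)
  · -- the sequence `X n = M_{i₀ - 1 + n}`
    let X : ℕ → ModSite.Mod O := fun n => M.X (i₀ - 1 + (n : ℤ))
    let d : ∀ n, X (n + 1) ⟶ X n := fun n => M.d (i₀ - 1 + ((n + 1 : ℕ) : ℤ)) (i₀ - 1 + (n : ℤ))
    have hd : ∀ n, d (n + 1) ≫ d n = 0 := fun n => M.d_comp_d _ _ _
    have hex : ∀ n, (ShortComplex.mk (d (n + 1)) (d n) (hd n)).Exact := by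
      intro n
      exact (M.exactAt_iff' (i₀ - 1 + ((n + 1 + 1 : ℕ) : ℤ)) (i₀ - 1 + ((n + 1 : ℕ) : ℤ))
        (i₀ - 1 + (n : ℤ)) (by simp; omega) (by simp; omega)).1 (hac _)
    have h0 : Epi (d 0) := epi_of_isZero_tgt _ (hi₀ _ (by simp))
    have hX : ∀ n, ((ModSite.tensorBi O).obj (X n)).PreservesMonomorphisms := fun n =>
      (isFlat_iff_preservesMono _).1 (hM _)
    obtain ⟨n, rfl⟩ : ∃ n : ℕ, j = i₀ - 1 + ((n + 1 : ℕ) : ℤ) :=
      ⟨(j - i₀).toNat, by have := Int.toNat_of_nonneg (show 0 ≤ j - i₀ by omega); push_cast; omega⟩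
    rw [HomologicalComplex.exactAt_iff' _ (i₀ - 1 + ((n + 1 + 1 : ℕ) : ℤ)) (i₀ - 1 + ((n + 1 : ℕ) : ℤ))
        (i₀ - 1 + (n : ℤ)) (by simp; omega) (by simp; omega)]
    exact exact_map_seq (enoughFlats O) X d hd hex h0 hX F n _

end Groth.Agent.Lib.ModSiteFlat
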