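import Groth.Agent.Lib.ModSiteKFlatRes66
import Groth.Agent.Lib.ModSiteEnoughFlat
import Mathlib.CategoryTheory.Limits.Shapes.CombinedProducts

/-!
# Towers of resolutions by direct sums of modules `j_{U!} O_U` on a ringed site
(re-instantiation of helper66's tower construction with the class of direct sums of `freeOn`, keeping track of the
termwise splittings)
-/

set_option autoImplicit false
universe u
open CategoryTheory Limits HomologicalComplex ZeroObject

namespace Groth.Agent.Lib.ModSiteFreeResTower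

open Groth.Agent.Lib.ModSiteKFlatBdd66 Groth.Agent.Lib.TruncLEColim66 Groth.Agent.Lib.ModSiteFlat
  Groth.Agent.Lib.RelResolution66

variable {C : Type u} [SmallCategory C] {J : GrothendieckTopology C} {O : Sheaf J CommRingCat.{u}}

/-- direct sums of modules of the form `j_{U!} O_U` -/
def IsFreeSum (M : ModSite.Mod O) : Prop :=
  ∃ (ι : Type u) (U : ι → C), Nonempty (M ≅ ∐ fun j => ModSite.freeOn O (U j))

lemma isFreeSum_of_iso {M N : ModSite.Mod O} (e : M ≅ N) (h : IsFreeSum M) : IsFreeSum N := by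
  obtain ⟨ι, U, ⟨e'⟩⟩ := h
  exact ⟨ι, U, ⟨e.symm ≪≫ e'⟩⟩

lemma isFreeSum_zero : ∃ Z : ModSite.Mod O, IsZero Z ∧ IsFreeSum Z := by
  refine ⟨∐ fun j : PEmpty.{u+1} => ModSite.freeOn O (PEmpty.elim j), ?_, PEmpty.{u+1}, _, ⟨Iso.refl _⟩⟩
  rw [IsZero.iff_id_eq_zero]
  apply Sigma.hom_ext
  intro j
  exact PEmpty.elim j

lemma isFreeSum_biprod {M N : ModSite.Mod O} (hM : IsFreeSum M) (hN : IsFreeSum N) : IsFreeSum (M ⊞ N) := by
  obtain ⟨ι, U, ⟨e⟩⟩ := hM
  obtain ⟨κ, V, ⟨e'⟩⟩ := hN
  refine ⟨ι ⊕ κ, Sum.elim U V, ⟨?_⟩⟩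
  let c₁ : Cofan (fun j => ModSite.freeOn O (U j)) := Cofan.mk M (fun j => Sigma.ι (fun j => ModSite.freeOn O (U j)) j ≫ e.inv)
  let c₂ : Cofan (fun k => ModSite.freeOn O (V k)) := Cofan.mk N (fun k => Sigma.ι (fun k => ModSite.freeOn O (V k)) k ≫ e'.inv)
  have h₁ : IsColimit c₁ := by
    refine IsColimit.ofIsoColimit (colimit.isColimit (Discrete.functor fun j => ModSite.freeOn O (U j)))
      (Cocones.ext e.symm (fun j => ?_))
    rfl
  have h₂ : IsColimit c₂ := by
    refine IsColimit.ofIsoColimit (colimit.isColimit (Discrete.functor fun k => ModSite.freeOn O (V k)))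
      (Cocones.ext e'.symm (fun j => ?_))
    rfl
  let bc : BinaryCofan c₁.pt c₂.pt := BinaryCofan.mk (biprod.inl : M ⟶ M ⊞ N) biprod.inr
  have h : IsColimit bc := (BinaryBiproduct.isBilimit M N).isColimit
  have hc := Cofan.combPairIsColimit h₁ h₂ h
  let e₁ : (M ⊞ N) ≅ ∐ (Sum.elim (fun j => ModSite.freeOn O (U j)) (fun k => ModSite.freeOn O (V k))) :=
    hc.coconePointUniqueUpToIso (colimit.isColimit _)
  refine e₁ ≪≫ Sigma.mapIso (fun s => ?_)
  rcases s with j | k
  · exact Iso.refl _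
  · exact Iso.refl _

variable (O) in
lemma exists_epi_isFreeSum (X : ModSite.Mod O) :
    ∃ (Y : ModSite.Mod O) (π : Y ⟶ X), IsFreeSum Y ∧ Epi π :=
  ⟨_, freeCover O X, ⟨_, _, ⟨Iso.refl _⟩⟩, inferInstance⟩

/-- bounded above resolutions by direct sums of `freeOn` -/
theorem exists_free_resolution (W : Cx O) (b : ℤ) [W.IsStrictlyLE b] :
    ∃ (M : Cx O) (r : M ⟶ W), M.IsStrictlyLE b ∧ (∀ n, IsFreeSum (M.X n)) ∧
      (∀ n, Epi (r.f n)) ∧ QuasiIso r :=
  Groth.Agent.Lib.ClassResolution.exists_left_resolution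
    (P := fun M : ModSite.Mod O => IsFreeSum M) isFreeSum_zero (exists_epi_isFreeSum O) W b

section Rel

open CochainComplex

variable {A : Type*} [Category A] [Abelian A] {K L : CochainComplex A ℤ} (β : K ⟶ L)
  {M : CochainComplex A ℤ} (r : M ⟶ relW β)

/-- termwise retraction of `cylι` -/
noncomputable def cylρ (K L : CochainComplex A ℤ) (i : ℤ) : (cylT K L).X i ⟶ K.X i :=
  (biprod.snd : cylT K L ⟶ mappingCone (𝟙 K)).f i ≫ (mappingCone.snd (𝟙 K)).v i i (add_zero i)

lemma cylι_ρ (i : ℤ) : (cylι β).f i ≫ cylρ K L i = 𝟙 _ := by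
  have h : cylι β ≫ (biprod.snd : cylT K L ⟶ mappingCone (𝟙 K)) = mappingCone.inr (𝟙 K) := by
    simp [cylι]
  have h' := congrArg (fun φ => φ.f i) h
  simp only [HomologicalComplex.comp_f] at h'
  unfold cylρ
  rw [← Category.assoc, h']
  exact mappingCone.inr_f_snd_v (𝟙 K) i

/-- termwise retraction of `relι` -/
noncomputable def relρ (i : ℤ) : (relN β r).X i ⟶ K.X i :=
  (pullback.fst (relSC β).g r).f i ≫ cylρ K L i

lemma relι_ρ (i : ℤ) : (relι β r).f i ≫ relρ β r i = 𝟙 _ := by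
  have h : relι β r ≫ pullback.fst (relSC β).g r = cylι β := pbι_fst _ _
  have h' := congrArg (fun φ => φ.f i) h
  simp only [HomologicalComplex.comp_f] at h'
  unfold relρ
  rw [← Category.assoc, h']
  exact cylι_ρ β i

/-- the termwise short exact sequence `K^i ⟶ N^i ⟶ M^i` -/
lemma rel_shortExact_eval (i : ℤ) :
    (ShortComplex.mk ((relι β r).f i) ((relp β r).f i) (by
      rw [← HomologicalComplex.comp_f, relι_p]; rfl)).ShortExact :=
  (rel_shortExact β r).map_of_exact (HomologicalComplex.eval A (ComplexShape.up ℤ) i)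

/-- the terms of the relative resolution -/
noncomputable def relNIso (i : ℤ) : (relN β r).X i ≅ K.X i ⊞ M.X i :=
  (ShortComplex.Splitting.ofExactOfRetraction _ (rel_shortExact_eval β r i).exact (relρ β r i) (relι_ρ β r i)
    (rel_shortExact_eval β r i).epi_g).isoBinaryBiproduct

/-- the termwise cokernel of `relι` -/
noncomputable def relCokerIso (i : ℤ) : cokernel ((relι β r).f i) ≅ M.X i :=
  haveI := (rel_shortExact_eval β r i).epi_g
  (cokernelIsCokernel _).coconePointUniqueUpToIso (rel_shortExact_eval β r i).exact.gIsCokernel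

end Rel

section Shifted

variable {A : Type*} [Category A] [Abelian A] (K : CochainComplex A ℤ)

lemma le_succ_cast (n : ℕ) : ((n : ℕ) : ℤ) + 1 ≤ ((n + 1 : ℕ) : ℤ) + 1 := by push_cast; omega

/-- the sequence of canonical truncations `τ≤1 K ⟶ τ≤2 K ⟶ ⋯` -/
noncomputable def trSeq' : ℕ ⥤ CochainComplex A ℤ :=
  Functor.ofSequence (X := fun n : ℕ => K.truncLE ((n : ℤ) + 1)) (fun n => tr K (le_succ_cast n))

/-- the cocone with point `K` -/
noncomputable def trCocone' : Cocone (trSeq' K) where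
  pt := K
  ι := NatTrans.ofSequence (fun n => K.ιTruncLE ((n : ℤ) + 1)) (fun n => by
    dsimp only [trSeq']
    rw [Functor.ofSequence_map_homOfLE_succ]
    exact (tr_ι K _).trans (Category.comp_id _).symm)

lemma trCocone'_ι_app (n : ℕ) : (trCocone' K).ι.app n = K.ιTruncLE ((n : ℤ) + 1) := rfl

lemma trSeq'_obj (n : ℕ) : (trSeq' K).obj n = K.truncLE ((n : ℤ) + 1) := rfl

lemma trSeq'_map_succ (n : ℕ) : (trSeq' K).map (homOfLE (Nat.le_succ n)) = tr K (le_succ_cast n) :=
  Functor.ofSequence_map_homOfLE_succ _ n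

lemma isIso_trSeq'_map_f {i j : ℕ} (φ : i ⟶ j) (q : ℤ) (h : q < (i : ℤ) + 1) :
    IsIso (((trSeq' K).map φ).f q) := by
  have h1 : (trSeq' K).map φ ≫ (trCocone' K).ι.app j = (trCocone' K).ι.app i :=
    (trCocone' K).w φ
  have h2 : ((trSeq' K).map φ).f q ≫ (K.ιTruncLE ((j : ℤ) + 1)).f q = (K.ιTruncLE ((i : ℤ) + 1)).f q := by
    rw [← HomologicalComplex.comp_f]
    exact congrArg (fun ψ => ψ.f q) h1
  have hij : i ≤ j := leOfHom φ
  have hj : q < (j : ℤ) + 1 := by
    have : (i : ℤ) ≤ j := by exact_mod_cast hij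
    omega
  haveI e1 : IsIso ((K.ιTruncLE ((j : ℤ) + 1)).f q) := isIso_ιTruncLE_f_int K _ q hj
  haveI e2 : IsIso ((K.ιTruncLE ((i : ℤ) + 1)).f q) := isIso_ιTruncLE_f_int K _ q h
  exact @IsIso.of_isIso_fac_right _ _ _ _ _ _ _ _ e1 e2 h2

/-- `K` is the colimit of its canonical truncations -/
noncomputable def isColimitTrCocone' : IsColimit (trCocone' K) := by
  refine HomologicalComplex.isColimitOfEval _ _ (fun q => ?_)
  have hi₀ : q < ((q.toNat : ℕ) : ℤ) + 1 := by
    have := Int.self_le_toNat q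
    omega
  have hconst : (trSeq' K ⋙ HomologicalComplex.eval A (ComplexShape.up ℤ) q).IsEventuallyConstantFrom
      q.toNat := by
    intro j φ
    exact isIso_trSeq'_map_f K φ q hi₀
  have : IsIso (((HomologicalComplex.eval A (ComplexShape.up ℤ) q).mapCocone (trCocone' K)).ι.app
      q.toNat) := isIso_ιTruncLE_f_int K _ q hi₀
  exact hconst.isColimitOfIsIso _

end Shifted

section Tower

variable (G : Cx O)

/-- a bounded above resolution of the `(n+1)`-st canonical truncation by direct sums of `freeOn` -/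
structure Stage (n : ℕ) where
  /-- the resolving complex -/
  K : Cx O
  /-- the resolution map -/
  π : K ⟶ G.truncLE ((n : ℤ) + 1)
  le : K.IsStrictlyLE ((n : ℤ) + 1)
  free : ∀ i, IsFreeSum (K.X i)
  qis : QuasiIso π
  epi : ∀ i, Epi (π.f i)

lemma exists_stage_zero : Nonempty (Stage G 0) := by
  obtain ⟨M, r, hM, hMfree, hrepi, hrq⟩ :=
    exists_free_resolution (G.truncLE (((0 : ℕ) : ℤ) + 1)) (((0 : ℕ) : ℤ) + 1)
  exact ⟨⟨M, r, hM, hMfree, hrq, hrepi⟩⟩

lemma exists_stage_succ {n : ℕ} (s : Stage G n) :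
    ∃ (s' : Stage G (n + 1)) (ι : s.K ⟶ s'.K),
      ι ≫ s'.π = s.π ≫ tr G (le_succ_cast n) ∧
      (∀ i, ∃ ρ : s'.K.X i ⟶ s.K.X i, ι.f i ≫ ρ = 𝟙 _) ∧
      (∀ i, IsFreeSum (cokernel (ι.f i))) := by
  have := s.le
  have h1 : s.K.IsStrictlyLE (((n + 1 : ℕ) : ℤ) + 1) :=
    s.K.isStrictlyLE_of_le ((n : ℤ) + 1) _ (le_succ_cast n)
  let β : s.K ⟶ G.truncLE (((n + 1 : ℕ) : ℤ) + 1) := s.π ≫ tr G (le_succ_cast n)
  obtain ⟨M, r, hM, hMfree, hrepi, hrq⟩ := exists_free_resolution (relW β) (((n + 1 : ℕ) : ℤ) + 1)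
  refine ⟨⟨relN β r, relπ β r, isStrictlyLE_relN β r _, fun i => ?_, quasiIso_relπ β r hrq,
    epi_relπ_f β r hrepi⟩, relι β r, relι_π β r, fun i => ⟨relρ β r i, relι_ρ β r i⟩, fun i => ?_⟩
  · exact isFreeSum_of_iso (relNIso β r i).symm (isFreeSum_biprod (s.free i) (hMfree i))
  · exact isFreeSum_of_iso (relCokerIso β r i).symm (hMfree i)

/-- the next stage -/
noncomputable def nextStage {n : ℕ} (s : Stage G n) : Stage G (n + 1) :=
  (exists_stage_succ G s).choose

/-- the transition map to the next stage -/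
noncomputable def nextι {n : ℕ} (s : Stage G n) : s.K ⟶ (nextStage G s).K :=
  (exists_stage_succ G s).choose_spec.choose

lemma nextι_π {n : ℕ} (s : Stage G n) :
    nextι G s ≫ (nextStage G s).π = s.π ≫ tr G (le_succ_cast n) :=
  (exists_stage_succ G s).choose_spec.choose_spec.1

lemma nextι_retr {n : ℕ} (s : Stage G n) (i : ℤ) :
    ∃ ρ : (nextStage G s).K.X i ⟶ s.K.X i, (nextι G s).f i ≫ ρ = 𝟙 _ :=
  (exists_stage_succ G s).choose_spec.choose_spec.2.1 i

lemma nextι_coker {n : ℕ} (s : Stage G n) (i : ℤ) : IsFreeSum (cokernel ((nextι G s).f i)) :=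
  (exists_stage_succ G s).choose_spec.choose_spec.2.2 i

/-- the tower of stages -/
noncomputable def stage : ∀ n : ℕ, Stage G n
  | 0 => (exists_stage_zero G).some
  | n + 1 => nextStage G (stage n)

/-- the tower of resolutions -/
noncomputable def towerSeq : ℕ ⥤ Cx O :=
  Functor.ofSequence (X := fun n => (stage G n).K) (fun n => nextι G (stage G n))

lemma towerSeq_obj (n : ℕ) : (towerSeq G).obj n = (stage G n).K := rfl

lemma towerSeq_map_succ (n : ℕ) :
    (towerSeq G).map (homOfLE (Nat.le_succ n)) = nextι G (stage G n) :=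
  Functor.ofSequence_map_homOfLE_succ _ n

/-- the maps to the tower of truncations -/
noncomputable def towerπ : towerSeq G ⟶ trSeq' G :=
  NatTrans.ofSequence (fun n => (stage G n).π) (fun n => by
    dsimp only [towerSeq, trSeq']
    rw [Functor.ofSequence_map_homOfLE_succ, Functor.ofSequence_map_homOfLE_succ]
    exact nextι_π G (stage G n))

lemma towerπ_app (n : ℕ) : (towerπ G).app n = (stage G n).π := rfl

/-- the colimit of the tower -/
noncomputable def res : Cx O := colimit (towerSeq G)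

/-- the resolution map -/
noncomputable def resπ : res G ⟶ G :=
  (colimit.isColimit (towerSeq G)).map (trCocone' G) (towerπ G)

lemma ι_resπ (n : ℕ) :
    colimit.ι (towerSeq G) n ≫ resπ G = (stage G n).π ≫ G.ιTruncLE ((n : ℤ) + 1) :=
  (colimit.isColimit (towerSeq G)).ι_map (trCocone' G) (towerπ G) n

open Groth.Agent.Lib.ModSiteKFlatRes66 in
theorem quasiIso_resπ : QuasiIso (resπ G) := by
  rw [quasiIso_iff]
  intro i
  rw [quasiIsoAt_iff_isIso_homologyMap]
  have := hasExactColimitsOfShape_nat O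
  have hc₁ := isColimitOfPreserves
    (HomologicalComplex.homologyFunctor (ModSite.Mod O) (ComplexShape.up ℤ) i)
    (colimit.isColimit (towerSeq G))
  have hc₂ := isColimitOfPreserves
    (HomologicalComplex.homologyFunctor (ModSite.Mod O) (ComplexShape.up ℤ) i)
    (isColimitTrCocone' G)
  have h1 := map_colimMap (towerπ G) (colimit.isColimit (towerSeq G)) (c₂ := trCocone' G)
    (HomologicalComplex.homologyFunctor (ModSite.Mod O) (ComplexShape.up ℤ) i) hc₁
  have h2 := isIso_colimMap_of_isIso (Functor.whiskerRight (towerπ G)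
    (HomologicalComplex.homologyFunctor (ModSite.Mod O) (ComplexShape.up ℤ) i)) hc₁ hc₂
    (fun n => by
      have h3 : QuasiIsoAt (stage G n).π i := (stage G n).qis.quasiIsoAt i
      rw [quasiIsoAt_iff_isIso_homologyMap] at h3
      exact h3)
  rw [← h1] at h2
  exact h2

end Tower

end Groth.Agent.Lib.ModSiteFreeResTower
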