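/-
helper11: keystone ModSiteTensor, part I.  Invertible modules on ringed sites: tensor products and duals (S6856).
-/
import Groth.Agent.Lib.ModSiteFlatTensor

universe u
open CategoryTheory Opposite Limits MonoidalCategory

namespace Groth.Agent.Lib.ModSiteInvertible

open Groth.Agent.Lib.ModSiteTensor Groth.Agent.Lib.MonLoc Groth.Agent.Lib.ModSiteFlat

variable {C : Type u} [SmallCategory C] {J : GrothendieckTopology C} (O : Sheaf J CommRingCat.{u})

/-- `(M ⊗ N) ⊗ - ≅ M ⊗ (N ⊗ -)` as functors -/
noncomputable def assocNatIso (M N : ModSite.Mod O) :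
    (ModSite.tensorBi O).obj (((ModSite.tensorBi O).obj M).obj N) ≅
      (ModSite.tensorBi O).obj N ⋙ (ModSite.tensorBi O).obj M :=
  NatIso.ofComponents (fun K => (locData O).associator M N K) (by
    intro K K' f
    have h := (locData O).associator_hom_naturality_right M N f
    have e1 : ((ModSite.tensorBi O).obj (((ModSite.tensorBi O).obj M).obj N)).map f =
        (locData O).tensMap (𝟙 ((locData O).tens M N)) f := tensorBi_obj_map_eq_tensMap _ f
    have e2 : ((ModSite.tensorBi O).obj N ⋙ (ModSite.tensorBi O).obj M).map f =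
        (locData O).tensMap (𝟙 M) ((locData O).tensMap (𝟙 N) f) := by
      rw [Functor.comp_map, tensorBi_obj_map_eq_tensMap, tensorBi_obj_map_eq_tensMap]
      rfl
    rw [e1, e2]
    exact h)

/-- the tensor functor respects isomorphisms in the first variable -/
noncomputable def tensorObjIso {M M' : ModSite.Mod O} (e : M ≅ M') :
    (ModSite.tensorBi O).obj M ≅ (ModSite.tensorBi O).obj M' :=
  (ModSite.tensorBi O).mapIso e

variable {O}

/-- the tensor product of invertible modules is invertible -/
theorem isEquivalence_tensor (L N : ModSite.Mod O)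
    (hL : ((ModSite.tensorBi O).obj L).IsEquivalence) (hN : ((ModSite.tensorBi O).obj N).IsEquivalence) :
    ((ModSite.tensorBi O).obj (((ModSite.tensorBi O).obj L).obj N)).IsEquivalence := by
  have : ((ModSite.tensorBi O).obj N ⋙ (ModSite.tensorBi O).obj L).IsEquivalence := inferInstance
  exact Functor.isEquivalence_of_iso (assocNatIso O L N).symm

/-- the dual of an invertible module is invertible, and evaluation is an isomorphism -/
theorem dual_invertible (L : ModSite.Mod O) (hL : ((ModSite.tensorBi O).obj L).IsEquivalence)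
    [ModSite.HasSheafHom L] :
    ((ModSite.tensorBi O).obj ((ModSite.sheafHom L).obj (ModSite.unit O))).IsEquivalence ∧
      IsIso ((ModSite.sheafHomAdj L).counit.app (ModSite.unit O)) := by
  -- `- ⊗ L` is an equivalence
  have hflip : ((ModSite.tensorBi O).flip.obj L).IsEquivalence :=
    Functor.isEquivalence_of_iso (swapIso O L)
  have hcounit : IsIso (ModSite.sheafHomAdj L).counit := inferInstance
  have h3 : IsIso ((ModSite.sheafHomAdj L).counit.app (ModSite.unit O)) := inferInstance
  refine ⟨?_, h3⟩
  -- `M ⊗ L ≅ O` where `M = Hom(L, O)`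
  let M := (ModSite.sheafHom L).obj (ModSite.unit O)
  let e : ((ModSite.tensorBi O).obj M).obj L ≅ ModSite.unit O :=
    asIso ((ModSite.sheafHomAdj L).counit.app (ModSite.unit O))
  -- `(L ⊗ -) ⋙ (M ⊗ -) ≅ (M ⊗ L) ⊗ - ≅ O ⊗ - ≅ id`
  let i : (ModSite.tensorBi O).obj L ⋙ (ModSite.tensorBi O).obj M ≅ 𝟭 _ :=
    (assocNatIso O M L).symm ≪≫ tensorObjIso O e ≪≫ unitTensIso O
  -- hence `M ⊗ -` is an inverse of the equivalence `L ⊗ -`
  let E := ((ModSite.tensorBi O).obj L).asEquivalence
  have i2 : (ModSite.tensorBi O).obj M ≅ E.inverse :=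
    (Functor.leftUnitor _).symm ≪≫ Functor.isoWhiskerRight E.counitIso.symm _ ≪≫
      Functor.associator _ _ _ ≪≫ Functor.isoWhiskerLeft E.inverse i ≪≫ Functor.rightUnitor _
  exact Functor.isEquivalence_of_iso i2.symm

end Groth.Agent.Lib.ModSiteInvertible
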