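/-
helper11: keystone ModSiteTensor, part E5.  A map from a (globally) finitely presented module to a flat module factors,
locally on the site, through finite free modules.
-/
import Groth.Agent.Lib.ModSiteFinFree
import Groth.Agent.Lib.ModSiteExtShRestr

universe u
open CategoryTheory Opposite Limits MonoidalCategory

namespace Groth.Agent.Lib.ModSiteLocFactor

open Groth.Agent.Lib.ModSiteUnitSec Groth.Agent.Lib.ModSiteEqCrit Groth.Agent.Lib.ModSiteFinFree

variable {C : Type u} [SmallCategory C] {J : GrothendieckTopology C} (O : Sheaf J CommRingCat.{u})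

/-- the matrix equational criterion with arbitrary finite index types, output indexed by `ULift (Fin l)` -/
theorem eqCrit_elt' (H : ModSite.Mod O) (hH : ModSite.IsFlat H) (Y : C) {In Im : Type*} [Fintype In] [Fintype Im]
    (A : Im → In → O.obj.obj (op Y)) (s : In → ModSite.sect H Y)
    (hrel : ∀ j, ∑ i, A j i • s i = 0) :
    ∃ S ∈ J Y, ∀ ⦃W : C⦄ (g : W ⟶ Y), S g →
      ∃ (l : ℕ) (t : ULift.{u} (Fin l) → ModSite.sect H W) (a : In → ULift.{u} (Fin l) → O.obj.obj (op W)),
        (∀ i, H.val.map g.op (s i) = ∑ k, a i k • t k) ∧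
        (∀ j k, ∑ i, a i k * (O.obj.map g.op).hom (A j i) = 0) := by
  let en := Fintype.equivFin In
  let em := Fintype.equivFin Im
  have hrel' : ∀ j : Fin (Fintype.card Im), ∑ i : Fin (Fintype.card In),
      A (em.symm j) (en.symm i) • s (en.symm i) = 0 := by
    intro j
    rw [Equiv.sum_comp en.symm (fun i => A (em.symm j) i • s i)]
    exact hrel _
  obtain ⟨S, hS, h⟩ := eqCrit_elt O H hH Y (fun j i => A (em.symm j) (en.symm i))
    (fun i => s (en.symm i)) hrel'
  refine ⟨S, hS, fun W g hg => ?_⟩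
  obtain ⟨l, t, a, h1, h2⟩ := h g hg
  refine ⟨l, fun k => t k.down, fun i k => a (en i) k.down, fun i => ?_, fun j k => ?_⟩
  · have h3 := h1 (en i)
    simp only [Equiv.symm_apply_apply] at h3
    rw [h3]
    exact (Equiv.sum_comp Equiv.ulift (fun k => a (en i) k • t k)).symm
  · have h3 := h2 (em j) k.down
    simp only [Equiv.symm_apply_apply] at h3
    rw [← h3]
    rw [← Equiv.sum_comp en (fun i => a i k.down * (O.obj.map g.op).hom (A j (en.symm i)))]
    exact Finset.sum_congr rfl (fun i _ => by simp only [Equiv.symm_apply_apply])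


/-- a section of the structure sheaf over `W` as a section over the terminal object of `C/W` -/
def toT (W : C) (a : O.obj.obj (op W)) : (O.over W).obj.obj (op (Over.mk (𝟙 W))) := a

/-- restriction of a map out of the unit -/
noncomputable def restrU (W : C) {M : ModSite.Mod O} (x : ModSite.unit O ⟶ M) :
    ModSite.unit (O.over W) ⟶ (ModSite.restr O W).obj M := (ModSite.restr O W).map x

lemma sec_restrU (W : C) {M : ModSite.Mod O} (x : ModSite.unit O ⟶ M) (Z : Over W) :
    sec (O.over W) (restrU O W x) Z = sec O x Z.left := rfl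

lemma restrU_comp (W : C) {M N : ModSite.Mod O} (x : ModSite.unit O ⟶ M) (f : M ⟶ N) :
    restrU O W (x ≫ f) = restrU O W x ≫ (ModSite.restr O W).map f :=
  (ModSite.restr O W).map_comp x f


section SliceLinear

variable {O}

lemma app_T_smul (W : C) {N : ModSite.Mod O} {N' : ModSite.Mod (O.over W)}
    (f : (ModSite.restr O W).obj N ⟶ N') (c : O.obj.obj (op W)) (y : ModSite.sect N W) :
    f.val.app (op (Over.mk (𝟙 W))) (c • y : ModSite.sect N W) =
      toT O W c • f.val.app (op (Over.mk (𝟙 W))) y :=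
  (f.val.app (op (Over.mk (𝟙 W)))).hom.map_smul (toT O W c) y

lemma app_T_sum (W : C) {N : ModSite.Mod O} {N' : ModSite.Mod (O.over W)}
    (f : (ModSite.restr O W).obj N ⟶ N') {ι : Type*} (t : Finset ι) (y : ι → ModSite.sect N W) :
    f.val.app (op (Over.mk (𝟙 W))) (∑ i ∈ t, y i : ModSite.sect N W) =
      ∑ i ∈ t, f.val.app (op (Over.mk (𝟙 W))) (y i) :=
  map_sum (f.val.app (op (Over.mk (𝟙 W)))).hom y t

end SliceLinear

section ThmD

variable {O} {M H : ModSite.Mod O} {Ig Ir : Type u} [Fintype Ig] [Fintype Ir] [DecidableEq Ig]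
  (ρ : fr O Ir ⟶ fr O Ig) (π : fr O Ig ⟶ M) (w : ρ ≫ π = 0)
  (φ : M ⟶ H)

/-- the coefficients of the relations -/
noncomputable def Ar (r : Ir) (i : Ig) (W : C) : O.obj.obj (op W) := secU (inj O r ≫ ρ ≫ coord O i) W

include w in
lemma rel (r : Ir) (W : C) : ∑ i, Ar ρ r i W • sec O (inj O i ≫ π ≫ φ) W = 0 := by
  have e : inj O r ≫ ρ = ∑ i, (inj O r ≫ ρ ≫ coord O i) ≫ inj O i := by
    calc inj O r ≫ ρ = (inj O r ≫ ρ) ≫ 𝟙 _ := (Category.comp_id _).symm
      _ = (inj O r ≫ ρ) ≫ ∑ i, coord O i ≫ inj O i := by rw [sum_coord_inj]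
      _ = _ := by
        rw [Preadditive.comp_sum]
        exact Finset.sum_congr rfl (fun i _ => by simp only [Category.assoc])
  have z : (inj O r ≫ ρ) ≫ π ≫ φ = 0 := by
    rw [Category.assoc, ← Category.assoc ρ, w, zero_comp, comp_zero]
  rw [e, Preadditive.sum_comp] at z
  have z2 := congrArg (fun k => sec O k W) z
  have z3 : sec O (∑ i, ((inj O r ≫ ρ ≫ coord O i) ≫ inj O i) ≫ π ≫ φ) W =
      ∑ i, sec O (((inj O r ≫ ρ ≫ coord O i) ≫ inj O i) ≫ π ≫ φ) W :=
    sec_sum O Finset.univ _ W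
  refine Eq.trans (Finset.sum_congr rfl (fun i _ => ?_)) (z3.symm.trans z2)
  exact (unit_app_apply (inj O i ≫ π ≫ φ) W (Ar ρ r i W)).symm

variable (hc : IsColimit (CokernelCofork.ofπ π w))

include hc in
lemma exists_factor_slice (W : C) {l : ℕ} (t : ULift.{u} (Fin l) → ModSite.sect H W)
    (a : Ig → ULift.{u} (Fin l) → O.obj.obj (op W))
    (h1 : ∀ i, sec O (inj O i ≫ π ≫ φ) W = ∑ k, a i k • t k)
    (h2 : ∀ r k, ∑ i, a i k * Ar ρ r i W = 0) :
    ∃ (a' : (ModSite.restr O W).obj M ⟶ fr (O.over W) (ULift.{u} (Fin l)))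
      (b : fr (O.over W) (ULift.{u} (Fin l)) ⟶ (ModSite.restr O W).obj H),
      a' ≫ b = (ModSite.restr O W).map φ := by
  let T : Over W := Over.mk (𝟙 W)
  -- basis sections of the target free module
  let e' : ULift.{u} (Fin l) → ModSite.sect (fr (O.over W) (ULift.{u} (Fin l))) T :=
    fun k => sec (O.over W) (inj (O.over W) k) T
  let u : Ig → (ModSite.unit (O.over W) ⟶ fr (O.over W) (ULift.{u} (Fin l))) :=
    fun i => (unitEquiv O W (fr (O.over W) (ULift.{u} (Fin l)))).symm
      (∑ k, toT O W (a i k) • e' k)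
  let b : fr (O.over W) (ULift.{u} (Fin l)) ⟶ (ModSite.restr O W).obj H :=
    freeDesc (O.over W) (fun k => (unitEquiv O W ((ModSite.restr O W).obj H)).symm (t k))
  have hcof : IsColimit ((ModSite.restr O W).mapCocone (SheafOfModules.freeCofan (R := ModSite.ringSh O) Ig)) :=
    isColimitOfPreserves (ModSite.restr O W) (SheafOfModules.isColimitFreeCofan Ig)
  have hcofr : IsColimit ((ModSite.restr O W).mapCocone (SheafOfModules.freeCofan (R := ModSite.ringSh O) Ir)) :=
    isColimitOfPreserves (ModSite.restr O W) (SheafOfModules.isColimitFreeCofan Ir)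
  let cc : Cocone (Discrete.functor (fun _ : Ig => ModSite.unit O) ⋙ ModSite.restr O W) :=
    { pt := fr (O.over W) (ULift.{u} (Fin l))
      ι := Discrete.natTrans (fun i => u i.as) }
  let a0 : (ModSite.restr O W).obj (fr O Ig) ⟶ fr (O.over W) (ULift.{u} (Fin l)) := hcof.desc cc
  have ha0 : ∀ i, restrU O W (inj O i) ≫ a0 = u i := fun i => hcof.fac cc ⟨i⟩
  have hsecu : ∀ i, sec (O.over W) (u i) T = ∑ k, toT O W (a i k) • e' k := fun i =>
    sec_unitEquiv_symm O W (M' := fr (O.over W) (ULift.{u} (Fin l))) _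
  -- a0 on basis sections
  have ha0e : ∀ i, a0.val.app (op T) (sec O (inj O i) W : ModSite.sect (fr O Ig) W) =
      ∑ k, toT O W (a i k) • e' k := by
    intro i
    have h3 : sec (O.over W) (restrU O W (inj O i) ≫ a0) T =
        a0.val.app (op T) (sec O (inj O i) W : ModSite.sect (fr O Ig) W) := rfl
    rw [← h3, ha0 i, hsecu i]
  have h0 : (ModSite.restr O W).map ρ ≫ a0 = 0 := by
    apply hcofr.hom_ext
    rintro ⟨r⟩
    change restrU O W (inj O r) ≫ (ModSite.restr O W).map ρ ≫ a0 = restrU O W (inj O r) ≫ 0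
    rw [comp_zero, ← Category.assoc, ← restrU_comp]
    apply (unitEquiv O W (fr (O.over W) (ULift.{u} (Fin l)))).injective
    have e2 : unitEquiv O W (fr (O.over W) (ULift.{u} (Fin l))) 0 = 0 := rfl
    rw [e2]
    change a0.val.app (op T) (sec O (inj O r ≫ ρ) W : ModSite.sect (fr O Ig) W) = 0
    have hd := free_decomp O (I := Ig) (sec O (inj O r ≫ ρ) W)
    have hd' : (sec O (inj O r ≫ ρ) W : ModSite.sect (fr O Ig) W) =
        ∑ i, Ar ρ r i W • sec O (inj O i) W := hd
    rw [hd', app_T_sum]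
    have h4 : ∀ i, a0.val.app (op T) (Ar ρ r i W • sec O (inj O i) W : ModSite.sect (fr O Ig) W) =
        ∑ k, toT O W (Ar ρ r i W * a i k) • e' k := by
      intro i
      rw [app_T_smul, ha0e i, Finset.smul_sum]
      refine Finset.sum_congr rfl (fun k _ => ?_)
      rw [smul_smul]
      rfl
    rw [Finset.sum_congr rfl (fun i _ => h4 i), Finset.sum_comm]
    refine Finset.sum_eq_zero (fun k _ => ?_)
    rw [← Finset.sum_smul]
    have h5 : ∑ i, toT O W (Ar ρ r i W * a i k) = 0 := by
      refine Eq.trans (Finset.sum_congr rfl (fun i _ => ?_)) (h2 r k)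
      exact mul_comm (G := O.obj.obj (op W)) _ _
    rw [h5, zero_smul]
  have hcok : IsColimit ((CokernelCofork.ofπ π w).map (ModSite.restr O W)) :=
    CokernelCofork.mapIsColimit _ hc (ModSite.restr O W)
  obtain ⟨a', ha'⟩ : ∃ a' : (ModSite.restr O W).obj M ⟶ fr (O.over W) (ULift.{u} (Fin l)),
      (ModSite.restr O W).map π ≫ a' = a0 :=
    ⟨(Cofork.IsColimit.desc' hcok a0 (h0.trans zero_comp.symm)).1,
      (Cofork.IsColimit.desc' hcok a0 (h0.trans zero_comp.symm)).2⟩
  refine ⟨a', b, ?_⟩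
  apply Cofork.IsColimit.hom_ext hcok
  change (ModSite.restr O W).map π ≫ a' ≫ b = (ModSite.restr O W).map π ≫ (ModSite.restr O W).map φ
  rw [← Category.assoc, ha']
  apply hcof.hom_ext
  rintro ⟨i⟩
  change restrU O W (inj O i) ≫ a0 ≫ b =
    restrU O W (inj O i) ≫ (ModSite.restr O W).map π ≫ (ModSite.restr O W).map φ
  rw [← Category.assoc, ha0 i, ← Functor.map_comp, ← restrU_comp]
  apply (unitEquiv O W ((ModSite.restr O W).obj H)).injective
  change b.val.app (op T) (sec (O.over W) (u i) T) = sec O (inj O i ≫ π ≫ φ) W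
  rw [hsecu i, h1 i, map_sum]
  refine Finset.sum_congr rfl (fun k _ => ?_)
  have h6 : b.val.app (op T) (e' k) = t k := by
    have h7 : sec (O.over W) (inj (O.over W) k ≫ b) T = b.val.app (op T) (e' k) := rfl
    rw [← h7, inj_freeDesc]
    exact sec_unitEquiv_symm O W (M' := (ModSite.restr O W).obj H) (t k)
  rw [map_smul, h6]
  rfl

include hc in
/-- a map from a globally finitely presented module to a flat module factors locally through finite free modules -/
theorem locFactor (hH : ModSite.IsFlat H) (V : C) :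
    ∃ R ∈ J V, ∀ ⦃W : C⦄ (k : W ⟶ V), R k →
      ∃ (l : ℕ) (a' : (ModSite.restr O W).obj M ⟶ fr (O.over W) (ULift.{u} (Fin l)))
        (b : fr (O.over W) (ULift.{u} (Fin l)) ⟶ (ModSite.restr O W).obj H),
        a' ≫ b = (ModSite.restr O W).map φ := by
  obtain ⟨R, hR, h⟩ := eqCrit_elt' O H hH V (fun r i => Ar ρ r i V)
    (fun i => sec O (inj O i ≫ π ≫ φ) V) (fun r => rel ρ π w φ r V)
  refine ⟨R, hR, fun W k hk => ?_⟩
  obtain ⟨l, t, a, h1, h2⟩ := h k hk
  refine ⟨l, exists_factor_slice ρ π w φ hc W t a (fun i => ?_) (fun r k' => ?_)⟩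
  · exact (sec_map (inj O i ≫ π ≫ φ) k).symm.trans (h1 i)
  · refine Eq.trans (Finset.sum_congr rfl (fun i _ => ?_)) (h2 r k')
    congr 1
    exact (sec_map (inj O r ≫ ρ ≫ coord O i) k).symm

end ThmD

end Groth.Agent.Lib.ModSiteLocFactor
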