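/-
helper11: keystone ModSiteTensor, part E6.  Modules on the double slice `(C/X)/Z` vs modules on `C/Z.left`:
transport of factorisations through finite free modules.
-/
import Groth.Agent.Lib.ModSiteLocFactor

universe u
open CategoryTheory Opposite Limits MonoidalCategory

namespace Groth.Agent.Lib.ModSiteSliceSlice

open Groth.Agent.Lib.ModSiteFinFree

variable {C : Type u} [SmallCategory C] {J : GrothendieckTopology C} (O : Sheaf J CommRingCat.{u})
  (X : C) (Z : Over X)

/-- the equivalence between modules on `C/Z.left` and modules on `(C/X)/Z` -/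
noncomputable def e : ModSite.Mod (O.over Z.left) ≌ ModSite.Mod ((O.over X).over Z) :=
  SheafOfModules.pushforwardPushforwardEquivalence (Over.iteratedSliceEquiv Z)
    (S := ((ModSite.ringSh O).over X).over Z) (R := (ModSite.ringSh O).over Z.left) (𝟙 _) (𝟙 _)
    (by ext : 2; exact (ModSite.ringSh O).1.map_id _) (by ext : 2; exact (ModSite.ringSh O).1.map_id _)

/-- a factorisation through a finite free module on the double slice `(C/X)/Z` gives one on `C/Z.left` -/
lemma good_of_slice {F H : ModSite.Mod O} (φ : F ⟶ H) {l : ℕ}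
    (a : (ModSite.restr (O.over X) Z).obj ((ModSite.restr O X).obj F) ⟶
      fr ((O.over X).over Z) (ULift.{u} (Fin l)))
    (b : fr ((O.over X).over Z) (ULift.{u} (Fin l)) ⟶
      (ModSite.restr (O.over X) Z).obj ((ModSite.restr O X).obj H))
    (hab : a ≫ b = (ModSite.restr (O.over X) Z).map ((ModSite.restr O X).map φ)) :
    ∃ (a₀ : (ModSite.restr O Z.left).obj F ⟶ fr (O.over Z.left) (ULift.{u} (Fin l)))
      (b₀ : fr (O.over Z.left) (ULift.{u} (Fin l)) ⟶ (ModSite.restr O Z.left).obj H),
      a₀ ≫ b₀ = (ModSite.restr O Z.left).map φ := by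
  let θ : fr ((O.over X).over Z) (ULift.{u} (Fin l)) ≅
      (e O X Z).functor.obj (fr (O.over Z.left) (ULift.{u} (Fin l))) :=
    SheafOfModules.mapFreeIso (e O X Z).functor (ULift.{u} (Fin l)) (Iso.refl _)
  let a' : (e O X Z).functor.obj ((ModSite.restr O Z.left).obj F) ⟶
      (e O X Z).functor.obj (fr (O.over Z.left) (ULift.{u} (Fin l))) := a ≫ θ.hom
  let b' : (e O X Z).functor.obj (fr (O.over Z.left) (ULift.{u} (Fin l))) ⟶
      (e O X Z).functor.obj ((ModSite.restr O Z.left).obj H) := θ.inv ≫ b
  refine ⟨(e O X Z).functor.preimage a', (e O X Z).functor.preimage b', ?_⟩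
  apply (e O X Z).functor.map_injective
  rw [Functor.map_comp, Functor.map_preimage, Functor.map_preimage]
  change (a ≫ θ.hom) ≫ θ.inv ≫ b = _
  rw [Category.assoc, Iso.hom_inv_id_assoc, hab]
  rfl

end Groth.Agent.Lib.ModSiteSliceSlice
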