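/-
helper11: keystone ModSiteTensor, part E7.  `locFactor` for finite presentations in the sense of Mathlib.
-/
import Groth.Agent.Lib.ModSiteSliceSlice

universe u
open CategoryTheory Opposite Limits MonoidalCategory

namespace Groth.Agent.Lib.ModSiteLocFactor

open Groth.Agent.Lib.ModSiteFinFree

variable {C : Type u} [SmallCategory C] {J : GrothendieckTopology C} {O : Sheaf J CommRingCat.{u}}

/-- `locFactor` for a finite presentation in Mathlib's sense -/
theorem locFactor_presentation {M H : ModSite.Mod O} (P : SheafOfModules.Presentation M) [P.IsFinite]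
    (φ : M ⟶ H) (hH : ModSite.IsFlat H) (V : C) :
    ∃ R ∈ J V, ∀ ⦃W : C⦄ (k : W ⟶ V), R k →
      ∃ (l : ℕ) (a' : (ModSite.restr O W).obj M ⟶ fr (O.over W) (ULift.{u} (Fin l)))
        (b : fr (O.over W) (ULift.{u} (Fin l)) ⟶ (ModSite.restr O W).obj H),
        a' ≫ b = (ModSite.restr O W).map φ := by
  classical
  have : Finite P.generators.I := SheafOfModules.GeneratingSections.IsFiniteType.finite
  have : Finite P.relations.I := SheafOfModules.GeneratingSections.IsFiniteType.finite
  let _ : Fintype P.generators.I := Fintype.ofFinite _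
  let _ : Fintype P.relations.I := Fintype.ofFinite _
  exact locFactor
    (ρ := (SheafOfModules.freeHomEquiv _).symm P.relations.s ≫ kernel.ι P.generators.π)
    P.generators.π (by simp) φ P.isColimit hH V

end Groth.Agent.Lib.ModSiteLocFactor
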