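import Groth.Agent.S9041
import Groth.Agent.Lib.ModSiteSliceSlice
import Mathlib.Algebra.Homology.HomotopyCategory.Pretriangulated
import Mathlib.Algebra.Homology.HomotopyCategory.HomologicalFunctor
import Groth.Agent.Lib.PCohStupid

set_option autoImplicit false
universe u
open CategoryTheory CategoryTheory.Limits Opposite

namespace Groth.Agent.Lib.ModSiteLocHomotopy

variable {C : Type u} [SmallCategory C] {J : GrothendieckTopology C} (O : Sheaf J CommRingCat.{u})

instance restr_additive (X : C) : (ModSite.restr O X).Additive :=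
  inferInstanceAs (SheafOfModules.overFunctor.{u} (ModSite.ringSh O) X).Additive

instance restr_preservesFiniteLimits (X : C) : PreservesFiniteLimits (ModSite.restr O X) :=
  inferInstanceAs (PreservesFiniteLimits (SheafOfModules.overFunctor.{u} (ModSite.ringSh O) X))

instance restr_preservesFiniteColimits (X : C) : PreservesFiniteColimits (ModSite.restr O X) :=
  inferInstanceAs (PreservesFiniteColimits (SheafOfModules.overFunctor.{u} (ModSite.ringSh O) X))

/-- the restriction of a finite free module is finite free -/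
noncomputable def restrFreeIso (W : C) (I : Type u) [Finite I] :
    SheafOfModules.free (R := ModSite.ringSh (O.over W)) I ≅
      (ModSite.restr O W).obj (SheafOfModules.free (R := ModSite.ringSh O) I) :=
  SheafOfModules.mapFreeIso (ModSite.restr O W) I (Iso.refl _)

lemma isFinFreeSummandMod_restr (W : C) (M : ModSite.Mod O)
    (hM : DCoh.IsFinFreeSummandMod (ModSite.ringSh O) M) :
    DCoh.IsFinFreeSummandMod (ModSite.ringSh (O.over W)) ((ModSite.restr O W).obj M) := by
  obtain ⟨n, i, p, hip⟩ := hM
  refine ⟨n, (ModSite.restr O W).map i ≫ (restrFreeIso O W _).inv,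
    (restrFreeIso O W _).hom ≫ (ModSite.restr O W).map p, ?_⟩
  rw [Category.assoc, Iso.inv_hom_id_assoc, ← Functor.map_comp, hip, CategoryTheory.Functor.map_id]

section Reflect

variable {A B : Type*} [Category A] [Category B] [Preadditive A] [Preadditive B]
  (Φ : A ⥤ B) [Φ.Additive] [Φ.Full] [Φ.Faithful] {ι : Type*} {c : ComplexShape ι}

/-- a fully faithful additive functor reflects homotopies -/
noncomputable def reflectHomotopy {K L : HomologicalComplex A c} {f g : K ⟶ L}
    (h : Homotopy ((Φ.mapHomologicalComplex c).map f) ((Φ.mapHomologicalComplex c).map g)) :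
    Homotopy f g :=
  let hh : ∀ i j, Φ.obj (K.X i) ⟶ Φ.obj (L.X j) := fun i j => h.hom i j
  { hom := fun i j => Φ.preimage (hh i j)
    zero := fun i j w => by
      apply Φ.map_injective
      have h0 : hh i j = 0 := h.zero i j w
      rw [Functor.map_preimage, h0, Φ.map_zero]
    comm := fun i => by
      apply Φ.map_injective
      have H : Φ.map (f.f i) = Φ.map (K.d i (c.next i)) ≫ hh (c.next i) i +
          hh i (c.prev i) ≫ Φ.map (L.d (c.prev i) i) + Φ.map (g.f i) := h.comm i
      change Φ.map (f.f i) = Φ.map (K.d i (c.next i) ≫ Φ.preimage (hh (c.next i) i) +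
          Φ.preimage (hh i (c.prev i)) ≫ L.d (c.prev i) i + g.f i)
      rw [Functor.map_add, Functor.map_add, Functor.map_comp, Functor.map_comp,
        Functor.map_preimage, Functor.map_preimage]
      exact H }

end Reflect

section LemmaA

open Groth.Agent.Lib.ModSiteSliceSlice

/-- restriction of complexes to `C/W` -/
noncomputable abbrev rc {C : Type u} [SmallCategory C] {J : GrothendieckTopology C}
    (O : Sheaf J CommRingCat.{u}) (W : C) :
    CochainComplex (ModSite.Mod O) ℤ ⥤ CochainComplex (ModSite.Mod (O.over W)) ℤ :=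
  (ModSite.restr O W).mapHomologicalComplex (ComplexShape.up ℤ)

lemma exactAt_rc {C : Type u} [SmallCategory C] {J : GrothendieckTopology C}
    (O : Sheaf J CommRingCat.{u}) (W : C) (F : CochainComplex (ModSite.Mod O) ℤ) (j : ℤ)
    (h : F.ExactAt j) : ((rc O W).obj F).ExactAt j :=
  ShortComplex.Exact.map h (ModSite.restr O W)

attribute [local instance] preservesBinaryBiproducts_of_preservesBinaryCoproducts in
instance e_functor_additive {C : Type u} [SmallCategory C] {J : GrothendieckTopology C}
    (O : Sheaf J CommRingCat.{u}) (W : C) (W' : Over W) : (e O W W').functor.Additive :=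
  Functor.additive_of_preservesBinaryBiproducts _

/-- transport of a null-homotopy from the double slice -/
lemma nullHomotopic_of_slice {C : Type u} [SmallCategory C] {J : GrothendieckTopology C}
    (O : Sheaf J CommRingCat.{u}) (W : C) (W' : Over W) {E F : CochainComplex (ModSite.Mod O) ℤ}
    (α : E ⟶ F)
    (h : Nonempty (Homotopy ((rc (O.over W) W').map ((rc O W).map α)) 0)) :
    Nonempty (Homotopy ((rc O W'.left).map α) 0) := by
  obtain ⟨h⟩ := h
  refine ⟨reflectHomotopy (e O W W').functor ?_⟩
  exact h.trans (Homotopy.ofEq (by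
    rw [Functor.map_zero]
    rfl))

/-- the homotopy datum with a single nonzero component `l : E^b ⟶ F^(b-1)` -/
noncomputable def oneHom {A : Type*} [Category A] [Preadditive A] (E F : CochainComplex A ℤ) (b : ℤ)
    (l : E.X b ⟶ F.X (b - 1)) : ∀ i j, E.X i ⟶ F.X j := fun i j =>
  if h : i = b ∧ j = b - 1 then eqToHom (by rw [h.1]) ≫ l ≫ eqToHom (by rw [h.2]) else 0

lemma oneHom_self {A : Type*} [Category A] [Preadditive A] (E F : CochainComplex A ℤ) (b : ℤ)
    (l : E.X b ⟶ F.X (b - 1)) : oneHom E F b l b (b - 1) = l := by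
  simp [oneHom]

lemma oneHom_ne {A : Type*} [Category A] [Preadditive A] (E F : CochainComplex A ℤ) (b : ℤ)
    (l : E.X b ⟶ F.X (b - 1)) (i j : ℤ) (h : i ≠ b) : oneHom E F b l i j = 0 := by
  simp [oneHom, h]

lemma oneHom_zero {A : Type*} [Category A] [Preadditive A] (E F : CochainComplex A ℤ) (b : ℤ)
    (l : E.X b ⟶ F.X (b - 1)) (i j : ℤ) (h : ¬ (ComplexShape.up ℤ).Rel j i) :
    oneHom E F b l i j = 0 := by
  unfold oneHom
  split_ifs with h'
  · exfalso
    apply h
    obtain ⟨rfl, rfl⟩ := h'
    simp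
  · rfl

lemma nullHomotopicMap_oneHom_f {A : Type*} [Category A] [Preadditive A] (E F : CochainComplex A ℤ)
    (b : ℤ) (l : E.X b ⟶ F.X (b - 1)) (j : ℤ) :
    (Homotopy.nullHomotopicMap (oneHom E F b l)).f j =
      E.d j (j + 1) ≫ oneHom E F b l (j + 1) j + oneHom E F b l j (j - 1) ≫ F.d (j - 1) j := by
  rw [Homotopy.nullHomotopicMap_f (c := ComplexShape.up ℤ) (k₂ := j - 1) (k₁ := j) (k₀ := j + 1)
    (by simp) (by simp)]

/-- **Lemma A**: a map from a (bounded below, termwise finite-free-summand) complex, vanishing in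
degrees `≥ a + n`, to a complex which is exact in degrees `≥ a`, is locally null-homotopic. -/
theorem locally_nullHomotopic_aux (n : ℕ) :
    ∀ {C : Type u} [SmallCategory C] {J : GrothendieckTopology C} (O : Sheaf J CommRingCat.{u})
      (E F : CochainComplex (ModSite.Mod O) ℤ) (α : E ⟶ F) (a : ℤ)
      (_ : ∀ j, DCoh.IsFinFreeSummandMod (ModSite.ringSh O) (E.X j))
      (_ : ∀ j, j < a → IsZero (E.X j))
      (_ : ∀ j, a + n ≤ j → α.f j = 0)
      (_ : ∀ j, a ≤ j → F.ExactAt j) (V : C),
      ∃ R ∈ J V, ∀ ⦃W : C⦄ (g : W ⟶ V), R g → Nonempty (Homotopy ((rc O W).map α) 0) := by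
  induction n with
  | zero =>
    intro C _ J O E F α a hE hEa hα hF V
    have h0 : α = 0 := by
      refine HomologicalComplex.hom_ext _ _ (fun j => ?_)
      by_cases hj : j < a
      · exact (hEa j hj).eq_of_src _ _
      · exact hα j (by simp; lia)
    refine ⟨⊤, J.top_mem V, fun W g _ => ⟨Homotopy.ofEq ?_⟩⟩
    rw [h0, Functor.map_zero]
  | succ n ih =>
    intro C _ J O E F α a hE hEa hα hF V
    let b : ℤ := a + n
    have hαb : α.f (b + 1) = 0 := hα (b + 1) (by simp [b]; lia)
    have hψ : α.f b ≫ F.d b (b + 1) = 0 := by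
      rw [α.comm, hαb, comp_zero]
    have hex : (F.sc' (b - 1) b (b + 1)).Exact :=
      (F.exactAt_iff' (b - 1) b (b + 1) (by simp) (by simp)).1 (hF b (by simp [b]))
    let p : F.X (b - 1) ⟶ kernel (F.d b (b + 1)) :=
      kernel.lift (F.d b (b + 1)) (F.d (b - 1) b) (F.d_comp_d _ _ _)
    have hp : Epi p := (ShortComplex.exact_iff_epi_kernel_lift _).1 hex
    let φ : E.X b ⟶ kernel (F.d b (b + 1)) := kernel.lift (F.d b (b + 1)) (α.f b) hψ
    obtain ⟨R₁, hR₁, H₁⟩ := Groth.Agent.S9041.result O (E.X b) (kernel (F.d b (b + 1)))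
      (F.X (b - 1)) (hE b) p φ V
    have P : ∀ ⦃W : C⦄ (g : W ⟶ V), R₁ g → ∃ S ∈ J W, ∀ ⦃W'' : C⦄ (m : W'' ⟶ W), S m →
        Nonempty (Homotopy ((rc O W'').map α) 0) := by
      intro W g hg
      obtain ⟨l, hl⟩ := H₁ g hg
      have hl' : l ≫ (ModSite.restr O W).map (F.d (b - 1) b) = (ModSite.restr O W).map (α.f b) := by
        have e1 : F.d (b - 1) b = p ≫ kernel.ι _ := (kernel.lift_ι _ _ _).symm
        have e2 : α.f b = φ ≫ kernel.ι _ := (kernel.lift_ι _ _ _).symm
        rw [e1, e2, Functor.map_comp, Functor.map_comp, ← Category.assoc, hl]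
      let EW := (rc O W).obj E
      let FW := (rc O W).obj F
      let l' : EW.X b ⟶ FW.X (b - 1) := l
      let α' : EW ⟶ FW := (rc O W).map α - Homotopy.nullHomotopicMap (oneHom EW FW b l')
      have hα' : ∀ j, a + n ≤ j → α'.f j = 0 := by
        intro j hj
        change ((rc O W).map α).f j - (Homotopy.nullHomotopicMap (oneHom EW FW b l')).f j = 0
        rw [nullHomotopicMap_oneHom_f]
        by_cases hjb : j = b
        · rw [hjb, oneHom_ne EW FW b l' (b + 1) b (by lia), comp_zero, zero_add, oneHom_self]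
          exact sub_eq_zero.2 hl'.symm
        · rw [oneHom_ne EW FW b l' (j + 1) j (by simp [b] at hj ⊢; lia), comp_zero, zero_add,
            oneHom_ne EW FW b l' j (j - 1) hjb, zero_comp, sub_zero]
          change (ModSite.restr O W).map (α.f j) = 0
          rw [hα j (by simp [b] at hj hjb ⊢; lia), Functor.map_zero]
      obtain ⟨R', hR', H'⟩ := ih (O.over W) EW FW α' a
        (fun j => isFinFreeSummandMod_restr O W _ (hE j))
        (fun j hj => (ModSite.restr O W).map_isZero (hEa j hj)) hα'
        (fun j hj => exactAt_rc O W F j (hF j hj)) (Over.mk (𝟙 W))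
      refine ⟨Sieve.overEquiv _ R', (GrothendieckTopology.mem_over_iff _ _).1 hR', ?_⟩
      intro W'' m hm
      rw [Sieve.overEquiv_iff] at hm
      let W' : Over W := Over.mk (m ≫ (Over.mk (𝟙 W)).hom)
      obtain ⟨h1⟩ := H' _ hm
      have h2 : Homotopy (Homotopy.nullHomotopicMap (oneHom EW FW b l')) 0 :=
        Homotopy.nullHomotopy _ (fun i j hij => oneHom_zero EW FW b l' i j hij)
      have h3 := (ModSite.restr (O.over W) W').mapHomotopy h2
      apply nullHomotopic_of_slice O W W' α
      have e : (rc (O.over W) W').map ((rc O W).map α) = (rc (O.over W) W').map α' +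
          (rc (O.over W) W').map (Homotopy.nullHomotopicMap (oneHom EW FW b l')) := by
        rw [← Functor.map_add]
        congr 1
        simp [α']
      refine ⟨(Homotopy.ofEq e).trans ((h1.add h3).trans (Homotopy.ofEq ?_))⟩
      simp
    choose S hS hS' using P
    refine ⟨Sieve.bind R₁ S, J.bind_covering hR₁ (fun _ _ hg => hS _ hg), ?_⟩
    rintro W'' k ⟨W, m, g, hg, hm, rfl⟩
    exact hS' g hg m hm

end LemmaA

section Cone

attribute [local instance] HasDerivedCategory.standard

open DerivedCategory in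
/-- the cone of a map which is an isomorphism on `H^j`, `j > a`, and an epimorphism on `H^a`, is
exact in degrees `≥ a`. -/
lemma exactAt_mappingCone {A : Type*} [Category A] [Abelian A] {G F : CochainComplex A ℤ}
    (f : G ⟶ F) (a : ℤ) (hiso : ∀ j : ℤ, a < j → IsIso (HomologicalComplex.homologyMap f j))
    (hepi : Epi (HomologicalComplex.homologyMap f a)) (j : ℤ) (hj : a ≤ j) :
    (CochainComplex.mappingCone f).ExactAt j := by
  let T := Q.mapTriangle.obj (CochainComplex.mappingCone.triangle f)
  have hT : T ∈ distTriang _ := mappingCone_triangle_distinguished f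
  have hE : Epi ((homologyFunctor A j).map T.mor₁) := by
    change Epi ((homologyFunctor A j).map (Q.map f))
    rw [Groth.Agent.Lib.PCohStupid.epi_homologyFunctor_map_Q_iff]
    rcases eq_or_lt_of_le hj with h | h
    · rw [← h]; exact hepi
    · have := hiso j h
      infer_instance
  have hM : Mono ((homologyFunctor A (j + 1)).map T.mor₁) := by
    change Mono ((homologyFunctor A (j + 1)).map (Q.map f))
    have : IsIso ((homologyFunctor A (j + 1)).map (Q.map f)) := by
      rw [Groth.Agent.Lib.PCohStupid.isIso_homologyFunctor_map_Q_iff]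
      exact hiso (j + 1) (by lia)
    infer_instance
  have h2 := (HomologySequence.epi_homologyMap_mor₁_iff T hT j).1 hE
  have h3 := (HomologySequence.mono_homologyMap_mor₁_iff T hT j (j + 1) rfl).1 hM
  have hZ : IsZero ((homologyFunctor A j).obj T.obj₃) :=
    (HomologySequence.exact₃ T hT j (j + 1) rfl).isZero_X₂ h2 h3
  rw [HomologicalComplex.exactAt_iff_isZero_homology]
  exact IsZero.of_iso hZ ((homologyFunctorFactors A j).app (CochainComplex.mappingCone f)).symm

/-- **Lemma B**: if `Φ(α ≫ inr f)` is null-homotopic, then `Φ α` lifts through `Φ f` up to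
homotopy. -/
lemma exists_lift_of_nullHomotopic {A B : Type*} [Category A] [Abelian A] [Category B] [Abelian B]
    (Φ : A ⥤ B) [Φ.Additive] {E F G : CochainComplex A ℤ} (α : E ⟶ F) (f : G ⟶ F)
    (h : Homotopy ((Φ.mapHomologicalComplex (ComplexShape.up ℤ)).map
      (α ≫ CochainComplex.mappingCone.inr f)) 0) :
    ∃ β : (Φ.mapHomologicalComplex (ComplexShape.up ℤ)).obj E ⟶
        (Φ.mapHomologicalComplex (ComplexShape.up ℤ)).obj G,
      Nonempty (Homotopy (β ≫ (Φ.mapHomologicalComplex (ComplexShape.up ℤ)).map f)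
        ((Φ.mapHomologicalComplex (ComplexShape.up ℤ)).map α)) := by
  let Φ' := Φ.mapHomotopyCategory (ComplexShape.up ℤ)
  let ΦC := Φ.mapHomologicalComplex (ComplexShape.up ℤ)
  let q := HomotopyCategory.quotient B (ComplexShape.up ℤ)
  have hT := HomotopyCategory.mappingCone_triangleh_distinguished f
  have hΦT := Φ'.map_distinguished _ hT
  let u : q.obj (ΦC.obj E) ⟶ (Φ'.mapTriangle.obj (CochainComplex.mappingCone.triangleh f)).obj₂ :=
    q.map (ΦC.map α)
  have hu : u ≫ (Φ'.mapTriangle.obj (CochainComplex.mappingCone.triangleh f)).mor₂ = 0 := by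
    have e2 : q.map (ΦC.map (α ≫ CochainComplex.mappingCone.inr f)) = q.map 0 :=
      HomotopyCategory.eq_of_homotopy _ _ h
    have e4 : q.map (ΦC.map α) ≫ q.map (ΦC.map (CochainComplex.mappingCone.inr f)) = 0 := by
      rw [← Functor.map_comp, ← Functor.map_comp, e2, Functor.map_zero]
    exact e4
  obtain ⟨v, hv⟩ := Pretriangulated.Triangle.coyoneda_exact₂ _ hΦT u hu
  let v' : q.obj (ΦC.obj E) ⟶ q.obj (ΦC.obj G) := v
  obtain ⟨β, hβ⟩ := q.map_surjective v'
  refine ⟨β, ⟨HomotopyCategory.homotopyOfEq _ _ ?_⟩⟩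
  have hv' : q.map (ΦC.map α) = v' ≫ q.map (ΦC.map f) := hv
  rw [Functor.map_comp]
  change q.map β ≫ q.map (ΦC.map f) = q.map (ΦC.map α)
  rw [hβ, hv']

end Cone

section Main

variable {C : Type u} [SmallCategory C] {J : GrothendieckTopology C} (O : Sheaf J CommRingCat.{u})

/-- Local lifting up to homotopy of maps out of strictly perfect complexes (= S9046). -/
theorem locally_lift_up_to_homotopy
    (E F G : CochainComplex (ModSite.Mod O) ℤ) (α : E ⟶ F) (f : G ⟶ F)
    (hE : DCoh.IsStrictlyPerfectMod (ModSite.ringSh O) E) (a : ℤ)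
    (hEa : ∀ j : ℤ, j < a → IsZero (E.X j))
    (hiso : ∀ j : ℤ, a < j → IsIso (HomologicalComplex.homologyMap f j))
    (hepi : Epi (HomologicalComplex.homologyMap f a)) (V : C) :
    ∃ R ∈ J V, ∀ ⦃W : C⦄ (g : W ⟶ V), R g →
      ∃ β : (rc O W).obj E ⟶ (rc O W).obj G,
        Nonempty (Homotopy (β ≫ (rc O W).map f) ((rc O W).map α)) := by
  obtain ⟨⟨a', b', hab⟩, hfs⟩ := hE
  let n : ℕ := (b' + 1 - a).toNat
  obtain ⟨R, hR, H⟩ := locally_nullHomotopic_aux n O E (CochainComplex.mappingCone f)
    (α ≫ CochainComplex.mappingCone.inr f) a hfs hEa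
    (fun j hj => (hab j (Or.inr (by simp [n] at hj; lia))).eq_of_src _ _)
    (fun j hj => exactAt_mappingCone f a hiso hepi j hj) V
  refine ⟨R, hR, fun W g hg => ?_⟩
  obtain ⟨h⟩ := H g hg
  exact exists_lift_of_nullHomotopic (ModSite.restr O W) α f h

end Main

end Groth.Agent.Lib.ModSiteLocHomotopy
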