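import Groth.Agent.Lib.ModShriek
import Groth.Prelude.Def_ModSite2
import Mathlib.CategoryTheory.Sites.Point.Over
import Mathlib.CategoryTheory.Sites.Point.Skyscraper

/-!
# The stalk of an extension by zero at a point of a site
-/

set_option autoImplicit false
universe u
open CategoryTheory CategoryTheory.Limits Opposite DirectSum

attribute [local instance] Classical.propDecidable

namespace Groth.Agent.Lib.ModSiteShriekStalk

open Groth.Agent.Lib.ModShriekPre

variable {C : Type u} [SmallCategory C] {J : GrothendieckTopology C} (p : GrothendieckTopology.Point.{u} J)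
  {R : Cᵒᵖ ⥤ RingCat.{u}} {U : C} (M : PresheafOfModules.{u} (RX R U))

/-- the family of stalks at the points over `p` -/
noncomputable abbrev fam (x : p.fiber.obj U) : AddCommGrpCat.{u} := (p.over x).presheafFiber.obj M.presheaf

/-- the coproduct of the stalks at the points over `p` -/
noncomputable abbrev tgt : AddCommGrpCat.{u} := ∐ fam p M

/-- germ at the point over `x` followed by the inclusion of the summand -/
noncomputable def inc {V : C} (φ : V ⟶ U) (v : p.fiber.obj V) (x : p.fiber.obj U) (h : p.fiber.map φ v = x) :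
    M.presheaf.obj (op (Over.mk φ)) ⟶ tgt p M :=
  (p.over x).toPresheafFiber (Over.mk φ) ⟨v, h⟩ M.presheaf ≫ Sigma.ι (fam p M) x

lemma inc_congr {V : C} (φ : V ⟶ U) (v : p.fiber.obj V) (x x' : p.fiber.obj U) (h : p.fiber.map φ v = x)
    (hx : x = x') : inc p M φ v x h = inc p M φ v x' (h.trans hx) := by
  subst hx
  rfl

lemma inc_res {V V' : C} (g : V' ⟶ V) (φ : V ⟶ U) (ψ : V' ⟶ U) (hg : g ≫ φ = ψ) (v' : p.fiber.obj V')
    (x : p.fiber.obj U) (h' : p.fiber.map ψ v' = x) (h : p.fiber.map φ (p.fiber.map g v') = x) :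
    M.presheaf.map (Over.homMk (U := Over.mk ψ) (V := Over.mk φ) g hg).op ≫ inc p M ψ v' x h' =
      inc p M φ (p.fiber.map g v') x h := by
  unfold inc
  rw [← Category.assoc]
  congr 1
  exact (p.over x).toPresheafFiber_w (Over.homMk (U := Over.mk ψ) (V := Over.mk φ) g hg) ⟨v', h'⟩ M.presheaf

/-- the map from the sections of `j_! M` over a neighbourhood to the coproduct of stalks -/
noncomputable def toTgtApp (V : C) (v : p.fiber.obj V) : (shriekAb M).obj (op V) ⟶ tgt p M :=
  AddCommGrpCat.ofHom (DirectSum.toAddMonoid fun φ : V ⟶ U => (inc p M φ v _ rfl).hom)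

lemma toTgtApp_of (V : C) (v : p.fiber.obj V) (φ : V ⟶ U) (m : summand M φ) :
    (toTgtApp p M V v).hom (DirectSum.of (fun ψ : V ⟶ U => summand M ψ) φ m) = (inc p M φ v _ rfl).hom m :=
  DirectSum.toAddMonoid_of _ φ m

lemma toTgtApp_naturality {V V' : C} (g : V' ⟶ V) (v' : p.fiber.obj V') :
    (shriekAb M).map g.op ≫ toTgtApp p M V' v' = toTgtApp p M V (p.fiber.map g v') := by
  apply AddCommGrpCat.hom_ext
  apply DirectSum.addHom_ext
  intro φ m
  have hx : p.fiber.map (g ≫ φ) v' = p.fiber.map φ (p.fiber.map g v') := by simp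
  have h1 : (toTgtApp p M V' v').hom (resMap M g (DirectSum.of _ φ m)) =
      (inc p M (g ≫ φ) v' _ rfl).hom (resS M g rfl m) := by
    rw [resMap_of]
    exact toTgtApp_of p M V' v' (g ≫ φ) _
  have h2 := inc_res p M g φ (g ≫ φ) rfl v' _ (rfl.trans hx) rfl
  have h3 : (inc p M (g ≫ φ) v' _ rfl).hom (resS M g rfl m) =
      (inc p M φ (p.fiber.map g v') _ rfl).hom m := by
    rw [inc_congr p M (g ≫ φ) v' _ _ rfl hx]
    exact congrArg (fun (k : M.presheaf.obj (op (Over.mk φ)) ⟶ tgt p M) => k.hom m) h2
  exact h1.trans (h3.trans (toTgtApp_of p M V (p.fiber.map g v') φ m).symm)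

/-- the map from the stalk of `j_! M` to the coproduct of stalks -/
noncomputable def toTgt : p.presheafFiber.obj (shriekAb M) ⟶ tgt p M :=
  p.presheafFiberDesc (fun V v => toTgtApp p M V v) (fun _ _ g v' => toTgtApp_naturality p M g v')

/-- the map from a section of `M` over `W` to the stalk of `j_! M` -/
noncomputable def fromApp (W : Over U) (w : p.fiber.obj W.left) :
    M.presheaf.obj (op W) ⟶ p.presheafFiber.obj (shriekAb M) :=
  (AddCommGrpCat.ofHom (DirectSum.of (fun ψ : W.left ⟶ U => summand M ψ) W.hom) :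
    M.presheaf.obj (op W) ⟶ (shriekAb M).obj (op W.left)) ≫ p.toPresheafFiber W.left w (shriekAb M)

lemma fromApp_naturality {W W' : Over U} (f : W' ⟶ W) (w' : p.fiber.obj W'.left) :
    M.presheaf.map f.op ≫ fromApp p M W' w' = fromApp p M W (p.fiber.map f.left w') := by
  have h1 : M.presheaf.map f.op ≫ (AddCommGrpCat.ofHom (DirectSum.of (fun ψ : W'.left ⟶ U => summand M ψ) W'.hom) :
      M.presheaf.obj (op W') ⟶ (shriekAb M).obj (op W'.left)) =
      (AddCommGrpCat.ofHom (DirectSum.of (fun ψ : W.left ⟶ U => summand M ψ) W.hom) :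
        M.presheaf.obj (op W) ⟶ (shriekAb M).obj (op W.left)) ≫ (shriekAb M).map f.left.op := by
    apply AddCommGrpCat.hom_ext
    apply AddMonoidHom.ext
    intro m
    change DirectSum.of (fun ψ : W'.left ⟶ U => summand M ψ) W'.hom ((M.presheaf.map f.op).hom m) =
      resMap M f.left (DirectSum.of (fun ψ : W.left ⟶ U => summand M ψ) W.hom m)
    rw [resMap_of' M f.left (Over.w f)]
    rfl
  unfold fromApp
  rw [← p.toPresheafFiber_w f.left w' (shriekAb M)]
  exact (Category.assoc _ _ _).symm.trans ((congrArg (· ≫ p.toPresheafFiber W'.left w' (shriekAb M)) h1).trans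
    (Category.assoc _ _ _))

/-- the map from the stalk at the point over `x` to the stalk of `j_! M` -/
noncomputable def fromFam (x : p.fiber.obj U) : fam p M x ⟶ p.presheafFiber.obj (shriekAb M) :=
  (p.over x).presheafFiberDesc (fun W w => fromApp p M W w.1)
    (fun _ _ f w' => fromApp_naturality p M f w'.1)

/-- the map from the coproduct of stalks to the stalk of `j_! M` -/
noncomputable def fromTgt : tgt p M ⟶ p.presheafFiber.obj (shriekAb M) :=
  Sigma.desc (fromFam p M)

lemma germ_toTgt (V : C) (v : p.fiber.obj V) :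
    p.toPresheafFiber V v (shriekAb M) ≫ toTgt p M = toTgtApp p M V v :=
  p.toPresheafFiber_presheafFiberDesc (fun V v => toTgtApp p M V v)
    (fun _ _ g v' => toTgtApp_naturality p M g v') V v

lemma germ_fromFam (x : p.fiber.obj U) (W : Over U) (w : (p.over x).fiber.obj W) :
    (p.over x).toPresheafFiber W w M.presheaf ≫ fromFam p M x = fromApp p M W w.1 :=
  (p.over x).toPresheafFiber_presheafFiberDesc (fun W w => fromApp p M W w.1)
    (fun _ _ f w' => fromApp_naturality p M f w'.1) W w

lemma ι_fromTgt (x : p.fiber.obj U) : Sigma.ι (fam p M) x ≫ fromTgt p M = fromFam p M x :=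
  Sigma.ι_desc _ _

lemma toTgt_fromTgt : toTgt p M ≫ fromTgt p M = 𝟙 _ := by
  apply p.presheafFiber_hom_ext
  intro V v
  rw [Category.comp_id, ← Category.assoc, germ_toTgt]
  apply AddCommGrpCat.hom_ext
  apply DirectSum.addHom_ext
  intro φ m
  have h1 : (toTgtApp p M V v ≫ fromTgt p M).hom (DirectSum.of _ φ m) =
      (fromTgt p M).hom ((inc p M φ v _ rfl).hom m) :=
    congrArg (fromTgt p M).hom (toTgtApp_of p M V v φ m)
  refine h1.trans ?_
  have h2 : inc p M φ v _ rfl ≫ fromTgt p M = fromApp p M (Over.mk φ) v := by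
    unfold inc
    rw [Category.assoc, ι_fromTgt]
    exact germ_fromFam p M (p.fiber.map φ v) (Over.mk φ) ⟨v, rfl⟩
  exact congrArg (fun (k : M.presheaf.obj (op (Over.mk φ)) ⟶ p.presheafFiber.obj (shriekAb M)) => k.hom m) h2

lemma fromTgt_toTgt : fromTgt p M ≫ toTgt p M = 𝟙 _ := by
  apply Sigma.hom_ext
  intro x
  rw [Category.comp_id, ← Category.assoc, ι_fromTgt]
  apply (p.over x).presheafFiber_hom_ext
  intro W w
  rw [← Category.assoc, germ_fromFam]
  have h0 : fromApp p M W w.1 ≫ toTgt p M =
      (AddCommGrpCat.ofHom (DirectSum.of (fun ψ : W.left ⟶ U => summand M ψ) W.hom) :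
        M.presheaf.obj (op W) ⟶ (shriekAb M).obj (op W.left)) ≫ toTgtApp p M W.left w.1 := by
    unfold fromApp
    exact (Category.assoc _ _ _).trans (congrArg (fun k => (AddCommGrpCat.ofHom
      (DirectSum.of (fun ψ : W.left ⟶ U => summand M ψ) W.hom) :
        M.presheaf.obj (op W) ⟶ (shriekAb M).obj (op W.left)) ≫ k) (germ_toTgt p M W.left w.1))
  rw [h0]
  apply AddCommGrpCat.hom_ext
  apply AddMonoidHom.ext
  intro m
  have h1 : (toTgtApp p M W.left w.1).hom (DirectSum.of (fun ψ : W.left ⟶ U => summand M ψ) W.hom m) =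
      (inc p M W.hom w.1 _ rfl).hom m := toTgtApp_of p M W.left w.1 W.hom m
  refine h1.trans ?_
  rw [inc_congr p M W.hom w.1 _ x rfl w.2]
  rfl

/-- the stalk of the presheaf `j_! M` is the coproduct of the stalks of `M` at the points over `p` -/
noncomputable def fiberShriekIso : p.presheafFiber.obj (shriekAb M) ≅ tgt p M where
  hom := toTgt p M
  inv := fromTgt p M
  hom_inv_id := toTgt_fromTgt p M
  inv_hom_id := fromTgt_toTgt p M

section Site

open ModSite Groth.Agent.Lib.ModShriek

variable (O : Sheaf J CommRingCat.{u}) (U : C) (G : Mod (O.over U))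

/-- the stalk of `j_! G` at `p` is the coproduct of the stalks of `G` at the points over `p` -/
noncomputable def stalkExtZeroIso :
    stalkAb p ((extZero O U).obj G) ≅ ∐ fun x : p.fiber.obj U => stalkAb (p.over x) G :=
  p.sheafFiber.mapIso ((SheafOfModules.toSheaf (ringSh O)).mapIso
      ((pullbackIsoShriekSh J (ringSh O) U).app G)) ≪≫
    (p.presheafToSheafCompSheafFiberIso AddCommGrpCat.{u}).app
      (shriekAb (R := (ringSh O).obj) (X := U) G.val) ≪≫
    fiberShriekIso p (R := (ringSh O).obj) (U := U) G.val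

end Site

end Groth.Agent.Lib.ModSiteShriekStalk
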