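/-
helper11: keystone ModSiteTensor, part E8.  Epimorphisms of modules are locally surjective on sections; maps out of the
restriction to `C/W` of a finite free module.
-/
import Groth.Agent.Lib.ModSiteLocFactor
import Groth.Agent.Lib.ModStalk
import Mathlib.CategoryTheory.Sites.EpiMono

universe u
open CategoryTheory Opposite Limits MonoidalCategory

namespace Groth.Agent.Lib.ModSiteSliceFree

open Groth.Agent.Lib.ModSiteUnitSec Groth.Agent.Lib.ModSiteEqCrit Groth.Agent.Lib.ModSiteFinFree
  Groth.Agent.Lib.ModSiteLocFactor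

variable {C : Type u} [SmallCategory C] {J : GrothendieckTopology C} (O : Sheaf J CommRingCat.{u})

/-- an epimorphism of modules is locally surjective on sections -/
lemma exists_local_lift_of_epi {G F : ModSite.Mod O} (p : G ⟶ F) [Epi p] {V : C} (x : ModSite.sect F V) :
    ∃ R ∈ J V, ∀ ⦃W : C⦄ (g : W ⟶ V), R g →
      ∃ y : ModSite.sect G W, p.val.app (op W) y = F.val.map g.op x := by
  have h1 : Epi ((SheafOfModules.toSheaf.{u} (ModSite.ringSh O)).map p) :=
    Groth.Agent.Lib.ModStalk.epi_toSheaf_map _ p
  have h2 : Sheaf.IsLocallySurjective ((SheafOfModules.toSheaf.{u} (ModSite.ringSh O)).map p) :=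
    (Sheaf.isLocallySurjective_iff_epi' _ _).2 h1
  have h3 := Presheaf.imageSieve_mem J ((SheafOfModules.toSheaf.{u} (ModSite.ringSh O)).map p).hom x
  refine ⟨_, h3, fun W g hg => ?_⟩
  obtain ⟨y, hy⟩ := hg
  exact ⟨y, hy⟩

section Slice

variable (W : C) {I : Type u} [Fintype I]

/-- the restriction to `C/W` of a finite free module is the coproduct of copies of the unit -/
noncomputable def isColimitRestrFree :
    IsColimit ((ModSite.restr O W).mapCocone (SheafOfModules.freeCofan (R := ModSite.ringSh O) I)) :=
  isColimitOfPreserves (ModSite.restr O W) (SheafOfModules.isColimitFreeCofan I)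

/-- maps out of the restriction of a finite free module, from sections over `W` -/
noncomputable def sliceDesc {N' : ModSite.Mod (O.over W)} (y : I → N'.val.obj (op (Over.mk (𝟙 W)))) :
    (ModSite.restr O W).obj (fr O I) ⟶ N' :=
  (isColimitRestrFree O W).desc
    { pt := N'
      ι := Discrete.natTrans (fun i => (unitEquiv O W N').symm (y i.as)) }

lemma restrU_inj_sliceDesc {N' : ModSite.Mod (O.over W)} (y : I → N'.val.obj (op (Over.mk (𝟙 W))))
    (i : I) : restrU O W (inj O i) ≫ sliceDesc O W y = (unitEquiv O W N').symm (y i) :=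
  (isColimitRestrFree O W).fac _ ⟨i⟩

lemma sliceDesc_app_basis {N' : ModSite.Mod (O.over W)} (y : I → N'.val.obj (op (Over.mk (𝟙 W))))
    (i : I) : (sliceDesc O W y).val.app (op (Over.mk (𝟙 W)))
      (sec O (inj O i) W : ModSite.sect (fr O I) W) = y i := by
  have h3 : sec (O.over W) (restrU O W (inj O i) ≫ sliceDesc O W y) (Over.mk (𝟙 W)) =
      (sliceDesc O W y).val.app (op (Over.mk (𝟙 W)))
        (sec O (inj O i) W : ModSite.sect (fr O I) W) := rfl
  rw [← h3, restrU_inj_sliceDesc]
  exact sec_unitEquiv_symm O W (M' := N') (y i)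

/-- maps out of the restriction of a finite free module are determined by the images of the basis sections -/
lemma slice_hom_ext {N' : ModSite.Mod (O.over W)} {f g : (ModSite.restr O W).obj (fr O I) ⟶ N'}
    (h : ∀ i, f.val.app (op (Over.mk (𝟙 W))) (sec O (inj O i) W : ModSite.sect (fr O I) W) =
      g.val.app (op (Over.mk (𝟙 W))) (sec O (inj O i) W : ModSite.sect (fr O I) W)) : f = g := by
  apply (isColimitRestrFree O W).hom_ext
  rintro ⟨i⟩
  change restrU O W (inj O i) ≫ f = restrU O W (inj O i) ≫ g
  apply (unitEquiv O W N').injective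
  exact h i

end Slice

end Groth.Agent.Lib.ModSiteSliceFree
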