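import Groth.Prelude.Def_ModSite2
import Mathlib.RingTheory.Flat.EquationalCriterion
import Groth.Agent.Lib.ModSiteEqCritSlice

/-!
# Stalks of flat modules on a ringed site are flat

Via the Mathlib equational criterion `Module.Flat.of_forall_isTrivialRelation` and the sheaf-level equational criterion
`ModSiteEqCrit.eqCrit_elt`.
-/

set_option autoImplicit false
universe u
open CategoryTheory CategoryTheory.Limits Opposite

namespace Groth.Agent.Lib.ModSiteStalkFlat

variable {C : Type u} [SmallCategory C] {J : GrothendieckTopology C}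

section Point

variable (p : GrothendieckTopology.Point.{u} J)
variable {A : Type (u+1)} [Category.{u} A] [HasColimitsOfSize.{u, u} A]
  {FC : A → A → Type u} {CC : A → Type u} [∀ (X Y : A), FunLike (FC X Y) (CC X) (CC Y)]
  [ConcreteCategory.{u} A FC] [PreservesFilteredColimitsOfSize.{u, u} (forget A)]

omit [PreservesFilteredColimitsOfSize.{u, u} (forget A)] in
/-- transport a germ along a morphism of neighbourhoods -/
theorem germ_transport (P : Cᵒᵖ ⥤ A) {X Y : C} (g : Y ⟶ X) (y : p.fiber.obj Y) (x : p.fiber.obj X)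
    (h : p.fiber.map g y = x) (z : ToType (P.obj (op X))) :
    p.toPresheafFiber Y y P (P.map g.op z) = p.toPresheafFiber X x P z := by
  subst h
  exact p.toPresheafFiber_w_apply g y P z

/-- a finite family of elements of a fibre is represented over a common neighbourhood refining a given one -/
theorem exists_common_nbhd (P : Cᵒᵖ ⥤ A) (X₀ : C) (x₀ : p.fiber.obj X₀) {ι : Type} [Finite ι]
    (z : ι → ToType (p.presheafFiber.obj P)) :
    ∃ (X : C) (x : p.fiber.obj X) (g : X ⟶ X₀) (_ : p.fiber.map g x = x₀) (z₀ : ι → ToType (P.obj (op X))),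
      ∀ i, p.toPresheafFiber X x P (z₀ i) = z i := by
  classical
  have := Fintype.ofFinite ι
  choose Xi xi zi hzi using fun i => p.toPresheafFiber_jointly_surjective (P := P) (z i)
  obtain ⟨W, hW⟩ := IsCofiltered.inf_objs_exists
    (insert (Functor.elementsMk p.fiber X₀ x₀) (Finset.univ.image (fun i => Functor.elementsMk p.fiber (Xi i) (xi i))))
  have h0 : Nonempty (W ⟶ Functor.elementsMk p.fiber X₀ x₀) := hW (Finset.mem_insert_self _ _)
  have hi : ∀ i, Nonempty (W ⟶ Functor.elementsMk p.fiber (Xi i) (xi i)) := fun i =>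
    hW (Finset.mem_insert_of_mem (Finset.mem_image_of_mem _ (Finset.mem_univ i)))
  obtain ⟨g0⟩ := h0
  let gi : ∀ i, W ⟶ Functor.elementsMk p.fiber (Xi i) (xi i) := fun i => (hi i).some
  refine ⟨W.1, W.2, g0.1, g0.2, fun i => P.map (gi i).1.op (zi i), fun i => ?_⟩
  exact (germ_transport p P (gi i).1 W.2 (xi i) (gi i).2 (zi i)).trans (hzi i)

end Point

open ModSite

variable (p : GrothendieckTopology.Point.{u} J) {O : Sheaf J CommRingCat.{u}}

theorem germ_map (F : Mod O) {X Y : C} (g : Y ⟶ X) (y : p.fiber.obj Y) (x : p.fiber.obj X)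
    (h : p.fiber.map g y = x) (s : sect F X) :
    germ p F Y y (F.val.map g.op s) = germ p F X x s :=
  germ_transport p (toAb F).obj g y x h s

theorem germRing_map {X Y : C} (g : Y ⟶ X) (y : p.fiber.obj Y) (x : p.fiber.obj X)
    (h : p.fiber.map g y = x) (r : O.obj.obj (op X)) :
    germRing p Y y ((O.obj.map g.op).hom r) = germRing p X x r :=
  germ_transport p O.obj g y x h r

theorem germ_sum (F : Mod O) (X : C) (x : p.fiber.obj X) {ι : Type*} (t : Finset ι) (s : ι → sect F X) :
    germ p F X x (∑ i ∈ t, s i) = ∑ i ∈ t, germ p F X x (s i) :=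
  map_sum (p.toPresheafFiber X x (toAb F).obj).hom s t

theorem germ_zero (F : Mod O) (X : C) (x : p.fiber.obj X) :
    germ p F X x (0 : sect F X) = 0 :=
  map_zero (p.toPresheafFiber X x (toAb F).obj).hom

theorem germRing_sum (X : C) (x : p.fiber.obj X) {ι : Type*} (t : Finset ι) (r : ι → O.obj.obj (op X)) :
    germRing p X x (∑ i ∈ t, r i) = ∑ i ∈ t, germRing p X x (r i) :=
  map_sum (p.toPresheafFiber X x O.obj).hom r t

theorem germRing_mul (X : C) (x : p.fiber.obj X) (r r' : O.obj.obj (op X)) :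
    germRing p X x (r * r') = germRing p X x r * germRing p X x r' :=
  map_mul (p.toPresheafFiber X x O.obj).hom r r'

theorem germRing_zero (X : C) (x : p.fiber.obj X) :
    germRing p X x (0 : O.obj.obj (op X)) = 0 :=
  map_zero (p.toPresheafFiber X x O.obj).hom

theorem germ_eq_zero_iff (F : Mod O) (X : C) (x : p.fiber.obj X) (s : sect F X) (h : germ p F X x s = 0) :
    ∃ (Y : C) (g : Y ⟶ X) (y : p.fiber.obj Y), p.fiber.map g y = x ∧ F.val.map g.op s = 0 := by
  have h' : p.toPresheafFiber X x (toAb F).obj s = p.toPresheafFiber X x (toAb F).obj (0 : sect F X) :=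
    h.trans (germ_zero p F X x).symm
  obtain ⟨Y, g, y, hy, hg⟩ := (p.toPresheafFiber_eq_iff' (P := (toAb F).obj) X x s (0 : sect F X)).1 h'
  exact ⟨Y, g, y, hy, hg.trans (map_zero _)⟩

end Groth.Agent.Lib.ModSiteStalkFlat

namespace Groth.Agent.Lib.ModSiteStalkFlat

open ModSite Groth.Agent.Lib.ModSiteEqCrit

variable {C : Type u} [SmallCategory C] {J : GrothendieckTopology C}
variable (p : GrothendieckTopology.Point.{u} J) {O : Sheaf J CommRingCat.{u}}

/-- stalks of a flat module are flat -/
theorem flat_stalk (F : Mod O) (hF : IsFlat F) : Module.Flat (stalkRing p O) (stalkMod p F) := by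
  refine Module.Flat.of_forall_isTrivialRelation (R := stalkRing p O) (M := stalkMod p F) ?_
  intro l f x hfx
  -- a base neighbourhood
  obtain ⟨X₀, x₀, -, -⟩ := p.toPresheafFiber_jointly_surjective (P := O.obj) (0 : stalkRing p O)
  obtain ⟨X₁, x₁, g₁, hg₁, f₀, hf₀⟩ := exists_common_nbhd p O.obj X₀ x₀ f
  obtain ⟨X, x', g₂, hg₂, s₀, hs₀⟩ := exists_common_nbhd p (toAb F).obj X₁ x₁ x
  -- the relation over `X`
  have hrel0 : germ p F X x' (∑ i, (O.obj.map g₂.op).hom (f₀ i) • (show sect F X from s₀ i)) = 0 := by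
    rw [germ_sum]
    refine Eq.trans (Finset.sum_congr rfl fun i _ => ?_) hfx
    rw [germ_smul, germRing_map p g₂ x' x₁ hg₂]
    exact congrArg₂ (fun (a : stalkRing p O) (b : stalkAb p F) => a • b) (hf₀ i) (hs₀ i)
  obtain ⟨Y, g, y, hy, hrel⟩ := germ_eq_zero_iff p F X x' _ hrel0
  -- sections over `Y`
  let fY : Fin l → O.obj.obj (op Y) := fun i => (O.obj.map g.op).hom ((O.obj.map g₂.op).hom (f₀ i))
  let sY : Fin l → sect F Y := fun i => F.val.map g.op (show sect F X from s₀ i)
  have hfY : ∀ i, germRing p Y y (fY i) = f i := fun i =>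
    (germRing_map p g y x' hy _).trans ((germRing_map p g₂ x' x₁ hg₂ _).trans (hf₀ i))
  have hsY : ∀ i, germ p F Y y (sY i) = x i := fun i =>
    (germ_map p F g y x' hy _).trans (hs₀ i)
  have hrelY : ∀ _ : Fin 1, ∑ i, fY i • sY i = 0 := by
    intro _
    rw [map_sum] at hrel
    refine Eq.trans (Finset.sum_congr rfl fun i _ => ?_) hrel
    exact (F.val.map_smul g.op _ _).symm
  obtain ⟨S, hS, hcrit⟩ := eqCrit_elt O F hF Y (fun _ i => fY i) sY hrelY
  obtain ⟨W, h, hSh, w, hw⟩ := p.jointly_surjective S hS y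
  obtain ⟨k, t, a, h1, h2⟩ := hcrit h hSh
  refine ⟨k, fun i j => germRing p W w (a i j), fun j => germ p F W w (t j), fun i => ?_, fun j => ?_⟩
  · rw [← hsY i, ← germ_map p F h w y hw (sY i), h1 i, germ_sum]
    exact Finset.sum_congr rfl fun j _ => germ_smul p F W w _ _
  · have h3 := h2 0 j
    have h4 : germRing p W w (∑ i, a i j * (O.obj.map h.op).hom (fY i)) = 0 := by
      rw [h3]; exact germRing_zero p W w
    rw [germRing_sum] at h4
    refine Eq.trans (Finset.sum_congr rfl fun i _ => ?_) h4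
    rw [germRing_mul, germRing_map p h w y hw, hfY i]
    exact mul_comm _ _

end Groth.Agent.Lib.ModSiteStalkFlat
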