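import Groth.Agent.Lib.ModSiteStalkFlat
import Groth.Agent.Lib.ModSiteTensorW
import Groth.Agent.Lib.ModSiteFlat
import Mathlib.CategoryTheory.Sites.Point.Conservative

/-!
# Stalkwise flat modules on a ringed site with a conservative family of points are flat
-/

set_option autoImplicit false
universe u
open CategoryTheory CategoryTheory.Limits Opposite MonoidalCategory TensorProduct

namespace Groth.Agent.Lib.ModSiteStalkFlat

open ModSite Groth.Agent.Lib.ModSiteTensorW

variable {C : Type u} [SmallCategory C] {J : GrothendieckTopology C}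
variable (p : GrothendieckTopology.Point.{u} J)

/-- refine a neighbourhood so that finitely many local properties hold simultaneously -/
theorem exists_nbhd_forall {κ : Type*} [Finite κ] (X : C) (x : p.fiber.obj X)
    (Φ : κ → ∀ ⦃Y : C⦄, (Y ⟶ X) → Prop)
    (hmono : ∀ l ⦃Y Z : C⦄ (g : Y ⟶ X) (h : Z ⟶ Y), Φ l g → Φ l (h ≫ g))
    (hex : ∀ l, ∃ (Y : C) (g : Y ⟶ X) (y : p.fiber.obj Y), p.fiber.map g y = x ∧ Φ l g) :
    ∃ (Y : C) (g : Y ⟶ X) (y : p.fiber.obj Y), p.fiber.map g y = x ∧ ∀ l, Φ l g := by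
  classical
  have := Fintype.ofFinite κ
  suffices H : ∀ s : Finset κ, ∃ (Y : C) (g : Y ⟶ X) (y : p.fiber.obj Y),
      p.fiber.map g y = x ∧ ∀ l ∈ s, Φ l g by
    obtain ⟨Y, g, y, hy, h⟩ := H Finset.univ
    exact ⟨Y, g, y, hy, fun l => h l (Finset.mem_univ l)⟩
  intro s
  induction s using Finset.induction_on with
  | empty => exact ⟨X, 𝟙 X, x, by simp, fun l hl => absurd hl (Finset.notMem_empty l)⟩
  | insert l₀ s _ ih =>
    obtain ⟨Y, g, y, hy, hΦ⟩ := ih
    obtain ⟨Y₀, g₀, y₀, hy₀, hΦ₀⟩ := hex l₀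
    let eX : p.fiber.Elements := ⟨X, x⟩
    let eY : p.fiber.Elements := ⟨Y, y⟩
    let eY₀ : p.fiber.Elements := ⟨Y₀, y₀⟩
    let gE : eY ⟶ eX := ⟨g, hy⟩
    let g₀E : eY₀ ⟶ eX := ⟨g₀, hy₀⟩
    let a := IsCofiltered.minToLeft eY eY₀
    let b := IsCofiltered.minToRight eY eY₀
    let e := IsCofiltered.eqHom (a ≫ gE) (b ≫ g₀E)
    have hc : e ≫ (a ≫ gE) = e ≫ (b ≫ g₀E) := IsCofiltered.eq_condition _ _
    have hc' : (e ≫ a).1 ≫ g = (e ≫ b).1 ≫ g₀ := by
      have := congrArg Subtype.val hc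
      simpa using this
    refine ⟨(IsCofiltered.eq (a ≫ gE) (b ≫ g₀E)).1, (e ≫ a).1 ≫ g, (IsCofiltered.eq (a ≫ gE) (b ≫ g₀E)).2,
      ?_, fun l hl => ?_⟩
    · have h1 : ((e ≫ a) ≫ gE).1 = (e ≫ a).1 ≫ g := rfl
      rw [← h1]
      exact ((e ≫ a) ≫ gE).2
    · rcases Finset.mem_insert.1 hl with rfl | hl
      · rw [hc']
        exact hmono _ g₀ _ hΦ₀
      · exact hmono _ g _ (hΦ l hl)

section Generic

variable {A : Type (u+1)} [Category.{u} A] [HasColimitsOfSize.{u, u} A]
  {FC : A → A → Type u} {CC : A → Type u} [∀ (X Y : A), FunLike (FC X Y) (CC X) (CC Y)]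
  [ConcreteCategory.{u} A FC] [PreservesFilteredColimitsOfSize.{u, u} (forget A)]

/-- a finite family (any universe) of elements of a fibre is represented over a common neighbourhood refining a
given one -/
theorem exists_common_nbhd' (P : Cᵒᵖ ⥤ A) (X₀ : C) (x₀ : p.fiber.obj X₀) {ι : Type*} [Finite ι]
    (z : ι → ToType (p.presheafFiber.obj P)) :
    ∃ (X : C) (x : p.fiber.obj X) (g : X ⟶ X₀) (_ : p.fiber.map g x = x₀) (z₀ : ι → ToType (P.obj (op X))),
      ∀ i, p.toPresheafFiber X x P (z₀ i) = z i := by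
  classical
  have := Fintype.ofFinite ι
  choose Xi xi zi hzi using fun i => p.toPresheafFiber_jointly_surjective (P := P) (z i)
  obtain ⟨W, hW⟩ := IsCofiltered.inf_objs_exists
    (insert (Functor.elementsMk p.fiber X₀ x₀) (Finset.univ.image (fun i => Functor.elementsMk p.fiber (Xi i) (xi i))))
  have h0 : Nonempty (W ⟶ Functor.elementsMk p.fiber X₀ x₀) := hW (Finset.mem_insert_self _ _)
  have hi : ∀ i, Nonempty (W ⟶ Functor.elementsMk p.fiber (Xi i) (xi i)) := fun i =>
    hW (Finset.mem_insert_of_mem (Finset.mem_image_of_mem _ (Finset.mem_univ i)))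
  obtain ⟨g0⟩ := h0
  let gi : ∀ i, W ⟶ Functor.elementsMk p.fiber (Xi i) (xi i) := fun i => (hi i).some
  refine ⟨W.1, W.2, g0.1, g0.2, fun i => P.map (gi i).1.op (zi i), fun i => ?_⟩
  exact (germ_transport p P (gi i).1 W.2 (xi i) (gi i).2 (zi i)).trans (hzi i)

end Generic

variable {O : Sheaf J CommRingCat.{u}}

/-- the underlying presheaf of modules, over the presheaf of commutative rings -/
abbrev pm (A : Mod O) : PM O.obj := A.val

/-- the underlying morphism of presheaves of modules -/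
abbrev pmMap {A B : Mod O} (i : A ⟶ B) : @Quiver.Hom (PM O.obj) _ (pm A) (pm B) := i.val

theorem germ_add (F : Mod O) (X : C) (x : p.fiber.obj X) (s s' : sect F X) :
    germ p F X x (s + s') = germ p F X x s + germ p F X x s' :=
  map_add (p.toPresheafFiber X x (toAb F).obj).hom s s'

theorem germ_res (F : Mod O) {X Y : C} (g : Y ⟶ X) (y : p.fiber.obj Y) (x : p.fiber.obj X)
    (h : p.fiber.map g y = x) (s : (pm F).obj (op X)) :
    germ p F Y y (res (pm F) g s) = germ p F X x s :=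
  germ_map p F g y x h s

theorem germRing_resR {X Y : C} (g : Y ⟶ X) (y : p.fiber.obj Y) (x : p.fiber.obj X)
    (h : p.fiber.map g y = x) (r : O.obj.obj (op X)) :
    germRing p Y y (resR g r) = germRing p X x r :=
  germRing_map p g y x h r

theorem stalkMap_germ {A B : Mod O} (i : A ⟶ B) (X : C) (x : p.fiber.obj X) (s : sect A X) :
    (stalkMap p i).hom (germ p A X x s) = germ p B X x ((i.val.app (op X)).hom s) :=
  p.toPresheafFiber_naturality_apply ((SheafOfModules.toSheaf (ringSh O)).map i).hom X x s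

/-- the canonical additive map `A(X) ⊗_{O(X)} F(X) → A_p ⊗_{O_p} F_p` -/
noncomputable def toStalkTensor (A F : Mod O) (X : C) (x : p.fiber.obj X) :
    (↑((pm A).obj (op X)) ⊗[↑(O.obj.obj (op X))] ↑((pm F).obj (op X))) →+
      (stalkAb p A ⊗[stalkRing p O] stalkAb p F) :=
  TensorProduct.liftAddHom
    (AddMonoidHom.mk' (fun a => AddMonoidHom.mk' (fun q => germ p A X x a ⊗ₜ[stalkRing p O] germ p F X x q)
        (fun q q' => by rw [germ_add, tmul_add]))
      (fun a a' => by
        ext q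
        change germ p A X x (a + a') ⊗ₜ[stalkRing p O] germ p F X x q = _
        rw [germ_add, add_tmul]
        rfl))
    (fun r a q => by
      change germ p A X x (r • a) ⊗ₜ[stalkRing p O] germ p F X x q =
        germ p A X x a ⊗ₜ[stalkRing p O] germ p F X x (r • q)
      rw [germ_smul, germ_smul, smul_tmul])

lemma toStalkTensor_tmul (A F : Mod O) (X : C) (x : p.fiber.obj X)
    (a : (pm A).obj (op X)) (q : (pm F).obj (op X)) :
    toStalkTensor p A F X x (a ⊗ₜ q) = germ p A X x a ⊗ₜ[stalkRing p O] germ p F X x q := rfl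

/-- germs of sections of a presheaf of abelian groups -/
theorem fiber_eq_zero (G : Cᵒᵖ ⥤ AddCommGrpCat.{u}) (X : C) (x : p.fiber.obj X) (s : G.obj (op X))
    (h : p.toPresheafFiber X x G s = 0) :
    ∃ (Y : C) (g : Y ⟶ X) (y : p.fiber.obj Y), p.fiber.map g y = x ∧ G.map g.op s = 0 := by
  have h' : p.toPresheafFiber X x G s = p.toPresheafFiber X x G (0 : G.obj (op X)) :=
    h.trans (map_zero (p.toPresheafFiber X x G).hom).symm
  obtain ⟨Y, g, y, hy, hg⟩ := (p.toPresheafFiber_eq_iff' (P := G) X x s (0 : G.obj (op X))).1 h'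
  exact ⟨Y, g, y, hy, hg.trans (map_zero _)⟩

theorem fiber_whiskerRight_core {A B : Mod O} (i : A ⟶ B) (F : Mod O)
    (hi : Function.Injective (stalkMap p i).hom)
    (hF : Module.Flat (stalkRing p O) (stalkMod p F))
    (V : C) (v : p.fiber.obj V) (t : (pm A ⊗ pm F).obj (op V))
    (ht : (pmMap i ▷ pm F).app (op V) t = 0) :
    p.toPresheafFiber V v (pm A ⊗ pm F).presheaf t = 0 := by
  classical
  obtain ⟨S, hS⟩ := TensorProduct.exists_finset (R := ↑(O.obj.obj (op V))) (M := ↑((pm A).obj (op V)))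
    (N := ↑((pm F).obj (op V))) t
  let a : S → (pm A).obj (op V) := fun l => l.1.1
  let q : S → (pm F).obj (op V) := fun l => l.1.2
  have htsum : t = ∑ l : S, (a l ⊗ₜ q l : ↑((pm A ⊗ pm F).obj (op V))) :=
    hS.trans (Finset.sum_coe_sort S (fun l => l.1 ⊗ₜ[↑(O.obj.obj (op V))] l.2)).symm
  have h0 : (∑ l : S, ((pmMap i).app (op V) (a l)) ⊗ₜ[↑(O.obj.obj (op V))] q l :
      ↑((pm B).obj (op V)) ⊗[↑(O.obj.obj (op V))] ↑((pm F).obj (op V))) = 0 :=
    (whiskerRight_app_tsum (pmMap i) (pm F) a q).symm.trans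
      ((congrArg (fun s => (pmMap i ▷ pm F).app (op V) s) htsum.symm).trans ht)
  -- pass to stalks
  have h1 : ∑ l : S, germ p B V v ((pmMap i).app (op V) (a l)) ⊗ₜ[stalkRing p O] germ p F V v (q l) = 0 := by
    have := congrArg (toStalkTensor p B F V v) h0
    rw [map_sum, map_zero] at this
    exact this
  have h2 : ∑ l : S, germ p A V v (a l) ⊗ₜ[stalkRing p O] germ p F V v (q l) = 0 := by
    apply Module.Flat.rTensor_preserves_injective_linearMap (M := stalkMod p F) (stalkMap p i).hom hi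
    rw [map_sum, map_zero]
    simp only [LinearMap.rTensor_tmul]
    refine Eq.trans (Finset.sum_congr rfl fun l _ => ?_) h1
    exact congrArg (fun w => w ⊗ₜ[stalkRing p O] germ p F V v (q l)) (stalkMap_germ p i V v (a l))
  obtain ⟨κ, _, g, k, c, y, h₁, h₂⟩ := exists_vanishesTrivially_of_sum_tmul_eq_zero
    (A := stalkRing p O) (fun l => germ p A V v (a l)) (fun l => germ p F V v (q l)) h2
  -- lift `g`, `c`, `y`
  obtain ⟨V₁, v₁, j₁, hj₁, gt, hgt⟩ := exists_common_nbhd' p (toAb A).obj V v g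
  obtain ⟨V₂, v₂, j₂, hj₂, ct, hct⟩ := exists_common_nbhd' p O.obj V₁ v₁
    (fun lj : (S ⊕ κ) × Fin k => c lj.1 lj.2)
  obtain ⟨W₀, w₀, j₃, hj₃, yt, hyt⟩ := exists_common_nbhd' p (toAb F).obj V₂ v₂ y
  have hj₃₂ : p.fiber.map (j₃ ≫ j₂) w₀ = v₁ := by simp [hj₂, hj₃]
  have hj₀ : p.fiber.map (j₃ ≫ j₂ ≫ j₁) w₀ = v := by simp [hj₁, hj₂, hj₃]
  let m₀ : S ⊕ κ → (pm A).obj (op W₀) :=
    Sum.elim (fun l => res (pm A) (j₃ ≫ j₂ ≫ j₁) (a l)) (fun l => res (pm A) (j₃ ≫ j₂) (gt l))
  let n₀ : S ⊕ κ → (pm F).obj (op W₀) :=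
    Sum.elim (fun l => res (pm F) (j₃ ≫ j₂ ≫ j₁) (q l)) (fun _ => 0)
  let c₀ : S ⊕ κ → Fin k → O.obj.obj (op W₀) := fun l j => resR j₃ (ct (l, j))
  have hm₀ : ∀ l, germ p A W₀ w₀ (m₀ l) = Sum.elim (fun l => germ p A V v (a l)) g l := by
    rintro (l | l)
    · exact germ_res p A _ w₀ v hj₀ (a l)
    · exact (germ_res p A _ w₀ v₁ hj₃₂ (gt l)).trans (hgt l)
  have hn₀ : ∀ l, germ p F W₀ w₀ (n₀ l) =
      Sum.elim (fun l => germ p F V v (q l)) (fun _ => (0 : stalkAb p F)) l := by
    rintro (l | l)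
    · exact germ_res p F _ w₀ v hj₀ (q l)
    · exact germ_zero p F W₀ w₀
  have hc₀ : ∀ l j, germRing p W₀ w₀ (c₀ l j) = c l j := fun l j =>
    (germRing_resR p j₃ w₀ v₂ hj₃ _).trans (hct (l, j))
  have hy₀ : ∀ j, germ p F W₀ w₀ (yt j) = y j := hyt
  have E1 : ∀ l, germ p F W₀ w₀ (n₀ l) = germ p F W₀ w₀ (∑ j, c₀ l j • (show sect F W₀ from yt j)) := by
    intro l
    rw [hn₀, h₁ l, germ_sum]
    refine Finset.sum_congr rfl fun j _ => ?_
    rw [germ_smul, hc₀, hy₀]
  have E2 : ∀ j, germ p A W₀ w₀ (∑ l, c₀ l j • (show sect A W₀ from m₀ l)) = 0 := by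
    intro j
    rw [germ_sum, ← h₂ j]
    refine Finset.sum_congr rfl fun l _ => ?_
    rw [germ_smul, hc₀, hm₀]
  -- the equations hold on a smaller neighbourhood
  obtain ⟨W, jW, w, hw, hall⟩ := exists_nbhd_forall p (κ := (S ⊕ κ) ⊕ Fin k) W₀ w₀
    (fun e Y g => Sum.elim
      (fun l => res (pm F) g (n₀ l) = res (pm F) g (∑ j, c₀ l j • (show sect F W₀ from yt j)))
      (fun j => res (pm A) g (∑ l, c₀ l j • (show sect A W₀ from m₀ l)) = 0) e)
    (by
      rintro (l | j) Y Z g h hΦ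
      · change res (pm F) (h ≫ g) _ = res (pm F) (h ≫ g) _
        change res (pm F) g _ = res (pm F) g _ at hΦ
        rw [← res_res, ← res_res, hΦ]
      · change res (pm A) (h ≫ g) _ = 0
        change res (pm A) g _ = 0 at hΦ
        rw [← res_res, hΦ, res_zero])
    (by
      rintro (l | j)
      · obtain ⟨Y, g, y', hy', hg⟩ := (p.toPresheafFiber_eq_iff' (P := (toAb F).obj) W₀ w₀ _ _).1 (E1 l)
        exact ⟨Y, g, y', hy', hg⟩
      · obtain ⟨Y, g, y', hy', hg⟩ := germ_eq_zero_iff p A W₀ w₀ _ (E2 j)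
        exact ⟨Y, g, y', hy', hg⟩)
  -- on `W` everything vanishes trivially
  let mW : S ⊕ κ → (pm A).obj (op W) := fun l => res (pm A) jW (m₀ l)
  let nW : S ⊕ κ → (pm F).obj (op W) := fun l => res (pm F) jW (n₀ l)
  have hvan : VanishesTrivially (↑(O.obj.obj (op W))) mW nW := by
    refine ⟨k, fun l j => resR jW (c₀ l j), fun j => res (pm F) jW (yt j), fun l => ?_, fun j => ?_⟩
    · have h3 : res (pm F) jW (n₀ l) = res (pm F) jW (∑ j, c₀ l j • (show sect F W₀ from yt j)) :=
        hall (Sum.inl l)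
      refine h3.trans ?_
      rw [res_sum]
      exact Finset.sum_congr rfl fun j _ => res_smul _ _ _
    · have h3 : res (pm A) jW (∑ l, c₀ l j • (show sect A W₀ from m₀ l)) = 0 := hall (Sum.inr j)
      rw [← h3, res_sum]
      exact Finset.sum_congr rfl fun l _ => (res_smul _ _ _).symm
  have hsum := sum_tmul_eq_zero_of_vanishesTrivially _ hvan
  rw [Fintype.sum_sum_type] at hsum
  have hκ : ∑ l : κ, mW (Sum.inr l) ⊗ₜ[↑(O.obj.obj (op W))] nW (Sum.inr l) = 0 := by
    refine Finset.sum_eq_zero fun l _ => ?_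
    change _ ⊗ₜ res (pm F) _ 0 = _
    rw [res_zero, tmul_zero]
  rw [hκ, add_zero] at hsum
  -- conclude
  have hres : res (pm A ⊗ pm F) jW (res (pm A ⊗ pm F) (j₃ ≫ j₂ ≫ j₁) t) = 0 := by
    rw [htsum]
    refine (congrArg (res (pm A ⊗ pm F) jW) (res_tsum _ a q)).trans ?_
    exact (res_tsum jW _ _).trans hsum
  have hg1 : p.toPresheafFiber V v (pm A ⊗ pm F).presheaf t =
      p.toPresheafFiber W w (pm A ⊗ pm F).presheaf
        (res (pm A ⊗ pm F) jW (res (pm A ⊗ pm F) (j₃ ≫ j₂ ≫ j₁) t)) :=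
    ((germ_transport p (pm A ⊗ pm F).presheaf (j₃ ≫ j₂ ≫ j₁) w₀ v hj₀ t).symm).trans
      (germ_transport p (pm A ⊗ pm F).presheaf jW w w₀ hw _).symm
  rw [hg1, hres]
  exact map_zero _

theorem fiber_whiskerRight_injective {A B : Mod O} (i : A ⟶ B) (F : Mod O)
    (hi : Function.Injective (stalkMap p i).hom)
    (hF : Module.Flat (stalkRing p O) (stalkMod p F)) :
    Function.Injective
      (p.presheafFiber.map ((PresheafOfModules.toPresheaf _).map
        (pmMap i ▷ pm F))).hom := by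
  classical
  rw [injective_iff_map_eq_zero]
  intro z hz
  obtain ⟨U, u, t, rfl⟩ := p.toPresheafFiber_jointly_surjective (P := (pm A ⊗ pm F).presheaf) z
  have hz' : p.toPresheafFiber U u (pm B ⊗ pm F).presheaf
      ((pmMap i ▷ pm F).app (op U) t) = 0 :=
    (p.toPresheafFiber_naturality_apply ((PresheafOfModules.toPresheaf _).map
        (pmMap i ▷ pm F)) U u t).symm.trans hz
  obtain ⟨V, jV, v, hv, hV⟩ := fiber_eq_zero p _ U u _ hz'
  have ht : (pmMap i ▷ pm F).app (op V) (res (pm A ⊗ pm F) jV t) = 0 :=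
    (app_res (pmMap i ▷ pm F) jV t).trans hV
  have := fiber_whiskerRight_core p i F hi hF V v _ ht
  exact (germ_transport p (pm A ⊗ pm F).presheaf jV v u hv t).symm.trans this

section Conservative

variable (P : ObjectProperty (GrothendieckTopology.Point.{u} J)) (hP : P.IsConservativeFamilyOfPoints)

include hP in
/-- with a conservative family of points: a morphism of presheaves of abelian groups which is injective on the
fibres has a monomorphism as sheafification -/
theorem mono_presheafToSheaf_map_of_fiber_injective {G G' : Cᵒᵖ ⥤ AddCommGrpCat.{u}} (g : G ⟶ G')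
    (h : ∀ Φ : GrothendieckTopology.Point.{u} J, P Φ → Function.Injective (Φ.presheafFiber.map g).hom) :
    Mono ((presheafToSheaf J AddCommGrpCat.{u}).map g) := by
  have hJ := hP.jointlyReflectMonomorphisms AddCommGrpCat.{u}
  have : ∀ Φ : P.FullSubcategory,
      Mono (Φ.obj.sheafFiber.map ((presheafToSheaf J AddCommGrpCat.{u}).map g)) := by
    intro Φ
    have h1 : Mono (Φ.obj.presheafFiber.map g) :=
      (AddCommGrpCat.mono_iff_injective _).2 (h Φ.obj Φ.property)
    exact ((MorphismProperty.monomorphisms _).arrow_mk_iso_iff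
      (((Functor.mapArrowFunctor _ _).mapIso
        (Φ.obj.presheafToSheafCompSheafFiberIso AddCommGrpCat.{u})).app (Arrow.mk g))).2 h1
  exact hJ.mono _

include hP in
theorem mono_sheafify_map_of_fiber_injective {M N : PM O.obj} (g : M ⟶ N)
    (h : ∀ Φ : GrothendieckTopology.Point.{u} J, P Φ →
      Function.Injective (Φ.presheafFiber.map ((PresheafOfModules.toPresheaf _).map g)).hom) :
    Mono ((sheafify O).map g) := by
  have h1 : Mono ((SheafOfModules.toSheaf (ringSh O)).map ((sheafify O).map g)) :=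
    mono_presheafToSheaf_map_of_fiber_injective P hP ((PresheafOfModules.toPresheaf _).map g) h
  exact Functor.mono_of_mono_map (SheafOfModules.toSheaf (ringSh O)) h1

theorem stalkMap_injective_of_mono (p : GrothendieckTopology.Point.{u} J) {A B : Mod O} (i : A ⟶ B) [Mono i] :
    Function.Injective (stalkMap p i).hom := by
  have h1 : Mono ((SheafOfModules.toSheaf (ringSh O)).map i) := inferInstance
  have h2 : Mono ((p.sheafFiber (A := AddCommGrpCat.{u})).map ((SheafOfModules.toSheaf (ringSh O)).map i)) :=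
    inferInstance
  exact (AddCommGrpCat.mono_iff_injective _).1 h2

include hP in
/-- with a conservative family of points, a stalkwise flat module is flat -/
theorem isFlat_of_flat_stalks (F : Mod O)
    (hF : ∀ Φ : GrothendieckTopology.Point.{u} J, P Φ → Module.Flat (stalkRing Φ O) (stalkMod Φ F)) :
    IsFlat F := by
  rw [Groth.Agent.Lib.ModSiteFlat.isFlat_iff_preservesMono_flip]
  constructor
  intro A B i hi
  have h0 : ((tensorBi O).flip.obj F).map i = (sheafify O).map (pmMap i ▷ pm F) := rfl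
  rw [h0]
  refine mono_sheafify_map_of_fiber_injective P hP _ (fun Φ hΦ => ?_)
  exact fiber_whiskerRight_injective Φ i F (stalkMap_injective_of_mono Φ i) (hF Φ hΦ)

end Conservative

end Groth.Agent.Lib.ModSiteStalkFlat
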