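/-
helper11: keystone ModSiteTensor, part E9.  Ringed site with a terminal object `X`: summands of finite free modules vs
finite projective modules over `O(X)` (S9049).
-/
import Groth.Agent.Lib.ModSiteSliceFree

universe u
open CategoryTheory Opposite Limits MonoidalCategory

namespace Groth.Agent.Lib.ModSiteTerminal

open Groth.Agent.Lib.ModSiteUnitSec Groth.Agent.Lib.ModSiteEqCrit Groth.Agent.Lib.ModSiteFinFree
  Groth.Agent.Lib.ModSiteFreeOn

variable {C : Type u} [SmallCategory C] {J : GrothendieckTopology C} (O : Sheaf J CommRingCat.{u})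
  {X : C} (hX : IsTerminal X)

/-- maps out of the unit module are sections over the terminal object -/
noncomputable def unitEquivT (M : ModSite.Mod O) : (ModSite.unit O ⟶ M) ≃ ModSite.sect M X :=
  (SheafOfModules.unitHomEquiv M).trans (sectionsEquivOfIsInitial _ (initialOpOfTerminal hX))

lemma unitEquivT_apply {M : ModSite.Mod O} (x : ModSite.unit O ⟶ M) :
    unitEquivT O hX M x = sec O x X := rfl

lemma sec_unitEquivT_symm {M : ModSite.Mod O} (z : ModSite.sect M X) :
    sec O ((unitEquivT O hX M).symm z) X = z :=
  (unitEquivT O hX M).apply_symm_apply z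

variable {I : Type u}

/-- the basis sections of a free module over the terminal object -/
noncomputable def eT (i : I) : ModSite.sect (fr O I) X := sec O (inj O i) X

include hX in
lemma free_hom_ext_T {N : ModSite.Mod O} {f g : fr O I ⟶ N}
    (h : ∀ i, f.val.app (op X) (eT O i) = g.val.app (op X) (eT O i)) : f = g := by
  apply free_hom_ext
  intro i
  apply (unitEquivT O hX N).injective
  exact h i

/-- maps out of a free module from sections over the terminal object -/
noncomputable def freeDescT {N : ModSite.Mod O} (y : I → ModSite.sect N X) : fr O I ⟶ N :=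
  freeDesc O (fun i => (unitEquivT O hX N).symm (y i))

lemma freeDescT_app {N : ModSite.Mod O} (y : I → ModSite.sect N X) (i : I) :
    (freeDescT O hX y).val.app (op X) (eT O i) = y i := by
  have h : sec O (inj O i ≫ freeDescT O hX y) X = (freeDescT O hX y).val.app (op X) (eT O i) := rfl
  rw [← h]
  unfold freeDescT
  rw [inj_freeDesc]
  exact sec_unitEquivT_symm O hX (y i)


section Linear

variable [Fintype I] [DecidableEq I]

/-- the ring of global sections -/
abbrev RX (O : Sheaf J CommRingCat.{u}) (X : C) : Type u := (ModSite.ringSh O).obj.obj (op X)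

/-- coordinates of a section of a finite free module -/
noncomputable def coords : ModSite.sect (fr O I) X →ₗ[RX O X] (I → RX O X) :=
  LinearMap.pi (fun i => ((coord O i).val.app (op X)).hom)

/-- linear combinations of the basis sections -/
noncomputable def comb : (I → RX O X) →ₗ[RX O X] ModSite.sect (fr O I) X :=
  Fintype.linearCombination (RX O X) (fun i => eT O i)

lemma comb_apply (c : I → RX O X) : comb O (X := X) c = ∑ i, c i • eT O i := by
  unfold comb
  rw [Fintype.linearCombination_apply]

lemma comb_coords (y : ModSite.sect (fr O I) X) : comb O (coords O y) = y := by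
  rw [comb_apply]
  exact (free_decomp O y).symm

lemma coords_eT (i j : I) : coords O (X := X) (eT O i) j = if i = j then 1 else 0 := by
  change sec O (inj O i ≫ coord O j) X = _
  rw [inj_coord]
  split_ifs with h
  · rfl
  · rfl

lemma coords_comb (c : I → RX O X) : coords O (comb O (X := X) c) = c := by
  rw [comb_apply, map_sum]
  funext j
  rw [Finset.sum_apply, Finset.sum_eq_single j]
  · rw [map_smul, Pi.smul_apply, coords_eT, if_pos rfl, smul_eq_mul, mul_one]
  · intro i _ hne
    rw [map_smul, Pi.smul_apply, coords_eT, if_neg hne, smul_zero]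
  · intro h
    exact absurd (Finset.mem_univ j) h

include hX in
/-- a morphism out of a finite free module is determined by, and can be prescribed by, its map on sections over
the terminal object -/
theorem bijective_app_free (E' : ModSite.Mod O) :
    Function.Bijective (fun φ : fr O I ⟶ E' => φ.val.app (op X)) := by
  constructor
  · intro φ φ' h
    apply free_hom_ext_T O hX
    intro i
    exact congrArg (fun k => k (eT O i)) h
  · intro f
    refine ⟨freeDescT O hX (fun i => f (eT O i)), ?_⟩
    apply ModuleCat.hom_ext
    apply LinearMap.ext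
    intro y
    have hy := comb_coords O y
    rw [comb_apply] at hy
    change (freeDescT O hX (fun i => f (eT O i))).val.app (op X) y = f y
    rw [← hy, map_sum, map_sum]
    refine Finset.sum_congr rfl (fun i _ => ?_)
    rw [map_smul, map_smul, freeDescT_app]

include hX in
/-- the same for a direct summand of a finite free module -/
theorem bijective_app_of_retract {E : ModSite.Mod O} (E' : ModSite.Mod O) (i : E ⟶ fr O I) (p : fr O I ⟶ E)
    (hip : i ≫ p = 𝟙 E) : Function.Bijective (fun φ : E ⟶ E' => φ.val.app (op X)) := by
  constructor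
  · intro φ φ' h
    have h1 : p ≫ φ = p ≫ φ' := by
      apply (bijective_app_free O hX E').1
      change p.val.app (op X) ≫ φ.val.app (op X) = p.val.app (op X) ≫ φ'.val.app (op X)
      exact congrArg (fun k => p.val.app (op X) ≫ k) h
    calc φ = (i ≫ p) ≫ φ := by rw [hip, Category.id_comp]
      _ = (i ≫ p) ≫ φ' := by rw [Category.assoc, h1, Category.assoc]
      _ = φ' := by rw [hip, Category.id_comp]
  · intro f
    obtain ⟨ψ, hψ⟩ := (bijective_app_free O hX E').2 (p.val.app (op X) ≫ f)
    refine ⟨i ≫ ψ, ?_⟩
    change i.val.app (op X) ≫ ψ.val.app (op X) = f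
    have hψ' : ψ.val.app (op X) = p.val.app (op X) ≫ f := hψ
    rw [hψ', ← Category.assoc]
    have h2 : i.val.app (op X) ≫ p.val.app (op X) = 𝟙 _ :=
      congrArg (fun k : E ⟶ E => k.val.app (op X)) hip
    rw [h2, Category.id_comp]

/-- sections over the terminal object of a summand of a finite free module are finite projective -/
theorem finite_projective_of_retract {E : ModSite.Mod O} (i : E ⟶ fr O I) (p : fr O I ⟶ E)
    (hip : i ≫ p = 𝟙 E) :
    Module.Finite (RX O X) (E.val.obj (op X)) ∧ Module.Projective (RX O X) (E.val.obj (op X)) := by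
  let i' : E.val.obj (op X) →ₗ[RX O X] (I → RX O X) := (coords O).comp (i.val.app (op X)).hom
  let s' : (I → RX O X) →ₗ[RX O X] E.val.obj (op X) := (p.val.app (op X)).hom.comp (comb O)
  have h : s'.comp i' = LinearMap.id := by
    apply LinearMap.ext
    intro y
    change p.val.app (op X) (comb O (coords O (i.val.app (op X) y))) = y
    rw [comb_coords]
    exact congrArg (fun k : E ⟶ E => k.val.app (op X) y) hip
  refine ⟨?_, Module.Projective.of_split i' s' h⟩
  apply Module.Finite.of_surjective s'
  intro y
  exact ⟨i' y, congrArg (fun k => k y) h⟩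

end Linear

include hX in
/-- every finite projective module over the ring of global sections comes from a summand of a finite free module -/
theorem exists_of_finite_projective (M : ModuleCat.{u} (RX O X)) [Module.Finite (RX O X) M]
    [Module.Projective (RX O X) M] :
    ∃ E : ModSite.Mod O, (∃ (n : ℕ) (i : E ⟶ fr O (ULift.{u} (Fin n))) (p : fr O (ULift.{u} (Fin n)) ⟶ E),
      i ≫ p = 𝟙 E) ∧ Nonempty (E.val.obj (op X) ≅ M) := by
  classical
  obtain ⟨n, f, g, _, _, hfg⟩ := Module.Finite.exists_comp_eq_id_of_projective (RX O X) M
  let θ : (ULift.{u} (Fin n) → RX O X) ≃ₗ[RX O X] (Fin n → RX O X) :=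
    LinearEquiv.funCongrLeft (RX O X) (RX O X) Equiv.ulift.symm
  let f' : (ULift.{u} (Fin n) → RX O X) →ₗ[RX O X] M := f.comp θ.toLinearMap
  let g' : M →ₗ[RX O X] (ULift.{u} (Fin n) → RX O X) := θ.symm.toLinearMap.comp g
  have hfg' : ∀ m, f' (g' m) = m := by
    intro m
    change f (θ (θ.symm (g m))) = m
    rw [LinearEquiv.apply_symm_apply]
    exact congrArg (fun k => k m) hfg
  let e' : ModSite.sect (fr O (ULift.{u} (Fin n))) X →ₗ[RX O X] ModSite.sect (fr O (ULift.{u} (Fin n))) X :=
    (comb O).comp (g'.comp (f'.comp (coords O)))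
  have he' : ∀ y, e' (e' y) = e' y := by
    intro y
    change comb O (g' (f' (coords O (comb O (g' (f' (coords O y))))))) = comb O (g' (f' (coords O y)))
    rw [coords_comb, hfg']
  obtain ⟨ε, hε⟩ := (bijective_app_free O hX (fr O (ULift.{u} (Fin n)))).2 (ModuleCat.ofHom e')
  have hε' : ∀ y, ε.val.app (op X) y = e' y := fun y => congrArg (fun k => k y) hε
  have hεε : ε ≫ ε = ε := by
    apply (bijective_app_free O hX (fr O (ULift.{u} (Fin n)))).1
    apply ModuleCat.hom_ext
    apply LinearMap.ext
    intro y
    change ε.val.app (op X) (ε.val.app (op X) y) = ε.val.app (op X) y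
    rw [hε', hε', he']
  obtain ⟨E, i, p, hip, hpi⟩ := IsIdempotentComplete.idempotents_split (fr O (ULift.{u} (Fin n))) ε hεε
  refine ⟨E, ⟨n, i, p, hip⟩, ⟨LinearEquiv.toModuleIso
    { toFun := fun y => f' (coords O (i.val.app (op X) y))
      map_add' := fun y y' => by rw [map_add, map_add, map_add]
      map_smul' := fun c y => by rw [map_smul, map_smul, map_smul]; rfl
      invFun := fun m => p.val.app (op X) (comb O (g' m))
      left_inv := ?_
      right_inv := ?_ }⟩⟩
  · intro y
    change p.val.app (op X) (e' (i.val.app (op X) y)) = y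
    rw [← hε']
    have h1 : i ≫ ε ≫ p = 𝟙 E := by
      rw [← hpi, Category.assoc, hip, Category.comp_id, hip]
    exact congrArg (fun k : E ⟶ E => k.val.app (op X) y) h1
  · intro m
    have h1 : i.val.app (op X) (p.val.app (op X) (comb O (g' m))) = ε.val.app (op X) (comb O (g' m)) :=
      congrArg (fun k : fr O (ULift.{u} (Fin n)) ⟶ fr O (ULift.{u} (Fin n)) =>
        k.val.app (op X) (comb O (g' m))) hpi
    change f' (coords O (i.val.app (op X) (p.val.app (op X) (comb O (g' m))))) = m
    rw [h1, hε']
    change f' (coords O (comb O (g' (f' (coords O (comb O (g' m))))))) = m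
    rw [coords_comb, coords_comb, hfg', hfg']

end Groth.Agent.Lib.ModSiteTerminal
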