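import Groth.Agent.Lib.ModExt22b
import Groth.Agent.Lib.EtModStalk22a

/-!
# Subsheaves of constant étale sheaves of modules (helper22)

Module version of `EtSubLC22a`. For a monomorphism `ι : G ⟶ M̲` into a constant sheaf of
`Λ`-modules with Noetherian value:

* `NsubM ι V`: the submodule of those `m : M` whose constant section over `V` lies in `G`;
* `nonempty_iso_const_of_nsubM_eq`: if `NsubM ι V` does not depend on the nonempty `V`, then `G` is
  constant;
* `exists_restr_iso_constM`: in general `G` becomes constant on some nonempty étale `V`.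
-/

set_option autoImplicit false
set_option linter.style.haveILetI false
set_option linter.unusedSectionVars false
universe u

open CategoryTheory AlgebraicGeometry Limits MorphismProperty Opposite

namespace Groth.Agent.Lib.ModSubLC22

open Groth.Agent.Lib.ModConst22 Groth.Agent.Lib.EtOverSite22 Groth.Agent.Lib.EtLocConst22
  Groth.Agent.Lib.EtLCKer22 Groth.Agent.Lib.EtExt22 Groth.Agent.Lib.EtConst
  Groth.Agent.Lib.EtModStalk22

variable {Λ : Type (u + 1)} [CommRing Λ] {W : Scheme.{u}}

variable {G : EtModW.Mod Λ W} {M : MC.{u} Λ} (ι : G ⟶ constShM Λ W M)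

/-- the submodule of those `m` whose constant section over `V` lies in the subsheaf `G` -/
def NsubM (V : W.Etale) : Submodule Λ M where
  carrier := {m | ∃ s : EtModW.sect Λ G V, ι.hom.app (op V) s = constSecM M V m}
  zero_mem' := ⟨0, by rw [map_zero, map_zero]⟩
  add_mem' := by
    rintro a b ⟨s, hs⟩ ⟨t, ht⟩
    exact ⟨s + t, by rw [map_add, map_add, hs, ht]⟩
  smul_mem' := by
    rintro c a ⟨s, hs⟩
    exact ⟨c • s, by rw [map_smul, map_smul, hs]⟩

theorem mem_nsubM {V : W.Etale} {m : M} :
    m ∈ NsubM ι V ↔ ∃ s : EtModW.sect Λ G V, ι.hom.app (op V) s = constSecM M V m := Iff.rfl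

theorem nsubM_mono {V V' : W.Etale} (g : V' ⟶ V) : NsubM ι V ≤ NsubM ι V' := by
  rintro m ⟨s, hs⟩
  refine ⟨G.obj.map g.op s, ?_⟩
  rw [hom_resM ι g, hs, constSecM_res]

/-- If the submodule `NsubM ι V` is the same for all nonempty `V`, the subsheaf `G` is constant. -/
theorem nonempty_iso_const_of_nsubM_eq [Mono ι]
    (h : ∀ V : W.Etale, Nonempty V.left → NsubM ι V = NsubM ι (EtCoh.top W)) :
    Nonempty (G ≅ constShM Λ W (ModuleCat.of Λ ↥(NsubM ι (EtCoh.top W)))) := by
  let N₀ := NsubM ι (EtCoh.top W)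
  let N : MC.{u} Λ := ModuleCat.of Λ ↥N₀
  have hinj := app_injective_of_monoM ι
  have hsec : ∀ n : N₀, ∃ s : EtModW.sect Λ G (EtCoh.top W),
      ι.hom.app (op (EtCoh.top W)) s = constSecM M (EtCoh.top W) n.1 := fun n => n.2
  choose σ hσ using hsec
  let L : N →ₗ[Λ] EtModW.sect Λ G (EtCoh.top W) :=
    { toFun := σ
      map_add' := fun a b => by
        apply hinj (EtCoh.top W)
        rw [map_add, hσ, hσ, hσ, ← map_add]
        rfl
      map_smul' := fun c a => by
        apply hinj (EtCoh.top W)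
        rw [map_smul, hσ, hσ, ← map_smul]
        rfl }
  let φ : constShM Λ W N ⟶ G := constDescM G L
  let incl : N ⟶ M := ModuleCat.ofHom N₀.subtype
  have hφ : ∀ (U : W.Etale) (n : N), ι.hom.app (op U) (φ.hom.app (op U) (constSecM N U n)) =
      constSecM M U (incl n) := by
    intro U n
    rw [constDescM_constSecM, hom_resM ι (toTop U)]
    show (constShM Λ W M).obj.map (toTop U).op (ι.hom.app (op (EtCoh.top W)) (σ n)) = _
    rw [hσ, constSecM_res]
    rfl
  have hcomp : φ ≫ ι = (constantSheaf W.smallEtaleTopology (MC.{u} Λ)).map incl := by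
    apply const_hom_extM
    intro U n
    exact (hφ U n).trans (constSecM_map incl U n).symm
  haveI : Mono incl := (ModuleCat.mono_iff_injective _).2 Subtype.val_injective
  haveI : Mono ((constantSheaf W.smallEtaleTopology (MC.{u} Λ)).map incl) := inferInstance
  haveI : Mono (φ ≫ ι) := by rw [hcomp]; infer_instance
  haveI : Mono φ := mono_of_mono φ ι
  haveI : Epi φ := by
    rw [← Sheaf.isLocallySurjective_iff_epi' (φ := φ)]
    refine ⟨fun {U} s => ?_⟩
    rw [Groth.Agent.Lib.EtPushEpi39.mem_smallEtale_iff]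
    intro x
    obtain ⟨V, g, m, ⟨z, hz⟩, hm⟩ := exists_constSecM_eq_pt M (ι.hom.app (op U) s) x
    have hm' : ι.hom.app (op V) (G.obj.map g.op s) = constSecM M V m := by
      rw [hom_resM ι g]; exact hm
    have hmN : m ∈ N₀ := by
      show m ∈ NsubM ι (EtCoh.top W)
      rw [← h V ⟨z⟩]
      exact ⟨_, hm'⟩
    refine ⟨V, g, z, ⟨constSecM N V ⟨m, hmN⟩, ?_⟩, hz⟩
    apply hinj V
    exact (hφ V ⟨m, hmN⟩).trans hm'.symm
  haveI : IsIso φ := isIso_of_mono_of_epi φ
  exact ⟨(asIso φ).symm⟩

theorem mono_of_app_injectiveM {T : Scheme.{u}} {F F' : EtModW.Mod Λ T} (θ : F ⟶ F')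
    (h : ∀ V : T.Etale, Function.Injective (θ.hom.app (op V))) : Mono θ := by
  haveI : ∀ V : T.Etaleᵒᵖ, Mono (θ.hom.app V) := fun V =>
    (ModuleCat.mono_iff_injective _).2 (h V.unop)
  haveI : Mono θ.hom := NatTrans.mono_of_mono_app θ.hom
  exact (sheafToPresheaf T.smallEtaleTopology (MC.{u} Λ)).mono_of_mono_map
    (show Mono θ.hom from inferInstance)

/-- A subsheaf of a constant sheaf with Noetherian value becomes constant (with finitely generated
value) on some nonempty étale `V`. -/
theorem exists_restr_iso_constM [Mono ι] [IsNoetherian Λ M] [Nonempty W] :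
    ∃ (V : W.Etale) (N : MC.{u} Λ), Nonempty V.left ∧ Module.Finite Λ N ∧
      Nonempty ((restrAlongA V (MC.{u} Λ)).obj G ≅ constShM Λ V.left N) := by
  classical
  -- choose `V` nonempty with `NsubM ι V` maximal
  let S : Set (Submodule Λ M) := {N | ∃ V : W.Etale, Nonempty V.left ∧ NsubM ι V = N}
  have hne : S.Nonempty := ⟨_, EtCoh.top W, (inferInstance : Nonempty W), rfl⟩
  haveI : WellFoundedGT (Submodule Λ M) := isNoetherian_iff'.1 inferInstance
  obtain ⟨N₁, ⟨V, hV, rfl⟩, hmax⟩ := (wellFounded_gt (α := Submodule Λ M)).has_min S hne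
  have heq : ∀ (V' : W.Etale) (_ : V' ⟶ V), Nonempty V'.left → NsubM ι V' = NsubM ι V := by
    intro V' g hV'
    have hle := nsubM_mono ι g
    have hnot := hmax (NsubM ι V') ⟨V', hV', rfl⟩
    exact (eq_of_le_of_not_lt hle hnot).symm
  -- the restricted monomorphism
  let R := restrAlongA V (MC.{u} Λ)
  let e := restrConstIsoM V M
  let ι' : R.obj G ⟶ constShM Λ V.left M := R.map ι ≫ e.hom
  have hinj := app_injective_of_monoM ι
  have heinj : ∀ V' : V.left.Etale, Function.Injective (e.hom.hom.app (op V')) := by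
    intro V' a b hab
    have h1 := congrArg (fun t => e.inv.hom.app (op V') t) hab
    have h2 : ∀ t, e.inv.hom.app (op V') (e.hom.hom.app (op V') t) = t := fun t => by
      have h3 : e.hom ≫ e.inv = 𝟙 _ := e.hom_inv_id
      have h4 := congrArg (fun θ => θ.hom.app (op V') t) h3
      exact h4
    simpa only [h2] using h1
  haveI : Mono ι' := by
    apply mono_of_app_injectiveM
    intro V' a b hab
    exact hinj _ (heinj V' hab)
  have hN' : ∀ V' : V.left.Etale, Nonempty V'.left → NsubM ι' V' = NsubM ι V := by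
    intro V' hV'
    have hV'' : Nonempty ((EtShriek.compEtale (homX V)).obj V').left := hV'
    rw [← heq _ (strHom V V') hV'']
    ext m
    constructor
    · rintro ⟨s, hs⟩
      refine ⟨s, heinj V' ?_⟩
      rw [restrConstIsoM_hom_constSecM]
      exact hs
    · rintro ⟨s, hs⟩
      refine ⟨s, ?_⟩
      show e.hom.hom.app (op V') (ι.hom.app (op ((EtShriek.compEtale (homX V)).obj V')) s) = _
      rw [hs, restrConstIsoM_hom_constSecM]
  have hVl : Nonempty (EtCoh.top V.left).left := hV
  obtain ⟨α⟩ := nonempty_iso_const_of_nsubM_eq ι' (fun V' hV' => by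
    rw [hN' V' hV', hN' _ hVl])
  refine ⟨V, _, hV, ?_, ⟨α⟩⟩
  show Module.Finite Λ ↥(NsubM ι' (EtCoh.top V.left))
  infer_instance

end Groth.Agent.Lib.ModSubLC22
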