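import Groth.Agent.Lib.ModSubLC22a

/-!
# Subsheaves of finite type locally constant sheaves of modules are generically locally constant
(helper22)

Module version of `EtSubLC22b`.
* `exists_open_isLC_of_monoM`: a subsheaf `G` of a finite type locally constant sheaf of modules
  over a Noetherian ring on a nonempty scheme `T` is finite type locally constant on some nonempty
  open of `T`.
-/

set_option autoImplicit false
set_option linter.style.haveILetI false
set_option linter.unusedSectionVars false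
universe u

open CategoryTheory AlgebraicGeometry Limits MorphismProperty Opposite

namespace Groth.Agent.Lib.ModSubLC22

open Groth.Agent.Lib.ModConst22 Groth.Agent.Lib.EtOverSite22 Groth.Agent.Lib.EtLocConst22
  Groth.Agent.Lib.EtLCKer22 Groth.Agent.Lib.EtExt22 Groth.Agent.Lib.EtConst
  Groth.Agent.Lib.EtModStalk22

variable {Λ : Type (u + 1)} [CommRing Λ] [IsNoetherianRing Λ] {T : Scheme.{u}}

/-- A subsheaf of a finite type locally constant sheaf on a nonempty scheme is finite type locally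
constant on some nonempty open subscheme. -/
theorem exists_open_isLC_of_monoM [Nonempty T] {F G : EtModW.Mod Λ T}
    (ι : G ⟶ F) [Mono ι] (hF : IsLC (MC.{u} Λ) (PFT Λ) F) :
    ∃ U : T.Opens, (U : Set T).Nonempty ∧
      IsLC (MC.{u} Λ) (PFT Λ) ((pullA (MC.{u} Λ) U.ι).obj G) := by
  obtain ⟨κ, W, hW, h⟩ := exists_restr_iso_of_isLCM hF
  obtain ⟨t⟩ := (inferInstance : Nonempty T)
  obtain ⟨i, y, hy⟩ := hW t
  obtain ⟨M, hM, ⟨α⟩⟩ := h i
  haveI : Module.Finite Λ M := hM
  haveI : IsNoetherian Λ M := isNoetherian_of_isNoetherianRing_of_finite Λ M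
  let R := restrAlongA (W i) (MC.{u} Λ)
  let ι' : R.obj G ⟶ constShM Λ (W i).left M := R.map ι ≫ α.hom
  haveI : Mono (R.map ι) := by
    apply mono_of_app_injectiveM
    intro V
    exact app_injective_of_monoM ι _
  haveI : Mono ι' := mono_comp _ _
  haveI : Nonempty (W i).left := ⟨y⟩
  obtain ⟨V, N, hV, hN, ⟨β⟩⟩ := exists_restr_iso_constM ι'
  obtain ⟨v⟩ := hV
  let j : V.left ⟶ T := V.hom ≫ (W i).hom
  haveI : Etale j := by
    haveI : Etale V.hom := V.prop
    haveI : Etale (W i).hom := (W i).prop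
    infer_instance
  let U : T.Opens := ⟨Set.range j, j.isOpenMap.isOpen_range⟩
  let l : V.left ⟶ (U : Scheme.{u}) := IsOpenImmersion.lift U.ι j (by
    rw [Scheme.Opens.range_ι]; exact subset_rfl)
  have hl : l ≫ U.ι = j := IsOpenImmersion.lift_fac _ _ _
  haveI : Etale l := EtCoh.etaleMP.of_postcomp (W' := EtCoh.etaleMP) l U.ι inferInstance (by
    rw [hl]; infer_instance)
  refine ⟨U, ⟨j v, v, rfl⟩, ?_⟩
  -- the single-member cover `l : V.left ⟶ U`
  let J : (U : Scheme.{u}).Etale := Scheme.Etale.mk l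
  have hcov : EtCoh.Covers (fun _ : PUnit.{u + 1} => J) := by
    intro x
    obtain ⟨z, hz⟩ : U.ι x ∈ Set.range j := x.2
    refine ⟨PUnit.unit, z, ?_⟩
    apply U.ι.injective
    have h1 : U.ι (l z) = j z := by
      rw [← Scheme.Hom.comp_apply, hl]
    exact h1.trans hz
  refine IsLC.of_cover (fun _ : PUnit.{u + 1} => J) hcov fun _ => ?_
  have h0 : IsLC (MC.{u} Λ) (PFT Λ) (constShM Λ V.left N) := isLC_constM N hN
  -- `l^* (U.ι^* G) ≅ j^* G ≅ V.hom^* ((W i).hom^* G) ≅ N̲`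
  have e1 : (pullA (MC.{u} Λ) (homX J)).obj ((pullA (MC.{u} Λ) U.ι).obj G) ≅
      (pullA (MC.{u} Λ) (l ≫ U.ι)).obj G := ((pullCompA (MC.{u} Λ) l U.ι).app G).symm
  have e2 : (pullA (MC.{u} Λ) (l ≫ U.ι)).obj G ≅
      (pullA (MC.{u} Λ) (V.hom ≫ (W i).hom)).obj G :=
    (pullCongrA (MC.{u} Λ) hl).app G
  have e3 : (pullA (MC.{u} Λ) (V.hom ≫ (W i).hom)).obj G ≅
      (pullA (MC.{u} Λ) V.hom).obj ((pullA (MC.{u} Λ) (W i).hom).obj G) :=
    (pullCompA (MC.{u} Λ) V.hom (W i).hom).app G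
  have e4 : (pullA (MC.{u} Λ) (W i).hom).obj G ≅ R.obj G :=
    (pullIsoRestrA (MC.{u} Λ) (W i)).app G
  have e5 : (pullA (MC.{u} Λ) V.hom).obj (R.obj G) ≅
      (restrAlongA V (MC.{u} Λ)).obj (R.obj G) :=
    (pullIsoRestrA (MC.{u} Λ) V).app (R.obj G)
  exact h0.of_iso (e1 ≪≫ e2 ≪≫ e3 ≪≫ (pullA (MC.{u} Λ) V.hom).mapIso e4 ≪≫ e5 ≪≫ β).symm

end Groth.Agent.Lib.ModSubLC22
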