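import Groth.Agent.Lib.ModSubLC22b
import Groth.Agent.Lib.EtConstr22k
import Groth.Agent.Lib.EtConstrKer22
import Groth.Agent.Lib.EtConstr22h

/-!
# Subsheaves and quotients of constructible sheaves of modules on Noetherian schemes (helper22)

Module version of `EtSubLC22c` (Noetherian coefficient ring `Λ`).
* `isConstructibleMod_ker_coker`: kernels and cokernels of constructible sheaves of modules;
* `isConstructibleMod_of_mono`, `isConstructibleMod_of_epi`: on a locally Noetherian scheme,
  subsheaves and quotients of constructible sheaves of modules are constructible;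
* `isConstructibleMod_of_ext`.
-/

set_option autoImplicit false
set_option linter.style.haveILetI false
set_option linter.unusedSectionVars false
universe u

open CategoryTheory AlgebraicGeometry Limits MorphismProperty Opposite Topology

namespace Groth.Agent.Lib.ModSubLC22

open Groth.Agent.Lib.ModConst22 Groth.Agent.Lib.EtOverSite22 Groth.Agent.Lib.EtLocConst22
  Groth.Agent.Lib.EtLCKer22 Groth.Agent.Lib.EtExt22 Groth.Agent.Lib.EtConst
  Groth.Agent.Lib.EtModStalk22 Groth.Agent.Lib.EtConstr22

variable {Λ : Type (u + 1)} [CommRing Λ] [IsNoetherianRing Λ]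

instance preservesFiniteLimits_pullAM {T X : Scheme.{u}} (g : T ⟶ X) :
    PreservesFiniteLimits (pullA (MC.{u} Λ) g) :=
  Groth.Agent.Lib.EtModPullExact22.preservesFiniteLimits_pullMod (Λ := Λ) g

instance preservesFiniteColimits_pullAM {T X : Scheme.{u}} (g : T ⟶ X) :
    PreservesFiniteColimits (pullA (MC.{u} Λ) g) := by
  haveI : PreservesColimitsOfSize.{0, 0} (pullA (MC.{u} Λ) g) :=
    (pullPushAdjA (MC.{u} Λ) g).leftAdjoint_preservesColimits
  exact PreservesColimitsOfSize.preservesFiniteColimits _

instance additive_pullAM {T X : Scheme.{u}} (g : T ⟶ X) : (pullA (MC.{u} Λ) g).Additive :=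
  Functor.additive_of_preserves_binary_products _

/-- Kernel and cokernel of a morphism of constructible sheaves of modules are constructible. -/
theorem isConstructibleMod_ker_coker {X : Scheme.{u}} {F G : EtModW.Mod Λ X} (φ : F ⟶ G)
    (hF : EtModW.IsConstructible Λ F) (hG : EtModW.IsConstructible Λ G) :
    EtModW.IsConstructible Λ (kernel φ) ∧ EtModW.IsConstructible Λ (cokernel φ) := by
  have hF' := (isConstructibleMod_iff Λ F).1 hF
  have hG' := (isConstructibleMod_iff Λ G).1 hG
  constructor
  · refine (isConstructibleMod_iff Λ _).2 (IsConstructibleA.of_pair hF' hG' fun T g h1 h2 => ?_)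
    let p := pullA (MC.{u} Λ) g
    have e1 : p.obj (kernel φ) ≅ kernel (p.map φ) := PreservesKernel.iso p φ
    exact (isLC_ker_cokerM (p.map φ) h1 h2).1.of_iso e1.symm
  · refine (isConstructibleMod_iff Λ _).2 (IsConstructibleA.of_pair hF' hG' fun T g h1 h2 => ?_)
    let p := pullA (MC.{u} Λ) g
    have e1 : p.obj (cokernel φ) ≅ cokernel (p.map φ) := PreservesCokernel.iso p φ
    exact (isLC_ker_cokerM (p.map φ) h1 h2).2.of_iso e1.symm

/-- On a locally Noetherian scheme, a subsheaf of a constructible sheaf of modules is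
constructible. -/
theorem isConstructibleMod_of_mono {X : Scheme.{u}} [IsLocallyNoetherian X]
    {F G : EtModW.Mod Λ X} (ι : G ⟶ F) [Mono ι] (hF : EtModW.IsConstructible Λ F) :
    EtModW.IsConstructible Λ G := by
  rw [isConstructibleMod_iff, isConstructibleA_iff_closure_nhds] at hF ⊢
  intro x
  obtain ⟨V, T, g, hg, hxV, hr, hLC⟩ := hF x
  haveI := hg
  have hxr : x ∈ Set.range g := by
    rw [hr]; exact ⟨hxV, subset_closure rfl⟩
  obtain ⟨t, ht⟩ := hxr
  haveI : Nonempty T := ⟨t⟩
  let p := pullA (MC.{u} Λ) g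
  haveI : Mono (p.map ι) := inferInstance
  obtain ⟨U, ⟨u, hu⟩, hU⟩ := exists_open_isLC_of_monoM (p.map ι) hLC
  obtain ⟨O, hO, hOU'⟩ := g.isEmbedding.isInducing.isOpen_iff.1 U.2
  have hOU : g ⁻¹' O = (U : Set T) := hOU'
  have hrange : Set.range (U.ι ≫ g) = (O ∩ V) ∩ closure {x} := by
    rw [Scheme.Hom.comp_base, TopCat.coe_comp, Set.range_comp, Scheme.Opens.range_ι]
    rw [← hOU, Set.image_preimage_eq_inter_range, hr, Set.inter_assoc]
  have hxO : x ∈ O := by
    have h1 : g u ∈ O := by
      have : u ∈ g ⁻¹' O := by rw [hOU]; exact hu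
      exact this
    have h2 : g u ∈ closure {x} := by
      have : g u ∈ Set.range g := ⟨u, rfl⟩
      rw [hr] at this
      exact this.2
    obtain ⟨z, hz1, hz2⟩ := mem_closure_iff.1 h2 O hO h1
    rw [Set.mem_singleton_iff.1 hz2] at hz1
    exact hz1
  refine ⟨⟨O, hO⟩ ⊓ V, (U : Scheme.{u}), U.ι ≫ g, inferInstance, ⟨hxO, hxV⟩, hrange, ?_⟩
  exact hU.of_iso ((pullCompA (MC.{u} Λ) U.ι g).app G).symm

/-- On a locally Noetherian scheme, a quotient of a constructible sheaf of modules is
constructible. -/
theorem isConstructibleMod_of_epi {X : Scheme.{u}} [IsLocallyNoetherian X]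
    {F Q : EtModW.Mod Λ X} (π : F ⟶ Q) [Epi π] (hF : EtModW.IsConstructible Λ F) :
    EtModW.IsConstructible Λ Q := by
  have hK := isConstructibleMod_of_mono (kernel.ι π) hF
  have h2 := (isConstructibleMod_ker_coker (kernel.ι π) hK hF).2
  have e : cokernel (kernel.ι π) ≅ Q :=
    (cokernelIsCokernel (kernel.ι π)).coconePointUniqueUpToIso
      (Abelian.epiIsCokernelOfKernel _ (limit.isLimit (parallelPair π 0)))
  exact isConstructibleMod_of_iso Λ e h2

/-- Extensions of constructible sheaves of modules are constructible. -/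
theorem isConstructibleMod_of_ext {X : Scheme.{u}} (S : ShortComplex (EtModW.Mod Λ X))
    (hS : S.ShortExact) (h1 : EtModW.IsConstructible Λ S.X₁)
    (h3 : EtModW.IsConstructible Λ S.X₃) : EtModW.IsConstructible Λ S.X₂ := by
  have h1' := (isConstructibleMod_iff Λ S.X₁).1 h1
  have h3' := (isConstructibleMod_iff Λ S.X₃).1 h3
  refine (isConstructibleMod_iff Λ _).2 (IsConstructibleA.of_pair h1' h3' fun T g k1 k3 => ?_)
  let p := pullA (MC.{u} Λ) g
  exact isLC_of_extM (S.map p) (hS.map_of_exact p) k1 k3

end Groth.Agent.Lib.ModSubLC22
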