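import Groth.Agent.Lib.ModSubLC22c
import Groth.Agent.Lib.EtModStalk22b

/-!
# Detecting isomorphisms of sheaves of modules on stalks and inverse images (helper22)

Module version of helper39's `EtAbStalk2` and of `EtSubLC22d`.
* `section_ext_of_forall_germM`;
* `mono_of_forall_exists_geomPtM`, `epi_of_forall_exists_geomPtM`, `isIso_of_forall_exists_geomPtM`;
* `isIso_of_isIso_pullM`: a morphism of sheaves of modules on `X` is an isomorphism as soon as every
  point of `X` lies in the range of some `g : T ⟶ X` with `g⁻¹ φ` an isomorphism.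
-/

set_option autoImplicit false
set_option linter.style.haveILetI false
set_option linter.unusedSectionVars false
universe u

open CategoryTheory AlgebraicGeometry Limits MorphismProperty Opposite Topology

namespace Groth.Agent.Lib.ModSubLC22

open Groth.Agent.Lib.ModConst22 Groth.Agent.Lib.EtOverSite22 Groth.Agent.Lib.EtLocConst22
  Groth.Agent.Lib.EtModStalk22 Groth.Agent.Lib.EtGerm Groth.Agent.Lib.EtStalkConservative

variable {Λ : Type (u + 1)} [CommRing Λ] {X : Scheme.{u}}

/-- Sections agreeing on germs at some geometric point over every point are equal. -/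
theorem section_ext_of_forall_germM (F : EtModW.Mod Λ X) {U : X.Etale}
    (s s' : EtModW.sect Λ F U)
    (h : ∀ u : U.left, ∃ (Ω : Type u) (_ : Field Ω) (_ : IsSepClosed Ω)
      (ξ : Spec (CommRingCat.of Ω) ⟶ X) (y : Nbhd ξ U), Nbhd.pt ξ y = u ∧
        germM ξ F y s = germM ξ F y s') : s = s' := by
  refine (Sheaf.isSeparated F) U
    (Sieve.mk (fun V (g : V ⟶ U) => F.obj.map g.op s = F.obj.map g.op s') ?_) ?_ s s' ?_
  · intro V W g hg k
    show F.obj.map (k ≫ g).op s = F.obj.map (k ≫ g).op s'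
    rw [op_comp, Functor.map_comp]
    exact congrArg (F.obj.map k.op) hg
  · rw [Groth.Agent.Lib.EtPushEpi39.mem_smallEtale_iff]
    intro u
    obtain ⟨Ω, _, _, ξ, y, hy, hg⟩ := h u
    obtain ⟨V, g, z, hz, hgz⟩ := (germM_eq_iff ξ F y s s').1 hg
    refine ⟨V, g, Nbhd.pt ξ z, hgz, ?_⟩
    have h1 : Nbhd.pt ξ (Nbhd.map ξ g z) = g.left (Nbhd.pt ξ z) := Nbhd.pt_map ξ g z
    rw [hz, hy] at h1
    exact h1.symm
  · intro V g hg
    exact hg

variable {F G : EtModW.Mod Λ X} (v : F ⟶ G)

/-- injectivity on the stalks at some geometric point over every point implies monomorphism -/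
theorem mono_of_forall_exists_geomPtM
    (h : ∀ x : X, ∃ (Ω : Type u) (_ : Field Ω) (_ : IsSepClosed Ω)
      (ξ : Spec (CommRingCat.of Ω) ⟶ X), ξ default = x ∧
        Function.Injective ((EtModW.stalk Λ ξ).map v)) : Mono v := by
  apply Groth.Agent.Lib.ModSubLC22.mono_of_app_injectiveM
  intro U
  rw [injective_iff_map_eq_zero]
  intro s hs
  apply section_ext_of_forall_germM F s 0
  intro u
  obtain ⟨Ω, _, _, ξ, hξ, hinj⟩ := h (U.hom u)
  obtain ⟨y, hy⟩ := exists_nbhd_of_pt ξ U u hξ.symm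
  refine ⟨Ω, inferInstance, inferInstance, ξ, y, hy, ?_⟩
  apply hinj
  rw [germM_naturality, germM_naturality, hs, map_zero, map_zero, map_zero]

/-- surjectivity on the stalks at some geometric point over every point implies epimorphism -/
theorem epi_of_forall_exists_geomPtM
    (h : ∀ x : X, ∃ (Ω : Type u) (_ : Field Ω) (_ : IsSepClosed Ω)
      (ξ : Spec (CommRingCat.of Ω) ⟶ X), ξ default = x ∧
        Function.Surjective ((EtModW.stalk Λ ξ).map v)) : Epi v := by
  haveI : Sheaf.IsLocallySurjective v := by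
    constructor
    intro U t
    rw [Groth.Agent.Lib.EtPushEpi39.mem_smallEtale_iff]
    intro u
    obtain ⟨Ω, _, _, ξ, hξ, hsurj⟩ := h (U.hom u)
    obtain ⟨y, hy⟩ := exists_nbhd_of_pt ξ U u hξ.symm
    obtain ⟨τ, hτ⟩ := hsurj (germM ξ G y t)
    obtain ⟨U', y', s', rfl⟩ := germM_jointly_surjective ξ F τ
    obtain ⟨W, a, b, w, haw, hbw⟩ := exists_common_nbhd ξ y' y
    have e1 : germM ξ G w (v.hom.app (op W) (F.obj.map a.op s')) =
        germM ξ G w (G.obj.map b.op t) := by
      rw [germM_res, hbw, ← hτ, germM_naturality, ← germM_naturality, germM_res, haw,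
        germM_naturality]
    obtain ⟨W', c, w', hcw, hc⟩ := (germM_eq_iff ξ G w _ _).1 e1
    refine ⟨W', c ≫ b, Nbhd.pt ξ w', ⟨F.obj.map (c ≫ a).op s', ?_⟩, ?_⟩
    · have n1 := NatTrans.naturality_apply v.hom (c ≫ a).op s'
      rw [n1, op_comp, Functor.map_comp, op_comp, Functor.map_comp]
      have n2 := NatTrans.naturality_apply v.hom a.op s'
      have : G.obj.map c.op (G.obj.map a.op (v.hom.app (op U') s')) =
          G.obj.map c.op (v.hom.app (op W) (F.obj.map a.op s')) := congrArg _ n2.symm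
      exact this.trans hc
    · have h1 : Nbhd.pt ξ (Nbhd.map ξ c w') = c.left (Nbhd.pt ξ w') := Nbhd.pt_map ξ c w'
      rw [hcw] at h1
      have h2 : Nbhd.pt ξ (Nbhd.map ξ b w) = b.left (Nbhd.pt ξ w) := Nbhd.pt_map ξ b w
      rw [hbw, hy] at h2
      show b.left (c.left (Nbhd.pt ξ w')) = u
      rw [← h1, ← h2]
  exact Sheaf.epi_of_isLocallySurjective v

/-- bijectivity on the stalks at some geometric point over every point implies isomorphism -/
theorem isIso_of_forall_exists_geomPtM
    (h : ∀ x : X, ∃ (Ω : Type u) (_ : Field Ω) (_ : IsSepClosed Ω)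
      (ξ : Spec (CommRingCat.of Ω) ⟶ X), ξ default = x ∧
        Function.Bijective ((EtModW.stalk Λ ξ).map v)) : IsIso v := by
  have := mono_of_forall_exists_geomPtM v (fun x => by
    obtain ⟨Ω, i1, i2, ξ, hξ, hb⟩ := h x
    exact ⟨Ω, i1, i2, ξ, hξ, hb.1⟩)
  have := epi_of_forall_exists_geomPtM v (fun x => by
    obtain ⟨Ω, i1, i2, ξ, hξ, hb⟩ := h x
    exact ⟨Ω, i1, i2, ξ, hξ, hb.2⟩)
  exact isIso_of_mono_of_epi v

/-- Joint conservativity of inverse images along jointly surjective families. -/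
theorem isIso_of_isIso_pullM {G G' : EtModW.Mod Λ X} (φ : G ⟶ G')
    (h : ∀ x : X, ∃ (T : Scheme.{u}) (g : T ⟶ X), x ∈ Set.range g ∧
      IsIso ((pullA (MC.{u} Λ) g).map φ)) : IsIso φ := by
  apply isIso_of_forall_exists_geomPtM
  intro x
  obtain ⟨T, g, ⟨t, ht⟩, hiso⟩ := h x
  refine ⟨_, inferInstance, inferInstance, stdPt t ≫ g, ?_, ?_⟩
  · rw [Scheme.Hom.comp_apply, stdPt_default, ht]
  · let e := stalkPullIsoM (Λ := Λ) (stdPt t) g
    have hn := e.hom.naturality φ
    haveI : IsIso ((EtModW.pull Λ g).map φ) := hiso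
    haveI : IsIso ((EtModW.pull Λ g ⋙ EtModW.stalk Λ (stdPt t)).map φ) := by
      rw [Functor.comp_map]; infer_instance
    have h2 : (EtModW.stalk Λ (stdPt t ≫ g)).map φ =
        e.inv.app G ≫ (EtModW.pull Λ g ⋙ EtModW.stalk Λ (stdPt t)).map φ ≫ e.hom.app G' := by
      rw [hn, ← Category.assoc, Iso.inv_hom_id_app, Category.id_comp]
    haveI : IsIso ((EtModW.stalk Λ (stdPt t ≫ g)).map φ) := by
      rw [h2]; infer_instance
    exact ConcreteCategory.bijective_of_isIso _

end Groth.Agent.Lib.ModSubLC22
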