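import Groth.Agent.Lib.ModSubLC22d

/-!
# Chains of subsheaves of a constant étale sheaf of modules (helper22)

Module version of `EtSubLC22e`.
-/

set_option autoImplicit false
set_option linter.style.haveILetI false
set_option linter.unusedSectionVars false
universe u

open CategoryTheory AlgebraicGeometry Limits MorphismProperty Opposite Topology

namespace Groth.Agent.Lib.ModSubLC22

open Groth.Agent.Lib.ModConst22 Groth.Agent.Lib.EtOverSite22 Groth.Agent.Lib.EtLocConst22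
  Groth.Agent.Lib.EtLCKer22 Groth.Agent.Lib.EtExt22 Groth.Agent.Lib.EtConst
  Groth.Agent.Lib.EtModStalk22 Groth.Agent.Lib.EtConstr22

variable {Λ : Type (u + 1)} [CommRing Λ] {W : Scheme.{u}} {M : MC.{u} Λ}

theorem nsubM_le_of_fac {G G' : EtModW.Mod Λ W} (ι : G ⟶ constShM Λ W M)
    (ι' : G' ⟶ constShM Λ W M) (φ : G ⟶ G') (hφ : φ ≫ ι' = ι) (V : W.Etale) :
    NsubM ι V ≤ NsubM ι' V := by
  rintro m ⟨s, hs⟩
  refine ⟨φ.hom.app (op V) s, ?_⟩
  rw [← hs, ← hφ]
  rfl

/-- A morphism between subsheaves of a constant sheaf is an isomorphism as soon as the target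
contains no more constant sections than the source. -/
theorem isIso_of_nsubM_le {G G' : EtModW.Mod Λ W} (ι : G ⟶ constShM Λ W M)
    (ι' : G' ⟶ constShM Λ W M) [Mono ι] [Mono ι'] (φ : G ⟶ G') (hφ : φ ≫ ι' = ι)
    (h : ∀ V : W.Etale, Nonempty V.left → NsubM ι' V ≤ NsubM ι V) : IsIso φ := by
  have hinj' := app_injective_of_monoM ι'
  haveI : Mono φ := mono_of_mono_fac hφ
  haveI : Epi φ := by
    rw [← Sheaf.isLocallySurjective_iff_epi' (φ := φ)]
    refine ⟨fun {U} s => ?_⟩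
    rw [Groth.Agent.Lib.EtPushEpi39.mem_smallEtale_iff]
    intro x
    obtain ⟨V, g, m, ⟨z, hz⟩, hm⟩ := exists_constSecM_eq_pt M (ι'.hom.app (op U) s) x
    have hm' : ι'.hom.app (op V) (G'.obj.map g.op s) = constSecM M V m := by
      rw [hom_resM ι' g]; exact hm
    obtain ⟨t, ht⟩ := h V ⟨z⟩ ⟨_, hm'⟩
    refine ⟨V, g, z, ⟨t, ?_⟩, hz⟩
    apply hinj' V
    rw [hm', ← ht, ← hφ]
    rfl
  exact isIso_of_mono_of_epi φ

/-- restriction of a morphism to a constant sheaf to an étale `V` -/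
noncomputable def restrMonoM {G : EtModW.Mod Λ W} (ι : G ⟶ constShM Λ W M) (V : W.Etale) :
    (restrAlongA V (MC.{u} Λ)).obj G ⟶ constShM Λ V.left M :=
  (restrAlongA V (MC.{u} Λ)).map ι ≫ (restrConstIsoM V M).hom

theorem restrConstIsoM_hom_app_injective (V : W.Etale) (V' : V.left.Etale) :
    Function.Injective ((restrConstIsoM V M).hom.hom.app (op V')) := by
  intro a b hab
  let e := restrConstIsoM V M
  have h1 := congrArg (fun t => e.inv.hom.app (op V') t) hab
  have h2 : ∀ t, e.inv.hom.app (op V') (e.hom.hom.app (op V') t) = t := fun t => by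
    have h3 : e.hom ≫ e.inv = 𝟙 _ := e.hom_inv_id
    have h4 := congrArg (fun θ => θ.hom.app (op V') t) h3
    exact h4
  exact (h2 a).symm.trans (h1.trans (h2 b))

instance mono_restrMonoM {G : EtModW.Mod Λ W} (ι : G ⟶ constShM Λ W M) [Mono ι] (V : W.Etale) :
    Mono (restrMonoM ι V) := by
  apply mono_of_app_injectiveM
  intro V' a b hab
  exact app_injective_of_monoM ι _ (restrConstIsoM_hom_app_injective V V' hab)

theorem nsubM_restrMonoM {G : EtModW.Mod Λ W} (ι : G ⟶ constShM Λ W M) (V : W.Etale)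
    (V' : V.left.Etale) :
    NsubM (restrMonoM ι V) V' = NsubM ι ((EtShriek.compEtale (homX V)).obj V') := by
  ext m
  constructor
  · rintro ⟨s, hs⟩
    refine ⟨s, restrConstIsoM_hom_app_injective V V' ?_⟩
    rw [restrConstIsoM_hom_constSecM]
    exact hs
  · rintro ⟨s, hs⟩
    refine ⟨s, ?_⟩
    show (restrConstIsoM V M).hom.hom.app (op V')
      (ι.hom.app (op ((EtShriek.compEtale (homX V)).obj V')) s) = _
    rw [hs, restrConstIsoM_hom_constSecM]

/-- An increasing chain of subsheaves of a constant sheaf with Noetherian value becomes stationary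
on some nonempty étale `V`. -/
theorem exists_stable_of_constM [Nonempty W] [IsNoetherian Λ M] (G : ℕ → EtModW.Mod Λ W)
    (ι : ∀ m, G m ⟶ constShM Λ W M) [∀ m, Mono (ι m)]
    (φ : ∀ m m', m ≤ m' → (G m ⟶ G m')) (hφ : ∀ m m' h, φ m m' h ≫ ι m' = ι m) :
    ∃ (V : W.Etale) (N : ℕ), Nonempty V.left ∧
      ∀ m (h : N ≤ m), IsIso ((restrAlongA V (MC.{u} Λ)).map (φ N m h)) := by
  classical
  let S : Set (Submodule Λ M) :=
    {K | ∃ (m : ℕ) (V : W.Etale), Nonempty V.left ∧ NsubM (ι m) V = K}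
  have hne : S.Nonempty := ⟨_, 0, EtCoh.top W, (inferInstance : Nonempty W), rfl⟩
  haveI : WellFoundedGT (Submodule Λ M) := isNoetherian_iff'.1 inferInstance
  obtain ⟨K₁, ⟨N, V, hV, rfl⟩, hmax⟩ := (wellFounded_gt (α := Submodule Λ M)).has_min S hne
  refine ⟨V, N, hV, fun m h => ?_⟩
  have hfac : (restrAlongA V (MC.{u} Λ)).map (φ N m h) ≫ restrMonoM (ι m) V =
      restrMonoM (ι N) V := by
    unfold restrMonoM
    rw [← Category.assoc, ← Functor.map_comp, hφ]
  refine isIso_of_nsubM_le (restrMonoM (ι N) V) (restrMonoM (ι m) V) _ hfac fun V'' hV'' => ?_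
  rw [nsubM_restrMonoM, nsubM_restrMonoM]
  let V₂ : W.Etale := (EtShriek.compEtale (homX V)).obj V''
  have hV₂ : Nonempty V₂.left := hV''
  have h1 : NsubM (ι N) V ≤ NsubM (ι N) V₂ := nsubM_mono (ι N) (strHom V V'')
  have h2 : NsubM (ι N) V₂ ≤ NsubM (ι m) V₂ := nsubM_le_of_fac _ _ _ (hφ N m h) V₂
  have hnot := hmax (NsubM (ι m) V₂) ⟨m, V₂, hV₂, rfl⟩
  have h3 : NsubM (ι N) V = NsubM (ι m) V₂ := eq_of_le_of_not_lt (h1.trans h2) hnot
  show NsubM (ι m) V₂ ≤ NsubM (ι N) V₂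
  rw [← h3]
  exact h1

end Groth.Agent.Lib.ModSubLC22
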