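import Groth.Agent.Lib.ModSubLC22f
import Groth.Agent.Lib.ARSysKer2

/-!
# Constructible sheaves of modules are Noetherian objects; AR-adic systems of them (helper22)

* `isNoetherianObject_of_isConstructibleM`: on a Noetherian scheme a constructible sheaf of modules
  over a Noetherian ring is a Noetherian object of the category of sheaves of modules;
* `prop_of_kerNull_of_isStrict`: if `v : Y ⟶ X` is a morphism of projective systems with kernel null
  up to translation, `Y` strict, and a property closed under subobjects and quotients holds for all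
  `X_n`, then it holds for all `Y_n`;
* `isARAdicConstr_kernel_cokernel`: kernels and cokernels of morphisms of adic systems of
  constructible sheaves of modules are AR-adic, witnessed by adic systems of constructible sheaves.
-/

set_option autoImplicit false
set_option linter.style.haveILetI false
set_option linter.unusedSectionVars false
universe w v u

open CategoryTheory AlgebraicGeometry Limits MorphismProperty Opposite Topology

namespace Groth.Agent.Lib.ModSubLC22

section General

open ARSys Groth.Agent.Lib.ARSysBasic Groth.Agent.Lib.ARSysElem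

variable {C : Type u} [Category.{v} C] [Abelian C]

/-- A property of objects closed under subobjects and quotients passes from the terms of `X` to the
terms of a strict system `Y` mapping to `X` with kernel null up to translation. -/
theorem prop_of_kerNull_of_isStrict (P : C → Prop)
    (hmono : ∀ {A B : C} (i : A ⟶ B) [Mono i], P B → P A)
    (hepi : ∀ {A B : C} (p : A ⟶ B) [Epi p], P A → P B)
    {Y X : ARSys.PS C} (v : Y ⟶ X) (hv : IsARNull (kernel v))
    (hY : ARSys.IsStrict Y) (hX : ∀ n : ℕ, P (X.obj (op n))) (n : ℕ) :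
    P (Y.obj (op n)) := by
  obtain ⟨a, ha⟩ := hv
  have ha' : KerNullBy v a := kerNullBy_of_isARNull v ha
  have hepi' : Epi (tr Y (Nat.le_add_right n a)) := hY n (n + a) (Nat.le_add_right n a)
  obtain ⟨φ, hφ⟩ := Groth.Agent.S3158.exists_fac_of_epi
    (Abelian.factorThruImage (v.app (op (n + a)))) (tr Y (Nat.le_add_right n a)) (by
      intro T y hy
      have hy' : y ≫ v.app (op (n + a)) = 0 := by
        rw [← Abelian.image.fac (v.app (op (n + a))), reassoc_of% hy, zero_comp]
      exact ha' n (n + a) le_rfl T y hy')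
  have hφepi : Epi φ := by
    have : Epi (Abelian.factorThruImage (v.app (op (n + a))) ≫ φ) := by rw [hφ]; exact hepi'
    exact epi_of_epi (Abelian.factorThruImage (v.app (op (n + a)))) φ
  have h1 : P (Abelian.image (v.app (op (n + a)))) :=
    hmono (Abelian.image.ι (v.app (op (n + a)))) (hX (n + a))
  exact hepi φ h1

end General

open Groth.Agent.Lib.ModConst22 Groth.Agent.Lib.EtOverSite22 Groth.Agent.Lib.EtLocConst22
  Groth.Agent.Lib.EtLCKer22 Groth.Agent.Lib.EtExt22 Groth.Agent.Lib.EtConst
  Groth.Agent.Lib.EtModStalk22 Groth.Agent.Lib.EtConstr22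

variable {Λ : Type (u + 1)} [CommRing Λ] [IsNoetherianRing Λ]

/-- On a Noetherian scheme, a constructible sheaf of modules over a Noetherian ring is a Noetherian
object. -/
theorem isNoetherianObject_of_isConstructibleM {X : Scheme.{u}} [IsNoetherian X]
    {F : EtModW.Mod Λ X} (hF : EtModW.IsConstructible Λ F) : IsNoetherianObject F := by
  rw [isNoetherianObject_iff_monotone_chain_condition]
  intro c
  obtain ⟨N, hN⟩ := exists_stableM hF
    (fun m => ((c m : Subobject F) : EtModW.Mod Λ X))
    (fun m => (c m).arrow) (fun m m' h => Subobject.ofLE (c m) (c m') (c.monotone h))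
    (fun m m' h => Subobject.ofLE_arrow _)
  refine ⟨N, fun m h => ?_⟩
  haveI := hN m h
  apply le_antisymm
  · exact c.monotone h
  · exact Subobject.le_of_comm (inv (Subobject.ofLE (c N) (c m) (c.monotone h))) (by
      rw [IsIso.inv_comp_eq, Subobject.ofLE_arrow])

open ARSys in
/-- Kernels and cokernels of morphisms of adic systems of constructible sheaves of modules on a
Noetherian scheme are AR-adic, with adic approximations consisting of constructible sheaves. -/
theorem isARAdicConstr_kernel_cokernel (I : Ideal Λ) {X : Scheme.{u}} [IsNoetherian X]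
    (F G : ARSys.PS (EtModW.Mod Λ X)) (hF : ARSys.IsAdic I F) (hG : ARSys.IsAdic I G)
    (hFc : ∀ n : ℕ, EtModW.IsConstructible Λ (F.obj (op n)))
    (hGc : ∀ n : ℕ, EtModW.IsConstructible Λ (G.obj (op n))) (w : F ⟶ G) :
    (ARSys.TermKilled I (kernel w) ∧ ∃ (Y : ARSys.PS (EtModW.Mod Λ X)) (v : Y ⟶ (kernel w)),
      ARSys.IsAdic I Y ∧ (∀ n : ℕ, EtModW.IsConstructible Λ (Y.obj (op n))) ∧ ARSys.IsARIso v) ∧
    (ARSys.TermKilled I (cokernel w) ∧ ∃ (Y : ARSys.PS (EtModW.Mod Λ X)) (v : Y ⟶ (cokernel w)),
      ARSys.IsAdic I Y ∧ (∀ n : ℕ, EtModW.IsConstructible Λ (Y.obj (op n))) ∧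
        ARSys.IsARIso v) := by
  have hI : I.FG := IsNoetherian.noetherian I
  have hFN : ARSys.IsARAdicNoeth I F :=
    ⟨⟨hF.1, F, 𝟙 F, hF, Groth.Agent.Lib.ARSysExt2.isARIso_id F⟩,
      fun n => isNoetherianObject_of_isConstructibleM (hFc n)⟩
  have hGN : ARSys.IsARAdicNoeth I G :=
    ⟨⟨hG.1, G, 𝟙 G, hG, Groth.Agent.Lib.ARSysExt2.isARIso_id G⟩,
      fun n => isNoetherianObject_of_isConstructibleM (hGc n)⟩
  obtain ⟨⟨⟨tk1, Y1, v1, hY1, hv1⟩, -⟩, ⟨⟨tk2, Y2, v2, hY2, hv2⟩, -⟩⟩ :=
    Groth.Agent.Lib.ARSysKer2.isARAdicNoeth_kernel_cokernel I hI w hFN hGN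
  have strict : ∀ {Y : ARSys.PS (EtModW.Mod Λ X)}, ARSys.IsAdic I Y → ARSys.IsStrict Y :=
    fun hY n m h => Groth.Agent.Lib.ARSysBasic.IsQuot.epi (hY.2 n m h)
  have hKc : ∀ n : ℕ, EtModW.IsConstructible Λ ((kernel w).obj (op n)) := fun n => by
    haveI : Mono ((kernel.ι w).app (op n)) := inferInstance
    exact isConstructibleMod_of_mono ((kernel.ι w).app (op n)) (hFc n)
  have hQc : ∀ n : ℕ, EtModW.IsConstructible Λ ((cokernel w).obj (op n)) := fun n => by
    haveI : Epi ((cokernel.π w).app (op n)) := inferInstance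
    exact isConstructibleMod_of_epi ((cokernel.π w).app (op n)) (hGc n)
  refine ⟨⟨tk1, Y1, v1, hY1, ?_, hv1⟩, ⟨tk2, Y2, v2, hY2, ?_, hv2⟩⟩
  · exact prop_of_kerNull_of_isStrict (fun A => EtModW.IsConstructible Λ A)
      (fun i _ h => isConstructibleMod_of_mono i h) (fun p _ h => isConstructibleMod_of_epi p h)
      v1 hv1.1 (strict hY1) hKc
  · exact prop_of_kerNull_of_isStrict (fun A => EtModW.IsConstructible Λ A)
      (fun i _ h => isConstructibleMod_of_mono i h) (fun p _ h => isConstructibleMod_of_epi p h)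
      v2 hv2.1 (strict hY2) hQc

end Groth.Agent.Lib.ModSubLC22
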