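import Groth.Agent.Lib.ProEtModTransfer22a
import Groth.Agent.Lib.EtClosedStalk
import Groth.Agent.Lib.ProEtAdicLim22

/-!
# Closed immersions and `ε⁻¹` on sheaves of modules (helper22)

* `isIso_counit_etale_mod`: `i⁻¹ i_* E ≅ E` for étale sheaves of modules (closed immersion);
* `pullEpsIso`: `i⁻¹ ε_X⁻¹ ≅ ε_Z⁻¹ i⁻¹` on sheaves of modules.
-/

set_option autoImplicit false
set_option linter.style.haveILetI false
universe u

open CategoryTheory AlgebraicGeometry Limits MorphismProperty Opposite TopologicalSpace ProEtS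

namespace Groth.Agent.Lib.ProEtModTransfer22

open Groth.Agent.Lib.ModForgetPull22 Groth.Agent.Lib.ProEtAdicLim22

variable (Λ : Type (u + 1)) [CommRing Λ]

instance hasSheafCompose_UF_etale (X : Scheme.{u}) :
    X.smallEtaleTopology.HasSheafCompose (UF Λ) := by
  have : PreservesLimitsOfSize.{u, u + 1} (UF Λ) := inferInstance
  infer_instance

section etale

variable {Z X : Scheme.{u}} (i : Z ⟶ X)

/-- The adjunction `i⁻¹ ⊣ i_*` on étale sheaves of modules. -/
noncomputable abbrev pullPushAdjEtM : EtModW.pull Λ i ⊣ EtModW.push Λ i :=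
  (EtCoh.bc i).sheafAdjunctionContinuous (ModuleCat.{u + 1} Λ) X.smallEtaleTopology
    Z.smallEtaleTopology

/-- The counit `i⁻¹ i_* E ⟶ E` is an isomorphism for étale sheaves of modules. -/
instance isIso_counit_etale_mod [IsClosedImmersion i] (E : EtModW.Mod Λ Z) :
    IsIso ((pullPushAdjEtM Λ i).counit.app E) := by
  have h1 : IsIso ((EtCoh.pullPushAdj i).counit.app ((USh Λ Z.smallEtaleTopology).obj E)) :=
    Groth.Agent.Lib.EtClosedStalk.isIso_counit_app i _
  have h2 : IsIso (beta (pullPushAdjEtM Λ i) (EtCoh.pullPushAdj i) ((EtModW.push Λ i).obj E)) :=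
    isIso_beta (pullPushAdjEtM Λ i) (EtCoh.pullPushAdj i) _
  have e := beta_comp_counit (pullPushAdjEtM Λ i) (EtCoh.pullPushAdj i) E
  haveI : IsIso ((USh Λ Z.smallEtaleTopology).map ((pullPushAdjEtM Λ i).counit.app E)) := by
    have h3 : IsIso (beta (pullPushAdjEtM Λ i) (EtCoh.pullPushAdj i) ((EtModW.push Λ i).obj E) ≫
        (USh Λ Z.smallEtaleTopology).map ((pullPushAdjEtM Λ i).counit.app E)) := by
      rw [e]
      exact h1
    exact @IsIso.of_isIso_comp_left _ _ _ _ _ _ _ h2 h3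
  exact isIso_of_reflects_iso _ (USh Λ Z.smallEtaleTopology)

end etale

section comp

variable {Z X : Scheme.{u}} (i : Z ⟶ X) [ProEtS.PCont i] [ProEtS.EpsCont X] [ProEtS.EpsCont Z]

/-- `i⁻¹ ε_X⁻¹ ≅ ε_Z⁻¹ i⁻¹` on sheaves of modules. -/
noncomputable def pullEpsIso :
    EtModW.epsPullMod Λ X ⋙ pullM Λ i ≅ EtModW.pull Λ i ⋙ EtModW.epsPullMod Λ Z :=
  let adj1 := (epsAdjMod Λ X).comp (pullPushAdjM Λ i)
  let adj2 := (pullPushAdjEtM Λ i).comp (epsAdjMod Λ Z)
  adj1.leftAdjointUniq adj2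

end comp

end Groth.Agent.Lib.ProEtModTransfer22
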