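import Groth.Agent.Lib.ModSubLC22d
import Groth.Agent.Lib.ProEtModTransfer22b
import Groth.Agent.Lib.ThickeningEtH52

/-!
# Étale sheaves of modules and thickenings (helper22)

For a surjective closed immersion `i : T ⟶ V`:
* `isIso_unit_of_surjective`: the unit `G ⟶ i_* i⁻¹ G` is an isomorphism;
* `nonempty_iso_const_of_pull`: if `i⁻¹ G` is constant then so is `G`;
* `isFTLC_of_pull_thickening`: if `i⁻¹ G` is finite type locally constant then so is `G`.
-/

set_option autoImplicit false
set_option linter.style.haveILetI false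
set_option linter.unusedSectionVars false
universe u

open CategoryTheory AlgebraicGeometry Limits MorphismProperty Opposite

namespace Groth.Agent.Lib.ModThickening22

open Groth.Agent.Lib.ModConst22 Groth.Agent.Lib.EtOverSite22 Groth.Agent.Lib.EtLocConst22
  Groth.Agent.Lib.ModSubLC22 Groth.Agent.Lib.ProEtModTransfer22

variable {Λ : Type (u + 1)} [CommRing Λ]

/-- For a surjective closed immersion the unit `G ⟶ i_* i⁻¹ G` is an isomorphism. -/
theorem isIso_unit_of_surjective {T V : Scheme.{u}} (i : T ⟶ V) [IsClosedImmersion i]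
    [Surjective i] (G : EtModW.Mod Λ V) : IsIso ((pullPushAdjEtM Λ i).unit.app G) := by
  apply isIso_of_isIso_pullM
  intro x
  refine ⟨T, i, i.surjective x, ?_⟩
  have h1 : (EtModW.pull Λ i).map ((pullPushAdjEtM Λ i).unit.app G) ≫
      (pullPushAdjEtM Λ i).counit.app ((EtModW.pull Λ i).obj G) =
        𝟙 ((EtModW.pull Λ i).obj G) :=
    (pullPushAdjEtM Λ i).left_triangle_components G
  have hc : IsIso ((pullPushAdjEtM Λ i).counit.app ((EtModW.pull Λ i).obj G)) :=
    isIso_counit_etale_mod Λ i _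
  have h2 : (EtModW.pull Λ i).map ((pullPushAdjEtM Λ i).unit.app G) =
      inv ((pullPushAdjEtM Λ i).counit.app ((EtModW.pull Λ i).obj G)) :=
    IsIso.eq_inv_of_inv_hom_id h1
  change IsIso ((EtModW.pull Λ i).map ((pullPushAdjEtM Λ i).unit.app G))
  rw [h2]
  exact IsIso.inv_isIso

/-- If the inverse image of `G` along a surjective closed immersion is constant, so is `G`. -/
theorem nonempty_iso_const_of_pull {T V : Scheme.{u}} (i : T ⟶ V) [IsClosedImmersion i]
    [Surjective i] (G : EtModW.Mod Λ V) (M : MC.{u} Λ)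
    (α : (EtModW.pull Λ i).obj G ≅ (constantSheaf T.smallEtaleTopology (MC.{u} Λ)).obj M) :
    Nonempty (G ≅ (constantSheaf V.smallEtaleTopology (MC.{u} Λ)).obj M) := by
  haveI := isIso_unit_of_surjective i G
  haveI := isIso_unit_of_surjective i ((constantSheaf V.smallEtaleTopology (MC.{u} Λ)).obj M)
  let c : (EtModW.pull Λ i).obj ((constantSheaf V.smallEtaleTopology (MC.{u} Λ)).obj M) ≅
      (constantSheaf T.smallEtaleTopology (MC.{u} Λ)).obj M := (pullConstIsoA (MC.{u} Λ) i).app M
  exact ⟨asIso ((pullPushAdjEtM Λ i).unit.app G) ≪≫ (EtModW.push Λ i).mapIso (α ≪≫ c.symm) ≪≫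
    (asIso ((pullPushAdjEtM Λ i).unit.app
      ((constantSheaf V.smallEtaleTopology (MC.{u} Λ)).obj M))).symm⟩

/-- If the inverse image of `G` along a surjective closed immersion is finite type locally
constant, so is `G` (a consequence of the topological invariance of the étale site). -/
theorem isFTLC_of_pull_thickening {T V : Scheme.{u}} (i : T ⟶ V) [IsClosedImmersion i]
    [Surjective i] (G : EtModW.Mod Λ V)
    (h : EtModW.IsFTLocConst Λ ((EtModW.pull Λ i).obj G)) : EtModW.IsFTLocConst Λ G := by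
  obtain ⟨ι, U, hU, hM⟩ := (isLC_iff_pull _).1 ((isFTLC_iff_isLC Λ _).1 h)
  have hlift : ∀ k : ι, ∃ (W : Scheme.{u}) (t : W ⟶ V) (_ : Etale t)
      (e : pullback t i ≅ (U k).left), e.hom ≫ (U k).hom = pullback.snd t i := fun k => by
    haveI : Etale (U k).hom := (U k).prop
    exact Groth.Agent.Lib.ThickeningEtH52.exists_etale_pullback_iso i (U k).hom
  choose W t ht e he using hlift
  let j : ι → V.Etale := fun k => MorphismProperty.Over.mk ⊤ (t k) (ht k)
  have hj : EtCoh.Covers j := by
    intro v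
    obtain ⟨x, rfl⟩ := i.surjective v
    obtain ⟨k, y, hy⟩ := hU x
    refine ⟨k, (pullback.fst (t k) i) ((e k).inv y), ?_⟩
    change (t k) ((pullback.fst (t k) i) ((e k).inv y)) = i x
    rw [← Scheme.Hom.comp_apply, pullback.condition, ← he k, Scheme.Hom.comp_apply,
      Scheme.Hom.comp_apply, ← Scheme.Hom.comp_apply (e k).inv, Iso.inv_hom_id]
    exact congrArg (fun z => i z) hy
  refine isFTLC_of_cover Λ j hj (fun k => ?_)
  obtain ⟨M, hMf, ⟨α⟩⟩ := hM k
  -- the base change of the thickening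
  let ik : pullback (t k) i ⟶ W k := pullback.fst (t k) i
  have hcond : ik ≫ t k = ((e k).hom ≫ (U k).hom) ≫ i := by
    rw [he k]
    exact pullback.condition
  let β : (EtModW.pull Λ ik).obj ((EtModW.pull Λ (t k)).obj G) ≅
      (constantSheaf (pullback (t k) i).smallEtaleTopology (MC.{u} Λ)).obj M :=
    ((pullCompA (MC.{u} Λ) ik (t k)).app G).symm ≪≫ (pullCongrA (MC.{u} Λ) hcond).app G ≪≫
      (pullCompA (MC.{u} Λ) ((e k).hom ≫ (U k).hom) i).app G ≪≫
      (pullCompA (MC.{u} Λ) (e k).hom (U k).hom).app ((EtModW.pull Λ i).obj G) ≪≫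
      (pullA (MC.{u} Λ) (e k).hom).mapIso α ≪≫ (pullConstIsoA (MC.{u} Λ) (e k).hom).app M
  obtain ⟨γ⟩ := nonempty_iso_const_of_pull ik ((EtModW.pull Λ (t k)).obj G) M β
  exact (isFTLC_iff_isLC Λ _).2 ((isLC_constM M hMf).of_iso γ.symm)

end Groth.Agent.Lib.ModThickening22
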