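import Groth.Agent.Lib.ModelConn5A
import Groth.Agent.Lib.H0Const13

/-!
# Global functions of a flat universally closed scheme over an integrally closed domain (helper5)

Generalisation of `ModelConn5A` from discrete valuation rings to integrally closed domains `R` with
fraction field `K`: for `p : X ⟶ Spec R` flat, universally closed and qcqs whose generic fibre `C`
has `Γ(C, O_C) = K`, one has `Γ(X, O_X) = R` (`bijective_toΓ'`).  Also `isIso_appTop_of_geomIntegral`:
`Γ(C, O_C) = K` for `C` proper, geometrically reduced and geometrically irreducible over a field.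
-/

set_option autoImplicit false
set_option linter.style.haveILetI false
set_option linter.unusedSectionVars false
universe u

open CategoryTheory CategoryTheory.Limits AlgebraicGeometry TopologicalSpace Opposite TensorProduct
  IsLocalRing

namespace Groth.Agent.Lib.ModelConn5

open Groth.Agent.Lib.LocConst5 Groth.Agent.Lib.H47DvrFibre Groth.Agent.Lib.ProperFinHyp
  Groth.Agent.Lib.ConnFib5

section Main

variable (R : Type u) [CommRing R] [IsDomain R] [IsIntegrallyClosed R]
  {C X : Scheme.{u}} (f : C ⟶ Spec (CommRingCat.of (FractionRing R)))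
  (p : X ⟶ Spec (CommRingCat.of R)) (g : C ⟶ X)

/-- The ring pushout square `R → K`, `R → Γ(X, O)`, `K → Γ(C, O)`, `Γ(X, O) → Γ(C, O)`. -/
theorem isPushout_toΓ' [QuasiCompact p] [QuasiSeparated p]
    (H : IsPullback g f p (Spec.map (CommRingCat.ofHom (algebraMap R (FractionRing R))))) :
    IsPushout (CommRingCat.ofHom (algebraMap R (FractionRing R))) (CommRingCat.ofHom (toΓ p))
      (CommRingCat.ofHom (toΓ f)) g.appTop := by
  haveI : CompactSpace X := (quasiCompact_iff_compactSpace p).mp inferInstance
  haveI : QuasiSeparatedSpace X := quasiSeparatedSpace_of_quasiSeparated p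
  haveI : Flat (Spec.map (CommRingCat.ofHom (algebraMap R (FractionRing R)))) := by
    rw [Flat.SpecMap_iff]
    exact (RingHom.flat_algebraMap_iff).mpr inferInstance
  have h1 := isPushout_appTop_of_isPullback_of_flat H
  have hsq : IsPushout (CommRingCat.ofHom (algebraMap R (FractionRing R)))
      (Scheme.ΓSpecIso (CommRingCat.of R)).inv
      (Scheme.ΓSpecIso (CommRingCat.of (FractionRing R))).inv
      (Spec.map (CommRingCat.ofHom (algebraMap R (FractionRing R)))).appTop :=
    IsPushout.of_vert_isIso ⟨Scheme.ΓSpecIso_inv_naturality _⟩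
  exact hsq.paste_vert h1.flip

/-- Restriction of functions to the generic fibre of a flat qcqs scheme over an integrally closed domain is injective. -/
theorem injective_appTop' [Flat p] [QuasiCompact p] [QuasiSeparated p]
    (H : IsPullback g f p (Spec.map (CommRingCat.ofHom (algebraMap R (FractionRing R))))) :
    Function.Injective g.appTop.hom := by
  have hP0 := isPushout_toΓ' R f p g H
  letI : Algebra R Γ(X, ⊤) := (toΓ p).toAlgebra
  letI : Algebra (FractionRing R) Γ(C, ⊤) := (toΓ f).toAlgebra
  letI : Algebra Γ(X, ⊤) Γ(C, ⊤) := g.appTop.hom.toAlgebra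
  letI : Algebra R Γ(C, ⊤) := (g.appTop.hom.comp (toΓ p)).toAlgebra
  haveI : IsScalarTower R Γ(X, ⊤) Γ(C, ⊤) := IsScalarTower.of_algebraMap_eq' rfl
  haveI : IsScalarTower R (FractionRing R) Γ(C, ⊤) := IsScalarTower.of_algebraMap_eq' (by
    have := congrArg CommRingCat.Hom.hom hP0.w
    exact this.symm)
  have hP : Algebra.IsPushout R (FractionRing R) Γ(X, ⊤) Γ(C, ⊤) :=
    CommRingCat.isPushout_iff_isPushout.mp hP0
  have hloc : IsLocalizedModule (nonZeroDivisors R)
      (IsScalarTower.toAlgHom R Γ(X, ⊤) Γ(C, ⊤)).toLinearMap :=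
    (isLocalizedModule_iff_isBaseChange (nonZeroDivisors R) (FractionRing R) _).mpr hP.out
  rw [injective_iff_map_eq_zero]
  intro b hb
  obtain ⟨s, hs⟩ := (IsLocalizedModule.eq_zero_iff (nonZeroDivisors R)
    (IsScalarTower.toAlgHom R Γ(X, ⊤) Γ(C, ⊤)).toLinearMap).mp hb
  refine regular_resTop p s.1 (nonZeroDivisors.ne_zero s.2) ⊤ b ?_
  rw [resTop_top]
  exact hs

/-- `Γ(X, O_X) = R` for a flat, universally closed, qcqs scheme over an integrally closed domain `R` whose generic fibre
`C` has `Γ(C, O_C) = K`. -/
theorem bijective_toΓ' [Flat p] [UniversallyClosed p] [QuasiCompact p] [QuasiSeparated p]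
    (hH0 : IsIso f.appTop)
    (H : IsPullback g f p (Spec.map (CommRingCat.ofHom (algebraMap R (FractionRing R))))) :
    Function.Bijective (toΓ p) := by
  have hinj := injective_appTop' R f p g H
  have hw : g.appTop.hom.comp (toΓ p) = (toΓ f).comp (algebraMap R (FractionRing R)) :=
    (congrArg CommRingCat.Hom.hom (isPushout_toΓ' R f p g H).w).symm
  have hw' : ∀ r : R, g.appTop.hom (toΓ p r) = toΓ f (algebraMap R (FractionRing R) r) :=
    fun r => congrArg (fun φ : R →+* Γ(C, ⊤) => φ r) hw
  have hfbij : Function.Bijective (toΓ f) := by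
    have h1 : Function.Bijective (Scheme.ΓSpecIso (CommRingCat.of (FractionRing R))).inv.hom :=
      ConcreteCategory.bijective_of_isIso (Scheme.ΓSpecIso (CommRingCat.of (FractionRing R))).inv
    have h2 : Function.Bijective f.appTop.hom := ConcreteCategory.bijective_of_isIso f.appTop
    exact h2.comp h1
  constructor
  · intro r r' h
    apply IsFractionRing.injective R (FractionRing R)
    apply hfbij.1
    rw [← hw', ← hw', h]
  · intro b
    have hint : (toΓ p).IsIntegral := by
      have h1 : ((Scheme.ΓSpecIso (CommRingCat.of R)).inv ≫ p.appTop).hom.IsIntegral := by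
        apply RingHom.isIntegral_respectsIso.2
          (e := (Scheme.ΓSpecIso (CommRingCat.of R)).symm.commRingCatIsoToRingEquiv)
        exact isIntegral_appTop_of_universallyClosed p
      exact h1
    obtain ⟨c, hc⟩ := hfbij.2 (g.appTop.hom b)
    have hc_int : IsIntegral R c := by
      obtain ⟨P, hPm, hP⟩ := hint b
      refine ⟨P, hPm, hfbij.1 ?_⟩
      rw [map_zero, Polynomial.hom_eval₂, hc, ← hw, ← Polynomial.hom_eval₂, hP, map_zero]
    obtain ⟨r, hr⟩ := IsIntegrallyClosed.isIntegral_iff.mp hc_int
    refine ⟨r, hinj ?_⟩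
    rw [hw', hr, hc]


end Main

section Field

/-- `Γ(C, O_C) = k` for `C` proper, geometrically reduced and geometrically connected over a
field `k`. -/
theorem isIso_appTop_of_geomReduced_of_geomConnected (k : Type u) [Field k] {C : Scheme.{u}}
    (f : C ⟶ Spec (CommRingCat.of k)) [IsProper f] [GeometricallyReduced f]
    [GeometricallyConnected f] : IsIso f.appTop := by
  letI := Groth.Agent.Lib.H0Const13.secAlg k f
  have h1 := Groth.Agent.Lib.H0Const13.finrank_appTop_eq_one k f
  have h2 : Function.Bijective (algebraMap k Γ(C, ⊤)) :=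
    Algebra.finrank_eq_one_iff_bijective_algebraMap.mp h1
  have h3 : IsIso ((Scheme.ΓSpecIso (CommRingCat.of k)).inv ≫ f.appTop) :=
    (ConcreteCategory.isIso_iff_bijective _).mpr h2
  exact IsIso.of_isIso_comp_left (Scheme.ΓSpecIso (CommRingCat.of k)).inv f.appTop

theorem geometricallyConnected_of_geometricallyIrreducible {X Y : Scheme.{u}} (f : X ⟶ Y)
    [GeometricallyIrreducible f] : GeometricallyConnected f := by
  refine ⟨fun K _ y Z fst snd h => ?_⟩
  haveI : IrreducibleSpace Z :=
    GeometricallyIrreducible.geometrically_irreducibleSpace (f := f) y fst snd h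
  infer_instance

end Field

end Groth.Agent.Lib.ModelConn5
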