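import Groth.Agent.Lib.GenericCH23
import Mathlib.RingTheory.Polynomial.UniqueFactorization
import Mathlib.RingTheory.PrincipalIdealDomain

/-!
# The monic characteristic polynomial of an element of `A' ⊗ B` (helper23)
-/

set_option autoImplicit false
universe u
open scoped TensorProduct

namespace Groth.Agent.Lib.MonicChar23

open Groth.Agent.Lib.PolLaw23 Groth.Agent.Lib.KerBC23 Groth.Agent.Lib.KerBCFin23 Groth.Agent.Lib.BCLaw23
  Groth.Agent.Lib.KerBCPoly23 Groth.Agent.Lib.CayleyHam23 Groth.Agent.Lib.GenericCH23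

variable {A : Type u} [CommRing A] {B : Type u} [CommRing B] [Algebra A B] {d : ℕ}

/-- The monic characteristic polynomial `F (X - z)` of `z ∈ A' ⊗ B`. -/
noncomputable def mchar (F : PolLaw.MulLaw A B A d) (A' : Type u) [CommRing A'] [Algebra A A']
    (z : A' ⊗[A] B) : Polynomial A' :=
  (-1 : Polynomial A') ^ d * charpoly F A' z

theorem mchar_map (F : PolLaw.MulLaw A B A d) {A₁ A₂ : Type u} [CommRing A₁] [Algebra A A₁]
    [CommRing A₂] [Algebra A A₂] (ψ : A₁ →ₐ[A] A₂) (z : A₁ ⊗[A] B) :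
    (mchar F A₁ z).map (ψ : A₁ →+* A₂) = mchar F A₂ (bc ψ z) := by
  rw [mchar, mchar, Polynomial.map_mul, charpoly_map]
  simp

theorem mchar_spec (F : PolLaw.MulLaw A B A d) (A' : Type u) [CommRing A'] [Algebra A A']
    (z : A' ⊗[A] B) :
    F.law.toFun' (Polynomial A') (Polynomial.X ⊗ₜ[A] (1 : B) -
      bc (IsScalarTower.toAlgHom A A' (Polynomial A')) z) = mchar F A' z ⊗ₜ[A] (1 : A) := by
  have h1 : (Polynomial.X ⊗ₜ[A] (1 : B) - bc (IsScalarTower.toAlgHom A A' (Polynomial A')) z :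
      Polynomial A' ⊗[A] B) =
      (-1 : Polynomial A') • (bc (IsScalarTower.toAlgHom A A' (Polynomial A')) z -
        Polynomial.X ⊗ₜ[A] (1 : B)) := by
    have h : ∀ x : Polynomial A' ⊗[A] B, (-1 : Polynomial A') • x = -x := fun x =>
      neg_one_smul (Polynomial A') x
    rw [h, neg_sub]
  rw [h1, F.homog, charpoly_spec, mchar, TensorProduct.smul_tmul', smul_eq_mul]

theorem aeval_mchar_mem (F : PolLaw.MulLaw A B A d) (A' : Type u) [CommRing A'] [Algebra A A']
    (z : A' ⊗[A] B) : Polynomial.aeval z (mchar F A' z) ∈ PolLaw.kerBC F.law A' := by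
  rw [mchar, map_mul]
  exact Ideal.mul_mem_left _ _ (aeval_charpoly_mem F A' z)

theorem tmul_one_injective (A' : Type u) [CommRing A'] [Algebra A A'] :
    Function.Injective (fun r : A' => r ⊗ₜ[A] (1 : A)) := by
  intro r r' h
  have := congrArg (TensorProduct.rid A A') h
  simpa using this

theorem mchar_degree (F : PolLaw.MulLaw A B A d) (A' : Type u) [CommRing A'] [Algebra A A']
    (z : A' ⊗[A] B) : (mchar F A' z).natDegree ≤ d ∧ (mchar F A' z).coeff d = 1 := by
  obtain ⟨q, hq1, hq2, hq3⟩ := exists_monic_spec (bcMul F A') z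
  have h1 : (bcMul F A').law.toFun' (Polynomial A')
      ((-1 : Polynomial A') ⊗ₜ[A'] z + Polynomial.X ⊗ₜ[A'] (1 : A' ⊗[A] B)) =
        mchar F A' z ⊗ₜ[A'] (1 : A') := by
    apply bcMul_toFun'_eq_tmul
    have h2 : cb A A' (Polynomial A') B ((-1 : Polynomial A') ⊗ₜ[A'] z +
        Polynomial.X ⊗ₜ[A'] (1 : A' ⊗[A] B)) =
        Polynomial.X ⊗ₜ[A] (1 : B) - bc (IsScalarTower.toAlgHom A A' (Polynomial A')) z := by
      rw [map_add, TensorProduct.neg_tmul, map_neg, cb_one_tmul, Algebra.TensorProduct.one_def,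
        cb_tmul, one_smul]
      ring
    rw [h2]
    exact mchar_spec F A' z
  rw [hq3] at h1
  have h3 : q = mchar F A' z := tmul_one_injective (A := A') (Polynomial A') h1
  rw [← h3]
  exact ⟨hq1, hq2⟩

/-- Over a field, if a power of `z` lies in the kernel, then the characteristic polynomial of `z`
is `X ^ d`. -/
theorem mchar_of_pow_mem (F : PolLaw.MulLaw A B A d) (K : Type u) [Field K] [Algebra A K]
    {z : K ⊗[A] B} {N : ℕ} (hz : z ^ N ∈ PolLaw.kerBC F.law K) :
    mchar F K z = Polynomial.X ^ d := by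
  obtain ⟨hdeg, hcoeff⟩ := mchar_degree F K z
  have h1 := hz (Polynomial K) ((Polynomial.X ⊗ₜ[A] (1 : B)) ^ N) (-1)
  have hb : (Algebra.TensorProduct.map (IsScalarTower.toAlgHom A K (Polynomial K)) (AlgHom.id A B)) =
      bc (B := B) (IsScalarTower.toAlgHom A K (Polynomial K)) := rfl
  rw [hb, map_pow] at h1
  have h2 : ((Polynomial.X ⊗ₜ[A] (1 : B)) ^ N : Polynomial K ⊗[A] B) =
      (Polynomial.X ^ N : Polynomial K) • (1 : Polynomial K ⊗[A] B) := by
    rw [Algebra.TensorProduct.one_def, TensorProduct.smul_tmul', smul_eq_mul, mul_one,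
      Algebra.TensorProduct.tmul_pow, one_pow]
  have h3 : F.law.toFun' (Polynomial K) ((Polynomial.X ⊗ₜ[A] (1 : B)) ^ N) =
      ((Polynomial.X ^ N) ^ d : Polynomial K) ⊗ₜ[A] (1 : A) := by
    rw [h2, F.homog, (F.mult (Polynomial K)).1, Algebra.TensorProduct.one_def,
      TensorProduct.smul_tmul', smul_eq_mul, mul_one]
  rw [h3] at h1
  have h4 : ((Polynomial.X ⊗ₜ[A] (1 : B)) ^ N +
      -1 * bc (IsScalarTower.toAlgHom A K (Polynomial K)) z ^ N : Polynomial K ⊗[A] B) =
      (∑ i ∈ Finset.range N, (Polynomial.X ⊗ₜ[A] (1 : B)) ^ i *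
        bc (IsScalarTower.toAlgHom A K (Polynomial K)) z ^ (N - 1 - i)) *
      (Polynomial.X ⊗ₜ[A] (1 : B) - bc (IsScalarTower.toAlgHom A K (Polynomial K)) z) := by
    rw [geom_sum₂_mul]
    ring
  rw [h4, (F.mult (Polynomial K)).2, mchar_spec] at h1
  have h5 := congrArg (Algebra.TensorProduct.rid A (Polynomial K) (Polynomial K)) h1
  rw [map_mul, Algebra.TensorProduct.rid_tmul, Algebra.TensorProduct.rid_tmul, one_smul, one_smul] at h5
  have h6 : mchar F K z ∣ Polynomial.X ^ (N * d) := by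
    rw [pow_mul, ← h5]
    exact Dvd.intro_left _ rfl
  obtain ⟨i, -, hi⟩ := (dvd_prime_pow Polynomial.prime_X _).1 h6
  obtain ⟨c, hc⟩ := hi
  obtain ⟨c0, hc0, hc1⟩ := Polynomial.isUnit_iff.1 c.isUnit
  have hc0' : c0 ≠ 0 := hc0.ne_zero
  have h8 : mchar F K z = Polynomial.C c0⁻¹ * Polynomial.X ^ i := by
    rw [← hc, ← hc1, mul_comm (mchar F K z) _, ← mul_assoc, ← Polynomial.C_mul, inv_mul_cancel₀ hc0',
      Polynomial.C_1, one_mul]
  rw [h8, Polynomial.coeff_C_mul, Polynomial.coeff_X_pow] at hcoeff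
  split_ifs at hcoeff with hdi
  · rw [mul_one] at hcoeff
    rw [h8, hcoeff, ← hdi, Polynomial.C_1, one_mul]
  · rw [mul_zero] at hcoeff
    exact absurd hcoeff zero_ne_one

end Groth.Agent.Lib.MonicChar23
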