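import Groth.Agent.Lib.MonicSlice33b
import Groth.Agent.Lib.CMQF33k
import Mathlib

/-!
# Slicing via charts: from a quasi-finite flat chart to ring data (helper33)
-/

set_option autoImplicit false
universe u

open CategoryTheory AlgebraicGeometry RingTheory.Sequence Opposite

namespace Groth.Agent.Lib.MonicSlice33

variable {X S : Scheme.{u}}

/-- The coordinate functions of a chart, as sections over `U`. -/
noncomputable def chartCoord {σ : Type u} {U : X.Opens} (g : (U : Scheme.{u}) ⟶ 𝔸(σ; S)) (i : σ) :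
    Γ(X, U) :=
  U.topIso.hom.hom (g.appTop.hom (AffineSpace.coord S i))

/-- The ring map `A[T_σ] → Γ(X,V)` induced by a chart. -/
noncomputable def chartRingHom (f : X ⟶ S) {σ : Type u} {U : X.Opens}
    (g : (U : Scheme.{u}) ⟶ 𝔸(σ; S)) {S₀ : S.Opens} {V : X.Opens} (hVU : V ≤ U)
    (e : V ≤ f ⁻¹ᵁ S₀) : MvPolynomial σ Γ(S, S₀) →+* Γ(X, V) :=
  MvPolynomial.eval₂Hom (f.appLE S₀ V e).hom
    (fun i => X.presheaf.map (homOfLE hVU).op (chartCoord g i))

theorem topIso_hom_homOfLE_appTop {U V : X.Opens} (hVU : V ≤ U) (a : Γ((U : Scheme.{u}), ⊤)) :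
    V.topIso.hom.hom ((X.homOfLE hVU).appTop.hom a) =
      X.presheaf.map (homOfLE hVU).op (U.topIso.hom.hom a) := by
  have key : (X.homOfLE hVU).appTop ≫ V.topIso.hom =
      U.topIso.hom ≫ X.presheaf.map (homOfLE hVU).op := by
    rw [Scheme.homOfLE_appTop]
    simp only [Scheme.Opens.topIso_hom]
    change X.presheaf.map _ ≫ X.presheaf.map _ = X.presheaf.map _ ≫ X.presheaf.map _
    rw [← Functor.map_comp, ← Functor.map_comp]
    rfl
  exact congr($key a)

theorem chart_ring_eq (f : X ⟶ S) {σ : Type u} {U : X.Opens}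
    (g : (U : Scheme.{u}) ⟶ 𝔸(σ; S)) (hg : g ≫ (𝔸(σ; S) ↘ S) = U.ι ≫ f)
    {S₀ : S.Opens} (hS₀ : IsAffineOpen S₀) {V : X.Opens} (hV : IsAffineOpen V) (hVU : V ≤ U)
    (e : V ≤ f ⁻¹ᵁ S₀) :
    (hV.isoSpec.inv ≫ X.homOfLE hVU) ≫ g =
      Spec.map (CommRingCat.ofHom (chartRingHom f g hVU e)) ≫
        (AffineSpace.SpecIso σ (.of Γ(S, S₀))).inv ≫ AffineSpace.map σ hS₀.fromSpec := by
  apply AffineSpace.hom_ext
  · rw [Category.assoc, Category.assoc, hg, Category.assoc, Category.assoc, AffineSpace.map_over,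
      AffineSpace.SpecIso_inv_over_assoc, ← Spec.map_comp_assoc, ← CommRingCat.ofHom_comp]
    have h1 : (chartRingHom f g hVU e).comp MvPolynomial.C = (f.appLE S₀ V e).hom := by
      ext a
      simp [chartRingHom]
    rw [h1, CommRingCat.ofHom_hom, IsAffineOpen.SpecMap_appLE_fromSpec f hS₀ hV e,
      Scheme.homOfLE_ι_assoc, hV.isoSpec_inv_ι_assoc]
  · intro i
    simp only [Scheme.Hom.comp_appTop, CommRingCat.comp_apply, AffineSpace.map_appTop_coord,
      AffineSpace.SpecIso_inv_appTop_coord]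
    rw [hV.isoSpec_inv_appTop, CommRingCat.comp_apply, topIso_hom_homOfLE_appTop,
      ← CommRingCat.comp_apply (Scheme.ΓSpecIso _).inv, ← Scheme.ΓSpecIso_inv_naturality,
      CommRingCat.comp_apply]
    congr 1
    simp [chartRingHom, chartCoord]

theorem chartRingHom_flat_quasiFinite (f : X ⟶ S) {σ : Type u} {U : X.Opens}
    (g : (U : Scheme.{u}) ⟶ 𝔸(σ; S)) (hg : g ≫ (𝔸(σ; S) ↘ S) = U.ι ≫ f)
    [Flat g] [LocallyQuasiFinite g]
    {S₀ : S.Opens} (hS₀ : IsAffineOpen S₀) {V : X.Opens} (hV : IsAffineOpen V) (hVU : V ≤ U)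
    (e : V ≤ f ⁻¹ᵁ S₀) :
    (chartRingHom f g hVU e).Flat ∧ (chartRingHom f g hVU e).QuasiFinite := by
  have key := chart_ring_eq f g hg hS₀ hV hVU e
  have hoi : IsOpenImmersion ((AffineSpace.SpecIso σ (.of Γ(S, S₀))).inv ≫
      AffineSpace.map σ hS₀.fromSpec) := by
    have := CMQF33.isOpenImmersion_affineSpace_map σ hS₀.fromSpec
    infer_instance
  have h1 : Flat ((hV.isoSpec.inv ≫ X.homOfLE hVU) ≫ g) := inferInstance
  have h2 : LocallyQuasiFinite ((hV.isoSpec.inv ≫ X.homOfLE hVU) ≫ g) := inferInstance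
  rw [key] at h1 h2
  constructor
  · have : Flat (Spec.map (CommRingCat.ofHom (chartRingHom f g hVU e))) :=
      MorphismProperty.of_postcomp (W := @Flat) (W' := @IsOpenImmersion) _ _ hoi h1
    exact (HasRingHomProperty.Spec_iff (P := @Flat)).mp this
  · have := @LocallyQuasiFinite.of_comp _ _ _ _ _ h2
    exact (HasRingHomProperty.Spec_iff (P := @LocallyQuasiFinite)).mp this

/-- The sequence `P_i(t_i)` of sections over `V` attached to a chart and polynomials `P_i`. -/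
noncomputable def chartSeq (f : X ⟶ S) {n : ℕ} {U : X.Opens}
    (g : (U : Scheme.{u}) ⟶ 𝔸(ULift.{u} (Fin n); S)) {S₀ : S.Opens} {V : X.Opens} (hVU : V ≤ U)
    (e : V ≤ f ⁻¹ᵁ S₀) (P : Fin n → Polynomial Γ(S, S₀)) : List Γ(X, V) :=
  List.ofFn (fun i : Fin n => Polynomial.eval₂ (f.appLE S₀ V e).hom
    (X.presheaf.map (homOfLE hVU).op (chartCoord g (ULift.up i))) (P i))

theorem quotHom_ι_comp (f : X ⟶ S) {S₀ : S.Opens} (hS₀ : IsAffineOpen S₀) {V : X.Opens}
    (hV : IsAffineOpen V) (e : V ≤ f ⁻¹ᵁ S₀) (I : Ideal Γ(X, V)) :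
    quotHom hV I ≫ V.ι ≫ f = Spec.map (CommRingCat.ofHom
      ((Ideal.Quotient.mk I).comp (f.appLE S₀ V e).hom)) ≫ hS₀.fromSpec := by
  rw [← Category.assoc, quotHom_ι, Category.assoc,
    ← IsAffineOpen.SpecMap_appLE_fromSpec f hS₀ hV e, ← Spec.map_comp_assoc]
  rfl

theorem slice_chart (f : X ⟶ S) [LocallyOfFinitePresentation f] {n : ℕ} {U : X.Opens}
    (g : (U : Scheme.{u}) ⟶ 𝔸(ULift.{u} (Fin n); S))
    (hg : g ≫ (𝔸(ULift.{u} (Fin n); S) ↘ S) = U.ι ≫ f) [Flat g] [LocallyQuasiFinite g]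
    {S₀ : S.Opens} (hS₀ : IsAffineOpen S₀) {V : X.Opens} (hV : IsAffineOpen V) (hVU : V ≤ U)
    (e : V ≤ f ⁻¹ᵁ S₀) (P : Fin n → Polynomial Γ(S, S₀)) (hP : ∀ i, (P i).Monic)
    (hd : ∀ i, 0 < (P i).natDegree) :
    IsWeaklyRegular Γ(X, V) (chartSeq f g hVU e P) ∧
    Flat (quotHom hV (Ideal.ofList (chartSeq f g hVU e P)) ≫ V.ι ≫ f) ∧
    LocallyOfFinitePresentation (quotHom hV (Ideal.ofList (chartSeq f g hVU e P)) ≫ V.ι ≫ f) ∧
    LocallyQuasiFinite (quotHom hV (Ideal.ofList (chartSeq f g hVU e P)) ≫ V.ι ≫ f) := by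
  obtain ⟨hφfl, hφqf⟩ := chartRingHom_flat_quasiFinite f g hg hS₀ hV hVU e
  let algAB : Algebra Γ(S, S₀) Γ(X, V) := (f.appLE S₀ V e).hom.toAlgebra
  let algTB : Algebra (MvPolynomial (ULift.{u} (Fin n)) Γ(S, S₀)) Γ(X, V) :=
    (chartRingHom f g hVU e).toAlgebra
  have hC : ∀ a : Γ(S, S₀), chartRingHom f g hVU e (MvPolynomial.C a) = (f.appLE S₀ V e).hom a := by
    intro a
    simp [chartRingHom]
  have hXi : ∀ i, chartRingHom f g hVU e (MvPolynomial.X i) =
      X.presheaf.map (homOfLE hVU).op (chartCoord g i) := by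
    intro i
    simp [chartRingHom]
  have key : ∀ a : Γ(S, S₀), algebraMap Γ(S, S₀) Γ(X, V) a =
      algebraMap (MvPolynomial (ULift.{u} (Fin n)) Γ(S, S₀)) Γ(X, V)
        (algebraMap Γ(S, S₀) (MvPolynomial (ULift.{u} (Fin n)) Γ(S, S₀)) a) := by
    intro a
    exact (hC a).symm
  have tower : IsScalarTower Γ(S, S₀) (MvPolynomial (ULift.{u} (Fin n)) Γ(S, S₀)) Γ(X, V) :=
    .of_algebraMap_eq key
  have flat : Module.Flat (MvPolynomial (ULift.{u} (Fin n)) Γ(S, S₀)) Γ(X, V) := hφfl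
  have qf : Algebra.QuasiFinite (MvPolynomial (ULift.{u} (Fin n)) Γ(S, S₀)) Γ(X, V) := hφqf
  have hseq : chartSeq f g hVU e P = rs (Equiv.ulift.symm : Fin n ≃ ULift.{u} (Fin n)) P Γ(X, V) := by
    rw [chartSeq, rs]
    congr 1
    ext i
    change _ = chartRingHom f g hVU e _
    rw [Polynomial.aeval_def, Polynomial.hom_eval₂, hXi]
    congr 1
    ext a
    exact (hC a).symm
  obtain ⟨h1, h2, h3⟩ := slice (B := Γ(X, V)) (Equiv.ulift.symm : Fin n ≃ ULift.{u} (Fin n)) P hP hd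
  rw [← hseq] at h1 h2 h3
  refine ⟨h1, ?_⟩
  rw [quotHom_ι_comp f hS₀ hV e]
  have hψ : algebraMap Γ(S, S₀) (Γ(X, V) ⧸ Ideal.ofList (chartSeq f g hVU e P)) =
      (Ideal.Quotient.mk (Ideal.ofList (chartSeq f g hVU e P))).comp (f.appLE S₀ V e).hom := rfl
  have hfp : ((Ideal.Quotient.mk (Ideal.ofList (chartSeq f g hVU e P))).comp
      (f.appLE S₀ V e).hom).FinitePresentation := by
    apply RingHom.FinitePresentation.comp
    · apply RingHom.FinitePresentation.of_surjective _ Ideal.Quotient.mk_surjective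
      rw [Ideal.mk_ker]
      exact Submodule.fg_span (List.finite_toSet _)
    · exact HasRingHomProperty.appLE (P := @LocallyOfFinitePresentation) f inferInstance
        ⟨S₀, hS₀⟩ ⟨V, hV⟩ e
  refine ⟨?_, ?_, ?_⟩
  · have : Flat (Spec.map (CommRingCat.ofHom ((Ideal.Quotient.mk
        (Ideal.ofList (chartSeq f g hVU e P))).comp (f.appLE S₀ V e).hom))) := by
      rw [HasRingHomProperty.Spec_iff (P := @Flat), CommRingCat.hom_ofHom, ← hψ]
      exact RingHom.flat_algebraMap_iff.mpr h2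
    infer_instance
  · have : LocallyOfFinitePresentation (Spec.map (CommRingCat.ofHom ((Ideal.Quotient.mk
        (Ideal.ofList (chartSeq f g hVU e P))).comp (f.appLE S₀ V e).hom))) := by
      rw [HasRingHomProperty.Spec_iff (P := @LocallyOfFinitePresentation), CommRingCat.hom_ofHom]
      exact hfp
    infer_instance
  · have : LocallyQuasiFinite (Spec.map (CommRingCat.ofHom ((Ideal.Quotient.mk
        (Ideal.ofList (chartSeq f g hVU e P))).comp (f.appLE S₀ V e).hom))) := by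
      rw [HasRingHomProperty.Spec_iff (P := @LocallyQuasiFinite), CommRingCat.hom_ofHom, ← hψ]
      exact RingHom.quasiFinite_algebraMap.mpr (h3 qf)
    infer_instance

end Groth.Agent.Lib.MonicSlice33
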