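import Groth.Agent.Lib.MonicSlice33c
import Groth.Agent.Lib.H80EtaleResidue
import Groth.Agent.Lib.QuasiSectionDense68
import Mathlib

/-!
# Slicing via charts: choice of the monic polynomials (helper33)
-/

set_option autoImplicit false
universe u

open CategoryTheory AlgebraicGeometry RingTheory.Sequence Opposite Polynomial

namespace Groth.Agent.Lib.MonicSlice33

variable {X S : Scheme.{u}}

theorem exists_affineOpen_monic_lifts (S : Scheme.{u}) (s : S) {n : ℕ}
    (m : Fin n → (S.residueField s)[X]) (hm : ∀ i, (m i).Monic) :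
    ∃ (V : S.Opens) (_ : IsAffineOpen V) (hs : s ∈ V) (Q : Fin n → Γ(S, V)[X]),
      ∀ i, (Q i).Monic ∧ (Q i).natDegree = (m i).natDegree ∧
        (Q i).map (S.evaluation V s hs).hom = m i := by
  classical
  obtain ⟨W, hsW, hW⟩ := H80EtaleResidue.exists_open_evaluation_finset S s
    (Finset.univ.biUnion (fun i => (m i).coeffs))
  obtain ⟨V, hV, hsV, hVW⟩ := exists_isAffineOpen_mem_and_subset hsW
  have hlift : ∀ i, m i ∈ Polynomial.lifts (S.evaluation V s hsV).hom := by
    intro i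
    rw [Polynomial.lifts_iff_coeff_lifts]
    intro k
    by_cases hn : (m i).coeff k = 0
    · exact ⟨0, by rw [hn, map_zero]⟩
    · obtain ⟨t, ht⟩ := hW ((m i).coeff k)
        (Finset.mem_biUnion.mpr ⟨i, Finset.mem_univ _, Polynomial.coeff_mem_coeffs hn⟩)
      exact ⟨(S.presheaf.map (homOfLE hVW).op).hom t,
        (H80EtaleResidue.evaluation_res s hVW hsV t).trans ht⟩
  choose Q hQ hQd hQm using fun i => Polynomial.lifts_and_natDegree_eq_and_monic (hlift i) (hm i)
  exact ⟨V, hV, hsV, Q, fun i => ⟨hQm i, hQd i, hQ i⟩⟩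

/-- If `P` reduces at `f x` to a polynomial vanishing at the value `t(x)`, then `P(t)` lies in the
prime of `x`. -/
theorem eval₂_mem_primeIdealOf (f : X ⟶ S) (x : X) {S₀ : S.Opens} (hs : f x ∈ S₀)
    {V : X.Opens} (hV : IsAffineOpen V) (hx : x ∈ V) (e : V ≤ f ⁻¹ᵁ S₀) (t : Γ(X, V))
    (P : Γ(S, S₀)[X])
    (h0 : Polynomial.eval₂ (f.residueFieldMap x).hom (X.evaluation V x hx t)
      (P.map (S.evaluation S₀ (f x) hs).hom) = 0) :
    Polynomial.eval₂ (f.appLE S₀ V e).hom t P ∈ (hV.primeIdealOf ⟨x, hx⟩).asIdeal := by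
  rw [mem_primeIdealOf_iff]
  change (X.evaluation V x hx).hom _ = 0
  rw [Polynomial.hom_eval₂]
  rw [Polynomial.eval₂_map] at h0
  have hcomp : (X.evaluation V x hx).hom.comp (f.appLE S₀ V e).hom =
      (f.residueFieldMap x).hom.comp (S.evaluation S₀ (f x) hs).hom := by
    ext a
    simp only [RingHom.comp_apply]
    have h1 := Scheme.evaluation_naturality_apply f x hs a
    have h2 : (f.appLE S₀ V e).hom a = X.presheaf.map (homOfLE e).op ((f.app S₀).hom a) := by
      rw [Scheme.Hom.appLE]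
      rfl
    rw [h2]
    exact (evaluation_res e x hx _).trans h1.symm
  rw [hcomp]
  exact h0

theorem exists_polys (f : X ⟶ S) [LocallyOfFiniteType f] (x : X)
    (hcl : IsClosed ({f.asFiber x} : Set ↑(f.fiber (f x)))) {n : ℕ} {U : X.Opens} (hxU : x ∈ U)
    (g : (U : Scheme.{u}) ⟶ 𝔸(ULift.{u} (Fin n); S)) :
    ∃ (S₀ : S.Opens) (_ : IsAffineOpen S₀) (hs : f x ∈ S₀) (P : Fin n → Γ(S, S₀)[X]),
      (∀ i, (P i).Monic) ∧ (∀ i, 0 < (P i).natDegree) ∧
      ∀ i, Polynomial.eval₂ (f.residueFieldMap x).hom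
        (X.evaluation U x hxU (chartCoord g (ULift.up i)))
        ((P i).map (S.evaluation S₀ (f x) hs).hom) = 0 := by
  have hfin := QuasiSectionDense68.finite_residueFieldMap_of_isClosed_asFiber f x hcl
  let alg : Algebra (S.residueField (f x)) (X.residueField x) :=
    (f.residueFieldMap x).hom.toAlgebra
  have hmf : Module.Finite (S.residueField (f x)) (X.residueField x) := hfin
  have hint : Algebra.IsIntegral (S.residueField (f x)) (X.residueField x) := inferInstance
  let c : Fin n → X.residueField x :=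
    fun i => X.evaluation U x hxU (chartCoord g (ULift.up i))
  let m : Fin n → (S.residueField (f x))[X] := fun i => minpoly (S.residueField (f x)) (c i)
  have hm : ∀ i, (m i).Monic := fun i => minpoly.monic (Algebra.IsIntegral.isIntegral _)
  obtain ⟨S₀, hS₀, hs, P, hP⟩ := exists_affineOpen_monic_lifts S (f x) m hm
  refine ⟨S₀, hS₀, hs, P, fun i => (hP i).1, fun i => ?_, fun i => ?_⟩
  · rw [(hP i).2.1]
    exact minpoly.natDegree_pos (Algebra.IsIntegral.isIntegral _)
  · rw [(hP i).2.2]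
    exact minpoly.aeval (S.residueField (f x)) (c i)

/-- The sliced ideal is contained in the prime of `x`. -/
theorem ofList_chartSeq_le (f : X ⟶ S) (x : X) {n : ℕ} {U : X.Opens} (hxU : x ∈ U)
    (g : (U : Scheme.{u}) ⟶ 𝔸(ULift.{u} (Fin n); S)) {S₀ : S.Opens} (hs : f x ∈ S₀)
    (P : Fin n → Γ(S, S₀)[X])
    (h0 : ∀ i, Polynomial.eval₂ (f.residueFieldMap x).hom
        (X.evaluation U x hxU (chartCoord g (ULift.up i)))
        ((P i).map (S.evaluation S₀ (f x) hs).hom) = 0)
    {V : X.Opens} (hV : IsAffineOpen V) (hx : x ∈ V) (hVU : V ≤ U) (e : V ≤ f ⁻¹ᵁ S₀) :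
    Ideal.ofList (chartSeq f g hVU e P) ≤ (hV.primeIdealOf ⟨x, hx⟩).asIdeal := by
  rw [Ideal.ofList, Ideal.span_le]
  intro r hr
  change r ∈ chartSeq f g hVU e P at hr
  rw [chartSeq, List.mem_ofFn] at hr
  obtain ⟨i, rfl⟩ := hr
  apply eval₂_mem_primeIdealOf f x hs hV hx e
  rw [evaluation_res hVU x hx]
  exact h0 i

end Groth.Agent.Lib.MonicSlice33
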