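import Groth.Agent.Lib.MonicSlice33d
import Mathlib

/-!
# Slicing a Cohen–Macaulay morphism to a quasi-finite flat one (helper33)
-/

set_option autoImplicit false
universe u

open CategoryTheory AlgebraicGeometry RingTheory.Sequence Opposite Polynomial

namespace Groth.Agent.Lib.MonicSlice33

variable {X S : Scheme.{u}}

theorem le_primeIdealOf_of_mem_range {V : X.Opens} (hV : IsAffineOpen V) (I : Ideal Γ(X, V))
    (y : X) (hy : y ∈ V) (h : y ∈ Set.range ⇑(quotHom hV I ≫ V.ι)) :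
    I ≤ (hV.primeIdealOf ⟨y, hy⟩).asIdeal := by
  rw [quotHom_ι] at h
  obtain ⟨z, hz⟩ := h
  rw [Scheme.Hom.comp_apply] at hz
  have h1 : hV.primeIdealOf ⟨y, hy⟩ = Spec.map (CommRingCat.ofHom (Ideal.Quotient.mk I)) z := by
    apply hV.fromSpec.isOpenEmbedding.injective
    rw [hV.fromSpec_primeIdealOf, hz]
  rw [h1]
  intro a ha
  change Ideal.Quotient.mk I a ∈ z.asIdeal
  rw [Ideal.Quotient.eq_zero_iff_mem.mpr ha]
  exact zero_mem _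

theorem chartSeq_map_res (f : X ⟶ S) {n : ℕ} {U : X.Opens}
    (g : (U : Scheme.{u}) ⟶ 𝔸(ULift.{u} (Fin n); S)) {S₀ : S.Opens} {V₁ V₂ : X.Opens}
    (h21 : V₂ ≤ V₁) (hV₁U : V₁ ≤ U) (e₁ : V₁ ≤ f ⁻¹ᵁ S₀) (P : Fin n → Γ(S, S₀)[X]) :
    chartSeq f g (h21.trans hV₁U) (h21.trans e₁) P =
      (chartSeq f g hV₁U e₁ P).map (X.presheaf.map (homOfLE h21).op).hom := by
  rw [chartSeq, chartSeq, List.map_ofFn]
  congr 1
  ext i
  simp only [Function.comp_apply]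
  rw [Polynomial.hom_eval₂]
  congr 1
  · rw [← CommRingCat.hom_comp, Scheme.Hom.appLE_map]
  · change _ = (X.presheaf.map (homOfLE hV₁U).op ≫ X.presheaf.map (homOfLE h21).op).hom _
    rw [← Functor.map_comp]
    rfl

theorem le_primeIdealOf_of_le (f : X ⟶ S) {n : ℕ} {U : X.Opens}
    (g : (U : Scheme.{u}) ⟶ 𝔸(ULift.{u} (Fin n); S)) {S₀ : S.Opens} {V₁ V₂ : X.Opens}
    (hV₁ : IsAffineOpen V₁) (hV₂ : IsAffineOpen V₂)
    (h21 : V₂ ≤ V₁) (hV₁U : V₁ ≤ U) (e₁ : V₁ ≤ f ⁻¹ᵁ S₀) (P : Fin n → Γ(S, S₀)[X])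
    (y : X) (hy : y ∈ V₂)
    (h : Ideal.ofList (chartSeq f g (h21.trans hV₁U) (h21.trans e₁) P) ≤
      (hV₂.primeIdealOf ⟨y, hy⟩).asIdeal) :
    Ideal.ofList (chartSeq f g hV₁U e₁ P) ≤ (hV₁.primeIdealOf ⟨y, h21 hy⟩).asIdeal := by
  rw [Ideal.ofList, Ideal.span_le]
  intro r hr
  change r ∈ chartSeq f g hV₁U e₁ P at hr
  change r ∈ (hV₁.primeIdealOf ⟨y, h21 hy⟩).asIdeal
  rw [mem_primeIdealOf_iff, ← evaluation_res h21 y hy, ← mem_primeIdealOf_iff hV₂]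
  apply h
  apply Ideal.subset_span
  change _ ∈ chartSeq f g (h21.trans hV₁U) (h21.trans e₁) P
  rw [chartSeq_map_res f g h21 hV₁U e₁ P]
  exact List.mem_map_of_mem hr

/-- **Slicing a Cohen–Macaulay morphism.** -/
theorem exists_slice (f : X ⟶ S) [LocallyOfFinitePresentation f] (x : X)
    (hcm : MoreMor.IsCMAt f x) (hcl : IsClosed ({f.asFiber x} : Set ↑(f.fiber (f x)))) :
    ∃ (V : X.Opens) (hV : IsAffineOpen V) (rs : List Γ(X, V)),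
      IsRegular Γ(X, V) rs ∧ x ∈ Set.range ⇑(quotHom hV (Ideal.ofList rs) ≫ V.ι) ∧
      Flat (quotHom hV (Ideal.ofList rs) ≫ V.ι ≫ f) ∧
      LocallyOfFinitePresentation (quotHom hV (Ideal.ofList rs) ≫ V.ι ≫ f) ∧
      LocallyQuasiFinite (quotHom hV (Ideal.ofList rs) ≫ V.ι ≫ f) ∧
      ∀ z, f (V.ι (quotHom hV (Ideal.ofList rs) z)) = f x →
        V.ι (quotHom hV (Ideal.ofList rs) z) = x := by
  obtain ⟨n, U, hxU, g, hg, hqf, hfl⟩ := (CMQF33.hasQFChart f x hcm).exists_opens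
  have hlft : LocallyOfFiniteType f := inferInstance
  obtain ⟨S₀, hS₀, hs, P, hPm, hPd, hP0⟩ := exists_polys f x hcl hxU g
  -- first affine neighbourhood
  obtain ⟨V₁, hV₁, hxV₁, hV₁le⟩ :=
    exists_isAffineOpen_mem_and_subset (x := x) (U := U ⊓ f ⁻¹ᵁ S₀) ⟨hxU, hs⟩
  have hV₁U : V₁ ≤ U := fun y hy => (hV₁le hy).1
  have e₁ : V₁ ≤ f ⁻¹ᵁ S₀ := fun y hy => (hV₁le hy).2
  obtain ⟨hw₁, hfl₁, hfp₁, hqf₁⟩ := slice_chart f g hg hS₀ hV₁ hV₁U e₁ P hPm hPd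
  have hle₁ := ofList_chartSeq_le f x hxU g hs P hP0 hV₁ hxV₁ hV₁U e₁
  obtain ⟨z₁, hz₁⟩ := mem_range_quotHom hV₁ _ x hxV₁ hle₁
  -- discreteness of the fibre
  have hdisc := (quotHom hV₁ (Ideal.ofList (chartSeq f g hV₁U e₁ P)) ≫ V₁.ι ≫
    f).isDiscrete_preimage_singleton (f x)
  have hz₁mem : z₁ ∈ (quotHom hV₁ (Ideal.ofList (chartSeq f g hV₁U e₁ P)) ≫ V₁.ι ≫ f) ⁻¹'
      {f x} := by
    rw [Set.mem_preimage, Set.mem_singleton_iff, ← Category.assoc, Scheme.Hom.comp_apply, hz₁]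
  obtain ⟨O, hO, hOz⟩ := isDiscrete_iff_forall_mem_exists_isOpen.mp hdisc z₁ hz₁mem
  obtain ⟨O', hO', hOO'⟩ := (quotHom hV₁ (Ideal.ofList (chartSeq f g hV₁U e₁ P)) ≫
    V₁.ι).isEmbedding.isInducing.isOpen_iff.mp hO
  have hxO' : x ∈ O' := by
    have : z₁ ∈ O := by
      have : z₁ ∈ O ∩ _ := hOz ▸ Set.mem_singleton z₁
      exact this.1
    rw [← hOO'] at this
    rw [← hz₁]
    exact this
  -- second affine neighbourhood
  obtain ⟨V₂, hV₂, hxV₂, hV₂le⟩ :=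
    exists_isAffineOpen_mem_and_subset (x := x) (U := V₁ ⊓ ⟨O', hO'⟩) ⟨hxV₁, hxO'⟩
  have h21 : V₂ ≤ V₁ := fun y hy => (hV₂le hy).1
  have hV₂O' : ∀ y ∈ V₂, y ∈ O' := fun y hy => (hV₂le hy).2
  obtain ⟨hw₂, hfl₂, hfp₂, hqf₂⟩ :=
    slice_chart f g hg hS₀ hV₂ (h21.trans hV₁U) (h21.trans e₁) P hPm hPd
  have hle₂ := ofList_chartSeq_le f x hxU g hs P hP0 hV₂ hxV₂ (h21.trans hV₁U) (h21.trans e₁)
  refine ⟨V₂, hV₂, chartSeq f g (h21.trans hV₁U) (h21.trans e₁) P, ⟨hw₂, ?_⟩,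
    mem_range_quotHom hV₂ _ x hxV₂ hle₂, hfl₂, hfp₂, hqf₂, ?_⟩
  · intro htop
    have h1 : (Ideal.ofList (chartSeq f g (h21.trans hV₁U) (h21.trans e₁) P) •
        (⊤ : Submodule Γ(X, V₂) Γ(X, V₂))) =
        Ideal.ofList (chartSeq f g (h21.trans hV₁U) (h21.trans e₁) P) := by
      rw [smul_eq_mul, Ideal.mul_top]
    rw [h1] at htop
    exact (hV₂.primeIdealOf ⟨x, hxV₂⟩).isPrime.ne_top (top_le_iff.mp (htop ▸ hle₂))
  · intro z hz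
    set y := V₂.ι (quotHom hV₂ (Ideal.ofList (chartSeq f g (h21.trans hV₁U) (h21.trans e₁) P)) z)
      with hy
    have hyV₂ : y ∈ V₂ := (quotHom hV₂ _ z).2
    have hyr : y ∈ Set.range ⇑(quotHom hV₂
        (Ideal.ofList (chartSeq f g (h21.trans hV₁U) (h21.trans e₁) P)) ≫ V₂.ι) :=
      ⟨z, by rw [Scheme.Hom.comp_apply]⟩
    have hle := le_primeIdealOf_of_mem_range hV₂ _ y hyV₂ hyr
    have hle' := le_primeIdealOf_of_le f g hV₁ hV₂ h21 hV₁U e₁ P y hyV₂ hle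
    obtain ⟨z', hz'⟩ := mem_range_quotHom hV₁ _ y (h21 hyV₂) hle'
    have hz'O : z' ∈ O := by
      rw [← hOO', Set.mem_preimage, hz']
      exact hV₂O' y hyV₂
    have hz'f : z' ∈ (quotHom hV₁ (Ideal.ofList (chartSeq f g hV₁U e₁ P)) ≫ V₁.ι ≫ f) ⁻¹'
        {f x} := by
      rw [Set.mem_preimage, Set.mem_singleton_iff, ← Category.assoc, Scheme.Hom.comp_apply, hz',
        hz]
    have : z' ∈ ({z₁} : Set _) := hOz ▸ ⟨hz'O, hz'f⟩
    rw [Set.mem_singleton_iff] at this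
    rw [← hz', this, hz₁]

end Groth.Agent.Lib.MonicSlice33
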