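import Mathlib
import Groth.Agent.Lib.H80DecentPt
import Groth.Agent.Lib.EtaleFieldMono

/-!
# Monomorphisms into locally Artinian schemes (helper46)

* `eq_top_of_sup_smul_eq_top`: Nakayama for a nilpotent ideal (no finiteness).
* `surjective_of_isEpi_of_isNilpotent`: an epimorphism of rings from a local ring with nilpotent
  maximal ideal to a nontrivial ring is surjective.
* `isFinite_of_mono_of_subsingleton`: a monomorphism to a one-point locally Artinian scheme is finite.
* `lqf_lft_of_mono`: a monomorphism into a scheme locally quasi-finite over a field is again so.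
-/

set_option autoImplicit false
universe u

namespace Groth.Agent.Lib.MonoArtin46

open CategoryTheory CategoryTheory.Limits AlgebraicGeometry TopologicalSpace TensorProduct

/-- Nakayama for a nilpotent ideal, without finiteness. -/
theorem eq_top_of_sup_smul_eq_top {A B : Type*} [CommRing A] [AddCommGroup B] [Module A B]
    (I : Ideal A) (hI : IsNilpotent I) (N : Submodule A B) (h : N ⊔ I • (⊤ : Submodule A B) = ⊤) :
    N = ⊤ := by
  obtain ⟨n, hn⟩ := hI
  have key : ∀ k : ℕ, N ⊔ (I ^ k) • (⊤ : Submodule A B) = ⊤ := by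
    intro k
    induction k with
    | zero => simp
    | succ k ih =>
      have step : (I ^ k) • (⊤ : Submodule A B) ≤ N ⊔ (I ^ (k + 1)) • (⊤ : Submodule A B) := by
        calc (I ^ k) • (⊤ : Submodule A B) = (I ^ k) • (N ⊔ I • (⊤ : Submodule A B)) := by rw [h]
          _ = (I ^ k) • N ⊔ (I ^ k) • (I • (⊤ : Submodule A B)) := Submodule.smul_sup _ _ _
          _ ≤ N ⊔ (I ^ (k + 1)) • (⊤ : Submodule A B) := by
            refine sup_le_sup Submodule.smul_le_right ?_
            rw [← Submodule.mul_smul, ← pow_succ]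
      apply top_le_iff.1
      calc (⊤ : Submodule A B) = N ⊔ (I ^ k) • (⊤ : Submodule A B) := ih.symm
        _ ≤ N ⊔ (I ^ (k + 1)) • (⊤ : Submodule A B) := sup_le le_sup_left step
  have := key n
  rw [hn, Submodule.zero_eq_bot, Submodule.bot_smul, sup_bot_eq] at this
  exact this

theorem surjective_of_isEpi_of_isNilpotent {A B : Type u} [CommRing A] [CommRing B] [Algebra A B]
    [IsLocalRing A] (hnil : IsNilpotent (IsLocalRing.maximalIdeal A)) [Nontrivial B]
    [Algebra.IsEpi A B] : Function.Surjective (algebraMap A B) := by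
  set m := IsLocalRing.maximalIdeal A with hm
  have hmax : m.IsMaximal := IsLocalRing.maximalIdeal.isMaximal A
  let _ : Field (A ⧸ m) := Ideal.Quotient.field m
  -- nontriviality of the fibre
  have hne : Nontrivial ((A ⧸ m) ⊗[A] B) := by
    by_contra hcon
    rw [not_nontrivial_iff_subsingleton] at hcon
    have h1 : Subsingleton (B ⧸ (m • (⊤ : Submodule A B))) :=
      (TensorProduct.quotTensorEquivQuotSMul B m).symm.injective.subsingleton
    have h2 : m • (⊤ : Submodule A B) = ⊤ := Submodule.Quotient.subsingleton_iff.mp h1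
    have h3 := eq_top_of_sup_smul_eq_top m hnil (⊥ : Submodule A B) (by rw [bot_sup_eq, h2])
    have : Subsingleton B := by
      refine ⟨fun x y => ?_⟩
      have hx : x ∈ (⊥ : Submodule A B) := h3 ▸ Submodule.mem_top
      have hy : y ∈ (⊥ : Submodule A B) := h3 ▸ Submodule.mem_top
      rw [Submodule.mem_bot] at hx hy
      rw [hx, hy]
    exact not_subsingleton B this
  -- the fibre is an epimorphic algebra over the residue field
  have hepi : Algebra.IsEpi (A ⧸ m) ((A ⧸ m) ⊗[A] B) := by
    have hAB : Epi (CommRingCat.ofHom (algebraMap A B)) := CommRingCat.epi_iff_epi.2 inferInstance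
    have hpo := CommRingCat.isPushout_tensorProduct A (A ⧸ m) B
    have : Epi (CommRingCat.ofHom (S := (A ⧸ m) ⊗[A] B)
        (Algebra.TensorProduct.includeLeftRingHom (R := A) (A := A ⧸ m) (B := B))) :=
      PushoutCocone.epi_inl_of_is_pushout_of_epi hpo.isColimit
    exact CommRingCat.epi_iff_epi.1 this
  have hbij := Groth.Agent.Lib.H80DecentPt.bijective_algebraMap_of_isEpi (A ⧸ m) ((A ⧸ m) ⊗[A] B)
  -- conclude by Nakayama
  have hN : LinearMap.range (Algebra.linearMap A B) ⊔ m • (⊤ : Submodule A B) = ⊤ := by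
    rw [eq_top_iff]
    intro b _
    obtain ⟨c, hc⟩ := hbij.2 ((1 : A ⧸ m) ⊗ₜ[A] b)
    obtain ⟨a, rfl⟩ := Ideal.Quotient.mk_surjective c
    have h0 : (Ideal.Quotient.mk m a) ⊗ₜ[A] (1 : B) = (1 : A ⧸ m) ⊗ₜ[A] (algebraMap A B a) := by
      have : Ideal.Quotient.mk m a = a • (1 : A ⧸ m) := by
        rw [Algebra.smul_def, mul_one]; rfl
      rw [this, TensorProduct.smul_tmul, Algebra.smul_def, mul_one]
    have h1 : (1 : A ⧸ m) ⊗ₜ[A] (b - algebraMap A B a) = 0 := by
      rw [TensorProduct.tmul_sub, ← hc, Algebra.TensorProduct.algebraMap_apply, ← h0, sub_eq_zero]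
      rfl
    have h2 : b - algebraMap A B a ∈ m • (⊤ : Submodule A B) := by
      have := congrArg (TensorProduct.quotTensorEquivQuotSMul B m) h1
      rw [TensorProduct.quotTensorEquivQuotSMul_mk_one_tmul, map_zero,
        Submodule.Quotient.mk_eq_zero] at this
      exact this
    have h3 : b = algebraMap A B a + (b - algebraMap A B a) := by ring
    rw [h3]
    exact Submodule.add_mem_sup ⟨a, rfl⟩ h2
  have hR := eq_top_of_sup_smul_eq_top m hnil _ hN
  intro b
  have : b ∈ LinearMap.range (Algebra.linearMap A B) := hR ▸ Submodule.mem_top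
  obtain ⟨a, ha⟩ := this
  exact ⟨a, ha⟩

set_option backward.isDefEq.respectTransparency.types false in
/-- A monomorphism to a one-point locally Artinian scheme is finite. -/
theorem isFinite_of_mono_of_subsingleton {W V : Scheme.{u}} (g : W ⟶ V) [Mono g]
    [Subsingleton ↥V] [IsLocallyArtinian V] : IsFinite g := by
  by_cases hW : IsEmpty ↥W
  · infer_instance
  rw [not_isEmpty_iff] at hW
  obtain ⟨w₀⟩ := hW
  have hneW : Nonempty ↥W := ⟨w₀⟩
  have hneV : Nonempty ↥V := ⟨g w₀⟩
  have hsubW : Subsingleton ↥W := g.injective.subsingleton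
  have hV : IsAffine V := Groth.Agent.Lib.H80DecentPt.isAffine_of_subsingleton V
  have hW : IsAffine W := Groth.Agent.Lib.H80DecentPt.isAffine_of_subsingleton W
  have hart : IsArtinianRing ↥Γ(V, ⊤) :=
    IsLocallyArtinian.isArtinianRing_presheaf_obj ⟨⊤, isAffineOpen_top V⟩
  have hsp : Subsingleton (PrimeSpectrum ↥Γ(V, ⊤)) :=
    (Scheme.homeoOfIso V.isoSpec).symm.injective.subsingleton
  have hnt : Nontrivial ↥Γ(V, ⊤) := by
    have : Nonempty (PrimeSpectrum ↥Γ(V, ⊤)) := ⟨Scheme.homeoOfIso V.isoSpec (g w₀)⟩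
    exact (PrimeSpectrum.nonempty_iff_nontrivial).1 this
  have hloc : IsLocalRing ↥Γ(V, ⊤) := by
    obtain ⟨m, hm⟩ := Ideal.exists_maximal ↥Γ(V, ⊤)
    refine IsLocalRing.of_unique_max_ideal ⟨m, hm, fun m' hm' => ?_⟩
    exact congrArg PrimeSpectrum.asIdeal
      (Subsingleton.elim (⟨m', hm'.isPrime⟩ : PrimeSpectrum ↥Γ(V, ⊤)) ⟨m, hm.isPrime⟩)
  have hntW : Nontrivial ↥Γ(W, ⊤) := by
    have : Nonempty (PrimeSpectrum ↥Γ(W, ⊤)) := ⟨Scheme.homeoOfIso W.isoSpec w₀⟩
    exact (PrimeSpectrum.nonempty_iff_nontrivial).1 this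
  have hmono : Mono (Spec.map g.appTop) := by
    have e : Spec.map g.appTop = W.isoSpec.inv ≫ g ≫ V.isoSpec.hom := by
      rw [← Scheme.isoSpec_hom_naturality, Iso.inv_hom_id_assoc]
    rw [e]
    infer_instance
  have hepi : Epi g.appTop := by
    have : Mono g.appTop.op := Scheme.Spec.mono_of_mono_map hmono
    exact unop_epi_of_mono g.appTop.op
  algebraize [g.appTop.hom]
  have hE : Algebra.IsEpi ↥Γ(V, ⊤) ↥Γ(W, ⊤) := CommRingCat.epi_iff_epi.1 hepi
  have hnil : IsNilpotent (IsLocalRing.maximalIdeal ↥Γ(V, ⊤)) := by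
    rw [← IsLocalRing.jacobson_eq_maximalIdeal ⊥ bot_ne_top]
    exact IsArtinianRing.isNilpotent_jacobson_bot
  have hsurj : Function.Surjective g.appTop.hom :=
    surjective_of_isEpi_of_isNilpotent hnil
  rw [HasAffineProperty.iff_of_isAffine (P := @IsFinite)]
  exact ⟨hW, RingHom.Finite.of_surjective _ hsurj⟩

set_option backward.isDefEq.respectTransparency.types false in
theorem lqf_lft_of_mono {k : Type u} [Field k] {W Z : Scheme.{u}} (g : W ⟶ Z) [Mono g]
    (f : Z ⟶ Spec (CommRingCat.of k)) [LocallyQuasiFinite f] [LocallyOfFiniteType f] :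
    LocallyQuasiFinite (g ≫ f) ∧ LocallyOfFiniteType (g ≫ f) := by
  have hdisc : DiscreteTopology ↥Z := Groth.Agent.Lib.EtaleFieldMono.discreteTopology_of_lqf_field f
  have hLA : IsLocallyArtinian Z := IsLocallyArtinian.of_locallyQuasiFinite f
  let V : ↥Z → Z.Opens := fun z => ⟨{z}, isOpen_discrete _⟩
  have hcov : iSup V = ⊤ := by
    ext x
    simp only [Opens.coe_iSup, Set.mem_iUnion, Opens.coe_top, Set.mem_univ, iff_true]
    exact ⟨x, rfl⟩
  have hfin : ∀ z, IsFinite (g ∣_ V z) := by
    intro z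
    have hm : Mono (g ∣_ V z) := (isPullback_morphismRestrict g (V z)).mono_fst_of_mono
    have hsub : Subsingleton ↥(V z : Scheme.{u}) := ⟨fun a b => Subtype.ext (a.2.trans b.2.symm)⟩
    have hla : IsLocallyArtinian (V z : Scheme.{u}) := IsLocallyArtinian.of_locallyQuasiFinite (V z).ι
    exact isFinite_of_mono_of_subsingleton _
  have hlft : LocallyOfFiniteType g := by
    rw [IsZariskiLocalAtTarget.iff_of_iSup_eq_top (P := @LocallyOfFiniteType.{u}) V hcov]
    intro z
    have := hfin z
    infer_instance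
  have hlqf : LocallyQuasiFinite g := inferInstance
  exact ⟨inferInstance, inferInstance⟩

end Groth.Agent.Lib.MonoArtin46
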