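import Mathlib.Algebra.Algebra.Epi
import Mathlib.Algebra.Category.Ring.Epi
import Mathlib.RingTheory.Flat.FaithfullyFlat.Basic
import Mathlib.AlgebraicGeometry.ResidueField
import Mathlib.AlgebraicGeometry.Morphisms.Preimmersion

/-!
# Monomorphisms of schemes induce isomorphisms on residue fields (helper45)
-/

set_option autoImplicit false
universe u
open CategoryTheory CategoryTheory.Limits AlgebraicGeometry TensorProduct

namespace Groth.Agent.Lib.MonoResidue45

/-- An epimorphic algebra over a field is a quotient of the field. -/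
theorem surjective_of_isEpi_field (k A : Type*) [Field k] [Ring A] [Algebra k A]
    [Algebra.IsEpi k A] : Function.Surjective (algebraMap k A) := by
  have h : Algebra.IsEpi k A := inferInstance
  let R' := (Algebra.linearMap k A).range
  rcases subsingleton_or_nontrivial (A ⧸ R') with h' | _
  · rwa [Submodule.Quotient.subsingleton_iff, LinearMap.range_eq_top] at h'
  have : Subsingleton ((A ⧸ R') ⊗[k] (A ⧸ R')) := by
    refine subsingleton_of_forall_eq 0 fun y ↦ ?_
    induction y with
    | zero => rfl
    | add a b e₁ e₂ => rwa [e₁, zero_add]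
    | tmul x y =>
      obtain ⟨x, rfl⟩ := R'.mkQ_surjective x
      obtain ⟨y, rfl⟩ := R'.mkQ_surjective y
      obtain ⟨s, hs⟩ : ∃ s, 1 ⊗ₜ[k] s = x ⊗ₜ[k] y := by
        use x * y
        trans x ⊗ₜ 1 * 1 ⊗ₜ y
        · simp [(Algebra.isEpi_iff_forall_one_tmul_eq k A).mp]
        · simp
      have : R'.mkQ 1 = 0 := (Submodule.Quotient.mk_eq_zero R').mpr ⟨1, map_one (algebraMap k A)⟩
      rw [← map_tmul R'.mkQ R'.mkQ, ← hs, map_tmul, this, zero_tmul]
  cases false_of_nontrivial_of_subsingleton ((A ⧸ R') ⊗[k] (A ⧸ R'))

variable {X Y : Scheme.{u}}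

/-- The residue field maps of a monomorphism are epimorphisms of commutative rings. -/
theorem epi_residueFieldMap (f : Y ⟶ X) [Mono f] (y : Y) : Epi (f.residueFieldMap y) := by
  refine ⟨fun {T} a b e => ?_⟩
  have h1 : (Spec.map a ≫ Y.fromSpecResidueField y) ≫ f =
      (Spec.map b ≫ Y.fromSpecResidueField y) ≫ f := by
    rw [Category.assoc, Category.assoc, ← Scheme.Hom.SpecMap_residueFieldMap_fromSpecResidueField,
      ← Spec.map_comp_assoc, ← Spec.map_comp_assoc, e]
  have h2 := (cancel_mono f).mp h1
  have h3 := (cancel_mono (Y.fromSpecResidueField y)).mp h2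
  exact Spec.map_injective h3

/-- The residue field maps of a monomorphism of schemes are surjective. -/
theorem surjective_residueFieldMap (f : Y ⟶ X) [Mono f] (y : Y) :
    Function.Surjective (f.residueFieldMap y).hom := by
  have := epi_residueFieldMap f y
  algebraize [(f.residueFieldMap y).hom]
  have h : Algebra.IsEpi (X.residueField (f y)) (Y.residueField y) :=
    CommRingCat.epi_iff_epi.mp (inferInstanceAs (Epi (f.residueFieldMap y)))
  exact surjective_of_isEpi_field _ _

theorem isIso_residueFieldMap (f : Y ⟶ X) [Mono f] (y : Y) : IsIso (f.residueFieldMap y) := by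
  rw [ConcreteCategory.isIso_iff_bijective]
  exact ⟨(f.residueFieldMap y).hom.injective, surjective_residueFieldMap f y⟩

end Groth.Agent.Lib.MonoResidue45
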