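import Mathlib.AlgebraicGeometry.ValuativeCriterion
import Mathlib.AlgebraicGeometry.Noetherian
import Mathlib.AlgebraicGeometry.Morphisms.FiniteType
import Mathlib.AlgebraicGeometry.Morphisms.UniversallyInjective
import Groth.Agent.Lib.MonoResidue45
import Groth.Agent.Lib.DvrDominating

/-!
# Monomorphisms with DVR lifting reflect specializations over locally Noetherian schemes (helper85)

A variant of `Groth.Agent.Lib.MonoSpec45.specializes_of_valLift` (helper45) where only lifting
for discrete valuation rings is assumed, but the base-change scheme is locally Noetherian.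
-/

set_option autoImplicit false
universe u
open CategoryTheory CategoryTheory.Limits AlgebraicGeometry IsLocalRing

namespace Groth.Agent.Lib.MonoDvrSpec

variable {X Y : Scheme.{u}}

/-- The valuative lifting property for DVRs with a closed-point lift. -/
def DvrLift (f : Y ⟶ X) : Prop :=
  ∀ S : ValuativeCommSq f, IsDiscreteValuationRing S.R →
    (∃ l₀ : Spec (CommRingCat.of (IsLocalRing.ResidueField S.R)) ⟶ Y,
        l₀ ≫ f = Spec.map (CommRingCat.ofHom (IsLocalRing.residue S.R)) ≫ S.i₂) →
      S.commSq.HasLift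

/-- On a locally Noetherian scheme, the map of stalks induced by a specialization is
essentially of finite type. -/
theorem essFiniteType_stalkSpecializes {Z : Scheme.{u}} {x y : Z} (hsp : x ⤳ y) :
    (Z.presheaf.stalkSpecializes hsp).hom.EssFiniteType := by
  obtain ⟨_, ⟨U, hU, rfl⟩, hyU, -⟩ :=
    Z.isBasis_affineOpens.exists_subset_of_mem_open (Set.mem_univ y) isOpen_univ
  have hxU : x ∈ U := hsp.mem_open U.2 hyU
  refine RingHom.EssFiniteType.of_comp (Z.presheaf.germ U y hyU).hom ?_
  have hcomp : (Z.presheaf.stalkSpecializes hsp).hom.comp (Z.presheaf.germ U y hyU).hom =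
      (Z.presheaf.germ U x hxU).hom := by
    rw [← CommRingCat.hom_comp, TopCat.Presheaf.germ_stalkSpecializes]
  rw [hcomp]
  let _ := Z.presheaf.algebra_section_stalk ⟨x, hxU⟩
  have hloc := hU.isLocalization_stalk ⟨x, hxU⟩
  exact Algebra.EssFiniteType.of_isLocalization _ (hU.primeIdealOf ⟨x, hxU⟩).asIdeal.primeCompl

set_option backward.isDefEq.respectTransparency false in
theorem specializes_of_dvrLift (f : Y ⟶ X) [Mono f] (hf : DvrLift f)
    (X' : Scheme.{u}) [IsLocallyNoetherian X'] (g : X' ⟶ X) (y₀ y₁ : ↥(pullback f g))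
    (h : (pullback.snd f g) y₁ ⤳ (pullback.snd f g) y₀) : y₁ ⤳ y₀ := by
  let P := pullback f g
  let f' : P ⟶ X' := pullback.snd f g
  have hmono : Mono f' := inferInstance
  by_cases hne : f' y₀ = f' y₁
  · rw [f'.injective hne]
  let L := P.residueField y₁
  let x₀ := f' y₀
  let ρ : X'.presheaf.stalk x₀ ⟶ L :=
    X'.presheaf.stalkSpecializes h ≫ f'.stalkMap y₁ ≫ P.residue y₁
  -- the specialization map on stalks is not local
  have hnotlocal : ¬ IsLocalHom (X'.presheaf.stalkSpecializes h).hom := by
    intro hloc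
    apply hne
    have h1 : Spec.map (X'.presheaf.stalkSpecializes h) ≫ X'.fromSpecStalk x₀ =
        X'.fromSpecStalk (f' y₁) := Scheme.SpecMap_stalkSpecializes_fromSpecStalk h
    have h2 : Spec.map (X'.presheaf.stalkSpecializes h)
        (IsLocalRing.closedPoint (X'.presheaf.stalk (f' y₁))) =
        IsLocalRing.closedPoint (X'.presheaf.stalk x₀) :=
      IsLocalRing.comap_closedPoint (X'.presheaf.stalkSpecializes h).hom
    have h3 := congrArg (fun g => g.base (IsLocalRing.closedPoint (X'.presheaf.stalk (f' y₁)))) h1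
    simp only [Scheme.Hom.comp_base, TopCat.coe_comp, Function.comp_apply] at h3
    rw [h2, X'.fromSpecStalk_closedPoint, X'.fromSpecStalk_closedPoint] at h3
    exact h3
  obtain ⟨t, ht_unit, ht_nonunit⟩ : ∃ t : X'.presheaf.stalk x₀,
      IsUnit ((X'.presheaf.stalkSpecializes h).hom t) ∧ ¬ IsUnit t := by
    by_contra hcon
    push Not at hcon
    exact hnotlocal ⟨fun a ha => hcon a ha⟩
  have hρ : ρ.hom.EssFiniteType := by
    have h1 := essFiniteType_stalkSpecializes h
    have h23 : (f'.stalkMap y₁ ≫ P.residue y₁).hom.EssFiniteType := by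
      rw [← Scheme.residue_residueFieldMap]
      have ha : (X'.residue (f' y₁)).hom.EssFiniteType :=
        (RingHom.FiniteType.of_surjective _ (X'.residue_surjective _)).essFiniteType
      have hb : (f'.residueFieldMap y₁).hom.EssFiniteType :=
        (RingHom.FiniteType.of_surjective _
          (Groth.Agent.Lib.MonoResidue45.surjective_residueFieldMap f' y₁)).essFiniteType
      exact ha.comp hb
    exact h1.comp h23
  let _ : Algebra (X'.presheaf.stalk x₀) L := ρ.hom.toAlgebra
  have hess : Algebra.EssFiniteType (X'.presheaf.stalk x₀) L := hρ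
  have hρt_unit : IsUnit (ρ.hom t) := by
    have : ρ.hom t = (f'.stalkMap y₁ ≫ P.residue y₁).hom
        ((X'.presheaf.stalkSpecializes h).hom t) := rfl
    rw [this]
    exact ht_unit.map _
  have hR : ∃ t ∈ IsLocalRing.maximalIdeal (X'.presheaf.stalk x₀),
      algebraMap (X'.presheaf.stalk x₀) L t ≠ 0 :=
    ⟨t, (IsLocalRing.mem_maximalIdeal t).mpr ht_nonunit, hρt_unit.ne_zero⟩
  obtain ⟨A, hAdvr, hA, hA_local⟩ := Groth.Agent.Lib.DvrDominating.exists_dvr_dominating
    (X'.presheaf.stalk x₀) L hR
  let toA : X'.presheaf.stalk x₀ ⟶ .of A :=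
    CommRingCat.ofHom (ρ.hom.codRestrict _ hA)
  have w : P.fromSpecResidueField y₁ ≫ f' =
      Spec.map (CommRingCat.ofHom (algebraMap A L)) ≫
        Spec.map toA ≫ X'.fromSpecStalk x₀ := by
    rw [Scheme.fromSpecResidueField, Category.assoc, ← Scheme.SpecMap_stalkMap_fromSpecStalk,
      ← Scheme.SpecMap_stalkSpecializes_fromSpecStalk h]
    simp_rw [← Spec.map_comp_assoc]
    rfl
  let i₁ : Spec L ⟶ Y := P.fromSpecResidueField y₁ ≫ pullback.fst f g
  let j : Spec (CommRingCat.of A) ⟶ X' := Spec.map toA ≫ X'.fromSpecStalk x₀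
  let i₂ : Spec (CommRingCat.of A) ⟶ X := j ≫ g
  have hsq : i₁ ≫ f = Spec.map (CommRingCat.ofHom (algebraMap A L)) ≫ i₂ := by
    simp only [i₁, i₂, j, Category.assoc]
    rw [pullback.condition, ← Category.assoc, w]
    simp only [Category.assoc]
  -- closed point lift
  have hφ₀ : IsIso (f'.residueFieldMap y₀) :=
    Groth.Agent.Lib.MonoResidue45.isIso_residueFieldMap f' y₀
  have hloc : IsLocalHom toA.hom := hA_local
  let m : X'.residueField x₀ ⟶ CommRingCat.of (IsLocalRing.ResidueField A) :=
    CommRingCat.ofHom (IsLocalRing.ResidueField.map toA.hom)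
  have hm : X'.residue x₀ ≫ m = toA ≫ CommRingCat.ofHom (IsLocalRing.residue A) := rfl
  let l₀ : Spec (CommRingCat.of (IsLocalRing.ResidueField A)) ⟶ Y :=
    Spec.map (inv (f'.residueFieldMap y₀) ≫ m) ≫ P.fromSpecResidueField y₀ ≫ pullback.fst f g
  have hl₀ : l₀ ≫ f = Spec.map (CommRingCat.ofHom (IsLocalRing.residue A)) ≫ i₂ := by
    simp only [l₀, i₂, j, Category.assoc]
    rw [pullback.condition, ← Category.assoc (P.fromSpecResidueField y₀),
      ← Scheme.Hom.SpecMap_residueFieldMap_fromSpecResidueField]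
    simp only [Category.assoc]
    rw [← Spec.map_comp_assoc, IsIso.hom_inv_id_assoc, Scheme.fromSpecResidueField]
    simp only [Category.assoc]
    rw [← Spec.map_comp_assoc]
    show Spec.map (X'.residue x₀ ≫ m) ≫ X'.fromSpecStalk x₀ ≫ g = _
    rw [hm, Spec.map_comp, Category.assoc]
  obtain ⟨l, hl₁, hl₂⟩ : ∃ l : Spec (CommRingCat.of A) ⟶ Y,
      Spec.map (CommRingCat.ofHom (algebraMap A L)) ≫ l = i₁ ∧ l ≫ f = i₂ := by
    obtain ⟨l, h1, h2⟩ := (hf { R := A, K := L, i₁ := i₁, i₂ := i₂, commSq := ⟨hsq⟩ } hAdvr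
      ⟨l₀, hl₀⟩).exists_lift
    exact ⟨l, h1, h2⟩
  let l' : Spec (CommRingCat.of A) ⟶ P := pullback.lift l j hl₂
  have hl'snd : l' ≫ f' = j := pullback.lift_snd _ _ _
  have hl'fst : l' ≫ pullback.fst f g = l := pullback.lift_fst _ _ _
  -- closed point
  have hc : l' (closedPoint A) = y₀ := by
    apply f'.injective
    rw [← Scheme.Hom.comp_apply, hl'snd, Scheme.Hom.comp_apply]
    have : Spec.map toA (closedPoint A) = closedPoint (X'.presheaf.stalk x₀) :=
      comap_closedPoint (S := A) (ρ.hom.codRestrict A.toSubring hA)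
    rw [this, X'.fromSpecStalk_closedPoint]
  -- generic point
  have hg : Spec.map (CommRingCat.ofHom (algebraMap A L)) ≫ l' = P.fromSpecResidueField y₁ := by
    apply pullback.hom_ext
    · rw [Category.assoc, hl'fst, hl₁]
    · rw [Category.assoc, hl'snd, w]
  have hg' : l' (Spec.map (CommRingCat.ofHom (algebraMap A L)) (closedPoint L)) = y₁ := by
    rw [← Scheme.Hom.comp_apply, hg]
    exact Scheme.fromSpecResidueField_apply y₁ _
  have key : l' (Spec.map (CommRingCat.ofHom (algebraMap A L)) (closedPoint L)) ⤳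
      l' (closedPoint A) := (specializes_closedPoint _).map l'.continuous
  rwa [hg', hc] at key

end Groth.Agent.Lib.MonoDvrSpec
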