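import Groth.Agent.Lib.UnramifiedLocusBC
import Mathlib.AlgebraicGeometry.Morphisms.UniversallyInjective
import Mathlib.AlgebraicGeometry.Morphisms.IsIso
import Mathlib.AlgebraicGeometry.Morphisms.FormallyUnramified
import Mathlib.AlgebraicGeometry.Fiber

/-!
# A morphism locally of finite type is a monomorphism iff all its fibres are (helper37)

`mono_iff_forall_mono_fibre`: for `f : X ⟶ Y` locally of finite type,
`Mono f ↔ ∀ y, Mono (f.fiberToSpecResidueField y)` (EGA IV 17.2.6 / SGA 3 VI_B).
Ingredients: fibrewise monos give universal injectivity and (via base-change invariance of the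
unramified locus) unramifiedness, so the diagonal is a surjective open immersion.
-/

set_option autoImplicit false
open CategoryTheory CategoryTheory.Limits AlgebraicGeometry
universe u

namespace Groth.Agent.Lib.MonoFibres

open Groth.Agent.Lib.UnramifiedLocusBC

/-- A monomorphism locally of finite type is formally unramified. -/
lemma formallyUnramified_of_mono {X Y : Scheme.{u}} (i : X ⟶ Y) [Mono i] :
    FormallyUnramified i := by
  have : IsIso (pullback.diagonal i) := (pullback.isIso_diagonal_iff i).mpr inferInstance
  infer_instance

/-- If all fibres `X_y → Spec κ(y)` are monomorphisms then `f` is universally injective. -/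
theorem universallyInjective_of_mono_fibres {X Y : Scheme.{u}} (f : X ⟶ Y)
    (H : ∀ y : Y, Mono (f.fiberToSpecResidueField y)) : UniversallyInjective f := by
  have key := (tfae_universallyInjective f).out 0 1
  rw [key]
  intro K _ g₁ g₂ hg
  replace hg : g₁ ≫ f = g₂ ≫ f := hg
  let a : Spec (.of K) ⟶ Y := g₁ ≫ f
  let y : Y := a (IsLocalRing.closedPoint K)
  let a' : Spec (.of K) ⟶ Spec (Y.residueField y) :=
    Spec.map (Y.descResidueField (Scheme.stalkClosedPointTo a))
  have ha' : a' ≫ Y.fromSpecResidueField y = a :=
    Scheme.descResidueField_stalkClosedPointTo_fromSpecResidueField K Y a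
  have : Mono (pullback.snd f (Y.fromSpecResidueField y)) := H y
  have h1 : pullback.lift g₁ a' (by rw [ha']) = pullback.lift g₂ a' (by rw [ha', ← hg]) := by
    rw [← cancel_mono (pullback.snd f (Y.fromSpecResidueField y)), pullback.lift_snd,
      pullback.lift_snd]
  have h2 := congr($h1 ≫ pullback.fst f (Y.fromSpecResidueField y))
  rwa [pullback.lift_fst, pullback.lift_fst] at h2

/-- If all fibres `X_y → Spec κ(y)` are monomorphisms then `f` is formally unramified. -/
theorem formallyUnramified_of_mono_fibres {X Y : Scheme.{u}} (f : X ⟶ Y) [LocallyOfFiniteType f]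
    (H : ∀ y : Y, Mono (f.fiberToSpecResidueField y)) : FormallyUnramified f := by
  refine formallyUnramified_of_forall_stalkMap f fun x ↦ ?_
  have hP : IsPullback (f.fiberι (f x)) (f.fiberToSpecResidueField (f x)) f
      (Y.fromSpecResidueField (f x)) := IsPullback.of_hasPullback _ _
  have := H (f x)
  have hun : FormallyUnramified (f.fiberToSpecResidueField (f x)) := formallyUnramified_of_mono _
  have h1 := FormallyUnramified.stalkMap (f.fiberToSpecResidueField (f x)) (f.asFiber x)
  rw [formallyUnramified_stalkMap_iff_of_isPullback hP (f.asFiber x)] at h1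
  rwa [Scheme.Hom.fiberι_asFiber] at h1

theorem mono_iff_forall_mono_fibre (X Y : Scheme.{u}) (f : X ⟶ Y) [LocallyOfFiniteType f] :
    Mono f ↔ ∀ y : Y, Mono (f.fiberToSpecResidueField y) := by
  refine ⟨fun _ y ↦ ?_, fun H ↦ ?_⟩
  · show Mono (pullback.snd f (Y.fromSpecResidueField y))
    infer_instance
  · have := formallyUnramified_of_mono_fibres f H
    have := universallyInjective_of_mono_fibres f H
    have h1 : Surjective (pullback.diagonal f) := (UniversallyInjective.iff_diagonal f).mp ‹_›
    have h2 : IsIso (pullback.diagonal f) :=
      (isIso_iff_isOpenImmersion_and_surjective _).mpr ⟨inferInstance, h1⟩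
    exact (pullback.isIso_diagonal_iff f).mp h2

end Groth.Agent.Lib.MonoFibres
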