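import Mathlib.AlgebraicGeometry.ValuativeCriterion
import Mathlib.AlgebraicGeometry.Morphisms.UniversallyInjective
import Groth.Agent.Lib.MonoResidue45

/-!
# Monomorphisms universally reflecting specializations vs. valuative lifting (helper45)
-/

set_option autoImplicit false
universe u
open CategoryTheory CategoryTheory.Limits AlgebraicGeometry IsLocalRing

namespace Groth.Agent.Lib.MonoSpec45

variable {X Y : Scheme.{u}}

/-- The valuative lifting property with a closed-point lift. -/
def ValLift (f : Y ⟶ X) : Prop :=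
  ∀ S : ValuativeCommSq f,
    (∃ l₀ : Spec (CommRingCat.of (IsLocalRing.ResidueField S.R)) ⟶ Y,
        l₀ ≫ f = Spec.map (CommRingCat.ofHom (IsLocalRing.residue S.R)) ≫ S.i₂) →
      S.commSq.HasLift

set_option backward.isDefEq.respectTransparency false in
theorem specializes_of_valLift (f : Y ⟶ X) [Mono f] (hf : ValLift f)
    (hres : ∀ {P X' : Scheme.{u}} (f' : P ⟶ X') [Mono f'] (y : P), IsIso (f'.residueFieldMap y))
    (X' : Scheme.{u}) (g : X' ⟶ X) (y₀ y₁ : ↥(pullback f g))
    (h : (pullback.snd f g) y₁ ⤳ (pullback.snd f g) y₀) : y₁ ⤳ y₀ := by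
  let P := pullback f g
  let f' : P ⟶ X' := pullback.snd f g
  have hmono : Mono f' := inferInstance
  let L := P.residueField y₁
  let x₀ := f' y₀
  let ρ : X'.presheaf.stalk x₀ ⟶ L :=
    X'.presheaf.stalkSpecializes h ≫ f'.stalkMap y₁ ≫ P.residue y₁
  obtain ⟨A, hA, hA_local⟩ := exists_factor_valuationRing ρ.hom
  let toA : X'.presheaf.stalk x₀ ⟶ .of A :=
    CommRingCat.ofHom (ρ.hom.codRestrict _ hA)
  have w : P.fromSpecResidueField y₁ ≫ f' =
      Spec.map (CommRingCat.ofHom (algebraMap A L)) ≫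
        Spec.map toA ≫ X'.fromSpecStalk x₀ := by
    rw [Scheme.fromSpecResidueField, Category.assoc, ← Scheme.SpecMap_stalkMap_fromSpecStalk,
      ← Scheme.SpecMap_stalkSpecializes_fromSpecStalk h]
    simp_rw [← Spec.map_comp_assoc]
    rfl
  let i₁ : Spec L ⟶ Y := P.fromSpecResidueField y₁ ≫ pullback.fst f g
  let j : Spec (CommRingCat.of A) ⟶ X' := Spec.map toA ≫ X'.fromSpecStalk x₀
  let i₂ : Spec (CommRingCat.of A) ⟶ X := j ≫ g
  have hsq : i₁ ≫ f = Spec.map (CommRingCat.ofHom (algebraMap A L)) ≫ i₂ := by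
    simp only [i₁, i₂, j, Category.assoc]
    rw [pullback.condition, ← Category.assoc, w]
    simp only [Category.assoc]
  -- closed point lift
  have hφ₀ : IsIso (f'.residueFieldMap y₀) := hres f' y₀
  have hloc : IsLocalHom toA.hom := hA_local
  let m : X'.residueField x₀ ⟶ CommRingCat.of (IsLocalRing.ResidueField A) :=
    CommRingCat.ofHom (IsLocalRing.ResidueField.map toA.hom)
  have hm : X'.residue x₀ ≫ m = toA ≫ CommRingCat.ofHom (IsLocalRing.residue A) := rfl
  let l₀ : Spec (CommRingCat.of (IsLocalRing.ResidueField A)) ⟶ Y :=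
    Spec.map (inv (f'.residueFieldMap y₀) ≫ m) ≫ P.fromSpecResidueField y₀ ≫ pullback.fst f g
  have hl₀ : l₀ ≫ f = Spec.map (CommRingCat.ofHom (IsLocalRing.residue A)) ≫ i₂ := by
    simp only [l₀, i₂, j, Category.assoc]
    rw [pullback.condition, ← Category.assoc (P.fromSpecResidueField y₀),
      ← Scheme.Hom.SpecMap_residueFieldMap_fromSpecResidueField]
    simp only [Category.assoc]
    rw [← Spec.map_comp_assoc, IsIso.hom_inv_id_assoc, Scheme.fromSpecResidueField]
    simp only [Category.assoc]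
    rw [← Spec.map_comp_assoc]
    show Spec.map (X'.residue x₀ ≫ m) ≫ X'.fromSpecStalk x₀ ≫ g = _
    rw [hm, Spec.map_comp, Category.assoc]
  obtain ⟨l, hl₁, hl₂⟩ : ∃ l : Spec (CommRingCat.of A) ⟶ Y,
      Spec.map (CommRingCat.ofHom (algebraMap A L)) ≫ l = i₁ ∧ l ≫ f = i₂ := by
    obtain ⟨l, h1, h2⟩ := (hf { R := A, K := L, i₁ := i₁, i₂ := i₂, commSq := ⟨hsq⟩ }
      ⟨l₀, hl₀⟩).exists_lift
    exact ⟨l, h1, h2⟩
  let l' : Spec (CommRingCat.of A) ⟶ P := pullback.lift l j hl₂
  have hl'snd : l' ≫ f' = j := pullback.lift_snd _ _ _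
  have hl'fst : l' ≫ pullback.fst f g = l := pullback.lift_fst _ _ _
  -- closed point
  have hc : l' (closedPoint A) = y₀ := by
    apply f'.injective
    rw [← Scheme.Hom.comp_apply, hl'snd, Scheme.Hom.comp_apply]
    have : Spec.map toA (closedPoint A) = closedPoint (X'.presheaf.stalk x₀) :=
      comap_closedPoint (S := A) (ρ.hom.codRestrict A.toSubring hA)
    rw [this, X'.fromSpecStalk_closedPoint]
  -- generic point
  have hg : Spec.map (CommRingCat.ofHom (algebraMap A L)) ≫ l' = P.fromSpecResidueField y₁ := by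
    apply pullback.hom_ext
    · rw [Category.assoc, hl'fst, hl₁]
    · rw [Category.assoc, hl'snd, w]
  have hg' : l' (Spec.map (CommRingCat.ofHom (algebraMap A L)) (closedPoint L)) = y₁ := by
    rw [← Scheme.Hom.comp_apply, hg]
    exact Scheme.fromSpecResidueField_apply y₁ _
  have key : l' (Spec.map (CommRingCat.ofHom (algebraMap A L)) (closedPoint L)) ⤳
      l' (closedPoint A) := (specializes_closedPoint _).map l'.continuous
  rwa [hg', hc] at key

set_option backward.isDefEq.respectTransparency false in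
theorem valLift_of_specializes (f : Y ⟶ X) [Mono f]
    (hspec : ∀ (X' : Scheme.{u}) (g : X' ⟶ X) (y₀ y₁ : ↥(pullback f g)),
        (pullback.snd f g) y₁ ⤳ (pullback.snd f g) y₀ → y₁ ⤳ y₀) : ValLift f := by
  intro S ⟨l₀, hl₀⟩
  let R := S.R
  let K := S.K
  let g : Spec (CommRingCat.of R) ⟶ X := S.i₂
  let P := pullback f g
  let f' : P ⟶ Spec (CommRingCat.of R) := pullback.snd f g
  let ι : Spec (CommRingCat.of K) ⟶ Spec (CommRingCat.of R) :=
    Spec.map (CommRingCat.ofHom (algebraMap R K))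
  let i₁' : Spec (CommRingCat.of K) ⟶ P := pullback.lift S.i₁ ι S.commSq.w
  let c₀ : Spec (CommRingCat.of (IsLocalRing.ResidueField R)) ⟶ P :=
    pullback.lift l₀ (Spec.map (CommRingCat.ofHom (IsLocalRing.residue R))) hl₀
  let y₁ : P := i₁' (closedPoint K)
  let y₀ : P := c₀ (closedPoint (IsLocalRing.ResidueField R))
  have hy₀ : f' y₀ = closedPoint R := by
    change (c₀ ≫ f') _ = _
    rw [show c₀ ≫ f' = Spec.map (CommRingCat.ofHom (IsLocalRing.residue R)) from
      pullback.lift_snd _ _ _]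
    exact IsLocalRing.PrimeSpectrum.comap_residue R _
  have hy : y₁ ⤳ y₀ := by
    apply hspec _ g y₀ y₁
    change f' y₁ ⤳ f' y₀
    rw [hy₀]
    exact specializes_closedPoint _
  let B' := P.presheaf.stalk y₀
  let ε : B' ⟶ CommRingCat.of K := P.presheaf.stalkSpecializes hy ≫ Scheme.stalkClosedPointTo i₁'
  have hε : Spec.map ε ≫ P.fromSpecStalk y₀ = i₁' := by
    rw [Spec.map_comp, Category.assoc, Scheme.SpecMap_stalkSpecializes_fromSpecStalk,
      Scheme.Spec_stalkClosedPointTo_fromSpecStalk]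
  let ψ : CommRingCat.of R ⟶ B' := Spec.preimage (P.fromSpecStalk y₀ ≫ f')
  have hψ : Spec.map ψ = P.fromSpecStalk y₀ ≫ f' := Spec.map_preimage _
  have hψε : ψ ≫ ε = CommRingCat.ofHom (algebraMap R K) := by
    apply Spec.map_injective
    rw [Spec.map_comp, hψ, ← Category.assoc, hε]
    exact pullback.lift_snd _ _ _
  have hψloc : IsLocalHom ψ.hom := by
    refine ((local_hom_TFAE ψ.hom).out 4 0).mp ?_
    have h1 : Spec.map ψ (closedPoint B') = closedPoint R := by
      rw [hψ, Scheme.Hom.comp_apply, Scheme.fromSpecStalk_closedPoint]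
      exact hy₀
    exact congrArg PrimeSpectrum.asIdeal h1
  have hinj : Function.Injective (algebraMap R K) := IsFractionRing.injective R K
  have hmem : ∀ b : B', ε b ∈ (algebraMap R K).range := by
    intro b
    by_contra hb
    rcases ValuationRing.isInteger_or_isInteger R (ε b) with ⟨r, hr⟩ | ⟨r, hr⟩
    · exact hb ⟨r, hr⟩
    · have hεb : ε b ≠ 0 := by
        intro h0
        exact hb ⟨0, by rw [h0, map_zero]⟩
      have hr' : ¬ IsUnit r := by
        intro hu
        apply hb
        refine ⟨↑hu.unit⁻¹, ?_⟩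
        have h1 : algebraMap R K (↑hu.unit⁻¹) * algebraMap R K r = 1 := by
          rw [← map_mul]; simp
        rw [hr] at h1
        exact (mul_inv_eq_one₀ hεb).mp h1
      have hψr : ¬ IsUnit (ψ r) := fun hu => hr' (hψloc.map_nonunit r hu)
      have h2 : ε (b * ψ r) = 1 := by
        rw [map_mul]
        have : ε (ψ r) = algebraMap R K r := congrArg (fun t : CommRingCat.of R ⟶ CommRingCat.of K => t r) hψε
        rw [this, hr]
        exact mul_inv_cancel₀ hεb
      have h3 : IsUnit (1 - b * ψ r) := by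
        have : b * ψ r ∈ IsLocalRing.maximalIdeal B' :=
          Ideal.mul_mem_left _ _ ((IsLocalRing.mem_maximalIdeal _).mpr hψr)
        exact IsLocalRing.isUnit_one_sub_self_of_mem_nonunits _ this
      have h4 : ε (1 - b * ψ r) = 0 := by rw [map_sub, map_one, h2, sub_self]
      exact (h3.map ε.hom).ne_zero h4
  let e : R ≃+* (algebraMap R K).range :=
    RingEquiv.ofBijective (algebraMap R K).rangeRestrict
      ⟨fun a b hab => hinj (congrArg Subtype.val hab), (algebraMap R K).rangeRestrict_surjective⟩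
  let ρ : B' ⟶ CommRingCat.of R :=
    CommRingCat.ofHom (e.symm.toRingHom.comp (ε.hom.codRestrict (algebraMap R K).range hmem))
  have hρ : ∀ b : B', algebraMap R K (ρ b) = ε b := by
    intro b
    have := e.apply_symm_apply (ε.hom.codRestrict (algebraMap R K).range hmem b)
    exact congrArg Subtype.val this
  have hψρ : ψ ≫ ρ = 𝟙 _ := by
    ext r
    apply hinj
    change algebraMap R K (ρ (ψ r)) = algebraMap R K r
    rw [hρ]
    exact congrArg (fun t : CommRingCat.of R ⟶ CommRingCat.of K => t r) hψε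
  let l : Spec (CommRingCat.of R) ⟶ Y := Spec.map ρ ≫ P.fromSpecStalk y₀ ≫ pullback.fst f g
  have hl₂ : l ≫ f = S.i₂ := by
    simp only [l, Category.assoc]
    rw [pullback.condition, ← Category.assoc (P.fromSpecStalk y₀), ← hψ, ← Spec.map_comp_assoc,
      hψρ, Spec.map_id, Category.id_comp]
  have hl₁ : Spec.map (CommRingCat.ofHom (algebraMap R K)) ≫ l = S.i₁ := by
    rw [← cancel_mono f, Category.assoc, hl₂]
    exact S.commSq.w.symm
  exact ⟨⟨⟨l, hl₁, hl₂⟩⟩⟩

theorem reflects_iff_valLift (f : Y ⟶ X) [Mono f] :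
    (∀ (X' : Scheme.{u}) (g : X' ⟶ X) (y₀ y₁ : ↥(pullback f g)),
        (pullback.snd f g) y₁ ⤳ (pullback.snd f g) y₀ → y₁ ⤳ y₀) ↔ ValLift f :=
  ⟨valLift_of_specializes f, fun h => specializes_of_valLift f h
    (fun f' _ y => Groth.Agent.Lib.MonoResidue45.isIso_residueFieldMap f' y)⟩

end Groth.Agent.Lib.MonoSpec45

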