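import Mathlib.AlgebraicGeometry.ZariskisMainTheorem
import Mathlib.AlgebraicGeometry.ValuativeCriterion
import Mathlib.AlgebraicGeometry.Noetherian
import Mathlib.AlgebraicGeometry.Morphisms.Immersion
import Groth.Agent.Lib.MonoSpec45

/-!
# Monomorphisms with valuative lifting are immersions (helper85)

Let `X` be locally Noetherian and `f : Y ⟶ X` a quasi-compact monomorphism locally of finite type
having the valuative lifting property whenever the closed point lifts (`MonoSpec45.ValLift`).
Then `f` is an immersion.  We use Zariski's main theorem: `Y` is open in the normalization `Y'` of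
`X` in `Y`, and the valuative lifting property shows that the fibres of `Y' ⟶ X` over points of
the image of `f` are contained in `Y`.
-/

set_option autoImplicit false
universe u
open CategoryTheory CategoryTheory.Limits AlgebraicGeometry IsLocalRing TopologicalSpace

namespace Groth.Agent.Lib.MonoImm

/-- In a Noetherian quasi-sober space `S`, every point in the closure of the image of a
continuous map `j : S → T` is a specialization of a point of the image. -/
theorem exists_specializes_of_mem_closure_range {S T : Type*} [TopologicalSpace S]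
    [TopologicalSpace T] [NoetherianSpace S] [QuasiSober S] (j : S → T) (hj : Continuous j)
    {c : T} (hc : c ∈ closure (Set.range j)) : ∃ s, j s ⤳ c := by
  obtain ⟨F, hFf, hFc, hFi, hFU⟩ :=
    NoetherianSpace.exists_finite_set_isClosed_irreducible (isClosed_univ (X := S))
  let D : Set T := ⋃ t ∈ F, closure (j '' t)
  have hDclosed : IsClosed D := hFf.isClosed_biUnion fun t _ => isClosed_closure
  have hrange : Set.range j ⊆ D := by
    rintro _ ⟨s, rfl⟩
    have hs : s ∈ ⋃₀ F := hFU ▸ Set.mem_univ s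
    obtain ⟨t, htF, hst⟩ := hs
    exact Set.mem_biUnion htF (subset_closure ⟨s, hst, rfl⟩)
  have hcD : c ∈ D := closure_minimal hrange hDclosed hc
  obtain ⟨t, htF, hct⟩ := Set.mem_iUnion₂.mp hcD
  obtain ⟨η, hη⟩ := QuasiSober.sober (hFi t htF) (hFc t htF)
  refine ⟨η, ?_⟩
  rw [specializes_iff_mem_closure]
  refine closure_minimal ?_ isClosed_closure hct
  rintro _ ⟨s, hst, rfl⟩
  rw [← specializes_iff_mem_closure]
  exact (hη.specializes hst).map hj

variable {X Y : Scheme.{u}}

set_option backward.isDefEq.respectTransparency false in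
/-- Key step: if `f = j ≫ π` is a monomorphism with the valuative lifting property and `π` is
separated, then every point `c` of `Y'` lying over the image of `f` which is a specialization of
a point of the image of `j` lies in the image of `j`. -/
theorem mem_range_of_valLift (f : Y ⟶ X) [Mono f] (hv : Groth.Agent.Lib.MonoSpec45.ValLift f)
    {Y' : Scheme.{u}} (j : Y ⟶ Y') (π : Y' ⟶ X) [IsSeparated π] (hjπ : j ≫ π = f)
    (c : Y') (y₁ : Y) (hsp : j y₁ ⤳ c) (yz : Y) (e : f yz = π c) : c ∈ Set.range j := by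
  let L := Y.residueField y₁
  let ρ : Y'.presheaf.stalk c ⟶ L :=
    Y'.presheaf.stalkSpecializes hsp ≫ j.stalkMap y₁ ≫ Y.residue y₁
  obtain ⟨A, hA, hA_local⟩ := exists_factor_valuationRing ρ.hom
  let toA : Y'.presheaf.stalk c ⟶ .of A :=
    CommRingCat.ofHom (ρ.hom.codRestrict _ hA)
  have w : Y.fromSpecResidueField y₁ ≫ j =
      Spec.map (CommRingCat.ofHom (algebraMap A L)) ≫
        Spec.map toA ≫ Y'.fromSpecStalk c := by
    rw [Scheme.fromSpecResidueField, Category.assoc, ← Scheme.SpecMap_stalkMap_fromSpecStalk,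
      ← Scheme.SpecMap_stalkSpecializes_fromSpecStalk hsp]
    simp_rw [← Spec.map_comp_assoc]
    rfl
  let v : Spec (CommRingCat.of A) ⟶ Y' := Spec.map toA ≫ Y'.fromSpecStalk c
  let i₁ : Spec L ⟶ Y := Y.fromSpecResidueField y₁
  let i₂ : Spec (CommRingCat.of A) ⟶ X := v ≫ π
  have hsq : i₁ ≫ f = Spec.map (CommRingCat.ofHom (algebraMap A L)) ≫ i₂ := by
    simp only [i₁, i₂, v]
    rw [← hjπ, ← Category.assoc, w]
    simp only [Category.assoc]
  -- closed point lift
  have hφ₀ : IsIso (f.residueFieldMap yz) :=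
    Groth.Agent.Lib.MonoResidue45.isIso_residueFieldMap f yz
  have hloc : IsLocalHom toA.hom := hA_local
  let m : Y'.residueField c ⟶ CommRingCat.of (IsLocalRing.ResidueField A) :=
    CommRingCat.ofHom (IsLocalRing.ResidueField.map toA.hom)
  have hm : Y'.residue c ≫ m = toA ≫ CommRingCat.ofHom (IsLocalRing.residue A) := rfl
  let l₀ : Spec (CommRingCat.of (IsLocalRing.ResidueField A)) ⟶ Y :=
    Spec.map (inv (f.residueFieldMap yz) ≫ (X.residueFieldCongr e).hom ≫
      π.residueFieldMap c ≫ m) ≫ Y.fromSpecResidueField yz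
  have hl₀ : l₀ ≫ f = Spec.map (CommRingCat.ofHom (IsLocalRing.residue A)) ≫ i₂ := by
    simp only [l₀, i₂, v, Category.assoc]
    rw [← Scheme.Hom.SpecMap_residueFieldMap_fromSpecResidueField, ← Spec.map_comp_assoc,
      IsIso.hom_inv_id_assoc, Spec.map_comp, Category.assoc,
      Scheme.residueFieldCongr_fromSpecResidueField, Spec.map_comp, Category.assoc,
      Scheme.Hom.SpecMap_residueFieldMap_fromSpecResidueField, Scheme.fromSpecResidueField,
      Category.assoc, ← Spec.map_comp_assoc, hm, Spec.map_comp, Category.assoc]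
  obtain ⟨ℓ, hℓ₁, hℓ₂⟩ : ∃ ℓ : Spec (CommRingCat.of A) ⟶ Y,
      Spec.map (CommRingCat.ofHom (algebraMap A L)) ≫ ℓ = i₁ ∧ ℓ ≫ f = i₂ := by
    obtain ⟨ℓ, h1, h2⟩ := (hv { R := A, K := L, i₁ := i₁, i₂ := i₂, commSq := ⟨hsq⟩ }
      ⟨l₀, hl₀⟩).exists_lift
    exact ⟨ℓ, h1, h2⟩
  -- uniqueness for the separated morphism `π`
  have hsq' : (i₁ ≫ j) ≫ π = Spec.map (CommRingCat.ofHom (algebraMap A L)) ≫ i₂ := by
    rw [Category.assoc, hjπ, hsq]
  let Sq : ValuativeCommSq π :=
    { R := A, K := L, i₁ := i₁ ≫ j, i₂ := i₂, commSq := ⟨hsq'⟩ }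
  have huniq := IsSeparated.valuativeCriterion π Sq
  let L₁ : Sq.commSq.LiftStruct :=
    { l := ℓ ≫ j
      fac_left := by rw [← Category.assoc]; exact congrArg (· ≫ j) hℓ₁
      fac_right := by rw [Category.assoc, hjπ]; exact hℓ₂ }
  let L₂ : Sq.commSq.LiftStruct :=
    { l := v
      fac_left := w.symm
      fac_right := rfl }
  have hL : L₁ = L₂ := Subsingleton.elim _ _
  have hlv : ℓ ≫ j = v := congrArg CommSq.LiftStruct.l hL
  have hvc : v (closedPoint A) = c := by
    show (Spec.map toA ≫ Y'.fromSpecStalk c) (closedPoint A) = c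
    rw [Scheme.Hom.comp_apply]
    have : Spec.map toA (closedPoint A) = closedPoint (Y'.presheaf.stalk c) :=
      comap_closedPoint (S := A) (ρ.hom.codRestrict A.toSubring hA)
    rw [this, Y'.fromSpecStalk_closedPoint]
  refine ⟨ℓ (closedPoint A), ?_⟩
  rw [← Scheme.Hom.comp_apply, hlv, hvc]

/-- A quasi-compact monomorphism locally of finite type to a locally Noetherian scheme which has
the valuative lifting property (when the closed point lifts) is an immersion. -/
theorem isImmersion_of_valLift [IsLocallyNoetherian X] (f : Y ⟶ X) [LocallyOfFiniteType f]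
    [Mono f] [QuasiCompact f] (hv : Groth.Agent.Lib.MonoSpec45.ValLift f) : IsImmersion f := by
  let Y' := f.normalization
  let j : Y ⟶ Y' := f.toNormalization
  let π : Y' ⟶ X := f.fromNormalization
  have hjπ : j ≫ π = f := f.toNormalization_fromNormalization
  haveI : IsOpenImmersion j := inferInstanceAs (IsOpenImmersion f.toNormalization)
  haveI : IsIntegralHom π := inferInstanceAs (IsIntegralHom f.fromNormalization)
  haveI : IsDominant j := inferInstanceAs (IsDominant f.toNormalization)
  haveI : IsLocallyNoetherian Y := LocallyOfFiniteType.isLocallyNoetherian f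
  -- key claim
  have key : ∀ c : Y', π c ∈ Set.range f → c ∈ Set.range j := by
    rintro c ⟨yz, e⟩
    obtain ⟨_, ⟨W, hW, rfl⟩, hcW, -⟩ := X.isBasis_affineOpens.exists_subset_of_mem_open
      (Set.mem_univ (π c)) isOpen_univ
    let V : Y.Opens := f ⁻¹ᵁ W
    have hVc : IsCompact (V : Set Y) := (quasiCompact_iff_forall_isAffineOpen.mp ‹_›) W hW
    haveI : CompactSpace ↥(V : Scheme.{u}) := isCompact_iff_compactSpace.mp hVc
    haveI : IsNoetherian (V : Scheme.{u}) := {}
    haveI : NoetherianSpace ↥(V : Scheme.{u}) := inferInstance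
    have hcl : c ∈ closure (Set.range (V.ι ≫ j)) := by
      have hd : c ∈ closure (Set.range j) := j.denseRange c
      have hopen : IsOpen (π ⁻¹' (W : Set X)) := W.isOpen.preimage π.continuous
      have h1 : c ∈ closure (π ⁻¹' (W : Set X) ∩ Set.range j) :=
        hopen.inter_closure ⟨hcW, hd⟩
      refine closure_mono ?_ h1
      rintro _ ⟨hW', y, rfl⟩
      have hyV : y ∈ V := by
        show f y ∈ W
        rw [← hjπ, Scheme.Hom.comp_apply]
        exact hW'
      exact ⟨⟨y, hyV⟩, rfl⟩
    obtain ⟨s, hs⟩ := exists_specializes_of_mem_closure_range (V.ι ≫ j)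
      (V.ι ≫ j).continuous hcl
    exact mem_range_of_valLift f hv j π hjπ c (V.ι s) hs yz e
  -- the open subset of `X` over which `π` is an isomorphism onto `Y`
  have hclosed : IsClosed (π '' (Set.range j)ᶜ) :=
    π.isClosedMap _ j.isOpenEmbedding.isOpen_range.isClosed_compl
  let U : X.Opens := ⟨(π '' (Set.range j)ᶜ)ᶜ, hclosed.isOpen_compl⟩
  have hfU : Set.range f ⊆ (U : Set X) := by
    rintro _ ⟨y, rfl⟩ ⟨c, hc, hcy⟩
    exact hc (key c ⟨y, hcy.symm⟩)
  have hπU : ∀ c : Y', π c ∈ U → c ∈ Set.range j := by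
    intro c hc
    by_contra hcon
    exact hc ⟨c, hcon, rfl⟩
  -- restrict
  have hjU : Set.range j ⊆ Set.range (π ⁻¹ᵁ U).ι := by
    rintro _ ⟨y, rfl⟩
    rw [Scheme.Opens.range_ι]
    show π (j y) ∈ U
    rw [← Scheme.Hom.comp_apply, hjπ]
    exact hfU ⟨y, rfl⟩
  let jU : Y ⟶ (π ⁻¹ᵁ U : Scheme.{u}) := IsOpenImmersion.lift (π ⁻¹ᵁ U).ι j hjU
  have hjUι : jU ≫ (π ⁻¹ᵁ U).ι = j := IsOpenImmersion.lift_fac _ _ _
  haveI : IsOpenImmersion jU := by
    haveI : IsOpenImmersion (jU ≫ (π ⁻¹ᵁ U).ι) := hjUι ▸ inferInstance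
    exact IsOpenImmersion.of_comp jU (π ⁻¹ᵁ U).ι
  haveI : Surjective jU := by
    refine ⟨fun c' => ?_⟩
    obtain ⟨y, hy⟩ := hπU ((π ⁻¹ᵁ U).ι c') c'.2
    refine ⟨y, (π ⁻¹ᵁ U).ι.isOpenEmbedding.injective ?_⟩
    rw [← Scheme.Hom.comp_apply, hjUι, hy]
  haveI : IsIso jU := (isIso_iff_isOpenImmersion_and_surjective _).mpr ⟨inferInstance, inferInstance⟩
  let fU : Y ⟶ (U : Scheme.{u}) := jU ≫ π ∣_ U
  have hfUι : fU ≫ U.ι = f := by
    simp only [fU, Category.assoc, morphismRestrict_ι]
    rw [← Category.assoc, hjUι, hjπ]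
  haveI : IsIntegralHom fU := inferInstance
  haveI : LocallyOfFiniteType (fU ≫ U.ι) := hfUι ▸ inferInstance
  haveI : LocallyOfFiniteType fU := locallyOfFiniteType_of_comp fU U.ι
  haveI : IsFinite fU := (IsFinite.iff_isIntegralHom_and_locallyOfFiniteType _).mpr
    ⟨inferInstance, inferInstance⟩
  haveI : Mono (fU ≫ U.ι) := hfUι ▸ inferInstance
  haveI : Mono fU := mono_of_mono fU U.ι
  haveI : IsClosedImmersion fU := (IsClosedImmersion.iff_isFinite_and_mono _).mpr
    ⟨inferInstance, inferInstance⟩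
  rw [← hfUι]
  infer_instance

end Groth.Agent.Lib.MonoImm
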