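import Mathlib
import Groth.Agent.Lib.AlgSpEtField91
import Groth.Agent.Lib.H80DecentPt

/-!
# Schemes over a one-point scheme with étale kernel pair (helper46)

Scheme-level input for "an algebraic space with a monomorphism to a discrete scheme is a scheme".
For `g : U ⟶ V` with `V` a one-point scheme, `U` affine and nonempty, and `pullback.fst g g` étale
(e.g. `U` an étale chart of an algebraic space `X` with a monomorphism `X ⟶ V`):
* `discreteTopology_of_etale_kernelPair`: `U` is discrete;
* `finite_kernelPair_of_subsingleton`: if `U` is a single point then `U ×_V U` is a finite set.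
-/

set_option autoImplicit false
universe u

namespace Groth.Agent.Lib.MonoZeroDim46

open CategoryTheory CategoryTheory.Limits AlgebraicGeometry TopologicalSpace

/-- The projection of the kernel pair of a base change is a base change of the projection of the
kernel pair. -/
theorem isPullback_kernelPair_baseChange {U V V' U' : Scheme.{u}} (g : U ⟶ V) (i : V' ⟶ V)
    (p : U' ⟶ U) (g' : U' ⟶ V') (sq : IsPullback p g' g i) :
    ∃ l : pullback g' g' ⟶ pullback g g,
      IsPullback l (pullback.fst g' g') (pullback.fst g g) p ∧
      l ≫ pullback.snd g g = pullback.snd g' g' ≫ p := by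
  have sq1 : IsPullback (pullback.snd g' g') (pullback.fst g' g') g' g' :=
    (IsPullback.of_hasPullback g' g').flip
  have big : IsPullback (pullback.snd g' g' ≫ p) (pullback.fst g' g') g (g' ≫ i) :=
    sq1.paste_horiz sq
  have hw : (pullback.fst g' g' ≫ p) ≫ g = (pullback.snd g' g' ≫ p) ≫ g := by
    rw [Category.assoc, Category.assoc, sq.w, ← Category.assoc, ← Category.assoc, pullback.condition]
  let l : pullback g' g' ⟶ pullback g g := pullback.lift _ _ hw
  have hl1 : l ≫ pullback.fst g g = pullback.fst g' g' ≫ p := pullback.lift_fst _ _ _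
  have hl2 : l ≫ pullback.snd g g = pullback.snd g' g' ≫ p := pullback.lift_snd _ _ _
  refine ⟨l, ?_, hl2⟩
  have sqK : IsPullback (pullback.snd g g) (pullback.fst g g) g g :=
    (IsPullback.of_hasPullback g g).flip
  have big' : IsPullback (l ≫ pullback.snd g g) (pullback.fst g' g') g (p ≫ g) := by
    rw [hl2, sq.w]; exact big
  exact IsPullback.of_right big' hl1 sqK

section onePoint

variable {U V : Scheme.{u}} (g : U ⟶ V) [Subsingleton ↥V] [IsAffine U] [Nonempty ↥U]

/-- Auxiliary: for `g : U ⟶ V` with `V` a one-point scheme, `U` affine nonempty and étale kernel pair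
projection, the base change of `U` to the residue field of `V` is étale over it, and related data. -/
theorem exists_residue_baseChange (h : Etale (pullback.fst g g)) :
    ∃ (K : Type u) (_ : Field K) (U' : Scheme.{u}) (p : U' ⟶ U) (g' : U' ⟶ Spec (CommRingCat.of K))
      (l : pullback g' g' ⟶ pullback g g), IsClosedImmersion p ∧ Function.Surjective p ∧
      Etale g' ∧ IsAffine U' ∧ Function.Surjective l ∧ Etale (pullback.fst g' g') := by
  obtain ⟨u₀⟩ := ‹Nonempty ↥U›
  have : Nonempty ↥V := ⟨g u₀⟩
  have hV : IsAffine V := Groth.Agent.Lib.H80DecentPt.isAffine_of_subsingleton V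
  let v : ↥V := g u₀
  let i : Spec (CommRingCat.of (V.residueField v)) ⟶ V := V.fromSpecResidueField v
  have hi : IsClosedImmersion i := by
    refine IsClosedImmersion.of_isPreimmersion _ ?_
    have : Set.range i = Set.univ := by
      rw [Scheme.range_fromSpecResidueField]
      exact Set.eq_univ_of_forall fun x => Subsingleton.elim _ _
    rw [this]; exact isClosed_univ
  have his : Surjective i := ⟨fun x => ⟨IsLocalRing.closedPoint _, Subsingleton.elim _ _⟩⟩
  let U' := pullback g i
  let p : U' ⟶ U := pullback.fst g i
  let g' : U' ⟶ Spec (CommRingCat.of (V.residueField v)) := pullback.snd g i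
  have sq : IsPullback p g' g i := IsPullback.of_hasPullback g i
  have hp : IsClosedImmersion p := inferInstance
  have hps : Surjective p := inferInstance
  obtain ⟨l, sqL, -⟩ := isPullback_kernelPair_baseChange g i p g' sq
  have hfst : Etale (pullback.fst g' g') := MorphismProperty.of_isPullback (P := @Etale) sqL h
  have hU' : IsAffine U' := inferInstance
  obtain ⟨u'⟩ : Nonempty ↥U' := by
    obtain ⟨u', -⟩ := hps.surj u₀
    exact ⟨u'⟩
  have hsub : Subsingleton ↥(Spec (CommRingCat.of (V.residueField v))) :=
    (inferInstance : Subsingleton (PrimeSpectrum (V.residueField v)))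
  have hg's : Surjective g' := ⟨fun x => ⟨u', Subsingleton.elim _ _⟩⟩
  have hint : IsIntegral (Spec (CommRingCat.of (V.residueField v))) := inferInstance
  have hg'f : Flat g' := inferInstance
  have hcU' : CompactSpace ↥U' := inferInstance
  have hg'q : QuasiCompact g' := inferInstance
  have hg'e : Etale g' :=
    MorphismProperty.of_isPullback_of_descendsAlong (P := @Etale)
      (Q := (@Surjective ⊓ @Flat ⊓ @QuasiCompact : MorphismProperty Scheme.{u}))
      (IsPullback.of_hasPullback g' g') ⟨⟨hg's, hg'f⟩, hg'q⟩ hfst
  have hls : Surjective l := MorphismProperty.of_isPullback (P := @Surjective) sqL.flip hps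
  exact ⟨V.residueField v, inferInstance, U', p, g', l, hp, hps.surj, hg'e, hU', hls.surj, hfst⟩

theorem discreteTopology_of_etale_kernelPair (h : Etale (pullback.fst g g)) :
    DiscreteTopology ↥U := by
  obtain ⟨K, _, U', p, g', l, hp, hps, hg'e, -, -, -⟩ := exists_residue_baseChange g h
  have hd : DiscreteTopology ↥U' :=
    Groth.Agent.Lib.AlgSpEtField91.discreteTopology_of_etale_field (K := K) g'
  rw [discreteTopology_iff_forall_isClosed]
  intro T
  have : T = p '' (p ⁻¹' T) := (Set.image_preimage_eq T hps).symm
  rw [this]
  exact p.isClosedEmbedding.isClosedMap _ (isClosed_discrete _)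

theorem finite_kernelPair_of_subsingleton [Subsingleton ↥U] (h : Etale (pullback.fst g g)) :
    Finite ↥(pullback g g) := by
  obtain ⟨K, _, U', p, g', l, hp, hps, hg'e, hU', hls, hfst⟩ := exists_residue_baseChange g h
  have he : Etale (pullback.fst g' g' ≫ g') := inferInstance
  have hlqf : LocallyQuasiFinite (pullback.fst g' g' ≫ g') :=
    Groth.Agent.Lib.AlgSpBasic.locallyQuasiFinite_of_etale _
  have haff : IsAffine (pullback g' g') := inferInstance
  have hcP : CompactSpace ↥(pullback g' g') := inferInstance
  have hqc : QuasiCompact (pullback.fst g' g' ≫ g') := inferInstance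
  have hsub : Subsingleton ↥(Spec (CommRingCat.of K)) :=
    (inferInstance : Subsingleton (PrimeSpectrum K))
  have hfin : Finite ↥(pullback g' g') := by
    have := (pullback.fst g' g' ≫ g').finite_preimage_singleton (IsLocalRing.closedPoint K)
    exact Set.finite_univ_iff.mp (this.subset fun w _ =>
      Subsingleton.elim (α := ↥(Spec (CommRingCat.of K))) _ _)
  exact Finite.of_surjective _ hls

end onePoint

end Groth.Agent.Lib.MonoZeroDim46
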