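import Groth.Agent.Lib.FinEtQuot46
import Groth.Agent.Lib.FinEtQuot46b
import Groth.Agent.Lib.MonoZeroDim46
import Groth.Agent.Lib.AlgSpDecentSpec
import Groth.Agent.Lib.AlgSpPts66
import Groth.Agent.Lib.H86AlgSpOpen

/-!
# An algebraic space with a monomorphism to a one-point scheme is an affine scheme (helper46)
-/

set_option autoImplicit false
universe u

namespace Groth.Agent.Lib.MonoOnePt46

open CategoryTheory CategoryTheory.Limits AlgebraicGeometry TopologicalSpace Opposite AlgSp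
open Groth.Agent.Lib.AlgSpDecentSpec

variable {S : Scheme.{u}}

/-- For a monomorphism `f : X ⟶ h_Y` and an étale chart `a : h_U ⟶ X`, the relation `U ×_X U` is
the scheme-theoretic kernel pair of `U ⟶ Y`, and its projections are étale. -/
theorem kernelPair_of_chart {X : Sp S} {Y : Over S} (f : X ⟶ (yon S).obj Y) [Mono f] {U R : Over S}
    (a : (yon S).obj U ⟶ X) (ha : RepWith @Etale a) (g : U ⟶ Y) (hg : a ≫ f = (yon S).map g)
    (s t : R ⟶ U) (sqR : IsPullback ((yon S).map t) ((yon S).map s) a a) :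
    IsPullback t.left s.left g.left g.left ∧ Etale (pullback.fst g.left g.left) := by
  have hk : IsKernelPair a ((yon S).map t) ((yon S).map s) := sqR
  have h1 : IsPullback ((yon S).map t) ((yon S).map s) (a ≫ f) (a ≫ f) := hk.comp_of_mono
  rw [hg] at h1
  have hw : t ≫ g = s ≫ g := by
    apply (yon S).map_injective
    rw [Functor.map_comp, Functor.map_comp, h1.w]
  have h2 : IsPullback t s g g := IsPullback.of_map (yon S) hw h1
  have h3 : IsPullback t.left s.left g.left g.left := h2.map (Over.forget S)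
  refine ⟨h3, ?_⟩
  have ht : Etale t.left := ha.property _ _ _ sqR.flip
  have : pullback.fst g.left g.left = h3.isoPullback.inv ≫ t.left := by
    rw [Iso.eq_inv_comp]; exact h3.isoPullback_hom_fst
  rw [this]
  infer_instance

/-- **An algebraic space with a monomorphism to a one-point scheme is an affine scheme.** -/
theorem exists_iso_of_mono_onePoint (X : AlgSp.Space S) (Y : Over S) [Subsingleton ↥Y.left]
    (f : X.obj ⟶ (yon S).obj Y) [Mono f] :
    ∃ (M : Over S) (_ : (yon S).obj M ≅ X.obj), IsAffine M.left := by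
  obtain ⟨U₀, a₀, ha₀e, ha₀s⟩ := X.property.atlas
  have hsubX : Subsingleton (Points X.obj) := by
    have hinj := Groth.Agent.Lib.H86AlgSpOpen.map_injective_of_mono f
    have : Subsingleton (Points ((yon S).obj Y)) :=
      (Points.schemeHomeo Y).symm.injective.subsingleton
    exact hinj.subsingleton
  by_cases hemp : IsEmpty ↥U₀.left
  · have sqR := ha₀e.rep.isPullback' a₀
    have hR : IsEmpty ↥(ha₀e.rep.pullback a₀).left :=
      Function.isEmpty (ha₀e.rep.snd a₀).left
    have hfin : IsFinite (ha₀e.rep.snd a₀).left := inferInstance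
    have haff : IsAffine U₀.left := inferInstance
    obtain ⟨M, e, q, hM, -⟩ := Groth.Agent.Lib.FinEtQuot46.exists_iso_of_chart a₀ ha₀e ha₀s sqR
    exact ⟨M, e, hM⟩
  · rw [not_isEmpty_iff] at hemp
    obtain ⟨u₀⟩ := hemp
    obtain ⟨W, hW, hu₀W, -⟩ := (Opens.isBasis_iff_nbhd.1 U₀.left.isBasis_affineOpens)
      (show u₀ ∈ (⊤ : U₀.left.Opens) from trivial)
    -- the affine chart `W`
    obtain ⟨a₁, ha₁_def⟩ : ∃ a₁, a₁ = (yon S).map (restrictOverι U₀ W) ≫ a₀ := ⟨_, rfl⟩
    have ha₁ : RepWith @Etale a₁ := ha₁_def ▸ repWith_etale_restrict a₀ ha₀e W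
    obtain ⟨g₁, hg₁⟩ := (yon S).map_surjective (a₁ ≫ f)
    have sqR₁ := ha₁.rep.isPullback' a₁
    obtain ⟨-, hE₁⟩ := kernelPair_of_chart f a₁ ha₁ g₁ hg₁.symm _ _ sqR₁
    have hWaff : IsAffine (restrictOver U₀ W).left := hW
    have hWne : Nonempty ↥(restrictOver U₀ W).left := ⟨(⟨u₀, hu₀W⟩ : ↥W)⟩
    have hdisc : DiscreteTopology ↥(restrictOver U₀ W).left :=
      Groth.Agent.Lib.MonoZeroDim46.discreteTopology_of_etale_kernelPair g₁.left hE₁
    -- the one-point chart
    have hopen : IsOpen ({u₀} : Set ↥U₀.left) := by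
      obtain ⟨w₀, hw₀⟩ : ∃ w₀ : ↥(restrictOver U₀ W).left,
          (Scheme.Opens.ι (X := U₀.left) W) w₀ = u₀ := ⟨(⟨u₀, hu₀W⟩ : ↥W), rfl⟩
      have h1 : ({u₀} : Set ↥U₀.left) = (Scheme.Opens.ι (X := U₀.left) W) '' {w₀} := by
        rw [Set.image_singleton, hw₀]
      rw [h1]
      exact (Scheme.Opens.ι (X := U₀.left) W).isOpenEmbedding.isOpenMap _
        (@isOpen_discrete _ _ hdisc _)
    obtain ⟨O, hO⟩ : ∃ O : U₀.left.Opens, (O : Set ↥U₀.left) = {u₀} := ⟨⟨{u₀}, hopen⟩, rfl⟩
    obtain ⟨a, ha_def⟩ : ∃ a, a = (yon S).map (restrictOverι U₀ O) ≫ a₀ := ⟨_, rfl⟩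
    have ha : RepWith @Etale a := ha_def ▸ repWith_etale_restrict a₀ ha₀e O
    have hmemO : ∀ z : ↥O, (z : ↥U₀.left) = u₀ := fun z => by
      have : (z : ↥U₀.left) ∈ (O : Set ↥U₀.left) := z.2
      rw [hO] at this; exact this
    have hsubU : Subsingleton ↥(restrictOver U₀ O).left :=
      ⟨fun x y => Subtype.ext ((hmemO x).trans (hmemO y).symm)⟩
    have hu₀O : u₀ ∈ O := by
      change u₀ ∈ (O : Set ↥U₀.left); rw [hO]; rfl
    have hneU : Nonempty ↥(restrictOver U₀ O).left := ⟨(⟨u₀, hu₀O⟩ : ↥O)⟩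
    have haffU : IsAffine (restrictOver U₀ O).left :=
      Groth.Agent.Lib.H80DecentPt.isAffine_of_subsingleton _
    obtain ⟨g, hg⟩ := (yon S).map_surjective (a ≫ f)
    have sqR := ha.rep.isPullback' a
    obtain ⟨hpb, hE⟩ := kernelPair_of_chart f a ha g hg.symm _ _ sqR
    have hfinP : Finite ↥(pullback g.left g.left) :=
      Groth.Agent.Lib.MonoZeroDim46.finite_kernelPair_of_subsingleton g.left hE
    have hfinR : Finite ↥(ha.rep.pullback a).left :=
      Finite.of_injective _ (Scheme.homeoOfIso hpb.isoPullback).injective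
    have hneR : Nonempty ↥(ha.rep.pullback a).left := by
      obtain ⟨e, -, -⟩ := Groth.Agent.Lib.FinEtQuot46.exists_refl
        (Groth.Agent.Lib.FinEtQuot46.isEqvRel_of_isPullback sqR)
      exact ⟨e (⟨u₀, hu₀O⟩ : ↥O)⟩
    have hse : Etale (ha.rep.snd a).left := ha.property _ _ _ sqR
    have hlqf : LocallyQuasiFinite (ha.rep.snd a).left :=
      Groth.Agent.Lib.AlgSpBasic.locallyQuasiFinite_of_etale _
    have hfin : IsFinite (ha.rep.snd a).left :=
      Groth.Agent.Lib.FinEtQuot46b.isFinite_of_finite_of_subsingleton _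
    have hsurj : Function.Surjective (Points.ofPt a) :=
      fun y => ⟨(⟨u₀, hu₀O⟩ : ↥O), Subsingleton.elim _ _⟩
    have has : RepWith @Surjective a :=
      Groth.Agent.Lib.AlgSpPts66.repWith_surjective_of_surjective_ofPt a ha.1 hsurj
    obtain ⟨M, e, q, hM, -⟩ := Groth.Agent.Lib.FinEtQuot46.exists_iso_of_chart a ha has sqR
    exact ⟨M, e, hM⟩

end Groth.Agent.Lib.MonoOnePt46
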