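import Mathlib.AlgebraicGeometry.Noetherian
import Mathlib.AlgebraicGeometry.Morphisms.QuasiCompact
import Mathlib.AlgebraicGeometry.Morphisms.UniversallyInjective
import Mathlib.Topology.NoetherianSpace
import Groth.Agent.Lib.MonoResidue45

/-!
# Monomorphisms with the dense lifting property are quasi-compact (helper85)

Let `X` be locally Noetherian and `f : Y ⟶ X` a monomorphism such that for every domain `A` and
`s : Spec A ⟶ X` for which a dense set of points lifts to `Y`, a nonempty open of `Spec A` lifts.
Then `f` is quasi-compact (Noetherian induction on closed subsets of affine opens of `X`).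
-/

set_option autoImplicit false
universe u
open CategoryTheory CategoryTheory.Limits AlgebraicGeometry TopologicalSpace

namespace Groth.Agent.Lib.MonoQC

variable {X Y : Scheme.{u}}

/-- The dense lifting property. -/
def DenseLift (f : Y ⟶ X) : Prop :=
  ∀ (A : Type u) [CommRing A] [IsDomain A] (s : Spec (CommRingCat.of A) ⟶ X)
    (D : Set ↥(Spec (CommRingCat.of A))), Dense D →
    (∀ p ∈ D, ∃ l : Spec ((Spec (CommRingCat.of A)).residueField p) ⟶ Y,
        l ≫ f = (Spec (CommRingCat.of A)).fromSpecResidueField p ≫ s) →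
      ∃ U : (Spec (CommRingCat.of A)).Opens, (U : Set ↥(Spec (CommRingCat.of A))).Nonempty ∧
        ∃ l : (U : Scheme.{u}) ⟶ Y, l ≫ f = U.ι ≫ s

/-- For a monomorphism `f`, a point of `S` whose image lies in the range of `f` lifts on the
level of residue fields. -/
theorem exists_lift_residueField (f : Y ⟶ X) [Mono f] {S : Scheme.{u}} (s : S ⟶ X) (p : S)
    (hp : s p ∈ Set.range f) :
    ∃ l : Spec (S.residueField p) ⟶ Y, l ≫ f = S.fromSpecResidueField p ≫ s := by
  obtain ⟨y, e⟩ := hp
  have : IsIso (f.residueFieldMap y) := Groth.Agent.Lib.MonoResidue45.isIso_residueFieldMap f y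
  refine ⟨Spec.map (inv (f.residueFieldMap y) ≫ (X.residueFieldCongr e).hom ≫
    s.residueFieldMap p) ≫ Y.fromSpecResidueField y, ?_⟩
  rw [Category.assoc, ← Scheme.Hom.SpecMap_residueFieldMap_fromSpecResidueField,
    ← Spec.map_comp_assoc, IsIso.hom_inv_id_assoc, Spec.map_comp, Category.assoc,
    Scheme.residueFieldCongr_fromSpecResidueField,
    Scheme.Hom.SpecMap_residueFieldMap_fromSpecResidueField]

/-- Key step: Noetherian induction on closed subsets of an affine Noetherian chart. -/
theorem isCompact_preimage_image (f : Y ⟶ X) [Mono f] (hc : DenseLift f)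
    {R : Type u} [CommRing R] [IsNoetherianRing R] (a : Spec (.of R) ⟶ X)
    (Z : Closeds ↥(Spec (CommRingCat.of R))) :
    IsCompact (f ⁻¹' (a '' (Z : Set ↥(Spec (CommRingCat.of R))))) := by
  have hNS : NoetherianSpace ↥(Spec (CommRingCat.of R)) :=
    inferInstanceAs (NoetherianSpace (PrimeSpectrum R))
  apply wellFounded_lt.induction Z; clear Z
  intro Z IH
  rcases eq_or_ne Z ⊥ with rfl | h₀
  · rw [Closeds.coe_bot, Set.image_empty, Set.preimage_empty]
    exact isCompact_empty
  by_cases h₁ : IsPreirreducible (Z : Set ↥(Spec (CommRingCat.of R)))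
  · -- the irreducible case
    have hirr : IsIrreducible (Z : Set ↥(Spec (CommRingCat.of R))) :=
      ⟨Closeds.coe_nonempty.2 h₀, h₁⟩
    obtain ⟨η, hη⟩ := QuasiSober.sober hirr Z.isClosed
    let 𝔭 : Ideal R := PrimeSpectrum.asIdeal (R := R) η
    have h𝔭 : 𝔭.IsPrime := PrimeSpectrum.isPrime (R := R) η
    let A : Type u := R ⧸ 𝔭
    let q : Spec (.of A) ⟶ Spec (.of R) := Spec.map (CommRingCat.ofHom (Ideal.Quotient.mk 𝔭))
    have hq : Topology.IsClosedEmbedding q :=
      PrimeSpectrum.isClosedEmbedding_comap_of_surjective A (Ideal.Quotient.mk 𝔭)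
        Ideal.Quotient.mk_surjective
    have hqrange : Set.range q = (Z : Set ↥(Spec (CommRingCat.of R))) := by
      have h1 : Set.range q = PrimeSpectrum.zeroLocus (RingHom.ker (Ideal.Quotient.mk 𝔭)) :=
        range_comap_of_surjective A (Ideal.Quotient.mk 𝔭) Ideal.Quotient.mk_surjective
      rw [h1, Ideal.mk_ker]
      have h2 := PrimeSpectrum.closure_singleton (R := R) η
      rw [← h2]
      exact hη
    let s : Spec (.of A) ⟶ X := q ≫ a
    have hsrange : Set.range s = a '' (Z : Set ↥(Spec (CommRingCat.of R))) := by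
      rw [← hqrange, ← Set.range_comp]
      rfl
    let D : Set ↥(Spec (CommRingCat.of A)) := {p | s p ∈ Set.range f}
    have hNSA : NoetherianSpace ↥(Spec (CommRingCat.of A)) :=
      inferInstanceAs (NoetherianSpace (PrimeSpectrum A))
    by_cases hD : Dense D
    · obtain ⟨U, ⟨u₀, hu₀⟩, l, hl⟩ := hc A s D hD
        (fun p hp => exists_lift_residueField f s p hp)
      -- the smaller closed set
      let Z' : Closeds ↥(Spec (CommRingCat.of R)) :=
        ⟨q '' ((U : Set ↥(Spec (CommRingCat.of A)))ᶜ), hq.isClosedMap _ U.isOpen.isClosed_compl⟩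
      have hZ'le : (Z' : Set ↥(Spec (CommRingCat.of R))) ⊆ Z := by
        rw [← hqrange]; exact Set.image_subset_range _ _
      have hZ'lt : Z' < Z := by
        refine lt_of_le_of_ne hZ'le ?_
        intro heq
        have : q u₀ ∈ (Z' : Set ↥(Spec (CommRingCat.of R))) := by
          rw [heq, ← hqrange]; exact ⟨u₀, rfl⟩
        obtain ⟨u, hu, hqu⟩ := this
        exact hu (hq.injective hqu ▸ hu₀)
      have hcU : CompactSpace ↥(U : Scheme.{u}) :=
        isCompact_iff_compactSpace.mp
          (NoetherianSpace.isCompact (U : Set ↥(Spec (CommRingCat.of A))))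
      have heq : f ⁻¹' (a '' (Z : Set ↥(Spec (CommRingCat.of R)))) =
          Set.range l ∪ f ⁻¹' (a '' (Z' : Set ↥(Spec (CommRingCat.of R)))) := by
        apply Set.Subset.antisymm
        · intro y hy
          rw [Set.mem_preimage, ← hsrange] at hy
          obtain ⟨p, hp⟩ := hy
          by_cases hpU : p ∈ U
          · left
            refine ⟨⟨p, hpU⟩, f.injective ?_⟩
            rw [← Scheme.Hom.comp_apply, hl, Scheme.Hom.comp_apply, ← hp]
            rfl
          · right
            exact ⟨q p, ⟨p, hpU, rfl⟩, hp⟩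
        · rintro y (⟨u, rfl⟩ | hy)
          · rw [Set.mem_preimage, ← hsrange, ← Scheme.Hom.comp_apply, hl, Scheme.Hom.comp_apply]
            exact ⟨_, rfl⟩
          · exact Set.preimage_mono (Set.image_mono hZ'le) hy
      rw [heq]
      exact (isCompact_range l.continuous).union (IH Z' hZ'lt)
    · -- `D` is not dense
      let Z' : Closeds ↥(Spec (CommRingCat.of R)) :=
        ⟨q '' closure D, hq.isClosedMap _ isClosed_closure⟩
      have hZ'le : (Z' : Set ↥(Spec (CommRingCat.of R))) ⊆ Z := by
        rw [← hqrange]; exact Set.image_subset_range _ _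
      have hZ'lt : Z' < Z := by
        refine lt_of_le_of_ne hZ'le ?_
        intro heq
        apply hD
        intro p
        have : q p ∈ (Z' : Set ↥(Spec (CommRingCat.of R))) := by
          rw [heq, ← hqrange]; exact ⟨p, rfl⟩
        obtain ⟨p', hp', hqp⟩ := this
        exact hq.injective hqp ▸ hp'
      have heq : f ⁻¹' (a '' (Z : Set ↥(Spec (CommRingCat.of R)))) =
          f ⁻¹' (a '' (Z' : Set ↥(Spec (CommRingCat.of R)))) := by
        apply Set.Subset.antisymm
        · intro y hy
          rw [Set.mem_preimage, ← hsrange] at hy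
          obtain ⟨p, hp⟩ := hy
          have hpD : p ∈ D := ⟨y, hp.symm⟩
          exact ⟨q p, ⟨p, subset_closure hpD, rfl⟩, hp⟩
        · exact Set.preimage_mono (Set.image_mono hZ'le)
      rw [heq]
      exact IH Z' hZ'lt
  · -- the reducible case
    simp only [isPreirreducible_iff_isClosed_union_isClosed, not_forall, not_or] at h₁
    obtain ⟨z₁, z₂, hz₁, hz₂, h, hz₁', hz₂'⟩ := h₁
    lift z₁ to Closeds ↥(Spec (CommRingCat.of R)) using hz₁
    lift z₂ to Closeds ↥(Spec (CommRingCat.of R)) using hz₂
    have e : (Z : Set ↥(Spec (CommRingCat.of R))) =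
        ((Z ⊓ z₁ : Closeds _) : Set ↥(Spec (CommRingCat.of R))) ∪
        ((Z ⊓ z₂ : Closeds _) : Set ↥(Spec (CommRingCat.of R))) := by
      rw [Closeds.coe_inf, Closeds.coe_inf, ← Set.inter_union_distrib_left]
      exact (Set.inter_eq_left.mpr h).symm
    rw [e, Set.image_union, Set.preimage_union]
    exact (IH (Z ⊓ z₁) (inf_lt_left.2 hz₁')).union (IH (Z ⊓ z₂) (inf_lt_left.2 hz₂'))

/-- A monomorphism to a locally Noetherian scheme with the dense lifting property is
quasi-compact. -/
theorem quasiCompact_of_denseLift [IsLocallyNoetherian X] (f : Y ⟶ X) [Mono f]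
    (hc : DenseLift f) : QuasiCompact f := by
  rw [quasiCompact_iff_forall_isAffineOpen]
  intro W hW
  have : IsNoetherianRing Γ(X, W) := IsLocallyNoetherian.component_noetherian ⟨W, hW⟩
  have h := isCompact_preimage_image f hc (R := Γ(X, W)) hW.fromSpec ⊤
  have e : (hW.fromSpec '' ((⊤ : Closeds ↥(Spec (CommRingCat.of Γ(X, W)))) :
      Set ↥(Spec (CommRingCat.of Γ(X, W))))) = (W : Set X) := by
    rw [Closeds.coe_top, Set.image_univ]
    exact hW.range_fromSpec
  rw [e] at h
  exact h

end Groth.Agent.Lib.MonoQC
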