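import Mathlib.RingTheory.Polynomial.GaussLemma
import Mathlib.RingTheory.Adjoin.PowerBasis
import Mathlib.LinearAlgebra.Matrix.Charpoly.Minpoly
import Mathlib.LinearAlgebra.Charpoly.ToMatrix
import Mathlib.RingTheory.Localization.BaseChange
import Mathlib.RingTheory.TensorProduct.Basic
import Mathlib.RingTheory.TensorProduct.Finite
import Mathlib.RingTheory.TensorProduct.Free
import Mathlib.RingTheory.IntegralClosure.IsIntegralClosure.Basic

/-!
A finite torsion-free monogenic algebra `B = A[x]` over an integrally closed domain `A` is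
`A[T]/(P)` with `P` the characteristic polynomial of `x` on `Frac(A) ⊗ B`.
-/

set_option autoImplicit false
set_option linter.unusedSectionVars false
universe u
open scoped TensorProduct
open Polynomial

namespace Groth.Agent.Lib.Monogenic

variable (A : Type u) [CommRing A] [IsDomain A] [IsIntegrallyClosed A]
  (B : Type u) [CommRing B] [Algebra A B] [Module.Finite A B] [NoZeroSMulDivisors A B]

theorem includeRight_injective :
    Function.Injective (Algebra.TensorProduct.includeRight :
      B →ₐ[A] (FractionRing A) ⊗[A] B) := by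
  rw [injective_iff_map_eq_zero]
  intro b hb
  have h1 : TensorProduct.mk A (FractionRing A) B 1 b = 0 := hb
  rw [IsLocalizedModule.eq_zero_iff (nonZeroDivisors A)] at h1
  obtain ⟨s, hs⟩ := h1
  have hs0 : (s : A) ≠ 0 := nonZeroDivisors.ne_zero s.2
  rcases smul_eq_zero.mp hs with h | h
  · exact absurd h hs0
  · exact h

theorem main (x : B) (hx : Algebra.adjoin A {x} = ⊤) :
    ∃ P : Polynomial A, P.Monic ∧
      Polynomial.map (algebraMap A (FractionRing A)) P =
        (LinearMap.mulLeft (FractionRing A) ((1 : FractionRing A) ⊗ₜ[A] x)).charpoly ∧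
      RingHom.ker (Polynomial.aeval x).toRingHom = Ideal.span {P} := by
  classical
  set K := FractionRing A with hK
  set y : K ⊗[A] B := (1 : K) ⊗ₜ[A] x with hy
  let ι : B →ₐ[A] K ⊗[A] B := Algebra.TensorProduct.includeRight
  have hιx : ι x = y := rfl
  have hιinj : Function.Injective ι := includeRight_injective A B
  -- y generates
  have hytop : Algebra.adjoin K {y} = ⊤ := by
    have := Algebra.TensorProduct.adjoin_one_tmul_image_eq_top (A := K) ({x} : Set B) hx
    rwa [Set.image_singleton] at this
  have hyint : IsIntegral K y := Algebra.IsIntegral.isIntegral y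
  let pb : PowerBasis K (K ⊗[A] B) := PowerBasis.ofAdjoinEqTop hyint hytop
  have hpbgen : pb.gen = y := PowerBasis.ofAdjoinEqTop_gen hyint hytop
  have hchar : (LinearMap.mulLeft K y).charpoly = minpoly K y := by
    rw [← LinearMap.charpoly_toMatrix (LinearMap.mulLeft K y) pb.basis]
    have h1 := charpoly_leftMulMatrix pb
    rw [hpbgen, Algebra.leftMulMatrix_apply] at h1
    exact h1
  -- x is integral
  have hxint : IsIntegral A x := Algebra.IsIntegral.isIntegral x
  set g := minpoly A x with hg
  have hgm : g.Monic := minpoly.monic hxint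
  have hcomm : ∀ h : A[X], ι (aeval x h) = aeval y (h.map (algebraMap A K)) := by
    intro h
    rw [← Polynomial.aeval_algHom_apply, hιx, Polynomial.aeval_map_algebraMap]
  have hdvd : minpoly K y ∣ g.map (algebraMap A K) := by
    apply minpoly.dvd
    rw [← hcomm, hg, minpoly.aeval, map_zero]
  obtain ⟨P, hP⟩ := IsIntegrallyClosed.eq_map_mul_C_of_dvd K hgm hdvd
  have hμm : (minpoly K y).Monic := minpoly.monic hyint
  rw [hμm.leadingCoeff, map_one, mul_one] at hP
  have hinjAK : Function.Injective (algebraMap A K) := IsFractionRing.injective A K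
  have hPm : P.Monic := Polynomial.monic_of_injective hinjAK (hP ▸ hμm)
  refine ⟨P, hPm, by rw [hP, hchar], ?_⟩
  ext h
  rw [RingHom.mem_ker, Ideal.mem_span_singleton]
  show aeval x h = 0 ↔ P ∣ h
  constructor
  · intro h0
    have h1 : aeval y (h.map (algebraMap A K)) = 0 := by rw [← hcomm, h0, map_zero]
    have h2 : minpoly K y ∣ h.map (algebraMap A K) := minpoly.dvd K y h1
    rw [← hP] at h2
    exact (Polynomial.map_dvd_map _ hinjAK hPm).mp h2
  · rintro ⟨h', rfl⟩
    have h1 : aeval x P = 0 := by
      apply hιinj
      rw [hcomm, hP, minpoly.aeval, map_zero]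
    rw [map_mul, h1, zero_mul]

end Groth.Agent.Lib.Monogenic
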