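import Mathlib
import Groth.Prelude.Def_Magnet4
import Groth.Agent.Lib.RingFibreSq24

/-!
# The fibre square of monoid algebras attached to faces (helper24)

For submonoids `N ≤ L ≤ L'`, `N' ≤ L'` of `M` with `L` a face of `L'`, `N` a face of `N'` and
`N' = L' \ (L \ N)`:  `R[N'] = R[N] ×_{R[L]} R[L']`.
-/

set_option autoImplicit false
universe u

namespace Groth.Agent.Lib.MonoidFibreSq24

open Groth.Agent.Lib.RingFibreSq24 Magnet

variable (R : Type u) [CommRing R] {M : Type} [AddCommMonoid M]

/-- coefficients of the face projection -/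
theorem faceAlgHom_coeff {N F : AddSubmonoid M} (hF : IsFace N F)
    (x : MonoidAlgebra R (Multiplicative ↥N)) (m : ↥F) :
    (faceAlgHom R hF x).coeff (Multiplicative.ofAdd m) =
      x.coeff (Multiplicative.ofAdd (AddSubmonoid.inclusion hF.le m)) := by
  induction x using MonoidAlgebra.induction_linear with
  | zero => simp
  | add x y hx hy => rw [map_add, MonoidAlgebra.coeff_add, MonoidAlgebra.coeff_add,
      Finsupp.add_apply, Finsupp.add_apply, hx, hy]
  | single n r =>
    obtain ⟨n, rfl⟩ : ∃ n' : ↥N, Multiplicative.ofAdd n' = n := ⟨Multiplicative.toAdd n, rfl⟩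
    by_cases h : (n : M) ∈ F
    · rw [faceAlgHom_single_of_mem R hF n h, MonoidAlgebra.coeff_single, MonoidAlgebra.coeff_single]
      classical
      rw [Finsupp.single_apply, Finsupp.single_apply]
      have key : (Multiplicative.ofAdd (⟨n, h⟩ : ↥F) = Multiplicative.ofAdd m) ↔
          (Multiplicative.ofAdd n = Multiplicative.ofAdd (AddSubmonoid.inclusion hF.le m)) := by
        rw [Multiplicative.ofAdd.injective.eq_iff, Multiplicative.ofAdd.injective.eq_iff,
          Subtype.ext_iff, Subtype.ext_iff]
        rfl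
      simp only [key]
    · rw [faceAlgHom_single_of_not_mem R hF n h, MonoidAlgebra.coeff_single]
      classical
      rw [Finsupp.single_apply, if_neg]
      · rfl
      · intro h1
        have h2 := Multiplicative.ofAdd.injective h1
        apply h
        rw [h2]
        exact m.2


theorem inclusion_injective {A B : AddSubmonoid M} (h : A ≤ B) :
    Function.Injective (AddMonoidHom.toMultiplicative (AddSubmonoid.inclusion h)) := by
  intro x y hxy
  have h1 : AddSubmonoid.inclusion h (Multiplicative.toAdd x) =
      AddSubmonoid.inclusion h (Multiplicative.toAdd y) := Multiplicative.ofAdd.injective hxy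
  have h2 := AddSubmonoid.inclusion_injective h h1
  exact Multiplicative.toAdd.injective h2

/-- coefficients of the inclusion map, inside -/
theorem mapDomain_coeff_incl {A B : AddSubmonoid M} (h : A ≤ B)
    (x : MonoidAlgebra R (Multiplicative ↥A)) (m : ↥A) :
    (MonoidAlgebra.mapDomainBialgHom R
      (AddMonoidHom.toMultiplicative (AddSubmonoid.inclusion h)) x).coeff
      (Multiplicative.ofAdd (AddSubmonoid.inclusion h m)) = x.coeff (Multiplicative.ofAdd m) :=
  Finsupp.mapDomain_apply (inclusion_injective h) x.coeff (Multiplicative.ofAdd m)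

/-- coefficients of the inclusion map, outside -/
theorem mapDomain_coeff_of_notMem {A B : AddSubmonoid M} (h : A ≤ B)
    (x : MonoidAlgebra R (Multiplicative ↥A)) (m : ↥B) (hm : (m : M) ∉ A) :
    (MonoidAlgebra.mapDomainBialgHom R
      (AddMonoidHom.toMultiplicative (AddSubmonoid.inclusion h)) x).coeff
      (Multiplicative.ofAdd m) = 0 := by
  apply Finsupp.mapDomain_of_notMem_range
  rintro ⟨a, ha⟩
  apply hm
  have h1 : AddSubmonoid.inclusion h (Multiplicative.toAdd a) = m :=
    Multiplicative.ofAdd.injective ha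
  rw [← h1]
  exact (Multiplicative.toAdd a).2

variable {R}

/-- **The fibre square** `R[N'] = R[N] ×_{R[L]} R[L']`. -/
theorem isFibreSq (N N' L L' : AddSubmonoid M) (hNL : N ≤ L) (hN'L' : N' ≤ L')
    (hL : IsFace L' L) (hN : IsFace N' N)
    (hdiff : (N' : Set M) = (L' : Set M) \ ((L : Set M) \ (N : Set M))) :
    IsFibreSq (faceAlgHom R hN).toRingHom
      (MonoidAlgebra.mapDomainBialgHom R
        (AddMonoidHom.toMultiplicative (AddSubmonoid.inclusion hN'L'))).toAlgHom.toRingHom
      (MonoidAlgebra.mapDomainBialgHom R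
        (AddMonoidHom.toMultiplicative (AddSubmonoid.inclusion hNL))).toAlgHom.toRingHom
      (faceAlgHom R hL).toRingHom := by
  have hiff : ∀ m : M, m ∈ N' ↔ m ∈ L' ∧ (m ∈ L → m ∈ N) := by
    intro m
    have : m ∈ (N' : Set M) ↔ m ∈ (L' : Set M) \ ((L : Set M) \ (N : Set M)) := by rw [hdiff]
    simpa only [Set.mem_sdiff, SetLike.mem_coe, not_and, not_not] using this
  refine ⟨?_, ?_, ?_⟩
  · -- commutativity
    have key : (MonoidAlgebra.mapDomainBialgHom R
        (AddMonoidHom.toMultiplicative (AddSubmonoid.inclusion hNL))).toAlgHom.comp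
          (faceAlgHom R hN) =
        (faceAlgHom R hL).comp (MonoidAlgebra.mapDomainBialgHom R
          (AddMonoidHom.toMultiplicative (AddSubmonoid.inclusion hN'L'))).toAlgHom := by
      refine MonoidAlgebra.algHom_ext (fun n => ?_) (Subsingleton.elim _ _)
      obtain ⟨n, rfl⟩ : ∃ n' : ↥N', Multiplicative.ofAdd n' = n := ⟨Multiplicative.toAdd n, rfl⟩
      rw [AlgHom.comp_apply, AlgHom.comp_apply, BialgHom.coe_toAlgHom, BialgHom.coe_toAlgHom,
        MonoidAlgebra.mapDomainBialgHom_single]
      by_cases h : (n : M) ∈ N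
      · rw [faceAlgHom_single_of_mem R hN n h, MonoidAlgebra.mapDomainBialgHom_single]
        exact (faceAlgHom_single_of_mem R hL (AddSubmonoid.inclusion hN'L' n) (hNL h) 1).symm
      · rw [faceAlgHom_single_of_not_mem R hN n h, map_zero]
        have h' : ((AddSubmonoid.inclusion hN'L' n : ↥L') : M) ∉ L := fun hl =>
          h (((hiff n).mp n.2).2 hl)
        exact (faceAlgHom_single_of_not_mem R hL (AddSubmonoid.inclusion hN'L' n) h' 1).symm
    intro c
    exact AlgHom.congr_fun key c
  · -- injectivity
    intro c _ hc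
    have hinj : Function.Injective (MonoidAlgebra.mapDomain (R := R)
        (AddMonoidHom.toMultiplicative (AddSubmonoid.inclusion hN'L'))) :=
      MonoidAlgebra.mapDomain_injective (inclusion_injective hN'L')
    apply hinj
    rw [MonoidAlgebra.mapDomain_zero]
    exact hc
  · -- surjectivity
    intro b a' hba
    have hco : ∀ m : ↥L, (MonoidAlgebra.mapDomainBialgHom R
        (AddMonoidHom.toMultiplicative (AddSubmonoid.inclusion hNL)) b).coeff
          (Multiplicative.ofAdd m) =
        a'.coeff (Multiplicative.ofAdd (AddSubmonoid.inclusion hL.le m)) := by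
      intro m
      rw [← faceAlgHom_coeff R hL a' m]
      exact congrArg (fun z => z.coeff (Multiplicative.ofAdd m)) hba
    have hsupp : (↑a'.coeff.support : Set (Multiplicative ↥L')) ⊆
        Set.range (AddMonoidHom.toMultiplicative (AddSubmonoid.inclusion hN'L')) := by
      intro m hm
      obtain ⟨m, rfl⟩ : ∃ m' : ↥L', Multiplicative.ofAdd m' = m := ⟨Multiplicative.toAdd m, rfl⟩
      by_contra hcon
      have hmN' : (m : M) ∉ N' := fun h => hcon ⟨Multiplicative.ofAdd ⟨m, h⟩, rfl⟩
      have hmL : (m : M) ∈ L := by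
        by_contra hmL
        exact hmN' ((hiff m).mpr ⟨m.2, fun h => absurd h hmL⟩)
      have hmN : (m : M) ∉ N := fun h => hmN' ((hiff m).mpr ⟨m.2, fun _ => h⟩)
      have h0 := hco ⟨m, hmL⟩
      rw [mapDomain_coeff_of_notMem R hNL b ⟨m, hmL⟩ hmN] at h0
      rw [Finset.mem_coe, Finsupp.mem_support_iff] at hm
      exact hm h0.symm
    refine ⟨MonoidAlgebra.comapDomain _ (inclusion_injective hN'L') a', ?_, ?_⟩
    · apply MonoidAlgebra.ext
      ext n
      obtain ⟨n, rfl⟩ : ∃ n' : ↥N, Multiplicative.ofAdd n' = n := ⟨Multiplicative.toAdd n, rfl⟩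
      have h1 := faceAlgHom_coeff R hN
        (MonoidAlgebra.comapDomain _ (inclusion_injective hN'L') a') n
      have h2 := hco (AddSubmonoid.inclusion hNL n)
      rw [mapDomain_coeff_incl R hNL b n] at h2
      refine h1.trans (Eq.trans ?_ h2.symm)
      rw [MonoidAlgebra.coeff_comapDomain, Finsupp.comapDomain_apply]
      rfl
    · exact MonoidAlgebra.mapDomain_comapDomain hsupp (inclusion_injective hN'L')

end Groth.Agent.Lib.MonoidFibreSq24
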