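import Mathlib
import Groth.Prelude.Def_Magnet4
import Groth.Agent.Lib.Ferrand24b
import Groth.Agent.Lib.Ferrand24s
import Groth.Agent.Lib.MonoidFibreSq24

/-!
# The pushout square of diagonalizable monoid schemes attached to faces, universally (helper24)
-/

set_option autoImplicit false
universe u

namespace Groth.Agent.Lib.MonoidFibreSq24

open CategoryTheory CategoryTheory.Limits MonoidalCategory AlgebraicGeometry Magnet
open Groth.Agent.Lib.RingFibreSq24 Groth.Agent.Lib.Ferrand24

variable {M : Type} [AddCommMonoid M]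

theorem faceAlgHom_surjective (R : Type u) [CommRing R] {N F : AddSubmonoid M} (hF : IsFace N F) :
    Function.Surjective (faceAlgHom R hF).toRingHom := by
  intro x
  refine ⟨(MonoidAlgebra.mapDomainBialgHom R
    (AddMonoidHom.toMultiplicative (AddSubmonoid.inclusion hF.le))).toAlgHom x, ?_⟩
  exact AlgHom.congr_fun (faceAlgHom_comp_mapDomain R hF) x

theorem isAffine_AMon_left (R : Type u) [CommRing R] (K : AddSubmonoid M) :
    IsAffine (AMon R ↥K).left :=
  (inferInstance : IsAffine (Spec (CommRingCat.of (MonoidAlgebra R (Multiplicative ↥K)))))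

theorem flat_AMon_hom (R : Type u) [CommRing R] (K : AddSubmonoid M) : Flat (AMon R ↥K).hom := by
  change Flat (Spec.map (CommRingCat.ofHom
    (algebraMap R (MonoidAlgebra R (Multiplicative ↥K)))))
  rw [AlgebraicGeometry.Flat.SpecMap_iff]
  change (algebraMap R (MonoidAlgebra R (Multiplicative ↥K))).Flat
  rw [RingHom.flat_algebraMap_iff]
  infer_instance

theorem isClosedImmersion_faceMap_left (R : Type u) [CommRing R] {N F : AddSubmonoid M}
    (hF : IsFace N F) : IsClosedImmersion (AMon.faceMap R hF).left :=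
  IsClosedImmersion.spec_of_surjective _ (faceAlgHom_surjective R hF)

section

variable (S : Scheme.{u}) (N N' L L' : AddSubmonoid M) (hNL : N ≤ L) (hN'L' : N' ≤ L')
  (hL : IsFace L' L) (hN : IsFace N' N)
  (hdiff : (N' : Set M) = (L' : Set M) \ ((L : Set M) \ (N : Set M)))

include hdiff in
/-- the pushout square over `ℤ` -/
theorem isPushout_AMon (R : Type u) [CommRing R] :
    IsPushout (AMon.faceMap R hL).left (AMon.map R (AddSubmonoid.inclusion hNL)).left
      (AMon.map R (AddSubmonoid.inclusion hN'L')).left (AMon.faceMap R hN).left :=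
  (good_Spec (isFibreSq (R := R) N N' L L' hNL hN'L' hL hN hdiff)
    (faceAlgHom_surjective R hL)).isPushout

theorem isClosedImmersion_faceMapS_left {N F : AddSubmonoid M} (hF : IsFace N F) :
    IsClosedImmersion (AMonS.faceMap S hF).left := by
  haveI := isClosedImmersion_faceMap_left (ULift.{u} ℤ) hF
  exact MorphismProperty.of_isPullback (P := @IsClosedImmersion)
    (isPullback_overPullback_map _ (AMon.faceMap (ULift.{u} ℤ) hF)) inferInstance

theorem isAffineHom_faceMapS_left {N F : AddSubmonoid M} (hF : IsFace N F) :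
    IsAffineHom (AMonS.faceMap S hF).left := by
  haveI := isClosedImmersion_faceMapS_left S hF
  infer_instance

theorem isAffineHom_mapS_left {A B : AddSubmonoid M} (h : A ≤ B) :
    IsAffineHom (AMonS.map S (AddSubmonoid.inclusion h)).left := by
  haveI := isAffine_AMon_left (ULift.{u} ℤ) A
  haveI := isAffine_AMon_left (ULift.{u} ℤ) B
  exact MorphismProperty.of_isPullback (P := @IsAffineHom)
    (isPullback_overPullback_map _ (AMon.map (ULift.{u} ℤ) (AddSubmonoid.inclusion h)))
    inferInstance

theorem flat_AMonS_hom (K : AddSubmonoid M) : Flat (AMonS S ↥K).hom := by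
  haveI := flat_AMon_hom (ULift.{u} ℤ) K
  change Flat (pullback.snd _ _)
  infer_instance

include hdiff in
/-- the pushout square over `S`, in `Scheme` -/
theorem isPushout_AMonS_left :
    IsPushout (AMonS.faceMap S hL).left (AMonS.map S (AddSubmonoid.inclusion hNL)).left
      (AMonS.map S (AddSubmonoid.inclusion hN'L')).left (AMonS.faceMap S hN).left := by
  haveI := isAffine_AMon_left (ULift.{u} ℤ) L
  haveI := isAffine_AMon_left (ULift.{u} ℤ) L'
  haveI := isAffine_AMon_left (ULift.{u} ℤ) N
  haveI := isAffine_AMon_left (ULift.{u} ℤ) N'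
  haveI := isClosedImmersion_faceMap_left (ULift.{u} ℤ) hL
  haveI := flat_AMon_hom (ULift.{u} ℤ) L
  have hP₀ := isPushout_AMon N N' L L' hNL hN'L' hL hN hdiff (ULift.{u} ℤ)
  have h := isPushout_overPullback_map (X := AMon (ULift.{u} ℤ) ↥L') (T := AMon (ULift.{u} ℤ) ↥N)
    (fun _ => ⟨⟨⊤, ⊤, rfl⟩, isAffineOpen_top _, isAffineOpen_top _, trivial⟩)
    (fun _ => ⟨⟨⊤, ⊤, rfl⟩, isAffineOpen_top _, isAffineOpen_top _, trivial⟩) hP₀
    (Limits.IsTerminal.from specULiftZIsTerminal S)
  exact h.map (Over.forget S)

include hdiff in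
/-- **the pushout square over `S`, whiskered by any `W`** -/
theorem isPushout_AMonS_whiskerRight (W : Over S) :
    IsPushout (AMonS.faceMap S hL ▷ W) (AMonS.map S (AddSubmonoid.inclusion hNL) ▷ W)
      (AMonS.map S (AddSubmonoid.inclusion hN'L') ▷ W) (AMonS.faceMap S hN ▷ W) := by
  haveI := isClosedImmersion_faceMapS_left S hL
  haveI := isAffineHom_mapS_left S hN'L'
  haveI := isAffineHom_faceMapS_left S hN
  haveI := flat_AMonS_hom S L
  exact isPushout_whiskerRight (isPushout_AMonS_left S N N' L L' hNL hN'L' hL hN hdiff) W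

end

end Groth.Agent.Lib.MonoidFibreSq24
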