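import Mathlib

/-!
# Weil restriction, ring level (helper37)

`R` a commutative ring, `B` an `R`-algebra with a finite basis `e : ι → B`, `E` an `R`-algebra.
We construct the `R`-algebra `WA e E = R[y_{c,k} : c ∈ E, k ∈ ι] / J` that represents
`A ↦ Hom_{R-alg}(E, B ⊗_R A)`.  To stay flexible on the geometric side, the tensor product is
replaced by ANY ring `D` with maps `α : A → D`, `β : B → D` such that
`Psi : (ι → A) → D, v ↦ ∑ k, β (e k) * α (v k)` is bijective.

* `exists_rho`: a ring map `χ : WA → A` over `R` gives `ρ : E → D` with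
  `ρ c = ∑ k, β (e k) * α (χ (x (c, k)))`.
* `existsUnique_chi`: conversely every `ρ : E → D` over `R` comes from a unique `χ`.
-/

set_option autoImplicit false
universe u v w

namespace Groth.Agent.Lib.WeilResAlg37

section
variable {R : Type u} [CommRing R] {B : Type u} [CommRing B] [Algebra R B]
  {ι : Type u} [Fintype ι] (e : Module.Basis ι R B) (E : Type u) [CommRing E] [Algebra R E]

/-- structure constants of `B` -/
noncomputable def m (i j k : ι) : R := e.repr (e i * e j) k

/-- coordinates of scalars -/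
noncomputable def un (r : R) (k : ι) : R := e.repr (algebraMap R B r) k

/-- multiplicativity relations -/
noncomputable def relMul (t : E × E × ι) : MvPolynomial (E × ι) R :=
  MvPolynomial.X (t.1 * t.2.1, t.2.2) -
    ∑ i, ∑ j, MvPolynomial.C (m e i j t.2.2) * MvPolynomial.X (t.1, i) * MvPolynomial.X (t.2.1, j)

/-- additivity relations -/
noncomputable def relAdd (_e : Module.Basis ι R B) (t : E × E × ι) : MvPolynomial (E × ι) R :=
  MvPolynomial.X (t.1 + t.2.1, t.2.2) -
    (MvPolynomial.X (t.1, t.2.2) + MvPolynomial.X (t.2.1, t.2.2))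

/-- scalar relations -/
noncomputable def relAlg (t : R × ι) : MvPolynomial (E × ι) R :=
  MvPolynomial.X (algebraMap R E t.1, t.2) - MvPolynomial.C (un e t.1 t.2)

/-- the ideal of relations -/
noncomputable def J : Ideal (MvPolynomial (E × ι) R) :=
  Ideal.span (Set.range (relMul e E) ∪ Set.range (relAdd E e) ∪ Set.range (relAlg e E))

/-- the coordinate ring of the Weil restriction -/
abbrev WA : Type u := MvPolynomial (E × ι) R ⧸ J e E

/-- the universal coordinates -/
noncomputable def x (p : E × ι) : WA e E := Ideal.Quotient.mk _ (MvPolynomial.X p)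

lemma algebraMap_WA (r : R) :
    algebraMap R (WA e E) r = Ideal.Quotient.mk _ (MvPolynomial.C r) := rfl

lemma x_mul (c c' : E) (k : ι) :
    x e E (c * c', k) =
      ∑ i, ∑ j, algebraMap R (WA e E) (m e i j k) * x e E (c, i) * x e E (c', j) := by
  have h : relMul e E (c, c', k) ∈ J e E := Ideal.subset_span (Or.inl (Or.inl ⟨_, rfl⟩))
  have h2 := (Ideal.Quotient.eq_zero_iff_mem).mpr h
  rw [relMul, map_sub, sub_eq_zero] at h2
  simp only [map_sum, map_mul] at h2
  exact h2

lemma x_add (c c' : E) (k : ι) : x e E (c + c', k) = x e E (c, k) + x e E (c', k) := by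
  have h : relAdd E e (c, c', k) ∈ J e E := Ideal.subset_span (Or.inl (Or.inr ⟨_, rfl⟩))
  have h2 := (Ideal.Quotient.eq_zero_iff_mem).mpr h
  rw [relAdd, map_sub, sub_eq_zero, map_add] at h2
  exact h2

lemma x_alg (r : R) (k : ι) :
    x e E (algebraMap R E r, k) = algebraMap R (WA e E) (un e r k) := by
  have h : relAlg e E (r, k) ∈ J e E := Ideal.subset_span (Or.inr ⟨_, rfl⟩)
  have h2 := (Ideal.Quotient.eq_zero_iff_mem).mpr h
  rw [relAlg, map_sub, sub_eq_zero] at h2
  exact h2

section Data
variable {A : Type v} {D : Type w} [CommRing A] [CommRing D]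
  (a : R →+* A) (α : A →+* D) (β : B →+* D)

/-- the coordinate map -/
noncomputable def Psi (v : ι → A) : D := ∑ k, β (e k) * α (v k)

variable {e a α β}

lemma beta_eq (hc : β.comp (algebraMap R B) = α.comp a) (b : B) :
    β b = Psi e α β (fun k => a (e.repr b k)) := by
  conv_lhs => rw [← e.sum_repr b]
  rw [map_sum]
  unfold Psi
  refine Finset.sum_congr rfl fun k _ => ?_
  rw [Algebra.smul_def, map_mul, mul_comm]
  congr 1
  exact RingHom.congr_fun hc (e.repr b k)

lemma Psi_mul (hc : β.comp (algebraMap R B) = α.comp a) (v v' : ι → A) :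
    Psi e α β v * Psi e α β v' =
      Psi e α β (fun k => ∑ i, ∑ j, a (m e i j k) * v i * v' j) := by
  have h1 : ∀ i j, (β (e i) * α (v i)) * (β (e j) * α (v' j)) =
      ∑ k, β (e k) * α (a (m e i j k) * v i * v' j) := by
    intro i j
    have h := beta_eq (e := e) hc (e i * e j)
    rw [map_mul] at h
    calc (β (e i) * α (v i)) * (β (e j) * α (v' j))
        = (β (e i) * β (e j)) * (α (v i) * α (v' j)) := by ring
      _ = _ := by
        rw [h]
        unfold Psi
        rw [Finset.sum_mul]
        refine Finset.sum_congr rfl fun k _ => ?_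
        simp only [map_mul, m]
        ring
  have h3 : ∀ F : ι → ι → ι → D, ∑ i, ∑ j, ∑ k, F i j k = ∑ k, ∑ i, ∑ j, F i j k := by
    intro F
    have h4 : ∀ i, ∑ j, ∑ k, F i j k = ∑ k, ∑ j, F i j k := fun i => Finset.sum_comm
    simp_rw [h4]
    exact Finset.sum_comm
  unfold Psi
  rw [Finset.sum_mul_sum]
  simp_rw [h1, map_sum, Finset.mul_sum]
  exact h3 (fun i j k => β (e k) * α (a (m e i j k) * v i * v' j))

lemma Psi_add (v v' : ι → A) :
    Psi e α β (fun k => v k + v' k) = Psi e α β v + Psi e α β v' := by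
  unfold Psi
  rw [← Finset.sum_add_distrib]
  refine Finset.sum_congr rfl fun k _ => ?_
  rw [map_add, mul_add]

lemma Psi_alg (hc : β.comp (algebraMap R B) = α.comp a) (r : R) :
    Psi e α β (fun k => a (un e r k)) = α (a r) := by
  change Psi e α β (fun k => a (e.repr (algebraMap R B r) k)) = _
  rw [← beta_eq (e := e) hc (algebraMap R B r)]
  exact RingHom.congr_fun hc r

variable {E}

/-- A point `χ` of the Weil restriction gives a ring map `ρ : E → D`. -/
theorem exists_rho (hc : β.comp (algebraMap R B) = α.comp a) (χ : WA e E →+* A)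
    (hχ : χ.comp (algebraMap R (WA e E)) = a) :
    ∃ ρ : E →+* D, ρ.comp (algebraMap R E) = α.comp a ∧
      ∀ c, ρ c = Psi e α β (fun k => χ (x e E (c, k))) := by
  have hχ' : ∀ r, χ (algebraMap R (WA e E) r) = a r := fun r => RingHom.congr_fun hχ r
  have hmul : ∀ c c', Psi e α β (fun k => χ (x e E (c * c', k))) =
      Psi e α β (fun k => χ (x e E (c, k))) * Psi e α β (fun k => χ (x e E (c', k))) := by
    intro c c'
    rw [Psi_mul hc]
    congr 1
    funext k
    rw [x_mul, map_sum]
    refine Finset.sum_congr rfl fun i _ => ?_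
    rw [map_sum]
    refine Finset.sum_congr rfl fun j _ => ?_
    rw [map_mul, map_mul, hχ']
  have hadd : ∀ c c', Psi e α β (fun k => χ (x e E (c + c', k))) =
      Psi e α β (fun k => χ (x e E (c, k))) + Psi e α β (fun k => χ (x e E (c', k))) := by
    intro c c'
    rw [← Psi_add]
    congr 1
    funext k
    rw [x_add, map_add]
  have halg : ∀ r, Psi e α β (fun k => χ (x e E (algebraMap R E r, k))) = α (a r) := by
    intro r
    rw [← Psi_alg (e := e) hc r]
    congr 1
    funext k
    rw [x_alg, hχ']
  refine ⟨{ toFun := fun c => Psi e α β (fun k => χ (x e E (c, k)))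
            map_one' := by rw [← map_one (algebraMap R E), halg, map_one, map_one]
            map_mul' := hmul
            map_zero' := by rw [← map_zero (algebraMap R E), halg, map_zero, map_zero]
            map_add' := hadd }, ?_, fun c => rfl⟩
  ext r
  exact halg r

/-- Every ring map `ρ : E → D` over `R` comes from a unique point of the Weil restriction. -/
theorem existsUnique_chi (hc : β.comp (algebraMap R B) = α.comp a)
    (hbij : Function.Bijective (Psi e α β)) (ρ : E →+* D)
    (hρ : ρ.comp (algebraMap R E) = α.comp a) :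
    ∃! χ : WA e E →+* A, χ.comp (algebraMap R (WA e E)) = a ∧
      ∀ c, ρ c = Psi e α β (fun k => χ (x e E (c, k))) := by
  choose v hv using fun c => hbij.2 (ρ c)
  let ψ : MvPolynomial (E × ι) R →+* A := MvPolynomial.eval₂Hom a (fun p => v p.1 p.2)
  have hψX : ∀ p, ψ (MvPolynomial.X p) = v p.1 p.2 := fun p => MvPolynomial.eval₂Hom_X' _ _ _
  have hψC : ∀ r, ψ (MvPolynomial.C r) = a r := fun r => MvPolynomial.eval₂Hom_C _ _ _
  have hle : J e E ≤ RingHom.ker ψ := by
    unfold J
    refine Ideal.span_le.mpr ?_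
    rintro _ ((⟨t, rfl⟩ | ⟨t, rfl⟩) | ⟨t, rfl⟩)
    · obtain ⟨c, c', k⟩ := t
      rw [SetLike.mem_coe, RingHom.mem_ker, relMul, map_sub, sub_eq_zero, map_sum, hψX]
      have := hbij.1 (a₁ := v (c * c'))
        (a₂ := fun k => ∑ i, ∑ j, a (m e i j k) * v c i * v c' j)
        (by rw [hv, ← Psi_mul hc, hv, hv, map_mul])
      rw [congrFun this k]
      refine Finset.sum_congr rfl fun i _ => ?_
      rw [map_sum]
      refine Finset.sum_congr rfl fun j _ => ?_
      rw [map_mul, map_mul, hψC, hψX, hψX]
    · obtain ⟨c, c', k⟩ := t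
      rw [SetLike.mem_coe, RingHom.mem_ker, relAdd, map_sub, sub_eq_zero, map_add, hψX, hψX, hψX]
      have := hbij.1 (a₁ := v (c + c')) (a₂ := fun k => v c k + v c' k)
        (by rw [hv, Psi_add, hv, hv, map_add])
      exact congrFun this k
    · obtain ⟨r, k⟩ := t
      rw [SetLike.mem_coe, RingHom.mem_ker, relAlg, map_sub, sub_eq_zero, hψX, hψC]
      have := hbij.1 (a₁ := v (algebraMap R E r)) (a₂ := fun k => a (un e r k))
        (by rw [hv, Psi_alg hc]; exact RingHom.congr_fun hρ r)
      exact congrFun this k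
  have hJ : ∀ p ∈ J e E, ψ p = 0 := fun p hp => hle hp
  let χ : WA e E →+* A := Ideal.Quotient.lift (J e E) ψ hJ
  have hχx : ∀ p, χ (x e E p) = v p.1 p.2 := fun p => by
    change χ (Ideal.Quotient.mk _ _) = _
    rw [Ideal.Quotient.lift_mk, hψX]
  have hχC : ∀ r, χ (algebraMap R (WA e E) r) = a r := fun r => by
    change χ (Ideal.Quotient.mk _ (MvPolynomial.C r)) = _
    rw [Ideal.Quotient.lift_mk, hψC]
  refine ⟨χ, ⟨?_, ?_⟩, ?_⟩
  · ext r
    exact hχC r
  · intro c
    rw [← hv c]
    congr 1
    funext k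
    rw [hχx]
  · rintro χ' ⟨h1, h2⟩
    have hx' : ∀ p, χ' (x e E p) = χ (x e E p) := by
      intro p
      rw [hχx]
      have := hbij.1 (a₁ := fun k => χ' (x e E (p.1, k))) (a₂ := v p.1)
        (by rw [← h2, hv])
      exact congrFun this p.2
    refine RingHom.ext fun z => ?_
    obtain ⟨p, rfl⟩ := Ideal.Quotient.mk_surjective z
    induction p using MvPolynomial.induction_on with
    | C r =>
      change χ' (algebraMap R (WA e E) r) = χ (algebraMap R (WA e E) r)
      rw [hχC]
      exact RingHom.congr_fun h1 r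
    | add p q hp hq => rw [map_add, map_add, map_add, hp, hq]
    | mul_X p i hp =>
      rw [map_mul, map_mul, map_mul, hp]
      congr 1
      exact hx' i

end Data

end

end Groth.Agent.Lib.WeilResAlg37
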