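import Mathlib
import Groth.Prelude.Def_Flatn
import Groth.Agent.Lib.H8PullbackGamma
import Groth.Agent.Lib.WeilResAlg37

/-!
# Weil restriction along a finite free affine morphism, affine target (helper37)

* `bijective_PsiU_top`: sheaf gluing — a "coordinate map" `(ι → Γ(T,U)) → Γ(Y, fst⁻¹U)` that is
  bijective over affine opens `U` is bijective over `⊤`.
* `bijective_PsiU_of_isAffineOpen`: the affine case for a pullback `Y = T ×_S Z`, `Γ(Z)` with basis `e`.
* `nonempty_representableBy_of_rel`: representability from a functional, natural relation.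
* `main`: `Mor_S(Z, X)` is represented by `Spec (WA e Γ(X))` for `S, Z, X` affine, `Γ(Z)` finite free.
-/

set_option autoImplicit false
universe u v w
open CategoryTheory CategoryTheory.Limits AlgebraicGeometry TopologicalSpace Opposite
open scoped TensorProduct

namespace Groth.Agent.Lib.WeilResGeom37

open Groth.Agent.Lib

section Tensor

lemma bijective_sum_tmul {R B A : Type*} [CommRing R] [CommRing B] [Algebra R B] [CommRing A]
    [Algebra R A] {ι : Type*} [Fintype ι] (e : Module.Basis ι R B) :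
    Function.Bijective (fun v : ι → A => ∑ k, e k ⊗ₜ[R] v k) := by
  classical
  have : (fun v : ι → A => ∑ k, e k ⊗ₜ[R] v k) =
      (TensorProduct.equivFinsuppOfBasisLeft e).symm ∘
        (Finsupp.equivFunOnFinite (α := ι) (M := A)).symm := by
    funext v
    rw [Function.comp_apply, TensorProduct.equivFinsuppOfBasisLeft_symm_apply,
      Finsupp.sum_fintype _ _ (by simp)]
    rfl
  rw [this]
  exact (TensorProduct.equivFinsuppOfBasisLeft e).symm.bijective.comp (Equiv.bijective _)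

end Tensor

section Psi

variable {T Y Z : Scheme.{u}} (fst : Y ⟶ T) (snd : Y ⟶ Z) {ι : Type v} [Fintype ι]
  (b : ι → Γ(Z, ⊤))

/-- coordinate map over an open `U` of `T` -/
noncomputable def PsiU (U : T.Opens) (v : ι → Γ(T, U)) : Γ(Y, fst ⁻¹ᵁ U) :=
  ∑ k, (snd.appLE ⊤ (fst ⁻¹ᵁ U) le_top).hom (b k) * (fst.appLE U (fst ⁻¹ᵁ U) le_rfl).hom (v k)

lemma PsiU_res {U V : T.Opens} (hVU : V ≤ U) (v : ι → Γ(T, U)) :
    (Y.presheaf.map (homOfLE (fst.preimage_mono hVU)).op).hom (PsiU fst snd b U v) =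
      PsiU fst snd b V (fun k => (T.presheaf.map (homOfLE hVU).op).hom (v k)) := by
  unfold PsiU
  rw [map_sum]
  refine Finset.sum_congr rfl fun k _ => ?_
  rw [map_mul]
  congr 1
  · rw [← snd.appLE_map le_top (homOfLE (fst.preimage_mono hVU)).op]
    rfl
  · have h1 := fst.appLE_map (le_rfl : fst ⁻¹ᵁ U ≤ fst ⁻¹ᵁ U) (homOfLE (fst.preimage_mono hVU)).op
    have h2 := fst.map_appLE (le_rfl : fst ⁻¹ᵁ V ≤ fst ⁻¹ᵁ V) (homOfLE hVU).op
    exact congrArg (fun φ => φ.hom (v k)) (h1.trans h2.symm)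

/-- **Gluing**: if the coordinate maps are bijective over affine opens, they are bijective
globally. -/
theorem bijective_PsiU_top
    (haff : ∀ U : T.Opens, IsAffineOpen U → Function.Bijective (PsiU fst snd b U)) :
    Function.Bijective (PsiU fst snd b ⊤) := by
  constructor
  · intro v v' h
    funext k
    refine T.sheaf.eq_of_locally_eq' (fun U : T.affineOpens => (U : T.Opens)) ⊤
      (fun U => homOfLE le_top) (by rw [iSup_affineOpens_eq_top T]) _ _ (fun U => ?_)
    have h1 := congrArg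
      (Y.presheaf.map (homOfLE (fst.preimage_mono (le_top : (U : T.Opens) ≤ ⊤))).op).hom h
    rw [PsiU_res, PsiU_res] at h1
    exact congrFun ((haff U U.2).1 h1) k
  · intro s
    have hex : ∀ U : T.affineOpens, ∃ w : ι → Γ(T, (U : T.Opens)), PsiU fst snd b U w =
        (Y.presheaf.map (homOfLE (fst.preimage_mono (le_top : (U : T.Opens) ≤ ⊤))).op).hom s :=
      fun U => (haff U U.2).2 _
    choose w hw using hex
    have key : ∀ (U W : T.affineOpens) (hWU : (W : T.Opens) ≤ U),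
        (fun k => (T.presheaf.map (homOfLE hWU).op).hom (w U k)) = w W := by
      intro U W hWU
      apply (haff W W.2).1
      rw [← PsiU_res, hw, hw, ← RingHom.comp_apply, ← CommRingCat.hom_comp, ← Functor.map_comp]
      rfl
    have hcompat : ∀ k, TopCat.Presheaf.IsCompatible T.presheaf
        (fun U : T.affineOpens => (U : T.Opens)) (fun U => w U k) := by
      intro k U U'
      have hnb : ∀ x : ↥((U : T.Opens) ⊓ (U' : T.Opens)), ∃ W : T.affineOpens,
          x.1 ∈ (W : T.Opens) ∧ (W : T.Opens) ≤ (U : T.Opens) ⊓ (U' : T.Opens) := by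
        intro x
        obtain ⟨W, hW, hxW, hWU⟩ := Opens.isBasis_iff_nbhd.mp T.isBasis_affineOpens x.2
        exact ⟨⟨W, hW⟩, hxW, hWU⟩
      choose W hxW hWU using hnb
      refine T.sheaf.eq_of_locally_eq' (fun x => (W x : T.Opens)) _ (fun x => homOfLE (hWU x))
        (fun y hy => Opens.mem_iSup.mpr ⟨⟨y, hy⟩, hxW _⟩) _ _ (fun x => ?_)
      have h1 := congrFun (key U (W x) ((hWU x).trans inf_le_left)) k
      have h2 := congrFun (key U' (W x) ((hWU x).trans inf_le_right)) k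
      change (T.presheaf.map _).hom ((T.presheaf.map _).hom (w U k)) =
        (T.presheaf.map _).hom ((T.presheaf.map _).hom (w U' k))
      rw [← RingHom.comp_apply, ← RingHom.comp_apply, ← CommRingCat.hom_comp,
        ← CommRingCat.hom_comp, ← Functor.map_comp, ← Functor.map_comp]
      exact h1.trans h2.symm
    have hgl : ∀ k, ∃ a : Γ(T, ⊤), ∀ U : T.affineOpens,
        (T.presheaf.map (homOfLE (le_top : (U : T.Opens) ≤ ⊤)).op).hom a = w U k := by
      intro k
      obtain ⟨a, ha, -⟩ := T.sheaf.existsUnique_gluing' (fun U : T.affineOpens => (U : T.Opens)) ⊤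
        (fun U => homOfLE le_top) (by rw [iSup_affineOpens_eq_top T]) (fun U => w U k) (hcompat k)
      exact ⟨a, ha⟩
    choose a ha using hgl
    refine ⟨a, ?_⟩
    refine Y.sheaf.eq_of_locally_eq' (fun U : T.affineOpens => fst ⁻¹ᵁ (U : T.Opens)) _
      (fun U => homOfLE (fst.preimage_mono le_top)) ?_ _ _ (fun U => ?_)
    · intro y _
      have : fst.base y ∈ (⊤ : T.Opens) := trivial
      rw [← iSup_affineOpens_eq_top T, Opens.mem_iSup] at this
      obtain ⟨U, hU⟩ := this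
      exact Opens.mem_iSup.mpr ⟨U, hU⟩
    · have := PsiU_res fst snd b (le_top : (U : T.Opens) ≤ ⊤) a
      have h5 : (fun k => (T.presheaf.map (homOfLE (le_top : (U : T.Opens) ≤ ⊤)).op).hom (a k)) =
          w U := funext fun k => ha k U
      rw [h5] at this
      exact this.trans (hw U)

lemma PsiU_top (v : ι → Γ(T, ⊤)) :
    PsiU fst snd b ⊤ v = ∑ k, snd.appTop.hom (b k) * fst.appTop.hom (v k) := by
  have h1 : ∀ z, (snd.appLE ⊤ (fst ⁻¹ᵁ ⊤) le_top).hom z = snd.appTop.hom z := by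
    intro z
    have : snd.appLE ⊤ (fst ⁻¹ᵁ ⊤) le_top = snd.appTop := by
      rw [Scheme.Hom.appTop, Scheme.Hom.app_eq_appLE]
      rfl
    exact congrArg (fun φ => φ.hom z) this
  have h2 : ∀ z, (fst.appLE ⊤ (fst ⁻¹ᵁ ⊤) le_rfl).hom z = fst.appTop.hom z := by
    intro z
    have : fst.appLE ⊤ (fst ⁻¹ᵁ ⊤) le_rfl = fst.appTop := by
      rw [Scheme.Hom.appTop, Scheme.Hom.app_eq_appLE]
    exact congrArg (fun φ => φ.hom z) this
  unfold PsiU
  refine Finset.sum_congr rfl fun k _ => ?_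
  exact congrArg₂ (· * ·) (h1 _) (h2 _)

end Psi

section Affine

/-- The affine case: sections of `Y = T ×_S Z` over the preimage of an affine open of `T`. -/
theorem bijective_PsiU_of_isAffineOpen {T Y Z S : Scheme.{u}} {fst : Y ⟶ T} {snd : Y ⟶ Z}
    {q : T ⟶ S} {g : Z ⟶ S} (hsq : IsPullback fst snd q g) [IsAffine S] [IsAffine Z]
    [Algebra Γ(S, ⊤) Γ(Z, ⊤)] (hB : algebraMap Γ(S, ⊤) Γ(Z, ⊤) = g.appTop.hom)
    {ι : Type v} [Fintype ι] (e : Module.Basis ι Γ(S, ⊤) Γ(Z, ⊤)) (U : T.Opens)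
    (hU : IsAffineOpen U) :
    Function.Bijective (PsiU fst snd (fun k => e k) U) := by
  have hΩ : fst ⁻¹ᵁ U = fst ⁻¹ᵁ U ⊓ snd ⁻¹ᵁ ⊤ :=
    le_antisymm (le_inf le_rfl (fun _ _ => trivial)) inf_le_left
  have hV : IsAffineOpen (⊤ : S.Opens) := isAffineOpen_top S
  have hV₂ : IsAffineOpen (⊤ : Z.Opens) := isAffineOpen_top Z
  have hW₁V : U ≤ q ⁻¹ᵁ ⊤ := fun _ _ => trivial
  have hV₂V : (⊤ : Z.Opens) ≤ g ⁻¹ᵁ ⊤ := fun _ _ => trivial
  have hΩa : IsAffineOpen (fst ⁻¹ᵁ U) :=
    H8PullbackGamma.isAffineOpen_inf hsq hV hU hV₂ hΩ hW₁V hV₂V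
  letI algTU : Algebra Γ(S, ⊤) Γ(T, U) := (q.appLE ⊤ U hW₁V).hom.toAlgebra
  letI algY : Algebra Γ(S, ⊤) Γ(Y, fst ⁻¹ᵁ U) :=
    ((q.appLE ⊤ U hW₁V) ≫ H8PullbackGamma.fstApp hΩ).hom.toAlgebra
  have h₂ : algebraMap Γ(S, ⊤) Γ(Z, ⊤) = (g.appLE ⊤ ⊤ hV₂V).hom := by
    rw [hB, Scheme.Hom.appTop, Scheme.Hom.app_eq_appLE]
    rfl
  let α : Γ(T, U) →ₐ[Γ(S, ⊤)] Γ(Y, fst ⁻¹ᵁ U) :=
    { (H8PullbackGamma.fstApp hΩ).hom with commutes' := fun r => rfl }
  let β : Γ(Z, ⊤) →ₐ[Γ(S, ⊤)] Γ(Y, fst ⁻¹ᵁ U) :=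
    { (H8PullbackGamma.sndApp hΩ).hom with
      commutes' := fun r => by
        have h := H8PullbackGamma.appLE_fstApp_eq hsq hΩ hW₁V hV₂V
        change (H8PullbackGamma.sndApp hΩ).hom (algebraMap _ _ r) =
          ((q.appLE ⊤ U hW₁V) ≫ H8PullbackGamma.fstApp hΩ).hom r
        rw [h₂, h]
        rfl }
  have hbij := H8PullbackGamma.productMap_bijective_of_isPullback hsq hV hU hV₂ hΩ hΩa hW₁V hV₂V
    rfl h₂ α rfl β rfl
  have hF : Function.Bijective (fun v : ι → Γ(T, U) => ∑ k, e k ⊗ₜ[Γ(S, ⊤)] v k) :=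
    bijective_sum_tmul e
  have : PsiU fst snd (fun k => e k) U =
      (Algebra.TensorProduct.productMap β α) ∘ (fun v => ∑ k, e k ⊗ₜ[Γ(S, ⊤)] v k) := by
    funext v
    simp only [Function.comp_apply, map_sum, Algebra.TensorProduct.productMap_apply_tmul]
    rfl
  rw [this]
  exact hbij.comp hF

end Affine

section Rep

theorem nonempty_representableBy_of_rel {C : Type w} [Category.{v} C] (F : Cᵒᵖ ⥤ Type v) (W : C)
    (Rel : ∀ T : C, (T ⟶ W) → F.obj (op T) → Prop)
    (h1 : ∀ T (t : T ⟶ W), ∃! b, Rel T t b)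
    (h2 : ∀ T (b : F.obj (op T)), ∃! t, Rel T t b)
    (h3 : ∀ (T' T : C) (h : T' ⟶ T) (t : T ⟶ W) (b : F.obj (op T)),
      Rel T t b → Rel T' (h ≫ t) (F.map h.op b)) :
    Nonempty (F.RepresentableBy W) := by
  choose f hf using h1
  choose g hg using h2
  refine ⟨{ homEquiv := fun {T} =>
              { toFun := f T, invFun := g T, left_inv := ?_, right_inv := ?_ }
            homEquiv_comp := ?_ }⟩
  · intro t
    exact ((hg T (f T t)).2 t (hf T t).1).symm
  · intro b
    exact ((hf T (g T b)).2 b (hg T b).1).symm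
  · intro T' T h t
    exact ((hf T' (h ≫ t)).2 _ (h3 T' T h t _ (hf T t).1)).symm

end Rep


section Main

section Aff

variable {T X : Scheme.{u}}

/-- morphism to an affine scheme from a ring map on global sections -/
noncomputable def homOfAppTop [IsAffine X] (φ : Γ(X, ⊤) ⟶ Γ(T, ⊤)) : T ⟶ X :=
  T.toSpecΓ ≫ Spec.map φ ≫ X.isoSpec.inv

theorem homOfAppTop_appTop [IsAffine X] (φ : Γ(X, ⊤) ⟶ Γ(T, ⊤)) :
    (homOfAppTop φ).appTop = φ := by
  have h1 : X.isoSpec.hom.appTop ≫ X.isoSpec.inv.appTop = 𝟙 _ := by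
    rw [← Scheme.Hom.comp_appTop, Iso.inv_hom_id]; rfl
  have h2 : X.isoSpec.hom.appTop = (Scheme.ΓSpecIso Γ(X, ⊤)).hom := by
    simp [Scheme.isoSpec]
  have h : X.isoSpec.inv.appTop = (Scheme.ΓSpecIso Γ(X, ⊤)).inv := by
    rw [h2] at h1
    rw [← cancel_epi (Scheme.ΓSpecIso Γ(X, ⊤)).hom, h1, Iso.hom_inv_id]
  simp only [homOfAppTop, Scheme.Hom.comp_appTop, Scheme.toSpecΓ_appTop, Category.assoc,
    Scheme.ΓSpecIso_naturality, h, Iso.inv_hom_id_assoc]

/-- morphism to `Spec R` from a ring map -/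
noncomputable def toSpec {R : CommRingCat.{u}} (ψ : R ⟶ Γ(T, ⊤)) : T ⟶ Spec R :=
  T.toSpecΓ ≫ Spec.map ψ

theorem toSpec_appTop {R : CommRingCat.{u}} (ψ : R ⟶ Γ(T, ⊤)) :
    (toSpec ψ).appTop = (Scheme.ΓSpecIso R).hom ≫ ψ := by
  unfold toSpec
  rw [Scheme.Hom.comp_appTop, Scheme.toSpecΓ_appTop]
  exact Scheme.ΓSpecIso_naturality ψ

end Aff

variable {Z S : Scheme.{u}} (X : Scheme.{u}) [IsAffine Z] [IsAffine X] [IsAffine S]
  (g : Z ⟶ S) (f : X ⟶ S)
  [Algebra Γ(S, ⊤) Γ(Z, ⊤)] [Algebra Γ(S, ⊤) Γ(X, ⊤)]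
  {ι : Type u} [Fintype ι] (e : Module.Basis ι Γ(S, ⊤) Γ(Z, ⊤))

/-- the representing ring -/
noncomputable abbrev WR : CommRingCat.{u} := CommRingCat.of (WeilResAlg37.WA e Γ(X, ⊤))

/-- structure map of the representing ring -/
noncomputable def wHom : Γ(S, ⊤) ⟶ WR X e :=
  CommRingCat.ofHom (algebraMap Γ(S, ⊤) (WeilResAlg37.WA e Γ(X, ⊤)))

/-- structure morphism of the representing scheme -/
noncomputable def toS : Spec (WR X e) ⟶ S :=
  homOfAppTop (wHom X e ≫ (Scheme.ΓSpecIso (WR X e)).inv)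

lemma toS_appTop : (toS X e).appTop = wHom X e ≫ (Scheme.ΓSpecIso (WR X e)).inv :=
  homOfAppTop_appTop _

/-- the representing object -/
noncomputable abbrev W : Over S := Over.mk (toS X e)

/-- ring map attached to a point -/
noncomputable def chiOf (T : Over S) (t : T ⟶ W X e) :
    WeilResAlg37.WA e Γ(X, ⊤) →+* Γ(T.left, ⊤) :=
  ((Scheme.ΓSpecIso (WR X e)).inv ≫ t.left.appTop).hom

lemma chiOf_comp (T : Over S) (t : T ⟶ W X e) :
    (chiOf X e T t).comp (algebraMap Γ(S, ⊤) (WeilResAlg37.WA e Γ(X, ⊤))) = T.hom.appTop.hom := by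
  have h := Over.w t
  have h2 : T.hom.appTop = (toS X e).appTop ≫ t.left.appTop := by
    rw [← Scheme.Hom.comp_appTop]
    exact congrArg Scheme.Hom.appTop h.symm
  rw [h2, toS_appTop]
  rfl

variable {X}

/-- the underlying morphism of a section of `morS` -/
noncomputable def secHom (T : Over S) (b : (Flatn.morS g f).obj (op T)) :
    pullback T.hom g ⟶ X := b.left

lemma secHom_w (T : Over S) (b : (Flatn.morS g f).obj (op T)) :
    secHom g f T b ≫ f = pullback.snd T.hom g ≫ g := Over.w b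

/-- the relation between points of `W` and sections of `morS` -/
def Rel (T : Over S) (t : T ⟶ W X e) (b : (Flatn.morS g f).obj (op T)) : Prop :=
  ∀ c : Γ(X, ⊤), (secHom g f T b).appTop.hom c =
    WeilResAlg37.Psi e (pullback.fst T.hom g).appTop.hom (pullback.snd T.hom g).appTop.hom
      (fun k => chiOf X e T t (WeilResAlg37.x e Γ(X, ⊤) (c, k)))

variable (hB : algebraMap Γ(S, ⊤) Γ(Z, ⊤) = g.appTop.hom)
  (hE : algebraMap Γ(S, ⊤) Γ(X, ⊤) = f.appTop.hom)

include hB in
lemma hc (T : Over S) :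
    ((pullback.snd T.hom g).appTop.hom).comp (algebraMap Γ(S, ⊤) Γ(Z, ⊤)) =
      ((pullback.fst T.hom g).appTop.hom).comp T.hom.appTop.hom := by
  rw [hB, ← CommRingCat.hom_comp, ← CommRingCat.hom_comp, ← Scheme.Hom.comp_appTop,
    ← Scheme.Hom.comp_appTop, pullback.condition]

include hB in
lemma hbij (T : Over S) :
    Function.Bijective (WeilResAlg37.Psi e (pullback.fst T.hom g).appTop.hom
      (pullback.snd T.hom g).appTop.hom) := by
  have h0 : WeilResAlg37.Psi e (pullback.fst T.hom g).appTop.hom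
      (pullback.snd T.hom g).appTop.hom =
      PsiU (pullback.fst T.hom g) (pullback.snd T.hom g) (fun k => e k) ⊤ := by
    funext v
    rw [PsiU_top]
    rfl
  rw [h0]
  exact bijective_PsiU_top _ _ _ (fun U hU =>
    bijective_PsiU_of_isAffineOpen (IsPullback.of_hasPullback T.hom g) hB e U hU)

include hB hE in
lemma rel_existsUnique_sec (T : Over S) (t : T ⟶ W X e) : ∃! b, Rel g f e T t b := by
  obtain ⟨ρ, hρ, hρf⟩ := WeilResAlg37.exists_rho (hc g hB T) (chiOf X e T t)
    (chiOf_comp X e T t)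
  have hw : homOfAppTop (CommRingCat.ofHom ρ) ≫ f = pullback.snd T.hom g ≫ g := by
    apply ext_of_isAffine
    rw [Scheme.Hom.comp_appTop, Scheme.Hom.comp_appTop, homOfAppTop_appTop]
    ext r
    have h1 := RingHom.congr_fun hρ r
    rw [hE] at h1
    refine h1.trans ?_
    have h2 := RingHom.congr_fun (hc g hB T) r
    rw [hB] at h2
    exact h2.symm
  haveI : IsAffine (Over.mk f).left := ‹IsAffine X›
  refine ⟨(Over.homMk (homOfAppTop (X := X) (CommRingCat.ofHom ρ)) hw :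
    (Over.map g).obj ((Over.pullback g).obj T) ⟶ Over.mk f), ?_, ?_⟩
  · intro c
    change (homOfAppTop (CommRingCat.ofHom ρ)).appTop.hom c = _
    rw [homOfAppTop_appTop]
    exact hρf c
  · intro b' hb'
    apply Over.OverMorphism.ext
    apply ext_of_isAffine
    change (secHom g f T b').appTop = (homOfAppTop (CommRingCat.ofHom ρ)).appTop
    rw [homOfAppTop_appTop]
    ext c
    exact (hb' c).trans (hρf c).symm

include hB hE in
lemma rel_existsUnique_pt (T : Over S) (b : (Flatn.morS g f).obj (op T)) :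
    ∃! t, Rel g f e T t b := by
  have hρ : ((secHom g f T b).appTop.hom).comp (algebraMap Γ(S, ⊤) Γ(X, ⊤)) =
      ((pullback.fst T.hom g).appTop.hom).comp T.hom.appTop.hom := by
    rw [hE, ← CommRingCat.hom_comp, ← CommRingCat.hom_comp, ← Scheme.Hom.comp_appTop,
      ← Scheme.Hom.comp_appTop, secHom_w, pullback.condition]
  obtain ⟨χ, ⟨hχ1, hχ2⟩, hχu⟩ :=
    WeilResAlg37.existsUnique_chi (hc g hB T) (hbij g e hB T) _ hρ
  have hw : toSpec (CommRingCat.ofHom χ) ≫ toS X e = T.hom := by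
    apply ext_of_isAffine
    rw [Scheme.Hom.comp_appTop, toS_appTop, toSpec_appTop, Category.assoc,
      Iso.inv_hom_id_assoc]
    ext r
    exact RingHom.congr_fun hχ1 r
  have hchi : ∀ t : T ⟶ W X e, t.left.appTop =
      (Scheme.ΓSpecIso (WR X e)).hom ≫ CommRingCat.ofHom (chiOf X e T t) := by
    intro t
    unfold chiOf
    rw [CommRingCat.ofHom_hom, Iso.hom_inv_id_assoc]
  refine ⟨(Over.homMk (toSpec (CommRingCat.ofHom χ)) hw : T ⟶ W X e), ?_, ?_⟩
  · have h3 : chiOf X e T (Over.homMk (toSpec (CommRingCat.ofHom χ)) hw : T ⟶ W X e) = χ := by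
      unfold chiOf
      change ((Scheme.ΓSpecIso (WR X e)).inv ≫ (toSpec (CommRingCat.ofHom χ)).appTop).hom = χ
      rw [toSpec_appTop, Iso.inv_hom_id_assoc]
      rfl
    intro c
    rw [h3]
    exact hχ2 c
  · intro t' ht'
    have h1 := hχu (chiOf X e T t') ⟨chiOf_comp X e T t', ht'⟩
    apply Over.OverMorphism.ext
    haveI : IsAffine (W X e).left := inferInstanceAs (IsAffine (Spec (WR X e)))
    apply ext_of_isAffine
    rw [hchi t', h1]
    change _ = (toSpec (CommRingCat.ofHom χ)).appTop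
    rw [toSpec_appTop]

lemma rel_natural (T' T : Over S) (h : T' ⟶ T) (t : T ⟶ W X e)
    (b : (Flatn.morS g f).obj (op T)) (hb : Rel g f e T t b) :
    Rel g f e T' (h ≫ t) ((Flatn.morS g f).map h.op b) := by
  intro c
  let hh : pullback T'.hom g ⟶ pullback T.hom g := ((Over.pullback g).map h).left
  have hfst : hh ≫ pullback.fst T.hom g = pullback.fst T'.hom g ≫ h.left :=
    pullback.lift_fst _ _ _
  have hsnd : hh ≫ pullback.snd T.hom g = pullback.snd T'.hom g := pullback.lift_snd _ _ _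
  have hsec : secHom g f T' ((Flatn.morS g f).map h.op b) = hh ≫ secHom g f T b := rfl
  have hchi : chiOf X e T' (h ≫ t) = (h.left.appTop.hom).comp (chiOf X e T t) := by
    unfold chiOf
    change ((Scheme.ΓSpecIso (WR X e)).inv ≫ (h.left ≫ t.left).appTop).hom = _
    rw [Scheme.Hom.comp_appTop, ← Category.assoc]
    rfl
  rw [hsec, Scheme.Hom.comp_appTop, CommRingCat.hom_comp, RingHom.comp_apply, hb c]
  unfold WeilResAlg37.Psi
  rw [map_sum]
  refine Finset.sum_congr rfl fun k _ => ?_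
  rw [map_mul]
  congr 1
  · rw [← RingHom.comp_apply, ← CommRingCat.hom_comp, ← Scheme.Hom.comp_appTop, hsnd]
  · rw [← RingHom.comp_apply, ← CommRingCat.hom_comp, ← Scheme.Hom.comp_appTop, hfst,
      Scheme.Hom.comp_appTop, hchi]
    rfl

include e hB hE in
/-- **Weil restriction**: `Mor_S(Z, X)` is representable by an affine scheme when `S`, `Z`, `X` are
affine and `Γ(Z)` is finite free over `Γ(S)`. -/
theorem main : ∃ W : Over S, IsAffine W.left ∧
    Nonempty ((Flatn.morS g f).RepresentableBy W) :=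
  ⟨W X e, inferInstanceAs (IsAffine (Spec (WR X e))),
    nonempty_representableBy_of_rel _ _ (Rel g f e) (rel_existsUnique_sec g f e hB hE)
      (rel_existsUnique_pt g f e hB hE) (rel_natural g f e)⟩

end Main

end Groth.Agent.Lib.WeilResGeom37
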