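import Mathlib
import Groth.Prelude.Def_Flatn
import Groth.Agent.Lib.WeilResGeom37

/-!
# Gluing representing objects of `Mor_S(Z, X)` over the base (helper37)

* `tot G : Schemeᵒᵖ ⥤ Type u`, the "total functor" `T ↦ Σ q : T ⟶ S, G (T, q)` of a presheaf `G` on
  `Over S`; `representableBy_of_universal`: a universal element of `tot G` represents `G`.
* `isSheaf_tot_morS`: the total functor of `Flatn.morS g f` is a Zariski sheaf.
-/

set_option autoImplicit false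
universe u
open CategoryTheory CategoryTheory.Limits AlgebraicGeometry Opposite

namespace Groth.Agent.Lib.WeilGlue37

open Groth.Agent.Lib.WeilResGeom37 (nonempty_representableBy_of_rel)

section Tot

variable {S : Scheme.{u}} (G : (Over S)ᵒᵖ ⥤ Type u)

/-- `Over.mk q' ⟶ Over.mk q` induced by `r : T' ⟶ T` with `r ≫ q = q'` -/
def ovHom {T T' : Scheme.{u}} (r : T' ⟶ T) (q : T ⟶ S) (q' : T' ⟶ S) (h : r ≫ q = q') :
    Over.mk q' ⟶ Over.mk q := Over.homMk r h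

lemma map_ovHom_id {T : Scheme.{u}} (q : T ⟶ S) (h : 𝟙 T ≫ q = q) (b : G.obj (op (Over.mk q))) :
    G.map (ovHom (𝟙 T) q q h).op b = b := by
  have : ovHom (𝟙 T) q q h = 𝟙 (Over.mk q) := rfl
  rw [this, op_id, FunctorToTypes.map_id_apply]

lemma map_ovHom_comp {T T' T'' : Scheme.{u}} (r : T' ⟶ T) (r' : T'' ⟶ T') (q : T ⟶ S)
    (q' : T' ⟶ S) (q'' : T'' ⟶ S) (h : r ≫ q = q') (h' : r' ≫ q' = q'')
    (b : G.obj (op (Over.mk q))) :
    G.map (ovHom r' q' q'' h').op (G.map (ovHom r q q' h).op b) =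
      G.map (ovHom (r' ≫ r) q q'' (by rw [Category.assoc, h, h'])).op b := by
  rw [← FunctorToTypes.map_comp_apply, ← op_comp]
  rfl

lemma map_ovHom_congr {T T' : Scheme.{u}} {r r' : T' ⟶ T} (hr : r = r') (q : T ⟶ S)
    (q' : T' ⟶ S) (h : r ≫ q = q') (b : G.obj (op (Over.mk q))) :
    G.map (ovHom r q q' h).op b = G.map (ovHom r' q q' (hr ▸ h)).op b := by
  subst hr
  rfl

/-- the total functor on schemes of a presheaf on `Over S` -/
noncomputable def tot : Scheme.{u}ᵒᵖ ⥤ Type u where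
  obj T := Σ q : T.unop ⟶ S, G.obj (op (Over.mk q))
  map {T T'} r := ↾(fun ξ => ⟨r.unop ≫ ξ.1, G.map (ovHom r.unop ξ.1 (r.unop ≫ ξ.1) rfl).op ξ.2⟩)
  map_id T := by
    refine ConcreteCategory.hom_ext _ _ fun ξ => ?_
    obtain ⟨q, b⟩ := ξ
    change (⟨𝟙 _ ≫ q, G.map (ovHom (𝟙 _) q (𝟙 _ ≫ q) rfl).op b⟩ :
      Σ q : T.unop ⟶ S, G.obj (op (Over.mk q))) = ⟨q, b⟩
    have h1 : 𝟙 _ ≫ q = q := Category.id_comp q
    have h2 : ∀ (q' : T.unop ⟶ S) (h : 𝟙 _ ≫ q = q'),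
        (⟨q', G.map (ovHom (𝟙 _) q q' h).op b⟩ :
          Σ q : T.unop ⟶ S, G.obj (op (Over.mk q))) = ⟨q, b⟩ := by
      intro q' h
      have : q' = q := h.symm.trans h1
      subst this
      rw [map_ovHom_id]
    exact h2 _ rfl
  map_comp {T T' T''} r r' := by
    refine ConcreteCategory.hom_ext _ _ fun ξ => ?_
    obtain ⟨q, b⟩ := ξ
    change (⟨(r'.unop ≫ r.unop) ≫ q, G.map (ovHom (r'.unop ≫ r.unop) q _ rfl).op b⟩ :
      Σ q : T''.unop ⟶ S, G.obj (op (Over.mk q))) =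
      ⟨r'.unop ≫ r.unop ≫ q, G.map (ovHom r'.unop (r.unop ≫ q) _ rfl).op
        (G.map (ovHom r.unop q _ rfl).op b)⟩
    rw [map_ovHom_comp]
    have h2 : ∀ (q' : T''.unop ⟶ S) (h : (r'.unop ≫ r.unop) ≫ q = q'),
        (⟨(r'.unop ≫ r.unop) ≫ q, G.map (ovHom (r'.unop ≫ r.unop) q _ rfl).op b⟩ :
          Σ q : T''.unop ⟶ S, G.obj (op (Over.mk q))) =
        ⟨q', G.map (ovHom (r'.unop ≫ r.unop) q q' h).op b⟩ := by
      intro q' h
      subst h
      rfl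
    exact h2 _ (Category.assoc _ _ _)

lemma tot_map_fst {T T' : Scheme.{u}} (r : T' ⟶ T) (ξ : (tot G).obj (op T)) :
    ((tot G).map r.op ξ).1 = r ≫ ξ.1 := rfl

lemma tot_map_eq_iff {T T' : Scheme.{u}} (r : T' ⟶ T) (ξ : (tot G).obj (op T)) (q' : T' ⟶ S)
    (b' : G.obj (op (Over.mk q'))) :
    (tot G).map r.op ξ = (⟨q', b'⟩ : Σ q : T' ⟶ S, G.obj (op (Over.mk q))) ↔
      ∃ h : r ≫ ξ.1 = q', G.map (ovHom r ξ.1 q' h).op ξ.2 = b' := by
  constructor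
  · intro e
    have h1 : r ≫ ξ.1 = q' := congrArg Sigma.fst e
    subst h1
    refine ⟨rfl, ?_⟩
    exact eq_of_heq (Sigma.mk.inj_iff.mp e).2
  · rintro ⟨rfl, rfl⟩
    rfl

/-- A universal element of the total functor gives a representing object. -/
theorem representableBy_of_universal {V : Scheme.{u}} (ε : (tot G).obj (op V))
    (hε : ∀ ⦃T : Scheme.{u}⦄ (ξ : (tot G).obj (op T)), ∃! g : T ⟶ V, (tot G).map g.op ε = ξ) :
    Nonempty (G.RepresentableBy (Over.mk ε.1)) := by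
  refine nonempty_representableBy_of_rel G (Over.mk ε.1) (fun T t b => G.map t.op ε.2 = b)
    ?_ ?_ ?_
  · intro T t
    exact ⟨_, rfl, fun _ h => h.symm⟩
  · intro T b
    obtain ⟨gT, hg, hguniq⟩ := hε (⟨T.hom, b⟩ : Σ q : T.left ⟶ S, G.obj (op (Over.mk q)))
    obtain ⟨h1, h2⟩ := (tot_map_eq_iff G gT ε T.hom b).mp hg
    refine ⟨(Over.homMk gT h1 : T ⟶ Over.mk ε.1), h2, ?_⟩
    intro t' ht'
    apply Over.OverMorphism.ext
    exact hguniq t'.left ((tot_map_eq_iff G t'.left ε T.hom b).mpr ⟨Over.w t', ht'⟩)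
  · intro T' T h t b hb
    change G.map (h ≫ t).op ε.2 = G.map h.op b
    rw [← hb, op_comp, FunctorToTypes.map_comp_apply]

end Tot

section MorS

variable {S Z X : Scheme.{u}} (g : Z ⟶ S) (f : X ⟶ S)

/-- base change map between fibre products -/
noncomputable def pbMap {T T' : Scheme.{u}} (r : T' ⟶ T) (q : T ⟶ S) (q' : T' ⟶ S)
    (h : r ≫ q = q') : pullback q' g ⟶ pullback q g :=
  ((Over.pullback g).map (ovHom r q q' h)).left

@[reassoc (attr := simp)]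
lemma pbMap_fst {T T' : Scheme.{u}} (r : T' ⟶ T) (q : T ⟶ S) (q' : T' ⟶ S) (h : r ≫ q = q') :
    pbMap g r q q' h ≫ pullback.fst q g = pullback.fst q' g ≫ r := pullback.lift_fst _ _ _

@[reassoc (attr := simp)]
lemma pbMap_snd {T T' : Scheme.{u}} (r : T' ⟶ T) (q : T ⟶ S) (q' : T' ⟶ S) (h : r ≫ q = q') :
    pbMap g r q q' h ≫ pullback.snd q g = pullback.snd q' g := pullback.lift_snd _ _ _

/-- the underlying morphism of a section -/
noncomputable def secL {T : Scheme.{u}} (q : T ⟶ S) (b : (Flatn.morS g f).obj (op (Over.mk q))) :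
    pullback q g ⟶ X := b.left

lemma secL_w {T : Scheme.{u}} (q : T ⟶ S) (b : (Flatn.morS g f).obj (op (Over.mk q))) :
    secL g f q b ≫ f = pullback.snd q g ≫ g := Over.w b

lemma secL_map {T T' : Scheme.{u}} (r : T' ⟶ T) (q : T ⟶ S) (q' : T' ⟶ S) (h : r ≫ q = q')
    (b : (Flatn.morS g f).obj (op (Over.mk q))) :
    secL g f q' ((Flatn.morS g f).map (ovHom r q q' h).op b) =
      pbMap g r q q' h ≫ secL g f q b := rfl

lemma secL_ext {T : Scheme.{u}} (q : T ⟶ S) (b b' : (Flatn.morS g f).obj (op (Over.mk q)))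
    (h : secL g f q b = secL g f q b') : b = b' := Over.OverMorphism.ext h

/-- constructor for sections -/
noncomputable def mkSec {T : Scheme.{u}} (q : T ⟶ S) (c : pullback q g ⟶ X)
    (hc : c ≫ f = pullback.snd q g ≫ g) : (Flatn.morS g f).obj (op (Over.mk q)) :=
  (Over.homMk c hc : (Over.map g).obj ((Over.pullback g).obj (Over.mk q)) ⟶ Over.mk f)

lemma secL_mkSec {T : Scheme.{u}} (q : T ⟶ S) (c : pullback q g ⟶ X)
    (hc : c ≫ f = pullback.snd q g ≫ g) : secL g f q (mkSec g f q c hc) = c := rfl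

/-- evaluation of an element of the total functor on a `K`-point of the fibre product -/
noncomputable def ev {T K : Scheme.{u}} (ξ : (tot (Flatn.morS g f)).obj (op T)) (t : K ⟶ T)
    (z : K ⟶ Z) (h : t ≫ ξ.1 = z ≫ g) : K ⟶ X :=
  pullback.lift t z h ≫ secL g f ξ.1 ξ.2

lemma ev_congr {T K : Scheme.{u}} {ξ ξ' : (tot (Flatn.morS g f)).obj (op T)} (hξ : ξ = ξ')
    {t t' : K ⟶ T} (ht : t = t') {z z' : K ⟶ Z} (hz : z = z') (h : t ≫ ξ.1 = z ≫ g)
    (h' : t' ≫ ξ'.1 = z' ≫ g) : ev g f ξ t z h = ev g f ξ' t' z' h' := by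
  subst hξ ht hz
  rfl

lemma ev_map {T T' K : Scheme.{u}} (r : T' ⟶ T) (ξ : (tot (Flatn.morS g f)).obj (op T))
    (t : K ⟶ T') (z : K ⟶ Z) (h : t ≫ r ≫ ξ.1 = z ≫ g) :
    ev g f ((tot (Flatn.morS g f)).map r.op ξ) t z h =
      ev g f ξ (t ≫ r) z (by rw [Category.assoc]; exact h) := by
  change pullback.lift t z h ≫ pbMap g r ξ.1 (r ≫ ξ.1) rfl ≫ secL g f ξ.1 ξ.2 =
    pullback.lift (t ≫ r) z _ ≫ secL g f ξ.1 ξ.2
  rw [← Category.assoc]
  congr 1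
  apply pullback.hom_ext
  · rw [Category.assoc, pbMap_fst, pullback.lift_fst_assoc, pullback.lift_fst]
  · rw [Category.assoc, pbMap_snd, pullback.lift_snd, pullback.lift_snd]

lemma comp_ev {T K K' : Scheme.{u}} (u : K' ⟶ K) (ξ : (tot (Flatn.morS g f)).obj (op T))
    (t : K ⟶ T) (z : K ⟶ Z) (h : t ≫ ξ.1 = z ≫ g) :
    u ≫ ev g f ξ t z h =
      ev g f ξ (u ≫ t) (u ≫ z) (by rw [Category.assoc, h, Category.assoc]) := by
  unfold ev
  rw [← Category.assoc]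
  congr 1
  apply pullback.hom_ext
  · rw [Category.assoc, pullback.lift_fst, pullback.lift_fst]
  · rw [Category.assoc, pullback.lift_snd, pullback.lift_snd]

lemma ev_w {T K : Scheme.{u}} (ξ : (tot (Flatn.morS g f)).obj (op T)) (t : K ⟶ T)
    (z : K ⟶ Z) (h : t ≫ ξ.1 = z ≫ g) : ev g f ξ t z h ≫ f = z ≫ g := by
  unfold ev
  rw [Category.assoc, secL_w, pullback.lift_snd_assoc]

lemma ev_eq_of_map_eq {Ta Tb K : Scheme.{u}} (ξa : (tot (Flatn.morS g f)).obj (op Ta))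
    (ξb : (tot (Flatn.morS g f)).obj (op Tb)) (ga : K ⟶ Ta) (gb : K ⟶ Tb)
    (E : (tot (Flatn.morS g f)).map ga.op ξa = (tot (Flatn.morS g f)).map gb.op ξb)
    (za zb : K ⟶ Z) (hz : za = zb) (ha : ga ≫ ξa.1 = za ≫ g) (hb : gb ≫ ξb.1 = zb ≫ g) :
    ev g f ξa ga za ha = ev g f ξb gb zb hb := by
  subst hz
  have ha' : 𝟙 K ≫ ga ≫ ξa.1 = za ≫ g := by
    rw [Category.id_comp]; exact ha
  have hb' : 𝟙 K ≫ gb ≫ ξb.1 = za ≫ g := by
    rw [Category.id_comp]; exact hb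
  have ha'' : (𝟙 K ≫ ga) ≫ ξa.1 = za ≫ g := by rw [Category.id_comp]; exact ha
  have hb'' : (𝟙 K ≫ gb) ≫ ξb.1 = za ≫ g := by rw [Category.id_comp]; exact hb
  calc ev g f ξa ga za ha = ev g f ξa (𝟙 K ≫ ga) za ha'' :=
        ev_congr g f rfl (Category.id_comp _).symm rfl _ _
    _ = ev g f ((tot (Flatn.morS g f)).map ga.op ξa) (𝟙 K) za ha' :=
        (ev_map g f ga ξa (𝟙 K) za ha').symm
    _ = ev g f ((tot (Flatn.morS g f)).map gb.op ξb) (𝟙 K) za hb' :=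
        ev_congr g f E rfl rfl _ _
    _ = ev g f ξb (𝟙 K ≫ gb) za hb'' := ev_map g f gb ξb (𝟙 K) za hb'
    _ = ev g f ξb gb za hb := ev_congr g f rfl (Category.id_comp _) rfl _ _

/-- the open immersion `U_a ×_S Z ⟶ T ×_S Z` -/
noncomputable def mC {T : Scheme.{u}} (𝒰 : T.OpenCover) (q : T ⟶ S) (a : 𝒰.I₀) :
    pullback (𝒰.f a ≫ q) g ⟶ pullback q g :=
  pullback.map (𝒰.f a ≫ q) g q g (𝒰.f a) (𝟙 Z) (𝟙 S) (by simp) (by simp)

lemma mC_fst {T : Scheme.{u}} (𝒰 : T.OpenCover) (q : T ⟶ S) (a : 𝒰.I₀) :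
    mC g 𝒰 q a ≫ pullback.fst q g = pullback.fst (𝒰.f a ≫ q) g ≫ 𝒰.f a :=
  pullback.lift_fst _ _ _

lemma mC_snd {T : Scheme.{u}} (𝒰 : T.OpenCover) (q : T ⟶ S) (a : 𝒰.I₀) :
    mC g 𝒰 q a ≫ pullback.snd q g = pullback.snd (𝒰.f a ≫ q) g :=
  (pullback.lift_snd _ _ _).trans (Category.comp_id _)

lemma exists_glue {T : Scheme.{u}} (𝒰 : T.OpenCover) (q : T ⟶ S)
    (c : ∀ a, pullback (𝒰.f a ≫ q) g ⟶ X)
    (hc : ∀ a b, pullback.fst (mC g 𝒰 q a) (mC g 𝒰 q b) ≫ c a =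
      pullback.snd (mC g 𝒰 q a) (mC g 𝒰 q b) ≫ c b) :
    ∃ cgl : pullback q g ⟶ X, ∀ a, mC g 𝒰 q a ≫ cgl = c a :=
  ⟨(Scheme.Pullback.openCoverOfLeft 𝒰 q g).glueMorphisms c hc,
    fun a => (Scheme.Pullback.openCoverOfLeft 𝒰 q g).ι_glueMorphisms c hc a⟩

lemma hom_ext_mC {T Y : Scheme.{u}} (𝒰 : T.OpenCover) (q : T ⟶ S) (c1 c2 : pullback q g ⟶ Y)
    (h : ∀ a, mC g 𝒰 q a ≫ c1 = mC g 𝒰 q a ≫ c2) : c1 = c2 :=
  Scheme.Cover.hom_ext (Scheme.Pullback.openCoverOfLeft 𝒰 q g) c1 c2 h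

lemma lift_eq_mC {T : Scheme.{u}} (𝒰 : T.OpenCover) (q : T ⟶ S) (a : 𝒰.I₀) :
    pullback.lift (pullback.fst (𝒰.f a ≫ q) g ≫ 𝒰.f a) (pullback.snd (𝒰.f a ≫ q) g)
      (by rw [Category.assoc]; exact pullback.condition) = mC g 𝒰 q a := by
  apply pullback.hom_ext
  · exact (pullback.lift_fst _ _ _).trans (mC_fst g 𝒰 q a).symm
  · exact (pullback.lift_snd _ _ _).trans (mC_snd g 𝒰 q a).symm

/-- The total functor of `Mor_S(Z, X)` is a Zariski sheaf. -/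
theorem isSheaf_tot_morS :
    Presieve.IsSheaf Scheme.zariskiTopology (tot (Flatn.morS g f)) := by
  rw [Scheme.zariskiTopology, Scheme.grothendieckTopology,
    Precoverage.isSheaf_toGrothendieck_iff_of_isStableUnderBaseChange]
  intro T R hR
  obtain ⟨(𝒰 : T.OpenCover), rfl⟩ := Scheme.exists_cover_of_mem_pretopology hR
  rw [Presieve.isSheafFor_arrows_iff]
  intro γ hγ
  have hγ' : ∀ (a b : 𝒰.I₀) (Z' : Scheme.{u}) (ga : Z' ⟶ 𝒰.X a) (gb : Z' ⟶ 𝒰.X b),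
      ga ≫ 𝒰.f a = gb ≫ 𝒰.f b →
        (tot (Flatn.morS g f)).map ga.op (γ a) = (tot (Flatn.morS g f)).map gb.op (γ b) :=
    fun a b Z' ga gb h => hγ a b Z' ga gb h
  obtain ⟨q, hq⟩ : ∃ q : T ⟶ S, ∀ a, 𝒰.f a ≫ q = (γ a).1 :=
    ⟨𝒰.glueMorphisms (fun a => (γ a).1) (fun a b =>
      congrArg Sigma.fst (hγ' a b _ _ _ pullback.condition)), fun a => 𝒰.ι_glueMorphisms _ _ a⟩
  have hcnd : ∀ a, pullback.fst (𝒰.f a ≫ q) g ≫ (γ a).1 = pullback.snd (𝒰.f a ≫ q) g ≫ g := by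
    intro a
    rw [← hq a]
    exact pullback.condition
  have hcompat : ∀ a b, pullback.fst (mC g 𝒰 q a) (mC g 𝒰 q b) ≫
      ev g f (γ a) (pullback.fst (𝒰.f a ≫ q) g) (pullback.snd (𝒰.f a ≫ q) g) (hcnd a) =
      pullback.snd (mC g 𝒰 q a) (mC g 𝒰 q b) ≫
      ev g f (γ b) (pullback.fst (𝒰.f b ≫ q) g) (pullback.snd (𝒰.f b ≫ q) g) (hcnd b) := by
    intro a b
    have hcond : pullback.fst (mC g 𝒰 q a) (mC g 𝒰 q b) ≫ mC g 𝒰 q a =
        pullback.snd (mC g 𝒰 q a) (mC g 𝒰 q b) ≫ mC g 𝒰 q b := pullback.condition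
    have hgab : (pullback.fst (mC g 𝒰 q a) (mC g 𝒰 q b) ≫ pullback.fst (𝒰.f a ≫ q) g) ≫ 𝒰.f a =
        (pullback.snd (mC g 𝒰 q a) (mC g 𝒰 q b) ≫ pullback.fst (𝒰.f b ≫ q) g) ≫ 𝒰.f b := by
      rw [Category.assoc, Category.assoc, ← mC_fst, ← mC_fst, ← Category.assoc, ← Category.assoc,
        hcond]
    have hsnd : pullback.fst (mC g 𝒰 q a) (mC g 𝒰 q b) ≫ pullback.snd (𝒰.f a ≫ q) g =
        pullback.snd (mC g 𝒰 q a) (mC g 𝒰 q b) ≫ pullback.snd (𝒰.f b ≫ q) g := by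
      rw [← mC_snd, ← mC_snd, ← Category.assoc, ← Category.assoc, hcond]
    have E := hγ' a b _ _ _ hgab
    refine (comp_ev g f _ (γ a) _ _ _).trans ?_
    refine Eq.trans ?_ (comp_ev g f _ (γ b) _ _ _).symm
    exact ev_eq_of_map_eq g f (γ a) (γ b) _ _ E _ _ hsnd _ _
  obtain ⟨cgl, hc⟩ := exists_glue g 𝒰 q _ hcompat
  have hsec : cgl ≫ f = pullback.snd q g ≫ g := by
    apply hom_ext_mC g 𝒰 q
    intro a
    rw [← Category.assoc, hc, ← Category.assoc, mC_snd]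
    exact ev_w g f (γ a) _ _ _
  refine ⟨⟨q, mkSec g f q cgl hsec⟩, fun a => ?_, fun δ hδ => ?_⟩
  · have key : ∀ (ξ : (tot (Flatn.morS g f)).obj (op (𝒰.X a))) (h1 : 𝒰.f a ≫ q = ξ.1)
        (_ : mC g 𝒰 q a ≫ cgl = ev g f ξ (pullback.fst (𝒰.f a ≫ q) g)
          (pullback.snd (𝒰.f a ≫ q) g) (by rw [← h1]; exact pullback.condition)),
        (tot (Flatn.morS g f)).map (𝒰.f a).op
          (⟨q, mkSec g f q cgl hsec⟩ : Σ q : T ⟶ S, (Flatn.morS g f).obj (op (Over.mk q))) =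
          ξ := by
      rintro ⟨q', b'⟩ h1 h2
      dsimp only at h1
      subst h1
      refine congrArg (Sigma.mk (𝒰.f a ≫ q)) ?_
      apply secL_ext
      have h3 : pullback.lift (pullback.fst (𝒰.f a ≫ q) g) (pullback.snd (𝒰.f a ≫ q) g)
          pullback.condition = 𝟙 _ := by
        apply pullback.hom_ext
        · rw [pullback.lift_fst, Category.id_comp]
        · rw [pullback.lift_snd, Category.id_comp]
      have h4 : ev g f (⟨𝒰.f a ≫ q, b'⟩ : Σ q : 𝒰.X a ⟶ S, (Flatn.morS g f).obj (op (Over.mk q)))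
          (pullback.fst (𝒰.f a ≫ q) g) (pullback.snd (𝒰.f a ≫ q) g) pullback.condition =
          secL g f (𝒰.f a ≫ q) b' := by
        change pullback.lift _ _ _ ≫ secL g f (𝒰.f a ≫ q) b' = _
        rw [h3, Category.id_comp]
      rw [h4] at h2
      refine Eq.trans ?_ h2
      refine (secL_map g f (𝒰.f a) q (𝒰.f a ≫ q) rfl (mkSec g f q cgl hsec)).trans ?_
      rw [secL_mkSec]
      have h5 : pbMap g (𝒰.f a) q (𝒰.f a ≫ q) rfl = mC g 𝒰 q a := by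
        apply pullback.hom_ext
        · exact (pbMap_fst g _ _ _ _).trans (mC_fst g 𝒰 q a).symm
        · exact (pbMap_snd g _ _ _ _).trans (mC_snd g 𝒰 q a).symm
      rw [h5]
    exact key (γ a) (hq a) (hc a)
  · obtain ⟨q', b'⟩ := δ
    have hq' : q' = q := by
      apply Scheme.Cover.hom_ext 𝒰
      intro a
      exact (congrArg Sigma.fst (hδ a)).trans (hq a).symm
    subst hq'
    refine congrArg (Sigma.mk q') ?_
    apply secL_ext
    rw [secL_mkSec]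
    apply hom_ext_mC g 𝒰 q'
    intro a
    rw [hc]
    have e1 := ev_map g f (𝒰.f a)
      (⟨q', b'⟩ : Σ q : T ⟶ S, (Flatn.morS g f).obj (op (Over.mk q)))
      (pullback.fst (𝒰.f a ≫ q') g) (pullback.snd (𝒰.f a ≫ q') g) pullback.condition
    have e2 : ev g f (γ a) (pullback.fst (𝒰.f a ≫ q') g) (pullback.snd (𝒰.f a ≫ q') g) (hcnd a) =
        ev g f ((tot (Flatn.morS g f)).map (𝒰.f a).op
        (⟨q', b'⟩ : Σ q : T ⟶ S, (Flatn.morS g f).obj (op (Over.mk q))))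
        (pullback.fst (𝒰.f a ≫ q') g) (pullback.snd (𝒰.f a ≫ q') g) pullback.condition :=
      ev_congr g f (hδ a).symm rfl rfl _ _
    rw [e2, e1]
    change _ = pullback.lift _ _ _ ≫ secL g f q' b'
    rw [lift_eq_mC]

end MorS

end Groth.Agent.Lib.WeilGlue37
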