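import Mathlib

/-!
# Weil restriction, ring level, finite projective case (helper37)

`R` a commutative ring, `B` an `R`-algebra with a finite "dual basis" `b : Fin n → B`,
`lam : Fin n → (B →ₗ[R] R)`, `∑ k, lam k x • b k = x` (i.e. `B` finite projective), `E` an
`R`-algebra.  `WA b lam E = R[y_{c,k}] / J` represents `A ↦ Hom_{R-alg}(E, B ⊗_R A)`.  The tensor
product is replaced by ANY ring `D` with maps `α : A → D`, `β : B → D` such that
`Psi : (Fin n → A) → D, v ↦ ∑ k, β (b k) * α (v k)` restricted to the vectors fixed by the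
idempotent matrix `mat k j = lam k (b j)` is bijective.

* `exists_dualBasis`: finite projective modules have dual bases.
* `exists_rho`, `existsUnique_chi`: the universal property.
Generalises `Lib/WeilResAlg37` (free case).
-/

set_option autoImplicit false
universe u v w

namespace Groth.Agent.Lib.WeilProjAlg37

theorem exists_dualBasis (R : Type u) (B : Type v) [CommRing R] [AddCommGroup B] [Module R B]
    [Module.Finite R B] [Module.Projective R B] :
    ∃ (n : ℕ) (b : Fin n → B) (lam : Fin n → (B →ₗ[R] R)), ∀ x, ∑ k, lam k x • b k = x := by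
  obtain ⟨n, f, g, -, -, hfg⟩ := Module.Finite.exists_comp_eq_id_of_projective R B
  refine ⟨n, fun k => f (Pi.single k 1), fun k => (LinearMap.proj k).comp g, fun x => ?_⟩
  have h1 : f (g x) = x := LinearMap.congr_fun hfg x
  conv_rhs => rw [← h1]
  have h2 : g x = ∑ k, (g x k) • (Pi.single k (1 : R) : Fin n → R) := by
    funext j
    simp [Finset.sum_apply, Pi.single_apply]
  conv_rhs => rw [h2]
  rw [map_sum]
  refine Finset.sum_congr rfl fun k _ => ?_
  rw [map_smul]
  rfl

section
variable {R : Type u} [CommRing R] {B : Type u} [CommRing B] [Algebra R B]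
  {n : ℕ} (b : Fin n → B) (lam : Fin n → (B →ₗ[R] R)) (E : Type u) [CommRing E] [Algebra R E]

/-- structure constants of `B` -/
def m (i j k : Fin n) : R := lam k (b i * b j)

/-- coordinates of scalars -/
def un (r : R) (k : Fin n) : R := lam k (algebraMap R B r)

/-- the idempotent matrix -/
def mat (k j : Fin n) : R := lam k (b j)

/-- multiplicativity relations -/
noncomputable def relMul (t : E × E × Fin n) : MvPolynomial (E × Fin n) R :=
  MvPolynomial.X (t.1 * t.2.1, t.2.2) -
    ∑ i, ∑ j, MvPolynomial.C (m b lam i j t.2.2) * MvPolynomial.X (t.1, i) *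
      MvPolynomial.X (t.2.1, j)

/-- additivity relations -/
noncomputable def relAdd (t : E × E × Fin n) : MvPolynomial (E × Fin n) R :=
  MvPolynomial.X (t.1 + t.2.1, t.2.2) -
    (MvPolynomial.X (t.1, t.2.2) + MvPolynomial.X (t.2.1, t.2.2))

/-- scalar relations -/
noncomputable def relAlg (t : R × Fin n) : MvPolynomial (E × Fin n) R :=
  MvPolynomial.X (algebraMap R E t.1, t.2) - MvPolynomial.C (un lam t.1 t.2)

/-- projection relations -/
noncomputable def relProj (t : E × Fin n) : MvPolynomial (E × Fin n) R :=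
  MvPolynomial.X (t.1, t.2) - ∑ j, MvPolynomial.C (mat b lam t.2 j) * MvPolynomial.X (t.1, j)

/-- the ideal of relations -/
noncomputable def J : Ideal (MvPolynomial (E × Fin n) R) :=
  Ideal.span (Set.range (relMul b lam E) ∪ Set.range (relAdd (R := R) (n := n) E) ∪
    Set.range (relAlg lam E) ∪ Set.range (relProj b lam E))

/-- the coordinate ring of the Weil restriction -/
abbrev WA : Type u := MvPolynomial (E × Fin n) R ⧸ J b lam E

/-- the universal coordinates -/
noncomputable def x (p : E × Fin n) : WA b lam E := Ideal.Quotient.mk _ (MvPolynomial.X p)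

lemma x_mul (c c' : E) (k : Fin n) :
    x b lam E (c * c', k) =
      ∑ i, ∑ j, algebraMap R (WA b lam E) (m b lam i j k) * x b lam E (c, i) *
        x b lam E (c', j) := by
  have h : relMul b lam E (c, c', k) ∈ J b lam E :=
    Ideal.subset_span (Or.inl (Or.inl (Or.inl ⟨_, rfl⟩)))
  have h2 := (Ideal.Quotient.eq_zero_iff_mem).mpr h
  rw [relMul, map_sub, sub_eq_zero] at h2
  simp only [map_sum, map_mul] at h2
  exact h2

lemma x_add (c c' : E) (k : Fin n) :
    x b lam E (c + c', k) = x b lam E (c, k) + x b lam E (c', k) := by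
  have h : relAdd (R := R) (n := n) E (c, c', k) ∈ J b lam E :=
    Ideal.subset_span (Or.inl (Or.inl (Or.inr ⟨_, rfl⟩)))
  have h2 := (Ideal.Quotient.eq_zero_iff_mem).mpr h
  rw [relAdd, map_sub, sub_eq_zero, map_add] at h2
  exact h2

lemma x_alg (r : R) (k : Fin n) :
    x b lam E (algebraMap R E r, k) = algebraMap R (WA b lam E) (un lam r k) := by
  have h : relAlg lam E (r, k) ∈ J b lam E := Ideal.subset_span (Or.inl (Or.inr ⟨_, rfl⟩))
  have h2 := (Ideal.Quotient.eq_zero_iff_mem).mpr h
  rw [relAlg, map_sub, sub_eq_zero] at h2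
  exact h2

lemma x_proj (c : E) (k : Fin n) :
    x b lam E (c, k) = ∑ j, algebraMap R (WA b lam E) (mat b lam k j) * x b lam E (c, j) := by
  have h : relProj b lam E (c, k) ∈ J b lam E := Ideal.subset_span (Or.inr ⟨_, rfl⟩)
  have h2 := (Ideal.Quotient.eq_zero_iff_mem).mpr h
  rw [relProj, map_sub, sub_eq_zero] at h2
  simp only [map_sum, map_mul] at h2
  exact h2

section Data
variable {A : Type v} {D : Type w} [CommRing A] [CommRing D]
  (a : R →+* A) (α : A →+* D) (β : B →+* D)

/-- the coordinate map -/
def Psi (v : Fin n → A) : D := ∑ k, β (b k) * α (v k)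

/-- vectors fixed by the idempotent matrix -/
def IsFix (v : Fin n → A) : Prop := ∀ k, v k = ∑ j, a (mat b lam k j) * v j

variable {b lam a α β}

lemma IsFix.add {v v' : Fin n → A} (h : IsFix b lam a v) (h' : IsFix b lam a v') :
    IsFix b lam a (fun k => v k + v' k) := by
  intro k
  change v k + v' k = ∑ j, a (mat b lam k j) * (v j + v' j)
  rw [h k, h' k, ← Finset.sum_add_distrib]
  refine Finset.sum_congr rfl fun j _ => ?_
  rw [mul_add]

lemma IsFix.smul {v : Fin n → A} (h : IsFix b lam a v) (c : A) :
    IsFix b lam a (fun k => c * v k) := by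
  intro k
  change c * v k = ∑ j, a (mat b lam k j) * (c * v j)
  rw [h k, Finset.mul_sum]
  refine Finset.sum_congr rfl fun j _ => ?_
  ring

lemma isFix_zero : IsFix b lam a (fun _ => (0 : A)) := by
  intro k
  simp

lemma isFix_sum {ι : Type*} (s : Finset ι) (v : ι → Fin n → A)
    (h : ∀ i ∈ s, IsFix b lam a (v i)) : IsFix b lam a (fun k => ∑ i ∈ s, v i k) := by
  classical
  induction s using Finset.induction_on with
  | empty => simpa using isFix_zero (b := b) (lam := lam) (a := a)
  | insert i s hi ih =>
    have h1 := (h i (Finset.mem_insert_self i s)).add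
      (ih fun j hj => h j (Finset.mem_insert_of_mem hj))
    intro k
    have := h1 k
    simp only [Finset.sum_insert hi]
    exact this

variable (hdual : ∀ x : B, ∑ k, lam k x • b k = x)
include hdual

lemma lam_eq (y : B) (k : Fin n) : lam k y = ∑ j, mat b lam k j * lam j y := by
  conv_lhs => rw [← hdual y]
  rw [map_sum]
  refine Finset.sum_congr rfl fun j _ => ?_
  rw [map_smul, smul_eq_mul, mul_comm]
  rfl

lemma isFix_coords (y : B) : IsFix b lam a (fun k => a (lam k y)) := by
  intro k
  change a (lam k y) = ∑ j, a (mat b lam k j) * a (lam j y)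
  rw [lam_eq hdual y k, map_sum]
  refine Finset.sum_congr rfl fun j _ => ?_
  rw [map_mul]

lemma beta_eq (hc : β.comp (algebraMap R B) = α.comp a) (y : B) :
    β y = Psi b α β (fun k => a (lam k y)) := by
  conv_lhs => rw [← hdual y]
  rw [map_sum]
  unfold Psi
  refine Finset.sum_congr rfl fun k _ => ?_
  rw [Algebra.smul_def, map_mul, mul_comm]
  congr 1
  exact RingHom.congr_fun hc (lam k y)

lemma Psi_mul (hc : β.comp (algebraMap R B) = α.comp a) (v v' : Fin n → A) :
    Psi b α β v * Psi b α β v' =
      Psi b α β (fun k => ∑ i, ∑ j, a (m b lam i j k) * v i * v' j) := by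
  have h1 : ∀ i j, (β (b i) * α (v i)) * (β (b j) * α (v' j)) =
      ∑ k, β (b k) * α (a (m b lam i j k) * v i * v' j) := by
    intro i j
    have h := beta_eq (b := b) (lam := lam) hdual hc (b i * b j)
    rw [map_mul] at h
    calc (β (b i) * α (v i)) * (β (b j) * α (v' j))
        = (β (b i) * β (b j)) * (α (v i) * α (v' j)) := by ring
      _ = _ := by
        rw [h]
        unfold Psi
        rw [Finset.sum_mul]
        refine Finset.sum_congr rfl fun k _ => ?_
        simp only [map_mul, m]
        ring
  have h3 : ∀ F : Fin n → Fin n → Fin n → D,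
      ∑ i, ∑ j, ∑ k, F i j k = ∑ k, ∑ i, ∑ j, F i j k := by
    intro F
    have h4 : ∀ i, ∑ j, ∑ k, F i j k = ∑ k, ∑ j, F i j k := fun i => Finset.sum_comm
    simp_rw [h4]
    exact Finset.sum_comm
  unfold Psi
  rw [Finset.sum_mul_sum]
  simp_rw [h1, map_sum, Finset.mul_sum]
  exact h3 (fun i j k => β (b k) * α (a (m b lam i j k) * v i * v' j))

lemma isFix_mul (v v' : Fin n → A) :
    IsFix b lam a (fun k => ∑ i, ∑ j, a (m b lam i j k) * v i * v' j) := by
  refine isFix_sum Finset.univ _ fun i _ => ?_
  refine isFix_sum Finset.univ _ fun j _ => ?_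
  have h := (isFix_coords (a := a) hdual (b i * b j)).smul (v i * v' j)
  intro k
  have hk : v i * v' j * a (lam k (b i * b j)) =
      ∑ l, a (mat b lam k l) * (v i * v' j * a (lam l (b i * b j))) := h k
  change a (lam k (b i * b j)) * v i * v' j =
    ∑ l, a (mat b lam k l) * (a (lam l (b i * b j)) * v i * v' j)
  calc a (lam k (b i * b j)) * v i * v' j = v i * v' j * a (lam k (b i * b j)) := by ring
    _ = _ := by
      rw [hk]
      refine Finset.sum_congr rfl fun l _ => ?_
      ring

omit hdual in
lemma Psi_add (v v' : Fin n → A) :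
    Psi b α β (fun k => v k + v' k) = Psi b α β v + Psi b α β v' := by
  unfold Psi
  rw [← Finset.sum_add_distrib]
  refine Finset.sum_congr rfl fun k _ => ?_
  rw [map_add, mul_add]

lemma Psi_alg (hc : β.comp (algebraMap R B) = α.comp a) (r : R) :
    Psi b α β (fun k => a (un lam r k)) = α (a r) := by
  change Psi b α β (fun k => a (lam k (algebraMap R B r))) = _
  rw [← beta_eq (b := b) (lam := lam) hdual hc (algebraMap R B r)]
  exact RingHom.congr_fun hc r

variable {E}

/-- A point `χ` of the Weil restriction gives a ring map `ρ : E → D`. -/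
theorem exists_rho (hc : β.comp (algebraMap R B) = α.comp a) (χ : WA b lam E →+* A)
    (hχ : χ.comp (algebraMap R (WA b lam E)) = a) :
    ∃ ρ : E →+* D, ρ.comp (algebraMap R E) = α.comp a ∧
      ∀ c, ρ c = Psi b α β (fun k => χ (x b lam E (c, k))) := by
  have hχ' : ∀ r, χ (algebraMap R (WA b lam E) r) = a r := fun r => RingHom.congr_fun hχ r
  have hmul : ∀ c c', Psi b α β (fun k => χ (x b lam E (c * c', k))) =
      Psi b α β (fun k => χ (x b lam E (c, k))) * Psi b α β (fun k => χ (x b lam E (c', k))) := by
    intro c c'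
    rw [Psi_mul hdual hc]
    congr 1
    funext k
    rw [x_mul, map_sum]
    refine Finset.sum_congr rfl fun i _ => ?_
    rw [map_sum]
    refine Finset.sum_congr rfl fun j _ => ?_
    rw [map_mul, map_mul, hχ']
  have hadd : ∀ c c', Psi b α β (fun k => χ (x b lam E (c + c', k))) =
      Psi b α β (fun k => χ (x b lam E (c, k))) + Psi b α β (fun k => χ (x b lam E (c', k))) := by
    intro c c'
    rw [← Psi_add]
    congr 1
    funext k
    rw [x_add, map_add]
  have halg : ∀ r, Psi b α β (fun k => χ (x b lam E (algebraMap R E r, k))) = α (a r) := by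
    intro r
    rw [← Psi_alg (b := b) (lam := lam) hdual hc r]
    congr 1
    funext k
    rw [x_alg, hχ']
  refine ⟨{ toFun := fun c => Psi b α β (fun k => χ (x b lam E (c, k)))
            map_one' := by rw [← map_one (algebraMap R E), halg, map_one, map_one]
            map_mul' := hmul
            map_zero' := by rw [← map_zero (algebraMap R E), halg, map_zero, map_zero]
            map_add' := hadd }, ?_, fun c => rfl⟩
  ext r
  exact halg r

/-- Every ring map `ρ : E → D` over `R` comes from a unique point of the Weil restriction. -/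
theorem existsUnique_chi (hc : β.comp (algebraMap R B) = α.comp a)
    (hsurj : ∀ d : D, ∃ v, IsFix b lam a v ∧ Psi b α β v = d)
    (hinj : ∀ v v', IsFix b lam a v → IsFix b lam a v' → Psi b α β v = Psi b α β v' → v = v')
    (ρ : E →+* D) (hρ : ρ.comp (algebraMap R E) = α.comp a) :
    ∃! χ : WA b lam E →+* A, χ.comp (algebraMap R (WA b lam E)) = a ∧
      ∀ c, ρ c = Psi b α β (fun k => χ (x b lam E (c, k))) := by
  choose v hvfix hv using fun c => hsurj (ρ c)
  let ψ : MvPolynomial (E × Fin n) R →+* A := MvPolynomial.eval₂Hom a (fun p => v p.1 p.2)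
  have hψX : ∀ p, ψ (MvPolynomial.X p) = v p.1 p.2 := fun p => MvPolynomial.eval₂Hom_X' _ _ _
  have hψC : ∀ r, ψ (MvPolynomial.C r) = a r := fun r => MvPolynomial.eval₂Hom_C _ _ _
  have hle : J b lam E ≤ RingHom.ker ψ := by
    unfold J
    refine Ideal.span_le.mpr ?_
    rintro _ (((⟨t, rfl⟩ | ⟨t, rfl⟩) | ⟨t, rfl⟩) | ⟨t, rfl⟩)
    · obtain ⟨c, c', k⟩ := t
      rw [SetLike.mem_coe, RingHom.mem_ker, relMul, map_sub, sub_eq_zero, map_sum, hψX]
      have := hinj (v (c * c')) (fun k => ∑ i, ∑ j, a (m b lam i j k) * v c i * v c' j)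
        (hvfix _) (isFix_mul hdual _ _) (by rw [hv, ← Psi_mul hdual hc, hv, hv, map_mul])
      rw [congrFun this k]
      refine Finset.sum_congr rfl fun i _ => ?_
      rw [map_sum]
      refine Finset.sum_congr rfl fun j _ => ?_
      rw [map_mul, map_mul, hψC, hψX, hψX]
    · obtain ⟨c, c', k⟩ := t
      rw [SetLike.mem_coe, RingHom.mem_ker, relAdd, map_sub, sub_eq_zero, map_add, hψX, hψX, hψX]
      have := hinj (v (c + c')) (fun k => v c k + v c' k) (hvfix _)
        ((hvfix c).add (hvfix c')) (by rw [hv, Psi_add, hv, hv, map_add])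
      exact congrFun this k
    · obtain ⟨r, k⟩ := t
      rw [SetLike.mem_coe, RingHom.mem_ker, relAlg, map_sub, sub_eq_zero, hψX, hψC]
      have := hinj (v (algebraMap R E r)) (fun k => a (un lam r k)) (hvfix _)
        (isFix_coords hdual (algebraMap R B r))
        (by rw [hv, Psi_alg hdual hc]; exact RingHom.congr_fun hρ r)
      exact congrFun this k
    · obtain ⟨c, k⟩ := t
      rw [SetLike.mem_coe, RingHom.mem_ker, relProj, map_sub, sub_eq_zero, map_sum, hψX]
      rw [hvfix c k]
      refine Finset.sum_congr rfl fun j _ => ?_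
      rw [map_mul, hψC, hψX]
  have hJ : ∀ p ∈ J b lam E, ψ p = 0 := fun p hp => hle hp
  let χ : WA b lam E →+* A := Ideal.Quotient.lift (J b lam E) ψ hJ
  have hχx : ∀ p, χ (x b lam E p) = v p.1 p.2 := fun p => by
    change χ (Ideal.Quotient.mk _ _) = _
    rw [Ideal.Quotient.lift_mk, hψX]
  have hχC : ∀ r, χ (algebraMap R (WA b lam E) r) = a r := fun r => by
    change χ (Ideal.Quotient.mk _ (MvPolynomial.C r)) = _
    rw [Ideal.Quotient.lift_mk, hψC]
  refine ⟨χ, ⟨?_, ?_⟩, ?_⟩
  · ext r
    exact hχC r
  · intro c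
    rw [← hv c]
    congr 1
    funext k
    rw [hχx]
  · rintro χ' ⟨h1, h2⟩
    have h1' : ∀ r, χ' (algebraMap R (WA b lam E) r) = a r := fun r => RingHom.congr_fun h1 r
    have hx' : ∀ p, χ' (x b lam E p) = χ (x b lam E p) := by
      intro p
      rw [hχx]
      have hfix' : IsFix b lam a (fun k => χ' (x b lam E (p.1, k))) := by
        intro k
        change χ' (x b lam E (p.1, k)) = _
        rw [x_proj, map_sum]
        refine Finset.sum_congr rfl fun j _ => ?_
        rw [map_mul, h1']
      have := hinj (fun k => χ' (x b lam E (p.1, k))) (v p.1) hfix' (hvfix _)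
        (by rw [← h2, hv])
      exact congrFun this p.2
    refine RingHom.ext fun z => ?_
    obtain ⟨p, rfl⟩ := Ideal.Quotient.mk_surjective z
    induction p using MvPolynomial.induction_on with
    | C r =>
      change χ' (algebraMap R (WA b lam E) r) = χ (algebraMap R (WA b lam E) r)
      rw [hχC]
      exact h1' r
    | add p q hp hq => rw [map_add, map_add, map_add, hp, hq]
    | mul_X p i hp =>
      rw [map_mul, map_mul, map_mul, hp]
      congr 1
      exact hx' i

end Data

end

end Groth.Agent.Lib.WeilProjAlg37
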