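import Mathlib
import Groth.Prelude.Def_Flatn
import Groth.Agent.Lib.H8PullbackGamma
import Groth.Agent.Lib.WeilProjAlg37
import Groth.Agent.Lib.WeilResGeom37

/-!
# Weil restriction along a finite projective affine morphism, affine target (helper37)

Generalises `Lib/WeilResGeom37` from "finite free" to "finite projective" (dual basis `b`, `lam`).

* `ften_surj`, `ften_inj`: `v ↦ ∑ k, b k ⊗ v k` is a bijection from fixed vectors onto `B ⊗ A`.
* `glue_fix`: sheaf gluing for fixed vectors (affine opens ⇒ global).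
* `fix_of_isAffineOpen`: the affine case for a pullback `Y = T ×_S Z`.
* `main`, `main'`: `Mor_S(Z, X)` is represented by an affine scheme for `S, Z, X` affine, `Γ(Z)`
  finite projective over `Γ(S)`.
-/

set_option autoImplicit false
universe u v w
open CategoryTheory CategoryTheory.Limits AlgebraicGeometry TopologicalSpace Opposite
open scoped TensorProduct

namespace Groth.Agent.Lib.WeilProjGeom37

open Groth.Agent.Lib
open Groth.Agent.Lib.WeilResGeom37 (PsiU PsiU_res PsiU_top homOfAppTop homOfAppTop_appTop toSpec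
  toSpec_appTop nonempty_representableBy_of_rel secHom secHom_w)

section Tensor

variable {R B : Type u} {A : Type v} [CommRing R] [CommRing B] [Algebra R B] [CommRing A]
  [Algebra R A] {n : ℕ} (b : Fin n → B) (lam : Fin n → (B →ₗ[R] R))

/-- the coordinate functionals on `B ⊗ A` -/
noncomputable def Lam (k : Fin n) : B ⊗[R] A →ₗ[R] A :=
  (TensorProduct.lid R A).toLinearMap ∘ₗ (lam k).rTensor A

lemma Lam_tmul (k : Fin n) (y : B) (a : A) : Lam (A := A) lam k (y ⊗ₜ[R] a) = lam k y • a := by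
  simp [Lam]

/-- the coordinate map into the tensor product -/
noncomputable def Ften (v : Fin n → A) : B ⊗[R] A := ∑ k, b k ⊗ₜ[R] v k

lemma Lam_Ften (k : Fin n) (v : Fin n → A) :
    Lam lam k (Ften b v) = ∑ j, algebraMap R A (lam k (b j)) * v j := by
  unfold Ften
  rw [map_sum]
  refine Finset.sum_congr rfl fun j _ => ?_
  rw [Lam_tmul, Algebra.smul_def]

lemma Ften_Lam (hdual : ∀ x : B, ∑ k, lam k x • b k = x) (z : B ⊗[R] A) :
    Ften b (fun k => Lam lam k z) = z := by
  induction z using TensorProduct.induction_on with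
  | zero => simp [Ften]
  | tmul y a =>
    unfold Ften
    simp only [Lam_tmul]
    conv_rhs => rw [← hdual y]
    rw [TensorProduct.sum_tmul]
    refine Finset.sum_congr rfl fun k _ => ?_
    rw [TensorProduct.smul_tmul]
  | add z w hz hw =>
    unfold Ften at *
    simp only [map_add, TensorProduct.tmul_add, Finset.sum_add_distrib]
    rw [hz, hw]

theorem ften_surj (hdual : ∀ x : B, ∑ k, lam k x • b k = x) (z : B ⊗[R] A) :
    ∃ v, WeilProjAlg37.IsFix b lam (algebraMap R A) v ∧ Ften b v = z := by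
  refine ⟨fun k => Lam lam k z, ?_, Ften_Lam b lam hdual z⟩
  intro k
  change Lam lam k z = ∑ j, algebraMap R A (WeilProjAlg37.mat b lam k j) * Lam lam j z
  conv_lhs => rw [← Ften_Lam b lam hdual z]
  rw [Lam_Ften]
  rfl

theorem ften_inj (v v' : Fin n → A) (hv : WeilProjAlg37.IsFix b lam (algebraMap R A) v)
    (hv' : WeilProjAlg37.IsFix b lam (algebraMap R A) v') (h : Ften (R := R) b v = Ften b v') :
    v = v' := by
  funext k
  have h1 := congrArg (Lam (A := A) lam k) h
  rw [Lam_Ften, Lam_Ften] at h1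
  exact ((hv k).trans h1).trans (hv' k).symm

end Tensor

section Fix

variable {T Y Z S : Scheme.{u}} (fst : Y ⟶ T) (snd : Y ⟶ Z) (q : T ⟶ S) {ι : Type v} [Fintype ι]
  (b : ι → Γ(Z, ⊤)) (M : ι → ι → Γ(S, ⊤))

/-- vectors of sections over `U` fixed by the matrix `M` -/
def IsFixU (U : T.Opens) (v : ι → Γ(T, U)) : Prop :=
  ∀ k, v k = ∑ j, (q.appLE ⊤ U (fun _ _ => trivial)).hom (M k j) * v j

variable {q M} in
lemma IsFixU.res {U V : T.Opens} (hVU : V ≤ U) {v : ι → Γ(T, U)} (h : IsFixU q M U v) :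
    IsFixU q M V (fun k => (T.presheaf.map (homOfLE hVU).op).hom (v k)) := by
  intro k
  change (T.presheaf.map (homOfLE hVU).op).hom (v k) =
    ∑ j, (q.appLE ⊤ V (fun _ _ => trivial)).hom (M k j) *
      (T.presheaf.map (homOfLE hVU).op).hom (v j)
  rw [h k, map_sum]
  refine Finset.sum_congr rfl fun j _ => ?_
  rw [map_mul]
  congr 1
  have := q.appLE_map (show U ≤ q ⁻¹ᵁ ⊤ from fun _ _ => trivial) (homOfLE hVU).op
  exact congrArg (fun φ => φ.hom (M k j)) this

lemma isFixU_top (v : ι → Γ(T, ⊤)) :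
    IsFixU q M ⊤ v ↔ ∀ k, v k = ∑ j, q.appTop.hom (M k j) * v j := by
  have h2 : ∀ z, (q.appLE ⊤ ⊤ (fun _ _ => trivial)).hom z = q.appTop.hom z := by
    intro z
    have : q.appLE ⊤ ⊤ (fun _ _ => trivial) = q.appTop := by
      rw [Scheme.Hom.appTop, Scheme.Hom.app_eq_appLE]
      rfl
    exact congrArg (fun φ => φ.hom z) this
  unfold IsFixU
  simp only [h2]

/-- **Gluing**: injectivity/surjectivity of the coordinate maps on fixed vectors over affine opens
imply the same globally. -/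
theorem glue_fix
    (hinj : ∀ U : T.Opens, IsAffineOpen U → ∀ v v', IsFixU q M U v → IsFixU q M U v' →
      PsiU fst snd b U v = PsiU fst snd b U v' → v = v')
    (hsurj : ∀ U : T.Opens, IsAffineOpen U → ∀ s, ∃ v, IsFixU q M U v ∧ PsiU fst snd b U v = s) :
    (∀ v v', IsFixU q M ⊤ v → IsFixU q M ⊤ v' →
      PsiU fst snd b ⊤ v = PsiU fst snd b ⊤ v' → v = v') ∧
    (∀ s, ∃ v, IsFixU q M ⊤ v ∧ PsiU fst snd b ⊤ v = s) := by
  constructor
  · intro v v' hv hv' h
    funext k
    refine T.sheaf.eq_of_locally_eq' (fun U : T.affineOpens => (U : T.Opens)) ⊤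
      (fun U => homOfLE le_top) (by rw [iSup_affineOpens_eq_top T]) _ _ (fun U => ?_)
    have h1 := congrArg
      (Y.presheaf.map (homOfLE (fst.preimage_mono (le_top : (U : T.Opens) ≤ ⊤))).op).hom h
    rw [PsiU_res fst snd b (le_top : (U : T.Opens) ≤ ⊤),
      PsiU_res fst snd b (le_top : (U : T.Opens) ≤ ⊤)] at h1
    exact congrFun (hinj U U.2 _ _ (hv.res le_top) (hv'.res le_top) h1) k
  · intro s
    have hex : ∀ U : T.affineOpens, ∃ w : ι → Γ(T, (U : T.Opens)), IsFixU q M U w ∧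
        PsiU fst snd b U w =
        (Y.presheaf.map (homOfLE (fst.preimage_mono (le_top : (U : T.Opens) ≤ ⊤))).op).hom s :=
      fun U => hsurj U U.2 _
    choose w hwfix hw using hex
    have key : ∀ (U W : T.affineOpens) (hWU : (W : T.Opens) ≤ U),
        (fun k => (T.presheaf.map (homOfLE hWU).op).hom (w U k)) = w W := by
      intro U W hWU
      apply hinj W W.2 _ _ ((hwfix U).res hWU) (hwfix W)
      rw [← PsiU_res, hw, hw, ← RingHom.comp_apply, ← CommRingCat.hom_comp, ← Functor.map_comp]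
      rfl
    have hcompat : ∀ k, TopCat.Presheaf.IsCompatible T.presheaf
        (fun U : T.affineOpens => (U : T.Opens)) (fun U => w U k) := by
      intro k U U'
      have hnb : ∀ x : ↥((U : T.Opens) ⊓ (U' : T.Opens)), ∃ W : T.affineOpens,
          x.1 ∈ (W : T.Opens) ∧ (W : T.Opens) ≤ (U : T.Opens) ⊓ (U' : T.Opens) := by
        intro x
        obtain ⟨W, hW, hxW, hWU⟩ := Opens.isBasis_iff_nbhd.mp T.isBasis_affineOpens x.2
        exact ⟨⟨W, hW⟩, hxW, hWU⟩
      choose W hxW hWU using hnb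
      refine T.sheaf.eq_of_locally_eq' (fun x => (W x : T.Opens)) _ (fun x => homOfLE (hWU x))
        (fun y hy => Opens.mem_iSup.mpr ⟨⟨y, hy⟩, hxW _⟩) _ _ (fun x => ?_)
      have h1 := congrFun (key U (W x) ((hWU x).trans inf_le_left)) k
      have h2 := congrFun (key U' (W x) ((hWU x).trans inf_le_right)) k
      change (T.presheaf.map _).hom ((T.presheaf.map _).hom (w U k)) =
        (T.presheaf.map _).hom ((T.presheaf.map _).hom (w U' k))
      rw [← RingHom.comp_apply, ← RingHom.comp_apply, ← CommRingCat.hom_comp,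
        ← CommRingCat.hom_comp, ← Functor.map_comp, ← Functor.map_comp]
      exact h1.trans h2.symm
    have hgl : ∀ k, ∃ a : Γ(T, ⊤), ∀ U : T.affineOpens,
        (T.presheaf.map (homOfLE (le_top : (U : T.Opens) ≤ ⊤)).op).hom a = w U k := by
      intro k
      obtain ⟨a, ha, -⟩ := T.sheaf.existsUnique_gluing' (fun U : T.affineOpens => (U : T.Opens)) ⊤
        (fun U => homOfLE le_top) (by rw [iSup_affineOpens_eq_top T]) (fun U => w U k) (hcompat k)
      exact ⟨a, ha⟩
    choose a ha using hgl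
    have h5 : ∀ U : T.affineOpens,
        (fun k => (T.presheaf.map (homOfLE (le_top : (U : T.Opens) ≤ ⊤)).op).hom (a k)) = w U :=
      fun U => funext fun k => ha k U
    refine ⟨a, ?_, ?_⟩
    · intro k
      refine T.sheaf.eq_of_locally_eq' (fun U : T.affineOpens => (U : T.Opens)) ⊤
        (fun U => homOfLE le_top) (by rw [iSup_affineOpens_eq_top T]) _ _ (fun U => ?_)
      have h7 : IsFixU q M U
          (fun k => (T.presheaf.map (homOfLE (le_top : (U : T.Opens) ≤ ⊤)).op).hom (a k)) := by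
        rw [h5 U]
        exact hwfix U
      change (T.presheaf.map (homOfLE (le_top : (U : T.Opens) ≤ ⊤)).op).hom (a k) =
        (T.presheaf.map (homOfLE (le_top : (U : T.Opens) ≤ ⊤)).op).hom
          (∑ j, (q.appLE ⊤ ⊤ (fun _ _ => trivial)).hom (M k j) * a j)
      rw [map_sum]
      refine (h7 k).trans (Finset.sum_congr rfl fun j _ => ?_)
      rw [map_mul]
      congr 1
      have := q.appLE_map (show (⊤ : T.Opens) ≤ q ⁻¹ᵁ ⊤ from fun _ _ => trivial)
        (homOfLE (le_top : (U : T.Opens) ≤ ⊤)).op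
      exact (congrArg (fun φ => φ.hom (M k j)) this).symm
    · refine Y.sheaf.eq_of_locally_eq' (fun U : T.affineOpens => fst ⁻¹ᵁ (U : T.Opens)) _
        (fun U => homOfLE (fst.preimage_mono le_top)) ?_ _ _ (fun U => ?_)
      · intro y _
        have : fst.base y ∈ (⊤ : T.Opens) := trivial
        rw [← iSup_affineOpens_eq_top T, Opens.mem_iSup] at this
        obtain ⟨U, hU⟩ := this
        exact Opens.mem_iSup.mpr ⟨U, hU⟩
      · have := PsiU_res fst snd b (le_top : (U : T.Opens) ≤ ⊤) a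
        rw [h5 U] at this
        exact this.trans (hw U)

end Fix

section Affine

/-- The affine case: sections of `Y = T ×_S Z` over the preimage of an affine open of `T`. -/
theorem fix_of_isAffineOpen {T Y Z S : Scheme.{u}} {fst : Y ⟶ T} {snd : Y ⟶ Z}
    {q : T ⟶ S} {g : Z ⟶ S} (hsq : IsPullback fst snd q g) [IsAffine S] [IsAffine Z]
    [Algebra Γ(S, ⊤) Γ(Z, ⊤)] (hB : algebraMap Γ(S, ⊤) Γ(Z, ⊤) = g.appTop.hom)
    {n : ℕ} (b : Fin n → Γ(Z, ⊤)) (lam : Fin n → (Γ(Z, ⊤) →ₗ[Γ(S, ⊤)] Γ(S, ⊤)))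
    (hdual : ∀ x : Γ(Z, ⊤), ∑ k, lam k x • b k = x) (U : T.Opens) (hU : IsAffineOpen U) :
    (∀ v v', IsFixU q (WeilProjAlg37.mat b lam) U v → IsFixU q (WeilProjAlg37.mat b lam) U v' →
      PsiU fst snd b U v = PsiU fst snd b U v' → v = v') ∧
    (∀ s, ∃ v, IsFixU q (WeilProjAlg37.mat b lam) U v ∧ PsiU fst snd b U v = s) := by
  have hΩ : fst ⁻¹ᵁ U = fst ⁻¹ᵁ U ⊓ snd ⁻¹ᵁ ⊤ :=
    le_antisymm (le_inf le_rfl (fun _ _ => trivial)) inf_le_left
  have hV : IsAffineOpen (⊤ : S.Opens) := isAffineOpen_top S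
  have hV₂ : IsAffineOpen (⊤ : Z.Opens) := isAffineOpen_top Z
  have hW₁V : U ≤ q ⁻¹ᵁ ⊤ := fun _ _ => trivial
  have hV₂V : (⊤ : Z.Opens) ≤ g ⁻¹ᵁ ⊤ := fun _ _ => trivial
  have hΩa : IsAffineOpen (fst ⁻¹ᵁ U) :=
    H8PullbackGamma.isAffineOpen_inf hsq hV hU hV₂ hΩ hW₁V hV₂V
  letI algTU : Algebra Γ(S, ⊤) Γ(T, U) := (q.appLE ⊤ U hW₁V).hom.toAlgebra
  letI algY : Algebra Γ(S, ⊤) Γ(Y, fst ⁻¹ᵁ U) :=
    ((q.appLE ⊤ U hW₁V) ≫ H8PullbackGamma.fstApp hΩ).hom.toAlgebra
  have h₂ : algebraMap Γ(S, ⊤) Γ(Z, ⊤) = (g.appLE ⊤ ⊤ hV₂V).hom := by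
    rw [hB, Scheme.Hom.appTop, Scheme.Hom.app_eq_appLE]
    rfl
  let α : Γ(T, U) →ₐ[Γ(S, ⊤)] Γ(Y, fst ⁻¹ᵁ U) :=
    { (H8PullbackGamma.fstApp hΩ).hom with commutes' := fun r => rfl }
  let β : Γ(Z, ⊤) →ₐ[Γ(S, ⊤)] Γ(Y, fst ⁻¹ᵁ U) :=
    { (H8PullbackGamma.sndApp hΩ).hom with
      commutes' := fun r => by
        have h := H8PullbackGamma.appLE_fstApp_eq hsq hΩ hW₁V hV₂V
        change (H8PullbackGamma.sndApp hΩ).hom (algebraMap _ _ r) =
          ((q.appLE ⊤ U hW₁V) ≫ H8PullbackGamma.fstApp hΩ).hom r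
        rw [h₂, h]
        rfl }
  have hbij := H8PullbackGamma.productMap_bijective_of_isPullback hsq hV hU hV₂ hΩ hΩa hW₁V hV₂V
    rfl h₂ α rfl β rfl
  have this : PsiU fst snd b U = (Algebra.TensorProduct.productMap β α) ∘ (Ften b) := by
    funext v
    simp only [Function.comp_apply, Ften, map_sum, Algebra.TensorProduct.productMap_apply_tmul]
    rfl
  constructor
  · intro v v' hv hv' h
    rw [this] at h
    exact ften_inj b lam v v' hv hv' (hbij.1 h)
  · intro s
    obtain ⟨z, rfl⟩ := hbij.2 s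
    obtain ⟨v, hv, rfl⟩ := ften_surj (A := Γ(T, U)) b lam hdual z
    exact ⟨v, hv, congrFun this v⟩

end Affine

section Main

variable {Z S : Scheme.{u}} (X : Scheme.{u}) [IsAffine Z] [IsAffine X] [IsAffine S]
  (g : Z ⟶ S) (f : X ⟶ S)
  [Algebra Γ(S, ⊤) Γ(Z, ⊤)] [Algebra Γ(S, ⊤) Γ(X, ⊤)]
  {n : ℕ} (b : Fin n → Γ(Z, ⊤)) (lam : Fin n → (Γ(Z, ⊤) →ₗ[Γ(S, ⊤)] Γ(S, ⊤)))

/-- the representing ring -/
noncomputable abbrev WR : CommRingCat.{u} := CommRingCat.of (WeilProjAlg37.WA b lam Γ(X, ⊤))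

/-- structure map of the representing ring -/
noncomputable def wHom : Γ(S, ⊤) ⟶ WR X b lam :=
  CommRingCat.ofHom (algebraMap Γ(S, ⊤) (WeilProjAlg37.WA b lam Γ(X, ⊤)))

/-- structure morphism of the representing scheme -/
noncomputable def toS : Spec (WR X b lam) ⟶ S :=
  homOfAppTop (wHom X b lam ≫ (Scheme.ΓSpecIso (WR X b lam)).inv)

lemma toS_appTop :
    (toS X b lam).appTop = wHom X b lam ≫ (Scheme.ΓSpecIso (WR X b lam)).inv :=
  homOfAppTop_appTop _

/-- the representing object -/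
noncomputable abbrev W : Over S := Over.mk (toS X b lam)

/-- ring map attached to a point -/
noncomputable def chiOf (T : Over S) (t : T ⟶ W X b lam) :
    WeilProjAlg37.WA b lam Γ(X, ⊤) →+* Γ(T.left, ⊤) :=
  ((Scheme.ΓSpecIso (WR X b lam)).inv ≫ t.left.appTop).hom

lemma chiOf_comp (T : Over S) (t : T ⟶ W X b lam) :
    (chiOf X b lam T t).comp (algebraMap Γ(S, ⊤) (WeilProjAlg37.WA b lam Γ(X, ⊤))) =
      T.hom.appTop.hom := by
  have h := Over.w t
  have h2 : T.hom.appTop = (toS X b lam).appTop ≫ t.left.appTop := by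
    rw [← Scheme.Hom.comp_appTop]
    exact congrArg Scheme.Hom.appTop h.symm
  rw [h2, toS_appTop]
  rfl

variable {X}

/-- the relation between points of `W` and sections of `morS` -/
def Rel (T : Over S) (t : T ⟶ W X b lam) (s : (Flatn.morS g f).obj (op T)) : Prop :=
  ∀ c : Γ(X, ⊤), (secHom g f T s).appTop.hom c =
    WeilProjAlg37.Psi b (pullback.fst T.hom g).appTop.hom (pullback.snd T.hom g).appTop.hom
      (fun k => chiOf X b lam T t (WeilProjAlg37.x b lam Γ(X, ⊤) (c, k)))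

variable (hB : algebraMap Γ(S, ⊤) Γ(Z, ⊤) = g.appTop.hom)
  (hE : algebraMap Γ(S, ⊤) Γ(X, ⊤) = f.appTop.hom)
  (hdual : ∀ x : Γ(Z, ⊤), ∑ k, lam k x • b k = x)

include hB in
lemma hc (T : Over S) :
    ((pullback.snd T.hom g).appTop.hom).comp (algebraMap Γ(S, ⊤) Γ(Z, ⊤)) =
      ((pullback.fst T.hom g).appTop.hom).comp T.hom.appTop.hom := by
  rw [hB, ← CommRingCat.hom_comp, ← CommRingCat.hom_comp, ← Scheme.Hom.comp_appTop,
    ← Scheme.Hom.comp_appTop, pullback.condition]

include hB hdual in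
lemma hfix (T : Over S) :
    (∀ d, ∃ v, WeilProjAlg37.IsFix b lam T.hom.appTop.hom v ∧
      WeilProjAlg37.Psi b (pullback.fst T.hom g).appTop.hom
        (pullback.snd T.hom g).appTop.hom v = d) ∧
    (∀ v v', WeilProjAlg37.IsFix b lam T.hom.appTop.hom v →
      WeilProjAlg37.IsFix b lam T.hom.appTop.hom v' →
      WeilProjAlg37.Psi b (pullback.fst T.hom g).appTop.hom
        (pullback.snd T.hom g).appTop.hom v =
      WeilProjAlg37.Psi b (pullback.fst T.hom g).appTop.hom
        (pullback.snd T.hom g).appTop.hom v' → v = v') := by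
  have h0 : ∀ v, WeilProjAlg37.Psi b (pullback.fst T.hom g).appTop.hom
      (pullback.snd T.hom g).appTop.hom v =
      PsiU (pullback.fst T.hom g) (pullback.snd T.hom g) b ⊤ v := by
    intro v
    rw [PsiU_top]
    rfl
  have h1 : ∀ v, WeilProjAlg37.IsFix b lam T.hom.appTop.hom v ↔
      IsFixU T.hom (WeilProjAlg37.mat b lam) ⊤ v := fun v => (isFixU_top T.hom _ v).symm
  obtain ⟨hi, hs⟩ := glue_fix (pullback.fst T.hom g) (pullback.snd T.hom g) T.hom b
    (WeilProjAlg37.mat b lam)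
    (fun U hU =>
      (fix_of_isAffineOpen (IsPullback.of_hasPullback T.hom g) hB b lam hdual U hU).1)
    (fun U hU =>
      (fix_of_isAffineOpen (IsPullback.of_hasPullback T.hom g) hB b lam hdual U hU).2)
  constructor
  · intro d
    obtain ⟨v, hv, hv2⟩ := hs d
    exact ⟨v, (h1 v).mpr hv, (h0 v).trans hv2⟩
  · intro v v' hv hv' h
    exact hi v v' ((h1 v).mp hv) ((h1 v').mp hv') ((h0 v).symm.trans (h.trans (h0 v')))

include hB hE hdual in
lemma rel_existsUnique_sec (T : Over S) (t : T ⟶ W X b lam) : ∃! s, Rel g f b lam T t s := by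
  obtain ⟨ρ, hρ, hρf⟩ := WeilProjAlg37.exists_rho hdual (hc g hB T) (chiOf X b lam T t)
    (chiOf_comp X b lam T t)
  have hw : homOfAppTop (CommRingCat.ofHom ρ) ≫ f = pullback.snd T.hom g ≫ g := by
    apply ext_of_isAffine
    rw [Scheme.Hom.comp_appTop, Scheme.Hom.comp_appTop, homOfAppTop_appTop]
    ext r
    have h1 := RingHom.congr_fun hρ r
    rw [hE] at h1
    refine h1.trans ?_
    have h2 := RingHom.congr_fun (hc g hB T) r
    rw [hB] at h2
    exact h2.symm
  haveI : IsAffine (Over.mk f).left := ‹IsAffine X›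
  refine ⟨(Over.homMk (homOfAppTop (X := X) (CommRingCat.ofHom ρ)) hw :
    (Over.map g).obj ((Over.pullback g).obj T) ⟶ Over.mk f), ?_, ?_⟩
  · intro c
    change (homOfAppTop (CommRingCat.ofHom ρ)).appTop.hom c = _
    rw [homOfAppTop_appTop]
    exact hρf c
  · intro s' hs'
    apply Over.OverMorphism.ext
    apply ext_of_isAffine
    change (secHom g f T s').appTop = (homOfAppTop (CommRingCat.ofHom ρ)).appTop
    rw [homOfAppTop_appTop]
    ext c
    exact (hs' c).trans (hρf c).symm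

include hB hE hdual in
lemma rel_existsUnique_pt (T : Over S) (s : (Flatn.morS g f).obj (op T)) :
    ∃! t, Rel g f b lam T t s := by
  have hρ : ((secHom g f T s).appTop.hom).comp (algebraMap Γ(S, ⊤) Γ(X, ⊤)) =
      ((pullback.fst T.hom g).appTop.hom).comp T.hom.appTop.hom := by
    rw [hE, ← CommRingCat.hom_comp, ← CommRingCat.hom_comp, ← Scheme.Hom.comp_appTop,
      ← Scheme.Hom.comp_appTop, secHom_w, pullback.condition]
  obtain ⟨hs, hi⟩ := hfix g b lam hB hdual T
  obtain ⟨χ, ⟨hχ1, hχ2⟩, hχu⟩ :=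
    WeilProjAlg37.existsUnique_chi hdual (hc g hB T) hs hi _ hρ
  have hw : toSpec (CommRingCat.ofHom χ) ≫ toS X b lam = T.hom := by
    apply ext_of_isAffine
    rw [Scheme.Hom.comp_appTop, toS_appTop, toSpec_appTop, Category.assoc,
      Iso.inv_hom_id_assoc]
    ext r
    exact RingHom.congr_fun hχ1 r
  have hchi : ∀ t : T ⟶ W X b lam, t.left.appTop =
      (Scheme.ΓSpecIso (WR X b lam)).hom ≫ CommRingCat.ofHom (chiOf X b lam T t) := by
    intro t
    unfold chiOf
    rw [CommRingCat.ofHom_hom, Iso.hom_inv_id_assoc]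
  refine ⟨(Over.homMk (toSpec (CommRingCat.ofHom χ)) hw : T ⟶ W X b lam), ?_, ?_⟩
  · have h3 : chiOf X b lam T
        (Over.homMk (toSpec (CommRingCat.ofHom χ)) hw : T ⟶ W X b lam) = χ := by
      unfold chiOf
      change ((Scheme.ΓSpecIso (WR X b lam)).inv ≫ (toSpec (CommRingCat.ofHom χ)).appTop).hom = χ
      rw [toSpec_appTop, Iso.inv_hom_id_assoc]
      rfl
    intro c
    rw [h3]
    exact hχ2 c
  · intro t' ht'
    have h1 := hχu (chiOf X b lam T t') ⟨chiOf_comp X b lam T t', ht'⟩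
    apply Over.OverMorphism.ext
    haveI : IsAffine (W X b lam).left := inferInstanceAs (IsAffine (Spec (WR X b lam)))
    apply ext_of_isAffine
    rw [hchi t', h1]
    change _ = (toSpec (CommRingCat.ofHom χ)).appTop
    rw [toSpec_appTop]

lemma rel_natural (T' T : Over S) (h : T' ⟶ T) (t : T ⟶ W X b lam)
    (s : (Flatn.morS g f).obj (op T)) (hs : Rel g f b lam T t s) :
    Rel g f b lam T' (h ≫ t) ((Flatn.morS g f).map h.op s) := by
  intro c
  let hh : pullback T'.hom g ⟶ pullback T.hom g := ((Over.pullback g).map h).left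
  have hfst : hh ≫ pullback.fst T.hom g = pullback.fst T'.hom g ≫ h.left :=
    pullback.lift_fst _ _ _
  have hsnd : hh ≫ pullback.snd T.hom g = pullback.snd T'.hom g := pullback.lift_snd _ _ _
  have hsec : secHom g f T' ((Flatn.morS g f).map h.op s) = hh ≫ secHom g f T s := rfl
  have hchi : chiOf X b lam T' (h ≫ t) = (h.left.appTop.hom).comp (chiOf X b lam T t) := by
    unfold chiOf
    change ((Scheme.ΓSpecIso (WR X b lam)).inv ≫ (h.left ≫ t.left).appTop).hom = _
    rw [Scheme.Hom.comp_appTop, ← Category.assoc]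
    rfl
  rw [hsec, Scheme.Hom.comp_appTop, CommRingCat.hom_comp, RingHom.comp_apply, hs c]
  unfold WeilProjAlg37.Psi
  rw [map_sum]
  refine Finset.sum_congr rfl fun k _ => ?_
  rw [map_mul]
  congr 1
  · rw [← RingHom.comp_apply, ← CommRingCat.hom_comp, ← Scheme.Hom.comp_appTop, hsnd]
  · rw [← RingHom.comp_apply, ← CommRingCat.hom_comp, ← Scheme.Hom.comp_appTop, hfst,
      Scheme.Hom.comp_appTop, hchi]
    rfl

include hB hE hdual in
/-- **Weil restriction**: `Mor_S(Z, X)` is representable by an affine scheme when `S`, `Z`, `X` are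
affine and `Γ(Z)` has a finite dual basis over `Γ(S)`. -/
theorem main : ∃ W : Over S, IsAffine W.left ∧
    Nonempty ((Flatn.morS g f).RepresentableBy W) :=
  ⟨W X b lam, inferInstanceAs (IsAffine (Spec (WR X b lam))),
    nonempty_representableBy_of_rel _ _ (Rel g f b lam) (rel_existsUnique_sec g f b lam hB hE hdual)
      (rel_existsUnique_pt g f b lam hB hE hdual) (rel_natural g f b lam)⟩

end Main

/-- **Weil restriction**, finite projective affine case. -/
theorem main' {Z S X : Scheme.{u}} [IsAffine Z] [IsAffine X] [IsAffine S] (g : Z ⟶ S) (f : X ⟶ S)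
    (hfin : letI := g.appTop.hom.toAlgebra; Module.Finite Γ(S, ⊤) Γ(Z, ⊤))
    (hproj : letI := g.appTop.hom.toAlgebra; Module.Projective Γ(S, ⊤) Γ(Z, ⊤)) :
    ∃ W : Over S, IsAffine W.left ∧ Nonempty ((Flatn.morS g f).RepresentableBy W) := by
  letI := g.appTop.hom.toAlgebra
  letI := f.appTop.hom.toAlgebra
  obtain ⟨n, b, lam, hdual⟩ := WeilProjAlg37.exists_dualBasis Γ(S, ⊤) Γ(Z, ⊤)
  exact main g f b lam rfl rfl hdual

end Groth.Agent.Lib.WeilProjGeom37
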