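import Mathlib
import Groth.Prelude.Def_Flatn
import Groth.Agent.Lib.WeilGlue37
import Groth.Agent.Lib.WeilProjGeom37
import Groth.Agent.Lib.AbsRep2H52
import Groth.Agent.S17079

/-!
# Weil restriction along a finite locally free morphism: representability by an affine morphism
(helper37)

`main`: for `g : Z ⟶ S` finite, flat, locally of finite presentation and `f : X ⟶ S` affine, the
functor `Mor_S(Z, X)` is representable by a scheme affine over `S`.

The affine-local representing objects (`Lib/WeilProjGeom37.main'`) are glued with helper52's abstract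
representability criterion (`Lib/AbsRepH52`), applied to the total functor of `Lib/WeilGlue37`;
base change of sections uses helper27's `S17079.sectEquiv`.
-/

set_option autoImplicit false
universe u
open CategoryTheory CategoryTheory.Limits AlgebraicGeometry Opposite

namespace Groth.Agent.Lib.WeilGlueMain37

open Groth.Agent.Lib.WeilGlue37

section Local

variable {S Z X : Scheme.{u}} (g : Z ⟶ S) (f : X ⟶ S) {S' : Scheme.{u}} (h : S' ⟶ S)
  (W' : Over S') (R : (Flatn.morS (pullback.snd g h) (pullback.snd f h)).RepresentableBy W')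

/-- the local universal element -/
noncomputable def zeta : (tot (Flatn.morS g f)).obj (op W'.left) :=
  (⟨W'.hom ≫ h, (Groth.Agent.S17079.sectEquiv g f h W').symm (R.homEquiv (𝟙 W'))⟩ :
    Σ q : W'.left ⟶ S, (Flatn.morS g f).obj (op (Over.mk q)))

lemma zeta_fst : (zeta g f h W' R).1 = W'.hom ≫ h := rfl

theorem zeta_universal [IsOpenImmersion h] {T : Scheme.{u}}
    (ξ : (tot (Flatn.morS g f)).obj (op T)) (hξ : Set.range ξ.1 ⊆ Set.range h) :
    ∃! gT : T ⟶ W'.left, (tot (Flatn.morS g f)).map gT.op (zeta g f h W' R) = ξ := by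
  obtain ⟨qT, b⟩ := ξ
  obtain ⟨t', rfl⟩ : ∃ t' : T ⟶ S', qT = t' ≫ h :=
    ⟨IsOpenImmersion.lift h qT hξ, (IsOpenImmersion.lift_fac h qT hξ).symm⟩
  have key : ∀ τ' : Over.mk t' ⟶ W', R.homEquiv τ' =
      Groth.Agent.S17079.sectEquiv g f h (Over.mk t')
        ((Flatn.morS g f).map ((Over.map h).map τ').op (zeta g f h W' R).2) := by
    intro τ'
    rw [Groth.Agent.S17079.sectEquiv_natural]
    change _ = (Flatn.morS _ _).map τ'.op (Groth.Agent.S17079.sectEquiv g f h W'
      ((Groth.Agent.S17079.sectEquiv g f h W').symm (R.homEquiv (𝟙 W'))))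
    rw [Equiv.apply_symm_apply, ← R.homEquiv_comp, Category.comp_id]
  have hrel : ∀ (gT : T ⟶ W'.left) (hgT : gT ≫ W'.hom = t'),
      ((tot (Flatn.morS g f)).map gT.op (zeta g f h W' R) =
          (⟨t' ≫ h, b⟩ : Σ q : T ⟶ S, (Flatn.morS g f).obj (op (Over.mk q))) ↔
        (Flatn.morS g f).map ((Over.map h).map (Over.homMk gT hgT : Over.mk t' ⟶ W')).op
          (zeta g f h W' R).2 = b) := by
    intro gT hgT
    rw [tot_map_eq_iff]
    constructor
    · rintro ⟨h0, h2⟩
      exact h2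
    · intro h2
      exact ⟨by rw [zeta_fst, ← Category.assoc, hgT], h2⟩
  let b'' := Groth.Agent.S17079.sectEquiv g f h (Over.mk t') b
  let τ : Over.mk t' ⟶ W' := R.homEquiv.symm b''
  have hτ : R.homEquiv τ = b'' := R.homEquiv.apply_symm_apply b''
  have hτw : τ.left ≫ W'.hom = t' := Over.w τ
  refine ⟨τ.left, ?_, ?_⟩
  · refine (hrel τ.left hτw).mpr ?_
    apply (Groth.Agent.S17079.sectEquiv g f h (Over.mk t')).injective
    have h5 : (Over.homMk τ.left hτw : Over.mk t' ⟶ W') = τ := Over.OverMorphism.ext rfl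
    rw [h5, ← key τ, hτ]
  · intro gT' hgT'
    obtain ⟨h0, -⟩ := (tot_map_eq_iff _ gT' _ (t' ≫ h) b).mp hgT'
    have hw : gT' ≫ W'.hom = t' := by
      rw [← cancel_mono h, Category.assoc]
      exact h0
    have h3 := (hrel gT' hw).mp hgT'
    have h4 : R.homEquiv (Over.homMk gT' hw : Over.mk t' ⟶ W') = b'' := by
      rw [key, h3]
    have h5 : (Over.homMk gT' hw : Over.mk t' ⟶ W') = τ :=
      R.homEquiv.injective (h4.trans hτ.symm)
    exact congrArg (fun φ => φ.left) h5

end Local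

section Main

/-- the affine-local case -/
theorem local_rep {S' Z' X' : Scheme.{u}} [IsAffine S'] (g' : Z' ⟶ S') (f' : X' ⟶ S')
    (h1 : IsFinite g') (h2 : Flat g') (h3 : LocallyOfFinitePresentation g') [IsAffineHom f'] :
    ∃ W' : Over S', IsAffine W'.left ∧ Nonempty ((Flatn.morS g' f').RepresentableBy W') := by
  haveI : IsAffineHom g' := inferInstance
  haveI : IsAffine Z' := isAffine_of_isAffineHom g'
  haveI : IsAffine X' := isAffine_of_isAffineHom f'
  rw [HasAffineProperty.iff_of_isAffine (P := @IsFinite)] at h1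
  rw [HasRingHomProperty.iff_of_isAffine (P := @Flat)] at h2
  rw [HasRingHomProperty.iff_of_isAffine (P := @LocallyOfFinitePresentation)] at h3
  refine WeilProjGeom37.main' g' f' h1.2 ?_
  letI := g'.appTop.hom.toAlgebra
  haveI : Module.Finite Γ(S', ⊤) Γ(Z', ⊤) := h1.2
  haveI : Algebra.FinitePresentation Γ(S', ⊤) Γ(Z', ⊤) := h3
  haveI : Module.Flat Γ(S', ⊤) Γ(Z', ⊤) := h2
  haveI := Module.FinitePresentation.of_finite_of_finitePresentation Γ(S', ⊤) Γ(Z', ⊤)
  exact Module.Flat.projective_of_finitePresentation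

/-- **Weil restriction** along a finite locally free morphism, of a scheme affine over the base. -/
theorem main {Z X S : Scheme.{u}} (g : Z ⟶ S) (f : X ⟶ S) (hfin : IsFinite g) (hflat : Flat g)
    (hfp : LocallyOfFinitePresentation g) [IsAffineHom f] :
    ∃ W : Over S, IsAffineHom W.hom ∧ Nonempty ((Flatn.morS g f).RepresentableBy W) := by
  have hloc : ∀ a : S.affineOpens, ∃ W' : Over (a : S.Opens).toScheme, IsAffine W'.left ∧
      Nonempty ((Flatn.morS (pullback.snd g (a : S.Opens).ι)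
        (pullback.snd f (a : S.Opens).ι)).RepresentableBy W') := by
    intro a
    haveI : IsAffine (a : S.Opens).toScheme := a.2
    haveI : IsAffineHom (pullback.snd f (a : S.Opens).ι) :=
      MorphismProperty.pullback_snd (P := @IsAffineHom) _ _ inferInstance
    exact local_rep _ _ (MorphismProperty.pullback_snd (P := @IsFinite) _ _ hfin)
      (MorphismProperty.pullback_snd (P := @Flat) _ _ hflat)
      (MorphismProperty.pullback_snd (P := @LocallyOfFinitePresentation) _ _ hfp)
  choose W' hW'aff hW'rep using hloc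
  let R : ∀ a : S.affineOpens, (Flatn.morS (pullback.snd g (a : S.Opens).ι)
      (pullback.snd f (a : S.Opens).ι)).RepresentableBy (W' a) := fun a => (hW'rep a).some
  let F : Scheme.{u}ᵒᵖ ⥤ Type u := tot (Flatn.morS g f)
  let qF : ∀ ⦃T : Scheme.{u}⦄, F.obj (op T) → (T ⟶ S) := fun T ξ => ξ.1
  have hq : ∀ ⦃T T' : Scheme.{u}⦄ (r : T' ⟶ T) (ξ : F.obj (op T)),
      qF (F.map r.op ξ) = r ≫ qF ξ := fun _ _ _ _ => rfl
  let jF : ∀ a : S.affineOpens, (a : S.Opens).toScheme ⟶ S := fun a => (a : S.Opens).ι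
  haveI hj : ∀ a, IsOpenImmersion (jF a) := fun a => inferInstanceAs (IsOpenImmersion (a : S.Opens).ι)
  let ζ : ∀ a : S.affineOpens, F.obj (op (W' a).left) :=
    fun a => zeta g f (a : S.Opens).ι (W' a) (R a)
  have hζ : ∀ a, Set.range (qF (ζ a)) ⊆ Set.range (jF a) := by
    intro a
    rintro _ ⟨w, rfl⟩
    exact ⟨(W' a).hom w, (Scheme.Hom.comp_apply _ _ _).symm⟩
  have huniv : ∀ a ⦃T : Scheme.{u}⦄ (ξ : F.obj (op T)), Set.range (qF ξ) ⊆ Set.range (jF a) →
      ∃! gT : T ⟶ (W' a).left, F.map gT.op (ζ a) = ξ :=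
    fun a T ξ hξ => zeta_universal g f (a : S.Opens).ι (W' a) (R a) ξ hξ
  have hcov : ∀ b : S, ∃ a : S.affineOpens, b ∈ Set.range (jF a) := by
    intro b
    have hb : b ∈ (⊤ : S.Opens) := trivial
    rw [← iSup_affineOpens_eq_top S, TopologicalSpace.Opens.mem_iSup] at hb
    obtain ⟨a, ha⟩ := hb
    refine ⟨a, ?_⟩
    change b ∈ Set.range (a : S.Opens).ι
    rw [Scheme.Opens.range_ι]
    exact ha
  obtain ⟨V, ε, hε⟩ := AbsRepH52.exists_universal F qF hq jF ζ hζ huniv
    (isSheaf_tot_morS g f) hcov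
  refine ⟨Over.mk ε.1, ?_, representableBy_of_universal _ ε hε⟩
  change IsAffineHom ε.1
  refine ⟨fun U hU => ?_⟩
  obtain ⟨g₀, -⟩ := AbsRepH52.exists_locusIso F qF hq jF ζ hζ huniv ε hε ⟨U, hU⟩
  have hlocus : AbsRepH52.locus F qF jF ε ⟨U, hU⟩ = ε.1 ⁻¹ᵁ U := by
    unfold AbsRepH52.locus
    change ε.1 ⁻¹ᵁ (U.ι).opensRange = ε.1 ⁻¹ᵁ U
    rw [Scheme.Opens.opensRange_ι]
  rw [← hlocus]
  haveI := hW'aff ⟨U, hU⟩
  exact IsAffine.of_isIso g₀.hom

end Main

end Groth.Agent.Lib.WeilGlueMain37
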