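import Mathlib
import Groth.Prelude.Def_Flatn
import Groth.Agent.Lib.WeilGlue37
import Groth.Agent.Lib.WeilGlueMain37
import Groth.Agent.Lib.AbsRepLocus37
import Groth.Agent.Lib.AffComp13a

/-!
# Representability of `Mor_S(Z, X)` for `Z` finite locally free and `X` with the AF property
(helper37)

* `loc g f U ξ`: for `g` finite, the open locus of points `t ∈ T` whose fibre in `T ×_S Z` is mapped
  into the open `U ⊆ X` by the section `ξ`; `loc_map` (compatibility with pullback).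
* `zetaU`, `zetaU_universal`: a representing object of `Mor_S(Z, U)` represents the subfunctor
  `{ξ | loc U ξ = ⊤}` of the total functor.
* `exists_affine_loc`: the loci of affine opens cover, under the AF hypothesis.
* `rep_of_isAffine_base`, `rep_of_local`, `af_baseChange`, `main`.
-/

set_option autoImplicit false
universe u
open CategoryTheory CategoryTheory.Limits AlgebraicGeometry Opposite

namespace Groth.Agent.Lib.MorLocus37

open Groth.Agent.Lib
open Groth.Agent.Lib.WeilGlue37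

section Locus

variable {S Z X : Scheme.{u}} (g : Z ⟶ S) (f : X ⟶ S)

/-- points of `T` whose fibre in `T ×_S Z` is mapped into `U` -/
def locSet (U : X.Opens) {T : Scheme.{u}} (ξ : (tot (Flatn.morS g f)).obj (op T)) : Set T :=
  {t | ∀ y : ↥(pullback ξ.1 g), (pullback.fst ξ.1 g) y = t → (secL g f ξ.1 ξ.2) y ∈ U}

lemma isOpen_locSet [IsFinite g] (U : X.Opens) {T : Scheme.{u}}
    (ξ : (tot (Flatn.morS g f)).obj (op T)) : IsOpen (locSet g f U ξ) := by
  haveI : IsFinite (pullback.fst ξ.1 g) :=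
    MorphismProperty.pullback_fst (P := @IsFinite) _ _ inferInstance
  have hcl : IsClosedMap (pullback.fst ξ.1 g) := (pullback.fst ξ.1 g).isClosedMap
  have h1 : locSet g f U ξ =
      (⇑(pullback.fst ξ.1 g) '' (⇑(secL g f ξ.1 ξ.2) ⁻¹' ((U : Set X)ᶜ)))ᶜ := by
    ext t
    constructor
    · rintro h ⟨y, hy, hyt⟩
      exact hy (h y hyt)
    · intro h y hyt
      by_contra hy
      exact h ⟨y, hy, hyt⟩
  rw [h1]
  exact (hcl _ (U.isOpen.isClosed_compl.preimage (secL g f ξ.1 ξ.2).continuous)).isOpen_compl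

/-- the open locus of `T` over which the section maps the fibres into `U` -/
noncomputable def loc [IsFinite g] (U : X.Opens) ⦃T : Scheme.{u}⦄
    (ξ : (tot (Flatn.morS g f)).obj (op T)) : T.Opens :=
  ⟨locSet g f U ξ, isOpen_locSet g f U ξ⟩

lemma mem_loc [IsFinite g] (U : X.Opens) {T : Scheme.{u}}
    (ξ : (tot (Flatn.morS g f)).obj (op T)) (t : T) :
    t ∈ loc g f U ξ ↔ ∀ y : ↥(pullback ξ.1 g), (pullback.fst ξ.1 g) y = t →
      (secL g f ξ.1 ξ.2) y ∈ U := Iff.rfl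

lemma exists_lift_point {T T' : Scheme.{u}} (r : T' ⟶ T) (q : T ⟶ S) (y : ↥(pullback q g))
    (t' : T') (h : (pullback.fst q g) y = r t') :
    ∃ y' : ↥(pullback (r ≫ q) g), (pbMap g r q (r ≫ q) rfl) y' = y ∧
      (pullback.fst (r ≫ q) g) y' = t' := by
  have hsq : IsPullback (pbMap g r q (r ≫ q) rfl) (pullback.fst (r ≫ q) g)
      (pullback.fst q g) r := by
    have hright : IsPullback (pullback.snd q g) (pullback.fst q g) g q :=
      (IsPullback.of_hasPullback q g).flip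
    have hbig : IsPullback (pbMap g r q (r ≫ q) rfl ≫ pullback.snd q g)
        (pullback.fst (r ≫ q) g) g (r ≫ q) := by
      rw [pbMap_snd]
      exact (IsPullback.of_hasPullback (r ≫ q) g).flip
    exact IsPullback.of_right hbig (pbMap_fst g r q (r ≫ q) rfl) hright
  obtain ⟨z, hz1, hz2⟩ := Scheme.Pullback.exists_preimage_pullback
    (f := pullback.fst q g) (g := r) y t' h
  refine ⟨hsq.isoPullback.inv z, ?_, ?_⟩
  · rw [← Scheme.Hom.comp_apply, IsPullback.isoPullback_inv_fst, hz1]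
  · rw [← Scheme.Hom.comp_apply, IsPullback.isoPullback_inv_snd, hz2]

lemma loc_map [IsFinite g] (U : X.Opens) {T T' : Scheme.{u}} (r : T' ⟶ T)
    (ξ : (tot (Flatn.morS g f)).obj (op T)) :
    loc g f U ((tot (Flatn.morS g f)).map r.op ξ) = r ⁻¹ᵁ loc g f U ξ := by
  have hsec : ∀ y' : ↥(pullback (r ≫ ξ.1) g),
      (secL g f (r ≫ ξ.1) ((tot (Flatn.morS g f)).map r.op ξ).2) y' =
        (secL g f ξ.1 ξ.2) ((pbMap g r ξ.1 (r ≫ ξ.1) rfl) y') := by
    intro y'
    rw [← Scheme.Hom.comp_apply]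
    rfl
  apply TopologicalSpace.Opens.ext
  ext t'
  change t' ∈ loc g f U ((tot (Flatn.morS g f)).map r.op ξ) ↔ r t' ∈ loc g f U ξ
  rw [mem_loc, mem_loc]
  constructor
  · intro h y hy
    obtain ⟨y', hy'1, hy'2⟩ := exists_lift_point g r ξ.1 y t' hy
    have h2 := (congrArg (fun z => z ∈ U) (hsec y')).mp (h y' hy'2)
    rw [hy'1] at h2
    exact h2
  · intro h y' hy'
    have h1 : (pullback.fst ξ.1 g) ((pbMap g r ξ.1 (r ≫ ξ.1) rfl) y') = r t' := by
      rw [← Scheme.Hom.comp_apply, pbMap_fst, Scheme.Hom.comp_apply]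
      exact congrArg _ hy'
    exact (congrArg (fun z => z ∈ U) (hsec y')).mpr (h _ h1)

end Locus

section Univ

variable {S Z X : Scheme.{u}} (g : Z ⟶ S) (f : X ⟶ S) (U : X.Opens)

/-- inclusion of the sections with values in `U` -/
noncomputable def incl (T : Over S) (c : (Flatn.morS g (U.ι ≫ f)).obj (op T)) :
    (Flatn.morS g f).obj (op T) :=
  ((c : (Over.map g).obj ((Over.pullback g).obj T) ⟶ Over.mk (U.ι ≫ f)) ≫
    (Over.homMk U.ι rfl : Over.mk (U.ι ≫ f) ⟶ Over.mk f))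

lemma incl_map {T' T : Over S} (φ : T' ⟶ T) (c : (Flatn.morS g (U.ι ≫ f)).obj (op T)) :
    incl g f U T' ((Flatn.morS g (U.ι ≫ f)).map φ.op c) =
      (Flatn.morS g f).map φ.op (incl g f U T c) :=
  Category.assoc _ _ _

lemma incl_injective (T : Over S) (c c' : (Flatn.morS g (U.ι ≫ f)).obj (op T))
    (h : incl g f U T c = incl g f U T c') : c = c' := by
  apply Over.OverMorphism.ext
  have h1 := congrArg (fun φ => CommaMorphism.left φ) h
  change CommaMorphism.left c ≫ U.ι = CommaMorphism.left c' ≫ U.ι at h1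
  exact (cancel_mono U.ι).mp h1

variable [IsFinite g] (W : Over S) (R : (Flatn.morS g (U.ι ≫ f)).RepresentableBy W)

/-- the universal element over the representing object of `Mor_S(Z, U)` -/
noncomputable def zetaU : (tot (Flatn.morS g f)).obj (op W.left) :=
  (⟨W.hom, incl g f U W (R.homEquiv (𝟙 W))⟩ :
    Σ q : W.left ⟶ S, (Flatn.morS g f).obj (op (Over.mk q)))

lemma loc_zetaU : loc g f U (zetaU g f U W R) = ⊤ := by
  rw [eq_top_iff]
  intro t _
  rw [mem_loc]
  intro y _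
  change ((secL g (U.ι ≫ f) W.hom (R.homEquiv (𝟙 W)) ≫ U.ι) y) ∈ U
  rw [Scheme.Hom.comp_apply]
  exact ((secL g (U.ι ≫ f) W.hom (R.homEquiv (𝟙 W))) y).2

theorem zetaU_universal {T : Scheme.{u}} (ξ : (tot (Flatn.morS g f)).obj (op T))
    (hξ : loc g f U ξ = ⊤) :
    ∃! gT : T ⟶ W.left, (tot (Flatn.morS g f)).map gT.op (zetaU g f U W R) = ξ := by
  obtain ⟨q, b⟩ := ξ
  have hrange : Set.range (secL g f q b) ⊆ Set.range U.ι := by
    rw [Scheme.Opens.range_ι]
    rintro _ ⟨y, rfl⟩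
    have h1 : (pullback.fst q g) y ∈ loc g f U
        (⟨q, b⟩ : Σ q : T ⟶ S, (Flatn.morS g f).obj (op (Over.mk q))) := by
      rw [hξ]; trivial
    exact h1 y rfl
  let c₀ : pullback q g ⟶ U.toScheme := IsOpenImmersion.lift U.ι (secL g f q b) hrange
  have hc₀ : c₀ ≫ U.ι = secL g f q b := IsOpenImmersion.lift_fac _ _ _
  let c : (Flatn.morS g (U.ι ≫ f)).obj (op (Over.mk q)) :=
    mkSec g (U.ι ≫ f) q c₀ (by rw [← Category.assoc, hc₀]; exact secL_w g f q b)
  have hcb : incl g f U (Over.mk q) c = b := by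
    apply secL_ext
    exact hc₀
  have hR : ∀ τ' : Over.mk q ⟶ W, R.homEquiv τ' =
      (Flatn.morS g (U.ι ≫ f)).map τ'.op (R.homEquiv (𝟙 W)) := by
    intro τ'
    rw [← R.homEquiv_comp, Category.comp_id]
  let τ : Over.mk q ⟶ W := R.homEquiv.symm c
  have hτ : R.homEquiv τ = c := R.homEquiv.apply_symm_apply c
  have hrel : ∀ (gT : T ⟶ W.left) (hgT : gT ≫ W.hom = q),
      ((tot (Flatn.morS g f)).map gT.op (zetaU g f U W R) =
          (⟨q, b⟩ : Σ q : T ⟶ S, (Flatn.morS g f).obj (op (Over.mk q))) ↔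
        R.homEquiv (Over.homMk gT hgT : Over.mk q ⟶ W) = c) := by
    intro gT hgT
    rw [tot_map_eq_iff]
    constructor
    · rintro ⟨h0, h2⟩
      apply incl_injective g f U (Over.mk q)
      rw [hcb, hR, incl_map]
      exact h2
    · intro h2
      refine ⟨hgT, ?_⟩
      rw [← hcb, ← h2, hR, incl_map]
      rfl
  refine ⟨τ.left, ?_, ?_⟩
  · refine (hrel τ.left (Over.w τ)).mpr ?_
    have h5 : (Over.homMk τ.left (Over.w τ) : Over.mk q ⟶ W) = τ := Over.OverMorphism.ext rfl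
    rw [h5, hτ]
  · intro gT' hgT'
    obtain ⟨h0, -⟩ := (tot_map_eq_iff _ gT' _ q b).mp hgT'
    have h3 := (hrel gT' h0).mp hgT'
    have h5 : (Over.homMk gT' h0 : Over.mk q ⟶ W) = τ :=
      R.homEquiv.injective (h3.trans hτ.symm)
    exact congrArg (fun φ => CommaMorphism.left φ) h5

end Univ

section Main

variable {S Z X : Scheme.{u}} (g : Z ⟶ S) (f : X ⟶ S)

/-- under the AF hypothesis, the loci of the affine opens of `X` cover -/
theorem exists_affine_loc [IsFinite g]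
    (hAF : ∀ (s : S) (d : ℕ) (x : Fin d → ↥X), (∀ k, f (x k) = s) →
      ∃ U : X.Opens, IsAffineOpen U ∧ ∀ k, x k ∈ U)
    {T : Scheme.{u}} (ξ : (tot (Flatn.morS g f)).obj (op T)) (t : T) :
    ∃ U : X.affineOpens, t ∈ loc g f (U : X.Opens) ξ := by
  haveI : IsFinite (pullback.fst ξ.1 g) :=
    MorphismProperty.pullback_fst (P := @IsFinite) _ _ inferInstance
  have hfin : (⇑(pullback.fst ξ.1 g) ⁻¹' {t}).Finite :=
    (pullback.fst ξ.1 g).finite_preimage_singleton t
  obtain ⟨d, ⟨e⟩⟩ : ∃ d, Nonempty (hfin.toFinset ≃ Fin d) := ⟨_, ⟨hfin.toFinset.equivFin⟩⟩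
  have hpt : ∀ y : ↥(pullback ξ.1 g),
      f ((secL g f ξ.1 ξ.2) y) = ξ.1 ((pullback.fst ξ.1 g) y) := by
    intro y
    rw [← Scheme.Hom.comp_apply, ← Scheme.Hom.comp_apply, secL_w, pullback.condition]
  obtain ⟨U, hU, hxU⟩ := hAF (ξ.1 t) d (fun k => (secL g f ξ.1 ξ.2) (e.symm k).1) (by
    intro k
    rw [hpt]
    have h1 : (e.symm k).1 ∈ ⇑(pullback.fst ξ.1 g) ⁻¹' {t} := hfin.mem_toFinset.mp (e.symm k).2
    exact congrArg _ h1)
  refine ⟨⟨U, hU⟩, ?_⟩
  intro y hy
  have hy' : y ∈ hfin.toFinset := hfin.mem_toFinset.mpr hy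
  have h2 := hxU (e ⟨y, hy'⟩)
  simp only [Equiv.symm_apply_apply] at h2
  exact h2

/-- **Affine base.** -/
theorem rep_of_isAffine_base [IsAffine S] (hfin : IsFinite g) (hflat : Flat g)
    (hfp : LocallyOfFinitePresentation g)
    (hAF : ∀ (s : S) (d : ℕ) (x : Fin d → ↥X), (∀ k, f (x k) = s) →
      ∃ U : X.Opens, IsAffineOpen U ∧ ∀ k, x k ∈ U) :
    ∃ W : Over S, Nonempty ((Flatn.morS g f).RepresentableBy W) := by
  haveI := hfin
  have hloc : ∀ a : X.affineOpens, ∃ W' : Over S,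
      Nonempty ((Flatn.morS g ((a : X.Opens).ι ≫ f)).RepresentableBy W') := by
    intro a
    haveI : IsAffine (a : X.Opens).toScheme := a.2
    obtain ⟨W', -, hW'⟩ := WeilGlueMain37.local_rep g ((a : X.Opens).ι ≫ f) hfin hflat hfp
    exact ⟨W', hW'⟩
  choose W' hW' using hloc
  let R : ∀ a : X.affineOpens, (Flatn.morS g ((a : X.Opens).ι ≫ f)).RepresentableBy (W' a) :=
    fun a => (hW' a).some
  let F : Scheme.{u}ᵒᵖ ⥤ Type u := tot (Flatn.morS g f)
  let LF : X.affineOpens → ∀ ⦃T : Scheme.{u}⦄, F.obj (op T) → T.Opens :=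
    fun a T ξ => loc g f (a : X.Opens) ξ
  have hL : ∀ a ⦃T T' : Scheme.{u}⦄ (r : T' ⟶ T) (ξ : F.obj (op T)),
      LF a (F.map r.op ξ) = r ⁻¹ᵁ LF a ξ := fun a T T' r ξ => loc_map g f _ r ξ
  let ζ : ∀ a : X.affineOpens, F.obj (op (W' a).left) :=
    fun a => zetaU g f (a : X.Opens) (W' a) (R a)
  have hζ : ∀ a, LF a (ζ a) = ⊤ := fun a => loc_zetaU g f _ (W' a) (R a)
  have huniv : ∀ a ⦃T : Scheme.{u}⦄ (ξ : F.obj (op T)), LF a ξ = ⊤ →
      ∃! gT : T ⟶ (W' a).left, F.map gT.op (ζ a) = ξ :=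
    fun a T ξ hξ => zetaU_universal g f _ (W' a) (R a) ξ hξ
  have hcov : ∀ ⦃T : Scheme.{u}⦄ (ξ : F.obj (op T)) (t : T), ∃ a, t ∈ LF a ξ :=
    fun T ξ t => exists_affine_loc g f hAF ξ t
  obtain ⟨V, ε, hε⟩ := AbsRepLocus37.exists_universal F LF hL ζ hζ huniv
    (isSheaf_tot_morS g f) hcov
  exact ⟨Over.mk ε.1, representableBy_of_universal _ ε hε⟩

/-- **Localisation on the base.** -/
theorem rep_of_local
    (hloc : ∀ a : S.affineOpens, ∃ W' : Over (a : S.Opens).toScheme,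
      Nonempty ((Flatn.morS (pullback.snd g (a : S.Opens).ι)
        (pullback.snd f (a : S.Opens).ι)).RepresentableBy W')) :
    ∃ W : Over S, Nonempty ((Flatn.morS g f).RepresentableBy W) := by
  choose W' hW'rep using hloc
  let R : ∀ a : S.affineOpens, (Flatn.morS (pullback.snd g (a : S.Opens).ι)
      (pullback.snd f (a : S.Opens).ι)).RepresentableBy (W' a) := fun a => (hW'rep a).some
  let F : Scheme.{u}ᵒᵖ ⥤ Type u := tot (Flatn.morS g f)
  let qF : ∀ ⦃T : Scheme.{u}⦄, F.obj (op T) → (T ⟶ S) := fun T ξ => ξ.1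
  have hq : ∀ ⦃T T' : Scheme.{u}⦄ (r : T' ⟶ T) (ξ : F.obj (op T)),
      qF (F.map r.op ξ) = r ≫ qF ξ := fun _ _ _ _ => rfl
  let jF : ∀ a : S.affineOpens, (a : S.Opens).toScheme ⟶ S := fun a => (a : S.Opens).ι
  haveI hj : ∀ a, IsOpenImmersion (jF a) :=
    fun a => inferInstanceAs (IsOpenImmersion (a : S.Opens).ι)
  let ζ : ∀ a : S.affineOpens, F.obj (op (W' a).left) :=
    fun a => WeilGlueMain37.zeta g f (a : S.Opens).ι (W' a) (R a)
  have hζ : ∀ a, Set.range (qF (ζ a)) ⊆ Set.range (jF a) := by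
    intro a
    rintro _ ⟨w, rfl⟩
    exact ⟨(W' a).hom w, (Scheme.Hom.comp_apply _ _ _).symm⟩
  have huniv : ∀ a ⦃T : Scheme.{u}⦄ (ξ : F.obj (op T)), Set.range (qF ξ) ⊆ Set.range (jF a) →
      ∃! gT : T ⟶ (W' a).left, F.map gT.op (ζ a) = ξ :=
    fun a T ξ hξ => WeilGlueMain37.zeta_universal g f (a : S.Opens).ι (W' a) (R a) ξ hξ
  have hcov : ∀ b : S, ∃ a : S.affineOpens, b ∈ Set.range (jF a) := by
    intro b
    have hb : b ∈ (⊤ : S.Opens) := trivial
    rw [← iSup_affineOpens_eq_top S, TopologicalSpace.Opens.mem_iSup] at hb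
    obtain ⟨a, ha⟩ := hb
    refine ⟨a, ?_⟩
    change b ∈ Set.range (a : S.Opens).ι
    rw [Scheme.Opens.range_ι]
    exact ha
  obtain ⟨V, ε, hε⟩ := AbsRepH52.exists_universal F qF hq jF ζ hζ huniv
    (isSheaf_tot_morS g f) hcov
  exact ⟨Over.mk ε.1, representableBy_of_universal _ ε hε⟩

/-- The AF property passes to the restriction over an open of the base. -/
theorem af_baseChange
    (hAF : ∀ (s : S) (d : ℕ) (x : Fin d → ↥X), (∀ k, f (x k) = s) →
      ∃ U : X.Opens, IsAffineOpen U ∧ ∀ k, x k ∈ U) (a : S.Opens)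
    (s' : ↥(a.toScheme)) (d : ℕ) (x' : Fin d → ↥(pullback f a.ι))
    (hx' : ∀ k, (pullback.snd f a.ι) (x' k) = s') :
    ∃ U' : (pullback f a.ι).Opens, IsAffineOpen U' ∧ ∀ k, x' k ∈ U' := by
  have hx : ∀ k, f ((pullback.fst f a.ι) (x' k)) = a.ι s' := by
    intro k
    rw [← Scheme.Hom.comp_apply, pullback.condition, Scheme.Hom.comp_apply, hx' k]
  obtain ⟨U₀, hU₀, hxU₀⟩ := hAF (a.ι s') d (fun k => (pullback.fst f a.ι) (x' k)) hx
  obtain ⟨b, hb1, hb2⟩ := AffComp13a.exists_basicOpen_of_finite_of_isAffineOpen hU₀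
    (pullback.fst f a.ι).opensRange (Set.range fun k => (pullback.fst f a.ι) (x' k))
    (Set.finite_range _) (by rintro _ ⟨k, rfl⟩; exact hxU₀ k)
    (by rintro _ ⟨k, rfl⟩; exact ⟨x' k, rfl⟩)
  refine ⟨(pullback.fst f a.ι) ⁻¹ᵁ X.basicOpen b, ?_, fun k => hb1 ⟨k, rfl⟩⟩
  rw [← (pullback.fst f a.ι).isAffineOpen_iff_of_isOpenImmersion,
    (pullback.fst f a.ι).image_preimage_eq_opensRange_inf, inf_eq_right.mpr hb2]
  exact hU₀.basicOpen b

/-- **Representability of `Mor_S(Z, X)`** for `Z` finite locally free over `S` and `X` with the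
AF property relative to `S`. -/
theorem main (hfin : IsFinite g) (hflat : Flat g) (hfp : LocallyOfFinitePresentation g)
    (hAF : ∀ (s : S) (d : ℕ) (x : Fin d → ↥X), (∀ k, f (x k) = s) →
      ∃ U : X.Opens, IsAffineOpen U ∧ ∀ k, x k ∈ U) :
    ∃ W : Over S, Nonempty ((Flatn.morS g f).RepresentableBy W) := by
  refine rep_of_local g f (fun a => ?_)
  haveI : IsAffine (a : S.Opens).toScheme := a.2
  exact rep_of_isAffine_base (pullback.snd g (a : S.Opens).ι) (pullback.snd f (a : S.Opens).ι)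
    (MorphismProperty.pullback_snd (P := @IsFinite) _ _ hfin)
    (MorphismProperty.pullback_snd (P := @Flat) _ _ hflat)
    (MorphismProperty.pullback_snd (P := @LocallyOfFinitePresentation) _ _ hfp)
    (af_baseChange f hAF (a : S.Opens))

end Main

end Groth.Agent.Lib.MorLocus37
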