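import Mathlib
import Groth.Prelude.Def_Flatn
import Groth.Agent.Lib.WeilGlue37
import Groth.Agent.Lib.MorLocus37

/-!
# `Mor_S(X, U) ⊆ Mor_S(X, Y)` is an open subfunctor for `X` universally closed over `S` (helper37)

`main`: if `M` represents `Mor_S(X, Y)` then the open locus `M₀ ⊆ M` where the universal morphism
maps the fibres into the open `U ⊆ Y` represents `Mor_S(X, U)`, compatibly.
-/

set_option autoImplicit false
universe u v w
open CategoryTheory CategoryTheory.Limits AlgebraicGeometry Opposite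

namespace Groth.Agent.Lib.MorOpenSub37

open Groth.Agent.Lib
open Groth.Agent.Lib.WeilGlue37 Groth.Agent.Lib.MorLocus37

theorem exists_representableBy_of_rel {C : Type w} [Category.{v} C] (F : Cᵒᵖ ⥤ Type v) (W : C)
    (Rel : ∀ T : C, (T ⟶ W) → F.obj (op T) → Prop)
    (h1 : ∀ T (t : T ⟶ W), ∃! b, Rel T t b)
    (h2 : ∀ T (b : F.obj (op T)), ∃! t, Rel T t b)
    (h3 : ∀ (T' T : C) (h : T' ⟶ T) (t : T ⟶ W) (b : F.obj (op T)),
      Rel T t b → Rel T' (h ≫ t) (F.map h.op b)) :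
    ∃ R : F.RepresentableBy W, ∀ T (t : T ⟶ W), Rel T t (R.homEquiv t) := by
  choose f hf using h1
  choose g hg using h2
  refine ⟨{ homEquiv := fun {T} =>
              { toFun := f T, invFun := g T, left_inv := ?_, right_inv := ?_ }
            homEquiv_comp := ?_ }, fun T t => (hf T t).1⟩
  · intro t
    exact ((hg T (f T t)).2 t (hf T t).1).symm
  · intro b
    exact ((hf T (g T b)).2 b (hg T b).1).symm
  · intro T' T h t
    exact ((hf T' (h ≫ t)).2 _ (h3 T' T h t _ (hf T t).1)).symm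

section

variable {S X Y : Scheme.{u}} (g : X ⟶ S) (f : Y ⟶ S)

lemma isOpen_locSet' [UniversallyClosed g] (U : Y.Opens) {T : Scheme.{u}}
    (ξ : (tot (Flatn.morS g f)).obj (op T)) : IsOpen (locSet g f U ξ) := by
  haveI : UniversallyClosed (pullback.fst ξ.1 g) :=
    MorphismProperty.pullback_fst (P := @UniversallyClosed) _ _ inferInstance
  have hcl : IsClosedMap (pullback.fst ξ.1 g) := (pullback.fst ξ.1 g).isClosedMap
  have h1 : locSet g f U ξ =
      (⇑(pullback.fst ξ.1 g) '' (⇑(secL g f ξ.1 ξ.2) ⁻¹' ((U : Set Y)ᶜ)))ᶜ := by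
    ext t
    constructor
    · rintro h ⟨y, hy, hyt⟩
      exact hy (h y hyt)
    · intro h y hyt
      by_contra hy
      exact h ⟨y, hy, hyt⟩
  rw [h1]
  exact (hcl _ (U.isOpen.isClosed_compl.preimage (secL g f ξ.1 ξ.2).continuous)).isOpen_compl

lemma locSet_map (U : Y.Opens) {T T' : Scheme.{u}} (r : T' ⟶ T)
    (ξ : (tot (Flatn.morS g f)).obj (op T)) :
    locSet g f U ((tot (Flatn.morS g f)).map r.op ξ) = ⇑r ⁻¹' locSet g f U ξ := by
  have hsec : ∀ y' : ↥(pullback (r ≫ ξ.1) g),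
      (secL g f (r ≫ ξ.1) ((tot (Flatn.morS g f)).map r.op ξ).2) y' =
        (secL g f ξ.1 ξ.2) ((pbMap g r ξ.1 (r ≫ ξ.1) rfl) y') := by
    intro y'
    rw [← Scheme.Hom.comp_apply]
    rfl
  ext t'
  change (∀ y' : ↥(pullback (r ≫ ξ.1) g), (pullback.fst (r ≫ ξ.1) g) y' = t' →
      (secL g f (r ≫ ξ.1) ((tot (Flatn.morS g f)).map r.op ξ).2) y' ∈ U) ↔
    (∀ y : ↥(pullback ξ.1 g), (pullback.fst ξ.1 g) y = r t' → (secL g f ξ.1 ξ.2) y ∈ U)
  constructor
  · intro h y hy
    obtain ⟨y', hy'1, hy'2⟩ := exists_lift_point g r ξ.1 y t' hy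
    have h2 := (congrArg (fun z => z ∈ U) (hsec y')).mp (h y' hy'2)
    rw [hy'1] at h2
    exact h2
  · intro h y' hy'
    have h1 : (pullback.fst ξ.1 g) ((pbMap g r ξ.1 (r ≫ ξ.1) rfl) y') = r t' := by
      rw [← Scheme.Hom.comp_apply, pbMap_fst, Scheme.Hom.comp_apply]
      exact congrArg _ hy'
    exact (congrArg (fun z => z ∈ U) (hsec y')).mpr (h _ h1)

variable {U : Scheme.{u}} (j : U ⟶ Y)

/-- inclusion of the sections with values in `U` -/
noncomputable def inclJ (T : Over S) (c : (Flatn.morS g (j ≫ f)).obj (op T)) :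
    (Flatn.morS g f).obj (op T) :=
  ((c : (Over.map g).obj ((Over.pullback g).obj T) ⟶ Over.mk (j ≫ f)) ≫
    (Over.homMk j rfl : Over.mk (j ≫ f) ⟶ Over.mk f))

lemma inclJ_map {T' T : Over S} (φ : T' ⟶ T) (c : (Flatn.morS g (j ≫ f)).obj (op T)) :
    inclJ g f j T' ((Flatn.morS g (j ≫ f)).map φ.op c) =
      (Flatn.morS g f).map φ.op (inclJ g f j T c) :=
  Category.assoc _ _ _

lemma inclJ_injective [Mono j] (T : Over S) (c c' : (Flatn.morS g (j ≫ f)).obj (op T))
    (h : inclJ g f j T c = inclJ g f j T c') : c = c' := by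
  apply Over.OverMorphism.ext
  have h1 := congrArg (fun φ => CommaMorphism.left φ) h
  change CommaMorphism.left c ≫ j = CommaMorphism.left c' ≫ j at h1
  exact (cancel_mono j).mp h1

/-- **Open subfunctor.** -/
theorem main [UniversallyClosed g] [IsOpenImmersion j] (M : Over S)
    (e : (Flatn.morS g f).RepresentableBy M) :
    ∃ (M₀ : M.left.Opens)
      (e₀ : (Flatn.morS g (j ≫ f)).RepresentableBy (Over.mk (M₀.ι ≫ M.hom))),
      ∀ (T : Over S) (φ : T ⟶ Over.mk (M₀.ι ≫ M.hom)),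
        (e.homEquiv (φ ≫ Over.homMk M₀.ι rfl) :
            (Over.map g).obj ((Over.pullback g).obj T) ⟶ Over.mk f) =
          (e₀.homEquiv φ : (Over.map g).obj ((Over.pullback g).obj T) ⟶ Over.mk (j ≫ f)) ≫
            (Over.homMk j rfl : Over.mk (j ≫ f) ⟶ Over.mk f) := by
  let ξu : (tot (Flatn.morS g f)).obj (op M.left) :=
    (⟨M.hom, e.homEquiv (𝟙 M)⟩ : Σ q : M.left ⟶ S, (Flatn.morS g f).obj (op (Over.mk q)))
  let M₀ : M.left.Opens := ⟨locSet g f j.opensRange ξu, isOpen_locSet' g f j.opensRange ξu⟩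
  have key : ∀ (T : Over S) (b : (Flatn.morS g f).obj (op T)) (τ : T ⟶ M), e.homEquiv τ = b →
      locSet g f j.opensRange
        (⟨T.hom, b⟩ : Σ q : T.left ⟶ S, (Flatn.morS g f).obj (op (Over.mk q))) =
        ⇑τ.left ⁻¹' (M₀ : Set M.left) := by
    intro T b τ hτ
    have h1 : (tot (Flatn.morS g f)).map τ.left.op ξu =
        (⟨T.hom, b⟩ : Σ q : T.left ⟶ S, (Flatn.morS g f).obj (op (Over.mk q))) := by
      refine (tot_map_eq_iff _ τ.left ξu T.hom b).mpr ⟨Over.w τ, ?_⟩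
      have h5 : (ovHom τ.left M.hom T.hom (Over.w τ) : Over.mk T.hom ⟶ Over.mk M.hom) = τ :=
        Over.OverMorphism.ext rfl
      change (Flatn.morS g f).map (ovHom τ.left M.hom T.hom (Over.w τ)).op (e.homEquiv (𝟙 M)) = b
      rw [h5, ← e.homEquiv_comp]
      exact (congrArg e.homEquiv (Category.comp_id τ)).trans hτ
    rw [← h1, locSet_map]
    rfl
  refine ⟨M₀, ?_⟩
  suffices hsuff : ∃ R : (Flatn.morS g (j ≫ f)).RepresentableBy (Over.mk (M₀.ι ≫ M.hom)),
      ∀ (T : Over S) (φ : T ⟶ Over.mk (M₀.ι ≫ M.hom)),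
        inclJ g f j T (R.homEquiv φ) = e.homEquiv (φ ≫ Over.homMk M₀.ι rfl) by
    obtain ⟨e₀, he₀⟩ := hsuff
    exact ⟨e₀, fun T φ => (he₀ T φ).symm⟩
  refine exists_representableBy_of_rel (Flatn.morS g (j ≫ f))
    (Over.mk (M₀.ι ≫ M.hom))
    (fun T φ c => inclJ g f j T c = e.homEquiv (φ ≫ Over.homMk M₀.ι rfl)) ?_ ?_ ?_
  · intro T φ
    have hK := key T (e.homEquiv (φ ≫ Over.homMk M₀.ι rfl)) (φ ≫ Over.homMk M₀.ι rfl) rfl
    have hrange : Set.range (secL g f T.hom (e.homEquiv (φ ≫ Over.homMk M₀.ι rfl))) ⊆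
        Set.range j := by
      rintro _ ⟨y, rfl⟩
      have h1 : (pullback.fst T.hom g) y ∈ locSet g f j.opensRange
          (⟨T.hom, e.homEquiv (φ ≫ Over.homMk M₀.ι rfl)⟩ :
            Σ q : T.left ⟶ S, (Flatn.morS g f).obj (op (Over.mk q))) := by
        rw [hK]
        change (φ.left ≫ M₀.ι) ((pullback.fst T.hom g) y) ∈ (M₀ : Set M.left)
        rw [Scheme.Hom.comp_apply]
        exact (φ.left ((pullback.fst T.hom g) y)).2
      exact h1 y rfl
    have hc₀ : IsOpenImmersion.lift j (secL g f T.hom (e.homEquiv (φ ≫ Over.homMk M₀.ι rfl)))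
        hrange ≫ j = secL g f T.hom (e.homEquiv (φ ≫ Over.homMk M₀.ι rfl)) :=
      IsOpenImmersion.lift_fac _ _ _
    refine ⟨mkSec g (j ≫ f) T.hom (IsOpenImmersion.lift j _ hrange)
      (by rw [← Category.assoc, hc₀]; exact secL_w g f T.hom _), ?_, ?_⟩
    · apply secL_ext
      exact hc₀
    · intro c' hc'
      apply inclJ_injective g f j T
      refine hc'.trans ?_
      symm
      apply secL_ext
      exact hc₀
  · intro T c
    have hτ : e.homEquiv (e.homEquiv.symm (inclJ g f j T c)) = inclJ g f j T c :=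
      e.homEquiv.apply_symm_apply _
    have hK := key T (inclJ g f j T c) (e.homEquiv.symm (inclJ g f j T c)) hτ
    have hrange : Set.range (e.homEquiv.symm (inclJ g f j T c)).left ⊆ Set.range M₀.ι := by
      rw [Scheme.Opens.range_ι]
      rintro _ ⟨t, rfl⟩
      have h1 : t ∈ locSet g f j.opensRange
          (⟨T.hom, inclJ g f j T c⟩ :
            Σ q : T.left ⟶ S, (Flatn.morS g f).obj (op (Over.mk q))) := by
        intro y _
        change (secL g (j ≫ f) T.hom c ≫ j) y ∈ j.opensRange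
        rw [Scheme.Hom.comp_apply]
        exact ⟨_, rfl⟩
      rw [hK] at h1
      exact h1
    have hφ₀ : IsOpenImmersion.lift M₀.ι (e.homEquiv.symm (inclJ g f j T c)).left hrange ≫ M₀.ι =
        (e.homEquiv.symm (inclJ g f j T c)).left := IsOpenImmersion.lift_fac _ _ _
    let φ : T ⟶ Over.mk (M₀.ι ≫ M.hom) :=
      Over.homMk (IsOpenImmersion.lift M₀.ι (e.homEquiv.symm (inclJ g f j T c)).left hrange) (by
        change _ ≫ M₀.ι ≫ M.hom = T.hom
        rw [← Category.assoc, hφ₀]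
        exact Over.w _)
    have hφτ : φ ≫ Over.homMk M₀.ι rfl = e.homEquiv.symm (inclJ g f j T c) :=
      Over.OverMorphism.ext hφ₀
    refine ⟨φ, ?_, ?_⟩
    · change inclJ g f j T c = e.homEquiv (φ ≫ Over.homMk M₀.ι rfl)
      rw [hφτ, hτ]
    · intro φ' hφ'
      have h4 : φ' ≫ Over.homMk M₀.ι rfl = e.homEquiv.symm (inclJ g f j T c) :=
        e.homEquiv.injective (hφ'.symm.trans hτ.symm)
      apply Over.OverMorphism.ext
      have h5 := congrArg (fun ψ => CommaMorphism.left ψ) (h4.trans hφτ.symm)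
      change φ'.left ≫ M₀.ι = φ.left ≫ M₀.ι at h5
      exact (cancel_mono M₀.ι).mp h5
  · intro T' T h φ c hc
    change inclJ g f j T' ((Flatn.morS g (j ≫ f)).map h.op c) =
      e.homEquiv ((h ≫ φ) ≫ Over.homMk M₀.ι rfl)
    rw [inclJ_map, hc, Category.assoc]
    exact (e.homEquiv_comp h (φ ≫ Over.homMk M₀.ι rfl)).symm

end

end Groth.Agent.Lib.MorOpenSub37
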