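import Mathlib

/-!
# Homogenized translate identity (helper75, for S16367)
-/

set_option autoImplicit false

namespace Groth.Agent.Lib.MovLem75

open Polynomial

universe u

variable {k : Type u} [CommRing k] {d n : ℕ}

local notation "PP" => MvPolynomial (Fin d ⊕ Fin n) k

/-- the translated term of a monomial -/
noncomputable def term (U : MvPolynomial (Fin d ⊕ Fin n) k) (v : Fin d → k) (N s : ℕ)
    (m : (Fin d ⊕ Fin n) →₀ ℕ) (a : k) : Polynomial (MvPolynomial (Fin d ⊕ Fin n) k) :=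
  C (MvPolynomial.C a) * X ^ (N - ∑ i : Fin d, m (Sum.inl i)) *
    (∏ i : Fin d, (X * C (MvPolynomial.X (Sum.inl i)) +
        C (U ^ s * MvPolynomial.C (v i))) ^ m (Sum.inl i)) *
    ∏ j : Fin n, C (MvPolynomial.X (Sum.inr j)) ^ m (Sum.inr j)

/-- the untranslated term -/
theorem term_main (N : ℕ) (m : (Fin d ⊕ Fin n) →₀ ℕ) (a : k)
    (hm : ∑ i : Fin d, m (Sum.inl i) ≤ N) :
    C (MvPolynomial.C a) * X ^ (N - ∑ i : Fin d, m (Sum.inl i)) *
      (∏ i : Fin d, (X * C (MvPolynomial.X (Sum.inl i)) :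
        Polynomial (MvPolynomial (Fin d ⊕ Fin n) k)) ^ m (Sum.inl i)) *
      ∏ j : Fin n, C (MvPolynomial.X (Sum.inr j)) ^ m (Sum.inr j) =
    X ^ N * C (MvPolynomial.monomial m a) := by
  have h1 : (MvPolynomial.monomial m a : MvPolynomial (Fin d ⊕ Fin n) k) =
      MvPolynomial.C a * ((∏ i : Fin d, MvPolynomial.X (Sum.inl i) ^ m (Sum.inl i)) *
        ∏ j : Fin n, MvPolynomial.X (Sum.inr j) ^ m (Sum.inr j)) := by
    rw [MvPolynomial.monomial_eq, Finsupp.prod_fintype _ _ (fun i => pow_zero _),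
      Fintype.prod_sum_type]
  have h2 : (X : Polynomial (MvPolynomial (Fin d ⊕ Fin n) k)) ^ N =
      X ^ (N - ∑ i : Fin d, m (Sum.inl i)) * ∏ i : Fin d, X ^ m (Sum.inl i) := by
    rw [Finset.prod_pow_eq_pow_sum, ← pow_add, Nat.sub_add_cancel hm]
  rw [h1, h2]
  simp only [mul_pow, Finset.prod_mul_distrib, map_mul, map_prod, map_pow]
  ring

theorem prod_sub_mem {R : Type*} [CommRing R] (I : Ideal R) {ι : Type*} (S : Finset ι)
    (A B : ι → R) (e : ι → ℕ) (hB : ∀ i ∈ S, B i ∈ I) :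
    ∏ i ∈ S, (A i + B i) ^ e i - ∏ i ∈ S, A i ^ e i ∈ I := by
  rw [← Ideal.Quotient.eq, map_prod, map_prod]
  apply Finset.prod_congr rfl
  intro i hi
  rw [map_pow, map_pow, map_add, Ideal.Quotient.eq_zero_iff_mem.2 (hB i hi), add_zero]

/-- each translated term agrees with `τ^N · (monomial)` modulo `U^s`. -/
theorem term_sub_mem (U : MvPolynomial (Fin d ⊕ Fin n) k) (v : Fin d → k) (N s : ℕ)
    (m : (Fin d ⊕ Fin n) →₀ ℕ) (a : k) (hm : ∑ i : Fin d, m (Sum.inl i) ≤ N) :
    term U v N s m a - X ^ N * C (MvPolynomial.monomial m a) ∈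
      Ideal.span ({C (U ^ s)} : Set (Polynomial (MvPolynomial (Fin d ⊕ Fin n) k))) := by
  rw [← term_main N m a hm, term]
  have h := prod_sub_mem
    (Ideal.span ({C (U ^ s)} : Set (Polynomial (MvPolynomial (Fin d ⊕ Fin n) k))))
    (Finset.univ : Finset (Fin d))
    (fun i => (X * C (MvPolynomial.X (Sum.inl i)) : Polynomial (MvPolynomial (Fin d ⊕ Fin n) k)))
    (fun i => C (U ^ s * MvPolynomial.C (v i))) (fun i => m (Sum.inl i)) (by
      intro i _
      rw [map_mul]
      exact Ideal.mul_mem_right _ _ (Ideal.subset_span rfl))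
  have h2 := Ideal.mul_mem_left _
    (C (MvPolynomial.C a) * X ^ (N - ∑ i : Fin d, m (Sum.inl i)) *
      ∏ j : Fin n, C (MvPolynomial.X (Sum.inr j)) ^ m (Sum.inr j) :
        Polynomial (MvPolynomial (Fin d ⊕ Fin n) k)) h
  convert h2 using 1
  ring

/-- when there are no `x`-variables in the monomial the term is exact -/
theorem term_eq_of_zero (U : MvPolynomial (Fin d ⊕ Fin n) k) (v : Fin d → k) (s : ℕ)
    (m : (Fin d ⊕ Fin n) →₀ ℕ) (a : k) (hm : ∑ i : Fin d, m (Sum.inl i) ≤ 0) :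
    term U v 0 s m a = C (MvPolynomial.monomial m a) := by
  have hz : ∀ i : Fin d, m (Sum.inl i) = 0 := by
    intro i
    have := Finset.single_le_sum (f := fun i : Fin d => m (Sum.inl i)) (fun _ _ => Nat.zero_le _)
      (Finset.mem_univ i)
    omega
  have h := term_main 0 m a hm
  rw [pow_zero, one_mul] at h
  rw [← h, term]
  simp only [hz, pow_zero]

/-- the translated polynomial `φ` of `g` -/
noncomputable def phi (U : MvPolynomial (Fin d ⊕ Fin n) k) (v : Fin d → k) (N s : ℕ)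
    (g : MvPolynomial (Fin d ⊕ Fin n) k) : Polynomial (MvPolynomial (Fin d ⊕ Fin n) k) :=
  ∑ m ∈ g.support, term U v N s m (MvPolynomial.coeff m g)

theorem phi_sub_mem (U : MvPolynomial (Fin d ⊕ Fin n) k) (v : Fin d → k) (N s : ℕ)
    (g : MvPolynomial (Fin d ⊕ Fin n) k)
    (hdeg : ∀ m ∈ g.support, ∑ i : Fin d, m (Sum.inl i) ≤ N) :
    phi U v N s g - X ^ N * C g ∈
      Ideal.span ({C (U ^ s)} : Set (Polynomial (MvPolynomial (Fin d ⊕ Fin n) k))) := by
  have hg : X ^ N * C g = ∑ m ∈ g.support,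
      (X ^ N * C (MvPolynomial.monomial m (MvPolynomial.coeff m g)) :
        Polynomial (MvPolynomial (Fin d ⊕ Fin n) k)) := by
    conv_lhs => rw [MvPolynomial.as_sum g]
    rw [map_sum, Finset.mul_sum]
  rw [hg, phi, ← Finset.sum_sub_distrib]
  exact Ideal.sum_mem _ (fun m hm => term_sub_mem U v N s m _ (hdeg m hm))

theorem phi_zero (U : MvPolynomial (Fin d ⊕ Fin n) k) (v : Fin d → k) (s : ℕ)
    (g : MvPolynomial (Fin d ⊕ Fin n) k)
    (hdeg : ∀ m ∈ g.support, ∑ i : Fin d, m (Sum.inl i) ≤ 0) :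
    phi U v 0 s g = C g := by
  conv_rhs => rw [MvPolynomial.as_sum g]
  rw [map_sum, phi]
  exact Finset.sum_congr rfl (fun m hm => term_eq_of_zero U v s m _ (hdeg m hm))

end Groth.Agent.Lib.MovLem75
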