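import Groth.Agent.Lib.StabGeom48b
import Groth.Agent.Lib.TopPart48

/-!
# Geometric toolkit for (semi)stability, part c (helper48): truncated and slope (semi)stability

* `isEllSemistable_of_isSemistable` (S15222), `isSemistable_iff_isEllSemistable` (S15217),
  `isStable_iff_isEllStable` (S15218), `isMuSemistable_of_isSemistable` (S15210).
-/

set_option autoImplicit false
set_option linter.style.haveILetI false
universe u
open CategoryTheory CategoryTheory.Limits AlgebraicGeometry TopologicalSpace Polynomial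

namespace Groth.Agent.Lib.StabGeom48

open Groth.Agent.Lib Groth.Agent.Lib.HilbPoly48 Groth.Agent.Lib.H90DevHub2 Groth.Agent.Lib.TopPart48

section General

variable {k : Type u} [Field k] {X : Scheme.{u}} [X.Over (Spec (CommRingCat.of k))]

theorem not_isZero_of_alpha_pos {L F : X.Modules} {d : ℕ} {pF : ℚ[X]}
    (hpF : ShStab.IsHilbPoly k X L F pF) (h : 0 < StabCat.alpha d pF) : ¬ IsZero F := fun hz => by
  rw [isHilbPoly_unique hpF (isHilbPoly_zero k X L hz), alpha_zero] at h
  exact lt_irrefl _ h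

theorem not_isIso_of_alpha_lt {L F E : X.Modules} {d : ℕ} (ι : F ⟶ E) {pF pE : ℚ[X]}
    (hpF : ShStab.IsHilbPoly k X L F pF) (hpE : ShStab.IsHilbPoly k X L E pE)
    (h : StabCat.alpha d pF < StabCat.alpha d pE) : ¬ IsIso ι := fun hiso => by
  haveI := hiso
  rw [isHilbPoly_unique hpE (isHilbPoly_congr (asIso ι) hpF)] at h
  exact lt_irrefl _ h

theorem dim_support_of_isZero {F : X.Modules} (hz : IsZero F) :
    topologicalKrullDim (CohB1.support F) = ⊥ := by
  rw [support_eq_empty_of_isZero hz]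
  unfold topologicalKrullDim
  rw [Order.krullDim_eq_bot_iff]
  exact ⟨fun c => c.isIrreducible.nonempty.some.2⟩

end General

section Proper

variable (H : ProperFinHyp.Hyp.{u})
variable (k : Type u) [Field k] (X : Scheme.{u}) [X.Over (Spec (CommRingCat.of k))]
  [IsProper (X ↘ Spec (CommRingCat.of k))]

include H in
theorem natDegree_le_of_mono {L : X.Modules} (hL : CohB1.IsAmple L) {d : ℕ} {E F : X.Modules}
    (hdim : topologicalKrullDim (CohB1.support E) ≤ (d : WithBot ℕ∞)) (ι : F ⟶ E) [Mono ι]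
    (hF : Coh.IsCoh F) {pF : ℚ[X]} (hpF : ShStab.IsHilbPoly k X L F pF) : pF.natDegree ≤ d :=
  natDegree_le_of_isHilbPoly k X H hL.1 hF d
    ((DimDrop.topologicalKrullDim_mono (support_subset_of_mono ι)).trans hdim) hpF

include H in
/-- **S15222.** -/
theorem isEllSemistable_of_isSemistable {L : X.Modules} (hL : CohB1.IsAmple L) (d ℓ : ℕ)
    {E : X.Modules} (hE : ShStab.IsSemistable k X L E d) : ShStab.IsEllSemistable k X L E d ℓ := by
  obtain ⟨hEc, hE0, hEp, hEss⟩ := hE
  refine ⟨hEc, hE0, hEp, ?_⟩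
  intro F ι hι hF pF pE hpF hpE h1 h2
  haveI := hι
  have hdim := dim_of_isPure hEp hEc hE0
  have hdF := natDegree_le_of_mono H k X hL hdim.le ι hF hpF
  have hdE := natDegree_le_of_isHilbPoly k X H hL.1 hEc d hdim.le hpE
  exact redLE_topPart hdF hdE
    (hEss F ι hι hF (not_isZero_of_alpha_pos hpF h1) (not_isIso_of_alpha_lt ι hpF hpE h2) pF pE hpF hpE)

include H in
/-- `α_d(F) ≤ α_d(E)` for a coherent submodule. -/
theorem alpha_le_of_mono {L : X.Modules} (hL : CohB1.IsAmple L) {d : ℕ} {E F : X.Modules}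
    (hEc : Coh.IsCoh E) (hdim : topologicalKrullDim (CohB1.support E) ≤ (d : WithBot ℕ∞))
    (ι : F ⟶ E) [Mono ι] (hF : Coh.IsCoh F) {pF pE : ℚ[X]} (hpF : ShStab.IsHilbPoly k X L F pF)
    (hpE : ShStab.IsHilbPoly k X L E pE) : StabCat.alpha d pF ≤ StabCat.alpha d pE := by
  haveI : F.IsQuasicoherent := hF.1
  have hC : Coh.IsCoh (cokernel ι) := H90OXModExact.isCoh_cokernel ι hEc
  have hPC := isHilbPoly_sub_left H k X hL.1 _ (H90DevTwo.shortExact_cokernel ι) hF hEc hC hpF hpE
  have hdC : topologicalKrullDim (CohB1.support (cokernel ι)) ≤ (d : WithBot ℕ∞) :=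
    (DimDrop.topologicalKrullDim_mono (support_subset_of_epi (cokernel.π ι))).trans hdim
  have hC0 : 0 ≤ (pE - pF).coeff d := coeff_nonneg H k X hL hC d hdC hPC
  have h1 : 0 ≤ StabCat.alpha d (pE - pF) := by
    unfold StabCat.alpha; positivity
  rw [alpha_sub] at h1
  linarith

include H in
/-- **S15217**, the converse direction. -/
theorem isSemistable_of_isEllSemistable {L : X.Modules} (hL : CohB1.IsAmple L) (d : ℕ)
    {E : X.Modules} (hE : ShStab.IsEllSemistable k X L E d d) : ShStab.IsSemistable k X L E d := by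
  obtain ⟨hEc, hE0, hEp, hEll⟩ := hE
  refine ⟨hEc, hE0, hEp, ?_⟩
  intro F ι hι hF hF0 hiso pF pE hpF hpE
  haveI := hι
  have hdim := dim_of_isPure hEp hEc hE0
  have hdF := natDegree_le_of_mono H k X hL hdim.le ι hF hpF
  have hdE := natDegree_le_of_isHilbPoly k X H hL.1 hEc d hdim.le hpE
  have haF : 0 < StabCat.alpha d pF := alpha_pos_of_isPure H k X hL hEp ι hF hF0 hpF
  rcases lt_or_eq_of_le (alpha_le_of_mono H k X hL hEc hdim.le ι hF hpF hpE) with hlt | heq
  · exact (redLE_topPart_self_iff le_rfl hdF hdE).mp (hEll F ι hι hF pF pE hpF hpE haF hlt)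
  · rw [redLE_iff]
    obtain ⟨N, hN⟩ := polyLE_of_mono H k X hL ι hF hEc hpF hpE
    refine ⟨N, fun m hm => ?_⟩
    rw [← heq]
    exact mul_le_mul_of_nonneg_left (hN m hm) haF.le

include H in
/-- **S15217.** -/
theorem isSemistable_iff_isEllSemistable {L : X.Modules} (hL : CohB1.IsAmple L) (d : ℕ)
    {E : X.Modules} : ShStab.IsSemistable k X L E d ↔ ShStab.IsEllSemistable k X L E d d :=
  ⟨isEllSemistable_of_isSemistable H k X hL d d, isSemistable_of_isEllSemistable H k X hL d⟩

include H in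
/-- **S15218.** -/
theorem isStable_iff_isEllStable {L : X.Modules} (hL : CohB1.IsAmple L) (d : ℕ)
    {E : X.Modules} : ShStab.IsStable k X L E d ↔ ShStab.IsEllStable k X L E d d := by
  constructor
  · rintro ⟨hEc, hE0, hEp, hEst⟩
    refine ⟨hEc, hE0, hEp, ?_⟩
    intro F ι hι hF pF pE hpF hpE h1 h2
    haveI := hι
    have hdim := dim_of_isPure hEp hEc hE0
    have hdF := natDegree_le_of_mono H k X hL hdim.le ι hF hpF
    have hdE := natDegree_le_of_isHilbPoly k X H hL.1 hEc d hdim.le hpE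
    exact (redLT_topPart_self_iff le_rfl hdF hdE).mpr
      (hEst F ι hι hF (not_isZero_of_alpha_pos hpF h1) (not_isIso_of_alpha_lt ι hpF hpE h2) pF pE hpF hpE)
  · rintro ⟨hEc, hE0, hEp, hEll⟩
    refine ⟨hEc, hE0, hEp, ?_⟩
    intro F ι hι hF hF0 hiso pF pE hpF hpE
    haveI := hι
    have hdim := dim_of_isPure hEp hEc hE0
    have hdF := natDegree_le_of_mono H k X hL hdim.le ι hF hpF
    have hdE := natDegree_le_of_isHilbPoly k X H hL.1 hEc d hdim.le hpE
    have haF : 0 < StabCat.alpha d pF := alpha_pos_of_isPure H k X hL hEp ι hF hF0 hpF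
    rcases lt_or_eq_of_le (alpha_le_of_mono H k X hL hEc hdim.le ι hF hpF hpE) with hlt | heq
    · exact (redLT_topPart_self_iff le_rfl hdF hdE).mp (hEll F ι hι hF pF pE hpF hpE haF hlt)
    · rw [redLT_iff]
      haveI : F.IsQuasicoherent := hF.1
      have hC : Coh.IsCoh (cokernel ι) := H90OXModExact.isCoh_cokernel ι hEc
      have hPC := isHilbPoly_sub_left H k X hL.1 _ (H90DevTwo.shortExact_cokernel ι) hF hEc hC hpF hpE
      have hC0 : ¬ IsZero (cokernel ι) := by
        intro hz
        haveI : Epi ι := Preadditive.epi_of_isZero_cokernel ι hz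
        exact hiso (isIso_of_mono_of_epi ι)
      obtain ⟨N, hN⟩ := polyLT_zero H k X hL hC hC0 hPC
      refine ⟨N, fun m hm => ?_⟩
      rw [← heq]
      have := hN m hm
      rw [eval_zero, eval_sub] at this
      exact mul_lt_mul_of_pos_left (by linarith) haF

include H in
/-- **S15210.** -/
theorem isMuSemistable_of_isSemistable {L : X.Modules} (hL : CohB1.IsAmple L) (d : ℕ) (hd : 1 ≤ d)
    {E : X.Modules} (hE : ShStab.IsSemistable k X L E d) : ShStab.IsMuSemistable k X L E d := by
  obtain ⟨hEc, hE0, hEp, hEss⟩ := hE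
  have hdim := dim_of_isPure hEp hEc hE0
  refine ⟨hEc, hE0, hdim, ?_, ?_⟩
  · intro F ι hι hF
    by_cases hz : IsZero F
    · rw [dim_support_of_isZero hz]
      simp
    · rw [hEp F ι hι hF hz]
      intro h
      have h' : ((d + 1 : ℕ) : WithBot ℕ∞) = ((d : ℕ) : WithBot ℕ∞) := by
        rw [← h]; push_cast; rfl
      have : d + 1 = d := by exact_mod_cast h'
      omega
  · intro F ι hι hF pF pE hpF hpE h1 h2
    haveI := hι
    have hdF := natDegree_le_of_mono H k X hL hdim.le ι hF hpF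
    have hdE := natDegree_le_of_isHilbPoly k X H hL.1 hEc d hdim.le hpE
    exact hatSlope_le_of_redLE hd hdF hdE h1 (h1.trans h2)
      (hEss F ι hι hF (not_isZero_of_alpha_pos hpF h1) (not_isIso_of_alpha_lt ι hpF hpE h2) pF pE hpF hpE)

end Proper

end Groth.Agent.Lib.StabGeom48
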