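import Groth.Agent.Lib.MuHNLat48
import Groth.Agent.Lib.StabAbs67D
import Groth.Agent.Lib.StabGeomAxB67
import Groth.Agent.Lib.StabGeom48c

/-!
# Slope Harder–Narasimhan filtrations of pure coherent modules (helper48)

* `StabAbs67.Ax.isMuSS_factor_iff`: slope-semistability of a factor `y/x`, lattice form (under helper67's axioms `Ax`).
* `MuHNGeom48.phi_iff`: a factor is pure and `ShStab.IsMuSemistable` iff the interval is `Val.Phi`.
* `MuHNGeom48.existsUnique_muHN` (S18833): a nonzero coherent module, pure of dimension `n ≥ 1`, on a proper scheme over a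
  field with an ample `L` has exactly one filtration with pure slope-semistable factors of strictly decreasing `hatSlope`.
-/

set_option autoImplicit false

universe v u

namespace Groth.Agent.Lib.StabAbs67

open CategoryTheory CategoryTheory.Limits Polynomial StabCat Groth.Agent.Lib.StabLat67

variable {C : Type u} [Category.{v} C] [Abelian C] {d : ℕ} (A : Ax C d)

namespace Ax

variable {E : C} (hE : A.coh E) (hd : A.dle E) (hpure : A.IsPure E) {x y : A.Lam hE} (h : x < y)

/-- slope-semistability of a factor, lattice form -/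
theorem isMuSS_factor_iff : IsMuSS A.coh A.HP d (cokernel (Subobject.ofLE x.1 y.1 h.le)) ↔
    ∀ G : A.Lam hE, x ≤ G → G ≤ y → (A.val hE hd hpure).ra x < (A.val hE hd hpure).ra G →
      (A.val hE hd hpure).ra G < (A.val hE hd hpure).ra y →
      (A.val hE hd hpure).mu x G ≤ (A.val hE hd hpure).mu x y := by
  constructor
  · intro hs G hxG hGy h1 h2
    obtain ⟨F, ι, hm, hF, hpF, -, -⟩ := A.exists_sub hE hd hpure hxG hGy
    rw [Val.mu_eq_hatSlope, Val.mu_eq_hatSlope, val_P, val_P, val_P]
    refine hs F ι hm hF _ _ hpF (A.hp_factor hE hd h) ?_ ?_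
    · rw [alpha_sub]
      exact sub_pos.mpr h1
    · rw [alpha_sub, alpha_sub]
      exact sub_lt_sub_right h2 _
  · intro hl F ι hm hF pF pE hpF hpE hpos hlt
    haveI := hm
    obtain ⟨K, hxK, hKy, hpF', -, -⟩ := A.exists_K hE hd h.le ι hF
    have e1 := A.hp_unique hpF hpF'
    have e2 := A.hp_unique hpE (A.hp_factor hE hd h)
    rw [e1] at hpos hlt ⊢
    rw [e2] at hlt ⊢
    rw [alpha_sub] at hpos
    rw [alpha_sub, alpha_sub] at hlt
    have h1 : (A.val hE hd hpure).ra x < (A.val hE hd hpure).ra K := by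
      change alpha d (A.Pv hE hd x) < alpha d (A.Pv hE hd K)
      linarith
    have h2 : (A.val hE hd hpure).ra K < (A.val hE hd hpure).ra y := by
      change alpha d (A.Pv hE hd K) < alpha d (A.Pv hE hd y)
      linarith
    have := hl K hxK hKy h1 h2
    rw [Val.mu_eq_hatSlope, Val.mu_eq_hatSlope, val_P, val_P, val_P] at this
    exact this

end Ax

end Groth.Agent.Lib.StabAbs67

namespace Groth.Agent.Lib.MuHNGeom48

open CategoryTheory CategoryTheory.Limits AlgebraicGeometry Polynomial StabCat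
open Groth.Agent.Lib Groth.Agent.Lib.StabLat67 Groth.Agent.Lib.StabAbs67 Groth.Agent.Lib.StabGeom48

variable (H : ProperFinHyp.Hyp.{u}) (k : Type u) [Field k] (X : Scheme.{u})
  [X.Over (Spec (CommRingCat.of k))] [IsProper (X ↘ Spec (CommRingCat.of k))]
  {L : X.Modules} (hL : CohB1.IsAmple L) (n : ℕ)

/-- the geometric instance of helper67's axioms -/
noncomputable abbrev gA : StabAbs67.Ax X.Modules n := StabGeomAxB67.geomAx H k X L hL n

variable {F : X.Modules} (hF : Coh.IsCoh F)

/-- a factor is pure and slope-semistable iff the interval is `Phi` -/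
theorem phi_iff (hd : (gA H k X hL n).dle F) (hpure : ShStab.IsPure X F n)
    {x y : (gA H k X hL n).Lam hF} (h : x < y) :
    (ShStab.IsPure X (cokernel (Subobject.ofLE x.1 y.1 h.le)) n ∧
      ShStab.IsMuSemistable k X L (cokernel (Subobject.ofLE x.1 y.1 h.le)) n) ↔
    ((gA H k X hL n).val hF hd hpure).Phi x y := by
  constructor
  · rintro ⟨hp, hmu⟩
    exact ⟨h, ((gA H k X hL n).isPure_factor_iff hF hd hpure h).mp hp,
      ((gA H k X hL n).isMuSS_factor_iff hF hd hpure h).mp hmu.2.2.2.2⟩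
  · intro hΦ
    have hp : ShStab.IsPure X (cokernel (Subobject.ofLE x.1 y.1 h.le)) n :=
      ((gA H k X hL n).isPure_factor_iff hF hd hpure h).mpr hΦ.pure
    have hc : Coh.IsCoh (cokernel (Subobject.ofLE x.1 y.1 h.le)) :=
      (gA H k X hL n).coh_quot h.le x.coh y.coh
    have h0 : ¬ IsZero (cokernel (Subobject.ofLE x.1 y.1 h.le)) :=
      (gA H k X hL n).not_isZero_factor hF h
    refine ⟨hp, hc, h0, dim_of_isPure hp hc h0, ?_,
      ((gA H k X hL n).isMuSS_factor_iff hF hd hpure h).mpr hΦ.ss⟩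
    intro F' ι hι hF'
    by_cases hz : IsZero F'
    · rw [dim_support_of_isZero hz]
      simp
    · rw [hp F' ι hι hF' hz]
      intro h'
      have h'' : ((n + 1 : ℕ) : WithBot ℕ∞) = ((n : ℕ) : WithBot ℕ∞) := by
        rw [← h']; push_cast; rfl
      have : n + 1 = n := by exact_mod_cast h''
      omega

/-- the predicate of S18833 on filtrations -/
def Pred (s : LTSeries (Subobject F)) : Prop :=
  s.head = ⊥ ∧ s.last = ⊤ ∧
    (∀ i : Fin s.length,
      ShStab.IsPure X (StabCat.factor s i) n ∧ ShStab.IsMuSemistable k X L (StabCat.factor s i) n) ∧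
    ∀ (i j : Fin s.length), i.val + 1 = j.val →
      ∀ (p q : ℚ[X]), ShStab.IsHilbPoly k X L (StabCat.factor s i) p →
        ShStab.IsHilbPoly k X L (StabCat.factor s j) q →
        StabCat.hatSlope n q < StabCat.hatSlope n p

/-- a lattice slope Harder–Narasimhan chain gives a filtration satisfying `Pred` -/
theorem pred_toSeries (hd : (gA H k X hL n).dle F) (hpure : ShStab.IsPure X F n)
    {m : ℕ} {x : ℕ → (gA H k X hL n).Lam hF}
    (hx : ((gA H k X hL n).val hF hd hpure).IsMuHN m x) :
    Pred k X (L := L) n ((gA H k X hL n).toSeries hF m x (fun i hi => (hx.phi i hi).lt)) := by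
  refine ⟨?_, ?_, ?_, ?_⟩
  · change (x 0).1 = ⊥
    rw [hx.zero]; rfl
  · change (x m).1 = ⊤
    rw [hx.top]; rfl
  · intro i
    exact (phi_iff H k X hL n hF hd hpure (hx.phi i.val i.isLt).lt).mpr (hx.phi i.val i.isLt)
  · intro i j hij p q hp hq
    have hlti := (hx.phi i.val i.isLt).lt
    have hltj := (hx.phi j.val j.isLt).lt
    have e1 := (gA H k X hL n).hp_unique hp ((gA H k X hL n).hp_factor hF hd hlti)
    have e2 := (gA H k X hL n).hp_unique hq ((gA H k X hL n).hp_factor hF hd hltj)
    have := hx.dec i.val (by have := j.isLt; change j.val < m at this; omega)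
    rw [Val.mu_eq_hatSlope, Val.mu_eq_hatSlope, Ax.val_P, Ax.val_P, Ax.val_P] at this
    rw [e1, e2, ← hij]
    exact this

/-- a filtration satisfying `Pred` gives a lattice slope Harder–Narasimhan chain -/
theorem isMuHN_ofSeries (hd : (gA H k X hL n).dle F) (hpure : ShStab.IsPure X F n)
    (s : LTSeries (Subobject F)) (hs : Pred k X (L := L) n s)
    (hc : ∀ i : Fin (s.length + 1), Coh.IsCoh ((s i : Subobject F) : X.Modules)) :
    ((gA H k X hL n).val hF hd hpure).IsMuHN s.length ((gA H k X hL n).ofSeries hF s hc) := by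
  obtain ⟨hhead, hlast, hfac, hdec⟩ := hs
  have hlt : ∀ i : Fin s.length,
      (⟨s i.castSucc, hc _⟩ : (gA H k X hL n).Lam hF) < ⟨s i.succ, hc _⟩ := fun i => s.step i
  refine ⟨?_, ?_, ?_, ?_⟩
  · rw [(gA H k X hL n).ofSeries_eq hF s hc 0 (Nat.zero_le _)]
    exact Subtype.ext hhead
  · rw [(gA H k X hL n).ofSeries_eq hF s hc s.length le_rfl]
    exact Subtype.ext hlast
  · intro i hi
    have h1 := (phi_iff H k X hL n hF hd hpure (hlt ⟨i, hi⟩)).mp (hfac ⟨i, hi⟩)
    rw [← (gA H k X hL n).ofSeries_castSucc hF s hc ⟨i, hi⟩,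
      ← (gA H k X hL n).ofSeries_succ hF s hc ⟨i, hi⟩] at h1
    exact h1
  · intro i hi
    have hi' : i < s.length := by omega
    have h1 := hdec ⟨i, hi'⟩ ⟨i + 1, hi⟩ rfl _ _
      ((gA H k X hL n).hp_factor hF hd (hlt ⟨i, hi'⟩))
      ((gA H k X hL n).hp_factor hF hd (hlt ⟨i + 1, hi⟩))
    rw [← (gA H k X hL n).ofSeries_castSucc hF s hc ⟨i, hi'⟩,
      ← (gA H k X hL n).ofSeries_succ hF s hc ⟨i, hi'⟩,
      ← (gA H k X hL n).ofSeries_castSucc hF s hc ⟨i + 1, hi⟩,
      ← (gA H k X hL n).ofSeries_succ hF s hc ⟨i + 1, hi⟩] at h1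
    rw [Val.mu_eq_hatSlope, Val.mu_eq_hatSlope, Ax.val_P, Ax.val_P, Ax.val_P]
    exact h1

include H hL hF in
/-- **S18833**: existence and uniqueness of the slope Harder–Narasimhan filtration. -/
theorem existsUnique_muHN (hn : 1 ≤ n) (h0 : ¬ IsZero F) (hpure : ShStab.IsPure X F n) :
    ∃! s : LTSeries (Subobject F), Pred k X (L := L) n s := by
  have hd : (gA H k X hL n).dle F := (gA H k X hL n).dle_of_isPure hF h0 hpure
  haveI := (gA H k X hL n).wellFoundedGT_Lam hF
  obtain ⟨m, x, hx⟩ := ((gA H k X hL n).val hF hd hpure).exists_isMuHN hn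
  have key : ∀ s t : LTSeries (Subobject F), Pred k X (L := L) n s → Pred k X (L := L) n t → s = t := by
    intro s t hs ht
    have hcs := (gA H k X hL n).coh_series hF s hs.2.1 (fun i => (hs.2.2.1 i).2.1)
    have hct := (gA H k X hL n).coh_series hF t ht.2.1 (fun i => (ht.2.2.1 i).2.1)
    have h1 := isMuHN_ofSeries H k X hL n hF hd hpure s hs hcs
    have h2 := isMuHN_ofSeries H k X hL n hF hd hpure t ht hct
    obtain ⟨hlen, heq⟩ := Val.IsMuHN.unique h1 h2
    refine RelSeries.ext hlen ?_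
    funext i
    have hi : i.val ≤ s.length := Nat.le_of_lt_succ i.isLt
    have := heq i.val hi
    rw [(gA H k X hL n).ofSeries_eq hF s hcs i.val hi,
      (gA H k X hL n).ofSeries_eq hF t hct i.val (hlen ▸ hi)] at this
    exact congrArg Subtype.val this
  exact ⟨_, pred_toSeries H k X hL n hF hd hpure hx,
    fun t ht => key t _ ht (pred_toSeries H k X hL n hF hd hpure hx)⟩

end Groth.Agent.Lib.MuHNGeom48
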