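import Groth.Agent.Lib.StabLat67C
import Groth.Agent.Lib.TopPart48

/-!
# Slope (μ-) Harder–Narasimhan chains in valuation lattices (helper48)

Built on helper67's valuation lattices `StabLat67.Val Λ d` (lattice with a strictly increasing modular polynomial valuation `P`,
pure).  For `x ≤ y` write `ra = α_d ∘ P` (rank), `rb = α_{d-1} ∘ P` and `mu x y = (rb y - rb x)/(ra y - ra x)`
(`= hatSlope d (P y - P x)`).

* `Val.Phi u v`: the interval `[u, v]` is "pure and slope-semistable".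
* `Val.Phi.merge`: two consecutive such intervals with the same slope merge to one.
* `Val.IsMuHN n x`: slope Harder–Narasimhan chains; `Val.exists_isMuHN` (existence, by coarsening a Gieseker HN chain
  `Val.exists_isHN` of helper67 and taking a chain of minimal length), `Val.IsMuHN.unique` (uniqueness).
-/

set_option autoImplicit false

universe u

namespace Groth.Agent.Lib.StabLat67

open Polynomial Filter StabCat Groth.Agent.Lib.TopPart48 Groth.Agent.Lib.PosPoly48

/-- `deg P ≤ n`, `α_n(P) = 0`, `P ≥ 0` eventually ⇒ `α_{n-1}(P) ≥ 0`. -/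
theorem alpha_pred_nonneg' {n : ℕ} {P : ℚ[X]} (hdeg : P.natDegree ≤ n)
    (ha : alpha n P = 0) (h : PolyLE 0 P) : 0 ≤ alpha (n - 1) P := by
  have hc : P.coeff n = 0 := by
    unfold alpha at ha
    rcases mul_eq_zero.mp ha with h1 | h1
    · exact absurd h1 (by exact_mod_cast n.factorial_ne_zero)
    · exact h1
  have hdeg' : P.natDegree ≤ n - 1 := by
    rw [natDegree_le_iff_coeff_eq_zero]
    intro N hN
    rcases Nat.lt_or_ge n N with h1 | h1
    · exact coeff_eq_zero_of_natDegree_lt (lt_of_le_of_lt hdeg h1)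
    · have : N = n := by omega
      rw [this]; exact hc
  have := coeff_nonneg_of_polyLE_zero hdeg' h
  unfold alpha
  positivity

namespace Val

variable {Λ : Type u} [Lattice Λ] [BoundedOrder Λ] {d : ℕ} (V : Val Λ d)

/-- the rank `α_d(P x)` -/
noncomputable def ra (x : Λ) : ℚ := alpha d (V.P x)

/-- the degree-like coefficient `α_{d-1}(P x)` -/
noncomputable def rb (x : Λ) : ℚ := alpha (d - 1) (V.P x)

/-- the slope of the interval `[x, y]` -/
noncomputable def mu (x y : Λ) : ℚ := (V.rb y - V.rb x) / (V.ra y - V.ra x)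

theorem mu_eq_hatSlope (x y : Λ) : V.mu x y = hatSlope d (V.P y - V.P x) := by
  unfold mu ra rb hatSlope
  rw [alpha_sub, alpha_sub]

theorem ra_mono {x y : Λ} (h : x ≤ y) : V.ra x ≤ V.ra y := V.a_mono h

theorem ra_mod (x y : Λ) : V.ra x + V.ra y = V.ra (x ⊓ y) + V.ra (x ⊔ y) := V.a_mod x y

theorem rb_mod (x y : Λ) : V.rb x + V.rb y = V.rb (x ⊓ y) + V.rb (x ⊔ y) := by
  unfold rb
  rw [← alpha_add, ← alpha_add, V.P_mod]

theorem rb_le_of_ra_eq {x y : Λ} (h : x ≤ y) (he : V.ra x = V.ra y) : V.rb x ≤ V.rb y := by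
  have h1 : PolyLE 0 (V.P y - V.P x) := by
    rcases h.eq_or_lt with rfl | hlt
    · refine ⟨0, fun m _ => ?_⟩
      simp
    · obtain ⟨N, hN⟩ := V.P_lt hlt
      refine ⟨N, fun m hm => ?_⟩
      rw [eval_zero, eval_sub]
      exact sub_nonneg.mpr (hN m hm).le
  have h2 : (V.P y - V.P x).natDegree ≤ d :=
    (natDegree_sub_le _ _).trans (max_le (V.natDeg y) (V.natDeg x))
  have h3 : alpha d (V.P y - V.P x) = 0 := by
    rw [alpha_sub]
    unfold ra at he
    linarith
  have := alpha_pred_nonneg' h2 h3 h1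
  rw [alpha_sub] at this
  unfold rb
  linarith

/-- the interval `[u, v]` is pure and slope-semistable -/
structure Phi (u v : Λ) : Prop where
  lt : u < v
  pure : ∀ G, u < G → G ≤ v → V.ra u < V.ra G
  ss : ∀ G, u ≤ G → G ≤ v → V.ra u < V.ra G → V.ra G < V.ra v → V.mu u G ≤ V.mu u v

namespace Phi

variable {V} {u v : Λ}

theorem ra_lt (h : V.Phi u v) : V.ra u < V.ra v := h.pure v h.lt le_rfl

theorem num_eq (h : V.Phi u v) : V.rb v - V.rb u = V.mu u v * (V.ra v - V.ra u) := by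
  have h0 : V.ra v - V.ra u ≠ 0 := (sub_pos.mpr h.ra_lt).ne'
  unfold mu
  field_simp

theorem num_le (h : V.Phi u v) {G : Λ} (h1 : u ≤ G) (h2 : G ≤ v) :
    V.rb G - V.rb u ≤ V.mu u v * (V.ra G - V.ra u) := by
  rcases h1.eq_or_lt with rfl | hlt
  · simp
  have hpos : V.ra u < V.ra G := h.pure G hlt h2
  have hle : V.ra G ≤ V.ra v := V.ra_mono h2
  have hd : 0 < V.ra G - V.ra u := sub_pos.mpr hpos
  rcases hle.lt_or_eq with hlt' | heq
  · have h3 : (V.rb G - V.rb u) / (V.ra G - V.ra u) ≤ V.mu u v := h.ss G h1 h2 hpos hlt'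
    rwa [div_le_iff₀ hd] at h3
  · have hb := V.rb_le_of_ra_eq h2 heq
    rw [heq, ← h.num_eq]
    linarith

theorem mu_le (h : V.Phi u v) {G : Λ} (h1 : u ≤ G) (h2 : G ≤ v) (h3 : V.ra u < V.ra G) :
    V.mu u G ≤ V.mu u v := by
  have hd : 0 < V.ra G - V.ra u := sub_pos.mpr h3
  change (V.rb G - V.rb u) / (V.ra G - V.ra u) ≤ V.mu u v
  rw [div_le_iff₀ hd]
  exact h.num_le h1 h2

theorem quot_ge (h : V.Phi u v) {G : Λ} (h1 : u ≤ G) (h2 : G ≤ v) (h3 : V.ra G < V.ra v) :
    V.mu u v ≤ V.mu G v := by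
  have hd : 0 < V.ra v - V.ra G := sub_pos.mpr h3
  have e1 := h.num_eq
  have e2 := h.num_le h1 h2
  change V.mu u v ≤ (V.rb v - V.rb G) / (V.ra v - V.ra G)
  rw [le_div_iff₀ hd]
  have e3 : V.mu u v * (V.ra v - V.ra G) =
      V.mu u v * (V.ra v - V.ra u) - V.mu u v * (V.ra G - V.ra u) := by ring
  linarith

/-- two consecutive pure slope-semistable intervals of the same slope merge -/
theorem merge {u v w : Λ} (h1 : V.Phi u v) (h2 : V.Phi v w) (he : V.mu u v = V.mu v w) :
    V.Phi u w ∧ V.mu u w = V.mu u v := by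
  have hmu : V.mu u w = V.mu u v := by
    have e1 := h1.num_eq
    have e2 := h2.num_eq
    have hd : 0 < V.ra w - V.ra u := by linarith [h1.ra_lt, h2.ra_lt]
    change (V.rb w - V.rb u) / (V.ra w - V.ra u) = V.mu u v
    rw [div_eq_iff hd.ne']
    rw [← he] at e2
    have e3 : V.mu u v * (V.ra w - V.ra u) =
        V.mu u v * (V.ra v - V.ra u) + V.mu u v * (V.ra w - V.ra v) := by ring
    linarith
  refine ⟨⟨h1.lt.trans h2.lt, ?_, ?_⟩, hmu⟩
  · intro G hG hGw
    by_cases hGv : G ≤ v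
    · exact h1.pure G hG hGv
    · have h3 : v < G ⊔ v := by
        refine lt_of_le_of_ne le_sup_right fun e => hGv ?_
        rw [e]
        exact le_sup_left
      have h4 : G ⊔ v ≤ w := sup_le hGw h2.lt.le
      have h5 := h2.pure _ h3 h4
      have h6 : V.ra u ≤ V.ra (G ⊓ v) := V.ra_mono (le_inf hG.le h1.lt.le)
      have h7 := V.ra_mod G v
      linarith
  · intro G hG hGw hpos _
    rw [hmu]
    have h6 : u ≤ G ⊓ v := le_inf hG h1.lt.le
    have a1 := h1.num_le h6 inf_le_right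
    have a2 := h2.num_le (le_sup_right : v ≤ G ⊔ v) (sup_le hGw h2.lt.le)
    rw [← he] at a2
    have m1 := V.ra_mod G v
    have m2 := V.rb_mod G v
    have hd : 0 < V.ra G - V.ra u := sub_pos.mpr hpos
    change (V.rb G - V.rb u) / (V.ra G - V.ra u) ≤ V.mu u v
    rw [div_le_iff₀ hd]
    have e3 : V.mu u v * (V.ra G - V.ra u) =
        V.mu u v * (V.ra (G ⊓ v) - V.ra u) + V.mu u v * (V.ra (G ⊔ v) - V.ra v) := by
      have e4 : V.ra G - V.ra u = (V.ra (G ⊓ v) - V.ra u) + (V.ra (G ⊔ v) - V.ra v) := by linarith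
      rw [e4]
      ring
    linarith

end Phi

/-- weak slope Harder–Narasimhan chains: slopes weakly decreasing -/
structure IsMuHNw (n : ℕ) (x : ℕ → Λ) : Prop where
  zero : x 0 = ⊥
  top : x n = ⊤
  phi : ∀ i, i < n → V.Phi (x i) (x (i + 1))
  dec : ∀ i, i + 1 < n → V.mu (x (i + 1)) (x (i + 2)) ≤ V.mu (x i) (x (i + 1))

/-- slope Harder–Narasimhan chains: slopes strictly decreasing -/
structure IsMuHN (n : ℕ) (x : ℕ → Λ) : Prop where
  zero : x 0 = ⊥
  top : x n = ⊤
  phi : ∀ i, i < n → V.Phi (x i) (x (i + 1))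
  dec : ∀ i, i + 1 < n → V.mu (x (i + 1)) (x (i + 2)) < V.mu (x i) (x (i + 1))

/-- a (Gieseker) Harder–Narasimhan chain is a weak slope Harder–Narasimhan chain -/
theorem isMuHNw_of_isHN (hd : 1 ≤ d) {n : ℕ} {x : ℕ → Λ} (h : V.IsHN n x) : V.IsMuHNw n x := by
  have hdeg : ∀ a b : Λ, (V.P a - V.P b).natDegree ≤ d := fun a b =>
    (natDegree_sub_le _ _).trans (max_le (V.natDeg a) (V.natDeg b))
  have hra : ∀ i, i < n → V.ra (x i) < V.ra (x (i + 1)) := fun i hi =>
    h.pure i hi _ (h.lt i hi) le_rfl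
  refine ⟨h.zero, h.top, fun i hi => ⟨h.lt i hi, h.pure i hi, ?_⟩, fun i hi => ?_⟩
  · intro G h1 h2 h3 _
    have hlt : x i < G := lt_of_le_of_ne h1 fun e => by rw [e] at h3; exact lt_irrefl _ h3
    have hss := h.ss i hi G hlt h2
    rw [mu_eq_hatSlope, mu_eq_hatSlope]
    refine hatSlope_le_of_redLE hd (hdeg _ _) (hdeg _ _) ?_ ?_ hss
    · rw [alpha_sub]; exact sub_pos.mpr h3
    · rw [alpha_sub]; exact sub_pos.mpr (hra i hi)
  · have hdec := h.dec i hi
    rw [mu_eq_hatSlope, mu_eq_hatSlope]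
    refine hatSlope_le_of_redLE hd (hdeg _ _) (hdeg _ _) ?_ ?_ (redLE_of_redLT hdec)
    · rw [alpha_sub]; exact sub_pos.mpr (hra (i + 1) hi)
    · rw [alpha_sub]; exact sub_pos.mpr (hra i (by omega))

/-- removing a term between two factors of the same slope -/
theorem IsMuHNw.exists_shorter {n : ℕ} {x : ℕ → Λ} (h : V.IsMuHNw n x) (i : ℕ) (hi : i + 1 < n)
    (he : V.mu (x (i + 1)) (x (i + 2)) = V.mu (x i) (x (i + 1))) :
    ∃ x' : ℕ → Λ, V.IsMuHNw (n - 1) x' := by
  obtain ⟨hm, hmu⟩ := Phi.merge (h.phi i (by omega)) (h.phi (i + 1) hi) he.symm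
  set x' : ℕ → Λ := fun j => if j ≤ i then x j else x (j + 1) with hx'
  have hx1 : ∀ j, j ≤ i → x' j = x j := fun j hj => if_pos hj
  have hx2 : ∀ j, i < j → x' j = x (j + 1) := fun j hj => if_neg (by omega)
  refine ⟨x', ?_, ?_, ?_, ?_⟩
  · rw [hx1 0 (Nat.zero_le i)]
    exact h.zero
  · rw [hx2 (n - 1) (by omega)]
    have : n - 1 + 1 = n := by omega
    rw [this]
    exact h.top
  · intro j hj
    rcases lt_trichotomy j i with hji | hji | hji
    · rw [hx1 j (by omega), hx1 (j + 1) (by omega)]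
      exact h.phi j (by omega)
    · subst hji
      rw [hx1 j le_rfl, hx2 (j + 1) (by omega)]
      exact hm
    · rw [hx2 j hji, hx2 (j + 1) (by omega)]
      exact h.phi (j + 1) (by omega)
  · intro j hj
    by_cases h1 : j + 1 < i
    · rw [hx1 j (by omega), hx1 (j + 1) (by omega), hx1 (j + 2) (by omega)]
      exact h.dec j (by omega)
    by_cases h2 : j + 1 = i
    · rw [hx1 j (by omega), hx1 (j + 1) (by omega), hx2 (j + 2) (by omega)]
      subst h2
      exact (le_of_eq hmu).trans (h.dec j (by omega))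
    by_cases h3 : j = i
    · subst h3
      rw [hx1 j le_rfl, hx2 (j + 1) (by omega), hx2 (j + 2) (by omega)]
      have hd := h.dec (j + 1) (by omega)
      rw [hmu]
      exact hd.trans (le_of_eq he)
    · rw [hx2 j (by omega), hx2 (j + 1) (by omega), hx2 (j + 2) (by omega)]
      exact h.dec (j + 1) (by omega)

/-- **Existence of slope Harder–Narasimhan chains** -/
theorem exists_isMuHN [WellFoundedGT Λ] (hd : 1 ≤ d) : ∃ (n : ℕ) (x : ℕ → Λ), V.IsMuHN n x := by
  classical
  obtain ⟨n₀, x₀, h₀⟩ := V.exists_isHN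
  have hex : ∃ n, ∃ x : ℕ → Λ, V.IsMuHNw n x := ⟨n₀, x₀, V.isMuHNw_of_isHN hd h₀⟩
  obtain ⟨x, hx⟩ := Nat.find_spec hex
  refine ⟨Nat.find hex, x, hx.zero, hx.top, hx.phi, fun i hi => ?_⟩
  by_contra hnot
  have hle := hx.dec i hi
  have he := le_antisymm hle (not_lt.mp hnot)
  obtain ⟨x', hx'⟩ := hx.exists_shorter V i hi he
  exact Nat.find_min hex (by omega : Nat.find hex - 1 < Nat.find hex) ⟨x', hx'⟩

namespace IsMuHN

variable {V} {n : ℕ} {x : ℕ → Λ}

theorem mono (h : V.IsMuHN n x) : ∀ {i j : ℕ}, i ≤ j → j ≤ n → x i ≤ x j := by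
  intro i j hij
  induction j, hij using Nat.le_induction with
  | base => intro _; exact le_rfl
  | succ j hij ih =>
    intro hj
    exact (ih (by omega)).trans (h.phi j (by omega)).lt.le

theorem mu_antitone (h : V.IsMuHN n x) : ∀ {i j : ℕ}, i ≤ j → j < n →
    V.mu (x j) (x (j + 1)) ≤ V.mu (x i) (x (i + 1)) := by
  intro i j hij
  induction j, hij using Nat.le_induction with
  | base => intro _; exact le_rfl
  | succ j hij ih =>
    intro hj
    exact (h.dec j hj).le.trans (ih (by omega))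

theorem mu_strictAnti (h : V.IsMuHN n x) {i j : ℕ} (hij : i < j) (hj : j < n) :
    V.mu (x j) (x (j + 1)) < V.mu (x i) (x (i + 1)) := by
  obtain ⟨j, rfl⟩ : ∃ j', j = j' + 1 := ⟨j - 1, by omega⟩
  exact (h.dec j hj).trans_le (h.mu_antitone (by omega) (by omega))

/-- the core comparison lemma -/
theorem core {m : ℕ} {y : ℕ → Λ} (hx : V.IsMuHN n x) (hy : V.IsMuHN m y) (i : ℕ) (hin : i < n)
    (him : i < m) (heq : x i = y i)
    (hmu : V.mu (y i) (y (i + 1)) ≤ V.mu (x i) (x (i + 1))) :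
    x (i + 1) ≤ y (i + 1) ∧ V.mu (x i) (x (i + 1)) = V.mu (y i) (y (i + 1)) := by
  classical
  have hex : ∃ j, i < j ∧ j ≤ m ∧ x (i + 1) ≤ y j :=
    ⟨m, him, le_rfl, by rw [hy.top]; exact le_top⟩
  obtain ⟨hj1, hj2, hj3⟩ := Nat.find_spec hex
  obtain ⟨c, hc⟩ : ∃ c, Nat.find hex = c + 1 := ⟨Nat.find hex - 1, by omega⟩
  rw [hc] at hj1 hj2 hj3
  have hΨ := hx.phi i hin
  have hnle : ¬ x (i + 1) ≤ y c := by
    intro hle
    rcases Nat.lt_or_ge i c with h1 | h1
    · exact Nat.find_min hex (by omega : c < Nat.find hex) ⟨h1, by omega, hle⟩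
    · have hci : c = i := by omega
      rw [hci, ← heq] at hle
      exact lt_irrefl _ (hΨ.lt.trans_le hle)
  have hΦ := hy.phi c (by omega)
  have hGC : x i ≤ y c := by
    rw [heq]
    exact hy.mono (by omega) (by omega)
  have hA2 : y c < x (i + 1) ⊔ y c := by
    refine lt_of_le_of_ne le_sup_right fun e => hnle ?_
    rw [e]
    exact le_sup_left
  have hA2D : x (i + 1) ⊔ y c ≤ y (c + 1) := sup_le hj3 hΦ.lt.le
  have hp := hΦ.pure _ hA2 hA2D
  have m1 := V.ra_mod (x (i + 1)) (y c)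
  have m2 := V.rb_mod (x (i + 1)) (y c)
  have hlt1 : V.ra (x (i + 1) ⊓ y c) < V.ra (x (i + 1)) := by linarith
  have q := hΨ.quot_ge (le_inf hΨ.lt.le hGC) inf_le_left hlt1
  have e1 : V.mu (x (i + 1) ⊓ y c) (x (i + 1)) = V.mu (y c) (x (i + 1) ⊔ y c) := by
    unfold mu
    congr 1 <;> linarith
  have s := hΦ.mu_le (le_sup_right : y c ≤ x (i + 1) ⊔ y c) hA2D hp
  have hchain : V.mu (x i) (x (i + 1)) ≤ V.mu (y c) (y (c + 1)) := by
    rw [e1] at q
    exact q.trans s
  have hci : c = i := by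
    by_contra hne
    have hic : i < c := by omega
    have := hy.mu_strictAnti hic (by omega)
    linarith
  subst hci
  exact ⟨hj3, le_antisymm hchain hmu⟩

theorem unique_aux {m : ℕ} {y : ℕ → Λ} (hx : V.IsMuHN n x) (hy : V.IsMuHN m y) :
    ∀ i, i ≤ n → i ≤ m ∧ x i = y i := by
  intro i
  induction i with
  | zero => intro _; exact ⟨Nat.zero_le _, hx.zero.trans hy.zero.symm⟩
  | succ i ih =>
    intro hi
    obtain ⟨him, heq⟩ := ih (by omega)
    have hin : i < n := by omega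
    have him' : i < m := by
      by_contra hcon
      have hm : i = m := by omega
      have h1 : y i = ⊤ := by rw [hm]; exact hy.top
      have h2 := (hx.phi i hin).lt
      rw [heq, h1] at h2
      exact not_top_lt h2
    refine ⟨him', ?_⟩
    rcases le_total (V.mu (y i) (y (i + 1))) (V.mu (x i) (x (i + 1))) with h | h
    · obtain ⟨h1, h2⟩ := core hx hy i hin him' heq h
      obtain ⟨h3, -⟩ := core hy hx i him' hin heq.symm (le_of_eq h2)
      exact le_antisymm h1 h3
    · obtain ⟨h1, h2⟩ := core hy hx i him' hin heq.symm h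
      obtain ⟨h3, -⟩ := core hx hy i hin him' heq (le_of_eq h2)
      exact le_antisymm h3 h1

/-- **Uniqueness of slope Harder–Narasimhan chains** -/
theorem unique {m : ℕ} {y : ℕ → Λ} (hx : V.IsMuHN n x) (hy : V.IsMuHN m y) :
    n = m ∧ ∀ i, i ≤ n → x i = y i := by
  have h1 := (unique_aux hx hy n le_rfl).1
  have h2 := (unique_aux hy hx m le_rfl).1
  exact ⟨le_antisymm h1 h2, fun i hi => (unique_aux hx hy i hi).2⟩

end IsMuHN

end Val

end Groth.Agent.Lib.StabLat67
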