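import Groth.Agent.Lib.Refl53a
import Groth.Agent.S14995
import Groth.Agent.S6880
import Groth.Agent.S2252
import Groth.Agent.Lib.H90CohRestrict

/-!
# helper53: reflexive modules across an open with `depth ≥ 2` complement
(namespace `Groth.Agent.Lib.Refl53`)

* `isIso_unit_of_reflexive`: `F ⟶ j_* j^* F` is an isomorphism for coherent `F` with reflexive stalks.
* `exists_noetherianSpace_nhd`: the hypothesis of `S2252` for locally Noetherian schemes.
* `pushforward_reflexive`: `j_* G` is coherent with reflexive stalks, for coherent `G` on `U` with reflexive stalks.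
-/

set_option autoImplicit false
set_option maxHeartbeats 400000
set_option linter.unusedSectionVars false
set_option linter.style.haveILetI false
universe u

open CategoryTheory CategoryTheory.Limits AlgebraicGeometry Opposite TopologicalSpace
open Groth.Agent.Lib.ModStalkLin Groth.Agent.Lib.RestrictStalk

namespace Groth.Agent.Lib.Refl53

variable (X : Scheme.{u}) [IsLocallyNoetherian X] (U : X.Opens)
  (hU : ∀ x : ↥X, x ∉ U → (2 : ℕ∞) ≤ LocCoh.depth (X.presheaf.stalk x) (X.presheaf.stalk x))

include hU in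
theorem isIso_unit_of_reflexive (F : X.Modules) (hF : Coh.IsCoh F)
    (hr : ∀ x : ↥X, Module.IsReflexive (X.presheaf.stalk x) (F.presheaf.stalk x)) :
    IsIso ((Scheme.Modules.restrictAdjunction U.ι).unit.app F) := by
  apply Groth.Agent.S14995.isIso_unit X F hF U
  intro y hy
  haveI := Groth.Agent.Lib.CohFinite.finite_stalk_of_isCoh F hF y
  haveI := hr y
  exact (Groth.Agent.S6880.depth_of_isReflexive (X.presheaf.stalk y) (F.presheaf.stalk y)).2
    (hU y hy)

theorem exists_noetherianSpace_nhd (x : X) :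
    ∃ V : X.Opens, x ∈ V ∧ TopologicalSpace.NoetherianSpace (V : Set X) := by
  obtain ⟨V, hV, hxV, -⟩ :=
    Opens.isBasis_iff_nbhd.mp X.isBasis_affineOpens (show x ∈ (⊤ : X.Opens) from trivial)
  haveI : IsNoetherianRing Γ(X, V) := IsLocallyNoetherian.component_noetherian ⟨V, hV⟩
  exact ⟨V, hxV, noetherianSpace_of_isAffineOpen V hV⟩

include hU in
theorem pushforward_reflexive [IsIntegral X] (G : (U : Scheme.{u}).Modules) (hG : Coh.IsCoh G)
    (hr : ∀ x : ↥(U : Scheme.{u}),
      Module.IsReflexive ((U : Scheme.{u}).presheaf.stalk x) (G.presheaf.stalk x)) :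
    Coh.IsCoh ((Scheme.Modules.pushforward U.ι).obj G) ∧
      (∀ x : ↥X, Module.IsReflexive (X.presheaf.stalk x)
        (((Scheme.Modules.pushforward U.ι).obj G).presheaf.stalk x)) := by
  haveI : Coh.IsQCoh G := hG.1
  obtain ⟨F₀, hq, hft, ⟨e⟩⟩ := Groth.Agent.S2252.result (exists_noetherianSpace_nhd X) U G hG.2
  have hF₀ : Coh.IsCoh F₀ := ⟨hq, hft⟩
  have hF' : Coh.IsCoh (RefHull.ddual F₀) := Groth.Agent.Lib.HomSh53.isCoh_ddual hF₀
  have hF'r : ∀ x : ↥X, Module.IsReflexive (X.presheaf.stalk x)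
      ((RefHull.ddual F₀).presheaf.stalk x) := fun x => isReflexiveAt_ddual hF₀ x
  haveI hφ : IsIso ((Scheme.Modules.restrictFunctor U.ι).map (RefHull.bidualMap F₀)) := by
    rw [Groth.Agent.Lib.ModStalkIso.isIso_iff_stalk_bijective]
    intro x
    refine (stalkLin_restrict_bijective_iff U.ι x (RefHull.bidualMap F₀)).mpr ?_
    rw [Groth.Agent.Lib.HomSh53.bijective_stalkLin_bidualMap_iff hF₀]
    have h1 : Module.IsReflexive ((U : Scheme.{u}).presheaf.stalk x)
        ((F₀.restrict U.ι).presheaf.stalk x) := isReflexive_stalk_of_iso e.symm x (hr x)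
    exact (isReflexive_restrict_iff U.ι F₀ x).mp h1
  let e' : (RefHull.ddual F₀).restrict U.ι ≅ G :=
    (asIso ((Scheme.Modules.restrictFunctor U.ι).map (RefHull.bidualMap F₀))).symm ≪≫ e
  haveI := isIso_unit_of_reflexive X U hU (RefHull.ddual F₀) hF' hF'r
  let e'' : RefHull.ddual F₀ ≅ (Scheme.Modules.pushforward U.ι).obj G :=
    asIso ((Scheme.Modules.restrictAdjunction U.ι).unit.app (RefHull.ddual F₀)) ≪≫
      (Scheme.Modules.pushforward U.ι).mapIso e'
  exact ⟨Groth.Agent.Lib.H90CohRestrict.isCoh_of_iso e'' hF',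
    fun x => isReflexive_stalk_of_iso e'' x (hF'r x)⟩

end Groth.Agent.Lib.Refl53
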