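import Groth.Agent.Lib.MuSimple97
import Groth.Agent.Lib.H30LocDimTop
import Groth.Agent.Lib.H14SmoothReg
import Groth.Agent.Lib.H87AB
import Groth.Agent.Lib.Refl53b

/-!
# Nonzero morphisms between slope-stable reflexive sheaves (helper97)

* `two_le_dim_stalk` : on an integral scheme of dimension `n` locally of finite type over a field, the local rings at the
  points of a closed subset of dimension `≤ n - 2` have dimension `≥ 2`.
* `two_le_depth_stalk` : the same for the depth, when the scheme is smooth.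
* `isIso_of_mono_of_codim_two` : a monomorphism between coherent modules with reflexive stalks whose cokernel is supported
  in codimension `≥ 2` (depth version) is an isomorphism.
* `isIso_of_isMuStable_reflexive` : S18966.
-/

set_option autoImplicit false
set_option maxHeartbeats 400000
set_option linter.style.haveILetI false
universe u
open CategoryTheory CategoryTheory.Limits AlgebraicGeometry TopologicalSpace Polynomial

namespace Groth.Agent.Lib.MuIso97

open Groth.Agent.Lib Groth.Agent.Lib.HilbPoly48 Groth.Agent.Lib.StabGeom48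
  Groth.Agent.Lib.H90OXModSections Groth.Agent.Lib.H90DevHub2 Groth.Agent.Lib.TopPart48
  Groth.Agent.Lib.PosPoly48

theorem add_two_le {x : WithBot ℕ∞} {n : ℕ} (h : x ≤ (n : WithBot ℕ∞)) (h1 : x ≠ (n : WithBot ℕ∞))
    (h2 : x ≠ ((n - 1 : ℕ) : WithBot ℕ∞)) : x + 2 ≤ (n : WithBot ℕ∞) := by
  induction x using WithBot.recBotCoe with
  | bot => simp
  | coe m =>
    have hm : m ≤ (n : ℕ∞) := by exact_mod_cast h
    obtain ⟨m', rfl⟩ : ∃ m' : ℕ, m = (m' : ℕ∞) := by
      induction m using ENat.recTopCoe with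
      | top => simp at hm
      | coe a => exact ⟨a, rfl⟩
    have hm' : m' ≤ n := by exact_mod_cast hm
    have h1' : m' ≠ n := fun e => h1 (by rw [e]; rfl)
    have h2' : m' ≠ n - 1 := fun e => h2 (by rw [e]; rfl)
    have h3 : m' + 2 ≤ n := by omega
    have h4 : ((m' : ℕ∞) : WithBot ℕ∞) + 2 = (((m' + 2 : ℕ) : ℕ∞) : WithBot ℕ∞) := by
      push_cast
      rfl
    rw [h4]
    exact_mod_cast h3

section Dim

variable (k : Type u) [Field k] (X : Scheme.{u}) [X.Over (Spec (CommRingCat.of k))]
  [LocallyOfFiniteType (X ↘ Spec (CommRingCat.of k))] [IsIntegral X]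

include k in
theorem two_le_dim_stalk (n : ℕ) (hX : topologicalKrullDim X = (n : WithBot ℕ∞))
    (Z : Set X) (hZ : IsClosed Z) (hdim : topologicalKrullDim Z + 2 ≤ (n : WithBot ℕ∞)) (y : X) (hy : y ∈ Z) :
    2 ≤ ringKrullDim (X.presheaf.stalk y) := by
  haveI := H30DimField.jacobsonSpace k X
  have hδ := H30DimField.isDimFun k X
  have h1 := H30LocDimTop.krullDim_closure (H30DimField.td k X)
    (H30DimField.isDimensionFunction_of_isDimFun hδ) (H30DimField.td_eq_zero_of_isClosed k X) y
  have h2 : topologicalKrullDim ↥(closure ({y} : Set X)) ≤ topologicalKrullDim ↥Z :=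
    H30LocDimTop.dim_mono (closure_minimal (Set.singleton_subset_iff.mpr hy) hZ)
  have h3 := H30DimField.krullDim_eq_td k X
  have h4 := H30DimField.stalk_dim_ge hδ y (genericPoint X) (genericPoint_specializes y)
  rw [hX] at h3
  have h5 : (H30DimField.td k X (genericPoint X)).toNat = n := by exact_mod_cast h3.symm
  rw [h1] at h2
  have h6 : (((H30DimField.td k X y).toNat : ℕ) : WithBot ℕ∞) + 2 ≤ (n : WithBot ℕ∞) :=
    (add_le_add_left h2 2).trans hdim
  have h7 : (H30DimField.td k X y).toNat + 2 ≤ n := by exact_mod_cast h6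
  have hy0 := H30DimField.td_nonneg k X y
  have hη0 := H30DimField.td_nonneg k X (genericPoint X)
  have h8 : 2 ≤ (H30DimField.td k X (genericPoint X) - H30DimField.td k X y).toNat := by omega
  refine le_trans ?_ h4
  exact_mod_cast h8

end Dim

section Smooth

variable (k : Type u) [Field k] (X : Scheme.{u}) [X.Over (Spec (CommRingCat.of k))]
  [Smooth (X ↘ Spec (CommRingCat.of k))]

attribute [local instance] Curv2.stalkAlgebra in
include k in
theorem isRegularLocalRing_stalk (x : X) : IsRegularLocalRing (X.presheaf.stalk x) := by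
  haveI : LocallyOfFinitePresentation (X ↘ Spec (CommRingCat.of k)) := inferInstance
  haveI : LocallyOfFiniteType (X ↘ Spec (CommRingCat.of k)) := inferInstance
  haveI := H14SmoothReg.essFiniteType_stalk k X x
  have h : x ∈ (X ↘ Spec (CommRingCat.of k)).smoothLocus := by
    rw [Scheme.Hom.smoothLocus_eq_top]; trivial
  haveI : Algebra.FormallySmooth k (X.presheaf.stalk x) :=
    (H14SmoothReg.mem_smoothLocus_iff k X x).mp h
  exact H14SmoothReg.isRegularLocalRing_of_formallySmooth k _

include k in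
theorem two_le_depth_stalk [IsIntegral X] (n : ℕ) (hX : topologicalKrullDim X = (n : WithBot ℕ∞))
    (Z : Set X) (hZ : IsClosed Z) (hdim : topologicalKrullDim Z + 2 ≤ (n : WithBot ℕ∞)) (y : X) (hy : y ∈ Z) :
    (2 : ℕ∞) ≤ LocCoh.depth (X.presheaf.stalk y) (X.presheaf.stalk y) := by
  haveI := isRegularLocalRing_stalk k X y
  haveI : LocallyOfFiniteType (X ↘ Spec (CommRingCat.of k)) := inferInstance
  have h1 := H87AB.depth_self_of_isRegularLocalRing (X.presheaf.stalk y)
  have h2 := two_le_dim_stalk k X n hX Z hZ hdim y hy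
  rw [← h1] at h2
  have h3 : ((2 : ℕ∞) : WithBot ℕ∞) ≤
      ((LocCoh.depth (X.presheaf.stalk y) (X.presheaf.stalk y) : ℕ∞) : WithBot ℕ∞) := h2
  exact WithBot.coe_le_coe.mp h3

end Smooth

section Iso

variable {X : Scheme.{u}} [IsLocallyNoetherian X]

theorem isIso_of_mono_of_depth {F G : X.Modules} (hF : Coh.IsCoh F) (hG : Coh.IsCoh G)
    (hrF : ∀ x : X, Module.IsReflexive (X.presheaf.stalk x) (F.presheaf.stalk x))
    (hrG : ∀ x : X, Module.IsReflexive (X.presheaf.stalk x) (G.presheaf.stalk x))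
    (φ : F ⟶ G) [Mono φ]
    (hd : ∀ x ∈ CohB1.support (cokernel φ),
      (2 : ℕ∞) ≤ LocCoh.depth (X.presheaf.stalk x) (X.presheaf.stalk x)) : IsIso φ := by
  haveI : F.IsQuasicoherent := hF.1
  have hC : Coh.IsCoh (cokernel φ) := H90OXModExact.isCoh_cokernel φ hG
  have hcl : IsClosed (CohB1.support (cokernel φ)) := ModStalk.isClosed_support_of_isFT _ hC.2
  let U : X.Opens := ⟨(CohB1.support (cokernel φ))ᶜ, hcl.isOpen_compl⟩
  have hU : ∀ x : X, x ∉ U → (2 : ℕ∞) ≤ LocCoh.depth (X.presheaf.stalk x) (X.presheaf.stalk x) := by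
    intro x hx
    apply hd x
    by_contra hx'
    exact hx hx'
  haveI h1 := Refl53.isIso_unit_of_reflexive X U hU F hF hrF
  haveI h2 := Refl53.isIso_unit_of_reflexive X U hU G hG hrG
  haveI h3 : IsIso ((Scheme.Modules.restrictFunctor U.ι).map φ) := by
    rw [H90QCohLocalization.isIso_restrict_map_iff]
    constructor
    · rw [HilbPoly48.support_eq_empty_of_isZero (isZero_kernel_of_mono φ)]
      exact Set.empty_subset _
    · intro x hx
      exact fun hxU => hxU hx
  have nat := (Scheme.Modules.restrictAdjunction U.ι).unit.naturality φ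
  have h4 : φ = (Scheme.Modules.restrictAdjunction U.ι).unit.app F ≫
      (Scheme.Modules.pushforward U.ι).map ((Scheme.Modules.restrictFunctor U.ι).map φ) ≫
        inv ((Scheme.Modules.restrictAdjunction U.ι).unit.app G) := by
    rw [← Category.assoc, IsIso.eq_comp_inv]
    exact nat
  rw [h4]
  infer_instance

end Iso

section Main

variable (H : ProperFinHyp.Hyp.{u})
variable (k : Type u) [Field k] (X : Scheme.{u}) [X.Over (Spec (CommRingCat.of k))] [IsIntegral X]
  [IsProper (X ↘ Spec (CommRingCat.of k))] [Smooth (X ↘ Spec (CommRingCat.of k))]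

include H in
/-- **S18966.** -/
theorem isIso_of_isMuStable_reflexive (n : ℕ) (hX : topologicalKrullDim X = (n : WithBot ℕ∞))
    {L : X.Modules} (hL : CohB1.IsAmple L) {F G : X.Modules}
    (hFr : RefHull.IsReflexive F) (hGr : RefHull.IsReflexive G)
    (hF : ShStab.IsMuStable k X L F n) (hG : ShStab.IsMuStable k X L G n)
    {pF pG : ℚ[X]} (hpF : ShStab.IsHilbPoly k X L F pF) (hpG : ShStab.IsHilbPoly k X L G pG)
    (hle : StabCat.hatSlope n pG ≤ StabCat.hatSlope n pF) (φ : F ⟶ G) (hφ : φ ≠ 0) : IsIso φ := by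
  haveI := ParHilb48.isLocallyNoetherian k X
  obtain ⟨hFc, hF0, hFd, -, hFst⟩ := hF
  obtain ⟨hGc, hG0, hGd, -, hGst⟩ := hG
  haveI : IsIso (RefHull.bidualMap F) := hFr
  haveI : IsIso (RefHull.bidualMap G) := hGr
  have hFp : ShStab.IsPure X F n := MuSimple97.isPure_of_mono_bidualMap F n hX
  have hGp : ShStab.IsPure X G n := MuSimple97.isPure_of_mono_bidualMap G n hX
  have hGss : StabCat.IsMuSS Coh.IsCoh (ShStab.IsHilbPoly k X L) n G :=
    fun I j hj hI pI pE hpI hpE h1 h2 => (hGst I j hj hI pI pE hpI hpE h1 h2).le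
  obtain ⟨pK, pI, hK, hI, hpK, hpI, hsum, haI, haF, haG, haK⟩ :=
    setup H k X hL hFc hF0 hFp hGc hG0 hGp hpF hpG φ hφ
  have h1 : StabCat.hatSlope n pI ≤ StabCat.hatSlope n pG :=
    hatSlope_le_of_isMuSS H k X hL hGc hGd.le hGss (Abelian.factorThruCoimage φ) hI hpI hpG haI
  -- `φ` is a monomorphism
  have hKz : IsZero (kernel φ) := by
    by_contra hz
    have haK' : 0 < StabCat.alpha n pK := alpha_pos_of_isPure H k X hL hFp (kernel.ι φ) hK hz hpK
    have hKF : StabCat.alpha n pK < StabCat.alpha n pF := by rw [hsum, alpha_add]; linarith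
    have h3 := hFst _ (kernel.ι φ) inferInstance hK pK pF hpK hpF haK' hKF
    have h2 : StabCat.hatSlope n pF < StabCat.hatSlope n pI := by
      unfold StabCat.hatSlope at h3 ⊢
      rw [div_lt_div_iff₀ haK' haF] at h3
      rw [div_lt_div_iff₀ haF haI]
      rw [hsum, alpha_add, alpha_add] at h3 ⊢
      nlinarith [h3]
    exact absurd (h2.trans_le (h1.trans hle)) (lt_irrefl _)
  haveI : Mono φ := Preadditive.mono_of_isZero_kernel φ hKz
  -- the multiplicities agree
  have haFG : StabCat.alpha n pF = StabCat.alpha n pG := by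
    rcases lt_or_eq_of_le (alpha_le_of_mono H k X hL hGc hGd.le φ hFc hpF hpG) with hlt | heq
    · exact absurd ((hGst F φ inferInstance hFc pF pG hpF hpG haF hlt).trans_le hle) (lt_irrefl _)
    · exact heq
  -- the cokernel
  haveI : F.IsQuasicoherent := hFc.1
  have hC : Coh.IsCoh (cokernel φ) := H90OXModExact.isCoh_cokernel φ hGc
  have hPC := isHilbPoly_sub_left H k X hL.1 _ (H90DevTwo.shortExact_cokernel φ) hFc hGc hC hpF hpG
  have hdC : topologicalKrullDim (CohB1.support (cokernel φ)) ≤ (n : WithBot ℕ∞) :=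
    (DimDrop.topologicalKrullDim_mono (support_subset_of_epi (cokernel.π φ))).trans hGd.le
  have hdeg := natDegree_le_of_isHilbPoly k X H hL.1 hC n hdC hPC
  have h0 : StabCat.alpha n (pG - pF) = 0 := by rw [alpha_sub, haFG, sub_self]
  have h2 := alpha_pred_nonneg hdeg h0 (polyLE_zero k X hL hC hPC)
  have h3 : StabCat.alpha (n - 1) (pG - pF) = 0 := by
    apply le_antisymm _ h2
    rw [alpha_sub]
    unfold StabCat.hatSlope at hle
    rw [haFG] at hle
    have := (div_le_div_iff_of_pos_right haG).mp hle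
    linarith
  have hne1 : topologicalKrullDim (CohB1.support (cokernel φ)) ≠ (n : WithBot ℕ∞) := fun h =>
    absurd (alpha_pos H k X hL hC n h hPC) (by rw [h0]; exact lt_irrefl _)
  have hne2 : topologicalKrullDim (CohB1.support (cokernel φ)) ≠ ((n - 1 : ℕ) : WithBot ℕ∞) := fun h =>
    absurd (alpha_pos H k X hL hC (n - 1) h hPC) (by rw [h3]; exact lt_irrefl _)
  have hdim := add_two_le hdC hne1 hne2
  have hcl : IsClosed (CohB1.support (cokernel φ)) := ModStalk.isClosed_support_of_isFT _ hC.2
  -- reflexive stalks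
  have hrF : ∀ x : X, Module.IsReflexive (X.presheaf.stalk x) (F.presheaf.stalk x) := fun x =>
    Refl53.isReflexive_stalk_of_iso (asIso (RefHull.bidualMap F)).symm x
      (Refl53.isReflexiveAt_ddual hFc x)
  have hrG : ∀ x : X, Module.IsReflexive (X.presheaf.stalk x) (G.presheaf.stalk x) := fun x =>
    Refl53.isReflexive_stalk_of_iso (asIso (RefHull.bidualMap G)).symm x
      (Refl53.isReflexiveAt_ddual hGc x)
  exact isIso_of_mono_of_depth hFc hGc hrF hrG φ
    (fun x hx => two_le_depth_stalk k X n hX _ hcl hdim x hx)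

end Main

end Groth.Agent.Lib.MuIso97
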