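import Groth.Agent.Lib.StabGeom48e
import Groth.Agent.Lib.AssPush
import Groth.Agent.Lib.H90QCohLocalization
import Groth.Agent.Lib.ModStalk
import Groth.Agent.Lib.EndScalar
import Groth.Prelude.Def_RefHull
import Groth.Agent.Lib.StructureModuleStalk

/-!
# Slope-stable reflexive sheaves are simple (helper97)

* `eq_zero_of_smul_eq_zero` : on an integral scheme, a section of a module with injective biduality map which is killed
  by a nonzero function vanishes.
* `isZero_of_genericPoint_notMem_support` : a coherent submodule of such a module not supported at the generic point is zero.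
* `isPure_of_mono_bidualMap` : a coherent module with injective biduality map on an integral scheme of dimension `n` is pure
  of dimension `n`.
* `isIso_endo_of_isMuStable` : nonzero endomorphisms of a pure slope-stable module are isomorphisms.
-/

set_option autoImplicit false
set_option maxHeartbeats 400000
set_option linter.style.haveILetI false
universe u
open CategoryTheory CategoryTheory.Limits AlgebraicGeometry TopologicalSpace Polynomial

namespace Groth.Agent.Lib.MuSimple97

open Groth.Agent.Lib Groth.Agent.Lib.HilbPoly48 Groth.Agent.Lib.StabGeom48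
  Groth.Agent.Lib.H90OXModSections

section Torsion

variable {X : Scheme.{u}} [IsIntegral X]

theorem eq_zero_of_smul_eq_zero (F : X.Modules) [Mono (RefHull.bidualMap F)] {V : X.Opens}
    (g : Γ(X, V)) (hg : g ≠ 0) (t : Γ(F, V)) (h : g • t = 0) : t = 0 := by
  apply injective_app_of_mono (RefHull.bidualMap F) V
  rw [map_zero]
  apply Subtype.ext
  funext x
  rw [RefHull.bidualMap_app_apply]
  change _ = (0 : RefHull.StalkHom (RefHull.dual F) (Coh.structureModule X) x.1)
  apply LinearMap.ext
  intro θ
  rw [RefHull.bidualAt_apply, LinearMap.zero_apply]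
  have ha : X.presheaf.germ V x.1 x.2 g ≠ 0 := fun h0 =>
    hg (germ_injective_of_isIntegral X x.1 x.2 (h0.trans (map_zero _).symm))
  have h1 : X.presheaf.germ V x.1 x.2 g •
      (RefHull.evalStalk F (Coh.structureModule X) x.1 θ (F.presheaf.germ V x.1 x.2 t)) = 0 := by
    rw [← map_smul, ← Mero.germ_smul, h, map_zero, map_zero]
  set c := RefHull.evalStalk F (Coh.structureModule X) x.1 θ (F.presheaf.germ V x.1 x.2 t) with hc
  have h2 : X.presheaf.germ V x.1 x.2 g • (StructureModuleStalk.stalkEquiv x.1).symm c = 0 := by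
    rw [← map_smul, h1, map_zero]
  have h3 : (StructureModuleStalk.stalkEquiv x.1).symm c = 0 :=
    (mul_eq_zero.mp h2).resolve_left ha
  exact (LinearEquiv.map_eq_zero_iff _).mp h3

theorem sections_eq_zero_of_genericPoint_notMem (F : X.Modules) [Mono (RefHull.bidualMap F)]
    {S : X.Modules} (ι : S ⟶ F) [Mono ι] [S.IsQuasicoherent]
    (h : genericPoint X ∉ CohB1.support S) {U : X.Opens} (hU : IsAffineOpen U) (hne : (U : Set X).Nonempty)
    (s : Γ(S, U)) : s = 0 := by
  have hη : genericPoint X ∈ U :=
    ((genericPoint_spec X).mem_open_set_iff U.isOpen).mpr (by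
      rwa [Set.univ_inter])
  have hsub : Subsingleton (S.presheaf.stalk (genericPoint X)) := by
    by_contra hns
    exact h hns
  have hgerm : S.presheaf.germ U (genericPoint X) hη s = 0 := Subsingleton.elim _ _
  obtain ⟨g, hgu, hgs⟩ := (AssPush.isLocalizingOn_of_isQuasicoherent S hU).exists_smul_eq_zero_of_germ_eq_zero
    hU (genericPoint X) hη s hgerm
  have hg : g ≠ 0 := by
    rintro rfl
    rw [map_zero] at hgu
    exact not_isUnit_zero hgu
  apply injective_app_of_mono ι U
  rw [map_zero]
  apply eq_zero_of_smul_eq_zero F g hg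
  rw [← Scheme.Modules.Hom.app_smul, hgs, map_zero]

theorem isZero_of_genericPoint_notMem (F : X.Modules) [Mono (RefHull.bidualMap F)]
    {S : X.Modules} (ι : S ⟶ F) [Mono ι] [S.IsQuasicoherent]
    (h : genericPoint X ∉ CohB1.support S) : IsZero S := by
  apply H90QCohLocalization.isZero_of_stalks
  intro x
  refine ⟨fun a b => ?_⟩
  suffices H : ∀ c : S.presheaf.stalk x, c = 0 by rw [H a, H b]
  intro c
  obtain ⟨W, hxW, t, rfl⟩ := TopCat.Presheaf.exists_germ_eq S.presheaf c
  obtain ⟨U, hU, hxU, hUW⟩ := (Opens.isBasis_iff_nbhd.mp X.isBasis_affineOpens) hxW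
  have h1 : S.presheaf.map (homOfLE hUW).op t = 0 :=
    sections_eq_zero_of_genericPoint_notMem F ι h hU ⟨x, hxU⟩ _
  rw [← TopCat.Presheaf.germ_res_apply S.presheaf (homOfLE hUW) x hxU t, h1, map_zero]

theorem isPure_of_mono_bidualMap (F : X.Modules) [Mono (RefHull.bidualMap F)] (n : ℕ)
    (hX : topologicalKrullDim X = (n : WithBot ℕ∞)) : ShStab.IsPure X F n := by
  intro S ι hι hS hS0
  haveI := hι
  haveI : S.IsQuasicoherent := hS.1
  have hη : genericPoint X ∈ CohB1.support S := by
    by_contra hη
    exact hS0 (isZero_of_genericPoint_notMem F ι hη)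
  have hcl : IsClosed (CohB1.support S) := ModStalk.isClosed_support_of_isFT _ hS.2
  have huniv : CohB1.support S = Set.univ := by
    have h3 : closure {genericPoint X} ⊆ CohB1.support S :=
      closure_minimal (Set.singleton_subset_iff.mpr hη) hcl
    rw [genericPoint_closure] at h3
    exact Set.eq_univ_of_univ_subset h3
  rw [huniv, ← hX]
  exact IsHomeomorph.topologicalKrullDim_eq _ (Homeomorph.Set.univ X).isHomeomorph

end Torsion

section Proper

variable (H : ProperFinHyp.Hyp.{u})
variable (k : Type u) [Field k] (X : Scheme.{u}) [X.Over (Spec (CommRingCat.of k))]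
  [IsProper (X ↘ Spec (CommRingCat.of k))]

include H in
/-- Nonzero endomorphisms of a pure slope-stable coherent module are isomorphisms. -/
theorem isIso_endo_of_isMuSt {L : X.Modules} (hL : CohB1.IsAmple L) (d : ℕ) {F : X.Modules}
    (hFc : Coh.IsCoh F) (hF0 : ¬ IsZero F) (hFp : ShStab.IsPure X F d)
    (hst : StabCat.IsMuSt Coh.IsCoh (ShStab.IsHilbPoly k X L) d F)
    (ψ : F ⟶ F) (hψ : ψ ≠ 0) : IsIso ψ := by
  haveI := ParHilb48.isLocallyNoetherian k X
  obtain ⟨pF, -, hpF⟩ := exists_isHilbPoly_of_isPure H k X hL hFc hF0 hFp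
  obtain ⟨pK, pI, hK, hI, hpK, hpI, hsum, hαI, hαF, -, hαK⟩ :=
    setup H k X hL hFc hF0 hFp hFc hF0 hFp hpF hpF ψ hψ
  by_cases hKz : IsZero (kernel ψ)
  · haveI : Mono ψ := Preadditive.mono_of_isZero_kernel ψ hKz
    haveI : F.IsQuasicoherent := hFc.1
    have hC : Coh.IsCoh (cokernel ψ) := H90OXModExact.isCoh_cokernel ψ hFc
    have hPC := isHilbPoly_sub_left H k X hL.1 _ (H90DevTwo.shortExact_cokernel ψ) hFc hFc hC hpF hpF
    rw [sub_self] at hPC
    have hz : IsZero (cokernel ψ) := by
      by_contra hz
      obtain ⟨N, hN⟩ := polyLT_zero H k X hL hC hz hPC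
      exact lt_irrefl _ (hN N le_rfl)
    haveI : Epi ψ := Preadditive.epi_of_isZero_cokernel ψ hz
    exact isIso_of_mono_of_epi ψ
  · exfalso
    have hαK' : 0 < StabCat.alpha d pK :=
      alpha_pos_of_isPure H k X hL hFp (kernel.ι ψ) hK hKz hpK
    have hαsum : StabCat.alpha d pF = StabCat.alpha d pK + StabCat.alpha d pI := by
      rw [hsum, alpha_add]
    have hαsum' : StabCat.alpha (d - 1) pF = StabCat.alpha (d - 1) pK + StabCat.alpha (d - 1) pI := by
      rw [hsum, alpha_add]
    have h1 := hst (kernel ψ) (kernel.ι ψ) inferInstance hK pK pF hpK hpF hαK' (by linarith)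
    have h2 := hst (Abelian.coimage ψ) (Abelian.factorThruCoimage ψ) inferInstance hI pI pF hpI hpF hαI
      (by linarith)
    unfold StabCat.hatSlope at h1 h2
    rw [div_lt_div_iff₀ hαK' hαF] at h1
    rw [div_lt_div_iff₀ hαI hαF] at h2
    rw [hαsum'] at h1 h2
    have h3 : (StabCat.alpha (d - 1) pK + StabCat.alpha (d - 1) pI) * StabCat.alpha d pF <
        (StabCat.alpha (d - 1) pK + StabCat.alpha (d - 1) pI) *
          (StabCat.alpha d pK + StabCat.alpha d pI) := by
      have := add_lt_add h1 h2
      calc _ = StabCat.alpha (d - 1) pK * StabCat.alpha d pF +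
            StabCat.alpha (d - 1) pI * StabCat.alpha d pF := by ring
        _ < _ := this
        _ = _ := by ring
    rw [← hαsum] at h3
    exact lt_irrefl _ h3

end Proper

end Groth.Agent.Lib.MuSimple97
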