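import Groth.Agent.Lib.LambdaGamma6
import Mathlib.RingTheory.MvPolynomial.WeightedHomogeneous

/-!
# Symmetric polynomials: homogeneous ⇒ isobaric in the elementary symmetric polynomials
-/

set_option autoImplicit false

namespace Groth.Agent.Lib.SymmPoly6

open MvPolynomial Finset Groth.Agent.Lib.LambdaGamma6

variable {R : Type*} [CommRing R] {m : ℕ}

lemma wt_eq_weight (d : Fin m →₀ ℕ) :
    wt d = Finsupp.weight (fun k : Fin m => (k : ℕ) + 1) d := by
  rw [Finsupp.weight_apply, Finsupp.sum, wt]
  refine Finset.sum_congr rfl fun k _ => ?_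
  rw [smul_eq_mul, mul_comm]

/-- if `E Q` is homogeneous of degree `n` then all monomials of `Q` have weight `n`. -/
lemma wt_eq_of_E_isHomogeneous (Q : MvPolynomial (Fin m) R) (n : ℕ)
    (h : (E R m Q).IsHomogeneous n) : ∀ d ∈ Q.support, wt d = n := by
  classical
  set lo : MvPolynomial (Fin m) R :=
    ∑ d ∈ Q.support.filter (fun d => wt d ≠ n), monomial d (coeff d Q) with hlo
  set hi : MvPolynomial (Fin m) R :=
    ∑ d ∈ Q.support.filter (fun d => ¬ wt d ≠ n), monomial d (coeff d Q) with hhi
  have hQ : Q = lo + hi := by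
    rw [hlo, hhi, Finset.sum_filter_add_sum_filter_not]
    exact Q.as_sum
  have hhi_hom : (E R m hi).IsHomogeneous n := by
    rw [hhi, map_sum]
    refine IsHomogeneous.sum _ _ _ fun d hd => ?_
    have hd' : wt d = n := by simpa using (Finset.mem_filter.1 hd).2
    rw [← hd']
    exact E_monomial_isHomogeneous d _
  have hlo_hom : (E R m lo).IsHomogeneous n := by
    have : E R m lo = E R m Q - E R m hi := by rw [hQ, map_add]; ring
    rw [this]
    exact h.sub hhi_hom
  have hlo_zero : E R m lo = 0 := by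
    ext x
    rw [coeff_zero]
    by_cases hx : x.degree = n
    · rw [hlo, map_sum, coeff_sum]
      refine Finset.sum_eq_zero fun d hd => ?_
      have := (Finset.mem_filter.1 hd).2
      exact (E_monomial_isHomogeneous d (coeff d Q)).coeff_eq_zero (by rw [hx]; exact this.symm)
    · exact hlo_hom.coeff_eq_zero hx
  have hlo0 : lo = 0 := E_injective (by rw [hlo_zero, map_zero])
  intro d hd
  by_contra hne
  have hc : coeff d lo = coeff d Q := by
    rw [hlo, coeff_sum]
    simp only [coeff_monomial]
    rw [Finset.sum_ite_eq' _ d]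
    rw [if_pos (Finset.mem_filter.2 ⟨hd, hne⟩)]
  rw [hlo0, coeff_zero] at hc
  exact (mem_support_iff.1 hd) hc.symm

/-- a symmetric homogeneous polynomial is an isobaric polynomial in the elementary symmetric
polynomials. -/
lemma exists_isWeightedHomogeneous (p : MvPolynomial (Fin m) R) (hp : p.IsSymmetric) (n : ℕ)
    (h : p.IsHomogeneous n) :
    ∃ Q : MvPolynomial (Fin m) R,
      aeval (fun k : Fin m => esymm (Fin m) R ((k : ℕ) + 1)) Q = p ∧
      IsWeightedHomogeneous (fun k : Fin m => (k : ℕ) + 1) Q n := by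
  obtain ⟨Q, hQ⟩ := esymmAlgHom_fin_surjective R (le_refl m) ⟨p, hp⟩
  have hE : E R m Q = p := by rw [E_eq, hQ]
  refine ⟨Q, hE, ?_⟩
  intro d hd
  rw [← wt_eq_weight]
  exact wt_eq_of_E_isHomogeneous Q n (hE ▸ h) d (mem_support_iff.2 hd)

end Groth.Agent.Lib.SymmPoly6
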