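import Groth.Prelude.Def_LambdaSp
import Groth.Agent.Lib.SymmPoly6
import Mathlib.Algebra.MvPolynomial.Equiv
import Mathlib.Algebra.MvPolynomial.Monad

/-!
# Existence of the universal polynomial `P_n` for `λ^n(xy)` (two families of variables)
-/

set_option autoImplicit false

namespace Groth.Agent.Lib.MulPoly6

open MvPolynomial Finset Groth.Agent.Lib.LambdaGamma6 Groth.Agent.Lib.SymmPoly6

variable (n : ℕ)

/-- the substitution `X_k ↦ e_k(T)`, `Y_k ↦ e_k(U)` -/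
noncomputable def Φ : MvPolynomial (Fin n ⊕ Fin n) ℤ →ₐ[ℤ] MvPolynomial (Fin n ⊕ Fin n) ℤ :=
  aeval (Sum.elim (fun k : Fin n => rename Sum.inl (esymm (Fin n) ℤ ((k : ℕ) + 1)))
      (fun k : Fin n => rename Sum.inr (esymm (Fin n) ℤ ((k : ℕ) + 1))))

/-- `ψ : ℤ[T,U] ≃ (ℤ[U])[T]` -/
noncomputable abbrev ψ : MvPolynomial (Fin n ⊕ Fin n) ℤ ≃ₐ[ℤ]
    MvPolynomial (Fin n) (MvPolynomial (Fin n) ℤ) := sumAlgEquiv ℤ (Fin n) (Fin n)

lemma ψ_rename_inl (p : MvPolynomial (Fin n) ℤ) :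
    ψ n (rename Sum.inl p) = map (C : ℤ →+* MvPolynomial (Fin n) ℤ) p := by
  have := congrArg (fun f => f p) (sumAlgEquiv_comp_rename_inl (R := ℤ) (S₁ := Fin n) (S₂ := Fin n))
  simpa using this

lemma ψ_rename_inr (p : MvPolynomial (Fin n) ℤ) :
    ψ n (rename Sum.inr p) = C p := by
  have := congrArg (fun f => f p) (sumAlgEquiv_comp_rename_inr (R := ℤ) (S₁ := Fin n) (S₂ := Fin n))
  simpa using this

/-- ring homs out of `ℤ[T,U]` agreeing on variables are equal -/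
lemma ringHom_ext_int {B : Type*} [CommRing B] {f g : MvPolynomial (Fin n ⊕ Fin n) ℤ →+* B}
    (h : ∀ v, f (X v) = g (X v)) : f = g := by
  apply MvPolynomial.ringHom_ext
  · intro r
    have hf : f.comp (C : ℤ →+* _) = g.comp C := RingHom.ext_int _ _
    exact RingHom.congr_fun hf r
  · exact h

/-- `ψ ∘ Φ = E_R ∘ map E_ℤ ∘ ψ` -/
lemma ψ_Φ (P : MvPolynomial (Fin n ⊕ Fin n) ℤ) :
    ψ n (Φ n P) = E (MvPolynomial (Fin n) ℤ) n
      (map (E ℤ n).toRingHom (ψ n P)) := by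
  let f : MvPolynomial (Fin n ⊕ Fin n) ℤ →+* MvPolynomial (Fin n) (MvPolynomial (Fin n) ℤ) :=
    (ψ n).toAlgHom.toRingHom.comp (Φ n).toRingHom
  let g : MvPolynomial (Fin n ⊕ Fin n) ℤ →+* MvPolynomial (Fin n) (MvPolynomial (Fin n) ℤ) :=
    (E (MvPolynomial (Fin n) ℤ) n).toRingHom.comp
      ((map (E ℤ n).toRingHom).comp (ψ n).toAlgHom.toRingHom)
  have hfg : f = g := by
    apply ringHom_ext_int
    rintro (k | k)
    · change ψ n (Φ n (X (Sum.inl k))) = E _ n (map _ (ψ n (X (Sum.inl k))))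
      rw [Φ, aeval_X, Sum.elim_inl, ψ_rename_inl, map_esymm, sumAlgEquiv_X_inl, map_X, E, aeval_X]
    · change ψ n (Φ n (X (Sum.inr k))) = E _ n (map _ (ψ n (X (Sum.inr k))))
      rw [Φ, aeval_X, Sum.elim_inr, ψ_rename_inr, sumAlgEquiv_X_inr, map_C, E, aeval_C]
      change _ = C ((E ℤ n) (X k))
      rw [E, aeval_X]
  exact RingHom.congr_fun hfg P

/-- explicit form of `mulGen` -/
lemma mulGen_eq (N k : ℕ) :
    LambdaRing.mulGen N k =
      ∑ t ∈ (Finset.univ : Finset (Fin N × Fin N)).powersetCard k,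
        ∏ ab ∈ t, (X (Sum.inl ab.1) * X (Sum.inr ab.2) : MvPolynomial (Fin N ⊕ Fin N) ℤ) := by
  rw [LambdaRing.mulGen, Finset.esymm_map_val]

/-- `mulGen` is invariant under permuting each family. -/
lemma rename_mulGen (N k : ℕ) (σ τ : Equiv.Perm (Fin N)) :
    rename (Sum.map σ τ) (LambdaRing.mulGen N k) = LambdaRing.mulGen N k := by
  classical
  rw [mulGen_eq, map_sum]
  set e : Fin N × Fin N ↪ Fin N × Fin N := (Equiv.prodCongr σ τ).toEmbedding with he
  have h1 : ∀ t : Finset (Fin N × Fin N),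
      rename (Sum.map σ τ) (∏ ab ∈ t, (X (Sum.inl ab.1) * X (Sum.inr ab.2) :
        MvPolynomial (Fin N ⊕ Fin N) ℤ)) =
      ∏ ab ∈ t.map e, (X (Sum.inl ab.1) * X (Sum.inr ab.2) : MvPolynomial (Fin N ⊕ Fin N) ℤ) := by
    intro t
    rw [map_prod, Finset.prod_map]
    refine Finset.prod_congr rfl fun ab _ => ?_
    rw [map_mul, rename_X, rename_X]
    rfl
  simp only [h1]
  have h2 := Finset.sum_map ((Finset.univ : Finset (Fin N × Fin N)).powersetCard k)
    (Finset.mapEmbedding e).toEmbedding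
    (fun t' => ∏ ab ∈ t', (X (Sum.inl ab.1) * X (Sum.inr ab.2) : MvPolynomial (Fin N ⊕ Fin N) ℤ))
  have huniv : (Finset.univ : Finset (Fin N × Fin N)).map e = Finset.univ :=
    Finset.map_univ_equiv (Equiv.prodCongr σ τ)
  rw [← Finset.powersetCard_map, huniv] at h2
  exact h2.symm

/-- `rename σ ∘ ψ = ψ ∘ rename (σ ⊕ id)` -/
lemma rename_ψ (σ : Equiv.Perm (Fin n)) (P : MvPolynomial (Fin n ⊕ Fin n) ℤ) :
    rename σ (ψ n P) = ψ n (rename (Sum.map σ id) P) := by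
  let f : MvPolynomial (Fin n ⊕ Fin n) ℤ →+* MvPolynomial (Fin n) (MvPolynomial (Fin n) ℤ) :=
    (rename σ : MvPolynomial (Fin n) (MvPolynomial (Fin n) ℤ) →ₐ[MvPolynomial (Fin n) ℤ]
      MvPolynomial (Fin n) (MvPolynomial (Fin n) ℤ)).toRingHom.comp (ψ n).toAlgHom.toRingHom
  let g : MvPolynomial (Fin n ⊕ Fin n) ℤ →+* MvPolynomial (Fin n) (MvPolynomial (Fin n) ℤ) :=
    (ψ n).toAlgHom.toRingHom.comp
      (rename (Sum.map σ id) : MvPolynomial (Fin n ⊕ Fin n) ℤ →ₐ[ℤ]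
        MvPolynomial (Fin n ⊕ Fin n) ℤ).toRingHom
  have hfg : f = g := by
    apply ringHom_ext_int
    rintro (k | k)
    · change rename σ (ψ n (X (Sum.inl k))) = ψ n (rename (Sum.map σ id) (X (Sum.inl k)))
      rw [rename_X, Sum.map_inl, sumAlgEquiv_X_inl, sumAlgEquiv_X_inl, rename_X]
    · change rename σ (ψ n (X (Sum.inr k))) = ψ n (rename (Sum.map σ id) (X (Sum.inr k)))
      rw [rename_X, Sum.map_inr, sumAlgEquiv_X_inr, sumAlgEquiv_X_inr, rename_C]
      rfl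
  exact RingHom.congr_fun hfg P

/-- `map (rename τ) ∘ ψ = ψ ∘ rename (id ⊕ τ)` -/
lemma map_rename_ψ (τ : Equiv.Perm (Fin n)) (P : MvPolynomial (Fin n ⊕ Fin n) ℤ) :
    map (rename τ : MvPolynomial (Fin n) ℤ →ₐ[ℤ] MvPolynomial (Fin n) ℤ).toRingHom (ψ n P) =
      ψ n (rename (Sum.map id τ) P) := by
  let f : MvPolynomial (Fin n ⊕ Fin n) ℤ →+* MvPolynomial (Fin n) (MvPolynomial (Fin n) ℤ) :=
    (map (rename τ : MvPolynomial (Fin n) ℤ →ₐ[ℤ] MvPolynomial (Fin n) ℤ).toRingHom).comp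
      (ψ n).toAlgHom.toRingHom
  let g : MvPolynomial (Fin n ⊕ Fin n) ℤ →+* MvPolynomial (Fin n) (MvPolynomial (Fin n) ℤ) :=
    (ψ n).toAlgHom.toRingHom.comp
      (rename (Sum.map id τ) : MvPolynomial (Fin n ⊕ Fin n) ℤ →ₐ[ℤ]
        MvPolynomial (Fin n ⊕ Fin n) ℤ).toRingHom
  have hfg : f = g := by
    apply ringHom_ext_int
    rintro (k | k)
    · change map _ (ψ n (X (Sum.inl k))) = ψ n (rename (Sum.map id τ) (X (Sum.inl k)))
      rw [rename_X, Sum.map_inl, sumAlgEquiv_X_inl, map_X, id, sumAlgEquiv_X_inl]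
    · change map _ (ψ n (X (Sum.inr k))) = ψ n (rename (Sum.map id τ) (X (Sum.inr k)))
      rw [rename_X, Sum.map_inr, sumAlgEquiv_X_inr, sumAlgEquiv_X_inr, map_C]
      change C (rename τ (X k)) = _
      rw [rename_X]
  exact RingHom.congr_fun hfg P

/-- `map f` commutes with `E`. -/
lemma map_E {R R' : Type*} [CommRing R] [CommRing R'] (f : R →+* R') (m : ℕ)
    (Q : MvPolynomial (Fin m) R) : map f (E R m Q) = E R' m (map f Q) := by
  have h1 : E R m Q = bind₁ (fun k : Fin m => esymm (Fin m) R ((k : ℕ) + 1)) Q := rfl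
  have h2 : E R' m (map f Q) = bind₁ (fun k : Fin m => esymm (Fin m) R' ((k : ℕ) + 1)) (map f Q) :=
    rfl
  rw [h1, h2, map_bind₁]
  congr 2
  funext k
  exact map_esymm (Fin m) R ((k : ℕ) + 1) f

/-- existence of some `P₀` with `Φ P₀ = mulGen n n`. -/
theorem exists_P₀ : ∃ P₀ : MvPolynomial (Fin n ⊕ Fin n) ℤ, Φ n P₀ = LambdaRing.mulGen n n := by
  classical
  set G := ψ n (LambdaRing.mulGen n n) with hG
  -- (1) G symmetric in the outer variables
  have hGsymm : G.IsSymmetric := by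
    intro σ
    have h := rename_mulGen n n σ (Equiv.refl _)
    rw [Equiv.coe_refl] at h
    rw [hG, rename_ψ, h]
  -- (2)
  obtain ⟨Q₁', hQ₁'⟩ := esymmAlgHom_fin_surjective (MvPolynomial (Fin n) ℤ) (le_refl n) ⟨G, hGsymm⟩
  have hQ₁ : E (MvPolynomial (Fin n) ℤ) n Q₁' = G := by rw [E_eq, hQ₁']
  -- (3) coefficients symmetric
  have hcoeff : ∀ d, (coeff d Q₁').IsSymmetric := by
    intro d τ
    have h1 : map (rename τ : MvPolynomial (Fin n) ℤ →ₐ[ℤ] MvPolynomial (Fin n) ℤ).toRingHom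
        Q₁' = Q₁' := by
      apply E_injective (R := MvPolynomial (Fin n) ℤ) (m := n)
      have h := rename_mulGen n n (Equiv.refl _) τ
      rw [Equiv.coe_refl] at h
      rw [← map_E, hQ₁, hG, map_rename_ψ, h]
    have := congrArg (coeff d) h1
    rwa [coeff_map] at this
  -- (4)
  have hex : ∀ d, ∃ q : MvPolynomial (Fin n) ℤ, E ℤ n q = coeff d Q₁' := by
    intro d
    obtain ⟨q, hq⟩ := esymmAlgHom_fin_surjective ℤ (le_refl n) ⟨coeff d Q₁', hcoeff d⟩
    exact ⟨q, by rw [E_eq, hq]⟩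
  choose q hq using hex
  set Q₂ : MvPolynomial (Fin n) (MvPolynomial (Fin n) ℤ) :=
    ∑ d ∈ Q₁'.support, monomial d (q d) with hQ₂
  have hmap : map (E ℤ n).toRingHom Q₂ = Q₁' := by
    rw [hQ₂, map_sum]
    conv_rhs => rw [Q₁'.as_sum]
    refine Finset.sum_congr rfl fun d _ => ?_
    rw [map_monomial]
    congr 1
    exact hq d
  refine ⟨(ψ n).symm Q₂, ?_⟩
  apply (ψ n).injective
  rw [ψ_Φ, AlgEquiv.apply_symm_apply, hmap, hQ₁]


/-! ## Bi-weights -/

/-- the weights of `IsMulPoly`: `X_k ↦ (k+1, 0)`, `Y_k ↦ (0, k+1)` -/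
def w : Fin n ⊕ Fin n → ℕ × ℕ :=
  Sum.elim (fun k : Fin n => (((k : ℕ) + 1, 0) : ℕ × ℕ)) (fun k : Fin n => ((0, (k : ℕ) + 1) : ℕ × ℕ))

/-- bidegree weights: `T_a ↦ (1,0)`, `U_b ↦ (0,1)` -/
def ω : Fin n ⊕ Fin n → ℕ × ℕ :=
  Sum.elim (fun _ : Fin n => ((1, 0) : ℕ × ℕ)) (fun _ : Fin n => ((0, 1) : ℕ × ℕ))

lemma rename_inl_esymm_isWH (k : ℕ) :
    IsWeightedHomogeneous (ω n) (rename Sum.inl (esymm (Fin n) ℤ k) :
      MvPolynomial (Fin n ⊕ Fin n) ℤ) ((k, 0) : ℕ × ℕ) := by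
  rw [esymm, map_sum]
  refine IsWeightedHomogeneous.sum _ _ _ fun t ht => ?_
  rw [map_prod]
  have h := IsWeightedHomogeneous.prod (w := ω n) t
    (fun a => (rename Sum.inl (X a : MvPolynomial (Fin n) ℤ) : MvPolynomial (Fin n ⊕ Fin n) ℤ))
    (fun _ => ((1, 0) : ℕ × ℕ)) (fun a _ => by
      rw [rename_X]
      exact isWeightedHomogeneous_X ℤ (ω n) (Sum.inl a))
  rw [Finset.sum_const, (Finset.mem_powersetCard.1 ht).2] at h
  simpa using h

lemma rename_inr_esymm_isWH (k : ℕ) :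
    IsWeightedHomogeneous (ω n) (rename Sum.inr (esymm (Fin n) ℤ k) :
      MvPolynomial (Fin n ⊕ Fin n) ℤ) ((0, k) : ℕ × ℕ) := by
  rw [esymm, map_sum]
  refine IsWeightedHomogeneous.sum _ _ _ fun t ht => ?_
  rw [map_prod]
  have h := IsWeightedHomogeneous.prod (w := ω n) t
    (fun a => (rename Sum.inr (X a : MvPolynomial (Fin n) ℤ) : MvPolynomial (Fin n ⊕ Fin n) ℤ))
    (fun _ => ((0, 1) : ℕ × ℕ)) (fun a _ => by
      rw [rename_X]
      exact isWeightedHomogeneous_X ℤ (ω n) (Sum.inr a))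
  rw [Finset.sum_const, (Finset.mem_powersetCard.1 ht).2] at h
  simpa using h

lemma Φ_monomial_isWH (d : Fin n ⊕ Fin n →₀ ℕ) (c : ℤ) :
    IsWeightedHomogeneous (ω n) (Φ n (monomial d c)) (Finsupp.weight (w n) d) := by
  rw [Φ, aeval_monomial, ← zero_add (Finsupp.weight (w n) d)]
  refine IsWeightedHomogeneous.mul (isWeightedHomogeneous_C _ _) ?_
  rw [Finsupp.prod, Finsupp.weight_apply, Finsupp.sum]
  refine IsWeightedHomogeneous.prod _ _ _ fun v _ => ?_
  refine IsWeightedHomogeneous.pow ?_ _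
  rcases v with k | k
  · exact rename_inl_esymm_isWH n _
  · exact rename_inr_esymm_isWH n _

lemma mulGen_isWH : IsWeightedHomogeneous (ω n) (LambdaRing.mulGen n n) ((n, n) : ℕ × ℕ) := by
  rw [mulGen_eq]
  refine IsWeightedHomogeneous.sum _ _ _ fun t ht => ?_
  have h := IsWeightedHomogeneous.prod (w := ω n) t
    (fun ab : Fin n × Fin n =>
      (X (Sum.inl ab.1) * X (Sum.inr ab.2) : MvPolynomial (Fin n ⊕ Fin n) ℤ))
    (fun _ => ((1, 1) : ℕ × ℕ)) (fun ab _ => by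
      have := (isWeightedHomogeneous_X ℤ (ω n) (Sum.inl ab.1)).mul
        (isWeightedHomogeneous_X ℤ (ω n) (Sum.inr ab.2))
      simpa [ω] using this)
  rw [Finset.sum_const, (Finset.mem_powersetCard.1 ht).2] at h
  simpa using h

/-- the main existence theorem -/
theorem exists_isMulPoly : ∃ P : MvPolynomial (Fin n ⊕ Fin n) ℤ, LambdaRing.IsMulPoly n P := by
  classical
  obtain ⟨P₀, hP₀⟩ := exists_P₀ n
  set P : MvPolynomial (Fin n ⊕ Fin n) ℤ :=
    ∑ d ∈ P₀.support.filter (fun d => Finsupp.weight (w n) d = ((n, n) : ℕ × ℕ)),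
      monomial d (coeff d P₀) with hP
  set rest : MvPolynomial (Fin n ⊕ Fin n) ℤ :=
    ∑ d ∈ P₀.support.filter (fun d => ¬ Finsupp.weight (w n) d = ((n, n) : ℕ × ℕ)),
      monomial d (coeff d P₀) with hrest
  have hsum : P₀ = P + rest := by
    rw [hP, hrest, Finset.sum_filter_add_sum_filter_not]
    exact P₀.as_sum
  have hΦP : IsWeightedHomogeneous (ω n) (Φ n P) ((n, n) : ℕ × ℕ) := by
    rw [hP, map_sum]
    refine IsWeightedHomogeneous.sum _ _ _ fun d hd => ?_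
    have := Φ_monomial_isWH n d (coeff d P₀)
    rwa [(Finset.mem_filter.1 hd).2] at this
  have hΦrest : IsWeightedHomogeneous (ω n) (Φ n rest) ((n, n) : ℕ × ℕ) := by
    have : Φ n rest = Φ n P₀ - Φ n P := by rw [hsum, map_add]; ring
    rw [this, hP₀]
    exact (mulGen_isWH n).sub hΦP
  have hzero : Φ n rest = 0 := by
    ext x
    rw [coeff_zero]
    by_cases hx : Finsupp.weight (ω n) x = ((n, n) : ℕ × ℕ)
    · rw [hrest, map_sum, coeff_sum]
      refine Finset.sum_eq_zero fun d hd => ?_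
      refine (Φ_monomial_isWH n d (coeff d P₀)).coeff_eq_zero x ?_
      rw [hx]
      exact fun h => (Finset.mem_filter.1 hd).2 h.symm
    · exact hΦrest.coeff_eq_zero x hx
  refine ⟨P, ?_, ?_⟩
  · have : Φ n P = Φ n P₀ := by rw [hsum, map_add, hzero, add_zero]
    change Φ n P = _
    rw [this, hP₀]
  · intro d hd
    by_contra hne
    apply hd
    rw [hP, coeff_sum]
    refine Finset.sum_eq_zero fun d' hd' => ?_
    rw [coeff_monomial, if_neg]
    rintro rfl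
    exact hne (Finset.mem_filter.1 hd').2

end Groth.Agent.Lib.MulPoly6
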