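/-
Helper library (helper51): modules over `A = R[X]/(X^n)` (`MultCrv.Rn R n`).
* Frobenius duality `Hom_A(M, A) ≃ Hom_R(M, R)` (built on `Groth.Agent.S17941`), natural in `M`.
* Free covers `0 → K → A^m → M → 0` of finite `A`-modules with `K` finite and `R`-torsion-free.
* Dimension shifting for `Abelian.Ext` in `ModuleCat A` along such a cover.
-/
import Groth.Agent.S17941
import Mathlib.Algebra.Category.ModuleCat.Ext.Basic
import Mathlib.Algebra.Category.ModuleCat.Projective
import Mathlib.Algebra.Homology.ShortComplex.ModuleCat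
import Mathlib.Algebra.Homology.DerivedCategory.Ext.EnoughProjectives
import Mathlib.Algebra.Homology.DerivedCategory.Ext.ExactSequences
import Mathlib.Algebra.Homology.DerivedCategory.Ext.Linear
import Mathlib.LinearAlgebra.Dual.Lemmas

set_option autoImplicit false
universe u

namespace Groth.Agent.Lib.MultCrvDual

open MultCrv Polynomial Groth.Agent.S17941

section inst

variable (R : Type u) [CommRing R] (n : ℕ)

theorem finite_Rn : Module.Finite R (Rn R n) := (monic_X_pow n).finite_adjoinRoot

theorem free_Rn : Module.Free R (Rn R n) := (monic_X_pow n).free_adjoinRoot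

theorem isTorsionFree_Rn [IsDomain R] : Module.IsTorsionFree R (Rn R n) :=
  have := free_Rn R n
  inferInstance

end inst

section duality

variable {R : Type u} [CommRing R] {n : ℕ}
variable {M : Type u} [AddCommGroup M] [Module (Rn R n) M] [Module R M]
  [IsScalarTower R (Rn R n) M]

/-- The `R`-linear form attached to an `A`-linear form: its top coefficient. -/
noncomputable def toR (hn : 1 ≤ n) (l : M →ₗ[Rn R n] Rn R n) : M →ₗ[R] R :=
  (cf R n (n - 1) (by omega)) ∘ₗ (l.restrictScalars R)

@[simp] lemma toR_apply (hn : 1 ≤ n) (l : M →ₗ[Rn R n] Rn R n) (m : M) :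
    toR hn l m = cf R n (n - 1) (by omega) (l m) := rfl

lemma toR_lift (hn : 1 ≤ n) (lam : M →ₗ[R] R) : toR hn (lift lam) = lam := by
  apply LinearMap.ext
  intro m
  rw [toR_apply, cf_lift, Nat.sub_self, pow_zero, one_smul]

lemma lift_toR (hn : 1 ≤ n) (l : M →ₗ[Rn R n] Rn R n) : lift (toR hn l) = l := by
  apply LinearMap.ext
  intro m
  apply eq_of_cf
  intro j hj
  rw [cf_lift, toR_apply, map_smul, smul_eq_mul, cf_z_pow_mul, dif_pos (by omega)]
  have key : n - 1 - (n - 1 - j) = j := by omega
  congr 2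

lemma toR_injective (hn : 1 ≤ n) :
    Function.Injective (toR hn : (M →ₗ[Rn R n] Rn R n) → (M →ₗ[R] R)) := by
  intro l l' h
  rw [← lift_toR hn l, ← lift_toR hn l', h]

lemma lift_add (lam mu : M →ₗ[R] R) :
    (lift (lam + mu) : M →ₗ[Rn R n] Rn R n) = lift lam + lift mu := by
  apply LinearMap.ext
  intro m
  apply eq_of_cf
  intro j hj
  rw [LinearMap.add_apply, map_add, cf_lift, cf_lift, cf_lift, LinearMap.add_apply]

lemma lift_smul (r : R) (lam : M →ₗ[R] R) :
    (lift (r • lam) : M →ₗ[Rn R n] Rn R n) = algebraMap R (Rn R n) r • lift lam := by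
  apply LinearMap.ext
  intro m
  apply eq_of_cf
  intro j hj
  have e1 : cf R n j hj ((lift (r • lam) : M →ₗ[Rn R n] Rn R n) m) =
      r • lam (z R n ^ (n - 1 - j) • m) := by
    rw [cf_lift]; rfl
  have e2 : cf R n j hj ((algebraMap R (Rn R n) r • (lift lam : M →ₗ[Rn R n] Rn R n)) m) =
      r • lam (z R n ^ (n - 1 - j) • m) := by
    rw [LinearMap.smul_apply, algebraMap_smul, LinearMap.map_smul, cf_lift]
  rw [e1, e2]

end duality

section extgeneral

open CategoryTheory Abelian

variable {C : Type*} [Category C] [Abelian C] [HasExt C] {S : ShortComplex C}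

/-- Dimension shifting along a short exact sequence with projective middle term. -/
lemma exists_extClass_comp (hS : S.ShortExact) [Projective S.X₂] (Y : C) {k : ℕ}
    (x : Ext S.X₃ Y (k + 1)) :
    ∃ x₁ : Ext S.X₁ Y k, hS.extClass.comp x₁ (add_comm 1 k) = x :=
  Ext.contravariant_sequence_exact₃ hS Y x (Ext.eq_zero_of_projective _) (add_comm 1 k)

lemma extClass_comp_eq_zero_iff (hS : S.ShortExact) (Y : C) {k : ℕ} (x₁ : Ext S.X₁ Y k) :
    hS.extClass.comp x₁ (add_comm 1 k) = 0 ↔
      ∃ x₂ : Ext S.X₂ Y k, (Ext.mk₀ S.f).comp x₂ (zero_add k) = x₁ := by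
  constructor
  · intro h
    exact Ext.contravariant_sequence_exact₁ hS Y x₁ (add_comm 1 k) h
  · rintro ⟨x₂, rfl⟩
    rw [← Ext.comp_assoc _ _ _ (add_zero 1) (zero_add k) (by omega), hS.extClass_comp,
      Ext.zero_comp]

lemma subsingleton_ext_succ_of_subsingleton (hS : S.ShortExact) [Projective S.X₂] (Y : C) {k : ℕ}
    (h : Subsingleton (Ext S.X₁ Y k)) : Subsingleton (Ext S.X₃ Y (k + 1)) := by
  refine subsingleton_of_forall_eq 0 fun x => ?_
  obtain ⟨x₁, rfl⟩ := exists_extClass_comp hS Y x
  rw [Subsingleton.elim x₁ 0, Ext.comp_zero]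

end extgeneral

section cover

open CategoryTheory Abelian

variable (R : Type u) [CommRing R] (n : ℕ)
variable (M : Type u) [AddCommGroup M] [Module (Rn R n) M]

/-- A finite free cover of an `A`-module. -/
structure Cover where
  /-- the rank -/
  m : ℕ
  /-- the covering map -/
  q : (Fin m → Rn R n) →ₗ[Rn R n] M
  surj : Function.Surjective q

lemma nonempty_cover [Module.Finite (Rn R n) M] : Nonempty (Cover R n M) := by
  obtain ⟨m, q, hq⟩ := Module.Finite.exists_fin' (Rn R n) M
  exact ⟨⟨m, q, hq⟩⟩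

variable {R n M}

namespace Cover

variable (c : Cover R n M)

/-- The kernel of the cover. -/
noncomputable abbrev K : Submodule (Rn R n) (Fin c.m → Rn R n) := LinearMap.ker c.q

/-- The short complex `0 → K → A^m → M → 0`. -/
noncomputable abbrev S : ShortComplex (ModuleCat.{u} (Rn R n)) :=
  ModuleCat.shortComplexOfCompEqZero c.K.subtype c.q (by
    apply LinearMap.ext; intro x; exact x.2)

lemma shortExact : c.S.ShortExact :=
  ModuleCat.shortComplex_shortExact c.S
    (by
      intro x
      constructor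
      · intro hx; exact ⟨⟨x, hx⟩, rfl⟩
      · rintro ⟨y, rfl⟩; exact y.2)
    c.K.injective_subtype c.surj

instance : Projective c.S.X₂ :=
  inferInstanceAs (Projective (ModuleCat.of (Rn R n) (Fin c.m → Rn R n)))

lemma finite_K [IsNoetherianRing R] : Module.Finite (Rn R n) c.K := inferInstance

lemma isTorsionFree_K [IsDomain R] : Module.IsTorsionFree R c.K :=
  have := isTorsionFree_Rn R n
  inferInstance

end Cover

end cover

section vanishing

open CategoryTheory Abelian

variable {R : Type u} [CommRing R] [IsDomain R] [IsDiscreteValuationRing R] {n : ℕ}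

omit [IsDomain R] [IsDiscreteValuationRing R] in
/-- In `Ext^1(M, N)` computed by a free cover, the class of `φ : K → N` vanishes iff `φ` extends
to the free module. -/
lemma Cover.extClass_comp_mk₀_eq_zero_iff {M : Type u} [AddCommGroup M] [Module (Rn R n) M]
    (c : Cover R n M) (N : ModuleCat.{u} (Rn R n)) (φ : c.S.X₁ ⟶ N) :
    c.shortExact.extClass.comp (Ext.mk₀ φ) (add_comm 1 0) = 0 ↔
      ∃ ψ : c.S.X₂ ⟶ N, c.S.f ≫ ψ = φ := by
  rw [extClass_comp_eq_zero_iff]
  constructor
  · rintro ⟨x₂, hx₂⟩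
    obtain ⟨ψ, rfl⟩ := (Ext.mk₀_bijective _ _).2 x₂
    rw [Ext.mk₀_comp_mk₀] at hx₂
    exact ⟨ψ, (Ext.mk₀_bijective _ _).1 hx₂⟩
  · rintro ⟨ψ, rfl⟩
    exact ⟨Ext.mk₀ ψ, Ext.mk₀_comp_mk₀ _ _⟩

/-- `Ext^i_A(M, A) = 0` for `i ≥ 1` when `M` is a finite `A`-module which is torsion-free over
the discrete valuation ring `R`, `A = R[X]/(X^n)`. -/
theorem subsingleton_ext_self_of_isTorsionFree (hn : 1 ≤ n) (k : ℕ) :
    ∀ (M : Type u) [AddCommGroup M] [Module (Rn R n) M] [Module R M]
      [IsScalarTower R (Rn R n) M] [Module.Finite (Rn R n) M] [Module.IsTorsionFree R M],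
      Subsingleton (Ext (ModuleCat.of (Rn R n) M) (ModuleCat.of (Rn R n) (Rn R n)) (k + 1)) := by
  induction k with
  | zero =>
    intro M _ _ _ _ _ _
    obtain ⟨c⟩ := nonempty_cover R n M
    refine subsingleton_of_forall_eq 0 fun x => ?_
    obtain ⟨x₁, rfl⟩ := exists_extClass_comp c.shortExact _ x
    obtain ⟨φ, rfl⟩ := (Ext.mk₀_bijective _ _).2 x₁
    rw [c.extClass_comp_mk₀_eq_zero_iff]
    have := isTorsionFree_Rn R n
    have hsurj := Groth.Agent.S17941.result R n hn c.K (Fin c.m → Rn R n) M c.K.subtype c.q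
      c.K.injective_subtype c.surj (by
        ext x
        simp only [LinearMap.mem_range, LinearMap.mem_ker]
        constructor
        · rintro ⟨y, rfl⟩; exact y.2
        · intro hx; exact ⟨⟨x, hx⟩, rfl⟩)
    obtain ⟨ψ, hψ⟩ := hsurj φ.hom
    refine ⟨ModuleCat.ofHom ψ, ?_⟩
    ext x
    exact LinearMap.congr_fun hψ x
  | succ k ih =>
    intro M _ _ _ _ _ _
    obtain ⟨c⟩ := nonempty_cover R n M
    have := c.finite_K
    have := c.isTorsionFree_K
    exact subsingleton_ext_succ_of_subsingleton c.shortExact _ (ih c.K)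

end vanishing

end Groth.Agent.Lib.MultCrvDual
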