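/-
Helper library (helper51), continuation of `Lib/MultCrvDual`: for `A = R[X]/(X^n)` over a discrete
valuation ring `R`, `z^(n-1)` kills `Ext^i_A(M, N)` (`i ≥ 1`) when `M` is finite and `R`-torsion-free.
-/
import Groth.Agent.Lib.MultCrvDual

set_option autoImplicit false
universe u

namespace Groth.Agent.Lib.MultCrvDual

open MultCrv Polynomial Groth.Agent.S17941

section commz

variable {R : Type u} [CommRing R] {n : ℕ}
variable {M N : Type u} [AddCommGroup M] [Module (Rn R n) M] [Module R M]
  [IsScalarTower R (Rn R n) M] [AddCommGroup N] [Module (Rn R n) N] [Module R N]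
  [IsScalarTower R (Rn R n) N]

/-- An `R`-linear map between `A`-modules commuting with `z` is `A`-linear. -/
lemma map_smul_of_comm_z (g : M →ₗ[R] N) (hz : ∀ m, g (z R n • m) = z R n • g m)
    (a : Rn R n) (m : M) : g (a • m) = a • g m := by
  obtain ⟨p, rfl⟩ := Ideal.Quotient.mk_surjective a
  induction p using Polynomial.induction_on generalizing m with
  | C r =>
    have : (Ideal.Quotient.mk (Ideal.span {(X : R[X]) ^ n}) (C r)) = algebraMap R (Rn R n) r := rfl
    rw [this, algebraMap_smul, algebraMap_smul, map_smul]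
  | add p q hp hq =>
    rw [map_add, add_smul, add_smul, map_add, hp, hq]
  | monomial k r h =>
    have : (Ideal.Quotient.mk (Ideal.span {(X : R[X]) ^ n}) (C r * X ^ (k + 1))) =
        (Ideal.Quotient.mk (Ideal.span {(X : R[X]) ^ n}) (C r * X ^ k)) * z R n := by
      rw [z, ← map_mul, pow_succ, mul_assoc]
    rw [this, mul_smul, mul_smul, h, hz]

/-- Upgrade an `R`-linear map commuting with `z` to an `A`-linear map. -/
def linearOfCommZ (g : M →ₗ[R] N) (hz : ∀ m, g (z R n • m) = z R n • g m) :
    M →ₗ[Rn R n] N where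
  toFun := g
  map_add' := map_add g
  map_smul' := map_smul_of_comm_z g hz

@[simp] lemma linearOfCommZ_apply (g : M →ₗ[R] N) (hz : ∀ m, g (z R n • m) = z R n • g m)
    (m : M) : linearOfCommZ g hz m = g m := rfl

end commz

section tau

variable {R : Type u} [CommRing R] [IsDomain R] [IsDiscreteValuationRing R] {n : ℕ}
variable {F M : Type u} [AddCommGroup F] [Module (Rn R n) F] [Module R F]
  [IsScalarTower R (Rn R n) F]
  [AddCommGroup M] [Module (Rn R n) M] [Module R M] [IsScalarTower R (Rn R n) M]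
  [Module.Finite (Rn R n) M] [Module.IsTorsionFree R M]

/-- The key endomorphism: for a map `q : F → M` onto (or just into) a finite `R`-torsion-free
`A`-module, multiplication by `z^(n-1)` on `ker q` extends to an `A`-linear map `F → ker q`. -/
lemma exists_tau (hn : 1 ≤ n) (q : F →ₗ[Rn R n] M) :
    ∃ τ : F →ₗ[Rn R n] F, (∀ f, q (τ f) = 0) ∧ ∀ f, q f = 0 → τ f = z R n ^ (n - 1) • f := by
  set a := z R n ^ (n - 1) with ha
  have haz : a * z R n = 0 := by rw [ha, ← pow_succ, Nat.sub_add_cancel hn, z_pow_n]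
  have := finite_Rn R n
  have hfinM : Module.Finite R M := Module.Finite.trans (Rn R n) M
  let g : F →ₗ[R] M := ((a • LinearMap.id : M →ₗ[Rn R n] M) ∘ₗ q).restrictScalars R
  have hg : ∀ f, g f = a • q f := fun f => rfl
  have hfin₁ : Module.Finite R (LinearMap.range g) := inferInstance
  have hfree₁ : Module.Free R (LinearMap.range g) := inferInstance
  obtain ⟨s, hs⟩ := Module.projective_lifting_property g.rangeRestrict
    (LinearMap.id : LinearMap.range g →ₗ[R] LinearMap.range g) g.surjective_rangeRestrict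
  have hs' : ∀ x : LinearMap.range g, a • q (s x) = x := fun x => by
    have := LinearMap.congr_fun hs x
    exact congrArg Subtype.val this
  let τ₀ : F →ₗ[R] F := (LinearMap.lsmul (Rn R n) F a).restrictScalars R -
    ((LinearMap.lsmul (Rn R n) F a).restrictScalars R) ∘ₗ s ∘ₗ g.rangeRestrict
  have hτ₀ : ∀ f, τ₀ f = a • f - a • s (g.rangeRestrict f) := fun f => rfl
  have h0F : ∀ f : F, a • z R n • f = 0 := fun f => by
    rw [← mul_smul, haz]; exact zero_smul (Rn R n) f
  have h0F' : ∀ f : F, z R n • a • f = 0 := fun f => by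
    rw [← mul_smul, mul_comm, haz]; exact zero_smul (Rn R n) f
  have h0M : ∀ m : M, a • z R n • m = 0 := fun m => by
    rw [← mul_smul, haz]; exact zero_smul (Rn R n) m
  have hz : ∀ f, τ₀ (z R n • f) = z R n • τ₀ f := by
    intro f
    have h1 : g.rangeRestrict (z R n • f) = 0 := by
      apply Subtype.ext
      change g (z R n • f) = 0
      rw [hg, map_smul, h0M]
    rw [hτ₀, hτ₀, h1, map_zero, smul_zero, sub_zero, h0F, smul_sub, h0F', h0F', sub_zero]
  refine ⟨linearOfCommZ τ₀ hz, ?_, ?_⟩
  · intro f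
    rw [linearOfCommZ_apply, hτ₀, map_sub, map_smul, map_smul, hs']
    change a • q f - g f = 0
    rw [hg, sub_self]
  · intro f hf
    have h1 : g.rangeRestrict f = 0 := by
      apply Subtype.ext
      change g f = 0
      rw [hg, hf, smul_zero]
    rw [linearOfCommZ_apply, hτ₀, h1, map_zero, smul_zero, sub_zero]

end tau

section kill

open CategoryTheory Abelian

variable {R : Type u} [CommRing R] [IsDomain R] [IsDiscreteValuationRing R] {n : ℕ}

/-- `z^(n-1)` kills `Ext^i_A(M, N)`, `i ≥ 1`, for `M` finite over `A = R[X]/(X^n)` and torsion-free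
over the discrete valuation ring `R`. -/
theorem smul_ext_eq_zero_of_isTorsionFree (hn : 1 ≤ n) (N : ModuleCat.{u} (Rn R n)) (k : ℕ) :
    ∀ (M : Type u) [AddCommGroup M] [Module (Rn R n) M] [Module R M]
      [IsScalarTower R (Rn R n) M] [Module.Finite (Rn R n) M] [Module.IsTorsionFree R M]
      (x : Ext (ModuleCat.of (Rn R n) M) N (k + 1)), (z R n ^ (n - 1)) • x = 0 := by
  induction k with
  | zero =>
    intro M _ _ _ _ _ _ x
    obtain ⟨c⟩ := nonempty_cover R n M
    obtain ⟨x₁, rfl⟩ := exists_extClass_comp c.shortExact _ x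
    obtain ⟨φ, rfl⟩ := (Ext.mk₀_bijective _ _).2 x₁
    rw [← Ext.comp_smul, ← Ext.mk₀_smul, c.extClass_comp_mk₀_eq_zero_iff]
    obtain ⟨τ, hτ1, hτ2⟩ := exists_tau hn c.q
    let τK : (Fin c.m → Rn R n) →ₗ[Rn R n] c.K := τ.codRestrict c.K hτ1
    refine ⟨ModuleCat.ofHom (φ.hom ∘ₗ τK), ?_⟩
    ext k
    change φ.hom (τK (k : Fin c.m → Rn R n)) = (z R n ^ (n - 1)) • φ.hom k
    have : τK (k : Fin c.m → Rn R n) = (z R n ^ (n - 1)) • k := Subtype.ext (hτ2 k k.2)
    rw [this, map_smul]
  | succ k ih =>
    intro M _ _ _ _ _ _ x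
    obtain ⟨c⟩ := nonempty_cover R n M
    have := c.finite_K
    have := c.isTorsionFree_K
    obtain ⟨x₁, rfl⟩ := exists_extClass_comp c.shortExact _ x
    rw [← Ext.comp_smul, ih c.K x₁, Ext.comp_zero]

end kill

end Groth.Agent.Lib.MultCrvDual
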