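import Groth.Agent.Lib.MultType58d

/-!
# Torsion ideals of Hopf algebras: functoriality, base change, quotients

* `map_torsionIdeal_of_surjective`, `comap_torsionIdeal_equiv`: functoriality of `SGA3b.torsionIdeal`.
* `torsionIdeal_baseChange`: `torsionIdeal S (S ⊗ A) n` is the extension of `torsionIdeal R A n`.
* `bialgEquivOfSurjective`: two surjective bialgebra maps with the same kernel have isomorphic targets.
-/

set_option autoImplicit false
set_option linter.unusedSectionVars false
set_option linter.unusedVariables false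

universe u

open TensorProduct WithConv

namespace Groth.Agent.Lib.MultTors55

open Groth.Agent.Lib.MultType58

section General

variable {R : Type u} [CommRing R] {A : Type u} [CommRing A] [HopfAlgebra R A]
variable {B : Type u} [CommRing B] [HopfAlgebra R B]

theorem powConv_mem_torsionIdeal (n : ℕ) {a : A} (ha : Coalgebra.counit (R := R) a = 0) :
    SGA3b.powConv R A n a ∈ SGA3b.torsionIdeal R A n :=
  Ideal.mem_map_of_mem _ (by rw [RingHom.mem_ker]; exact ha)

theorem torsionIdeal_le_iff (n : ℕ) (J : Ideal A) :
    SGA3b.torsionIdeal R A n ≤ J ↔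
      ∀ a : A, Coalgebra.counit (R := R) a = 0 → SGA3b.powConv R A n a ∈ J := by
  unfold SGA3b.torsionIdeal
  rw [Ideal.map_le_iff_le_comap]
  constructor
  · intro h a ha
    exact h (by rw [RingHom.mem_ker]; exact ha)
  · intro h a ha
    exact h a ha

/-- `powConv n a - ε(a)` lies in the torsion ideal. -/
theorem powConv_sub_counit_mem (n : ℕ) (a : A) :
    SGA3b.powConv R A n a - algebraMap R A (Coalgebra.counit a) ∈ SGA3b.torsionIdeal R A n := by
  have h1 : Coalgebra.counit (R := R) (a - algebraMap R A (Coalgebra.counit a)) = 0 := by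
    rw [map_sub]
    have : Coalgebra.counit (R := R) (algebraMap R A (Coalgebra.counit a)) =
        Coalgebra.counit a := by
      have := (Bialgebra.counitAlgHom R A).commutes (Coalgebra.counit a)
      simpa using this
    rw [this, sub_self]
  have h2 := powConv_mem_torsionIdeal (R := R) n h1
  rwa [map_sub, AlgHom.commutes] at h2

theorem map_torsionIdeal_le (f : A →ₐc[R] B) (n : ℕ) :
    Ideal.map f (SGA3b.torsionIdeal R A n) ≤ SGA3b.torsionIdeal R B n := by
  rw [Ideal.map_le_iff_le_comap, torsionIdeal_le_iff]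
  intro a ha
  rw [Ideal.mem_comap, bialgHom_powConv]
  apply powConv_mem_torsionIdeal
  rw [CoalgHomClass.counit_comp_apply, ha]

theorem map_torsionIdeal_of_surjective (f : A →ₐc[R] B) (hf : Function.Surjective f) (n : ℕ) :
    Ideal.map f (SGA3b.torsionIdeal R A n) = SGA3b.torsionIdeal R B n := by
  apply le_antisymm (map_torsionIdeal_le f n)
  rw [torsionIdeal_le_iff]
  intro b hb
  obtain ⟨a, rfl⟩ := hf b
  rw [← bialgHom_powConv]
  apply Ideal.mem_map_of_mem
  apply powConv_mem_torsionIdeal
  rw [← hb, CoalgHomClass.counit_comp_apply]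

theorem comap_torsionIdeal_equiv (e : A ≃ₐc[R] B) (n : ℕ) :
    Ideal.comap (e : A →ₐc[R] B) (SGA3b.torsionIdeal R B n) = SGA3b.torsionIdeal R A n := by
  rw [← map_torsionIdeal_of_surjective (e : A →ₐc[R] B) e.surjective n]
  exact Ideal.comap_map_of_bijective (e : A →ₐc[R] B) e.bijective

end General

section BaseChange

variable {R : Type u} [CommRing R] {A : Type u} [CommRing A] [HopfAlgebra R A]
variable (S : Type u) [CommRing S] [Algebra R S]

theorem powConv_sub_counit_mem_map (n : ℕ) (y : S ⊗[R] A) :
    SGA3b.powConv S (S ⊗[R] A) n y - algebraMap S (S ⊗[R] A) (Coalgebra.counit y) ∈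
      Ideal.map (Algebra.TensorProduct.includeRight : A →ₐ[R] S ⊗[R] A)
        (SGA3b.torsionIdeal R A n) := by
  induction y using TensorProduct.induction_on with
  | zero => simp
  | add x y hx hy =>
    rw [map_add, map_add, map_add, add_sub_add_comm]
    exact Ideal.add_mem _ hx hy
  | tmul s a =>
    rw [powConv_tmul, counit_tmul', mul_comm, map_mul, algebraMap_tmul_one,
      Algebra.TensorProduct.algebraMap_apply, Algebra.TensorProduct.tmul_mul_tmul]
    have h1 : s ⊗ₜ[R] SGA3b.powConv R A n a -
        ((algebraMap S S) s * 1) ⊗ₜ[R] (1 * (algebraMap R A) (Coalgebra.counit a)) =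
        (s ⊗ₜ[R] (1 : A)) * (Algebra.TensorProduct.includeRight : A →ₐ[R] S ⊗[R] A)
          (SGA3b.powConv R A n a - algebraMap R A (Coalgebra.counit a)) := by
      rw [Algebra.TensorProduct.includeRight_apply, Algebra.TensorProduct.tmul_mul_tmul]
      simp [TensorProduct.tmul_sub]
    rw [h1]
    exact Ideal.mul_mem_left _ _ (Ideal.mem_map_of_mem _ (powConv_sub_counit_mem n a))

theorem torsionIdeal_baseChange (n : ℕ) :
    SGA3b.torsionIdeal S (S ⊗[R] A) n =
      Ideal.map (Algebra.TensorProduct.includeRight : A →ₐ[R] S ⊗[R] A)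
        (SGA3b.torsionIdeal R A n) := by
  apply le_antisymm
  · rw [torsionIdeal_le_iff]
    intro y hy
    have := powConv_sub_counit_mem_map S n y
    rwa [hy, map_zero, sub_zero] at this
  · rw [Ideal.map_le_iff_le_comap, torsionIdeal_le_iff]
    intro a ha
    rw [Ideal.mem_comap, Algebra.TensorProduct.includeRight_apply, ← powConv_one_tmul]
    apply powConv_mem_torsionIdeal
    rw [counit_tmul', ha, map_zero, zero_mul]

end BaseChange

section Quot

variable {S : Type u} [CommRing S] {X Y Z : Type u} [CommRing X] [CommRing Y] [CommRing Z]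

/-- Two surjective algebra maps with the same kernel have isomorphic targets. -/
noncomputable def algEquivOfSurjective [Algebra S X] [Algebra S Y] [Algebra S Z]
    (f : X →ₐ[S] Y) (g : X →ₐ[S] Z) (hf : Function.Surjective f)
    (hg : Function.Surjective g) (h : RingHom.ker f = RingHom.ker g) : Y ≃ₐ[S] Z :=
  (Ideal.quotientKerAlgEquivOfSurjective hf).symm.trans
    ((Ideal.quotientEquivAlgOfEq S h).trans (Ideal.quotientKerAlgEquivOfSurjective hg))

theorem algEquivOfSurjective_apply [Algebra S X] [Algebra S Y] [Algebra S Z]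
    (f : X →ₐ[S] Y) (g : X →ₐ[S] Z) (hf : Function.Surjective f)
    (hg : Function.Surjective g) (h : RingHom.ker f = RingHom.ker g) (x : X) :
    algEquivOfSurjective f g hf hg h (f x) = g x := by
  unfold algEquivOfSurjective
  have h1 : (Ideal.quotientKerAlgEquivOfSurjective hf).symm (f x) =
      Ideal.Quotient.mk (RingHom.ker f) x := by
    rw [AlgEquiv.symm_apply_eq]
    rfl
  rw [AlgEquiv.trans_apply, h1, AlgEquiv.trans_apply]
  rfl

variable [Bialgebra S X] [Bialgebra S Y] [Bialgebra S Z]

theorem algEquivOfSurjective_comp [Algebra S X] [Algebra S Y] [Algebra S Z]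
    (f : X →ₐ[S] Y) (g : X →ₐ[S] Z) (hf : Function.Surjective f)
    (hg : Function.Surjective g) (h : RingHom.ker f = RingHom.ker g) :
    ((algEquivOfSurjective f g hf hg h : Y ≃ₐ[S] Z) : Y →ₐ[S] Z).comp f = g :=
  AlgHom.ext fun x => algEquivOfSurjective_apply f g hf hg h x

/-- Two surjective bialgebra maps with the same kernel have isomorphic targets. -/
noncomputable def bialgEquivOfSurjective
    (f : X →ₐc[S] Y) (g : X →ₐc[S] Z) (hf : Function.Surjective f)
    (hg : Function.Surjective g)
    (h : RingHom.ker (f : X →ₐ[S] Y) = RingHom.ker (g : X →ₐ[S] Z)) : Y ≃ₐc[S] Z :=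
  BialgEquiv.ofAlgEquiv (algEquivOfSurjective (f : X →ₐ[S] Y) (g : X →ₐ[S] Z) hf hg h)
    (by
      rw [← AlgHom.cancel_right (f := (f : X →ₐ[S] Y)) hf, AlgHom.comp_assoc,
        algEquivOfSurjective_comp, BialgHom.counitAlgHom_comp, BialgHom.counitAlgHom_comp])
    (by
      rw [← AlgHom.cancel_right (f := (f : X →ₐ[S] Y)) hf, AlgHom.comp_assoc,
        AlgHom.comp_assoc, algEquivOfSurjective_comp, ← BialgHom.map_comp_comulAlgHom,
        ← BialgHom.map_comp_comulAlgHom, ← AlgHom.comp_assoc, ← Algebra.TensorProduct.map_comp,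
        algEquivOfSurjective_comp])

theorem bialgEquivOfSurjective_apply
    (f : X →ₐc[S] Y) (g : X →ₐc[S] Z) (hf : Function.Surjective f)
    (hg : Function.Surjective g)
    (h : RingHom.ker (f : X →ₐ[S] Y) = RingHom.ker (g : X →ₐ[S] Z)) (x : X) :
    bialgEquivOfSurjective f g hf hg h (f x) = g x :=
  algEquivOfSurjective_apply (f : X →ₐ[S] Y) (g : X →ₐ[S] Z) hf hg h x

end Quot

section Diag

variable {R : Type u} [CommRing R] {M : Type u} [CommGroup M]

/-- The subgroup of `n`-th powers. -/
def powSubgroup (M : Type u) [CommGroup M] (n : ℕ) : Subgroup M := (powMonoidHom n : M →* M).range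

theorem pow_mem_powSubgroup (n : ℕ) (m : M) : m ^ n ∈ powSubgroup M n := ⟨m, rfl⟩

variable (R M) in
/-- The quotient map `R[M] → R[M/Mⁿ]`. -/
noncomputable def quotHom (n : ℕ) :
    MonoidAlgebra R M →ₐc[R] MonoidAlgebra R (M ⧸ powSubgroup M n) :=
  MonoidAlgebra.mapDomainBialgHom R (QuotientGroup.mk' (powSubgroup M n))

theorem quotHom_single (n : ℕ) (m : M) (r : R) :
    quotHom R M n (MonoidAlgebra.single m r) =
      MonoidAlgebra.single (QuotientGroup.mk' (powSubgroup M n) m) r :=
  MonoidAlgebra.mapDomainBialgHom_single _ _ _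

theorem quotHom_surjective (n : ℕ) : Function.Surjective (quotHom R M n) := by
  intro y
  induction y using MonoidAlgebra.induction_linear with
  | zero => exact ⟨0, map_zero _⟩
  | add f g hf hg =>
    obtain ⟨a, rfl⟩ := hf
    obtain ⟨b, rfl⟩ := hg
    exact ⟨a + b, map_add _ _ _⟩
  | single q r =>
    obtain ⟨m, rfl⟩ := QuotientGroup.mk'_surjective (powSubgroup M n) q
    exact ⟨MonoidAlgebra.single m r, quotHom_single n m r⟩

theorem powTriv_quot (n : ℕ) : PowTriv R (MonoidAlgebra R (M ⧸ powSubgroup M n)) n := by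
  intro a
  induction a using MonoidAlgebra.induction_linear with
  | zero => simp
  | add f g hf hg => rw [map_add, map_add, map_add, hf, hg]
  | single q r =>
    obtain ⟨m, rfl⟩ := QuotientGroup.mk'_surjective (powSubgroup M n) q
    have h1 : (QuotientGroup.mk' (powSubgroup M n) m) ^ n = 1 := by
      rw [← map_pow, QuotientGroup.mk'_apply, QuotientGroup.eq_one_iff]
      exact pow_mem_powSubgroup n m
    rw [powConv_single, h1, MonoidAlgebra.counit_single]
    simp [MonoidAlgebra.coe_algebraMap]

theorem single_sub_single_mem (n : ℕ) (m m' : M) (r : R)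
    (h : QuotientGroup.mk' (powSubgroup M n) m = QuotientGroup.mk' (powSubgroup M n) m') :
    (MonoidAlgebra.single m r - MonoidAlgebra.single m' r : MonoidAlgebra R M) ∈
      SGA3b.torsionIdeal R (MonoidAlgebra R M) n := by
  rw [QuotientGroup.mk'_apply, QuotientGroup.mk'_apply, QuotientGroup.eq] at h
  obtain ⟨j, hj⟩ := h
  have hj' : m' = m * j ^ n := by
    have : j ^ n = m⁻¹ * m' := hj
    rw [this, mul_inv_cancel_left]
  have h1 : (MonoidAlgebra.single m r - MonoidAlgebra.single m' r : MonoidAlgebra R M) =
      - (MonoidAlgebra.single m r *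
        SGA3b.powConv R (MonoidAlgebra R M) n
          (MonoidAlgebra.single j 1 - MonoidAlgebra.single 1 1)) := by
    rw [map_sub, powConv_single, powConv_single, one_pow, mul_sub,
      MonoidAlgebra.single_mul_single, MonoidAlgebra.single_mul_single, mul_one, mul_one,
      ← hj', neg_sub]
  rw [h1]
  apply Ideal.neg_mem_iff _ |>.mpr
  apply Ideal.mul_mem_left
  apply powConv_mem_torsionIdeal
  rw [map_sub, MonoidAlgebra.counit_single, MonoidAlgebra.counit_single, sub_self]

theorem ker_quotHom (n : ℕ) :
    RingHom.ker (quotHom R M n : MonoidAlgebra R M →ₐ[R] MonoidAlgebra R (M ⧸ powSubgroup M n)) =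
      SGA3b.torsionIdeal R (MonoidAlgebra R M) n := by
  apply le_antisymm
  · intro x hx
    rw [RingHom.mem_ker] at hx
    let σ : M ⧸ powSubgroup M n → M := fun q => (QuotientGroup.mk'_surjective _ q).choose
    have hσ : ∀ q, QuotientGroup.mk' (powSubgroup M n) (σ q) = q :=
      fun q => (QuotientGroup.mk'_surjective _ q).choose_spec
    have key : ∀ y : MonoidAlgebra R M,
        y - MonoidAlgebra.mapDomainLinearMap R R σ (quotHom R M n y) ∈
          SGA3b.torsionIdeal R (MonoidAlgebra R M) n := by
      intro y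
      induction y using MonoidAlgebra.induction_linear with
      | zero => simp
      | add f g hf hg =>
        rw [map_add, map_add, add_sub_add_comm]
        exact Ideal.add_mem _ hf hg
      | single m r =>
        rw [quotHom_single, MonoidAlgebra.mapDomainLinearMap_single]
        exact single_sub_single_mem n m _ r (hσ _).symm
    have := key x
    have hx' : (quotHom R M n) x = 0 := hx
    rwa [hx', map_zero, sub_zero] at this
  · rw [torsionIdeal_le_iff]
    intro a ha
    rw [RingHom.mem_ker]
    change quotHom R M n (SGA3b.powConv R (MonoidAlgebra R M) n a) = 0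
    rw [bialgHom_powConv, powTriv_quot n, CoalgHomClass.counit_comp_apply, ha, map_zero]

end Diag

end Groth.Agent.Lib.MultTors55
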