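import Groth.Agent.Lib.MultTors55a

/-!
# The kernel of the `n`-th power map of a group of multiplicative type

* `TorsQuot R A B n`: `B` is the quotient of `A` by `torsionIdeal R A n` (via a bialgebra map).
* `TorsQuot.baseChange`, `TorsQuot.isDiag`, `TorsQuot.isMultType`.
-/

set_option autoImplicit false
set_option linter.unusedSectionVars false
set_option linter.unusedVariables false

universe u

open TensorProduct WithConv

namespace Groth.Agent.Lib.MultTors55

open Groth.Agent.Lib.MultType58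

section TorsQuot

variable (R : Type u) [CommRing R] (A : Type u) [CommRing A] [HopfAlgebra R A]
variable (B : Type u) [CommRing B] [HopfAlgebra R B]

/-- `B` is (via a surjective bialgebra map) the quotient of `A` by the `n`-torsion ideal. -/
def TorsQuot (n : ℕ) : Prop :=
  ∃ π : A →ₐc[R] B, Function.Surjective π ∧
    RingHom.ker (π : A →ₐ[R] B) = SGA3b.torsionIdeal R A n

variable {R A B}

theorem torsQuot_quotient (n : ℕ) (J : Ideal A) [J.IsHopfIdeal R]
    (hJ : J = SGA3b.torsionIdeal R A n) : TorsQuot R A (A ⧸ J) n := by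
  refine ⟨Bialgebra.Quotient.mkBialgHom J, Ideal.Quotient.mk_surjective, ?_⟩
  rw [← hJ]
  ext x
  rw [RingHom.mem_ker]
  exact Ideal.Quotient.eq_zero_iff_mem

theorem ker_baseChange (S : Type u) [CommRing S] [Algebra R S] (π : A →ₐc[R] B)
    (hπ : Function.Surjective π) :
    RingHom.ker ((Bialgebra.TensorProduct.map (BialgHom.id S S) π :
        S ⊗[R] A →ₐc[S] S ⊗[R] B) : S ⊗[R] A →ₐ[S] S ⊗[R] B) =
      Ideal.map (Algebra.TensorProduct.includeRight : A →ₐ[R] S ⊗[R] A)
        (RingHom.ker (π : A →ₐ[R] B)) := by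
  rw [← Algebra.TensorProduct.lTensor_ker (A := S) (π : A →ₐ[R] B) hπ]
  ext x
  simp only [RingHom.mem_ker]
  rfl

theorem TorsQuot.baseChange {n : ℕ} (h : TorsQuot R A B n) (S : Type u) [CommRing S]
    [Algebra R S] : TorsQuot S (S ⊗[R] A) (S ⊗[R] B) n := by
  obtain ⟨π, hπ, hker⟩ := h
  refine ⟨Bialgebra.TensorProduct.map (BialgHom.id S S) π, ?_, ?_⟩
  · exact Algebra.TensorProduct.map_surjective (AlgHom.id S S) (π : A →ₐ[R] B)
      Function.surjective_id hπ
  · rw [ker_baseChange S π hπ, hker, torsionIdeal_baseChange]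

theorem TorsQuot.isDiag {n : ℕ} (h : TorsQuot R A B n) (hA : SGA3b.IsDiag R A) :
    SGA3b.IsDiag R B := by
  obtain ⟨π, hπ, hker⟩ := h
  obtain ⟨M, _, ⟨e⟩⟩ := hA
  refine ⟨M ⧸ powSubgroup M n, inferInstance, ⟨?_⟩⟩
  refine bialgEquivOfSurjective π ((quotHom R M n).comp (e : A →ₐc[R] MonoidAlgebra R M)) hπ
    ((quotHom_surjective n).comp e.surjective) ?_
  rw [hker, ← comap_torsionIdeal_equiv e n, ← ker_quotHom]
  ext x
  simp only [RingHom.mem_ker, Ideal.mem_comap]
  rfl

theorem TorsQuot.isMultTypeConst {n : ℕ} (h : TorsQuot R A B n)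
    (hA : SGA3b.IsMultTypeConst R A) : SGA3b.IsMultTypeConst R B := by
  obtain ⟨R', _, _, hff, hd⟩ := hA
  exact ⟨R', inferInstance, inferInstance, hff, (h.baseChange R').isDiag hd⟩

theorem TorsQuot.isMultType {n : ℕ} (h : TorsQuot R A B n)
    (hA : SGA3b.IsMultType R A) : SGA3b.IsMultType R B := by
  obtain ⟨s, hs, hf⟩ := hA
  exact ⟨s, hs, fun f hfs => (h.baseChange (Localization.Away f)).isMultTypeConst (hf f hfs)⟩

theorem TorsQuot.powTriv {n : ℕ} (h : TorsQuot R A B n) : PowTriv R B n := by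
  obtain ⟨π, hπ, hker⟩ := h
  rw [← torsionIdeal_eq_bot_iff, ← map_torsionIdeal_of_surjective π hπ n, ← hker]
  rw [Ideal.map_eq_bot_iff_le_ker]
  exact le_rfl

theorem TorsQuot.finiteType {n : ℕ} (h : TorsQuot R A B n) (hft : Algebra.FiniteType R A) :
    Algebra.FiniteType R B := by
  obtain ⟨π, hπ, hker⟩ := h
  exact hft.of_surjective (π : A →ₐ[R] B) hπ

/-- The kernel of the `n`-th power map (`n > 0`) of a group of multiplicative type and of finite
type is finite. -/
theorem TorsQuot.finite {n : ℕ} (hn : 0 < n) (h : TorsQuot R A B n)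
    (hft : Algebra.FiniteType R A) (hA : SGA3b.IsMultType R A) : Module.Finite R B := by
  rw [finite_iff_torsionIdeal_eq_bot (h.finiteType hft) (h.isMultType hA)]
  exact ⟨n, hn, (torsionIdeal_eq_bot_iff R B n).mpr h.powTriv⟩

end TorsQuot

end Groth.Agent.Lib.MultTors55
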