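import Groth.Agent.Lib.MultTors55b

/-!
# Weak density of the torsion subgroups of a group of multiplicative type

* `exists_not_mem_powSubgroup`: f.g. commutative groups have no nontrivial infinitely divisible
  elements.
* `exists_injOn_mk`: a finite subset of a f.g. commutative group injects into `M/Mⁿ` for some `n > 0`.
* `iInf_torsionIdeal_eq_bot`: for `G = Spec A` of multiplicative type and of finite type, the
  intersection of the ideals of the `ₙG`, `n > 0`, is zero.
-/

set_option autoImplicit false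
set_option linter.unusedSectionVars false
set_option linter.unusedVariables false

universe u

open TensorProduct WithConv

namespace Groth.Agent.Lib.MultTors55

open Groth.Agent.Lib.MultType58

section GroupTheory

variable {M : Type u} [CommGroup M]

theorem powSubgroup_le_of_dvd {n N : ℕ} (h : n ∣ N) : powSubgroup M N ≤ powSubgroup M n := by
  rintro _ ⟨g, rfl⟩
  obtain ⟨k, rfl⟩ := h
  refine ⟨g ^ k, ?_⟩
  simp only [powMonoidHom_apply]
  rw [← pow_mul, mul_comm]

theorem exists_not_mem_powSubgroup [Group.FG M] (g : M) (hg : g ≠ 1) :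
    ∃ n : ℕ, 0 < n ∧ g ∉ powSubgroup M n := by
  obtain ⟨ι, j, _, _, p, hp, e, ⟨φ⟩⟩ := CommGroup.equiv_free_prod_prod_multiplicative_zmod M
  have hφg : φ g ≠ 1 := fun h => hg (by simpa using h)
  by_cases h1 : (φ g).1 = 1
  · have h2 : (φ g).2 ≠ 1 := fun h => hφg (Prod.ext h1 h)
    obtain ⟨i, hi⟩ : ∃ i, (φ g).2 i ≠ 1 := by
      by_contra hcon
      push_neg at hcon
      exact h2 (funext hcon)
    refine ⟨p i ^ e i, pow_pos (hp i).pos _, ?_⟩
    rintro ⟨h, hh⟩
    apply hi
    have h3 : φ g = (φ h) ^ (p i ^ e i) := by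
      rw [← map_pow]
      exact congrArg φ hh.symm
    rw [h3]
    simp only [Prod.pow_snd, Pi.pow_apply]
    apply Multiplicative.toAdd.injective
    rw [toAdd_pow, toAdd_one, nsmul_eq_mul]
    rw [ZMod.natCast_self, zero_mul]
  · obtain ⟨t, ht⟩ : ∃ t, (φ g).1 t ≠ 1 := by
      by_contra hcon
      push_neg at hcon
      exact h1 (funext hcon)
    have key : ∀ N : ℕ, g ∈ powSubgroup M N →
        (N : ℤ) ∣ Multiplicative.toAdd ((φ g).1 t) := by
      rintro N ⟨h, hh⟩
      have h3 : φ g = (φ h) ^ N := by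
        rw [← map_pow]
        exact congrArg φ hh.symm
      refine ⟨Multiplicative.toAdd ((φ h).1 t), ?_⟩
      rw [h3]
      simp only [Prod.pow_fst, Pi.pow_apply]
      rw [toAdd_pow, nsmul_eq_mul]
    obtain ⟨z, hz⟩ : ∃ z : ℤ, z = Multiplicative.toAdd ((φ g).1 t) := ⟨_, rfl⟩
    have hz0 : z ≠ 0 := by
      intro h0
      apply ht
      apply Multiplicative.toAdd.injective
      rw [← hz, h0, toAdd_one]
    refine ⟨z.natAbs + 1, Nat.succ_pos _, ?_⟩
    intro hmem
    have h5 := key _ hmem
    rw [← hz] at h5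
    have h6 := Int.natAbs_dvd_natAbs.mpr h5
    rw [Int.natAbs_natCast] at h6
    have h7 := Nat.le_of_dvd (Int.natAbs_pos.mpr hz0) h6
    omega

theorem exists_injOn_mk [Group.FG M] (S : Finset M) :
    ∃ n : ℕ, 0 < n ∧ Set.InjOn (QuotientGroup.mk' (powSubgroup M n)) (S : Set M) := by
  classical
  have hex : ∀ g : M, ∃ n : ℕ, 0 < n ∧ (g ≠ 1 → g ∉ powSubgroup M n) := by
    intro g
    by_cases hg : g = 1
    · exact ⟨1, Nat.one_pos, fun h => absurd hg h⟩
    · obtain ⟨n, hn, h⟩ := exists_not_mem_powSubgroup g hg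
      exact ⟨n, hn, fun _ => h⟩
  choose ν hν hν' using hex
  refine ⟨∏ q ∈ S ×ˢ S, ν (q.1⁻¹ * q.2), Finset.prod_pos fun q _ => hν _, ?_⟩
  intro a ha b hb hab
  rw [QuotientGroup.mk'_apply, QuotientGroup.mk'_apply, QuotientGroup.eq] at hab
  have hdvd : ν (a⁻¹ * b) ∣ ∏ q ∈ S ×ˢ S, ν (q.1⁻¹ * q.2) :=
    Finset.dvd_prod_of_mem (fun q : M × M => ν (q.1⁻¹ * q.2))
      (Finset.mem_product.mpr ⟨ha, hb⟩ : (a, b) ∈ S ×ˢ S)
  have h1 := powSubgroup_le_of_dvd hdvd hab
  by_contra hne
  have h2 : a⁻¹ * b ≠ 1 := by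
    intro h
    apply hne
    rw [inv_mul_eq_one] at h
    exact h
  exact hν' _ h2 h1

end GroupTheory

section DiagDensity

variable {R : Type u} [CommRing R] {M : Type u} [CommGroup M]

theorem coeff_quotHom (n : ℕ) (x : MonoidAlgebra R M) :
    (quotHom R M n x).coeff =
      Finsupp.mapDomain (QuotientGroup.mk' (powSubgroup M n)) x.coeff := rfl

/-- Weak density in the diagonalisable case. -/
theorem diag_eq_zero_of_forall_mem [Group.FG M] (x : MonoidAlgebra R M)
    (hx : ∀ n : ℕ, 0 < n → x ∈ SGA3b.torsionIdeal R (MonoidAlgebra R M) n) : x = 0 := by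
  obtain ⟨n, hn, hinj⟩ := exists_injOn_mk (M := M) x.coeff.support
  have h1 := hx n hn
  rw [← ker_quotHom, RingHom.mem_ker] at h1
  have h2 : (quotHom R M n x).coeff = 0 := by
    have : quotHom R M n x = 0 := h1
    rw [this]
    rfl
  rw [coeff_quotHom] at h2
  have h3 := Finsupp.mapDomain_injOn (M := R) (x.coeff.support : Set M) hinj
    (show x.coeff ∈ {w : M →₀ R | (w.support : Set M) ⊆ (x.coeff.support : Set M)} from
      Set.Subset.rfl)
    (show (0 : M →₀ R) ∈ {w : M →₀ R | (w.support : Set M) ⊆ (x.coeff.support : Set M)} by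
      simp)
    (by rw [h2, Finsupp.mapDomain_zero])
  apply MonoidAlgebra.coeff_injective
  rw [h3]
  rfl

end DiagDensity

section Descent

variable (R : Type u) [CommRing R] (A : Type u) [CommRing A] [HopfAlgebra R A]

/-- Weak density of torsion: the intersection of the ideals of the `ₙG`, `n > 0`, is zero. -/
def WeakDense : Prop :=
  ∀ x : A, (∀ n : ℕ, 0 < n → x ∈ SGA3b.torsionIdeal R A n) → x = 0

variable {R A}

theorem weakDense_of_isDiag (hft : Algebra.FiniteType R A) (h : SGA3b.IsDiag R A) :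
    WeakDense R A := by
  obtain ⟨M, _, ⟨e⟩⟩ := h
  intro x hx
  rcases subsingleton_or_nontrivial R with hR | hR
  · have : Subsingleton A := Module.subsingleton R _
    exact Subsingleton.elim _ _
  · have hft' : Algebra.FiniteType R (MonoidAlgebra R M) :=
      hft.equiv (e : A ≃ₐ[R] MonoidAlgebra R M)
    have hfg : Group.FG M := MonoidAlgebra.finiteType_iff_group_fg.mp hft'
    have h1 : e x = 0 := by
      apply diag_eq_zero_of_forall_mem
      intro n hn
      exact map_torsionIdeal_le (e : A →ₐc[R] MonoidAlgebra R M) n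
        (Ideal.mem_map_of_mem _ (hx n hn))
    exact e.injective (h1.trans (map_zero e).symm)

theorem weakDense_of_faithfullyFlat (S : Type u) [CommRing S] [Algebra R S]
    [Module.FaithfullyFlat R S] (hS : WeakDense S (S ⊗[R] A)) : WeakDense R A := by
  intro x hx
  have h1 : (1 : S) ⊗ₜ[R] x = 0 := by
    apply hS
    intro n hn
    rw [torsionIdeal_baseChange]
    exact Ideal.mem_map_of_mem (Algebra.TensorProduct.includeRight : A →ₐ[R] S ⊗[R] A) (hx n hn)
  apply Module.FaithfullyFlat.tensorProduct_mk_injective (A := R) (B := S) A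
  change (1 : S) ⊗ₜ[R] x = (1 : S) ⊗ₜ[R] (0 : A)
  rw [h1, TensorProduct.tmul_zero]

theorem weakDense_of_isMultTypeConst (hft : Algebra.FiniteType R A)
    (h : SGA3b.IsMultTypeConst R A) : WeakDense R A := by
  obtain ⟨R', _, _, hff, hd⟩ := h
  exact weakDense_of_faithfullyFlat R' (weakDense_of_isDiag inferInstance hd)

/-- Weak density of torsion for groups of multiplicative type and of finite type. -/
theorem weakDense_of_isMultType (hft : Algebra.FiniteType R A)
    (h : SGA3b.IsMultType R A) : WeakDense R A := by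
  obtain ⟨s, hs, hf⟩ := h
  intro x hx
  rw [← Submodule.mem_bot R]
  refine Submodule.mem_of_span_eq_top_of_smul_pow_mem ⊥ s hs _ fun f => ?_
  have hloc : WeakDense (Localization.Away (f : R)) (Localization.Away (f : R) ⊗[R] A) :=
    weakDense_of_isMultTypeConst inferInstance (hf f f.2)
  have h1 : (1 : Localization.Away (f : R)) ⊗ₜ[R] x = 0 := by
    apply hloc
    intro n hn
    rw [torsionIdeal_baseChange]
    exact Ideal.mem_map_of_mem
      (Algebra.TensorProduct.includeRight : A →ₐ[R] Localization.Away (f : R) ⊗[R] A) (hx n hn)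
  have h2 : TensorProduct.mk R (Localization.Away (f : R)) A 1 x =
      TensorProduct.mk R (Localization.Away (f : R)) A 1 0 := by
    rw [map_zero]
    exact h1
  obtain ⟨n, hn⟩ := IsLocalizedModule.Away.exists_of_eq (f : R) h2
  refine ⟨n, ?_⟩
  rw [Submodule.mem_bot, hn, smul_zero]

theorem iInf_torsionIdeal_eq_bot (hft : Algebra.FiniteType R A) (h : SGA3b.IsMultType R A) :
    ⨅ n : {n : ℕ // 0 < n}, SGA3b.torsionIdeal R A n.1 = ⊥ := by
  rw [eq_bot_iff]
  intro x hx
  rw [Ideal.mem_iInf] at hx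
  rw [Ideal.mem_bot]
  exact weakDense_of_isMultType hft h x fun n hn => hx ⟨n, hn⟩

end Descent

end Groth.Agent.Lib.MultTors55
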