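import Groth.Agent.Lib.MultTors55c
import Groth.Agent.Lib.MultType58c
import Groth.Agent.Lib.HopfAntipode

/-!
# Groups of multiplicative type are commutative; the torsion ideals are Hopf ideals

* `isCocomm_of_isMultType`: the Hopf algebra of a group of multiplicative type is cocommutative.
* `isHopfIdeal_map_augIdeal`: the ideal of the kernel of a bialgebra map (any base ring).
* `powBialgHom`, `isHopfIdeal_torsionIdeal`.
* `antipodeBialgHom`.
-/

set_option autoImplicit false
set_option linter.unusedSectionVars false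
set_option linter.unusedVariables false

universe u

open TensorProduct WithConv

namespace Groth.Agent.Lib.MultTors55

open Groth.Agent.Lib.MultType58

section Cocomm

variable {R : Type u} [CommRing R] {A : Type u} [CommRing A] [HopfAlgebra R A]

theorem isCocomm_of_bialgEquiv {B : Type u} [CommRing B] [HopfAlgebra R B] (e : A ≃ₐc[R] B)
    [Coalgebra.IsCocomm R B] : Coalgebra.IsCocomm R A := by
  refine ⟨LinearMap.ext fun a => ?_⟩
  have hinj : Function.Injective (TensorProduct.map (e : A →ₗ[R] B) (e : A →ₗ[R] B)) :=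
    (TensorProduct.map_bijective (f := (e : A →ₗ[R] B)) (g := (e : A →ₗ[R] B))
      e.bijective e.bijective).injective
  apply hinj
  have h1 : TensorProduct.map (e : A →ₗ[R] B) (e : A →ₗ[R] B) (Coalgebra.comul (R := R) a) =
      Coalgebra.comul (R := R) (e a) :=
    CoalgHomClass.map_comp_comul_apply e a
  rw [LinearMap.comp_apply, LinearEquiv.coe_coe, h1]
  have h2 : ∀ t : A ⊗[R] A, TensorProduct.map (e : A →ₗ[R] B) (e : A →ₗ[R] B)
      (TensorProduct.comm R A A t) =
      TensorProduct.comm R B B (TensorProduct.map (e : A →ₗ[R] B) (e : A →ₗ[R] B) t) := by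
    intro t
    induction t using TensorProduct.induction_on with
    | zero => simp
    | add x y hx hy => simp only [map_add, hx, hy]
    | tmul x y => simp
  rw [h2, h1, Coalgebra.comm_comul]

theorem isCocomm_of_isDiag (h : SGA3b.IsDiag R A) : Coalgebra.IsCocomm R A := by
  obtain ⟨M, _, ⟨e⟩⟩ := h
  exact isCocomm_of_bialgEquiv e

/-- The defect of cocommutativity dies after a base change to a cocommutative Hopf algebra. -/
theorem one_tmul_comm_comul_sub (S : Type u) [CommRing S] [Algebra R S]
    [Coalgebra.IsCocomm S (S ⊗[R] A)] (a : A) :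
    (1 : S) ⊗ₜ[R] (TensorProduct.comm R A A (Coalgebra.comul (R := R) a) -
      Coalgebra.comul (R := R) a) = 0 := by
  apply (TensorProduct.AlgebraTensorModule.distribBaseChange R S A A).injective
  rw [map_zero, TensorProduct.tmul_sub, map_sub, sub_eq_zero]
  have h1 : TensorProduct.AlgebraTensorModule.distribBaseChange R S A A
      ((1 : S) ⊗ₜ[R] Coalgebra.comul (R := R) a) =
      Coalgebra.comul (R := S) ((1 : S) ⊗ₜ[R] a) := by
    rw [← (reprBC S (Coalgebra.Repr.arbitrary R a)).eq, ← (Coalgebra.Repr.arbitrary R a).eq,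
      TensorProduct.tmul_sum, map_sum]
    rfl
  have h2 : ∀ t : A ⊗[R] A, TensorProduct.AlgebraTensorModule.distribBaseChange R S A A
      ((1 : S) ⊗ₜ[R] TensorProduct.comm R A A t) =
      TensorProduct.comm S (S ⊗[R] A) (S ⊗[R] A)
        (TensorProduct.AlgebraTensorModule.distribBaseChange R S A A ((1 : S) ⊗ₜ[R] t)) := by
    intro t
    induction t using TensorProduct.induction_on with
    | zero => simp
    | add x y hx hy => simp only [map_add, TensorProduct.tmul_add, hx, hy]
    | tmul x y => simp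
  rw [h2, h1, Coalgebra.comm_comul]

theorem isCocomm_of_faithfullyFlat (S : Type u) [CommRing S] [Algebra R S]
    [Module.FaithfullyFlat R S] [Coalgebra.IsCocomm S (S ⊗[R] A)] : Coalgebra.IsCocomm R A := by
  refine ⟨LinearMap.ext fun a => ?_⟩
  have h := one_tmul_comm_comul_sub (R := R) (A := A) S a
  rw [Module.FaithfullyFlat.one_tmul_eq_zero_iff, sub_eq_zero] at h
  exact h

theorem isCocomm_of_isMultTypeConst (h : SGA3b.IsMultTypeConst R A) :
    Coalgebra.IsCocomm R A := by
  obtain ⟨R', _, _, hff, hd⟩ := h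
  have := isCocomm_of_isDiag hd
  exact isCocomm_of_faithfullyFlat R'

/-- The Hopf algebra of a group of multiplicative type is cocommutative. -/
theorem isCocomm_of_isMultType (h : SGA3b.IsMultType R A) : Coalgebra.IsCocomm R A := by
  obtain ⟨s, hs, hf⟩ := h
  refine ⟨LinearMap.ext fun a => ?_⟩
  rw [← sub_eq_zero, ← Submodule.mem_bot R]
  refine Submodule.mem_of_span_eq_top_of_smul_pow_mem ⊥ s hs _ fun f => ?_
  have := isCocomm_of_isMultTypeConst (hf f f.2)
  have h1 := one_tmul_comm_comul_sub (R := R) (A := A) (Localization.Away (f : R)) a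
  have h2 : TensorProduct.mk R (Localization.Away (f : R)) (A ⊗[R] A) 1
      (TensorProduct.comm R A A (Coalgebra.comul (R := R) a) - Coalgebra.comul (R := R) a) =
      TensorProduct.mk R (Localization.Away (f : R)) (A ⊗[R] A) 1 0 := by
    rw [map_zero]
    exact h1
  obtain ⟨n, hn⟩ := IsLocalizedModule.Away.exists_of_eq (f : R) h2
  refine ⟨n, ?_⟩
  rw [Submodule.mem_bot]
  simpa using hn

end Cocomm

section HopfIdeal

variable {R : Type u} [CommRing R] {C A : Type u} [CommRing C] [HopfAlgebra R C]
  [CommRing A] [HopfAlgebra R A]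

theorem map_counit_counit_comul (b : C) :
    TensorProduct.map (CoalgebraStruct.counit (R := R) (A := C))
      (CoalgebraStruct.counit (R := R) (A := C)) (CoalgebraStruct.comul (R := R) b) =
      (1 : R) ⊗ₜ[R] CoalgebraStruct.counit (R := R) b := by
  have h1 := Coalgebra.rTensor_counit_comul (R := R) b
  have h2 := congrArg ((CoalgebraStruct.counit (R := R) (A := C)).lTensor R) h1
  rw [← LinearMap.comp_apply, LinearMap.lTensor_comp_rTensor, LinearMap.lTensor_tmul] at h2
  exact h2

/-- `π ∘ ψ = η ∘ ε` for `π : A → A / ψ(C⁺)A`. -/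
theorem mk_map_eq_algebraMap_counit (ψ : C →ₐc[R] A) (J : Ideal A)
    (hJ : J = Ideal.map ψ (RingHom.ker (Bialgebra.counitAlgHom R C))) (d : C) :
    Ideal.Quotient.mk J (ψ d) = algebraMap R (A ⧸ J) (CoalgebraStruct.counit (R := R) d) := by
  have h1 : d - algebraMap R C (CoalgebraStruct.counit (R := R) d) ∈
      RingHom.ker (Bialgebra.counitAlgHom R C) := by
    rw [RingHom.mem_ker, map_sub, Bialgebra.counitAlgHom_apply, AlgHom.commutes]
    simp
  have h2 : ψ (d - algebraMap R C (CoalgebraStruct.counit (R := R) d)) ∈ J := by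
    rw [hJ]
    exact Ideal.mem_map_of_mem _ h1
  rw [map_sub, AlgHomClass.commutes] at h2
  have h3 := (Ideal.Quotient.eq_zero_iff_mem).2 h2
  rw [map_sub, sub_eq_zero] at h3
  rw [h3]
  rfl

/-- For a bialgebra map `ψ : C → A` of commutative Hopf algebras over a ring, `ψ(C⁺) A` is a Hopf
ideal (helper41's `Comod.isHopfIdeal_map_augIdeal`, for any base ring). -/
theorem isHopfIdeal_map_augIdeal (ψ : C →ₐc[R] A) :
    (Ideal.map ψ (RingHom.ker (Bialgebra.counitAlgHom R C))).IsHopfIdeal R := by
  set J : Ideal A := Ideal.map ψ (RingHom.ker (Bialgebra.counitAlgHom R C)) with hJ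
  have hcounit : J ≤ RingHom.ker (Bialgebra.counitAlgHom R A) := by
    refine hJ.le.trans (Ideal.map_le_iff_le_comap.2 ?_)
    intro b hb
    rw [RingHom.mem_ker, Bialgebra.counitAlgHom_apply] at hb
    rw [Ideal.mem_comap, RingHom.mem_ker, Bialgebra.counitAlgHom_apply,
      CoalgHomClass.counit_comp_apply, hb]
  let Φ : A →ₐ[R] (A ⧸ J) ⊗[R] (A ⧸ J) :=
    (Algebra.TensorProduct.map (Ideal.Quotient.mkₐ R J) (Ideal.Quotient.mkₐ R J)).comp
      (Bialgebra.comulAlgHom R A)
  have hcomul : J ≤ RingHom.ker (Φ : A →+* (A ⧸ J) ⊗[R] (A ⧸ J)) := by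
    refine hJ.le.trans (Ideal.map_le_iff_le_comap.2 ?_)
    intro b hb
    rw [RingHom.mem_ker, Bialgebra.counitAlgHom_apply] at hb
    rw [Ideal.mem_comap, RingHom.mem_ker]
    show TensorProduct.map (Ideal.Quotient.mkₐ R J).toLinearMap (Ideal.Quotient.mkₐ R J).toLinearMap
      (CoalgebraStruct.comul (R := R) (ψ b)) = 0
    rw [← CoalgHomClass.map_comp_comul_apply ψ b, ← LinearMap.comp_apply,
      ← TensorProduct.map_comp]
    have hπψ : (Ideal.Quotient.mkₐ R J).toLinearMap ∘ₗ (ψ : C →ₗ[R] A) =
        Algebra.linearMap R (A ⧸ J) ∘ₗ CoalgebraStruct.counit (R := R) (A := C) := by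
      apply LinearMap.ext
      intro d
      exact mk_map_eq_algebraMap_counit ψ J hJ d
    rw [hπψ, TensorProduct.map_comp, LinearMap.comp_apply, map_counit_counit_comul, hb,
      TensorProduct.tmul_zero, map_zero]
  have hanti : J ≤ Ideal.comap (HopfAlgebra.antipodeAlgHom R A) J := by
    refine hJ.le.trans (Ideal.map_le_iff_le_comap.2 ?_)
    intro b hb
    rw [RingHom.mem_ker, Bialgebra.counitAlgHom_apply] at hb
    rw [Ideal.mem_comap, Ideal.mem_comap, HopfAlgebra.antipodeAlgHom_apply,
      ← bialgHom_antipode ψ b]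
    apply Ideal.mem_map_of_mem
    rw [RingHom.mem_ker, Bialgebra.counitAlgHom_apply, HopfAlgebra.counit_antipode, hb]
  exact
    { counit_eq_zero := fun x hx => hcounit hx
      map_mkQ_comul_eq_zero := fun x hx => hcomul hx
      antipode_mem := fun x hx => hanti hx }

end HopfIdeal

section PowBialg

variable (R : Type u) [CommRing R] (A : Type u) [CommRing A] [HopfAlgebra R A]
  [Coalgebra.IsCocomm R A]

/-- The `n`-th power endomorphism of a commutative group, as a bialgebra map. -/
noncomputable def powBialgHom (n : ℕ) : A →ₐc[R] A :=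
  WithConv.ofConv ((WithConv.toConv (BialgHom.id R A)) ^ n)

theorem powBialgHom_apply (n : ℕ) (a : A) : powBialgHom R A n a = SGA3b.powConv R A n a := by
  have h := BialgHom.toAlgHom_convPow (WithConv.toConv (BialgHom.id R A)) n
  have h2 := congrArg (fun g : WithConv (A →ₐ[R] A) => g.ofConv a) h
  exact h2

theorem torsionIdeal_eq_map_powBialgHom (n : ℕ) :
    SGA3b.torsionIdeal R A n =
      Ideal.map (powBialgHom R A n) (RingHom.ker (Bialgebra.counitAlgHom R A)) := by
  unfold SGA3b.torsionIdeal
  apply le_antisymm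
  · rw [Ideal.map_le_iff_le_comap]
    intro a ha
    rw [Ideal.mem_comap, ← powBialgHom_apply]
    exact Ideal.mem_map_of_mem _ ha
  · rw [Ideal.map_le_iff_le_comap]
    intro a ha
    rw [Ideal.mem_comap, powBialgHom_apply]
    exact Ideal.mem_map_of_mem _ ha

/-- The ideal of `ₙG` is a Hopf ideal for commutative `G`. -/
theorem isHopfIdeal_torsionIdeal (n : ℕ) : (SGA3b.torsionIdeal R A n).IsHopfIdeal R := by
  rw [torsionIdeal_eq_map_powBialgHom]
  exact isHopfIdeal_map_augIdeal (powBialgHom R A n)

end PowBialg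

end Groth.Agent.Lib.MultTors55
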