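import Groth.Agent.Lib.MultTors55d

/-!
# Rigidity of the trivial homomorphism modulo an arbitrary ideal

`Rigid2 R A`: a bialgebra map `φ : C → A` which is trivial modulo `I A` is trivial modulo
`I^(k+1) A` for every `k`.  Holds for groups of multiplicative type (`rigid2_of_isMultType`).
-/

set_option autoImplicit false
set_option linter.unusedSectionVars false
set_option linter.unusedVariables false

universe u

open TensorProduct WithConv

namespace Groth.Agent.Lib.MultTors55

open Groth.Agent.Lib.MultType58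

section Diag

variable {R : Type u} [CommRing R] {M : Type u} [CommGroup M]

theorem mem_map_of_coeff_mem (J : Ideal R) (x : MonoidAlgebra R M) (h : ∀ m, x.coeff m ∈ J) :
    x ∈ J.map (algebraMap R (MonoidAlgebra R M)) := by
  rw [← MonoidAlgebra.sum_coeff_single x]
  refine Ideal.sum_mem _ fun m _ => ?_
  rw [MonoidAlgebra.single_eq_algebraMap_mul_of]
  exact Ideal.mul_mem_right _ _ (Ideal.mem_map_of_mem _ (h m))

variable {C : Type u} [CommRing C] [Bialgebra R C]

theorem diag_sub_counit_mem_pow (I : Ideal R) (ψ : C →ₐc[R] MonoidAlgebra R M)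
    (h0 : ∀ c : C, ψ c - algebraMap R (MonoidAlgebra R M) (Coalgebra.counit c) ∈
      I.map (algebraMap R (MonoidAlgebra R M))) (k : ℕ) (c : C) :
    ψ c - algebraMap R (MonoidAlgebra R M) (Coalgebra.counit c) ∈
      (I ^ (k + 1)).map (algebraMap R (MonoidAlgebra R M)) := by
  classical
  have hbase : ∀ m : M, m ≠ 1 → ∀ c : C, coefLin m (ψ c) ∈ I := by
    intro m hm c
    have := coefLin_mem_of_mem_map I (h0 c) m
    rw [map_sub, MonoidAlgebra.coe_algebraMap, Function.comp_apply, coefLin_single,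
      if_neg (Ne.symm hm), sub_zero] at this
    exact this
  have hpow : ∀ m : M, m ≠ 1 → ∀ k : ℕ, ∀ c : C, coefLin m (ψ c) ∈ I ^ (k + 1) := by
    intro m hm k
    induction k with
    | zero => intro c; simpa using hbase m hm c
    | succ k ih =>
      intro c
      rw [coef_comp_idem ψ m c]
      refine Ideal.sum_mem _ fun i _ => ?_
      rw [pow_succ]
      exact Ideal.mul_mem_mul (ih _) (hbase m hm _)
  apply mem_map_of_coeff_mem
  intro m
  have hcoef : (ψ c - algebraMap R (MonoidAlgebra R M) (Coalgebra.counit c)).coeff m =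
      coefLin m (ψ c) - (if 1 = m then Coalgebra.counit c else 0) := by
    rw [← coefLin_apply, map_sub, MonoidAlgebra.coe_algebraMap, Function.comp_apply,
      coefLin_single]
    rfl
  rw [hcoef]
  by_cases hm : m = 1
  · subst hm
    rw [if_pos rfl]
    have hc : Coalgebra.counit (R := R) (ψ c) = Coalgebra.counit c :=
      LinearMap.congr_fun (CoalgHomClass.counit_comp ψ) c
    rw [← hc, counit_eq_sum, Finsupp.sum]
    have hsplit : ∑ a ∈ (ψ c).coeff.support, (ψ c).coeff a =
        (ψ c).coeff 1 + ∑ a ∈ (ψ c).coeff.support, (if a = 1 then 0 else (ψ c).coeff a) := by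
      have h1 : ∑ a ∈ (ψ c).coeff.support, (if a = 1 then (ψ c).coeff a else 0) =
          (ψ c).coeff 1 := by
        rw [Finset.sum_ite_eq']
        split_ifs with h
        · rfl
        · exact (Finsupp.notMem_support_iff.mp h).symm
      rw [← h1, ← Finset.sum_add_distrib]
      refine Finset.sum_congr rfl fun a _ => ?_
      split_ifs <;> simp
    rw [hsplit, coefLin_apply, sub_add_cancel_left]
    apply Ideal.neg_mem_iff _ |>.mpr
    refine Ideal.sum_mem _ fun a _ => ?_
    split_ifs with ha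
    · exact Ideal.zero_mem _
    · exact hpow a ha k c
  · rw [if_neg (Ne.symm hm), sub_zero]
    exact hpow m hm k c

end Diag

section Descent

variable (R : Type u) [CommRing R] (A : Type u) [CommRing A] [HopfAlgebra R A]

/-- Rigidity of the trivial homomorphism modulo an arbitrary ideal. -/
def Rigid2 : Prop :=
  ∀ (I : Ideal R) (C : Type u) [CommRing C] [Bialgebra R C] (φ : C →ₐc[R] A),
    (∀ c, φ c - algebraMap R A (Coalgebra.counit c) ∈ I.map (algebraMap R A)) →
    ∀ (k : ℕ) (c : C), φ c - algebraMap R A (Coalgebra.counit c) ∈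
      (I ^ (k + 1)).map (algebraMap R A)

theorem rigid2_of_isDiag (h : SGA3b.IsDiag R A) : Rigid2 R A := by
  obtain ⟨M, _, ⟨e⟩⟩ := h
  intro I C _ _ φ h0 k c
  have h1 : ∀ c : C, e (algebraMap R A (Coalgebra.counit c)) =
      algebraMap R (MonoidAlgebra R M) (Coalgebra.counit c) :=
    fun c => AlgHomClass.commutes e _
  have h4 : ((e : A →ₐ[R] MonoidAlgebra R M) : A →+* MonoidAlgebra R M).comp (algebraMap R A) =
      algebraMap R (MonoidAlgebra R M) :=
    AlgHom.comp_algebraMap (e : A →ₐ[R] MonoidAlgebra R M)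
  have h2 : ∀ c : C, ((e : A →ₐc[R] MonoidAlgebra R M).comp φ) c -
      algebraMap R (MonoidAlgebra R M) (Coalgebra.counit c) =
      (e : A →ₐ[R] MonoidAlgebra R M) (φ c - algebraMap R A (Coalgebra.counit c)) := by
    intro c
    rw [map_sub]
    congr 1
    exact (h1 c).symm
  have key := diag_sub_counit_mem_pow I ((e : A →ₐc[R] MonoidAlgebra R M).comp φ) ?_ k c
  · rw [h2] at key
    have h5 := Ideal.mem_map_of_mem
      (((e.symm : MonoidAlgebra R M ≃ₐc[R] A) : MonoidAlgebra R M →ₐ[R] A) :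
        MonoidAlgebra R M →+* A) key
    rw [Ideal.map_map] at h5
    have h6 : ((((e.symm : MonoidAlgebra R M ≃ₐc[R] A) : MonoidAlgebra R M →ₐ[R] A) :
        MonoidAlgebra R M →+* A)).comp (algebraMap R (MonoidAlgebra R M)) = algebraMap R A :=
      AlgHom.comp_algebraMap ((e.symm : MonoidAlgebra R M ≃ₐc[R] A) : MonoidAlgebra R M →ₐ[R] A)
    rw [h6] at h5
    have h7 : (((e.symm : MonoidAlgebra R M ≃ₐc[R] A) : MonoidAlgebra R M →ₐ[R] A) :
        MonoidAlgebra R M →+* A)
        ((e : A →ₐ[R] MonoidAlgebra R M) (φ c - algebraMap R A (Coalgebra.counit c))) =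
        φ c - algebraMap R A (Coalgebra.counit c) := e.symm_apply_apply _
    rw [h7] at h5
    exact h5
  · intro c
    rw [h2]
    have h3 := Ideal.mem_map_of_mem ((e : A →ₐ[R] MonoidAlgebra R M) : A →+* MonoidAlgebra R M)
      (h0 c)
    rw [Ideal.map_map, h4] at h3
    exact h3

variable {R A}

theorem algebraMap_tmul_one' (S : Type u) [CommRing S] [Algebra R S] (B : Type u) [CommRing B]
    [Algebra R B] (r : R) :
    algebraMap S (S ⊗[R] B) (algebraMap R S r) = (1 : S) ⊗ₜ[R] algebraMap R B r := by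
  calc algebraMap S (S ⊗[R] B) (algebraMap R S r)
      = (r • (1 : S)) ⊗ₜ[R] (1 : B) := by
        rw [Algebra.TensorProduct.algebraMap_apply, Algebra.algebraMap_eq_smul_one r]
        rfl
    _ = (1 : S) ⊗ₜ[R] (r • (1 : B)) := TensorProduct.smul_tmul r 1 1
    _ = _ := by rw [← Algebra.algebraMap_eq_smul_one]

/-- If `1 ⊗ x` lies in `J (S ⊗ A)` then `1 ⊗ x̄ = 0` in `S ⊗ A/JA`. -/
theorem one_tmul_mk_eq_zero (S : Type u) [CommRing S] [Algebra R S] (J : Ideal R) (x : A)
    (h : (1 : S) ⊗ₜ[R] x ∈ (J.map (algebraMap R S)).map (algebraMap S (S ⊗[R] A))) :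
    (1 : S) ⊗ₜ[R] (Ideal.Quotient.mk (J.map (algebraMap R A)) x) =
      (0 : S ⊗[R] (A ⧸ J.map (algebraMap R A))) := by
  let q : S ⊗[R] A →ₐ[S] S ⊗[R] (A ⧸ J.map (algebraMap R A)) :=
    Algebra.TensorProduct.map (AlgHom.id S S) (Ideal.Quotient.mkₐ R (J.map (algebraMap R A)))
  have hle : (J.map (algebraMap R S)).map (algebraMap S (S ⊗[R] A)) ≤
      RingHom.ker (q : S ⊗[R] A →+* S ⊗[R] (A ⧸ J.map (algebraMap R A))) := by
    rw [Ideal.map_le_iff_le_comap, Ideal.map_le_iff_le_comap]
    intro j hj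
    rw [Ideal.mem_comap, Ideal.mem_comap, RingHom.mem_ker]
    have h1 : q (algebraMap S (S ⊗[R] A) (algebraMap R S j)) =
        algebraMap S (S ⊗[R] (A ⧸ J.map (algebraMap R A))) (algebraMap R S j) :=
      q.commutes _
    have h2 : algebraMap R (A ⧸ J.map (algebraMap R A)) j = 0 := by
      rw [IsScalarTower.algebraMap_apply R A (A ⧸ J.map (algebraMap R A))]
      exact Ideal.Quotient.eq_zero_iff_mem.mpr (Ideal.mem_map_of_mem _ hj)
    change q (algebraMap S (S ⊗[R] A) (algebraMap R S j)) = 0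
    rw [h1, algebraMap_tmul_one', h2, TensorProduct.tmul_zero]
  have := hle h
  rw [RingHom.mem_ker] at this
  exact this

theorem rigid2_baseChange (S : Type u) [CommRing S] [Algebra R S] (hS : Rigid2 S (S ⊗[R] A))
    (I : Ideal R) (C : Type u) [CommRing C] [Bialgebra R C] (φ : C →ₐc[R] A)
    (h0 : ∀ c, φ c - algebraMap R A (Coalgebra.counit c) ∈ I.map (algebraMap R A))
    (k : ℕ) (c : C) :
    (1 : S) ⊗ₜ[R] (Ideal.Quotient.mk ((I ^ (k + 1)).map (algebraMap R A))
      (φ c - algebraMap R A (Coalgebra.counit c))) =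
      (0 : S ⊗[R] (A ⧸ (I ^ (k + 1)).map (algebraMap R A))) := by
  have hcounit : ∀ (s : S) (c : C), Coalgebra.counit (R := S) (s ⊗ₜ[R] c) =
      algebraMap R S (Coalgebra.counit c) * s := by
    intro s c
    rw [TensorProduct.counit_tmul, Algebra.smul_def]
    simp
  have key := hS (I.map (algebraMap R S)) (S ⊗[R] C)
    (Bialgebra.TensorProduct.map (BialgHom.id S S) φ) ?_ k ((1 : S) ⊗ₜ[R] c)
  · rw [Bialgebra.TensorProduct.map_tmul, hcounit, mul_one, algebraMap_tmul_one,
      ← Ideal.map_pow] at key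
    apply one_tmul_mk_eq_zero S (I ^ (k + 1))
    rw [TensorProduct.tmul_sub]
    exact key
  · intro x
    induction x using TensorProduct.induction_on with
    | zero => simp
    | add x y hx hy =>
      rw [map_add, map_add, map_add, add_sub_add_comm]
      exact Ideal.add_mem _ hx hy
    | tmul s c =>
      rw [Bialgebra.TensorProduct.map_tmul, hcounit, mul_comm, map_mul, algebraMap_tmul_one]
      have h2 : (BialgHom.id S S) s ⊗ₜ[R] φ c - algebraMap S (S ⊗[R] A) s *
          ((1 : S) ⊗ₜ[R] algebraMap R A (Coalgebra.counit c)) =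
          s ⊗ₜ[R] (φ c - algebraMap R A (Coalgebra.counit c)) := by
        rw [Algebra.TensorProduct.algebraMap_apply, Algebra.TensorProduct.tmul_mul_tmul,
          TensorProduct.tmul_sub]
        simp
      rw [h2]
      exact tmul_mem_map S I (h0 c) s

theorem rigid2_of_faithfullyFlat (S : Type u) [CommRing S] [Algebra R S]
    [Module.FaithfullyFlat R S] (hS : Rigid2 S (S ⊗[R] A)) : Rigid2 R A := by
  intro I C _ _ φ h0 k c
  have h := rigid2_baseChange S hS I C φ h0 k c
  rw [Module.FaithfullyFlat.one_tmul_eq_zero_iff] at h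
  exact Ideal.Quotient.eq_zero_iff_mem.mp h

theorem rigid2_of_isMultTypeConst (h : SGA3b.IsMultTypeConst R A) : Rigid2 R A := by
  obtain ⟨R', _, _, hff, hd⟩ := h
  exact rigid2_of_faithfullyFlat R' (rigid2_of_isDiag R' _ hd)

theorem rigid2_of_isMultType (h : SGA3b.IsMultType R A) : Rigid2 R A := by
  obtain ⟨s, hs, hf⟩ := h
  intro I C _ _ φ h0 k c
  rw [← Ideal.Quotient.eq_zero_iff_mem, ← Submodule.mem_bot R]
  refine Submodule.mem_of_span_eq_top_of_smul_pow_mem ⊥ s hs _ fun f => ?_
  have h1 := rigid2_baseChange (Localization.Away (f : R)) (rigid2_of_isMultTypeConst (hf f f.2))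
    I C φ h0 k c
  have h2 : TensorProduct.mk R (Localization.Away (f : R)) (A ⧸ (I ^ (k + 1)).map (algebraMap R A)) 1
      (Ideal.Quotient.mk ((I ^ (k + 1)).map (algebraMap R A))
        (φ c - algebraMap R A (Coalgebra.counit c))) =
      TensorProduct.mk R (Localization.Away (f : R)) (A ⧸ (I ^ (k + 1)).map (algebraMap R A)) 1 0 := by
    rw [map_zero]
    exact h1
  obtain ⟨n, hn⟩ := IsLocalizedModule.Away.exists_of_eq (f : R) h2
  refine ⟨n, ?_⟩
  rw [Submodule.mem_bot, hn, smul_zero]

end Descent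

end Groth.Agent.Lib.MultTors55
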