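import Groth.Agent.Lib.MultTors55f

/-!
# Rigidity over a local base for commutative targets

* `antipodeBialgHom`: the antipode of a commutative cocommutative Hopf algebra as a bialgebra map.
* `eq_of_closedFibre`: S2985 in library form.
-/

set_option autoImplicit false
set_option linter.unusedSectionVars false
set_option linter.unusedVariables false

universe u

open TensorProduct WithConv

namespace Groth.Agent.Lib.MultTors55

open Groth.Agent.Lib.MultType58

section Antipode

variable (R : Type u) [CommRing R] (C : Type u) [CommRing C] [HopfAlgebra R C]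
  [Coalgebra.IsCocomm R C]

/-- The antipode of a commutative and cocommutative Hopf algebra, as a bialgebra map. -/
noncomputable def antipodeBialgHom : C →ₐc[R] C :=
  BialgHom.ofAlgHom (HopfAlgebra.antipodeAlgHom R C)
    (AlgHom.counitAlgHom_comp_antipodeAlgHom)
    (by
      apply AlgHom.ext
      intro c
      have h1 := Groth.Agent.Lib.HopfAntipode.comul_antipode (k := R) c
      rw [Coalgebra.comm_comul] at h1
      have h2 : ∀ t : C ⊗[R] C, Algebra.TensorProduct.map (HopfAlgebra.antipodeAlgHom R C)
          (HopfAlgebra.antipodeAlgHom R C) t =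
          TensorProduct.map (HopfAlgebraStruct.antipode R (A := C))
            (HopfAlgebraStruct.antipode R (A := C)) t := by
        intro t
        induction t using TensorProduct.induction_on with
        | zero => simp
        | add x y hx hy => simp only [map_add, hx, hy]
        | tmul x y => simp
      simp only [AlgHom.coe_comp, Function.comp_apply, Bialgebra.comulAlgHom_apply,
        HopfAlgebra.antipodeAlgHom_apply]
      rw [h2, h1])

theorem antipodeBialgHom_toAlgHom :
    ((antipodeBialgHom R C : C →ₐc[R] C) : C →ₐ[R] C) = HopfAlgebra.antipodeAlgHom R C := rfl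

end Antipode

section Main

variable {R : Type u} [CommRing R] {A : Type u} [CommRing A] [HopfAlgebra R A]
variable {C : Type u} [CommRing C] [HopfAlgebra R C] [Coalgebra.IsCocomm R C]

/-- Over a local base, two homomorphisms from a group of multiplicative type and of finite type to
a commutative affine group which agree on the closed fibre are equal. -/
theorem eq_of_closedFibre [IsLocalRing R] (hft : Algebra.FiniteType R A)
    (hH : SGA3b.IsMultType R A) (hC : IsNoetherianRing R ∨ Algebra.FiniteType R C)
    (φ ψ : C →ₐc[R] A)
    (hs : ∀ c : C, φ c - ψ c ∈ (IsLocalRing.maximalIdeal R).map (algebraMap R A)) :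
    φ = ψ := by
  set J : Ideal A := (IsLocalRing.maximalIdeal R).map (algebraMap R A) with hJ
  let q : A →ₐ[R] A ⧸ J := Ideal.Quotient.mkₐ R J
  let w : C →ₐc[R] A := ofConv (toConv φ * toConv (ψ.comp (antipodeBialgHom R C)))
  have hw : toConv (w : C →ₐ[R] A) =
      toConv (φ : C →ₐ[R] A) * (toConv (ψ : C →ₐ[R] A))⁻¹ := by
    have := BialgHom.toAlgHom_convMul (toConv φ) (toConv (ψ.comp (antipodeBialgHom R C)))
    exact this
  have hqφψ : q.comp (φ : C →ₐ[R] A) = q.comp (ψ : C →ₐ[R] A) := by
    apply AlgHom.ext
    intro c
    exact Ideal.Quotient.eq.mpr (hs c)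
  have hqw : q.comp (w : C →ₐ[R] A) = ofConv (1 : WithConv (C →ₐ[R] A ⧸ J)) := by
    have h1 : (w : C →ₐ[R] A) =
        (toConv (φ : C →ₐ[R] A) * (toConv (ψ : C →ₐ[R] A))⁻¹).ofConv :=
      congrArg WithConv.ofConv hw
    have h2 : q.comp (toConv (ψ : C →ₐ[R] A) * (toConv (ψ : C →ₐ[R] A))⁻¹).ofConv =
        ofConv (1 : WithConv (C →ₐ[R] A ⧸ J)) := by
      rw [mul_inv_cancel]
      apply AlgHom.ext
      intro c
      simp only [AlgHom.coe_comp, Function.comp_apply]
      change q (algebraMap R A (Coalgebra.counit c)) = algebraMap R (A ⧸ J) (Coalgebra.counit c)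
      exact q.commutes _
    rw [h1, AlgHom.comp_convMul_distrib, ofConv_toConv, hqφψ, ← h2, AlgHom.comp_convMul_distrib,
      ofConv_toConv]
  have hwtriv : ∀ c : C, w c = algebraMap R A (Coalgebra.counit c) := by
    apply trivial_of_closedFibre hft hH hC w
    intro c
    have h1 := AlgHom.congr_fun hqw c
    have h2 : q (algebraMap R A (Coalgebra.counit c)) =
        algebraMap R (A ⧸ J) (Coalgebra.counit c) := q.commutes _
    have h3 : q (w c) = q (algebraMap R A (Coalgebra.counit c)) := by
      rw [h2]
      exact h1
    exact Ideal.Quotient.eq.mp h3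
  have hw1 : toConv (w : C →ₐ[R] A) = 1 := by
    apply WithConv.ofConv_injective
    apply AlgHom.ext
    intro c
    exact hwtriv c
  rw [hw, mul_inv_eq_one] at hw1
  have hw2 : (φ : C →ₐ[R] A) = (ψ : C →ₐ[R] A) := WithConv.toConv_injective hw1
  apply BialgHom.ext
  intro c
  exact AlgHom.congr_fun hw2 c

end Main

end Groth.Agent.Lib.MultTors55
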