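import Groth.Agent.Lib.MultTors55g

/-!
# Closed subgroups of groups of multiplicative type over a local base with trivial closed fibre

* `weakDense_fibre`: weak density of torsion for the fibres (over any field) of a closed subgroup of
  a group of multiplicative type and of finite type over a local ring.
* `eq_ker_counit_of_closedFibre`: S5254 in library form.
-/

set_option autoImplicit false
set_option linter.unusedSectionVars false
set_option linter.unusedVariables false

universe u

open TensorProduct WithConv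

namespace Groth.Agent.Lib.MultTors55

open Groth.Agent.Lib.MultType58

section Fibre

variable {R : Type u} [CommRing R] {A : Type u} [CommRing A] [HopfAlgebra R A]
variable {B : Type u} [CommRing B] [HopfAlgebra R B]

/-- Weak density of torsion on the fibres of a quotient of a group of multiplicative type with
constant type. -/
theorem weakDense_fibre (hconst : SGA3b.IsMultTypeConst R A) (π : A →ₐc[R] B)
    (hπ : Function.Surjective π) (hftB : Algebra.FiniteType R B)
    (K : Type u) [Field K] [Algebra R K] : WeakDense K (K ⊗[R] B) := by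
  obtain ⟨R', _, _, hff, hd⟩ := hconst
  haveI : Nontrivial (K ⊗[R] R') :=
    (Module.FaithfullyFlat.nontrivial_tensorProduct_iff_left R K (N := R')).mpr inferInstance
  obtain ⟨𝔫, h𝔫⟩ := Ideal.exists_maximal (K ⊗[R] R')
  let _ : Field ((K ⊗[R] R') ⧸ 𝔫) := Ideal.Quotient.field 𝔫
  let L := (K ⊗[R] R') ⧸ 𝔫
  letI : Algebra R' L := ((Ideal.Quotient.mk 𝔫).comp
    ((Algebra.TensorProduct.includeRight : R' →ₐ[R] K ⊗[R] R') : R' →+* K ⊗[R] R')).toAlgebra
  haveI : IsScalarTower R R' L := by
    refine IsScalarTower.of_algebraMap_eq' ?_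
    apply RingHom.ext
    intro r
    change algebraMap R L r = Ideal.Quotient.mk 𝔫 ((1 : K) ⊗ₜ[R] algebraMap R R' r)
    rw [IsScalarTower.algebraMap_apply R (K ⊗[R] R') L]
    congr 1
    rw [Algebra.TensorProduct.algebraMap_apply, Algebra.algebraMap_eq_smul_one,
      Algebra.algebraMap_eq_smul_one (A := R'), ← TensorProduct.smul_tmul]
  have h1 : GLSpan R' (R' ⊗[R] A) := GLSpan.of_isDiag hd
  have h2 : GLSpan L (L ⊗[R] A) := GLSpan.trans R R' L A h1
  have hbij : Function.Bijective (cancelBialgHom R K L A) :=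
    (Algebra.TensorProduct.cancelBaseChange R K L L A).bijective
  have h3 : GLSpan L (L ⊗[K] (K ⊗[R] A)) :=
    GLSpan.of_surjective
      ((BialgEquiv.ofBijective (cancelBialgHom R K L A) hbij).symm :
        L ⊗[R] A →ₐc[L] L ⊗[K] (K ⊗[R] A))
      (BialgEquiv.ofBijective (cancelBialgHom R K L A) hbij).symm.surjective h2
  have h4 : GLSpan L (L ⊗[K] (K ⊗[R] B)) :=
    GLSpan.of_surjective _ (surjective_map_map K L π hπ) h3
  have h5 : SGA3b.IsDiag L (L ⊗[K] (K ⊗[R] B)) := isDiag_of_GLSpan h4
  have h6 : WeakDense L (L ⊗[K] (K ⊗[R] B)) := weakDense_of_isDiag inferInstance h5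
  haveI : Module.FaithfullyFlat K L := ff_of_isField K (Field.toIsField K) L
  exact weakDense_of_faithfullyFlat L h6

end Fibre

section Aug

variable {R : Type u} [CommRing R] {A : Type u} [CommRing A] [Bialgebra R A]

theorem counit_algebraMap' (r : R) : Coalgebra.counit (R := R) (algebraMap R A r) = r := by
  have := (Bialgebra.counitAlgHom R A).commutes r
  simpa using this

theorem sub_counit_mem_ker (a : A) :
    a - algebraMap R A (Coalgebra.counit a) ∈ RingHom.ker (Bialgebra.counitAlgHom R A) := by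
  rw [RingHom.mem_ker, map_sub, Bialgebra.counitAlgHom_apply, Bialgebra.counitAlgHom_apply,
    counit_algebraMap', sub_self]

/-- The counit maps `𝔞 A` into `𝔞`. -/
theorem counit_mem_of_mem_map (𝔞 : Ideal R) {x : A} (hx : x ∈ 𝔞.map (algebraMap R A)) :
    Coalgebra.counit (R := R) x ∈ 𝔞 := by
  have h : 𝔞.map (algebraMap R A) ≤ Ideal.comap (Bialgebra.counitAlgHom R A) 𝔞 := by
    rw [Ideal.map_le_iff_le_comap]
    intro r hr
    rw [Ideal.mem_comap, Ideal.mem_comap, Bialgebra.counitAlgHom_apply, counit_algebraMap']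
    exact hr
  exact h hx

/-- For `x ∈ 𝔞 A`, `x - ε(x)` lies in `𝔞 A · ker ε`. -/
theorem sub_counit_mem_mul (𝔞 : Ideal R) {x : A} (hx : x ∈ 𝔞.map (algebraMap R A)) :
    x - algebraMap R A (Coalgebra.counit x) ∈
      𝔞.map (algebraMap R A) * RingHom.ker (Bialgebra.counitAlgHom R A) := by
  rw [Ideal.map] at hx
  induction hx using Submodule.span_induction with
  | mem y hy =>
    obtain ⟨r, hr, rfl⟩ := hy
    rw [counit_algebraMap', sub_self]
    exact Ideal.zero_mem _
  | zero => simp
  | add y z _ _ hy hz =>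
    rw [map_add, map_add, add_sub_add_comm]
    exact Ideal.add_mem _ hy hz
  | smul a y hy' hy =>
    rw [smul_eq_mul]
    have hy'' : y ∈ 𝔞.map (algebraMap R A) := hy'
    have h1 : a * y - algebraMap R A (Coalgebra.counit (a * y)) =
        a * (y - algebraMap R A (Coalgebra.counit y)) +
          algebraMap R A (Coalgebra.counit y) * (a - algebraMap R A (Coalgebra.counit a)) := by
      rw [Bialgebra.counit_mul, map_mul]
      ring
    rw [h1]
    refine Ideal.add_mem _ (Ideal.mul_mem_left _ _ hy) ?_
    exact Ideal.mul_mem_mul (Ideal.mem_map_of_mem _ (counit_mem_of_mem_map 𝔞 hy''))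
      (sub_counit_mem_ker a)

/-- The augmentation ideal of an augmented algebra of finite type is finitely generated. -/
theorem fg_ker_counit {R : Type u} [CommRing R] {A : Type u} [CommRing A] [HopfAlgebra R A]
    (hft : Algebra.FiniteType R A) : (RingHom.ker (Bialgebra.counitAlgHom R A)).FG := by
  classical
  obtain ⟨G, hG⟩ := hft.out
  let T : Finset A := G.image (fun a => a - algebraMap R A (Coalgebra.counit a))
  have hle : Ideal.span (T : Set A) ≤ RingHom.ker (Bialgebra.counitAlgHom R A) := by
    rw [Ideal.span_le]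
    intro x hx
    obtain ⟨a, -, rfl⟩ := Finset.mem_image.mp hx
    exact sub_counit_mem_ker a
  have hall : ∀ c : A, (BialgHom.id R A) c - algebraMap R A (Coalgebra.counit c) ∈
      Ideal.span (T : Set A) :=
    forall_sub_counit_mem_of_adjoin (BialgHom.id R A) _ (G : Set A) hG (fun c hc =>
      Ideal.subset_span (Finset.mem_image.mpr ⟨c, hc, rfl⟩))
  refine ⟨T, le_antisymm hle ?_⟩
  intro a ha
  have h1 := hall a
  rw [RingHom.mem_ker, Bialgebra.counitAlgHom_apply] at ha
  rw [ha, map_zero, sub_zero] at h1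
  exact h1

end Aug

section Main

variable {R : Type u} [CommRing R] [IsLocalRing R] {A : Type u} [CommRing A] [HopfAlgebra R A]

/-- Step 1: the `n`-torsion of `K` is trivial. -/
theorem ker_counit_le_sup_torsionIdeal (hft : Algebra.FiniteType R A)
    (hH : SGA3b.IsMultType R A) (J : Ideal A)
    (hJI : J ≤ RingHom.ker (Bialgebra.counitAlgHom R A))
    (hs : RingHom.ker (Bialgebra.counitAlgHom R A) ≤
      J ⊔ (IsLocalRing.maximalIdeal R).map (algebraMap R A)) (n : ℕ) (hn : 0 < n) :
    RingHom.ker (Bialgebra.counitAlgHom R A) ≤ J ⊔ SGA3b.torsionIdeal R A n := by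
  haveI := isCocomm_of_isMultType hH
  haveI : (SGA3b.torsionIdeal R A n).IsHopfIdeal R := isHopfIdeal_torsionIdeal R A n
  haveI : Module.Finite R (A ⧸ SGA3b.torsionIdeal R A n) :=
    (torsQuot_quotient n (SGA3b.torsionIdeal R A n) rfl).finite hn hft hH
  set In := SGA3b.torsionIdeal R A n with hIn
  have hInI : In ≤ RingHom.ker (Bialgebra.counitAlgHom R A) := by
    rw [hIn, torsionIdeal_le_iff]
    intro a ha
    rw [RingHom.mem_ker, Bialgebra.counitAlgHom_apply, ← powBialgHom_apply,
      CoalgHomClass.counit_comp_apply, ha]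
  let D := A ⧸ (J ⊔ In)
  haveI : Module.Finite R D :=
    Module.Finite.of_surjective (Ideal.Quotient.factorₐ R (le_sup_right : In ≤ J ⊔ In)).toLinearMap
      (Ideal.Quotient.factor_surjective (le_sup_right : In ≤ J ⊔ In))
  have htop : (⊤ : Submodule R D) ≤ LinearMap.range (Algebra.linearMap R D) := by
    apply Submodule.le_of_le_smul_of_le_jacobson_bot (I := IsLocalRing.maximalIdeal R)
      Module.Finite.fg_top (IsLocalRing.maximalIdeal_le_jacobson ⊥)
    intro d _
    obtain ⟨a, rfl⟩ := Ideal.Quotient.mk_surjective d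
    have h1 := hs (sub_counit_mem_ker a)
    obtain ⟨j, hj, m, hm, hjm⟩ := Submodule.mem_sup.mp h1
    have h2 : Ideal.Quotient.mk (J ⊔ In) a =
        algebraMap R D (Coalgebra.counit a) + Ideal.Quotient.mk (J ⊔ In) m := by
      have h3 : a = algebraMap R A (Coalgebra.counit a) + j + m := by
        rw [add_assoc, hjm]; ring
      have h4 : Ideal.Quotient.mk (J ⊔ In) j = 0 :=
        Ideal.Quotient.eq_zero_iff_mem.mpr (Ideal.mem_sup_left hj)
      conv_lhs => rw [h3]
      rw [map_add, map_add, h4, add_zero]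
      rfl
    rw [h2]
    refine Submodule.add_mem_sup ⟨_, rfl⟩ ?_
    rw [Ideal.smul_top_eq_map]
    have h5 := Ideal.mem_map_of_mem (Ideal.Quotient.mk (J ⊔ In)) hm
    rw [Ideal.map_map] at h5
    exact h5
  intro a ha
  obtain ⟨r, hr⟩ := htop (Submodule.mem_top : Ideal.Quotient.mk (J ⊔ In) a ∈ ⊤)
  have hr' : Ideal.Quotient.mk (J ⊔ In) (algebraMap R A r) = Ideal.Quotient.mk (J ⊔ In) a := hr
  have h1 : algebraMap R A r - a ∈ J ⊔ In := Ideal.Quotient.eq.mp hr'
  have h2 : algebraMap R A r - a ∈ RingHom.ker (Bialgebra.counitAlgHom R A) :=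
    (sup_le hJI hInI) h1
  rw [RingHom.mem_ker] at h2 ha
  rw [map_sub, ha, sub_zero, Bialgebra.counitAlgHom_apply, counit_algebraMap'] at h2
  rw [h2, map_zero, zero_sub] at h1
  exact (Ideal.neg_mem_iff _).mp h1

/-- A closed subgroup scheme of a group of multiplicative type and of finite type over a local
ring whose closed fibre is trivial is trivial (S5254 in library form). -/
theorem eq_ker_counit_of_closedFibre (hft : Algebra.FiniteType R A)
    (hH : SGA3b.IsMultType R A) (J : Ideal A) [J.IsHopfIdeal R]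
    (hs : J ⊔ (IsLocalRing.maximalIdeal R).map (algebraMap R A) =
      RingHom.ker (Bialgebra.counitAlgHom R A) ⊔
        (IsLocalRing.maximalIdeal R).map (algebraMap R A)) :
    J = RingHom.ker (Bialgebra.counitAlgHom R A) := by
  set I := RingHom.ker (Bialgebra.counitAlgHom R A) with hI
  have hJI : J ≤ I := by
    intro x hx
    rw [hI, RingHom.mem_ker, Bialgebra.counitAlgHom_apply]
    exact Submodule.IsCoideal.counit_eq_zero (I := J.restrictScalars R) hx
  apply le_antisymm hJI
  have hs' : I ≤ J ⊔ (IsLocalRing.maximalIdeal R).map (algebraMap R A) := by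
    rw [hs]
    exact le_sup_left
  have h1 := ker_counit_le_sup_torsionIdeal hft hH J hJI hs'
  let π : A →ₐc[R] A ⧸ J := Bialgebra.Quotient.mkBialgHom J
  have hπ : Function.Surjective π := Ideal.Quotient.mk_surjective
  have hftB : Algebra.FiniteType R (A ⧸ J) := hft.of_surjective (π : A →ₐ[R] A ⧸ J) hπ
  have hconst := isMultTypeConst_of_isLocalRing hH
  -- Step 2: the augmentation ideal of `A/J` dies on every fibre.
  have key2 : ∀ (K : Type u) [Field K] [Algebra R K] (a : A), a ∈ I →
      (1 : K) ⊗ₜ[R] (Ideal.Quotient.mk J a) = (0 : K ⊗[R] (A ⧸ J)) := by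
    intro K _ _ a ha
    apply weakDense_fibre hconst π hπ hftB K
    intro n hn
    rw [torsionIdeal_baseChange, ← map_torsionIdeal_of_surjective π hπ n]
    apply Ideal.mem_map_of_mem (Algebra.TensorProduct.includeRight : A ⧸ J →ₐ[R] K ⊗[R] (A ⧸ J))
    obtain ⟨j, hj, i, hi, hji⟩ := Submodule.mem_sup.mp (h1 n hn ha)
    have h2 : Ideal.Quotient.mk J a = π i := by
      rw [← hji, map_add, Ideal.Quotient.eq_zero_iff_mem.mpr hj, zero_add]
      rfl
    rw [h2]
    exact Ideal.mem_map_of_mem _ hi
  -- Step 3: the augmentation ideal of `A/J` consists of nilpotents.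
  have key3 : ∀ a : A, a ∈ I → IsNilpotent (Ideal.Quotient.mk J a) := by
    intro a ha
    rw [nilpotent_iff_mem_prime]
    intro x hx
    let χ : x.ResidueField ⊗[R] (A ⧸ J) →ₐ[x.ResidueField] x.ResidueField :=
      Algebra.TensorProduct.lift (AlgHom.id x.ResidueField x.ResidueField)
        (IsScalarTower.toAlgHom R (A ⧸ J) x.ResidueField) (fun _ _ => Commute.all _ _)
    have h2 := congrArg χ (key2 x.ResidueField a ha)
    rw [map_zero, Algebra.TensorProduct.lift_tmul, map_one, one_mul] at h2
    exact Ideal.algebraMap_residueField_eq_zero.mp h2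
  -- Step 4: Nakayama.
  set Ibar : Ideal (A ⧸ J) := Ideal.map (Ideal.Quotient.mk J) I with hIbar
  set mB : Ideal (A ⧸ J) := (IsLocalRing.maximalIdeal R).map (algebraMap R (A ⧸ J)) with hmB
  have hfg : (Ibar : Submodule (A ⧸ J) (A ⧸ J)).FG := (fg_ker_counit hft).map _
  have hle : (Ibar : Submodule (A ⧸ J) (A ⧸ J)) ≤ mB • (Ibar : Submodule (A ⧸ J) (A ⧸ J)) := by
    intro b hb
    obtain ⟨a, ha, rfl⟩ := (Ideal.mem_map_iff_of_surjective _ Ideal.Quotient.mk_surjective).mp hb
    obtain ⟨j, hj, m, hm, hjm⟩ := Submodule.mem_sup.mp (hs' ha)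
    have hεm : Coalgebra.counit (R := R) m = 0 := by
      have h3 : Coalgebra.counit (R := R) a = 0 := by
        have := ha
        rw [hI, RingHom.mem_ker, Bialgebra.counitAlgHom_apply] at this
        exact this
      have h4 : Coalgebra.counit (R := R) j = 0 := by
        have := hJI hj
        rw [hI, RingHom.mem_ker, Bialgebra.counitAlgHom_apply] at this
        exact this
      rw [← hjm, map_add, h4, zero_add] at h3
      exact h3
    have h5 := sub_counit_mem_mul (IsLocalRing.maximalIdeal R) hm
    rw [hεm, map_zero, sub_zero] at h5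
    have h6 : Ideal.Quotient.mk J a = Ideal.Quotient.mk J m := by
      rw [← hjm, map_add, Ideal.Quotient.eq_zero_iff_mem.mpr hj, zero_add]
    rw [h6, Ideal.smul_eq_mul]
    have h7 := Ideal.mem_map_of_mem (Ideal.Quotient.mk J) h5
    rw [Ideal.map_mul, Ideal.map_map] at h7
    exact h7
  obtain ⟨b, hb1, hb2⟩ :=
    Submodule.exists_sub_one_mem_and_smul_eq_zero_of_fg_of_le_smul mB
      (Ibar : Submodule (A ⧸ J) (A ⧸ J)) hfg hle
  -- `b` is a unit: unit of `R` plus a nilpotent
  have hbunit : IsUnit b := by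
    set c := b - 1 with hc
    have hεc : Coalgebra.counit (R := R) c ∈ IsLocalRing.maximalIdeal R :=
      counit_mem_of_mem_map _ hb1
    have hu : IsUnit (1 + Coalgebra.counit (R := R) c) := by
      by_contra hnu
      have h8 : 1 + Coalgebra.counit (R := R) c ∈ IsLocalRing.maximalIdeal R :=
        (IsLocalRing.mem_maximalIdeal _).mpr hnu
      have h9 : (1 : R) ∈ IsLocalRing.maximalIdeal R := by
        have := Ideal.sub_mem _ h8 hεc
        rwa [add_sub_cancel_right] at this
      exact (IsLocalRing.maximalIdeal.isMaximal R).ne_top ((Ideal.eq_top_iff_one _).mpr h9)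
    obtain ⟨a', ha'⟩ := Ideal.Quotient.mk_surjective (c - algebraMap R (A ⧸ J) (Coalgebra.counit c))
    have ha'I : a' ∈ I := by
      rw [hI, RingHom.mem_ker, Bialgebra.counitAlgHom_apply]
      have h10 : Coalgebra.counit (R := R) (Ideal.Quotient.mk J a') = Coalgebra.counit a' := rfl
      rw [← h10, ha', map_sub, counit_algebraMap', sub_self]
    have hnil : IsNilpotent (c - algebraMap R (A ⧸ J) (Coalgebra.counit c)) := by
      rw [← ha']
      exact key3 a' ha'I
    have hb : b = algebraMap R (A ⧸ J) (1 + Coalgebra.counit c) +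
        (c - algebraMap R (A ⧸ J) (Coalgebra.counit c)) := by
      rw [map_add, map_one, hc]
      ring
    rw [hb]
    exact hnil.isUnit_add_left_of_commute (hu.map (algebraMap R (A ⧸ J))) (Commute.all _ _)
  intro a ha
  have h11 : b • Ideal.Quotient.mk J a = 0 := hb2 _ (Ideal.mem_map_of_mem _ ha)
  rw [smul_eq_mul] at h11
  have h12 : Ideal.Quotient.mk J a = 0 := (hbunit.mul_right_eq_zero).mp h11
  exact Ideal.Quotient.eq_zero_iff_mem.mp h12

end Main

end Groth.Agent.Lib.MultTors55
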