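import Mathlib
import Groth.Prelude.Def_SGA3b

/-!
# Groups of multiplicative type (Hopf algebra form): rigidity of homomorphisms modulo nilpotents

* `coefLin m`: the coefficient functional on a group algebra.
* `diag_trivial_of_mod_nilpotent`: a bialgebra map `C → R[M]` which is trivial modulo a nilpotent
  ideal is trivial.
-/

set_option autoImplicit false
set_option linter.unusedSectionVars false
set_option linter.unusedVariables false

universe u

open TensorProduct

namespace Groth.Agent.Lib.MultType58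

section Diag

variable {R : Type u} [CommRing R] {M : Type u} [CommGroup M]

/-- The coefficient functional at `m`. -/
noncomputable def coefLin (m : M) : MonoidAlgebra R M →ₗ[R] R :=
  (Finsupp.lapply m).comp (MonoidAlgebra.coeffLinearEquiv R).toLinearMap

theorem coefLin_apply (m : M) (x : MonoidAlgebra R M) : coefLin m x = x.coeff m := rfl

open Classical in
theorem coefLin_single (m g : M) (r : R) :
    coefLin m (MonoidAlgebra.single g r) = if g = m then r else 0 := by
  rw [coefLin_apply, MonoidAlgebra.coeff_single, Finsupp.single_apply]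

theorem coefLin_mem_of_mem_map (I : Ideal R) {x : MonoidAlgebra R M}
    (hx : x ∈ I.map (algebraMap R (MonoidAlgebra R M))) : ∀ m : M, coefLin m x ∈ I := by
  rw [Ideal.map] at hx
  induction hx using Submodule.span_induction with
  | mem y hy =>
    obtain ⟨i, hi, rfl⟩ := hy
    intro m
    rw [MonoidAlgebra.coe_algebraMap, Function.comp_apply, coefLin_single]
    split_ifs
    · simpa using hi
    · exact I.zero_mem
  | zero => intro m; simp
  | add y z _ _ hy hz => intro m; rw [map_add]; exact I.add_mem (hy m) (hz m)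
  | smul a y _ hy =>
    rw [smul_eq_mul]
    induction a using MonoidAlgebra.induction_linear with
    | zero => intro m; simp
    | add f g hf hg => intro m; rw [add_mul, map_add]; exact I.add_mem (hf m) (hg m)
    | single g r =>
      intro m
      rw [coefLin_apply, MonoidAlgebra.coeff_single_mul_apply]
      exact I.mul_mem_left _ (hy _)

/-- `coef m ⊗ coef m` applied to the comultiplication is `coef m`. -/
theorem coefLin_comul (m : M) (x : MonoidAlgebra R M) :
    LinearMap.mul' R R (TensorProduct.map (coefLin m) (coefLin m) (Coalgebra.comul x)) =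
      coefLin m x := by
  induction x using MonoidAlgebra.induction_linear with
  | zero => simp
  | add f g hf hg => simp only [map_add, hf, hg]
  | single g r =>
    rw [MonoidAlgebra.comul_single]
    simp only [CommSemiring.comul_apply, TensorProduct.map_tmul, MonoidAlgebra.lsingle_apply,
      LinearMap.mul'_apply, coefLin_single]
    split_ifs <;> simp

theorem counit_eq_sum (x : MonoidAlgebra R M) :
    Coalgebra.counit (R := R) x = x.coeff.sum fun _ r => r := by
  induction x using MonoidAlgebra.induction_linear with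
  | zero => simp
  | add f g hf hg =>
    rw [map_add, hf, hg, MonoidAlgebra.coeff_add, Finsupp.sum_add_index'] <;> simp
  | single g r =>
    rw [MonoidAlgebra.counit_single, MonoidAlgebra.coeff_single, Finsupp.sum_single_index rfl]
    simp

variable {C : Type u} [CommRing C] [Bialgebra R C]

/-- Key idempotency: the `m`-coefficient of a bialgebra map is a convolution idempotent. -/
theorem coef_comp_idem (ψ : C →ₐc[R] MonoidAlgebra R M) (m : M) (c : C) :
    coefLin m (ψ c) = ∑ i ∈ (Coalgebra.Repr.arbitrary R c).index,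
      coefLin m (ψ ((Coalgebra.Repr.arbitrary R c).left i)) *
        coefLin m (ψ ((Coalgebra.Repr.arbitrary R c).right i)) := by
  have h1 := LinearMap.congr_fun (CoalgHomClass.map_comp_comul ψ) c
  simp only [LinearMap.comp_apply] at h1
  rw [← coefLin_comul m (ψ c)]
  have h2 : Coalgebra.comul (R := R) ((ψ : C →ₗ[R] MonoidAlgebra R M) c) =
      Coalgebra.comul (R := R) (ψ c) := rfl
  rw [← h2, ← h1, ← (Coalgebra.Repr.arbitrary R c).eq, map_sum, map_sum, map_sum]
  refine Finset.sum_congr rfl fun i _ => ?_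
  simp only [TensorProduct.map_tmul, LinearMap.mul'_apply]
  rfl

/-- A bialgebra map to a group algebra which is trivial modulo a nilpotent ideal is trivial. -/
theorem diag_trivial_of_mod_nilpotent (I : Ideal R) (hI : IsNilpotent I)
    (ψ : C →ₐc[R] MonoidAlgebra R M)
    (h0 : ∀ c : C, ψ c - algebraMap R (MonoidAlgebra R M) (Coalgebra.counit c) ∈
      I.map (algebraMap R (MonoidAlgebra R M))) :
    ∀ c : C, ψ c = algebraMap R (MonoidAlgebra R M) (Coalgebra.counit c) := by
  classical
  obtain ⟨n, hn⟩ := hI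
  -- coefficients away from `1` lie in `I`
  have hbase : ∀ m : M, m ≠ 1 → ∀ c : C, coefLin m (ψ c) ∈ I := by
    intro m hm c
    have := coefLin_mem_of_mem_map I (h0 c) m
    rw [map_sub, MonoidAlgebra.coe_algebraMap, Function.comp_apply, coefLin_single,
      if_neg (Ne.symm hm), sub_zero] at this
    exact this
  have hpow : ∀ m : M, m ≠ 1 → ∀ k : ℕ, ∀ c : C, coefLin m (ψ c) ∈ I ^ (k + 1) := by
    intro m hm k
    induction k with
    | zero => intro c; simpa using hbase m hm c
    | succ k ih =>
      intro c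
      rw [coef_comp_idem ψ m c]
      refine Ideal.sum_mem _ fun i _ => ?_
      rw [pow_succ]
      exact Ideal.mul_mem_mul (ih _) (hbase m hm _)
  have hzero : ∀ m : M, m ≠ 1 → ∀ c : C, coefLin m (ψ c) = 0 := by
    intro m hm c
    have := hpow m hm n c
    rw [pow_succ, hn, Ideal.zero_eq_bot, Ideal.bot_mul] at this
    exact this
  intro c
  have hc : Coalgebra.counit (R := R) (ψ c) = Coalgebra.counit c :=
    LinearMap.congr_fun (CoalgHomClass.counit_comp ψ) c
  have hsupp : ψ c = MonoidAlgebra.single 1 ((ψ c).coeff 1) := by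
    apply MonoidAlgebra.ext
    ext m
    rw [MonoidAlgebra.coeff_single, Finsupp.single_apply]
    split_ifs with h
    · rw [h]
    · exact hzero m (Ne.symm h) c
  rw [MonoidAlgebra.coe_algebraMap, Function.comp_apply, ← hc, hsupp, MonoidAlgebra.counit_single]
  simp

end Diag

section Descent

variable (R : Type u) [CommRing R] (A : Type u) [CommRing A] [HopfAlgebra R A]

/-- Rigidity of the trivial homomorphism modulo nilpotents. -/
def Rigid : Prop :=
  ∀ (I : Ideal R), IsNilpotent I → ∀ (C : Type u) [CommRing C] [Bialgebra R C] (φ : C →ₐc[R] A),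
    (∀ c, φ c - algebraMap R A (Coalgebra.counit c) ∈ I.map (algebraMap R A)) →
    ∀ c, φ c = algebraMap R A (Coalgebra.counit c)

theorem rigid_of_isDiag (h : SGA3b.IsDiag R A) : Rigid R A := by
  obtain ⟨M, _, ⟨e⟩⟩ := h
  intro I hI C _ _ φ h0 c
  have key := diag_trivial_of_mod_nilpotent I hI ((e : A →ₐc[R] MonoidAlgebra R M).comp φ) ?_ c
  · have h1 : e (algebraMap R A (Coalgebra.counit c)) =
        algebraMap R (MonoidAlgebra R M) (Coalgebra.counit c) := by
      exact AlgHomClass.commutes e _
    have h5 : e (φ c) = e (algebraMap R A (Coalgebra.counit c)) := by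
      rw [h1, ← key]
      rfl
    exact e.injective h5
  · intro c
    have h1 : e (algebraMap R A (Coalgebra.counit c)) =
        algebraMap R (MonoidAlgebra R M) (Coalgebra.counit c) := by
      exact AlgHomClass.commutes e _
    have h2 : ((e : A →ₐc[R] MonoidAlgebra R M).comp φ) c -
        algebraMap R (MonoidAlgebra R M) (Coalgebra.counit c) =
        (e : A →ₐ[R] MonoidAlgebra R M) (φ c - algebraMap R A (Coalgebra.counit c)) := by
      rw [map_sub]
      congr 1
      exact h1.symm
    rw [h2]
    have h3 := Ideal.mem_map_of_mem ((e : A →ₐ[R] MonoidAlgebra R M) : A →+* MonoidAlgebra R M)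
      (h0 c)
    rw [Ideal.map_map] at h3
    have h4 : ((e : A →ₐ[R] MonoidAlgebra R M) : A →+* MonoidAlgebra R M).comp (algebraMap R A) =
        algebraMap R (MonoidAlgebra R M) := by
      exact AlgHom.comp_algebraMap (e : A →ₐ[R] MonoidAlgebra R M)
    rw [h4] at h3
    exact h3


variable {R A}

/-- Elements of `I·A` base change into `I·(S ⊗ A)`. -/
theorem tmul_mem_map (S : Type u) [CommRing S] [Algebra R S] (I : Ideal R) {a : A}
    (ha : a ∈ I.map (algebraMap R A)) (s : S) :
    s ⊗ₜ[R] a ∈ (I.map (algebraMap R S)).map (algebraMap S (S ⊗[R] A)) := by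
  have h1 : (I.map (algebraMap R S)).map (algebraMap S (S ⊗[R] A)) =
      (I.map (algebraMap R A)).map
        ((Algebra.TensorProduct.includeRight : A →ₐ[R] S ⊗[R] A) : A →+* S ⊗[R] A) := by
    rw [Ideal.map_map, Ideal.map_map]
    congr 1
    rw [← IsScalarTower.algebraMap_eq]
    exact (AlgHom.comp_algebraMap (Algebra.TensorProduct.includeRight : A →ₐ[R] S ⊗[R] A)).symm
  rw [h1]
  have h2 : s ⊗ₜ[R] a = (s ⊗ₜ[R] (1 : A)) * ((1 : S) ⊗ₜ[R] a) := by
    rw [Algebra.TensorProduct.tmul_mul_tmul, mul_one, one_mul]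
  rw [h2]
  exact Ideal.mul_mem_left _ _ (Ideal.mem_map_of_mem _ ha)

theorem algebraMap_tmul_one (S : Type u) [CommRing S] [Algebra R S] (r : R) :
    algebraMap S (S ⊗[R] A) (algebraMap R S r) = (1 : S) ⊗ₜ[R] algebraMap R A r := by
  calc algebraMap S (S ⊗[R] A) (algebraMap R S r)
      = (r • (1 : S)) ⊗ₜ[R] (1 : A) := by
        rw [Algebra.TensorProduct.algebraMap_apply, Algebra.algebraMap_eq_smul_one r]
        rfl
    _ = (1 : S) ⊗ₜ[R] (r • (1 : A)) := TensorProduct.smul_tmul r 1 1
    _ = _ := by rw [← Algebra.algebraMap_eq_smul_one]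

/-- Base change step. -/
theorem baseChange_eq (S : Type u) [CommRing S] [Algebra R S] (hS : Rigid S (S ⊗[R] A))
    (I : Ideal R) (hI : IsNilpotent I) (C : Type u) [CommRing C] [Bialgebra R C] (φ : C →ₐc[R] A)
    (h0 : ∀ c, φ c - algebraMap R A (Coalgebra.counit c) ∈ I.map (algebraMap R A)) (c : C) :
    (1 : S) ⊗ₜ[R] φ c = (1 : S) ⊗ₜ[R] algebraMap R A (Coalgebra.counit c) := by
  have hIS : IsNilpotent (I.map (algebraMap R S)) := by
    obtain ⟨n, hn⟩ := hI
    refine ⟨n, ?_⟩
    rw [← Ideal.map_pow, hn]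
    simp
  have hcounit : ∀ (s : S) (c : C), Coalgebra.counit (R := S) (s ⊗ₜ[R] c) =
      algebraMap R S (Coalgebra.counit c) * s := by
    intro s c
    rw [TensorProduct.counit_tmul, Algebra.smul_def]
    simp
  have key := hS (I.map (algebraMap R S)) hIS (S ⊗[R] C)
    (Bialgebra.TensorProduct.map (BialgHom.id S S) φ) ?_ ((1 : S) ⊗ₜ[R] c)
  · rw [Bialgebra.TensorProduct.map_tmul, hcounit, mul_one, algebraMap_tmul_one] at key
    exact key
  · intro x
    induction x using TensorProduct.induction_on with
    | zero => simp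
    | add x y hx hy =>
      rw [map_add, map_add, map_add, add_sub_add_comm]
      exact Ideal.add_mem _ hx hy
    | tmul s c =>
      rw [Bialgebra.TensorProduct.map_tmul, hcounit, mul_comm, map_mul, algebraMap_tmul_one]
      have h2 : (BialgHom.id S S) s ⊗ₜ[R] φ c - algebraMap S (S ⊗[R] A) s *
          ((1 : S) ⊗ₜ[R] algebraMap R A (Coalgebra.counit c)) =
          s ⊗ₜ[R] (φ c - algebraMap R A (Coalgebra.counit c)) := by
        rw [Algebra.TensorProduct.algebraMap_apply, Algebra.TensorProduct.tmul_mul_tmul,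
          TensorProduct.tmul_sub]
        simp
      rw [h2]
      exact tmul_mem_map S I (h0 c) s

theorem rigid_of_faithfullyFlat (S : Type u) [CommRing S] [Algebra R S]
    [Module.FaithfullyFlat R S] (hS : Rigid S (S ⊗[R] A)) : Rigid R A := by
  intro I hI C _ _ φ h0 c
  exact Module.FaithfullyFlat.tensorProduct_mk_injective (A := R) (B := S) A
    (baseChange_eq S hS I hI C φ h0 c)

theorem rigid_of_isMultTypeConst (h : SGA3b.IsMultTypeConst R A) : Rigid R A := by
  obtain ⟨R', _, _, hff, hd⟩ := h
  exact rigid_of_faithfullyFlat R' (rigid_of_isDiag R' _ hd)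

theorem rigid_of_isMultType (h : SGA3b.IsMultType R A) : Rigid R A := by
  obtain ⟨s, hs, hf⟩ := h
  intro I hI C _ _ φ h0 c
  rw [← sub_eq_zero, ← Submodule.mem_bot R]
  refine Submodule.mem_of_span_eq_top_of_smul_pow_mem ⊥ s hs _ fun f => ?_
  have h1 := baseChange_eq (Localization.Away (f : R)) (rigid_of_isMultTypeConst (hf f f.2))
    I hI C φ h0 c
  have h2 : TensorProduct.mk R (Localization.Away (f : R)) A 1
      (φ c - algebraMap R A (Coalgebra.counit c)) =
      TensorProduct.mk R (Localization.Away (f : R)) A 1 0 := by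
    rw [map_sub, map_zero, sub_eq_zero]
    exact h1
  obtain ⟨n, hn⟩ := IsLocalizedModule.Away.exists_of_eq (f : R) h2
  refine ⟨n, ?_⟩
  rw [Submodule.mem_bot, hn, smul_zero]


/-- `1 ⊗ x = 0` in `(R/I) ⊗ A` means `x ∈ I·A`. -/
theorem mem_map_of_one_tmul_eq (I : Ideal R) {x y : A}
    (h : (1 : R ⧸ I) ⊗ₜ[R] x = (1 : R ⧸ I) ⊗ₜ[R] y) : x - y ∈ I.map (algebraMap R A) := by
  have h1 : (Ideal.Quotient.mk I (1 : R)) ⊗ₜ[R] (x - y) = (0 : (R ⧸ I) ⊗[R] A) := by
    rw [TensorProduct.tmul_sub, map_one, h, sub_self]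
  have h2 := congrArg (TensorProduct.quotTensorEquivQuotSMul A I) h1
  rw [TensorProduct.quotTensorEquivQuotSMul_mk_tmul, map_zero, one_smul,
    Submodule.Quotient.mk_eq_zero, Ideal.smul_top_eq_map] at h2
  exact h2

theorem one_tmul_eq_of_mem_map (I : Ideal R) {x y : A}
    (h : x - y ∈ I.map (algebraMap R A)) : (1 : R ⧸ I) ⊗ₜ[R] x = (1 : R ⧸ I) ⊗ₜ[R] y := by
  have h2 : (TensorProduct.quotTensorEquivQuotSMul A I)
      ((Ideal.Quotient.mk I (1 : R)) ⊗ₜ[R] (x - y)) = 0 := by
    rw [TensorProduct.quotTensorEquivQuotSMul_mk_tmul, one_smul,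
      Submodule.Quotient.mk_eq_zero, Ideal.smul_top_eq_map]
    exact h
  have h3 := (TensorProduct.quotTensorEquivQuotSMul A I).injective
    (h2.trans (map_zero _).symm)
  rw [TensorProduct.tmul_sub, map_one, sub_eq_zero] at h3
  exact h3

/-- S5240 in library form. -/
theorem trivial_of_mod_nilpotent (I : Ideal R) (hI : IsNilpotent I) (hH : SGA3b.IsMultType R A)
    (C : Type u) [CommRing C] [Bialgebra R C] (φ : C →ₐc[R] A)
    (h0 : ∀ c : C, (1 : R ⧸ I) ⊗ₜ[R] (φ c) =
      (1 : R ⧸ I) ⊗ₜ[R] (algebraMap R A (Coalgebra.counit c))) :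
    ∀ c : C, φ c = algebraMap R A (Coalgebra.counit c) :=
  rigid_of_isMultType hH I hI C φ fun c => mem_map_of_one_tmul_eq I (h0 c)

end Descent

end Groth.Agent.Lib.MultType58
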