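import Groth.Agent.Lib.MultType58

/-!
# Groups of multiplicative type: homomorphisms into a commutative group are determined modulo
nilpotents
-/

set_option autoImplicit false
set_option linter.unusedSectionVars false
set_option linter.unusedVariables false

universe u

open TensorProduct

namespace Groth.Agent.Lib.MultType58

section DiagEq

variable {R : Type u} [CommRing R] {M : Type u} [CommGroup M]
variable {C : Type u} [CommRing C] [Bialgebra R C] [Coalgebra.IsCocomm R C]

/-- Values of a convolution product of functionals. -/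
theorem conv_values_mem (I : Ideal R) (a b : ℕ) (g h : WithConv (C →ₗ[R] R))
    (hg : ∀ c, g c ∈ I ^ a) (hh : ∀ c, h c ∈ I ^ b) : ∀ c, (g * h) c ∈ I ^ (a + b) := by
  intro c
  rw [(Coalgebra.Repr.arbitrary R c).convMul_apply]
  refine Ideal.sum_mem _ fun i _ => ?_
  rw [pow_add]
  exact Ideal.mul_mem_mul (hg _) (hh _)

theorem conv_pow_values_mem (I : Ideal R) (g : WithConv (C →ₗ[R] R))
    (hg : ∀ c, g c ∈ I) : ∀ k : ℕ, ∀ c, (g ^ (k + 1)) c ∈ I ^ (k + 1) := by
  intro k
  induction k with
  | zero => intro c; simpa using hg c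
  | succ k ih =>
    intro c
    rw [pow_succ g (k + 1)]
    exact conv_values_mem I (k + 1) 1 _ _ ih (by simpa using hg) c

/-- The `m`-coefficient functional of a bialgebra map, in the convolution ring. -/
noncomputable def coefConv (ψ : C →ₐc[R] MonoidAlgebra R M) (m : M) : WithConv (C →ₗ[R] R) :=
  WithConv.toConv ((coefLin m).comp (ψ : C →ₗ[R] MonoidAlgebra R M))

theorem coefConv_apply (ψ : C →ₐc[R] MonoidAlgebra R M) (m : M) (c : C) :
    coefConv ψ m c = coefLin m (ψ c) := rfl

theorem coefConv_idem (ψ : C →ₐc[R] MonoidAlgebra R M) (m : M) :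
    coefConv ψ m * coefConv ψ m = coefConv ψ m := by
  ext c
  rw [(Coalgebra.Repr.arbitrary R c).convMul_apply]
  exact (coef_comp_idem ψ m c).symm

/-- Two bialgebra maps from a cocommutative bialgebra to a group algebra which agree modulo a
nilpotent ideal are equal. -/
theorem diag_eq_of_mod_nilpotent (I : Ideal R) (hI : IsNilpotent I)
    (φ ψ : C →ₐc[R] MonoidAlgebra R M)
    (h0 : ∀ c : C, φ c - ψ c ∈ I.map (algebraMap R (MonoidAlgebra R M))) :
    ∀ c : C, φ c = ψ c := by
  obtain ⟨n, hn⟩ := hI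
  have key : ∀ m : M, coefConv φ m = coefConv ψ m := by
    intro m
    set e := coefConv φ m with he
    set f := coefConv ψ m with hf
    have hee : e * e = e := coefConv_idem φ m
    have hff : f * f = f := coefConv_idem ψ m
    have hd : ∀ c, (e - f) c ∈ I := by
      intro c
      have := coefLin_mem_of_mem_map I (h0 c) m
      rw [map_sub] at this
      exact this
    have h3 : (e - f) ^ 3 = e - f := by
      have : (e - f) ^ 3 = e * e * e - 3 * (e * e) * f + 3 * e * (f * f) - f * f * f := by ring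
      rw [this, hee, hee, hff, hff]
      ring
    have hodd : ∀ k : ℕ, (e - f) ^ (2 * k + 1) = e - f := by
      intro k
      induction k with
      | zero => simp
      | succ k ih =>
        have : 2 * (k + 1) + 1 = 2 * k + 3 := by ring
        rw [this, pow_add, h3, ← pow_succ, ih]
    have hz : e - f = 0 := by
      ext c
      have h1 := conv_pow_values_mem I (e - f) hd (2 * n) c
      rw [hodd n] at h1
      have h2 : I ^ (2 * n + 1) = ⊥ := by
        have : 2 * n + 1 = n + (n + 1) := by ring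
        rw [this, pow_add, hn, Ideal.zero_eq_bot, Ideal.bot_mul]
      rw [h2, Ideal.mem_bot] at h1
      rw [h1]
      rfl
    exact sub_eq_zero.mp hz
  intro c
  apply MonoidAlgebra.ext
  ext m
  have := congrArg (fun g : WithConv (C →ₗ[R] R) => g c) (key m)
  exact this

end DiagEq

section DescentEq

variable (R : Type u) [CommRing R] (A : Type u) [CommRing A] [HopfAlgebra R A]

/-- Rigidity of homomorphisms from `Spec A` into commutative groups modulo nilpotents. -/
def RigidEq : Prop :=
  ∀ (I : Ideal R), IsNilpotent I → ∀ (C : Type u) [CommRing C] [Bialgebra R C]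
    [Coalgebra.IsCocomm R C] (φ ψ : C →ₐc[R] A),
    (∀ c, φ c - ψ c ∈ I.map (algebraMap R A)) → ∀ c, φ c = ψ c

theorem rigidEq_of_isDiag (h : SGA3b.IsDiag R A) : RigidEq R A := by
  obtain ⟨M, _, ⟨e⟩⟩ := h
  intro I hI C _ _ _ φ ψ h0 c
  have key := diag_eq_of_mod_nilpotent I hI ((e : A →ₐc[R] MonoidAlgebra R M).comp φ)
    ((e : A →ₐc[R] MonoidAlgebra R M).comp ψ) ?_ c
  · have h5 : e (φ c) = e (ψ c) := key
    exact e.injective h5
  · intro c
    have h2 : ((e : A →ₐc[R] MonoidAlgebra R M).comp φ) c -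
        ((e : A →ₐc[R] MonoidAlgebra R M).comp ψ) c =
        (e : A →ₐ[R] MonoidAlgebra R M) (φ c - ψ c) := by
      rw [map_sub]
      rfl
    rw [h2]
    have h3 := Ideal.mem_map_of_mem ((e : A →ₐ[R] MonoidAlgebra R M) : A →+* MonoidAlgebra R M)
      (h0 c)
    rw [Ideal.map_map] at h3
    have h4 : ((e : A →ₐ[R] MonoidAlgebra R M) : A →+* MonoidAlgebra R M).comp (algebraMap R A) =
        algebraMap R (MonoidAlgebra R M) := by
      exact AlgHom.comp_algebraMap (e : A →ₐ[R] MonoidAlgebra R M)
    rw [h4] at h3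
    exact h3

variable {R A}

/-- Base change step. -/
theorem baseChange_eq' (S : Type u) [CommRing S] [Algebra R S] (hS : RigidEq S (S ⊗[R] A))
    (I : Ideal R) (hI : IsNilpotent I) (C : Type u) [CommRing C] [Bialgebra R C]
    [Coalgebra.IsCocomm R C] (φ ψ : C →ₐc[R] A)
    (h0 : ∀ c, φ c - ψ c ∈ I.map (algebraMap R A)) (c : C) :
    (1 : S) ⊗ₜ[R] φ c = (1 : S) ⊗ₜ[R] ψ c := by
  have hIS : IsNilpotent (I.map (algebraMap R S)) := by
    obtain ⟨n, hn⟩ := hI
    refine ⟨n, ?_⟩
    rw [← Ideal.map_pow, hn]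
    simp
  have key := hS (I.map (algebraMap R S)) hIS (S ⊗[R] C)
    (Bialgebra.TensorProduct.map (BialgHom.id S S) φ)
    (Bialgebra.TensorProduct.map (BialgHom.id S S) ψ) ?_ ((1 : S) ⊗ₜ[R] c)
  · rw [Bialgebra.TensorProduct.map_tmul, Bialgebra.TensorProduct.map_tmul] at key
    exact key
  · intro x
    induction x using TensorProduct.induction_on with
    | zero => simp
    | add x y hx hy =>
      rw [map_add, map_add, add_sub_add_comm]
      exact Ideal.add_mem _ hx hy
    | tmul s c =>
      rw [Bialgebra.TensorProduct.map_tmul, Bialgebra.TensorProduct.map_tmul,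
        ← TensorProduct.tmul_sub]
      exact tmul_mem_map S I (h0 c) _

theorem rigidEq_of_faithfullyFlat (S : Type u) [CommRing S] [Algebra R S]
    [Module.FaithfullyFlat R S] (hS : RigidEq S (S ⊗[R] A)) : RigidEq R A := by
  intro I hI C _ _ _ φ ψ h0 c
  exact Module.FaithfullyFlat.tensorProduct_mk_injective (A := R) (B := S) A
    (baseChange_eq' S hS I hI C φ ψ h0 c)

theorem rigidEq_of_isMultTypeConst (h : SGA3b.IsMultTypeConst R A) : RigidEq R A := by
  obtain ⟨R', _, _, hff, hd⟩ := h
  exact rigidEq_of_faithfullyFlat R' (rigidEq_of_isDiag R' _ hd)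

theorem rigidEq_of_isMultType (h : SGA3b.IsMultType R A) : RigidEq R A := by
  obtain ⟨s, hs, hf⟩ := h
  intro I hI C _ _ _ φ ψ h0 c
  rw [← sub_eq_zero, ← Submodule.mem_bot R]
  refine Submodule.mem_of_span_eq_top_of_smul_pow_mem ⊥ s hs _ fun f => ?_
  have h1 := baseChange_eq' (Localization.Away (f : R)) (rigidEq_of_isMultTypeConst (hf f f.2))
    I hI C φ ψ h0 c
  have h2 : TensorProduct.mk R (Localization.Away (f : R)) A 1 (φ c - ψ c) =
      TensorProduct.mk R (Localization.Away (f : R)) A 1 0 := by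
    rw [map_sub, map_zero, sub_eq_zero]
    exact h1
  obtain ⟨n, hn⟩ := IsLocalizedModule.Away.exists_of_eq (f : R) h2
  refine ⟨n, ?_⟩
  rw [Submodule.mem_bot, hn, smul_zero]

/-- S5241 in library form. -/
theorem eq_of_mod_nilpotent (I : Ideal R) (hI : IsNilpotent I) (hH : SGA3b.IsMultType R A)
    (C : Type u) [CommRing C] [Bialgebra R C] [Coalgebra.IsCocomm R C] (φ ψ : C →ₐc[R] A)
    (h0 : ∀ c : C, (1 : R ⧸ I) ⊗ₜ[R] (φ c) = (1 : R ⧸ I) ⊗ₜ[R] (ψ c)) :
    φ = ψ := by
  have := rigidEq_of_isMultType hH I hI C φ ψ fun c => mem_map_of_one_tmul_eq I (h0 c)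
  exact DFunLike.ext _ _ this

end DescentEq

end Groth.Agent.Lib.MultType58
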