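import Mathlib.Algebra.MvPolynomial.Equiv
import Mathlib.Algebra.MvPolynomial.Rename
import Mathlib.Algebra.Polynomial.AlgebraMap
import Mathlib.LinearAlgebra.Matrix.MvPolynomial
import Mathlib.Algebra.GroupWithZero.NonZeroDivisors

/-!
# Multivariate polynomials with a regular coefficient are nonzerodivisors (helper50)

* `mem_nonZeroDivisors_of_coeff_fin`, `mem_nonZeroDivisors_of_coeff` (finite index type): if some
  coefficient of `p : MvPolynomial σ R` is a nonzerodivisor of `R` then `p` is a nonzerodivisor.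
* `coeff_det_mvPolynomialX_diag`: the coefficient of `∏ X_ii` in the generic determinant is `1`.
* `det_mvPolynomialX_mem_nonZeroDivisors`.
-/

set_option autoImplicit false
universe u v

namespace Groth.Agent.Lib.MvPolyNZD50

open MvPolynomial nonZeroDivisors

theorem mem_nonZeroDivisors_of_coeff_fin {R : Type u} [CommRing R] (n : ℕ) :
    ∀ (p : MvPolynomial (Fin n) R) (d : Fin n →₀ ℕ), coeff d p ∈ R⁰ →
      p ∈ (MvPolynomial (Fin n) R)⁰ := by
  induction n with
  | zero =>
    intro p d h
    have hd : d = 0 := Subsingleton.elim _ _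
    subst hd
    have hp : p = C (coeff 0 p) := by
      ext m
      have hm : m = 0 := Subsingleton.elim _ _
      subst hm
      simp
    have hinj : Function.Injective (isEmptyAlgEquiv R (Fin 0)) :=
      (isEmptyAlgEquiv R (Fin 0)).injective
    apply mem_nonZeroDivisors_of_injective (f := isEmptyAlgEquiv R (Fin 0)) hinj
    have : isEmptyAlgEquiv R (Fin 0) p = coeff 0 p := by
      conv_lhs => rw [hp]
      rw [← isEmptyAlgEquiv_symm_apply (R := R) (σ := Fin 0), AlgEquiv.apply_symm_apply]
    rw [this]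
    exact h
  | succ n ih =>
    intro p d h
    have hinj : Function.Injective (finSuccEquiv R n) := (finSuccEquiv R n).injective
    apply mem_nonZeroDivisors_of_injective (f := finSuccEquiv R n) hinj
    apply Polynomial.mem_nonzeroDivisors_of_coeff_mem (d 0)
    apply ih _ (Finsupp.tail d)
    rw [finSuccEquiv_coeff_coeff, Finsupp.cons_tail]
    exact h

theorem mem_nonZeroDivisors_of_coeff {R : Type u} [CommRing R] {σ : Type v} [Finite σ]
    (p : MvPolynomial σ R) (d : σ →₀ ℕ) (h : coeff d p ∈ R⁰) : p ∈ (MvPolynomial σ R)⁰ := by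
  obtain ⟨n, ⟨e⟩⟩ := Finite.exists_equiv_fin σ
  have hinj : Function.Injective (rename e : MvPolynomial σ R →ₐ[R] _) :=
    rename_injective e e.injective
  apply mem_nonZeroDivisors_of_injective (f := (rename e : MvPolynomial σ R →ₐ[R] _)) hinj
  apply mem_nonZeroDivisors_of_coeff_fin n _ (d.mapDomain e)
  rw [coeff_rename_mapDomain e e.injective]
  exact h

section det

variable (R : Type u) [CommRing R] (n : ℕ)

/-- the monomial `∏ X_{σ i, i}` -/
lemma prod_X_eq_monomial (σ : Equiv.Perm (Fin n)) :
    ∏ i, (X (σ i, i) : MvPolynomial (Fin n × Fin n) R) =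
      monomial (∑ i, Finsupp.single (σ i, i) 1) 1 := by
  rw [monomial_sum_index, C_1, one_mul]
  rfl

lemma diag_ne_of_ne_one (σ : Equiv.Perm (Fin n)) (hσ : σ ≠ 1) :
    (∑ i, Finsupp.single (σ i, i) 1 : Fin n × Fin n →₀ ℕ) ≠
      ∑ i, Finsupp.single ((1 : Equiv.Perm (Fin n)) i, i) 1 := by
  classical
  intro h
  obtain ⟨j, hj⟩ : ∃ j, σ j ≠ j := by
    by_contra hcon
    push Not at hcon
    exact hσ (Equiv.ext hcon)
  have h1 := congrArg (fun d : Fin n × Fin n →₀ ℕ => d (σ j, j)) h
  simp only [Finsupp.coe_finsetSum, Finset.sum_apply, Equiv.Perm.coe_one, id_eq] at h1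
  have h2 : ∑ i, (Finsupp.single (i, i) 1 : Fin n × Fin n →₀ ℕ) (σ j, j) = 0 := by
    apply Finset.sum_eq_zero
    intro i _
    rw [Finsupp.single_apply, if_neg]
    intro hij
    have h3 : i = σ j := congrArg Prod.fst hij
    have h4 : i = j := congrArg Prod.snd hij
    exact hj (h3 ▸ h4)
  have h3 : 1 ≤ ∑ i, (Finsupp.single (σ i, i) 1 : Fin n × Fin n →₀ ℕ) (σ j, j) := by
    have := Finset.single_le_sum (f := fun i => (Finsupp.single (σ i, i) 1 : Fin n × Fin n →₀ ℕ)
      (σ j, j)) (fun i _ => Nat.zero_le _) (Finset.mem_univ j)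
    simpa using this
  omega

/-- The coefficient of `∏ X_ii` in the generic determinant is `1`. -/
theorem coeff_det_mvPolynomialX_diag :
    coeff (∑ i, Finsupp.single ((1 : Equiv.Perm (Fin n)) i, i) 1)
      (Matrix.mvPolynomialX (Fin n) (Fin n) R).det = 1 := by
  classical
  rw [Matrix.det_apply, coeff_sum, Finset.sum_eq_single (1 : Equiv.Perm (Fin n))]
  · simp only [Equiv.Perm.sign_one, one_smul, Matrix.mvPolynomialX_apply]
    rw [prod_X_eq_monomial, coeff_monomial, if_pos rfl]
  · intro σ _ hσ
    simp only [Matrix.mvPolynomialX_apply]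
    rw [prod_X_eq_monomial]
    rcases Int.units_eq_one_or (Equiv.Perm.sign σ) with h | h
    · rw [h, one_smul, coeff_monomial, if_neg (diag_ne_of_ne_one n σ hσ)]
    · rw [h, Units.neg_smul, one_smul, coeff_neg, coeff_monomial,
        if_neg (diag_ne_of_ne_one n σ hσ), neg_zero]
  · intro h
    exact absurd (Finset.mem_univ _) h

/-- The generic determinant is a nonzerodivisor of the polynomial ring. -/
theorem det_mvPolynomialX_mem_nonZeroDivisors :
    (Matrix.mvPolynomialX (Fin n) (Fin n) R).det ∈ (MvPolynomial (Fin n × Fin n) R)⁰ := by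
  apply mem_nonZeroDivisors_of_coeff _ (∑ i, Finsupp.single ((1 : Equiv.Perm (Fin n)) i, i) 1)
  rw [coeff_det_mvPolynomialX_diag]
  exact one_mem _

end det

end Groth.Agent.Lib.MvPolyNZD50
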