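import Groth.Agent.Lib.NDTop45
import Mathlib.RingTheory.Spectrum.Prime.Noetherian
import Mathlib.RingTheory.Spectrum.Prime.Chevalley
import Mathlib.RingTheory.LocalRing.ResidueField.Fiber
import Mathlib.RingTheory.QuasiFinite.Basic
import Mathlib.RingTheory.Ideal.GoingUp
import Mathlib.RingTheory.Ideal.GoingDown

/-!
# Finite flat finitely presented ring maps preserve nowhere dense closed sets (helper45)
-/

set_option autoImplicit false

open PrimeSpectrum TensorProduct

namespace Groth.Agent.Lib.NDAlg45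

open Groth.Agent.Lib.NDTop45

variable {B A : Type*} [CommRing B] [CommRing A]

theorem hasMinimalPoints_primeSpectrum (B : Type*) [CommRing B] :
    HasMinimalPoints (PrimeSpectrum B) := by
  intro V hV ⟨x, hx⟩
  obtain ⟨p, hp, hpx⟩ := Ideal.exists_minimalPrimes_le (I := (⊥ : Ideal B)) (J := x.asIdeal) bot_le
  let q : PrimeSpectrum B := ⟨p, hp.1.1⟩
  have hqx : q ⤳ x := (PrimeSpectrum.le_iff_specializes q x).mp hpx
  refine ⟨q, hqx.mem_open hV hx, fun x' hx' => ?_⟩
  have h1 : x'.asIdeal ≤ p := (PrimeSpectrum.le_iff_specializes x' q).mpr hx'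
  have h2 : p ≤ x'.asIdeal := hp.2 ⟨x'.isPrime, bot_le⟩ h1
  exact PrimeSpectrum.ext (le_antisymm h1 h2)

variable [Algebra B A]

/-- If `c` lies in every prime over a point `x` without proper generizations, then `φ(s) * c` is
nilpotent for some `s ∉ x`. -/
theorem exists_isNilpotent_mul (x : PrimeSpectrum B) (hx : ∀ x' : PrimeSpectrum B, x' ⤳ x → x' = x)
    (c : A) (hc : ∀ y : PrimeSpectrum A, comap (algebraMap B A) y = x → c ∈ y.asIdeal) :
    ∃ s ∉ x.asIdeal, IsNilpotent (algebraMap B A s * c) := by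
  let M : Submonoid A := Submonoid.map (algebraMap B A) x.asIdeal.primeCompl ⊔ Submonoid.powers c
  by_cases h0 : (0 : A) ∈ M
  · obtain ⟨_, ⟨s, hs, rfl⟩, _, ⟨n, rfl⟩, h⟩ := Submonoid.mem_sup.mp h0
    refine ⟨s, hs, n + 1, ?_⟩
    have : (algebraMap B A s * c) ^ (n + 1) =
        (algebraMap B A s) ^ n * c * (algebraMap B A s * c ^ n) := by ring
    rw [this, h, mul_zero]
  · exfalso
    have hdisj : Disjoint ((⊥ : Ideal A) : Set A) M := by
      rw [Set.disjoint_left]
      intro a ha haM
      have : a = 0 := ha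
      exact h0 (this ▸ haM)
    obtain ⟨P, hP, -, hPM⟩ := Ideal.exists_le_prime_disjoint (⊥ : Ideal A) M hdisj
    let y : PrimeSpectrum A := ⟨P, hP⟩
    have hle : (comap (algebraMap B A) y).asIdeal ≤ x.asIdeal := by
      intro s hs
      by_contra hsx
      have h1 : algebraMap B A s ∈ M :=
        Submonoid.mem_sup_left (Submonoid.mem_map_of_mem _ hsx)
      exact (Set.disjoint_left.mp hPM) hs h1
    have heq : comap (algebraMap B A) y = x :=
      hx _ ((PrimeSpectrum.le_iff_specializes _ _).mp hle)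
    have hcP : c ∈ P := hc y heq
    exact (Set.disjoint_left.mp hPM) hcP
      (Submonoid.mem_sup_right (Submonoid.mem_powers c))

/-- Incomparability for integral extensions, on the level of prime spectra. -/
theorem eq_of_comap_eq_of_le [Algebra.IsIntegral B A] {y y' : PrimeSpectrum A}
    (h : comap (algebraMap B A) y = comap (algebraMap B A) y') (hle : y.asIdeal ≤ y'.asIdeal) :
    y = y' := by
  by_contra hne'
  have hlt : y.asIdeal < y'.asIdeal := lt_of_le_of_ne hle (fun h => hne' (PrimeSpectrum.ext h))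
  have h2 := Ideal.IsIntegral.comap_lt_comap (R := B) hlt
  have h1 : y.asIdeal.comap (algebraMap B A) = y'.asIdeal.comap (algebraMap B A) :=
    congrArg PrimeSpectrum.asIdeal h
  exact absurd h1 (ne_of_lt h2)

theorem splits_comap [Algebra.IsIntegral B A]
    (hfin : ∀ x : PrimeSpectrum B, (comap (algebraMap B A) ⁻¹' {x}).Finite) :
    Splits (comap (algebraMap B A)) := by
  classical
  intro x hx y₁ y₂ hy₁ hy₂ hne
  set g := comap (algebraMap B A) with hg
  have hincomp : ∀ y y' : PrimeSpectrum A, g y = x → g y' = x → y.asIdeal ≤ y'.asIdeal →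
      y = y' := fun y y' hy hy' hle => eq_of_comap_eq_of_le (hy.trans hy'.symm) hle
  set F : Finset (PrimeSpectrum A) := (hfin x).toFinset.erase y₁ with hF
  have hmemF : ∀ y : PrimeSpectrum A, y ∈ F ↔ y ≠ y₁ ∧ g y = x := by
    intro y
    rw [hF, Finset.mem_erase, Set.Finite.mem_toFinset]
    rfl
  have hav : ¬ ((y₁.asIdeal : Set A) ⊆ ⋃ p ∈ (F : Set (PrimeSpectrum A)), (p.asIdeal : Set A)) := by
    rw [Ideal.subset_union_prime y₁ y₁ (fun p _ _ _ => p.isPrime)]
    rintro ⟨p, hpF, hle⟩
    have hp := (hmemF p).mp hpF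
    exact hp.1 (hincomp y₁ p hy₁ hp.2 hle).symm
  obtain ⟨a', ha'y₁, ha'F⟩ := Set.not_subset.mp hav
  have hex : ∀ p : PrimeSpectrum A, ∃ a : A, a ∉ y₁.asIdeal ∧ (p ∈ F → a ∈ p.asIdeal) := by
    intro p
    by_cases hpF : p ∈ F
    · have hp := (hmemF p).mp hpF
      have : ¬ p.asIdeal ≤ y₁.asIdeal := fun hle => hp.1 (hincomp p y₁ hp.2 hy₁ hle)
      obtain ⟨a, hap, hay⟩ := SetLike.not_le_iff_exists.mp this
      exact ⟨a, hay, fun _ => hap⟩
    · exact ⟨1, (Ideal.ne_top_iff_one _).mp y₁.isPrime.ne_top, fun h => absurd h hpF⟩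
  choose af haf haf' using hex
  set a := ∏ p ∈ F, af p with ha
  have hay₁ : a ∉ y₁.asIdeal := by
    intro hmem
    obtain ⟨p, -, hp⟩ := (Ideal.IsPrime.prod_mem_iff).mp hmem
    exact haf p hp
  have haF : ∀ p ∈ F, a ∈ p.asIdeal := by
    intro p hp
    rw [ha, ← Finset.mul_prod_erase _ _ hp]
    exact Ideal.mul_mem_right _ _ (haf' p hp)
  have ha'F' : ∀ p ∈ F, a' ∉ p.asIdeal := fun p hp h =>
    ha'F (Set.mem_biUnion (Finset.mem_coe.mpr hp) h)
  have hc : ∀ y : PrimeSpectrum A, g y = x → a * a' ∈ y.asIdeal := by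
    intro y hy
    by_cases hyy : y = y₁
    · rw [hyy]; exact Ideal.mul_mem_left _ _ ha'y₁
    · exact Ideal.mul_mem_right _ _ (haF y ((hmemF y).mpr ⟨hyy, hy⟩))
  obtain ⟨s, hs, hnil⟩ := exists_isNilpotent_mul x hx (a * a') hc
  set Z : Set (PrimeSpectrum A) := zeroLocus {a} ∩ zeroLocus {a'} with hZ
  have hZc : IsClosed Z := (isClosed_zeroLocus _).inter (isClosed_zeroLocus _)
  have hgZ : IsClosed (g '' Z) :=
    PrimeSpectrum.isClosedMap_comap_of_isIntegral _ (algebraMap_isIntegral_iff.mpr inferInstance)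
      _ hZc
  have hxZ : x ∉ g '' Z := by
    rintro ⟨y, ⟨hya, hya'⟩, hyx⟩
    rw [mem_zeroLocus, Set.singleton_subset_iff] at hya hya'
    by_cases hyy : y = y₁
    · rw [hyy] at hya; exact hay₁ hya
    · exact ha'F' y ((hmemF y).mpr ⟨hyy, hyx⟩) hya'
  set W : Set (PrimeSpectrum B) := (basicOpen s : Set (PrimeSpectrum B)) ∩ (g '' Z)ᶜ with hW
  have hWo : IsOpen W := (basicOpen s).isOpen.inter hgZ.isOpen_compl
  have hgcont : Continuous g := PrimeSpectrum.continuous_comap _
  have hcompl : g ⁻¹' W \ ((basicOpen a : Set (PrimeSpectrum A)) ∩ g ⁻¹' W) =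
      g ⁻¹' W ∩ (basicOpen a' : Set (PrimeSpectrum A)) := by
    ext y
    simp only [Set.mem_sdiff, Set.mem_inter_iff, Set.mem_preimage, SetLike.mem_coe,
      PrimeSpectrum.mem_basicOpen, not_and]
    constructor
    · rintro ⟨hyW, hn⟩
      refine ⟨hyW, fun hya' => ?_⟩
      have hya : a ∈ y.asIdeal := by
        by_contra hya
        exact hn hya hyW
      refine hyW.2 ⟨y, ⟨?_, ?_⟩, rfl⟩
      · rw [mem_zeroLocus, Set.singleton_subset_iff]; exact hya
      · rw [mem_zeroLocus, Set.singleton_subset_iff]; exact hya'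
    · rintro ⟨hyW, hya'⟩
      refine ⟨hyW, fun hya _ => ?_⟩
      have hsy : algebraMap B A s ∉ y.asIdeal := hyW.1
      have h1 : algebraMap B A s * (a * a') ∈ y.asIdeal := by
        obtain ⟨n, hn⟩ := hnil
        exact y.isPrime.mem_of_pow_mem n (hn ▸ y.asIdeal.zero_mem)
      rcases y.isPrime.mem_or_mem h1 with h | h
      · exact hsy h
      · rcases y.isPrime.mem_or_mem h with h | h
        · exact hya h
        · exact hya' h
  refine ⟨W, hWo, ⟨hs, hxZ⟩, (basicOpen a : Set (PrimeSpectrum A)) ∩ g ⁻¹' W,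
    (basicOpen a).isOpen.inter (hWo.preimage hgcont), ?_, Set.inter_subset_right, ?_, ?_⟩
  · rw [hcompl]
    exact (hWo.preimage hgcont).inter (basicOpen a').isOpen
  · refine ⟨hay₁, ?_⟩
    change g y₁ ∈ W
    rw [hy₁]
    exact ⟨hs, hxZ⟩
  · rintro ⟨hy₂a, -⟩
    exact hy₂a (haF y₂ ((hmemF y₂).mpr ⟨hne.symm, hy₂⟩))

/-- A finite-dimensional algebra over a field has at most `finrank` many primes. -/
theorem card_primeSpectrum_le_finrank (F R : Type*) [Field F] [CommRing R] [Algebra F R]
    [Module.Finite F R] : Finite (PrimeSpectrum R) ∧ Nat.card (PrimeSpectrum R) ≤ Module.finrank F R := by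
  have : IsArtinianRing R := IsArtinianRing.of_finite F R
  have hfin : Finite (PrimeSpectrum R) := inferInstance
  refine ⟨hfin, ?_⟩
  cases nonempty_fintype (PrimeSpectrum R)
  have hloc : ∀ (p : Ideal R) [p.IsPrime], Module.Finite F (Localization.AtPrime p) := fun p _ =>
    Module.Finite.of_surjective (Algebra.algHom F R (Localization.AtPrime p)).toLinearMap
      (IsArtinianRing.localization_surjective p.primeCompl (Localization.AtPrime p))
  rw [Nat.card_eq_fintype_card, IsArtinianRing.finrank_eq_sum_primeSpectrum R F]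
  calc Fintype.card (PrimeSpectrum R) = ∑ _p : PrimeSpectrum R, 1 := by simp
    _ ≤ ∑ p : PrimeSpectrum R, Module.finrank F (Localization.AtPrime p.asIdeal) := by
      refine Finset.sum_le_sum (fun p _ => ?_)
      have := hloc p.asIdeal
      exact Module.finrank_pos

theorem exists_fiber_bound [Module.Finite B A] :
    ∃ d : ℕ, ∀ x : PrimeSpectrum B, (comap (algebraMap B A) ⁻¹' {x}).Finite ∧
      (comap (algebraMap B A) ⁻¹' {x}).ncard ≤ d := by
  obtain ⟨n, f, hf⟩ := Module.Finite.exists_fin' B A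
  refine ⟨n, fun x => ?_⟩
  have hnt : Nontrivial B := ⟨⟨0, 1, fun h => x.isPrime.ne_top
    ((Ideal.eq_top_iff_one _).mpr (h ▸ x.asIdeal.zero_mem))⟩⟩
  have hrank : Module.finrank x.asIdeal.ResidueField (x.asIdeal.Fiber A) ≤ n := by
    have hsurj : Function.Surjective (f.baseChange x.asIdeal.ResidueField) :=
      LinearMap.lTensor_surjective _ hf
    have h1 := LinearMap.finrank_le_finrank_of_surjective hsurj
    rwa [Module.finrank_baseChange (R := x.asIdeal.ResidueField) (S := B) (M' := Fin n → B),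
      Module.finrank_fin_fun] at h1
  obtain ⟨hfin, hcard⟩ := card_primeSpectrum_le_finrank x.asIdeal.ResidueField (x.asIdeal.Fiber A)
  have e := PrimeSpectrum.preimageEquivFiber B A x
  have hfin' : (comap (algebraMap B A) ⁻¹' {x}).Finite :=
    Set.finite_coe_iff.mp (e.finite_iff.mpr hfin)
  refine ⟨hfin', ?_⟩
  rw [← Nat.card_coe_set_eq, Nat.card_congr e]
  exact hcard.trans hrank

/-- A finite, flat, finitely presented ring map sends closed nowhere dense subsets of the spectrum
to nowhere dense subsets. -/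
theorem isNowhereDense_image_comap_of_flat [Module.Finite B A] [Module.Flat B A]
    [Algebra.FinitePresentation B A] (T : Set (PrimeSpectrum A)) (hT : IsClosed T)
    (hTnd : IsNowhereDense T) : IsNowhereDense (comap (algebraMap B A) '' T) := by
  obtain ⟨d, hd⟩ := exists_fiber_bound (B := B) (A := A)
  have hint : Algebra.IsIntegral B A := inferInstance
  exact isNowhereDense_image _ (continuous_comap _)
    PrimeSpectrum.isOpenMap_comap_of_hasGoingDown_of_finitePresentation
    (PrimeSpectrum.isClosedMap_comap_of_isIntegral _ (algebraMap_isIntegral_iff.mpr hint))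
    (hasMinimalPoints_primeSpectrum B) (splits_comap (fun x => (hd x).1)) d hd T hT hTnd

end Groth.Agent.Lib.NDAlg45
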