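import Groth.Agent.Lib.NDAlg45
import Mathlib.RingTheory.AdjoinRoot
import Mathlib.RingTheory.Adjoin.Basic
import Mathlib.RingTheory.IntegralClosure.IsIntegralClosure.Basic

/-!
# Finite ring maps preserve nowhere dense closed sets (helper45)
-/

set_option autoImplicit false

open PrimeSpectrum Polynomial

namespace Groth.Agent.Lib.NDFin45

open Groth.Agent.Lib.NDAlg45

universe u v

/-- The map on spectra sends closed nowhere dense sets to closed nowhere dense sets. -/
def NDP {B : Type*} {A : Type*} [CommRing B] [CommRing A] (φ : B →+* A) : Prop :=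
  ∀ T : Set (PrimeSpectrum A), IsClosed T → IsNowhereDense T →
    IsClosed (comap φ '' T) ∧ IsNowhereDense (comap φ '' T)

theorem NDP.of_surjective {B : Type*} {A : Type*} [CommRing B] [CommRing A] (φ : B →+* A)
    (hφ : Function.Surjective φ) : NDP φ := by
  intro T hT hTnd
  have he := PrimeSpectrum.isClosedEmbedding_comap_of_surjective A φ hφ
  exact ⟨he.isClosedMap T hT, he.isInducing.isNowhereDense_image hTnd⟩

theorem NDP.comp {B : Type*} {A : Type*} {C : Type*} [CommRing B] [CommRing A] [CommRing C]
    {φ : B →+* A} {ψ : A →+* C} (hφ : NDP φ) (hψ : NDP ψ) : NDP (ψ.comp φ) := by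
  intro T hT hTnd
  obtain ⟨h1, h2⟩ := hψ T hT hTnd
  have : comap (ψ.comp φ) '' T = comap φ '' (comap ψ '' T) := by
    rw [← Set.image_comp]
    rfl
  rw [this]
  exact hφ _ h1 h2

theorem NDP.adjoinRoot {R : Type*} [CommRing R] (P : R[X]) (hP : P.Monic) :
    NDP (algebraMap R (AdjoinRoot P)) := by
  have h1 := hP.finite_adjoinRoot
  have h2 := hP.free_adjoinRoot
  intro T hT hTnd
  have hint : Algebra.IsIntegral R (AdjoinRoot P) := inferInstance
  exact ⟨PrimeSpectrum.isClosedMap_comap_of_isIntegral _ (algebraMap_isIntegral_iff.mpr hint) T hT,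
    isNowhereDense_image_comap_of_flat T hT hTnd⟩

theorem NDP.of_adjoin_eq_top {B : Type v} [CommRing B] (n : ℕ) :
    ∀ {A : Type u} [CommRing A] [Algebra B A] [Algebra.IsIntegral B A] (s : Finset A),
      s.card ≤ n → Algebra.adjoin B (s : Set A) = ⊤ → NDP (algebraMap B A) := by
  classical
  induction n with
  | zero =>
    intro A _ _ _ s hs hadj
    have hs' : s = ∅ := Finset.card_eq_zero.mp (Nat.le_zero.mp hs)
    rw [hs', Finset.coe_empty, Algebra.adjoin_empty] at hadj
    exact NDP.of_surjective _ (Algebra.surjective_algebraMap_iff.mpr hadj.symm)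
  | succ n ih =>
    intro A _ _ _ s hs hadj
    by_cases hs' : s.card ≤ n
    · exact ih s hs' hadj
    · have hne : s.Nonempty := by
        rw [← Finset.card_pos]; omega
      obtain ⟨x, hx⟩ := hne
      set s' := s.erase x with hs'def
      have hcard : s'.card ≤ n := by
        rw [hs'def, Finset.card_erase_of_mem hx]; omega
      set A₀ : Subalgebra B A := Algebra.adjoin B (s' : Set A) with hA₀
      -- generating set of `A₀`
      have hint₀ : Algebra.IsIntegral B A₀ :=
        Algebra.IsIntegral.of_injective A₀.val Subtype.val_injective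
      have hgen₀ : Algebra.adjoin B ((s'.subtype (· ∈ A₀) : Finset A₀) : Set A₀) = ⊤ := by
        have : ((s'.subtype (· ∈ A₀) : Finset A₀) : Set A₀) =
            ((↑) : A₀ → A) ⁻¹' (s' : Set A) := by
          ext a
          simp
        rw [this]
        exact Algebra.adjoin_adjoin_coe_preimage
      have hcard₀ : (s'.subtype (· ∈ A₀) : Finset A₀).card ≤ n :=
        (Finset.card_subtype _ _).le.trans ((Finset.card_filter_le _ _).trans hcard)
      have hND₀ : NDP (algebraMap B A₀) := ih _ hcard₀ hgen₀
      -- `x` generates `A` over `A₀`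
      have hgen : Algebra.adjoin A₀ ({x} : Set A) = ⊤ := by
        have h1 : (s : Set A) = (s' : Set A) ∪ {x} := by
          rw [hs'def, Finset.coe_erase, Set.sdiff_union_self, Set.union_singleton,
            Set.insert_eq_of_mem (Finset.mem_coe.mpr hx)]
        rw [h1, Algebra.adjoin_union_eq_adjoin_adjoin] at hadj
        rw [eq_top_iff]
        intro a _
        have : a ∈ (Algebra.adjoin A₀ ({x} : Set A)).restrictScalars B := by
          rw [hadj]; exact Algebra.mem_top
        exact this
      -- monic polynomial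
      obtain ⟨P, hPm, hPx⟩ := Algebra.IsIntegral.isIntegral (R := B) x
      set P₀ : A₀[X] := P.map (algebraMap B A₀) with hP₀
      have hP₀m : P₀.Monic := hPm.map _
      have hP₀x : P₀.eval₂ (Algebra.ofId A₀ A) x = 0 := by
        rw [hP₀, Polynomial.eval₂_map]
        exact hPx
      set ψ : AdjoinRoot P₀ →ₐ[A₀] A := AdjoinRoot.liftAlgHom P₀ (Algebra.ofId A₀ A) x hP₀x with hψ
      have hψsurj : Function.Surjective ψ := by
        rw [← AlgHom.range_eq_top, eq_top_iff, ← hgen]
        refine Algebra.adjoin_le ?_
        rw [Set.singleton_subset_iff]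
        exact ⟨AdjoinRoot.root P₀, AdjoinRoot.liftAlgHom_root _ _ _ _⟩
      have hcomp : algebraMap B A = (ψ : AdjoinRoot P₀ →+* A).comp
          ((algebraMap A₀ (AdjoinRoot P₀)).comp (algebraMap B A₀)) := by
        ext b
        simp only [RingHom.comp_apply, RingHom.coe_coe, AlgHom.commutes]
        rfl
      rw [hcomp]
      exact (hND₀.comp (NDP.adjoinRoot P₀ hP₀m)).comp (NDP.of_surjective _ hψsurj)

/-- A finite ring map sends closed nowhere dense subsets of the spectrum to closed nowhere dense
subsets. -/
theorem NDP.of_finite {B : Type v} {A : Type u} [CommRing B] [CommRing A] (φ : B →+* A)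
    (hφ : φ.Finite) : NDP φ := by
  algebraize [φ]
  have hint : Algebra.IsIntegral B A := inferInstance
  obtain ⟨s, hs⟩ := (inferInstance : Algebra.FiniteType B A).out
  exact NDP.of_adjoin_eq_top s.card s le_rfl hs

end Groth.Agent.Lib.NDFin45
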