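import Groth.Agent.Lib.GenFinFF45
import Groth.Agent.Lib.NDFin45
import Mathlib.AlgebraicGeometry.Morphisms.QuasiFinite

/-!
# Quasi-finite morphisms map closed nowhere dense sets to nowhere dense sets (helper45)
-/

set_option autoImplicit false
universe u
open CategoryTheory AlgebraicGeometry TopologicalSpace

namespace Groth.Agent.Lib.NDSch45

open Groth.Agent.Lib.GenFin45 Groth.Agent.Lib.NDTop45 Groth.Agent.Lib.NDFin45

variable {X Y : Scheme.{u}}

/-- Preimage of a closed nowhere dense set under an open embedding is nowhere dense. -/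
theorem isNowhereDense_preimage_of_isOpenEmbedding {S Z : Type*} [TopologicalSpace S]
    [TopologicalSpace Z] {j : S → Z} (hj : Topology.IsOpenEmbedding j) {T : Set Z} (hT : IsClosed T)
    (hTnd : IsNowhereDense T) : IsNowhereDense (j ⁻¹' T) := by
  rw [(hT.preimage hj.continuous).isNowhereDense_iff]
  rw [hT.isNowhereDense_iff] at hTnd
  by_contra hne
  obtain ⟨z, hz⟩ := Set.nonempty_iff_ne_empty.mpr hne
  have hopen : IsOpen (j '' interior (j ⁻¹' T)) := hj.isOpenMap _ isOpen_interior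
  have hsub : j '' interior (j ⁻¹' T) ⊆ T := by
    rintro _ ⟨w, hw, rfl⟩
    have hw' : w ∈ j ⁻¹' T := interior_subset hw
    exact hw'
  have : j z ∈ interior T := interior_maximal hsub hopen ⟨z, hz, rfl⟩
  rw [hTnd] at this
  exact this

/-- Every nonempty open subset of a scheme contains a point without proper generizations. -/
theorem hasMinimalPoints_scheme (Y : Scheme.{u}) : HasMinimalPoints Y := by
  intro V₁ hV₁ ⟨y, hy⟩
  obtain ⟨_, ⟨V, hV, rfl⟩, hyV, -⟩ := Y.isBasis_affineOpens.exists_subset_of_mem_open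
    (Set.mem_univ y) isOpen_univ
  replace hV : IsAffineOpen V := hV
  obtain ⟨V, rfl⟩ : ∃ V' : Y.Opens, V' = V := ⟨V, rfl⟩
  have hemb := hV.fromSpec.isOpenEmbedding
  have hO : IsOpen (hV.fromSpec ⁻¹' V₁) := hV₁.preimage hV.fromSpec.continuous
  have hOne : (hV.fromSpec ⁻¹' V₁).Nonempty := by
    refine ⟨hV.primeIdealOf ⟨y, hyV⟩, ?_⟩
    change hV.fromSpec (hV.primeIdealOf ⟨y, hyV⟩) ∈ V₁
    rw [hV.fromSpec_primeIdealOf ⟨y, hyV⟩]
    exact hy
  obtain ⟨q, hqO, hqmin⟩ := Groth.Agent.Lib.NDAlg45.hasMinimalPoints_primeSpectrum Γ(Y, V) _ hO hOne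
  refine ⟨hV.fromSpec q, hqO, fun y' hy' => ?_⟩
  have hηV : hV.fromSpec q ∈ V := by
    have : hV.fromSpec q ∈ Set.range hV.fromSpec := ⟨q, rfl⟩
    rwa [hV.range_fromSpec] at this
  have hy'V : y' ∈ V := hy'.mem_open V.isOpen hηV
  have hy'eq : hV.fromSpec (hV.primeIdealOf ⟨y', hy'V⟩) = y' := hV.fromSpec_primeIdealOf ⟨y', hy'V⟩
  rw [← hy'eq] at hy' ⊢
  have := (hemb.isInducing.specializes_iff).mp hy'
  rw [hqmin _ this]

/-- Affine piece: given an affine open `U` of the source over an affine open `V` of the target with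
finite fibres, every nonempty open `V₁ ≤ V` contains a nonempty open `V₂` disjoint from
`f (T ∩ U)`, for `T` closed nowhere dense. -/
theorem exists_open_disjoint_image_affine (f : X ⟶ Y) [LocallyOfFiniteType f] (T : Set X)
    (hT : IsClosed T) (hTnd : IsNowhereDense T) {U : X.Opens} {V : Y.Opens} (hU : IsAffineOpen U)
    (hV : IsAffineOpen V) (e : U ≤ f ⁻¹ᵁ V)
    (hfin : ∀ y : Y, (f ⁻¹' {y} ∩ (U : Set X)).Finite)
    (V₁ : Y.Opens) (hV₁V : V₁ ≤ V) (hV₁ne : (V₁ : Set Y).Nonempty) :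
    ∃ V₂ : Y.Opens, V₂ ≤ V₁ ∧ (V₂ : Set Y).Nonempty ∧ ∀ x ∈ T, x ∈ U → f x ∉ V₂ := by
  obtain ⟨η, hηV₁, hη⟩ := hasMinimalPoints_scheme Y V₁ V₁.isOpen hV₁ne
  have hηV : η ∈ V := hV₁V hηV₁
  obtain ⟨s, hηs, hint⟩ := exists_forall_isIntegralElem f hU hV e η hηV hη (hfin η)
  obtain ⟨s', hs'V₁, hηs'⟩ := hV.exists_basicOpen_le ⟨η, hηV₁⟩ hηV
  set φ := f.appLE V U e with hφ
  have hpre : X.basicOpen (φ.hom (s * s')) = U ⊓ f ⁻¹ᵁ Y.basicOpen (s * s') :=
    Groth.Agent.Lib.GenFinFF45.basicOpen_appLE f e (s * s')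
  have e' : X.basicOpen (φ.hom (s * s')) ≤ f ⁻¹ᵁ Y.basicOpen (s * s') := hpre.le.trans inf_le_right
  have hV' : IsAffineOpen (Y.basicOpen (s * s')) := hV.basicOpen _
  have hU' : IsAffineOpen (X.basicOpen (φ.hom (s * s'))) := hU.basicOpen _
  have hψint := isIntegral_appLE_basicOpen f hU e s s' hint e'
  set ψ := f.appLE (Y.basicOpen (s * s')) (X.basicOpen (φ.hom (s * s'))) e' with hψ
  have hψfin : ψ.hom.Finite := hψint.to_finite (f.finiteType_appLE hV' hU' e')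
  have hηV' : η ∈ Y.basicOpen (s * s') := by
    rw [Scheme.basicOpen_mul]; exact ⟨hηs, hηs'⟩
  have hV'V₁ : Y.basicOpen (s * s') ≤ V₁ := by
    rw [Scheme.basicOpen_mul]; exact inf_le_right.trans hs'V₁
  -- transport `T`
  have hT'c : IsClosed (hU'.fromSpec ⁻¹' T) := hT.preimage hU'.fromSpec.continuous
  have hT'nd : IsNowhereDense (hU'.fromSpec ⁻¹' T) :=
    isNowhereDense_preimage_of_isOpenEmbedding hU'.fromSpec.isOpenEmbedding hT hTnd
  obtain ⟨hcl, hnd⟩ := NDP.of_finite ψ.hom hψfin _ hT'c hT'nd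
  set O : (Spec Γ(Y, Y.basicOpen (s * s'))).Opens :=
    ⟨(PrimeSpectrum.comap ψ.hom '' (hU'.fromSpec ⁻¹' T))ᶜ, hcl.isOpen_compl⟩ with hO
  have hOd : Dense (O : Set (Spec Γ(Y, Y.basicOpen (s * s')))) :=
    (isClosed_isNowhereDense_iff_compl.mp ⟨hcl, hnd⟩).2
  have hOne : (O : Set (Spec Γ(Y, Y.basicOpen (s * s')))).Nonempty :=
    hOd.nonempty_iff.mpr ⟨hV'.primeIdealOf ⟨η, hηV'⟩⟩
  refine ⟨hV'.fromSpec ''ᵁ O, ?_, ?_, ?_⟩
  · rintro _ ⟨Q, -, rfl⟩
    apply hV'V₁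
    have : hV'.fromSpec Q ∈ Set.range hV'.fromSpec := ⟨Q, rfl⟩
    rwa [hV'.range_fromSpec] at this
  · obtain ⟨Q, hQ⟩ := hOne
    exact ⟨hV'.fromSpec Q, Q, hQ, rfl⟩
  · rintro x hxT hxU ⟨Q, hQO, hQ'⟩
    have hQ : hV'.fromSpec Q = f x := hQ'
    have hfxV' : f x ∈ Y.basicOpen (s * s') := by
      have : hV'.fromSpec Q ∈ Set.range hV'.fromSpec := ⟨Q, rfl⟩
      rw [hV'.range_fromSpec, hQ] at this
      exact this
    have hxU' : x ∈ X.basicOpen (φ.hom (s * s')) := by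
      rw [hpre]; exact ⟨hxU, hfxV'⟩
    set P := hU'.primeIdealOf ⟨x, hxU'⟩ with hP
    have hPx : hU'.fromSpec P = x := hU'.fromSpec_primeIdealOf ⟨x, hxU'⟩
    have hPT : P ∈ hU'.fromSpec ⁻¹' T := by
      change hU'.fromSpec P ∈ T
      rw [hPx]; exact hxT
    have h1 := map_fromSpec f hU' hV' e' P
    rw [hPx, ← hQ] at h1
    have h2 : Q = Spec.map ψ P := hV'.fromSpec.isOpenEmbedding.injective h1
    apply hQO
    exact ⟨P, hPT, h2.symm⟩

/-- A quasi-finite (locally quasi-finite, locally of finite type, quasi-compact) morphism maps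
closed nowhere dense sets to nowhere dense sets. -/
theorem isNowhereDense_image (f : X ⟶ Y) [LocallyQuasiFinite f] [LocallyOfFiniteType f]
    [QuasiCompact f] (T : Set X) (hT : IsClosed T) (hTnd : IsNowhereDense T) :
    IsNowhereDense (f '' T) := by
  classical
  rw [IsNowhereDense]
  by_contra hne
  obtain ⟨y₀, hy₀⟩ := Set.nonempty_iff_ne_empty.mpr hne
  obtain ⟨_, ⟨V, hV, rfl⟩, hy₀V, hVsub⟩ := Y.isBasis_affineOpens.exists_subset_of_mem_open
    hy₀ isOpen_interior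
  replace hV : IsAffineOpen V := hV
  obtain ⟨V, rfl⟩ : ∃ V' : Y.Opens, V' = V := ⟨V, rfl⟩
  have hc : IsCompact (f ⁻¹ᵁ V : Set X) := f.isCompact_preimage hV.isCompact
  obtain ⟨𝒰, h𝒰fin, h𝒰⟩ := isCompact_iff_finite_and_eq_biUnion_affineOpens.mp hc
  have hle : ∀ W ∈ 𝒰, (W : X.Opens) ≤ f ⁻¹ᵁ V := fun W hW => by
    rw [h𝒰]; exact le_iSup₂ (f := fun (i : X.affineOpens) (_ : i ∈ 𝒰) => (i : X.Opens)) W hW
  have hfin : ∀ (W : X.Opens) (y : Y), (f ⁻¹' {y} ∩ (W : Set X)).Finite := fun W y =>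
    (f.finite_preimage_singleton y).subset Set.inter_subset_left
  have key : ∀ 𝒲 : Set X.affineOpens, 𝒲.Finite → (∀ W ∈ 𝒲, (W : X.Opens) ≤ f ⁻¹ᵁ V) →
      ∃ V' : Y.Opens, V' ≤ V ∧ (V' : Set Y).Nonempty ∧
        ∀ W ∈ 𝒲, ∀ x ∈ T, x ∈ (W : X.Opens) → f x ∉ V' := by
    intro 𝒲 h𝒲
    induction 𝒲, h𝒲 using Set.Finite.induction_on with
    | empty => exact fun _ => ⟨V, le_rfl, ⟨y₀, hy₀V⟩, fun W hW => absurd hW (Set.notMem_empty W)⟩
    | @insert W 𝒲' hW𝒲' h𝒲' ih =>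
      intro hle'
      obtain ⟨V', hV'V, hV'ne, hV'⟩ := ih (fun W' hW' => hle' W' (Set.mem_insert_of_mem _ hW'))
      obtain ⟨V₂, hV₂V', hV₂ne, hV₂⟩ := exists_open_disjoint_image_affine f T hT hTnd W.2 hV
        (hle' W (Set.mem_insert _ _)) (hfin W) V' hV'V hV'ne
      refine ⟨V₂, hV₂V'.trans hV'V, hV₂ne, ?_⟩
      intro W' hW' x hxT hxW' hfx
      rcases hW' with rfl | hW'
      · exact hV₂ x hxT hxW' hfx
      · exact hV' W' hW' x hxT hxW' (hV₂V' hfx)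
  obtain ⟨V', hV'V, ⟨z, hz⟩, hV'⟩ := key 𝒰 h𝒰fin hle
  have hdisj : Disjoint (V' : Set Y) (f '' T) := by
    rw [Set.disjoint_left]
    rintro _ hzV' ⟨x, hxT, rfl⟩
    have hx : x ∈ f ⁻¹ᵁ V := hV'V hzV'
    rw [h𝒰] at hx
    simp only [Opens.mem_iSup] at hx
    obtain ⟨W, hW, hxW⟩ := hx
    exact hV' W hW x hxT hxW hzV'
  have hdisj' : Disjoint (V' : Set Y) (closure (f '' T)) := hdisj.closure_right V'.isOpen
  exact (Set.disjoint_left.mp hdisj') hz (interior_subset (hVsub (hV'V hz)))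

end Groth.Agent.Lib.NDSch45
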