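import Mathlib.Topology.GDelta.Basic
import Mathlib.Topology.Inseparable
import Mathlib.Data.Set.Card

/-!
# Images of nowhere dense closed sets under open-closed maps with bounded finite fibres (helper45)

Topological core of: "finite locally free morphisms map nowhere dense closed sets to nowhere dense
sets".
-/

set_option autoImplicit false

namespace Groth.Agent.Lib.NDTop45

variable {Y X : Type*} [TopologicalSpace Y] [TopologicalSpace X]

/-- Splitting hypothesis: two distinct points in the fibre over a point `x` without proper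
generizations can be separated by a relatively clopen subset of the preimage of an open
neighbourhood of `x`. -/
def Splits (g : Y → X) : Prop :=
  ∀ x : X, (∀ x' : X, x' ⤳ x → x' = x) → ∀ y₁ y₂ : Y, g y₁ = x → g y₂ = x → y₁ ≠ y₂ →
    ∃ W : Set X, IsOpen W ∧ x ∈ W ∧ ∃ D : Set Y, IsOpen D ∧ IsOpen (g ⁻¹' W \ D) ∧
      D ⊆ g ⁻¹' W ∧ y₁ ∈ D ∧ y₂ ∉ D

/-- Every nonempty open subset contains a point without proper generizations. -/
def HasMinimalPoints (X : Type*) [TopologicalSpace X] : Prop :=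
  ∀ V : Set X, IsOpen V → V.Nonempty → ∃ x ∈ V, ∀ x' : X, x' ⤳ x → x' = x

theorem exists_open_disjoint_image_aux (g : Y → X) (hcont : Continuous g) (hopen : IsOpenMap g)
    (hclosed : IsClosedMap g) (hmin : HasMinimalPoints X) (hsplit : Splits g)
    (T : Set Y) (hT : IsClosed T) (hTd : Dense Tᶜ) (d : ℕ) :
    ∀ (W : Set X) (C : Set Y), IsOpen W → IsOpen C → C ⊆ g ⁻¹' W → IsOpen (g ⁻¹' W \ C) →
      (∀ x ∈ W, (C ∩ g ⁻¹' {x}).Finite ∧ (C ∩ g ⁻¹' {x}).ncard ≤ d) →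
      ∀ V : Set X, IsOpen V → V ⊆ W → V.Nonempty →
        ∃ V' ⊆ V, IsOpen V' ∧ V'.Nonempty ∧ Disjoint V' (g '' (T ∩ C)) := by
  induction d with
  | zero =>
    intro W C hW hC hCW hCc hfib V hV hVW hVne
    refine ⟨V, subset_rfl, hV, hVne, ?_⟩
    rw [Set.disjoint_left]
    rintro x hxV ⟨y, ⟨hyT, hyC⟩, rfl⟩
    obtain ⟨hfin, hcard⟩ := hfib (g y) (hVW hxV)
    have hempty : C ∩ g ⁻¹' {g y} = ∅ := (Set.ncard_eq_zero hfin).mp (Nat.le_zero.mp hcard)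
    have : y ∈ C ∩ g ⁻¹' {g y} := ⟨hyC, rfl⟩
    rw [hempty] at this
    exact this
  | succ d ih =>
    intro W C hW hC hCW hCc hfib V hV hVW hVne
    by_cases hCV : (C ∩ g ⁻¹' V) = ∅
    · refine ⟨V, subset_rfl, hV, hVne, ?_⟩
      rw [Set.disjoint_left]
      rintro x hxV ⟨y, ⟨hyT, hyC⟩, rfl⟩
      have : y ∈ C ∩ g ⁻¹' V := ⟨hyC, hxV⟩
      rw [hCV] at this
      exact this
    · have hO : IsOpen (C ∩ g ⁻¹' V) := hC.inter (hV.preimage hcont)
      have hOne : (C ∩ g ⁻¹' V).Nonempty := Set.nonempty_iff_ne_empty.mpr hCV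
      have hO' : IsOpen (C ∩ g ⁻¹' V ∩ Tᶜ) := hO.inter hT.isOpen_compl
      have hOne' : (C ∩ g ⁻¹' V ∩ Tᶜ).Nonempty := hTd.inter_open_nonempty _ hO hOne
      have hV₁ : IsOpen (g '' (C ∩ g ⁻¹' V ∩ Tᶜ)) := hopen _ hO'
      have hV₁V : g '' (C ∩ g ⁻¹' V ∩ Tᶜ) ⊆ V := by
        rintro _ ⟨y, ⟨⟨-, hy⟩, -⟩, rfl⟩
        exact hy
      obtain ⟨x, hxV₁, hxmin⟩ := hmin _ hV₁ (hOne'.image g)
      obtain ⟨y₁, ⟨⟨hy₁C, hy₁V⟩, hy₁T⟩, hy₁x⟩ := hxV₁
      by_cases h2 : ∃ y₂, y₂ ∈ T ∩ C ∧ g y₂ = x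
      · obtain ⟨y₂, ⟨hy₂T, hy₂C⟩, hy₂⟩ := h2
        have hne : y₁ ≠ y₂ := fun h => hy₁T (h ▸ hy₂T)
        obtain ⟨W', hW', hxW', D, hD, hDc, hDW', hy₁D, hy₂D⟩ := hsplit x hxmin y₁ y₂ hy₁x hy₂ hne
        have hA₁ : IsOpen (g '' (C ∩ D)) := hopen _ (hC.inter hD)
        have hA₂ : IsOpen (g '' (C ∩ (g ⁻¹' W' \ D))) := hopen _ (hC.inter hDc)
        set W'' : Set X := W' ∩ g '' (C ∩ g ⁻¹' V ∩ Tᶜ) ∩ g '' (C ∩ D) ∩
          g '' (C ∩ (g ⁻¹' W' \ D)) with hW''def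
        have hW'' : IsOpen W'' := ((hW'.inter hV₁).inter hA₁).inter hA₂
        have hxW'' : x ∈ W'' := by
          refine ⟨⟨⟨hxW', ⟨y₁, ⟨⟨hy₁C, hy₁V⟩, hy₁T⟩, hy₁x⟩⟩, ⟨y₁, ⟨hy₁C, hy₁D⟩, hy₁x⟩⟩,
            ⟨y₂, ⟨hy₂C, ⟨?_, hy₂D⟩⟩, hy₂⟩⟩
          change g y₂ ∈ W'
          rw [hy₂]; exact hxW'
        have hW''V : W'' ⊆ V := fun z hz => hV₁V hz.1.1.2
        have hW''W : W'' ⊆ W := hW''V.trans hVW
        have hW''W' : W'' ⊆ W' := fun z hz => hz.1.1.1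
        set C₁ : Set Y := C ∩ D ∩ g ⁻¹' W'' with hC₁def
        set C₂ : Set Y := C ∩ (g ⁻¹' W' \ D) ∩ g ⁻¹' W'' with hC₂def
        have hC₁ : IsOpen C₁ := (hC.inter hD).inter (hW''.preimage hcont)
        have hC₂ : IsOpen C₂ := (hC.inter hDc).inter (hW''.preimage hcont)
        have hC₁c : IsOpen (g ⁻¹' W'' \ C₁) := by
          have : g ⁻¹' W'' \ C₁ = g ⁻¹' W'' ∩ ((g ⁻¹' W \ C) ∪ (g ⁻¹' W' \ D)) := by
            ext y
            simp only [hC₁def, Set.mem_sdiff, Set.mem_inter_iff, Set.mem_preimage, Set.mem_union]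
            constructor
            · rintro ⟨hy, hn⟩
              refine ⟨hy, ?_⟩
              by_cases hyC : y ∈ C
              · right
                exact ⟨hW''W' hy, fun hyD => hn ⟨⟨hyC, hyD⟩, hy⟩⟩
              · left
                exact ⟨hW''W hy, hyC⟩
            · rintro ⟨hy, h | h⟩
              · exact ⟨hy, fun hn => h.2 hn.1.1⟩
              · exact ⟨hy, fun hn => h.2 hn.1.2⟩
          rw [this]
          exact (hW''.preimage hcont).inter (hCc.union hDc)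
        have hC₂c : IsOpen (g ⁻¹' W'' \ C₂) := by
          have : g ⁻¹' W'' \ C₂ = g ⁻¹' W'' ∩ ((g ⁻¹' W \ C) ∪ D) := by
            ext y
            simp only [hC₂def, Set.mem_sdiff, Set.mem_inter_iff, Set.mem_preimage, Set.mem_union]
            constructor
            · rintro ⟨hy, hn⟩
              refine ⟨hy, ?_⟩
              by_cases hyC : y ∈ C
              · right
                by_contra hyD
                exact hn ⟨⟨hyC, ⟨hW''W' hy, hyD⟩⟩, hy⟩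
              · left
                exact ⟨hW''W hy, hyC⟩
            · rintro ⟨hy, h | h⟩
              · exact ⟨hy, fun hn => h.2 hn.1.1⟩
              · exact ⟨hy, fun hn => hn.1.2.2 h⟩
          rw [this]
          exact (hW''.preimage hcont).inter (hCc.union hD)
        have hfib₁ : ∀ z ∈ W'', (C₁ ∩ g ⁻¹' {z}).Finite ∧ (C₁ ∩ g ⁻¹' {z}).ncard ≤ d := by
          intro z hz
          obtain ⟨hfin, hcard⟩ := hfib z (hW''W hz)
          obtain ⟨y', ⟨hy'C, hy'D⟩, hy'z⟩ := hz.2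
          have hss : C₁ ∩ g ⁻¹' {z} ⊂ C ∩ g ⁻¹' {z} := by
            refine ⟨fun y hy => ⟨hy.1.1.1, hy.2⟩, fun hsub => ?_⟩
            have : y' ∈ C₁ ∩ g ⁻¹' {z} := hsub ⟨hy'C, hy'z⟩
            exact hy'D.2 this.1.1.2
          exact ⟨hfin.subset hss.1, Nat.le_of_lt_succ ((Set.ncard_lt_ncard hss hfin).trans_le hcard)⟩
        have hfib₂ : ∀ z ∈ W'', (C₂ ∩ g ⁻¹' {z}).Finite ∧ (C₂ ∩ g ⁻¹' {z}).ncard ≤ d := by
          intro z hz
          obtain ⟨hfin, hcard⟩ := hfib z (hW''W hz)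
          obtain ⟨y', ⟨hy'C, hy'D⟩, hy'z⟩ := hz.1.2
          have hss : C₂ ∩ g ⁻¹' {z} ⊂ C ∩ g ⁻¹' {z} := by
            refine ⟨fun y hy => ⟨hy.1.1.1, hy.2⟩, fun hsub => ?_⟩
            have : y' ∈ C₂ ∩ g ⁻¹' {z} := hsub ⟨hy'C, hy'z⟩
            exact this.1.1.2.2 hy'D
          exact ⟨hfin.subset hss.1, Nat.le_of_lt_succ ((Set.ncard_lt_ncard hss hfin).trans_le hcard)⟩
        obtain ⟨V'₁, hV'₁sub, hV'₁, hV'₁ne, hdisj₁⟩ := ih W'' C₁ hW'' hC₁
          (fun y hy => hy.2) hC₁c hfib₁ W'' hW'' subset_rfl ⟨x, hxW''⟩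
        obtain ⟨V'₂, hV'₂sub, hV'₂, hV'₂ne, hdisj₂⟩ := ih W'' C₂ hW'' hC₂
          (fun y hy => hy.2) hC₂c hfib₂ V'₁ hV'₁ hV'₁sub hV'₁ne
        refine ⟨V'₂, (hV'₂sub.trans hV'₁sub).trans hW''V, hV'₂, hV'₂ne, ?_⟩
        rw [Set.disjoint_left]
        rintro z hzV' ⟨y, ⟨hyT, hyC⟩, rfl⟩
        have hzW'' : g y ∈ W'' := hV'₁sub (hV'₂sub hzV')
        by_cases hyD : y ∈ D
        · exact (Set.disjoint_left.mp hdisj₁) (hV'₂sub hzV') ⟨y, ⟨hyT, ⟨⟨hyC, hyD⟩, hzW''⟩⟩, rfl⟩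
        · exact (Set.disjoint_left.mp hdisj₂) hzV'
            ⟨y, ⟨hyT, ⟨⟨hyC, ⟨hW''W' hzW'', hyD⟩⟩, hzW''⟩⟩, rfl⟩
      · set K : Set Y := T ∩ (g ⁻¹' W \ C)ᶜ with hKdef
        have hK : IsClosed K := hT.inter hCc.isClosed_compl
        have hgK : IsClosed (g '' K) := hclosed _ hK
        refine ⟨g '' (C ∩ g ⁻¹' V ∩ Tᶜ) ∩ (g '' K)ᶜ, fun z hz => hV₁V hz.1,
          hV₁.inter hgK.isOpen_compl, ⟨x, ⟨y₁, ⟨⟨hy₁C, hy₁V⟩, hy₁T⟩, hy₁x⟩, ?_⟩, ?_⟩
        · rintro ⟨y, ⟨hyT, hyK⟩, hyx⟩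
          have hyW : y ∈ g ⁻¹' W := by
            change g y ∈ W
            rw [hyx, ← hy₁x]
            exact hVW hy₁V
          have hyC : y ∈ C := by
            by_contra hyC
            exact hyK ⟨hyW, hyC⟩
          exact h2 ⟨y, ⟨hyT, hyC⟩, hyx⟩
        · rw [Set.disjoint_left]
          rintro z ⟨-, hzK⟩ ⟨y, ⟨hyT, hyC⟩, rfl⟩
          exact hzK ⟨y, ⟨hyT, fun h => h.2 hyC⟩, rfl⟩

/-- An open and closed continuous map with uniformly bounded finite fibres, satisfying the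
splitting hypothesis over points without proper generizations, maps closed nowhere dense sets to
nowhere dense sets. -/
theorem isNowhereDense_image (g : Y → X) (hcont : Continuous g) (hopen : IsOpenMap g)
    (hclosed : IsClosedMap g) (hmin : HasMinimalPoints X) (hsplit : Splits g) (d : ℕ)
    (hfib : ∀ x : X, (g ⁻¹' {x}).Finite ∧ (g ⁻¹' {x}).ncard ≤ d)
    (T : Set Y) (hT : IsClosed T) (hTnd : IsNowhereDense T) : IsNowhereDense (g '' T) := by
  have hTd : Dense Tᶜ := (isClosed_isNowhereDense_iff_compl.mp ⟨hT, hTnd⟩).2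
  rw [IsNowhereDense, (hclosed T hT).closure_eq]
  by_contra hne
  have hne' : (interior (g '' T)).Nonempty := Set.nonempty_iff_ne_empty.mpr hne
  obtain ⟨V', hV'sub, hV', hV'ne, hdisj⟩ := exists_open_disjoint_image_aux g hcont hopen hclosed
    hmin hsplit T hT hTd d Set.univ Set.univ isOpen_univ isOpen_univ (fun _ _ => trivial)
    (by simp) (fun x _ => by simpa using hfib x) (interior (g '' T)) isOpen_interior
    (Set.subset_univ _) hne'
  obtain ⟨z, hz⟩ := hV'ne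
  have hzT : z ∈ g '' T := interior_subset (hV'sub hz)
  rw [Set.inter_univ] at hdisj
  exact (Set.disjoint_left.mp hdisj) hz hzT

end Groth.Agent.Lib.NDTop45
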