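import Groth.Prelude.Def_SheafNL
import Groth.Agent.Lib.QuasiIsoElem

/-!
# Independence of the naive cotangent complex of the presentation (helper32)

For two extensions `P`, `P'` of the same `R`-algebra `S` with morphisms of extensions in both directions
(e.g. two polynomial presentations, via `Algebra.Generators.defaultHom`), the naive cotangent complexes
`NLCx.cx P` and `NLCx.cx P'` are isomorphic in `D(S)`.

* `tt P` : a definitional two-term model (`(tt P).X (-1) = P.Cotangent`, `(tt P).X 0 = P.CotangentSpace`
  by `rfl`), via `QuasiIsoElem.twoTerm`.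
* `ttMap f : tt P ⟶ tt P'` and `quasiIso_ttMap f g`.
* `toTT P : NLCx.cx P ⟶ tt P`, an isomorphism of complexes.
* `nonempty_toD_tt_iso`, `nonempty_toD_iso`.
-/

set_option autoImplicit false
universe u

open CategoryTheory Limits Algebra

attribute [local instance] HasDerivedCategory.standard

namespace Groth.Agent.Lib.NLIndep32

open Groth.Agent.Lib.QuasiIsoElem

variable {R S : Type u} [CommRing R] [CommRing S] [Algebra R S]

/-- definitional two-term model of the naive cotangent complex of an extension -/
noncomputable abbrev tt (P : Extension.{u} R S) : DRing.Cx S :=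
  twoTerm (ModuleCat.ofHom P.cotangentComplex)

lemma tt_d (P : Extension.{u} R S) : (tt P).d (-1) 0 = ModuleCat.ofHom P.cotangentComplex := rfl

/-- the chain map induced by a morphism of extensions of the same algebra -/
noncomputable def ttMap {P P' : Extension.{u} R S} (f : P.Hom P') : tt P ⟶ tt P' :=
  twoTermHom _ (tt P') (ModuleCat.ofHom (Extension.Cotangent.map f))
    (ModuleCat.ofHom (Extension.CotangentSpace.map f))
    (by
      rw [tt_d]
      ext x
      exact (Extension.CotangentSpace.map_cotangentComplex f x).symm)
    (by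
      rw [twoTerm_d_eq_zero _ 0 1 (by simp), comp_zero])

lemma ttMap_f_neg_one {P P' : Extension.{u} R S} (f : P.Hom P') :
    (ttMap f).f (-1) = ModuleCat.ofHom (Extension.Cotangent.map f) := rfl

lemma ttMap_f_zero {P P' : Extension.{u} R S} (f : P.Hom P') :
    (ttMap f).f 0 = ModuleCat.ofHom (Extension.CotangentSpace.map f) := rfl

section homotopy

variable {P P' : Extension.{u} R S} (f : P.Hom P') (g : P'.Hom P)

lemma cot_comp_apply (x : P.Cotangent) :
    Extension.Cotangent.map g (Extension.Cotangent.map f x) =
      x + ((g.comp f).sub (.id P)) (P.cotangentComplex x) := by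
  have h := LinearMap.congr_fun (Extension.Cotangent.map_sub_map (g.comp f) (.id P)) x
  rw [Extension.Cotangent.map_comp, Extension.Cotangent.map_id] at h
  simp only [LinearMap.sub_apply, LinearMap.coe_comp, LinearMap.coe_restrictScalars,
    Function.comp_apply, LinearMap.id_coe, id_eq] at h
  rw [← h]
  abel

lemma cotSp_comp_apply (y : P.CotangentSpace) :
    Extension.CotangentSpace.map g (Extension.CotangentSpace.map f y) =
      y + P.cotangentComplex (((g.comp f).sub (.id P)) y) := by
  have h := LinearMap.congr_fun (Extension.CotangentSpace.map_sub_map (g.comp f) (.id P)) y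
  rw [Extension.CotangentSpace.map_comp, Extension.CotangentSpace.map_id] at h
  simp only [LinearMap.sub_apply, LinearMap.coe_comp, LinearMap.coe_restrictScalars,
    Function.comp_apply, LinearMap.id_coe, id_eq] at h
  rw [← h]
  abel

end homotopy

section quasiIso

variable {P P' : Extension.{u} R S} (f : P.Hom P') (g : P'.Hom P)

lemma subsingleton_tt_X (P : Extension.{u} R S) (i : ℤ) (h1 : i ≠ -1) (h0 : i ≠ 0) :
    Subsingleton ((tt P).X i) :=
  ModuleCat.subsingleton_of_isZero (twoTerm_isZero _ i h1 h0)

include g in
theorem quasiIsoAt_ttMap (i : ℤ) : QuasiIsoAt (ttMap f) i := by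
  by_cases h1 : i = -1
  · subst h1
    refine quasiIsoAt_of_elementwise (ttMap f) (-2) (-1) 0 (by simp) (by simp) ?_ ?_
    · intro x₂ hx₂
      change P'.cotangentComplex x₂ = 0 at hx₂
      refine ⟨Extension.Cotangent.map g x₂, ?_, 0, ?_⟩
      · change P.cotangentComplex (Extension.Cotangent.map g x₂) = 0
        rw [← Extension.CotangentSpace.map_cotangentComplex, hx₂, map_zero]
      · rw [map_zero, add_zero]
        change Extension.Cotangent.map f (Extension.Cotangent.map g x₂) = x₂
        rw [cot_comp_apply g f, hx₂, map_zero, add_zero]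
    · intro x₁ hx₁ hy
      change P.cotangentComplex x₁ = 0 at hx₁
      obtain ⟨y₂, hy₂⟩ := hy
      have hd : (tt P').d (-2) (-1) = 0 := twoTerm_d_eq_zero _ _ _ (by simp)
      rw [hd] at hy₂
      have h0 : Extension.Cotangent.map f x₁ = 0 := hy₂.symm
      refine ⟨0, ?_⟩
      rw [map_zero]
      have := cot_comp_apply f g x₁
      rw [h0, map_zero, hx₁, map_zero, add_zero] at this
      exact this
  · by_cases h0 : i = 0
    · subst h0
      refine quasiIsoAt_of_elementwise (ttMap f) (-1) 0 1 (by simp) (by simp) ?_ ?_
      · intro x₂ _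
        refine ⟨Extension.CotangentSpace.map g x₂, ?_, ((f.comp g).sub (.id P')) x₂, ?_⟩
        · have hd : (tt P).d 0 1 = 0 := twoTerm_d_eq_zero _ _ _ (by simp)
          rw [hd]
          rfl
        · exact cotSp_comp_apply g f x₂
      · intro x₁ _ hy
        obtain ⟨y₂, hy₂⟩ := hy
        change P'.cotangentComplex y₂ = Extension.CotangentSpace.map f x₁ at hy₂
        refine ⟨Extension.Cotangent.map g y₂ - ((g.comp f).sub (.id P)) x₁, ?_⟩
        change P.cotangentComplex (Extension.Cotangent.map g y₂ - ((g.comp f).sub (.id P)) x₁) = x₁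
        have := cotSp_comp_apply f g x₁
        rw [← hy₂, Extension.CotangentSpace.map_cotangentComplex] at this
        rw [map_sub, this]
        abel
    · have hs := subsingleton_tt_X P i h1 h0
      have hs' := subsingleton_tt_X P' i h1 h0
      refine quasiIsoAt_of_elementwise (ttMap f) ((ComplexShape.up ℤ).prev i) i
        ((ComplexShape.up ℤ).next i) rfl rfl ?_ ?_
      · intro x₂ _
        exact ⟨0, map_zero _, 0, Subsingleton.elim _ _⟩
      · intro x₁ _ _
        exact ⟨0, Subsingleton.elim _ _⟩

include g in
theorem quasiIso_ttMap : QuasiIso (ttMap f) := ⟨fun i => quasiIsoAt_ttMap f g i⟩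

end quasiIso

section compare

/-- the comparison from the `double` model of the prelude to the definitional two-term model -/
noncomputable def toTT (P : Extension.{u} R S) : NLCx.cx P ⟶ tt P :=
  HomologicalComplex.mkHomFromDouble _ (by decide) (𝟙 _) (𝟙 _)
    (by exact (Category.id_comp _).trans (Category.comp_id _).symm)
    (fun k _ => by
      exact (Category.id_comp _).trans (twoTerm_d_eq_zero _ 0 k (by simp)))

instance (P : Extension.{u} R S) (i : ℤ) : IsIso ((toTT P).f i) := by
  by_cases h1 : i = -1
  · subst h1
    have : (toTT P).f (-1) = (HomologicalComplex.doubleXIso₀ _ _).hom := by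
      unfold toTT
      rw [HomologicalComplex.mkHomFromDouble_f₀]
      exact Category.comp_id _
    rw [this]
    infer_instance
  · by_cases h0 : i = 0
    · subst h0
      have : (toTT P).f 0 = (HomologicalComplex.doubleXIso₁ _ _ (by decide)).hom := by
        unfold toTT
        rw [HomologicalComplex.mkHomFromDouble_f₁]
        exact Category.comp_id _
      rw [this]
      infer_instance
    · have hX : IsZero ((NLCx.cx P).X i) := HomologicalComplex.isZero_double_X _ _ i h1 h0
      have hY : IsZero ((tt P).X i) := twoTerm_isZero _ i h1 h0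
      exact ⟨⟨0, hX.eq_of_src _ _, hY.eq_of_src _ _⟩⟩

instance (P : Extension.{u} R S) : IsIso (toTT P) :=
  HomologicalComplex.Hom.isIso_of_components _

/-- `NLCx.cx P` and its two-term model are isomorphic in `D(S)`. -/
theorem nonempty_toD_tt_iso (P : Extension.{u} R S) :
    Nonempty (DRing.toD (NLCx.cx P) ≅ DRing.toD (tt P)) :=
  ⟨asIso (DerivedCategory.Q.map (toTT P))⟩

variable {P P' : Extension.{u} R S} (f : P.Hom P') (g : P'.Hom P)

include f g in
/-- Two extensions with morphisms in both directions have isomorphic two-term models in `D(S)`. -/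
theorem nonempty_toD_tt_iso_tt : Nonempty (DRing.toD (tt P) ≅ DRing.toD (tt P')) := by
  have : QuasiIso (ttMap f) := quasiIso_ttMap f g
  exact ⟨asIso (DerivedCategory.Q.map (ttMap f))⟩

include f g in
/-- Two extensions with morphisms in both directions have isomorphic naive cotangent complexes in
`D(S)`. -/
theorem nonempty_toD_iso : Nonempty (DRing.toD (NLCx.cx P) ≅ DRing.toD (NLCx.cx P')) := by
  obtain ⟨e₁⟩ := nonempty_toD_tt_iso P
  obtain ⟨e₂⟩ := nonempty_toD_tt_iso_tt f g
  obtain ⟨e₃⟩ := nonempty_toD_tt_iso P'
  exact ⟨e₁ ≪≫ e₂ ≪≫ e₃.symm⟩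

/-- The two-term model of any extension comparable with the standard presentation computes
`LCI.NL`. -/
theorem nonempty_toD_tt_iso_NL_of_hom (P : Extension.{u} R S)
    (f : P.Hom (Algebra.Generators.self R S).toExtension)
    (g : (Algebra.Generators.self R S).toExtension.Hom P) :
    Nonempty (DRing.toD (tt P) ≅ LCI.NL R S) := by
  obtain ⟨e₂⟩ := nonempty_toD_tt_iso_tt f g
  obtain ⟨e₃⟩ := nonempty_toD_tt_iso (Algebra.Generators.self R S).toExtension
  exact ⟨e₂ ≪≫ e₃.symm⟩

/-- The two-term model of any polynomial presentation computes `LCI.NL`. -/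
theorem nonempty_toD_tt_iso_NL {ι : Type u} (G : Algebra.Generators R S ι) :
    Nonempty (DRing.toD (tt G.toExtension) ≅ LCI.NL R S) :=
  nonempty_toD_tt_iso_NL_of_hom _
    (G.defaultHom (Algebra.Generators.self R S)).toExtensionHom
    ((Algebra.Generators.self R S).defaultHom G).toExtensionHom

/-- The two-term model of a polynomial presentation in finitely many variables computes `LCI.NL`. -/
theorem nonempty_toD_tt_iso_NL_fin {n : ℕ} (G : Algebra.Generators R S (Fin n)) :
    Nonempty (DRing.toD (tt G.toExtension) ≅ LCI.NL R S) :=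
  nonempty_toD_tt_iso_NL_of_hom _
    (G.defaultHom (Algebra.Generators.self R S)).toExtensionHom
    ((Algebra.Generators.self R S).defaultHom G).toExtensionHom

end compare

end Groth.Agent.Lib.NLIndep32
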