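import Groth.Prelude.Def_SheafNL
import Groth.Agent.Lib.NLIndep32
import Groth.Agent.Lib.CotangentFibre32

/-!
# Base change of the naive cotangent complex along Tor-independent squares (helper32)

For a cocartesian square of rings `R → S`, `R → R'`, `S' = S ⊗_R R'`, a presentation `G` of `S` over `R` and the
presentation `G'` of `S'` over `R'` on the same variables:

* `quotSqMap_injective` : `R' ⊗_R (P / I²) → P' / I'²` is injective (it is bijective).
* `cot_injective` : `S' ⊗_S I/I² → I'/I'²` is injective as soon as `R' ⊗_R (I/I² → P/I²)` is injective;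
  `cot_injective_of_flat` (`S` flat over `R`), `cot_injective_of_flat'` (`R'` flat over `R`).
-/

set_option autoImplicit false
universe u w

open TensorProduct Algebra

namespace Groth.Agent.Lib.NLBaseChange32

section quotSq

variable {R R' : Type*} [CommRing R] [CommRing R'] [Algebra R R'] {ι : Type*}
  (I : Ideal (MvPolynomial ι R)) (I' : Ideal (MvPolynomial ι R'))

/-- the map of polynomial rings, as an `R`-algebra map -/
noncomputable abbrev polyMap : MvPolynomial ι R →ₐ[R] MvPolynomial ι R' :=
  MvPolynomial.mapAlgHom (Algebra.ofId R R')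

lemma polyMap_apply (p : MvPolynomial ι R) :
    polyMap (R' := R') p = MvPolynomial.map (algebraMap R R') p := rfl

variable {I I'}

/-- the induced map `P/I² → P'/I'²` -/
noncomputable def quotSqMap (hge : I.map (polyMap (R' := R') (ι := ι)) ≤ I') :
    (MvPolynomial ι R ⧸ I ^ 2) →ₐ[R] (MvPolynomial ι R' ⧸ I' ^ 2) :=
  Ideal.Quotient.liftₐ (I ^ 2) ((Ideal.Quotient.mkₐ R (I' ^ 2)).comp polyMap) (by
    intro a ha
    rw [AlgHom.comp_apply]
    change Ideal.Quotient.mk (I' ^ 2) (polyMap a) = 0
    rw [Ideal.Quotient.eq_zero_iff_mem]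
    have h1 : polyMap (R' := R') a ∈ (I ^ 2).map (polyMap (R' := R') (ι := ι)) :=
      Ideal.mem_map_of_mem _ ha
    rw [Ideal.map_pow] at h1
    exact Ideal.pow_right_mono hge 2 h1)

lemma quotSqMap_mk (hge : I.map (polyMap (R' := R') (ι := ι)) ≤ I') (p : MvPolynomial ι R) :
    quotSqMap hge (Ideal.Quotient.mk (I ^ 2) p) = Ideal.Quotient.mk (I' ^ 2) (polyMap p) := rfl

/-- `R' ⊗_R (P/I²) → P'/I'²` -/
noncomputable def quotSqLift (hge : I.map (polyMap (R' := R') (ι := ι)) ≤ I') :
    R' ⊗[R] (MvPolynomial ι R ⧸ I ^ 2) →ₗ[R'] (MvPolynomial ι R' ⧸ I' ^ 2) :=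
  LinearMap.liftBaseChange R' (quotSqMap hge).toLinearMap

lemma quotSqLift_tmul (hge : I.map (polyMap (R' := R') (ι := ι)) ≤ I') (r : R')
    (p : MvPolynomial ι R) :
    quotSqLift hge (r ⊗ₜ Ideal.Quotient.mk (I ^ 2) p) =
      Ideal.Quotient.mk (I' ^ 2) (MvPolynomial.C r * polyMap p) := by
  rw [quotSqLift, LinearMap.liftBaseChange_tmul, AlgHom.toLinearMap_apply, quotSqMap_mk,
    map_mul, ← MvPolynomial.algebraMap_eq, ← Ideal.Quotient.algebraMap_eq,
    ← IsScalarTower.algebraMap_apply, Algebra.smul_def]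

/-- the retraction `P' → R' ⊗_R (P/I²)` -/
noncomputable def quotSqRetr₀ (I : Ideal (MvPolynomial ι R)) :
    MvPolynomial ι R' →ₐ[R'] R' ⊗[R] (MvPolynomial ι R ⧸ I ^ 2) :=
  MvPolynomial.aeval (fun i => (1 : R') ⊗ₜ[R] (Ideal.Quotient.mk (I ^ 2) (MvPolynomial.X i)))

lemma quotSqRetr₀_polyMap (p : MvPolynomial ι R) :
    quotSqRetr₀ I (polyMap (R' := R') p) = (1 : R') ⊗ₜ[R] (Ideal.Quotient.mk (I ^ 2) p) := by
  induction p using MvPolynomial.induction_on with
  | C a =>
    rw [polyMap_apply, MvPolynomial.map_C, quotSqRetr₀, MvPolynomial.aeval_C,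
      Algebra.TensorProduct.algebraMap_apply, Algebra.algebraMap_self, RingHom.id_apply,
      ← MvPolynomial.algebraMap_eq, ← Ideal.Quotient.algebraMap_eq,
      ← IsScalarTower.algebraMap_apply, Algebra.algebraMap_eq_smul_one, Algebra.algebraMap_eq_smul_one,
      TensorProduct.smul_tmul]
  | add p q hp hq => rw [map_add, map_add, hp, hq, map_add, TensorProduct.tmul_add]
  | mul_X p i hp =>
    rw [map_mul, map_mul, hp, polyMap_apply (MvPolynomial.X i), MvPolynomial.map_X, map_mul,
      quotSqRetr₀, MvPolynomial.aeval_X, Algebra.TensorProduct.tmul_mul_tmul, one_mul]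

lemma quotSqRetr₀_eq_zero (hle : I' ≤ I.map (polyMap (R' := R') (ι := ι)))
    (y : MvPolynomial ι R') (hy : y ∈ I' ^ 2) : quotSqRetr₀ I y = 0 := by
  have h1 : y ∈ (I ^ 2).map (polyMap (R' := R') (ι := ι)) := by
    rw [Ideal.map_pow]
    exact Ideal.pow_right_mono hle 2 hy
  have h2 : (I ^ 2).map (polyMap (R' := R') (ι := ι)) ≤ RingHom.ker (quotSqRetr₀ (R' := R') I) := by
    rw [Ideal.map_le_iff_le_comap]
    intro p hp
    rw [Ideal.mem_comap, RingHom.mem_ker]
    change quotSqRetr₀ I (polyMap p) = 0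
    rw [quotSqRetr₀_polyMap, Ideal.Quotient.eq_zero_iff_mem.mpr hp, TensorProduct.tmul_zero]
  exact h2 h1

/-- the retraction `P'/I'² → R' ⊗_R (P/I²)` -/
noncomputable def quotSqRetr (hle : I' ≤ I.map (polyMap (R' := R') (ι := ι))) :
    (MvPolynomial ι R' ⧸ I' ^ 2) →ₐ[R'] R' ⊗[R] (MvPolynomial ι R ⧸ I ^ 2) :=
  Ideal.Quotient.liftₐ (I' ^ 2) (quotSqRetr₀ I) (quotSqRetr₀_eq_zero hle)

lemma quotSqRetr_mk (hle : I' ≤ I.map (polyMap (R' := R') (ι := ι))) (y : MvPolynomial ι R') :
    quotSqRetr hle (Ideal.Quotient.mk (I' ^ 2) y) = quotSqRetr₀ I y := rfl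

theorem quotSqRetr_quotSqLift (hle : I' ≤ I.map (polyMap (R' := R') (ι := ι)))
    (hge : I.map (polyMap (R' := R') (ι := ι)) ≤ I') (z : R' ⊗[R] (MvPolynomial ι R ⧸ I ^ 2)) :
    quotSqRetr hle (quotSqLift hge z) = z := by
  induction z using TensorProduct.induction_on with
  | zero => simp
  | add a b ha hb => rw [map_add, map_add, ha, hb]
  | tmul r q =>
    obtain ⟨p, rfl⟩ := Ideal.Quotient.mk_surjective q
    rw [quotSqLift_tmul, quotSqRetr_mk, map_mul, quotSqRetr₀_polyMap, quotSqRetr₀,
      MvPolynomial.aeval_C, Algebra.TensorProduct.algebraMap_apply, Algebra.algebraMap_self,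
      RingHom.id_apply, Algebra.TensorProduct.tmul_mul_tmul, one_mul, mul_one]

theorem quotSqLift_injective (hle : I' ≤ I.map (polyMap (R' := R') (ι := ι)))
    (hge : I.map (polyMap (R' := R') (ι := ι)) ≤ I') : Function.Injective (quotSqLift hge) :=
  Function.LeftInverse.injective (quotSqRetr_quotSqLift hle hge)

end quotSq

section cot

open Algebra.Extension

variable {R S : Type*} [CommRing R] [CommRing S] [Algebra R S]

/-- the inclusion `I/I² → P/I²`, `R`-linearly -/
noncomputable def cotToQuotSq (P : Extension R S) : P.Cotangent →ₗ[R] P.Ring ⧸ P.ker ^ 2 :=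
  (P.ker.cotangentToQuotientSquare.restrictScalars R) ∘ₗ
    (P.cotangentEquivCotangentKer.toLinearMap.restrictScalars R)

lemma cotToQuotSq_mk (P : Extension R S) (x : P.ker) :
    cotToQuotSq P (Cotangent.mk x) = Ideal.Quotient.mk (P.ker ^ 2) x.1 := by
  simp only [cotToQuotSq, LinearMap.coe_comp, LinearMap.coe_restrictScalars, Function.comp_apply,
    LinearEquiv.coe_coe, cotangentEquivCotangentKer_apply, Cotangent.val_mk,
    Ideal.toCotangent_to_quotient_square]
  rfl

lemma cotToQuotSq_injective (P : Extension R S) : Function.Injective (cotToQuotSq P) := by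
  unfold cotToQuotSq
  rw [LinearMap.coe_comp]
  exact (P.ker.cotangentToQuotientSquare_injective).comp P.cotangentEquivCotangentKer.injective

lemma cotToQuotSq_exact (P : Extension R S) :
    Function.Exact (cotToQuotSq P)
      ((Ideal.Quotient.factorₐ R (Ideal.pow_le_self two_ne_zero : P.ker ^ 2 ≤ P.ker)).toLinearMap) := by
  intro x
  rw [Groth.Agent.Lib.CotangentFibre32.exact_cotangentToQuotientSquare R P.ker x]
  constructor
  · rintro ⟨z, rfl⟩
    exact ⟨P.cotangentEquivCotangentKer.symm z, by
      simp only [cotToQuotSq, LinearMap.coe_comp, LinearMap.coe_restrictScalars,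
        Function.comp_apply, LinearEquiv.coe_coe, LinearEquiv.apply_symm_apply]⟩
  · rintro ⟨z, rfl⟩
    exact ⟨P.cotangentEquivCotangentKer z, rfl⟩

/-- `T ⊗_R (I/I² → P/I²)` is injective when `S` is `R`-flat. -/
theorem lTensor_cotToQuotSq_injective_of_flat (P : Extension R S) [Module.Flat R S]
    (T : Type*) [AddCommGroup T] [Module R T] :
    Function.Injective (LinearMap.lTensor T (cotToQuotSq P)) := by
  have := Groth.Agent.Lib.CotangentFibre32.flat_quotient_ker P
  have hle : P.ker ^ 2 ≤ P.ker := Ideal.pow_le_self two_ne_zero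
  exact LinearMap.lTensor_injective_of_exact_of_flat
    ((Ideal.Quotient.factorₐ R hle).toLinearMap)
    (Ideal.Quotient.factor_surjective hle) (cotToQuotSq P) (cotToQuotSq_injective P)
    (cotToQuotSq_exact P) T

/-- `T ⊗_R (I/I² → P/I²)` is injective when `T` is `R`-flat. -/
theorem lTensor_cotToQuotSq_injective_of_flat' (P : Extension R S)
    (T : Type*) [AddCommGroup T] [Module R T] [Module.Flat R T] :
    Function.Injective (LinearMap.lTensor T (cotToQuotSq P)) :=
  Module.Flat.lTensor_preserves_injective_linearMap _ (cotToQuotSq_injective P)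

end cot

section sameVars

open Algebra.Extension

variable {R S R' S' : Type*} [CommRing R] [CommRing S] [CommRing R'] [CommRing S']
  [Algebra R S] [Algebra R' S'] [Algebra R R'] [Algebra S S'] [Algebra R S']
  [IsScalarTower R R' S'] [IsScalarTower R S S']
  {ι : Type*} (G : Generators R S ι) (G' : Generators R' S' ι) (f : G.Hom G')
  (hf : ∀ i, f.val i = MvPolynomial.X i)

include hf in
theorem toAlgHom_eq_polyMap (x : MvPolynomial ι R) : f.toAlgHom x = polyMap (R' := R') x := by
  induction x using MvPolynomial.induction_on with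
  | C a => rw [Generators.Hom.toAlgHom_C, polyMap_apply, MvPolynomial.map_C]
  | add p q hp hq => rw [map_add, map_add, hp, hq]
  | mul_X p i hp =>
    rw [map_mul, map_mul, hp, Generators.Hom.toAlgHom_X, hf, polyMap_apply (MvPolynomial.X i),
      MvPolynomial.map_X]

include hf in
theorem val_eq (i : ι) : G'.val i = algebraMap S S' (G.val i) := by
  have := f.aeval_val i
  rw [hf, MvPolynomial.aeval_X] at this
  exact this

include hf in
theorem map_ker_le : G.ker.map (polyMap (R' := R') (ι := ι)) ≤ G'.ker := by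
  rw [Ideal.map_le_iff_le_comap]
  intro p hp
  rw [Ideal.mem_comap, ← toAlgHom_eq_polyMap G G' f hf]
  have h0 : algebraMap G.toExtension.Ring S p = 0 := hp
  change algebraMap G'.toExtension.Ring S' (f.toExtensionHom.toRingHom p) = 0
  rw [f.toExtensionHom.algebraMap_toRingHom, h0, map_zero]

/-- lift an algebra hom along a surjective algebra hom -/
noncomputable def liftSurj {A B C : Type*} [CommRing A] [CommRing B] [CommRing C] [Algebra R A]
    [Algebra R B] [Algebra R C] (g : A →ₐ[R] B) (hg : Function.Surjective g) (α₀ : A →ₐ[R] C)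
    (hk : ∀ x, g x = 0 → α₀ x = 0) : B →ₐ[R] C :=
  (Ideal.Quotient.liftₐ (RingHom.ker g) α₀
    (fun x hx => hk x ((RingHom.mem_ker (f := g)).mp hx))).comp
    (Ideal.quotientKerAlgEquivOfSurjective hg).symm.toAlgHom

theorem liftSurj_apply {A B C : Type*} [CommRing A] [CommRing B] [CommRing C] [Algebra R A]
    [Algebra R B] [Algebra R C] (g : A →ₐ[R] B) (hg : Function.Surjective g) (α₀ : A →ₐ[R] C)
    (hk : ∀ x, g x = 0 → α₀ x = 0) (x : A) : liftSurj g hg α₀ hk (g x) = α₀ x := by
  unfold liftSurj
  have : (Ideal.quotientKerAlgEquivOfSurjective hg).symm (g x) =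
      Ideal.Quotient.mk _ x := by
    rw [AlgEquiv.symm_apply_eq]
    rfl
  rw [AlgHom.comp_apply]
  change (Ideal.Quotient.liftₐ _ α₀ _) ((Ideal.quotientKerAlgEquivOfSurjective hg).symm (g x)) = _
  rw [this]
  rfl

include hf in
/-- the kernel of the base-changed presentation is the extension of the kernel -/
theorem ker_le_map [Algebra.IsPushout R R' S S'] :
    G'.ker ≤ G.ker.map (polyMap (R' := R') (ι := ι)) := by
  set J : Ideal (MvPolynomial ι R') := G.ker.map (polyMap (R' := R') (ι := ι)) with hJ
  let Q := MvPolynomial ι R' ⧸ J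
  let α₀ : MvPolynomial ι R →ₐ[R] Q := (Ideal.Quotient.mkₐ R J).comp polyMap
  have hgsurj : Function.Surjective (MvPolynomial.aeval G.val : MvPolynomial ι R →ₐ[R] S) :=
    fun s => ⟨G.σ s, G.aeval_val_σ s⟩
  have hk : ∀ x, (MvPolynomial.aeval G.val : MvPolynomial ι R →ₐ[R] S) x = 0 → α₀ x = 0 := by
    intro x hx
    change Ideal.Quotient.mk J (polyMap x) = 0
    rw [Ideal.Quotient.eq_zero_iff_mem]
    refine Ideal.mem_map_of_mem _ ?_
    rw [Generators.ker_eq_ker_aeval_val]
    exact hx
  let α : S →ₐ[R] Q := liftSurj _ hgsurj α₀ hk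
  let β : R' →ₐ[R] Q := IsScalarTower.toAlgHom R R' Q
  let ψ : S' →ₐ[R] Q := Algebra.pushoutDesc S' β α (fun x y => mul_comm _ _)
  have hψ : ∀ y : MvPolynomial ι R', ψ (MvPolynomial.aeval G'.val y) = Ideal.Quotient.mk J y := by
    intro y
    induction y using MvPolynomial.induction_on with
    | C a =>
      rw [MvPolynomial.aeval_C, Algebra.pushoutDesc_left]
      rfl
    | add p q hp hq => rw [map_add, map_add, map_add, hp, hq]
    | mul_X p i hp =>
      rw [map_mul, map_mul, map_mul, hp, MvPolynomial.aeval_X, val_eq G G' f hf i,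
        Algebra.pushoutDesc_right]
      congr 1
      have : G.val i = (MvPolynomial.aeval G.val : MvPolynomial ι R →ₐ[R] S) (MvPolynomial.X i) := by
        rw [MvPolynomial.aeval_X]
      rw [this]
      change liftSurj _ hgsurj α₀ hk _ = _
      rw [liftSurj_apply]
      change Ideal.Quotient.mk J (polyMap (MvPolynomial.X i)) = _
      rw [polyMap_apply, MvPolynomial.map_X]
  intro y hy
  rw [Generators.ker_eq_ker_aeval_val, RingHom.mem_ker] at hy
  have := hψ y
  rw [hy, map_zero] at this
  exact Ideal.Quotient.eq_zero_iff_mem.mp this.symm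

theorem mk_smul_eq {P : Extension R' S'} (p : P.Ring) (x : P.ker) :
    Cotangent.mk (p • x) = (algebraMap P.Ring S' p) • Cotangent.mk x := by
  rw [map_smul, algebraMap_smul]

include hf in
theorem key [Algebra.IsPushout R R' S S'] (z : R' ⊗[R] G.toExtension.Cotangent) :
    cotToQuotSq G'.toExtension
      (LinearMap.liftBaseChange S' (Cotangent.map f.toExtensionHom)
        ((Algebra.IsPushout.cancelBaseChange R R' S S' G.toExtension.Cotangent).symm z)) =
    quotSqLift (map_ker_le G G' f hf) (LinearMap.lTensor R' (cotToQuotSq G.toExtension) z) := by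
  induction z using TensorProduct.induction_on with
  | zero =>
    rw [map_zero, map_zero, map_zero, map_zero]
    exact (map_zero (quotSqLift (map_ker_le G G' f hf))).symm
  | add a b ha hb =>
    rw [map_add, map_add, map_add, map_add, ha, hb]
    exact (map_add (quotSqLift (map_ker_le G G' f hf)) _ _).symm
  | tmul r c =>
    obtain ⟨x, rfl⟩ := Cotangent.mk_surjective c
    rw [Algebra.IsPushout.cancelBaseChange_symm_tmul, LinearMap.liftBaseChange_tmul,
      Cotangent.map_mk, LinearMap.lTensor_tmul, cotToQuotSq_mk]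
    have h1 : algebraMap R' S' r = algebraMap G'.toExtension.Ring S' (MvPolynomial.C r) := by
      change _ = algebraMap G'.Ring S' (MvPolynomial.C r)
      rw [Generators.algebraMap_apply, MvPolynomial.aeval_C]
    rw [h1, ← mk_smul_eq, cotToQuotSq_mk]
    erw [quotSqLift_tmul]
    congr 1
    rw [SetLike.val_smul, smul_eq_mul]
    congr 1
    exact toAlgHom_eq_polyMap G G' f hf x.1

include hf in
/-- `S' ⊗_S I/I² → I'/I'²` is injective when `R' ⊗_R (I/I² → P/I²)` is. -/
theorem cot_injective [Algebra.IsPushout R R' S S']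
    (hT : Function.Injective (LinearMap.lTensor R' (cotToQuotSq G.toExtension))) :
    Function.Injective (LinearMap.liftBaseChange S' (Cotangent.map f.toExtensionHom)) := by
  rw [injective_iff_map_eq_zero]
  intro y hy
  set Ξ := Algebra.IsPushout.cancelBaseChange R R' S S' G.toExtension.Cotangent with hΞ
  have h1 := key G G' f hf (Ξ y)
  rw [LinearEquiv.symm_apply_apply, hy, map_zero] at h1
  have h2 := quotSqLift_injective (ker_le_map G G' f hf) (map_ker_le G G' f hf)
    (h1.symm.trans (map_zero _).symm)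
  have h3 := hT (h2.trans (map_zero _).symm)
  exact Ξ.injective (h3.trans (map_zero _).symm)

include hf in
theorem cot_injective_of_flat [Algebra.IsPushout R R' S S'] [Module.Flat R S] :
    Function.Injective (LinearMap.liftBaseChange S' (Cotangent.map f.toExtensionHom)) :=
  cot_injective G G' f hf (lTensor_cotToQuotSq_injective_of_flat _ _)

include hf in
theorem cot_injective_of_flat' [Algebra.IsPushout R R' S S'] [Module.Flat R R'] :
    Function.Injective (LinearMap.liftBaseChange S' (Cotangent.map f.toExtensionHom)) :=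
  cot_injective G G' f hf (lTensor_cotToQuotSq_injective_of_flat' _ _)

end sameVars

section general

open Algebra.Extension

variable {R S R' S' : Type*} [CommRing R] [CommRing S] [CommRing R'] [CommRing S']
  [Algebra R S] [Algebra R' S'] [Algebra R R'] [Algebra S S'] [Algebra R S']
  [IsScalarTower R R' S'] [IsScalarTower R S S']

/-- (helper47, S7221) `S' ⊗_S I/I² → I'/I'²` is surjective when `I' ⊆ I P'`. -/
theorem cot_surj_of_ker_le {P : Extension R S} {P' : Extension R' S'} (f : P.Hom P')
    (hK : P'.ker ≤ Ideal.map f.toRingHom P.ker) :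
    Function.Surjective (LinearMap.liftBaseChange S' (Cotangent.map f)) := by
  set L := LinearMap.liftBaseChange S' (Cotangent.map f) with hL
  have hmem : ∀ x ∈ P.ker, f.toRingHom x ∈ P'.ker := by
    intro x hx
    rw [Extension.ker, RingHom.mem_ker] at hx ⊢
    rw [f.algebraMap_toRingHom, hx, map_zero]
  have key : ∀ y ∈ Ideal.span (f.toRingHom '' (P.ker : Set P.Ring)),
      ∃ hy : y ∈ P'.ker, (Cotangent.mk ⟨y, hy⟩ : P'.Cotangent) ∈ LinearMap.range L := by
    intro y hy
    induction hy using Submodule.span_induction with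
    | mem z hz =>
      obtain ⟨x, hx, rfl⟩ := hz
      refine ⟨hmem x hx, 1 ⊗ₜ Cotangent.mk ⟨x, hx⟩, ?_⟩
      rw [hL, LinearMap.liftBaseChange_tmul, one_smul, Cotangent.map_mk]
      rfl
    | zero => exact ⟨zero_mem _, 0, by rw [map_zero]; exact (map_zero Cotangent.mk).symm⟩
    | add a b _ _ iha ihb =>
      obtain ⟨ha', u, hu⟩ := iha
      obtain ⟨hb', v, hv⟩ := ihb
      exact ⟨add_mem ha' hb', u + v, by
        rw [map_add, hu, hv]; exact (map_add Cotangent.mk ⟨a, ha'⟩ ⟨b, hb'⟩).symm⟩
    | smul p a _ iha =>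
      obtain ⟨ha', u, hu⟩ := iha
      refine ⟨Ideal.mul_mem_left _ p ha', (algebraMap P'.Ring S' p) • u, ?_⟩
      rw [map_smul, hu, ← mk_smul_eq]
      rfl
  intro c
  obtain ⟨y, rfl⟩ := Cotangent.mk_surjective c
  obtain ⟨y, hy⟩ := y
  obtain ⟨_, u, hu⟩ := key y (hK hy)
  exact ⟨u, hu⟩

end general

section sameVars2

open Algebra.Extension

variable {R S R' S' : Type*} [CommRing R] [CommRing S] [CommRing R'] [CommRing S']
  [Algebra R S] [Algebra R' S'] [Algebra R R'] [Algebra S S'] [Algebra R S']
  [IsScalarTower R R' S'] [IsScalarTower R S S']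
  {ι : Type*} (G : Generators R S ι) (G' : Generators R' S' ι) (f : G.Hom G')
  (hf : ∀ i, f.val i = MvPolynomial.X i)

include hf in
theorem cot_surj [Algebra.IsPushout R R' S S'] :
    Function.Surjective (LinearMap.liftBaseChange S' (Cotangent.map f.toExtensionHom)) := by
  apply cot_surj_of_ker_le
  have : f.toExtensionHom.toRingHom = (polyMap (R' := R') (ι := ι)).toRingHom := by
    ext x : 1
    exact toAlgHom_eq_polyMap G G' f hf x
  rw [this]
  exact ker_le_map G G' f hf

include hf in
theorem cotSpace_bij :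
    Function.Bijective (LinearMap.liftBaseChange S'
      (CotangentSpace.map f.toExtensionHom)) := by
  let b := G.cotangentSpaceBasis.baseChange S'
  let e := b.equiv G'.cotangentSpaceBasis (Equiv.refl ι)
  have : LinearMap.liftBaseChange S'
      (CotangentSpace.map f.toExtensionHom) = e.toLinearMap := by
    apply b.ext
    intro i
    rw [LinearEquiv.coe_coe]
    change _ = (b.equiv G'.cotangentSpaceBasis (Equiv.refl ι)) (b i)
    rw [Module.Basis.equiv_apply, Equiv.refl_apply]
    change LinearMap.liftBaseChange S' _ ((G.cotangentSpaceBasis.baseChange S') i) = _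
    rw [Module.Basis.baseChange_apply, LinearMap.liftBaseChange_tmul, one_smul,
      Generators.cotangentSpaceBasis_apply, Generators.cotangentSpaceBasis_apply]
    erw [CotangentSpace.map_tmul]
    simp only [map_one]
    congr 2
    change f.toAlgHom (MvPolynomial.X i) = _
    rw [Generators.Hom.toAlgHom_X, hf]
  rw [this]
  exact e.bijective

include hf in
theorem cot_bij_of_flat [Algebra.IsPushout R R' S S'] [Module.Flat R S] :
    Function.Bijective (LinearMap.liftBaseChange S' (Cotangent.map f.toExtensionHom)) :=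
  ⟨cot_injective_of_flat G G' f hf, cot_surj G G' f hf⟩

include hf in
theorem cot_bij_of_flat' [Algebra.IsPushout R R' S S'] [Module.Flat R R'] :
    Function.Bijective (LinearMap.liftBaseChange S' (Cotangent.map f.toExtensionHom)) :=
  ⟨cot_injective_of_flat' G G' f hf, cot_surj G G' f hf⟩

end sameVars2

section isos

open Algebra.Extension CategoryTheory Limits

attribute [local instance] HasDerivedCategory.standard

variable {R S : Type u} [CommRing R] [CommRing S] [Algebra R S]
  {S' : Type u} [CommRing S'] [Algebra S S']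

/-- degree `-1` term of `NLCx.cx` -/
noncomputable def cxXIso₀ (P : Extension.{u} R S) : (NLCx.cx P).X (-1) ≅ ModuleCat.of S P.Cotangent :=
  HomologicalComplex.doubleXIso₀ _ _

/-- degree `0` term of `NLCx.cx` -/
noncomputable def cxXIso₁ (P : Extension.{u} R S) : (NLCx.cx P).X 0 ≅ ModuleCat.of S P.CotangentSpace :=
  HomologicalComplex.doubleXIso₁ _ _ (by decide)

/-- degree `-1` term of `NLCx.bcCx` -/
noncomputable def bcCxXIso₀ (P : Extension.{u} R S) :
    (NLCx.bcCx P S').X (-1) ≅ ModuleCat.of S' (S' ⊗[S] P.Cotangent) :=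
  HomologicalComplex.doubleXIso₀ _ _

/-- degree `0` term of `NLCx.bcCx` -/
noncomputable def bcCxXIso₁ (P : Extension.{u} R S) :
    (NLCx.bcCx P S').X 0 ≅ ModuleCat.of S' (S' ⊗[S] P.CotangentSpace) :=
  HomologicalComplex.doubleXIso₁ _ _ (by decide)

lemma cx_d (P : Extension.{u} R S) :
    (NLCx.cx P).d (-1) 0 = (cxXIso₀ P).hom ≫ ModuleCat.ofHom P.cotangentComplex ≫ (cxXIso₁ P).inv :=
  HomologicalComplex.double_d _ _ (by decide)

lemma bcCx_d (P : Extension.{u} R S) :
    (NLCx.bcCx P S').d (-1) 0 =
      (bcCxXIso₀ P).hom ≫ ModuleCat.ofHom (P.cotangentComplex.baseChange S') ≫ (bcCxXIso₁ P).inv :=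
  HomologicalComplex.double_d _ _ (by decide)

lemma isZero_cx_X (P : Extension.{u} R S) (i : ℤ) (h0 : i ≠ -1) (h1 : i ≠ 0) :
    IsZero ((NLCx.cx P).X i) := HomologicalComplex.isZero_double_X _ _ i h0 h1

lemma isZero_bcCx_X (P : Extension.{u} R S) (i : ℤ) (h0 : i ≠ -1) (h1 : i ≠ 0) :
    IsZero ((NLCx.bcCx P S').X i) := HomologicalComplex.isZero_double_X _ _ i h0 h1

end isos

section chain

open Algebra.Extension CategoryTheory Limits Groth.Agent.Lib.NLIndep32

attribute [local instance] HasDerivedCategory.standard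

variable {R S R' S' : Type u} [CommRing R] [CommRing S] [CommRing R'] [CommRing S']
  [Algebra R S] [Algebra R' S'] [Algebra R R'] [Algebra S S'] [Algebra R S']
  [IsScalarTower R R' S'] [IsScalarTower R S S']

theorem isIso_bcMap_of_bijective {P : Extension.{u} R S} {P' : Extension.{u} R' S'} (f : P.Hom P')
    (h1 : Function.Bijective (LinearMap.liftBaseChange S' (Cotangent.map f)))
    (h2 : Function.Bijective (LinearMap.liftBaseChange S' (CotangentSpace.map f))) :
    IsIso (NLCx.bcMap (S' := S') f) := by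
  haveI i1 : IsIso (ModuleCat.ofHom (LinearMap.liftBaseChange S' (Cotangent.map f))) :=
    (ConcreteCategory.isIso_iff_bijective _).mpr h1
  haveI i2 : IsIso (ModuleCat.ofHom (LinearMap.liftBaseChange S' (CotangentSpace.map f))) :=
    (ConcreteCategory.isIso_iff_bijective _).mpr h2
  haveI : ∀ i, IsIso ((NLCx.bcMap (S' := S') f).f i) := by
    intro i
    by_cases h0 : i = -1
    · subst h0
      dsimp only [NLCx.bcMap]
      erw [HomologicalComplex.mkHomFromDouble_f₀]
      exact IsIso.comp_isIso' (Iso.isIso_hom _) (IsIso.comp_isIso' i1 (Iso.isIso_inv _))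
    · by_cases h1 : i = 0
      · subst h1
        dsimp only [NLCx.bcMap]
        erw [HomologicalComplex.mkHomFromDouble_f₁]
        exact IsIso.comp_isIso' (Iso.isIso_hom _) (IsIso.comp_isIso' i2 (Iso.isIso_inv _))
      · have hZ1 : Limits.IsZero ((NLCx.bcCx P S').X i) :=
          HomologicalComplex.isZero_double_X _ _ i h0 h1
        have hZ2 : Limits.IsZero ((NLCx.cx P').X i) :=
          HomologicalComplex.isZero_double_X _ _ i h0 h1
        have : (NLCx.bcMap (S' := S') f).f i = (hZ1.iso hZ2).hom := hZ1.eq_of_src _ _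
        rw [this]
        infer_instance
  exact HomologicalComplex.Hom.isIso_of_components _

theorem liftBaseChange_cot_comp {P : Extension.{u} R S} {P' P'' : Extension.{u} R' S'} (f : P.Hom P')
    (g : P'.Hom P'') :
    LinearMap.liftBaseChange S' (Cotangent.map (g.comp f)) =
      Cotangent.map g ∘ₗ LinearMap.liftBaseChange S' (Cotangent.map f) := by
  ext x
  simp only [TensorProduct.AlgebraTensorModule.curry_apply, LinearMap.restrictScalars_self,
    TensorProduct.curry_apply, LinearMap.coe_restrictScalars, LinearMap.liftBaseChange_tmul,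
    one_smul, LinearMap.coe_comp, Function.comp_apply, Cotangent.map_comp]

theorem liftBaseChange_cotSpace_comp {P : Extension.{u} R S} {P' P'' : Extension.{u} R' S'}
    (f : P.Hom P') (g : P'.Hom P'') :
    LinearMap.liftBaseChange S' (CotangentSpace.map (g.comp f)) =
      CotangentSpace.map g ∘ₗ LinearMap.liftBaseChange S' (CotangentSpace.map f) := by
  ext x
  simp only [TensorProduct.AlgebraTensorModule.curry_apply, LinearMap.restrictScalars_self,
    TensorProduct.curry_apply, LinearMap.coe_restrictScalars, LinearMap.liftBaseChange_tmul,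
    one_smul, LinearMap.coe_comp, Function.comp_apply, CotangentSpace.map_comp]

lemma bcMap_f₀ {P : Extension.{u} R S} {P' : Extension.{u} R' S'} (f : P.Hom P') :
    (NLCx.bcMap (S' := S') f).f (-1) = (bcCxXIso₀ P).hom ≫
      ModuleCat.ofHom (LinearMap.liftBaseChange S' (Cotangent.map f)) ≫ (cxXIso₀ P').inv :=
  HomologicalComplex.mkHomFromDouble_f₀ _ _ _ _ _ _

lemma bcMap_f₁ {P : Extension.{u} R S} {P' : Extension.{u} R' S'} (f : P.Hom P') :
    (NLCx.bcMap (S' := S') f).f 0 = (bcCxXIso₁ P).hom ≫
      ModuleCat.ofHom (LinearMap.liftBaseChange S' (CotangentSpace.map f)) ≫ (cxXIso₁ P').inv :=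
  HomologicalComplex.mkHomFromDouble_f₁ _ _ _ _ _ _

theorem bcMap_hom_ext {P : Extension.{u} R S} {K : DRing.Cx S'} {φ φ' : NLCx.bcCx P S' ⟶ K}
    (h₀ : φ.f (-1) = φ'.f (-1)) (h₁ : φ.f 0 = φ'.f 0) : φ = φ' :=
  HomologicalComplex.from_double_hom_ext h₀ h₁

theorem cx_hom_ext {P : Extension.{u} R S} {K : DRing.Cx S} {φ φ' : NLCx.cx P ⟶ K}
    (h₀ : φ.f (-1) = φ'.f (-1)) (h₁ : φ.f 0 = φ'.f 0) : φ = φ' :=
  HomologicalComplex.from_double_hom_ext h₀ h₁

lemma map_f₀ {R₁ : Type u} [CommRing R₁] [Algebra R₁ S] [Algebra R R₁] [IsScalarTower R R₁ S]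
    {P : Extension.{u} R S} {P' : Extension.{u} R₁ S} (f : P.Hom P') :
    (NLCx.map f).f (-1) = (cxXIso₀ P).hom ≫
      ModuleCat.ofHom (Cotangent.map f) ≫ (cxXIso₀ P').inv :=
  HomologicalComplex.mkHomFromDouble_f₀ _ _ _ _ _ _

lemma map_f₁ {R₁ : Type u} [CommRing R₁] [Algebra R₁ S] [Algebra R R₁] [IsScalarTower R R₁ S]
    {P : Extension.{u} R S} {P' : Extension.{u} R₁ S} (f : P.Hom P') :
    (NLCx.map f).f 0 = (cxXIso₁ P).hom ≫
      ModuleCat.ofHom (CotangentSpace.map f) ≫ (cxXIso₁ P').inv :=
  HomologicalComplex.mkHomFromDouble_f₁ _ _ _ _ _ _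

theorem bcMap_comp {P : Extension.{u} R S} {P' P'' : Extension.{u} R' S'} (f : P.Hom P')
    (g : P'.Hom P'') :
    NLCx.bcMap (S' := S') (g.comp f) = NLCx.bcMap (S' := S') f ≫ NLCx.map g := by
  apply bcMap_hom_ext
  · rw [HomologicalComplex.comp_f, bcMap_f₀, bcMap_f₀, map_f₀, liftBaseChange_cot_comp]
    simp only [Category.assoc, Iso.inv_hom_id_assoc]
    rfl
  · rw [HomologicalComplex.comp_f, bcMap_f₁, bcMap_f₁, map_f₁, liftBaseChange_cotSpace_comp]
    simp only [Category.assoc, Iso.inv_hom_id_assoc]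
    rfl

section quasiIsoMap

variable {P P' : Extension.{u} R S} (f : P.Hom P') (g : P'.Hom P)

lemma toTT_f₀ (P : Extension.{u} R S) : (toTT P).f (-1) = (cxXIso₀ P).hom := by
  have : (toTT P).f (-1) = (cxXIso₀ P).hom ≫ 𝟙 _ :=
    HomologicalComplex.mkHomFromDouble_f₀ _ _ _ _ _ _
  rw [this, Category.comp_id]

lemma toTT_f₁ (P : Extension.{u} R S) : (toTT P).f 0 = (cxXIso₁ P).hom := by
  have : (toTT P).f 0 = (cxXIso₁ P).hom ≫ 𝟙 _ :=
    HomologicalComplex.mkHomFromDouble_f₁ _ _ _ _ _ _
  rw [this, Category.comp_id]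

theorem map_comp_toTT : NLCx.map f ≫ toTT P' = toTT P ≫ ttMap f := by
  apply cx_hom_ext
  · rw [HomologicalComplex.comp_f, HomologicalComplex.comp_f, map_f₀, toTT_f₀, toTT_f₀,
      ttMap_f_neg_one]
    simp only [Category.assoc]
    erw [Iso.inv_hom_id, Category.comp_id]
    rfl
  · rw [HomologicalComplex.comp_f, HomologicalComplex.comp_f, map_f₁, toTT_f₁, toTT_f₁,
      ttMap_f_zero]
    simp only [Category.assoc]
    erw [Iso.inv_hom_id, Category.comp_id]
    rfl

include g in
/-- a morphism of extensions admitting a morphism in the other direction induces a quasi-isomorphism of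
naive cotangent complexes -/
theorem quasiIso_map : QuasiIso (NLCx.map f) := by
  have h1 : QuasiIso (ttMap f) := quasiIso_ttMap f g
  have h2 : QuasiIso (NLCx.map f ≫ toTT P') := by
    rw [map_comp_toTT]
    infer_instance
  exact quasiIso_of_comp_right (NLCx.map f) (toTT P')

end quasiIsoMap

section self

variable (R S R' S')

/-- (helper47, S7221) -/
theorem aeval_surj [Algebra.IsPushout R R' S S'] :
    Function.Surjective (MvPolynomial.aeval (R := R') (fun s : S => algebraMap S S' s)) := by
  have hbc : IsBaseChange R' (IsScalarTower.toAlgHom R S S').toLinearMap :=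
    Algebra.IsPushout.out
  intro x
  refine hbc.inductionOn x (fun x => ∃ p, MvPolynomial.aeval (R := R')
    (fun s : S => algebraMap S S' s) p = x) ⟨0, map_zero _⟩ ?_ ?_ ?_
  · intro s
    exact ⟨MvPolynomial.X s, by simp⟩
  · rintro r' _ ⟨p, rfl⟩
    exact ⟨r' • p, by rw [map_smul]⟩
  · rintro _ _ ⟨p, rfl⟩ ⟨q, rfl⟩
    exact ⟨p + q, map_add _ _ _⟩

/-- the base-changed generators of the self presentation (helper47, S7221) -/
noncomputable def bcGen [Algebra.IsPushout R R' S S'] : Algebra.Generators R' S' S :=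
  Algebra.Generators.ofSurjective (fun s : S => algebraMap S S' s) (aeval_surj R S R' S')

/-- the same-variables morphism from the self presentation to its base change -/
noncomputable def toBcGen [Algebra.IsPushout R R' S S'] :
    (Algebra.Generators.self R S).Hom (bcGen R S R' S') where
  val s := MvPolynomial.X s
  aeval_val s := by simp [bcGen, Algebra.Generators.ofSurjective]

lemma toBcGen_val [Algebra.IsPushout R R' S S'] (s : S) :
    (toBcGen R S R' S').val s = MvPolynomial.X s := rfl

/-- hom from the base-changed generators to the self presentation of `S'` (helper47, S7221) -/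
noncomputable def toSelf [Algebra.IsPushout R R' S S'] :
    (bcGen R S R' S').Hom (Algebra.Generators.self R' S') where
  val s := MvPolynomial.X (algebraMap S S' s)
  aeval_val s := by simp [bcGen, Algebra.Generators.ofSurjective]

theorem defaultHom_eq [Algebra.IsPushout R R' S S'] :
    (Algebra.Generators.self R S).defaultHom (Algebra.Generators.self R' S') =
      (toSelf R S R' S').comp (toBcGen R S R' S') := by
  ext s : 2
  simp [toSelf, toBcGen]

theorem bcMapSelf_eq [Algebra.IsPushout R R' S S'] :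
    NLCx.bcMapSelf R S R' S' =
      NLCx.bcMap (S' := S') (toBcGen R S R' S').toExtensionHom ≫
        NLCx.map (toSelf R S R' S').toExtensionHom := by
  rw [← bcMap_comp, ← Algebra.Generators.Hom.toExtensionHom_comp, ← defaultHom_eq]
  rfl

theorem quasiIso_map_toSelf [Algebra.IsPushout R R' S S'] :
    QuasiIso (NLCx.map (toSelf R S R' S').toExtensionHom) :=
  quasiIso_map _ ((Algebra.Generators.self R' S').defaultHom (bcGen R S R' S')).toExtensionHom

/-- flat base change of the naive cotangent complex, `S` flat over `R` -/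
theorem quasiIso_bcMapSelf_of_flat [Algebra.IsPushout R R' S S'] [Module.Flat R S] :
    QuasiIso (NLCx.bcMapSelf R S R' S') := by
  rw [bcMapSelf_eq]
  have h1 : IsIso (NLCx.bcMap (S' := S') (toBcGen R S R' S').toExtensionHom) :=
    isIso_bcMap_of_bijective _
      (cot_bij_of_flat _ _ (toBcGen R S R' S') (toBcGen_val R S R' S'))
      (cotSpace_bij _ _ (toBcGen R S R' S') (toBcGen_val R S R' S'))
  have h2 := quasiIso_map_toSelf R S R' S'
  infer_instance

/-- flat base change of the naive cotangent complex, `R'` flat over `R` -/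
theorem quasiIso_bcMapSelf_of_flat' [Algebra.IsPushout R R' S S'] [Module.Flat R R'] :
    QuasiIso (NLCx.bcMapSelf R S R' S') := by
  rw [bcMapSelf_eq]
  have h1 : IsIso (NLCx.bcMap (S' := S') (toBcGen R S R' S').toExtensionHom) :=
    isIso_bcMap_of_bijective _
      (cot_bij_of_flat' _ _ (toBcGen R S R' S') (toBcGen_val R S R' S'))
      (cotSpace_bij _ _ (toBcGen R S R' S') (toBcGen_val R S R' S'))
  have h2 := quasiIso_map_toSelf R S R' S'
  infer_instance

end self

end chain

end Groth.Agent.Lib.NLBaseChange32
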