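import Groth.Agent.Lib.FinFreeResFP88
import Groth.Agent.Lib.TorBalance
import Groth.Agent.Lib.FibModPd

/-!
# Projective dimension equals Tor-dimension for modules with finitely presented syzygies (helper88)
-/

set_option autoImplicit false
set_option maxHeartbeats 400000
set_option linter.style.haveILetI false

open CategoryTheory MonoidalCategory Limits

namespace Groth.Agent.Lib.PdTor88

open Groth.Agent.Lib.TorLES Groth.Agent.Lib.TorBalance Groth.Agent.Lib.FinFreeRes Function

universe u

variable {R : Type u} [CommRing R] (M : ModuleCat.{u} R)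

/-- The short exact sequence `0 → syz (n+1) → X n → syz n → 0`. -/
noncomputable def syzSC (n : ℕ) : ShortComplex (ModuleCat.{u} R) :=
  ShortComplex.mk (ι M n) (ε M n) (ι_ε M n)

lemma syzSC_shortExact (n : ℕ) : (syzSC M n).ShortExact := by
  refine ModuleCat.shortComplex_shortExact _ ?_ (ι_injective M n) (ε_surjective M n)
  intro x
  constructor
  · intro hx
    obtain ⟨z, hz⟩ := exists_ι_eq M n x hx
    exact ⟨z, hz⟩
  · rintro ⟨z, rfl⟩
    have := ι_ε M n
    exact congrArg (fun f : syz M (n + 1) ⟶ syz M n => f.hom z) this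

instance flat_X (n : ℕ) : Module.Flat R (syzSC M n).X₂ := by
  haveI : Module.Free R (X M n) := free_X M n
  exact inferInstanceAs (Module.Flat R (X M n))

lemma projective_X (n : ℕ) : Projective (syzSC M n).X₂ := by
  have hf := free_X M n
  have hp : Module.Projective R (X M n) := Module.Projective.of_free
  exact (X M n).projective_of_categoryTheory_projective

/-- Dimension shifting for `Tor` along the syzygies. -/
lemma isZero_tor_syz_iff (N : ModuleCat.{u} R) : ∀ (n k : ℕ),
    IsZero (((Tor (ModuleCat.{u} R) (k + 1)).obj (syz M n)).obj N) ↔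
      IsZero (((Tor (ModuleCat.{u} R) (k + 1 + n)).obj M).obj N)
  | 0, k => Iff.rfl
  | n + 1, k => by
    have e := δIso (syzSC_shortExact M n) N k
    have h1 : IsZero (((Tor (ModuleCat.{u} R) (k + 1)).obj (syz M (n + 1))).obj N) ↔
        IsZero (((Tor (ModuleCat.{u} R) (k + 1 + 1)).obj (syz M n)).obj N) :=
      ⟨fun h => h.of_iso e, fun h => h.of_iso e.symm⟩
    rw [h1, isZero_tor_syz_iff N n (k + 1)]
    have : k + 1 + 1 + n = k + 1 + (n + 1) := by omega
    rw [this]

/-- Dimension shifting for projective dimension along the syzygies. -/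
lemma hasProjectiveDimensionLT_syz_iff : ∀ (n k : ℕ),
    HasProjectiveDimensionLT (syz M n) (k + 1) ↔ HasProjectiveDimensionLT M (k + 1 + n)
  | 0, k => Iff.rfl
  | n + 1, k => by
    have h1 := (syzSC_shortExact M n).hasProjectiveDimensionLT_X₃_iff k (projective_X M n)
    change HasProjectiveDimensionLT (syz M n) (k + 2) ↔
      HasProjectiveDimensionLT (syz M (n + 1)) (k + 1) at h1
    rw [← h1, hasProjectiveDimensionLT_syz_iff n (k + 1)]
    have : k + 1 + 1 + n = k + 1 + (n + 1) := by omega
    rw [this]

/-- A module all of whose `Tor₁` vanish is flat. -/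
theorem flat_of_forall_isZero_tor_one (Z : ModuleCat.{u} R)
    (h : ∀ N : ModuleCat.{u} R, IsZero (((Tor (ModuleCat.{u} R) (0 + 1)).obj Z).obj N)) :
    Module.Flat R Z := by
  rw [Module.Flat.iff_rTensor_injective']
  intro I
  let S : ShortComplex (ModuleCat.{u} R) :=
    ShortComplex.mk (ModuleCat.ofHom I.subtype) (ModuleCat.ofHom (Ideal.Quotient.mkₐ R I).toLinearMap)
      (by
        apply ModuleCat.hom_ext
        apply LinearMap.ext
        intro x
        exact Ideal.Quotient.eq_zero_iff_mem.mpr x.2)
  have hS : S.ShortExact := by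
    refine ModuleCat.shortComplex_shortExact S ?_ Subtype.val_injective
      Ideal.Quotient.mk_surjective
    intro x
    constructor
    · intro hx
      exact ⟨⟨x, Ideal.Quotient.eq_zero_iff_mem.mp hx⟩, rfl⟩
    · rintro ⟨z, rfl⟩
      exact Ideal.Quotient.eq_zero_iff_mem.mpr z.2
  haveI : Module.Flat R S.X₂ := inferInstanceAs (Module.Flat R R)
  have e := torOneIsoKernel hS Z
  have h0 : IsZero (kernel (S.f ▷ Z)) := (isZero_tor_symm (h S.X₃)).of_iso e.symm
  have hmono : Mono (S.f ▷ Z) := Preadditive.mono_of_kernel_zero (h0.eq_of_src _ _)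
  have hinj := (ModuleCat.mono_iff_injective _).mp hmono
  exact hinj

/-- Vanishing of `Tor` above the projective dimension. -/
theorem isZero_tor_of_hasProjectiveDimensionLT : ∀ (i : ℕ) (Z N : ModuleCat.{u} R),
    HasProjectiveDimensionLT Z i → ∀ j, i ≤ j →
      IsZero (((Tor (ModuleCat.{u} R) j).obj Z).obj N)
  | 0, Z, N, h, j, _ => isZero_tor_of_isZero_left ((hasProjectiveDimensionLT_zero_iff_isZero (X := Z)).mp h) j
  | 1, Z, N, h, j, hj => by
    haveI : Projective Z := projective_iff_hasProjectiveDimensionLT_one.mpr h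
    haveI : Module.Flat R Z := flat_of_projective Z
    obtain ⟨j, rfl⟩ : ∃ j', j = j' + 1 := ⟨j - 1, by omega⟩
    exact isZero_tor_succ_of_flat_left Z N j
  | i + 2, Z, N, h, j, hj => by
    obtain ⟨j, rfl⟩ : ∃ j', j = j' + 1 + 1 := ⟨j - 2, by omega⟩
    have h1 := ((syzSC_shortExact Z 0).hasProjectiveDimensionLT_X₃_iff i (projective_X Z 0)).mp h
    have h2 := isZero_tor_of_hasProjectiveDimensionLT (i + 1) (syz Z 1) N h1 (j + 1) (by omega)
    exact h2.of_iso (δIso (syzSC_shortExact Z 0) N j)

section Main

open Groth.Agent.Lib.FinFreeResFP88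

variable (A : Type u) {B : Type u} [CommRing A] [CommRing B] [Algebra A B]

theorem good_of (M : Type u) [AddCommGroup M] [Module B M] [iAM : Module A M]
    [iT : IsScalarTower A B M] [Module.FinitePresentation B M] [iF : Module.Flat A M] :
    Good A (ModuleCat.of B M) := by
  refine ⟨inferInstanceAs (Module.FinitePresentation B M), ?_⟩
  intro inst1 inst2
  exact flat_of_tower A (N := M) iAM inst1 iT inst2 iF

variable [Algebra.FinitePresentation A B] [Module.Flat A B]

/-- **Projective dimension = Tor-dimension** for a finitely presented `B`-module flat over `A`,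
`A → B` flat of finite presentation. -/
theorem projectiveDimension_eq_sInf_tor (M : Type u) [AddCommGroup M] [Module B M] [Module A M]
    [IsScalarTower A B M] [Module.FinitePresentation B M] [Module.Flat A M] :
    projectiveDimension (ModuleCat.of B M) =
      sInf {n : WithBot ℕ∞ | ∀ i : ℕ, n < i → ∀ N : ModuleCat.{u} B,
        Limits.IsZero (((Tor (ModuleCat.{u} B) i).obj (ModuleCat.of B M)).obj N)} := by
  have hM : Good A (ModuleCat.of B M) := good_of A M
  apply le_antisymm
  · apply le_sInf
    intro n hn
    apply Groth.Agent.Lib.FibModPd.withBot_enat_le_of_forall_lt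
    intro j hj
    rw [projectiveDimension_lt_iff]
    cases j with
    | zero =>
      have h0 := hn 0 hj (𝟙_ (ModuleCat.{u} B))
      have h1 : IsZero (ModuleCat.of B M ⊗ 𝟙_ (ModuleCat.{u} B)) :=
        h0.of_iso (torZeroIso _ _).symm
      rw [hasProjectiveDimensionLT_zero_iff_isZero]
      exact h1.of_iso (ρ_ _).symm
    | succ j =>
      have hidx : (0 + 1 + j : ℕ) = j + 1 := by omega
      have hflat : Module.Flat B (syz (ModuleCat.of B M) j) := by
        apply flat_of_forall_isZero_tor_one
        intro N
        rw [isZero_tor_syz_iff (ModuleCat.of B M) N j 0, hidx]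
        exact hn (j + 1) hj N
      haveI := (good_syz A (ModuleCat.of B M) hM j).1
      haveI : Module.Projective B (syz (ModuleCat.of B M) j) :=
        Module.Flat.projective_of_finitePresentation
      haveI : Projective (syz (ModuleCat.of B M) j) :=
        (syz (ModuleCat.of B M) j).projective_of_categoryTheory_projective
      have h1 : HasProjectiveDimensionLT (syz (ModuleCat.of B M) j) (0 + 1) :=
        projective_iff_hasProjectiveDimensionLT_one.mp inferInstance
      have h2 := (hasProjectiveDimensionLT_syz_iff (ModuleCat.of B M) j 0).mp h1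
      rw [hidx] at h2
      exact h2
  · apply sInf_le
    intro i hi N
    rw [projectiveDimension_lt_iff] at hi
    exact isZero_tor_of_hasProjectiveDimensionLT i _ N hi i le_rfl

end Main

end Groth.Agent.Lib.PdTor88
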