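import Groth.Agent.Lib.NLIndep32
import Groth.Agent.Lib.FlatAmp4
import Groth.Agent.Lib.TorAmpBasic21
import Groth.Agent.Lib.PdTor88
import Groth.Agent.Lib.KoszulQuot

/-!
# Tor amplitude of the naive cotangent complex and the conormal module (helper32)

* `isKoszulRegularSeq_of_isWeaklyRegular` : a (weakly) regular sequence is Koszul-regular.
* `flat_cotangent_of_hasTorAmplitudeIn` : if `NL_{S/R}` has tor amplitude in `[-1, 0]` then the conormal
  module `I/I²` of any presentation in finitely many variables is flat.
* `hasProjectiveDimensionLT_of_hasTorDimLE` : over a Noetherian ring a finite module of finite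
  tor dimension has finite projective dimension.
-/

set_option autoImplicit false
universe u

open CategoryTheory Limits Algebra

attribute [local instance] HasDerivedCategory.standard

namespace Groth.Agent.Lib.NLTorAmp32

open Groth.Agent.Lib.QuasiIsoElem Groth.Agent.Lib.NLIndep32 Groth.Agent.Lib.FlatAmp
  Groth.Agent.Lib.DRingPerfAmp Groth.Agent.Lib.PCohAmp

section koszul

variable {R : Type u} [CommRing R]

/-- a weakly regular sequence is Koszul-regular -/
theorem isKoszulRegularSeq_of_isWeaklyRegular (l : List R)
    (h : RingTheory.Sequence.IsWeaklyRegular R l) : LCI.IsKoszulRegularSeq R l := by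
  rw [Groth.Agent.Lib.KoszulQuot.isKoszulRegularSeq_iff]
  intro i hi
  exact Groth.Agent.Lib.KoszulCone.isZero_homology_of_isWeaklyRegular l R h i (by omega)

end koszul

section flat

variable {R S : Type u} [CommRing R] [CommRing S] [Algebra R S]

/-- If the two-term complex `tt P` has tor amplitude in `[-1, 0]` and `P.CotangentSpace` is flat, then the
conormal module `P.Cotangent` is flat. -/
theorem flat_cotangent_of_hasTorAmplitudeIn_tt (P : Extension.{u} R S)
    [Module.Flat S P.CotangentSpace]
    (h : DRing.HasTorAmplitudeIn S (-1) 0 (DRing.toD (tt P))) : Module.Flat S P.Cotangent := by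
  rw [hasTorAmplitudeIn_iff_pa] at h
  have h1 : FL S ((tt P).opcycles (-1)) := by
    refine fl_opcycles_of_pa S (tt P) (-1) 0 0 ?_ ?_ h
    · intro i hi
      by_cases h0 : i = 0
      · subst h0
        change Module.Flat S P.CotangentSpace
        infer_instance
      · exact (FL S).prop_of_isZero (twoTerm_isZero _ i (by omega) h0)
    · intro i hi
      exact twoTerm_isZero _ i (by omega) (by omega)
  have hd : (tt P).d (-2) (-1) = 0 := twoTerm_d_eq_zero _ _ _ (by simp)
  have h2 : FL S ((tt P).X (-1)) :=
    (FL S).prop_of_iso ((tt P).pOpcyclesIso (-2) (-1) (by simp) hd).symm h1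
  exact h2

/-- If `NL_{S/R}` has tor amplitude in `[-1, 0]` then the conormal module of every presentation in
finitely many variables is flat. -/
theorem flat_cotangent_of_hasTorAmplitudeIn {n : ℕ} (G : Algebra.Generators R S (Fin n))
    (h : DRing.HasTorAmplitudeIn S (-1) 0 (LCI.NL R S)) :
    Module.Flat S G.toExtension.Cotangent := by
  obtain ⟨e⟩ := nonempty_toD_tt_iso_NL_fin G
  have hfree : Module.Free S G.toExtension.CotangentSpace :=
    Module.Free.of_basis G.cotangentSpaceBasis
  have : Module.Flat S G.toExtension.CotangentSpace := inferInstance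
  exact flat_cotangent_of_hasTorAmplitudeIn_tt G.toExtension
    (Groth.Agent.Lib.TorAmpBasic21.hasTorAmplitudeIn_of_iso S e.symm h)

end flat

section pd

open Groth.Agent.Lib.FinFreeRes Groth.Agent.Lib.PdTor88

variable {R : Type u} [CommRing R] [IsNoetherianRing R]

/-- Over a Noetherian ring, a finite module of tor dimension `≤ d` has projective dimension `≤ d`. -/
theorem hasProjectiveDimensionLT_of_hasTorDimLE (M : Type u) [AddCommGroup M] [Module R M]
    [Module.Finite R M] (d : ℕ) (h : DRing.HasTorDimLE R d M) :
    HasProjectiveDimensionLT (ModuleCat.of R M) (d + 1) := by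
  have hfin : Module.Finite R (ModuleCat.of R M) := inferInstanceAs (Module.Finite R M)
  have hsyzfin : Module.Finite R (syz (ModuleCat.of R M) d) :=
    finite_syz (ModuleCat.of R M) d
  have hflat : Module.Flat R (syz (ModuleCat.of R M) d) := by
    apply flat_of_forall_isZero_tor_one
    intro N
    rw [isZero_tor_syz_iff (ModuleCat.of R M) N d 0]
    have hs := h N (0 + 1 + d) (by omega)
    exact ModuleCat.isZero_of_subsingleton _
  have hfp : Module.FinitePresentation R (syz (ModuleCat.of R M) d) :=
    Module.finitePresentation_of_finite R _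
  have hproj : Module.Projective R (syz (ModuleCat.of R M) d) :=
    Module.Flat.projective_of_finitePresentation
  have hproj' : Projective (syz (ModuleCat.of R M) d) :=
    (syz (ModuleCat.of R M) d).projective_of_categoryTheory_projective
  have h1 : HasProjectiveDimensionLT (syz (ModuleCat.of R M) d) (0 + 1) :=
    projective_iff_hasProjectiveDimensionLT_one.mp hproj'
  have h2 := (hasProjectiveDimensionLT_syz_iff (ModuleCat.of R M) d 0).mp h1
  have : 0 + 1 + d = d + 1 := by omega
  rwa [this] at h2

end pd

end Groth.Agent.Lib.NLTorAmp32
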