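import Groth.Agent.Lib.NLBaseChange32
import Groth.Agent.Lib.NLTorAmp32
import Groth.Agent.Lib.LBaseChangeFlat
import Groth.Agent.Lib.FlatBaseChangeD

/-!
# Derived base change of the naive cotangent complex (helper32)

* `extCxIso P S'` : the termwise extension of scalars of `NLCx.cx P` along `S → S'` is `NLCx.bcCx P S'`.
* `nonempty_LBaseChange_iso` : if the terms of `NLCx.cx P` are flat, then
  `(NL(P)) ⊗^L_S S' ≅ NLCx.bcCx P S'` in `D(S')`.
* `nonempty_LBaseChange_NL_iso` : flat base change `NL_{B/A} ⊗^L_B B' ≅ NL_{B'/A'}` when `B` is `A`-flat and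
  `NL_{B/A}` has tor amplitude in `[-1, 0]`.
-/

set_option autoImplicit false
universe u

open TensorProduct Algebra CategoryTheory Limits

attribute [local instance] HasDerivedCategory.standard

namespace Groth.Agent.Lib.NLBaseChangeD32

open Groth.Agent.Lib.NLBaseChange32 Groth.Agent.Lib.FlatBaseChangeD

section objIso

variable {A B : Type u} [CommRing A] [CommRing B] [Algebra A B]

lemma objIso_naturality {M N : Type u} [AddCommGroup M] [Module A M] [AddCommGroup N] [Module A N]
    (g : M →ₗ[A] N) :
    (F A B).map (ModuleCat.ofHom g) ≫ (objIso (B := B) N).hom =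
      (objIso (B := B) M).hom ≫ ModuleCat.ofHom (g.baseChange B) := by
  apply ModuleCat.ExtendScalars.hom_ext
  intro m
  rfl

end objIso

section extCx

open Algebra.Extension

variable {R S : Type u} [CommRing R] [CommRing S] [Algebra R S] (P : Extension.{u} R S)
  (S' : Type u) [CommRing S'] [Algebra S S']

lemma objIso_inv_naturality {A B : Type u} [CommRing A] [CommRing B] [Algebra A B]
    {M N : Type u} [AddCommGroup M] [Module A M] [AddCommGroup N] [Module A N]
    (g : M →ₗ[A] N) :
    (objIso (B := B) M).inv ≫ (F A B).map (ModuleCat.ofHom g) =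
      ModuleCat.ofHom (g.baseChange B) ≫ (objIso (B := B) N).inv := by
  rw [Iso.inv_comp_eq, ← Category.assoc, Iso.eq_comp_inv]
  exact objIso_naturality g

lemma extCx_comm :
    ((objIso (B := S') P.Cotangent).inv ≫ (F S S').map (cxXIso₀ P).inv) ≫
        (F S S').map ((NLCx.cx P).d (-1) 0) =
      ModuleCat.ofHom (P.cotangentComplex.baseChange S') ≫
        (objIso (B := S') P.CotangentSpace).inv ≫ (F S S').map (cxXIso₁ P).inv := by
  rw [cx_d, Category.assoc, ← Functor.map_comp, Iso.inv_hom_id_assoc, Functor.map_comp,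
    ← Category.assoc, objIso_inv_naturality, Category.assoc]

/-- the comparison map from `NL(P) ⊗_S S'` (written out) to the termwise extension of scalars -/
noncomputable def extCxHom :
    NLCx.bcCx P S' ⟶ Groth.Agent.Lib.FlatBaseChangeD.bcCx S' (NLCx.cx P) :=
  HomologicalComplex.mkHomFromDouble _ (by decide)
    ((objIso (B := S') P.Cotangent).inv ≫ (F S S').map (cxXIso₀ P).inv)
    ((objIso (B := S') P.CotangentSpace).inv ≫ (F S S').map (cxXIso₁ P).inv)
    (extCx_comm P S')
    (fun k hk => by
      change _ ≫ (F S S').map ((NLCx.cx P).d 0 k) = 0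
      have : (NLCx.cx P).d 0 k = 0 :=
        (isZero_cx_X P k (by simp at hk; omega) (by simp at hk; omega)).eq_of_tgt _ _
      rw [this, Functor.map_zero, comp_zero])

lemma extCxHom_f₀ : (extCxHom P S').f (-1) = (bcCxXIso₀ P).hom ≫
    (objIso (B := S') P.Cotangent).inv ≫ (F S S').map (cxXIso₀ P).inv :=
  HomologicalComplex.mkHomFromDouble_f₀ _ _ _ _ _ _

lemma extCxHom_f₁ : (extCxHom P S').f 0 = (bcCxXIso₁ P).hom ≫
    (objIso (B := S') P.CotangentSpace).inv ≫ (F S S').map (cxXIso₁ P).inv :=
  HomologicalComplex.mkHomFromDouble_f₁ _ _ _ _ _ _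

instance : IsIso (extCxHom P S') := by
  haveI : ∀ i, IsIso ((extCxHom P S').f i) := by
    intro i
    by_cases h0 : i = -1
    · subst h0
      rw [extCxHom_f₀]
      exact IsIso.comp_isIso' (Iso.isIso_hom _) (IsIso.comp_isIso' (Iso.isIso_inv _)
        (Functor.map_isIso _ _))
    · by_cases h1 : i = 0
      · subst h1
        rw [extCxHom_f₁]
        exact IsIso.comp_isIso' (Iso.isIso_hom _) (IsIso.comp_isIso' (Iso.isIso_inv _)
          (Functor.map_isIso _ _))
      · have hZ1 : IsZero ((NLCx.bcCx P S').X i) := isZero_bcCx_X P i h0 h1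
        have hZ2 : IsZero ((Groth.Agent.Lib.FlatBaseChangeD.bcCx S' (NLCx.cx P)).X i) :=
          (F S S').map_isZero (isZero_cx_X P i h0 h1)
        have : (extCxHom P S').f i = (hZ1.iso hZ2).hom := hZ1.eq_of_src _ _
        rw [this]
        infer_instance
  exact HomologicalComplex.Hom.isIso_of_components _

end extCx

section derived

open Algebra.Extension Groth.Agent.Lib.NLIndep32 Groth.Agent.Lib.LBaseChangeFlat

variable {R S : Type u} [CommRing R] [CommRing S] [Algebra R S] (P : Extension.{u} R S)
  (S' : Type u) [CommRing S'] [Algebra S S']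

lemma flat_cx_X [Module.Flat S P.Cotangent] [Module.Flat S P.CotangentSpace] (i : ℤ) :
    Module.Flat S ((NLCx.cx P).X i) := by
  by_cases h0 : i = -1
  · subst h0
    exact Module.Flat.of_linearEquiv (cxXIso₀ P).toLinearEquiv
  · by_cases h1 : i = 0
    · subst h1
      exact Module.Flat.of_linearEquiv (cxXIso₁ P).toLinearEquiv
    · have := ModuleCat.subsingleton_of_isZero (isZero_cx_X P i h0 h1)
      infer_instance

/-- If the terms of `NL(P)` are flat, its derived base change is the termwise base change. -/
theorem nonempty_LBaseChange_iso [Module.Flat S P.Cotangent] [Module.Flat S P.CotangentSpace]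
    [DRing.HasLBaseChange (algebraMap S S')] :
    Nonempty ((DRing.LBaseChange (algebraMap S S')).obj (DRing.toD (NLCx.cx P)) ≅
      DRing.toD (NLCx.bcCx P S')) := by
  have e1 := lbcIsoOfFlat (algebraMap S S') (NLCx.cx P) (flat_cx_X P) 0
    (fun i hi => isZero_cx_X P i (by omega) (by omega))
  have e2 := asIso (DerivedCategory.Q.map (extCxHom P S'))
  exact ⟨e1 ≪≫ e2.symm⟩

end derived

section main

open Groth.Agent.Lib.NLIndep32

variable (A B A' B' : Type u) [CommRing A] [CommRing B] [CommRing A'] [CommRing B']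
  [Algebra A B] [Algebra A' B'] [Algebra A A'] [Algebra B B'] [Algebra A B']
  [IsScalarTower A A' B'] [IsScalarTower A B B']

/-- flat base change of the naive cotangent complex in the derived category -/
theorem nonempty_LBaseChange_NL_iso [Algebra.IsPushout A A' B B'] [Module.Flat A B]
    (h : DRing.HasTorAmplitudeIn B (-1) 0 (LCI.NL A B))
    [DRing.HasLBaseChange (algebraMap B B')] :
    Nonempty ((DRing.LBaseChange (algebraMap B B')).obj (LCI.NL A B) ≅ LCI.NL A' B') := by
  set P := (Algebra.Generators.self A B).toExtension with hP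
  have hfree : Module.Free B P.CotangentSpace :=
    Module.Free.of_basis (Algebra.Generators.self A B).cotangentSpaceBasis
  have hflat0 : Module.Flat B P.CotangentSpace := inferInstance
  obtain ⟨e⟩ := nonempty_toD_tt_iso P
  have hflat1 : Module.Flat B P.Cotangent :=
    Groth.Agent.Lib.NLTorAmp32.flat_cotangent_of_hasTorAmplitudeIn_tt P
      (Groth.Agent.Lib.TorAmpBasic21.hasTorAmplitudeIn_of_iso B e h)
  obtain ⟨e1⟩ := nonempty_LBaseChange_iso P B'
  have hq : QuasiIso (NLCx.bcMapSelf A B A' B') := quasiIso_bcMapSelf_of_flat A B A' B'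
  have e2 := asIso (DerivedCategory.Q.map (NLCx.bcMapSelf A B A' B'))
  exact ⟨e1 ≪≫ e2⟩

end main

end Groth.Agent.Lib.NLBaseChangeD32
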