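import Groth.Agent.Lib.NLBaseChange32

/-!
# The kernel of `H^{-1}(NL(P) ⊗_S S') → H^{-1}(NL(P'))` is independent of the presentations (helper32)

* `kerSub f` : the submodule `ker (S' ⊗ I/I² → I'/I'²) ⊓ H^{-1}(NL(P) ⊗ S')` of `S' ⊗_S I/I²`;
  `kerEquiv f : ker (NLCx.bcH1Map f) ≃ₗ[S'] kerSub f`.
* `kerSubEquiv` : for morphisms of extensions `f : P → P'`, `g : Q → Q'` over the same square and morphisms
  `P ⇄ Q`, `P' ⇄ Q'`, `kerSub f ≃ₗ[S'] kerSub g`.
-/

set_option autoImplicit false
universe u

open TensorProduct Algebra Algebra.Extension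

namespace Groth.Agent.Lib.NLBcH1Ker32

variable {R S R' S' : Type u} [CommRing R] [CommRing S] [CommRing R'] [CommRing S']
  [Algebra R S] [Algebra R' S'] [Algebra R R'] [Algebra S S'] [Algebra R S']
  [IsScalarTower R R' S'] [IsScalarTower R S S']

section defs

variable {P : Extension.{u} R S} {P' : Extension.{u} R' S'} (f : P.Hom P')

/-- `L_f : S' ⊗_S I/I² → I'/I'²` -/
noncomputable abbrev cotL : S' ⊗[S] P.Cotangent →ₗ[S'] P'.Cotangent :=
  LinearMap.liftBaseChange S' (Cotangent.map f)

/-- the kernel of `bcH1Map f` as a submodule of `S' ⊗_S I/I²` -/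
noncomputable def kerSub : Submodule S' (S' ⊗[S] P.Cotangent) :=
  LinearMap.ker (cotL (S' := S') f) ⊓ NLCx.bcH1 P S'

lemma mem_kerSub (x : S' ⊗[S] P.Cotangent) :
    x ∈ kerSub (S' := S') f ↔ cotL (S' := S') f x = 0 ∧ x ∈ NLCx.bcH1 P S' := by
  rw [kerSub, Submodule.mem_inf, LinearMap.mem_ker]

/-- the kernel of `bcH1Map f` is `kerSub f` -/
noncomputable def kerEquiv : LinearMap.ker (NLCx.bcH1Map (S' := S') f) ≃ₗ[S'] kerSub (S' := S') f := by
  have h1 : LinearMap.ker (NLCx.bcH1Map (S' := S') f) =
      (kerSub (S' := S') f).comap (NLCx.bcH1 P S').subtype := by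
    ext x
    rw [LinearMap.mem_ker, Submodule.mem_comap, mem_kerSub]
    constructor
    · intro h
      refine ⟨?_, x.2⟩
      have := congrArg Subtype.val h
      exact this
    · intro h
      exact Subtype.ext h.1
  exact (LinearEquiv.ofEq _ _ h1).trans (Submodule.comapSubtypeEquivOfLe inf_le_right)

end defs

section transfer

variable {P Q : Extension.{u} R S} {P' Q' : Extension.{u} R' S'}

/-- `h_* : S' ⊗_S I_P/I_P² → S' ⊗_S I_Q/I_Q²` -/
noncomputable abbrev cotBC (h : P.Hom Q) : S' ⊗[S] P.Cotangent →ₗ[S'] S' ⊗[S] Q.Cotangent :=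
  (Cotangent.map h).baseChange S'

lemma cotangentComplex_comp_map (h : P.Hom Q) :
    Q.cotangentComplex ∘ₗ Cotangent.map h = CotangentSpace.map h ∘ₗ P.cotangentComplex := by
  ext x
  exact (CotangentSpace.map_cotangentComplex h x).symm

/-- (F1) -/
lemma cotBC_mem_bcH1 (h : P.Hom Q) (x : S' ⊗[S] P.Cotangent) (hx : x ∈ NLCx.bcH1 P S') :
    cotBC (S' := S') h x ∈ NLCx.bcH1 Q S' := by
  rw [NLCx.bcH1, LinearMap.mem_ker] at hx ⊢
  have h1 : Q.cotangentComplex.baseChange S' ∘ₗ cotBC (S' := S') h =
      (CotangentSpace.map h).baseChange S' ∘ₗ P.cotangentComplex.baseChange S' := by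
    rw [← LinearMap.baseChange_comp, ← LinearMap.baseChange_comp, cotangentComplex_comp_map]
  have := LinearMap.congr_fun h1 x
  rw [LinearMap.comp_apply, LinearMap.comp_apply, hx, map_zero] at this
  exact this

/-- (F2) -/
lemma cotL_comp_right (h : P.Hom Q) (g : Q.Hom Q') :
    cotL (S' := S') (g.comp h) = cotL (S' := S') g ∘ₗ cotBC (S' := S') h := by
  ext x
  simp only [TensorProduct.AlgebraTensorModule.curry_apply, LinearMap.restrictScalars_self,
    TensorProduct.curry_apply, LinearMap.coe_restrictScalars, LinearMap.liftBaseChange_tmul,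
    one_smul, LinearMap.coe_comp, Function.comp_apply, Cotangent.map_comp,
    LinearMap.baseChange_tmul]

/-- (F3) -/
lemma cotL_comp_left (f : P.Hom P') (u' : P'.Hom Q') :
    cotL (S' := S') (u'.comp f) = Cotangent.map u' ∘ₗ cotL (S' := S') f :=
  Groth.Agent.Lib.NLBaseChange32.liftBaseChange_cot_comp f u'

/-- (F4) -/
lemma cotL_eq_of_mem_bcH1 (f₁ f₂ : P.Hom P') (x : S' ⊗[S] P.Cotangent)
    (hx : x ∈ NLCx.bcH1 P S') : cotL (S' := S') f₁ x = cotL (S' := S') f₂ x := by
  rw [NLCx.bcH1, LinearMap.mem_ker] at hx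
  have h1 : cotL (S' := S') f₁ - cotL (S' := S') f₂ =
      LinearMap.liftBaseChange S' (f₁.sub f₂) ∘ₗ P.cotangentComplex.baseChange S' := by
    rw [← map_sub, Cotangent.map_sub_map]
    ext y
    simp only [TensorProduct.AlgebraTensorModule.curry_apply, LinearMap.restrictScalars_self,
      TensorProduct.curry_apply, LinearMap.coe_restrictScalars, LinearMap.liftBaseChange_tmul,
      one_smul, LinearMap.coe_comp, Function.comp_apply, LinearMap.baseChange_tmul]
  have := LinearMap.congr_fun h1 x
  rw [LinearMap.sub_apply, LinearMap.comp_apply, hx, map_zero, sub_eq_zero] at this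
  exact this

/-- (F5) -/
lemma cotBC_eq_of_mem_bcH1 (h₁ h₂ : P.Hom Q) (x : S' ⊗[S] P.Cotangent)
    (hx : x ∈ NLCx.bcH1 P S') : cotBC (S' := S') h₁ x = cotBC (S' := S') h₂ x := by
  rw [NLCx.bcH1, LinearMap.mem_ker] at hx
  have h1 : cotBC (S' := S') h₁ - cotBC (S' := S') h₂ =
      (h₁.sub h₂).baseChange S' ∘ₗ P.cotangentComplex.baseChange S' := by
    rw [← LinearMap.baseChange_sub, Cotangent.map_sub_map, LinearMap.baseChange_comp]
  have := LinearMap.congr_fun h1 x
  rw [LinearMap.sub_apply, LinearMap.comp_apply, hx, map_zero, sub_eq_zero] at this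
  exact this

/-- (F6) -/
lemma cotBC_comp (h₁ : P.Hom Q) (h₂ : Q.Hom P) :
    cotBC (S' := S') (h₂.comp h₁) = cotBC (S' := S') h₂ ∘ₗ cotBC (S' := S') h₁ := by
  rw [← LinearMap.baseChange_comp]
  unfold cotBC
  rw [Cotangent.map_comp]
  rfl

lemma cotBC_id : cotBC (S' := S') (Extension.Hom.id P) = LinearMap.id := by
  rw [cotBC, Cotangent.map_id, LinearMap.baseChange_id]

variable (f : P.Hom P') (g : Q.Hom Q') (u : P.Hom Q) (v : Q.Hom P) (u' : P'.Hom Q')
  (v' : Q'.Hom P')

include u' in
lemma cotBC_mem_kerSub (x : S' ⊗[S] P.Cotangent) (hx : x ∈ kerSub (S' := S') f) :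
    cotBC (S' := S') u x ∈ kerSub (S' := S') g := by
  rw [mem_kerSub] at hx ⊢
  refine ⟨?_, cotBC_mem_bcH1 u x hx.2⟩
  have h1 : cotL (S' := S') g (cotBC (S' := S') u x) = cotL (S' := S') (g.comp u) x := by
    rw [cotL_comp_right]
    rfl
  rw [h1, cotL_eq_of_mem_bcH1 (g.comp u) (u'.comp f) x hx.2, cotL_comp_left,
    LinearMap.comp_apply, hx.1, map_zero]

lemma cotBC_cotBC (x : S' ⊗[S] P.Cotangent) (hx : x ∈ NLCx.bcH1 P S') :
    cotBC (S' := S') v (cotBC (S' := S') u x) = x := by
  have h1 : cotBC (S' := S') v (cotBC (S' := S') u x) = cotBC (S' := S') (v.comp u) x := by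
    rw [cotBC_comp]
    rfl
  rw [h1, cotBC_eq_of_mem_bcH1 (v.comp u) (Extension.Hom.id P) x hx, cotBC_id]
  rfl

/-- the kernel of `bcH1Map` does not depend on the presentations -/
noncomputable def kerSubEquiv : kerSub (S' := S') f ≃ₗ[S'] kerSub (S' := S') g where
  toFun x := ⟨cotBC (S' := S') u x.1, cotBC_mem_kerSub f g u u' x.1 x.2⟩
  invFun y := ⟨cotBC (S' := S') v y.1, cotBC_mem_kerSub g f v v' y.1 y.2⟩
  map_add' x y := Subtype.ext (map_add _ _ _)
  map_smul' c x := Subtype.ext (map_smul _ _ _)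
  left_inv x := Subtype.ext (cotBC_cotBC u v x.1 ((mem_kerSub f x.1).mp x.2).2)
  right_inv y := Subtype.ext (cotBC_cotBC v u y.1 ((mem_kerSub g y.1).mp y.2).2)

end transfer

section linalg

variable {A M N : Type*} [CommRing A] [AddCommGroup M] [Module A M] [AddCommGroup N] [Module A N]

/-- the kernel of a surjection of finite projective modules is finite projective -/
theorem finite_projective_ker (L : M →ₗ[A] N) (hL : Function.Surjective L)
    [Module.Finite A M] [Module.Projective A M] [Module.Projective A N] :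
    Module.Finite A (LinearMap.ker L) ∧ Module.Projective A (LinearMap.ker L) := by
  obtain ⟨σ, hσ⟩ := Module.projective_lifting_property L LinearMap.id hL
  have hσ' : ∀ y, L (σ y) = y := fun y => LinearMap.congr_fun hσ y
  let π : M →ₗ[A] LinearMap.ker L := (LinearMap.id - σ ∘ₗ L).codRestrict (LinearMap.ker L) (by
    intro x
    rw [LinearMap.mem_ker, LinearMap.sub_apply, map_sub, LinearMap.id_apply, LinearMap.comp_apply,
      hσ', sub_self])
  have hπ : π ∘ₗ (LinearMap.ker L).subtype = LinearMap.id := by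
    ext x
    have hx : L x.1 = 0 := x.2
    simp only [π, LinearMap.coe_comp, Submodule.coe_subtype, Function.comp_apply,
      LinearMap.codRestrict_apply, LinearMap.sub_apply, LinearMap.id_coe, id_eq, hx, map_zero,
      sub_zero]
  refine ⟨Module.Finite.of_surjective π ?_, Module.Projective.of_split _ π hπ⟩
  intro x
  exact ⟨x.1, LinearMap.congr_fun hπ x⟩

end linalg

section sameVars

variable {ι : Type} (G : Generators R S ι) (G' : Generators R' S' ι) (f : G.Hom G')
  (hf : ∀ i, f.val i = MvPolynomial.X i)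

include hf in
/-- for the same-variables morphism, `kerSub` is the full kernel of `S' ⊗ I/I² → I'/I'²` -/
theorem kerSub_sameVars :
    kerSub (S' := S') f.toExtensionHom = LinearMap.ker (cotL (S' := S') f.toExtensionHom) := by
  rw [kerSub, inf_eq_left]
  intro x hx
  rw [LinearMap.mem_ker] at hx
  rw [NLCx.bcH1, LinearMap.mem_ker]
  have key : G'.toExtension.cotangentComplex ∘ₗ cotL (S' := S') f.toExtensionHom =
      LinearMap.liftBaseChange S' (CotangentSpace.map f.toExtensionHom) ∘ₗ
        G.toExtension.cotangentComplex.baseChange S' := by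
    ext y
    simpa using (CotangentSpace.map_cotangentComplex f.toExtensionHom y).symm
  have h1 := LinearMap.congr_fun key x
  rw [LinearMap.comp_apply, LinearMap.comp_apply, hx, map_zero] at h1
  exact (Groth.Agent.Lib.NLBaseChange32.cotSpace_bij G G' f hf).1 (h1.symm.trans (map_zero _).symm)

include hf in
/-- the kernel of `S' ⊗ I/I² → I'/I'²` is finite projective when both conormal modules are -/
theorem finite_projective_kerSub_sameVars [Algebra.IsPushout R R' S S']
    [Module.Finite S G.toExtension.Cotangent] [Module.Projective S G.toExtension.Cotangent]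
    [Module.Projective S' G'.toExtension.Cotangent] :
    Module.Finite S' (kerSub (S' := S') f.toExtensionHom) ∧
      Module.Projective S' (kerSub (S' := S') f.toExtensionHom) := by
  rw [kerSub_sameVars G G' f hf]
  exact finite_projective_ker _ (Groth.Agent.Lib.NLBaseChange32.cot_surj G G' f hf)

end sameVars

section gens

variable {ι : Type*} (G : Generators R S ι)

theorem aeval_map_eq (p : MvPolynomial ι R) :
    MvPolynomial.aeval (R := R') (fun i => algebraMap S S' (G.val i))
      (MvPolynomial.map (algebraMap R R') p) = algebraMap S S' (MvPolynomial.aeval G.val p) := by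
  induction p using MvPolynomial.induction_on with
  | C a =>
    rw [MvPolynomial.map_C, MvPolynomial.aeval_C, MvPolynomial.aeval_C,
      ← IsScalarTower.algebraMap_apply, ← IsScalarTower.algebraMap_apply]
  | add p q hp hq => rw [map_add, map_add, hp, hq, map_add, map_add]
  | mul_X p i hp =>
    rw [map_mul, map_mul, hp, MvPolynomial.map_X, MvPolynomial.aeval_X, map_mul, map_mul,
      MvPolynomial.aeval_X]

/-- the base-changed generators generate the pushout -/
theorem aeval_surj_of [Algebra.IsPushout R R' S S'] :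
    Function.Surjective (MvPolynomial.aeval (R := R') (fun i => algebraMap S S' (G.val i))) := by
  have hbc : IsBaseChange R' (IsScalarTower.toAlgHom R S S').toLinearMap :=
    Algebra.IsPushout.out
  intro x
  refine hbc.inductionOn x (fun x => ∃ p, MvPolynomial.aeval (R := R')
    (fun i => algebraMap S S' (G.val i)) p = x) ⟨0, map_zero _⟩ ?_ ?_ ?_
  · intro s
    refine ⟨MvPolynomial.map (algebraMap R R') (G.σ s), ?_⟩
    rw [aeval_map_eq, G.aeval_val_σ s]
    rfl
  · rintro r' _ ⟨p, rfl⟩
    exact ⟨r' • p, by rw [map_smul]⟩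
  · rintro _ _ ⟨p, rfl⟩ ⟨q, rfl⟩
    exact ⟨p + q, map_add _ _ _⟩

end gens

end Groth.Agent.Lib.NLBcH1Ker32
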