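import Groth.Agent.Lib.NLQis32
import Groth.Prelude.Def_PBC

/-!
# Naive cotangent complex and ind-étale / henselization base change (helper32)

* `formallyEtale_of_isIndEtale`: an ind-étale algebra is formally étale.
-/

set_option autoImplicit false
universe u

open TensorProduct Algebra CategoryTheory Limits

namespace Groth.Agent.Lib.NLEtaleBC32

section colim

variable {C : Type*} [Category C] {J : Type*} [Category J] {D : J ⥤ C} {c : Cocone D}

/-- If post-composition with `q` is bijective on maps out of every `D.obj j`, it is bijective on maps out of the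
colimit. -/
theorem comp_bijective_of_isColimit (hc : IsColimit c) {Y Z : C} (q : Y ⟶ Z)
    (h : ∀ j, Function.Bijective (fun m : D.obj j ⟶ Y => m ≫ q)) :
    Function.Bijective (fun m : c.pt ⟶ Y => m ≫ q) := by
  constructor
  · intro m₁ m₂ hm
    apply hc.hom_ext
    intro j
    apply (h j).1
    change (c.ι.app j ≫ m₁) ≫ q = (c.ι.app j ≫ m₂) ≫ q
    rw [Category.assoc, Category.assoc]
    exact congrArg (fun k => c.ι.app j ≫ k) hm
  · intro n
    choose l hl using fun j => (h j).2 (c.ι.app j ≫ n)
    have hnat : ∀ {j k : J} (u : j ⟶ k), D.map u ≫ l k = l j := by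
      intro j k u
      apply (h j).1
      change (D.map u ≫ l k) ≫ q = l j ≫ q
      rw [Category.assoc]
      have h1 : l k ≫ q = c.ι.app k ≫ n := hl k
      have h2 : l j ≫ q = c.ι.app j ≫ n := hl j
      rw [h1, h2, ← Category.assoc, c.w]
    let s : Cocone D :=
      { pt := Y
        ι :=
          { app := l
            naturality := fun j k u => by
              rw [hnat u]
              exact (Category.comp_id _).symm } }
    refine ⟨hc.desc s, ?_⟩
    apply hc.hom_ext
    intro j
    change c.ι.app j ≫ hc.desc s ≫ q = c.ι.app j ≫ n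
    rw [← Category.assoc, hc.fac]
    exact hl j

end colim

section Under

variable {A : Type u} [CommRing A]

/-- the object of `Under A` attached to an `A`-algebra -/
noncomputable abbrev uObj (E : Type u) [CommRing E] [Algebra A E] : Under (CommRingCat.of A) :=
  Under.mk (CommRingCat.ofHom (algebraMap A E))

variable {E T : Type u} [CommRing E] [Algebra A E] [CommRing T] [Algebra A T]

/-- algebra maps as morphisms of `Under A` -/
noncomputable def uHom (g : E →ₐ[A] T) : uObj (A := A) E ⟶ uObj T :=
  Under.homMk (CommRingCat.ofHom g.toRingHom) (by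
    ext a
    exact g.commutes a)

/-- morphisms of `Under A` as algebra maps -/
noncomputable def algHomOfU (m : uObj (A := A) E ⟶ uObj T) : E →ₐ[A] T :=
  { toRingHom := m.right.hom
    commutes' := fun a => by
      have := Under.w m
      exact congrArg (fun k => k.hom a) this }

lemma algHomOfU_uHom (g : E →ₐ[A] T) : algHomOfU (uHom g) = g := by
  ext x
  rfl

lemma uHom_algHomOfU (m : uObj (A := A) E ⟶ uObj T) : uHom (algHomOfU m) = m := by
  ext x
  rfl

lemma uHom_comp {T' : Type u} [CommRing T'] [Algebra A T'] (g : E →ₐ[A] T) (k : T →ₐ[A] T') :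
    uHom (k.comp g) = uHom g ≫ uHom k := by
  ext x
  rfl

lemma uHom_injective : Function.Injective (uHom (A := A) (E := E) (T := T)) := by
  intro g₁ g₂ h
  rw [← algHomOfU_uHom g₁, ← algHomOfU_uHom g₂, h]

lemma uHom_surjective : Function.Surjective (uHom (A := A) (E := E) (T := T)) :=
  fun m => ⟨algHomOfU m, uHom_algHomOfU m⟩

end Under

section indEtale

variable {A : Type u} [CommRing A]

theorem comp_bijective_uObj (E : Type u) [CommRing E] [Algebra A E] [Algebra.FormallyEtale A E]
    {T : Type u} [CommRing T] [Algebra A T] (I : Ideal T) (hI : I ^ 2 = ⊥) :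
    Function.Bijective (fun m : uObj (A := A) E ⟶ uObj T => m ≫ uHom (Ideal.Quotient.mkₐ A I)) := by
  have h := Algebra.FormallyEtale.comp_bijective A E I hI
  have heq : (fun m : uObj (A := A) E ⟶ uObj T => m ≫ uHom (Ideal.Quotient.mkₐ A I)) =
      uHom ∘ ((Ideal.Quotient.mkₐ A I).comp : (E →ₐ[A] T) → (E →ₐ[A] T ⧸ I)) ∘ algHomOfU := by
    funext m
    simp only [Function.comp_apply]
    rw [uHom_comp, uHom_algHomOfU]
  rw [heq]
  refine Function.Bijective.comp ⟨uHom_injective, uHom_surjective⟩ (Function.Bijective.comp h ?_)
  exact ⟨fun m₁ m₂ h => by rw [← uHom_algHomOfU m₁, ← uHom_algHomOfU m₂, h],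
    fun g => ⟨uHom g, algHomOfU_uHom g⟩⟩

/-- An ind-étale algebra is formally étale. -/
theorem formallyEtale_of_isIndEtale (A B : Type u) [CommRing A] [CommRing B] [Algebra A B]
    (h : EtPBC.IsIndEtale A B) : Algebra.FormallyEtale A B := by
  obtain ⟨J, hJ, hJf, D, c, hc, hD, ⟨e⟩⟩ := h
  rw [Algebra.FormallyEtale.iff_comp_bijective]
  intro T _ _ I hI
  have key : Function.Bijective
      (fun m : c.pt ⟶ uObj T => m ≫ uHom (Ideal.Quotient.mkₐ A I)) := by
    apply comp_bijective_of_isColimit hc
    intro j
    letI := (D.obj j).hom.hom.toAlgebra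
    haveI : Algebra.Etale A (D.obj j).right := hD j
    exact comp_bijective_uObj (A := A) (D.obj j).right I hI
  have key2 : Function.Bijective
      (fun m : uObj (A := A) B ⟶ uObj T => m ≫ uHom (Ideal.Quotient.mkₐ A I)) := by
    have heq : (fun m : uObj (A := A) B ⟶ uObj T => m ≫ uHom (Ideal.Quotient.mkₐ A I)) =
        (fun m => e.inv ≫ m) ∘
          (fun m : c.pt ⟶ uObj T => m ≫ uHom (Ideal.Quotient.mkₐ A I)) ∘ (fun m => e.hom ≫ m) := by
      funext m
      simp only [Function.comp_apply, Category.assoc, Iso.inv_hom_id_assoc]
    rw [heq]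
    refine Function.Bijective.comp ?_ (Function.Bijective.comp key ?_)
    · exact ⟨fun m₁ m₂ h => (cancel_epi e.inv).mp h, fun m => ⟨e.hom ≫ m, by simp⟩⟩
    · exact ⟨fun m₁ m₂ h => (cancel_epi e.hom).mp h, fun m => ⟨e.inv ≫ m, by simp⟩⟩
  have heq : ((Ideal.Quotient.mkₐ A I).comp : (B →ₐ[A] T) → (B →ₐ[A] T ⧸ I)) =
      algHomOfU ∘ (fun m : uObj (A := A) B ⟶ uObj T => m ≫ uHom (Ideal.Quotient.mkₐ A I)) ∘
        uHom := by
    funext g
    simp only [Function.comp_apply]
    rw [← uHom_comp, algHomOfU_uHom]
  rw [heq]
  refine Function.Bijective.comp ?_ (Function.Bijective.comp key2 ⟨uHom_injective, uHom_surjective⟩)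
  exact ⟨fun m₁ m₂ h => by rw [← uHom_algHomOfU m₁, ← uHom_algHomOfU m₂, h],
    fun g => ⟨uHom g, algHomOfU_uHom g⟩⟩

end indEtale

section beta

open Algebra.Generators

variable {R S T : Type u} [CommRing R] [CommRing S] [CommRing T] [Algebra R S] [Algebra R T]
  [Algebra S T] [IsScalarTower R S T]

/-- If `T ⊗ d_P` is injective, then `H¹(L_{T/R}) → H¹(L_{T/S})` is injective (computed on the composite
presentation). -/
theorem h1Cotangent_map_ofComp_injective {ι σ : Type u} (Q : Generators S T ι) (P : Generators R S σ)
    (hinj : Function.Injective (P.toExtension.cotangentComplex.baseChange T)) :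
    Function.Injective (Extension.H1Cotangent.map (Q.ofComp P).toExtensionHom) := by
  rw [injective_iff_map_eq_zero]
  intro x hx
  have hx1 : Extension.Cotangent.map (Q.ofComp P).toExtensionHom x.1 = 0 := by
    have := congrArg Subtype.val hx
    exact this
  obtain ⟨t, ht⟩ := (Generators.Cotangent.exact Q P x.1).mp hx1
  have hd : (Q.comp P).toExtension.cotangentComplex x.1 = 0 := x.2
  rw [← ht] at hd
  have hc := LinearMap.congr_fun (Generators.H1Cotangent.map_comp_cotangentComplex_baseChange Q P) t
  simp only [LinearMap.coe_comp, Function.comp_apply] at hc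
  rw [hd] at hc
  have h0 : P.toExtension.cotangentComplex.baseChange T t = 0 := by
    apply Generators.CotangentSpace.map_toComp_injective Q P
    rw [hc, map_zero]
  have ht0 : t = 0 := hinj (by rw [h0, map_zero])
  apply Subtype.ext
  rw [← ht, ht0, map_zero]
  rfl

/-- For `S` formally étale over `R`, the differential of the naive cotangent complex of `S/R` is bijective. -/
theorem cotangentComplex_bijective_of_formallyEtale [Algebra.FormallyEtale R S] :
    Function.Bijective (Generators.self R S).toExtension.cotangentComplex := by
  constructor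
  · rw [← LinearMap.ker_eq_bot, Submodule.eq_bot_iff]
    intro x hx
    have hs : Subsingleton (Algebra.H1Cotangent R S) := inferInstance
    have : (⟨x, hx⟩ : Algebra.H1Cotangent R S) = 0 := hs.elim _ _
    exact congrArg Subtype.val this
  · intro y
    exact ((Generators.self R S).toExtension.exact_cotangentComplex_toKaehler y).mp
      (Subsingleton.elim _ _)

theorem baseChange_injective_of_bijective {M N : Type*} [AddCommGroup M] [AddCommGroup N]
    [Module S M] [Module S N] (d : M →ₗ[S] N) (hd : Function.Bijective d) :
    Function.Bijective (d.baseChange T) := by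
  let e : M ≃ₗ[S] N := LinearEquiv.ofBijective d hd
  have h1 : (e.symm.toLinearMap.baseChange T) ∘ₗ (d.baseChange T) = LinearMap.id := by
    rw [← LinearMap.baseChange_comp]
    have : e.symm.toLinearMap ∘ₗ d = LinearMap.id := by
      ext x
      exact e.symm_apply_apply x
    rw [this, LinearMap.baseChange_id]
  have h2 : (d.baseChange T) ∘ₗ (e.symm.toLinearMap.baseChange T) = LinearMap.id := by
    rw [← LinearMap.baseChange_comp]
    have : d ∘ₗ e.symm.toLinearMap = LinearMap.id := by
      ext x
      exact e.apply_symm_apply x
    rw [this, LinearMap.baseChange_id]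
  exact ⟨fun x y h => by
      have := congrArg (e.symm.toLinearMap.baseChange T) h
      rwa [← LinearMap.comp_apply, ← LinearMap.comp_apply, h1] at this,
    fun y => ⟨e.symm.toLinearMap.baseChange T y, LinearMap.congr_fun h2 y⟩⟩

variable (R S T)

/-- For `S` formally étale over `R`, `H¹(L_{T/R}) → H¹(L_{T/S})` is injective. -/
theorem h1Cotangent_map_injective_of_formallyEtale [Algebra.FormallyEtale R S] :
    Function.Injective (Algebra.H1Cotangent.map R S T T) := by
  let Q := Generators.self S T
  let P := Generators.self R S
  let W := Generators.self R T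
  have hcomp := h1Cotangent_map_ofComp_injective Q P
    (baseChange_injective_of_bijective (T := T) _ cotangentComplex_bijective_of_formallyEtale).1
  have key : (Extension.H1Cotangent.map (Generators.defaultHom W Q).toExtensionHom).restrictScalars T
      ∘ₗ (Generators.H1Cotangent.equiv (Q.comp P) W).toLinearMap =
      Extension.H1Cotangent.map (Q.ofComp P).toExtensionHom := by
    change (Extension.H1Cotangent.map (Generators.defaultHom W Q).toExtensionHom).restrictScalars T
      ∘ₗ (Extension.H1Cotangent.map _) = _
    rw [← Extension.H1Cotangent.map_comp, Extension.H1Cotangent.map_eq _ (Q.ofComp P).toExtensionHom]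
  intro y₁ y₂ h
  obtain ⟨z₁, rfl⟩ := (Generators.H1Cotangent.equiv (Q.comp P) W).surjective y₁
  obtain ⟨z₂, rfl⟩ := (Generators.H1Cotangent.equiv (Q.comp P) W).surjective y₂
  have h' : Extension.H1Cotangent.map (Q.ofComp P).toExtensionHom z₁ =
      Extension.H1Cotangent.map (Q.ofComp P).toExtensionHom z₂ := by
    rw [← key]
    exact h
  rw [hcomp h']

/-- For `S` formally étale over `R`, `H¹(L_{T/R}) → H¹(L_{T/S})` is bijective. -/
theorem h1Cotangent_map_bijective_of_formallyEtale [Algebra.FormallyEtale R S] :
    Function.Bijective (Algebra.H1Cotangent.map R S T T) := by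
  refine ⟨h1Cotangent_map_injective_of_formallyEtale R S T, fun y => ?_⟩
  exact (Algebra.H1Cotangent.exact_map_δ R S T y).mp (Subsingleton.elim _ _)

/-- For `S` formally unramified over `R`, `Ω_{T/R} → Ω_{T/S}` is bijective. -/
theorem kaehler_map_bijective_of_formallyUnramified [Algebra.FormallyUnramified R S] :
    Function.Bijective (KaehlerDifferential.map R S T T) := by
  refine ⟨?_, KaehlerDifferential.map_surjective R S T⟩
  rw [injective_iff_map_eq_zero]
  intro x hx
  obtain ⟨w, rfl⟩ := (KaehlerDifferential.exact_mapBaseChange_map R S T x).mp hx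
  rw [Subsingleton.elim w 0, map_zero]

end beta

section alpha

open Algebra.Extension

variable {R S T : Type u} [CommRing R] [CommRing S] [CommRing T] [Algebra R S] [Algebra R T]
  [Algebra S T] [IsScalarTower R S T]

/-- the morphism from the standard presentation to an arbitrary extension -/
noncomputable def homOfSelf (Q : Extension.{u} R T) : (Generators.self R T).toExtension.Hom Q where
  toRingHom := (MvPolynomial.aeval (R := R) (fun t : T => Q.σ t)).toRingHom
  toRingHom_algebraMap x := by
    change MvPolynomial.aeval (R := R) (fun t : T => Q.σ t) (MvPolynomial.C x) = _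
    rw [MvPolynomial.aeval_C]
    rfl
  algebraMap_toRingHom x := by
    have h : (IsScalarTower.toAlgHom R Q.Ring T).comp
        (MvPolynomial.aeval (R := R) (fun t : T => Q.σ t)) =
        IsScalarTower.toAlgHom R (Generators.self R T).toExtension.Ring T := by
      apply MvPolynomial.algHom_ext
      intro t
      change algebraMap Q.Ring T (MvPolynomial.aeval (R := R) (fun t : T => Q.σ t)
        (MvPolynomial.X t)) = algebraMap (Generators.self R T).toExtension.Ring T (MvPolynomial.X t)
      rw [MvPolynomial.aeval_X, Q.algebraMap_σ]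
      have h2 : algebraMap (Generators.self R T).toExtension.Ring T (MvPolynomial.X t) =
          MvPolynomial.aeval (Generators.self R T).val (MvPolynomial.X t) :=
        (Generators.self R T).algebraMap_apply (MvPolynomial.X t)
      rw [h2, MvPolynomial.aeval_X]
      rfl
    exact AlgHom.congr_fun h x

/-- **Étale-type base change of `H¹`**, abstract form: if `Q` is an extension of `T` over `R` by a formally smooth
`R`-algebra receiving a formally étale map from the polynomial ring of the standard presentation of `S`, with
`Q ⊗_P I ≅ J`, and `T` is flat over `S`, then `T ⊗_S H¹(L_{S/R}) → H¹(L_{T/R})` is bijective. -/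
theorem bijective_liftBaseChange_h1Cotangent_map [Module.Flat S T]
    (Q : Extension.{u} R T) [Algebra.FormallySmooth R Q.Ring]
    (f : (Generators.self R S).toExtension.Hom Q)
    [alg : Algebra (Generators.self R S).toExtension.Ring Q.Ring]
    (halg : algebraMap (Generators.self R S).toExtension.Ring Q.Ring = f.toRingHom)
    (H₁ : f.toRingHom.FormallyEtale)
    (H₂ : Function.Bijective ((f.mapKer halg).liftBaseChange Q.Ring)) :
    Function.Bijective ((Algebra.H1Cotangent.map R R S T).liftBaseChange T) := by
  haveI : Algebra.FormallySmooth R (Generators.self R T).toExtension.Ring :=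
    inferInstanceAs (Algebra.FormallySmooth R (MvPolynomial T R))
  let e₁ := Extension.tensorH1CotangentOfFormallyEtale f halg H₁ H₂
  let h := homOfSelf Q
  let d := ((Generators.self R S).defaultHom (Generators.self R T)).toExtensionHom
  have hb : Function.Bijective (Extension.H1Cotangent.map h) := by
    rw [← Extension.H1Cotangent.equivOfFormallySmooth_toLinearMap h]
    exact (Extension.H1Cotangent.equivOfFormallySmooth _ _).bijective
  have hcomp : ∀ w, Extension.H1Cotangent.map h
      ((Algebra.H1Cotangent.map R R S T).liftBaseChange T w) = e₁ w := by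
    intro w
    induction w using TensorProduct.induction_on with
    | zero => simp only [map_zero]
    | add x y hx hy => simp only [map_add, hx, hy]
    | tmul a z =>
      change Extension.H1Cotangent.map h
        ((Algebra.H1Cotangent.map R R S T).liftBaseChange T (a ⊗ₜ z)) =
        (Extension.H1Cotangent.map f).liftBaseChange T (a ⊗ₜ z)
      rw [LinearMap.liftBaseChange_tmul, LinearMap.liftBaseChange_tmul, map_smul]
      congr 1
      change Extension.H1Cotangent.map h (Extension.H1Cotangent.map d z) = _
      rw [← Extension.H1Cotangent.map_comp_apply, Extension.H1Cotangent.map_eq (h.comp d) f]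
  constructor
  · intro w₁ w₂ hw
    apply e₁.injective
    rw [← hcomp, ← hcomp, hw]
  · intro y
    obtain ⟨w, hw⟩ := e₁.surjective (Extension.H1Cotangent.map h y)
    refine ⟨w, hb.1 ?_⟩
    rw [hcomp, hw]

end alpha

section lift

open Algebra.Extension

variable {A B Bh : Type u} [CommRing A] [CommRing B] [CommRing Bh] [Algebra A B] [Algebra B Bh]
  [Algebra A Bh] [IsScalarTower A B Bh]

/-- `Q₀ ⊗_P I → Q₀` is injective with image `I Q₀` for flat `Q₀`. -/
theorem mapKer_bijective_of_flat {P : Extension.{u} A B} {Q : Extension.{u} A Bh} (f : P.Hom Q)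
    [alg : Algebra P.Ring Q.Ring] (halg : algebraMap P.Ring Q.Ring = f.toRingHom)
    [Module.Flat P.Ring Q.Ring] (hker : Q.ker = P.ker.map (algebraMap P.Ring Q.Ring)) :
    Function.Bijective ((f.mapKer halg).liftBaseChange Q.Ring) := by
  have hval : ∀ z : Q.Ring ⊗[P.Ring] P.ker,
      (((f.mapKer halg).liftBaseChange Q.Ring z : Q.ker) : Q.Ring) =
        (TensorProduct.rid P.Ring Q.Ring) (P.ker.subtype.lTensor Q.Ring z) := by
    intro z
    induction z using TensorProduct.induction_on with
    | zero => simp only [map_zero, ZeroMemClass.coe_zero]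
    | add x y hx hy => simp only [map_add, Submodule.coe_add, hx, hy]
    | tmul q x =>
      simp only [LinearMap.liftBaseChange_tmul, LinearMap.lTensor_tmul, Submodule.subtype_apply,
        TensorProduct.rid_tmul, Submodule.coe_smul, Hom.mapKer_apply_coe, smul_eq_mul]
      rw [Algebra.smul_def, halg, mul_comm]
  constructor
  · intro z₁ z₂ h
    have h1 := Module.Flat.lTensor_preserves_injective_linearMap (M := Q.Ring) P.ker.subtype
      Subtype.val_injective
    apply h1
    apply (TensorProduct.rid P.Ring Q.Ring).injective
    rw [← hval, ← hval, h]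
  · intro y
    have hy : (y : Q.Ring) ∈ P.ker.map (algebraMap P.Ring Q.Ring) := hker ▸ y.2
    have key : ∀ w ∈ P.ker.map (algebraMap P.Ring Q.Ring),
        ∃ z : Q.Ring ⊗[P.Ring] P.ker, (((f.mapKer halg).liftBaseChange Q.Ring z : Q.ker) : Q.Ring) = w := by
      intro w hw
      refine Submodule.span_induction (p := fun w _ => ∃ z : Q.Ring ⊗[P.Ring] P.ker,
        (((f.mapKer halg).liftBaseChange Q.Ring z : Q.ker) : Q.Ring) = w) ?_ ?_ ?_ ?_ hw
      · rintro _ ⟨x, hx, rfl⟩
        refine ⟨1 ⊗ₜ ⟨x, hx⟩, ?_⟩
        rw [LinearMap.liftBaseChange_tmul, one_smul, Hom.mapKer_apply_coe, halg]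
      · exact ⟨0, by simp only [map_zero, ZeroMemClass.coe_zero]⟩
      · rintro a b _ _ ⟨za, rfl⟩ ⟨zb, rfl⟩
        exact ⟨za + zb, by simp only [map_add, Submodule.coe_add]⟩
      · rintro q a _ ⟨za, rfl⟩
        exact ⟨q • za, by simp only [map_smul, Submodule.coe_smul]⟩
    obtain ⟨z, hz⟩ := key y hy
    exact ⟨z, Subtype.ext hz⟩

/-- **Base change of `H¹` along `B → Bh`**, given a flat formally étale lift `Q₀` of `Bh` over the polynomial ring
of the standard presentation of `B`. -/
theorem bijective_of_lift [Module.Flat B Bh] (Q₀ : Type u) [CommRing Q₀]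
    [Algebra (Generators.self A B).toExtension.Ring Q₀]
    [Algebra A Q₀] [IsScalarTower A (Generators.self A B).toExtension.Ring Q₀]
    [Algebra.FormallyEtale (Generators.self A B).toExtension.Ring Q₀]
    [Module.Flat (Generators.self A B).toExtension.Ring Q₀]
    (ψ : Q₀ →+* Bh) (hψ : Function.Surjective ψ)
    (hcomm : ∀ x : (Generators.self A B).toExtension.Ring,
      ψ (algebraMap (Generators.self A B).toExtension.Ring Q₀ x) =
        algebraMap B Bh (algebraMap (Generators.self A B).toExtension.Ring B x))
    (hker : RingHom.ker ψ =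
      (Generators.self A B).toExtension.ker.map
        (algebraMap (Generators.self A B).toExtension.Ring Q₀)) :
    Function.Bijective ((Algebra.H1Cotangent.map A A B Bh).liftBaseChange Bh) := by
  let ψₐ : Q₀ →ₐ[A] Bh :=
    { ψ with
      commutes' := fun a => by
        change ψ (algebraMap A Q₀ a) = algebraMap A Bh a
        rw [IsScalarTower.algebraMap_apply A (Generators.self A B).toExtension.Ring Q₀, hcomm,
          ← IsScalarTower.algebraMap_apply A (Generators.self A B).toExtension.Ring B,
          ← IsScalarTower.algebraMap_apply A B Bh] }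
  let Q : Extension.{u} A Bh := Extension.ofSurjective ψₐ hψ
  haveI : Algebra.FormallySmooth A (Generators.self A B).toExtension.Ring :=
    inferInstanceAs (Algebra.FormallySmooth A (MvPolynomial B A))
  haveI : Algebra.FormallySmooth A Q.Ring :=
    Algebra.FormallySmooth.comp A (Generators.self A B).toExtension.Ring Q₀
  let f : (Generators.self A B).toExtension.Hom Q :=
    { toRingHom := algebraMap (Generators.self A B).toExtension.Ring Q₀
      toRingHom_algebraMap := fun a =>
        (IsScalarTower.algebraMap_apply A (Generators.self A B).toExtension.Ring Q₀ a).symm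
      algebraMap_toRingHom := hcomm }
  letI alg : Algebra (Generators.self A B).toExtension.Ring Q.Ring :=
    (inferInstance : Algebra (Generators.self A B).toExtension.Ring Q₀)
  have halg : algebraMap (Generators.self A B).toExtension.Ring Q.Ring = f.toRingHom := rfl
  haveI : Module.Flat (Generators.self A B).toExtension.Ring Q.Ring :=
    (inferInstance : Module.Flat (Generators.self A B).toExtension.Ring Q₀)
  have H₁ : f.toRingHom.FormallyEtale :=
    RingHom.formallyEtale_algebraMap.mpr
      (inferInstance : Algebra.FormallyEtale (Generators.self A B).toExtension.Ring Q₀)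
  have H₂ := mapKer_bijective_of_flat f halg hker
  exact bijective_liftBaseChange_h1Cotangent_map Q f halg H₁ H₂

end lift

section localLift

open Algebra.Extension

variable (A B : Type u) [CommRing A] [CommRing B] [IsLocalRing B] [Algebra A B]

/-- the prime of the polynomial ring `A[B]` lying under the maximal ideal of `B` -/
noncomputable def primeP : Ideal (Generators.self A B).toExtension.Ring :=
  (IsLocalRing.maximalIdeal B).comap (algebraMap (Generators.self A B).toExtension.Ring B)

instance : (primeP A B).IsPrime := by
  unfold primeP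
  exact Ideal.comap_isPrime _ _

/-- the localization of `A[B]` at `primeP` -/
abbrev LocP : Type u := Localization.AtPrime (primeP A B)

lemma isUnit_algebraMap_of_primeCompl (y : (primeP A B).primeCompl) :
    IsUnit (algebraMap (Generators.self A B).toExtension.Ring B y) := by
  have hy : (y : (Generators.self A B).toExtension.Ring) ∉ primeP A B := y.2
  have : algebraMap (Generators.self A B).toExtension.Ring B y ∉ IsLocalRing.maximalIdeal B :=
    fun h => hy h
  simpa [IsLocalRing.mem_maximalIdeal] using this

/-- the surjection `A[B]_p → B` -/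
noncomputable def rhoP : LocP A B →+* B :=
  IsLocalization.lift (M := (primeP A B).primeCompl) (isUnit_algebraMap_of_primeCompl A B)

lemma rhoP_algebraMap (x : (Generators.self A B).toExtension.Ring) :
    rhoP A B (algebraMap _ (LocP A B) x) = algebraMap _ B x :=
  IsLocalization.lift_eq _ x

lemma rhoP_surjective : Function.Surjective (rhoP A B) := by
  intro b
  obtain ⟨x, rfl⟩ := (Generators.self A B).toExtension.algebraMap_surjective b
  exact ⟨algebraMap _ (LocP A B) x, rhoP_algebraMap A B x⟩

lemma ker_rhoP :
    RingHom.ker (rhoP A B) =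
      (Generators.self A B).toExtension.ker.map
        (algebraMap (Generators.self A B).toExtension.Ring (LocP A B)) := by
  apply le_antisymm
  · intro z hz
    obtain ⟨x, s, rfl⟩ := IsLocalization.exists_mk'_eq (primeP A B).primeCompl z
    rw [RingHom.mem_ker] at hz
    have h1 : rhoP A B (IsLocalization.mk' (LocP A B) x s) = 0 := hz
    unfold rhoP at h1
    rw [IsLocalization.lift_mk'_spec, mul_zero] at h1
    rw [IsLocalization.mk'_mem_map_algebraMap_iff]
    exact ⟨1, Submonoid.one_mem _, by rw [one_mul]; exact h1⟩
  · rw [Ideal.map_le_iff_le_comap]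
    intro x hx
    rw [Ideal.mem_comap, RingHom.mem_ker, rhoP_algebraMap]
    exact hx

variable {A B} {Bh : Type u} [CommRing Bh] [Algebra B Bh] [Algebra A Bh] [IsScalarTower A B Bh]

/-- **Base change of `H¹` along `B → Bh`**, given a flat formally étale local lift `Lh` of `Bh` over `A[B]_p`. -/
theorem bijective_of_localLift [Module.Flat B Bh] (Lh : Type u) [CommRing Lh]
    [Algebra (LocP A B) Lh] [Algebra.FormallyEtale (LocP A B) Lh] [Module.Flat (LocP A B) Lh]
    (ψ : Lh →+* Bh) (hψ : Function.Surjective ψ)
    (hcomm : ∀ r : LocP A B, ψ (algebraMap (LocP A B) Lh r) = algebraMap B Bh (rhoP A B r))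
    (hker : RingHom.ker ψ = (RingHom.ker (rhoP A B)).map (algebraMap (LocP A B) Lh)) :
    Function.Bijective ((Algebra.H1Cotangent.map A A B Bh).liftBaseChange Bh) := by
  letI alg1 : Algebra (Generators.self A B).toExtension.Ring Lh :=
    ((algebraMap (LocP A B) Lh).comp
      (algebraMap (Generators.self A B).toExtension.Ring (LocP A B))).toAlgebra
  haveI : IsScalarTower (Generators.self A B).toExtension.Ring (LocP A B) Lh :=
    IsScalarTower.of_algebraMap_eq' rfl
  letI alg2 : Algebra A Lh :=
    ((algebraMap (Generators.self A B).toExtension.Ring Lh).comp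
      (algebraMap A (Generators.self A B).toExtension.Ring)).toAlgebra
  haveI : IsScalarTower A (Generators.self A B).toExtension.Ring Lh :=
    IsScalarTower.of_algebraMap_eq' rfl
  haveI : Algebra.FormallyEtale (Generators.self A B).toExtension.Ring (LocP A B) :=
    Algebra.FormallyEtale.of_isLocalization (primeP A B).primeCompl
  haveI : Algebra.FormallyEtale (Generators.self A B).toExtension.Ring Lh :=
    Algebra.FormallyEtale.comp _ (LocP A B) Lh
  haveI : Module.Flat (Generators.self A B).toExtension.Ring (LocP A B) :=
    IsLocalization.flat _ (primeP A B).primeCompl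
  haveI : Module.Flat (Generators.self A B).toExtension.Ring Lh :=
    Module.Flat.trans _ (LocP A B) Lh
  refine bijective_of_lift Lh ψ hψ ?_ ?_
  · intro x
    rw [IsScalarTower.algebraMap_apply (Generators.self A B).toExtension.Ring (LocP A B) Lh, hcomm,
      rhoP_algebraMap]
  · rw [hker, ker_rhoP, Ideal.map_map]
    rfl

end localLift

end Groth.Agent.Lib.NLEtaleBC32
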