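import Groth.Agent.S2236
import Groth.Agent.Lib.CotangentFibre32
import Groth.Agent.Lib.TorShift21

/-!
# Local complete intersections from projective conormal modules, and fibres (helper32)

* `isLCI_of_projective_cotangent`: `A` Noetherian, `B` of finite Tor-dimension over `A`, some finite presentation
  `A[x_1..x_n] → B` with projective conormal module ⇒ `A → B` is a local complete intersection (Vasconcelos, S2189).
* `isLCI_tensor_field`: `A → B` flat, a presentation in finitely many variables with flat conormal module,
  `T` a field over `A` ⇒ `T → T ⊗[A] B` is a local complete intersection.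
-/

set_option autoImplicit false
universe u
attribute [local instance] HasDerivedCategory.standard
open LCI TensorProduct

namespace Groth.Agent.Lib.NLFibre32

/-- Vasconcelos: a finite type algebra of finite Tor-dimension over a Noetherian ring with a presentation whose
conormal module is projective is a local complete intersection. -/
theorem isLCI_of_projective_cotangent {A B : Type u} [CommRing A] [CommRing B]
    [Algebra A B] [IsNoetherianRing A] (hB : DRing.HasFiniteTorDim A B) {n : ℕ}
    (G : Algebra.Generators A B (Fin n)) [hproj : Module.Projective B G.toExtension.Cotangent] :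
    LCI.IsLCI A B := by
  let f : MvPolynomial (Fin n) A →ₐ[A] B := MvPolynomial.aeval G.val
  have hf : Function.Surjective f := by
    intro b
    obtain ⟨x, hx⟩ := G.algebraMap_surjective b
    refine ⟨x, ?_⟩
    rw [← hx, Algebra.Generators.algebraMap_apply]
  have hft : Algebra.FiniteType A B := Algebra.FiniteType.of_surjective f hf
  have hker : G.toExtension.ker = RingHom.ker f.toRingHom := by
    ext x
    change algebraMap G.Ring B x = 0 ↔ f x = 0
    rw [Algebra.Generators.algebraMap_apply]
  refine ⟨hft, n, f, hf, ?_⟩
  rw [← hker]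
  -- Noetherian rings
  have hNP : IsNoetherianRing (MvPolynomial (Fin n) A) := inferInstance
  -- finite projective dimension
  let _ : Algebra (MvPolynomial (Fin n) A) B := G.algebra
  have : IsScalarTower A (MvPolynomial (Fin n) A) B := inferInstanceAs (IsScalarTower A G.Ring B)
  have hsurj : Function.Surjective (algebraMap (MvPolynomial (Fin n) A) B) :=
    G.toExtension.algebraMap_surjective
  have hproj' : Module.Projective
      (MvPolynomial (Fin n) A ⧸ RingHom.ker (algebraMap (MvPolynomial (Fin n) A) B))
      (RingHom.ker (algebraMap (MvPolynomial (Fin n) A) B)).Cotangent :=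
    Groth.Agent.S2236.projective_ker_cotangent G.toExtension
  change LCI.IsKoszulRegularIdeal (RingHom.ker (algebraMap (MvPolynomial (Fin n) A) B))
  obtain ⟨d, hd⟩ := hB
  have hd' : DRing.HasTorDimLE (MvPolynomial (Fin n) A) (d + n) B :=
    Groth.Agent.Lib.TorDimPoly.hasTorDimLE_mvPolynomial A n B d hd
  have hfinB : Module.Finite (MvPolynomial (Fin n) A) B :=
    Module.Finite.of_surjective (Algebra.linearMap (MvPolynomial (Fin n) A) B) hsurj
  have hpdB := Groth.Agent.Lib.NLTorAmp32.hasProjectiveDimensionLT_of_hasTorDimLE
    (R := MvPolynomial (Fin n) A) B (d + n) hd'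
  let Ssc : CategoryTheory.ShortComplex (ModuleCat.{u} (MvPolynomial (Fin n) A)) :=
    CategoryTheory.ShortComplex.mk
      (ModuleCat.ofHom (RingHom.ker (algebraMap (MvPolynomial (Fin n) A) B)).subtype)
      (ModuleCat.ofHom (Algebra.linearMap (MvPolynomial (Fin n) A) B)) (by
        ext x
        exact x.2)
  have hS : Ssc.ShortExact := by
    refine ModuleCat.shortComplex_shortExact Ssc ?_ Subtype.val_injective hsurj
    intro x
    constructor
    · intro hx
      exact ⟨⟨x, hx⟩, rfl⟩
    · rintro ⟨z, rfl⟩
      exact z.2
  have hprojR : CategoryTheory.Projective Ssc.X₂ := by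
    have : Module.Projective (MvPolynomial (Fin n) A) Ssc.X₂ :=
      inferInstanceAs (Module.Projective (MvPolynomial (Fin n) A) (MvPolynomial (Fin n) A))
    exact Ssc.X₂.projective_of_categoryTheory_projective
  have hpdB' : CategoryTheory.HasProjectiveDimensionLT Ssc.X₃ (d + n + 2) :=
    CategoryTheory.hasProjectiveDimensionLT_of_ge Ssc.X₃ (d + n + 1) (d + n + 2) (by omega)
  have hpdI : CategoryTheory.HasProjectiveDimensionLT
      (ModuleCat.of (MvPolynomial (Fin n) A) (RingHom.ker (algebraMap (MvPolynomial (Fin n) A) B)))
      (d + n + 1) := (hS.hasProjectiveDimensionLT_X₃_iff (d + n) hprojR).mp hpdB'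
  intro 𝔭 h𝔭
  obtain ⟨g, hg, rs, hreg, hrs⟩ := Groth.Agent.S2189.result (R := MvPolynomial (Fin n) A)
    (RingHom.ker (algebraMap (MvPolynomial (Fin n) A) B)) (d + n + 1) hpdI 𝔭.asIdeal h𝔭
  exact ⟨g, hg, rs, Groth.Agent.Lib.NLTorAmp32.isKoszulRegularSeq_of_isWeaklyRegular rs
    hreg.toIsWeaklyRegular, hrs.symm⟩

/-- the fibres of a flat ring map with a finite presentation whose conormal module is flat are local complete
intersections -/
theorem isLCI_tensor_field {A B : Type u} [CommRing A] [CommRing B] [Algebra A B] [Module.Flat A B]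
    {n : ℕ} (G : Algebra.Generators A B (Fin n))
    [Module.Flat B G.toExtension.Cotangent] (T : Type u) [Field T] [Algebra A T] :
    LCI.IsLCI T (T ⊗[A] B) := by
  let G' : Algebra.Generators T (T ⊗[A] B) (Fin n) := G.baseChange T
  have hflat' : Module.Flat (T ⊗[A] B) G'.toExtension.Cotangent :=
    Groth.Agent.Lib.CotangentFibre32.flat_cotangent_generators_baseChange G T
  have hNP : IsNoetherianRing (MvPolynomial (Fin n) T) := inferInstance
  have hft : Algebra.FiniteType T (T ⊗[A] B) :=
    Algebra.FiniteType.of_surjective (IsScalarTower.toAlgHom T G'.Ring (T ⊗[A] B))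
      G'.algebraMap_surjective
  have hNB : IsNoetherianRing (T ⊗[A] B) := Algebra.FiniteType.isNoetherianRing T (T ⊗[A] B)
  have hfg' : G'.toExtension.ker.FG :=
    (isNoetherianRing_iff_ideal_fg (MvPolynomial (Fin n) T)).mp hNP _
  have hfin : Module.Finite (T ⊗[A] B) G'.toExtension.Cotangent :=
    Algebra.Extension.Cotangent.finite hfg'
  have hfp : Module.FinitePresentation (T ⊗[A] B) G'.toExtension.Cotangent :=
    Module.finitePresentation_of_finite (T ⊗[A] B) _
  have hproj : Module.Projective (T ⊗[A] B) G'.toExtension.Cotangent :=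
    Module.Flat.projective_of_finitePresentation
  have hB : DRing.HasFiniteTorDim T (T ⊗[A] B) :=
    ⟨0, (Groth.Agent.Lib.TorShift21.hasTorDimLE_zero_iff T (T ⊗[A] B)).mpr inferInstance⟩
  exact isLCI_of_projective_cotangent hB G'

end Groth.Agent.Lib.NLFibre32
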