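import Groth.Agent.Lib.NLEtaleBC32
import Groth.Agent.Lib.StrictHensQuotB96
import Groth.Agent.Lib.HenselizationEpi61
import Groth.Agent.Lib.HznIndEtale96
import Groth.Agent.Lib.HenselizationFlat

/-!
# The naive cotangent complex and henselization (helper32)

For a local homomorphism of local rings `A → B` with henselizations `Ah`, `Bh`, the canonical map
`NL_{B/A} ⊗_B Bh → NL_{Bh/Ah}` is a quasi-isomorphism.
-/

set_option autoImplicit false
universe u

open TensorProduct Algebra CategoryTheory Limits

attribute [local instance] HasDerivedCategory.standard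

namespace Groth.Agent.Lib.NLHensel32

open Groth.Agent.Lib.NLEtaleBC32

section assemble

attribute [local instance] SMulCommClass.of_commMonoid

variable (A B Ah Bh : Type u) [CommRing A] [CommRing B] [CommRing Ah] [CommRing Bh]
  [Algebra A B] [Algebra A Ah] [Algebra B Bh] [Algebra Ah Bh] [Algebra A Bh]
  [IsScalarTower A Ah Bh] [IsScalarTower A B Bh]

theorem kaehler_map_comp (ω : Ω[B⁄A]) :
    KaehlerDifferential.map A Ah Bh Bh (KaehlerDifferential.map A A B Bh ω) =
      KaehlerDifferential.map A Ah B Bh ω := by
  have hω : ω ∈ Submodule.span B (Set.range (KaehlerDifferential.D A B)) := by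
    rw [KaehlerDifferential.span_range_derivation]
    trivial
  induction hω using Submodule.span_induction with
  | mem ω hω =>
    obtain ⟨b, rfl⟩ := hω
    rw [KaehlerDifferential.map_D, KaehlerDifferential.map_D, KaehlerDifferential.map_D]
    rfl
  | zero => simp only [map_zero]
  | add x y _ _ hx hy => simp only [map_add, hx, hy]
  | smul a x _ hx =>
    rw [LinearMap.map_smul, LinearMap.map_smul, ← hx,
      ← algebraMap_smul Bh a (KaehlerDifferential.map A A B Bh x), LinearMap.map_smul,
      algebraMap_smul]

theorem bcH0Map_eq (w : Bh ⊗[B] Ω[B⁄A]) :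
    NLCx.bcH0Map A B Ah Bh w =
      KaehlerDifferential.map A Ah Bh Bh (KaehlerDifferential.mapBaseChange A B Bh w) := by
  induction w using TensorProduct.induction_on with
  | zero => simp only [map_zero]
  | add x y hx hy => simp only [map_add, hx, hy]
  | tmul a ω =>
    rw [NLCx.bcH0Map, LinearMap.liftBaseChange_tmul, KaehlerDifferential.mapBaseChange_tmul,
      LinearMap.map_smul, kaehler_map_comp]

theorem h1_map_comp (z : Algebra.H1Cotangent A B) :
    Algebra.H1Cotangent.map A Ah Bh Bh (Algebra.H1Cotangent.map A A B Bh z) =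
      Algebra.H1Cotangent.map A Ah B Bh z := by
  unfold Algebra.H1Cotangent.map
  rw [← Extension.H1Cotangent.map_comp_apply]
  exact LinearMap.congr_fun (Extension.H1Cotangent.map_eq _ _) z

theorem h1_liftBaseChange_eq (w : Bh ⊗[B] Algebra.H1Cotangent A B) :
    (Algebra.H1Cotangent.map A Ah B Bh).liftBaseChange Bh w =
      Algebra.H1Cotangent.map A Ah Bh Bh
        ((Algebra.H1Cotangent.map A A B Bh).liftBaseChange Bh w) := by
  induction w using TensorProduct.induction_on with
  | zero => simp only [map_zero]
  | add x y hx hy => simp only [map_add, hx, hy]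
  | tmul a z =>
    rw [LinearMap.liftBaseChange_tmul, LinearMap.liftBaseChange_tmul, LinearMap.map_smul,
      h1_map_comp]

/-- **Assembly**: if `A → Ah` and `B → Bh` are formally étale, `B → Bh` is flat and `H¹` commutes with the base
change `B → Bh`, then `NL_{B/A} ⊗_B Bh → NL_{Bh/Ah}` is a quasi-isomorphism. -/
theorem quasiIso_bcMapSelf_of_bijective [Module.Flat B Bh] [Algebra.FormallyEtale A Ah]
    [Algebra.FormallyEtale B Bh]
    (hα : Function.Bijective ((Algebra.H1Cotangent.map A A B Bh).liftBaseChange Bh)) :
    QuasiIso (NLCx.bcMapSelf A B Ah Bh) := by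
  unfold NLCx.bcMapSelf
  apply Groth.Agent.Lib.NLQis32.quasiIso_bcMap_of_bijective
  · have hβ := h1Cotangent_map_bijective_of_formallyEtale A Ah Bh
    have heq : ⇑((Extension.H1Cotangent.map
        ((Generators.self A B).defaultHom (Generators.self Ah Bh)).toExtensionHom).liftBaseChange Bh)
        = ⇑(Algebra.H1Cotangent.map A Ah Bh Bh) ∘
          ⇑((Algebra.H1Cotangent.map A A B Bh).liftBaseChange Bh) := by
      funext w
      exact h1_liftBaseChange_eq A B Ah Bh w
    rw [heq]
    exact hβ.comp hα
  · have hβ := kaehler_map_bijective_of_formallyUnramified A Ah Bh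
    have hγ : Function.Bijective (KaehlerDifferential.mapBaseChange A B Bh) :=
      (KaehlerDifferential.tensorKaehlerEquivOfFormallyEtale A B Bh).bijective
    have heq : ⇑(NLCx.bcH0Map A B Ah Bh) =
        ⇑(KaehlerDifferential.map A Ah Bh Bh) ∘ ⇑(KaehlerDifferential.mapBaseChange A B Bh) := by
      funext w
      exact bcH0Map_eq A B Ah Bh w
    rw [heq]
    exact hβ.comp hγ

end assemble

section hens

variable (A B Bh : Type u) [CommRing A] [CommRing B] [IsLocalRing B] [Algebra A B]
  [CommRing Bh] [IsLocalRing Bh] [Algebra B Bh] [IsLocalHom (algebraMap B Bh)]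
  [Hensel.IsHenselization B Bh] [Algebra A Bh] [IsScalarTower A B Bh]

/-- A henselization is formally étale. -/
theorem formallyEtale_of_isHenselization : Algebra.FormallyEtale B Bh :=
  formallyEtale_of_isIndEtale _ _
    (Groth.Agent.Lib.HznIndEtale96.isIndEtale_of_isHenselization B Bh)

theorem flat_of_isHenselization : Module.Flat B Bh :=
  (Groth.Agent.Lib.HenselizationFlat.faithfullyFlat_of_isHenselization B Bh).toFlat

/-- `Bh ⊗_B H¹(L_{B/A}) → H¹(L_{Bh/A})` is bijective for a henselization `Bh` of `B`. -/
theorem bijective_h1_of_isHenselization :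
    Function.Bijective ((Algebra.H1Cotangent.map A A B Bh).liftBaseChange Bh) := by
  obtain ⟨Lh, _, _, _, _, hLh⟩ :=
    Groth.Agent.Lib.HenselizationConstr.exists_isHenselization (R := LocP A B)
  obtain ⟨S', _, _, _, _, π, hπ, hkerπ, hcommπ⟩ :=
    Groth.Agent.Lib.StrictHensQuot96.exists_quotient_data Lh (rhoP A B) (rhoP_surjective A B)
  haveI : Hensel.IsHenselization B S' :=
    Groth.Agent.Lib.StrictHensQuot96.isHenselization_of_surjective (rhoP A B)
      (rhoP_surjective A B) S' π hπ hkerπ hcommπ
  obtain ⟨e⟩ := Groth.Agent.Lib.HenselizationEpi61.exists_algEquiv_of_isHenselization B S' Bh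
  haveI : Module.Flat B Bh := flat_of_isHenselization B Bh
  haveI : Algebra.FormallyEtale (LocP A B) Lh := formallyEtale_of_isHenselization (LocP A B) Lh
  haveI : Module.Flat (LocP A B) Lh := flat_of_isHenselization (LocP A B) Lh
  refine bijective_of_localLift Lh ((e : S' →+* Bh).comp π) ?_ ?_ ?_
  · exact e.surjective.comp hπ
  · intro r
    rw [RingHom.comp_apply, hcommπ]
    exact e.commutes _
  · rw [← hkerπ]
    ext z
    simp only [RingHom.mem_ker, RingHom.comp_apply]
    constructor
    · intro h
      exact e.injective (by rw [map_zero]; exact h)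
    · intro h
      rw [h]
      exact map_zero _

end hens

section main

/-- **NL and henselization**: for a local homomorphism `A → B` with henselizations `Ah`, `Bh`, the canonical map
`NL_{B/A} ⊗_B Bh → NL_{Bh/Ah}` is a quasi-isomorphism. -/
theorem quasiIso_bcMapSelf_henselization (A B Ah Bh : Type u) [CommRing A] [CommRing B] [CommRing Ah]
    [CommRing Bh] [IsLocalRing A] [IsLocalRing B] [IsLocalRing Ah] [IsLocalRing Bh]
    [Algebra A B]
    [Algebra A Ah] [IsLocalHom (algebraMap A Ah)] [Hensel.IsHenselization A Ah]
    [Algebra B Bh] [IsLocalHom (algebraMap B Bh)] [Hensel.IsHenselization B Bh]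
    [Algebra Ah Bh] [Algebra A Bh] [IsScalarTower A Ah Bh] [IsScalarTower A B Bh] :
    QuasiIso (NLCx.bcMapSelf A B Ah Bh) := by
  haveI := flat_of_isHenselization B Bh
  haveI := formallyEtale_of_isHenselization A Ah
  haveI := formallyEtale_of_isHenselization B Bh
  exact quasiIso_bcMapSelf_of_bijective A B Ah Bh (bijective_h1_of_isHenselization A B Bh)

end main

end Groth.Agent.Lib.NLHensel32
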