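import Groth.Agent.Lib.NLBaseChange32

/-!
# Homotopies between maps of naive cotangent complexes (helper32)

* `ttHomotopy h₁ h₂ : Homotopy (ttMap h₁) (ttMap h₂)` for two morphisms of extensions `P → Q` of the same algebra
  (from Mathlib's `Extension.Hom.sub`).
* `mapHomotopy h₁ h₂ : Homotopy (NLCx.map h₁) (NLCx.map h₂)`, `map_id`, `map_comp`.
* `mapHomotopyEquiv f g : HomotopyEquiv (NLCx.cx P) (NLCx.cx Q)` with `hom = NLCx.map f`.
* `bcMapSelfHomotopyEquiv` : for a cocartesian square with `R → R'` flat (or `R → S` flat), `NLCx.bcMapSelf` is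
  a homotopy equivalence.
-/

set_option autoImplicit false
universe u

open TensorProduct Algebra Algebra.Extension CategoryTheory Limits

attribute [local instance] HasDerivedCategory.standard

namespace Groth.Agent.Lib.NLHtpy32

open Groth.Agent.Lib.QuasiIsoElem Groth.Agent.Lib.NLIndep32 Groth.Agent.Lib.NLBaseChange32

section tt

variable {R : Type u} [CommRing R]

/-- components of a homotopy between maps of two-term complexes -/
def ttHtpyHom {G F G' F' : ModuleCat.{u} R} (k : F ⟶ G') : (i j : ℤ) → (twoX G F i ⟶ twoX G' F' j)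
  | 0, -1 => k
  | _, _ => 0

lemma ttHtpyHom_eq_zero {G F G' F' : ModuleCat.{u} R} (k : F ⟶ G') (i j : ℤ)
    (h : ¬ (i = 0 ∧ j = -1)) : ttHtpyHom (G := G) (F' := F') k i j = 0 := by
  rcases i with (_ | i) | (_ | i) <;> rcases j with (_ | j) | (_ | j) <;>
    first | rfl | (exfalso; exact h ⟨rfl, rfl⟩)

end tt

section homotopy

variable {R S : Type u} [CommRing R] [CommRing S] [Algebra R S]
variable {P Q : Extension.{u} R S} (h₁ h₂ : P.Hom Q)

lemma cot_sub_apply (x : P.Cotangent) :
    Extension.Cotangent.map h₁ x = (h₁.sub h₂) (P.cotangentComplex x) + Extension.Cotangent.map h₂ x := by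
  have h := LinearMap.congr_fun (Extension.Cotangent.map_sub_map h₁ h₂) x
  simp only [LinearMap.sub_apply, LinearMap.coe_comp, Function.comp_apply] at h
  rw [← h]
  abel

lemma cotSp_sub_apply (y : P.CotangentSpace) :
    Extension.CotangentSpace.map h₁ y =
      Q.cotangentComplex ((h₁.sub h₂) y) + Extension.CotangentSpace.map h₂ y := by
  have h := LinearMap.congr_fun (Extension.CotangentSpace.map_sub_map h₁ h₂) y
  simp only [LinearMap.sub_apply, LinearMap.coe_comp, LinearMap.coe_restrictScalars,
    Function.comp_apply] at h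
  rw [← h]
  abel

/-- components of the homotopy -/
noncomputable def ttHom : ∀ i j : ℤ, (tt P).X i ⟶ (tt Q).X j :=
  ttHtpyHom (ModuleCat.ofHom (h₁.sub h₂))

lemma ttHom_eq_zero (i j : ℤ) (h : ¬ (i = 0 ∧ j = -1)) : ttHom h₁ h₂ i j = 0 :=
  ttHtpyHom_eq_zero _ i j h

lemma ttHom_zero_neg_one : ttHom h₁ h₂ 0 (-1) = ModuleCat.ofHom (h₁.sub h₂) := rfl

/-- the homotopy between the maps of two-term models induced by two morphisms of extensions -/
noncomputable def ttHomotopy : Homotopy (ttMap h₁) (ttMap h₂) where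
  hom := ttHom h₁ h₂
  zero i j hij := ttHom_eq_zero h₁ h₂ i j (by
    rintro ⟨rfl, rfl⟩
    exact hij (by simp))
  comm i := by
    by_cases h1 : i = -1
    · subst h1
      rw [dNext_eq _ (show (ComplexShape.up ℤ).Rel (-1) 0 by simp),
        prevD_eq _ (show (ComplexShape.up ℤ).Rel (-2) (-1) by simp),
        ttHom_eq_zero h₁ h₂ (-1) (-2) (by simp), zero_comp, add_zero, ttHom_zero_neg_one,
        ttMap_f_neg_one, ttMap_f_neg_one, tt_d]
      ext x
      exact cot_sub_apply h₁ h₂ x
    · by_cases h0 : i = 0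
      · subst h0
        rw [dNext_eq _ (show (ComplexShape.up ℤ).Rel 0 1 by simp),
          prevD_eq _ (show (ComplexShape.up ℤ).Rel (-1) 0 by simp),
          ttHom_eq_zero h₁ h₂ 1 0 (by simp), comp_zero, zero_add, ttHom_zero_neg_one,
          ttMap_f_zero, ttMap_f_zero, tt_d]
        refine ModuleCat.hom_ext (LinearMap.ext fun y => ?_)
        exact cotSp_sub_apply h₁ h₂ y
      · exact (twoTerm_isZero _ i h1 h0).eq_of_src _ _

end homotopy

section map

variable {R S : Type u} [CommRing R] [CommRing S] [Algebra R S]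
variable {P Q : Extension.{u} R S}

lemma map_eq_toTT (h : P.Hom Q) : NLCx.map h = toTT P ≫ ttMap h ≫ inv (toTT Q) := by
  rw [← Category.assoc, ← map_comp_toTT, Category.assoc, IsIso.hom_inv_id, Category.comp_id]

/-- two morphisms of extensions of the same algebra induce homotopic maps of naive cotangent complexes -/
noncomputable def mapHomotopy (h₁ h₂ : P.Hom Q) : Homotopy (NLCx.map h₁) (NLCx.map h₂) :=
  (Homotopy.ofEq (map_eq_toTT h₁)).trans
    ((((ttHomotopy h₁ h₂).compRight (inv (toTT Q))).compLeft (toTT P)).trans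
      (Homotopy.ofEq (map_eq_toTT h₂).symm))

lemma map_id (P : Extension.{u} R S) : NLCx.map (Extension.Hom.id P) = 𝟙 (NLCx.cx P) := by
  apply cx_hom_ext
  · rw [map_f₀, Extension.Cotangent.map_id, HomologicalComplex.id_f]
    change (cxXIso₀ P).hom ≫ 𝟙 _ ≫ (cxXIso₀ P).inv = _
    rw [Category.id_comp, Iso.hom_inv_id]
  · rw [map_f₁, Extension.CotangentSpace.map_id, HomologicalComplex.id_f]
    change (cxXIso₁ P).hom ≫ 𝟙 _ ≫ (cxXIso₁ P).inv = _
    rw [Category.id_comp, Iso.hom_inv_id]

lemma map_comp {T : Extension.{u} R S} (f : P.Hom Q) (g : Q.Hom T) :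
    NLCx.map (g.comp f) = NLCx.map f ≫ NLCx.map g := by
  apply cx_hom_ext
  · rw [HomologicalComplex.comp_f, map_f₀, map_f₀, map_f₀, Extension.Cotangent.map_comp]
    simp only [Category.assoc, Iso.inv_hom_id_assoc]
    rfl
  · rw [HomologicalComplex.comp_f, map_f₁, map_f₁, map_f₁, Extension.CotangentSpace.map_comp]
    simp only [Category.assoc, Iso.inv_hom_id_assoc]
    rfl

/-- morphisms of extensions in both directions give a homotopy equivalence of naive cotangent complexes -/
noncomputable def mapHomotopyEquiv (f : P.Hom Q) (g : Q.Hom P) :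
    HomotopyEquiv (NLCx.cx P) (NLCx.cx Q) where
  hom := NLCx.map f
  inv := NLCx.map g
  homotopyHomInvId := (Homotopy.ofEq (map_comp f g).symm).trans
    ((mapHomotopy (g.comp f) (Extension.Hom.id P)).trans (Homotopy.ofEq (map_id P)))
  homotopyInvHomId := (Homotopy.ofEq (map_comp g f).symm).trans
    ((mapHomotopy (f.comp g) (Extension.Hom.id Q)).trans (Homotopy.ofEq (map_id Q)))

end map

section self

variable (R S R' S' : Type u) [CommRing R] [CommRing S] [CommRing R'] [CommRing S']
  [Algebra R S] [Algebra R' S'] [Algebra R R'] [Algebra S S'] [Algebra R S']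
  [IsScalarTower R R' S'] [IsScalarTower R S S'] [Algebra.IsPushout R R' S S']

/-- if the same-variables base change map is an isomorphism of complexes, `bcMapSelf` is a homotopy
equivalence -/
noncomputable def bcMapSelfHomotopyEquiv
    (hφ : IsIso (NLCx.bcMap (S' := S') (toBcGen R S R' S').toExtensionHom)) :
    HomotopyEquiv (NLCx.bcCx (Algebra.Generators.self R S).toExtension S')
      (NLCx.cx (Algebra.Generators.self R' S').toExtension) :=
  let φ := NLCx.bcMap (S' := S') (toBcGen R S R' S').toExtensionHom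
  let E := mapHomotopyEquiv (toSelf R S R' S').toExtensionHom
    ((Algebra.Generators.self R' S').defaultHom (bcGen R S R' S')).toExtensionHom
  { hom := NLCx.bcMapSelf R S R' S'
    inv := E.inv ≫ inv φ
    homotopyHomInvId :=
      (Homotopy.ofEq (show NLCx.bcMapSelf R S R' S' ≫ E.inv ≫ inv φ = φ ≫ (E.hom ≫ E.inv) ≫ inv φ by
        rw [bcMapSelf_eq]
        simp only [Category.assoc]
        rfl)).trans
      (((E.homotopyHomInvId.compRight (inv φ)).compLeft φ).trans
        (Homotopy.ofEq (by rw [Category.id_comp, IsIso.hom_inv_id])))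
    homotopyInvHomId :=
      (Homotopy.ofEq (show (E.inv ≫ inv φ) ≫ NLCx.bcMapSelf R S R' S' = E.inv ≫ E.hom by
        rw [bcMapSelf_eq]
        simp only [Category.assoc]
        rw [IsIso.inv_hom_id_assoc]
        rfl)).trans E.homotopyInvHomId }

lemma bcMapSelfHomotopyEquiv_hom
    (hφ : IsIso (NLCx.bcMap (S' := S') (toBcGen R S R' S').toExtensionHom)) :
    (bcMapSelfHomotopyEquiv R S R' S' hφ).hom = NLCx.bcMapSelf R S R' S' := rfl

end self

end Groth.Agent.Lib.NLHtpy32
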