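import Groth.Agent.Lib.NLHtpy32

/-!
# The Jacobian determinant kills `Ext¹(NL, N)` (helper32)

* `TwoTermKill`: for a two-term complex `K = [G --d--> F]` (degrees `-1, 0`) of `R`-modules with `F`
  projective, `r : R` and `s : F ⟶ G` with `d ≫ s = r • 𝟙 G`, every `ψ : Q.obj K ⟶ N[0]⟦1⟧` in `D(R)` is
  killed by `r`; if moreover `s ≫ d = r • 𝟙 F` then `r • 𝟙 (Q.obj K) = 0`.
* Application to `B = A[x₁..xₙ]/(f₁..f_m)` and the `m × m` Jacobian minor, via the adjugate matrix.
-/

set_option autoImplicit false
universe u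

open CategoryTheory Limits Algebra

attribute [local instance] HasDerivedCategory.standard

namespace Groth.Agent.Lib.NLJacobian32

open Groth.Agent.Lib.QuasiIsoElem Groth.Agent.Lib.NLIndep32 Groth.Agent.Lib.NLHtpy32

section TwoTermKill

variable {R : Type u} [CommRing R] {G F : ModuleCat.{u} R} (d : G ⟶ F) (s : F ⟶ G) (r : R)

/-- the "remainder" endomorphism `r - s ≫ d` of `F` -/
noncomputable def rho : F ⟶ F := r • 𝟙 F - s ≫ d

lemma d_comp_rho (hs : d ≫ s = r • 𝟙 G) : d ≫ rho d s r = 0 := by
  unfold rho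
  rw [Preadditive.comp_sub, Linear.comp_smul, Category.comp_id, ← Category.assoc, hs,
    Linear.smul_comp, Category.id_comp, sub_self]

/-- the projection of the two-term complex to `F[0]` given by `rho` -/
noncomputable def toSingle (hs : d ≫ s = r • 𝟙 G) :
    twoTerm d ⟶ (CochainComplex.singleFunctor (ModuleCat.{u} R) 0).obj F :=
  HomologicalComplex.mkHomToSingle (rho d s r) (fun i hi => by
    obtain rfl : i = -1 := by
      have : i + 1 = 0 := hi
      omega
    exact d_comp_rho d s r hs)

/-- the inclusion of `F[0]` in the two-term complex -/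
noncomputable def fromSingle :
    (CochainComplex.singleFunctor (ModuleCat.{u} R) 0).obj F ⟶ twoTerm d :=
  HomologicalComplex.mkHomFromSingle (𝟙 F) (fun k _ => by
    rw [twoTerm_d_eq_zero d 0 k (by simp), comp_zero])

lemma toSingle_comp_fromSingle_f_zero (hs : d ≫ s = r • 𝟙 G) :
    (toSingle d s r hs ≫ fromSingle d).f 0 = rho d s r := by
  rw [HomologicalComplex.comp_f]
  unfold toSingle fromSingle
  erw [HomologicalComplex.mkHomToSingle_f, HomologicalComplex.mkHomFromSingle_f]
  change (rho d s r ≫ (HomologicalComplex.singleObjXSelf (ComplexShape.up ℤ) 0 F).inv) ≫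
    ((HomologicalComplex.singleObjXSelf (ComplexShape.up ℤ) 0 F).hom ≫ 𝟙 F) = rho d s r
  rw [Category.assoc, Iso.inv_hom_id_assoc, Category.comp_id]

lemma toSingle_comp_fromSingle_f_neg_one (hs : d ≫ s = r • 𝟙 G) :
    (toSingle d s r hs ≫ fromSingle d).f (-1) = 0 := by
  rw [HomologicalComplex.comp_f]
  have hz : IsZero (((CochainComplex.singleFunctor (ModuleCat.{u} R) 0).obj F).X (-1)) :=
    HomologicalComplex.isZero_single_obj_X (ComplexShape.up ℤ) 0 F (-1) (by decide)
  rw [hz.eq_of_tgt ((toSingle d s r hs).f (-1)) 0, zero_comp]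

/-- components of the homotopy -/
noncomputable def hHom : ∀ i j : ℤ, (twoTerm d).X i ⟶ (twoTerm d).X j := ttHtpyHom s

lemma hHom_eq_zero (i j : ℤ) (h : ¬ (i = 0 ∧ j = -1)) : hHom d s i j = 0 :=
  ttHtpyHom_eq_zero _ i j h

lemma hHom_zero_neg_one : hHom d s 0 (-1) = s := rfl

/-- `r • 𝟙` is homotopic to a map factoring through `F[0]`. -/
noncomputable def smulHomotopy (hs : d ≫ s = r • 𝟙 G) :
    Homotopy (r • 𝟙 (twoTerm d)) (toSingle d s r hs ≫ fromSingle d) where
  hom := hHom d s
  zero i j hij := hHom_eq_zero d s i j (by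
    rintro ⟨rfl, rfl⟩
    exact hij (by simp))
  comm i := by
    by_cases h1 : i = -1
    · subst h1
      rw [dNext_eq _ (show (ComplexShape.up ℤ).Rel (-1) 0 by simp),
        prevD_eq _ (show (ComplexShape.up ℤ).Rel (-2) (-1) by simp),
        hHom_eq_zero d s (-1) (-2) (by simp), zero_comp, add_zero,
        toSingle_comp_fromSingle_f_neg_one, add_zero, hHom_zero_neg_one]
      exact hs.symm
    · by_cases h0 : i = 0
      · subst h0
        rw [dNext_eq _ (show (ComplexShape.up ℤ).Rel 0 1 by simp),
          prevD_eq _ (show (ComplexShape.up ℤ).Rel (-1) 0 by simp),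
          hHom_eq_zero d s 1 0 (by simp), comp_zero, zero_add,
          toSingle_comp_fromSingle_f_zero, hHom_zero_neg_one]
        change r • 𝟙 F = s ≫ d + rho d s r
        unfold rho
        abel
      · exact (twoTerm_isZero _ i h1 h0).eq_of_src _ _

end TwoTermKill

section Derived

variable {R : Type u} [CommRing R] {G F : ModuleCat.{u} R} (d : G ⟶ F) (s : F ⟶ G) (r : R)

set_option backward.isDefEq.respectTransparency false in
/-- Maps from a projective module in degree `0` to `N[1]` vanish. -/
theorem Q_map_fromSingle_comp_eq_zero [Projective F] (N : ModuleCat.{u} R)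
    (ψ : DerivedCategory.Q.obj (twoTerm d) ⟶
      ((DerivedCategory.singleFunctor (ModuleCat.{u} R) 0).obj N)⟦(1 : ℤ)⟧) :
    DerivedCategory.Q.map (fromSingle d) ≫ ψ = 0 := by
  rw [← cancel_mono (((DerivedCategory.singleFunctors (ModuleCat.{u} R)).shiftIso 1 (-1) 0
    (by lia)).hom.app N), zero_comp]
  apply DerivedCategory.from_singleFunctor_obj_eq_zero_of_projective
    (L := (CochainComplex.singleFunctor (ModuleCat.{u} R) (-1)).obj N) (n := -1) _ (by lia)

/-- If `d ≫ s = r • 𝟙`, then `r` kills every map `[G → F] ⟶ N[1]` in `D(R)` (`F` projective). -/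
theorem smul_eq_zero_of_section [Projective F] (hs : d ≫ s = r • 𝟙 G) (N : ModuleCat.{u} R)
    (ψ : DerivedCategory.Q.obj (twoTerm d) ⟶
      ((DerivedCategory.singleFunctor (ModuleCat.{u} R) 0).obj N)⟦(1 : ℤ)⟧) :
    r • ψ = 0 := by
  have h1 : r • ψ = DerivedCategory.Q.map (r • 𝟙 (twoTerm d)) ≫ ψ := by
    rw [Functor.map_smul, Linear.smul_comp, CategoryTheory.Functor.map_id, Category.id_comp]
  rw [h1, DerivedCategory.Q_map_eq_of_homotopy _ (smulHomotopy d s r hs), Functor.map_comp,
    Category.assoc, Q_map_fromSingle_comp_eq_zero, comp_zero]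

/-- If `d ≫ s = r • 𝟙` and `s ≫ d = r • 𝟙`, then `r • 𝟙 = 0` on `[G → F]` in `D(R)`. -/
theorem smul_id_eq_zero_of_inverse (hs : d ≫ s = r • 𝟙 G) (hs' : s ≫ d = r • 𝟙 F) :
    r • 𝟙 (DerivedCategory.Q.obj (twoTerm d)) = 0 := by
  have h1 : r • 𝟙 (DerivedCategory.Q.obj (twoTerm d)) =
      DerivedCategory.Q.map (r • 𝟙 (twoTerm d)) := by
    rw [Functor.map_smul, CategoryTheory.Functor.map_id]
  have h2 : toSingle d s r hs = 0 := by
    unfold toSingle
    apply HomologicalComplex.to_single_hom_ext
    rw [HomologicalComplex.mkHomToSingle_f]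
    have : rho d s r = 0 := by
      unfold rho
      rw [hs', sub_self]
    change rho d s r ≫ (HomologicalComplex.singleObjXSelf (ComplexShape.up ℤ) 0 F).inv = 0
    rw [this, zero_comp]
  rw [h1, DerivedCategory.Q_map_eq_of_homotopy _ (smulHomotopy d s r hs), h2, zero_comp,
    Functor.map_zero]

end Derived

section Jacobian

open TensorProduct

variable {A : Type u} [CommRing A] {n m : ℕ} (hmn : m ≤ n) (f : Fin m → MvPolynomial (Fin n) A)

/-- the quotient `A[x₁..xₙ]/(f₁..f_m)` -/
abbrev Bq : Type u := MvPolynomial (Fin n) A ⧸ Ideal.span (Set.range f)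

/-- the naive presentation of `A[x]/(f)` -/
noncomputable abbrev gens : Algebra.Generators A (Bq f) (Fin n) :=
  Algebra.Generators.naive

lemma ker_gens : (gens f).ker = Ideal.span (Set.range f) := Algebra.Generators.ker_naive _ _

lemma aeval_gens (p : MvPolynomial (Fin n) A) :
    MvPolynomial.aeval (gens f).val p = Ideal.Quotient.mk (Ideal.span (Set.range f)) p :=
  ((gens f).algebraMap_apply p).symm

/-- classes of the `f j` in `I/I²` -/
noncomputable def cls (j : Fin m) : (gens f).toExtension.Cotangent :=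
  Extension.Cotangent.mk ⟨f j, (ker_gens f).ge (Ideal.subset_span ⟨j, rfl⟩)⟩

lemma span_cls : Submodule.span (Bq f) (Set.range (cls f)) = ⊤ := by
  have h := Extension.Cotangent.span_eq_top_of_span_eq_ker (P := (gens f).toExtension) f
    (ker_gens f).symm
  exact h

/-- the full Jacobian matrix over `B` -/
noncomputable def jac : Matrix (Fin n) (Fin m) (Bq f) :=
  Matrix.of fun i j => Ideal.Quotient.mk (Ideal.span (Set.range f)) (MvPolynomial.pderiv i (f j))

lemma repr_cotangentComplex_cls (j : Fin m) (i : Fin n) :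
    (gens f).cotangentSpaceBasis.repr ((gens f).toExtension.cotangentComplex (cls f j)) i =
      jac f i j := by
  unfold cls
  rw [Extension.cotangentComplex_mk]
  erw [Algebra.Generators.cotangentSpaceBasis_repr_one_tmul]
  exact aeval_gens f _

/-- the `m × m` minor on the first `m` variables -/
noncomputable def minor : Matrix (Fin m) (Fin m) (Bq f) :=
  Matrix.of fun i j => jac f (Fin.castLE hmn i) j

lemma det_minor :
    (minor hmn f).det = Ideal.Quotient.mk (Ideal.span (Set.range f))
      (Matrix.det (Matrix.of (fun i j : Fin m => MvPolynomial.pderiv (Fin.castLE hmn i) (f j)))) := by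
  rw [RingHom.map_det]
  rfl

/-- auxiliary vectors -/
noncomputable def vec (i' : Fin m) : (gens f).toExtension.Cotangent :=
  ∑ j, (minor hmn f).adjugate j i' • cls f j

/-- the "adjugate" map `Ω ⊗ B → I/I²` -/
noncomputable def sec : (gens f).toExtension.CotangentSpace →ₗ[Bq f] (gens f).toExtension.Cotangent :=
  ∑ i' : Fin m, ((gens f).cotangentSpaceBasis.coord (Fin.castLE hmn i')).smulRight (vec hmn f i')

lemma sec_apply (y : (gens f).toExtension.CotangentSpace) :
    sec hmn f y = ∑ i' : Fin m, (gens f).cotangentSpaceBasis.repr y (Fin.castLE hmn i') • vec hmn f i' := by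
  unfold sec
  rw [LinearMap.sum_apply]
  rfl

lemma sec_cotangentComplex_cls (j : Fin m) :
    sec hmn f ((gens f).toExtension.cotangentComplex (cls f j)) = (minor hmn f).det • cls f j := by
  rw [sec_apply]
  simp only [repr_cotangentComplex_cls, vec, Finset.smul_sum, smul_smul]
  rw [Finset.sum_comm]
  simp only [← Finset.sum_smul]
  have h : ∀ k : Fin m, ∑ i' : Fin m, jac f (Fin.castLE hmn i') j * (minor hmn f).adjugate k i' =
      ((minor hmn f).det • (1 : Matrix (Fin m) (Fin m) (Bq f))) k j := by
    intro k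
    rw [← Matrix.adjugate_mul, Matrix.mul_apply]
    exact Finset.sum_congr rfl fun i' _ => mul_comm _ _
  simp only [h, Matrix.smul_apply, Matrix.one_apply, smul_eq_mul, mul_ite, mul_one, mul_zero]
  rw [Finset.sum_eq_single j]
  · rw [if_pos rfl]
  · intro k _ hk
    rw [if_neg hk]
    exact zero_smul (Bq f) (cls f k)
  · intro h
    exact absurd (Finset.mem_univ j) h

theorem sec_comp_cotangentComplex :
    sec hmn f ∘ₗ (gens f).toExtension.cotangentComplex = (minor hmn f).det • LinearMap.id := by
  apply LinearMap.ext_on_range (span_cls f)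
  intro j
  rw [LinearMap.comp_apply, sec_cotangentComplex_cls]
  rfl

lemma cotangentComplex_cls_eq (j : Fin m) :
    (gens f).toExtension.cotangentComplex (cls f j) =
      ∑ i, jac f i j • (gens f).cotangentSpaceBasis i := by
  conv_lhs => rw [← (gens f).cotangentSpaceBasis.sum_repr
    ((gens f).toExtension.cotangentComplex (cls f j))]
  simp only [repr_cotangentComplex_cls]

lemma sec_basis (f : Fin n → MvPolynomial (Fin n) A) (i : Fin n) :
    sec (le_refl n) f ((gens f).cotangentSpaceBasis i) = vec (le_refl n) f i := by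
  rw [sec_apply]
  simp only [Module.Basis.repr_self, Fin.castLE_rfl, _root_.id]
  rw [Finset.sum_eq_single i]
  · rw [Finsupp.single_eq_same]
    exact one_smul (Bq f) _
  · intro k _ hk
    rw [Finsupp.single_eq_of_ne hk]
    exact zero_smul (Bq f) (vec (le_refl n) f k)
  · intro h
    exact absurd (Finset.mem_univ i) h

theorem cotangentComplex_comp_sec (f : Fin n → MvPolynomial (Fin n) A) :
    (gens f).toExtension.cotangentComplex ∘ₗ sec (le_refl n) f =
      (minor (le_refl n) f).det • (LinearMap.id :
        (gens f).toExtension.CotangentSpace →ₗ[Bq f] (gens f).toExtension.CotangentSpace) := by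
  apply (gens f).cotangentSpaceBasis.ext
  intro i
  rw [LinearMap.comp_apply, sec_basis, vec, map_sum]
  have h : ∀ k : Fin n, ∑ j : Fin n, (minor (le_refl n) f).adjugate j i * jac f k j =
      if k = i then (minor (le_refl n) f).det else 0 := by
    intro k
    have h1 : ∑ j : Fin n, (minor (le_refl n) f).adjugate j i * jac f k j =
        ((minor (le_refl n) f) * (minor (le_refl n) f).adjugate) k i := by
      rw [Matrix.mul_apply]
      refine Finset.sum_congr rfl fun j _ => ?_
      rw [mul_comm]
      simp only [minor, Fin.castLE_rfl, _root_.id, Matrix.of_apply]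
    rw [h1, Matrix.mul_adjugate]
    simp only [Matrix.smul_apply, Matrix.one_apply, smul_eq_mul, mul_ite, mul_one, mul_zero]
  have h0 : ∀ j : Fin n, (gens f).toExtension.cotangentComplex
      ((minor (le_refl n) f).adjugate j i • cls f j) =
      ∑ k, ((minor (le_refl n) f).adjugate j i * jac f k j) • (gens f).cotangentSpaceBasis k := by
    intro j
    rw [map_smul, cotangentComplex_cls_eq, Finset.smul_sum]
    refine Finset.sum_congr rfl fun k _ => ?_
    exact smul_smul ((minor (le_refl n) f).adjugate j i) (jac f k j)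
      ((gens f).cotangentSpaceBasis k)
  rw [Finset.sum_congr rfl fun j _ => h0 j, Finset.sum_comm]
  have h2 : ∀ k : Fin n,
      ∑ j, ((minor (le_refl n) f).adjugate j i * jac f k j) • (gens f).cotangentSpaceBasis k =
      (if k = i then (minor (le_refl n) f).det else 0) • (gens f).cotangentSpaceBasis k := by
    intro k
    rw [← h k]
    exact (Finset.sum_smul (s := Finset.univ)
      (f := fun j => (minor (le_refl n) f).adjugate j i * jac f k j)
      (x := (gens f).cotangentSpaceBasis k)).symm
  rw [Finset.sum_congr rfl fun k _ => h2 k, Finset.sum_eq_single i]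
  · rw [if_pos rfl]
    rfl
  · intro k _ hk
    rw [if_neg hk]
    exact zero_smul (Bq f) ((gens f).cotangentSpaceBasis k)
  · intro h
    exact absurd (Finset.mem_univ i) h

end Jacobian

section Main

variable {A : Type u} [CommRing A] {n m : ℕ} (hmn : m ≤ n) (f : Fin m → MvPolynomial (Fin n) A)

instance projective_cotangentSpace :
    Projective (ModuleCat.of (Bq f) (gens f).toExtension.CotangentSpace) :=
  (IsProjective.iff_projective _).mp inferInstance

lemma ofHom_comp_sec :
    ModuleCat.ofHom (gens f).toExtension.cotangentComplex ≫ ModuleCat.ofHom (sec hmn f) =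
      (minor hmn f).det • 𝟙 (ModuleCat.of (Bq f) (gens f).toExtension.Cotangent) := by
  rw [← ModuleCat.ofHom_comp, sec_comp_cotangentComplex]
  rfl

lemma ofHom_sec_comp (f : Fin n → MvPolynomial (Fin n) A) :
    ModuleCat.ofHom (sec (le_refl n) f) ≫ ModuleCat.ofHom (gens f).toExtension.cotangentComplex =
      (minor (le_refl n) f).det •
        𝟙 (ModuleCat.of (Bq f) (gens f).toExtension.CotangentSpace) := by
  rw [← ModuleCat.ofHom_comp, cotangentComplex_comp_sec]
  rfl

/-- The Jacobian minor kills `Ext¹(NL_{B/A}, N)`. -/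
theorem minor_det_smul_eq_zero (N : Type u) [AddCommGroup N] [Module (Bq f) N]
    (φ : LCI.NL A (Bq f) ⟶ (Dual.inD (Bq f) N)⟦(1 : ℤ)⟧) : (minor hmn f).det • φ = 0 := by
  obtain ⟨e⟩ := nonempty_toD_tt_iso_NL_fin (gens f)
  have h := smul_eq_zero_of_section _ _ _ (ofHom_comp_sec hmn f) (ModuleCat.of (Bq f) N)
    (e.hom ≫ φ)
  rw [← Linear.comp_smul] at h
  rw [← cancel_epi e.hom, h, comp_zero]

/-- If `n = m`, the Jacobian determinant kills `NL_{B/A}` in `D(B)`. -/
theorem minor_det_smul_id_eq_zero (f : Fin n → MvPolynomial (Fin n) A) :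
    (minor (le_refl n) f).det • 𝟙 (LCI.NL A (Bq f)) = 0 := by
  obtain ⟨e⟩ := nonempty_toD_tt_iso_NL_fin (gens f)
  have h := smul_id_eq_zero_of_inverse _ _ _ (ofHom_comp_sec (le_refl n) f) (ofHom_sec_comp f)
  have h2 : (minor (le_refl n) f).det • 𝟙 (LCI.NL A (Bq f)) =
      e.inv ≫ ((minor (le_refl n) f).det • 𝟙 _) ≫ e.hom := by
    rw [Linear.smul_comp, Linear.comp_smul, Category.id_comp, e.inv_hom_id]
  rw [h2, h, zero_comp, comp_zero]

end Main

end Groth.Agent.Lib.NLJacobian32
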