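import Groth.Agent.Lib.NLHtpy32

/-!
# A homological criterion for `NLCx.bcMap` to be a quasi-isomorphism (helper32)

* `quasiIso_twoTermHom`: elementwise criterion for a map of two-term complexes to be a quasi-isomorphism.
* `ttBc`, `toTTBc`, `ttBcMap`: two-term model of `NLCx.bcCx` and of `NLCx.bcMap`.
* `quasiIso_bcMap_of_bijective`: for `S'` flat over `S`, `NLCx.bcMap f` is a quasi-isomorphism as soon as
  `S' ⊗ H¹(P) → H¹(P')` and `S' ⊗ Ω_{S/R} → Ω_{S'/R'}` are bijective.
-/

set_option autoImplicit false
universe u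

open TensorProduct Algebra Algebra.Extension CategoryTheory Limits

attribute [local instance] HasDerivedCategory.standard

namespace Groth.Agent.Lib.NLQis32

open Groth.Agent.Lib.QuasiIsoElem Groth.Agent.Lib.NLIndep32 Groth.Agent.Lib.NLBaseChange32

section twoTerm

variable {R : Type u} [CommRing R] {G F G' F' : ModuleCat.{u} R} (g : G ⟶ F) (g' : G' ⟶ F')
  (φ₀ : G ⟶ G') (φ₁ : F ⟶ F') (comm : φ₀ ≫ g' = g ≫ φ₁)

/-- a chain map between two-term complexes -/
noncomputable def ttHomOf : twoTerm g ⟶ twoTerm g' :=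
  twoTermHom g (twoTerm g') φ₀ φ₁ comm (by rw [twoTerm_d_eq_zero g' 0 1 (by simp), comp_zero])

lemma ttHomOf_f_neg_one : (ttHomOf g g' φ₀ φ₁ comm).f (-1) = φ₀ := rfl

lemma ttHomOf_f_zero : (ttHomOf g g' φ₀ φ₁ comm).f 0 = φ₁ := rfl

theorem quasiIso_ttHomOf
    (K1 : ∀ x : G, g.hom x = 0 → φ₀.hom x = 0 → x = 0)
    (K2 : ∀ x' : G', g'.hom x' = 0 → ∃ x : G, g.hom x = 0 ∧ φ₀.hom x = x')
    (C1 : ∀ y' : F', ∃ (y : F) (z' : G'), φ₁.hom y = y' + g'.hom z')
    (C2 : ∀ y : F, (∃ z' : G', g'.hom z' = φ₁.hom y) → ∃ z : G, g.hom z = y) :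
    QuasiIso (ttHomOf g g' φ₀ φ₁ comm) := by
  refine ⟨fun i => ?_⟩
  by_cases h1 : i = -1
  · subst h1
    refine quasiIsoAt_of_elementwise (ttHomOf g g' φ₀ φ₁ comm) (-2) (-1) 0 (by simp) (by simp) ?_ ?_
    · intro x₂ hx₂
      obtain ⟨x, hx, hx'⟩ := K2 x₂ hx₂
      refine ⟨x, hx, 0, ?_⟩
      rw [map_zero, add_zero]
      exact hx'
    · intro x₁ hx₁ hy
      obtain ⟨y₂, hy₂⟩ := hy
      have hd : (twoTerm g').d (-2) (-1) = 0 := twoTerm_d_eq_zero _ _ _ (by simp)
      rw [hd] at hy₂
      have h0 : φ₀.hom x₁ = 0 := hy₂.symm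
      refine ⟨0, ?_⟩
      rw [map_zero]
      exact (K1 x₁ hx₁ h0).symm
  · by_cases h0 : i = 0
    · subst h0
      refine quasiIsoAt_of_elementwise (ttHomOf g g' φ₀ φ₁ comm) (-1) 0 1 (by simp) (by simp) ?_ ?_
      · intro x₂ _
        obtain ⟨y, z', hyz⟩ := C1 x₂
        refine ⟨y, ?_, z', hyz⟩
        have hd : (twoTerm g).d 0 1 = 0 := twoTerm_d_eq_zero _ _ _ (by simp)
        rw [hd]
        rfl
      · intro x₁ _ hy
        exact C2 x₁ hy
    · have hs : Subsingleton ((twoTerm g).X i) :=
        ModuleCat.subsingleton_of_isZero (twoTerm_isZero _ i h1 h0)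
      have hs' : Subsingleton ((twoTerm g').X i) :=
        ModuleCat.subsingleton_of_isZero (twoTerm_isZero _ i h1 h0)
      refine quasiIsoAt_of_elementwise (ttHomOf g g' φ₀ φ₁ comm) ((ComplexShape.up ℤ).prev i) i
        ((ComplexShape.up ℤ).next i) rfl rfl ?_ ?_
      · intro x₂ _
        exact ⟨0, map_zero _, 0, Subsingleton.elim _ _⟩
      · intro x₁ _ _
        exact ⟨0, Subsingleton.elim _ _⟩

end twoTerm

section double

variable {R : Type u} [CommRing R] {G F : ModuleCat.{u} R} (g : G ⟶ F)

/-- comparison from Mathlib's `double` complex to the definitional two-term complex -/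
noncomputable def dblToTT :
    HomologicalComplex.double g (show (ComplexShape.up ℤ).Rel (-1) 0 by simp) ⟶ twoTerm g :=
  HomologicalComplex.mkHomFromDouble _ (by decide) (𝟙 _) (𝟙 _)
    (by exact (Category.id_comp _).trans (Category.comp_id _).symm)
    (fun k _ => by
      exact (Category.id_comp _).trans (twoTerm_d_eq_zero _ 0 k (by simp)))

lemma dblToTT_f₀ : (dblToTT g).f (-1) = (HomologicalComplex.doubleXIso₀ _ _).hom := by
  unfold dblToTT
  rw [HomologicalComplex.mkHomFromDouble_f₀]
  exact Category.comp_id _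

lemma dblToTT_f₁ : (dblToTT g).f 0 = (HomologicalComplex.doubleXIso₁ _ _ (by decide)).hom := by
  unfold dblToTT
  rw [HomologicalComplex.mkHomFromDouble_f₁]
  exact Category.comp_id _

instance (i : ℤ) : IsIso ((dblToTT g).f i) := by
  by_cases h1 : i = -1
  · subst h1
    rw [dblToTT_f₀]
    infer_instance
  · by_cases h0 : i = 0
    · subst h0
      rw [dblToTT_f₁]
      infer_instance
    · have hX : IsZero ((HomologicalComplex.double g
          (show (ComplexShape.up ℤ).Rel (-1) 0 by simp)).X i) :=
        HomologicalComplex.isZero_double_X _ _ i h1 h0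
      have hY : IsZero ((twoTerm g).X i) := twoTerm_isZero _ i h1 h0
      exact ⟨⟨0, hX.eq_of_src _ _, hY.eq_of_src _ _⟩⟩

instance isIso_dblToTT : IsIso (dblToTT g) := HomologicalComplex.Hom.isIso_of_components _

end double

section bc

variable {R S R' S' : Type u} [CommRing R] [CommRing S] [CommRing R'] [CommRing S']
  [Algebra R S] [Algebra R' S'] [Algebra R R'] [Algebra S S'] [Algebra R S']
  [IsScalarTower R R' S'] [IsScalarTower R S S']

/-- two-term model of `NLCx.bcCx` -/
noncomputable abbrev ttBc (P : Extension.{u} R S) (S' : Type u) [CommRing S'] [Algebra S S'] :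
    DRing.Cx S' :=
  twoTerm (ModuleCat.ofHom (P.cotangentComplex.baseChange S'))

/-- the comparison isomorphism -/
noncomputable def toTTBc (P : Extension.{u} R S) : NLCx.bcCx P S' ⟶ ttBc P S' :=
  dblToTT _

instance (P : Extension.{u} R S) : IsIso (toTTBc (S' := S') P) :=
  isIso_dblToTT _

lemma toTTBc_f₀ (P : Extension.{u} R S) : (toTTBc (S' := S') P).f (-1) = (bcCxXIso₀ P).hom :=
  dblToTT_f₀ _

lemma toTTBc_f₁ (P : Extension.{u} R S) : (toTTBc (S' := S') P).f 0 = (bcCxXIso₁ P).hom :=
  dblToTT_f₁ _

variable {P : Extension.{u} R S} {P' : Extension.{u} R' S'} (f : P.Hom P')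

lemma bc_comm :
    ModuleCat.ofHom (LinearMap.liftBaseChange S' (Cotangent.map f)) ≫
        ModuleCat.ofHom P'.cotangentComplex =
      ModuleCat.ofHom (P.cotangentComplex.baseChange S') ≫
        ModuleCat.ofHom (LinearMap.liftBaseChange S' (CotangentSpace.map f)) := by
  rw [← ModuleCat.ofHom_comp, ← ModuleCat.ofHom_comp]
  congr 1
  ext x
  simpa using (CotangentSpace.map_cotangentComplex f x).symm

/-- two-term model of `NLCx.bcMap` -/
noncomputable def ttBcMap : ttBc P S' ⟶ tt P' :=
  ttHomOf _ _ (ModuleCat.ofHom (LinearMap.liftBaseChange S' (Cotangent.map f)))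
    (ModuleCat.ofHom (LinearMap.liftBaseChange S' (CotangentSpace.map f))) (bc_comm f)

theorem bcMap_comp_toTT : NLCx.bcMap (S' := S') f ≫ toTT P' = toTTBc P ≫ ttBcMap f := by
  apply bcMap_hom_ext
  · rw [HomologicalComplex.comp_f, HomologicalComplex.comp_f, bcMap_f₀, toTT_f₀, toTTBc_f₀]
    simp only [Category.assoc]
    erw [Iso.inv_hom_id, Category.comp_id]
    rfl
  · rw [HomologicalComplex.comp_f, HomologicalComplex.comp_f, bcMap_f₁, toTT_f₁, toTTBc_f₁]
    simp only [Category.assoc]
    erw [Iso.inv_hom_id, Category.comp_id]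
    rfl

theorem quasiIso_bcMap_of_quasiIso_ttBcMap (h : QuasiIso (ttBcMap (S' := S') f)) :
    QuasiIso (NLCx.bcMap (S' := S') f) := by
  have h2 : QuasiIso (NLCx.bcMap (S' := S') f ≫ toTT P') := by
    rw [bcMap_comp_toTT]
    infer_instance
  exact quasiIso_of_comp_right (NLCx.bcMap (S' := S') f) (toTT P')

end bc

section criterion

variable {R S R' S' : Type u} [CommRing R] [CommRing S] [CommRing R'] [CommRing S']
  [Algebra R S] [Algebra R' S'] [Algebra R R'] [Algebra S S'] [Algebra R S']
  [IsScalarTower R R' S'] [IsScalarTower R S S']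
  {P : Extension.{u} R S} {P' : Extension.{u} R' S'} (f : P.Hom P')

/-- `toKaehler` is natural in the extension. -/
theorem toKaehler_map (z : P.CotangentSpace) :
    P'.toKaehler (CotangentSpace.map f z) = KaehlerDifferential.map R R' S S' (P.toKaehler z) := by
  induction z using TensorProduct.induction_on with
  | zero => simp only [map_zero]
  | add x y hx hy => simp only [map_add, hx, hy]
  | tmul s ω =>
    have hω : ω ∈ Submodule.span P.Ring (Set.range (KaehlerDifferential.D R P.Ring)) := by
      rw [KaehlerDifferential.span_range_derivation]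
      trivial
    induction hω using Submodule.span_induction generalizing s with
    | mem ω hω =>
      obtain ⟨p, rfl⟩ := hω
      rw [CotangentSpace.map_tmul]
      simp only [toKaehler, KaehlerDifferential.mapBaseChange_tmul, KaehlerDifferential.map_D,
        map_smul, Hom.toAlgHom_apply, f.algebraMap_toRingHom]
      rw [algebraMap_smul]
    | zero => simp only [tmul_zero, map_zero]
    | add x y _ _ hx hy => simp only [tmul_add, map_add, hx, hy]
    | smul a x _ hx =>
      have : s ⊗ₜ[P.Ring] (a • x) = (a • s) ⊗ₜ[P.Ring] x := (smul_tmul a s x).symm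
      rw [this]
      exact hx _

theorem liftBaseChange_toKaehler_map (y : S' ⊗[S] P.CotangentSpace) :
    P'.toKaehler (LinearMap.liftBaseChange S' (CotangentSpace.map f) y) =
      NLCx.bcH0Map R S R' S' (P.toKaehler.baseChange S' y) := by
  induction y using TensorProduct.induction_on with
  | zero => simp only [map_zero]
  | add x y hx hy => simp only [map_add, hx, hy]
  | tmul a z =>
    simp only [LinearMap.liftBaseChange_tmul, map_smul, LinearMap.baseChange_tmul, NLCx.bcH0Map,
      toKaehler_map]

theorem exact_baseChange_toKaehler :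
    Function.Exact (P.cotangentComplex.baseChange S') (P.toKaehler.baseChange S') :=
  lTensor_exact S' P.exact_cotangentComplex_toKaehler P.toKaehler_surjective

theorem baseChange_toKaehler_surjective :
    Function.Surjective (P.toKaehler.baseChange S') :=
  LinearMap.lTensor_surjective S' P.toKaehler_surjective

theorem exact_baseChange_h1Cotangentι [Module.Flat S S'] :
    Function.Exact (P.h1Cotangentι.baseChange S') (P.cotangentComplex.baseChange S') :=
  Module.Flat.lTensor_exact S' (LinearMap.exact_subtype_ker_map _)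

theorem liftBaseChange_h1Cotangent_map (w : S' ⊗[S] P.H1Cotangent) :
    LinearMap.liftBaseChange S' (Cotangent.map f) (P.h1Cotangentι.baseChange S' w) =
      P'.h1Cotangentι ((H1Cotangent.map f).liftBaseChange S' w) := by
  induction w using TensorProduct.induction_on with
  | zero => simp only [map_zero]
  | add x y hx hy => simp only [map_add, hx, hy]
  | tmul a z =>
    simp only [LinearMap.baseChange_tmul, LinearMap.liftBaseChange_tmul, map_smul]
    rfl

/-- **Criterion**: for `S'` flat over `S`, `NLCx.bcMap f` is a quasi-isomorphism as soon as it induces bijections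
`S' ⊗ H¹ → H¹` and `S' ⊗ Ω → Ω`. -/
theorem quasiIso_bcMap_of_bijective [Module.Flat S S']
    (h1 : Function.Bijective ((H1Cotangent.map f).liftBaseChange S'))
    (h0 : Function.Bijective (NLCx.bcH0Map R S R' S')) :
    QuasiIso (NLCx.bcMap (S' := S') f) := by
  apply quasiIso_bcMap_of_quasiIso_ttBcMap
  unfold ttBcMap
  apply quasiIso_ttHomOf
  · -- K1
    intro x hx hx0
    change P.cotangentComplex.baseChange S' x = 0 at hx
    change LinearMap.liftBaseChange S' (Cotangent.map f) x = 0 at hx0
    obtain ⟨w, rfl⟩ := (exact_baseChange_h1Cotangentι (S' := S') (P := P) x).mp hx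
    rw [liftBaseChange_h1Cotangent_map] at hx0
    have hw : (H1Cotangent.map f).liftBaseChange S' w = 0 := by
      apply P'.h1Cotangentι_injective
      rw [hx0, map_zero]
    have : w = 0 := h1.1 (by rw [hw, map_zero])
    rw [this, map_zero]
  · -- K2
    intro x' hx'
    change P'.cotangentComplex x' = 0 at hx'
    obtain ⟨w, hw⟩ := h1.2 ⟨x', hx'⟩
    refine ⟨P.h1Cotangentι.baseChange S' w, ?_, ?_⟩
    · change P.cotangentComplex.baseChange S' (P.h1Cotangentι.baseChange S' w) = 0
      exact (exact_baseChange_h1Cotangentι (S' := S') (P := P)).apply_apply_eq_zero w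
    · change LinearMap.liftBaseChange S' (Cotangent.map f) (P.h1Cotangentι.baseChange S' w) = x'
      rw [liftBaseChange_h1Cotangent_map, hw]
      rfl
  · -- C1
    intro y'
    obtain ⟨w, hw⟩ := h0.2 (P'.toKaehler y')
    obtain ⟨y, rfl⟩ := baseChange_toKaehler_surjective (S' := S') (P := P) w
    have hker : P'.toKaehler
        (LinearMap.liftBaseChange S' (CotangentSpace.map f) y - y') = 0 := by
      rw [map_sub, liftBaseChange_toKaehler_map, hw, sub_self]
    obtain ⟨z', hz'⟩ := (P'.exact_cotangentComplex_toKaehler _).mp hker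
    refine ⟨y, z', ?_⟩
    change LinearMap.liftBaseChange S' (CotangentSpace.map f) y = y' + P'.cotangentComplex z'
    rw [hz']
    abel
  · -- C2
    intro y hy
    obtain ⟨z', hz'⟩ := hy
    change P'.cotangentComplex z' = LinearMap.liftBaseChange S' (CotangentSpace.map f) y at hz'
    have h1' : P'.toKaehler (LinearMap.liftBaseChange S' (CotangentSpace.map f) y) = 0 := by
      rw [← hz']
      exact P'.exact_cotangentComplex_toKaehler.apply_apply_eq_zero z'
    rw [liftBaseChange_toKaehler_map] at h1'
    have h2 : P.toKaehler.baseChange S' y = 0 := h0.1 (by rw [h1', map_zero])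
    obtain ⟨z, hz⟩ := (exact_baseChange_toKaehler (S' := S') (P := P) y).mp h2
    exact ⟨z, hz⟩

end criterion

end Groth.Agent.Lib.NLQis32
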