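import Groth.Agent.Lib.NLHensel32
import Groth.Agent.Lib.StrictHensQuotB96
import Groth.Agent.Lib.StrictHenselizationEpi61
import Groth.Agent.Lib.StrictHenselizationProps
import Groth.Agent.Lib.StrictHenselization
import Groth.Agent.Lib.H56IndEtale
import Groth.Agent.Lib.H56ShGen
import Groth.Agent.Lib.ShDescent16a

/-!
# The naive cotangent complex and strict henselization (helper32)

For a local homomorphism of local rings `A → B` with strict henselizations `Ash`, `Bsh`, the
canonical map `NL_{B/A} ⊗_B Bsh → NL_{Bsh/Ash}` is a quasi-isomorphism.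
-/

set_option autoImplicit false
universe u

open TensorProduct Algebra CategoryTheory Limits

attribute [local instance] HasDerivedCategory.standard

namespace Groth.Agent.Lib.NLStrictHensel32

open Groth.Agent.Lib.NLEtaleBC32 Groth.Agent.Lib.NLHensel32

section indEtale

variable (R S : Type u) [CommRing R] [IsLocalRing R] [CommRing S] [IsLocalRing S] [Algebra R S]
  [IsLocalHom (algebraMap R S)] [Hensel.IsStrictHenselization R S]

theorem flat_of_isStrictHenselization : Module.Flat R S :=
  (Groth.Agent.Lib.StrictHenselization.faithfullyFlat_of_isStrictHenselization R S).toFlat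

theorem genCond_of_isStrictHenselization : Groth.Agent.Lib.H56IndEtale.GenCond R S := fun b =>
  Groth.Agent.Lib.H56ShGen.isEtaleGen_of_isStrictHenselization R S b

theorem kerCond_of_isStrictHenselization : Groth.Agent.Lib.H56IndEtale.KerCond R S := by
  intro E _ _ _ φ w hw
  haveI : Module.Flat R S := flat_of_isStrictHenselization R S
  obtain ⟨s, hs, hsw⟩ := Groth.Agent.Lib.ShDescent16.exists_kill (S := R) (T := S) φ (N := E) w (by
    letI : Algebra E S := (φ : E →+* S).toAlgebra
    show (w ⊗ₜ[E] (1 : S) : E ⊗[E] S) = 0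
    have h1 : (w ⊗ₜ[E] (1 : S) : E ⊗[E] S) = (1 : E) ⊗ₜ[E] (w • (1 : S)) := by
      rw [← TensorProduct.smul_tmul, smul_eq_mul, mul_one]
    rw [h1, Algebra.smul_def, mul_one]
    have h2 : algebraMap E S w = φ w := rfl
    rw [h2, hw, TensorProduct.tmul_zero])
  exact ⟨s, hs, by rwa [smul_eq_mul] at hsw⟩

theorem isIndEtale_of_isStrictHenselization : EtPBC.IsIndEtale R S :=
  Groth.Agent.Lib.H56IndEtale.isIndEtale_of_gen_of_ker (genCond_of_isStrictHenselization R S)
    (kerCond_of_isStrictHenselization R S)

/-- A strict henselization is formally étale. -/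
theorem formallyEtale_of_isStrictHenselization : Algebra.FormallyEtale R S :=
  formallyEtale_of_isIndEtale _ _ (isIndEtale_of_isStrictHenselization R S)

end indEtale

section hens

variable (A B Bh : Type u) [CommRing A] [CommRing B] [IsLocalRing B] [Algebra A B]
  [CommRing Bh] [IsLocalRing Bh] [Algebra B Bh] [IsLocalHom (algebraMap B Bh)]
  [Hensel.IsStrictHenselization B Bh] [Algebra A Bh] [IsScalarTower A B Bh]

/-- `Bsh ⊗_B H¹(L_{B/A}) → H¹(L_{Bsh/A})` is bijective for a strict henselization `Bsh` of `B`. -/
theorem bijective_h1_of_isStrictHenselization :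
    Function.Bijective ((Algebra.H1Cotangent.map A A B Bh).liftBaseChange Bh) := by
  obtain ⟨Lh, _, _, _, _, hLh⟩ :=
    Groth.Agent.Lib.StrictHenselization.exists_isStrictHenselization (R := LocP A B)
  obtain ⟨S', _, _, _, _, π, hπ, hkerπ, hcommπ⟩ :=
    Groth.Agent.Lib.StrictHensQuot96.exists_quotient_data Lh (rhoP A B) (rhoP_surjective A B)
  haveI : Hensel.IsStrictHenselization B S' :=
    Groth.Agent.Lib.StrictHensQuot96.isStrictHenselization_of_surjective (rhoP A B)
      (rhoP_surjective A B) S' π hπ hkerπ hcommπ
  obtain ⟨e⟩ :=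
    Groth.Agent.Lib.StrictHenselizationEpi61.exists_algEquiv_of_isStrictHenselization B S' Bh
  haveI : Module.Flat B Bh := flat_of_isStrictHenselization B Bh
  haveI : Algebra.FormallyEtale (LocP A B) Lh :=
    formallyEtale_of_isStrictHenselization (LocP A B) Lh
  haveI : Module.Flat (LocP A B) Lh := flat_of_isStrictHenselization (LocP A B) Lh
  refine bijective_of_localLift Lh ((e : S' →+* Bh).comp π) ?_ ?_ ?_
  · exact e.surjective.comp hπ
  · intro r
    rw [RingHom.comp_apply, hcommπ]
    exact e.commutes _
  · rw [← hkerπ]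
    ext z
    simp only [RingHom.mem_ker, RingHom.comp_apply]
    constructor
    · intro h
      exact e.injective (by rw [map_zero]; exact h)
    · intro h
      rw [h]
      exact map_zero _

end hens

section main

/-- **NL and strict henselization**: for a local homomorphism `A → B` with strict henselizations `Ash`, `Bsh`,
the canonical map `NL_{B/A} ⊗_B Bsh → NL_{Bsh/Ash}` is a quasi-isomorphism. -/
theorem quasiIso_bcMapSelf_strictHenselization (A B Ash Bsh : Type u) [CommRing A] [CommRing B]
    [CommRing Ash] [CommRing Bsh] [IsLocalRing A] [IsLocalRing B] [IsLocalRing Ash]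
    [IsLocalRing Bsh] [Algebra A B]
    [Algebra A Ash] [IsLocalHom (algebraMap A Ash)] [Hensel.IsStrictHenselization A Ash]
    [Algebra B Bsh] [IsLocalHom (algebraMap B Bsh)] [Hensel.IsStrictHenselization B Bsh]
    [Algebra Ash Bsh] [Algebra A Bsh] [IsScalarTower A Ash Bsh] [IsScalarTower A B Bsh] :
    QuasiIso (NLCx.bcMapSelf A B Ash Bsh) := by
  haveI := flat_of_isStrictHenselization B Bsh
  haveI := formallyEtale_of_isStrictHenselization A Ash
  haveI := formallyEtale_of_isStrictHenselization B Bsh
  exact quasiIso_bcMapSelf_of_bijective A B Ash Bsh (bijective_h1_of_isStrictHenselization A B Bsh)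

end main

end Groth.Agent.Lib.NLStrictHensel32
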