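import Mathlib

/-!
# Nakai–Moishezon (helper13): elementary lemmas (Mathlib only)

* `exists_pos_h0` : if `χ(n) = Σ_{i<N+2} (-1)^i h_i(n)` is a polynomial of degree `d ≥ 1` with positive leading
  coefficient and `h_i(n)` is eventually constant for every `i ≥ 2`, then `h_0(n) > 0` for some `n ≥ 1`.
* `exists_forall_eq_of_antitone` : an eventually antitone sequence of naturals is eventually constant.
* `eq_C_of_eval_mul_eq` : a polynomial with `p(Bn) = c` for all `n` (`B ≥ 1`) is constant.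
-/

set_option autoImplicit false

namespace Groth.Agent.Lib.NMArith13

open Polynomial Finset

theorem tendsto_eval_natCast (p : ℚ[X]) (d : ℕ) (hd : 0 < d) (hdeg : p.natDegree ≤ d)
    (hc : 0 < p.coeff d) :
    Filter.Tendsto (fun n : ℕ => p.eval (n : ℚ)) Filter.atTop Filter.atTop := by
  have hnd : p.natDegree = d :=
    le_antisymm hdeg (le_natDegree_of_ne_zero hc.ne')
  have h1 : 0 < p.degree := natDegree_pos_iff_degree_pos.1 (by rw [hnd]; exact hd)
  have h2 : 0 ≤ p.leadingCoeff := by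
    rw [leadingCoeff, hnd]; exact hc.le
  exact (p.tendsto_atTop_of_leadingCoeff_nonneg h1 h2).comp tendsto_natCast_atTop_atTop

theorem exists_pos_h0 (d : ℕ) (hd : 0 < d) (p : ℚ[X]) (hdeg : p.natDegree ≤ d) (hc : 0 < p.coeff d)
    (χ : ℕ → ℤ) (hχ : ∀ n, (χ n : ℚ) = p.eval (n : ℚ)) (N n₀ : ℕ) (h : ℕ → ℕ → ℕ)
    (hsum : ∀ n, χ n = ∑ i ∈ range (N + 2), (-1 : ℤ) ^ i * (h i n : ℤ))
    (hconst : ∀ i, 2 ≤ i → ∀ n, n₀ ≤ n → h i (n + 1) = h i n) :
    ∃ n, 1 ≤ n ∧ 0 < h 0 n := by
  set T : ℕ → ℤ := fun n => ∑ i ∈ range N, (-1 : ℤ) ^ (i + 2) * (h (i + 2) n : ℤ) with hT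
  have hsplit : ∀ n, χ n = (h 0 n : ℤ) - (h 1 n : ℤ) + T n := by
    intro n
    rw [hsum n, Finset.sum_range_succ', Finset.sum_range_succ']
    simp only [hT, pow_zero, one_mul, zero_add, pow_one]
    ring
  have hTstep : ∀ n, n₀ ≤ n → T (n + 1) = T n := by
    intro n hn
    simp only [hT]
    refine Finset.sum_congr rfl fun i _ => ?_
    rw [hconst (i + 2) (by omega) n hn]
  have hTconst : ∀ n, n₀ ≤ n → T n = T n₀ := by
    intro n hn
    induction n, hn using Nat.le_induction with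
    | base => rfl
    | succ n hn ih => rw [hTstep n hn, ih]
  have htend := tendsto_eval_natCast p d hd hdeg hc
  obtain ⟨n, hn1, hn2⟩ := ((htend.eventually_gt_atTop ((T n₀ : ℤ) : ℚ)).and
    (Filter.eventually_ge_atTop (max n₀ 1))).exists
  refine ⟨n, (le_max_right _ _).trans hn2, ?_⟩
  have hn0 : n₀ ≤ n := (le_max_left _ _).trans hn2
  have h3 : (T n₀ : ℤ) < χ n := by
    have : ((T n₀ : ℤ) : ℚ) < (χ n : ℚ) := by rw [hχ n]; exact hn1
    exact_mod_cast this
  have h4 := hsplit n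
  rw [hTconst n hn0] at h4
  have h5 : (0 : ℤ) < (h 0 n : ℤ) := by
    have : (0 : ℤ) ≤ (h 1 n : ℤ) := Int.natCast_nonneg _
    linarith
  exact_mod_cast h5

/-- an eventually antitone sequence of natural numbers is eventually constant -/
theorem exists_forall_eq_of_antitone (u : ℕ → ℕ) (n₀ : ℕ) (h : ∀ n, n₀ ≤ n → u (n + 1) ≤ u n) :
    ∃ n₁, n₀ ≤ n₁ ∧ ∀ n, n₁ ≤ n → u (n + 1) = u n := by
  -- strong induction on the value `u n₀`
  induction hv : u n₀ using Nat.strong_induction_on generalizing n₀ with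
  | _ v ih =>
    by_cases hcon : ∀ n, n₀ ≤ n → u (n + 1) = u n
    · exact ⟨n₀, le_rfl, hcon⟩
    · push Not at hcon
      obtain ⟨n, hn, hne⟩ := hcon
      have hlt : u (n + 1) < u n := lt_of_le_of_ne (h n hn) hne
      have hmono : ∀ m, n₀ ≤ m → u m ≤ u n₀ := by
        intro m hm
        induction m, hm using Nat.le_induction with
        | base => exact le_rfl
        | succ m hm ihm => exact (h m hm).trans ihm
      have hlt' : u (n + 1) < v := by
        rw [← hv]; exact lt_of_lt_of_le hlt (hmono n hn)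
      obtain ⟨n₁, hn₁, hn₁'⟩ := ih (u (n + 1)) hlt' (n + 1)
        (fun m hm => h m (by omega)) rfl
      exact ⟨n₁, by omega, hn₁'⟩

/-- a polynomial taking the same value at all positive multiples of `B ≥ 1` is constant -/
theorem coeff_eq_zero_of_eval_mul_eq (p : ℚ[X]) (B : ℕ) (hB : 0 < B) (c : ℚ)
    (h : ∀ n : ℕ, p.eval ((B * n : ℕ) : ℚ) = c) (e : ℕ) (he : 0 < e) : p.coeff e = 0 := by
  have hp : p = C c := by
    refine Polynomial.eq_of_infinite_eval_eq p (C c) ?_
    refine Set.infinite_of_injective_forall_mem (f := fun n : ℕ => ((B * n : ℕ) : ℚ)) ?_ ?_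
    · intro a b hab
      have hab' : ((B * a : ℕ) : ℚ) = ((B * b : ℕ) : ℚ) := hab
      have : B * a = B * b := by exact_mod_cast hab'
      exact Nat.eq_of_mul_eq_mul_left hB this
    · intro n
      change p.eval ((B * n : ℕ) : ℚ) = (C c).eval ((B * n : ℕ) : ℚ)
      rw [h n, eval_C]
  rw [hp, coeff_C, if_neg he.ne']

end Groth.Agent.Lib.NMArith13
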