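import Groth.Agent.Lib.H78IdealChain
import Groth.Agent.Lib.SnapCoeff13

/-!
# Nakai–Moishezon, part 3 (helper13): generic cohomological lemmas

`X` proper over a field `k`.
* `shortExact_twist` : twisting a short exact sequence by an invertible module.
* `finrank_X₁_eq_X₂`, `finrank_X₂_le_X₁`, `map_g_zero_surjective_of_finrank_le`.
-/

set_option autoImplicit false
set_option linter.style.haveILetI false
universe u
open CategoryTheory CategoryTheory.Limits AlgebraicGeometry

namespace Groth.Agent.Lib.NMCoh13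

open Groth.Agent.Lib Groth.Agent.Lib.CohLES CohB1 Groth.Agent.Lib.OXModTensor

variable {X : Scheme.{u}}

/-- twisting by an invertible module is exact -/
theorem shortExact_twist {P : X.Modules} (hP : PicF.IsInvertible P) {S : ShortComplex X.Modules}
    (hS : S.ShortExact) : (S.map (TwistEquiv.tensorRightFunctor P)).ShortExact := by
  obtain ⟨P', -, ⟨e'⟩⟩ := H78Dual.exists_tensor_inverse hP
  have e'' : CohB1.tensorMod P P' ≅ Coh.structureModule X := braiding P P' ≪≫ e'
  exact TwistEquiv.shortExact_map_tensorRight e'' hS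

variable (k : Type u) [Field k] [X.Over (Spec (CommRingCat.of k))]

section LES

variable {S : ShortComplex X.Modules} (hS : S.ShortExact)

include hS in
theorem finrank_X₁_eq_X₂ (p : ℕ) [Subsingleton (Coh.HH X S.X₃ p)] [Subsingleton (Coh.HH X S.X₃ (p + 1))] :
    Module.finrank k (Coh.HH X S.X₁ (p + 1)) = Module.finrank k (Coh.HH X S.X₂ (p + 1)) := by
  have hinj : Function.Injective (mapₗ k S.f (p + 1)) := map_f_injective_succ hS p
  have hsurj : Function.Surjective (mapₗ k S.f (p + 1)) := by
    intro x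
    obtain ⟨y, hy⟩ := exact₂ hS (p + 1) x (Subsingleton.elim _ _)
    exact ⟨y, hy⟩
  exact (LinearEquiv.ofBijective (mapₗ k S.f (p + 1)) ⟨hinj, hsurj⟩).finrank_eq

include hS in
theorem map_f_surjective (p : ℕ) [Subsingleton (Coh.HH X S.X₃ p)] :
    Function.Surjective (mapₗ k S.f p) := by
  intro x
  obtain ⟨y, hy⟩ := exact₂ hS p x (Subsingleton.elim _ _)
  exact ⟨y, hy⟩

include hS in
theorem finrank_X₂_le_X₁ (p : ℕ) [Subsingleton (Coh.HH X S.X₃ p)]
    [Module.Finite k (Coh.HH X S.X₁ p)] :
    Module.finrank k (Coh.HH X S.X₂ p) ≤ Module.finrank k (Coh.HH X S.X₁ p) := by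
  have h := LinearMap.finrank_range_le (mapₗ k S.f p)
  rwa [LinearMap.range_eq_top.2 (map_f_surjective k hS p), finrank_top] at h

include hS in
/-- if `H¹(X₃) = 0` and `dim H¹(X₁) ≤ dim H¹(X₂)` then `H⁰(X₂) → H⁰(X₃)` is surjective -/
theorem map_g_zero_surjective_of_finrank_le [Subsingleton (Coh.HH X S.X₃ 1)]
    [Module.Finite k (Coh.HH X S.X₁ 1)]
    (hle : Module.finrank k (Coh.HH X S.X₁ 1) ≤ Module.finrank k (Coh.HH X S.X₂ 1)) :
    Function.Surjective (map S.g 0) := by
  have hsurj := map_f_surjective k hS 1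
  haveI : Module.Finite k (Coh.HH X S.X₂ 1) := Module.Finite.of_surjective _ hsurj
  have heq : Module.finrank k (Coh.HH X S.X₁ 1) = Module.finrank k (Coh.HH X S.X₂ 1) :=
    le_antisymm hle (finrank_X₂_le_X₁ k hS 1)
  have hinj : Function.Injective (mapₗ k S.f 1) :=
    (LinearMap.injective_iff_surjective_of_finrank_eq_finrank heq).2 hsurj
  intro x
  have h0 : δ hS 0 x = 0 := by
    apply hinj
    rw [map_zero]
    exact map_f_δ hS 0 x
  obtain ⟨y, hy⟩ := exact₃ hS 0 x h0
  exact ⟨y, hy⟩

end LES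

end Groth.Agent.Lib.NMCoh13
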