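import Groth.Agent.Lib.NMNef13
import Groth.Agent.Lib.H15RedLift

/-!
# Strictly nef + effective on every integral closed subscheme ⇒ ample (helper13)

Relative versions (for a closed subscheme `I.subscheme ⊆ X`) of the finiteness argument of `NMNef13`, where strict nefness
is only known on the ambient `X`.
-/

set_option autoImplicit false
set_option linter.style.haveILetI false
universe u
open CategoryTheory CategoryTheory.Limits AlgebraicGeometry TopologicalSpace

namespace Groth.Agent.Lib.NMEff13

open Groth.Agent.Lib Groth.Agent.Lib.IsoCls13 CohB1 Groth.Agent.Lib.NMBasic13 Groth.Agent.Lib.NMNef13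

section Cls

theorem cls_pullback_congr {Y Z : Scheme.{u}} (f : Y ⟶ Z) {N N' : Z.Modules} (h : cls N = cls N') :
    cls ((Scheme.Modules.pullback f).obj N) = cls ((Scheme.Modules.pullback f).obj N') := by
  obtain ⟨e⟩ := cls_eq_iff.1 h
  exact cls_eq_of_iso ((Scheme.Modules.pullback f).mapIso e)

theorem cls_pullback_tensorPow {Y Z : Scheme.{u}} (f : Y ⟶ Z) {N : Z.Modules} (hN : PicF.IsInvertible N)
    (a : ℕ) : cls ((Scheme.Modules.pullback f).obj (CohB1.tensorPow N a)) =
      cls ((Scheme.Modules.pullback f).obj N) ^ a := by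
  rw [cls_eq_iff.2 (H78AtlasIso.nonempty_pullback_tensorPow_iso f hN a), cls_tensorPow]

theorem cls_pullback_comp {W Y Z : Scheme.{u}} (f : W ⟶ Y) (g : Y ⟶ Z) (h : W ⟶ Z) (hfg : f ≫ g = h)
    (N : Z.Modules) : cls ((Scheme.Modules.pullback f).obj ((Scheme.Modules.pullback g).obj N)) =
      cls ((Scheme.Modules.pullback h).obj N) := by
  subst hfg
  exact cls_eq_of_iso ((Scheme.Modules.pullbackComp f g).app N)

end Cls

section B

variable (k : Type u) [Field k] {X : Scheme.{u}} [X.Over (Spec (CommRingCat.of k))]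
  [IsProper (X ↘ Spec (CommRingCat.of k))]

open Groth.Agent.Lib.H90Invertible in
/-- relative version of `NMNef13.subsingleton_of_le_genLocus` on a closed subscheme -/
theorem subsingleton_of_le_genLocus {L : X.Modules} (hL : PicF.IsInvertible L) (hnef : SNef k L)
    (I : X.IdealSheafData) {N : I.subscheme.Modules} (hNinv : PicF.IsInvertible N) (a : ℕ) (ha : 0 < a)
    (hN : cls N = cls ((Scheme.Modules.pullback I.subschemeι).obj L) ^ a)
    (B : ℕ) (hB : 0 < B) (t : Γ(CohB1.tensorPow N B, ⊤)) (C : Closeds I.subscheme)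
    (hC : IsIrreducible (C : Set I.subscheme))
    (hle : (C : Set I.subscheme) ⊆ CohB1.genLocus (CohB1.tensorPow N B) (ofSection t)) :
    (C : Set I.subscheme).Subsingleton := by
  by_contra hns
  letI : I.subscheme.Over (Spec (CommRingCat.of k)) := ⟨I.subschemeι ≫ (X ↘ Spec (CommRingCat.of k))⟩
  haveI : IsProper (I.subscheme ↘ Spec (CommRingCat.of k)) := by
    change IsProper (I.subschemeι ≫ (X ↘ Spec (CommRingCat.of k)))
    infer_instance
  haveI := EulerLE48.isNoetherian k I.subscheme
  obtain ⟨C', hC'le, hC'irr, hC'dim⟩ := exists_irreducible_dim_one C hC hns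
  obtain ⟨Γ, hΓ⟩ : ∃ Γ : Closeds X, (Γ : Set X) = I.subschemeι '' (C' : Set I.subscheme) :=
    ⟨⟨_, I.subschemeι.isClosedEmbedding.isClosedMap _ C'.isClosed⟩, rfl⟩
  have hΓirr : IsIrreducible (Γ : Set X) := by
    rw [hΓ]; exact hC'irr.image _ I.subschemeι.continuous.continuousOn
  have hΓdim : topologicalKrullDim (Γ : Set X) = 1 := by
    rw [hΓ, ← hC'dim]; exact NMPull13.topologicalKrullDim_image I.subschemeι.isEmbedding _
  obtain ⟨J, hJ⟩ : ∃ J : X.IdealSheafData, J = Scheme.IdealSheafData.vanishingIdeal Γ := ⟨_, rfl⟩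
  have hsupp : (J.support : Set X) = (Γ : Set X) := by
    rw [hJ, Scheme.IdealSheafData.coe_support_vanishingIdeal]
  have hIJ : I ≤ J := by
    rw [hJ, ← Scheme.IdealSheafData.le_support_iff_le_vanishingIdeal]
    intro x hx
    have hx' : x ∈ I.subschemeι '' (C' : Set I.subscheme) := by rw [← hΓ]; exact hx
    obtain ⟨y, -, rfl⟩ := hx'
    change I.subschemeι y ∈ (I.support : Set X)
    rw [← I.range_subschemeι]; exact ⟨y, rfl⟩
  obtain ⟨i₁, hi₁⟩ : ∃ i₁ : J.subscheme ⟶ I.subscheme, i₁ ≫ I.subschemeι = J.subschemeι :=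
    ⟨Scheme.IdealSheafData.inclusion hIJ, Scheme.IdealSheafData.inclusion_subschemeι hIJ⟩
  have hrange : ∀ y : J.subscheme, i₁ y ∈ (C' : Set I.subscheme) := by
    intro y
    have h1 : J.subschemeι y ∈ (Γ : Set X) := by
      rw [← hsupp, ← J.range_subschemeι]; exact ⟨y, rfl⟩
    rw [hΓ] at h1
    obtain ⟨c, hc, hcy⟩ := h1
    have h2 : i₁ y = c := by
      apply I.subschemeι.isEmbedding.injective
      rw [hcy, ← hi₁]; rfl
    rw [h2]; exact hc
  haveI : IsIntegral J.subscheme := by rw [hJ]; exact H90DevAtom.isIntegral_subscheme Γ hΓirr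
  letI : J.subscheme.Over (Spec (CommRingCat.of k)) := ⟨J.subschemeι ≫ (X ↘ Spec (CommRingCat.of k))⟩
  haveI : IsProper (J.subscheme ↘ Spec (CommRingCat.of k)) := by
    change IsProper (J.subschemeι ≫ (X ↘ Spec (CommRingCat.of k)))
    infer_instance
  have hdimT : topologicalKrullDim J.subscheme ≤ (1 : ℕ) := by
    rw [NMMain13.dim_subscheme, hsupp, hΓdim]; rfl
  have hdeg := hnef J inferInstance (by rw [hsupp]; exact hΓdim)
  rw [euler_quotMod_sub k J hL] at hdeg
  have hNB : PicF.IsInvertible (CohB1.tensorPow N B) := H78TensorGen.isInvertible_tensorPow hNinv B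
  have hg := H78PullSec.genLocus_pbTop i₁ hNB t
  have htop : i₁ ⁻¹ᵁ CohB1.genLocus (CohB1.tensorPow N B) (ofSection t) = ⊤ :=
    top_le_iff.1 (fun y _ => hle (hC'le (hrange y)))
  have hgl : CohB1.genLocus _ (ofSection (H78PullSec.pbTop i₁ _ t)) = ⊤ := by rw [hg, htop]
  haveI := PullInverse.isIso_of_genLocus_eq_top _ hgl
  have h1 : cls ((Scheme.Modules.pullback i₁).obj (CohB1.tensorPow N B)) = 1 := by
    rw [← cls_one]
    exact (cls_eq_of_iso (asIso (ofSection (H78PullSec.pbTop i₁ _ t)))).symm
  have hM : PicF.IsInvertible ((Scheme.Modules.pullback I.subschemeι).obj L) :=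
    H90Invertible.isInvertible_pullback I.subschemeι hL
  have h2 : cls ((Scheme.Modules.pullback i₁).obj (CohB1.tensorPow N B)) =
      cls ((Scheme.Modules.pullback J.subschemeι).obj L) ^ (a * B) := by
    rw [cls_pullback_tensorPow i₁ hNinv B, cls_pullback_congr i₁ (hN.trans (cls_tensorPow _ a).symm),
      cls_pullback_tensorPow i₁ hM a, cls_pullback_comp i₁ I.subschemeι J.subschemeι hi₁ L, ← pow_mul]
  have h3 : cls (CohB1.tensorPow ((Scheme.Modules.pullback J.subschemeι).obj L) (a * B)) =
      cls (Coh.structureModule J.subscheme) := by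
    rw [cls_tensorPow, ← h2, h1, cls_one]
  obtain ⟨e⟩ := cls_eq_iff.1 h3
  have h0 : Curv2.deg k J.subscheme
      (CohB1.tensorPow ((Scheme.Modules.pullback J.subschemeι).obj L) (a * B)) 1 = 0 := by
    rw [DegTensor13.deg_congr k hdimT e 1, DegTensor13.deg_structureModule k hdimT]
  rw [DegTensor13.deg_tensorPow k hdimT (H90Invertible.isInvertible_pullback J.subschemeι hL) (a * B)] at h0
  have hab : (0 : ℤ) < ((a * B : ℕ) : ℤ) := by exact_mod_cast Nat.mul_pos ha hB
  have := mul_pos hab hdeg
  rw [h0] at this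
  exact lt_irrefl _ this

end B

section G

variable (k : Type u) [Field k] {X : Scheme.{u}} [X.Over (Spec (CommRingCat.of k))]
  [IsProper (X ↘ Spec (CommRingCat.of k))]

open Groth.Agent.Lib.VeryAmpleH3 Groth.Agent.Lib.GenCoverH3 Groth.Agent.Lib.ProjSpaceCoordH3 in
/-- relative version of `NMNef13.isAmple_of_generatedBy` on a closed subscheme of `X` -/
theorem isAmple_of_generatedBy {L : X.Modules} (hL : PicF.IsInvertible L) (hnef : SNef k L)
    (I : X.IdealSheafData) {N : I.subscheme.Modules} (hNinv : PicF.IsInvertible N) (a : ℕ) (ha : 0 < a)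
    (hN : cls N = cls ((Scheme.Modules.pullback I.subschemeι).obj L) ^ a)
    (B : ℕ) (hB : 0 < B) (n : ℕ) (s : Fin (n + 1) → Γ(CohB1.tensorPow N B, ⊤))
    (hs : ProjUP.GeneratedBy (CohB1.tensorPow N B) s) : CohB1.IsAmple N := by
  letI : I.subscheme.Over (Spec (CommRingCat.of k)) := ⟨I.subschemeι ≫ (X ↘ Spec (CommRingCat.of k))⟩
  haveI : IsProper (I.subscheme ↘ Spec (CommRingCat.of k)) := by
    change IsProper (I.subschemeι ≫ (X ↘ Spec (CommRingCat.of k)))
    infer_instance
  haveI := EulerLE48.isNoetherian k I.subscheme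
  haveI : CompactSpace I.subscheme := EulerChar54.compactSpace_of_isProper k I.subscheme
  have hLB : PicF.IsInvertible (CohB1.tensorPow N B) := H78TensorGen.isInvertible_tensorPow hNinv B
  obtain ⟨r, i, hr, hpre, hfst, hsnd, ⟨e⟩⟩ :=
    VeryAmpleH3.exists_lift (I.subscheme ↘ Spec (CommRingCat.of k)) n s hLB hs
  haveI : IsProper (sndP n (Spec (CommRingCat.of k))) := ProjSpaceProper.isProper_toBase n _
  haveI : IsProper (i ≫ sndP n (Spec (CommRingCat.of k))) := by rw [hsnd]; infer_instance
  haveI : IsProper i := IsProper.of_comp i (sndP n (Spec (CommRingCat.of k)))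
  haveI : LocallyQuasiFinite i := by
    rw [← Scheme.Hom.quasiFiniteLocus_eq_top_iff]
    by_contra hne
    have hcl : IsClosed ((i.quasiFiniteLocus : Set I.subscheme)ᶜ) := i.quasiFiniteLocus.2.isClosed_compl
    have hnon : ((i.quasiFiniteLocus : Set I.subscheme)ᶜ).Nonempty := by
      by_contra h
      rw [Set.not_nonempty_iff_eq_empty, Set.compl_empty_iff] at h
      exact hne (Opens.ext h)
    obtain ⟨x, hxW, hx⟩ := IsClosed.exists_closed_singleton hcl hnon
    apply hxW
    change x ∈ i.quasiFiniteLocus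
    rw [Scheme.Hom.mem_quasiFiniteLocus]
    refine FiniteFibreNbhd.quasiFiniteAt_of_finite_fibre i x ?_
    have hFcl : IsClosed (i.base ⁻¹' {i.base x}) := by
      have h1 : IsClosed (i.base '' {x}) := i.isClosedMap _ hx
      rw [Set.image_singleton] at h1
      exact h1.preimage i.continuous
    obtain ⟨j, hj⟩ : ∃ j, x ∈ U s j := by
      have h1 : x ∈ ⨆ j, U s j := by rw [iSup_U_eq_top s hLB hs]; trivial
      exact Opens.mem_iSup.1 h1
    have hFle : i.base ⁻¹' {i.base x} ⊆ U s j := by
      intro z hz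
      have hz' : i.base z = i.base x := hz
      rw [← hpre j, ← hfst] at hj ⊢
      change (fstP n (Spec (CommRingCat.of k))).base (i.base z) ∈ D n ZZ.{u} j
      rw [hz']
      exact hj
    exact NMFinite13.finite_of_irreducible_subsingleton hFcl (fun C hC hCF =>
      subsingleton_of_le_genLocus k hL hnef I hNinv a ha hN B hB (s j) C hC (hCF.trans hFle))
  haveI : IsFinite i := IsFinite.of_isProper_of_locallyQuasiFinite i
  have h1 := H78VeryAmpleConv.isAmple_twistOver_one n (Spec (CommRingCat.of k))
  have h2 := H78PullAmple.isAmple_pullback_of_isAffineHom i h1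
  have h3 := H78AmpleUnit.isAmple_of_iso e.symm h2
  exact (H78AmpleOps.isAmple_tensorPow_iff hNinv hB).2 h3

open Groth.Agent.Lib.H90Invertible in
/-- relative version of `NMMain13.isAmple_of_section` -/
theorem isAmple_of_section {L : X.Modules} (hL : PicF.IsInvertible L) (hnef : SNef k L)
    (I : X.IdealSheafData) [IsIntegral I.subscheme] {N : I.subscheme.Modules} (hNinv : PicF.IsInvertible N)
    (a : ℕ) (ha : 0 < a) (hN : cls N = cls ((Scheme.Modules.pullback I.subschemeι).obj L) ^ a)
    (s : Coh.structureModule I.subscheme ⟶ N) (hs : s ≠ 0)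
    (hvan : ∀ F : I.subscheme.Modules, Coh.IsCoh F → ClSub.KilledByIdeal (PicF2.zeroScheme N s) F →
      H78IdealChain.Van N F) :
    CohB1.IsAmple N := by
  letI : I.subscheme.Over (Spec (CommRingCat.of k)) := ⟨I.subschemeι ≫ (X ↘ Spec (CommRingCat.of k))⟩
  haveI : IsProper (I.subscheme ↘ Spec (CommRingCat.of k)) := by
    change IsProper (I.subschemeι ≫ (X ↘ Spec (CommRingCat.of k)))
    infer_instance
  haveI : IsLocallyNoetherian I.subscheme := EulerLE48.isLocallyNoetherian k I.subscheme
  haveI : CompactSpace I.subscheme := EulerChar54.compactSpace_of_isProper k I.subscheme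
  have hpt : ∀ x : I.subscheme, IsClosed ({x} : Set I.subscheme) →
      ∃ (n : ℕ) (σ : Coh.structureModule I.subscheme ⟶ CohB1.tensorPow N (n + 1)),
        x ∈ CohB1.genLocus _ σ := by
    intro x hx
    by_cases hxD : x ∈ (PicF2.zeroScheme N s).support
    · exact NMLift13.exists_sec_of_mem_support k hNinv s hs hvan hx hxD
    · have hst : s = ofSection (H78SecCoord.sec s) := (H78SecCoord.ofSection_sec s).symm
      rw [hst, NMZero13.mem_support_zeroScheme_iff hNinv, not_not, ← hst] at hxD
      refine ⟨0, s ≫ (OXModTensor.tensorPowOne N).symm.hom, ?_⟩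
      rw [H78AmpleUnit.genLocus_comp_iso]
      exact hxD
  obtain ⟨B, hB, n, σ, hσ⟩ := NMGen13.exists_generatedBy_pow hNinv hpt
  exact isAmple_of_generatedBy k hL hnef I hNinv a ha hN B hB n σ hσ

end G

section Ind

variable (k : Type u) [Field k] {X : Scheme.{u}} [X.Over (Spec (CommRingCat.of k))]
  [IsProper (X ↘ Spec (CommRingCat.of k))]

/-- `L` is ample on the reduced structure of every irreducible closed subset of dimension `< e` -/
def AmpleLt (L : X.Modules) (e : ℕ) : Prop :=
  ∀ C : Closeds X, IsIrreducible (C : Set X) → topologicalKrullDim (C : Set X) < e →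
    CohB1.IsAmple ((Scheme.Modules.pullback (Scheme.IdealSheafData.vanishingIdeal C).subschemeι).obj L)

include k in
/-- on an irreducible closed subscheme of dimension `≤ e`, `L` is ample on all proper closed subschemes -/
theorem ampleOnProper_of_ampleLt {L : X.Modules} (hL : PicF.IsInvertible L) (e : ℕ) (IH : AmpleLt L e)
    (I : X.IdealSheafData) [IrreducibleSpace I.subscheme] (hdim : topologicalKrullDim I.subscheme ≤ e) :
    NMTorsion13.AmpleOnProper ((Scheme.Modules.pullback I.subschemeι).obj L) := by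
  intro D hD
  letI : I.subscheme.Over (Spec (CommRingCat.of k)) := ⟨I.subschemeι ≫ (X ↘ Spec (CommRingCat.of k))⟩
  haveI : IsProper (I.subscheme ↘ Spec (CommRingCat.of k)) := by
    change IsProper (I.subschemeι ≫ (X ↘ Spec (CommRingCat.of k)))
    infer_instance
  letI : D.subscheme.Over (Spec (CommRingCat.of k)) :=
    ⟨D.subschemeι ≫ (I.subscheme ↘ Spec (CommRingCat.of k))⟩
  haveI : IsProper (D.subscheme ↘ Spec (CommRingCat.of k)) := by
    change IsProper (D.subschemeι ≫ (I.subscheme ↘ Spec (CommRingCat.of k)))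
    infer_instance
  have hM := H90Invertible.isInvertible_pullback I.subschemeι hL
  have hMD := H90Invertible.isInvertible_pullback D.subschemeι hM
  refine H78IrredComp.isAmple_of_irreducibleComponents k (D.subscheme ↘ Spec (CommRingCat.of k)) hMD
    (fun Z hZ => ?_)
  have hirr : IsIrreducible (Z : Set D.subscheme) := hZ.1
  obtain ⟨K, hK⟩ : ∃ K : D.subscheme.IdealSheafData, K = Scheme.IdealSheafData.vanishingIdeal Z := ⟨_, rfl⟩
  rw [← hK]
  haveI : IsIntegral K.subscheme := by rw [hK]; exact H90DevAtom.isIntegral_subscheme Z hirr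
  obtain ⟨g, hg⟩ : ∃ g : K.subscheme ⟶ X, g = K.subschemeι ≫ D.subschemeι ≫ I.subschemeι := ⟨_, rfl⟩
  haveI : IsClosedImmersion g := by rw [hg]; infer_instance
  obtain ⟨C', hC'⟩ : ∃ C' : Closeds X, (C' : Set X) = Set.range g :=
    ⟨⟨_, g.isClosedEmbedding.isClosed_range⟩, rfl⟩
  have hC'irr : IsIrreducible (C' : Set X) := by
    rw [hC', ← Set.image_univ]
    exact (IrreducibleSpace.isIrreducible_univ _).image g g.continuous.continuousOn
  have hC'dim : topologicalKrullDim (C' : Set X) < e := by
    rw [hC']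
    have h1 : topologicalKrullDim (Set.range g) = topologicalKrullDim K.subscheme :=
      (IsHomeomorph.topologicalKrullDim_eq _ g.isEmbedding.toHomeomorph.isHomeomorph).symm
    have h2 : topologicalKrullDim K.subscheme ≤ topologicalKrullDim (D.support : Set I.subscheme) := by
      rw [NMMain13.dim_subscheme, ← NMMain13.dim_subscheme D]
      exact topologicalKrullDim_subspace_le _ _
    have h3 := DimDrop.topologicalKrullDim_add_one_le_of_ssubset (S := (D.support : Set I.subscheme))
      (T := Set.univ) D.support.isClosed (IrreducibleSpace.isIrreducible_univ _) (Set.subset_univ _) hD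
    rw [NMMain13.dim_univ] at h3
    rw [h1]
    exact lt_of_le_of_lt h2 (NMMain13.lt_of_add_one_le (h3.trans hdim))
  have hamp := IH C' hC'irr hC'dim
  have hrange : Set.range g ⊆ (C' : Set X) := by rw [hC']
  obtain ⟨ψ, hψ⟩ : ∃ ψ : K.subscheme ⟶ (Scheme.IdealSheafData.vanishingIdeal C').subscheme,
      ψ ≫ (Scheme.IdealSheafData.vanishingIdeal C').subschemeι = g :=
    ⟨H15RedLift.redLift g C' hrange, H15RedLift.redLift_ι g C' hrange⟩
  haveI : IsClosedImmersion (ψ ≫ (Scheme.IdealSheafData.vanishingIdeal C').subschemeι) := by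
    rw [hψ]; infer_instance
  haveI : IsClosedImmersion ψ :=
    IsClosedImmersion.of_comp ψ (Scheme.IdealSheafData.vanishingIdeal C').subschemeι
  have h2 := H78PullAmple.isAmple_pullback_of_isAffineHom ψ hamp
  have hcls : cls ((Scheme.Modules.pullback ψ).obj ((Scheme.Modules.pullback
      (Scheme.IdealSheafData.vanishingIdeal C').subschemeι).obj L)) =
      cls ((Scheme.Modules.pullback K.subschemeι).obj ((Scheme.Modules.pullback D.subschemeι).obj
        ((Scheme.Modules.pullback I.subschemeι).obj L))) := by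
    rw [cls_pullback_comp ψ _ g hψ L,
      cls_pullback_congr K.subschemeι (cls_pullback_comp D.subschemeι I.subschemeι _ rfl L),
      cls_pullback_comp K.subschemeι (D.subschemeι ≫ I.subschemeι) g hg.symm L]
  obtain ⟨e'⟩ := cls_eq_iff.1 hcls
  exact H78AmpleUnit.isAmple_of_iso e' h2

/-- the hypothesis of effectivity on every integral closed subscheme -/
def Eff (L : X.Modules) : Prop :=
  ∀ Z : X.IdealSheafData, IsIntegral Z.subscheme →
    ∃ (m : ℕ) (s : Coh.structureModule Z.subscheme ⟶
      CohB1.tensorPow ((Scheme.Modules.pullback Z.subschemeι).obj L) (m + 1)), s ≠ 0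

/-- **the induction** -/
theorem ampleLt {L : X.Modules} (hL : PicF.IsInvertible L) (hnef : SNef k L) (heff : Eff L) (n : ℕ) :
    AmpleLt L n := by
  induction n with
  | zero =>
    intro C hC hdim
    obtain ⟨I, hI⟩ : ∃ I : X.IdealSheafData, I = Scheme.IdealSheafData.vanishingIdeal C := ⟨_, rfl⟩
    rw [← hI]
    letI : I.subscheme.Over (Spec (CommRingCat.of k)) := ⟨I.subschemeι ≫ (X ↘ Spec (CommRingCat.of k))⟩
    haveI : IsProper (I.subscheme ↘ Spec (CommRingCat.of k)) := by
      change IsProper (I.subschemeι ≫ (X ↘ Spec (CommRingCat.of k)))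
      infer_instance
    refine NMMain13.isAmple_of_dim_le_zero k ?_ (H90Invertible.isInvertible_pullback I.subschemeι hL)
    rw [NMMain13.dim_subscheme, hI, Scheme.IdealSheafData.coe_support_vanishingIdeal]
    exact hdim.le
  | succ n IH =>
    intro C hC hdim
    have hdC : topologicalKrullDim (C : Set X) ≤ n := IntNumCalc13.le_of_lt_succ_withBot hdim
    obtain ⟨I, hI⟩ : ∃ I : X.IdealSheafData, I = Scheme.IdealSheafData.vanishingIdeal C := ⟨_, rfl⟩
    rw [← hI]
    letI : I.subscheme.Over (Spec (CommRingCat.of k)) := ⟨I.subschemeι ≫ (X ↘ Spec (CommRingCat.of k))⟩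
    haveI : IsProper (I.subscheme ↘ Spec (CommRingCat.of k)) := by
      change IsProper (I.subschemeι ≫ (X ↘ Spec (CommRingCat.of k)))
      infer_instance
    haveI : IsIntegral I.subscheme := by rw [hI]; exact H90DevAtom.isIntegral_subscheme C hC
    have hMT := H90Invertible.isInvertible_pullback I.subschemeι hL
    have hdT : topologicalKrullDim I.subscheme ≤ n := by
      rw [NMMain13.dim_subscheme, hI, Scheme.IdealSheafData.coe_support_vanishingIdeal]
      exact hdC
    have hne : topologicalKrullDim I.subscheme ≠ ⊥ := by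
      intro hbot
      have h0 : (0 : WithBot ℕ∞) ≤ topologicalKrullDim I.subscheme :=
        Groth.Agent.Lib.TopKrullDim.dim_nonneg_of_nonempty
      rw [hbot] at h0
      exact absurd h0 (by simp)
    obtain ⟨e, he⟩ := NMMain13.exists_nat_eq hne hdT
    rcases Nat.eq_zero_or_pos e with h0 | hpos_e
    · exact NMMain13.isAmple_of_dim_le_zero k (by rw [he, h0]) hMT
    · haveI : IsLocallyNoetherian I.subscheme := EulerLE48.isLocallyNoetherian k I.subscheme
      haveI : CompactSpace I.subscheme := EulerChar54.compactSpace_of_isProper k I.subscheme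
      have hamp := ampleOnProper_of_ampleLt k hL n IH I hdT
      obtain ⟨m, s, hs⟩ := heff I inferInstance
      have hN : PicF.IsInvertible (CohB1.tensorPow ((Scheme.Modules.pullback I.subschemeι).obj L) (m + 1)) :=
        H78TensorGen.isInvertible_tensorPow hMT (m + 1)
      have hvan : ∀ F : I.subscheme.Modules, Coh.IsCoh F →
          ClSub.KilledByIdeal (PicF2.zeroScheme _ s) F →
          H78IdealChain.Van (CohB1.tensorPow ((Scheme.Modules.pullback I.subschemeι).obj L) (m + 1)) F := by
        intro F hF hk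
        have hampD := hamp _ (NMZero13.support_zeroScheme_ne_univ hN s hs)
        have h1 := H78IdealChain.van_of_killed k (I.subscheme ↘ Spec (CommRingCat.of k)) hMT _ hampD F hF hk
        exact NMLift13.van_pow h1 (Nat.succ_pos m)
      have hNamp := isAmple_of_section k hL hnef I hN (m + 1) (Nat.succ_pos m) (cls_tensorPow _ _) s hs hvan
      exact (H78AmpleOps.isAmple_tensorPow_iff hMT (Nat.succ_pos m)).2 hNamp

/-- **strictly nef + effective on every integral closed subscheme ⇒ ample** -/
theorem isAmple_of_sNef_of_eff {L : X.Modules} (hL : PicF.IsInvertible L) (hnef : SNef k L) (heff : Eff L) :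
    CohB1.IsAmple L := by
  haveI : CompactSpace X := EulerChar54.compactSpace_of_isProper k X
  obtain ⟨D, hD⟩ := SnapperCurv13.exists_nat_dim_le k X (X ↘ Spec (CommRingCat.of k))
  refine H78IrredComp.isAmple_of_irreducibleComponents k (X ↘ Spec (CommRingCat.of k)) hL (fun Z hZ => ?_)
  refine ampleLt k hL hnef heff (D + 1) Z hZ.1
    (lt_of_le_of_lt ((topologicalKrullDim_subspace_le _ _).trans hD) ?_)
  exact_mod_cast Nat.lt_succ_self D

end Ind

end Groth.Agent.Lib.NMEff13
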