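import Groth.Agent.Lib.H78IdealChain
import Groth.Agent.Lib.H90AnnIdeal
import Groth.Agent.Lib.CohFinite

/-!
# Nakai–Moishezon, part 2 (helper13): eventual vanishing for modules with small support

If `L` is ample on every closed subscheme `V(I)` whose support is not all of `X`, then every coherent module `F` with
`Supp F ≠ X` satisfies `H^p(X, F ⊗ L^n) = 0` for `p > 0`, `n ≫ 0` (`H78IdealChain.Van`).
-/

set_option autoImplicit false
set_option linter.style.haveILetI false
universe u
open CategoryTheory CategoryTheory.Limits AlgebraicGeometry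

namespace Groth.Agent.Lib.NMTorsion13

open Groth.Agent.Lib Groth.Agent.Lib.H78IdealChain

variable {X : Scheme.{u}}

/-- the inductive hypothesis: `L` is ample on all closed subschemes with support `≠ X` -/
def AmpleOnProper (L : X.Modules) : Prop :=
  ∀ I : X.IdealSheafData, (I.support : Set X) ≠ Set.univ →
    CohB1.IsAmple ((Scheme.Modules.pullback I.subschemeι).obj L)

theorem van_of_support_ne_univ (k : Type u) [Field k] [X.Over (Spec (CommRingCat.of k))]
    [IsProper (X ↘ Spec (CommRingCat.of k))] {L : X.Modules} (hL : PicF.IsInvertible L) (hamp : AmpleOnProper L)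
    (F : X.Modules) (hF : Coh.IsCoh F) (hsupp : CohB1.support F ≠ Set.univ) : Van L F := by
  haveI : IsLocallyNoetherian X :=
    LocallyOfFiniteType.isLocallyNoetherian (X ↘ Spec (CommRingCat.of k))
  haveI : F.IsQuasicoherent := hF.1
  have hft : ∀ U : X.affineOpens, Module.Finite Γ(X, U.1) Γ(F, U.1) := fun U =>
    CohFinite.finite_sections_of_isCoh F hF U.2
  have hI := hamp (H90AnnIdeal.annIdeal F hft) (by
    rw [H90AnnIdeal.support_annIdeal F hft]; exact hsupp)
  refine van_of_killed k (X ↘ Spec (CommRingCat.of k)) hL _ hI F hF ?_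
  intro U a ha m
  exact Module.mem_annihilator.mp ha m

end Groth.Agent.Lib.NMTorsion13
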