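import Groth.Agent.Lib.EffDiff82a
import Groth.Agent.Lib.H78Integral

/-!
# Nakai–Moishezon, part 5 (helper13): the zero scheme of a nonzero section on an integral scheme

`X` integral, locally Noetherian, `N` invertible, `s : O ⟶ N` nonzero, `D = PicF2.zeroScheme N s`.
* `nonempty_tensor_idealMod_iso` : `N ⊗ I_D ≅ O_X`.
* `mem_support_zeroScheme_iff` : `x ∈ D.support ↔ x ∉ X_s`.
* `support_zeroScheme_ne_univ`.
-/

set_option autoImplicit false
set_option linter.style.haveILetI false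
universe u
open CategoryTheory CategoryTheory.Limits AlgebraicGeometry TopologicalSpace Opposite

namespace Groth.Agent.Lib.NMZero13

open Groth.Agent.Lib.H90Invertible Groth.Agent.Lib.StructureModule Groth.Agent.Lib.H78TensorGen
  Groth.Agent.Lib.H78SecCoord Groth.Agent.Lib.H78Atlas Groth.Agent.Lib.QAffSec82
  Groth.Agent.Lib.IdealMod Groth.Agent.Lib.EffDiff82

variable {X : Scheme.{u}} {N : X.Modules}

/-- membership in the support of the zero scheme -/
theorem mem_support_zeroScheme_iff (hN : PicF.IsInvertible N) (t : Γ(N, ⊤)) (x : X) :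
    x ∈ (PicF2.zeroScheme N (ofSection t)).support ↔ x ∉ CohB1.genLocus N (ofSection t) := by
  obtain ⟨V, hxV, hVaff, ⟨A⟩⟩ := exists_atlas hN
  rw [Groth.Agent.Lib.IdealSheafGeneric.mem_support_iff_le_primeIdealOf _ ⟨V x, hVaff x⟩
    (hVaff x) x (hxV x), ideal_zeroScheme_atlas hN t A x (hVaff x), Ideal.span_singleton_le_iff_mem]
  have h1 : x ∈ CohB1.genLocus N (ofSection t) ↔ x ∈ CohB1.genLocus N (ofSection t) ⊓ V x :=
    ⟨fun h => ⟨h, hxV x⟩, fun h => h.1⟩
  rw [h1, A.genLocus_inf,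
    Groth.Agent.Lib.ParaFact82.mem_basicOpen_iff_notMem_primeIdealOf (hVaff x) _ _ (hxV x), not_not]

/-- `N ⊗ I_{Z(s)} ≅ O_X` for a nonzero section of an invertible module on an integral scheme -/
theorem nonempty_tensor_idealMod_iso [IsIntegral X] [IsLocallyNoetherian X] (hN : PicF.IsInvertible N)
    (s : Coh.structureModule X ⟶ N) (hs : s ≠ 0) :
    Nonempty (CohB1.tensorMod N (ClSub.idealMod (PicF2.zeroScheme N s)) ≅ Coh.structureModule X) := by
  obtain ⟨t, ht⟩ : ∃ t : Γ(N, ⊤), t = sec s := ⟨_, rfl⟩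
  have hst : s = ofSection t := by rw [ht, ofSection_sec]
  rw [hst]
  obtain ⟨V, hxV, hVaff, ⟨AN⟩⟩ := exists_atlas hN
  have hV := iSup_eq_top_of_mem hxV
  set D := PicF2.zeroScheme N (ofSection t) with hD
  have hDi : ∀ i, D.ideal ⟨V i, hVaff i⟩ = Ideal.span {AN.co t i} := fun i =>
    ideal_zeroScheme_atlas hN t AN i (hVaff i)
  have hcnzd : ∀ i, AN.co t i ∈ nonZeroDivisors Γ(X, V i) := fun i => by
    haveI : Nonempty ↥((V i : X.Opens) : Scheme.{u}) := ⟨⟨i, hxV i⟩⟩
    haveI : IsDomain Γ(X, V i) := inferInstance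
    refine mem_nonZeroDivisors_of_ne_zero ?_
    have := Groth.Agent.Lib.H78Integral.co_ne_zero hxV AN s hs i
    rwa [← ht] at this
  have h1 : ∀ i, ∃ δ : Γ(ClSub.idealMod D, V i), idealFn D (V i) δ = AN.co t i := fun i =>
    exists_idealFn_eq D ⟨V i, hVaff i⟩ (by rw [hDi i]; exact Ideal.mem_span_singleton_self _)
  choose δ hδ using h1
  let 𝔇 : Atlas (ClSub.idealMod D) V := ⟨δ, fun i =>
    isGen_idealMod_of_span_singleton D ⟨V i, hVaff i⟩ _ (hcnzd i) (hDi i) (δ i) (hδ i)⟩
  have e1 : ∀ i j, 𝔇.trans i j * AN.trans i j = 1 := fun i j =>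
    trans_mul_eq_one D 𝔇 i j _ (Atlas.isUnit_trans AN i j) (by
      change rf _ (idealFn D (V i) (δ i)) = rf _ (idealFn D (V j) (δ j)) * _
      rw [hδ i, hδ j]
      exact AN.co_compat t i j)
  let 𝔄 := AN.tmul 𝔇
  have e3 : ∀ i j, 𝔄.trans i j = 1 := by
    intro i j
    rw [Atlas.tmul_trans, mul_comm]
    exact e1 i j
  obtain ⟨φ, -⟩ := Groth.Agent.Lib.ModIsoGlueH3.exists_iso_of_atlas
    (L' := CohB1.tensorMod N (ClSub.idealMod D)) (L := Coh.structureModule X)
    (t := 𝔄.E) 𝔄.gen (e := fun i => toSec (V i) 1) (fun i => isGen_one (V i)) (g := 𝔄.trans)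
    (fun i j => (𝔄.trans_spec i j).symm)
    (fun i j => by
      rw [e3 i j, one_smul]
      change (X.presheaf.map (homOfLE _).op).hom 1 = (X.presheaf.map (homOfLE _).op).hom 1
      rw [map_one, map_one]) hV
  exact ⟨φ⟩

/-- the zero scheme of a nonzero section on an integral scheme is not everything -/
theorem support_zeroScheme_ne_univ [IsIntegral X] (hN : PicF.IsInvertible N)
    (s : Coh.structureModule X ⟶ N) (hs : s ≠ 0) :
    ((PicF2.zeroScheme N s).support : Set X) ≠ Set.univ := by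
  obtain ⟨t, ht⟩ : ∃ t : Γ(N, ⊤), t = sec s := ⟨_, rfl⟩
  have hst : s = ofSection t := by rw [ht, ofSection_sec]
  rw [hst]
  intro huniv
  obtain ⟨V, hxV, hVaff, ⟨A⟩⟩ := exists_atlas hN
  obtain ⟨x⟩ : Nonempty X := inferInstance
  have hne : A.co t x ≠ 0 := by
    have := Groth.Agent.Lib.H78Integral.co_ne_zero hxV A s hs x
    rwa [← ht] at this
  have hb : X.basicOpen (A.co t x) ≠ ⊥ := fun h => hne ((basicOpen_eq_bot_iff _).1 h)
  obtain ⟨y, hy⟩ : ∃ y, y ∈ X.basicOpen (A.co t x) := by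
    by_contra hcon
    push Not at hcon
    exact hb (eq_bot_iff.2 fun y hy => (hcon y hy).elim)
  rw [← A.genLocus_inf] at hy
  have hy' : y ∈ (PicF2.zeroScheme N (ofSection t)).support := by
    change y ∈ ((PicF2.zeroScheme N (ofSection t)).support : Set X)
    rw [huniv]; trivial
  exact (mem_support_zeroScheme_iff hN t y).1 hy' hy.1

end Groth.Agent.Lib.NMZero13
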