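import Groth.Agent.Lib.H78H1Ample
import Groth.Agent.Lib.NMCoh13
import Groth.Agent.Lib.NMTorsion13
import Groth.Agent.Lib.NMArith13
import Groth.Agent.Lib.NMZero13

/-!
# Nakai–Moishezon, part 6 (helper13): lifting sections from the zero scheme of a section

* `exists_sec_of_lift` : if global sections of `O/J ⊗ P` lift to `P` (`J` the ideal of a closed point `x`), some section
  of `P` generates `P` at `x`.
-/

set_option autoImplicit false
set_option linter.style.haveILetI false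
universe u
open CategoryTheory CategoryTheory.Limits AlgebraicGeometry MonoidalCategory Opposite TopologicalSpace
open Groth.Agent.Lib.H90Invertible Groth.Agent.Lib.StructureModule Groth.Agent.Lib.H78TensorGen
open Groth.Agent.Lib.H78SecCoord Groth.Agent.Lib.IdealMod Groth.Agent.Lib.OXModTensor
open Groth.Agent.Lib.H78H1Ample

namespace Groth.Agent.Lib.NMLift13

variable {X : Scheme.{u}} {P : X.Modules}

/-- sections from lifting: see the header -/
theorem exists_sec_of_lift (hP : PicF.IsInvertible P) {x : X} (hx : IsClosed ({x} : Set X))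
    (J : X.IdealSheafData) (hsupp : ∀ z : X, z ∈ J.support ↔ z = x)
    (hlift : ∀ t : Γ(CohB1.tensorMod (ClSub.quotMod J) P, ⊤),
      ∃ s : Γ(CohB1.tensorMod (Coh.structureModule X) P, ⊤),
        (tensorModMap (ClSub.toSubscheme J) (𝟙 P)).app ⊤ s = t) :
    ∃ s : Coh.structureModule X ⟶ P, x ∈ CohB1.genLocus P s := by
  obtain ⟨U₀, hxU₀, e₀, he₀⟩ := (isInvertible_iff_exists_isGen P).1 hP x
  obtain ⟨U, hU, hxU, hUle⟩ := Opens.isBasis_iff_nbhd.1 X.isBasis_affineOpens hxU₀
  obtain ⟨e, hedef⟩ : ∃ e : Γ(P, U), e = rs P hUle e₀ := ⟨_, rfl⟩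
  have he : IsGen P U e := by rw [hedef]; exact he₀.mono hUle
  have hg : IsGen (CohB1.tensorMod (Coh.structureModule X) P) U (tmul (toSec U 1) e) :=
    isGen_tmul (isGen_one U) he
  obtain ⟨P', -, ⟨e'⟩⟩ := Groth.Agent.Lib.H78Dual.exists_tensor_inverse hP
  have e'' : CohB1.tensorMod P P' ≅ Coh.structureModule X := braiding P P' ≪≫ e'
  let F := Groth.Agent.Lib.TwistEquiv.tensorRightFunctor P
  let S₀ := ShortComplex.mk (ClSub.idealModι J) (ClSub.toSubscheme J) (kernel.condition (ClSub.toSubscheme J))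
  have hS : (S₀.map F).ShortExact :=
    Groth.Agent.Lib.TwistEquiv.shortExact_map_tensorRight e'' (idealMod_shortExact J)
  have hφ : (S₀.map F).f = tensorModMap (ClSub.idealModι J) (𝟙 P) :=
    Groth.Agent.Lib.TwistEquiv.tensorRightFunctor_map P _
  have hπ : (S₀.map F).g = tensorModMap (ClSub.toSubscheme J) (𝟙 P) :=
    Groth.Agent.Lib.TwistEquiv.tensorRightFunctor_map P _
  haveI : Mono (S₀.map F).f := hS.mono_f
  obtain ⟨V, hV⟩ : ∃ V : X.Opens, (V : Set X) = ({x} : Set X)ᶜ := ⟨⟨_, hx.isOpen_compl⟩, rfl⟩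
  have hmemV : ∀ z : X, z ∈ V ↔ z ≠ x := fun z => by
    change z ∈ (V : Set X) ↔ _
    rw [hV]
    rfl
  have hW : J.subschemeι ⁻¹ᵁ (U ⊓ V) = ⊥ := by
    rw [eq_bot_iff]
    intro y hy
    exfalso
    have hy1 : J.subschemeι y ∈ J.support := by
      have h3 := Scheme.IdealSheafData.range_subschemeι J
      have h4 : J.subschemeι y ∈ Set.range J.subschemeι := ⟨y, rfl⟩
      rw [h3] at h4
      exact h4
    exact (hmemV _).1 hy.2 ((hsupp _).1 hy1)
  have hzero : ∀ y : Γ(ClSub.quotMod J, U ⊓ V), y = 0 := by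
    intro y
    have hsub : Subsingleton Γ(J.subscheme, J.subschemeι ⁻¹ᵁ (U ⊓ V)) := by rw [hW]; infer_instance
    exact hsub.elim _ _
  have hcompat : rs _ (inf_le_left : U ⊓ V ≤ U)
      ((tensorModMap (ClSub.toSubscheme J) (𝟙 P)).app U (tmul (toSec U 1) e)) = 0 := by
    rw [← app_rs, tmul_rs, Groth.Agent.Lib.H4KoszulPn.tensorModMap_tmul,
      hzero ((ClSub.toSubscheme J).app (U ⊓ V) _), Groth.Agent.Lib.H78GlobGen2.tmul_zero_left]
  have hcov : ∀ z : X, z ∈ U ∨ z ∈ V := by
    intro z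
    by_cases hz : z = x
    · left; rw [hz]; exact hxU
    · right; exact (hmemV z).2 hz
  obtain ⟨t, htU, -⟩ := sec_glue₂ (CohB1.tensorMod (ClSub.quotMod J) P) U V hcov
    ((tensorModMap (ClSub.toSubscheme J) (𝟙 P)).app U (tmul (toSec U 1) e)) 0
    (by rw [hcompat]; exact (map_zero _).symm)
  obtain ⟨s, hs'⟩ := hlift t
  have hU1 : (tensorModMap (ClSub.toSubscheme J) (𝟙 P)).app U
      (rs _ le_top s - tmul (toSec U 1) e) = 0 := by
    rw [map_sub, app_rs, hs', htU, sub_self]
  obtain ⟨a, ha⟩ := (sections_exact hS.exact U).2 _ (by rw [hπ]; exact hU1)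
  rw [hφ] at ha
  obtain ⟨b, hb⟩ := twist_incl_app J he a
  have hsU : rs _ le_top s = (1 + idealFn J U b) • tmul (toSec U 1) e := by
    have h5 : (tensorModMap (ClSub.idealModι J) (𝟙 P)).app U a =
        rs _ le_top s - tmul (toSec U 1) e := ha
    rw [add_smul, one_smul, ← hb, h5]
    abel
  obtain ⟨σ, hσ⟩ : ∃ σ : Coh.structureModule X ⟶ CohB1.tensorMod (Coh.structureModule X) P,
      σ = ofSection s := ⟨_, rfl⟩
  have hsec : sec σ = s := by rw [hσ]; exact sec_ofSection s
  have hβ : idealFn J U b ∈ J.ideal ⟨U, hU⟩ := idealFn_mem J ⟨U, hU⟩ b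
  have hxJ : x ∈ J.support := (hsupp x).2 rfl
  have hcoord : coord hg le_rfl (rs _ le_top (sec σ)) = 1 + idealFn J U b := by
    symm
    apply coord_unique
    rw [rs_self, hsec, hsU]
  have hinf : CohB1.genLocus _ σ ⊓ U = X.basicOpen (1 + idealFn J U b) := by
    rw [genLocus_inf_eq hg σ, hcoord]
  have hx1 : x ∈ CohB1.genLocus _ σ := by
    have h6 : x ∈ X.basicOpen (1 + idealFn J U b) :=
      mem_basicOpen_one_add hxU (not_mem_basicOpen_of_mem_support J ⟨U, hU⟩ hβ hxU hxJ)
    rw [← hinf] at h6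
    exact h6.1
  refine ⟨σ ≫ (leftUnitor P).hom, ?_⟩
  rw [Groth.Agent.Lib.H78AmpleUnit.genLocus_comp_iso]
  exact hx1

section Coh

open Groth.Agent.Lib Groth.Agent.Lib.CohLES CohB1 Groth.Agent.Lib.IsoCls13 Groth.Agent.Lib.H78IdealChain
  Groth.Agent.Lib.H78IdealProd

/-- vanishing for `L` gives vanishing for a positive power of `L` -/
theorem van_pow {L F : X.Modules} (h : Van L F) {m : ℕ} (hm : 1 ≤ m) : Van (CohB1.tensorPow L m) F := by
  obtain ⟨n₀, h⟩ := h
  refine ⟨n₀, fun n hn p hp => ?_⟩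
  have hcls : cls (CohB1.tensorMod F (CohB1.tensorPow (CohB1.tensorPow L m) n)) =
      cls (CohB1.tensorMod F (CohB1.tensorPow L (m * n))) := by
    rw [cls_tensorMod, cls_tensorMod, cls_tensorPow, cls_tensorPow, cls_tensorPow, pow_mul]
  obtain ⟨e⟩ := cls_eq_iff.1 hcls
  haveI := h (m * n) (le_trans hn (Nat.le_mul_of_pos_left n hm)) p hp
  exact subsingleton_of_iso e p

/-- the cokernel of `I_D ⟶ 𝔞` is killed by `I_D` -/
theorem killedByIdeal_cokernel_of_le {D 𝔞 : X.IdealSheafData} (h : D ≤ 𝔞) :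
    ClSub.KilledByIdeal D (cokernel (idealModMap h)) := by
  intro U a ha q
  haveI : (ClSub.idealMod 𝔞).IsQuasicoherent := Groth.Agent.Lib.H77QCohKernel.isQuasicoherent_idealMod _
  haveI : (ClSub.idealMod D).IsQuasicoherent := Groth.Agent.Lib.H77QCohKernel.isQuasicoherent_idealMod _
  haveI : (cokernel (idealModMap h)).IsQuasicoherent :=
    Groth.Agent.Lib.H90OXModExact.isQuasicoherent_cokernel _
  obtain ⟨m, rfl⟩ := Groth.Agent.Lib.H90OXModExact.surjective_app_of_epi (cokernel.π (idealModMap h)) U.2 q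
  have h1 : a * idealFn 𝔞 U.1 m ∈ D.ideal U := Ideal.mul_mem_right _ _ ha
  obtain ⟨t, ht⟩ := exists_idealFn_eq D U h1
  have h2 : (idealModMap h).app U.1 t = a • m := by
    apply idealFn_injective 𝔞 U.1
    rw [idealFn_idealModMap, ht, idealFn_smul]
  have h3 : (cokernel.π (idealModMap h)).app U.1 ((idealModMap h).app U.1 t) = 0 := by
    have := congrArg (fun φ => (Scheme.Modules.Hom.app φ U.1) t) (cokernel.condition (idealModMap h))
    exact this
  rw [h2, Scheme.Modules.Hom.app_smul] at h3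
  exact h3

/-- global sections lift along `S.g` when `H¹(S.f)` is injective -/
theorem exists_section_lift_of_injective {S : ShortComplex X.Modules} (hS : S.ShortExact)
    (hinj : Function.Injective (map S.f 1)) (t : Γ(S.X₃, ⊤)) : ∃ s : Γ(S.X₂, ⊤), S.g.app ⊤ s = t := by
  have h0 : δ hS 0 ((Groth.Agent.Lib.H4Twist.h0Equiv S.X₃).symm t) = 0 := by
    apply hinj
    rw [map_zero]
    exact map_f_δ hS 0 _
  obtain ⟨y, hy⟩ := exact₃ hS 0 _ h0
  refine ⟨Groth.Agent.Lib.H4Twist.h0Equiv S.X₂ y, ?_⟩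
  rw [← Groth.Agent.Lib.H4Twist.h0Equiv_map, hy, AddEquiv.apply_symm_apply]

variable (k : Type u) [Field k] [X.Over (Spec (CommRingCat.of k))]

/-- `H¹(S.f)` is injective if `H¹(X₃) = 0` and `dim H¹(X₁) ≤ dim H¹(X₂)` -/
theorem map_f_one_injective_of_finrank_le {S : ShortComplex X.Modules} (hS : S.ShortExact)
    [Subsingleton (Coh.HH X S.X₃ 1)] [Module.Finite k (Coh.HH X S.X₁ 1)]
    (hle : Module.finrank k (Coh.HH X S.X₁ 1) ≤ Module.finrank k (Coh.HH X S.X₂ 1)) :
    Function.Injective (map S.f 1) := by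
  have hsurj := NMCoh13.map_f_surjective k hS 1
  haveI : Module.Finite k (Coh.HH X S.X₂ 1) := Module.Finite.of_surjective _ hsurj
  have heq : Module.finrank k (Coh.HH X S.X₁ 1) = Module.finrank k (Coh.HH X S.X₂ 1) :=
    le_antisymm hle (NMCoh13.finrank_X₂_le_X₁ k hS 1)
  exact (LinearMap.injective_iff_surjective_of_finrank_eq_finrank heq).2 hsurj

/-- the short complex `0 → I_D → O → O/I_D → 0` -/
noncomputable abbrev idealSC (D : X.IdealSheafData) : ShortComplex X.Modules :=
  ShortComplex.mk (ClSub.idealModι D) (ClSub.toSubscheme D) (kernel.condition (ClSub.toSubscheme D))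

/-- abstract arithmetic interface -/
theorem exists_const_aux (u : ℕ → ℕ) (n₀ : ℕ) (h : ∀ n, n₀ ≤ n → u (n + 1) ≤ u n) :
    ∃ n₁, n₀ ≤ n₁ ∧ ∀ n, n₁ ≤ n → u (n + 1) = u n :=
  NMArith13.exists_forall_eq_of_antitone u n₀ h

/-- if `N ⊗ I_D ≅ O` and `H¹(O_D ⊗ N^b) = 0` for large `b`, then `H¹(I_D ⊗ N^b) → H¹(N^b)` is injective for large
`b` -/
theorem exists_injective_bound (k : Type u) [Field k] [X.Over (Spec (CommRingCat.of k))]
    [IsProper (X ↘ Spec (CommRingCat.of k))]
    {N : X.Modules} (hN : PicF.IsInvertible N) (D : X.IdealSheafData)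
    (hiso : Nonempty (CohB1.tensorMod N (ClSub.idealMod D) ≅ Coh.structureModule X))
    (hvan : Van N (ClSub.quotMod D)) :
    ∃ a₁ : ℕ, ∀ b, a₁ ≤ b → Function.Injective
      (map ((idealSC D).map (TwistEquiv.tensorRightFunctor (CohB1.tensorPow N b))).f 1) := by
  haveI : IsLocallyNoetherian X := EulerLE48.isLocallyNoetherian k X
  obtain ⟨n₀, hn₀⟩ := hvan
  have hOcoh : Coh.IsCoh (Coh.structureModule X) := CohFinAmple.isCoh_structureModule X
  have hIcoh : Coh.IsCoh (ClSub.idealMod D) := H90DevFilt.isCoh_of_mono (ClSub.idealModι _) hOcoh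
  have hNcoh : ∀ b, Coh.IsCoh (CohB1.tensorPow N b) := fun b =>
    CohFinAmple.isCoh_tensorPow (H90Invertible.isCoh_of_isInvertible hN) b
  obtain ⟨u, hu⟩ : ∃ u : ℕ → ℕ, ∀ a, u a = Module.finrank k
      (Coh.HH X (CohB1.tensorMod (Coh.structureModule X) (CohB1.tensorPow N a)) 1) := ⟨_, fun _ => rfl⟩
  have hX1 : ∀ a, Module.finrank k (Coh.HH X
      ((idealSC D).map (TwistEquiv.tensorRightFunctor (CohB1.tensorPow N (a + 1)))).X₁ 1) = u a := by
    intro a
    have hcls : cls (CohB1.tensorMod (ClSub.idealMod D) (CohB1.tensorPow N (a + 1))) =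
        cls (CohB1.tensorMod (Coh.structureModule X) (CohB1.tensorPow N a)) := by
      obtain ⟨e⟩ := hiso
      rw [cls_tensorMod, cls_tensorMod, cls_tensorPow, cls_tensorPow, cls_one, one_mul, pow_succ',
        ← mul_assoc, mul_comm (cls (ClSub.idealMod D)), ← cls_tensorMod, cls_eq_of_iso e, cls_one, one_mul]
    obtain ⟨e⟩ := cls_eq_iff.1 hcls
    rw [hu]
    exact (mapEquivₗ k e 1).finrank_eq
  have hX2 : ∀ b, Module.finrank k (Coh.HH X
      ((idealSC D).map (TwistEquiv.tensorRightFunctor (CohB1.tensorPow N b))).X₂ 1) = u b :=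
    fun b => (hu b).symm
  have hfin : ∀ b, Module.Finite k (Coh.HH X
      ((idealSC D).map (TwistEquiv.tensorRightFunctor (CohB1.tensorPow N b))).X₁ 1) := fun b =>
    SnapCoeff13.properFinHyp k X _ (CohFinAmple.isCoh_tensorMod hIcoh (hNcoh b)) 1
  have hsub : ∀ b, n₀ ≤ b → Subsingleton (Coh.HH X
      ((idealSC D).map (TwistEquiv.tensorRightFunctor (CohB1.tensorPow N b))).X₃ 1) := fun b hb =>
    hn₀ b hb 1 one_pos
  have hT : ∀ b, ((idealSC D).map (TwistEquiv.tensorRightFunctor (CohB1.tensorPow N b))).ShortExact :=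
    fun b => NMCoh13.shortExact_twist (H78TensorGen.isInvertible_tensorPow hN b) (idealMod_shortExact D)
  have hanti : ∀ a, n₀ ≤ a → u (a + 1) ≤ u a := by
    intro a ha
    haveI := hsub (a + 1) (by omega)
    haveI := hfin (a + 1)
    have h1 := NMCoh13.finrank_X₂_le_X₁ k (hT (a + 1)) 1
    rw [hX1 a, hX2 (a + 1)] at h1
    exact h1
  obtain ⟨n₁, hn₁, hconst⟩ := exists_const_aux u n₀ hanti
  refine ⟨n₁ + 1, fun b hb => ?_⟩
  obtain ⟨a, rfl⟩ : ∃ a, b = a + 1 := ⟨b - 1, by omega⟩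
  have ha : n₁ ≤ a := by omega
  haveI := hsub (a + 1) (by omega)
  haveI := hfin (a + 1)
  refine map_f_one_injective_of_finrank_le k (hT (a + 1)) ?_
  rw [hX1 a, hX2 (a + 1), hconst a ha]

/-- injectivity on `H¹` passes from `I_D` to a larger ideal `𝔞` when the quotient `𝔞 / I_D` has vanishing `H¹` -/
theorem exists_injective_of_le {N : X.Modules} (hN : PicF.IsInvertible N) (D 𝔞 : X.IdealSheafData)
    (h : D ≤ 𝔞)
    (hD : ∃ a₁ : ℕ, ∀ b, a₁ ≤ b → Function.Injective
      (map ((idealSC D).map (TwistEquiv.tensorRightFunctor (CohB1.tensorPow N b))).f 1))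
    (hvan : Van N (cokernel (idealModMap h))) :
    ∃ b₀ : ℕ, ∀ b, b₀ ≤ b → Function.Injective
      (map ((idealSC 𝔞).map (TwistEquiv.tensorRightFunctor (CohB1.tensorPow N b))).f 1) := by
  obtain ⟨a₁, ha₁⟩ := hD
  obtain ⟨n₀, hn₀⟩ := hvan
  refine ⟨max a₁ n₀, fun b hb => ?_⟩
  have hS : (ShortComplex.mk (idealModMap h) (cokernel.π (idealModMap h))
      (cokernel.condition (idealModMap h))).ShortExact :=
    ShortComplex.ShortExact.mk' (ShortComplex.exact_of_g_is_cokernel _ (cokernelIsCokernel _))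
      inferInstance inferInstance
  have hT := NMCoh13.shortExact_twist (H78TensorGen.isInvertible_tensorPow hN b) hS
  haveI : Subsingleton (Coh.HH X ((ShortComplex.mk (idealModMap h) (cokernel.π (idealModMap h))
      (cokernel.condition (idealModMap h))).map
        (TwistEquiv.tensorRightFunctor (CohB1.tensorPow N b))).X₃ 1) :=
    hn₀ b (le_trans (le_max_right _ _) hb) 1 one_pos
  have hsurj : ∀ y, ∃ z, map ((TwistEquiv.tensorRightFunctor (CohB1.tensorPow N b)).map (idealModMap h)) 1 z = y :=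
    fun y => exact₂ hT 1 y (Subsingleton.elim _ _)
  have hcomp : (TwistEquiv.tensorRightFunctor (CohB1.tensorPow N b)).map (idealModMap h) ≫
      (TwistEquiv.tensorRightFunctor (CohB1.tensorPow N b)).map (ClSub.idealModι 𝔞) =
      (TwistEquiv.tensorRightFunctor (CohB1.tensorPow N b)).map (ClSub.idealModι D) := by
    rw [← Functor.map_comp, idealModMap_ι]
  have hinjD := ha₁ b (le_trans (le_max_left _ _) hb)
  refine (injective_iff_map_eq_zero _).2 (fun y hy => ?_)
  obtain ⟨z, rfl⟩ := hsurj y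
  have hz : map ((idealSC D).map (TwistEquiv.tensorRightFunctor (CohB1.tensorPow N b))).f 1 z = 0 := by
    have h1 := map_comp ((TwistEquiv.tensorRightFunctor (CohB1.tensorPow N b)).map (idealModMap h))
      ((TwistEquiv.tensorRightFunctor (CohB1.tensorPow N b)).map (ClSub.idealModι 𝔞)) 1 z
    rw [hcomp] at h1
    exact h1.trans hy
  have hz0 : z = 0 := (injective_iff_map_eq_zero _).1 hinjD z hz
  rw [hz0]
  exact map_zero _

/-- **Step 2, local form**: on an integral proper `X`, if `s` is a nonzero section of the invertible module `N` and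
coherent modules killed by the ideal of `Z(s)` have vanishing higher cohomology after twisting by high powers of `N`,
then every closed point of `Z(s)` lies in the generating locus of a section of a positive power of `N`. -/
theorem exists_sec_of_mem_support (k : Type u) [Field k] [X.Over (Spec (CommRingCat.of k))]
    [IsProper (X ↘ Spec (CommRingCat.of k))] [IsIntegral X]
    {N : X.Modules} (hN : PicF.IsInvertible N) (s : Coh.structureModule X ⟶ N) (hs : s ≠ 0)
    (hvan : ∀ F : X.Modules, Coh.IsCoh F → ClSub.KilledByIdeal (PicF2.zeroScheme N s) F → Van N F)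
    {x : X} (hx : IsClosed ({x} : Set X)) (hxD : x ∈ (PicF2.zeroScheme N s).support) :
    ∃ (n : ℕ) (σ : Coh.structureModule X ⟶ CohB1.tensorPow N (n + 1)), x ∈ CohB1.genLocus _ σ := by
  haveI : IsLocallyNoetherian X := EulerLE48.isLocallyNoetherian k X
  obtain ⟨D, hDdef⟩ : ∃ D : X.IdealSheafData, D = PicF2.zeroScheme N s := ⟨_, rfl⟩
  rw [← hDdef] at hvan hxD
  have hiso : Nonempty (CohB1.tensorMod N (ClSub.idealMod D) ≅ Coh.structureModule X) := by
    rw [hDdef]; exact NMZero13.nonempty_tensor_idealMod_iso hN s hs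
  have hD := exists_injective_bound k hN D hiso
    (hvan _ (SnapCoeff13.isCoh_quotMod D) (killedByIdeal_quotMod (I := D)))
  obtain ⟨𝔞, h𝔞⟩ : ∃ 𝔞 : X.IdealSheafData, 𝔞 = Scheme.IdealSheafData.vanishingIdeal ⟨{x}, hx⟩ := ⟨_, rfl⟩
  have hle : D ≤ 𝔞 := by
    rw [h𝔞, ← Scheme.IdealSheafData.le_support_iff_le_vanishingIdeal]
    intro z hz
    have hz' : z = x := hz
    rw [hz']
    exact hxD
  have hOcoh : Coh.IsCoh (Coh.structureModule X) := CohFinAmple.isCoh_structureModule X
  have hc0 : Coh.IsCoh (ClSub.idealMod 𝔞) := H90DevFilt.isCoh_of_mono (ClSub.idealModι _) hOcoh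
  have hc1 : Coh.IsCoh (ClSub.idealMod D) := H90DevFilt.isCoh_of_mono (ClSub.idealModι _) hOcoh
  haveI := hc1.1
  have hc2 : Coh.IsCoh (cokernel (idealModMap hle)) := H90OXModExact.isCoh_cokernel _ hc0
  obtain ⟨b₀, hb₀⟩ := exists_injective_of_le hN D 𝔞 hle hD
    (hvan _ hc2 (killedByIdeal_cokernel_of_le hle))
  have hinj := hb₀ (b₀ + 1) (Nat.le_succ _)
  have hsupp : ∀ z : X, z ∈ 𝔞.support ↔ z = x := by
    intro z
    have h2 : (𝔞.support : Set X) = {x} := by
      rw [h𝔞]; exact Scheme.IdealSheafData.coe_support_vanishingIdeal _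
    change z ∈ (𝔞.support : Set X) ↔ _
    rw [h2]
    rfl
  have hP := H78TensorGen.isInvertible_tensorPow hN (b₀ + 1)
  have hT := NMCoh13.shortExact_twist hP (idealMod_shortExact 𝔞)
  have hπ : ((idealSC 𝔞).map (TwistEquiv.tensorRightFunctor (CohB1.tensorPow N (b₀ + 1)))).g =
      tensorModMap (ClSub.toSubscheme 𝔞) (𝟙 (CohB1.tensorPow N (b₀ + 1))) :=
    TwistEquiv.tensorRightFunctor_map _ _
  obtain ⟨σ, hσ⟩ := exists_sec_of_lift hP hx 𝔞 hsupp (fun t => by
    obtain ⟨s', hs'⟩ := exists_section_lift_of_injective hT hinj t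
    rw [hπ] at hs'
    exact ⟨s', hs'⟩)
  exact ⟨b₀, σ, hσ⟩

end Coh

end Groth.Agent.Lib.NMLift13
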