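import Groth.Agent.Lib.DLES

/-!
# `n`-quasi-isomorphisms of cochain complexes

Namespace `Groth.Agent.Lib.NQis`.  A morphism `f : K ⟶ L` of cochain complexes in an abelian
category is an `n`-quasi-isomorphism (`NQis n f`) if `H^i(f)` is an isomorphism for `i > n` and an
epimorphism for `i = n`.

* `nqis_iff`: `NQis n f ↔ ∀ i ≥ n, H^i(cone f) = 0`.
* `nqis_comp_left_iff`, `nqis_comp_right_iff`: composition with quasi-isomorphisms.
* `quasiIso_iff_forall_nqis`.
* `nqis_of_homotopyEquiv_cone`: transport along a homotopy equivalence of mapping cones.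
-/

set_option autoImplicit false
universe v u

open CategoryTheory CategoryTheory.Limits Category Pretriangulated

set_option linter.dupNamespace false

namespace Groth.Agent.Lib.NQis

variable {C : Type u} [Category.{v} C] [Abelian C]

open HomologicalComplex CochainComplex

/-- `f` is an `n`-quasi-isomorphism. -/
def NQis (n : ℤ) {K L : CochainComplex C ℤ} (f : K ⟶ L) : Prop :=
  (∀ i : ℤ, n < i → IsIso (homologyMap f i)) ∧ Epi (homologyMap f n)

section

variable [HasDerivedCategory.{max u v} C]

open DerivedCategory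

lemma isIso_iff_Q {K L : CochainComplex C ℤ} (f : K ⟶ L) (i : ℤ) :
    IsIso (homologyMap f i) ↔ IsIso ((homologyFunctor C i).map (Q.map f)) :=
  (NatIso.isIso_map_iff (homologyFunctorFactors C i) f).symm

lemma epi_iff_Q {K L : CochainComplex C ℤ} (f : K ⟶ L) (i : ℤ) :
    Epi (homologyMap f i) ↔ Epi ((homologyFunctor C i).map (Q.map f)) :=
  ((MorphismProperty.epimorphisms C).arrow_mk_iso_iff
    (Arrow.isoOfNatIso (homologyFunctorFactors C i) (Arrow.mk f))).symm

lemma mono_iff_Q {K L : CochainComplex C ℤ} (f : K ⟶ L) (i : ℤ) :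
    Mono (homologyMap f i) ↔ Mono ((homologyFunctor C i).map (Q.map f)) :=
  ((MorphismProperty.monomorphisms C).arrow_mk_iso_iff
    (Arrow.isoOfNatIso (homologyFunctorFactors C i) (Arrow.mk f))).symm

lemma isZero_iff_Q (K : CochainComplex C ℤ) (i : ℤ) :
    IsZero (K.homology i) ↔ IsZero ((homologyFunctor C i).obj (Q.obj K)) :=
  ((homologyFunctorFactors C i).app K).symm.isZero_iff

lemma nqis_iff_aux (n : ℤ) {K L : CochainComplex C ℤ} (f : K ⟶ L) :
    NQis n f ↔ ∀ i : ℤ, n ≤ i → IsZero ((mappingCone f).homology i) := by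
  let T := Q.mapTriangle.obj (mappingCone.triangle f)
  have hT : T ∈ distTriang (DerivedCategory C) :=
    (mem_distTriang_iff _).mpr ⟨_, _, f, ⟨Iso.refl _⟩⟩
  constructor
  · rintro ⟨h1, h2⟩ i hi
    rw [isZero_iff_Q]
    refine Groth.Agent.Lib.DLES.isZero_homology_obj₃ T hT i (i + 1) rfl ?_ ?_
    · change Epi ((DerivedCategory.homologyFunctor C i).map (Q.map f))
      rw [← epi_iff_Q]
      obtain rfl | hi := hi.eq_or_lt
      · exact h2
      · have := h1 i hi
        infer_instance
    · change Mono ((DerivedCategory.homologyFunctor C (i + 1)).map (Q.map f))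
      rw [← mono_iff_Q]
      have := h1 (i + 1) (by lia)
      infer_instance
  · intro h
    have hepi : ∀ i : ℤ, n ≤ i → Epi (homologyMap f i) := by
      intro i hi
      rw [epi_iff_Q]
      refine (HomologySequence.epi_homologyMap_mor₁_iff T hT i).mpr ?_
      exact ((isZero_iff_Q _ _).mp (h i hi)).eq_of_tgt _ _
    refine ⟨fun i hi => ?_, hepi n le_rfl⟩
    have := hepi i hi.le
    have : Mono (homologyMap f i) := by
      rw [mono_iff_Q]
      refine (HomologySequence.mono_homologyMap_mor₁_iff T hT (i - 1) i (by lia)).mpr ?_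
      exact ((isZero_iff_Q _ _).mp (h (i - 1) (by lia))).eq_of_src _ _
    exact isIso_of_mono_of_epi _

end

/-- `f` is an `n`-quasi-isomorphism iff its cone is acyclic in degrees `≥ n`. -/
lemma nqis_iff (n : ℤ) {K L : CochainComplex C ℤ} (f : K ⟶ L) :
    NQis n f ↔ ∀ i : ℤ, n ≤ i → IsZero ((mappingCone f).homology i) := by
  let _ : HasDerivedCategory.{max u v} C := HasDerivedCategory.standard C
  exact nqis_iff_aux n f

lemma nqis_iff_exactAt (n : ℤ) {K L : CochainComplex C ℤ} (f : K ⟶ L) :
    NQis n f ↔ ∀ i : ℤ, n ≤ i → (mappingCone f).ExactAt i := by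
  rw [nqis_iff]
  simp only [exactAt_iff_isZero_homology]

lemma nqis_comp_left_iff (n : ℤ) {K L M : CochainComplex C ℤ} (f : K ⟶ L) (g : L ⟶ M)
    [QuasiIso f] : NQis n (f ≫ g) ↔ NQis n g := by
  have hf : ∀ i, IsIso (homologyMap f i) := fun i => inferInstance
  simp only [NQis, homologyMap_comp]
  constructor
  · rintro ⟨h1, h2⟩
    refine ⟨fun i hi => ?_, ?_⟩
    · have := h1 i hi
      exact IsIso.of_isIso_comp_left (homologyMap f i) _
    · exact epi_of_epi (homologyMap f n) _
  · rintro ⟨h1, h2⟩
    refine ⟨fun i hi => ?_, ?_⟩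
    · have := h1 i hi
      infer_instance
    · infer_instance

lemma nqis_comp_right_iff (n : ℤ) {K L M : CochainComplex C ℤ} (f : K ⟶ L) (g : L ⟶ M)
    [QuasiIso g] : NQis n (f ≫ g) ↔ NQis n f := by
  have hg : ∀ i, IsIso (homologyMap g i) := fun i => inferInstance
  simp only [NQis, homologyMap_comp]
  constructor
  · rintro ⟨h1, h2⟩
    refine ⟨fun i hi => ?_, ?_⟩
    · have := h1 i hi
      exact IsIso.of_isIso_comp_right _ (homologyMap g i)
    · have : Epi ((homologyMap f n ≫ homologyMap g n) ≫ inv (homologyMap g n)) := by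
        infer_instance
      simpa using this
  · rintro ⟨h1, h2⟩
    refine ⟨fun i hi => ?_, ?_⟩
    · have := h1 i hi
      infer_instance
    · infer_instance

lemma quasiIso_iff_forall_nqis {K L : CochainComplex C ℤ} (f : K ⟶ L) :
    QuasiIso f ↔ ∀ n : ℤ, NQis n f := by
  constructor
  · intro h n
    exact ⟨fun i _ => inferInstance, inferInstance⟩
  · intro h
    rw [quasiIso_iff]
    intro i
    rw [quasiIsoAt_iff_isIso_homologyMap]
    exact (h (i - 1)).1 i (by lia)

lemma nqis_of_quasiIso (n : ℤ) {K L : CochainComplex C ℤ} (f : K ⟶ L) [QuasiIso f] :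
    NQis n f := (quasiIso_iff_forall_nqis f).mp inferInstance n

/-- Transport of `NQis` along a homotopy equivalence of mapping cones. -/
lemma nqis_of_homotopyEquiv_cone (n : ℤ) {K L K' L' : CochainComplex C ℤ} (f : K ⟶ L)
    (f' : K' ⟶ L') (e : HomotopyEquiv (mappingCone f) (mappingCone f')) (h : NQis n f') :
    NQis n f := by
  rw [nqis_iff] at h ⊢
  intro i hi
  exact (h i hi).of_iso (e.toHomologyIso i)

end Groth.Agent.Lib.NQis
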