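import Mathlib
import Groth.Prelude.Def_W4c1frobunstivaNR

/-!
# Kernels that are free up to nilpotent relations (NR-free)

* `isNRFree_of_summand`: quotient of a free direct summand by elements with nilpotent coordinates
  is NR-free.
* `exists_retraction_ker`: kernel of a surjection of finite free modules over a local ring is a
  free direct summand of the expected rank.
* `main`: kernel of `R^r ↠ R^s/(f e_1,…,f e_l)` over a local ring with `Ann f` nil is NR-free of
  rank `r + l - s`.
-/

set_option autoImplicit false
set_option linter.style.haveILetI false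
universe u v
open W4c1frobunstiva

namespace Groth.Agent.Lib.NRFreeKer

section abstract

variable {R : Type u} [CommRing R]

/-- Abstract core: a quotient of a free direct summand `K ⊆ F'` by elements with nilpotent
coordinates is NR-free. -/
theorem isNRFree_of_summand {F' M : Type*} [AddCommGroup F'] [Module R F'] [AddCommGroup M]
    [Module R M] (K : Submodule R F') (ρ : F' →ₗ[R] K) (hρ : ∀ z : K, ρ z = z) {n : ℕ}
    (b : Module.Basis (Fin n) R K) (q : K →ₗ[R] M) (hq : Function.Surjective q)
    (hker : ∀ z : K, q z = 0 → (z : F') ∈ (nilradical R • ⊤ : Submodule R F')) :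
    IsNRFree R M n := by
  refine ⟨fun k => q (b k), ?_, ?_⟩
  · rw [Set.range_comp', ← Submodule.map_span, b.span_eq, Submodule.map_top,
      LinearMap.range_eq_top.mpr hq]
  · intro a ha k
    set z : K := ∑ i, a i • b i with hz
    have hqz : q z = 0 := by rw [hz, map_sum]; simpa using ha
    have h1 := hker z hqz
    have h2 : z ∈ (nilradical R • ⊤ : Submodule R K) := by
      have : ρ (z : F') ∈ Submodule.map ρ (nilradical R • ⊤ : Submodule R F') :=
        Submodule.mem_map_of_mem h1
      rw [Submodule.map_smul'', hρ] at this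
      exact Submodule.smul_mono le_rfl le_top this
    have h3 : ∀ y ∈ (nilradical R • ⊤ : Submodule R K), b.repr y k ∈ nilradical R := by
      intro y hy
      refine Submodule.smul_induction_on hy (fun c hc x _ => ?_) (fun x y hx hy => ?_)
      · rw [map_smul, Finsupp.smul_apply, smul_eq_mul]
        exact Ideal.mul_mem_right _ _ hc
      · rw [map_add, Finsupp.add_apply]
        exact Ideal.add_mem _ hx hy
    have h4 := h3 z h2
    have h5 : b.repr z k = a k := by
      rw [hz, map_sum]
      simp [Finsupp.single_apply]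
    rw [h5] at h4
    exact (mem_nilradical).mp h4

end abstract

section split

variable {R : Type u} [CommRing R] [IsLocalRing R]

/-- The kernel of a surjection of finite free modules over a local ring is a free direct summand of
the expected rank. -/
theorem exists_retraction_ker {F' F : Type*} [AddCommGroup F'] [Module R F'] [Module.Finite R F']
    [Module.Free R F'] [AddCommGroup F] [Module R F] [Module.Finite R F] [Module.Free R F]
    (ψ : F' →ₗ[R] F) (hψ : Function.Surjective ψ) :
    ∃ ρ : F' →ₗ[R] LinearMap.ker ψ, (∀ z : LinearMap.ker ψ, ρ z = z) ∧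
      Module.Free R (LinearMap.ker ψ) ∧ Module.Finite R (LinearMap.ker ψ) ∧
      Module.finrank R (LinearMap.ker ψ) + Module.finrank R F = Module.finrank R F' := by
  obtain ⟨σ, hσ⟩ := Module.projective_lifting_property ψ LinearMap.id hψ
  have hσ' : ∀ y, ψ (σ y) = y := fun y => LinearMap.congr_fun hσ y
  let ρ : F' →ₗ[R] LinearMap.ker ψ :=
    LinearMap.codRestrict (LinearMap.ker ψ) (LinearMap.id - σ ∘ₗ ψ) (fun x => by
      rw [LinearMap.mem_ker, LinearMap.sub_apply, map_sub, LinearMap.id_apply,
        LinearMap.comp_apply, hσ', sub_self])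
  have hρ : ∀ z : LinearMap.ker ψ, ρ z = z := by
    intro z
    apply Subtype.ext
    change (z : F') - σ (ψ z) = z
    rw [z.2, map_zero, sub_zero]
  have hfin : Module.Finite R (LinearMap.ker ψ) :=
    Module.Finite.of_surjective ρ (fun z => ⟨z, hρ z⟩)
  have hproj : Module.Projective R (LinearMap.ker ψ) :=
    Module.Projective.of_split (LinearMap.ker ψ).subtype ρ (LinearMap.ext hρ)
  have hfree : Module.Free R (LinearMap.ker ψ) := Module.free_of_flat_of_isLocalRing
  let e : F' ≃ₗ[R] (LinearMap.ker ψ × F) :=
    LinearEquiv.ofLinearMap (ρ.prod ψ) ((LinearMap.ker ψ).subtype.coprod σ)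
      (by
        apply LinearMap.ext
        rintro ⟨k, y⟩
        apply Prod.ext
        · apply Subtype.ext
          change ((k : F') + σ y) - σ (ψ ((k : F') + σ y)) = k
          rw [map_add, k.2, zero_add, hσ']
          abel
        · change ψ ((k : F') + σ y) = y
          rw [map_add, k.2, zero_add, hσ'])
      (by
        apply LinearMap.ext
        intro x
        change ((x - σ (ψ x)) + σ (ψ x)) = x
        abel)
  refine ⟨ρ, hρ, hfree, hfin, ?_⟩
  rw [← Module.finrank_prod, e.finrank_eq]

end split

section main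

variable (R : Type u) [CommRing R] [IsLocalRing R]

theorem main (f : R) (hann : ∀ a : R, a * f = 0 → IsNilpotent a) (r s l : ℕ) (hls : l ≤ s)
    (W : Submodule R (Fin s → R))
    (hW : W = Submodule.span R
        (Set.range fun i : Fin l => (Pi.single (Fin.castLE hls i) f : Fin s → R)))
    (φ : (Fin r → R) →ₗ[R] ((Fin s → R) ⧸ W))
    (hφ : Function.Surjective φ) :
    IsNRFree R (LinearMap.ker φ) (r + l - s) ∧
      (l = 0 → Nonempty (Module.Basis (Fin (r - s)) R (LinearMap.ker φ))) := by
  classical
  set g : Fin l → (Fin s → R) := fun i => Pi.single (Fin.castLE hls i) f with hg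
  let ι : (Fin l → R) →ₗ[R] (Fin s → R) := Fintype.linearCombination R g
  have hrange : LinearMap.range ι = W := by
    rw [hW]; exact Fintype.range_linearCombination R g
  have hιW : ∀ w, ι w ∈ W := fun w => hrange ▸ ⟨w, rfl⟩
  have hWι : ∀ y ∈ W, ∃ w, ι w = y := fun y hy => by rw [← hrange] at hy; exact hy
  have hι0 : ∀ w, ι w = 0 → ∀ i, w i * f = 0 := by
    intro w hw i
    have := congrFun hw (Fin.castLE hls i)
    rw [Fintype.linearCombination_apply, Finset.sum_apply, Pi.zero_apply] at this
    rw [← this, Finset.sum_eq_single i]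
    · simp [hg]
    · intro j _ hji
      have : Fin.castLE hls j ≠ Fin.castLE hls i := fun h => hji (Fin.castLE_injective hls h)
      simp [hg, this.symm]
    · intro h; exact absurd (Finset.mem_univ i) h
  obtain ⟨φ', hφ'⟩ := Module.projective_lifting_property W.mkQ φ (Submodule.mkQ_surjective W)
  have hφ'' : ∀ v, Submodule.Quotient.mk (φ' v) = φ v := fun v => LinearMap.congr_fun hφ' v
  let ψ : ((Fin r → R) × (Fin l → R)) →ₗ[R] (Fin s → R) := φ'.coprod ι
  have hψ : Function.Surjective ψ := by
    intro y
    obtain ⟨v, hv⟩ := hφ (Submodule.Quotient.mk y)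
    rw [← hφ'' v, Submodule.Quotient.eq] at hv
    obtain ⟨w, hw⟩ := hWι _ hv
    refine ⟨(v, -w), ?_⟩
    change φ' v + ι (-w) = y
    rw [map_neg, hw]; abel
  obtain ⟨ρ, hρ, hfree, hfin, hrank⟩ := exists_retraction_ker ψ hψ
  have hrank' : Module.finrank R (LinearMap.ker ψ) = r + l - s := by
    rw [Module.finrank_prod, Module.finrank_fin_fun, Module.finrank_fin_fun,
      Module.finrank_fin_fun] at hrank
    omega
  let b : Module.Basis (Fin (r + l - s)) R (LinearMap.ker ψ) :=
    Module.finBasisOfFinrankEq R _ hrank'
  let q : LinearMap.ker ψ →ₗ[R] LinearMap.ker φ :=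
    LinearMap.codRestrict (LinearMap.ker φ)
      ((LinearMap.fst R (Fin r → R) (Fin l → R)).comp (LinearMap.ker ψ).subtype) (fun z => by
        obtain ⟨⟨v, w⟩, hz⟩ := z
        change φ v = 0
        have hz' : φ' v + ι w = 0 := hz
        rw [← hφ'' v, Submodule.Quotient.mk_eq_zero, eq_neg_of_add_eq_zero_left hz']
        exact W.neg_mem (hιW w))
  have hq : Function.Surjective q := by
    rintro ⟨v, hv⟩
    have hv' : φ v = 0 := hv
    rw [← hφ'' v, Submodule.Quotient.mk_eq_zero] at hv'
    obtain ⟨w, hw⟩ := hWι _ hv'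
    refine ⟨⟨(v, -w), ?_⟩, rfl⟩
    change φ' v + ι (-w) = 0
    rw [map_neg, hw]; abel
  have hinr : ∀ w : Fin l → R, (∀ i, w i ∈ nilradical R) →
      ((0 : Fin r → R), w) ∈
        (nilradical R • ⊤ : Submodule R ((Fin r → R) × (Fin l → R))) := by
    intro w hw
    have h1 : w = ∑ i, w i • (Pi.single i (1 : R) : Fin l → R) := by
      ext j
      simp [Finset.sum_apply, Pi.single_apply]
    have h2 : ((0 : Fin r → R), w) =
        ∑ i, w i • LinearMap.inr R (Fin r → R) (Fin l → R) (Pi.single i (1 : R)) := by
      simp_rw [← map_smul, ← map_sum, ← h1]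
      rfl
    rw [h2]
    exact Submodule.sum_mem _ fun i _ => Submodule.smul_mem_smul (hw i) Submodule.mem_top
  have hker : ∀ z : LinearMap.ker ψ, q z = 0 →
      (z : (Fin r → R) × (Fin l → R)) ∈
        (nilradical R • ⊤ : Submodule R ((Fin r → R) × (Fin l → R))) := by
    rintro ⟨⟨v, w⟩, hz⟩ hqz
    have hv : v = 0 := congrArg Subtype.val hqz
    subst hv
    have hz' : φ' 0 + ι w = 0 := hz
    rw [map_zero, zero_add] at hz'
    exact hinr w fun i => mem_nilradical.mpr (hann _ (hι0 w hz' i))
  refine ⟨isNRFree_of_summand (LinearMap.ker ψ) ρ hρ b q hq hker, ?_⟩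
  intro hl
  subst hl
  have hqinj : Function.Injective q := by
    rw [injective_iff_map_eq_zero]
    rintro ⟨⟨v, w⟩, hz⟩ hqz
    have hv : v = 0 := congrArg Subtype.val hqz
    have hw : w = 0 := Subsingleton.elim _ _
    subst hv hw
    rfl
  exact ⟨(b.map (LinearEquiv.ofBijective q ⟨hqinj, hq⟩)).reindex (finCongr (by omega))⟩

end main

end Groth.Agent.Lib.NRFreeKer
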