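import Mathlib
import Groth.Prelude.Def_BlowUp2

/-!
# Gluing two schemes along a common open subscheme (helper68)

* `exists_pushout_of_isOpenImmersion`: the pushout of two open immersions exists, with open immersions as coprojections,
  jointly surjective, whose images meet exactly in the common open.
* `isSeparated_of_cover`: separatedness criterion for a scheme covered by two opens.
-/

set_option autoImplicit false

universe u

open CategoryTheory AlgebraicGeometry TopologicalSpace Opposite Limits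

namespace Groth.Agent.Lib.NagataGlue68

theorem exists_pushout_of_isOpenImmersion {X₁ X₂ X₁₂ : Scheme.{u}} (o₁ : X₁₂ ⟶ X₁) (o₂ : X₁₂ ⟶ X₂)
    [IsOpenImmersion o₁] [IsOpenImmersion o₂] :
    ∃ (X : Scheme.{u}) (i₁ : X₁ ⟶ X) (i₂ : X₂ ⟶ X), IsOpenImmersion i₁ ∧ IsOpenImmersion i₂ ∧
      IsPushout o₁ o₂ i₁ i₂ ∧ (∀ x : X, x ∈ Set.range i₁ ∨ x ∈ Set.range i₂) ∧
      (∀ (x₁ : X₁) (x₂ : X₂), i₁ x₁ = i₂ x₂ → ∃ w : X₁₂, o₁ w = x₁ ∧ o₂ w = x₂) := by
  have hF : ∀ {i j : WalkingSpan} (f : i ⟶ j), IsOpenImmersion ((span o₁ o₂).map f) := by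
    intro i j f
    rcases f with _ | a
    · change IsOpenImmersion ((span o₁ o₂).map (𝟙 _))
      rw [CategoryTheory.Functor.map_id]
      infer_instance
    · cases a
      · change IsOpenImmersion o₁
        infer_instance
      · change IsOpenImmersion o₂
        infer_instance
  have hcolim : HasColimit (span o₁ o₂) := inferInstance
  have : HasPushout o₁ o₂ := hcolim
  have h1 : IsOpenImmersion (pushout.inl o₁ o₂) :=
    inferInstanceAs (IsOpenImmersion (colimit.ι (span o₁ o₂) WalkingSpan.left))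
  have h2 : IsOpenImmersion (pushout.inr o₁ o₂) :=
    inferInstanceAs (IsOpenImmersion (colimit.ι (span o₁ o₂) WalkingSpan.right))
  refine ⟨pushout o₁ o₂, pushout.inl o₁ o₂, pushout.inr o₁ o₂, h1, h2, IsPushout.of_hasPushout o₁ o₂,
    ?_, ?_⟩
  · intro x
    obtain ⟨i, xi, hx⟩ := Scheme.IsLocallyDirected.ι_jointly_surjective (span o₁ o₂) x
    rcases i with _ | a
    · left
      refine ⟨o₁ xi, ?_⟩
      rw [← hx, ← Scheme.Hom.comp_apply]
      have := colimit.w (span o₁ o₂) WalkingSpan.Hom.fst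
      exact congrArg (fun φ : X₁₂ ⟶ pushout o₁ o₂ => φ xi) this
    · cases a
      · left
        exact ⟨xi, hx⟩
      · right
        exact ⟨xi, hx⟩
  · intro x₁ x₂ hx
    obtain ⟨k, fi, fj, x, hx1, hx2⟩ :=
      (Scheme.IsLocallyDirected.ι_eq_ι_iff (F := span o₁ o₂) (i := WalkingSpan.left)
        (j := WalkingSpan.right) (xi := x₁) (xj := x₂)).mp hx
    rcases k with _ | a
    · rcases fi with _ | _
      rcases fj with _ | _
      exact ⟨x, hx1, hx2⟩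
    · cases a
      · rcases fj with _ | _
      · rcases fi with _ | _

/-- A chart lemma for closedness. -/
theorem mem_of_mem_closure_of_chart {A B : Scheme.{u}} (m : B ⟶ A) [IsOpenImmersion m] (D : Set A)
    (C : Set B) (hC : IsClosed C) (h1 : D ∩ Set.range m ⊆ m '' C) (h2 : m '' C ⊆ D)
    (z : A) (hz : z ∈ closure D) (hzm : z ∈ Set.range m) : z ∈ D := by
  have h3 : z ∈ closure (Set.range m ∩ D) :=
    m.isOpenEmbedding.isOpen_range.inter_closure ⟨hzm, hz⟩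
  rw [Set.inter_comm] at h3
  have h4 : z ∈ closure (m '' C) := closure_mono h1 h3
  obtain ⟨ξ, rfl⟩ := hzm
  have h5 : ξ ∈ closure C := by
    rw [m.isOpenEmbedding.isInducing.closure_eq_preimage_closure_image]
    exact h4
  rw [hC.closure_eq] at h5
  exact h2 ⟨ξ, h5, rfl⟩

/-- **Separatedness criterion** for a scheme covered by two open subschemes `X₁`, `X₂` meeting in `X₁₂`:
`X` is separated over `S` if `X₁`, `X₂` are and `X₁₂ ⟶ X₁ ×_S X₂` has closed image. -/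
theorem isSeparated_of_cover {S X X₁ X₂ X₁₂ : Scheme.{u}} (q : X ⟶ S) (i₁ : X₁ ⟶ X) (i₂ : X₂ ⟶ X)
    [IsOpenImmersion i₁] [IsOpenImmersion i₂] (o₁ : X₁₂ ⟶ X₁) (o₂ : X₁₂ ⟶ X₂)
    (hcomm : o₁ ≫ i₁ = o₂ ≫ i₂) (hcov : ∀ x : X, x ∈ Set.range i₁ ∨ x ∈ Set.range i₂)
    (hint : ∀ (x₁ : X₁) (x₂ : X₂), i₁ x₁ = i₂ x₂ → ∃ w : X₁₂, o₁ w = x₁ ∧ o₂ w = x₂)
    [IsSeparated (i₁ ≫ q)] [IsSeparated (i₂ ≫ q)]
    (h12 : o₁ ≫ i₁ ≫ q = o₂ ≫ i₂ ≫ q)
    (hcl : IsClosed (Set.range (pullback.lift o₁ o₂ h12)))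
    (hcl' : IsClosed (Set.range (pullback.lift o₂ o₁ h12.symm))) :
    IsSeparated q := by
  constructor
  apply IsClosedImmersion.of_isPreimmersion
  rw [← closure_subset_iff_isClosed]
  intro z hz
  -- the four charts
  let m₁₁ : pullback (i₁ ≫ q) (i₁ ≫ q) ⟶ pullback q q :=
    pullback.map (i₁ ≫ q) (i₁ ≫ q) q q i₁ i₁ (𝟙 S) (Category.comp_id _) (Category.comp_id _)
  let m₂₂ : pullback (i₂ ≫ q) (i₂ ≫ q) ⟶ pullback q q :=
    pullback.map (i₂ ≫ q) (i₂ ≫ q) q q i₂ i₂ (𝟙 S) (Category.comp_id _) (Category.comp_id _)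
  let m₁₂ : pullback (i₁ ≫ q) (i₂ ≫ q) ⟶ pullback q q :=
    pullback.map (i₁ ≫ q) (i₂ ≫ q) q q i₁ i₂ (𝟙 S) (Category.comp_id _) (Category.comp_id _)
  let m₂₁ : pullback (i₂ ≫ q) (i₁ ≫ q) ⟶ pullback q q :=
    pullback.map (i₂ ≫ q) (i₁ ≫ q) q q i₂ i₁ (𝟙 S) (Category.comp_id _) (Category.comp_id _)
  have hr₁₁ : Set.range m₁₁ = pullback.fst q q ⁻¹' Set.range i₁ ∩ pullback.snd q q ⁻¹' Set.range i₁ :=
    Scheme.Pullback.range_map _ _ _ _ _ _ _ _ _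
  have hr₂₂ : Set.range m₂₂ = pullback.fst q q ⁻¹' Set.range i₂ ∩ pullback.snd q q ⁻¹' Set.range i₂ :=
    Scheme.Pullback.range_map _ _ _ _ _ _ _ _ _
  have hr₁₂ : Set.range m₁₂ = pullback.fst q q ⁻¹' Set.range i₁ ∩ pullback.snd q q ⁻¹' Set.range i₂ :=
    Scheme.Pullback.range_map _ _ _ _ _ _ _ _ _
  have hr₂₁ : Set.range m₂₁ = pullback.fst q q ⁻¹' Set.range i₂ ∩ pullback.snd q q ⁻¹' Set.range i₁ :=
    Scheme.Pullback.range_map _ _ _ _ _ _ _ _ _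
  -- key identities
  have hd₁ : pullback.diagonal (i₁ ≫ q) ≫ m₁₁ = i₁ ≫ pullback.diagonal q := by
    apply pullback.hom_ext
    · simp only [m₁₁, Category.assoc, pullback.lift_fst, pullback.diagonal_fst,
        pullback.diagonal_fst_assoc, Category.comp_id]
    · simp only [m₁₁, Category.assoc, pullback.lift_snd, pullback.diagonal_snd,
        pullback.diagonal_snd_assoc, Category.comp_id]
  have hd₂ : pullback.diagonal (i₂ ≫ q) ≫ m₂₂ = i₂ ≫ pullback.diagonal q := by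
    apply pullback.hom_ext
    · simp only [m₂₂, Category.assoc, pullback.lift_fst, pullback.diagonal_fst,
        pullback.diagonal_fst_assoc, Category.comp_id]
    · simp only [m₂₂, Category.assoc, pullback.lift_snd, pullback.diagonal_snd,
        pullback.diagonal_snd_assoc, Category.comp_id]
  have hl₁₂ : pullback.lift o₁ o₂ h12 ≫ m₁₂ = (o₁ ≫ i₁) ≫ pullback.diagonal q := by
    apply pullback.hom_ext
    · simp only [m₁₂, Category.assoc, pullback.lift_fst, pullback.lift_fst_assoc,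
        pullback.diagonal_fst, Category.comp_id]
    · simp only [m₁₂, Category.assoc, pullback.lift_snd, pullback.lift_snd_assoc,
        pullback.diagonal_snd, Category.comp_id, hcomm]
  have hl₂₁ : pullback.lift o₂ o₁ h12.symm ≫ m₂₁ = (o₁ ≫ i₁) ≫ pullback.diagonal q := by
    apply pullback.hom_ext
    · simp only [m₂₁, Category.assoc, pullback.lift_fst, pullback.lift_fst_assoc,
        pullback.diagonal_fst, Category.comp_id, hcomm]
    · simp only [m₂₁, Category.assoc, pullback.lift_snd, pullback.lift_snd_assoc,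
        pullback.diagonal_snd, Category.comp_id]
  have hfstΔ : ∀ x : X, pullback.fst q q (pullback.diagonal q x) = x := fun x => by
    rw [← Scheme.Hom.comp_apply, pullback.diagonal_fst]
    rfl
  have hsndΔ : ∀ x : X, pullback.snd q q (pullback.diagonal q x) = x := fun x => by
    rw [← Scheme.Hom.comp_apply, pullback.diagonal_snd]
    rfl
  have hΔ₁ : ∀ x₁ : X₁, m₁₁ (pullback.diagonal (i₁ ≫ q) x₁) = pullback.diagonal q (i₁ x₁) := fun x₁ => by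
    rw [← Scheme.Hom.comp_apply, hd₁, Scheme.Hom.comp_apply]
  have hΔ₂ : ∀ x₂ : X₂, m₂₂ (pullback.diagonal (i₂ ≫ q) x₂) = pullback.diagonal q (i₂ x₂) := fun x₂ => by
    rw [← Scheme.Hom.comp_apply, hd₂, Scheme.Hom.comp_apply]
  have hΛ₁₂ : ∀ w : X₁₂, m₁₂ (pullback.lift o₁ o₂ h12 w) = pullback.diagonal q (i₁ (o₁ w)) := fun w => by
    rw [← Scheme.Hom.comp_apply, hl₁₂, Scheme.Hom.comp_apply, Scheme.Hom.comp_apply]
  have hΛ₂₁ : ∀ w : X₁₂, m₂₁ (pullback.lift o₂ o₁ h12.symm w) = pullback.diagonal q (i₁ (o₁ w)) := fun w => by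
    rw [← Scheme.Hom.comp_apply, hl₂₁, Scheme.Hom.comp_apply, Scheme.Hom.comp_apply]
  have hcomm' : ∀ w : X₁₂, i₁ (o₁ w) = i₂ (o₂ w) := fun w => by
    rw [← Scheme.Hom.comp_apply, ← Scheme.Hom.comp_apply, hcomm]
  rcases hcov (pullback.fst q q z) with ha | ha <;> rcases hcov (pullback.snd q q z) with hb | hb
  · -- chart (1,1)
    refine mem_of_mem_closure_of_chart m₁₁ _ (Set.range (pullback.diagonal (i₁ ≫ q)))
      (pullback.diagonal (i₁ ≫ q)).isClosedEmbedding.isClosed_range ?_ ?_ z hz (hr₁₁ ▸ ⟨ha, hb⟩)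
    · rintro _ ⟨⟨x, rfl⟩, ⟨ξ, hξ⟩⟩
      have h1 : i₁ (pullback.fst (i₁ ≫ q) (i₁ ≫ q) ξ) = x := by
        rw [← hfstΔ x, ← hξ, ← Scheme.Hom.comp_apply, ← Scheme.Hom.comp_apply]
        simp only [m₁₁, pullback.lift_fst]
      refine ⟨ξ, ⟨pullback.fst (i₁ ≫ q) (i₁ ≫ q) ξ, ?_⟩, hξ⟩
      apply m₁₁.isOpenEmbedding.injective
      rw [hΔ₁, h1, hξ]
    · rintro _ ⟨_, ⟨x₁, rfl⟩, rfl⟩
      exact ⟨i₁ x₁, (hΔ₁ x₁).symm⟩
  · -- chart (1,2)
    refine mem_of_mem_closure_of_chart m₁₂ _ (Set.range (pullback.lift o₁ o₂ h12)) hcl ?_ ?_ z hz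
      (hr₁₂ ▸ ⟨ha, hb⟩)
    · rintro _ ⟨⟨x, rfl⟩, ⟨ξ, hξ⟩⟩
      have h1 : i₁ (pullback.fst (i₁ ≫ q) (i₂ ≫ q) ξ) = x := by
        rw [← hfstΔ x, ← hξ, ← Scheme.Hom.comp_apply, ← Scheme.Hom.comp_apply]
        simp only [m₁₂, pullback.lift_fst]
      have h2 : i₂ (pullback.snd (i₁ ≫ q) (i₂ ≫ q) ξ) = x := by
        rw [← hsndΔ x, ← hξ, ← Scheme.Hom.comp_apply, ← Scheme.Hom.comp_apply]
        simp only [m₁₂, pullback.lift_snd]
      obtain ⟨w, hw1, hw2⟩ := hint _ _ (h1.trans h2.symm)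
      refine ⟨ξ, ⟨w, ?_⟩, hξ⟩
      apply m₁₂.isOpenEmbedding.injective
      rw [hΛ₁₂, hw1, h1, hξ]
    · rintro _ ⟨_, ⟨w, rfl⟩, rfl⟩
      exact ⟨i₁ (o₁ w), (hΛ₁₂ w).symm⟩
  · -- chart (2,1)
    refine mem_of_mem_closure_of_chart m₂₁ _ (Set.range (pullback.lift o₂ o₁ h12.symm)) hcl' ?_ ?_ z hz
      (hr₂₁ ▸ ⟨ha, hb⟩)
    · rintro _ ⟨⟨x, rfl⟩, ⟨ξ, hξ⟩⟩
      have h1 : i₂ (pullback.fst (i₂ ≫ q) (i₁ ≫ q) ξ) = x := by
        rw [← hfstΔ x, ← hξ, ← Scheme.Hom.comp_apply, ← Scheme.Hom.comp_apply]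
        simp only [m₂₁, pullback.lift_fst]
      have h2 : i₁ (pullback.snd (i₂ ≫ q) (i₁ ≫ q) ξ) = x := by
        rw [← hsndΔ x, ← hξ, ← Scheme.Hom.comp_apply, ← Scheme.Hom.comp_apply]
        simp only [m₂₁, pullback.lift_snd]
      obtain ⟨w, hw1, hw2⟩ := hint _ _ (h2.trans h1.symm)
      refine ⟨ξ, ⟨w, ?_⟩, hξ⟩
      apply m₂₁.isOpenEmbedding.injective
      rw [hΛ₂₁, hw1, h2, hξ]
    · rintro _ ⟨_, ⟨w, rfl⟩, rfl⟩
      exact ⟨i₁ (o₁ w), (hΛ₂₁ w).symm⟩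
  · -- chart (2,2)
    refine mem_of_mem_closure_of_chart m₂₂ _ (Set.range (pullback.diagonal (i₂ ≫ q)))
      (pullback.diagonal (i₂ ≫ q)).isClosedEmbedding.isClosed_range ?_ ?_ z hz (hr₂₂ ▸ ⟨ha, hb⟩)
    · rintro _ ⟨⟨x, rfl⟩, ⟨ξ, hξ⟩⟩
      have h1 : i₂ (pullback.fst (i₂ ≫ q) (i₂ ≫ q) ξ) = x := by
        rw [← hfstΔ x, ← hξ, ← Scheme.Hom.comp_apply, ← Scheme.Hom.comp_apply]
        simp only [m₂₂, pullback.lift_fst]
      refine ⟨ξ, ⟨pullback.fst (i₂ ≫ q) (i₂ ≫ q) ξ, ?_⟩, hξ⟩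
      apply m₂₂.isOpenEmbedding.injective
      rw [hΔ₂, h1, hξ]
    · rintro _ ⟨_, ⟨x₂, rfl⟩, rfl⟩
      exact ⟨i₂ x₂, (hΔ₂ x₂).symm⟩

end Groth.Agent.Lib.NagataGlue68
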