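import Mathlib
import Groth.Prelude.Def_BlowUp2
import Groth.Agent.Lib.NagataGlue68
import Groth.Agent.Lib.BiratOpen68
import Groth.Agent.Lib.BlowUpUniv

/-!
# Gluing two partial compactifications after admissible blow-ups (helper68)

Given open immersions `j_i : U ⟶ X_i` of separated finite type `S`-schemes, there are `U`-admissible blow-ups
`X_i' ⟶ X_i` which glue along a common open to a separated `S`-scheme of finite type (Conrad, Deligne's notes on
Nagata compactifications; Stacks 0ATB-like).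
-/

set_option autoImplicit false

universe u

open CategoryTheory AlgebraicGeometry TopologicalSpace Opposite Limits

namespace Groth.Agent.Lib.NagataGlueMain68

/-- The graph of `jY ∘ jX⁻¹` is closed over the image of `jX`. -/
theorem graph_closed_fst {S X Y U : Scheme.{u}} (pX : X ⟶ S) (pY : Y ⟶ S) [IsSeparated pY]
    (jX : U ⟶ X) [IsOpenImmersion jX] (jY : U ⟶ Y) (h : jX ≫ pX = jY ≫ pY) :
    closure (Set.range (pullback.lift jX jY h)) ∩ (pullback.fst pX pY) ⁻¹' (Set.range jX) ⊆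
      Set.range (pullback.lift jX jY h) := by
  have hf : jX.opensRange.ι ≫ pX = (jX.isoOpensRange.inv ≫ jY) ≫ pY := by
    rw [← Scheme.Hom.isoOpensRange_inv_comp, Category.assoc, Category.assoc, h]
  have key := Groth.Agent.Lib.QDomSelf68.graph_closed_over_self pX pY jX.opensRange
    (jX.isoOpensRange.inv ≫ jY) hf
  have hγ : pullback.lift jX jY h =
      jX.isoOpensRange.hom ≫ pullback.lift jX.opensRange.ι (jX.isoOpensRange.inv ≫ jY) hf := by
    apply pullback.hom_ext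
    · rw [pullback.lift_fst, Category.assoc, pullback.lift_fst, Scheme.Hom.isoOpensRange_hom_ι]
    · rw [pullback.lift_snd, Category.assoc, pullback.lift_snd, Iso.hom_inv_id_assoc]
  have hrange : Set.range (pullback.lift jX jY h) =
      Set.range (pullback.lift jX.opensRange.ι (jX.isoOpensRange.inv ≫ jY) hf) := by
    rw [hγ, Scheme.Hom.comp_base, TopCat.coe_comp, Set.range_comp]
    have hsurj : Function.Surjective jX.isoOpensRange.hom :=
      jX.isoOpensRange.hom.homeomorph.surjective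
    rw [hsurj.range_eq, Set.image_univ]
  rw [hrange]
  exact key

/-- Symmetric version of `graph_closed_fst`. -/
theorem graph_closed_snd {S X Y U : Scheme.{u}} (pX : X ⟶ S) (pY : Y ⟶ S) [IsSeparated pX]
    (jX : U ⟶ X) (jY : U ⟶ Y) [IsOpenImmersion jY] (h : jX ≫ pX = jY ≫ pY) :
    closure (Set.range (pullback.lift jX jY h)) ∩ (pullback.snd pX pY) ⁻¹' (Set.range jY) ⊆
      Set.range (pullback.lift jX jY h) := by
  rintro z ⟨hz1, hz2⟩
  let σ := pullbackSymmetry pX pY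
  have hσ : pullback.lift jX jY h ≫ σ.hom = pullback.lift jY jX h.symm := by
    apply pullback.hom_ext
    · rw [Category.assoc, pullbackSymmetry_hom_comp_fst, pullback.lift_snd, pullback.lift_fst]
    · rw [Category.assoc, pullbackSymmetry_hom_comp_snd, pullback.lift_fst, pullback.lift_snd]
  have h1 : σ.hom z ∈ closure (Set.range (pullback.lift jY jX h.symm)) := by
    rw [← hσ, Scheme.Hom.comp_base, TopCat.coe_comp, Set.range_comp]
    exact image_closure_subset_closure_image σ.hom.continuous ⟨z, hz1, rfl⟩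
  have h2 : σ.hom z ∈ (pullback.fst pY pX) ⁻¹' (Set.range jY) := by
    change pullback.fst pY pX (σ.hom z) ∈ Set.range jY
    rw [← Scheme.Hom.comp_apply, pullbackSymmetry_hom_comp_fst]
    exact hz2
  obtain ⟨u, hu⟩ := graph_closed_fst pY pX jY jX h.symm ⟨h1, h2⟩
  refine ⟨u, ?_⟩
  apply σ.hom.homeomorph.injective
  change σ.hom (pullback.lift jX jY h u) = σ.hom z
  rw [← Scheme.Hom.comp_apply, hσ]
  exact hu

/-- A morphism `p : Z ⟶ X` is an isomorphism over the image of an open immersion `jX : U ⟶ X` which lifts to an open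
immersion `t : U ⟶ Z` whose image is all of `p⁻¹(jX U)`. -/
theorem isIso_morphismRestrict_of_lift {X Z U : Scheme.{u}} (p : Z ⟶ X) (t : U ⟶ Z) [IsOpenImmersion t]
    (jX : U ⟶ X) [IsOpenImmersion jX] (ht : t ≫ p = jX)
    (hpre : ∀ z : Z, p z ∈ Set.range jX → z ∈ Set.range t) : IsIso (p ∣_ jX.opensRange) := by
  have hEq : p ⁻¹ᵁ jX.opensRange = t.opensRange := by
    apply le_antisymm
    · intro z hz
      exact hpre z hz
    · rintro _ ⟨u, rfl⟩
      change p (t u) ∈ Set.range jX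
      rw [← Scheme.Hom.comp_apply, ht]
      exact ⟨u, rfl⟩
  have h1 : p ∣_ jX.opensRange =
      (Z.isoOfEq hEq).hom ≫ t.isoOpensRange.inv ≫ jX.isoOpensRange.hom := by
    have h2 : t.isoOpensRange.inv ≫ jX = t.opensRange.ι ≫ p := by
      rw [← ht, Scheme.Hom.isoOpensRange_inv_comp_assoc]
    rw [← cancel_mono jX.opensRange.ι, morphismRestrict_ι, Category.assoc, Category.assoc,
      Scheme.Hom.isoOpensRange_hom_ι, h2, Scheme.isoOfEq_hom_ι_assoc]
  rw [h1]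
  infer_instance

/-- Closedness of the image of `Z' ⟶ A' ×_S B'` from properness. -/
theorem isClosed_range_of_isProper {S A B A' B' Z Z' : Scheme.{u}} (a : A ⟶ S) (b : B ⟶ S)
    (a' : A' ⟶ S) (b' : B' ⟶ S) (cA : A' ⟶ A) (cB : B' ⟶ B) (ha : a' ≫ 𝟙 S = cA ≫ a)
    (hb : b' ≫ 𝟙 S = cB ≫ b) [IsSeparated a'] [IsSeparated b']
    (l : Z' ⟶ pullback a' b') (β : Z' ⟶ Z) [IsProper β] (ι : Z ⟶ pullback a b) [IsClosedImmersion ι]
    (h : l ≫ pullback.map a' b' a b cA cB (𝟙 S) ha hb = β ≫ ι) : IsClosed (Set.range l) := by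
  have hsep : IsSeparated (pullback.map a' b' a b cA cB (𝟙 S) ha hb) := by
    have h1 : IsSeparated (pullback.map a' b' a b cA cB (𝟙 S) ha hb ≫ pullback.fst a b ≫ a) := by
      have h2 : pullback.map a' b' a b cA cB (𝟙 S) ha hb ≫ pullback.fst a b ≫ a =
          pullback.fst a' b' ≫ a' := by
        rw [← Category.assoc, pullback.lift_fst, Category.assoc, ← ha, Category.comp_id]
      rw [h2]
      infer_instance
    exact IsSeparated.of_comp _ (pullback.fst a b ≫ a)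
  have hprop : IsProper (l ≫ pullback.map a' b' a b cA cB (𝟙 S) ha hb) := by
    rw [h]
    infer_instance
  have : IsProper l := IsProper.of_comp l (pullback.map a' b' a b cA cB (𝟙 S) ha hb)
  exact l.isClosedMap.isClosed_range

/-- **Gluing after admissible blow-ups.** -/
theorem exists_glue {U X₁ X₂ S : Scheme.{u}} [CompactSpace S] [QuasiSeparatedSpace S]
    (gU : U ⟶ S) (g₁ : X₁ ⟶ S) (g₂ : X₂ ⟶ S) [QuasiCompact gU]
    [IsSeparated g₁] [LocallyOfFiniteType g₁] [QuasiCompact g₁]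
    [IsSeparated g₂] [LocallyOfFiniteType g₂] [QuasiCompact g₂]
    (j₁ : U ⟶ X₁) (j₂ : U ⟶ X₂) [IsOpenImmersion j₁] [IsOpenImmersion j₂]
    (hj₁ : j₁ ≫ g₁ = gU) (hj₂ : j₂ ≫ g₂ = gU) :
    ∃ (X : Scheme.{u}) (q : X ⟶ S) (_ : IsSeparated q) (_ : LocallyOfFiniteType q) (_ : QuasiCompact q)
      (𝓘₁ : X₁.IdealSheafData) (𝓘₂ : X₂.IdealSheafData) (X₁' X₂' : Scheme.{u}) (b₁ : X₁' ⟶ X₁)
      (b₂ : X₂' ⟶ X₂) (o₁ : X₁' ⟶ X) (o₂ : X₂' ⟶ X) (u₁ : U ⟶ X₁') (u₂ : U ⟶ X₂'),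
      BlowUp.IsBlowUp b₁ 𝓘₁ ∧ BlowUp.IsAdmissibleFor j₁.opensRange 𝓘₁ ∧
      BlowUp.IsBlowUp b₂ 𝓘₂ ∧ BlowUp.IsAdmissibleFor j₂.opensRange 𝓘₂ ∧
      IsOpenImmersion o₁ ∧ IsOpenImmersion o₂ ∧ o₁ ≫ q = b₁ ≫ g₁ ∧ o₂ ≫ q = b₂ ≫ g₂ ∧
      u₁ ≫ b₁ = j₁ ∧ u₂ ≫ b₂ = j₂ ∧ u₁ ≫ o₁ = u₂ ≫ o₂ ∧
      (∀ x : X, x ∈ Set.range o₁ ∨ x ∈ Set.range o₂) := by
  classical
  have : CompactSpace U := QuasiCompact.compactSpace_of_compactSpace gU
  have : CompactSpace X₁ := QuasiCompact.compactSpace_of_compactSpace g₁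
  have : QuasiSeparatedSpace X₁ := quasiSeparatedSpace_of_quasiSeparated g₁
  have : CompactSpace X₂ := QuasiCompact.compactSpace_of_compactSpace g₂
  have : QuasiSeparatedSpace X₂ := quasiSeparatedSpace_of_quasiSeparated g₂
  have h12 : j₁ ≫ g₁ = j₂ ≫ g₂ := hj₁.trans hj₂.symm
  have : CompactSpace ↥(pullback g₁ g₂) :=
    QuasiCompact.compactSpace_of_compactSpace (pullback.fst g₁ g₂)
  have : QuasiSeparatedSpace ↥(pullback g₁ g₂) :=
    quasiSeparatedSpace_of_quasiSeparated (pullback.fst g₁ g₂)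
  let γ : U ⟶ pullback g₁ g₂ := pullback.lift j₁ j₂ h12
  have : QuasiCompact γ := inferInstance
  have : IsImmersion γ := by
    have : IsImmersion (γ ≫ pullback.fst g₁ g₂) := by
      rw [pullback.lift_fst]
      infer_instance
    exact IsImmersion.of_comp γ (pullback.fst g₁ g₂)
  let ι₁₂ : γ.image ⟶ pullback g₁ g₂ := γ.imageι
  let t : U ⟶ γ.image := γ.toImage
  have ht : t ≫ ι₁₂ = γ := γ.toImage_imageι
  have : IsOpenImmersion t := inferInstance
  have : CompactSpace γ.image := QuasiCompact.compactSpace_of_compactSpace ι₁₂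
  have : QuasiSeparatedSpace γ.image := quasiSeparatedSpace_of_quasiSeparated ι₁₂
  let p₁ : γ.image ⟶ X₁ := ι₁₂ ≫ pullback.fst g₁ g₂
  let p₂ : γ.image ⟶ X₂ := ι₁₂ ≫ pullback.snd g₁ g₂
  have hp₁ : IsSeparated p₁ := inferInstanceAs (IsSeparated (ι₁₂ ≫ pullback.fst g₁ g₂))
  have hp₁' : LocallyOfFiniteType p₁ :=
    inferInstanceAs (LocallyOfFiniteType (ι₁₂ ≫ pullback.fst g₁ g₂))
  have hp₁'' : QuasiCompact p₁ := inferInstanceAs (QuasiCompact (ι₁₂ ≫ pullback.fst g₁ g₂))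
  have hp₂ : IsSeparated p₂ := inferInstanceAs (IsSeparated (ι₁₂ ≫ pullback.snd g₁ g₂))
  have hp₂' : LocallyOfFiniteType p₂ :=
    inferInstanceAs (LocallyOfFiniteType (ι₁₂ ≫ pullback.snd g₁ g₂))
  have hp₂'' : QuasiCompact p₂ := inferInstanceAs (QuasiCompact (ι₁₂ ≫ pullback.snd g₁ g₂))
  have htp₁ : t ≫ p₁ = j₁ := by
    rw [← Category.assoc, ht, pullback.lift_fst]
  have htp₂ : t ≫ p₂ = j₂ := by
    rw [← Category.assoc, ht, pullback.lift_snd]
  have hrange : Set.range ι₁₂ = closure (Set.range γ) := by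
    rw [Scheme.IdealSheafData.range_subschemeι, Scheme.Hom.support_ker]
  have hpre₁ : ∀ z : γ.image, p₁ z ∈ Set.range j₁ → z ∈ Set.range t := by
    intro z hz
    have h1 : ι₁₂ z ∈ closure (Set.range γ) := by
      rw [← hrange]
      exact ⟨z, rfl⟩
    have h2 : pullback.fst g₁ g₂ (ι₁₂ z) ∈ Set.range j₁ := by
      rw [← Scheme.Hom.comp_apply]
      exact hz
    obtain ⟨u, hu⟩ := graph_closed_fst g₁ g₂ j₁ j₂ h12 ⟨h1, h2⟩
    refine ⟨u, ?_⟩
    apply ι₁₂.isClosedEmbedding.injective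
    rw [← Scheme.Hom.comp_apply, ht]
    exact hu
  have hpre₂ : ∀ z : γ.image, p₂ z ∈ Set.range j₂ → z ∈ Set.range t := by
    intro z hz
    have h1 : ι₁₂ z ∈ closure (Set.range γ) := by
      rw [← hrange]
      exact ⟨z, rfl⟩
    have h2 : pullback.snd g₁ g₂ (ι₁₂ z) ∈ Set.range j₂ := by
      rw [← Scheme.Hom.comp_apply]
      exact hz
    obtain ⟨u, hu⟩ := graph_closed_snd g₁ g₂ j₁ j₂ h12 ⟨h1, h2⟩
    refine ⟨u, ?_⟩
    apply ι₁₂.isClosedEmbedding.injective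
    rw [← Scheme.Hom.comp_apply, ht]
    exact hu
  have hiso₁ : IsIso (p₁ ∣_ j₁.opensRange) := isIso_morphismRestrict_of_lift p₁ t j₁ htp₁ hpre₁
  have hiso₂ : IsIso (p₂ ∣_ j₂.opensRange) := isIso_morphismRestrict_of_lift p₂ t j₂ htp₂ hpre₂
  have hV₁ : IsCompact (j₁.opensRange : Set X₁) := isCompact_range j₁.continuous
  have hV₂ : IsCompact (j₂.opensRange : Set X₂) := isCompact_range j₂.continuous
  -- Stage A
  obtain ⟨𝓙₁', Y₁', c₁', hc₁', hadm₁, hsupp₁, W₁, -, ft₁, hft₁, -, -, hftb₁⟩ :=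
    Groth.Agent.Lib.StrictOpen68.exists_blowUp_graph p₁ j₁.opensRange hV₁
  obtain ⟨𝓙₂', Y₂', c₂', hc₂', hadm₂, hsupp₂, W₂, -, ft₂, hft₂, -, -, hftb₂⟩ :=
    Groth.Agent.Lib.StrictOpen68.exists_blowUp_graph p₂ j₂.opensRange hV₂
  have hI₁ft : BlowUp.IsFiniteTypeIdeal (𝓙₁'.comap p₁) :=
    Groth.Agent.Lib.BlowUpAdm68.isFiniteTypeIdeal_comap p₁ 𝓙₁' hadm₁.1
  have hI₂ft : BlowUp.IsFiniteTypeIdeal (𝓙₂'.comap p₂) :=
    Groth.Agent.Lib.BlowUpAdm68.isFiniteTypeIdeal_comap p₂ 𝓙₂' hadm₂.1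
  have hI₁supp : ∀ z : γ.image, z ∈ (𝓙₁'.comap p₁).support → p₁ z ∉ Set.range j₁ := by
    intro z hz
    rw [Scheme.IdealSheafData.support_comap] at hz
    have h1 : p₁ z ∈ (𝓙₁'.support : Set X₁) := hz
    rw [hsupp₁] at h1
    exact h1
  have hI₂supp : ∀ z : γ.image, z ∈ (𝓙₂'.comap p₂).support → p₂ z ∉ Set.range j₂ := by
    intro z hz
    rw [Scheme.IdealSheafData.support_comap] at hz
    have h1 : p₂ z ∈ (𝓙₂'.support : Set X₂) := hz
    rw [hsupp₂] at h1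
    exact h1
  have htp₁' : ∀ u : U, p₁ (t u) = j₁ u := fun u => by
    rw [← Scheme.Hom.comp_apply, htp₁]
  have htp₂' : ∀ u : U, p₂ (t u) = j₂ u := fun u => by
    rw [← Scheme.Hom.comp_apply, htp₂]
  obtain ⟨X₁₂', b₁₂, hb₁₂⟩ :=
    Groth.Agent.Lib.BlowUpGlue68.exists_isBlowUp γ.image (𝓙₁'.comap p₁ * 𝓙₂'.comap p₂)
  -- Stage B
  obtain ⟨𝓙₁, X₁', c₁, o₁', hc₁, h𝓙₁ft, h𝓙₁V, ho₁', ho₁'c⟩ :=
    Groth.Agent.Lib.BiratOpen68.exists_openImmersion_of_blowUp p₁ 𝓙₁' hadm₁.1 c₁' hc₁' W₁ ft₁ hft₁ hftb₁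
      j₁.opensRange hV₁ hadm₁.2 (𝓙₂'.comap p₂) hI₂ft
      (Set.disjoint_left.mpr fun z hz hzV => by
        obtain ⟨u, rfl⟩ := hpre₁ z hzV
        exact hI₂supp _ hz ⟨u, (htp₂' u).symm⟩) b₁₂ hb₁₂
  obtain ⟨𝓙₂, X₂', c₂, o₂', hc₂, h𝓙₂ft, h𝓙₂V, ho₂', ho₂'c⟩ :=
    Groth.Agent.Lib.BiratOpen68.exists_openImmersion_of_blowUp p₂ 𝓙₂' hadm₂.1 c₂' hc₂' W₂ ft₂ hft₂ hftb₂
      j₂.opensRange hV₂ hadm₂.2 (𝓙₁'.comap p₁) hI₁ft
      (Set.disjoint_left.mpr fun z hz hzV => by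
        obtain ⟨u, rfl⟩ := hpre₂ z hzV
        exact hI₁supp _ hz ⟨u, (htp₁' u).symm⟩) b₁₂ (by rw [mul_comm]; exact hb₁₂)
  have hc₁proper : IsProper c₁ :=
    Groth.Agent.Lib.BlowUpProper68.isProper_of_isBlowUp_of_isFiniteTypeIdeal c₁ 𝓙₁ hc₁ h𝓙₁ft
  have hc₂proper : IsProper c₂ :=
    Groth.Agent.Lib.BlowUpProper68.isProper_of_isBlowUp_of_isFiniteTypeIdeal c₂ 𝓙₂ hc₂ h𝓙₂ft
  have hb₁₂proper : IsProper b₁₂ :=
    Groth.Agent.Lib.BlowUpProper68.isProper_of_isBlowUp_of_isFiniteTypeIdeal b₁₂ _ hb₁₂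
      (Groth.Agent.Lib.BlowUpAdm68.isFiniteTypeIdeal_mul _ _ hI₁ft hI₂ft)
  have : CompactSpace X₁' := QuasiCompact.compactSpace_of_compactSpace c₁
  have : CompactSpace X₂' := QuasiCompact.compactSpace_of_compactSpace c₂
  -- glue
  obtain ⟨X, i₁, i₂, hi₁, hi₂, hpo, hcov, hint⟩ :=
    Groth.Agent.Lib.NagataGlue68.exists_pushout_of_isOpenImmersion o₁' o₂'
  have hdesc : o₁' ≫ c₁ ≫ g₁ = o₂' ≫ c₂ ≫ g₂ := by
    rw [reassoc_of% ho₁'c, reassoc_of% ho₂'c]
    simp only [p₁, p₂, Category.assoc, pullback.condition]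
  let q : X ⟶ S := hpo.desc (c₁ ≫ g₁) (c₂ ≫ g₂) hdesc
  have hq₁ : i₁ ≫ q = c₁ ≫ g₁ := hpo.inl_desc _ _ _
  have hq₂ : i₂ ≫ q = c₂ ≫ g₂ := hpo.inr_desc _ _ _
  have hsep₁ : IsSeparated (i₁ ≫ q) := by
    rw [hq₁]
    infer_instance
  have hsep₂ : IsSeparated (i₂ ≫ q) := by
    rw [hq₂]
    infer_instance
  have h12' : o₁' ≫ i₁ ≫ q = o₂' ≫ i₂ ≫ q := by
    rw [hq₁, hq₂, hdesc]
  have hcl : IsClosed (Set.range (pullback.lift o₁' o₂' h12')) := by
    refine isClosed_range_of_isProper g₁ g₂ (i₁ ≫ q) (i₂ ≫ q) c₁ c₂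
      (by rw [Category.comp_id, hq₁]) (by rw [Category.comp_id, hq₂]) _ b₁₂ ι₁₂ ?_
    apply pullback.hom_ext
    · simp only [Category.assoc, pullback.lift_fst, pullback.lift_fst_assoc]
      exact ho₁'c
    · simp only [Category.assoc, pullback.lift_snd, pullback.lift_snd_assoc]
      exact ho₂'c
  have hcl' : IsClosed (Set.range (pullback.lift o₂' o₁' h12'.symm)) := by
    refine isClosed_range_of_isProper g₂ g₁ (i₂ ≫ q) (i₁ ≫ q) c₂ c₁
      (by rw [Category.comp_id, hq₂]) (by rw [Category.comp_id, hq₁]) _ b₁₂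
      (ι₁₂ ≫ (pullbackSymmetry g₁ g₂).hom) ?_
    apply pullback.hom_ext
    · simp only [Category.assoc, pullback.lift_fst, pullback.lift_fst_assoc,
        pullbackSymmetry_hom_comp_fst]
      exact ho₂'c
    · simp only [Category.assoc, pullback.lift_snd, pullback.lift_snd_assoc,
        pullbackSymmetry_hom_comp_snd]
      exact ho₁'c
  have hsep : IsSeparated q :=
    Groth.Agent.Lib.NagataGlue68.isSeparated_of_cover q i₁ i₂ o₁' o₂' hpo.w hcov hint h12' hcl hcl'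
  have hlft : LocallyOfFiniteType q := by
    apply IsZariskiLocalAtSource.of_iSup_eq_top (P := @LocallyOfFiniteType)
      (fun b : Bool => cond b i₁.opensRange i₂.opensRange)
    · rw [eq_top_iff]
      intro x _
      rcases hcov x with h | h
      · exact Opens.mem_iSup.mpr ⟨true, h⟩
      · exact Opens.mem_iSup.mpr ⟨false, h⟩
    · intro b
      cases b
      · change LocallyOfFiniteType (i₂.opensRange.ι ≫ q)
        rw [← Scheme.Hom.isoOpensRange_inv_comp, Category.assoc, hq₂]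
        infer_instance
      · change LocallyOfFiniteType (i₁.opensRange.ι ≫ q)
        rw [← Scheme.Hom.isoOpensRange_inv_comp, Category.assoc, hq₁]
        infer_instance
  have hqc : QuasiCompact q := by
    have : CompactSpace X := by
      constructor
      have h1 : (Set.univ : Set X) = Set.range i₁ ∪ Set.range i₂ := by
        ext x
        simp only [Set.mem_univ, Set.mem_union, true_iff]
        exact hcov x
      rw [h1]
      exact (isCompact_range i₁.continuous).union (isCompact_range i₂.continuous)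
    infer_instance
  -- the lifts of `U`
  have hcartU : BlowUp.IsEffCartierIdeal ((𝓙₁'.comap p₁ * 𝓙₂'.comap p₂).comap t) := by
    rw [Groth.Agent.Lib.BlowUpUniv.comap_eq_top _ t (fun u hu => ?_)]
    · exact Groth.Agent.Lib.BlowUpUniv.isEffCartier_top
    · rw [Scheme.IdealSheafData.support_mul] at hu
      rcases hu with hu | hu
      · exact hI₁supp _ hu ⟨u, (htp₁' u).symm⟩
      · exact hI₂supp _ hu ⟨u, (htp₂' u).symm⟩
  obtain ⟨u₁₂, hu₁₂, -⟩ := hb₁₂.2 U t hcartU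
  have hu₁₂' : u₁₂ ≫ b₁₂ = t := hu₁₂
  refine ⟨X, q, hsep, hlft, hqc, 𝓙₁, 𝓙₂, X₁', X₂', c₁, c₂, i₁, i₂, u₁₂ ≫ o₁', u₁₂ ≫ o₂', hc₁,
    ⟨h𝓙₁ft, h𝓙₁V⟩, hc₂, ⟨h𝓙₂ft, h𝓙₂V⟩, hi₁, hi₂, hq₁, hq₂, ?_, ?_, ?_, hcov⟩
  · rw [Category.assoc, ho₁'c, reassoc_of% hu₁₂', htp₁]
  · rw [Category.assoc, ho₂'c, reassoc_of% hu₁₂', htp₂]
  · rw [Category.assoc, Category.assoc, hpo.w]

end Groth.Agent.Lib.NagataGlueMain68
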