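import Mathlib
import Groth.Agent.Lib.KrullAkizuki2

/-!
# helper96: integral closure of a one-dimensional Noetherian domain in its fraction ring
(ring-level package for the normalization of a one-dimensional scheme)

Setting: `B` a Noetherian domain of Krull dimension `≤ 1`, `R` a fraction ring of `B` (only a
`CommRing`), `C` an integral closure of `B` in `R` (`IsIntegralClosure C B R`).
-/

set_option autoImplicit false
set_option linter.unusedSectionVars false
set_option linter.style.haveILetI false
universe u

namespace Groth.Agent.Lib.NormDimOne96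

open Groth.Agent.Lib.KrullAkizuki

section Ring

variable (B R C : Type u) [CommRing B] [IsDomain B] [IsNoetherianRing B] [Ring.KrullDimLE 1 B]
  [CommRing R] [Algebra B R] [IsFractionRing B R]
  [CommRing C] [Algebra B C] [Algebra C R] [IsScalarTower B C R] [IsIntegralClosure C B R]

include B R

theorem isDomain_C : IsDomain C :=
  haveI : IsDomain R := IsFractionRing.isDomain B
  (IsIntegralClosure.algebraMap_injective C B R).isDomain (algebraMap C R)

theorem isIntegral_C : Algebra.IsIntegral B C := IsIntegralClosure.isIntegral_algebra B R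

theorem injective_BC : Function.Injective (algebraMap B C) := by
  have h1 : Function.Injective (algebraMap B R) := IsFractionRing.injective B R
  rw [IsScalarTower.algebraMap_eq B C R] at h1
  exact Function.Injective.of_comp h1

theorem dimensionLEOne_B : Ring.DimensionLEOne B :=
  ⟨fun {p} hp hp' => Ring.krullDimLE_one_iff_of_noZeroDivisors.mp ‹Ring.KrullDimLE 1 B› p hp hp'⟩

theorem isNoetherianRing_C : IsNoetherianRing C := by
  letI : Field R := IsFractionRing.toField B
  exact isNoetherianRing_of_between (R := B) (K := R) (L := R) (A := C)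
    (IsIntegralClosure.algebraMap_injective C B R)

theorem finite_primes_of_mem (x : B) (hx : x ≠ 0) :
    {n : Ideal C | n.IsPrime ∧ algebraMap B C x ∈ n}.Finite := by
  letI : Field R := IsFractionRing.toField B
  exact Groth.Agent.Lib.KrullAkizuki.finite_primes_of_mem R R
    (IsIntegralClosure.algebraMap_injective C B R) x hx

theorem finite_quotient_of_mem (x : B) (hx : x ≠ 0) (n : Ideal C) (hn : algebraMap B C x ∈ n) :
    Module.Finite B (C ⧸ n) := by
  letI : Field R := IsFractionRing.toField B
  exact Groth.Agent.Lib.KrullAkizuki.finite_quotient_of_mem R R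
    (IsIntegralClosure.algebraMap_injective C B R) x hx n hn

theorem isMaximal_of_mem (x : B) (hx : x ≠ 0) (n : Ideal C) [n.IsPrime]
    (hn : algebraMap B C x ∈ n) : n.IsMaximal := by
  letI : Field R := IsFractionRing.toField B
  exact Groth.Agent.Lib.KrullAkizuki.isMaximal_of_mem R R
    (IsIntegralClosure.algebraMap_injective C B R) x hx n hn

theorem eq_bot_of_comap_eq_bot (Q : Ideal C) [Q.IsPrime]
    (h : Q.comap (algebraMap B C) = ⊥) : Q = ⊥ := by
  haveI := isDomain_C B R C
  haveI := isIntegral_C B R C
  exact Ideal.eq_bot_of_comap_eq_bot h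

theorem finite_fibre (p : Ideal B) [p.IsPrime] :
    {Q : PrimeSpectrum C | Q.asIdeal.comap (algebraMap B C) = p}.Finite := by
  by_cases hp : p = ⊥
  · refine Set.Finite.subset (Set.finite_singleton (⟨⊥, by
      haveI := isDomain_C B R C; exact Ideal.isPrime_bot⟩ : PrimeSpectrum C)) ?_
    intro Q hQ
    have h1 : Q.asIdeal.comap (algebraMap B C) = ⊥ := by rw [← hp]; exact hQ
    exact PrimeSpectrum.ext (eq_bot_of_comap_eq_bot B R C Q.asIdeal h1)
  · obtain ⟨x, hxp, hx0⟩ := Submodule.exists_mem_ne_zero_of_ne_bot hp
    have hfin := finite_primes_of_mem B R C x hx0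
    refine Set.Finite.of_finite_image (f := PrimeSpectrum.asIdeal) (hfin.subset ?_) ?_
    · rintro _ ⟨Q, hQ, rfl⟩
      refine ⟨Q.isPrime, ?_⟩
      have h3 : x ∈ Q.asIdeal.comap (algebraMap B C) := by
        rw [show Q.asIdeal.comap (algebraMap B C) = p from hQ]; exact hxp
      exact h3
    · intro Q _ Q' _ h
      exact PrimeSpectrum.ext h

theorem isIntegrallyClosed_C : IsIntegrallyClosed C := by
  letI : Field R := IsFractionRing.toField B
  haveI h1 : IsIntegrallyClosed (integralClosure B R) :=
    integralClosure.isIntegrallyClosedOfFiniteExtension R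
  let e : C ≃ₐ[B] integralClosure B R := IsIntegralClosure.equiv B C R (integralClosure B R)
  exact IsIntegrallyClosed.of_equiv e.symm.toRingEquiv

theorem isDedekindDomain_C : IsDedekindDomain C := by
  haveI := isDomain_C B R C
  haveI := isIntegral_C B R C
  haveI := dimensionLEOne_B B R
  haveI : Ring.DimensionLEOne C := Ring.DimensionLEOne.of_isIntegral B C
  haveI := isNoetherianRing_C B R C
  haveI := isIntegrallyClosed_C B R C
  exact { }

/-- every element of `C` is a fraction of elements of `B`. -/
theorem exists_mul_eq (c : C) :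
    ∃ s b : B, s ≠ 0 ∧ algebraMap B C s * c = algebraMap B C b := by
  obtain ⟨⟨b, s⟩, hbs⟩ := IsLocalization.surj (nonZeroDivisors B) (algebraMap C R c)
  refine ⟨s.1, b, nonZeroDivisors.ne_zero s.2, ?_⟩
  apply IsIntegralClosure.algebraMap_injective C B R
  rw [map_mul, ← IsScalarTower.algebraMap_apply, ← IsScalarTower.algebraMap_apply, mul_comm]
  exact hbs

end Ring

end Groth.Agent.Lib.NormDimOne96
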