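import Mathlib
import Groth.Agent.Lib.NormDimOneA96
import Groth.Agent.Lib.NormBranchesF96

/-!
# helper96: chart rings of the normalization of a one-dimensional locally Noetherian integral scheme
-/

set_option autoImplicit false
set_option linter.style.haveILetI false
set_option linter.unusedSectionVars false
universe u

namespace Groth.Agent.Lib.NormDimOne96

open AlgebraicGeometry CategoryTheory Opposite Groth.Agent.Lib.NormBranches96

variable (X : Scheme.{u}) [IsIntegral X]
  [QuasiCompact (X.fromSpecStalk (genericPoint X))]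
  [QuasiSeparated (X.fromSpecStalk (genericPoint X))]

/-- `Γ(X, U)` has Krull dimension `≤ 1` when `X` has dimension `1`. -/
theorem krullDimLE_one_chart (hdim : topologicalKrullDim X = 1) (U : X.Opens)
    (hU : IsAffineOpen U) : Ring.KrullDimLE 1 Γ(X, U) := by
  rw [Ring.krullDimLE_iff]
  have h1 : ringKrullDim Γ(X, U) = topologicalKrullDim (PrimeSpectrum Γ(X, U)) :=
    (PrimeSpectrum.topologicalKrullDim_eq_ringKrullDim _).symm
  have h2 : topologicalKrullDim (Spec Γ(X, U)) ≤ topologicalKrullDim X :=
    hU.fromSpec.isOpenEmbedding.isInducing.topologicalKrullDim_le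
  rw [hdim] at h2
  rw [h1]
  exact h2

section Chart

variable (U : X.Opens) (hU : IsAffineOpen U) [Nonempty U]

include hU in
/-- The ring-level package for the chart over `U`. -/
theorem chart_facts [IsLocallyNoetherian X] (hdim : topologicalKrullDim X = 1) :
    IsDedekindDomain Γ((X.fromSpecStalk (genericPoint X)).normalization,
        (X.fromSpecStalk (genericPoint X)).fromNormalization ⁻¹ᵁ U) ∧
      (∀ (p : Ideal Γ(X, U)) [p.IsPrime],
        {Q : PrimeSpectrum Γ((X.fromSpecStalk (genericPoint X)).normalization,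
          (X.fromSpecStalk (genericPoint X)).fromNormalization ⁻¹ᵁ U) |
          Q.asIdeal.comap ((X.fromSpecStalk (genericPoint X)).fromNormalization.app U).hom =
            p}.Finite) ∧
      (∀ (x : Γ(X, U)), x ≠ 0 → ∀ n : Ideal Γ((X.fromSpecStalk (genericPoint X)).normalization,
          (X.fromSpecStalk (genericPoint X)).fromNormalization ⁻¹ᵁ U),
        ((X.fromSpecStalk (genericPoint X)).fromNormalization.app U).hom x ∈ n →
        (letI := ((X.fromSpecStalk (genericPoint X)).fromNormalization.app U).hom.toAlgebra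
         Module.Finite Γ(X, U) (Γ((X.fromSpecStalk (genericPoint X)).normalization,
          (X.fromSpecStalk (genericPoint X)).fromNormalization ⁻¹ᵁ U) ⧸ n)) ∧
          (n.IsPrime → n.IsMaximal)) ∧
      (∀ c : Γ((X.fromSpecStalk (genericPoint X)).normalization,
          (X.fromSpecStalk (genericPoint X)).fromNormalization ⁻¹ᵁ U), ∃ s b : Γ(X, U), s ≠ 0 ∧
        ((X.fromSpecStalk (genericPoint X)).fromNormalization.app U).hom s * c =
          ((X.fromSpecStalk (genericPoint X)).fromNormalization.app U).hom b) := by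
  let f := X.fromSpecStalk (genericPoint X)
  letI algBR : Algebra Γ(X, U) Γ(Spec (X.presheaf.stalk (genericPoint X)), f ⁻¹ᵁ U) :=
    (f.app U).hom.toAlgebra
  haveI hfrac : IsFractionRing Γ(X, U) Γ(Spec (X.presheaf.stalk (genericPoint X)), f ⁻¹ᵁ U) :=
    isFractionRing_chart X U hU
  letI algBC : Algebra Γ(X, U) Γ(f.normalization, f.fromNormalization ⁻¹ᵁ U) :=
    (f.fromNormalization.app U).hom.toAlgebra
  let iso := f.normalizationObjIso hU
  let ι : Γ(f.normalization, f.fromNormalization ⁻¹ᵁ U) →+*
      Γ(Spec (X.presheaf.stalk (genericPoint X)), f ⁻¹ᵁ U) :=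
    (integralClosure Γ(X, U) Γ(Spec (X.presheaf.stalk (genericPoint X)), f ⁻¹ᵁ U)).val.toRingHom.comp
      iso.hom.hom
  letI algCR : Algebra Γ(f.normalization, f.fromNormalization ⁻¹ᵁ U)
      Γ(Spec (X.presheaf.stalk (genericPoint X)), f ⁻¹ᵁ U) := ι.toAlgebra
  have happ : ∀ b : Γ(X, U), iso.hom.hom ((f.fromNormalization.app U).hom b) =
      algebraMap Γ(X, U)
        (integralClosure Γ(X, U) Γ(Spec (X.presheaf.stalk (genericPoint X)), f ⁻¹ᵁ U)) b := by
    intro b
    have h1 := f.fromNormalization_app hU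
    have h2 : (f.fromNormalization.app U).hom b = iso.inv.hom (algebraMap Γ(X, U)
        (integralClosure Γ(X, U) Γ(Spec (X.presheaf.stalk (genericPoint X)), f ⁻¹ᵁ U)) b) :=
      congrArg (fun k => k.hom b) h1
    rw [h2]
    exact congrArg (fun k => k.hom (algebraMap Γ(X, U)
        (integralClosure Γ(X, U) Γ(Spec (X.presheaf.stalk (genericPoint X)), f ⁻¹ᵁ U)) b))
      iso.inv_hom_id
  haveI tower : IsScalarTower Γ(X, U) Γ(f.normalization, f.fromNormalization ⁻¹ᵁ U)
      Γ(Spec (X.presheaf.stalk (genericPoint X)), f ⁻¹ᵁ U) := by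
    refine IsScalarTower.of_algebraMap_eq fun b => ?_
    show _ = ι ((f.fromNormalization.app U).hom b)
    show _ = ((integralClosure Γ(X, U)
      Γ(Spec (X.presheaf.stalk (genericPoint X)), f ⁻¹ᵁ U)).val.toRingHom)
        (iso.hom.hom ((f.fromNormalization.app U).hom b))
    rw [happ b]
    rfl
  have hιinj : Function.Injective ι := by
    intro a b hab
    have h1 : iso.hom.hom a = iso.hom.hom b := Subtype.ext hab
    exact (ConcreteCategory.bijective_of_isIso iso.hom).1 h1
  haveI hIC : IsIntegralClosure Γ(f.normalization, f.fromNormalization ⁻¹ᵁ U) Γ(X, U)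
      Γ(Spec (X.presheaf.stalk (genericPoint X)), f ⁻¹ᵁ U) :=
    { algebraMap_injective := hιinj
      isIntegral_iff := by
        intro x
        constructor
        · intro hx
          obtain ⟨y, hy⟩ := (ConcreteCategory.bijective_of_isIso iso.hom).2 ⟨x, hx⟩
          exact ⟨y, by
            show ((integralClosure Γ(X, U)
              Γ(Spec (X.presheaf.stalk (genericPoint X)), f ⁻¹ᵁ U)).val.toRingHom)
              (iso.hom.hom y) = x
            rw [hy]
            rfl⟩
        · rintro ⟨y, rfl⟩
          exact (iso.hom.hom y).2 }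
  haveI : IsNoetherianRing Γ(X, U) := IsLocallyNoetherian.component_noetherian ⟨U, hU⟩
  haveI : Ring.KrullDimLE 1 Γ(X, U) := krullDimLE_one_chart X hdim U hU
  refine ⟨isDedekindDomain_C Γ(X, U) Γ(Spec (X.presheaf.stalk (genericPoint X)), f ⁻¹ᵁ U) _,
    fun p _ => finite_fibre Γ(X, U) Γ(Spec (X.presheaf.stalk (genericPoint X)), f ⁻¹ᵁ U) _ p,
    fun x hx n hn => ⟨finite_quotient_of_mem Γ(X, U)
        Γ(Spec (X.presheaf.stalk (genericPoint X)), f ⁻¹ᵁ U) _ x hx n hn,
      fun hnp => isMaximal_of_mem Γ(X, U)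
        Γ(Spec (X.presheaf.stalk (genericPoint X)), f ⁻¹ᵁ U) _ x hx n hn⟩,
    fun c => exists_mul_eq Γ(X, U) Γ(Spec (X.presheaf.stalk (genericPoint X)), f ⁻¹ᵁ U) _ c⟩

end Chart

end Groth.Agent.Lib.NormDimOne96
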