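import Mathlib
import Groth.Agent.Lib.NormDimOneB96

/-!
# helper96: normalization of a one-dimensional locally Noetherian integral scheme:
finite fibres, locally Noetherian, Dedekind affine opens
-/

set_option autoImplicit false
set_option linter.style.haveILetI false
set_option linter.unusedSectionVars false
universe u

namespace Groth.Agent.Lib.NormDimOne96

open AlgebraicGeometry CategoryTheory Opposite Groth.Agent.Lib.NormBranches96

theorem exists_affine_mem' {Y : Scheme.{u}} (y : Y) : ∃ U : Y.Opens, IsAffineOpen U ∧ y ∈ U := by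
  obtain ⟨_, ⟨U, hU, rfl⟩, hyU, -⟩ :=
    Y.isBasis_affineOpens.exists_subset_of_mem_open (Set.mem_univ y) isOpen_univ
  exact ⟨U, hU, hyU⟩

theorem primeIdealOf_injective {Y : Scheme.{u}} {W : Y.Opens} (hW : IsAffineOpen W)
    (a b : W) (h : hW.primeIdealOf a = hW.primeIdealOf b) : a = b := by
  apply Subtype.ext
  rw [← hW.fromSpec_primeIdealOf a, ← hW.fromSpec_primeIdealOf b, h]

variable (X : Scheme.{u}) [IsIntegral X]
  [QuasiCompact (X.fromSpecStalk (genericPoint X))]
  [QuasiSeparated (X.fromSpecStalk (genericPoint X))]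
  [IsLocallyNoetherian X] (hdim : topologicalKrullDim X = 1)

include hdim

theorem finite_fibre_normalization (y : X) :
    Finite {z : (X.fromSpecStalk (genericPoint X)).normalization //
      (X.fromSpecStalk (genericPoint X)).fromNormalization z = y} := by
  obtain ⟨U, hU, hyU⟩ := exists_affine_mem' y
  haveI : Nonempty U := ⟨⟨y, hyU⟩⟩
  have hW : IsAffineOpen ((X.fromSpecStalk (genericPoint X)).fromNormalization ⁻¹ᵁ U) :=
    hU.preimage _
  obtain ⟨-, hfin, -, -⟩ := chart_facts X U hU hdim
  have hfin' := hfin (hU.primeIdealOf ⟨y, hyU⟩).asIdeal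
  haveI := hfin'.to_subtype
  have hmem : ∀ z : {z : (X.fromSpecStalk (genericPoint X)).normalization //
      (X.fromSpecStalk (genericPoint X)).fromNormalization z = y},
      z.1 ∈ (X.fromSpecStalk (genericPoint X)).fromNormalization ⁻¹ᵁ U := by
    intro z
    show (X.fromSpecStalk (genericPoint X)).fromNormalization z.1 ∈ U
    rw [z.2]
    exact hyU
  let Φ : {z : (X.fromSpecStalk (genericPoint X)).normalization //
      (X.fromSpecStalk (genericPoint X)).fromNormalization z = y} →
      {Q : PrimeSpectrum Γ((X.fromSpecStalk (genericPoint X)).normalization,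
          (X.fromSpecStalk (genericPoint X)).fromNormalization ⁻¹ᵁ U) |
          Q.asIdeal.comap ((X.fromSpecStalk (genericPoint X)).fromNormalization.app U).hom =
            (hU.primeIdealOf ⟨y, hyU⟩).asIdeal} := fun z =>
    ⟨hW.primeIdealOf ⟨z.1, hmem z⟩, by
      have h1 := IsAffineOpen.comap_primeIdealOf_appLE U hU _ hW le_rfl (hmem z)
      have h2 : hU.primeIdealOf ⟨(X.fromSpecStalk (genericPoint X)).fromNormalization z.1,
          hmem z⟩ = hU.primeIdealOf ⟨y, hyU⟩ := by
        congr 1
        exact Subtype.ext z.2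
      rw [h2] at h1
      have h3 := congrArg PrimeSpectrum.asIdeal h1
      rw [Scheme.Hom.appLE, show (homOfLE (le_refl
        ((X.fromSpecStalk (genericPoint X)).fromNormalization ⁻¹ᵁ U))).op = 𝟙 _ from rfl,
        CategoryTheory.Functor.map_id, Category.comp_id] at h3
      exact h3⟩
  refine Finite.of_injective Φ fun a b hab => ?_
  have h1 : hW.primeIdealOf ⟨a.1, hmem a⟩ = hW.primeIdealOf ⟨b.1, hmem b⟩ :=
    congrArg Subtype.val hab
  have h2 := primeIdealOf_injective hW _ _ h1
  exact Subtype.ext (congrArg (fun w => w.1) h2)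

theorem isLocallyNoetherian_normalization :
    IsLocallyNoetherian (X.fromSpecStalk (genericPoint X)).normalization := by
  apply isLocallyNoetherian_of_affine_cover
    (ι := {U : X.affineOpens // Nonempty U.1})
    (S := fun U => ⟨(X.fromSpecStalk (genericPoint X)).fromNormalization ⁻¹ᵁ U.1.1,
      U.1.2.preimage _⟩)
  · rw [eq_top_iff]
    intro z _
    obtain ⟨U, hU, hyU⟩ :=
      exists_affine_mem' ((X.fromSpecStalk (genericPoint X)).fromNormalization z)
    rw [TopologicalSpace.Opens.mem_iSup]
    exact ⟨⟨⟨U, hU⟩, ⟨⟨_, hyU⟩⟩⟩, hyU⟩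
  · rintro ⟨U, hne⟩
    haveI := hne
    haveI := (chart_facts X U.1 U.2 hdim).1
    show IsNoetherianRing Γ((X.fromSpecStalk (genericPoint X)).normalization,
      (X.fromSpecStalk (genericPoint X)).fromNormalization ⁻¹ᵁ U.1)
    exact IsDedekindRing.toIsNoetherian

omit hdim in
/-- In an integral scheme, a point of a non-empty affine open whose prime ideal is zero is the
generic point. -/
theorem eq_genericPoint_of_primeIdealOf_eq_bot {N : Scheme.{u}} [IsIntegral N] {W : N.Opens}
    (hW : IsAffineOpen W) (z : N) (hz : z ∈ W)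
    (h : (hW.primeIdealOf ⟨z, hz⟩).asIdeal = ⊥) : z = genericPoint N := by
  haveI : Nonempty W := ⟨⟨z, hz⟩⟩
  have h1 := hW.primeIdealOf_genericPoint
  rw [genericPoint_eq_bot_of_affine] at h1
  have h2 : hW.primeIdealOf ⟨z, hz⟩ = (⊥ : PrimeSpectrum Γ(N, W)) := PrimeSpectrum.ext h
  have h3 := primeIdealOf_injective hW _ _ (h2.trans h1.symm)
  exact congrArg Subtype.val h3

omit hdim in
theorem primeIdealOf_genericPoint_eq_bot {N : Scheme.{u}} [IsIntegral N] {W : N.Opens}
    (hW : IsAffineOpen W) (hz : genericPoint N ∈ W) :
    (hW.primeIdealOf ⟨genericPoint N, hz⟩).asIdeal = ⊥ := by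
  haveI : Nonempty W := ⟨⟨_, hz⟩⟩
  have h1 := hW.primeIdealOf_genericPoint
  rw [genericPoint_eq_bot_of_affine] at h1
  exact congrArg PrimeSpectrum.asIdeal h1

theorem isDiscreteValuationRing_stalk
    (z : (X.fromSpecStalk (genericPoint X)).normalization)
    (hz : z ≠ genericPoint (X.fromSpecStalk (genericPoint X)).normalization) :
    IsDiscreteValuationRing ((X.fromSpecStalk (genericPoint X)).normalization.presheaf.stalk z) := by
  obtain ⟨U, hU, hyU⟩ :=
    exists_affine_mem' ((X.fromSpecStalk (genericPoint X)).fromNormalization z)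
  haveI : Nonempty U := ⟨⟨_, hyU⟩⟩
  have hW : IsAffineOpen ((X.fromSpecStalk (genericPoint X)).fromNormalization ⁻¹ᵁ U) :=
    hU.preimage _
  have hzW : z ∈ (X.fromSpecStalk (genericPoint X)).fromNormalization ⁻¹ᵁ U := hyU
  haveI hDed := (chart_facts X U hU hdim).1
  have hQ : (hW.primeIdealOf ⟨z, hzW⟩).asIdeal ≠ ⊥ := fun h =>
    hz (eq_genericPoint_of_primeIdealOf_eq_bot hW z hzW h)
  letI : Algebra Γ((X.fromSpecStalk (genericPoint X)).normalization,
      (X.fromSpecStalk (genericPoint X)).fromNormalization ⁻¹ᵁ U)
      ((X.fromSpecStalk (genericPoint X)).normalization.presheaf.stalk z) :=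
    (X.fromSpecStalk (genericPoint X)).normalization.presheaf.algebra_section_stalk ⟨z, hzW⟩
  haveI : IsLocalization.AtPrime
      ((X.fromSpecStalk (genericPoint X)).normalization.presheaf.stalk z)
      (hW.primeIdealOf ⟨z, hzW⟩).asIdeal := hW.isLocalization_stalk ⟨z, hzW⟩
  exact IsLocalization.AtPrime.isDiscreteValuationRing_of_dedekind_domain
    Γ((X.fromSpecStalk (genericPoint X)).normalization,
      (X.fromSpecStalk (genericPoint X)).fromNormalization ⁻¹ᵁ U) hQ _

theorem isDedekindDomain_affine
    (V : (X.fromSpecStalk (genericPoint X)).normalization.Opens) (hV : IsAffineOpen V)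
    (hne : (V : Set (X.fromSpecStalk (genericPoint X)).normalization).Nonempty) :
    IsDedekindDomain Γ((X.fromSpecStalk (genericPoint X)).normalization, V) := by
  haveI : Nonempty V := hne.to_subtype
  haveI hLN := isLocallyNoetherian_normalization X hdim
  haveI : IsNoetherianRing Γ((X.fromSpecStalk (genericPoint X)).normalization, V) :=
    IsLocallyNoetherian.component_noetherian ⟨V, hV⟩
  haveI : IsDedekindDomainDvr Γ((X.fromSpecStalk (genericPoint X)).normalization, V) :=
    { is_dvr_at_nonzero_prime := by
        intro q hq hqp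
        let P : Spec Γ((X.fromSpecStalk (genericPoint X)).normalization, V) := ⟨q, hqp⟩
        let z := hV.fromSpec P
        have hzV : z ∈ V := by
          have h0 : z ∈ Set.range hV.fromSpec := Set.mem_range_self P
          rw [hV.range_fromSpec] at h0
          exact h0
        have hP : hV.primeIdealOf ⟨z, hzV⟩ = P := by
          apply hV.fromSpec.isOpenEmbedding.injective
          rw [hV.fromSpec_primeIdealOf]
        have hzgen : z ≠ genericPoint (X.fromSpecStalk (genericPoint X)).normalization := by
          intro h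
          apply hq
          have h1 := primeIdealOf_genericPoint_eq_bot hV (h ▸ hzV)
          have h2 : hV.primeIdealOf ⟨z, hzV⟩ = hV.primeIdealOf
              ⟨genericPoint (X.fromSpecStalk (genericPoint X)).normalization, h ▸ hzV⟩ := by
            congr 1
            exact Subtype.ext h
          rw [← h2, hP] at h1
          exact h1
        haveI hdvr := isDiscreteValuationRing_stalk X hdim z hzgen
        letI : Algebra Γ((X.fromSpecStalk (genericPoint X)).normalization, V)
            ((X.fromSpecStalk (genericPoint X)).normalization.presheaf.stalk z) :=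
          (X.fromSpecStalk (genericPoint X)).normalization.presheaf.algebra_section_stalk ⟨z, hzV⟩
        haveI h1 : IsLocalization.AtPrime
            ((X.fromSpecStalk (genericPoint X)).normalization.presheaf.stalk z)
            (hV.primeIdealOf ⟨z, hzV⟩).asIdeal := hV.isLocalization_stalk ⟨z, hzV⟩
        rw [hP] at h1
        haveI h2 : IsLocalization.AtPrime
            ((X.fromSpecStalk (genericPoint X)).normalization.presheaf.stalk z) q := h1
        let e : Localization.AtPrime q ≃ₐ[Γ((X.fromSpecStalk (genericPoint X)).normalization, V)]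
            (X.fromSpecStalk (genericPoint X)).normalization.presheaf.stalk z :=
          IsLocalization.algEquiv q.primeCompl _ _
        exact IsDiscreteValuationRing.RingEquivClass.isDiscreteValuationRing e.symm }
  infer_instance

end Groth.Agent.Lib.NormDimOne96
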