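import Mathlib
import Groth.Agent.Lib.NormDimOneC96

/-!
# helper96: normalization of a one-dimensional locally Noetherian integral scheme:
finite residue field extensions
-/

set_option autoImplicit false
set_option linter.style.haveILetI false
set_option linter.unusedSectionVars false
universe u

namespace Groth.Agent.Lib.NormDimOne96

open AlgebraicGeometry CategoryTheory Opposite Groth.Agent.Lib.NormBranches96

/-- Every element of the residue field at a point of an affine open is a quotient of values of
sections. -/
theorem exists_evaluation_div {Y' : Scheme.{u}} {V : Y'.Opens} (hV : IsAffineOpen V) (z : Y')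
    (hzV : z ∈ V) (e : Y'.residueField z) :
    ∃ a t : Γ(Y', V), (Y'.evaluation V z hzV).hom t ≠ 0 ∧
      e = (Y'.evaluation V z hzV).hom a * ((Y'.evaluation V z hzV).hom t)⁻¹ := by
  obtain ⟨s, rfl⟩ : ∃ s, (Y'.residue z).hom s = e := IsLocalRing.residue_surjective e
  letI : Algebra Γ(Y', V) (Y'.presheaf.stalk z) := Y'.presheaf.algebra_section_stalk ⟨z, hzV⟩
  haveI : IsLocalization.AtPrime (Y'.presheaf.stalk z) (hV.primeIdealOf ⟨z, hzV⟩).asIdeal :=
    hV.isLocalization_stalk ⟨z, hzV⟩
  obtain ⟨a, b, rfl⟩ := IsLocalization.exists_mk'_eq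
    (hV.primeIdealOf ⟨z, hzV⟩).asIdeal.primeCompl s
  have hspec := IsLocalization.mk'_spec (Y'.presheaf.stalk z) a b
  have hevb : (Y'.residue z).hom (algebraMap Γ(Y', V) (Y'.presheaf.stalk z) b.1) =
      (Y'.evaluation V z hzV).hom b.1 := rfl
  have heva : (Y'.residue z).hom (algebraMap Γ(Y', V) (Y'.presheaf.stalk z) a) =
      (Y'.evaluation V z hzV).hom a := rfl
  have hmul := congrArg (Y'.residue z).hom hspec
  rw [map_mul, hevb, heva] at hmul
  have hbne : (Y'.evaluation V z hzV).hom b.1 ≠ 0 := by
    rw [← hevb]
    intro h0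
    have hu : IsUnit (algebraMap Γ(Y', V) (Y'.presheaf.stalk z) b.1) :=
      IsLocalization.map_units _ b
    have h1 : algebraMap Γ(Y', V) (Y'.presheaf.stalk z) b.1 ∈
        IsLocalRing.maximalIdeal (Y'.presheaf.stalk z) :=
      (IsLocalRing.residue_eq_zero_iff _).1 h0
    exact (IsLocalRing.mem_maximalIdeal _).1 h1 hu
  refine ⟨a, b.1, hbne, ?_⟩
  rw [← hmul, mul_assoc, mul_inv_cancel₀ hbne, mul_one]

variable (X : Scheme.{u}) [IsIntegral X]
  [QuasiCompact (X.fromSpecStalk (genericPoint X))]
  [QuasiSeparated (X.fromSpecStalk (genericPoint X))]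
  [IsLocallyNoetherian X] (hdim : topologicalKrullDim X = 1)

include hdim

theorem finite_residueField (z : (X.fromSpecStalk (genericPoint X)).normalization) :
    letI := ((X.fromSpecStalk (genericPoint X)).fromNormalization.residueFieldMap z).hom.toAlgebra
    Module.Finite (X.residueField ((X.fromSpecStalk (genericPoint X)).fromNormalization z))
      ((X.fromSpecStalk (genericPoint X)).normalization.residueField z) := by
  letI algρ := ((X.fromSpecStalk (genericPoint X)).fromNormalization.residueFieldMap z).hom.toAlgebra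
  obtain ⟨U, hU, hyU⟩ :=
    exists_affine_mem' ((X.fromSpecStalk (genericPoint X)).fromNormalization z)
  haveI : Nonempty U := ⟨⟨_, hyU⟩⟩
  have hW : IsAffineOpen ((X.fromSpecStalk (genericPoint X)).fromNormalization ⁻¹ᵁ U) :=
    hU.preimage _
  have hzW : z ∈ (X.fromSpecStalk (genericPoint X)).fromNormalization ⁻¹ᵁ U := hyU
  obtain ⟨-, -, hc, hd⟩ := chart_facts X U hU hdim
  set evz := ((X.fromSpecStalk (genericPoint X)).normalization.evaluation
    ((X.fromSpecStalk (genericPoint X)).fromNormalization ⁻¹ᵁ U) z hzW).hom with hevz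
  set evy := (X.evaluation U ((X.fromSpecStalk (genericPoint X)).fromNormalization z) hyU).hom
    with hevy
  set ρ := ((X.fromSpecStalk (genericPoint X)).fromNormalization.residueFieldMap z).hom with hρ
  set φ := ((X.fromSpecStalk (genericPoint X)).fromNormalization.app U).hom with hφ
  have hnat : ∀ b, ρ (evy b) = evz (φ b) := fun b =>
    Scheme.evaluation_naturality_apply (X.fromSpecStalk (genericPoint X)).fromNormalization z hyU b
  have hdiv := exists_evaluation_div hW z hzW
  by_cases hcase : ∃ x : Γ(X, U), x ≠ 0 ∧ evy x = 0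
  · -- closed point case
    obtain ⟨x, hx0, hxev⟩ := hcase
    have hxQ : φ x ∈ RingHom.ker evz := by
      rw [RingHom.mem_ker, ← hnat, hxev, map_zero]
    obtain ⟨hfinQ, hmaxQ⟩ := hc x hx0 (RingHom.ker evz) hxQ
    have hmax : (RingHom.ker evz).IsMaximal := hmaxQ (RingHom.ker_isPrime evz)
    have hsurj : Function.Surjective evz := by
      intro e
      obtain ⟨a, t, ht, rfl⟩ := hdiv e
      have htQ : t ∉ RingHom.ker evz := fun h => ht ((RingHom.mem_ker).mp h)
      obtain ⟨t', i, hi, hti⟩ := hmax.exists_inv htQ
      have h1 : evz t' * evz t = 1 := by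
        have := congrArg evz hti
        rw [map_add, map_mul, (RingHom.mem_ker).mp hi, add_zero, map_one] at this
        exact this
      refine ⟨a * t', ?_⟩
      rw [map_mul]
      congr 1
      exact (eq_inv_of_mul_eq_one_left h1)
    letI algBC : Algebra Γ(X, U) Γ((X.fromSpecStalk (genericPoint X)).normalization,
        (X.fromSpecStalk (genericPoint X)).fromNormalization ⁻¹ᵁ U) := φ.toAlgebra
    letI algBz : Algebra Γ(X, U)
        ((X.fromSpecStalk (genericPoint X)).normalization.residueField z) :=
      (evz.comp φ).toAlgebra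
    letI algBy : Algebra Γ(X, U)
        (X.residueField ((X.fromSpecStalk (genericPoint X)).fromNormalization z)) :=
      evy.toAlgebra
    haveI : IsScalarTower Γ(X, U)
        (X.residueField ((X.fromSpecStalk (genericPoint X)).fromNormalization z))
        ((X.fromSpecStalk (genericPoint X)).normalization.residueField z) :=
      IsScalarTower.of_algebraMap_eq fun b => (hnat b).symm
    let evzA : Γ((X.fromSpecStalk (genericPoint X)).normalization,
        (X.fromSpecStalk (genericPoint X)).fromNormalization ⁻¹ᵁ U) →ₐ[Γ(X, U)]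
        ((X.fromSpecStalk (genericPoint X)).normalization.residueField z) :=
      { evz with commutes' := fun b => rfl }
    have hfinB : Module.Finite Γ(X, U)
        ((X.fromSpecStalk (genericPoint X)).normalization.residueField z) := by
      haveI := hfinQ
      refine Module.Finite.of_surjective
        (Ideal.Quotient.liftₐ (RingHom.ker evz) evzA (fun a ha => ha)).toLinearMap ?_
      intro e
      obtain ⟨c, rfl⟩ := hsurj e
      exact ⟨Ideal.Quotient.mk _ c, rfl⟩
    exact Module.Finite.of_restrictScalars_finite Γ(X, U) _ _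
  · -- generic point case
    push Not at hcase
    have hrange : ∀ c, ∃ α, ρ α = evz c := by
      intro c
      obtain ⟨s, b, hs, hsb⟩ := hd c
      have h1 : ρ (evy s) * evz c = ρ (evy b) := by
        rw [hnat, hnat, ← map_mul, hsb]
      have hs' : evy s ≠ 0 := hcase s hs
      refine ⟨evy b * (evy s)⁻¹, ?_⟩
      rw [map_mul, map_inv₀, ← h1]
      have hρs : ρ (evy s) ≠ 0 := (map_ne_zero_iff ρ ρ.injective).mpr hs'
      field_simp
    have hsurj : Function.Surjective ρ := by
      intro e
      obtain ⟨a, t, ht, rfl⟩ := hdiv e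
      obtain ⟨α, hα⟩ := hrange a
      obtain ⟨τ, hτ⟩ := hrange t
      exact ⟨α * τ⁻¹, by rw [map_mul, map_inv₀, hα, hτ]⟩
    exact Module.Finite.of_surjective (Algebra.linearMap _ _) hsurj

end Groth.Agent.Lib.NormDimOne96
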