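import Groth.Agent.Lib.NagataNormFin96B
import Groth.Agent.Lib.NormDimOneD96
import Mathlib.AlgebraicGeometry.Normalization
import Mathlib.AlgebraicGeometry.Morphisms.Finite
import Mathlib.AlgebraicGeometry.ResidueField
import Mathlib.Topology.LocallyFinite

/-!
# Finiteness of relative normalization over Nagata bases (Stacks 03GR)
-/

set_option autoImplicit false
set_option linter.style.haveILetI false
universe u

open CategoryTheory CategoryTheory.Limits AlgebraicGeometry TopologicalSpace

namespace Groth.Agent.Lib.NagataNormFin96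

/-- `f.fromNormalization` is finite as soon as the integral closures on affine opens are finite
modules. -/
theorem isFinite_fromNormalization_of_forall {X S : Scheme.{u}} (f : X ⟶ S) [QuasiCompact f]
    [QuasiSeparated f]
    (h : ∀ (U : S.Opens) (_ : IsAffineOpen U),
      letI := (f.app U).hom.toAlgebra
      Module.Finite Γ(S, U) (integralClosure Γ(S, U) Γ(X, f ⁻¹ᵁ U))) :
    IsFinite f.fromNormalization := by
  rw [isFinite_iff]
  refine ⟨inferInstance, fun U hU => ?_⟩
  let _ := (f.app U).hom.toAlgebra
  rw [f.fromNormalization_app hU]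
  refine RingHom.Finite.comp (RingHom.Finite.of_surjective _ ?_) ?_
  · exact (ConcreteCategory.bijective_of_isIso (f.normalizationObjIso hU).inv).2
  · exact h U hU

/-- The generic points of irreducible components of `X` lying in an open `V`. -/
def genPts (X : Scheme.{u}) (V : X.Opens) : Set X :=
  {η | η ∈ V ∧ closure {η} ∈ irreducibleComponents X}

theorem finite_genPts {X : Scheme.{u}}
    (hfin : LocallyFinite (fun Z : ↥(irreducibleComponents ↥X) => (Z : Set ↥X)))
    (V : X.Opens) (hV : IsCompact (V : Set X)) : (genPts X V).Finite := by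
  have h1 := hfin.finite_nonempty_inter_compact hV
  have : Finite {Z : ↥(irreducibleComponents ↥X) | ((Z : Set X) ∩ V).Nonempty} := h1
  rw [← Set.finite_coe_iff]
  let g : genPts X V → {Z : ↥(irreducibleComponents ↥X) | ((Z : Set X) ∩ V).Nonempty} :=
    fun η => ⟨⟨closure {η.1}, η.2.2⟩, ⟨η.1, subset_closure rfl, η.2.1⟩⟩
  refine Finite.of_injective g ?_
  intro a b hab
  have h2 : closure {a.1} = closure {b.1} := congrArg (fun Z => (Z.1.1 : Set X)) hab
  exact Subtype.ext (inseparable_iff_closure_eq.mpr h2).eq

/-- On a reduced scheme, a section vanishing at all generic points of irreducible components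
is zero. -/
theorem eq_zero_of_forall_genPts {X : Scheme.{u}} [IsReduced X] (V : X.Opens) (s : Γ(X, V))
    (hs : ∀ η (hη : η ∈ genPts X V), X.evaluation V η hη.1 s = 0) : s = 0 := by
  rw [← basicOpen_eq_bot_iff]
  by_contra hne
  obtain ⟨x, hx⟩ : ∃ x, x ∈ X.basicOpen s := by
    by_contra hcon
    apply hne
    ext y
    simp only [Opens.coe_bot, Set.mem_empty_iff_false, iff_false]
    exact fun hy => hcon ⟨y, hy⟩
  have hZ : irreducibleComponent x ∈ irreducibleComponents X :=
    irreducibleComponent_mem_irreducibleComponents x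
  have hZirr : IsIrreducible (irreducibleComponent x) := hZ.1
  have hZcl : IsClosed (irreducibleComponent x) := isClosed_of_mem_irreducibleComponents _ hZ
  have hgen := hZirr.isGenericPoint_genericPoint_closure
  rw [hZcl.closure_eq] at hgen
  have hmem : hZirr.genericPoint ∈ X.basicOpen s :=
    (hgen.mem_open_set_iff (X.basicOpen s).isOpen).mpr ⟨x, mem_irreducibleComponent, hx⟩
  have hV : hZirr.genericPoint ∈ V := X.basicOpen_le s hmem
  have hη : hZirr.genericPoint ∈ genPts X V := by
    refine ⟨hV, ?_⟩
    rw [hgen.def]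
    exact hZ
  have := hs _ hη
  rw [Scheme.evaluation_eq_zero_iff_notMem_basicOpen] at this
  exact this hmem

/-- Stacks 03GR, affine-local form. -/
theorem finite_integralClosure_app {X S : Scheme.{u}} (f : X ⟶ S) [QuasiCompact f] [IsReduced X]
    (hfin : LocallyFinite (fun Z : ↥(irreducibleComponents ↥X) => (Z : Set ↥X)))
    (hres : ∀ x : X, closure {x} ∈ irreducibleComponents ↥X →
      (f.residueFieldMap x).hom.EssFiniteType)
    (U : S.Opens) (hU : IsAffineOpen U) (hN : CAlg.IsNagata Γ(S, U)) :
    letI := (f.app U).hom.toAlgebra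
    Module.Finite Γ(S, U) (integralClosure Γ(S, U) Γ(X, f ⁻¹ᵁ U)) := by
  letI algA := (f.app U).hom.toAlgebra
  have hfinG : (genPts X (f ⁻¹ᵁ U)).Finite :=
    finite_genPts hfin _ (f.isCompact_preimage hU.isCompact)
  haveI : Finite (genPts X (f ⁻¹ᵁ U)) := hfinG
  haveI : IsNoetherianRing Γ(S, U) := hN.1
  letI algK : ∀ i : genPts X (f ⁻¹ᵁ U), Algebra Γ(S, U) (X.residueField i.1) :=
    fun i => ((f.app U ≫ X.evaluation (f ⁻¹ᵁ U) i.1 i.2.1).hom).toAlgebra
  let φ : Γ(X, f ⁻¹ᵁ U) →ₐ[Γ(S, U)] (∀ i : genPts X (f ⁻¹ᵁ U), X.residueField i.1) :=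
    AlgHom.pi (fun i =>
      { toRingHom := (X.evaluation (f ⁻¹ᵁ U) i.1 i.2.1).hom, commutes' := fun r => rfl })
  have hφ : Function.Injective φ := by
    rw [injective_iff_map_eq_zero]
    intro s hs
    apply eq_zero_of_forall_genPts
    intro η hη
    exact congrFun hs ⟨η, hη⟩
  refine finite_integralClosure_of_injective_pi
    (fun i : genPts X (f ⁻¹ᵁ U) => X.residueField i.1) φ hφ (fun i => ?_)
  letI algF : Algebra Γ(S, U) (S.residueField (f i.1)) :=
    (S.evaluation U (f i.1) i.2.1).hom.toAlgebra
  letI algFK : Algebra (S.residueField (f i.1)) (X.residueField i.1) :=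
    (f.residueFieldMap i.1).hom.toAlgebra
  haveI : IsScalarTower Γ(S, U) (S.residueField (f i.1)) (X.residueField i.1) :=
    .of_algebraMap_eq (fun r => (Scheme.evaluation_naturality_apply f i.1 i.2.1 r).symm)
  haveI : Algebra.EssFiniteType (S.residueField (f i.1)) (X.residueField i.1) := hres i.1 i.2.2
  exact finite_integralClosure_field hN (S.residueField (f i.1)) (X.residueField i.1) (fun e => by
    obtain ⟨a, t, ht, he⟩ := NormDimOne96.exists_evaluation_div hU (f i.1) i.2.1 e
    refine ⟨a, t, ht, ?_⟩
    rw [he]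
    exact inv_mul_cancel_right₀ ht _)

/-- Stacks 03GR. -/
theorem isFinite_fromNormalization_of_nagata {X S : Scheme.{u}} (f : X ⟶ S)
    [QuasiCompact f] [QuasiSeparated f] [IsReduced X]
    (hS : ∀ U : S.affineOpens, CAlg.IsNagata Γ(S, U))
    (hfin : LocallyFinite (fun Z : ↥(irreducibleComponents ↥X) => (Z : Set ↥X)))
    (hres : ∀ x : X, closure {x} ∈ irreducibleComponents ↥X →
      (f.residueFieldMap x).hom.EssFiniteType) :
    IsFinite f.fromNormalization :=
  isFinite_fromNormalization_of_forall f fun U hU =>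
    finite_integralClosure_app f hfin hres U hU (hS ⟨U, hU⟩)

end Groth.Agent.Lib.NagataNormFin96
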