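import Mathlib.AlgebraicGeometry.Morphisms.Proper
import Mathlib.CategoryTheory.Limits.Shapes.WidePullbacks
import Mathlib.CategoryTheory.Limits.Shapes.Pullback.IsPullback.Basic

/-!
# Finite wide pullbacks as iterated pullbacks (helper68)

The wide pullback of a family indexed by `Fin (m + 1)` is the pullback of the wide pullback of the
first `m` members with the last one.  Consequently the structure morphism of a finite wide pullback
of proper morphisms of schemes is proper.
-/

set_option autoImplicit false
universe v u
open CategoryTheory CategoryTheory.Limits AlgebraicGeometry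

namespace Groth.Agent.Lib.WidePbFin68

section general

variable {C : Type u} [Category.{v} C] {S : C} {m : ℕ} (X : Fin (m + 1) → C) (g : ∀ i, X i ⟶ S)
  [HasWidePullback S X g]
  [HasWidePullback S (fun i : Fin m => X i.castSucc) (fun i => g i.castSucc)]

/-- Forgetting the last factor. -/
noncomputable def trunc :
    widePullback S X g ⟶ widePullback S (fun i : Fin m => X i.castSucc) (fun i => g i.castSucc) :=
  WidePullback.lift (WidePullback.base g) (fun i => WidePullback.π g i.castSucc)
    (by intro i; simp)

@[reassoc (attr := simp)]
theorem trunc_π (i : Fin m) :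
    trunc X g ≫ WidePullback.π (fun i : Fin m => g i.castSucc) i = WidePullback.π g i.castSucc := by
  simp [trunc, WidePullback.lift_π]

@[reassoc (attr := simp)]
theorem trunc_base :
    trunc X g ≫ WidePullback.base (fun i : Fin m => g i.castSucc) = WidePullback.base g := by
  simp [trunc, WidePullback.lift_base]

/-- The lift used in the pullback property. -/
noncomputable def pbLift {Z : C}
    (a : Z ⟶ widePullback S (fun i : Fin m => X i.castSucc) (fun i => g i.castSucc))
    (b : Z ⟶ X (Fin.last m))
    (h : a ≫ WidePullback.base (fun i : Fin m => g i.castSucc) = b ≫ g (Fin.last m)) :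
    Z ⟶ widePullback S X g :=
  WidePullback.lift (a ≫ WidePullback.base (fun i : Fin m => g i.castSucc))
    (fun i => Fin.lastCases (motive := fun i => Z ⟶ X i) b
      (fun j => a ≫ WidePullback.π (fun i : Fin m => g i.castSucc) j) i) (by
      intro i
      induction i using Fin.lastCases with
      | last => simp [h]
      | cast j => simp)

theorem pbLift_trunc {Z : C}
    (a : Z ⟶ widePullback S (fun i : Fin m => X i.castSucc) (fun i => g i.castSucc))
    (b : Z ⟶ X (Fin.last m))
    (h : a ≫ WidePullback.base (fun i : Fin m => g i.castSucc) = b ≫ g (Fin.last m)) :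
    pbLift X g a b h ≫ trunc X g = a := by
  apply WidePullback.hom_ext
  · intro j
    simp [pbLift, WidePullback.lift_π]
  · simp [pbLift, WidePullback.lift_base]

theorem pbLift_last {Z : C}
    (a : Z ⟶ widePullback S (fun i : Fin m => X i.castSucc) (fun i => g i.castSucc))
    (b : Z ⟶ X (Fin.last m))
    (h : a ≫ WidePullback.base (fun i : Fin m => g i.castSucc) = b ≫ g (Fin.last m)) :
    pbLift X g a b h ≫ WidePullback.π g (Fin.last m) = b := by
  simp [pbLift, WidePullback.lift_π]

theorem hom_ext_succ {Z : C} {k k' : Z ⟶ widePullback S X g}
    (h1 : k ≫ trunc X g = k' ≫ trunc X g)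
    (h2 : k ≫ WidePullback.π g (Fin.last m) = k' ≫ WidePullback.π g (Fin.last m)) : k = k' := by
  apply WidePullback.hom_ext
  · intro i
    induction i using Fin.lastCases with
    | last => exact h2
    | cast j =>
      have := congrArg (fun k => k ≫ WidePullback.π (fun i : Fin m => g i.castSucc) j) h1
      simpa using this
  · have := congrArg (fun k => k ≫ WidePullback.base (fun i : Fin m => g i.castSucc)) h1
    simpa using this

/-- The wide pullback over `Fin (m + 1)` is the pullback of the wide pullback over `Fin m` with the
last member. -/
theorem isPullback_trunc :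
    IsPullback (trunc X g) (WidePullback.π g (Fin.last m))
      (WidePullback.base (fun i : Fin m => g i.castSucc)) (g (Fin.last m)) where
  w := by simp
  isLimit' := ⟨PullbackCone.IsLimit.mk _ (fun s => pbLift X g s.fst s.snd s.condition)
    (fun s => pbLift_trunc X g _ _ _) (fun s => pbLift_last X g _ _ _)
    (fun s k h1 h2 => hom_ext_succ X g (by rw [h1, pbLift_trunc]) (by rw [h2, pbLift_last]))⟩

end general

/-- The structure morphism of an empty wide pullback is an isomorphism. -/
theorem isIso_base_zero {C : Type u} [Category.{v} C] {S : C} (X : Fin 0 → C) (g : ∀ i, X i ⟶ S)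
    [HasWidePullback S X g] : IsIso (WidePullback.base g) := by
  refine ⟨WidePullback.lift (𝟙 S) (fun i => i.elim0) (fun i => i.elim0), ?_,
    by simp [WidePullback.lift_base]⟩
  apply WidePullback.hom_ext
  · intro i
    exact i.elim0
  · simp [WidePullback.lift_base]

/-- The structure morphism of a finite wide pullback of proper morphisms is proper. -/
theorem isProper_base : ∀ (m : ℕ) {S : Scheme.{u}} (X : Fin m → Scheme.{u}) (g : ∀ i, X i ⟶ S)
    [∀ i, IsProper (g i)], IsProper (WidePullback.base g) := by
  intro m
  induction m with
  | zero =>
    intro S X g _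
    have := isIso_base_zero X g
    infer_instance
  | succ m ih =>
    intro S X g _
    have h1 : IsProper (WidePullback.base (fun i : Fin m => g i.castSucc)) :=
      ih (fun i : Fin m => X i.castSucc) (fun i => g i.castSucc)
    have hpb := isPullback_trunc X g
    have h2 : IsProper (trunc X g) :=
      MorphismProperty.of_isPullback (P := @IsProper) hpb.flip inferInstance
    rw [← trunc_base X g]
    infer_instance

end Groth.Agent.Lib.WidePbFin68
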