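import Groth.Agent.Lib.BlowUpSeparate68
import Groth.Agent.Lib.WidePbFin68
import Groth.Agent.Lib.BlowUpUniv
import Groth.Agent.Lib.IdealSheafComap
import Groth.Agent.Lib.IdealComap

/-!
# Separating closures in products of compactifications by admissible blowing ups (helper68)

Ingredients for the statement: if `⋂ π_i⁻¹(Y_i)` misses the closure of `U` in `∏ X̄_i`, then after
`X_i`-admissible blowing ups of the `X̄_i` the closures `Ȳ_i'` satisfy `⋂ π_i'⁻¹(Ȳ_i')` misses the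
closure of `U`.
-/

set_option autoImplicit false
universe u
open CategoryTheory CategoryTheory.Limits AlgebraicGeometry TopologicalSpace

namespace Groth.Agent.Lib.NagataSep68

open Groth.Agent.Lib.BlowUpSeparate68

/-- **Lemma B.** Let `qi : Xi ⟶ X`, `qj : Xj ⟶ X` with `qj` proper, `oi : Xi ⟶ Xbi` an open
immersion, `oj : Xj ⟶ Xbj`, with `Xbj` separated over `S`.  If `U` maps compatibly to `Xi` and `Xj`,
a point of the closure of `U` in `Xbi ×_S Xbj` whose first coordinate lies in `Xi` has second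
coordinate in `Xj`. -/
theorem snd_mem_range_of_mem_closure {S X U Xi Xj Xbi Xbj : Scheme.{u}} (gX : X ⟶ S)
    (gbi : Xbi ⟶ S) (gbj : Xbj ⟶ S) [IsSeparated gbj]
    (oi : Xi ⟶ Xbi) [IsOpenImmersion oi] (oj : Xj ⟶ Xbj)
    (qi : Xi ⟶ X) (qj : Xj ⟶ X) [IsProper qj]
    (hqi : qi ≫ gX = oi ≫ gbi) (hqj : qj ≫ gX = oj ≫ gbj)
    (vi : U ⟶ Xi) (vj : U ⟶ Xj) (hv : vi ≫ qi = vj ≫ qj)
    (L₂ : U ⟶ pullback gbi gbj) (hL₂fst : L₂ ≫ pullback.fst gbi gbj = vi ≫ oi)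
    (hL₂snd : L₂ ≫ pullback.snd gbi gbj = vj ≫ oj)
    (z₂ : ↥(pullback gbi gbj)) (hz₂ : z₂ ∈ closure (Set.range L₂))
    (hfst : pullback.fst gbi gbj z₂ ∈ Set.range oi) :
    pullback.snd gbi gbj z₂ ∈ Set.range oj := by
  -- the fibre product `Xi ×_X Xj` and its map to `Xbi ×_S Xbj`
  have hcond : (pullback.fst qi qj ≫ oi) ≫ gbi = (pullback.snd qi qj ≫ oj) ≫ gbj := by
    rw [Category.assoc, ← hqi, Category.assoc, ← hqj, ← Category.assoc, pullback.condition,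
      Category.assoc]
  let h : pullback qi qj ⟶ pullback gbi gbj :=
    pullback.lift (pullback.fst qi qj ≫ oi) (pullback.snd qi qj ≫ oj) hcond
  -- the open subscheme `fst⁻¹(Xi)`
  let ι : pullback (pullback.fst gbi gbj) oi ⟶ pullback gbi gbj :=
    pullback.fst (pullback.fst gbi gbj) oi
  let h' : pullback qi qj ⟶ pullback (pullback.fst gbi gbj) oi :=
    pullback.lift h (pullback.fst qi qj) (pullback.lift_fst _ _ _)
  have hh'ι : h' ≫ ι = h := pullback.lift_fst _ _ _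
  have hh'snd : h' ≫ pullback.snd (pullback.fst gbi gbj) oi = pullback.fst qi qj :=
    pullback.lift_snd _ _ _
  have hprop : IsProper (h' ≫ pullback.snd (pullback.fst gbi gbj) oi) := by
    rw [hh'snd]; infer_instance
  have hh' : IsProper h' := IsProper.of_comp h' (pullback.snd (pullback.fst gbi gbj) oi)
  have hclosed : IsClosed (Set.range h') := h'.isClosedMap.isClosed_range
  let u' : U ⟶ pullback qi qj := pullback.lift vi vj hv
  have hu'h : u' ≫ h = L₂ := by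
    apply pullback.hom_ext
    · rw [Category.assoc, pullback.lift_fst, ← Category.assoc, pullback.lift_fst, hL₂fst]
    · rw [Category.assoc, pullback.lift_snd, ← Category.assoc, pullback.lift_snd, hL₂snd]
  have hL₂' : (u' ≫ h') ≫ ι = L₂ := by rw [Category.assoc, hh'ι, hu'h]
  -- `z₂` lies in the open subscheme
  have hz₂ι : z₂ ∈ Set.range ι := by
    rw [IsOpenImmersion.range_pullbackFst]
    exact hfst
  obtain ⟨z₂', rfl⟩ := hz₂ι
  have hz₂' : z₂' ∈ closure (Set.range (u' ≫ h')) := by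
    rw [ι.isOpenEmbedding.isInducing.closure_eq_preimage_closure_image]
    have : (ι : _ → _) '' Set.range (u' ≫ h') = Set.range L₂ := by
      rw [← Set.range_comp, ← hL₂']
      rfl
    rw [this]
    exact hz₂
  have hz₂'' : z₂' ∈ Set.range h' := by
    apply hclosed.closure_subset_iff.2 _ hz₂'
    rintro _ ⟨x, rfl⟩
    exact ⟨u' x, rfl⟩
  obtain ⟨w, rfl⟩ := hz₂''
  refine ⟨pullback.snd qi qj w, ?_⟩
  rw [← Scheme.Hom.comp_apply, ← Scheme.Hom.comp_apply, ← Scheme.Hom.comp_apply,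
    ← Category.assoc, hh'ι, pullback.lift_snd]

/-- **Lemma D.** Local structure of the blowing up of `𝓙 ⊔ 𝓩 ^ (n + 1)` along the closure of the
preimage of a set `Yset ⊆ V(𝓙)` missing the centre: near such a point the exceptional ideal is
generated by (the pullback of) `𝓩 ^ (n + 1)`. -/
theorem exists_local_chart {X X' : Scheme.{u}} (c : X' ⟶ X) (𝓙 𝓩 : X.IdealSheafData) (n : ℕ)
    (hc : BlowUp.IsEffCartierIdeal ((𝓙 ⊔ 𝓩 ^ (n + 1)).comap c))
    (O : Set X) (hO : Disjoint ((𝓙 ⊔ 𝓩 ^ (n + 1)).support : Set X) O)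
    (Yset : Set X) (hYO : Yset ⊆ O) (hYJ : Yset ⊆ (𝓙.support : Set X))
    (y' : X') (hy' : y' ∈ closure ((fun x => c x) ⁻¹' Yset)) :
    ∃ (W : X'.affineOpens) (t : Γ(X', W.1)), y' ∈ W.1 ∧
      ((𝓙 ⊔ 𝓩 ^ (n + 1)).comap c).ideal W = Ideal.span {t} ∧
      ((𝓩.comap c).ideal W) ^ (n + 1) = Ideal.span {t} ∧
      (𝓙.comap c).ideal W ≤ Ideal.span {t} := by
  obtain ⟨W₀, hyW₀, t₀, ht₀, hE₀⟩ := hc y'
  have hsplit : ((𝓙 ⊔ 𝓩 ^ (n + 1)).comap c) = 𝓙.comap c ⊔ (𝓩.comap c) ^ (n + 1) := by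
    rw [Scheme.IdealSheafData.comap_sup, Groth.Agent.Lib.IdealSheafComap.comap_pow]
  have hE₀' : (𝓙.comap c).ideal W₀ ⊔ ((𝓩.comap c).ideal W₀) ^ (n + 1) = Ideal.span {t₀} := by
    rw [← hE₀, hsplit, Scheme.IdealSheafData.ideal_sup, Pi.sup_apply,
      Scheme.IdealSheafData.ideal_pow, Pi.pow_apply]
  have hJle : (𝓙.comap c).ideal W₀ ≤ Ideal.span {t₀} := hE₀' ▸ le_sup_left
  have hZle : ((𝓩.comap c).ideal W₀) ^ (n + 1) ≤ Ideal.span {t₀} := hE₀' ▸ le_sup_right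
  have ht₀mem : t₀ ∈ (𝓙.comap c).ideal W₀ ⊔ ((𝓩.comap c).ideal W₀) ^ (n + 1) := by
    rw [hE₀']; exact Ideal.mem_span_singleton_self _
  obtain ⟨a, ha, b, hb, hab⟩ := Submodule.mem_sup.1 ht₀mem
  obtain ⟨α, hα⟩ := Ideal.mem_span_singleton'.1 (hJle ha)
  obtain ⟨β, hβ⟩ := Ideal.mem_span_singleton'.1 (hZle hb)
  have hαβ : α + β = 1 := by
    have h0 : (α + β - 1) * t₀ = 0 := by
      rw [sub_mul, add_mul, hα, hβ, hab, one_mul, sub_self]
    have h1 := (mem_nonZeroDivisors_iff_right.1 ht₀) _ h0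
    exact sub_eq_zero.1 h1
  by_cases hβP : β ∈ P W₀ y' hyW₀
  · exfalso
    have hαP : α ∉ P W₀ y' hyW₀ := by
      intro hαP
      have h1 : (1 : Γ(X', W₀.1)) ∈ P W₀ y' hyW₀ := hαβ ▸ Ideal.add_mem _ hαP hβP
      exact (W₀.2.primeIdealOf ⟨y', hyW₀⟩).isPrime.ne_top ((Ideal.eq_top_iff_one _).2 h1)
    have hy'α : y' ∈ X'.basicOpen α := (mem_basicOpen_iff W₀ y' hyW₀ α).2 hαP
    obtain ⟨y'', hy''α, hy''Y⟩ := mem_closure_iff.1 hy' _ (X'.basicOpen α).2 hy'α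
    have hy''W : y'' ∈ W₀.1 := X'.basicOpen_le α hy''α
    have h1 : y'' ∈ (𝓙.comap c).support := by
      rw [Scheme.IdealSheafData.support_comap]
      exact hYJ hy''Y
    have h2 := ideal_le_P_of_mem_support (𝓙.comap c) W₀ y'' hy''W h1
    have h3 : α * t₀ ∈ P W₀ y'' hy''W := hα ▸ h2 ha
    rcases (W₀.2.primeIdealOf ⟨y'', hy''W⟩).isPrime.mem_or_mem h3 with h4 | h4
    · exact (mem_basicOpen_iff W₀ y'' hy''W α).1 hy''α h4
    · have h5 := mem_support_of_span_singleton _ W₀ t₀ hE₀ y'' hy''W h4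
      rw [Scheme.IdealSheafData.support_comap] at h5
      exact Set.disjoint_left.1 hO h5 (hYO hy''Y)
  · let ρ : Γ(X', W₀.1) →+* Γ(X', X'.basicOpen β) :=
      (X'.presheaf.map (homOfLE (X'.basicOpen_le β)).op).hom
    have hunit : IsUnit (ρ β) := RingedSpace.isUnit_res_basicOpen _ β
    have hspan : Ideal.map ρ (Ideal.span {t₀}) = Ideal.span {ρ t₀} := by
      rw [Ideal.map_span, Set.image_singleton]
    have F1 : Ideal.map ρ (((𝓙 ⊔ 𝓩 ^ (n + 1)).comap c).ideal W₀) = Ideal.span {ρ t₀} := by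
      rw [hE₀, hspan]
    have F2 : (Ideal.map ρ ((𝓩.comap c).ideal W₀)) ^ (n + 1) = Ideal.span {ρ t₀} := by
      rw [← Ideal.map_pow]
      apply le_antisymm
      · rw [← hspan]
        exact Ideal.map_mono hZle
      · rw [Ideal.span_singleton_le_iff_mem]
        have hmem := Ideal.mem_map_of_mem ρ hb
        rw [← hβ, map_mul] at hmem
        exact (Ideal.unit_mul_mem_iff_mem _ hunit).1 hmem
    have F3 : Ideal.map ρ ((𝓙.comap c).ideal W₀) ≤ Ideal.span {ρ t₀} := by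
      rw [← hspan]
      exact Ideal.map_mono hJle
    refine ⟨X'.affineBasicOpen β, ρ t₀, (mem_basicOpen_iff W₀ y' hyW₀ β).2 hβP, ?_, ?_, ?_⟩
    · rw [← Scheme.IdealSheafData.map_ideal_basicOpen _ W₀ β]
      exact F1
    · rw [← Scheme.IdealSheafData.map_ideal_basicOpen (𝓩.comap c) W₀ β]
      exact F2
    · rw [← Scheme.IdealSheafData.map_ideal_basicOpen (𝓙.comap c) W₀ β]
      exact F3

/-- **Nakayama step.** If every `τ j` lies in `𝔭 * (K ⊔ (τ))`, some `a ∉ 𝔭` multiplies all the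
`τ i` into `K`. -/
theorem exists_notMem_mul_mem {R : Type*} [CommRing R] {ι : Type*} [Finite ι] (K 𝔭 : Ideal R)
    [𝔭.IsPrime] (hK : K ≤ 𝔭) (τ : ι → R)
    (h : ∀ j, τ j ∈ 𝔭 * (K ⊔ Ideal.span (Set.range τ))) :
    ∃ a : R, a ∉ 𝔭 ∧ ∀ i, a * τ i ∈ K := by
  let mk := Ideal.Quotient.mk K
  let I : Ideal (R ⧸ K) := Ideal.span (Set.range (fun i => mk (τ i)))
  have hmap : Ideal.map mk (K ⊔ Ideal.span (Set.range τ)) = I := by
    rw [Ideal.map_sup, Ideal.map_quotient_self, bot_sup_eq, Ideal.map_span, ← Set.range_comp]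
    rfl
  have hle : I ≤ Ideal.map mk 𝔭 • I := by
    refine Ideal.span_le.2 ?_
    rintro _ ⟨j, rfl⟩
    have h1 := Ideal.mem_map_of_mem mk (h j)
    rw [Ideal.map_mul, hmap] at h1
    exact h1
  have hfg : (I : Submodule (R ⧸ K) (R ⧸ K)).FG := Submodule.fg_span (Set.finite_range _)
  obtain ⟨r, hr1, hr2⟩ :=
    Submodule.exists_sub_one_mem_and_smul_eq_zero_of_fg_of_le_smul (Ideal.map mk 𝔭) I hfg hle
  obtain ⟨a, rfl⟩ := Ideal.Quotient.mk_surjective r
  refine ⟨a, ?_, fun i => ?_⟩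
  · intro ha
    have h1 : mk (a - 1) ∈ Ideal.map mk 𝔭 := by
      rw [map_sub, map_one]; exact hr1
    have h2 : a - 1 ∈ 𝔭 := (Ideal.mem_quotient_iff_mem hK).1 h1
    have h3 : (1 : R) ∈ 𝔭 := by
      have := Ideal.sub_mem _ ha h2
      simpa using this
    exact (Ideal.IsPrime.ne_top ‹_›) ((Ideal.eq_top_iff_one _).2 h3)
  · have h1 := hr2 (mk (τ i)) (Ideal.subset_span ⟨i, rfl⟩)
    rw [smul_eq_mul, ← map_mul] at h1
    exact Ideal.Quotient.eq_zero_iff_mem.1 h1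

theorem mem_P_iff_appLE {X' Z' : Scheme.{u}} (g : Z' ⟶ X') (U' : X'.affineOpens)
    (N : Z'.affineOpens) (hle : N.1 ≤ g ⁻¹ᵁ U'.1) (z : Z') (hz : z ∈ N.1) (t : Γ(X', U'.1)) :
    t ∈ P U' (g z) (hle hz) ↔ (g.appLE U'.1 N.1 hle).hom t ∈ P N z hz := by
  have h := IsAffineOpen.comap_primeIdealOf_appLE (f := g) U'.1 U'.2 N.1 N.2 hle hz
  have h2 := congrArg PrimeSpectrum.asIdeal h
  simp only [PrimeSpectrum.comap_asIdeal] at h2
  change _ ↔ t ∈ Ideal.comap (g.appLE U'.1 N.1 hle).hom (P N z hz)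
  rw [h2]

/-- **Lemma E.** The local contradiction at a point `z'` of the closure of `U` in the product `P'`
of the blown up compactifications. -/
theorem false_of_local {P' U : Scheme.{u}} (L' : U ⟶ P') (z' : P')
    (hz' : z' ∈ closure (Set.range L')) {m : ℕ} (i₀ : Fin m) (Xb' : Fin m → Scheme.{u})
    (π' : ∀ i, P' ⟶ Xb' i) (𝓔c 𝓩c 𝓙c : ∀ i, (Xb' i).IdealSheafData) (n : ℕ)
    (h1 : ∀ i, ∃ (W : (Xb' i).affineOpens) (t : Γ(Xb' i, W.1)), π' i z' ∈ W.1 ∧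
      (𝓔c i).ideal W = Ideal.span {t} ∧ ((𝓩c i).ideal W) ^ (n + 1) = Ideal.span {t} ∧
      (𝓙c i).ideal W ≤ Ideal.span {t})
    (h2 : ∀ j, z' ∈ ((𝓩c j).comap (π' j)).support)
    (h3 : ∀ j, ((𝓩c j).comap (π' j)) ^ n ≤ L'.ker ⊔ ⨆ i, (𝓙c i).comap (π' i))
    (h4 : ∀ i u, π' i (L' u) ∉ (𝓔c i).support) : False := by
  classical
  choose W t hzW hE hZ hJ using h1
  -- a small affine neighbourhood of `z'`
  have hopen : IsOpen (⋂ i, (fun x => π' i x) ⁻¹' ((W i).1 : Set (Xb' i))) :=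
    isOpen_iInter_of_finite fun i => (W i).1.2.preimage (π' i).continuous
  have hzmem : z' ∈ ⋂ i, (fun x => π' i x) ⁻¹' ((W i).1 : Set (Xb' i)) :=
    Set.mem_iInter.2 fun i => hzW i
  obtain ⟨_, ⟨N, hN, rfl⟩, hzN, hNle⟩ :=
    P'.isBasis_affineOpens.exists_subset_of_mem_open hzmem hopen
  have hle : ∀ i, N ≤ π' i ⁻¹ᵁ (W i).1 := fun i x hx => Set.mem_iInter.1 (hNle hx) i
  let NA : P'.affineOpens := ⟨N, hN⟩
  let φ : ∀ i, Γ(Xb' i, (W i).1) →+* Γ(P', N) := fun i => ((π' i).appLE (W i).1 N (hle i)).hom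
  let τ : Fin m → Γ(P', N) := fun i => φ i (t i)
  let K : Ideal Γ(P', N) := L'.ker.ideal NA
  have hA : ∀ j, ((𝓩c j).comap (π' j)).ideal NA = Ideal.map (φ j) ((𝓩c j).ideal (W j)) :=
    fun j => Groth.Agent.Lib.IdealComap.ideal_comap (𝓩c j) (π' j) (W j).1 (W j).2 N hN (hle j)
  have hB : ∀ i, ((𝓙c i).comap (π' i)).ideal NA = Ideal.map (φ i) ((𝓙c i).ideal (W i)) :=
    fun i => Groth.Agent.Lib.IdealComap.ideal_comap (𝓙c i) (π' i) (W i).1 (W i).2 N hN (hle i)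
  have hspan : ∀ i, Ideal.map (φ i) (Ideal.span {t i}) = Ideal.span {τ i} := by
    intro i
    rw [Ideal.map_span, Set.image_singleton]
  have hApow : ∀ j, (((𝓩c j).comap (π' j)).ideal NA) ^ (n + 1) = Ideal.span {τ j} := by
    intro j
    rw [hA, ← Ideal.map_pow, hZ, hspan]
  have hBle : ∀ i, ((𝓙c i).comap (π' i)).ideal NA ≤ Ideal.span (Set.range τ) := by
    intro i
    rw [hB]
    calc _ ≤ Ideal.map (φ i) (Ideal.span {t i}) := Ideal.map_mono (hJ i)
      _ = Ideal.span {τ i} := hspan i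
      _ ≤ Ideal.span (Set.range τ) :=
        Ideal.span_mono (Set.singleton_subset_iff.2 (Set.mem_range_self i))
  have hAp : ∀ j, ((𝓩c j).comap (π' j)).ideal NA ≤ P NA z' hzN :=
    fun j => ideal_le_P_of_mem_support _ NA z' hzN (h2 j)
  have hAn : ∀ j, (((𝓩c j).comap (π' j)).ideal NA) ^ n ≤ K ⊔ Ideal.span (Set.range τ) := by
    intro j
    have h := h3 j NA
    rw [Scheme.IdealSheafData.ideal_pow, Pi.pow_apply, Scheme.IdealSheafData.ideal_sup,
      Pi.sup_apply, Scheme.IdealSheafData.ideal_iSup, iSup_apply] at h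
    refine h.trans (sup_le_sup_left (iSup_le hBle) _)
  have hτ : ∀ j, τ j ∈ P NA z' hzN * (K ⊔ Ideal.span (Set.range τ)) := by
    intro j
    have h : τ j ∈ (((𝓩c j).comap (π' j)).ideal NA) ^ (n + 1) := by
      rw [hApow]; exact Ideal.mem_span_singleton_self _
    rw [pow_succ'] at h
    exact Ideal.mul_mono (hAp j) (hAn j) h
  have hKle : K ≤ P NA z' hzN := by
    apply ideal_le_P_of_mem_support
    exact closure_minimal (Scheme.Hom.range_subset_ker_support L') L'.ker.support.isClosed hz'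
  have hprime : (P NA z' hzN).IsPrime := (NA.2.primeIdealOf ⟨z', hzN⟩).isPrime
  obtain ⟨a, haP, haτ⟩ := exists_notMem_mul_mem K (P NA z' hzN) hKle τ hτ
  have hz'a : z' ∈ P'.basicOpen a := (mem_basicOpen_iff NA z' hzN a).2 haP
  obtain ⟨_, hya, ⟨u, rfl⟩⟩ := mem_closure_iff.1 hz' _ (P'.basicOpen a).2 hz'a
  have hyN : L' u ∈ N := P'.basicOpen_le a hya
  -- `a * τ i₀` vanishes on `U`
  have hker : (L'.app N).hom (a * τ i₀) = 0 :=
    RingHom.mem_ker.1 (Scheme.Hom.ideal_ker_le L' NA (haτ i₀))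
  have hnot : L' u ∉ P'.basicOpen (a * τ i₀) := by
    intro hmem
    have : u ∈ L' ⁻¹ᵁ P'.basicOpen (a * τ i₀) := hmem
    rw [Scheme.preimage_basicOpen, hker, Scheme.basicOpen_zero] at this
    exact this
  have hτP : τ i₀ ∈ P NA (L' u) hyN := by
    by_contra hcon
    apply hnot
    rw [Scheme.basicOpen_mul]
    exact ⟨hya, (mem_basicOpen_iff NA (L' u) hyN (τ i₀)).2 hcon⟩
  have htP : t i₀ ∈ P (W i₀) (π' i₀ (L' u)) (hle i₀ hyN) :=
    (mem_P_iff_appLE (π' i₀) (W i₀) NA (hle i₀) (L' u) hyN (t i₀)).2 hτP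
  exact h4 i₀ u (mem_support_of_span_singleton (𝓔c i₀) (W i₀) (t i₀) (hE i₀) _ (hle i₀ hyN) htP)

end Groth.Agent.Lib.NagataSep68
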