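import Groth.Agent.Lib.KleimanD13
import Groth.Agent.Lib.SurfSec13

/-!
# Nef and big invertible modules, part 1 (helper13): big ⇒ positive top self-intersection
-/

set_option autoImplicit false
set_option linter.style.haveILetI false
universe u
open CategoryTheory CategoryTheory.Limits AlgebraicGeometry TopologicalSpace

namespace Groth.Agent.Lib.NefBigA13

open Groth.Agent.Lib Groth.Agent.Lib.IsoCls13 Groth.Agent.Lib.IntNumAlg13 CohB1 Groth.Agent.Lib.Kleiman13
  Groth.Agent.Lib.KleimanB13 Groth.Agent.Lib.KleimanC13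

variable (k : Type u) [Field k] {X : Scheme.{u}} [X.Over (Spec (CommRingCat.of k))]
  [IsProper (X ↘ Spec (CommRingCat.of k))]

/-- if an ample `A` maps nontrivially to `L^ν` (`ν > 0`) with `L` nef on an integral `X` of dimension `n`, then
`(A^n) ≤ ν^i (L^i · A^j)` for `i + j = n` -/
theorem lin_big_aux [IsIntegral X] (D : ℕ) (hD : topologicalKrullDim X ≤ D) {n : ℕ}
    (hdim : topologicalKrullDim X = (n : WithBot ℕ∞)) {L A : X.Modules} (hL : PicF.IsInvertible L)
    (hA : CohB1.IsAmple A) (hnef : NefCoh k D L) {ν : ℕ} (φ : A ⟶ CohB1.tensorPow L ν) (hφ : φ ≠ 0) :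
    ∀ i j : ℕ, i + j = n →
      lin k D ((br A - 1) ^ n * br (Coh.structureModule X)) ≤
        (ν : ℤ) ^ i * lin k D ((br L - 1) ^ i * (br A - 1) ^ j * br (Coh.structureModule X))
  | 0, j, hij => by
    obtain rfl : j = n := by omega
    rw [pow_zero, pow_zero, one_mul, one_mul]
  | i + 1, j, hij => by
    have ih := lin_big_aux D hD hdim hL hA hnef φ hφ i (j + 1) (by omega)
    haveI := EulerLE48.isLocallyNoetherian k X
    have hLν : PicF.IsInvertible (CohB1.tensorPow L ν) := H78TensorGen.isInvertible_tensorPow hL ν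
    haveI : Mono φ := InvMap54.mono_of_ne_zero hA.1 hLν φ hφ
    have hOcoh : Coh.IsCoh (Coh.structureModule X) := CohFinAmple.isCoh_structureModule X
    have hOdim : topologicalKrullDim (CohB1.support (Coh.structureModule X)) ≤ ((i + j + 1 : ℕ) : WithBot ℕ∞) := by
      rw [AmpleVol13.dim_support_structureModule, hdim]
      have : i + j + 1 = n := by omega
      rw [this]
    have hOS : br (Coh.structureModule X) ∈ Small X (i + j + 1) := br_mem_Small hOcoh hOdim
    have hw : IsProd (i + j) ((br L - 1 : R X) ^ i * (br A - 1) ^ j) :=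
      ((isProd_one hL).pow i).mul ((isProd_one hA.1).pow j)
    -- (1)
    have h1 := lin_mul_pow k D hD hw hL hOS ν
    -- (2)
    have hAcoh : Coh.IsCoh A := H90Invertible.isCoh_of_isInvertible hA.1
    have hLcoh : Coh.IsCoh (CohB1.tensorPow L ν) := H90Invertible.isCoh_of_isInvertible hLν
    haveI : A.IsQuasicoherent := hAcoh.1
    have hCcoh : Coh.IsCoh (cokernel φ) := H90OXModExact.isCoh_cokernel φ hLcoh
    have h2 := lin_add_of_shortExact k D hD hw _ (H90DevTwo.shortExact_cokernel φ) hAcoh hLcoh hCcoh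
    simp only at h2
    -- (3)
    have hCdim : topologicalKrullDim (CohB1.support (cokernel φ)) ≤ ((i + j : ℕ) : WithBot ℕ∞) := by
      have h := SurfSec13.dim_support_cokernel_add_one_le hA.1 hLν φ hφ
      rw [hdim] at h
      have h' := NMMain13.lt_of_add_one_le h
      have : n = i + j + 1 := by omega
      rw [this] at h'
      exact IntNumCalc13.le_of_lt_succ_withBot h'
    have h3 := kAll k (i + j) X D hD L A hL hA hnef i j rfl (cokernel φ) hCcoh hCdim
    rw [br_tensorPow] at h2
    simp only [br_structureModule, mul_one] at h1 ih ⊢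
    have e1 : (br L - 1 : R X) ^ i * (br A - 1) ^ j * (br L ^ ν - 1) =
        (br L - 1) ^ i * (br A - 1) ^ j * br L ^ ν - (br L - 1) ^ i * (br A - 1) ^ j := by ring
    have e2 : (br L - 1 : R X) ^ i * (br A - 1) ^ (j + 1) =
        (br L - 1) ^ i * (br A - 1) ^ j * br A - (br L - 1) ^ i * (br A - 1) ^ j := by ring
    have e3 : (br L - 1 : R X) ^ i * (br A - 1) ^ j * (br L - 1) = (br L - 1) ^ (i + 1) * (br A - 1) ^ j := by
      ring
    rw [e1, map_sub, h2, e3] at h1
    rw [e2, map_sub] at ih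
    have hν0 : (0 : ℤ) ≤ (ν : ℤ) ^ i := by positivity
    have h4 : lin k D ((br L - 1) ^ i * (br A - 1) ^ j * br A) - lin k D ((br L - 1) ^ i * (br A - 1) ^ j) ≤
        (ν : ℤ) * lin k D ((br L - 1) ^ (i + 1) * (br A - 1) ^ j) := by linarith
    calc lin k D ((br A - 1) ^ n) ≤ (ν : ℤ) ^ i * (lin k D ((br L - 1) ^ i * (br A - 1) ^ j * br A) -
          lin k D ((br L - 1) ^ i * (br A - 1) ^ j)) := ih
      _ ≤ (ν : ℤ) ^ i * ((ν : ℤ) * lin k D ((br L - 1) ^ (i + 1) * (br A - 1) ^ j)) :=
          mul_le_mul_of_nonneg_left h4 hν0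
      _ = (ν : ℤ) ^ (i + 1) * lin k D ((br L - 1) ^ (i + 1) * (br A - 1) ^ j) := by ring

/-- **big ⇒ positive self-intersection** for nef `L` -/
theorem lin_pos_of_big [IsIntegral X] (D : ℕ) (hD : topologicalKrullDim X ≤ D) {n : ℕ}
    (hdim : topologicalKrullDim X = (n : WithBot ℕ∞)) {L A : X.Modules} (hL : PicF.IsInvertible L)
    (hA : CohB1.IsAmple A) (hnef : NefCoh k D L) {ν : ℕ} (φ : A ⟶ CohB1.tensorPow L ν) (hφ : φ ≠ 0) :
    0 < lin k D ((br L - 1) ^ n * br (Coh.structureModule X)) := by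
  have h := lin_big_aux k D hD hdim hL hA hnef φ hφ n 0 (by omega)
  rw [pow_zero, mul_one] at h
  have hOcoh : Coh.IsCoh (Coh.structureModule X) := CohFinAmple.isCoh_structureModule X
  have hOdim : topologicalKrullDim (CohB1.support (Coh.structureModule X)) = (n : WithBot ℕ∞) := by
    rw [AmpleVol13.dim_support_structureModule, hdim]
  have hpos := lin_pos_of_isAmple k D hD hA hOcoh hOdim
  have h5 : 0 < (ν : ℤ) ^ n * lin k D ((br L - 1) ^ n * br (Coh.structureModule X)) := lt_of_lt_of_le hpos h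
  have hν0 : (0 : ℤ) ≤ (ν : ℤ) ^ n := by positivity
  by_contra hle
  push Not at hle
  have := mul_nonpos_of_nonneg_of_nonpos hν0 hle
  linarith

end Groth.Agent.Lib.NefBigA13
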