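import Groth.Agent.Lib.NefBigA13
import Groth.Agent.Lib.CohGrowthHH
import Groth.Agent.Lib.H78RegSec
import Groth.Agent.Lib.H78SerreVan

/-!
# Nef and big invertible modules, part 2 (helper13): a Siu-type criterion for sections

`X` integral proper over an infinite field, `P` ample, `A` ample and globally generated with inverse `A'`.  If
`(P^n) > 2n (P^{n-1} · A)` then some `P^m ⊗ A'^{2m}`, `m > 0`, has a nonzero section.
-/

set_option autoImplicit false
set_option linter.style.haveILetI false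
universe u
open CategoryTheory CategoryTheory.Limits AlgebraicGeometry TopologicalSpace

namespace Groth.Agent.Lib.NefBigB13

open Groth.Agent.Lib Groth.Agent.Lib.IsoCls13 Groth.Agent.Lib.IntNumAlg13 CohB1 Groth.Agent.Lib.Kleiman13
  Groth.Agent.Lib.KleimanB13 Groth.Agent.Lib.KleimanC13 Groth.Agent.Lib.CohGrowthHH
  Groth.Agent.Lib.OXModTensor Groth.Agent.Lib.TwistEquiv

section H0

variable (k : Type u) [Field k] {X : Scheme.{u}} [X.Over (Spec (CommRingCat.of k))]
  [IsProper (X ↘ Spec (CommRingCat.of k))]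

theorem hh_eq_of_cls_eq {M N : X.Modules} (h : cls M = cls N) (n : ℕ) : hh k X M n = hh k X N n :=
  hh_congr k (cls_eq_iff.1 h).some n

theorem isCoh_of_cls_eq {M N : X.Modules} (h : cls M = cls N) (hM : Coh.IsCoh M) : Coh.IsCoh N := by
  obtain ⟨e⟩ := cls_eq_iff.1 h
  exact Groth.Agent.Lib.CohFinAmple.isCoh_of_iso e hM

/-- `h^0` of the source of a monomorphism into a coherent module -/
theorem hh_zero_le_of_mono {F G : X.Modules} (f : F ⟶ G) [Mono f] (hF : Coh.IsCoh F) (hG : Coh.IsCoh G) :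
    hh k X F 0 ≤ hh k X G 0 :=
  hh_left_zero_le k (S := ShortComplex.mk f (cokernel.π f) (cokernel.condition f))
    (H90DevTwo.shortExact_cokernel f) hF hG

end H0

section Twist

variable (k : Type u) [Field k] {X : Scheme.{u}} [X.Over (Spec (CommRingCat.of k))]
  [IsProper (X ↘ Spec (CommRingCat.of k))]

omit [X.Over (Spec (CommRingCat.of k))] [IsProper (X ↘ Spec (CommRingCat.of k))] in
/-- tensoring with an invertible module preserves monomorphisms -/
theorem mono_tensorRight {R R' : X.Modules} (e : tensorMod R R' ≅ Coh.structureModule X) {F G : X.Modules}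
    (f : F ⟶ G) [Mono f] : Mono ((tensorRightFunctor R).map f) := by
  haveI := isEquivalence_tensorRightFunctor e
  infer_instance

omit [X.Over (Spec (CommRingCat.of k))] [IsProper (X ↘ Spec (CommRingCat.of k))] in
theorem exists_right_inverse {R : X.Modules} (hR : PicF.IsInvertible R) :
    ∃ R' : X.Modules, Nonempty (tensorMod R R' ≅ Coh.structureModule X) := by
  obtain ⟨R', -, ⟨e⟩⟩ := H78Dual.exists_tensor_inverse hR
  exact ⟨R', ⟨braiding _ _ ≪≫ e⟩⟩

/-- a `G`-regular section `τ` of `A` gives `h^0(G ⊗ A' ⊗ N) ≤ h^0(G ⊗ N)` -/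
theorem hh_sub_le {G A A' N : X.Modules} (hG : Coh.IsCoh G) (hA : PicF.IsInvertible A)
    (hA' : PicF.IsInvertible A') (hAA' : cls A * cls A' = 1) (hN : PicF.IsInvertible N)
    (τ : Coh.structureModule X ⟶ A) (hτ : Mono (tensorModMap (𝟙 G) τ)) {M₁ M₂ : X.Modules}
    (h₁ : cls M₁ = cls G * cls A' * cls N) (h₂ : cls M₂ = cls G * cls N) :
    hh k X M₁ 0 ≤ hh k X M₂ 0 := by
  have hR : PicF.IsInvertible (tensorMod A' N) := H78TensorGen.isInvertible_tensorMod hA' hN
  obtain ⟨R', ⟨e'⟩⟩ := exists_right_inverse hR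
  haveI := hτ
  haveI : Mono ((tensorRightFunctor (tensorMod A' N)).map (tensorModMap (𝟙 G) τ)) := mono_tensorRight e' _
  have hRc : Coh.IsCoh (tensorMod A' N) := H90Invertible.isCoh_of_isInvertible hR
  have hc1 : Coh.IsCoh (tensorMod (tensorMod G (Coh.structureModule X)) (tensorMod A' N)) :=
    CohFinAmple.isCoh_tensorMod (CohFinAmple.isCoh_tensorMod hG (CohFinAmple.isCoh_structureModule X)) hRc
  have hc2 : Coh.IsCoh (tensorMod (tensorMod G A) (tensorMod A' N)) :=
    CohFinAmple.isCoh_tensorMod (CohFinAmple.isCoh_tensorMod hG (H90Invertible.isCoh_of_isInvertible hA)) hRc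
  have h := hh_zero_le_of_mono k
    ((tensorRightFunctor (tensorMod A' N)).map (tensorModMap (𝟙 G) τ)) hc1 hc2
  have e1 : cls M₁ = cls (tensorMod (tensorMod G (Coh.structureModule X)) (tensorMod A' N)) := by
    rw [h₁, cls_tensorMod, cls_tensorMod, cls_tensorMod, cls_one, mul_one, mul_assoc]
  have e2 : cls M₂ = cls (tensorMod (tensorMod G A) (tensorMod A' N)) := by
    rw [h₂, cls_tensorMod, cls_tensorMod, cls_tensorMod, mul_assoc, ← mul_assoc (cls A), hAA', one_mul]
  rw [hh_eq_of_cls_eq k e1, hh_eq_of_cls_eq k e2]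
  exact h

/-- a monomorphic section `t` of `A` gives `h^0(N) ≤ h^0(A' ⊗ N) + h^0(coker t ⊗ A' ⊗ N)` -/
theorem hh_le_add_of_section {A A' N : X.Modules} (hA : PicF.IsInvertible A)
    (hA' : PicF.IsInvertible A') (hAA' : cls A * cls A' = 1) (hN : PicF.IsInvertible N)
    (t : Coh.structureModule X ⟶ A) [Mono t] {M M' M'' : X.Modules}
    (h : cls M = cls N) (h' : cls M' = cls A' * cls N)
    (h'' : cls M'' = cls (cokernel t) * cls A' * cls N) :
    hh k X M 0 ≤ hh k X M' 0 + hh k X M'' 0 := by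
  have hR : PicF.IsInvertible (tensorMod A' N) := H78TensorGen.isInvertible_tensorMod hA' hN
  obtain ⟨R', ⟨e'⟩⟩ := exists_right_inverse hR
  have hRc : Coh.IsCoh (tensorMod A' N) := H90Invertible.isCoh_of_isInvertible hR
  have hAc : Coh.IsCoh A := H90Invertible.isCoh_of_isInvertible hA
  haveI : (Coh.structureModule X).IsQuasicoherent := (CohFinAmple.isCoh_structureModule X).1
  have hCc : Coh.IsCoh (cokernel t) := H90OXModExact.isCoh_cokernel t hAc
  have hS' := shortExact_map_tensorRight e' (H90DevTwo.shortExact_cokernel t)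
  have hmid := hh_mid_le k hS'
    (CohFinAmple.isCoh_tensorMod (CohFinAmple.isCoh_structureModule X) hRc)
    (CohFinAmple.isCoh_tensorMod hAc hRc) (CohFinAmple.isCoh_tensorMod hCc hRc) 0
  have e0 : cls M = cls (tensorMod A (tensorMod A' N)) := by
    rw [h, cls_tensorMod, cls_tensorMod, ← mul_assoc, hAA', one_mul]
  have e1 : cls M' = cls (tensorMod (Coh.structureModule X) (tensorMod A' N)) := by
    rw [h', cls_tensorMod, cls_tensorMod, cls_one, one_mul]
  have e2 : cls M'' = cls (tensorMod (cokernel t) (tensorMod A' N)) := by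
    rw [h'', cls_tensorMod, cls_tensorMod, mul_assoc]
  rw [hh_eq_of_cls_eq k e0, hh_eq_of_cls_eq k e1, hh_eq_of_cls_eq k e2]
  exact hmid

end Twist

section Chain

variable (k : Type u) [Field k] {X : Scheme.{u}} [X.Over (Spec (CommRingCat.of k))]
  [IsProper (X ↘ Spec (CommRingCat.of k))]

/-- `P^m ⊗ A'^i` -/
noncomputable abbrev Nmod (P A' : X.Modules) (m i : ℕ) : X.Modules := tensorMod (tensorPow P m) (tensorPow A' i)

omit [X.Over (Spec (CommRingCat.of k))] [IsProper (X ↘ Spec (CommRingCat.of k))] in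
theorem cls_Nmod (P A' : X.Modules) (m i : ℕ) : cls (Nmod P A' m i) = cls P ^ m * cls A' ^ i := by
  rw [cls_tensorMod, cls_tensorPow, cls_tensorPow]

omit [X.Over (Spec (CommRingCat.of k))] [IsProper (X ↘ Spec (CommRingCat.of k))] in
theorem isInvertible_Nmod {P A' : X.Modules} (hP : PicF.IsInvertible P) (hA' : PicF.IsInvertible A') (m i : ℕ) :
    PicF.IsInvertible (Nmod P A' m i) :=
  H78TensorGen.isInvertible_tensorMod (H78TensorGen.isInvertible_tensorPow hP m)
    (H78TensorGen.isInvertible_tensorPow hA' i)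

/-- the chain of restriction sequences -/
theorem hh_chain {P A A' : X.Modules} (hP : PicF.IsInvertible P) (hA : PicF.IsInvertible A)
    (hA' : PicF.IsInvertible A') (hAA' : cls A * cls A' = 1)
    (t : Coh.structureModule X ⟶ A) [Mono t] (m : ℕ) :
    ∀ j : ℕ, hh k X (Nmod P A' m 0) 0 ≤ hh k X (Nmod P A' m j) 0 +
      ∑ i ∈ Finset.range j, hh k X (tensorMod (cokernel t) (Nmod P A' m (i + 1))) 0
  | 0 => by simp
  | j + 1 => by
    have ih := hh_chain hP hA hA' hAA' t m j
    have hstep := hh_le_add_of_section k hA hA' hAA' (isInvertible_Nmod hP hA' m j) t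
      (M := Nmod P A' m j) (M' := Nmod P A' m (j + 1))
      (M'' := tensorMod (cokernel t) (Nmod P A' m (j + 1))) rfl
      (by rw [cls_Nmod, cls_Nmod, pow_succ]; ac_rfl)
      (by rw [cls_tensorMod, cls_Nmod, cls_Nmod, pow_succ]; ac_rfl)
    rw [Finset.sum_range_succ]
    omega

/-- monotonicity along a regular section -/
theorem hh_mono_regular {P A A' C : X.Modules} (hP : PicF.IsInvertible P) (hA : PicF.IsInvertible A)
    (hA' : PicF.IsInvertible A') (hAA' : cls A * cls A' = 1) (hC : Coh.IsCoh C)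
    (τ : Coh.structureModule X ⟶ A) (hτ : Mono (tensorModMap (𝟙 C) τ)) (m : ℕ) :
    ∀ i : ℕ, hh k X (tensorMod C (Nmod P A' m i)) 0 ≤ hh k X (tensorMod C (Nmod P A' m 0)) 0
  | 0 => le_rfl
  | i + 1 => by
    refine le_trans ?_ (hh_mono_regular hP hA hA' hAA' hC τ hτ m i)
    refine hh_sub_le k hC hA hA' hAA' (isInvertible_Nmod hP hA' m i) τ hτ ?_ (cls_tensorMod _ _)
    rw [cls_tensorMod, cls_Nmod, cls_Nmod, pow_succ]
    ac_rfl

/-- **Siu's inequality** -/
theorem hh_siu {P A A' : X.Modules} (hP : PicF.IsInvertible P) (hA : PicF.IsInvertible A)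
    (hA' : PicF.IsInvertible A') (hAA' : cls A * cls A' = 1)
    (t : Coh.structureModule X ⟶ A) [Mono t] (hC : Coh.IsCoh (cokernel t))
    (τ : Coh.structureModule X ⟶ A) (hτ : Mono (tensorModMap (𝟙 (cokernel t)) τ)) (m j : ℕ) :
    hh k X (tensorMod (Coh.structureModule X) (tensorPow P m)) 0 ≤ hh k X (Nmod P A' m j) 0 +
      j * hh k X (tensorMod (cokernel t) (tensorPow P m)) 0 := by
  have h1 := hh_chain k hP hA hA' hAA' t m j
  have h2 : ∑ i ∈ Finset.range j, hh k X (tensorMod (cokernel t) (Nmod P A' m (i + 1))) 0 ≤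
      ∑ _i ∈ Finset.range j, hh k X (tensorMod (cokernel t) (Nmod P A' m 0)) 0 :=
    Finset.sum_le_sum fun i _ => hh_mono_regular k hP hA hA' hAA' hC τ hτ m (i + 1)
  rw [Finset.sum_const, Finset.card_range, smul_eq_mul] at h2
  have e1 : cls (tensorMod (Coh.structureModule X) (tensorPow P m)) = cls (Nmod P A' m 0) := by
    rw [cls_tensorMod, cls_one, one_mul, cls_Nmod, cls_tensorPow, pow_zero, mul_one]
  have e2 : cls (tensorMod (cokernel t) (tensorPow P m)) = cls (tensorMod (cokernel t) (Nmod P A' m 0)) := by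
    rw [cls_tensorMod, cls_tensorMod, cls_Nmod, cls_tensorPow, pow_zero, mul_one]
  rw [hh_eq_of_cls_eq k e1, hh_eq_of_cls_eq k e2]
  omega

end Chain

section Asym

open Polynomial Filter in
/-- a rational polynomial of degree `≤ n` (`n ≥ 1`) with positive `n`-th coefficient is eventually positive -/
theorem exists_eval_pos (F : ℚ[X]) (n : ℕ) (hn : 0 < n) (hdeg : F.natDegree ≤ n) (hc : 0 < F.coeff n) (m₀ : ℕ) :
    ∃ m : ℕ, m₀ ≤ m ∧ 0 < F.eval (m : ℚ) := by
  have hnd : F.natDegree = n := le_antisymm hdeg (le_natDegree_of_ne_zero hc.ne')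
  have hlc : 0 ≤ F.leadingCoeff := by
    unfold leadingCoeff; rw [hnd]; exact hc.le
  have hF0 : F ≠ 0 := by rintro rfl; simp at hc
  have hd : 0 < F.degree := by
    rw [degree_eq_natDegree hF0, hnd]
    exact_mod_cast hn
  have h1 := tendsto_atTop_of_leadingCoeff_nonneg F hd hlc
  have h2 : Tendsto (fun m : ℕ => F.eval (m : ℚ)) atTop atTop := h1.comp tendsto_natCast_atTop_atTop
  obtain ⟨m, hm1, hm2⟩ := ((h2.eventually_gt_atTop 0).and (eventually_ge_atTop m₀)).exists
  exact ⟨m, hm2, hm1⟩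

end Asym

section Serre

variable (k : Type u) [Field k] {X : Scheme.{u}} [X.Over (Spec (CommRingCat.of k))]
  [IsProper (X ↘ Spec (CommRingCat.of k))]

/-- for `P` ample, `h^0(F ⊗ P^m)` is the value of the Hilbert polynomial for large `m` -/
theorem exists_hh_eq_eval {P : X.Modules} (hP : CohB1.IsAmple P) {F : X.Modules} (hF : Coh.IsCoh F)
    (p : Polynomial ℚ) (hp : ShStab.IsHilbPoly k X P F p) :
    ∃ m₀ : ℕ, ∀ m : ℕ, m₀ ≤ m → (hh k X (tensorMod F (tensorPow P m)) 0 : ℚ) = p.eval (m : ℚ) := by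
  obtain ⟨n₀, h⟩ := H78SerreVan.serre_vanishing_of_isAmple (X ↘ Spec (CommRingCat.of k)) hP F hF
  refine ⟨n₀, fun m hm => ?_⟩
  have h1 := hp m
  unfold ShStab.twist at h1
  rw [EulerChar54.euler_eq_finrank_zero k X _ (fun i hi => h m hm i hi)] at h1
  exact_mod_cast h1

omit [X.Over (Spec (CommRingCat.of k))] [IsProper (X ↘ Spec (CommRingCat.of k))] in
/-- a globally generated invertible module on a quasi-compact nonempty scheme is generated by finitely many sections -/
theorem exists_fin_generating [CompactSpace X] [Nonempty X] {A : X.Modules} (hA : PicF.IsInvertible A)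
    (hg : Curv2.IsGloballyGenerated A) :
    ∃ (N : ℕ) (σ : Fin (N + 1) → (Coh.structureModule X ⟶ A)), ∀ x : X, ∃ i, x ∈ CohB1.genLocus A (σ i) := by
  classical
  choose τ hτ using fun x => H78GlobGen.exists_sec_mem_genLocus hA hg x
  obtain ⟨t, ht⟩ := isCompact_univ.elim_finite_subcover
    (fun x : X => ((CohB1.genLocus A (H90Invertible.ofSection (τ x)) : X.Opens) : Set X))
    (fun x => (CohB1.genLocus A (H90Invertible.ofSection (τ x))).isOpen)
    (fun x _ => Set.mem_iUnion.2 ⟨x, hτ x⟩)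
  obtain ⟨x₀⟩ := ‹Nonempty X›
  have htne : t.Nonempty := by
    obtain ⟨y, hy⟩ := Set.mem_iUnion.1 (ht (Set.mem_univ x₀))
    obtain ⟨hyt, -⟩ := Set.mem_iUnion.1 hy
    exact ⟨y, hyt⟩
  obtain ⟨N, hN⟩ : ∃ N, t.card = N + 1 := ⟨t.card - 1, by have := htne.card_pos; omega⟩
  refine ⟨N, fun i => H90Invertible.ofSection (τ ((t.equivFin.symm (Fin.cast hN.symm i)) : X)), fun x => ?_⟩
  obtain ⟨y, hy⟩ := Set.mem_iUnion.1 (ht (Set.mem_univ x))
  obtain ⟨hyt, hxy⟩ := Set.mem_iUnion.1 hy
  refine ⟨Fin.cast hN (t.equivFin ⟨y, hyt⟩), ?_⟩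
  simp only [Fin.cast_cast, Fin.cast_eq_self, Equiv.symm_apply_apply]
  exact hxy

end Serre

section Criterion

variable (k : Type u) [Field k] {X : Scheme.{u}} [X.Over (Spec (CommRingCat.of k))]
  [IsProper (X ↘ Spec (CommRingCat.of k))]

/-- over an infinite field, a globally generated invertible module has a section regular on a given coherent module -/
theorem exists_regular (hk : Infinite k) [Nonempty X] {A : X.Modules} (hA : PicF.IsInvertible A)
    (hg : Curv2.IsGloballyGenerated A) {F : X.Modules} (hF : Coh.IsCoh F) :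
    ∃ τ : Coh.structureModule X ⟶ A, Mono (tensorModMap (𝟙 F) τ) := by
  classical
  haveI := EulerLE48.isLocallyNoetherian k X
  haveI : CompactSpace X := EulerChar54.compactSpace_of_isProper k X
  obtain ⟨N, σ, hσ⟩ := exists_fin_generating hA hg
  have hfin : {x : X | Curv2.IsAssPoint F x}.Finite := by
    have := Groth.Agent.S1576.result X F hF ⊤ (by
      change IsCompact (Set.univ : Set X); exact isCompact_univ)
    exact this.subset (fun x hx => ⟨trivial, hx⟩)
  let r : k →+* Γ(X, ⊤) :=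
    (X ↘ Spec (CommRingCat.of k)).appTop.hom.comp (Scheme.ΓSpecIso (CommRingCat.of k)).inv.hom
  have hres : Infinite (IsLocalRing.ResidueField k) :=
    Infinite.of_injective (IsLocalRing.residue k) (RingHom.injective _)
  obtain ⟨a, ha⟩ := H78RegSec.exists_comb_generating hres r σ hσ hfin.toFinset
  exact ⟨_, H78RegSec.mono_tensorModMap_of_assPoints hA _ F hF
    (fun x hx => ha x (hfin.mem_toFinset.2 hx))⟩

/-- **Siu-type criterion**: `(P^n) > 2n (P^{n-1} · A)` gives sections of some `P^m ⊗ A'^{2m}` -/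
theorem exists_section_of_siu (hk : Infinite k) [IsIntegral X] (D : ℕ) (hD : topologicalKrullDim X ≤ D)
    {n : ℕ} (hdim : topologicalKrullDim X = ((n + 1 : ℕ) : WithBot ℕ∞)) {P A A' : X.Modules}
    (hP : CohB1.IsAmple P) (hA : PicF.IsInvertible A) (hg : Curv2.IsGloballyGenerated A)
    (hA' : PicF.IsInvertible A') (hAA' : cls A * cls A' = 1)
    (hnum : (2 * (n + 1) : ℤ) * lin k D ((br P - 1) ^ n * (br A - 1) * br (Coh.structureModule X)) <
      lin k D ((br P - 1) ^ (n + 1) * br (Coh.structureModule X))) :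
    ∃ m : ℕ, 0 < m ∧ 0 < hh k X (Nmod P A' m (2 * m)) 0 := by
  haveI := EulerLE48.isNoetherian k X
  have H : ProperFinHyp.Hyp.{u} := SnapCoeff13.properFinHyp
  have hOinv : PicF.IsInvertible (Coh.structureModule X) := H90Invertible.isInvertible_structureModule X
  have hOcoh : Coh.IsCoh (Coh.structureModule X) := CohFinAmple.isCoh_structureModule X
  haveI : (Coh.structureModule X).IsQuasicoherent := hOcoh.1
  have hAcoh : Coh.IsCoh A := H90Invertible.isCoh_of_isInvertible hA
  -- a nonzero section and its cokernel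
  obtain ⟨t, ht⟩ := NumTriv13.exists_ne_zero_of_gg hA hg
  haveI : Mono t := InvMap54.mono_of_ne_zero hOinv hA t ht
  have hCcoh : Coh.IsCoh (cokernel t) := H90OXModExact.isCoh_cokernel t hAcoh
  have hCdim : topologicalKrullDim (CohB1.support (cokernel t)) ≤ (n : WithBot ℕ∞) := by
    have h := SurfSec13.dim_support_cokernel_add_one_le hOinv hA t ht
    rw [hdim] at h
    exact IntNumCalc13.le_of_lt_succ_withBot (NMMain13.lt_of_add_one_le h)
  have hOdim : topologicalKrullDim (CohB1.support (Coh.structureModule X)) ≤ ((n + 1 : ℕ) : WithBot ℕ∞) := by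
    rw [AmpleVol13.dim_support_structureModule, hdim]
  -- a regular section
  obtain ⟨τ, hτ⟩ := exists_regular k hk hA hg hCcoh
  -- Hilbert polynomials
  obtain ⟨pX, hpXd, hpX⟩ := HilbPoly48.exists_isHilbPoly k X H hP.1 hOcoh (n + 1) hOdim
  obtain ⟨pC, hpCd, hpC⟩ := HilbPoly48.exists_isHilbPoly k X H hP.1 hCcoh n hCdim
  have hcX := lin_pow_eq_coeff k D hD hP.1 hOcoh hOdim pX hpX
  have hcC := lin_pow_eq_coeff k D hD hP.1 hCcoh hCdim pC hpC
  -- `br (coker t) ≡ br A - 1`
  have hw : IsProd n ((br P - 1 : R X) ^ n) := (isProd_one hP.1).pow n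
  have hadd := lin_add_of_shortExact k D hD hw _ (H90DevTwo.shortExact_cokernel t) hOcoh hAcoh hCcoh
  simp only at hadd
  have hJ : lin k D ((br P - 1) ^ n * (br A - 1) * br (Coh.structureModule X)) =
      lin k D ((br P - 1) ^ n * br (cokernel t)) := by
    rw [br_structureModule, mul_one, mul_sub, mul_one, map_sub, hadd, br_structureModule, mul_one]
    ring
  rw [hJ] at hnum
  -- the polynomial `F = pX - 2 X pC`
  have hFdeg : (pX - Polynomial.C 2 * Polynomial.X * pC).natDegree ≤ n + 1 := by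
    refine (Polynomial.natDegree_sub_le _ _).trans (max_le hpXd ?_)
    refine (Polynomial.natDegree_mul_le).trans ?_
    have h1 : (Polynomial.C (2 : ℚ) * Polynomial.X).natDegree ≤ 1 := by
      refine (Polynomial.natDegree_C_mul_le _ _).trans ?_
      simp
    omega
  have hFc : 0 < (pX - Polynomial.C 2 * Polynomial.X * pC).coeff (n + 1) := by
    rw [Polynomial.coeff_sub, mul_assoc, Polynomial.coeff_C_mul, Polynomial.coeff_X_mul]
    have hf1 : (0 : ℚ) < ((n + 1).factorial : ℚ) := by exact_mod_cast (n + 1).factorial_pos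
    have hnumQ : ((2 * (n + 1) : ℤ) : ℚ) * ((lin k D ((br P - 1) ^ n * br (cokernel t)) : ℤ) : ℚ) <
        ((lin k D ((br P - 1) ^ (n + 1) * br (Coh.structureModule X)) : ℤ) : ℚ) := by exact_mod_cast hnum
    rw [hcX, hcC] at hnumQ
    have hfac : ((n + 1).factorial : ℚ) = (n + 1 : ℚ) * (n.factorial : ℚ) := by
      rw [Nat.factorial_succ]; push_cast; ring
    rw [hfac] at hnumQ hf1
    have hnf : (0 : ℚ) < (n.factorial : ℚ) := by exact_mod_cast n.factorial_pos
    have hn1 : (0 : ℚ) < (n + 1 : ℚ) := by positivity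
    push_cast at hnumQ
    have h3 : (n + 1 : ℚ) * (n.factorial : ℚ) * (2 * pC.coeff n) <
        (n + 1 : ℚ) * (n.factorial : ℚ) * pX.coeff (n + 1) := by nlinarith [hnumQ]
    have h4 := lt_of_mul_lt_mul_left h3 (mul_pos hn1 hnf).le
    linarith
  -- Serre vanishing
  obtain ⟨m₁, hm₁⟩ := exists_hh_eq_eval k hP hOcoh pX hpX
  obtain ⟨m₂, hm₂⟩ := exists_hh_eq_eval k hP hCcoh pC hpC
  obtain ⟨m, hm, hFm⟩ := exists_eval_pos _ (n + 1) (Nat.succ_pos n) hFdeg hFc (max (max m₁ m₂) 1)
  have hm1 : m₁ ≤ m := le_trans (le_trans (le_max_left _ _) (le_max_left _ _)) hm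
  have hm2 : m₂ ≤ m := le_trans (le_trans (le_max_right _ _) (le_max_left _ _)) hm
  have hm0 : 0 < m := lt_of_lt_of_le one_pos (le_trans (le_max_right _ _) hm)
  refine ⟨m, hm0, ?_⟩
  have hsiu := hh_siu k hP.1 hA hA' hAA' t hCcoh τ hτ m (2 * m)
  have hsiuQ : (hh k X (tensorMod (Coh.structureModule X) (tensorPow P m)) 0 : ℚ) ≤
      (hh k X (Nmod P A' m (2 * m)) 0 : ℚ) +
        ((2 * m : ℕ) : ℚ) * (hh k X (tensorMod (cokernel t) (tensorPow P m)) 0 : ℚ) := by exact_mod_cast hsiu
  rw [hm₁ m hm1, hm₂ m hm2] at hsiuQ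
  rw [Polynomial.eval_sub, Polynomial.eval_mul, Polynomial.eval_mul, Polynomial.eval_C, Polynomial.eval_X] at hFm
  push_cast at hsiuQ
  have hpos : (0 : ℚ) < (hh k X (Nmod P A' m (2 * m)) 0 : ℚ) := by linarith
  exact_mod_cast hpos

end Criterion

end Groth.Agent.Lib.NefBigB13
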