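import Groth.Agent.Lib.NefBigB13

/-!
# Nef and big invertible modules, part 3 (helper13): positive top self-intersection ⇒ big

`exists_mono_of_lin_pos`: `X` integral proper over an infinite field `k` with an ample `H`, `L` nef with `(L^n) > 0`,
`n = dim X`: some `L^ν`, `ν > 0`, receives a monomorphism from an ample invertible module.
-/

set_option autoImplicit false
set_option linter.style.haveILetI false
universe u
open CategoryTheory CategoryTheory.Limits AlgebraicGeometry TopologicalSpace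

namespace Groth.Agent.Lib.NefBigC13

open Groth.Agent.Lib Groth.Agent.Lib.IsoCls13 Groth.Agent.Lib.IntNumAlg13 CohB1 Groth.Agent.Lib.Kleiman13
  Groth.Agent.Lib.KleimanB13 Groth.Agent.Lib.KleimanC13 Groth.Agent.Lib.CohGrowthHH
  Groth.Agent.Lib.OXModTensor Groth.Agent.Lib.TwistEquiv Groth.Agent.Lib.NefBigB13

section Sums

theorem sum_ge_top_term (e q p : ℕ) (c : ℕ → ℤ) (hc : ∀ m ≤ e, 0 ≤ c m) :
    (q : ℤ) ^ e * c e ≤ ∑ m ∈ Finset.range (e + 1), ((e.choose m * q ^ m * p ^ (e - m) : ℕ) : ℤ) * c m := by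
  have h0 : e ∈ Finset.range (e + 1) := Finset.mem_range.2 (Nat.lt_succ_self e)
  have := Finset.single_le_sum (f := fun m => ((e.choose m * q ^ m * p ^ (e - m) : ℕ) : ℤ) * c m)
    (fun m hm => mul_nonneg (Nat.cast_nonneg _) (hc m (Nat.lt_succ_iff.1 (Finset.mem_range.1 hm)))) h0
  simpa using this

theorem sum_le_pow_mul (e q : ℕ) (hq : 1 ≤ q) (c : ℕ → ℤ) (hc : ∀ m ≤ e, 0 ≤ c m) :
    ∑ m ∈ Finset.range (e + 1), ((e.choose m * q ^ m * 1 ^ (e - m) : ℕ) : ℤ) * c m ≤
      (q : ℤ) ^ e * ∑ m ∈ Finset.range (e + 1), (e.choose m : ℤ) * c m := by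
  rw [Finset.mul_sum]
  refine Finset.sum_le_sum fun m hm => ?_
  have hme : m ≤ e := Nat.lt_succ_iff.1 (Finset.mem_range.1 hm)
  have h1 : (q : ℤ) ^ m ≤ (q : ℤ) ^ e := pow_le_pow_right₀ (by exact_mod_cast hq) hme
  have h2 : (0 : ℤ) ≤ (e.choose m : ℤ) * c m := mul_nonneg (Nat.cast_nonneg _) (hc m hme)
  push_cast
  rw [one_pow, mul_one]
  calc (e.choose m : ℤ) * (q : ℤ) ^ m * c m = (q : ℤ) ^ m * ((e.choose m : ℤ) * c m) := by ring
    _ ≤ (q : ℤ) ^ e * ((e.choose m : ℤ) * c m) := mul_le_mul_of_nonneg_right h1 h2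

end Sums

section Main

variable (k : Type u) [Field k] {X : Scheme.{u}} [X.Over (Spec (CommRingCat.of k))]
  [IsProper (X ↘ Spec (CommRingCat.of k))]

theorem cls_cancel (x a a' : Cls X) (h : a * a' = 1) : x * a * (a' * a') * a = x := by
  calc x * a * (a' * a') * a = x * ((a * a') * (a * a')) := by ac_rfl
    _ = x := by rw [h, one_mul, mul_one]

/-- **positive top self-intersection ⇒ big**, for a nef invertible module on an integral projective scheme over an
infinite field -/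
theorem exists_mono_of_lin_pos (hk : Infinite k) [IsIntegral X] (D : ℕ) (hD : topologicalKrullDim X ≤ D)
    {n : ℕ} (hdim : topologicalKrullDim X = ((n + 1 : ℕ) : WithBot ℕ∞)) {L H : X.Modules}
    (hL : PicF.IsInvertible L) (hH : CohB1.IsAmple H) (hnef : NefCoh k D L)
    (hbig : 0 < lin k D ((br L - 1) ^ (n + 1) * br (Coh.structureModule X))) :
    ∃ (ν : ℕ) (A₁ : X.Modules) (φ : A₁ ⟶ CohB1.tensorPow L ν), 0 < ν ∧ CohB1.IsAmple A₁ ∧ Mono φ := by
  haveI : CompactSpace X := EulerChar54.compactSpace_of_isProper k X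
  haveI := EulerLE48.isNoetherian k X
  have hOcoh : Coh.IsCoh (Coh.structureModule X) := CohFinAmple.isCoh_structureModule X
  have hOinv : PicF.IsInvertible (Coh.structureModule X) := H90Invertible.isInvertible_structureModule X
  have hOdim : topologicalKrullDim (CohB1.support (Coh.structureModule X)) ≤ ((n + 1 : ℕ) : WithBot ℕ∞) := by
    rw [AmpleVol13.dim_support_structureModule, hdim]
  have hOS : br (Coh.structureModule X) ∈ Small X (n + 1) := br_mem_Small hOcoh hOdim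
  -- Step 1: a globally generated ample power of `H`
  obtain ⟨n₀, hn₀⟩ := H78GlobGen2.isGloballyGenerated_twist hH (Coh.structureModule X) hOcoh
  obtain ⟨ι, q, hq⟩ := hn₀ (n₀ + 1) (Nat.le_succ _)
  obtain ⟨A, hAeq⟩ : ∃ A : X.Modules, A = CohB1.tensorPow H (n₀ + 1) := ⟨_, rfl⟩
  have hAamp : CohB1.IsAmple A := by
    rw [hAeq]; exact (H78AmpleOps.isAmple_tensorPow_iff hH.1 (Nat.succ_pos n₀)).1 hH
  have hAg : Curv2.IsGloballyGenerated A := by
    have hcl : cls (tensorMod (Coh.structureModule X) (tensorPow H (n₀ + 1))) = cls A := by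
      rw [hAeq, cls_tensorMod, cls_one, one_mul]
    obtain ⟨e⟩ := cls_eq_iff.1 hcl
    haveI := hq
    exact ⟨ι, q ≫ e.hom, epi_comp _ _⟩
  obtain ⟨A', hA', ⟨eA⟩⟩ := H78Dual.exists_tensor_inverse hAamp.1
  have hAA' : cls A * cls A' = 1 := by rw [mul_comm, ← cls_tensorMod, cls_eq_of_iso eA, cls_one]
  -- Step 2: the numerics
  have hcnn : ∀ a b : ℕ, a + b = n + 1 →
      0 ≤ lin k D ((br L - 1) ^ a * (br A - 1) ^ b * br (Coh.structureModule X)) := fun a b hab =>
    kAll k (n + 1) X D hD L A hL hAamp hnef a b hab _ hOcoh hOdim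
  have hc'nn : ∀ m ≤ n, 0 ≤ lin k D ((br A - 1) * (br L - 1) ^ m * (br A - 1) ^ (n - m) *
      br (Coh.structureModule X)) := by
    intro m hm
    have h := hcnn m (n - m + 1) (by omega)
    have e : (br A - 1 : R X) * (br L - 1) ^ m * (br A - 1) ^ (n - m) =
        (br L - 1) ^ m * (br A - 1) ^ (n - m + 1) := by rw [pow_succ]; ring
    rwa [e]
  obtain ⟨K, hK⟩ : ∃ K : ℤ, K = ∑ m ∈ Finset.range (n + 1), (n.choose m : ℤ) *
      lin k D ((br A - 1) * (br L - 1) ^ m * (br A - 1) ^ (n - m) * br (Coh.structureModule X)) := ⟨_, rfl⟩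
  have hKnn : 0 ≤ K := by
    rw [hK]
    exact Finset.sum_nonneg fun m hm =>
      mul_nonneg (Nat.cast_nonneg _) (hc'nn m (Nat.lt_succ_iff.1 (Finset.mem_range.1 hm)))
  obtain ⟨ν, hνeq⟩ : ∃ ν : ℕ, ν = (2 * ((n : ℤ) + 1) * K).toNat + 1 := ⟨_, rfl⟩
  have hν1 : 1 ≤ ν := by omega
  have hνK : 2 * ((n : ℤ) + 1) * K < (ν : ℤ) := by
    have := Int.self_le_toNat (2 * ((n : ℤ) + 1) * K)
    rw [hνeq]; push_cast; omega
  have hν0 : (0 : ℤ) < (ν : ℤ) := by exact_mod_cast hν1
  obtain ⟨P, hPeq⟩ : ∃ P : X.Modules, P = CohB1.tensorMod (CohB1.tensorPow L ν) A := ⟨_, rfl⟩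
  have hPamp : CohB1.IsAmple P := by
    rw [hPeq]; exact KleimanD13.isAmple_of_nefCoh k D hD hL hAamp hnef ν
  have hbrP : br P = br L ^ ν * br A ^ 1 := by rw [hPeq, br_tensorMod, br_tensorPow, pow_one]
  have hI : (ν : ℤ) ^ (n + 1) ≤ lin k D ((br P - 1) ^ (n + 1) * br (Coh.structureModule X)) := by
    rw [hbrP]
    have hz : br (Coh.structureModule X) ∈ Small X (0 + (n + 1)) := by rw [zero_add]; exact hOS
    have hexp := lin_beta_expand k D hD hL hAamp.1 ν 1 (n + 1) 0 1 isProd_zero _ hz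
    rw [one_mul] at hexp
    rw [hexp]
    have htop := sum_ge_top_term (n + 1) ν 1
      (fun m => lin k D (1 * (br L - 1) ^ m * (br A - 1) ^ (n + 1 - m) * br (Coh.structureModule X)))
      (fun m hm => by
        have := hcnn m (n + 1 - m) (by omega)
        simpa using this)
    refine le_trans ?_ htop
    have h1 : (1 : ℤ) ≤ lin k D (1 * (br L - 1) ^ (n + 1) * (br A - 1) ^ (n + 1 - (n + 1)) *
        br (Coh.structureModule X)) := by
      have : 0 < lin k D (1 * (br L - 1) ^ (n + 1) * (br A - 1) ^ (n + 1 - (n + 1)) *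
          br (Coh.structureModule X)) := by simpa using hbig
      omega
    exact le_mul_of_one_le_right (pow_nonneg hν0.le _) h1
  have hJ : lin k D ((br P - 1) ^ n * (br A - 1) * br (Coh.structureModule X)) ≤ (ν : ℤ) ^ n * K := by
    rw [hbrP, mul_comm ((br L ^ ν * br A ^ 1 - 1) ^ n) (br A - 1)]
    have hz : br (Coh.structureModule X) ∈ Small X (1 + n) := by rw [Nat.add_comm]; exact hOS
    have hexp := lin_beta_expand k D hD hL hAamp.1 ν 1 n 1 _ (isProd_one hAamp.1) _ hz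
    rw [hexp, hK]
    exact sum_le_pow_mul n ν hν1
      (fun m => lin k D ((br A - 1) * (br L - 1) ^ m * (br A - 1) ^ (n - m) * br (Coh.structureModule X)))
      hc'nn
  have hnum : (2 * (n + 1) : ℤ) * lin k D ((br P - 1) ^ n * (br A - 1) * br (Coh.structureModule X)) <
      lin k D ((br P - 1) ^ (n + 1) * br (Coh.structureModule X)) := by
    have hνn : (0 : ℤ) < (ν : ℤ) ^ n := pow_pos hν0 n
    calc (2 * (n + 1) : ℤ) * lin k D ((br P - 1) ^ n * (br A - 1) * br (Coh.structureModule X))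
        ≤ (2 * (n + 1) : ℤ) * ((ν : ℤ) ^ n * K) := mul_le_mul_of_nonneg_left hJ (by positivity)
      _ = (ν : ℤ) ^ n * (2 * ((n : ℤ) + 1) * K) := by ring
      _ < (ν : ℤ) ^ n * (ν : ℤ) := mul_lt_mul_of_pos_left hνK hνn
      _ = (ν : ℤ) ^ (n + 1) := by ring
      _ ≤ _ := hI
  -- Step 3: sections
  obtain ⟨m, hm0, hpos⟩ := exists_section_of_siu k hk D hD hdim hPamp hAamp.1 hAg hA' hAA' hnum
  -- Step 4: the monomorphism
  have hMinv : PicF.IsInvertible (Nmod P A' m (2 * m)) := isInvertible_Nmod hPamp.1 hA' m (2 * m)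
  have hnt : Nontrivial (Coh.HH X (Nmod P A' m (2 * m)) 0) := Module.nontrivial_of_finrank_pos hpos
  obtain ⟨s, hs⟩ := SurfSec13.exists_section_ne_zero _ hnt
  haveI : Mono s := InvMap54.mono_of_ne_zero hOinv hMinv s hs
  have hAm : PicF.IsInvertible (tensorPow A m) := H78TensorGen.isInvertible_tensorPow hAamp.1 m
  obtain ⟨R', ⟨e'⟩⟩ := exists_right_inverse hAm
  haveI : Mono ((tensorRightFunctor (tensorPow A m)).map s) := mono_tensorRight e' s
  have hc1 : cls (tensorPow A m) = cls (tensorMod (Coh.structureModule X) (tensorPow A m)) := by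
    rw [cls_tensorMod, cls_one, one_mul]
  have hc2 : cls (tensorMod (Nmod P A' m (2 * m)) (tensorPow A m)) = cls (tensorPow L (ν * m)) := by
    rw [cls_tensorMod, cls_Nmod, cls_tensorPow, cls_tensorPow, hPeq, cls_tensorMod, cls_tensorPow, mul_pow,
      ← pow_mul, two_mul, pow_add]
    exact cls_cancel _ _ _ (by rw [← mul_pow, hAA', one_pow])
  obtain ⟨e1⟩ := cls_eq_iff.1 hc1
  obtain ⟨e2⟩ := cls_eq_iff.1 hc2
  refine ⟨ν * m, tensorPow A m, e1.hom ≫ (tensorRightFunctor (tensorPow A m)).map s ≫ e2.hom,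
    Nat.mul_pos hν1 hm0, (H78AmpleOps.isAmple_tensorPow_iff hAamp.1 hm0).1 hAamp, ?_⟩
  have h1 : Mono ((tensorRightFunctor (tensorPow A m)).map s) := mono_tensorRight e' s
  have h2 : Mono ((tensorRightFunctor (tensorPow A m)).map s ≫ e2.hom) := mono_comp' h1 inferInstance
  exact mono_comp' inferInstance h2

end Main

end Groth.Agent.Lib.NefBigC13
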