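import Groth.Agent.Lib.NefBigC13
import Groth.Agent.Lib.H69SchReduced

/-!
# Nef and big invertible modules, part 4 (helper13): a nef invertible module is big iff `(L^n) > 0`
-/

set_option autoImplicit false
set_option linter.style.haveILetI false
universe u
open CategoryTheory CategoryTheory.Limits AlgebraicGeometry TopologicalSpace

namespace Groth.Agent.Lib.NefBigD13

open Groth.Agent.Lib Groth.Agent.Lib.IsoCls13 Groth.Agent.Lib.IntNumAlg13 CohB1 Groth.Agent.Lib.Kleiman13
  Groth.Agent.Lib.KleimanB13 Groth.Agent.Lib.KleimanC13 Groth.Agent.Lib.OXModTensor Groth.Agent.Lib.TwistEquiv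

section Conv

variable (k : Type u) [Field k] {X : Scheme.{u}} [X.Over (Spec (CommRingCat.of k))]
  [IsProper (X ↘ Spec (CommRingCat.of k))]

omit [X.Over (Spec (CommRingCat.of k))] [IsProper (X ↘ Spec (CommRingCat.of k))] in
theorem not_isZero_of_isInvertible [Nonempty X] {A : X.Modules} (hA : PicF.IsInvertible A) : ¬ IsZero A := by
  intro hz
  obtain ⟨A', -, ⟨e⟩⟩ := H78Dual.exists_tensor_inverse hA
  have h1 : IsZero (tensorMod A' A) := (tensorLeftFunctor A').map_isZero hz
  have h2 : IsZero (Coh.structureModule X) := h1.of_iso e.symm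
  have h3 := HilbPoly48.support_eq_empty_of_isZero h2
  rw [AmpleVol13.support_structureModule] at h3
  obtain ⟨x⟩ := ‹Nonempty X›
  exact (Set.mem_empty_iff_false x).1 (h3 ▸ Set.mem_univ x)

omit [X.Over (Spec (CommRingCat.of k))] [IsProper (X ↘ Spec (CommRingCat.of k))] in
theorem ne_zero_of_mono [Nonempty X] {A B : X.Modules} (hA : PicF.IsInvertible A) (φ : A ⟶ B) [Mono φ] :
    φ ≠ 0 := by
  intro h0
  apply not_isZero_of_isInvertible hA
  rw [IsZero.iff_id_eq_zero]
  rw [← cancel_mono φ, h0]
  simp

/-- the top self-intersection number in `FGA.intNum` form (taken with an inverse of `L`) -/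
theorem intNum_inv_eq_lin (n : ℕ) (hD : topologicalKrullDim X ≤ n) {L Linv : X.Modules}
    (hL : PicF.IsInvertible L) (hLinv : ClSub.IsInverseOf Linv L) :
    FGA.intNum k X n (fun _ : Fin n => Linv) (Coh.structureModule X) =
      lin k n ((br L - 1) ^ n * br (Coh.structureModule X)) := by
  obtain ⟨e⟩ := hLinv
  have hone : br Linv * br L = 1 := by rw [← br_tensorMod, br_eq_of_iso e, br_structureModule]
  have hLi : PicF.IsInvertible Linv :=
    IntNumCalc13.isInvertible_of_tensor_iso hL ⟨braiding L Linv ≪≫ e⟩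
  have hOcoh : Coh.IsCoh (Coh.structureModule X) := CohFinAmple.isCoh_structureModule X
  have hz : br (Coh.structureModule X) ∈ Small X n :=
    br_mem_Small hOcoh ((DegTensor13.topologicalKrullDim_set_le _).trans hD)
  rw [intNum_eq_lin, Finset.prod_const, Finset.card_univ, Fintype.card_fin]
  have hw : IsProd n ((br Linv - 1 : R X) ^ n) := (isProd_one hLi).pow n
  have hvan := lin_isProd_eq_zero k n hD (hw.mul (isProd_one (H78TensorGen.isInvertible_tensorPow hL n))) hz
    (Nat.lt_succ_self n)
  rw [br_tensorPow] at hvan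
  have e1 : (br L - 1 : R X) ^ n = br L ^ n * (1 - br Linv) ^ n := by
    rw [← mul_pow]; congr 1
    rw [mul_sub, mul_one, mul_comm, hone]
  have e2 : (1 - br Linv : R X) ^ n = (-1) ^ n * (br Linv - 1) ^ n := by
    rw [← mul_pow]; congr 1; ring
  have e3 : (br L - 1 : R X) ^ n * br (Coh.structureModule X) =
      (1 - br Linv) ^ n * br (Coh.structureModule X) +
        (-1 : R X) ^ n * ((br Linv - 1) ^ n * (br L ^ n - 1) * br (Coh.structureModule X)) := by
    rw [e1, e2]; ring
  have hc : ((-1 : R X) ^ n) = (((-1 : ℤ) ^ n : ℤ) : R X) := by push_cast; rfl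
  rw [e3, map_add, hc, ← zsmul_eq_mul, map_zsmul, hvan, smul_zero, add_zero]

end Conv

end Groth.Agent.Lib.NefBigD13
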