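import Groth.Agent.Lib.AmplePos13

/-!
# Nef invertible modules on a proper scheme of dimension `≤ 1` have nonnegative degree (helper13)

* `euler_tensor_sub_eq` : `χ(F ⊗ L) - χ(F) = - FGA.intNum k X D ![L] F`.
* `euler_tensor_sub_nonneg` : if `χ(O_C ⊗ L) - χ(O_C) ≥ 0` for all integral closed `C` of dimension one (reduced structures on
  irreducible closed subsets suffice), then `χ(F ⊗ L) - χ(F) ≥ 0` for every coherent `F` with `dim Supp F ≤ 1`.
-/

set_option autoImplicit false
set_option linter.style.haveILetI false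
universe u
open CategoryTheory CategoryTheory.Limits AlgebraicGeometry TopologicalSpace

namespace Groth.Agent.Lib.NefDeg13

open Groth.Agent.Lib Groth.Agent.Lib.IsoCls13 Groth.Agent.Lib.IntNumAlg13 CohB1
open Groth.Agent.Lib.H90DevCanon Groth.Agent.Lib.H90DevHub Groth.Agent.Lib.H90DevHub2

variable (k : Type u) [Field k] {X : Scheme.{u}} [X.Over (Spec (CommRingCat.of k))]
  [IsProper (X ↘ Spec (CommRingCat.of k))]

theorem euler_tensor_sub_eq (D : ℕ) (hD : topologicalKrullDim X ≤ D) (L F : X.Modules) :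
    Curv2.euler k X (tensorMod F L) - Curv2.euler k X F =
      - FGA.intNum k X D (fun _ : Fin 1 => L) F := by
  rw [intNum_eq_lin, Fin.prod_univ_one, sub_mul, one_mul, map_sub, ← br_tensorMod, lin_br, lin_br,
    EulerLE48.eulerCharLE_eq_euler k X DegTensor13.vanHyp D hD,
    EulerLE48.eulerCharLE_eq_euler k X DegTensor13.vanHyp D hD]
  have h : cls (tensorMod L F) = cls (tensorMod F L) := by
    rw [cls_tensorMod, cls_tensorMod, mul_comm]
  obtain ⟨e⟩ := cls_eq_iff.1 h
  rw [DegTensor13.euler_congr k e]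
  ring

/-- nonnegativity of `χ(F ⊗ L) - χ(F)` on one-dimensional coherent modules from nonnegativity on curves -/
theorem euler_tensor_sub_nonneg (hX : topologicalKrullDim X ≤ (1 : ℕ)) {L : X.Modules}
    (hL : PicF.IsInvertible L)
    (hnef : ∀ Zc : Closeds X, IsIrreducible (Zc : Set X) →
      topologicalKrullDim (Zc : Set X) = ((1 : ℕ) : WithBot ℕ∞) →
      0 ≤ Curv2.euler k X (tensorMod (hub Zc) L) - Curv2.euler k X (hub Zc))
    {F : X.Modules} (hF : Coh.IsCoh F) :
    0 ≤ Curv2.euler k X (tensorMod F L) - Curv2.euler k X F := by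
  haveI := EulerLE48.isNoetherian k X
  have hM : ∀ i : Fin 1, PicF.IsInvertible ((fun _ : Fin 1 => L) i) := fun _ => hL
  have key := DevPos13.nonneg_of_hub (fun E => - FGA.intNum k X 1 (fun _ : Fin 1 => L) E) 1
    (fun S hS h1 h2 h3 => by
      rw [SnapCoeff13.intNum_add_of_shortExact k 1 hX _ hM S hS h1 h2 h3]; ring)
    (fun E hE h => by
      rw [IntNumCalc13.intNum_eq_zero_of_dim_lt DegTensor13.snapperHyp k 1 hX _ hM E hE h, neg_zero])
    (fun Zc hirr hd => by
      rw [← euler_tensor_sub_eq k 1 hX]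
      exact hnef Zc hirr hd)
    hF ((DegTensor13.topologicalKrullDim_set_le _).trans hX)
  rwa [← euler_tensor_sub_eq k 1 hX] at key

end Groth.Agent.Lib.NefDeg13
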