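import Mathlib

/-!
# Triangularization of nilpotent endomorphisms / matrices (helper89)

Namespace `Groth.Agent.Lib.NilTriang89`.

* `exists_basis_lower` : a nilpotent endomorphism `f` of an `n`-dimensional vector space has a
  basis `b : Basis (Fin n)` with `f (b j) ∈ span {b i | j < i}`.
* `exists_conj_lower` : a nilpotent matrix `M` over a field satisfies `M * P = P * L` with
  `P` invertible and `L` strictly lower triangular.
-/

set_option autoImplicit false
universe u

namespace Groth.Agent.Lib.NilTriang89

open Module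

theorem exists_basis_lower (K : Type u) [Field K] :
    ∀ (n : ℕ) (V : Type u) [AddCommGroup V] [Module K V] [FiniteDimensional K V]
      (_ : finrank K V = n) (f : V →ₗ[K] V) (_ : IsNilpotent f),
      ∃ b : Basis (Fin n) K V, ∀ j, f (b j) ∈ Submodule.span K (b '' {i | j < i}) := by
  intro n
  induction n with
  | zero =>
    intro V _ _ _ hn f hf
    exact ⟨Module.finBasisOfFinrankEq K V hn, fun j => j.elim0⟩
  | succ n ih =>
    intro V _ _ _ hn f hf
    have hnt : Nontrivial V := Module.nontrivial_of_finrank_pos (R := K) (by omega)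
    have hrange : LinearMap.range f < ⊤ := by
      rw [lt_top_iff_ne_top]
      intro htop
      obtain ⟨k, hk⟩ := hf
      have hsurj : Function.Surjective f := LinearMap.range_eq_top.mp htop
      have hsurjk : Function.Surjective (f ^ k) := by
        rw [Module.End.coe_pow]
        exact hsurj.iterate k
      obtain ⟨v, hv⟩ := exists_ne (0 : V)
      obtain ⟨w, hw⟩ := hsurjk v
      rw [hk] at hw
      exact hv hw.symm
    obtain ⟨φ, hφ0, hφ⟩ := Submodule.exists_le_ker_of_lt_top _ hrange
    have hφsurj : Function.Surjective φ := by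
      obtain ⟨v, hv⟩ : ∃ v, φ v ≠ 0 := by
        by_contra hcon
        exact hφ0 (LinearMap.ext fun v => not_not.mp fun hv => hcon ⟨v, hv⟩)
      intro c
      exact ⟨(c / φ v) • v, by simp [hv]⟩
    have hdim : finrank K (LinearMap.ker φ) = n := by
      have h1 := LinearMap.finrank_range_add_finrank_ker φ
      rw [LinearMap.range_eq_top.mpr hφsurj, finrank_top, Module.finrank_self, hn] at h1
      omega
    have hmaps : Set.MapsTo f (LinearMap.ker φ) (LinearMap.ker φ) := by
      intro x _
      exact hφ (LinearMap.mem_range_self f x)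
    obtain ⟨b', hb'⟩ := ih (LinearMap.ker φ) hdim (f.restrict hmaps)
      (Module.End.isNilpotent.restrict hmaps hf)
    obtain ⟨y, hy⟩ : ∃ y, φ y ≠ 0 := by
      by_contra hcon
      exact hφ0 (LinearMap.ext fun v => not_not.mp fun hv => hcon ⟨v, hv⟩)
    have hli : ∀ (c : K), ∀ x ∈ LinearMap.ker φ, c • y + x = 0 → c = 0 := by
      intro c x hx hc
      have := congrArg φ hc
      rw [map_add, map_smul, LinearMap.mem_ker.mp hx, add_zero, map_zero, smul_eq_mul] at this
      exact (mul_eq_zero.mp this).resolve_right hy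
    have hsp : ∀ z : V, ∃ c : K, z + c • y ∈ LinearMap.ker φ := by
      intro z
      refine ⟨-(φ z / φ y), ?_⟩
      rw [LinearMap.mem_ker, map_add, map_smul, smul_eq_mul]
      field_simp
      ring
    refine ⟨Basis.mkFinCons y b' hli hsp, ?_⟩
    have hcoe : (Basis.mkFinCons y b' hli hsp : Fin (n + 1) → V) = Fin.cons y ((↑) ∘ b') :=
      Basis.coe_mkFinCons y b' hli hsp
    intro j
    rw [hcoe]
    refine Fin.cases ?_ (fun j' => ?_) j
    · -- `f y ∈ ker φ = span of the b' i`
      rw [Fin.cons_zero]
      have h1 : f y ∈ LinearMap.ker φ := hφ (LinearMap.mem_range_self f y)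
      have h2 : (LinearMap.ker φ) = Submodule.span K (Set.range ((↑) ∘ b' : Fin n → V)) := by
        rw [Set.range_comp]
        change _ = Submodule.span K ((LinearMap.ker φ).subtype '' Set.range b')
        rw [Submodule.span_image, b'.span_eq, Submodule.map_subtype_top]
      rw [h2] at h1
      refine Submodule.span_mono ?_ h1
      rintro _ ⟨i, rfl⟩
      exact ⟨i.succ, Fin.succ_pos i, by simp⟩
    · rw [Fin.cons_succ]
      have h1 := hb' j'
      have h2 : f ((b' j' : V)) = ((f.restrict hmaps (b' j') : LinearMap.ker φ) : V) := rfl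
      change f ((b' j' : V)) ∈ _
      rw [h2]
      have h3 : ((f.restrict hmaps (b' j') : LinearMap.ker φ) : V) ∈
          (Submodule.span K (b' '' {i | j' < i})).map (LinearMap.ker φ).subtype :=
        ⟨_, h1, rfl⟩
      rw [Submodule.map_span] at h3
      refine Submodule.span_mono ?_ h3
      rintro _ ⟨_, ⟨i, hi, rfl⟩, rfl⟩
      exact ⟨i.succ, Fin.succ_lt_succ_iff.mpr hi, by simp⟩

theorem exists_conj_lower {K : Type u} [Field K] {n : ℕ} (M : Matrix (Fin n) (Fin n) K)
    (hM : IsNilpotent M) :
    ∃ (P L : Matrix (Fin n) (Fin n) K), IsUnit P.det ∧ (∀ i j, i ≤ j → L i j = 0) ∧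
      M * P = P * L := by
  classical
  obtain ⟨b, hb⟩ := exists_basis_lower K n (Fin n → K) (Module.finrank_fin_fun K)
    (Matrix.toLin' M) ((Matrix.isNilpotent_toLin'_iff M).mpr hM)
  refine ⟨(Pi.basisFun K (Fin n)).toMatrix b, LinearMap.toMatrix b b (Matrix.toLin' M), ?_, ?_, ?_⟩
  · exact Matrix.isUnit_det_of_right_inverse
      (Basis.toMatrix_mul_toMatrix_flip (Pi.basisFun K (Fin n)) b)
  · intro i j hij
    rw [LinearMap.toMatrix_apply]
    have h := (Basis.mem_span_image b).mp (hb j)
    by_contra hne
    have hi : i ∈ (b.repr (Matrix.toLin' M (b j))).support := Finsupp.mem_support_iff.mpr hne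
    have : j < i := h hi
    omega
  · have h1 : LinearMap.toMatrix (Pi.basisFun K (Fin n)) (Pi.basisFun K (Fin n))
        (Matrix.toLin' M) = M := by
      rw [LinearMap.toMatrix_eq_toMatrix', LinearMap.toMatrix'_toLin']
    conv_lhs => rw [← h1]
    rw [linearMap_toMatrix_mul_basis_toMatrix, basis_toMatrix_mul_linearMap_toMatrix]

end Groth.Agent.Lib.NilTriang89
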