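import Mathlib
import Groth.Agent.Lib.NilTriang89
import Groth.Agent.Lib.FTDim

/-!
# The nilpotent cone is irreducible of dimension `n² - n` (helper89)

Namespace `Groth.Agent.Lib.NilCone89`.
-/

set_option autoImplicit false
set_option linter.style.haveILetI false
universe u

namespace Groth.Agent.Lib.NilCone89

open MvPolynomial Matrix

section param

variable (k : Type u) [Field k] (n : ℕ)

/-- the generic matrix `G` in the first set of variables. -/
noncomputable def G : Matrix (Fin n) (Fin n) (MvPolynomial ((Fin n × Fin n) ⊕ (Fin n × Fin n)) k) :=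
  Matrix.of fun i j => X (Sum.inl (i, j))

/-- the generic strictly lower triangular matrix in the second set of variables. -/
noncomputable def Lm : Matrix (Fin n) (Fin n) (MvPolynomial ((Fin n × Fin n) ⊕ (Fin n × Fin n)) k) :=
  Matrix.of fun i j => if j < i then X (Sum.inr (i, j)) else 0

/-- `G * L * adj G`. -/
noncomputable def Nm : Matrix (Fin n) (Fin n) (MvPolynomial ((Fin n × Fin n) ⊕ (Fin n × Fin n)) k) :=
  G k n * Lm k n * (G k n).adjugate

/-- the parametrization `x_ij ↦ (G L adj G)_ij`. -/
noncomputable def phi : MvPolynomial (Fin n × Fin n) k →ₐ[k]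
    MvPolynomial ((Fin n × Fin n) ⊕ (Fin n × Fin n)) k :=
  aeval fun p => Nm k n p.1 p.2

theorem charpoly_Nm : (Nm k n).charpoly = Polynomial.X ^ n := by
  unfold Nm
  rw [Matrix.mul_assoc, Matrix.charpoly_mul_comm, Matrix.mul_assoc, Matrix.adjugate_mul,
    Matrix.mul_smul, Matrix.mul_one, ← Matrix.charpoly_transpose,
    Matrix.charpoly_of_isUpperTriangular]
  · have : ∀ i : Fin n, ((G k n).det • Lm k n)ᵀ i i = 0 := by
      intro i
      simp [Lm]
    simp only [this, map_zero, sub_zero, Finset.prod_const, Finset.card_univ, Fintype.card_fin]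
  · intro i j hij
    simp only [id_eq] at hij
    have h : ¬ i < j := not_lt.mpr hij.le
    simp [Lm, h]

theorem map_phi_mvPolynomialX : (mvPolynomialX (Fin n) (Fin n) k).map (phi k n) = Nm k n := by
  ext i j
  simp [phi, mvPolynomialX_apply]

theorem phi_coeff_charpoly (i : ℕ) (hi : i < n) :
    phi k n ((Matrix.charpoly (mvPolynomialX (Fin n) (Fin n) k)).coeff i) = 0 := by
  have h1 : ((mvPolynomialX (Fin n) (Fin n) k).map (phi k n).toRingHom).charpoly =
      (mvPolynomialX (Fin n) (Fin n) k).charpoly.map (phi k n).toRingHom :=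
    Matrix.charpoly_map _ _
  have h2 : (mvPolynomialX (Fin n) (Fin n) k).map (phi k n).toRingHom = Nm k n :=
    map_phi_mvPolynomialX k n
  rw [h2, charpoly_Nm] at h1
  have h3 := congrArg (fun p => Polynomial.coeff p i) h1
  simp only [Polynomial.coeff_map, Polynomial.coeff_X_pow] at h3
  rw [if_neg (by omega)] at h3
  exact h3.symm

end param

section points

variable {k : Type u} [Field k] {n : ℕ}

/-- the matrix of a point of affine `n²`-space. -/
def matOf (a : Fin n × Fin n → k) : Matrix (Fin n) (Fin n) k := Matrix.of fun i j => a (i, j)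

theorem map_aeval_mvPolynomialX (a : Fin n × Fin n → k) :
    (mvPolynomialX (Fin n) (Fin n) k).map (aeval a : MvPolynomial (Fin n × Fin n) k →ₐ[k] k) =
      matOf a := by
  ext i j
  simp [matOf, mvPolynomialX_apply]

theorem charpoly_matOf (a : Fin n × Fin n → k)
    (ha : ∀ i : ℕ, i < n → aeval a ((Matrix.charpoly (mvPolynomialX (Fin n) (Fin n) k)).coeff i) = 0) :
    (matOf a).charpoly = Polynomial.X ^ n := by
  have h1 : ((mvPolynomialX (Fin n) (Fin n) k).map
      (aeval a : MvPolynomial (Fin n × Fin n) k →ₐ[k] k).toRingHom).charpoly =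
      (mvPolynomialX (Fin n) (Fin n) k).charpoly.map
        (aeval a : MvPolynomial (Fin n × Fin n) k →ₐ[k] k).toRingHom :=
    Matrix.charpoly_map _ _
  have h2 : (mvPolynomialX (Fin n) (Fin n) k).map
      (aeval a : MvPolynomial (Fin n × Fin n) k →ₐ[k] k).toRingHom = matOf a :=
    map_aeval_mvPolynomialX a
  rw [h2] at h1
  have hdeg : (matOf a).charpoly.natDegree = n := by
    rw [Matrix.charpoly_natDegree_eq_dim, Fintype.card_fin]
  have hmonic : (matOf a).charpoly.Monic := Matrix.charpoly_monic _
  ext j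
  rw [Polynomial.coeff_X_pow]
  rcases lt_trichotomy j n with hj | hj | hj
  · rw [if_neg (by omega), h1, Polynomial.coeff_map]
    exact ha j hj
  · rw [if_pos hj]
    have := hmonic.coeff_natDegree
    rw [hdeg] at this
    rw [hj]
    exact this
  · rw [if_neg (by omega)]
    exact Polynomial.coeff_eq_zero_of_natDegree_lt (by omega)

theorem matOf_pow_eq_zero (a : Fin n × Fin n → k)
    (ha : ∀ i : ℕ, i < n → aeval a ((Matrix.charpoly (mvPolynomialX (Fin n) (Fin n) k)).coeff i) = 0) :
    (matOf a) ^ n = 0 := by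
  have h := Matrix.aeval_self_charpoly (matOf a)
  rwa [charpoly_matOf a ha, map_pow, Polynomial.aeval_X] at h

theorem exists_point (a : Fin n × Fin n → k)
    (ha : ∀ i : ℕ, i < n → aeval a ((Matrix.charpoly (mvPolynomialX (Fin n) (Fin n) k)).coeff i) = 0) :
    ∃ c : (Fin n × Fin n) ⊕ (Fin n × Fin n) → k,
      ∀ f : MvPolynomial (Fin n × Fin n) k, aeval c (phi k n f) = aeval a f := by
  obtain ⟨P, L, hP, hL, hML⟩ := Groth.Agent.Lib.NilTriang89.exists_conj_lower (matOf a)
    ⟨n, matOf_pow_eq_zero a ha⟩
  have hdet : P.det ≠ 0 := hP.ne_zero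
  let c : (Fin n × Fin n) ⊕ (Fin n × Fin n) → k :=
    Sum.elim (fun p => P p.1 p.2) (fun p => (P.det)⁻¹ * L p.1 p.2)
  refine ⟨c, ?_⟩
  have hG : (G k n).map (aeval c : MvPolynomial ((Fin n × Fin n) ⊕ (Fin n × Fin n)) k →ₐ[k] k) =
      P := by
    ext i j
    simp [G, c]
  have hLm : (Lm k n).map (aeval c : MvPolynomial ((Fin n × Fin n) ⊕ (Fin n × Fin n)) k →ₐ[k] k) =
      (P.det)⁻¹ • L := by
    ext i j
    by_cases hji : j < i
    · simp [Lm, c, hji]
    · simp [Lm, c, hji, hL i j (not_lt.mp hji)]
  have hN : (Nm k n).map (aeval c : MvPolynomial ((Fin n × Fin n) ⊕ (Fin n × Fin n)) k →ₐ[k] k) =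
      matOf a := by
    have hadj : ((G k n).adjugate).map
        (aeval c : MvPolynomial ((Fin n × Fin n) ⊕ (Fin n × Fin n)) k →ₐ[k] k) = P.adjugate := by
      have := RingHom.map_adjugate
        (aeval c : MvPolynomial ((Fin n × Fin n) ⊕ (Fin n × Fin n)) k →ₐ[k] k).toRingHom (G k n)
      simp only [RingHom.mapMatrix_apply] at this
      rw [show ((G k n).adjugate).map
        (aeval c : MvPolynomial ((Fin n × Fin n) ⊕ (Fin n × Fin n)) k →ₐ[k] k) =
        ((G k n).adjugate).map
        (aeval c : MvPolynomial ((Fin n × Fin n) ⊕ (Fin n × Fin n)) k →ₐ[k] k).toRingHom from rfl,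
        this]
      congr 1
    unfold Nm
    rw [Matrix.map_mul, Matrix.map_mul, hG, hLm, hadj, Matrix.mul_smul, Matrix.smul_mul, ← hML,
      Matrix.mul_assoc, Matrix.mul_adjugate, Matrix.mul_smul, Matrix.mul_one, smul_smul,
      inv_mul_cancel₀ hdet, one_smul]
  have hcomp : (aeval c : MvPolynomial ((Fin n × Fin n) ⊕ (Fin n × Fin n)) k →ₐ[k] k).comp
      (phi k n) = aeval a := by
    apply MvPolynomial.algHom_ext
    intro p
    rw [AlgHom.comp_apply, phi, aeval_X, aeval_X]
    have := congrFun (congrFun hN p.1) p.2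
    simpa [matOf] using this
  intro f
  rw [← hcomp]
  rfl

end points

section general

variable {k : Type u} [Field k] {n : ℕ}

/-- a ring map killing the lower coefficients of the generic characteristic polynomial sends the
generic matrix to a matrix with vanishing `n`-th power. -/
theorem map_pow_eq_zero {S : Type*} [CommRing S] (ψ : MvPolynomial (Fin n × Fin n) k →+* S)
    (hψ : ∀ i : ℕ, i < n → ψ ((Matrix.charpoly (mvPolynomialX (Fin n) (Fin n) k)).coeff i) = 0) :
    ((mvPolynomialX (Fin n) (Fin n) k).map ψ) ^ n = 0 := by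
  rcases subsingleton_or_nontrivial S with hS | hS
  · exact Subsingleton.elim _ _
  have h1 : ((mvPolynomialX (Fin n) (Fin n) k).map ψ).charpoly =
      (mvPolynomialX (Fin n) (Fin n) k).charpoly.map ψ := Matrix.charpoly_map _ _
  have hdeg : ((mvPolynomialX (Fin n) (Fin n) k).map ψ).charpoly.natDegree = n := by
    rw [Matrix.charpoly_natDegree_eq_dim, Fintype.card_fin]
  have hmonic : ((mvPolynomialX (Fin n) (Fin n) k).map ψ).charpoly.Monic :=
    Matrix.charpoly_monic _
  have hchar : ((mvPolynomialX (Fin n) (Fin n) k).map ψ).charpoly = Polynomial.X ^ n := by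
    ext j
    rw [Polynomial.coeff_X_pow]
    rcases lt_trichotomy j n with hj | hj | hj
    · rw [if_neg (by omega), h1, Polynomial.coeff_map]
      exact hψ j hj
    · rw [if_pos hj]
      have := hmonic.coeff_natDegree
      rw [hdeg] at this
      rw [hj]
      exact this
    · rw [if_neg (by omega)]
      exact Polynomial.coeff_eq_zero_of_natDegree_lt (by omega)
  have h := Matrix.aeval_self_charpoly ((mvPolynomialX (Fin n) (Fin n) k).map ψ)
  rwa [hchar, map_pow, Polynomial.aeval_X] at h

end general

theorem arith (x : WithBot ℕ∞) (h : ℕ∞) (n m : ℕ) (h3 : (h : WithBot ℕ∞) + x = (m : ℕ))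
    (h4 : h ≤ n) (h5 : x ≤ ((m - n : ℕ) : WithBot ℕ∞)) : x = ((m - n : ℕ) : WithBot ℕ∞) := by
  induction x using WithBot.recBotCoe with
  | bot => simp at h3
  | coe x =>
    induction x using ENat.recTopCoe with
    | top =>
      exfalso
      have h'' : ((⊤ : ℕ∞) : WithBot ℕ∞) ≤ (((m - n : ℕ) : ℕ∞) : WithBot ℕ∞) := h5
      rw [WithBot.coe_le_coe, top_le_iff] at h''
      exact ENat.top_ne_natCast _ h''.symm
    | coe x =>
      induction h using ENat.recTopCoe with
      | top =>
        exfalso
        rw [top_le_iff] at h4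
        exact ENat.top_ne_natCast _ h4.symm
      | coe a =>
        have h3' : a + x = m := by exact_mod_cast h3
        have h4' : a ≤ n := by exact_mod_cast h4
        have h5'' : (((x : ℕ) : ℕ∞) : WithBot ℕ∞) ≤ (((m - n : ℕ) : ℕ∞) : WithBot ℕ∞) := h5
        have h5' : x ≤ m - n := by
          rw [WithBot.coe_le_coe] at h5''
          exact_mod_cast h5''
        have : x = m - n := by omega
        rw [this]
        rfl

section main

variable (k : Type u) [Field k] (n : ℕ)

/-- the ideal of the nilpotent cone. -/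
noncomputable def I : Ideal (MvPolynomial (Fin n × Fin n) k) :=
  Ideal.span (Set.range (fun i : Fin n =>
    (Matrix.charpoly (Matrix.mvPolynomialX (Fin n) (Fin n) k)).coeff (i : ℕ)))

theorem coeff_mem_I (i : ℕ) (hi : i < n) :
    (Matrix.charpoly (Matrix.mvPolynomialX (Fin n) (Fin n) k)).coeff i ∈ I k n :=
  Ideal.subset_span ⟨⟨i, hi⟩, rfl⟩

theorem I_le_ker : I k n ≤ RingHom.ker (phi k n) := by
  unfold I
  rw [Ideal.span_le]
  rintro _ ⟨i, rfl⟩
  exact phi_coeff_charpoly k n i i.2

instance : (RingHom.ker (phi k n)).IsPrime := RingHom.ker_isPrime _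

theorem radical_I [IsAlgClosed k] : (I k n).radical = RingHom.ker (phi k n) := by
  apply le_antisymm
  · rw [(Ideal.IsPrime.isRadical inferInstance).radical_le_iff]
    exact I_le_ker k n
  · rw [← MvPolynomial.vanishingIdeal_zeroLocus_eq_radical (K := k)]
    intro f hf
    rw [MvPolynomial.mem_vanishingIdeal_iff]
    intro a ha
    rw [MvPolynomial.mem_zeroLocus_iff] at ha
    obtain ⟨c, hc⟩ := exists_point a (fun i hi => ha _ (coeff_mem_I k n i hi))
    rw [← hc f]
    have : phi k n f = 0 := hf
    rw [this, map_zero]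

theorem irreducibleSpace [IsAlgClosed k] :
    IrreducibleSpace (PrimeSpectrum (MvPolynomial (Fin n × Fin n) k ⧸ I k n)) := by
  rw [PrimeSpectrum.irreducibleSpace_iff_isPrime_nilradical]
  have h1 : nilradical (MvPolynomial (Fin n × Fin n) k ⧸ I k n) =
      (I k n).radical.map (Ideal.Quotient.mk (I k n)) := by
    rw [Ideal.map_radical_of_surjective Ideal.Quotient.mk_surjective (by rw [Ideal.mk_ker]),
      Ideal.map_quotient_self]
    rfl
  rw [h1, radical_I]
  exact Ideal.map_isPrime_of_surjective Ideal.Quotient.mk_surjective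
    (by rw [Ideal.mk_ker]; exact I_le_ker k n)

/-- the maximal ideal of the origin. -/
noncomputable def m0 : Ideal (MvPolynomial (Fin n × Fin n) k) :=
  RingHom.ker (aeval (0 : Fin n × Fin n → k) : MvPolynomial (Fin n × Fin n) k →ₐ[k] k)

instance : (m0 k n).IsMaximal :=
  RingHom.ker_isMaximal_of_surjective _ (fun c => ⟨C c, by simp⟩)

theorem X_mem_m0 (p : Fin n × Fin n) : (X p : MvPolynomial (Fin n × Fin n) k) ∈ m0 k n := by
  change aeval (0 : Fin n × Fin n → k) (X p) = 0
  simp

theorem m0_eq_span : m0 k n = Ideal.span (Set.range (X : Fin n × Fin n → _)) := by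
  apply le_antisymm
  · intro f hf
    have h1 : f ∈ MvPolynomial.idealOfVars (Fin n × Fin n) k ^ 1 := by
      rw [MvPolynomial.mem_pow_idealOfVars_iff']
      intro x hx
      have hx0 : x = 0 := by
        ext i
        have : x.degree = 0 := by omega
        have h2 := (Finsupp.degree_eq_zero_iff x).mp this
        rw [h2]
      subst hx0
      have : aeval (0 : Fin n × Fin n → k) f = 0 := hf
      rw [MvPolynomial.aeval_zero] at this
      simpa [MvPolynomial.constantCoeff_eq] using this
    rwa [pow_one] at h1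
  · rw [Ideal.span_le]
    rintro _ ⟨p, rfl⟩
    exact X_mem_m0 k n p

theorem I_le_m0 : I k n ≤ m0 k n := by
  unfold I
  rw [Ideal.span_le]
  rintro _ ⟨i, rfl⟩
  change aeval (0 : Fin n × Fin n → k) _ = 0
  have h1 : ((mvPolynomialX (Fin n) (Fin n) k).map
      (aeval (0 : Fin n × Fin n → k) : MvPolynomial (Fin n × Fin n) k →ₐ[k] k).toRingHom).charpoly =
      (mvPolynomialX (Fin n) (Fin n) k).charpoly.map
        (aeval (0 : Fin n × Fin n → k) : MvPolynomial (Fin n × Fin n) k →ₐ[k] k).toRingHom :=
    Matrix.charpoly_map _ _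
  have h2 : (mvPolynomialX (Fin n) (Fin n) k).map
      (aeval (0 : Fin n × Fin n → k) : MvPolynomial (Fin n × Fin n) k →ₐ[k] k).toRingHom = 0 := by
    ext i j
    simp [mvPolynomialX_apply]
  rw [h2, Matrix.charpoly_zero] at h1
  have h3 := congrArg (fun p => Polynomial.coeff p (i : ℕ)) h1
  simp only [Polynomial.coeff_map, Polynomial.coeff_X_pow, Fintype.card_fin] at h3
  rw [if_neg (by omega)] at h3
  exact h3.symm

open scoped Classical in
/-- the off-diagonal variables. -/
noncomputable def offDiagVars : Finset (MvPolynomial (Fin n × Fin n) k) :=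
  (Finset.univ : Finset (Fin n)).offDiag.image X

theorem card_offDiagVars_le : (offDiagVars k n).card ≤ n * n - n := by
  classical
  unfold offDiagVars
  refine Finset.card_image_le.trans ?_
  rw [Finset.offDiag_card, Finset.card_univ, Fintype.card_fin]

/-- the `n`-th power of a diagonal variable lies in `I + (off-diagonal variables)`. -/
theorem X_diag_pow_mem (i : Fin n) :
    (X (i, i) : MvPolynomial (Fin n × Fin n) k) ^ n ∈ I k n ⊔ Ideal.span (offDiagVars k n) := by
  have h := map_pow_eq_zero (Ideal.Quotient.mk (I k n ⊔ Ideal.span (offDiagVars k n : Set _)))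
    (fun j hj => Ideal.Quotient.eq_zero_iff_mem.mpr
      (Ideal.mem_sup_left (coeff_mem_I k n j hj)))
  have hdiag : (mvPolynomialX (Fin n) (Fin n) k).map
      (Ideal.Quotient.mk (I k n ⊔ Ideal.span (offDiagVars k n : Set _))) =
      Matrix.diagonal (fun i => Ideal.Quotient.mk (I k n ⊔ Ideal.span (offDiagVars k n : Set _))
        (X (i, i))) := by
    ext a b
    by_cases hab : a = b
    · subst hab
      simp [mvPolynomialX_apply]
    · rw [Matrix.diagonal_apply_ne _ hab, Matrix.map_apply, mvPolynomialX_apply,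
        Ideal.Quotient.eq_zero_iff_mem]
      apply Ideal.mem_sup_right
      apply Ideal.subset_span
      unfold offDiagVars
      classical
      rw [Finset.coe_image]
      exact ⟨(a, b), by simp [hab], rfl⟩
  rw [hdiag, Matrix.diagonal_pow] at h
  have h2 := congrFun (congrFun h i) i
  rw [Matrix.diagonal_apply_eq, Matrix.zero_apply, Pi.pow_apply, ← map_pow,
    Ideal.Quotient.eq_zero_iff_mem] at h2
  exact h2

theorem ker_le_m0 [IsAlgClosed k] : RingHom.ker (phi k n) ≤ m0 k n := by
  rw [← radical_I]
  exact (Ideal.IsPrime.isRadical (Ideal.IsMaximal.isPrime inferInstance)).radical_le_iff.mpr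
    (I_le_m0 k n)

theorem height_ker_le [IsAlgClosed k] : (RingHom.ker (phi k n)).height ≤ n := by
  classical
  have hmin : RingHom.ker (phi k n) ∈ (I k n).minimalPrimes := by
    refine ⟨⟨inferInstance, I_le_ker k n⟩, ?_⟩
    rintro Q ⟨hQ, hIQ⟩ _
    rw [← radical_I]
    exact hQ.isRadical.radical_le_iff.mpr hIQ
  have hI : I k n = Ideal.span ((Finset.univ.image (fun i : Fin n =>
      (Matrix.charpoly (Matrix.mvPolynomialX (Fin n) (Fin n) k)).coeff (i : ℕ)) :
        Finset (MvPolynomial (Fin n × Fin n) k)) : Set (MvPolynomial (Fin n × Fin n) k)) := by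
    rw [Finset.coe_image, Finset.coe_univ, Set.image_univ]
    rfl
  rw [hI] at hmin
  refine (Ideal.height_le_card_of_mem_minimalPrimes_span_finset hmin).trans ?_
  have := Finset.card_image_le (s := (Finset.univ : Finset (Fin n))) (f := fun i : Fin n =>
      (Matrix.charpoly (Matrix.mvPolynomialX (Fin n) (Fin n) k)).coeff (i : ℕ))
  rw [Finset.card_univ, Fintype.card_fin] at this
  exact_mod_cast this

theorem ringKrullDim_quotient_ker_le [IsAlgClosed k] :
    ringKrullDim (MvPolynomial (Fin n × Fin n) k ⧸ RingHom.ker (phi k n)) ≤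
      ((n * n - n : ℕ) : WithBot ℕ∞) := by
  classical
  have hle := ker_le_m0 k n
  haveI hprime : ((m0 k n).map (Ideal.Quotient.mk (RingHom.ker (phi k n)))).IsPrime :=
    Ideal.map_isPrime_of_surjective Ideal.Quotient.mk_surjective (by rw [Ideal.mk_ker]; exact hle)
  have h1 := Groth.Agent.Lib.FTDim.height_add_ringKrullDim_quotient k
    (MvPolynomial (Fin n × Fin n) k ⧸ RingHom.ker (phi k n))
    ((m0 k n).map (Ideal.Quotient.mk (RingHom.ker (phi k n))))
  have h0 : ringKrullDim ((MvPolynomial (Fin n × Fin n) k ⧸ RingHom.ker (phi k n)) ⧸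
      (m0 k n).map (Ideal.Quotient.mk (RingHom.ker (phi k n)))) = 0 := by
    rw [ringKrullDim_eq_of_ringEquiv (DoubleQuot.quotQuotEquivQuotOfLE hle)]
    letI := Ideal.Quotient.field (m0 k n)
    exact ringKrullDim_eq_zero_of_field _
  rw [h0, add_zero] at h1
  rw [← h1]
  -- the image of `m0` is minimal over the images of the off-diagonal variables
  have hmin : (m0 k n).map (Ideal.Quotient.mk (RingHom.ker (phi k n))) ∈
      (Ideal.span (((offDiagVars k n).image (Ideal.Quotient.mk (RingHom.ker (phi k n))) :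
        Finset (MvPolynomial (Fin n × Fin n) k ⧸ RingHom.ker (phi k n))) :
          Set (MvPolynomial (Fin n × Fin n) k ⧸ RingHom.ker (phi k n)))).minimalPrimes := by
    have hspan_le : ∀ J : Ideal (MvPolynomial (Fin n × Fin n) k ⧸ RingHom.ker (phi k n)),
        (∀ p : Fin n × Fin n, p.1 ≠ p.2 → Ideal.Quotient.mk (RingHom.ker (phi k n)) (X p) ∈ J) →
        Ideal.span (((offDiagVars k n).image (Ideal.Quotient.mk (RingHom.ker (phi k n))) :
          Finset (MvPolynomial (Fin n × Fin n) k ⧸ RingHom.ker (phi k n))) :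
            Set (MvPolynomial (Fin n × Fin n) k ⧸ RingHom.ker (phi k n))) ≤ J := by
      intro J hJ
      rw [Ideal.span_le, Finset.coe_image]
      rintro _ ⟨f, hf, rfl⟩
      unfold offDiagVars at hf
      rw [Finset.mem_coe, Finset.mem_image] at hf
      obtain ⟨p, hp, rfl⟩ := hf
      rw [Finset.mem_offDiag] at hp
      exact hJ p hp.2.2
    refine ⟨⟨hprime, ?_⟩, ?_⟩
    · apply hspan_le
      intro p _
      exact Ideal.mem_map_of_mem _ (X_mem_m0 k n p)
    · rintro Q ⟨hQ, hsQ⟩ _
      rw [m0_eq_span, Ideal.map_span, Ideal.span_le]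
      rintro _ ⟨_, ⟨p, rfl⟩, rfl⟩
      by_cases hp : p.1 = p.2
      · obtain ⟨i, j⟩ := p
        simp only at hp
        subst hp
        apply hQ.mem_of_pow_mem n
        rw [← map_pow]
        have h2 := Ideal.mem_map_of_mem (Ideal.Quotient.mk (RingHom.ker (phi k n)))
          (X_diag_pow_mem k n i)
        rw [Ideal.map_sup, Ideal.map_span] at h2
        have h3 : (I k n).map (Ideal.Quotient.mk (RingHom.ker (phi k n))) = ⊥ := by
          rw [Ideal.map_eq_bot_iff_le_ker, Ideal.mk_ker]
          exact I_le_ker k n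
        rw [h3, bot_sup_eq, ← Finset.coe_image] at h2
        exact hsQ h2
      · apply hsQ
        apply Ideal.subset_span
        rw [Finset.coe_image]
        refine ⟨X p, ?_, rfl⟩
        unfold offDiagVars
        rw [Finset.coe_image]
        exact ⟨p, by simp [hp], rfl⟩
  have h4 := Ideal.height_le_card_of_mem_minimalPrimes_span_finset hmin
  have h5 : ((offDiagVars k n).image (Ideal.Quotient.mk (RingHom.ker (phi k n)))).card ≤
      n * n - n := Finset.card_image_le.trans (card_offDiagVars_le k n)
  have h6 : ((m0 k n).map (Ideal.Quotient.mk (RingHom.ker (phi k n)))).height ≤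
      ((n * n - n : ℕ) : ℕ∞) := h4.trans (by exact_mod_cast h5)
  exact WithBot.coe_le_coe.mpr h6

theorem ringKrullDim_quotient_I [IsAlgClosed k] :
    ringKrullDim (MvPolynomial (Fin n × Fin n) k ⧸ I k n) = ((n * n - n : ℕ) : WithBot ℕ∞) := by
  have h1 : ringKrullDim (MvPolynomial (Fin n × Fin n) k ⧸ I k n) =
      ringKrullDim (MvPolynomial (Fin n × Fin n) k ⧸ RingHom.ker (phi k n)) := by
    rw [ringKrullDim_quotient, ringKrullDim_quotient, ← radical_I, PrimeSpectrum.zeroLocus_radical]
  rw [h1]
  have h3 := Groth.Agent.Lib.FTDim.height_add_ringKrullDim_quotient k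
    (MvPolynomial (Fin n × Fin n) k) (RingHom.ker (phi k n))
  have hdimR : ringKrullDim (MvPolynomial (Fin n × Fin n) k) = ((n * n : ℕ) : WithBot ℕ∞) := by
    rw [MvPolynomial.ringKrullDim_of_isNoetherianRing, ringKrullDim_eq_zero_of_field, zero_add,
      Nat.card_eq_fintype_card, Fintype.card_prod, Fintype.card_fin]
  rw [hdimR] at h3
  have h4 := height_ker_le k n
  have h5 := ringKrullDim_quotient_ker_le k n
  exact arith _ _ n (n * n) h3 h4 h5

end main

end Groth.Agent.Lib.NilCone89
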