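import Mathlib

/-!
# Lifting density along a nilpotent thickening with free graded pieces (helper88)

Pure algebra behind SGA3 IX 4.? (schematic density of a family lifts from `A/J` to `A` when `J` is
nilpotent with `J^k/J^(k+1)` free over `A/J`):

* `eq_zero_of_forall_map_eq_zero`: `J` nilpotent ideal of `A` with `(A/J) ⊗ J^k` free over `A/J`,
  `φ c : M →ₗ[A] N c` a family of maps into flat `A`-modules which is "jointly injective modulo
  `J`"; then the family is jointly injective.
-/

set_option autoImplicit false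

open TensorProduct

namespace Groth.Agent.Lib.NilDense88

universe u v w

variable {A : Type u} [CommRing A] (J : Ideal A)

section Basic

variable (M : Type v) [AddCommGroup M] [Module A M]

/-- The multiplication map `J^k ⊗ M → M`. -/
noncomputable def mu (k : ℕ) : ↥(J ^ k) ⊗[A] M →ₗ[A] M :=
  (TensorProduct.lid A M).toLinearMap ∘ₗ LinearMap.rTensor M (Submodule.subtype (J ^ k))

@[simp]
theorem mu_tmul (k : ℕ) (x : ↥(J ^ k)) (m : M) : mu J M k (x ⊗ₜ m) = (x : A) • m := by
  simp [mu]

theorem mu_injective [Module.Flat A M] (k : ℕ) : Function.Injective (mu J M k) := by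
  unfold mu
  rw [LinearMap.coe_comp]
  exact (TensorProduct.lid A M).injective.comp
    (Module.Flat.rTensor_preserves_injective_linearMap _ Subtype.val_injective)

/-- The inclusion `J^(k+1) → J^k`. -/
def incl (k : ℕ) : ↥(J ^ (k + 1)) →ₗ[A] ↥(J ^ k) :=
  Submodule.inclusion (Ideal.pow_le_pow_right k.le_succ)

theorem mu_incl (k : ℕ) (τ : ↥(J ^ (k + 1)) ⊗[A] M) :
    mu J M k (LinearMap.rTensor M (incl J k) τ) = mu J M (k + 1) τ := by
  induction τ using TensorProduct.induction_on with
  | zero => simp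
  | tmul x m => simp [incl]
  | add x y hx hy => simp only [map_add, hx, hy]

variable {M}

theorem one_tmul_eq_zero_iff (m : M) :
    (1 : A ⧸ J) ⊗ₜ[A] m = 0 ↔ m ∈ J • (⊤ : Submodule A M) := by
  rw [← (TensorProduct.quotTensorEquivQuotSMul M J).map_eq_zero_iff,
    TensorProduct.quotTensorEquivQuotSMul_mk_one_tmul, Submodule.Quotient.mk_eq_zero]

theorem exists_one_tmul (t : (A ⧸ J) ⊗[A] M) : ∃ m : M, t = (1 : A ⧸ J) ⊗ₜ[A] m := by
  induction t using TensorProduct.induction_on with
  | zero => exact ⟨0, by simp⟩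
  | tmul a m =>
    obtain ⟨a, rfl⟩ := Ideal.Quotient.mk_surjective a
    refine ⟨a • m, ?_⟩
    rw [← TensorProduct.smul_tmul]
    congr 1
    rw [← Ideal.Quotient.algebraMap_eq, Algebra.algebraMap_eq_smul_one]
  | add x y hx hy =>
    obtain ⟨m, rfl⟩ := hx
    obtain ⟨m', rfl⟩ := hy
    exact ⟨m + m', by rw [TensorProduct.tmul_add]⟩

end Basic

section Exact

/-- The map `J^k → (A/J) ⊗ J^k`. -/
noncomputable def mkq (k : ℕ) : ↥(J ^ k) →ₗ[A] (A ⧸ J) ⊗[A] ↥(J ^ k) :=
  TensorProduct.mk A (A ⧸ J) ↥(J ^ k) 1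

theorem mkq_apply (k : ℕ) (x : ↥(J ^ k)) : mkq J k x = (1 : A ⧸ J) ⊗ₜ[A] x := rfl

theorem mkq_surjective (k : ℕ) : Function.Surjective (mkq J k) := by
  intro t
  obtain ⟨m, rfl⟩ := exists_one_tmul J t
  exact ⟨m, rfl⟩

theorem mem_smul_top_iff (k : ℕ) (x : ↥(J ^ k)) :
    x ∈ J • (⊤ : Submodule A ↥(J ^ k)) ↔ (x : A) ∈ J ^ (k + 1) := by
  have h : Submodule.map (Submodule.subtype (J ^ k)) (J • (⊤ : Submodule A ↥(J ^ k))) =
      J ^ (k + 1) := by
    rw [Submodule.map_smul'', Submodule.map_top, Submodule.range_subtype, pow_succ', smul_eq_mul]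
  constructor
  · intro hx
    rw [← h]
    exact ⟨x, hx, rfl⟩
  · intro hx
    rw [← h] at hx
    obtain ⟨y, hy, hyx⟩ := hx
    have : y = x := Subtype.ext hyx
    rwa [← this]

theorem exact_incl_mkq (k : ℕ) : Function.Exact (incl J k) (mkq J k) := by
  intro x
  rw [mkq_apply, one_tmul_eq_zero_iff, mem_smul_top_iff]
  constructor
  · intro hx
    exact ⟨⟨x, hx⟩, Subtype.ext rfl⟩
  · rintro ⟨y, rfl⟩
    exact y.2

end Exact

section Coord

variable {F : Type v} [AddCommGroup F] [Module A F] [Module (A ⧸ J) F] [IsScalarTower A (A ⧸ J) F]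
  {M : Type w} [AddCommGroup M] [Module A M]

/-- An element of `F ⊗ M`, `F` free over `A/J`, vanishes as soon as all its coordinates do. -/
theorem eq_zero_of_coord {ι : Type*} (b : Module.Basis ι (A ⧸ J) F) (θ : F ⊗[A] M)
    (h : ∀ i, LinearMap.rTensor M ((b.coord i).restrictScalars A) θ = 0) : θ = 0 := by
  classical
  set e : F ≃ₗ[A] (ι →₀ A ⧸ J) := b.repr.restrictScalars A with he
  have h1 : TensorProduct.finsuppLeft A A (A ⧸ J) M ι (LinearMap.rTensor M e.toLinearMap θ) = 0 := by
    ext i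
    rw [TensorProduct.finsuppLeft_apply, ← LinearMap.comp_apply, ← LinearMap.rTensor_comp]
    have : Finsupp.lapply i ∘ₗ e.toLinearMap = (b.coord i).restrictScalars A := by
      ext x
      rfl
    rw [this, h i]
    rfl
  have h2 : LinearMap.rTensor M e.toLinearMap θ = 0 :=
    (TensorProduct.finsuppLeft A A (A ⧸ J) M ι).injective (by rw [h1, map_zero])
  have h3 : Function.Injective (LinearMap.rTensor M e.toLinearMap) := by
    have : LinearMap.rTensor M e.toLinearMap = (e.rTensor M).toLinearMap := rfl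
    rw [this]
    exact (e.rTensor M).injective
  exact h3 (by rw [h2, map_zero])

end Coord

section Main

variable {J}

/-- **Key lemma.** `J` nilpotent with `(A/J) ⊗ J^k` free over `A/J` for all `k`; a family of maps
`φ c : M → N c` into flat modules which is jointly injective modulo `J` is jointly injective. -/
theorem eq_zero_of_forall_map_eq_zero (hJ : IsNilpotent J)
    (hfree : ∀ k : ℕ, Module.Free (A ⧸ J) ((A ⧸ J) ⊗[A] ↥(J ^ k)))
    {M : Type v} [AddCommGroup M] [Module A M] {κ : Type*} (N : κ → Type w)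
    [∀ c, AddCommGroup (N c)] [∀ c, Module A (N c)] [∀ c, Module.Flat A (N c)]
    (φ : ∀ c, M →ₗ[A] N c)
    (h0 : ∀ m : M, (∀ c, φ c m ∈ J • (⊤ : Submodule A (N c))) → m ∈ J • (⊤ : Submodule A M))
    (t : M) (ht : ∀ c, φ c t = 0) : t = 0 := by
  obtain ⟨n, hn⟩ := hJ
  have key : ∀ k : ℕ, ∃ τ : ↥(J ^ k) ⊗[A] M, mu J M k τ = t := by
    intro k
    induction k with
    | zero => exact ⟨⟨1, by simp⟩ ⊗ₜ t, by simp⟩
    | succ k ih =>
      obtain ⟨τ, hτ⟩ := ih
      have h1 : ∀ c, LinearMap.lTensor ↥(J ^ k) (φ c) τ = 0 := by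
        intro c
        apply mu_injective J (N c) k
        rw [map_zero]
        have : ∀ σ : ↥(J ^ k) ⊗[A] M,
            mu J (N c) k (LinearMap.lTensor ↥(J ^ k) (φ c) σ) = φ c (mu J M k σ) := by
          intro σ
          induction σ using TensorProduct.induction_on with
          | zero => simp
          | tmul x m => simp
          | add x y hx hy => simp only [map_add, hx, hy]
        rw [this, hτ, ht]
      have h2 : LinearMap.rTensor M (mkq J k) τ = 0 := by
        haveI := hfree k
        refine eq_zero_of_coord J (Module.Free.chooseBasis (A ⧸ J) ((A ⧸ J) ⊗[A] ↥(J ^ k))) _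
          fun α => ?_
        set cα : ↥(J ^ k) →ₗ[A] A ⧸ J :=
          ((Module.Free.chooseBasis (A ⧸ J) ((A ⧸ J) ⊗[A] ↥(J ^ k))).coord α).restrictScalars A ∘ₗ
            mkq J k with hcα
        rw [← LinearMap.comp_apply, ← LinearMap.rTensor_comp, ← hcα]
        obtain ⟨m, hm⟩ := exists_one_tmul J (LinearMap.rTensor M cα τ)
        have hmJ : m ∈ J • (⊤ : Submodule A M) := by
          refine h0 m fun c => ?_
          rw [← one_tmul_eq_zero_iff]
          have : (1 : A ⧸ J) ⊗ₜ[A] φ c m =
              LinearMap.lTensor (A ⧸ J) (φ c) (LinearMap.rTensor M cα τ) := by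
            rw [hm, LinearMap.lTensor_tmul]
          rw [this, ← LinearMap.comp_apply, LinearMap.lTensor_comp_rTensor,
            ← LinearMap.rTensor_comp_lTensor, LinearMap.comp_apply, h1 c, map_zero]
        rw [hm, one_tmul_eq_zero_iff]
        exact hmJ
      obtain ⟨τ', hτ'⟩ := (rTensor_exact M (exact_incl_mkq J k) (mkq_surjective J k) τ).mp h2
      exact ⟨τ', by rw [← mu_incl, hτ', hτ]⟩
  obtain ⟨τ, hτ⟩ := key n
  have hsub : Subsingleton ↥(J ^ n) := by
    rw [hn, Ideal.zero_eq_bot]
    infer_instance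
  rw [← hτ, Subsingleton.elim τ 0, map_zero]

end Main

end Groth.Agent.Lib.NilDense88
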