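import Groth.Agent.Lib.NilDense88

/-!
# SGA3 IX: schematic density of a family lifts along a nilpotent thickening of the base (helper88)

`A` a ring, `J` a nilpotent ideal with `J^k/J^(k+1)` free over `A/J`, `p : X ⟶ Spec A`,
`v i : Z i ⟶ X` with all `Z i` flat over `A`.  If the family of reductions modulo `J` is
schematically dense, so is the family `(v i)`.

* `chartHom`: the ring map `A → Γ(X, W)`.
* `mem_map_of_fst_app_eq_zero`: `ker (Γ(X, W) → Γ(X ×_A A/J, pr₁⁻¹ W)) ⊆ J Γ(X, W)` for affine `W`.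
* `fst_app_eq_zero_of_mem_map`: the converse inclusion, any open.
* `eq_zero_of_forall_app_eq_zero`: the main statement.
-/

set_option autoImplicit false
set_option maxHeartbeats 400000
set_option linter.style.haveILetI false

namespace Groth.Agent.Lib.NilDenseSch88

open AlgebraicGeometry CategoryTheory Limits TopologicalSpace TensorProduct

universe u

section Chart

variable {Y : Scheme.{u}} (A : CommRingCat.{u}) (π : Y ⟶ Spec A) (J : Ideal ↑A)

/-- The structure ring map `A → Γ(Y, U)`. -/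
noncomputable def chartHom (U : Y.Opens) : ↑A →+* Γ(Y, U) :=
  (π.appLE ⊤ U le_top).hom.comp (Scheme.ΓSpecIso A).inv.hom

/-- The closed immersion `Spec (A/J) ⟶ Spec A`. -/
noncomputable abbrev quo : Spec (CommRingCat.of (↑A ⧸ J)) ⟶ Spec A :=
  Spec.map (CommRingCat.ofHom (Ideal.Quotient.mk J))

theorem chart_comm (U : Y.Opens) :
    (Scheme.ΓSpecIso A).inv ≫ π.appLE ⊤ U le_top ≫ (pullback.fst π (quo A J)).app U =
      CommRingCat.ofHom (Ideal.Quotient.mk J) ≫ (Scheme.ΓSpecIso (CommRingCat.of (↑A ⧸ J))).inv ≫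
        (pullback.snd π (quo A J)).appLE ⊤ (pullback.fst π (quo A J) ⁻¹ᵁ U) le_top := by
  have h1 : π.appLE ⊤ U le_top ≫ (pullback.fst π (quo A J)).app U =
      (quo A J).appLE ⊤ ⊤ le_top ≫
        (pullback.snd π (quo A J)).appLE ⊤ (pullback.fst π (quo A J) ⁻¹ᵁ U) le_top := by
    rw [← Scheme.Hom.appLE_eq_app, Scheme.Hom.appLE_comp_appLE, Scheme.Hom.appLE_comp_appLE]
    congr 1
    exact pullback.condition
  rw [h1, ← Category.assoc, ← Category.assoc]
  congr 1
  have h2 : (quo A J).appLE ⊤ ⊤ le_top = (quo A J).appTop := Scheme.Hom.appLE_eq_app (quo A J)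
  rw [h2]
  exact (Scheme.ΓSpecIso_inv_naturality (CommRingCat.ofHom (Ideal.Quotient.mk J))).symm

/-- Sections in `J Γ(Y, U)` die on the reduction modulo `J`. -/
theorem fst_app_eq_zero_of_mem_map (U : Y.Opens) (n : Γ(Y, U))
    (hn : n ∈ Ideal.map (chartHom A π U) J) :
    (pullback.fst π (quo A J)).app U n = 0 := by
  have hle : Ideal.map (chartHom A π U) J ≤ RingHom.ker ((pullback.fst π (quo A J)).app U).hom := by
    rw [Ideal.map_le_iff_le_comap]
    intro a ha
    rw [Ideal.mem_comap, RingHom.mem_ker]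
    have := congrArg (fun φ => φ.hom a) (chart_comm A π J U)
    simp only [CommRingCat.hom_comp, RingHom.coe_comp, Function.comp_apply,
      CommRingCat.hom_ofHom] at this
    rw [chartHom, RingHom.comp_apply]
    rw [this, (Ideal.Quotient.eq_zero_iff_mem).mpr ha, map_zero, map_zero]
  exact hle hn

/-- The pushout square of a chart of the reduction modulo `J`. -/
theorem isPushout_chart {U : Y.Opens} (hU : IsAffineOpen U) :
    IsPushout ((Scheme.ΓSpecIso A).inv ≫ π.appLE ⊤ U le_top)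
      (CommRingCat.ofHom (Ideal.Quotient.mk J))
      ((pullback.fst π (quo A J)).app U)
      ((Scheme.ΓSpecIso (CommRingCat.of (↑A ⧸ J))).inv ≫
        (pullback.snd π (quo A J)).appLE ⊤ (pullback.fst π (quo A J) ⁻¹ᵁ U) le_top) := by
  have H : IsPullback (pullback.fst π (quo A J)) (pullback.snd π (quo A J)) π (quo A J) :=
    IsPullback.of_hasPullback _ _
  have hUY : pullback.fst π (quo A J) ⁻¹ᵁ U =
      pullback.fst π (quo A J) ⁻¹ᵁ U ⊓ pullback.snd π (quo A J) ⁻¹ᵁ ⊤ := by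
    simp
  have hiso := isIso_pushoutSection_of_isAffineOpen H (US := ⊤) (UT := ⊤) (UX := U)
    le_top le_top hUY (isAffineOpen_top _) (isAffineOpen_top _) hU
  have sq := (isIso_pushoutSection_iff H (US := ⊤) (UT := ⊤) (UX := U) le_top le_top hUY).mp hiso
  refine sq.of_iso (Scheme.ΓSpecIso A) (Iso.refl _) (Scheme.ΓSpecIso _) (Iso.refl _) ?_ ?_ ?_ ?_
  · simp
  · have h2 : (quo A J).appLE ⊤ ⊤ le_top = (quo A J).appTop := Scheme.Hom.appLE_eq_app (quo A J)
    rw [h2]
    exact Scheme.ΓSpecIso_naturality (CommRingCat.ofHom (Ideal.Quotient.mk J))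
  · simp [Scheme.Hom.appLE_eq_app]
  · simp

/-- For an affine chart, the kernel of the reduction modulo `J` is `J Γ(Y, U)`. -/
theorem mem_map_of_fst_app_eq_zero {U : Y.Opens} (hU : IsAffineOpen U) (m : Γ(Y, U))
    (hm : (pullback.fst π (quo A J)).app U m = 0) :
    m ∈ Ideal.map (chartHom A π U) J := by
  have sq := isPushout_chart A π J hU
  letI : Algebra ↑A Γ(Y, U) := (chartHom A π U).toAlgebra
  letI : Algebra Γ(Y, U) Γ(pullback π (quo A J), pullback.fst π (quo A J) ⁻¹ᵁ U) :=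
    ((pullback.fst π (quo A J)).app U).hom.toAlgebra
  letI : Algebra (↑A ⧸ J) Γ(pullback π (quo A J), pullback.fst π (quo A J) ⁻¹ᵁ U) :=
    ((Scheme.ΓSpecIso (CommRingCat.of (↑A ⧸ J))).inv ≫
      (pullback.snd π (quo A J)).appLE ⊤ (pullback.fst π (quo A J) ⁻¹ᵁ U) le_top).hom.toAlgebra
  letI : Algebra ↑A Γ(pullback π (quo A J), pullback.fst π (quo A J) ⁻¹ᵁ U) :=
    (((Scheme.ΓSpecIso A).inv ≫ π.appLE ⊤ U le_top) ≫
      (pullback.fst π (quo A J)).app U).hom.toAlgebra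
  haveI : IsScalarTower ↑A Γ(Y, U) Γ(pullback π (quo A J), pullback.fst π (quo A J) ⁻¹ᵁ U) :=
    .of_algebraMap_eq' rfl
  haveI : IsScalarTower ↑A (↑A ⧸ J) Γ(pullback π (quo A J), pullback.fst π (quo A J) ⁻¹ᵁ U) :=
    .of_algebraMap_eq' (congrArg CommRingCat.Hom.hom sq.w)
  haveI : Algebra.IsPushout ↑A (↑A ⧸ J) Γ(Y, U)
      Γ(pullback π (quo A J), pullback.fst π (quo A J) ⁻¹ᵁ U) :=
    CommRingCat.isPushout_iff_isPushout.mp sq.flip
  have hb : IsBaseChange (↑A ⧸ J) (IsScalarTower.toAlgHom ↑A Γ(Y, U)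
      Γ(pullback π (quo A J), pullback.fst π (quo A J) ⁻¹ᵁ U)).toLinearMap :=
    Algebra.IsPushout.out
  have h1 : hb.equiv ((1 : ↑A ⧸ J) ⊗ₜ[↑A] m) = 0 := by
    rw [IsBaseChange.equiv_tmul, one_smul]
    exact hm
  have h2 : (1 : ↑A ⧸ J) ⊗ₜ[↑A] m = 0 := hb.equiv.injective (by rw [h1, map_zero])
  have h3 := (Groth.Agent.Lib.NilDense88.one_tmul_eq_zero_iff J m).mp h2
  rw [Ideal.smul_top_eq_map] at h3
  exact h3

end Chart

section Main

variable {X : Scheme.{u}} (A : CommRingCat.{u}) (p : X ⟶ Spec A) (J : Ideal ↑A)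

theorem chartHom_comp {Z : Scheme.{u}} (v : Z ⟶ X) (W : X.Opens) (V' : Z.Opens)
    (hle : V' ≤ v ⁻¹ᵁ W) :
    (v.appLE W V' hle).hom.comp (chartHom A p W) = chartHom A (v ≫ p) V' := by
  unfold chartHom
  rw [← RingHom.comp_assoc, ← CommRingCat.hom_comp, Scheme.Hom.appLE_comp_appLE]

theorem flat_chartHom [Flat p] {W : X.Opens} (hW : IsAffineOpen W) : (chartHom A p W).Flat := by
  unfold chartHom
  refine RingHom.Flat.comp ?_ (Flat.flat_appLE p (isAffineOpen_top _) hW le_top)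
  exact RingHom.Flat.of_bijective (ConcreteCategory.bijective_of_isIso (Scheme.ΓSpecIso A).inv)

/-- Chart form of the main statement. -/
theorem eq_zero_of_forall_app_eq_zero_of_isAffineOpen
    (hJ : IsNilpotent J) (hfree : ∀ k : ℕ, Module.Free (↑A ⧸ J) ((↑A ⧸ J) ⊗[↑A] ↥(J ^ k)))
    {ι : Type u} (Z : ι → Scheme.{u}) (v : ∀ i, Z i ⟶ X) [∀ i, Flat (v i ≫ p)]
    (h0 : ∀ (V : (pullback p (Spec.map (CommRingCat.ofHom (Ideal.Quotient.mk J)))).Opens) (t : Γ(pullback p (Spec.map (CommRingCat.ofHom (Ideal.Quotient.mk J))), V)),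
      (∀ i, (pullback.map (v i ≫ p) (Spec.map (CommRingCat.ofHom (Ideal.Quotient.mk J))) p (Spec.map (CommRingCat.ofHom (Ideal.Quotient.mk J))) (v i) (𝟙 _) (𝟙 _)
        (Category.comp_id _) ((Category.comp_id _).trans (Category.id_comp _).symm)).app V t = 0) → t = 0)
    {W : X.Opens} (hW : IsAffineOpen W) (t : Γ(X, W)) (ht : ∀ i, (v i).app W t = 0) : t = 0 := by
  classical
  letI algW : Algebra ↑A Γ(X, W) := (chartHom A p W).toAlgebra
  let κ := Σ i : ι, {V' : (Z i).Opens // IsAffineOpen V' ∧ V' ≤ (v i) ⁻¹ᵁ W}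
  let N : κ → Type u := fun c => Γ(Z c.1, c.2.1)
  letI algN : ∀ c : κ, Algebra ↑A (N c) := fun c => (chartHom A (v c.1 ≫ p) c.2.1).toAlgebra
  haveI flatN : ∀ c : κ, Module.Flat ↑A (N c) := fun c => flat_chartHom A (v c.1 ≫ p) c.2.2.1
  let φ : ∀ c : κ, Γ(X, W) →ₗ[↑A] N c := fun c =>
    { toFun := ((v c.1).appLE W c.2.1 c.2.2.2).hom
      map_add' := map_add _
      map_smul' := by
        intro a m
        rw [RingHom.id_apply, Algebra.smul_def, Algebra.smul_def, map_mul]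
        congr 1
        exact congrArg (fun ψ => ψ a) (chartHom_comp A p (v c.1) W c.2.1 c.2.2.2) }
  refine Groth.Agent.Lib.NilDense88.eq_zero_of_forall_map_eq_zero hJ hfree N φ ?_ t ?_
  · -- density modulo `J`
    intro m hm
    rw [Ideal.smul_top_eq_map]
    refine mem_map_of_fst_app_eq_zero A p J hW m ?_
    refine h0 _ _ fun i => ?_
    set v₀ := pullback.map (v i ≫ p) (Spec.map (CommRingCat.ofHom (Ideal.Quotient.mk J))) p
      (Spec.map (CommRingCat.ofHom (Ideal.Quotient.mk J))) (v i) (𝟙 _) (𝟙 _)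
      (Category.comp_id _) ((Category.comp_id _).trans (Category.id_comp _).symm) with hv₀
    have e : v₀ ≫ pullback.fst p (quo A J) = pullback.fst (v i ≫ p) (quo A J) ≫ v i :=
      pullback.lift_fst _ _ _
    refine (pullback (v i ≫ p) (quo A J)).IsSheaf.section_ext fun z hz => ?_
    have hz' : (v i) (pullback.fst (v i ≫ p) (quo A J) z) ∈ W := by
      have h1 : (v₀ ≫ pullback.fst p (quo A J)) z ∈ W := hz
      rw [e] at h1
      exact h1
    obtain ⟨V', hV', hzV', hV'le⟩ := Opens.isBasis_iff_nbhd.mp (Z i).isBasis_affineOpens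
      (show pullback.fst (v i ≫ p) (quo A J) z ∈ (v i) ⁻¹ᵁ W from hz')
    have hle : pullback.fst (v i ≫ p) (quo A J) ⁻¹ᵁ V' ≤
        v₀ ⁻¹ᵁ pullback.fst p (quo A J) ⁻¹ᵁ W := by
      intro y hy
      have h1 : (pullback.fst (v i ≫ p) (quo A J) ≫ v i) y ∈ W := hV'le hy
      rw [← e] at h1
      exact h1
    refine ⟨pullback.fst (v i ≫ p) (quo A J) ⁻¹ᵁ V', hle, hzV', ?_⟩
    rw [map_zero]
    have hcongr : ∀ (f g : pullback (v i ≫ p) (quo A J) ⟶ X) (h : f = g)
        (e1 : pullback.fst (v i ≫ p) (quo A J) ⁻¹ᵁ V' ≤ f ⁻¹ᵁ W)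
        (e2 : pullback.fst (v i ≫ p) (quo A J) ⁻¹ᵁ V' ≤ g ⁻¹ᵁ W),
        f.appLE W _ e1 = g.appLE W _ e2 := by
      intro f g h e1 e2
      subst h
      rfl
    have hc : (pullback.fst p (quo A J)).app W ≫
        v₀.appLE (pullback.fst p (quo A J) ⁻¹ᵁ W) (pullback.fst (v i ≫ p) (quo A J) ⁻¹ᵁ V') hle =
        (v i).appLE W V' hV'le ≫ (pullback.fst (v i ≫ p) (quo A J)).app V' := by
      rw [← Scheme.Hom.appLE_eq_app, ← Scheme.Hom.appLE_eq_app, Scheme.Hom.appLE_comp_appLE,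
        Scheme.Hom.appLE_comp_appLE]
      exact hcongr _ _ e _ _
    have hc' := congrArg (fun ψ => ψ.hom m) hc
    simp only [CommRingCat.hom_comp, RingHom.coe_comp, Function.comp_apply] at hc'
    change (v₀.appLE (pullback.fst p (quo A J) ⁻¹ᵁ W)
      (pullback.fst (v i ≫ p) (quo A J) ⁻¹ᵁ V') hle).hom
        (((pullback.fst p (quo A J)).app W).hom m) = 0
    rw [hc']
    refine fst_app_eq_zero_of_mem_map A (v i ≫ p) J V' _ ?_
    have h2 := hm ⟨i, ⟨V', hV', hV'le⟩⟩
    rw [Ideal.smul_top_eq_map] at h2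
    exact h2
  · intro c
    change ((v c.1).appLE W c.2.1 c.2.2.2).hom t = 0
    rw [Scheme.Hom.appLE, CommRingCat.comp_apply, ht c.1, map_zero]

/-- **SGA3 IX (nilpotent thickening of the base).**  Schematic density of the family of reductions
modulo a nilpotent ideal `J` with free graded pieces implies schematic density of the family. -/
theorem eq_zero_of_forall_app_eq_zero
    (hJ : IsNilpotent J) (hfree : ∀ k : ℕ, Module.Free (↑A ⧸ J) ((↑A ⧸ J) ⊗[↑A] ↥(J ^ k)))
    {ι : Type u} (Z : ι → Scheme.{u}) (v : ∀ i, Z i ⟶ X) [∀ i, Flat (v i ≫ p)]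
    (h0 : ∀ (V : (pullback p (Spec.map (CommRingCat.ofHom (Ideal.Quotient.mk J)))).Opens) (t : Γ(pullback p (Spec.map (CommRingCat.ofHom (Ideal.Quotient.mk J))), V)),
      (∀ i, (pullback.map (v i ≫ p) (Spec.map (CommRingCat.ofHom (Ideal.Quotient.mk J))) p (Spec.map (CommRingCat.ofHom (Ideal.Quotient.mk J))) (v i) (𝟙 _) (𝟙 _)
        (Category.comp_id _) ((Category.comp_id _).trans (Category.id_comp _).symm)).app V t = 0) → t = 0)
    (V : X.Opens) (t : Γ(X, V)) (ht : ∀ i, (v i).app V t = 0) : t = 0 := by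
  refine X.IsSheaf.section_ext fun x hx => ?_
  obtain ⟨W, hW, hxW, hWV⟩ := Opens.isBasis_iff_nbhd.mp X.isBasis_affineOpens
    (show x ∈ V from hx)
  refine ⟨W, hWV, hxW, ?_⟩
  rw [map_zero]
  refine eq_zero_of_forall_app_eq_zero_of_isAffineOpen A p J hJ hfree Z v h0 hW _ fun i => ?_
  have hnat : X.presheaf.map (homOfLE hWV).op ≫ (v i).app W =
      (v i).app V ≫ (Z i).presheaf.map (homOfLE ((v i).preimage_mono hWV)).op :=
    (v i).naturality (homOfLE hWV).op
  have := congrArg (fun ψ => ψ.hom t) hnat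
  simp only [CommRingCat.hom_comp, RingHom.coe_comp, Function.comp_apply] at this
  rw [this, ht i, map_zero]

end Main

end Groth.Agent.Lib.NilDenseSch88
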