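import Mathlib
import Groth.Agent.Lib.NilNakayama

/-!
# Finite type modulo a finitely generated nilpotent ideal

If `I` is a finitely generated nilpotent ideal of an `R`-algebra `A` and `A ⧸ I` is of finite
type over `R`, then `A` is of finite type over `R`.
-/

namespace Groth.Agent.Lib.NilFiniteType

open Groth.Agent.Lib

theorem finiteType_of_quotient {R A : Type*} [CommRing R] [CommRing A] [Algebra R A]
    (I : Ideal A) (hfg : I.FG) (hnil : IsNilpotent I) [hq : Algebra.FiniteType R (A ⧸ I)] :
    Algebra.FiniteType R A := by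
  classical
  obtain ⟨s, hs⟩ := hq.out
  obtain ⟨u, hu⟩ := hfg
  let lift : A ⧸ I → A := Function.surjInv Ideal.Quotient.mk_surjective
  have hlift : ∀ x, Ideal.Quotient.mk I (lift x) = x :=
    Function.surjInv_eq Ideal.Quotient.mk_surjective
  let t : Finset A := s.image lift
  let B : Subalgebra R A := Algebra.adjoin R ((t ∪ u : Finset A) : Set A)
  suffices hB : B = ⊤ by
    refine ⟨⟨t ∪ u, hB⟩⟩
  -- `A` as a `B`-module
  let N : Submodule B A := LinearMap.range (Algebra.linearMap B A)
  have huB : ∀ y ∈ u, y ∈ B := fun y hy =>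
    Algebra.subset_adjoin (by simp [hy])
  let J : Ideal B := Ideal.span {b : B | (b : A) ∈ u}
  have hJmap : J.map (algebraMap B A) = I := by
    rw [Ideal.map_span, ← hu]
    congr 1
    ext y
    constructor
    · rintro ⟨b, hb, rfl⟩
      exact hb
    · intro hy
      exact ⟨⟨y, huB y hy⟩, hy, rfl⟩
  have hJnil : IsNilpotent J := by
    obtain ⟨n, hn⟩ := hnil
    refine ⟨n, ?_⟩
    have h1 : (J ^ n).map (algebraMap B A) = ⊥ := by
      rw [Ideal.map_pow, hJmap, hn, Ideal.zero_eq_bot]
    rw [Ideal.zero_eq_bot, eq_bot_iff]
    intro b hb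
    have h2 : algebraMap B A b ∈ (J ^ n).map (algebraMap B A) := Ideal.mem_map_of_mem _ hb
    rw [h1, Ideal.mem_bot] at h2
    rw [Ideal.mem_bot]
    exact Subtype.ext h2
  have hN : N = ⊤ := by
    apply NilNakayama.eq_top_of_top_le_sup_smul J hJnil
    intro a _
    -- find `b ∈ adjoin R t` with the same image as `a` in `A ⧸ I`
    have h1 : (Algebra.adjoin R (t : Set A)).map (Ideal.Quotient.mkₐ R I) = ⊤ := by
      rw [AlgHom.map_adjoin, ← hs]
      congr 1
      ext x
      simp only [Finset.coe_image, Set.mem_image, Finset.mem_coe, t]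
      constructor
      · rintro ⟨_, ⟨y, hy, rfl⟩, rfl⟩
        rw [Ideal.Quotient.mkₐ_eq_mk, hlift]; exact hy
      · intro hx
        exact ⟨lift x, ⟨x, hx, rfl⟩, by rw [Ideal.Quotient.mkₐ_eq_mk, hlift]⟩
    have h2 : Ideal.Quotient.mkₐ R I a ∈
        (Algebra.adjoin R (t : Set A)).map (Ideal.Quotient.mkₐ R I) := by
      rw [h1]; trivial
    obtain ⟨b, hb, hba⟩ := h2
    have hbB : b ∈ B := by
      refine Algebra.adjoin_mono ?_ hb
      simp
    have h3 : a - b ∈ I := by
      rw [← Ideal.Quotient.eq]
      exact hba.symm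
    have h4 : a - b ∈ J • (⊤ : Submodule B A) := by
      rw [← hu] at h3
      refine Submodule.span_induction (p := fun x _ => x ∈ J • (⊤ : Submodule B A))
        ?_ ?_ ?_ ?_ h3
      · intro y hy
        have : y = (⟨y, huB y hy⟩ : B) • (1 : A) := by
          rw [Algebra.smul_def, mul_one]; rfl
        rw [this]
        exact Submodule.smul_mem_smul (Ideal.subset_span hy) trivial
      · exact Submodule.zero_mem _
      · intro x y _ _ hx hy
        exact Submodule.add_mem _ hx hy
      · intro c x _ hx
        -- `c • x = c * x`, and `J • ⊤` is stable under multiplication by `A`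
        refine Submodule.smul_induction_on hx ?_ ?_
        · intro r hr m _
          have : c • (r • m) = r • (c * m) := by
            rw [Algebra.smul_def, Algebra.smul_def, Algebra.smul_def, Algebra.algebraMap_self,
              RingHom.id_apply]
            ring
          rw [this]
          exact Submodule.smul_mem_smul hr trivial
        · intro x y hx hy
          rw [smul_add]
          exact Submodule.add_mem _ hx hy
    have : a = b + (a - b) := by ring
    rw [this]
    exact Submodule.add_mem_sup ⟨⟨b, hbB⟩, rfl⟩ h4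
  rw [eq_top_iff]
  intro a _
  have : a ∈ N := by rw [hN]; trivial
  obtain ⟨b, rfl⟩ := this
  exact b.2

/-- Ring hom version. -/
theorem ringHom_finiteType_of_comp_mk {R A : Type*} [CommRing R] [CommRing A] (φ : R →+* A)
    (I : Ideal A) (hfg : I.FG) (hnil : IsNilpotent I)
    (h : ((Ideal.Quotient.mk I).comp φ).FiniteType) : φ.FiniteType := by
  algebraize [φ]
  have hq : Algebra.FiniteType R (A ⧸ I) := by
    have e : (Ideal.Quotient.algebra R : Algebra R (A ⧸ I)) =
        ((Ideal.Quotient.mk I).comp φ).toAlgebra :=
      Algebra.algebra_ext _ _ (fun r => rfl)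
    change @Algebra.FiniteType R (A ⧸ I) _ _ (Ideal.Quotient.algebra R)
    rw [e]
    exact h
  exact finiteType_of_quotient I hfg hnil

/-- For an Artinian local ring `A`, a ring map `R → A` is of finite type as soon as the
composite to the residue field is. -/
theorem finiteType_of_residue {R A : Type*} [CommRing R] [CommRing A] [IsArtinianRing A]
    [IsLocalRing A] (φ : R →+* A) (h : ((IsLocalRing.residue A).comp φ).FiniteType) :
    φ.FiniteType := by
  have hnil : IsNilpotent (IsLocalRing.maximalIdeal A) := by
    have := IsArtinianRing.isNilpotent_jacobson_bot (R := A)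
    rwa [IsLocalRing.jacobson_eq_maximalIdeal ⊥ bot_ne_top] at this
  exact ringHom_finiteType_of_comp_mk φ (IsLocalRing.maximalIdeal A)
    (IsNoetherian.noetherian _) hnil h

end Groth.Agent.Lib.NilFiniteType
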