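/-
Modules that are free modulo a nilpotent ideal: the least ideal modulo which they become
free / flat (EGA IV 11.4.3).
Author: helper89
-/
import Groth.Agent.Lib.AdicSys
import Mathlib.RingTheory.TensorProduct.Basic
import Mathlib.RingTheory.TensorProduct.Free
import Mathlib.LinearAlgebra.TensorProduct.RightExactness
import Mathlib.LinearAlgebra.TensorProduct.Quotient
import Mathlib.RingTheory.Flat.Basic

set_option autoImplicit false

namespace Groth.Agent.Lib.NilFree

open TensorProduct Groth.Agent.Lib.AdicSys

section Abs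

variable {A : Type*} [CommRing A] (J : Ideal A) {M : Type*} [AddCommGroup M] [Module A M]
  {X : Type*}

/-- A linear functional with values in `A ⧸ J` kills `J • ⊤`. -/
theorem apply_eq_zero_of_mem_smul_top (g : M →ₗ[A] A ⧸ J) {y : M}
    (hy : y ∈ (J • ⊤ : Submodule A M)) : g y = 0 := by
  refine Submodule.smul_induction_on hy ?_ ?_
  · intro a ha y _
    rw [map_smul, Algebra.smul_def, Ideal.Quotient.algebraMap_eq,
      Ideal.Quotient.eq_zero_iff_mem.mpr ha, zero_mul]
  · intro x y hx hy
    rw [map_add, hx, hy, add_zero]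

/-- Evaluating a functional of a dual family on a linear combination. -/
theorem apply_linearCombination [DecidableEq X] (m : X → M) (f : X → (M →ₗ[A] A ⧸ J))
    (hf : ∀ x y, f x (m y) = if x = y then 1 else 0) (c : X →₀ A) (z : X) :
    f z (Finsupp.linearCombination A m c) = Ideal.Quotient.mk J (c z) := by
  induction c using Finsupp.induction_linear with
  | zero => simp
  | add c c' hc hc' => rw [map_add, map_add, hc, hc', Finsupp.add_apply, map_add]
  | single y a =>
    rw [Finsupp.linearCombination_single, map_smul, hf, Finsupp.single_apply]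
    by_cases h : z = y
    · subst h
      rw [if_pos rfl, if_pos rfl, Algebra.smul_def, mul_one]
      rfl
    · rw [if_neg h, if_neg (Ne.symm h), smul_zero, map_zero]

/-- A family in a flat module over a ring with nilpotent ideal `J`, which spans and admits a dual
family of functionals modulo `J`, is a basis. -/
theorem bijective_of_flat [DecidableEq X] [Module.Flat A M] (n : ℕ) (hJ : J ^ n = ⊥) (m : X → M)
    (f : X → (M →ₗ[A] A ⧸ J))
    (hsurj : Function.Surjective (Finsupp.linearCombination A m))
    (hf : ∀ x y, f x (m y) = if x = y then 1 else 0) :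
    Function.Bijective (Finsupp.linearCombination A m) := by
  refine bijective_linearCombination_of_flat J n hJ m ?_ ?_
  · rw [← Finsupp.range_linearCombination, LinearMap.range_eq_top.mpr hsurj, top_sup_eq]
  · intro c hc z
    have h1 := apply_eq_zero_of_mem_smul_top J (f z) hc
    rw [apply_linearCombination J m f hf] at h1
    exact Ideal.Quotient.eq_zero_iff_mem.mp h1

end Abs

section BaseChange

variable {A : Type*} [CommRing A] (J : Ideal A) {M : Type*} [AddCommGroup M] [Module A M]
  {X : Type*} (A' : Type*) [CommRing A'] [Algebra A A']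

/-- Base change of a linear combination. -/
theorem linearCombination_mapRange (m : X → M) (c : X →₀ A) :
    Finsupp.linearCombination A' (fun x => (1 : A') ⊗ₜ[A] m x)
      (Finsupp.mapRange (algebraMap A A') (map_zero _) c) =
      (1 : A') ⊗ₜ[A] Finsupp.linearCombination A m c := by
  induction c using Finsupp.induction_linear with
  | zero => simp
  | add c c' hc hc' =>
    rw [Finsupp.mapRange_add (by simp), map_add, map_add, hc, hc', TensorProduct.tmul_add]
  | single x a =>
    rw [Finsupp.mapRange_single, Finsupp.linearCombination_single,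
      Finsupp.linearCombination_single, TensorProduct.tmul_smul, algebraMap_smul]

/-- Base change of a spanning family spans. -/
theorem surjective_linearCombination_baseChange (m : X → M)
    (hsurj : Function.Surjective (Finsupp.linearCombination A m)) :
    Function.Surjective (Finsupp.linearCombination A' (fun x => (1 : A') ⊗ₜ[A] m x)) := by
  intro t
  induction t using TensorProduct.induction_on with
  | zero => exact ⟨0, map_zero _⟩
  | tmul a y =>
    obtain ⟨c, rfl⟩ := hsurj y
    refine ⟨a • Finsupp.mapRange (algebraMap A A') (map_zero _) c, ?_⟩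
    rw [map_smul, linearCombination_mapRange, TensorProduct.smul_tmul', smul_eq_mul, mul_one]
  | add t t' ht ht' =>
    obtain ⟨c, rfl⟩ := ht
    obtain ⟨c', rfl⟩ := ht'
    exact ⟨c + c', map_add _ _ _⟩

/-- The map `A ⧸ J → A' ⧸ J A'`. -/
noncomputable def quotMap : A ⧸ J →ₗ[A] A' ⧸ J.map (algebraMap A A') :=
  (Ideal.quotientMapₐ (J.map (algebraMap A A')) (Algebra.ofId A A')
    (Ideal.le_comap_map)).toLinearMap

theorem quotMap_one : quotMap J A' 1 = 1 := by
  show (Ideal.quotientMapₐ (J.map (algebraMap A A')) (Algebra.ofId A A')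
    (Ideal.le_comap_map)) 1 = 1
  exact map_one _

/-- Base change of a dual family. -/
noncomputable def dualBaseChange (f : X → (M →ₗ[A] A ⧸ J)) (x : X) :
    A' ⊗[A] M →ₗ[A'] A' ⧸ J.map (algebraMap A A') :=
  LinearMap.liftBaseChange A' (quotMap J A' ∘ₗ f x)

theorem dualBaseChange_apply [DecidableEq X] (m : X → M) (f : X → (M →ₗ[A] A ⧸ J))
    (hf : ∀ x y, f x (m y) = if x = y then 1 else 0) (x y : X) :
    dualBaseChange J A' f x ((1 : A') ⊗ₜ[A] m y) = if x = y then 1 else 0 := by
  rw [dualBaseChange, LinearMap.liftBaseChange_tmul, one_smul, LinearMap.comp_apply, hf]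
  split_ifs
  · exact quotMap_one J A'
  · exact map_zero _

variable {J}

/-- The ideal generated by the coordinates of all relations among the `m x`. -/
def relIdeal (m : X → M) : Ideal A :=
  Ideal.span {a | ∃ k ∈ LinearMap.ker (Finsupp.linearCombination A m), ∃ x, a = k x}

theorem coord_mem_relIdeal (m : X → M) {k : X →₀ A}
    (hk : k ∈ LinearMap.ker (Finsupp.linearCombination A m)) (x : X) : k x ∈ relIdeal m :=
  Ideal.subset_span ⟨k, hk, x, rfl⟩

omit [CommRing A'] [Algebra A A'] in
/-- If all elements of the kernel of a surjection die after tensoring, the tensored map is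
injective. -/
theorem injective_lTensor_of_ker (Q : Type*) [AddCommGroup Q] [Module A Q]
    {L : Type*} [AddCommGroup L] [Module A L] (φ : L →ₗ[A] M)
    (hsurj : Function.Surjective φ)
    (hzero : ∀ (a : Q) (k : LinearMap.ker φ), a ⊗ₜ[A] (k : L) = 0) :
    Function.Injective (φ.lTensor Q) := by
  have hex' := lTensor_exact Q (LinearMap.exact_subtype_ker_map φ) hsurj
  have hzero' : ∀ t, (LinearMap.ker φ).subtype.lTensor Q t = 0 := by
    intro t
    induction t using TensorProduct.induction_on with
    | zero => exact map_zero _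
    | tmul a k => exact hzero a k
    | add t t' ht ht' => rw [map_add, ht, ht', add_zero]
  rw [injective_iff_map_eq_zero]
  intro t ht
  obtain ⟨s, hs⟩ := (hex' t).mp ht
  rw [← hs, hzero']

/-- If the relation ideal dies in `A'`, the base change is free. -/
theorem free_of_map_relIdeal_eq_bot (m : X → M)
    (hsurj : Function.Surjective (Finsupp.linearCombination A m))
    (h : (relIdeal m).map (algebraMap A A') = ⊥) : Module.Free A' (A' ⊗[A] M) := by
  classical
  have hinj : Function.Injective ((Finsupp.linearCombination A m).baseChange A') := by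
    refine injective_lTensor_of_ker A' (Finsupp.linearCombination A m) hsurj ?_
    intro a k
    rw [← Finsupp.sum_single (k : X →₀ A), Finsupp.sum, TensorProduct.tmul_sum]
    refine Finset.sum_eq_zero fun x _ => ?_
    have h1 : algebraMap A A' ((k : X →₀ A) x) = 0 := by
      have := Ideal.mem_map_of_mem (algebraMap A A') (coord_mem_relIdeal m k.2 x)
      rw [h] at this
      exact this
    have h2 : Finsupp.single x ((k : X →₀ A) x) = (k : X →₀ A) x • Finsupp.single x (1 : A) := by
      rw [Finsupp.smul_single, smul_eq_mul, mul_one]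
    rw [h2, TensorProduct.tmul_smul, TensorProduct.smul_tmul', Algebra.smul_def, h1, zero_mul,
      TensorProduct.zero_tmul]
  have hsurj' : Function.Surjective ((Finsupp.linearCombination A m).baseChange A') :=
    LinearMap.lTensor_surjective A' hsurj
  exact Module.Free.of_equiv
    (LinearEquiv.ofBijective ((Finsupp.linearCombination A m).baseChange A') ⟨hinj, hsurj'⟩)

/-- If the base change is flat, the relation ideal dies in `A'`. -/
theorem map_relIdeal_eq_bot_of_flat [DecidableEq X] (n : ℕ) (hJ : J ^ n = ⊥) (m : X → M)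
    (f : X → (M →ₗ[A] A ⧸ J))
    (hsurj : Function.Surjective (Finsupp.linearCombination A m))
    (hf : ∀ x y, f x (m y) = if x = y then 1 else 0)
    [Module.Flat A' (A' ⊗[A] M)] : (relIdeal m).map (algebraMap A A') = ⊥ := by
  have hJ' : (J.map (algebraMap A A')) ^ n = ⊥ := by
    rw [← Ideal.map_pow, hJ, Ideal.map_bot]
  have hbij := bijective_of_flat (J.map (algebraMap A A')) n hJ'
    (fun x => (1 : A') ⊗ₜ[A] m x) (dualBaseChange J A' f)
    (surjective_linearCombination_baseChange A' m hsurj) (dualBaseChange_apply J A' m f hf)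
  rw [relIdeal, Ideal.map_span, Ideal.span_eq_bot]
  rintro _ ⟨_, ⟨k, hk, x, rfl⟩, rfl⟩
  have h1 : Finsupp.linearCombination A' (fun x => (1 : A') ⊗ₜ[A] m x)
      (Finsupp.mapRange (algebraMap A A') (map_zero _) k) = 0 := by
    rw [linearCombination_mapRange, LinearMap.mem_ker.mp hk, TensorProduct.tmul_zero]
  have h2 := hbij.1 (h1.trans (map_zero _).symm)
  have h3 := DFunLike.congr_fun h2 x
  simpa using h3

end BaseChange

section FromBasis

universe v

variable {A : Type*} [CommRing A] (J : Ideal A) {M : Type*} [AddCommGroup M] [Module A M]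
  {X : Type*}

/-- A basis of `(A ⧸ J) ⊗ M` with `J` nilpotent gives a spanning family with dual functionals. -/
theorem exists_dual_family [DecidableEq X] (n : ℕ) (hJ : J ^ n = ⊥)
    (b : Module.Basis X (A ⧸ J) ((A ⧸ J) ⊗[A] M)) :
    ∃ (m : X → M) (f : X → (M →ₗ[A] A ⧸ J)),
      Function.Surjective (Finsupp.linearCombination A m) ∧
      ∀ x y, f x (m y) = if x = y then 1 else 0 := by
  choose m hm using fun x =>
    TensorProduct.mk_surjective A M (A ⧸ J) Ideal.Quotient.mk_surjective (b x)
  have hm' : (fun x => (1 : A ⧸ J) ⊗ₜ[A] m x) = ⇑b := funext hm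
  refine ⟨m, fun x => ((b.coord x).restrictScalars A) ∘ₗ (TensorProduct.mk A (A ⧸ J) M 1), ?_, ?_⟩
  · rw [← LinearMap.range_eq_top]
    have key : LinearMap.range (Finsupp.linearCombination A m) ⊔ J • ⊤ = ⊤ := by
      rw [eq_top_iff]
      intro y _
      obtain ⟨c, hc⟩ := Finsupp.mapRange_surjective (Ideal.Quotient.mk J) (map_zero _)
        Ideal.Quotient.mk_surjective (b.repr ((1 : A ⧸ J) ⊗ₜ[A] y))
      have h1 := linearCombination_mapRange (A ⧸ J) m c
      rw [hm'] at h1
      have h2 : Finsupp.mapRange (algebraMap A (A ⧸ J)) (map_zero _) c =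
          b.repr ((1 : A ⧸ J) ⊗ₜ[A] y) := hc
      rw [h2, b.linearCombination_repr] at h1
      have h3 : (1 : A ⧸ J) ⊗ₜ[A] (y - Finsupp.linearCombination A m c) = 0 := by
        rw [TensorProduct.tmul_sub, h1, sub_self]
      have h4 := quotTensorEquivQuotSMul_mk_one_tmul (M := M) J
        (y - Finsupp.linearCombination A m c)
      rw [h3, map_zero] at h4
      have h5 : y - Finsupp.linearCombination A m c ∈ (J • ⊤ : Submodule A M) :=
        (Submodule.Quotient.mk_eq_zero _).mp h4.symm
      have h6 : y = Finsupp.linearCombination A m c + (y - Finsupp.linearCombination A m c) := by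
        abel
      rw [h6]
      exact Submodule.add_mem_sup ⟨c, rfl⟩ h5
    have := sup_pow_smul_top_eq_top J _ key n
    rwa [hJ, Submodule.bot_smul, sup_bot_eq] at this
  · intro x y
    show b.coord x ((1 : A ⧸ J) ⊗ₜ[A] m y) = _
    have hmy : (1 : A ⧸ J) ⊗ₜ[A] m y = b y := hm y
    rw [hmy, Module.Basis.coord_apply, Module.Basis.repr_self, Finsupp.single_apply]
    simp only [eq_comm]

/-- EGA IV 11.4.3: if `M` is free modulo a nilpotent ideal, there is an ideal `R₀` such that a base
change `A' ⊗ M` is free iff flat iff `R₀ A' = 0`. -/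
theorem exists_relIdeal (hJ : IsNilpotent J) [Module.Free (A ⧸ J) ((A ⧸ J) ⊗[A] M)] :
    ∃ R₀ : Ideal A, ∀ (A' : Type v) [CommRing A'] [Algebra A A'],
      (R₀.map (algebraMap A A') = ⊥ → Module.Free A' (A' ⊗[A] M)) ∧
      (Module.Flat A' (A' ⊗[A] M) → R₀.map (algebraMap A A') = ⊥) := by
  classical
  obtain ⟨n, hn⟩ := hJ
  obtain ⟨m, f, hsurj, hf⟩ := exists_dual_family J n hn
    (Module.Free.chooseBasis (A ⧸ J) ((A ⧸ J) ⊗[A] M))
  refine ⟨relIdeal m, fun A' _ _ => ⟨fun h => free_of_map_relIdeal_eq_bot A' m hsurj h, fun _ =>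
    map_relIdeal_eq_bot_of_flat A' n hn m f hsurj hf⟩⟩

end FromBasis

end Groth.Agent.Lib.NilFree
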