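/-
Flatness over a ring with a nilpotent ideal `J` such that `M / J M` is projective, tested on a
family of base changes with jointly injective structure maps (EGA IV 11.4).
Author: helper89
-/
import Groth.Agent.Lib.NilFree
import Groth.Agent.Lib.AdicProj
import Mathlib.RingTheory.SimpleModule.InjectiveProjective
import Mathlib.RingTheory.Jacobson.Radical
import Mathlib.RingTheory.Ideal.Quotient.Operations
import Mathlib.RingTheory.Spectrum.Maximal.Basic

set_option autoImplicit false

namespace Groth.Agent.Lib.NilFlat

open TensorProduct Groth.Agent.Lib.AdicSys Groth.Agent.Lib.NilFree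

section Dual

variable {A : Type*} [CommRing A] (J : Ideal A) {M : Type*} [AddCommGroup M] [Module A M]
  {X : Type*}

/-- A family which is a basis modulo `J` admits dual functionals modulo `J`. -/
theorem exists_dual_of_basis_mod [DecidableEq X] (m : X → M)
    (hsp : ∀ y, ∃ c, y - Finsupp.linearCombination A m c ∈ (J • ⊤ : Submodule A M))
    (hin : ∀ c, Finsupp.linearCombination A m c ∈ (J • ⊤ : Submodule A M) → ∀ z, c z ∈ J) :
    ∃ f : X → (M →ₗ[A] A ⧸ J), ∀ x y, f x (m y) = if x = y then 1 else 0 := by
  choose c hc using hsp
  have huniq : ∀ (y : M) (c' : X →₀ A),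
      y - Finsupp.linearCombination A m c' ∈ (J • ⊤ : Submodule A M) →
      ∀ x, Ideal.Quotient.mk J (c' x) = Ideal.Quotient.mk J (c y x) := by
    intro y c' hc' x
    have h1 : Finsupp.linearCombination A m (c' - c y) ∈ (J • ⊤ : Submodule A M) := by
      have : Finsupp.linearCombination A m (c' - c y) =
          (y - Finsupp.linearCombination A m (c y)) - (y - Finsupp.linearCombination A m c') := by
        rw [map_sub]
        abel
      rw [this]
      exact Submodule.sub_mem _ (hc y) hc'
    have h2 := hin _ h1 x
    rw [Finsupp.sub_apply] at h2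
    exact (Ideal.Quotient.eq).mpr h2
  refine ⟨fun x =>
    { toFun := fun y => Ideal.Quotient.mk J (c y x)
      map_add' := fun y y' => by
        have h1 : (y + y') - Finsupp.linearCombination A m (c y + c y') ∈
            (J • ⊤ : Submodule A M) := by
          have : (y + y') - Finsupp.linearCombination A m (c y + c y') =
              (y - Finsupp.linearCombination A m (c y)) +
                (y' - Finsupp.linearCombination A m (c y')) := by
            rw [map_add]
            abel
          rw [this]
          exact Submodule.add_mem _ (hc y) (hc y')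
        have h2 := huniq _ _ h1 x
        rw [← h2, Finsupp.add_apply, map_add]
      map_smul' := fun a y => by
        have h1 : (a • y) - Finsupp.linearCombination A m (a • c y) ∈
            (J • ⊤ : Submodule A M) := by
          have : (a • y) - Finsupp.linearCombination A m (a • c y) =
              a • (y - Finsupp.linearCombination A m (c y)) := by
            rw [map_smul, smul_sub]
          rw [this]
          exact Submodule.smul_mem _ _ (hc y)
        have h2 := huniq _ _ h1 x
        rw [← h2, Finsupp.smul_apply, smul_eq_mul, map_mul, RingHom.id_apply, Algebra.smul_def]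
        rfl }, ?_⟩
  intro x y
  have h1 : m y - Finsupp.linearCombination A m (Finsupp.single y 1) ∈
      (J • ⊤ : Submodule A M) := by
    rw [Finsupp.linearCombination_single, one_smul, sub_self]
    exact Submodule.zero_mem _
  have h2 := huniq _ _ h1 x
  show Ideal.Quotient.mk J (c (m y) x) = _
  rw [← h2, Finsupp.single_apply]
  by_cases h : y = x
  · subst h
    rw [if_pos rfl, if_pos rfl, map_one]
  · rw [if_neg h, if_neg (Ne.symm h), map_zero]

/-- A family spanning modulo a nilpotent ideal spans. -/
theorem surjective_of_span_mod (n : ℕ) (hJ : J ^ n = ⊥) (m : X → M)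
    (hsp : ∀ y, ∃ c, y - Finsupp.linearCombination A m c ∈ (J • ⊤ : Submodule A M)) :
    Function.Surjective (Finsupp.linearCombination A m) := by
  rw [← LinearMap.range_eq_top]
  have key : LinearMap.range (Finsupp.linearCombination A m) ⊔ J • ⊤ = ⊤ := by
    rw [eq_top_iff]
    intro y _
    obtain ⟨c, hc⟩ := hsp y
    have h6 : y = Finsupp.linearCombination A m c + (y - Finsupp.linearCombination A m c) := by
      abel
    rw [h6]
    exact Submodule.add_mem_sup ⟨c, rfl⟩ hc
  have := sup_pow_smul_top_eq_top J _ key n
  rwa [hJ, Submodule.bot_smul, sup_bot_eq] at this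

end Dual

section Main

universe u

variable {A : Type u} [CommRing A] (J : Ideal A) (M : Type u) [AddCommGroup M] [Module A M]

/-- EGA IV 11.4: if `J` is nilpotent, `M / J M` is projective over `A / J`, and `(B i)` is a family
of `A`-algebras whose structure maps are jointly injective, then `M` is flat as soon as all
`B i ⊗ M` are flat. -/
theorem flat_of_forall_flat_baseChange (hJ : IsNilpotent J)
    [Module.Projective (A ⧸ J) (M ⧸ (J • ⊤ : Submodule A M))]
    {ι : Type*} (B : ι → Type*) [∀ i, CommRing (B i)] [∀ i, Algebra A (B i)]
    (hB : ∀ a : A, (∀ i, algebraMap A (B i) a = 0) → a = 0)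
    (h : ∀ i, Module.Flat (B i) (B i ⊗[A] M)) : Module.Flat A M := by
  classical
  obtain ⟨n, hn⟩ := hJ
  obtain ⟨m, hsp, hin⟩ := Groth.Agent.Lib.AdicProj.exists_family_of_projective J M
  obtain ⟨f, hf⟩ := exists_dual_of_basis_mod J m hsp hin
  have hsurj := surjective_of_span_mod J n hn m hsp
  -- the relation ideal vanishes
  have hrel : relIdeal (A := A) m = ⊥ := by
    rw [eq_bot_iff]
    intro a ha
    refine hB a fun i => ?_
    have : Module.Flat (B i) (B i ⊗[A] (M × (ℕ × (M ⧸ (J • ⊤ : Submodule A M)) →₀ A))) := by
      have := h i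
      have : Module.Flat (B i)
          ((B i ⊗[A] M) × (B i ⊗[A] (ℕ × (M ⧸ (J • ⊤ : Submodule A M)) →₀ A))) :=
        Groth.Agent.Lib.AdicProj.flat_prod
      exact Module.Flat.of_linearEquiv (TensorProduct.prodRight A (B i) (B i) M _)
    have h1 := map_relIdeal_eq_bot_of_flat (B i) n hn m f hsurj hf
    have h2 := Ideal.mem_map_of_mem (algebraMap A (B i)) ha
    rw [h1] at h2
    exact h2
  -- hence the family is a basis
  have hinj : Function.Injective (Finsupp.linearCombination A m) := by
    rw [injective_iff_map_eq_zero]
    intro k hk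
    ext x
    have := coord_mem_relIdeal m (LinearMap.mem_ker.mpr hk) x
    rw [hrel] at this
    exact this
  have hfree : Module.Free A (M × (ℕ × (M ⧸ (J • ⊤ : Submodule A M)) →₀ A)) :=
    Module.Free.of_equiv (LinearEquiv.ofBijective (Finsupp.linearCombination A m) ⟨hinj, hsurj⟩)
  exact Module.Flat.of_retract
    (LinearMap.inl A M (ℕ × (M ⧸ (J • ⊤ : Submodule A M)) →₀ A))
    (LinearMap.fst A M (ℕ × (M ⧸ (J • ⊤ : Submodule A M)) →₀ A)) (by ext; rfl)

end Main

end Groth.Agent.Lib.NilFlat
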