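/-
Lifting finite projective modules and isomorphisms along quotients by nilpotent ideals
(or ideals in the Jacobson radical), with application to Picard groups.
Author: helper89
-/
import Mathlib.RingTheory.PicardGroup
import Mathlib.RingTheory.Idempotents
import Mathlib.RingTheory.Nakayama
import Mathlib.RingTheory.Jacobson.Ideal
import Mathlib.LinearAlgebra.TensorProduct.Quotient
import Mathlib.RingTheory.TensorProduct.Basic
import Groth.Agent.Lib.IdemPres

set_option autoImplicit false

universe u

namespace Groth.Agent.Lib.NilLift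

open TensorProduct Groth.Agent.Lib.IdemPres

variable {R : Type u} [CommRing R] (I : Ideal R)

/-- If all entries of a matrix lie in `I`, all entries of its `k`-th power lie in `I ^ k`. -/
theorem matrix_pow_mem {n : Type*} [Fintype n] [DecidableEq n] (M : Matrix n n R)
    (hM : ∀ i j, M i j ∈ I) (k : ℕ) : ∀ i j, (M ^ k) i j ∈ I ^ k := by
  induction k with
  | zero => intro i j; simp
  | succ k ih =>
    intro i j
    have hpow : M ^ (k + 1) = M ^ k * M := pow_succ M k
    rw [hpow, Matrix.mul_apply, pow_succ]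
    exact Ideal.sum_mem _ fun l _ => Ideal.mul_mem_mul (ih i l) (hM l j)

/-- The kernel of reduction of matrices modulo a nilpotent ideal consists of nilpotent matrices. -/
theorem isNilpotent_of_mem_ker_mapMatrix (hI : IsNilpotent I) {n : Type*} [Fintype n]
    [DecidableEq n] (M : Matrix n n R)
    (hM : M ∈ RingHom.ker ((Ideal.Quotient.mk I).mapMatrix (m := n))) : IsNilpotent M := by
  obtain ⟨k, hk⟩ := hI
  refine ⟨k, ?_⟩
  have hM' : ∀ i j, M i j ∈ I := by
    intro i j
    rw [RingHom.mem_ker] at hM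
    have := congrFun (congrFun hM i) j
    simpa [Ideal.Quotient.eq_zero_iff_mem] using this
  ext i j
  have := matrix_pow_mem I M hM' k i j
  rw [hk] at this
  simpa using this

/-- Finite projective modules lift along quotients by nilpotent ideals. -/
theorem exists_lift_projective (hI : IsNilpotent I) (P : Type*) [AddCommGroup P]
    [Module (R ⧸ I) P] [Module.Finite (R ⧸ I) P] [Module.Projective (R ⧸ I) P] :
    ∃ (P' : Type u) (_ : AddCommGroup P') (_ : Module R P'), Module.Finite R P' ∧
      Module.Projective R P' ∧ Nonempty ((R ⧸ I) ⊗[R] P' ≃ₗ[R ⧸ I] P) := by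
  obtain ⟨n, e, hP⟩ := exists_pres (R := R ⧸ I) P
  have he : IsIdempotentElem e := hP.idem
  let F := (Ideal.Quotient.mk I).mapMatrix (m := Fin n)
  have hrange : e ∈ F.range := by
    choose g hg using fun i j => Ideal.Quotient.mk_surjective (e i j)
    refine ⟨Matrix.of g, ?_⟩
    ext i j
    exact hg i j
  obtain ⟨e', he', hFe⟩ := exists_isIdempotentElem_eq_of_ker_isNilpotent F
    (fun x hx => isNilpotent_of_mem_ker_mapMatrix I hI x hx) e hrange he
  have h1 : Pres (LinearMap.range (Matrix.toLin' e')) e' := pres_range e' he'.eq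
  have h2 := h1.baseChange (R ⧸ I)
  have h3 : e'.map (algebraMap R (R ⧸ I)) = e := hFe
  rw [h3] at h2
  exact ⟨LinearMap.range (Matrix.toLin' e'), inferInstance, inferInstance, finite_range e',
    projective_of_pres h1, h2.nonempty_equiv hP⟩

/-- If `I` lies in the Jacobson radical and `T` is a finite projective module whose reduction
modulo `I` is free of rank one, then `T` is free of rank one. -/
theorem nonempty_equiv_of_tensor_equiv (hI : I ≤ Ideal.jacobson ⊥) (T : Type*) [AddCommGroup T]
    [Module R T] [Module.Finite R T] [Module.Projective R T]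
    (φ : (R ⧸ I) ⊗[R] T ≃ₗ[R] (R ⧸ I)) : Nonempty (R ≃ₗ[R] T) := by
  let π : T →ₗ[R] (R ⧸ I) ⊗[R] T := TensorProduct.mk R (R ⧸ I) T 1
  have hπ : Function.Surjective π :=
    TensorProduct.mk_surjective R T (R ⧸ I) Ideal.Quotient.mk_surjective
  let ψ : T →ₗ[R] (R ⧸ I) := φ.toLinearMap ∘ₗ π
  have hψ : Function.Surjective ψ := φ.surjective.comp hπ
  have hker : ∀ y, ψ y = 0 → y ∈ I • (⊤ : Submodule R T) := by
    intro y hy
    have h1 : π y = 0 := φ.injective (by simpa [ψ] using hy)
    have h2 := quotTensorEquivQuotSMul_mk_one_tmul (M := T) I y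
    have h3 : (1 : R ⧸ I) ⊗ₜ[R] y = 0 := h1
    rw [h3, map_zero] at h2
    exact (Submodule.Quotient.mk_eq_zero _).mp h2.symm
  obtain ⟨l, hl⟩ := hψ 1
  obtain ⟨h, hh⟩ := Module.projective_lifting_property (Submodule.mkQ I) ψ
    (Submodule.mkQ_surjective I)
  let g : R →ₗ[R] T := LinearMap.toSpanSingleton R T l
  have hr : IsUnit (h l) := by
    have h1 : Ideal.Quotient.mk I (h l) = 1 := by
      have := LinearMap.congr_fun hh l
      rw [← hl]
      exact this
    have h2 : h l - 1 ∈ I := by
      rw [← Ideal.Quotient.eq_zero_iff_mem, map_sub, h1, map_one, sub_self]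
    exact Ideal.isUnit_of_sub_one_mem_jacobson_bot _ (hI h2)
  have hginj : Function.Injective g := by
    rw [injective_iff_map_eq_zero]
    intro a ha
    have h1 : h (a • l) = 0 := by
      have : g a = a • l := by simp [g]
      rw [← this, ha, map_zero]
    rw [map_smul, smul_eq_mul] at h1
    exact (hr.mul_left_eq_zero).mp h1
  have hgsurj : Function.Surjective g := by
    rw [← LinearMap.range_eq_top, eq_top_iff]
    refine Submodule.le_of_le_smul_of_le_jacobson_bot Module.Finite.fg_top hI ?_
    intro x _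
    obtain ⟨a, ha⟩ := Ideal.Quotient.mk_surjective (ψ x)
    have h1 : ψ (x - a • l) = 0 := by
      rw [map_sub, map_smul, hl, ← ha]
      rw [sub_eq_zero]
      rw [Algebra.smul_def, mul_one]
      rfl
    have h2 : x = g a + (x - a • l) := by simp [g]
    rw [h2]
    exact Submodule.add_mem_sup ⟨a, rfl⟩ (hker _ h1)
  exact ⟨LinearEquiv.ofBijective g ⟨hginj, hgsurj⟩⟩

/-- A nilpotent ideal lies in the Jacobson radical. -/
theorem le_jacobson_bot_of_isNilpotent (hI : IsNilpotent I) : I ≤ Ideal.jacobson ⊥ := by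
  intro x hx
  obtain ⟨k, hk⟩ := hI
  have hx' : IsNilpotent x := by
    refine ⟨k, ?_⟩
    have : x ^ k ∈ I ^ k := Ideal.pow_mem_pow hx k
    rw [hk] at this
    simpa using this
  rw [Ideal.mem_jacobson_bot]
  intro y
  have : IsNilpotent (x * y) := (Commute.all x y).isNilpotent_mul_right hx'
  rw [add_comm]
  exact this.isUnit_one_add

open CommRing in
/-- Base change of Picard groups along the quotient by a nilpotent ideal is bijective. -/
theorem pic_mapAlgebra_quotient_bijective (hI : IsNilpotent I) :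
    Function.Bijective (Pic.mapAlgebra R (R ⧸ I)) := by
  have hJ := le_jacobson_bot_of_isNilpotent I hI
  constructor
  · rw [injective_iff_map_eq_one]
    intro M hM
    rw [Pic.mapAlgebra_apply, Pic.mk_eq_one_iff] at hM
    obtain ⟨φ⟩ := hM
    obtain ⟨e⟩ := nonempty_equiv_of_tensor_equiv I hJ M (φ.restrictScalars R)
    rw [← Pic.mk_eq_self (M := M), Pic.mk_eq_one_iff]
    exact ⟨e.symm⟩
  · intro N
    have hNQ : Pic.mk (R ⧸ I) (N ⊗[R ⧸ I] (N⁻¹ : Pic (R ⧸ I))) = 1 := by
      rw [← Pic.mul_eq_tensor, mul_inv_cancel]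
    obtain ⟨θ⟩ := Pic.mk_eq_one_iff.mp hNQ
    obtain ⟨N', _, _, _, _, ⟨αN⟩⟩ := exists_lift_projective I hI N
    obtain ⟨Q', _, _, _, _, ⟨αQ⟩⟩ := exists_lift_projective I hI (N⁻¹ : Pic (R ⧸ I))
    let φ : (R ⧸ I) ⊗[R] (N' ⊗[R] Q') ≃ₗ[R ⧸ I] (R ⧸ I) :=
      AlgebraTensorModule.distribBaseChange R (R ⧸ I) N' Q' ≪≫ₗ
        TensorProduct.congr αN αQ ≪≫ₗ θ
    obtain ⟨e⟩ := nonempty_equiv_of_tensor_equiv I hJ (N' ⊗[R] Q') (φ.restrictScalars R)
    have : Module.Invertible R N' := Module.Invertible.left e.symm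
    refine ⟨Pic.mk R N', ?_⟩
    rw [Pic.mapAlgebra_apply, Pic.mk_eq_iff]
    exact ⟨AlgebraTensorModule.congr (.refl ..) (Pic.mk.linearEquiv R N') ≪≫ₗ αN⟩

end Groth.Agent.Lib.NilLift
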