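/-
Lifting split presentations of finite flat modules along surjections with nil kernel, and limits
of finite projective modules along towers of such surjections (Stacks 0D4B).
Author: helper89
-/
import Mathlib.RingTheory.Idempotents
import Mathlib.RingTheory.Nakayama
import Mathlib.RingTheory.Jacobson.Ideal
import Mathlib.RingTheory.Noetherian.Nilpotent
import Mathlib.RingTheory.Flat.EquationalCriterion
import Mathlib.RingTheory.FiniteType
import Mathlib.LinearAlgebra.Matrix.ToLin
import Mathlib.LinearAlgebra.Isomorphisms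
import Groth.Agent.Lib.NilLift

set_option autoImplicit false

universe u

namespace Groth.Agent.Lib.NilLimit

open Groth.Agent.Lib.NilLift

/-- A nil ideal lies in the Jacobson radical. -/
theorem le_jacobson_bot_of_forall_isNilpotent {R : Type*} [CommRing R] (I : Ideal R)
    (hI : ∀ x ∈ I, IsNilpotent x) : I ≤ Ideal.jacobson ⊥ := by
  intro x hx
  rw [Ideal.mem_jacobson_bot]
  intro y
  have : IsNilpotent (x * y) := (Commute.all x y).isNilpotent_mul_right (hI x hx)
  rw [add_comm]
  exact this.isUnit_one_add

/-- The kernel of the entrywise map on matrices induced by a ring hom with nil kernel consists of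
nilpotent matrices. -/
theorem isNilpotent_of_mem_ker_mapMatrix {B' B : Type*} [CommRing B'] [CommRing B] (t : B' →+* B)
    (hnil : ∀ x, t x = 0 → IsNilpotent x) {n : Type*} [Fintype n] [DecidableEq n]
    (X : Matrix n n B') (hX : X ∈ RingHom.ker (t.mapMatrix (m := n))) : IsNilpotent X := by
  have hX' : ∀ i j, t (X i j) = 0 := by
    intro i j
    rw [RingHom.mem_ker] at hX
    exact congrFun (congrFun hX i) j
  let J : Ideal B' := Ideal.span (Set.range fun p : n × n => X p.1 p.2)
  have hJfg : J.FG := Submodule.fg_span (Set.finite_range _)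
  have hJnil : J ≤ nilradical B' := by
    refine Ideal.span_le.mpr ?_
    rintro _ ⟨p, rfl⟩
    exact hnil _ (hX' p.1 p.2)
  obtain ⟨k, hk⟩ := hJfg.isNilpotent_iff_le_nilradical.mpr hJnil
  refine ⟨k, ?_⟩
  ext i j
  have := matrix_pow_mem J X (fun i j => Ideal.subset_span ⟨(i, j), rfl⟩) k i j
  rw [hk] at this
  simpa using this

/-- Dependent recursion with choice. -/
theorem exists_seq_dep {α : ℕ → Sort*} (R : ∀ n, α n → α (n + 1) → Prop) (a0 : α 0)
    (h : ∀ n a, ∃ b, R n a b) : ∃ f : ∀ n, α n, f 0 = a0 ∧ ∀ n, R n (f n) (f (n + 1)) :=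
  ⟨fun n => Nat.rec a0 (fun n a => Classical.choose (h n a)) n, rfl,
    fun n => Classical.choose_spec (h n _)⟩

/-- In an inverse system with surjective transition maps, every element extends to a compatible
sequence. -/
theorem exists_compat_seq : ∀ (n : ℕ) (X : ℕ → Type u) (f : ∀ k, X (k + 1) → X k)
    (_ : ∀ k, Function.Surjective (f k)) (a : X n),
    ∃ x : ∀ k, X k, (∀ k, f k (x (k + 1)) = x k) ∧ x n = a := by
  intro n
  induction n with
  | zero =>
    intro X f hf a
    obtain ⟨x, hx0, hx⟩ := exists_seq_dep (α := X) (fun k a b => f k b = a) a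
      (fun k a => hf k a)
    exact ⟨x, hx, hx0⟩
  | succ n ih =>
    intro X f hf a
    obtain ⟨x', hx', hxa⟩ := ih (fun k => X (k + 1)) (fun k => f (k + 1)) (fun k => hf (k + 1)) a
    refine ⟨fun k => Nat.casesOn k (f 0 (x' 0)) (fun k => x' k), ?_, hxa⟩
    intro k
    cases k with
    | zero => rfl
    | succ k => exact hx' k

section Step

variable {B' B : Type*} [CommRing B'] [CommRing B] (t : B' →+* B)

/-- Lifting a split presentation of `M` over `B` to a split presentation of a finite flat `B'`-module
`M'` with `M' / (ker t) M' = M`, along a surjection `t : B' → B` with nil kernel. -/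
theorem exists_step (ht : Function.Surjective t) (hnil : ∀ x, t x = 0 → IsNilpotent x)
    {M' M : Type*} [AddCommGroup M'] [Module B' M'] [AddCommGroup M] [Module B M]
    [Module.Finite B' M'] [Module.Flat B' M']
    (u : M' →ₛₗ[t] M) (hu : Function.Surjective u)
    (hker : LinearMap.ker u = RingHom.ker t • (⊤ : Submodule B' M'))
    {r : ℕ} (i : M →ₗ[B] (Fin r → B)) (s : (Fin r → B) →ₗ[B] M) (hsi : s ∘ₗ i = LinearMap.id) :
    ∃ (i' : M' →ₗ[B'] (Fin r → B')) (s' : (Fin r → B') →ₗ[B'] M'), s' ∘ₗ i' = LinearMap.id ∧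
      (∀ x, i (u x) = fun j => t (i' x j)) ∧ (∀ v, u (s' v) = s (fun j => t (v j))) := by
  classical
  have hJ : RingHom.ker t ≤ Ideal.jacobson ⊥ :=
    le_jacobson_bot_of_forall_isNilpotent _ (fun x hx => hnil x hx)
  have hsi' : ∀ m, s (i m) = m := fun m => LinearMap.congr_fun hsi m
  -- the componentwise map
  let T : (Fin r → B') → (Fin r → B) := fun v j => t (v j)
  have hTsurj : Function.Surjective T := fun w =>
    ⟨fun j => Classical.choose (ht (w j)), funext fun j => Classical.choose_spec (ht (w j))⟩
  have hTadd : ∀ v w, T (v + w) = T v + T w := fun v w => funext fun j => map_add t _ _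
  have hTsub : ∀ v w, T (v - w) = T v - T w := fun v w => funext fun j => map_sub t _ _
  have hTker : ∀ v, T v = 0 → v ∈ RingHom.ker t • (⊤ : Submodule B' (Fin r → B')) := by
    intro v hv
    rw [pi_eq_sum_univ v]
    refine Submodule.sum_mem _ fun j _ => Submodule.smul_mem_smul ?_ trivial
    exact congrFun hv j
  -- lift of `s`
  choose m' hm' using fun j : Fin r => hu (s fun k => if j = k then 1 else 0)
  let s0 : (Fin r → B') →ₗ[B'] M' := Fintype.linearCombination B' m'
  have hs0 : ∀ v, u (s0 v) = s (T v) := by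
    intro v
    rw [LinearMap.pi_apply_eq_sum_univ s (T v)]
    simp only [s0, Fintype.linearCombination_apply, map_sum, map_smulₛₗ, hm']
    rfl
  -- the idempotent matrix
  let e : Matrix (Fin r) (Fin r) B := LinearMap.toMatrix' (i ∘ₗ s)
  have he : IsIdempotentElem e := by
    show e * e = e
    rw [← LinearMap.toMatrix'_comp]
    congr 1
    have : (i ∘ₗ s) ∘ₗ (i ∘ₗ s) = i ∘ₗ (s ∘ₗ i) ∘ₗ s := rfl
    rw [this, hsi, LinearMap.id_comp]
  have hrange : e ∈ (t.mapMatrix (m := Fin r)).range := by
    choose g hg using fun a b => ht (e a b)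
    refine ⟨Matrix.of g, ?_⟩
    ext a b
    exact hg a b
  obtain ⟨e', he', hFe⟩ := exists_isIdempotentElem_eq_of_ker_isNilpotent (t.mapMatrix (m := Fin r))
    (fun x hx => isNilpotent_of_mem_ker_mapMatrix t hnil x hx) e hrange he
  let E : (Fin r → B') →ₗ[B'] (Fin r → B') := Matrix.toLin' e'
  have hEE : ∀ v, E (E v) = E v := by
    intro v
    show Matrix.toLin' e' (Matrix.toLin' e' v) = Matrix.toLin' e' v
    rw [← LinearMap.comp_apply, ← Matrix.toLin'_mul, he'.eq]
  have hTE : ∀ v, T (E v) = i (s (T v)) := by
    intro v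
    have h1 : T (E v) = (e'.map t).mulVec (T v) := by
      funext j
      show t ((Matrix.toLin' e' v) j) = _
      rw [Matrix.toLin'_apply, RingHom.map_mulVec]
      rfl
    have h2 : e'.map t = e := hFe
    rw [h1, h2]
    show (LinearMap.toMatrix' (i ∘ₗ s)).mulVec (T v) = _
    rw [← Matrix.toLin'_apply, Matrix.toLin'_toMatrix']
    rfl
  let φ : (Fin r → B') →ₗ[B'] M' := s0 ∘ₗ E
  have hφ : ∀ v, u (φ v) = s (T v) := by
    intro v
    show u (s0 (E v)) = _
    rw [hs0, hTE, hsi']
  have hφsurj : Function.Surjective φ := by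
    rw [← LinearMap.range_eq_top, eq_top_iff]
    refine Submodule.le_of_le_smul_of_le_jacobson_bot Module.Finite.fg_top hJ ?_
    intro x _
    obtain ⟨v, hv⟩ := hTsurj (i (u x))
    have h1 : u (x - φ v) = 0 := by
      rw [map_sub, hφ, hv, hsi', sub_self]
    have h2 : x - φ v ∈ RingHom.ker t • (⊤ : Submodule B' M') := by
      rw [← hker]
      exact h1
    have h3 : x = φ v + (x - φ v) := by abel
    rw [h3]
    exact Submodule.add_mem_sup ⟨v, rfl⟩ h2
  -- the kernel of `φ` is the kernel of `E`
  have hkerφ : ∀ x, φ x = 0 → E x = 0 := by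
    intro x hx
    have hx1 : s0 (E x) = 0 := hx
    obtain ⟨k, a, y, hya, hax⟩ :=
      Module.Flat.exists_factorization_of_apply_eq_zero_of_free (R := B') (M := M') hx1
    obtain ⟨y', hy'⟩ := Module.projective_lifting_property φ y hφsurj
    let β : (Fin r → B') →ₗ[B'] (Fin r → B') := y' ∘ₗ a
    have hβ : ∀ w, φ (β w) = s0 w := by
      intro w
      have := LinearMap.congr_fun hy' (a w)
      rw [hya]
      exact this
    have hβx : β (E x) = 0 := by
      show y' (a (E x)) = 0
      rw [hax, map_zero]
    have hsT : ∀ w, s (T (β w)) = s (T w) := by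
      intro w
      rw [← hφ, hβ, hs0]
    let γ : (Fin r → B') →ₗ[B'] (Fin r → B') := E ∘ₗ β ∘ₗ E + (LinearMap.id - E)
    have hγ : ∀ v, T (γ v) = T v := by
      intro v
      show T (E (β (E v)) + (v - E v)) = T v
      rw [hTadd, hTsub, hTE, hsT, ← hTE, hEE]
      abel
    have hγsurj : Function.Surjective γ := by
      rw [← LinearMap.range_eq_top, eq_top_iff]
      refine Submodule.le_of_le_smul_of_le_jacobson_bot Module.Finite.fg_top hJ ?_
      intro v _
      have h1 : T (v - γ v) = 0 := by rw [hTsub, hγ, sub_self]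
      have h3 : v = γ v + (v - γ v) := by abel
      rw [h3]
      exact Submodule.add_mem_sup ⟨v, rfl⟩ (hTker _ h1)
    have hγinj : Function.Injective γ := OrzechProperty.injective_of_surjective_endomorphism γ hγsurj
    apply hγinj
    rw [map_zero]
    show E (β (E (E x))) + (E x - E (E x)) = 0
    rw [hEE, hβx, map_zero, sub_self, add_zero]
  -- define `i'`
  have hle : LinearMap.ker φ ≤ LinearMap.ker E := fun x hx => hkerφ x hx
  let i' : M' →ₗ[B'] (Fin r → B') :=
    (LinearMap.ker φ).liftQ E hle ∘ₗ (φ.quotKerEquivOfSurjective hφsurj).symm.toLinearMap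
  have hi' : ∀ v, i' (φ v) = E v := by
    intro v
    show (LinearMap.ker φ).liftQ E hle ((φ.quotKerEquivOfSurjective hφsurj).symm (φ v)) = E v
    rw [LinearMap.quotKerEquivOfSurjective_symm_apply]
    rfl
  refine ⟨i', φ, ?_, ?_, hφ⟩
  · apply LinearMap.ext
    intro m
    obtain ⟨v, rfl⟩ := hφsurj m
    show φ (i' (φ v)) = φ v
    rw [hi']
    show s0 (E (E v)) = s0 (E v)
    rw [hEE]
  · intro m
    obtain ⟨v, rfl⟩ := hφsurj m
    rw [hφ, hi', ← hTE]

end Step

section Limit

/-- A split presentation of a module as a retract of `B ^ r`. -/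
structure Split (B : Type*) [CommRing B] (M : Type*) [AddCommGroup M] [Module B M] (r : ℕ) where
  /-- the inclusion -/
  i : M →ₗ[B] (Fin r → B)
  /-- the retraction -/
  s : (Fin r → B) →ₗ[B] M
  hsi : s ∘ₗ i = LinearMap.id

variable (A : Type u) [CommRing A] (An : ℕ → Type u) [∀ n, CommRing (An n)]
  (t : ∀ n, An (n + 1) →+* An n) (π : ∀ n, A →+* An n)

/-- Stacks 0D4B: limits of finite projective modules along towers of surjections with nil
kernels. -/
theorem limit_finite_projective
    (ht : ∀ n, Function.Surjective (t n)) (hnil : ∀ n (x : An (n + 1)), t n x = 0 → IsNilpotent x)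
    (hπ : ∀ n, (t n).comp (π (n + 1)) = π n)
    (hinj : ∀ a b : A, (∀ n, π n a = π n b) → a = b)
    (hex : ∀ x : ∀ n, An n, (∀ n, t n (x (n + 1)) = x n) → ∃ a : A, ∀ n, π n a = x n)
    (M : ℕ → Type u) [∀ n, AddCommGroup (M n)] [∀ n, Module (An n) (M n)]
    (u : ∀ n, M (n + 1) →ₛₗ[t n] M n)
    [Module.Projective (An 0) (M 0)] (hfin : ∀ n, Module.Finite (An n) (M n))
    (hflat : ∀ n, Module.Flat (An n) (M n))
    (hu : ∀ n, Function.Surjective (u n) ∧ LinearMap.ker (u n) =
      RingHom.ker (t n) • (⊤ : Submodule (An (n + 1)) (M (n + 1)))) :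
    ∃ (P : Type u) (_ : AddCommGroup P) (_ : Module A P) (p : ∀ n, P →ₛₗ[π n] M n),
      Module.Finite A P ∧ Module.Projective A P ∧ (∀ n (x : P), u n (p (n + 1) x) = p n x) ∧
      (∀ n, Function.Surjective (p n) ∧
        LinearMap.ker (p n) = RingHom.ker (π n) • (⊤ : Submodule A P)) ∧
      (∀ x : (∀ n, M n), (∀ n, u n (x (n + 1)) = x n) → ∃! q : P, ∀ n, p n q = x n) := by
  classical
  have hπ' : ∀ n a, t n (π (n + 1) a) = π n a := fun n a => RingHom.congr_fun (hπ n) a
  -- `π n` is surjective
  have hπsurj : ∀ n, Function.Surjective (π n) := by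
    intro n a
    obtain ⟨x, hx, hxa⟩ := exists_compat_seq n An (fun k => t k) ht a
    obtain ⟨b, hb⟩ := hex x hx
    exact ⟨b, (hb n).trans hxa⟩
  -- initial split
  have := hfin 0
  obtain ⟨r, s0, hs0⟩ := Module.Finite.exists_fin' (An 0) (M 0)
  obtain ⟨i0, hi0⟩ := Module.projective_lifting_property s0 LinearMap.id hs0
  -- sequence of splits
  obtain ⟨σ, -, hσ⟩ := exists_seq_dep (α := fun n => Split (An n) (M n) r)
    (fun n a b => (∀ x, a.i (u n x) = fun j => t n (b.i x j)) ∧
      (∀ v, u n (b.s v) = a.s (fun j => t n (v j))))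
    ⟨i0, s0, hi0⟩
    (fun n a => by
      have := hfin (n + 1)
      have := hflat (n + 1)
      obtain ⟨i', s', h1, h2, h3⟩ :=
        exists_step (t n) (ht n) (hnil n) (u n) (hu n).1 (hu n).2 a.i a.s a.hsi
      exact ⟨⟨i', s', h1⟩, h2, h3⟩)
  have hc1 : ∀ n x j, t n ((σ (n + 1)).i x j) = (σ n).i (u n x) j :=
    fun n x j => (congrFun ((hσ n).1 x) j).symm
  have hc2 : ∀ n v, u n ((σ (n + 1)).s v) = (σ n).s (fun j => t n (v j)) := fun n => (hσ n).2
  have hsi : ∀ n m, (σ n).s ((σ n).i m) = m := fun n m => LinearMap.congr_fun (σ n).hsi m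
  -- module structure
  let modA : ∀ n, Module A (M n) := fun n => Module.compHom (M n) (π n)
  let P : Submodule A (∀ n, M n) :=
    { carrier := {x | ∀ n, u n (x (n + 1)) = x n}
      add_mem' := by
        intro x y hx hy n
        show u n (x (n + 1) + y (n + 1)) = x n + y n
        rw [map_add, hx n, hy n]
      zero_mem' := by
        intro n
        show u n 0 = 0
        exact map_zero _
      smul_mem' := by
        intro a x hx n
        show u n (π (n + 1) a • x (n + 1)) = π n a • x n
        rw [map_smulₛₗ, hπ', hx n] }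
  have hP : ∀ (x : P) n, u n (x.1 (n + 1)) = x.1 n := fun x n => x.2 n
  let p : ∀ n, P →ₛₗ[π n] M n := fun n =>
    { toFun := fun x => x.1 n
      map_add' := fun _ _ => rfl
      map_smul' := fun _ _ => rfl }
  let sLim : (Fin r → A) →ₗ[A] P :=
    { toFun := fun v => ⟨fun n => (σ n).s (fun j => π n (v j)), by
        intro n
        show u n ((σ (n + 1)).s fun j => π (n + 1) (v j)) = (σ n).s fun j => π n (v j)
        rw [hc2]
        simp only [hπ']⟩
      map_add' := by
        intro v w
        apply Subtype.ext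
        funext n
        show (σ n).s (fun j => π n (v j + w j)) =
          (σ n).s (fun j => π n (v j)) + (σ n).s (fun j => π n (w j))
        rw [← map_add]
        congr 1
        funext j
        exact map_add _ _ _
      map_smul' := by
        intro a v
        apply Subtype.ext
        funext n
        show (σ n).s (fun j => π n (a * v j)) = π n a • (σ n).s (fun j => π n (v j))
        rw [← map_smul]
        congr 1
        funext j
        exact map_mul _ _ _ }
  have hcompat : ∀ (x : P) (j : Fin r) n,
      t n ((σ (n + 1)).i (x.1 (n + 1)) j) = (σ n).i (x.1 n) j := by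
    intro x j n
    rw [hc1, hP x n]
  choose ι hι using fun (x : P) (j : Fin r) => hex (fun n => (σ n).i (x.1 n) j) (hcompat x j)
  let iLim : P →ₗ[A] (Fin r → A) :=
    { toFun := fun x j => ι x j
      map_add' := by
        intro x y
        funext j
        apply hinj
        intro n
        show π n (ι (x + y) j) = π n (ι x j + ι y j)
        rw [map_add, hι, hι, hι]
        show (σ n).i (x.1 n + y.1 n) j = _
        rw [map_add]
        rfl
      map_smul' := by
        intro a x
        funext j
        apply hinj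
        intro n
        show π n (ι (a • x) j) = π n (a * ι x j)
        rw [map_mul, hι, hι]
        show (σ n).i (π n a • x.1 n) j = _
        rw [map_smul]
        rfl }
  have hsiLim : sLim ∘ₗ iLim = LinearMap.id := by
    apply LinearMap.ext
    intro x
    apply Subtype.ext
    funext n
    show (σ n).s (fun j => π n (ι x j)) = x.1 n
    simp only [hι]
    exact hsi n _
  refine ⟨P, inferInstance, inferInstance, p, ?_, ?_, fun n x => hP x n, ?_, ?_⟩
  · exact Module.Finite.of_surjective sLim (fun x => ⟨iLim x, LinearMap.congr_fun hsiLim x⟩)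
  · exact Module.Projective.of_split iLim sLim hsiLim
  · intro n
    constructor
    · intro m
      choose w hw using fun j => hπsurj n ((σ n).i m j)
      refine ⟨sLim w, ?_⟩
      show (σ n).s (fun j => π n (w j)) = m
      simp only [hw]
      exact hsi n m
    · apply le_antisymm
      · intro x hx
        have hx0 : x.1 n = 0 := hx
        have hw : ∀ j, ι x j ∈ RingHom.ker (π n) := by
          intro j
          rw [RingHom.mem_ker, hι, hx0, map_zero]
          rfl
        have hx' : x = sLim (iLim x) := (LinearMap.congr_fun hsiLim x).symm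
        rw [hx', LinearMap.pi_apply_eq_sum_univ sLim]
        exact Submodule.sum_mem _ fun j _ => Submodule.smul_mem_smul (hw j) trivial
      · rw [Submodule.smul_le]
        intro a ha x _
        show (p n) (a • x) = 0
        rw [map_smulₛₗ, RingHom.mem_ker.mp ha, zero_smul]
  · intro x hx
    refine ⟨⟨x, hx⟩, fun n => rfl, ?_⟩
    intro q hq
    apply Subtype.ext
    funext n
    exact hq n

end Limit

end Groth.Agent.Lib.NilLimit
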