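import Groth.Agent.Lib.NilDenseSch88
import Groth.Agent.Lib.H72PullbackNat
import Groth.Agent.Lib.H72PullbackQCoh
import Groth.Agent.Lib.FlatOverSections
import Groth.Agent.Lib.FibInjSch88

/-!
# EGA IV 11.9.x: separating families lift along a nilpotent thickening of the base (helper88)

Module version of `NilDenseSch88`: `A` a ring, `J` a nilpotent ideal with `J^k/J^(k+1)` free over
`A/J`, `p : X ⟶ Spec A`, `F` quasi-coherent, `u i : F ⟶ G i` with `G i` quasi-coherent and flat
over `A`.  If the family of pullbacks to `X ×_A A/J` is separating, so is `(u i)`.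
-/

set_option autoImplicit false
set_option maxHeartbeats 400000
set_option linter.style.haveILetI false

namespace Groth.Agent.Lib.NilSepSch88

open AlgebraicGeometry CategoryTheory Limits TopologicalSpace TensorProduct
open Groth.Agent.Lib.NilDenseSch88 Groth.Agent.Lib.QCohStalk

universe u

section Alg

/-- For a surjective algebra map `B → B₀`, `1 ⊗ m = 0` in `B₀ ⊗_B M` forces `m ∈ ker • M`. -/
theorem mem_ker_smul_top_of_one_tmul_eq_zero {B B₀ : Type u} [CommRing B] [CommRing B₀]
    [Algebra B B₀] (hsurj : Function.Surjective (algebraMap B B₀))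
    {M : Type u} [AddCommGroup M] [Module B M] (m : M)
    (h : (1 : B₀) ⊗ₜ[B] m = 0) : m ∈ RingHom.ker (algebraMap B B₀) • (⊤ : Submodule B M) := by
  have hs : Function.Surjective (Algebra.ofId B B₀) := hsurj
  let e : (B ⧸ RingHom.ker (Algebra.ofId B B₀)) ≃ₐ[B] B₀ :=
    Ideal.quotientKerAlgEquivOfSurjective hs
  have h1 : (e.toLinearEquiv.rTensor M) ((1 : B ⧸ RingHom.ker (Algebra.ofId B B₀)) ⊗ₜ[B] m) = 0 := by
    rw [LinearEquiv.rTensor_tmul]
    change e 1 ⊗ₜ[B] m = 0
    rw [map_one]
    exact h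
  have h2 : (1 : B ⧸ RingHom.ker (Algebra.ofId B B₀)) ⊗ₜ[B] m = 0 :=
    (e.toLinearEquiv.rTensor M).injective (by rw [h1, map_zero])
  exact (Groth.Agent.Lib.NilDense88.one_tmul_eq_zero_iff _ m).mp h2

/-- `(J B) • M ⊆ J • M`. -/
theorem mem_smul_top_of_mem_map_smul_top {A B : Type u} [CommRing A] [CommRing B] [Algebra A B]
    (J : Ideal A) {M : Type u} [AddCommGroup M] [Module A M] [Module B M] [IsScalarTower A B M]
    (m : M) (h : m ∈ (Ideal.map (algebraMap A B) J) • (⊤ : Submodule B M)) :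
    m ∈ J • (⊤ : Submodule A M) := by
  refine Submodule.smul_induction_on h ?_ ?_
  · intro b hb n _
    suffices H : ∀ n : M, b • n ∈ J • (⊤ : Submodule A M) from H n
    refine Submodule.span_induction (p := fun b _ => ∀ n : M, b • n ∈ J • (⊤ : Submodule A M))
      ?_ ?_ ?_ ?_ hb
    · rintro _ ⟨a, ha, rfl⟩ n
      rw [algebraMap_smul]
      exact Submodule.smul_mem_smul ha trivial
    · intro n
      rw [zero_smul]
      exact Submodule.zero_mem _
    · intro x y _ _ hx hy n
      rw [add_smul]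
      exact Submodule.add_mem _ (hx n) (hy n)
    · intro c x _ hx n
      rw [smul_eq_mul, mul_smul]
      have := hx n
      -- `c • (x • n)`: move `c` inside
      refine Submodule.smul_induction_on this ?_ ?_
      · intro a ha n' _
        rw [smul_comm]
        exact Submodule.smul_mem_smul ha trivial
      · intro x' y' hx' hy'
        rw [smul_add]
        exact Submodule.add_mem _ hx' hy'
  · intro x y hx hy
    exact Submodule.add_mem _ hx hy

end Alg

section Chart

variable {Y : Scheme.{u}} (A : CommRingCat.{u}) (π : Y ⟶ Spec A) (J : Ideal ↑A)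

instance : IsClosedImmersion (pullback.fst π (quo A J)) :=
  MorphismProperty.pullback_fst _ _ inferInstance

theorem isAffineOpen_preimage {U : Y.Opens} (hU : IsAffineOpen U) :
    IsAffineOpen (pullback.fst π (quo A J) ⁻¹ᵁ U) :=
  hU.preimage (pullback.fst π (quo A J))

variable (F : Y.Modules)

/-- The `A`-module structure on the sections of `F` over `U`. -/
@[reducible] noncomputable def chartModule (U : Y.Opens) : Module ↑A Γ(F, U) :=
  Module.compHom _ (chartHom A π U)

variable [F.IsQuasicoherent]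

/-- Sections in `J Γ(F, U)` die on the reduction modulo `J`. -/
theorem thetaFun_eq_zero_of_mem_smul_top {U : Y.Opens} (hU : IsAffineOpen U) (m : Γ(F, U))
    (hm : letI := chartModule A π F U; m ∈ J • (⊤ : Submodule ↑A Γ(F, U))) :
    Groth.Agent.Lib.H72PullbackNat.thetaFun (pullback.fst π (quo A J)) F
      (isAffineOpen_preimage A π J hU) hU le_rfl m = 0 := by
  letI : Module ↑A Γ(F, U) := chartModule A π F U
  letI : Algebra Γ(Y, U) Γ(pullback π (quo A J), pullback.fst π (quo A J) ⁻¹ᵁ U) :=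
    ((pullback.fst π (quo A J)).appLE U _ le_rfl).hom.toAlgebra
  letI : Module Γ(Y, U) Γ((Scheme.Modules.pullback (pullback.fst π (quo A J))).obj F,
      pullback.fst π (quo A J) ⁻¹ᵁ U) :=
    Module.compHom _ ((pullback.fst π (quo A J)).appLE U _ le_rfl).hom
  haveI : IsScalarTower Γ(Y, U) Γ(pullback π (quo A J), pullback.fst π (quo A J) ⁻¹ᵁ U)
      Γ((Scheme.Modules.pullback (pullback.fst π (quo A J))).obj F,
        pullback.fst π (quo A J) ⁻¹ᵁ U) := .of_algebraMap_smul fun _ _ => rfl
  obtain ⟨θ, -, hθm⟩ := Groth.Agent.Lib.H72PullbackNat.exists_isBaseChange_sections'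
    (pullback.fst π (quo A J)) F (isAffineOpen_preimage A π J hU) hU le_rfl
  rw [← hθm]
  refine Submodule.smul_induction_on hm ?_ ?_
  · intro a ha n _
    have h1 : a • n = chartHom A π U a • n := rfl
    rw [h1, map_smul]
    have h2 : chartHom A π U a • θ n =
        ((pullback.fst π (quo A J)).appLE U _ le_rfl).hom (chartHom A π U a) • θ n := rfl
    have h3 : ((pullback.fst π (quo A J)).appLE U _ le_rfl).hom (chartHom A π U a) = 0 := by
      rw [Scheme.Hom.appLE_eq_app]
      exact fst_app_eq_zero_of_mem_map A π J U _ (Ideal.mem_map_of_mem _ ha)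
    rw [h2, h3, zero_smul]
  · intro x y hx hy
    rw [map_add, hx, hy, add_zero]

set_option synthInstance.maxHeartbeats 400000 in
/-- For an affine chart, sections dying on the reduction modulo `J` lie in `J Γ(F, U)`. -/
theorem mem_smul_top_of_thetaFun_eq_zero {U : Y.Opens} (hU : IsAffineOpen U) (m : Γ(F, U))
    (hm : Groth.Agent.Lib.H72PullbackNat.thetaFun (pullback.fst π (quo A J)) F
      (isAffineOpen_preimage A π J hU) hU le_rfl m = 0) :
    letI := chartModule A π F U; m ∈ J • (⊤ : Submodule ↑A Γ(F, U)) := by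
  letI : Algebra ↑A Γ(Y, U) := (chartHom A π U).toAlgebra
  letI : Module ↑A Γ(F, U) := chartModule A π F U
  haveI : IsScalarTower ↑A Γ(Y, U) Γ(F, U) := .of_algebraMap_smul fun _ _ => rfl
  letI : Algebra Γ(Y, U) Γ(pullback π (quo A J), pullback.fst π (quo A J) ⁻¹ᵁ U) :=
    ((pullback.fst π (quo A J)).appLE U _ le_rfl).hom.toAlgebra
  letI : Module Γ(Y, U) Γ((Scheme.Modules.pullback (pullback.fst π (quo A J))).obj F,
      pullback.fst π (quo A J) ⁻¹ᵁ U) :=
    Module.compHom _ ((pullback.fst π (quo A J)).appLE U _ le_rfl).hom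
  haveI : IsScalarTower Γ(Y, U) Γ(pullback π (quo A J), pullback.fst π (quo A J) ⁻¹ᵁ U)
      Γ((Scheme.Modules.pullback (pullback.fst π (quo A J))).obj F,
        pullback.fst π (quo A J) ⁻¹ᵁ U) := .of_algebraMap_smul fun _ _ => rfl
  obtain ⟨θ, hθ, hθm⟩ := Groth.Agent.Lib.H72PullbackNat.exists_isBaseChange_sections'
    (pullback.fst π (quo A J)) F (isAffineOpen_preimage A π J hU) hU le_rfl
  have h1 : hθ.equiv ((1 : Γ(pullback π (quo A J), pullback.fst π (quo A J) ⁻¹ᵁ U)) ⊗ₜ[Γ(Y, U)] m)
      = 0 := by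
    rw [IsBaseChange.equiv_tmul, one_smul, hθm, hm]
  have h2 : (1 : Γ(pullback π (quo A J), pullback.fst π (quo A J) ⁻¹ᵁ U)) ⊗ₜ[Γ(Y, U)] m = 0 :=
    hθ.equiv.injective (by rw [h1, map_zero])
  have hsurj : Function.Surjective
      (algebraMap Γ(Y, U) Γ(pullback π (quo A J), pullback.fst π (quo A J) ⁻¹ᵁ U)) := by
    change Function.Surjective ((pullback.fst π (quo A J)).appLE U _ le_rfl).hom
    rw [Scheme.Hom.appLE_eq_app]
    exact (pullback.fst π (quo A J)).app_surjective U hU
  have h3 := mem_ker_smul_top_of_one_tmul_eq_zero hsurj m h2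
  have hker : RingHom.ker (algebraMap Γ(Y, U)
      Γ(pullback π (quo A J), pullback.fst π (quo A J) ⁻¹ᵁ U)) ≤
      Ideal.map (algebraMap ↑A Γ(Y, U)) J := by
    intro b hb
    rw [RingHom.mem_ker] at hb
    refine mem_map_of_fst_app_eq_zero A π J hU b ?_
    have : ((pullback.fst π (quo A J)).appLE U _ le_rfl).hom b = 0 := hb
    rwa [Scheme.Hom.appLE_eq_app] at this
  exact mem_smul_top_of_mem_map_smul_top J m (Submodule.smul_mono_left hker h3)

end Chart

section Main

variable {X : Scheme.{u}} (A : CommRingCat.{u}) (p : X ⟶ Spec A) (J : Ideal ↑A)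

/-- Flatness over the base gives flatness of the sections over an affine open as an `A`-module. -/
theorem flat_chartModule (G : X.Modules) [G.IsQuasicoherent] (hG : FlatMod.IsFlatOver p G)
    {W : X.Opens} (hW : IsAffineOpen W) :
    @Module.Flat ↑A Γ(G, W) _ _ (chartModule A p G W) := by
  have h1 := (Groth.Agent.Lib.FlatOverSections.forall_isFlatOverAt_iff_flat_sections p G hW
    (isAffineOpen_top _) le_top).mp (fun x _ => hG x)
  letI : Module Γ(Spec A, ⊤) Γ(G, W) := Module.compHom _ (p.appLE ⊤ W le_top).hom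
  letI : Algebra ↑A Γ(Spec A, ⊤) := (Scheme.ΓSpecIso A).inv.hom.toAlgebra
  letI : Module ↑A Γ(G, W) := chartModule A p G W
  haveI : IsScalarTower ↑A Γ(Spec A, ⊤) Γ(G, W) := .of_algebraMap_smul fun _ _ => rfl
  haveI : Module.Flat ↑A Γ(Spec A, ⊤) :=
    RingHom.Flat.of_bijective (ConcreteCategory.bijective_of_isIso (Scheme.ΓSpecIso A).inv)
  haveI : Module.Flat Γ(Spec A, ⊤) Γ(G, W) := h1
  exact Module.Flat.trans ↑A Γ(Spec A, ⊤) Γ(G, W)

/-- Chart form of the main statement. -/
theorem eq_zero_of_forall_app_eq_zero_of_isAffineOpen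
    (hJ : IsNilpotent J) (hfree : ∀ k : ℕ, Module.Free (↑A ⧸ J) ((↑A ⧸ J) ⊗[↑A] ↥(J ^ k)))
    (F : X.Modules) [F.IsQuasicoherent] {ι : Type u} (G : ι → X.Modules)
    [∀ i, (G i).IsQuasicoherent] (hG : ∀ i, FlatMod.IsFlatOver p (G i)) (u : ∀ i, F ⟶ G i)
    (h0 : ∀ (V : (pullback p (quo A J)).Opens)
      (t : Γ((Scheme.Modules.pullback (pullback.fst p (quo A J))).obj F, V)),
      (∀ i, ((Scheme.Modules.pullback (pullback.fst p (quo A J))).map (u i)).app V t = 0) → t = 0)
    {W : X.Opens} (hW : IsAffineOpen W) (t : Γ(F, W)) (ht : ∀ i, (u i).app W t = 0) : t = 0 := by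
  letI modF : Module ↑A Γ(F, W) := chartModule A p F W
  letI modG : ∀ i, Module ↑A Γ(G i, W) := fun i => chartModule A p (G i) W
  haveI : ∀ i, Module.Flat ↑A Γ(G i, W) := fun i => flat_chartModule A p (G i) (hG i) hW
  let φ : ∀ i, Γ(F, W) →ₗ[↑A] Γ(G i, W) := fun i =>
    { toFun := fun m => (u i).app W m
      map_add' := fun a b => map_add ((u i).app W).hom a b
      map_smul' := fun a m => Scheme.Modules.Hom.app_smul (u i) (chartHom A p W a) m }
  refine Groth.Agent.Lib.NilDense88.eq_zero_of_forall_map_eq_zero hJ hfree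
    (fun i => Γ(G i, W)) φ ?_ t ht
  intro m hm
  refine mem_smul_top_of_thetaFun_eq_zero A p J F hW m ?_
  refine h0 _ _ fun i => ?_
  rw [← Groth.Agent.Lib.H72PullbackNat.thetaFun_naturality (pullback.fst p (quo A J)) (u i)
    (isAffineOpen_preimage A p J hW) hW le_rfl m]
  exact thetaFun_eq_zero_of_mem_smul_top A p J (G i) hW _ (hm i)

/-- **EGA IV 11.9.x (nilpotent thickening of the base), separating families.** -/
theorem eq_zero_of_forall_app_eq_zero
    (hJ : IsNilpotent J) (hfree : ∀ k : ℕ, Module.Free (↑A ⧸ J) ((↑A ⧸ J) ⊗[↑A] ↥(J ^ k)))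
    (F : X.Modules) [F.IsQuasicoherent] {ι : Type u} (G : ι → X.Modules)
    [∀ i, (G i).IsQuasicoherent] (hG : ∀ i, FlatMod.IsFlatOver p (G i)) (u : ∀ i, F ⟶ G i)
    (h0 : ∀ (V : (pullback p (quo A J)).Opens)
      (t : Γ((Scheme.Modules.pullback (pullback.fst p (quo A J))).obj F, V)),
      (∀ i, ((Scheme.Modules.pullback (pullback.fst p (quo A J))).map (u i)).app V t = 0) → t = 0)
    (V : X.Opens) (t : Γ(F, V)) (ht : ∀ i, (u i).app V t = 0) : t = 0 := by
  refine TopCat.Presheaf.section_ext ⟨F.presheaf, F.isSheaf⟩ _ _ _ fun x hx => ?_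
  obtain ⟨W, hW, hxW, hWV⟩ := Opens.isBasis_iff_nbhd.mp X.isBasis_affineOpens
    (show x ∈ V from hx)
  have h1 : res F hWV t = 0 := by
    refine eq_zero_of_forall_app_eq_zero_of_isAffineOpen A p J hJ hfree F G hG u h0 hW _
      fun i => ?_
    rw [Groth.Agent.Lib.FibInjSch88.app_res (u i) hWV t, ht i, res_zero]
  have e1 := germ_res F hWV x hxW t
  rw [h1] at e1
  rw [← e1, map_zero, map_zero]

end Main

end Groth.Agent.Lib.NilSepSch88
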