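/-
Composition of Nisnevich covers of bounded length (helper52).
`isCompact_of_isConstructible`, `isConstructible_image_of_isEmbedding` (image of a constructible set
under an embedding with constructible range, in a compact quasi-separated prespectral space),
`exists_stratum`, `stratum_unique` (strata of a flag), `isNisCoverLen_comp`.
-/
import Mathlib
import Groth.Prelude.Def_W4c5algebraiztannakaNis

set_option autoImplicit false
universe u
open CategoryTheory AlgebraicGeometry Topology Set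

namespace Groth.Agent.Lib.NisCompH52

open W4c5algebraiztannaka

/-- constructible subsets of a compact space are compact -/
theorem isCompact_of_isConstructible {X : Type*} [TopologicalSpace X] [CompactSpace X]
    {s : Set X} (hs : IsConstructible s) : IsCompact s := by
  induction s, hs using BooleanSubalgebra.closure_sdiff_sup_induction with
  | isSublattice =>
    exact ⟨fun s hs t ht ↦ ⟨hs.1.union ht.1, hs.2.union ht.2⟩,
      fun s hs t ht ↦ ⟨hs.1.inter ht.1, hs.2.inter_isOpen ht.2 ht.1⟩⟩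
  | bot_mem => exact ⟨isOpen_empty, .empty⟩
  | top_mem => exact ⟨isOpen_univ, .univ⟩
  | sdiff U hU V hV => exact hU.2.isCompact.diff hV.1
  | sup s _ t _ hs' ht' => exact hs'.union ht'

/-- the image of a constructible set under an embedding with constructible range into a
compact quasi-separated prespectral space is constructible -/
theorem isConstructible_image_of_isEmbedding {T Y : Type*} [TopologicalSpace T]
    [TopologicalSpace Y] [CompactSpace Y] [QuasiSeparatedSpace Y] [PrespectralSpace Y]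
    {t : T → Y} (ht : IsEmbedding t) (hS : IsConstructible (Set.range t)) {C : Set T}
    (hC : IsConstructible C) : IsConstructible (t '' C) := by
  have hTc : IsCompact (Set.univ : Set T) := by
    rw [ht.isInducing.isCompact_iff, Set.image_univ]
    exact isCompact_of_isConstructible hS
  induction hC using IsConstructible.empty_union_induction with
  | open_retrocompact U hUopen hUcomp =>
    have hUc : IsCompact U := by simpa using hUcomp hTc isOpen_univ
    obtain ⟨O', hO', rfl⟩ := ht.isInducing.isOpen_iff.mp hUopen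
    obtain ⟨W, hWc, hWo, hKW, hWO⟩ := PrespectralSpace.exists_isCompact_and_isOpen_between
      (hUc.image ht.continuous) hO' (Set.image_preimage_subset _ _)
    have : t '' (t ⁻¹' O') = Set.range t ∩ W := by
      apply subset_antisymm
      · intro y hy
        exact ⟨Set.image_subset_range _ _ hy, hKW hy⟩
      · rintro _ ⟨⟨x, rfl⟩, hxW⟩
        exact ⟨x, hWO hxW, rfl⟩
    rw [this]
    exact hS.inter (hWc.isConstructible hWo)
  | union s hs t' ht' hs' ht'' => rw [Set.image_union]; exact hs'.union ht''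
  | compl s hs hs' =>
    rw [← Set.range_sdiff_image ht.injective]
    exact hS.sdiff hs'

/-- every point lies in a stratum of a flag -/
theorem exists_stratum {Y : Type*} {m : ℕ} (Z : Fin (m + 1) → Set Y) (h0 : Z 0 = ∅)
    (hm : Z (Fin.last m) = Set.univ) (y : Y) : ∃ k : Fin m, y ∈ Z k.succ \ Z k.castSucc := by
  classical
  have hex : ∃ j : ℕ, ∃ h : j < m + 1, y ∈ Z ⟨j, h⟩ :=
    ⟨m, Nat.lt_succ_self m, by
      have : (⟨m, Nat.lt_succ_self m⟩ : Fin (m + 1)) = Fin.last m := rfl
      rw [this, hm]; trivial⟩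
  obtain ⟨hj, hjy⟩ := Nat.find_spec hex
  have hmin := fun j' (hj' : j' < Nat.find hex) => Nat.find_min hex hj'
  rcases Nat.eq_zero_or_pos (Nat.find hex) with h | h
  · exfalso
    have : (⟨Nat.find hex, hj⟩ : Fin (m + 1)) = 0 := Fin.ext h
    rw [this, h0] at hjy
    exact hjy
  · obtain ⟨k, hk⟩ : ∃ k, Nat.find hex = k + 1 := ⟨Nat.find hex - 1, by omega⟩
    have hkm : k < m := by omega
    refine ⟨⟨k, hkm⟩, ?_, ?_⟩
    · have : (⟨k, hkm⟩ : Fin m).succ = ⟨Nat.find hex, hj⟩ := Fin.ext (by simp only [Fin.val_succ]; exact hk.symm)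
      rw [this]; exact hjy
    · intro hy
      exact hmin k (by omega) ⟨by omega, hy⟩

/-- strata of a monotone flag are disjoint -/
theorem stratum_unique {Y : Type*} {m : ℕ} (Z : Fin (m + 1) → Set Y) (hmono : Monotone Z)
    {y : Y} {k k' : Fin m} (h : y ∈ Z k.succ \ Z k.castSucc) (h' : y ∈ Z k'.succ \ Z k'.castSucc) :
    k = k' := by
  by_contra hne
  rcases lt_or_gt_of_ne hne with hlt | hgt
  · exact h'.2 (hmono (show k.succ ≤ k'.castSucc from Fin.succ_le_castSucc_iff.mpr hlt) h.1)
  · exact h.2 (hmono (show k'.succ ≤ k.castSucc from Fin.succ_le_castSucc_iff.mpr hgt) h'.1)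

theorem isNisCoverLen_comp {Y₁ Y₂ Y₃ : Scheme.{u}} (g₁ : Y₁ ⟶ Y₂) (g₂ : Y₂ ⟶ Y₃)
    [CompactSpace Y₃] [QuasiSeparatedSpace Y₃] (m₁ m₂ : ℕ)
    (h₁ : IsNisCoverLen g₁ m₁) (h₂ : IsNisCoverLen g₂ m₂) :
    IsNisCoverLen (g₁ ≫ g₂) (m₁ * m₂) := by
  classical
  obtain ⟨het₁, Z', hZ'0, hZ'm, hZ'mono, hZ'cc, hsec'⟩ := h₁
  obtain ⟨het₂, Z, hZ0, hZm, hZmono, hZcc, hsec⟩ := h₂
  choose T t s htimm htrange hts using hsec
  choose T' t' s' ht'imm ht'range ht's using hsec'
  -- extended flag on Y₂
  let Z'c : ℕ → Set ↥Y₂ := fun l => Z' ⟨min l m₁, Nat.lt_succ_of_le (min_le_right _ _)⟩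
  have hZ'c0 : Z'c 0 = ∅ := by
    have : (⟨min 0 m₁, Nat.lt_succ_of_le (min_le_right _ _)⟩ : Fin (m₁ + 1)) = 0 :=
      Fin.ext (by simp)
    show Z' _ = ∅
    rw [this, hZ'0]
  have hZ'cm : ∀ l, m₁ ≤ l → Z'c l = Set.univ := by
    intro l hl
    have : (⟨min l m₁, Nat.lt_succ_of_le (min_le_right _ _)⟩ : Fin (m₁ + 1)) = Fin.last m₁ :=
      Fin.ext (by simp [hl])
    show Z' _ = Set.univ
    rw [this, hZ'm]
  have hZ'cmono : Monotone Z'c := by
    intro a b hab
    apply hZ'mono
    show min a m₁ ≤ min b m₁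
    exact min_le_min_right _ hab
  have hZ'csucc : ∀ l : Fin m₁, Z'c (l.val + 1) \ Z'c l.val = Z' l.succ \ Z' l.castSucc := by
    intro l
    have h1 : (⟨min (l.val + 1) m₁, Nat.lt_succ_of_le (min_le_right _ _)⟩ : Fin (m₁ + 1)) =
        l.succ := Fin.ext (by have := l.isLt; simp only [Fin.val_succ]; omega)
    have h2 : (⟨min l.val m₁, Nat.lt_succ_of_le (min_le_right _ _)⟩ : Fin (m₁ + 1)) =
        l.castSucc := Fin.ext (by have := l.isLt; simp only [Fin.val_castSucc]; omega)
    show Z' _ \ Z' _ = _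
    rw [h1, h2]
  -- strata of Y₃
  have hinj : ∀ k, Function.Injective (fun x : ↥(T k) => (t k) x) := fun k => by
    haveI := htimm k
    exact (t k).isEmbedding.injective
  have hmemrange : ∀ k (x : ↥(T k)), (t k) x ∈ Z k.succ \ Z k.castSucc := fun k x => by
    rw [← htrange k]; exact ⟨x, rfl⟩
  have hpt : ∀ y : ↥Y₃, ∃ k, ∃ x : ↥(T k), (t k) x = y := by
    intro y
    obtain ⟨k, hk⟩ := exists_stratum Z hZ0 hZm y
    rw [← htrange k] at hk
    obtain ⟨x, hx⟩ := hk
    exact ⟨k, x, hx⟩
  have huniq : ∀ k k' (x : ↥(T k)) (x' : ↥(T k')), (t k) x = (t k') x' → k = k' := by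
    intro k k' x x' h
    exact stratum_unique Z hZmono (hmemrange k x) (h ▸ hmemrange k' x')
  -- the flag
  let G : ℕ → Set ↥Y₃ := fun n => ⋃ k : Fin m₂, (t k) '' ((s k) ⁻¹' Z'c (n - k.val * m₁))
  have hGmem : ∀ n (y : ↥Y₃), y ∈ G n ↔ ∃ k, ∃ x : ↥(T k), (t k) x = y ∧
      (s k) x ∈ Z'c (n - k.val * m₁) := by
    intro n y
    simp only [G, Set.mem_iUnion, Set.mem_image, Set.mem_preimage]
    constructor
    · rintro ⟨k, x, hx, rfl⟩; exact ⟨k, x, rfl, hx⟩
    · rintro ⟨k, x, rfl, hx⟩; exact ⟨k, x, hx, rfl⟩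
  have hGmem' : ∀ n k (x : ↥(T k)), (t k) x ∈ G n ↔ (s k) x ∈ Z'c (n - k.val * m₁) := by
    intro n k x
    rw [hGmem]
    constructor
    · rintro ⟨k', x', hxx', hx'⟩
      obtain rfl := huniq k' k x' x hxx'
      obtain rfl := hinj k' hxx'
      exact hx'
    · intro h; exact ⟨k, x, rfl, h⟩
  have hG0 : G 0 = ∅ := by
    ext y
    rw [hGmem]
    simp only [Nat.zero_sub, hZ'c0, Set.mem_empty_iff_false, and_false, exists_false]
  have hGlast : G (m₁ * m₂) = Set.univ := by
    ext y
    simp only [Set.mem_univ, iff_true]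
    obtain ⟨k, x, rfl⟩ := hpt y
    rw [hGmem']
    rw [hZ'cm]
    · trivial
    · have hk : k.val + 1 ≤ m₂ := k.isLt
      have : (k.val + 1) * m₁ ≤ m₂ * m₁ := Nat.mul_le_mul_right _ hk
      have h2 : (k.val + 1) * m₁ = k.val * m₁ + m₁ := Nat.succ_mul _ _
      have h3 : m₂ * m₁ = m₁ * m₂ := Nat.mul_comm _ _
      omega
  have hGmono : Monotone G := by
    intro a b hab y hy
    rw [hGmem] at hy ⊢
    obtain ⟨k, x, hx, hxs⟩ := hy
    exact ⟨k, x, hx, hZ'cmono (Nat.sub_le_sub_right hab _) hxs⟩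
  have hGclosed : ∀ n, IsClosed (G n) := by
    intro n
    rw [← closure_subset_iff_isClosed]
    intro y hy
    have hcl : closure (G n) = ⋃ k : Fin m₂, closure ((t k) '' ((s k) ⁻¹' Z'c (n - k.val * m₁))) :=
      closure_iUnion_of_finite _
    rw [hcl] at hy
    obtain ⟨k, hyk⟩ := Set.mem_iUnion.mp hy
    by_cases hyr : y ∈ Set.range (fun x : ↥(T k) => (t k) x)
    · obtain ⟨x, rfl⟩ := hyr
      rw [hGmem']
      haveI := htimm k
      have hC : IsClosed ((s k) ⁻¹' Z'c (n - k.val * m₁)) :=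
        (hZ'cc _).1.preimage (s k).continuous
      have h1 := (t k).isEmbedding.isInducing.closure_eq_preimage_closure_image
        ((s k) ⁻¹' Z'c (n - k.val * m₁))
      rw [hC.closure_eq] at h1
      have : x ∈ (t k) ⁻¹' closure ((t k) '' ((s k) ⁻¹' Z'c (n - k.val * m₁))) := hyk
      rw [← h1] at this
      exact this
    · -- y lies in a lower stratum, which is entirely contained in G n
      have hsub : (t k) '' ((s k) ⁻¹' Z'c (n - k.val * m₁)) ⊆ Z k.succ := by
        rintro _ ⟨x, -, rfl⟩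
        exact (hmemrange k x).1
      have hyZ : y ∈ Z k.succ := closure_minimal hsub (hZcc _).1 hyk
      have hyZ' : y ∈ Z k.castSucc := by
        by_contra hcon
        apply hyr
        rw [htrange k]
        exact ⟨hyZ, hcon⟩
      have hne : ((t k) '' ((s k) ⁻¹' Z'c (n - k.val * m₁))).Nonempty := by
        rw [← closure_nonempty_iff]; exact ⟨y, hyk⟩
      obtain ⟨_, x₀, hx₀, -⟩ := hne
      have hpos : n - k.val * m₁ ≠ 0 := by
        intro h0
        rw [Set.mem_preimage, h0, hZ'c0] at hx₀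
        exact hx₀
      obtain ⟨k', x', rfl⟩ := hpt y
      have hk'k : k'.val < k.val := by
        by_contra hcon
        have hle : k.castSucc ≤ k'.castSucc := by
          rw [Fin.castSucc_le_castSucc_iff]; exact Fin.le_def.mpr (not_lt.mp hcon)
        exact (hmemrange k' x').2 (hZmono hle hyZ')
      rw [hGmem', hZ'cm]
      · trivial
      · have : (k'.val + 1) * m₁ ≤ k.val * m₁ := Nat.mul_le_mul_right _ hk'k
        have h2 : (k'.val + 1) * m₁ = k'.val * m₁ + m₁ := Nat.succ_mul _ _
        omega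
  have hGcons : ∀ n, IsConstructible (G n) := by
    intro n
    refine IsConstructible.iUnion fun k => ?_
    haveI := htimm k
    refine isConstructible_image_of_isEmbedding (t k).isEmbedding ?_
      ((s k).isConstructible_preimage (hZ'cc _).2)
    have : Set.range (⇑(t k)) = Z k.succ \ Z k.castSucc := htrange k
    rw [this]
    exact (hZcc _).2.sdiff (hZcc _).2
  -- the strata of the new flag
  have hstratum : ∀ n, n < m₁ * m₂ → ∃ (k : Fin m₂) (l : Fin m₁),
      G (n + 1) \ G n = (t k) '' ((s k) ⁻¹' (Z' l.succ \ Z' l.castSucc)) := by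
    intro n hn
    have hm₁ : 0 < m₁ := Nat.pos_of_ne_zero (by rintro rfl; simp at hn)
    have hk : n / m₁ < m₂ := Nat.div_lt_of_lt_mul hn
    have hl : n % m₁ < m₁ := Nat.mod_lt _ hm₁
    have hnkl : m₁ * (n / m₁) + n % m₁ = n := Nat.div_add_mod n m₁
    refine ⟨⟨n / m₁, hk⟩, ⟨n % m₁, hl⟩, ?_⟩
    rw [← hZ'csucc ⟨n % m₁, hl⟩]
    ext y
    obtain ⟨k', x', rfl⟩ := hpt y
    rw [Set.mem_sdiff, hGmem', hGmem']
    constructor
    · rintro ⟨h1, h2⟩
      have hkk : k'.val = n / m₁ := by
        rcases lt_trichotomy k'.val (n / m₁) with hlt | heq | hgt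
        · exfalso
          apply h2
          rw [hZ'cm]; · trivial
          have : (k'.val + 1) * m₁ ≤ (n / m₁) * m₁ := Nat.mul_le_mul_right _ hlt
          have h2 : (k'.val + 1) * m₁ = k'.val * m₁ + m₁ := Nat.succ_mul _ _
          have h3 : (n / m₁) * m₁ = m₁ * (n / m₁) := Nat.mul_comm _ _
          omega
        · exact heq
        · exfalso
          have : (n / m₁ + 1) * m₁ ≤ k'.val * m₁ := Nat.mul_le_mul_right _ hgt
          have h2' : (n / m₁ + 1) * m₁ = (n / m₁) * m₁ + m₁ := Nat.succ_mul _ _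
          have h3 : (n / m₁) * m₁ = m₁ * (n / m₁) := Nat.mul_comm _ _
          have h4 : n + 1 - k'.val * m₁ = 0 := by omega
          rw [h4, hZ'c0] at h1
          exact h1
      obtain rfl : k' = ⟨n / m₁, hk⟩ := Fin.ext hkk
      have h3 : (n / m₁) * m₁ = m₁ * (n / m₁) := Nat.mul_comm _ _
      have e1 : n + 1 - (n / m₁) * m₁ = n % m₁ + 1 := by omega
      have e2 : n - (n / m₁) * m₁ = n % m₁ := by omega
      refine ⟨x', ?_, rfl⟩
      simp only [e1, e2] at h1 h2
      exact ⟨h1, h2⟩
    · rintro ⟨x, hx, hxy⟩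
      obtain rfl := huniq _ _ _ _ hxy
      obtain rfl := hinj _ hxy
      have h3 : (n / m₁) * m₁ = m₁ * (n / m₁) := Nat.mul_comm _ _
      have e1 : n + 1 - (n / m₁) * m₁ = n % m₁ + 1 := by omega
      have e2 : n - (n / m₁) * m₁ = n % m₁ := by omega
      simp only [e1, e2]
      exact hx
  haveI := het₁
  haveI := het₂
  refine ⟨inferInstance, fun n => G n.val, hG0, ?_, ?_, fun n => ⟨hGclosed _, hGcons _⟩, ?_⟩
  · show G (Fin.last (m₁ * m₂)).val = Set.univ
    rw [Fin.val_last]; exact hGlast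
  · intro a b hab
    exact hGmono hab
  · intro n
    obtain ⟨k, l, hkl⟩ := hstratum n.val n.isLt
    have e : G (n.succ).val \ G (n.castSucc).val = G (n.val + 1) \ G n.val := by
      rw [Fin.val_succ, Fin.val_castSucc]
    show HasSectOver (g₁ ≫ g₂) (G (n.succ).val \ G (n.castSucc).val)
    rw [e, hkl]
    haveI := htimm k
    haveI := ht'imm l
    refine ⟨Limits.pullback (t' l) (s k), Limits.pullback.snd (t' l) (s k) ≫ t k,
      Limits.pullback.fst (t' l) (s k) ≫ s' l, inferInstance, ?_, ?_⟩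
    · have h1 : Set.range (fun x : ↥(Limits.pullback (t' l) (s k)) =>
          (Limits.pullback.snd (t' l) (s k) ≫ t k) x) =
          (t k) '' (Set.range (Limits.pullback.snd (t' l) (s k))) := by
        ext y
        simp only [Set.mem_range, Set.mem_image, Scheme.Hom.comp_apply]
        constructor
        · rintro ⟨x, rfl⟩
          exact ⟨_, ⟨x, rfl⟩, rfl⟩
        · rintro ⟨_, ⟨x, rfl⟩, rfl⟩
          exact ⟨x, rfl⟩
      rw [h1, Scheme.Pullback.range_snd]
      have h2 : Set.range (⇑(t' l)) = Z' l.succ \ Z' l.castSucc := ht'range l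
      rw [h2]
    · rw [Category.assoc, ← Category.assoc (s' l), ht's l, Limits.pullback.condition_assoc, hts k]

end Groth.Agent.Lib.NisCompH52
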