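import Mathlib

/-!
# The no-name lemma for fields of invariants (helper18)

`L/k` a field extension, `G` a finite group of `k`-automorphisms of `L`, `K₀ ⊆ L` a `G`-stable intermediate
field on which `G` acts faithfully.

* `span_invariants` (Speiser): a `G`-stable `K₀`-subspace `W ⊆ L` is spanned over `K₀` by its `G`-invariant
  vectors (Dedekind independence of characters).
-/

set_option autoImplicit false
set_option maxHeartbeats 400000

open IntermediateField

namespace Groth.Agent.Lib.NoName18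

variable {k L : Type*} [Field k] [Field L] [Algebra k L]

section Speiser

variable (G : Subgroup (L ≃ₐ[k] L)) [Finite G] (K₀ : IntermediateField k L)

/-- restrictions of the elements of `G` to `K₀`, as monoid homs into `L` -/
noncomputable def resHom (σ : G) : K₀ →* L :=
  ((σ : L ≃ₐ[k] L) : L →* L).comp (K₀.val : K₀ →* L)

theorem span_invariants
    (hK₀ : ∀ σ ∈ G, ∀ a ∈ K₀, σ a ∈ K₀)
    (hfaith : ∀ σ ∈ G, (∀ a ∈ K₀, σ a = a) → σ = 1)
    (W : Submodule K₀ L) (hW : ∀ σ ∈ G, ∀ w ∈ W, σ w ∈ W) :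
    Submodule.span K₀ {w | w ∈ W ∧ ∀ σ ∈ G, σ w = w} = W := by
  classical
  haveI : Fintype G := Fintype.ofFinite G
  apply le_antisymm
  · exact Submodule.span_le.2 (fun w hw => hw.1)
  · intro w hw
    by_contra hnot
    obtain ⟨f, hf0, hf⟩ := Submodule.exists_le_ker_of_notMem hnot
    -- the averaged vectors are invariant
    have hs : ∀ c : K₀, (∑ σ : G, (σ : L ≃ₐ[k] L) ((c : L) * w)) ∈
        {w | w ∈ W ∧ ∀ σ ∈ G, σ w = w} := by
      intro c
      refine ⟨?_, ?_⟩
      · refine Submodule.sum_mem _ (fun σ _ => ?_)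
        exact hW σ σ.2 _ (W.smul_mem c hw)
      · intro τ hτ
        rw [map_sum]
        have := Equiv.sum_comp (Equiv.mulLeft (⟨τ, hτ⟩ : G))
          (fun σ : G => (σ : L ≃ₐ[k] L) ((c : L) * w))
        rw [← this]
        rfl
    have h0 : ∀ c : K₀, ∑ σ : G, ((f ((σ : L ≃ₐ[k] L) w) : K₀) : L) * (σ : L ≃ₐ[k] L) (c : L) = 0 := by
      intro c
      have h1 : f (∑ σ : G, (σ : L ≃ₐ[k] L) ((c : L) * w)) = 0 := hf (Submodule.subset_span (hs c))
      rw [map_sum] at h1
      have h2 : ∀ σ : G, f ((σ : L ≃ₐ[k] L) ((c : L) * w)) =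
          (⟨(σ : L ≃ₐ[k] L) (c : L), hK₀ σ σ.2 _ c.2⟩ : K₀) * f ((σ : L ≃ₐ[k] L) w) := by
        intro σ
        rw [map_mul]
        exact f.map_smul (⟨(σ : L ≃ₐ[k] L) (c : L), hK₀ σ σ.2 _ c.2⟩ : K₀) _
      simp_rw [h2] at h1
      have h3 := congrArg (fun a : K₀ => (a : L)) h1
      simp only [AddSubmonoidClass.coe_finsetSum, MulMemClass.coe_mul, ZeroMemClass.coe_zero] at h3
      rw [← h3]
      exact Finset.sum_congr rfl (fun σ _ => mul_comm _ _)
    have hinj : Function.Injective (resHom G K₀) := by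
      intro σ τ hστ
      have h1 : ∀ a ∈ K₀, ((τ⁻¹ * σ : G) : L ≃ₐ[k] L) a = a := by
        intro a ha
        have := congrArg (fun φ : K₀ →* L => φ ⟨a, ha⟩) hστ
        change (σ : L ≃ₐ[k] L) a = (τ : L ≃ₐ[k] L) a at this
        change (τ : L ≃ₐ[k] L).symm ((σ : L ≃ₐ[k] L) a) = a
        rw [this, AlgEquiv.symm_apply_apply]
      have h2 := hfaith _ (τ⁻¹ * σ).2 h1
      have h3 : τ⁻¹ * σ = 1 := Subtype.ext h2
      exact (inv_mul_eq_one.mp h3).symm
    have hli : LinearIndependent L (fun σ : G => (resHom G K₀ σ : K₀ → L)) :=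
      (linearIndependent_monoidHom K₀ L).comp _ hinj
    have h4 := Fintype.linearIndependent_iff.1 hli (fun σ => ((f ((σ : L ≃ₐ[k] L) w) : K₀) : L))
      (by
        funext c
        simp only [Finset.sum_apply, Pi.smul_apply, smul_eq_mul, Pi.zero_apply]
        exact h0 c) 1
    apply hf0
    have h5 : ((f w : K₀) : L) = 0 := h4
    exact Subtype.ext h5

/-- an invariant `K₀`-basis of the span of a `G`-stable linearly independent family -/
theorem exists_invariant_family
    (hK₀ : ∀ σ ∈ G, ∀ a ∈ K₀, σ a ∈ K₀)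
    (hfaith : ∀ σ ∈ G, (∀ a ∈ K₀, σ a = a) → σ = 1)
    {m : ℕ} (y : Fin m → L) (hy : LinearIndependent K₀ y)
    (hyG : ∀ σ ∈ G, ∀ j, σ (y j) ∈ Submodule.span K₀ (Set.range y)) :
    ∃ t : Fin m → L, (∀ j, ∀ σ ∈ G, σ (t j) = t j) ∧
      Submodule.span K₀ (Set.range t) = Submodule.span K₀ (Set.range y) := by
  classical
  set W : Submodule K₀ L := Submodule.span K₀ (Set.range y) with hWdef
  have hW : ∀ σ ∈ G, ∀ w ∈ W, σ w ∈ W := by
    intro σ hσ w hw
    induction hw using Submodule.span_induction with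
    | mem x hx =>
      obtain ⟨j, rfl⟩ := hx
      exact hyG σ hσ j
    | zero => rw [map_zero]; exact W.zero_mem
    | add a b _ _ ha hb => rw [map_add]; exact W.add_mem ha hb
    | smul c a _ ha =>
      have : σ (c • a) = (⟨σ (c : L), hK₀ σ hσ _ c.2⟩ : K₀) • σ a := by
        change σ ((c : L) * a) = σ (c : L) * σ a
        rw [map_mul]
      rw [this]
      exact W.smul_mem _ ha
  have hspan := span_invariants G K₀ hK₀ hfaith W hW
  have hfin : Module.finrank K₀ W = m := by
    rw [hWdef, finrank_span_eq_card hy, Fintype.card_fin]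
  haveI hWfin : Module.Finite K₀ W := FiniteDimensional.span_of_finite K₀ (Set.finite_range y)
  haveI : Module.Finite K₀ (Submodule.span K₀ {w | w ∈ W ∧ ∀ σ ∈ G, σ w = w}) := by
    rw [hspan]; exact hWfin
  obtain ⟨t, ht, htspan, -⟩ := Submodule.exists_fun_fin_finrank_span_eq K₀ {w | w ∈ W ∧ ∀ σ ∈ G, σ w = w}
  have hcard : Module.finrank K₀ (Submodule.span K₀ {w | w ∈ W ∧ ∀ σ ∈ G, σ w = w}) = m := by
    rw [hspan]; exact hfin
  refine ⟨t ∘ (finCongr hcard.symm), fun j σ hσ => (ht _).2 σ hσ, ?_⟩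
  rw [(finCongr hcard.symm).surjective.range_comp t, htspan, hspan]

end Speiser

section Trdeg

open Cardinal

/-- a family spanning the same subspace as a finite transcendence basis is a transcendence basis -/
theorem isTranscendenceBasis_of_span_eq {K : Type*} [Field K] [Algebra K L] {m : ℕ}
    (y t : Fin m → L) (hy : IsTranscendenceBasis K y)
    (hspan : Submodule.span K (Set.range t) = Submodule.span K (Set.range y)) :
    IsTranscendenceBasis K t := by
  have hle : Algebra.adjoin K (Set.range y) ≤ Algebra.adjoin K (Set.range t) := by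
    apply Algebra.adjoin_le
    rintro _ ⟨j, rfl⟩
    have h1 : y j ∈ Submodule.span K (Set.range t) := by
      rw [hspan]; exact Submodule.subset_span ⟨j, rfl⟩
    exact Algebra.span_le_adjoin K _ h1
  have halg := hy.isAlgebraic
  haveI : Algebra.IsAlgebraic (Algebra.adjoin K (Set.range t)) L :=
    ⟨fun x => (halg.isAlgebraic x).tower_top_of_subalgebra_le hle⟩
  exact Algebra.IsAlgebraic.isTranscendenceBasis_of_lift_le_trdeg_of_finite K t
    hy.lift_cardinalMk_eq_trdeg.le

end Trdeg

section Degree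

variable (G : Subgroup (L ≃ₐ[k] L)) [Finite G] (K₀ : IntermediateField k L)

/-- Artin: `[K₀ : K₀ ∩ L^G] ≤ |G|` for a `G`-stable subfield `K₀` -/
theorem rank_le_card (hK₀ : ∀ σ ∈ G, ∀ a ∈ K₀, σ a ∈ K₀) :
    Module.rank ↥(K₀ ⊓ fixedField G)
      ↥(extendScalars (inf_le_left : K₀ ⊓ fixedField G ≤ K₀)) ≤ Nat.card G := by
  classical
  haveI : Fintype G := Fintype.ofFinite G
  haveI : IsInvariantSubfield G K₀.toSubfield := ⟨fun σ x hx => hK₀ σ σ.2 x hx⟩
  have h1 := FixedPoints.rank_le_card G K₀.toSubfield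
  rw [Nat.card_eq_fintype_card]
  refine le_trans (le_of_eq ?_) h1
  symm
  let i : ↥(FixedPoints.subfield G K₀.toSubfield) → ↥(K₀ ⊓ fixedField G) := fun a =>
    ⟨(a.1 : L), ⟨a.1.2, (mem_fixedField_iff _ _).2
      (fun σ hσ => congrArg Subtype.val (a.2 ⟨σ, hσ⟩))⟩⟩
  let j : ↥K₀.toSubfield ≃+ ↥(extendScalars (inf_le_left : K₀ ⊓ fixedField G ≤ K₀)) :=
    { toFun := fun a => ⟨a.1, a.2⟩
      invFun := fun a => ⟨a.1, a.2⟩
      left_inv := fun _ => rfl
      right_inv := fun _ => rfl
      map_add' := fun _ _ => rfl }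
  refine rank_eq_of_equiv_equiv i j ⟨?_, ?_⟩ ?_
  · intro a b hab
    apply Subtype.ext
    apply Subtype.ext
    exact congrArg (fun z : ↥(K₀ ⊓ fixedField G) => (z : L)) hab
  · rintro ⟨x, hxK, hxG⟩
    refine ⟨⟨⟨x, hxK⟩, fun σ => Subtype.ext ?_⟩, rfl⟩
    exact (mem_fixedField_iff _ _).1 hxG σ σ.2
  · intro r m
    rfl

end Degree

section Main

open Cardinal

variable (G : Subgroup (L ≃ₐ[k] L)) [Finite G] (K₀ : IntermediateField k L)

/-- **No-name lemma.**  If `L = K₀(y)` with `y` a finite transcendence basis spanning a `G`-stable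
`K₀`-subspace, and `G` acts faithfully on `K₀`, then `L^G` is purely transcendental over `K₀ ∩ L^G`. -/
theorem noName
    (hK₀ : ∀ σ ∈ G, ∀ a ∈ K₀, σ a ∈ K₀)
    (hfaith : ∀ σ ∈ G, (∀ a ∈ K₀, σ a = a) → σ = 1)
    {m : ℕ} (y : Fin m → L) (hy : IsTranscendenceBasis K₀ y)
    (hyG : ∀ σ ∈ G, ∀ j, σ (y j) ∈ Submodule.span K₀ (Set.range y))
    (hgen : ∀ T : Subfield L, (K₀ : Set L) ⊆ T → Set.range y ⊆ T → T = ⊤) :
    ∃ t : Fin m → L, AlgebraicIndependent ↥(K₀ ⊓ fixedField G) t ∧
      restrictScalars k (adjoin ↥(K₀ ⊓ fixedField G) (Set.range t)) = fixedField G := by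
  classical
  haveI : Fintype G := Fintype.ofFinite G
  obtain ⟨t, htG, htspan⟩ := exists_invariant_family G K₀ hK₀ hfaith y hy.1.linearIndependent hyG
  have htb := isTranscendenceBasis_of_span_eq y t hy htspan
  refine ⟨t, ?_, ?_⟩
  · letI : Algebra ↥(K₀ ⊓ fixedField G) ↥K₀ :=
      (IntermediateField.inclusion (inf_le_left : K₀ ⊓ fixedField G ≤ K₀)).toRingHom.toAlgebra
    haveI : IsScalarTower ↥(K₀ ⊓ fixedField G) ↥K₀ L := IsScalarTower.of_algebraMap_eq (fun _ => rfl)
    exact htb.1.restrictScalars (K := ↥K₀) (RingHom.injective _)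
  · set F := K₀ ⊓ fixedField G with hF
    set M := adjoin ↥F (Set.range t) with hM
    -- `F(t) ⊆ L^G`
    have h_le : restrictScalars k M ≤ fixedField G := by
      have h1 : M ≤ extendScalars (inf_le_right : F ≤ fixedField G) := by
        rw [hM, adjoin_le_iff]
        rintro _ ⟨j, rfl⟩
        exact (mem_fixedField_iff _ _).2 (fun σ hσ => htG j σ hσ)
      intro a ha
      exact h1 ha
    -- `[L : F(t)] ≤ |G|`
    have hrk := rank_le_card G K₀ hK₀
    have hfinK : Module.Finite ↥F ↥(extendScalars (inf_le_left : F ≤ K₀)) :=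
      Module.rank_lt_aleph0_iff.1 (lt_of_le_of_lt hrk (natCast_lt_aleph0))
    haveI : Algebra.IsAlgebraic ↥F ↥(extendScalars (inf_le_left : F ≤ K₀)) :=
      Algebra.IsAlgebraic.of_finite _ _
    have h2 := adjoin_rank_le_of_isAlgebraic_right (F := ↥F) (K := L) ↥M
      (extendScalars (inf_le_left : F ≤ K₀))
    have htop : adjoin ↥M ((extendScalars (inf_le_left : F ≤ K₀) : IntermediateField ↥F L) : Set L) = ⊤ := by
      have h3 := hgen (adjoin ↥M ((extendScalars (inf_le_left : F ≤ K₀) :
        IntermediateField ↥F L) : Set L)).toSubfield ?_ ?_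
      · apply SetLike.coe_injective
        have := congrArg (fun T : Subfield L => (T : Set L)) h3
        exact this
      · intro a ha
        exact subset_adjoin _ _ ha
      · rintro _ ⟨j, rfl⟩
        have h4 : y j ∈ Submodule.span K₀ (Set.range t) := by
          rw [htspan]; exact Submodule.subset_span ⟨j, rfl⟩
        have h4' : ∀ v ∈ Submodule.span K₀ (Set.range t),
            v ∈ (adjoin ↥M ((extendScalars (inf_le_left : F ≤ K₀) :
              IntermediateField ↥F L) : Set L)).toSubfield := by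
          intro v hv
          induction hv using Submodule.span_induction with
          | mem x hx =>
            obtain ⟨i, rfl⟩ := hx
            exact (adjoin ↥M _).algebraMap_mem ⟨t i, subset_adjoin _ _ ⟨i, rfl⟩⟩
          | zero => exact zero_mem _
          | add a b _ _ ha hb => exact add_mem ha hb
          | smul c a _ ha =>
            exact mul_mem (subset_adjoin _ _ c.2) ha
        exact h4' _ h4
    rw [htop, rank_top'] at h2
    have h5 : Module.rank ↥M L ≤ Nat.card G := h2.trans hrk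
    haveI hfinM : Module.Finite ↥M L :=
      Module.rank_lt_aleph0_iff.1 (lt_of_le_of_lt h5 (natCast_lt_aleph0))
    have h6 : Module.finrank ↥M L ≤ Nat.card G := by
      have := Module.finrank_eq_rank ↥M L
      rw [← this] at h5
      exact_mod_cast h5
    have h7 : Module.finrank ↥(fixedField G) L = Nat.card G := by
      rw [Nat.card_eq_fintype_card]
      exact FixedPoints.finrank_eq_card G L
    haveI : FiniteDimensional ↥(restrictScalars k M) L := hfinM
    exact eq_of_le_of_finrank_le' h_le (by rw [h7]; exact h6)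

end Main

end Groth.Agent.Lib.NoName18
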