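/-
helper7: basics on the formal double point N = B[[x,y]]/(xy - π) (ArLef.NodeAlg): N is a domain, t and e are
non-associated prime elements, swap automorphism, augmentation to the residue field; general lemma: a power
series over a domain with prime constant coefficient generates a prime ideal.
-/
import Mathlib
import Groth.Prelude.Def_W4c2arithlefschetzNode

set_option autoImplicit false
universe u

namespace Groth.Agent.Lib.NodeAlg7

open PowerSeries

section General

variable {A : Type u} [CommRing A] [IsDomain A]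

/-- `X` is a nonzerodivisor modulo `f` when the constant coefficient of `f` is nonzero. -/
theorem mem_span_of_X_mul_mem {f : PowerSeries A} (hc : constantCoeff f ≠ 0) {x : PowerSeries A}
    (hx : X * x ∈ Ideal.span {f}) : x ∈ Ideal.span {f} := by
  rw [Ideal.mem_span_singleton] at hx ⊢
  obtain ⟨y, hy⟩ := hx
  have h0 : constantCoeff y = 0 := by
    have := congrArg constantCoeff hy
    rw [map_mul, map_mul, constantCoeff_X, zero_mul] at this
    exact (mul_eq_zero.mp this.symm).resolve_left hc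
  obtain ⟨y', rfl⟩ := X_dvd_iff.mpr h0
  refine ⟨y', ?_⟩
  have : X * x = X * (f * y') := by rw [hy]; ring
  exact mul_left_cancel₀ X_ne_zero this

theorem mem_span_of_X_pow_mul_mem {f : PowerSeries A} (hc : constantCoeff f ≠ 0) (n : ℕ)
    {x : PowerSeries A} (hx : X ^ n * x ∈ Ideal.span {f}) : x ∈ Ideal.span {f} := by
  induction n with
  | zero => simpa using hx
  | succ n ih =>
    apply ih
    apply mem_span_of_X_mul_mem hc
    rw [← mul_assoc, ← pow_succ']
    exact hx

/-- `f` is a nonzerodivisor modulo `X^n`. -/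
theorem X_pow_dvd_of_X_pow_dvd_mul {f : PowerSeries A} (hc : constantCoeff f ≠ 0) (n : ℕ)
    {u : PowerSeries A} (hu : X ^ n ∣ f * u) : X ^ n ∣ u := by
  induction n with
  | zero => simp
  | succ n ih =>
    obtain ⟨u', rfl⟩ := ih (dvd_trans (pow_dvd_pow X (Nat.le_succ n)) hu)
    obtain ⟨w, hw⟩ := hu
    have h1 : f * u' = X * w := by
      have : X ^ n * (f * u') = X ^ n * (X * w) := by
        calc X ^ n * (f * u') = f * (X ^ n * u') := by ring
          _ = X ^ (n + 1) * w := hw
          _ = X ^ n * (X * w) := by rw [pow_succ]; ring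
      exact mul_left_cancel₀ (pow_ne_zero n X_ne_zero) this
    have h0 : constantCoeff u' = 0 := by
      have := congrArg constantCoeff h1
      rw [map_mul, map_mul, constantCoeff_X, zero_mul] at this
      exact (mul_eq_zero.mp this).resolve_left hc
    obtain ⟨u'', rfl⟩ := X_dvd_iff.mpr h0
    exact ⟨u'', by ring⟩

/-- `(f)` is closed for the `X`-adic topology. -/
theorem mem_span_of_forall_mem_span_pair {f : PowerSeries A} (hc : constantCoeff f ≠ 0)
    {g : PowerSeries A} (hg : ∀ n : ℕ, g ∈ Ideal.span {f, X ^ n}) : g ∈ Ideal.span {f} := by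
  have h1 : ∀ n : ℕ, ∃ a b : PowerSeries A, a * f + b * X ^ n = g :=
    fun n => Ideal.mem_span_pair.mp (hg n)
  choose a b hab using h1
  have hstep : ∀ n m, m < n → coeff m (a (n + 1)) = coeff m (a n) := by
    intro n m hm
    have hd : X ^ n ∣ f * (a (n + 1) - a n) := by
      refine ⟨b n - X * b (n + 1), ?_⟩
      have e1 := hab n
      have e2 := hab (n + 1)
      have : f * (a (n + 1) - a n) = (a (n + 1) * f + b (n + 1) * X ^ (n + 1)) -
          (a n * f + b n * X ^ n) + (b n * X ^ n - b (n + 1) * X ^ (n + 1)) := by ring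
      rw [this, e1, e2, pow_succ]; ring
    have := X_pow_dvd_iff.mp (X_pow_dvd_of_X_pow_dvd_mul hc n hd) m hm
    rw [map_sub, sub_eq_zero] at this
    exact this
  have hstab : ∀ m n, m + 1 ≤ n → coeff m (a n) = coeff m (a (m + 1)) := by
    intro m n hn
    induction n, hn using Nat.le_induction with
    | base => rfl
    | succ n hn ih => rw [hstep n m (by omega), ih]
  rw [Ideal.mem_span_singleton]
  refine ⟨mk fun m => coeff m (a (m + 1)), ?_⟩
  ext m
  have e1 := hab (m + 1)
  have : coeff m g = coeff m (a (m + 1) * f) := by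
    rw [← e1, map_add, coeff_mul_X_pow', if_neg (by omega), add_zero]
  rw [this, mul_comm f, coeff_mul, coeff_mul]
  refine Finset.sum_congr rfl fun p hp => ?_
  have hp' : p.1 + p.2 = m := Finset.HasAntidiagonal.mem_antidiagonal.mp hp
  rw [coeff_mk, hstab p.1 (m + 1) (by omega)]

/-- membership in `(f, X)`. -/
theorem mem_span_pair_X_iff (f g : PowerSeries A) :
    g ∈ Ideal.span {f, X} ↔ constantCoeff f ∣ constantCoeff g := by
  rw [Ideal.mem_span_pair]
  constructor
  · rintro ⟨u, v, rfl⟩
    rw [map_add, map_mul, map_mul, constantCoeff_X, mul_zero, add_zero]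
    exact Dvd.intro_left _ rfl
  · rintro ⟨d, hd⟩
    have h0 : constantCoeff (g - C d * f) = 0 := by
      rw [map_sub, map_mul, constantCoeff_C, hd]; ring
    obtain ⟨w, hw⟩ := X_dvd_iff.mpr h0
    refine ⟨C d, w, ?_⟩
    rw [mul_comm w X, ← hw]; ring

theorem span_singleton_isPrime {f : PowerSeries A} (hc : Prime (constantCoeff f)) :
    (Ideal.span {f}).IsPrime := by
  have hc0 : constantCoeff f ≠ 0 := hc.ne_zero
  -- a minimal decomposition for elements outside (f)
  have key : ∀ g : PowerSeries A, g ∉ Ideal.span {f} →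
      ∃ (n : ℕ) (a g₁ : PowerSeries A), g = a * f + X ^ n * g₁ ∧ g₁ ∉ Ideal.span {f, X} := by
    intro g hg
    have hex : ∃ n : ℕ, g ∉ Ideal.span {f, X ^ n} := by
      by_contra hcon
      push Not at hcon
      exact hg (mem_span_of_forall_mem_span_pair hc0 hcon)
    classical
    have hmin : ∀ {m : ℕ}, m < Nat.find hex → ¬ (g ∉ Ideal.span {f, X ^ m}) := fun {m} h => Nat.find_min hex h
    have hspec := Nat.find_spec hex
    set n := Nat.find hex with hn
    have hn0 : n ≠ 0 := by
      intro h0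
      apply hspec
      rw [h0, pow_zero]
      have : Ideal.span {f, (1 : PowerSeries A)} = ⊤ :=
        Ideal.eq_top_of_isUnit_mem _ (Ideal.subset_span (by simp)) isUnit_one
      rw [this]; trivial
    obtain ⟨k, hk⟩ := Nat.exists_eq_succ_of_ne_zero hn0
    have hk' : g ∈ Ideal.span {f, X ^ k} := by
      by_contra hcon
      exact hmin (show k < n by omega) hcon
    obtain ⟨a, g₁, hag⟩ := Ideal.mem_span_pair.mp hk'
    refine ⟨k, a, g₁, by rw [← hag]; ring, ?_⟩
    intro hg₁
    obtain ⟨a', b', hab'⟩ := Ideal.mem_span_pair.mp hg₁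
    apply hspec
    rw [hk]
    refine Ideal.mem_span_pair.mpr ⟨a + X ^ k * a', b', ?_⟩
    rw [← hag, ← hab', pow_succ]; ring
  rw [Ideal.isPrime_iff]
  constructor
  · intro htop
    have h1 : (1 : PowerSeries A) ∈ Ideal.span {f} := by rw [htop]; trivial
    rw [Ideal.mem_span_singleton] at h1
    obtain ⟨u, hu⟩ := h1
    apply hc.not_unit
    have := congrArg constantCoeff hu
    rw [map_one, map_mul] at this
    exact IsUnit.of_mul_eq_one _ this.symm
  · intro g h hgh
    by_contra hcon
    push Not at hcon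
    obtain ⟨n, a, g₁, hg, hg₁⟩ := key g hcon.1
    obtain ⟨m, a', h₁, hh, hh₁⟩ := key h hcon.2
    have h1 : X ^ (n + m) * (g₁ * h₁) ∈ Ideal.span {f} := by
      have : X ^ (n + m) * (g₁ * h₁) = g * h - (a * a' * f + a * X ^ m * h₁ + X ^ n * g₁ * a') * f := by
        rw [hg, hh, pow_add]; ring
      rw [this]
      exact Ideal.sub_mem _ hgh (Ideal.mul_mem_left _ _ (Ideal.mem_span_singleton_self f))
    have h2 : g₁ * h₁ ∈ Ideal.span {f} := mem_span_of_X_pow_mul_mem hc0 _ h1
    have h3 : g₁ * h₁ ∈ Ideal.span {f, X} :=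
      Ideal.span_mono (by simp) h2
    rw [mem_span_pair_X_iff, map_mul] at h3
    rcases hc.dvd_or_dvd h3 with h4 | h4
    · exact hg₁ ((mem_span_pair_X_iff f g₁).mpr h4)
    · exact hh₁ ((mem_span_pair_X_iff f h₁).mpr h4)

theorem mk_X_dvd_iff (f g : PowerSeries A) :
    Ideal.Quotient.mk (Ideal.span {f}) X ∣ Ideal.Quotient.mk (Ideal.span {f}) g ↔
      g ∈ Ideal.span {f, X} := by
  constructor
  · rintro ⟨w, hw⟩
    obtain ⟨w, rfl⟩ := Ideal.Quotient.mk_surjective w
    rw [← map_mul, Ideal.Quotient.eq, Ideal.mem_span_singleton] at hw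
    obtain ⟨u, hu⟩ := hw
    refine Ideal.mem_span_pair.mpr ⟨u, w, ?_⟩
    have : g = f * u + X * w := by rw [← hu]; ring
    rw [this]; ring
  · intro hg
    obtain ⟨u, v, rfl⟩ := Ideal.mem_span_pair.mp hg
    refine ⟨Ideal.Quotient.mk _ v, ?_⟩
    rw [map_add, map_mul, map_mul, Ideal.Quotient.eq_zero_iff_mem.mpr
      (Ideal.mem_span_singleton_self f), mul_zero, zero_add, mul_comm]

theorem prime_mk_X {f : PowerSeries A} (hc : Prime (constantCoeff f)) :
    Prime (Ideal.Quotient.mk (Ideal.span {f}) X) := by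
  have h1 : ¬ constantCoeff f ∣ 1 := fun h => hc.not_unit (isUnit_of_dvd_one h)
  refine ⟨?_, ?_, ?_⟩
  · intro h0
    rw [Ideal.Quotient.eq_zero_iff_mem] at h0
    have : (1 : PowerSeries A) ∈ Ideal.span {f} :=
      mem_span_of_X_mul_mem hc.ne_zero (by rwa [mul_one])
    have h2 : (1 : PowerSeries A) ∈ Ideal.span {f, X} := Ideal.span_mono (by simp) this
    rw [mem_span_pair_X_iff, map_one] at h2
    exact h1 h2
  · intro hu
    have : Ideal.Quotient.mk (Ideal.span {f}) X ∣ Ideal.Quotient.mk (Ideal.span {f}) 1 := by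
      rw [map_one]; exact hu.dvd
    rw [mk_X_dvd_iff, mem_span_pair_X_iff, map_one] at this
    exact h1 this
  · intro g h hgh
    obtain ⟨g, rfl⟩ := Ideal.Quotient.mk_surjective g
    obtain ⟨h, rfl⟩ := Ideal.Quotient.mk_surjective h
    rw [← map_mul, mk_X_dvd_iff, mem_span_pair_X_iff, map_mul] at hgh
    rw [mk_X_dvd_iff, mk_X_dvd_iff, mem_span_pair_X_iff, mem_span_pair_X_iff]
    exact hc.dvd_or_dvd hgh

end General


section MvC

variable {σ : Type*} {B : Type u} [CommRing B] [IsDomain B]

theorem mv_C_dvd_iff (p : B) (φ : MvPowerSeries σ B) :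
    MvPowerSeries.C p ∣ φ ↔ ∀ m, p ∣ MvPowerSeries.coeff m φ := by
  constructor
  · rintro ⟨ψ, rfl⟩ m
    rw [MvPowerSeries.coeff_C_mul]
    exact Dvd.intro _ rfl
  · intro h
    choose g hg using h
    refine ⟨fun m => g m, ?_⟩
    ext m
    rw [MvPowerSeries.coeff_C_mul, hg m]
    rfl

theorem mv_prime_C {p : B} (hp : Prime p) : Prime (MvPowerSeries.C p : MvPowerSeries σ B) := by
  have hI : (Ideal.span {p}).IsPrime := (Ideal.span_singleton_prime hp.ne_zero).mpr hp
  have hne : (MvPowerSeries.C p : MvPowerSeries σ B) ≠ 0 := by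
    intro h
    apply hp.ne_zero
    have := congrArg (MvPowerSeries.coeff 0) h
    simpa using this
  rw [← Ideal.span_singleton_prime hne]
  have hker : Ideal.span {(MvPowerSeries.C p : MvPowerSeries σ B)} =
      RingHom.ker (MvPowerSeries.map (σ := σ) (Ideal.Quotient.mk (Ideal.span {p}))) := by
    ext φ
    rw [Ideal.mem_span_singleton, mv_C_dvd_iff, RingHom.mem_ker]
    constructor
    · intro h
      ext m
      rw [MvPowerSeries.coeff_map, map_zero, Ideal.Quotient.eq_zero_iff_mem,
        Ideal.mem_span_singleton]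
      exact h m
    · intro h m
      have := congrArg (MvPowerSeries.coeff m) h
      rw [MvPowerSeries.coeff_map, map_zero, Ideal.Quotient.eq_zero_iff_mem,
        Ideal.mem_span_singleton] at this
      exact this
  rw [hker]
  haveI : IsDomain (B ⧸ Ideal.span {p}) := Ideal.Quotient.isDomain _
  haveI : IsDomain (MvPowerSeries σ (B ⧸ Ideal.span {p})) := NoZeroDivisors.to_isDomain _
  exact RingHom.ker_isPrime _

end MvC


section Node

open ArLef

variable {B : Type u} [CommRing B] [IsDomain B] (π : B)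

theorem mvIsDomain (σ : Type*) : IsDomain (MvPowerSeries σ B) := NoZeroDivisors.to_isDomain _

attribute [local instance] mvIsDomain

/-- the image of the relation `xy - π` in `B[[y]][[x]]`. -/
noncomputable def relPS : PowerSeries (MvPowerSeries (Fin 1) B) :=
  PowerSeries.X * PowerSeries.C (MvPowerSeries.X 0) - PowerSeries.C (MvPowerSeries.C π)

theorem finSuccEquiv_rel :
    MvPowerSeries.finSuccEquiv B 1
      (MvPowerSeries.X 0 * MvPowerSeries.X 1 - MvPowerSeries.C π : MvPowerSeries (Fin 2) B) =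
      relPS π := by
  rw [map_sub, map_mul, MvPowerSeries.finSuccEquiv_X_zero, MvPowerSeries.finSuccEquiv_C]
  have : (1 : Fin 2) = (0 : Fin 1).succ := rfl
  rw [this, MvPowerSeries.finSuccEquiv_X_succ]
  rfl

theorem constantCoeff_relPS : PowerSeries.constantCoeff (relPS π) = - MvPowerSeries.C π := by
  rw [relPS, map_sub, map_mul, PowerSeries.constantCoeff_X, zero_mul, zero_sub,
    PowerSeries.constantCoeff_C]

/-- `B[[x,y]]/(xy - π) ≃ B[[y]][[x]]/(x y - π)`. -/
noncomputable def nodeEquiv :
    NodeAlg B π ≃+* (PowerSeries (MvPowerSeries (Fin 1) B) ⧸ Ideal.span {relPS π}) :=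
  Ideal.quotientEquiv _ _ (MvPowerSeries.finSuccEquiv B 1).toRingEquiv (by
    rw [Ideal.map_span, Set.image_singleton]
    congr 2
    exact (finSuccEquiv_rel π).symm)

theorem nodeEquiv_t : nodeEquiv π (NodeAlg.t π) = Ideal.Quotient.mk _ PowerSeries.X := by
  rw [nodeEquiv, NodeAlg.t, Ideal.quotientEquiv_mk]
  congr 1
  exact MvPowerSeries.finSuccEquiv_X_zero

theorem nodeEquiv_e : nodeEquiv π (NodeAlg.e π) =
    Ideal.Quotient.mk _ (PowerSeries.C (MvPowerSeries.X 0)) := by
  rw [nodeEquiv, NodeAlg.e, Ideal.quotientEquiv_mk]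
  congr 1
  have : (1 : Fin 2) = (0 : Fin 1).succ := rfl
  rw [this]
  exact MvPowerSeries.finSuccEquiv_X_succ 0

variable {π}

theorem isDomain_nodeAlg (hπ : Prime π) : IsDomain (NodeAlg B π) := by
  have hc : Prime (PowerSeries.constantCoeff (relPS π)) := by
    rw [constantCoeff_relPS]; exact (mv_prime_C hπ).neg
  haveI := span_singleton_isPrime hc
  haveI : IsDomain (PowerSeries (MvPowerSeries (Fin 1) B) ⧸ Ideal.span {relPS π}) :=
    Ideal.Quotient.isDomain _
  exact (nodeEquiv π).toMulEquiv.isDomain _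

theorem prime_t (hπ : Prime π) : Prime (NodeAlg.t π) := by
  have hc : Prime (PowerSeries.constantCoeff (relPS π)) := by
    rw [constantCoeff_relPS]; exact (mv_prime_C hπ).neg
  rw [← MulEquiv.prime_iff (nodeEquiv π), nodeEquiv_t]
  exact prime_mk_X hc

theorem not_t_dvd_e (hπ : Prime π) : ¬ NodeAlg.t π ∣ NodeAlg.e π := by
  intro h
  have h1 := map_dvd (nodeEquiv π) h
  rw [nodeEquiv_t, nodeEquiv_e, mk_X_dvd_iff, mem_span_pair_X_iff, constantCoeff_relPS,
    PowerSeries.constantCoeff_C, neg_dvd, mv_C_dvd_iff] at h1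
  have h2 := h1 (Finsupp.single 0 1)
  rw [MvPowerSeries.coeff_X, if_pos rfl] at h2
  exact hπ.not_unit (isUnit_of_dvd_one h2)

/-- the swap automorphism of `B[[x,y]]/(xy - π)`. -/
noncomputable def swapEquiv (π : B) : NodeAlg B π ≃+* NodeAlg B π :=
  Ideal.quotientEquiv _ _ (MvPowerSeries.renameEquiv B (Equiv.swap (0 : Fin 2) 1)).toRingEquiv (by
    rw [Ideal.map_span, Set.image_singleton]
    congr 2
    change _ = MvPowerSeries.rename (Equiv.swap (0 : Fin 2) 1) _
    rw [map_sub, map_mul, MvPowerSeries.rename_X, MvPowerSeries.rename_X, MvPowerSeries.rename_C,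
      Equiv.swap_apply_left, Equiv.swap_apply_right, mul_comm])

theorem swapEquiv_t (π : B) : swapEquiv π (NodeAlg.t π) = NodeAlg.e π := by
  rw [swapEquiv, NodeAlg.t, Ideal.quotientEquiv_mk]
  congr 1
  change MvPowerSeries.rename (Equiv.swap (0 : Fin 2) 1) _ = _
  rw [MvPowerSeries.rename_X, Equiv.swap_apply_left]

theorem swapEquiv_e (π : B) : swapEquiv π (NodeAlg.e π) = NodeAlg.t π := by
  rw [swapEquiv, NodeAlg.e, Ideal.quotientEquiv_mk]
  congr 1
  change MvPowerSeries.rename (Equiv.swap (0 : Fin 2) 1) _ = _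
  rw [MvPowerSeries.rename_X, Equiv.swap_apply_right]

theorem prime_e (hπ : Prime π) : Prime (NodeAlg.e π) := by
  rw [← swapEquiv_t, MulEquiv.prime_iff (swapEquiv π)]
  exact prime_t hπ

theorem not_e_dvd_t (hπ : Prime π) : ¬ NodeAlg.e π ∣ NodeAlg.t π := by
  intro h
  have h1 := map_dvd (swapEquiv π) h
  rw [swapEquiv_t, swapEquiv_e] at h1
  exact not_t_dvd_e hπ h1

theorem t_mul_e (π : B) : NodeAlg.t π * NodeAlg.e π = algebraMap B (NodeAlg B π) π := by
  rw [NodeAlg.t, NodeAlg.e, ← map_mul, IsScalarTower.algebraMap_apply B (MvPowerSeries (Fin 2) B),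
    Ideal.Quotient.algebraMap_eq, Ideal.Quotient.eq, MvPowerSeries.algebraMap_apply,
    Algebra.algebraMap_self_apply]
  exact Ideal.mem_span_singleton_self _

section Aug

variable [IsLocalRing B]

/-- the augmentation `B[[x,y]]/(xy - π) → k`. -/
noncomputable def aug (π : B) (hπ : π ∈ IsLocalRing.maximalIdeal B) :
    NodeAlg B π →+* IsLocalRing.ResidueField B :=
  Ideal.Quotient.lift _ ((IsLocalRing.residue B).comp
    (MvPowerSeries.constantCoeff (σ := Fin 2) (R := B))) (by
    intro a ha
    rw [Ideal.mem_span_singleton] at ha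
    obtain ⟨c, rfl⟩ := ha
    rw [map_mul, map_sub, map_mul, RingHom.comp_apply, RingHom.comp_apply, RingHom.comp_apply,
      MvPowerSeries.constantCoeff_X, map_zero, zero_mul, MvPowerSeries.constantCoeff_C,
      (IsLocalRing.residue_eq_zero_iff π).mpr hπ, sub_zero, zero_mul])

theorem aug_t (π : B) (hπ : π ∈ IsLocalRing.maximalIdeal B) : aug π hπ (NodeAlg.t π) = 0 := by
  rw [aug, NodeAlg.t, Ideal.Quotient.lift_mk, RingHom.comp_apply, MvPowerSeries.constantCoeff_X,
    map_zero]

theorem aug_e (π : B) (hπ : π ∈ IsLocalRing.maximalIdeal B) : aug π hπ (NodeAlg.e π) = 0 := by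
  rw [aug, NodeAlg.e, Ideal.Quotient.lift_mk, RingHom.comp_apply, MvPowerSeries.constantCoeff_X,
    map_zero]

theorem aug_algebraMap (π : B) (hπ : π ∈ IsLocalRing.maximalIdeal B) (b : B) :
    aug π hπ (algebraMap B (NodeAlg B π) b) = IsLocalRing.residue B b := by
  rw [IsScalarTower.algebraMap_apply B (MvPowerSeries (Fin 2) B), Ideal.Quotient.algebraMap_eq,
    aug, Ideal.Quotient.lift_mk, RingHom.comp_apply, MvPowerSeries.algebraMap_apply,
    Algebra.algebraMap_self_apply, MvPowerSeries.constantCoeff_C]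

end Aug

end Node

end Groth.Agent.Lib.NodeAlg7
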