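/-
helper7: fixed ideals of endomorphisms of the formal double point N = B[[x,y]]/(xy - π): N Noetherian local,
ideals closed (Krull), node_fix: an endomorphism moving constants, t, e inside J moves everything inside J.
-/
import Mathlib
import Groth.Agent.Lib.NodeAlg7

set_option autoImplicit false
universe u

namespace Groth.Agent.Lib.NodeAlg7

open PowerSeries

section Closed

variable {N : Type*} [CommRing N] [IsNoetherianRing N] [IsLocalRing N]

/-- Krull: ideals of a Noetherian local ring are closed. -/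
theorem mem_of_forall_mem_sup_pow' (J : Ideal N) (x : N)
    (h : ∀ n : ℕ, x ∈ J ⊔ IsLocalRing.maximalIdeal N ^ n) : x ∈ J := by
  have hK := Ideal.iInf_pow_smul_eq_bot_of_isLocalRing (R := N)
    (M := N ⧸ J) (IsLocalRing.maximalIdeal N) (Ideal.IsPrime.ne_top inferInstance)
  rw [← Ideal.Quotient.eq_zero_iff_mem, ← Submodule.mem_bot (R := N), ← hK, Submodule.mem_iInf]
  intro n
  obtain ⟨y, hy, z, hz, rfl⟩ := Submodule.mem_sup.mp (h n)
  rw [map_add, Ideal.Quotient.eq_zero_iff_mem.mpr hy, zero_add]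
  have : (Ideal.Quotient.mk J z) = z • (Ideal.Quotient.mk J 1) := by
    change _ = Submodule.Quotient.mk (z • (1 : N))
    rw [smul_eq_mul, mul_one]
    rfl
  rw [this]
  exact Submodule.smul_mem_smul hz Submodule.mem_top

theorem general_fix {A : Type*} [CommRing A] (φ : PowerSeries A →+* N)
    (hX : φ X ∈ IsLocalRing.maximalIdeal N) (σ : N →+* N) (J : Ideal N)
    (hC : ∀ a : A, σ (φ (C a)) - φ (C a) ∈ J) (hXJ : σ (φ X) - φ X ∈ J) (r : PowerSeries A) :
    σ (φ r) - φ r ∈ J := by
  apply mem_of_forall_mem_sup_pow'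
  intro n
  induction n generalizing r with
  | zero => rw [pow_zero, Ideal.one_eq_top, sup_top_eq]; trivial
  | succ n ih =>
    set s : PowerSeries A := mk fun p => coeff (p + 1) r with hs
    have hr : r = X * s + C (constantCoeff r) := eq_X_mul_shift_add_const r
    have e : σ (φ r) - φ r = (σ (φ (C (constantCoeff r))) - φ (C (constantCoeff r))) +
        (σ (φ X) - φ X) * σ (φ s) + φ X * (σ (φ s) - φ s) := by
      conv_lhs => rw [hr]
      rw [map_add, map_mul, map_add, map_mul]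
      ring
    rw [e]
    refine Ideal.add_mem _ (Ideal.add_mem _ (Ideal.mem_sup_left (hC _))
      (Ideal.mem_sup_left (Ideal.mul_mem_right _ _ hXJ))) ?_
    obtain ⟨y, hy, z, hz, hyz⟩ := Submodule.mem_sup.mp (ih s)
    rw [← hyz, mul_add]
    refine Ideal.add_mem _ (Ideal.mem_sup_left (Ideal.mul_mem_left _ _ hy)) (Ideal.mem_sup_right ?_)
    rw [pow_succ']
    exact Ideal.mul_mem_mul hX hz

end Closed

section NodeFix

open ArLef

variable {B : Type u} [CommRing B] [IsDomain B] [IsNoetherianRing B] [IsLocalRing B] {π : B}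

instance : IsNoetherianRing (NodeAlg B π) := Ideal.Quotient.isNoetherianRing _

theorem isLocalRing_nodeAlg (hπ : Prime π) : IsLocalRing (NodeAlg B π) := by
  haveI : Nontrivial (NodeAlg B π) := (isDomain_nodeAlg hπ).toNontrivial
  exact IsLocalRing.of_surjective' (Ideal.Quotient.mk _) Ideal.Quotient.mk_surjective

theorem mvps_fin_zero_eq_C (a : MvPowerSeries (Fin 0) B) :
    a = MvPowerSeries.C (MvPowerSeries.constantCoeff a) := by
  ext m
  have : m = 0 := Subsingleton.elim _ _
  subst this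
  simp

/-- an endomorphism of the node algebra moving the constants, `t` and `e` inside `J` moves
everything inside `J`. -/
theorem node_fix (hπ : Prime π) (σ : NodeAlg B π →+* NodeAlg B π) (J : Ideal (NodeAlg B π))
    (hB : ∀ b : B, σ (algebraMap B (NodeAlg B π) b) - algebraMap B (NodeAlg B π) b ∈ J)
    (ht : σ (NodeAlg.t π) - NodeAlg.t π ∈ J) (he : σ (NodeAlg.e π) - NodeAlg.e π ∈ J)
    (r : NodeAlg B π) : σ r - r ∈ J := by
  haveI := isLocalRing_nodeAlg hπ
  haveI := isDomain_nodeAlg hπ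
  -- layer 2
  let Φ₂ := MvPowerSeries.finSuccEquiv B 1
  let φ₂ : PowerSeries (MvPowerSeries (Fin 1) B) →+* NodeAlg B π :=
    (Ideal.Quotient.mk _).comp (Φ₂.symm : PowerSeries (MvPowerSeries (Fin 1) B) →+*
      MvPowerSeries (Fin 2) B)
  have hφ₂X : φ₂ X = NodeAlg.t π := by
    change Ideal.Quotient.mk _ (Φ₂.symm X) = _
    rw [← MvPowerSeries.finSuccEquiv_X_zero (R := B) (n := 1)]
    change Ideal.Quotient.mk _ (Φ₂.symm (Φ₂ _)) = _
    rw [AlgEquiv.symm_apply_apply]
  have hφ₂C : ∀ x : MvPowerSeries (Fin 1) B, φ₂ (C x) = Ideal.Quotient.mk _ (Φ₂.symm (C x)) :=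
    fun x => rfl
  -- layer 1
  let Φ₁ := MvPowerSeries.finSuccEquiv B 0
  let φ₁ : PowerSeries (MvPowerSeries (Fin 0) B) →+* NodeAlg B π :=
    (φ₂.comp C).comp (Φ₁.symm : PowerSeries (MvPowerSeries (Fin 0) B) →+* MvPowerSeries (Fin 1) B)
  have hφ₁X : φ₁ X = NodeAlg.e π := by
    change Ideal.Quotient.mk _ (Φ₂.symm (C (Φ₁.symm X))) = _
    have h1 : Φ₁.symm X = MvPowerSeries.X 0 := by
      rw [← MvPowerSeries.finSuccEquiv_X_zero (R := B) (n := 0)]
      exact AlgEquiv.symm_apply_apply _ _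
    rw [h1]
    have h2 : (C (MvPowerSeries.X 0) : PowerSeries (MvPowerSeries (Fin 1) B)) =
        Φ₂ (MvPowerSeries.X 1) := by
      have : (1 : Fin 2) = (0 : Fin 1).succ := rfl
      rw [this]
      exact (MvPowerSeries.finSuccEquiv_X_succ 0).symm
    rw [h2, AlgEquiv.symm_apply_apply]
  have hφ₁C : ∀ a : MvPowerSeries (Fin 0) B,
      φ₁ (C a) = algebraMap B (NodeAlg B π) (MvPowerSeries.constantCoeff a) := by
    intro a
    change Ideal.Quotient.mk _ (Φ₂.symm (C (Φ₁.symm (C a)))) = _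
    rw [mvps_fin_zero_eq_C a]
    have h1 : Φ₁.symm (C (MvPowerSeries.C (MvPowerSeries.constantCoeff a))) =
        MvPowerSeries.C (MvPowerSeries.constantCoeff a) := by
      rw [← MvPowerSeries.finSuccEquiv_C (R := B) (n := 0)]
      exact AlgEquiv.symm_apply_apply _ _
    rw [h1]
    have h2 : Φ₂.symm (C (MvPowerSeries.C (MvPowerSeries.constantCoeff a))) =
        MvPowerSeries.C (MvPowerSeries.constantCoeff a) := by
      rw [← MvPowerSeries.finSuccEquiv_C (R := B) (n := 1)]
      exact AlgEquiv.symm_apply_apply _ _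
    rw [h2, MvPowerSeries.constantCoeff_C, IsScalarTower.algebraMap_apply B (MvPowerSeries (Fin 2) B),
      Ideal.Quotient.algebraMap_eq, MvPowerSeries.algebraMap_apply, Algebra.algebraMap_self_apply]
  have htm : NodeAlg.t π ∈ IsLocalRing.maximalIdeal (NodeAlg B π) := by
    rw [IsLocalRing.mem_maximalIdeal]; exact (prime_t hπ).not_unit
  have hem : NodeAlg.e π ∈ IsLocalRing.maximalIdeal (NodeAlg B π) := by
    rw [IsLocalRing.mem_maximalIdeal]; exact (prime_e hπ).not_unit
  have L1 : ∀ x : MvPowerSeries (Fin 1) B, σ (φ₂ (C x)) - φ₂ (C x) ∈ J := by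
    intro x
    obtain ⟨y, rfl⟩ := Φ₁.symm.surjective x
    refine general_fix φ₁ (by rw [hφ₁X]; exact hem) σ J ?_ (by rw [hφ₁X]; exact he) y
    intro a
    rw [hφ₁C]
    exact hB _
  obtain ⟨r, rfl⟩ := Ideal.Quotient.mk_surjective r
  have hr : Ideal.Quotient.mk _ r = φ₂ (Φ₂ r) := by
    change _ = Ideal.Quotient.mk _ (Φ₂.symm (Φ₂ r))
    rw [AlgEquiv.symm_apply_apply]
  rw [hr]
  exact general_fix φ₂ (by rw [hφ₂X]; exact htm) σ J L1 (by rw [hφ₂X]; exact ht) _

end NodeFix

end Groth.Agent.Lib.NodeAlg7
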