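/-
helper7: the formal double point N = B[[x,y]]/(xy - π): decomposition r = t a + e b + c, maximal ideal (t,e),
length N/(t,e) = 1.
-/
import Mathlib
import Groth.Agent.Lib.NodeAlgFix7
import Groth.Agent.Lib.ArLefSmooth7

set_option autoImplicit false
universe u

namespace Groth.Agent.Lib.NodeAlg7

open PowerSeries

section Decomp

open ArLef

variable {B : Type u} [CommRing B]

theorem finSucc_symm_X :
    (MvPowerSeries.finSuccEquiv B 1).symm (X : PowerSeries (MvPowerSeries (Fin 1) B)) =
      MvPowerSeries.X 0 := by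
  rw [← MvPowerSeries.finSuccEquiv_X_zero (R := B) (n := 1)]
  exact AlgEquiv.symm_apply_apply _ _

theorem finSucc_symm_C_X :
    (MvPowerSeries.finSuccEquiv B 1).symm (C (MvPowerSeries.X 0) :
      PowerSeries (MvPowerSeries (Fin 1) B)) = MvPowerSeries.X 1 := by
  have h2 : (C (MvPowerSeries.X 0) : PowerSeries (MvPowerSeries (Fin 1) B)) =
      MvPowerSeries.finSuccEquiv B 1 (MvPowerSeries.X 1) := by
    have : (1 : Fin 2) = (0 : Fin 1).succ := rfl
    rw [this]
    exact (MvPowerSeries.finSuccEquiv_X_succ 0).symm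
  rw [h2, AlgEquiv.symm_apply_apply]

theorem finSucc_symm_C_C (n : ℕ) (b : B) :
    (MvPowerSeries.finSuccEquiv B n).symm (C (MvPowerSeries.C b) :
      PowerSeries (MvPowerSeries (Fin n) B)) = MvPowerSeries.C b := by
  rw [← MvPowerSeries.finSuccEquiv_C (R := B) (n := n)]
  exact AlgEquiv.symm_apply_apply _ _

theorem mvps_fin_zero_eq_C' (a : MvPowerSeries (Fin 0) B) :
    a = MvPowerSeries.C (MvPowerSeries.constantCoeff a) := by
  ext m
  have : m = 0 := Subsingleton.elim _ _
  subst this
  simp

/-- every power series in two variables is `x u + y v + b`. -/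
theorem exists_decomp_mv (φ : MvPowerSeries (Fin 2) B) :
    ∃ (u v : MvPowerSeries (Fin 2) B) (b : B),
      φ = MvPowerSeries.X 0 * u + MvPowerSeries.X 1 * v + MvPowerSeries.C b := by
  set Φ₂ := MvPowerSeries.finSuccEquiv B 1
  set Φ₁ := MvPowerSeries.finSuccEquiv B 0
  have h1 := eq_X_mul_shift_add_const (Φ₂ φ)
  set s := (mk fun p => coeff (p + 1) (Φ₂ φ)) with hs
  set a₁ := constantCoeff (Φ₂ φ) with ha₁
  have h2 := eq_X_mul_shift_add_const (Φ₁ a₁)
  set s₁ := (mk fun p => coeff (p + 1) (Φ₁ a₁)) with hs₁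
  set a₀ := constantCoeff (Φ₁ a₁) with ha₀
  have h3 : a₁ = MvPowerSeries.X 0 * Φ₁.symm s₁ +
      MvPowerSeries.C (MvPowerSeries.constantCoeff a₀) := by
    have := congrArg Φ₁.symm h2
    rw [AlgEquiv.symm_apply_apply, map_add, map_mul] at this
    rw [this]
    congr 1
    · congr 1
      rw [← MvPowerSeries.finSuccEquiv_X_zero (R := B) (n := 0)]
      exact AlgEquiv.symm_apply_apply _ _
    · conv_lhs => rw [mvps_fin_zero_eq_C' a₀]
      exact finSucc_symm_C_C 0 _
  refine ⟨Φ₂.symm s, Φ₂.symm (C (Φ₁.symm s₁)), MvPowerSeries.constantCoeff a₀, ?_⟩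
  have := congrArg Φ₂.symm h1
  rw [AlgEquiv.symm_apply_apply, map_add, map_mul] at this
  rw [this, finSucc_symm_X, add_assoc]
  congr 1
  rw [h3, map_add, map_mul, map_add, map_mul, finSucc_symm_C_X, finSucc_symm_C_C]

variable [IsDomain B] {π : B}

theorem exists_decomp (r : NodeAlg B π) :
    ∃ (a b : NodeAlg B π) (c : B),
      r = NodeAlg.t π * a + NodeAlg.e π * b + algebraMap B (NodeAlg B π) c := by
  obtain ⟨φ, rfl⟩ := Ideal.Quotient.mk_surjective r
  obtain ⟨u, v, b, rfl⟩ := exists_decomp_mv φ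
  refine ⟨Ideal.Quotient.mk _ u, Ideal.Quotient.mk _ v, b, ?_⟩
  rw [map_add, map_add, map_mul, map_mul, IsScalarTower.algebraMap_apply B (MvPowerSeries (Fin 2) B),
    Ideal.Quotient.algebraMap_eq, MvPowerSeries.algebraMap_apply, Algebra.algebraMap_self_apply]

variable [IsNoetherianRing B] [IsLocalRing B]

theorem maximalIdeal_nodeAlg (hπ : Prime π) (hgen : IsLocalRing.maximalIdeal B = Ideal.span {π}) :
    haveI := isLocalRing_nodeAlg hπ
    IsLocalRing.maximalIdeal (NodeAlg B π) = Ideal.span {NodeAlg.t π, NodeAlg.e π} := by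
  haveI := isLocalRing_nodeAlg hπ
  have hπm : π ∈ IsLocalRing.maximalIdeal B := by
    rw [IsLocalRing.mem_maximalIdeal]; exact hπ.not_unit
  apply le_antisymm
  · intro r hr
    obtain ⟨a, b, c, rfl⟩ := exists_decomp r
    have hc : c ∈ IsLocalRing.maximalIdeal B := by
      by_contra hc
      rw [IsLocalRing.mem_maximalIdeal, mem_nonunits_iff, not_not] at hc
      have h1 : aug π hπm (NodeAlg.t π * a + NodeAlg.e π * b + algebraMap B (NodeAlg B π) c) ≠ 0 := by
        rw [map_add, map_add, map_mul, map_mul, aug_t, aug_e, zero_mul, zero_mul, zero_add, zero_add,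
          aug_algebraMap]
        intro h0
        rw [IsLocalRing.residue_eq_zero_iff, IsLocalRing.mem_maximalIdeal] at h0
        exact h0 hc
      apply h1
      -- a nonunit maps to a nonunit, i.e. zero, in the field
      by_contra hne
      have hu : IsUnit (aug π hπm (NodeAlg.t π * a + NodeAlg.e π * b +
          algebraMap B (NodeAlg B π) c)) := IsUnit.mk0 _ hne
      have hloc : IsLocalHom (aug π hπm) := by
        refine ⟨fun x hx => ?_⟩
        by_contra hxu
        have hxm : x ∈ IsLocalRing.maximalIdeal (NodeAlg B π) := by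
          rwa [IsLocalRing.mem_maximalIdeal]
        -- maximal ideal is contained in the kernel since the kernel is maximal
        have hker : (RingHom.ker (aug π hπm)).IsMaximal :=
          RingHom.ker_isMaximal_of_surjective _ (by
            intro y
            obtain ⟨y, rfl⟩ := IsLocalRing.residue_surjective y
            exact ⟨algebraMap B (NodeAlg B π) y, aug_algebraMap π hπm y⟩)
        have := IsLocalRing.eq_maximalIdeal hker
        rw [← this, RingHom.mem_ker] at hxm
        rw [hxm] at hx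
        exact not_isUnit_zero hx
      exact (IsLocalRing.mem_maximalIdeal _).mp hr (hloc.map_nonunit _ hu)
    rw [hgen, Ideal.mem_span_singleton] at hc
    obtain ⟨d, rfl⟩ := hc
    refine Ideal.mem_span_pair.mpr ⟨a + NodeAlg.e π * algebraMap B (NodeAlg B π) d, b, ?_⟩
    rw [map_mul, ← t_mul_e]; ring
  · rw [Ideal.span_le]
    rintro x (rfl | rfl)
    · exact (IsLocalRing.mem_maximalIdeal _).mpr (prime_t hπ).not_unit
    · exact (IsLocalRing.mem_maximalIdeal _).mpr (prime_e hπ).not_unit

theorem length_quot_t_e (hπ : Prime π) (hgen : IsLocalRing.maximalIdeal B = Ideal.span {π}) :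
    Module.length (NodeAlg B π) (NodeAlg B π ⧸ Ideal.span {NodeAlg.t π, NodeAlg.e π}) = 1 := by
  haveI := isLocalRing_nodeAlg hπ
  rw [← maximalIdeal_nodeAlg hπ hgen, Module.length_eq_one_iff, isSimpleModule_iff_isCoatom]
  exact Ideal.isMaximal_def.mp (IsLocalRing.maximalIdeal.isMaximal _)

end Decomp

end Groth.Agent.Lib.NodeAlg7
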