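/-
helper7: node algebra B[[x,y]]/(xy - π) for arbitrary π in the maximal ideal (in particular π = 0): local ring,
node_fix', maximal ideal (t,e), length 1; t is a nonzerodivisor mod e in B[[x,y]]/(xy); length_quot_pair_mul'.
-/
import Mathlib
import Groth.Agent.Lib.NodeAlgLen7
import Groth.Agent.Lib.LenPair7

set_option autoImplicit false
universe u

namespace Groth.Agent.Lib.NodeAlg7

open PowerSeries

section General

open ArLef

variable {B : Type u} [CommRing B] [IsDomain B] [IsNoetherianRing B] [IsLocalRing B] {π : B}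

theorem nontrivial_nodeAlg (hπm : π ∈ IsLocalRing.maximalIdeal B) : Nontrivial (NodeAlg B π) :=
  (aug π hπm).domain_nontrivial

theorem isLocalRing_nodeAlg' (hπm : π ∈ IsLocalRing.maximalIdeal B) : IsLocalRing (NodeAlg B π) := by
  haveI := nontrivial_nodeAlg hπm
  exact IsLocalRing.of_surjective' (Ideal.Quotient.mk _) Ideal.Quotient.mk_surjective

theorem not_isUnit_of_aug_eq_zero (hπm : π ∈ IsLocalRing.maximalIdeal B) {x : NodeAlg B π}
    (hx : aug π hπm x = 0) : ¬ IsUnit x := by
  intro hu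
  have := hu.map (aug π hπm)
  rw [hx] at this
  exact not_isUnit_zero this

theorem t_mem_maximalIdeal (hπm : π ∈ IsLocalRing.maximalIdeal B) :
    haveI := isLocalRing_nodeAlg' hπm
    NodeAlg.t π ∈ IsLocalRing.maximalIdeal (NodeAlg B π) := by
  haveI := isLocalRing_nodeAlg' hπm
  rw [IsLocalRing.mem_maximalIdeal]
  exact not_isUnit_of_aug_eq_zero hπm (aug_t π hπm)

theorem e_mem_maximalIdeal (hπm : π ∈ IsLocalRing.maximalIdeal B) :
    haveI := isLocalRing_nodeAlg' hπm
    NodeAlg.e π ∈ IsLocalRing.maximalIdeal (NodeAlg B π) := by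
  haveI := isLocalRing_nodeAlg' hπm
  rw [IsLocalRing.mem_maximalIdeal]
  exact not_isUnit_of_aug_eq_zero hπm (aug_e π hπm)

theorem node_fix' [IsLocalRing (NodeAlg B π)] (htm : NodeAlg.t π ∈ IsLocalRing.maximalIdeal (NodeAlg B π))
    (hem : NodeAlg.e π ∈ IsLocalRing.maximalIdeal (NodeAlg B π)) (σ : NodeAlg B π →+* NodeAlg B π) (J : Ideal (NodeAlg B π))
    (hB : ∀ b : B, σ (algebraMap B (NodeAlg B π) b) - algebraMap B (NodeAlg B π) b ∈ J)
    (ht : σ (NodeAlg.t π) - NodeAlg.t π ∈ J) (he : σ (NodeAlg.e π) - NodeAlg.e π ∈ J)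
    (r : NodeAlg B π) : σ r - r ∈ J := by
  -- layer 2
  let Φ₂ := MvPowerSeries.finSuccEquiv B 1
  let φ₂ : PowerSeries (MvPowerSeries (Fin 1) B) →+* NodeAlg B π :=
    (Ideal.Quotient.mk _).comp (Φ₂.symm : PowerSeries (MvPowerSeries (Fin 1) B) →+*
      MvPowerSeries (Fin 2) B)
  have hφ₂X : φ₂ X = NodeAlg.t π := by
    change Ideal.Quotient.mk _ (Φ₂.symm X) = _
    rw [← MvPowerSeries.finSuccEquiv_X_zero (R := B) (n := 1)]
    change Ideal.Quotient.mk _ (Φ₂.symm (Φ₂ _)) = _
    rw [AlgEquiv.symm_apply_apply]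
  have hφ₂C : ∀ x : MvPowerSeries (Fin 1) B, φ₂ (C x) = Ideal.Quotient.mk _ (Φ₂.symm (C x)) :=
    fun x => rfl
  -- layer 1
  let Φ₁ := MvPowerSeries.finSuccEquiv B 0
  let φ₁ : PowerSeries (MvPowerSeries (Fin 0) B) →+* NodeAlg B π :=
    (φ₂.comp C).comp (Φ₁.symm : PowerSeries (MvPowerSeries (Fin 0) B) →+* MvPowerSeries (Fin 1) B)
  have hφ₁X : φ₁ X = NodeAlg.e π := by
    change Ideal.Quotient.mk _ (Φ₂.symm (C (Φ₁.symm X))) = _
    have h1 : Φ₁.symm X = MvPowerSeries.X 0 := by
      rw [← MvPowerSeries.finSuccEquiv_X_zero (R := B) (n := 0)]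
      exact AlgEquiv.symm_apply_apply _ _
    rw [h1]
    have h2 : (C (MvPowerSeries.X 0) : PowerSeries (MvPowerSeries (Fin 1) B)) =
        Φ₂ (MvPowerSeries.X 1) := by
      have : (1 : Fin 2) = (0 : Fin 1).succ := rfl
      rw [this]
      exact (MvPowerSeries.finSuccEquiv_X_succ 0).symm
    rw [h2, AlgEquiv.symm_apply_apply]
  have hφ₁C : ∀ a : MvPowerSeries (Fin 0) B,
      φ₁ (C a) = algebraMap B (NodeAlg B π) (MvPowerSeries.constantCoeff a) := by
    intro a
    change Ideal.Quotient.mk _ (Φ₂.symm (C (Φ₁.symm (C a)))) = _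
    rw [mvps_fin_zero_eq_C a]
    have h1 : Φ₁.symm (C (MvPowerSeries.C (MvPowerSeries.constantCoeff a))) =
        MvPowerSeries.C (MvPowerSeries.constantCoeff a) := by
      rw [← MvPowerSeries.finSuccEquiv_C (R := B) (n := 0)]
      exact AlgEquiv.symm_apply_apply _ _
    rw [h1]
    have h2 : Φ₂.symm (C (MvPowerSeries.C (MvPowerSeries.constantCoeff a))) =
        MvPowerSeries.C (MvPowerSeries.constantCoeff a) := by
      rw [← MvPowerSeries.finSuccEquiv_C (R := B) (n := 1)]
      exact AlgEquiv.symm_apply_apply _ _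
    rw [h2, MvPowerSeries.constantCoeff_C, IsScalarTower.algebraMap_apply B (MvPowerSeries (Fin 2) B),
      Ideal.Quotient.algebraMap_eq, MvPowerSeries.algebraMap_apply, Algebra.algebraMap_self_apply]
  have L1 : ∀ x : MvPowerSeries (Fin 1) B, σ (φ₂ (C x)) - φ₂ (C x) ∈ J := by
    intro x
    obtain ⟨y, rfl⟩ := Φ₁.symm.surjective x
    refine general_fix φ₁ (by rw [hφ₁X]; exact hem) σ J ?_ (by rw [hφ₁X]; exact he) y
    intro a
    rw [hφ₁C]
    exact hB _
  obtain ⟨r, rfl⟩ := Ideal.Quotient.mk_surjective r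
  have hr : Ideal.Quotient.mk _ r = φ₂ (Φ₂ r) := by
    change _ = Ideal.Quotient.mk _ (Φ₂.symm (Φ₂ r))
    rw [AlgEquiv.symm_apply_apply]
  rw [hr]
  exact general_fix φ₂ (by rw [hφ₂X]; exact htm) σ J L1 (by rw [hφ₂X]; exact ht) _


theorem maximalIdeal_nodeAlg' (hπm : π ∈ IsLocalRing.maximalIdeal B) (hgen : IsLocalRing.maximalIdeal B = Ideal.span {π}) :
    haveI := isLocalRing_nodeAlg' hπm
    IsLocalRing.maximalIdeal (NodeAlg B π) = Ideal.span {NodeAlg.t π, NodeAlg.e π} := by
  haveI := isLocalRing_nodeAlg' hπm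
  apply le_antisymm
  · intro r hr
    obtain ⟨a, b, c, rfl⟩ := exists_decomp r
    have hc : c ∈ IsLocalRing.maximalIdeal B := by
      by_contra hc
      rw [IsLocalRing.mem_maximalIdeal, mem_nonunits_iff, not_not] at hc
      have h1 : aug π hπm (NodeAlg.t π * a + NodeAlg.e π * b + algebraMap B (NodeAlg B π) c) ≠ 0 := by
        rw [map_add, map_add, map_mul, map_mul, aug_t, aug_e, zero_mul, zero_mul, zero_add, zero_add,
          aug_algebraMap]
        intro h0
        rw [IsLocalRing.residue_eq_zero_iff, IsLocalRing.mem_maximalIdeal] at h0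
        exact h0 hc
      apply h1
      -- a nonunit maps to a nonunit, i.e. zero, in the field
      by_contra hne
      have hu : IsUnit (aug π hπm (NodeAlg.t π * a + NodeAlg.e π * b +
          algebraMap B (NodeAlg B π) c)) := IsUnit.mk0 _ hne
      have hloc : IsLocalHom (aug π hπm) := by
        refine ⟨fun x hx => ?_⟩
        by_contra hxu
        have hxm : x ∈ IsLocalRing.maximalIdeal (NodeAlg B π) := by
          rwa [IsLocalRing.mem_maximalIdeal]
        -- maximal ideal is contained in the kernel since the kernel is maximal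
        have hker : (RingHom.ker (aug π hπm)).IsMaximal :=
          RingHom.ker_isMaximal_of_surjective _ (by
            intro y
            obtain ⟨y, rfl⟩ := IsLocalRing.residue_surjective y
            exact ⟨algebraMap B (NodeAlg B π) y, aug_algebraMap π hπm y⟩)
        have := IsLocalRing.eq_maximalIdeal hker
        rw [← this, RingHom.mem_ker] at hxm
        rw [hxm] at hx
        exact not_isUnit_zero hx
      exact (IsLocalRing.mem_maximalIdeal _).mp hr (hloc.map_nonunit _ hu)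
    rw [hgen, Ideal.mem_span_singleton] at hc
    obtain ⟨d, rfl⟩ := hc
    refine Ideal.mem_span_pair.mpr ⟨a + NodeAlg.e π * algebraMap B (NodeAlg B π) d, b, ?_⟩
    rw [map_mul, ← t_mul_e]; ring
  · rw [Ideal.span_le]
    rintro x (rfl | rfl)
    · exact t_mem_maximalIdeal hπm
    · exact e_mem_maximalIdeal hπm

theorem length_quot_t_e' (hπm : π ∈ IsLocalRing.maximalIdeal B) (hgen : IsLocalRing.maximalIdeal B = Ideal.span {π}) :
    Module.length (NodeAlg B π) (NodeAlg B π ⧸ Ideal.span {NodeAlg.t π, NodeAlg.e π}) = 1 := by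
  haveI := isLocalRing_nodeAlg' hπm
  rw [← maximalIdeal_nodeAlg' hπm hgen, Module.length_eq_one_iff, isSimpleModule_iff_isCoatom]
  exact Ideal.isMaximal_def.mp (IsLocalRing.maximalIdeal.isMaximal _)


/-- `x` is prime in `B[[x,y]]`. -/
theorem prime_X0 : Prime (MvPowerSeries.X 0 : MvPowerSeries (Fin 2) B) := by
  haveI : IsDomain (MvPowerSeries (Fin 1) B) := mvIsDomain _
  rw [← MulEquiv.prime_iff (MvPowerSeries.finSuccEquiv B 1), MvPowerSeries.finSuccEquiv_X_zero]
  exact PowerSeries.X_prime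

theorem not_X0_dvd_X1 : ¬ (MvPowerSeries.X 0 : MvPowerSeries (Fin 2) B) ∣ MvPowerSeries.X 1 := by
  rw [MvPowerSeries.X_dvd_iff]
  intro h
  have := h (Finsupp.single 1 1) (by simp)
  rw [MvPowerSeries.coeff_X, if_pos rfl] at this
  exact one_ne_zero this

/-- in `B[[x,y]]/(xy)`, `t` is a nonzerodivisor modulo `e`. -/
theorem mem_span_e_of_t_mul_mem {z : NodeAlg B (0 : B)}
    (hz : NodeAlg.t (0 : B) * z ∈ Ideal.span {NodeAlg.e (0 : B)}) :
    z ∈ Ideal.span {NodeAlg.e (0 : B)} := by
  obtain ⟨z, rfl⟩ := Ideal.Quotient.mk_surjective z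
  rw [Ideal.mem_span_singleton] at hz ⊢
  obtain ⟨w, hw⟩ := hz
  obtain ⟨w, rfl⟩ := Ideal.Quotient.mk_surjective w
  rw [NodeAlg.t, NodeAlg.e, ← map_mul, ← map_mul, Ideal.Quotient.eq, Ideal.mem_span_singleton] at hw
  obtain ⟨v, hv⟩ := hw
  rw [map_zero, sub_zero] at hv
  -- X0 z - X1 w = X0 X1 v
  have h1 : (MvPowerSeries.X 0 : MvPowerSeries (Fin 2) B) ∣ MvPowerSeries.X 1 * w := by
    refine ⟨z - MvPowerSeries.X 1 * v, ?_⟩
    have : MvPowerSeries.X 1 * w = MvPowerSeries.X 0 * z -
        (MvPowerSeries.X 0 * z - MvPowerSeries.X 1 * w) := by ring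
    rw [this, hv]; ring
  obtain ⟨w', rfl⟩ := (prime_X0.dvd_or_dvd h1).resolve_left not_X0_dvd_X1
  refine ⟨Ideal.Quotient.mk _ (w' + v), ?_⟩
  rw [NodeAlg.e, ← map_mul]
  congr 1
  have hcancel : MvPowerSeries.X 0 * z = MvPowerSeries.X 0 * (MvPowerSeries.X 1 * (w' + v)) := by
    have e1 : MvPowerSeries.X 0 * z = (MvPowerSeries.X 0 * z -
        MvPowerSeries.X 1 * (MvPowerSeries.X 0 * w')) + MvPowerSeries.X 1 * (MvPowerSeries.X 0 * w') := by
      ring
    rw [e1, hv]; ring
  haveI : IsDomain (MvPowerSeries (Fin 2) B) := mvIsDomain _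
  exact mul_left_cancel₀ prime_X0.ne_zero hcancel

end General

section PairMul'

variable {P : Type u} [CommRing P]

/-- `length P/(a, x y) = length P/(a, y) + length P/(a, x)` when `x` is a nonzerodivisor mod `a`
(no domain hypothesis). -/
theorem length_quot_pair_mul' {a x : P}
    (hx : ∀ z, x * z ∈ Ideal.span {a} → z ∈ Ideal.span {a}) (y : P) :
    Module.length P (P ⧸ Ideal.span {a, x * y}) =
      Module.length P (P ⧸ Ideal.span {a, y}) + Module.length P (P ⧸ Ideal.span {a, x}) := by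
  have h1 : (Ideal.span {a, x * y}).colon ({x} : Set P) = Ideal.span {a, y} := by
    ext z
    rw [Submodule.mem_colon_singleton, smul_eq_mul, Ideal.mem_span_pair, Ideal.mem_span_pair]
    constructor
    · rintro ⟨c, d, hcd⟩
      have h1 : x * (z - d * y) ∈ Ideal.span {a} := by
        rw [Ideal.mem_span_singleton]
        refine ⟨c, ?_⟩
        have : x * (z - d * y) = z * x - d * (x * y) := by ring
        rw [this, ← hcd]; ring
      obtain ⟨c', hc'⟩ := Ideal.mem_span_singleton.mp (hx _ h1)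
      refine ⟨c', d, ?_⟩
      have : z = (z - d * y) + d * y := by ring
      rw [this, hc']; ring
    · rintro ⟨c, d, rfl⟩
      exact ⟨c * x, d, by ring⟩
  have h2 : Ideal.span {a, x * y} ⊔ Ideal.span {x} = Ideal.span {a, x} := by
    apply le_antisymm
    · rw [sup_le_iff, Ideal.span_le, Ideal.span_le]
      refine ⟨?_, ?_⟩
      · rintro z (rfl | rfl)
        · exact Ideal.subset_span (by simp)
        · exact Ideal.mul_mem_right _ _ (Ideal.subset_span (by simp))
      · rintro z rfl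
        exact Ideal.subset_span (by simp)
    · rw [Ideal.span_le]
      rintro z (rfl | rfl)
      · exact Ideal.mem_sup_left (Ideal.subset_span (by simp))
      · exact Ideal.mem_sup_right (Ideal.mem_span_singleton_self _)
  rw [Groth.Agent.Lib.LenPair7.length_quot_eq_colon_add (Ideal.span {a, x * y}) x, h1, h2]

end PairMul'

end Groth.Agent.Lib.NodeAlg7
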