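import Mathlib.RingTheory.MvPolynomial.Ideal
import Mathlib.RingTheory.Kaehler.Basic
import Mathlib.RingTheory.Ideal.Quotient.Operations
import Groth.Agent.Lib.EulerDerivation
import Mathlib.Algebra.MvPolynomial.Derivation
import Mathlib.Algebra.DualNumber

/-!
# The node `k[X, Y]/(XY)`: Euler derivations and constants
-/

set_option autoImplicit false
universe u

namespace Groth.Agent.Lib.NodeAlgebra

open Groth.Agent.Lib.EulerDerivation

variable (k : Type u) [Field k]

/-- the ideal `(XY)` -/
noncomputable abbrev nodeIdeal : Ideal (MvPolynomial (Fin 2) k) :=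
  Ideal.span {(MvPolynomial.X 0 * MvPolynomial.X 1 : MvPolynomial (Fin 2) k)}

/-- the node algebra -/
abbrev Node : Type u := MvPolynomial (Fin 2) k ⧸ nodeIdeal k

theorem XY_eq_monomial : (MvPolynomial.X 0 * MvPolynomial.X 1 : MvPolynomial (Fin 2) k) =
    MvPolynomial.monomial (Finsupp.single 0 1 + Finsupp.single 1 1) 1 := by
  rw [MvPolynomial.X, MvPolynomial.X, MvPolynomial.monomial_mul, mul_one]

theorem nodeIdeal_eq : nodeIdeal k = Ideal.span ((fun s => MvPolynomial.monomial s (1 : k)) ''
    ({Finsupp.single 0 1 + Finsupp.single 1 1} : Set (Fin 2 →₀ ℕ))) := by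
  rw [Set.image_singleton, ← XY_eq_monomial]

theorem mem_nodeIdeal_iff (f : MvPolynomial (Fin 2) k) :
    f ∈ nodeIdeal k ↔ ∀ m ∈ f.support, m 0 ≠ 0 ∧ m 1 ≠ 0 := by
  rw [nodeIdeal_eq, MvPolynomial.mem_ideal_span_monomial_image]
  constructor
  · intro h m hm
    obtain ⟨s, hs, hsm⟩ := h m hm
    rw [Set.mem_singleton_iff] at hs
    subst hs
    have h0 := hsm 0
    have h1 := hsm 1
    simp at h0 h1
    omega
  · intro h m hm
    refine ⟨_, rfl, ?_⟩
    obtain ⟨h0, h1⟩ := h m hm
    intro i
    fin_cases i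
    · simp; omega
    · simp; omega

theorem mvEuler_mem (j : Fin 2) {x : MvPolynomial (Fin 2) k} (hx : x ∈ nodeIdeal k) :
    mvEuler k j x ∈ nodeIdeal k := by
  rw [mem_nodeIdeal_iff] at hx ⊢
  intro m hm
  apply hx m
  rw [MvPolynomial.mem_support_iff] at hm ⊢
  intro h0
  apply hm
  rw [coeff_mvEuler, h0, mul_zero]

theorem mk_mvEuler_eq_zero (j : Fin 2) : ∀ x : MvPolynomial (Fin 2) k,
    Ideal.Quotient.mkₐ k (nodeIdeal k) x = 0 →
      Ideal.Quotient.mkₐ k (nodeIdeal k) (mvEuler k j x) = 0 := by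
  intro x hx
  rw [Ideal.Quotient.mkₐ_eq_mk, Ideal.Quotient.eq_zero_iff_mem] at hx ⊢
  exact mvEuler_mem k j hx

/-- the Euler derivations of the node algebra -/
noncomputable def eulerQ (j : Fin 2) : Derivation k (Node k) (Node k) :=
  Derivation.liftOfSurjective (f := Ideal.Quotient.mkₐ k (nodeIdeal k))
    (Ideal.Quotient.mkₐ_surjective k (nodeIdeal k)) (mk_mvEuler_eq_zero k j)

theorem eulerQ_mk (j : Fin 2) (x : MvPolynomial (Fin 2) k) :
    eulerQ k j (Ideal.Quotient.mk (nodeIdeal k) x) =
      Ideal.Quotient.mk (nodeIdeal k) (mvEuler k j x) :=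
  Derivation.liftOfSurjective_apply (f := Ideal.Quotient.mkₐ k (nodeIdeal k))
    (Ideal.Quotient.mkₐ_surjective k (nodeIdeal k)) (mk_mvEuler_eq_zero k j) x

theorem const_of_eulerQ_eq_zero [CharZero k] (P : Node k)
    (h0 : eulerQ k 0 P = 0) (h1 : eulerQ k 1 P = 0) :
    P ∈ Set.range (algebraMap k (Node k)) := by
  obtain ⟨F, rfl⟩ := Ideal.Quotient.mk_surjective P
  rw [eulerQ_mk, Ideal.Quotient.eq_zero_iff_mem, mem_nodeIdeal_iff] at h0 h1
  refine ⟨MvPolynomial.coeff 0 F, ?_⟩
  change Ideal.Quotient.mk (nodeIdeal k) (MvPolynomial.C (MvPolynomial.coeff 0 F)) = _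
  symm
  rw [Ideal.Quotient.eq, mem_nodeIdeal_iff]
  intro m hm
  rw [MvPolynomial.mem_support_iff, MvPolynomial.coeff_sub, MvPolynomial.coeff_C] at hm
  have hm0 : m ≠ 0 := by
    rintro rfl
    simp at hm
  rw [if_neg (Ne.symm hm0), sub_zero] at hm
  have key : ∀ j : Fin 2, m j ≠ 0 → m ∈ (mvEuler k j F).support := by
    intro j hj
    rw [MvPolynomial.mem_support_iff, coeff_mvEuler]
    exact mul_ne_zero (Nat.cast_ne_zero.mpr hj) hm
  by_cases hj0 : m 0 = 0
  · by_cases hj1 : m 1 = 0
    · exfalso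
      apply hm0
      ext i
      fin_cases i
      · exact hj0
      · exact hj1
    · exact absurd hj0 (h1 m (key 1 hj1)).1
  · exact ⟨hj0, (h0 m (key 0 hj0)).2⟩

section Descend

/-- A module-valued derivation vanishing on the kernel of a surjective algebra map descends. -/
theorem exists_derivation_descend {R S A M : Type*} [CommRing R] [CommRing S] [CommRing A]
    [Algebra R S] [Algebra R A] [Algebra S A] [IsScalarTower R S A]
    [AddCommGroup M] [Module R M] [Module S M] [Module A M] [IsScalarTower S A M]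
    [IsScalarTower R A M]
    (hp : Function.Surjective (algebraMap S A)) (d : Derivation R S M)
    (hd : ∀ x : S, algebraMap S A x = 0 → d x = 0) :
    ∃ δ : Derivation R A M, ∀ x : S, δ (algebraMap S A x) = d x := by
  have hsurj : ∀ a : A, ∃ x : S, algebraMap S A x = a := hp
  choose σ hσ using hsurj
  have hwd : ∀ x y : S, algebraMap S A x = algebraMap S A y → d x = d y := by
    intro x y hxy
    have := hd (x - y) (by rw [map_sub, hxy, sub_self])
    rwa [map_sub, sub_eq_zero] at this
  have hkey : ∀ x : S, d (σ (algebraMap S A x)) = d x := fun x => hwd _ _ (hσ _)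
  refine ⟨{ toFun := fun a => d (σ a)
            map_add' := fun a b => ?_
            map_smul' := fun r a => ?_
            map_one_eq_zero' := ?_
            leibniz' := fun a b => ?_ }, fun x => hkey x⟩
  · rw [← map_add]
    apply hwd
    rw [hσ, map_add, hσ, hσ]
  · rw [RingHom.id_apply, ← Derivation.map_smul]
    apply hwd
    rw [hσ, Algebra.smul_def, Algebra.smul_def, map_mul, hσ,
      ← IsScalarTower.algebraMap_apply R S A]
  · change d (σ 1) = 0
    rw [hwd (σ 1) 1 (by rw [hσ, map_one]), Derivation.map_one_eq_zero]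
  · change d (σ (a * b)) = a • d (σ b) + b • d (σ a)
    rw [hwd (σ (a * b)) (σ a * σ b) (by rw [hσ, map_mul, hσ, hσ]), Derivation.leibniz,
      ← hσ a, ← hσ b, algebraMap_smul, algebraMap_smul, hσ a, hσ b]

end Descend

section Torsion

/-- the classes of `X` and `Y` in the node algebra -/
noncomputable abbrev xbar : Node k := Ideal.Quotient.mk (nodeIdeal k) (MvPolynomial.X 0)
/-- the classes of `X` and `Y` in the node algebra -/
noncomputable abbrev ybar : Node k := Ideal.Quotient.mk (nodeIdeal k) (MvPolynomial.X 1)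

theorem xbar_mul_ybar : xbar k * ybar k = 0 := by
  rw [← map_mul, Ideal.Quotient.eq_zero_iff_mem]
  exact Ideal.subset_span rfl

/-- `X ∉ (X + Y)` in the node algebra -/
theorem xbar_notMem : xbar k ∉ Ideal.span {xbar k + ybar k} := by
  intro h
  obtain ⟨a, ha⟩ := Ideal.mem_span_singleton'.mp h
  obtain ⟨a', rfl⟩ := Ideal.Quotient.mk_surjective a
  rw [← map_add, ← map_mul, Ideal.Quotient.eq, Ideal.mem_span_singleton'] at ha
  obtain ⟨b, hb⟩ := ha
  let φ : MvPolynomial (Fin 2) k →ₐ[k] DualNumber k :=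
    MvPolynomial.aeval ![DualNumber.eps, -DualNumber.eps]
  have h0 : φ (MvPolynomial.X 0) = DualNumber.eps := by
    change MvPolynomial.aeval _ _ = _
    rw [MvPolynomial.aeval_X]; rfl
  have h1 : φ (MvPolynomial.X 1) = -DualNumber.eps := by
    change MvPolynomial.aeval _ _ = _
    rw [MvPolynomial.aeval_X]; rfl
  have := congrArg φ hb
  rw [map_mul, map_mul, map_sub, map_mul, map_add, h0, h1, add_neg_cancel, mul_zero, zero_sub,
    mul_neg, DualNumber.eps_mul_eps, neg_zero, mul_zero] at this
  have h2 := congrArg TrivSqZeroExt.snd this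
  rw [TrivSqZeroExt.snd_zero, TrivSqZeroExt.snd_neg, DualNumber.snd_eps] at h2
  exact one_ne_zero (neg_eq_zero.mp h2.symm)

/-- the torsion form `X dY` of the node is nonzero -/
theorem xbar_smul_D_ybar_ne_zero :
    xbar k • KaehlerDifferential.D k (Node k) (ybar k) ≠ 0 := by
  intro h
  let d : Derivation k (MvPolynomial (Fin 2) k) (Node k ⧸ Ideal.span {xbar k + ybar k}) :=
    MvPolynomial.mkDerivation k (fun _ => 1)
  have smul_one : ∀ a : Node k,
      a • (1 : Node k ⧸ Ideal.span {xbar k + ybar k}) = Ideal.Quotient.mk _ a := by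
    intro a
    change Ideal.Quotient.mk _ (a • (1 : Node k)) = _
    rw [smul_eq_mul, mul_one]
  have hd : ∀ x : MvPolynomial (Fin 2) k, algebraMap _ (Node k) x = 0 → d x = 0 := by
    intro x hx
    rw [Ideal.Quotient.algebraMap_eq, Ideal.Quotient.eq_zero_iff_mem,
      Ideal.mem_span_singleton'] at hx
    obtain ⟨g, rfl⟩ := hx
    have hXY : d (MvPolynomial.X 0 * MvPolynomial.X 1) = 0 := by
      rw [Derivation.leibniz, MvPolynomial.mkDerivation_X, MvPolynomial.mkDerivation_X,
        ← add_smul, ← algebraMap_smul (Node k), smul_one, Ideal.Quotient.eq_zero_iff_mem,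
        Ideal.Quotient.algebraMap_eq, map_add]
      exact Ideal.subset_span rfl
    rw [Derivation.leibniz, hXY, smul_zero, zero_add, ← algebraMap_smul (Node k),
      Ideal.Quotient.algebraMap_eq, map_mul]
    have := xbar_mul_ybar k
    change Ideal.Quotient.mk _ _ * Ideal.Quotient.mk _ _ = 0 at this
    rw [this]
    exact zero_smul (Node k) (d g)
  obtain ⟨δ, hδ⟩ := exists_derivation_descend (R := k) (Ideal.Quotient.mk_surjective) d hd
  have h1 := congrArg δ.liftKaehlerDifferential h
  rw [map_smul, Derivation.liftKaehlerDifferential_comp_D, map_zero] at h1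
  have h2 : δ (ybar k) = 1 := by
    have := hδ (MvPolynomial.X 1)
    rw [MvPolynomial.mkDerivation_X] at this
    exact this
  rw [h2, smul_one, Ideal.Quotient.eq_zero_iff_mem] at h1
  exact xbar_notMem k h1

end Torsion

end Groth.Agent.Lib.NodeAlgebra
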