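import Mathlib

/-!
# Conormal sequence of a first-order deformation of a node (for S16980)

* `IsNodeModel τ x y`: `B` is presented as `R[X,Y]/(XY - τ)`; `mul_eq`, `exists_lift` (universal
  property, ring-hom form), `exists_repr` (`β = p(x) + y q(y)`), `eq_zero_of_mul_eq_zero`
  (`ann x ∩ ann y = 0`, via two maps to Laurent polynomials).
* `eq_zero_of_kerToTensor_eq_zero`: for a square-zero ideal `I` and a derivation `D : P → P` with
  values in `I`, `kerToTensor z = 0` implies `D z = 0`.
* `derivOfEnd`: the derivation `φ - id` of an endomorphism congruent to `id` mod a square-zero ideal.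
* `twist`, `exists_twisted_end`: endomorphisms `εj ↦ (1+w)εj` of the node model over `A ⊕ εJ`.
* `main`: statement S16980.
-/

namespace Groth.Agent.Lib.NodeConormal

open Polynomial

universe u

section Model

variable {R : Type u} [CommRing R] (τ : R) {B : Type u} [CommRing B] [Algebra R B] (x y : B)

/-- The hypotheses presenting `B` as `R[X,Y]/(XY - τ)`. -/
structure IsNodeModel : Prop where
  surj : Function.Surjective
    (MvPolynomial.aeval ![x, y] : MvPolynomial (Fin 2) R →ₐ[R] B)
  ker : RingHom.ker
    (MvPolynomial.aeval ![x, y] : MvPolynomial (Fin 2) R →ₐ[R] B) =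
      Ideal.span {MvPolynomial.X 0 * MvPolynomial.X 1 - MvPolynomial.C τ}

variable {τ x y} (h : IsNodeModel τ x y)

include h in
theorem IsNodeModel.mul_eq : x * y = algebraMap R B τ := by
  have h1 : MvPolynomial.X 0 * MvPolynomial.X 1 - MvPolynomial.C τ ∈ RingHom.ker
      (MvPolynomial.aeval ![x, y] : MvPolynomial (Fin 2) R →ₐ[R] B) := by
    rw [h.ker]; exact Ideal.subset_span rfl
  rw [RingHom.mem_ker, map_sub, map_mul, MvPolynomial.aeval_X, MvPolynomial.aeval_X,
    MvPolynomial.aeval_C, sub_eq_zero] at h1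
  simpa using h1

include h in
/-- Universal property in ring-hom form. -/
theorem IsNodeModel.exists_lift {C : Type u} [CommRing C] (f₀ : R →+* C) (u v : C)
    (huv : u * v = f₀ τ) :
    ∃ g : B →+* C, (∀ r, g (algebraMap R B r) = f₀ r) ∧ g x = u ∧ g y = v := by
  let gt : MvPolynomial (Fin 2) R →+* C := MvPolynomial.eval₂Hom f₀ ![u, v]
  let f : MvPolynomial (Fin 2) R →+* B :=
    (MvPolynomial.aeval ![x, y] : MvPolynomial (Fin 2) R →ₐ[R] B).toRingHom
  have hle : RingHom.ker f ≤ RingHom.ker gt := by
    change RingHom.ker (MvPolynomial.aeval ![x, y] : MvPolynomial (Fin 2) R →ₐ[R] B) ≤ _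
    rw [h.ker, Ideal.span_le]
    intro p hp
    rw [Set.mem_singleton_iff] at hp
    rw [hp, SetLike.mem_coe, RingHom.mem_ker]
    simp [gt, huv]
  refine ⟨f.liftOfSurjective h.surj ⟨gt, hle⟩, fun r => ?_, ?_, ?_⟩
  · have h1 : algebraMap R B r = f (MvPolynomial.C r) := by simp [f]
    rw [h1, RingHom.liftOfSurjective_comp_apply]
    simp [gt]
  · have h1 : f (MvPolynomial.X 0) = x := by simp [f]
    have h2 := RingHom.liftOfSurjective_comp_apply f h.surj ⟨gt, hle⟩ (MvPolynomial.X 0)
    rw [h1] at h2
    rw [h2]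
    simp [gt]
  · have h1 : f (MvPolynomial.X 1) = y := by simp [f]
    have h2 := RingHom.liftOfSurjective_comp_apply f h.surj ⟨gt, hle⟩ (MvPolynomial.X 1)
    rw [h1] at h2
    rw [h2]
    simp [gt]

include h in
/-- Every element is `p(x) + y q(y)`. -/
theorem IsNodeModel.exists_repr (β : B) :
    ∃ p q : R[X], β = aeval x p + y * aeval y q := by
  obtain ⟨P, rfl⟩ := h.surj β
  induction P using MvPolynomial.induction_on with
  | C r => exact ⟨C r, 0, by simp⟩
  | add P Q hP hQ =>
    obtain ⟨p, q, hp⟩ := hP
    obtain ⟨p', q', hq⟩ := hQ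
    refine ⟨p + p', q + q', ?_⟩
    rw [map_add, hp, hq, map_add, map_add]
    ring
  | mul_X P i hP =>
    obtain ⟨p, q, hp⟩ := hP
    rw [map_mul, hp, MvPolynomial.aeval_X]
    fin_cases i
    · -- multiply by `x`
      refine ⟨X * p + C (τ * q.coeff 0), τ • q.divX, ?_⟩
      have hq : q = q.divX * X + C (q.coeff 0) := (Polynomial.divX_mul_X_add q).symm
      have hxy := h.mul_eq
      simp only [Fin.zero_eta, Fin.isValue, Matrix.cons_val_zero, map_add, map_mul, aeval_X,
        aeval_C, map_smul]
      conv_lhs => rw [hq]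
      simp only [map_add, map_mul, aeval_X, aeval_C]
      rw [Algebra.smul_def]
      have : (aeval x p + y * (aeval y q.divX * y + algebraMap R B (q.coeff 0))) * x =
          x * aeval x p + (x * y) * (aeval y q.divX * y) + (x * y) * algebraMap R B (q.coeff 0) := by
        ring
      rw [this, hxy]
      ring
    · -- multiply by `y`
      refine ⟨τ • p.divX, C (p.coeff 0) + X * q, ?_⟩
      have hp' : p = p.divX * X + C (p.coeff 0) := (Polynomial.divX_mul_X_add p).symm
      have hxy := h.mul_eq
      simp only [Fin.mk_one, Fin.isValue, Matrix.cons_val_one, Matrix.cons_val_fin_one, map_add,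
        map_mul, aeval_X, aeval_C, map_smul]
      conv_lhs => rw [hp']
      simp only [map_add, map_mul, aeval_X, aeval_C]
      rw [Algebra.smul_def]
      have : (aeval x p.divX * x + algebraMap R B (p.coeff 0) + y * aeval y q) * y =
          aeval x p.divX * (x * y) + y * algebraMap R B (p.coeff 0) + y * (y * aeval y q) := by
        ring
      rw [this, hxy]
      ring

end Model

section Laurent

variable {R : Type u} [CommRing R]

open LaurentPolynomial in
theorem trunc_neg_part (r c : R) (q : R[X]) :
    LaurentPolynomial.trunc (LaurentPolynomial.C r * T (-1) *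
      aeval (LaurentPolynomial.C c * T (-1)) q) = 0 := by
  induction q using Polynomial.induction_on' with
  | add p q hp hq => rw [map_add, mul_add, map_add, hp, hq, add_zero]
  | monomial b s =>
    rw [aeval_monomial, mul_pow, T_pow, ← map_pow, ← LaurentPolynomial.C_eq_algebraMap]
    have h1 : LaurentPolynomial.C r * T (-1) * (LaurentPolynomial.C s *
        (LaurentPolynomial.C (c ^ b) * T (↑b * -1))) =
        LaurentPolynomial.C (r * s * c ^ b) * T (-1 + ↑b * -1) := by
      rw [T_add, map_mul, map_mul]
      ring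
    rw [h1, trunc_C_mul_T, if_neg]
    omega

theorem aeval_T_one (p : R[X]) : aeval (LaurentPolynomial.T 1 : LaurentPolynomial R) p =
    Polynomial.toLaurent p := by
  have : (aeval (LaurentPolynomial.T 1 : LaurentPolynomial R)) = Polynomial.toLaurentAlg := by
    apply Polynomial.algHom_ext
    simp
  rw [this, Polynomial.toLaurentAlg_apply]

variable {τ : R} {B : Type u} [CommRing B] [Algebra R B] {x y : B}

open LaurentPolynomial in
theorem IsNodeModel.eq_zero_of_mul_eq_zero (h : IsNodeModel τ x y) (β : B) (hx : x * β = 0)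
    (hy : y * β = 0) : β = 0 := by
  obtain ⟨p, q, rfl⟩ := h.exists_repr β
  -- first map: `x ↦ T`, `y ↦ τ T⁻¹`
  obtain ⟨α, hαR, hαx, hαy⟩ := h.exists_lift (LaurentPolynomial.C (R := R)) (T 1)
    (LaurentPolynomial.C τ * T (-1)) (by
      rw [mul_left_comm, ← T_add]; simp)
  have hcomm : ∀ r, α (algebraMap R B r) = algebraMap R (LaurentPolynomial R) r := fun r => by
    rw [hαR, LaurentPolynomial.C_eq_algebraMap]
  let αA : B →ₐ[R] LaurentPolynomial R := { α with commutes' := hcomm }
  have hp : p = 0 := by
    have h1 : αA (x * (aeval x p + y * aeval y q)) = 0 := by rw [hx, map_zero]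
    rw [map_mul] at h1
    have h2 : αA x = T 1 := hαx
    have h3 : αA y = LaurentPolynomial.C τ * T (-1) := hαy
    rw [h2, (isUnit_T 1).mul_right_eq_zero, map_add, map_mul, ← aeval_algHom_apply,
      ← aeval_algHom_apply, h2, h3, aeval_T_one] at h1
    have h4 := congrArg LaurentPolynomial.trunc h1
    rw [map_add, Polynomial.trunc_toLaurent, trunc_neg_part, add_zero, map_zero] at h4
    exact h4
  -- second map: `x ↦ τ T⁻¹`, `y ↦ T`
  obtain ⟨α', hαR', hαx', hαy'⟩ := h.exists_lift (LaurentPolynomial.C (R := R))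
    (LaurentPolynomial.C τ * T (-1)) (T 1) (by
      rw [mul_assoc, ← T_add]; simp)
  have hcomm' : ∀ r, α' (algebraMap R B r) = algebraMap R (LaurentPolynomial R) r := fun r => by
    rw [hαR', LaurentPolynomial.C_eq_algebraMap]
  let αA' : B →ₐ[R] LaurentPolynomial R := { α' with commutes' := hcomm' }
  have hq : q = 0 := by
    have h1 : αA' (y * (aeval x p + y * aeval y q)) = 0 := by rw [hy, map_zero]
    rw [map_mul] at h1
    have h2 : αA' x = LaurentPolynomial.C τ * T (-1) := hαx'
    have h3 : αA' y = T 1 := hαy'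
    rw [h3, (isUnit_T 1).mul_right_eq_zero, map_add, map_mul, ← aeval_algHom_apply,
      ← aeval_algHom_apply, h2, h3, aeval_T_one] at h1
    have h5 : T (-1) * (aeval (LaurentPolynomial.C τ * T (-1)) p + T 1 * Polynomial.toLaurent q) =
        LaurentPolynomial.C 1 * T (-1) * aeval (LaurentPolynomial.C τ * T (-1)) p +
          Polynomial.toLaurent q := by
      rw [mul_add, ← mul_assoc (T (-1)) (T 1), ← T_add, map_one, one_mul]
      simp
    have h4 := congrArg LaurentPolynomial.trunc (h5.symm.trans (by rw [h1, mul_zero]))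
    rw [map_add, Polynomial.trunc_toLaurent, trunc_neg_part, zero_add, map_zero] at h4
    exact h4
  rw [hp, hq]
  simp

end Laurent

section Generic

open TensorProduct

variable {R P : Type*} [CommRing R] [CommRing P] [Algebra R P] (I : Ideal P)

theorem lift_mem_of_forall_mem (D : Derivation R P P) (hD : ∀ b, D b ∈ I) (ω : Ω[P⁄R]) :
    D.liftKaehlerDifferential ω ∈ I := by
  have hω : ω ∈ Submodule.span P (Set.range (KaehlerDifferential.D R P)) := by
    rw [KaehlerDifferential.span_range_derivation]; trivial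
  induction hω using Submodule.span_induction with
  | mem z hz =>
    obtain ⟨b, rfl⟩ := hz
    rw [Derivation.liftKaehlerDifferential_comp_D]
    exact hD b
  | zero => rw [map_zero]; exact I.zero_mem
  | add a b _ _ ha hb => rw [map_add]; exact I.add_mem ha hb
  | smul r a _ ha => rw [map_smul]; exact I.mul_mem_left _ ha

theorem eq_zero_of_kerToTensor_eq_zero (hI : I * I = ⊥) (D : Derivation R P P)
    (hD : ∀ b, D b ∈ I) (z : RingHom.ker (algebraMap P (P ⧸ I)))
    (hz : KaehlerDifferential.kerToTensor R P (P ⧸ I) z = 0) : D (z : P) = 0 := by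
  rw [KaehlerDifferential.kerToTensor_apply] at hz
  have h1 := congrArg (TensorProduct.quotTensorEquivQuotSMul (Ω[P⁄R]) I) hz
  rw [TensorProduct.quotTensorEquivQuotSMul_mk_one_tmul, map_zero,
    Submodule.Quotient.mk_eq_zero] at h1
  have h2 : ∀ ω ∈ (I • ⊤ : Submodule P (Ω[P⁄R])), D.liftKaehlerDifferential ω = 0 := by
    intro ω hω
    induction hω using Submodule.smul_induction_on' with
    | smul r hr n _ =>
      rw [map_smul, smul_eq_mul]
      have : r * D.liftKaehlerDifferential n ∈ I * I :=
        Ideal.mul_mem_mul hr (lift_mem_of_forall_mem I D hD n)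
      rwa [hI, Ideal.mem_bot] at this
    | add a _ b _ ha hb => rw [map_add, ha, hb, add_zero]
  have h3 := h2 _ h1
  rwa [Derivation.liftKaehlerDifferential_comp_D] at h3

/-- The derivation `φ - id` attached to an algebra endomorphism congruent to the identity modulo a
square-zero ideal. -/
noncomputable def derivOfEnd (hI : I * I = ⊥) (φ : P →ₐ[R] P) (hφ : ∀ b, φ b - b ∈ I) :
    Derivation R P P :=
  Derivation.mk' (φ.toLinearMap - LinearMap.id) (by
    intro a b
    simp only [LinearMap.sub_apply, AlgHom.toLinearMap_apply, LinearMap.id_apply, map_mul,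
      smul_eq_mul]
    have h0 : (φ a - a) * (φ b - b) = 0 := by
      have : (φ a - a) * (φ b - b) ∈ I * I := Ideal.mul_mem_mul (hφ a) (hφ b)
      rwa [hI, Ideal.mem_bot] at this
    linear_combination h0)

theorem derivOfEnd_apply (hI : I * I = ⊥) (φ : P →ₐ[R] P) (hφ : ∀ b, φ b - b ∈ I) (b : P) :
    derivOfEnd I hI φ hφ b = φ b - b := rfl

end Generic

section Tsze

open TrivSqZeroExt

variable {A : Type u} [CommRing A] {J : Type u} [AddCommGroup J] [Module A J] [Module Aᵐᵒᵖ J]
  [IsCentralScalar A J] {B' : Type u} [CommRing B'] [Algebra (TrivSqZeroExt A J) B']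
  [Algebra A B'] [IsScalarTower A (TrivSqZeroExt A J) B']

variable (A J B') in
/-- `j ↦ εj` as an `A`-linear map into `B'`. -/
noncomputable def eps : J →ₗ[A] B' :=
  ((Algebra.linearMap (TrivSqZeroExt A J) B').restrictScalars A) ∘ₗ (inrHom A J)

theorem eps_apply (j : J) : eps A J B' j = algebraMap (TrivSqZeroExt A J) B' (inr j) := rfl

theorem eps_mul_eps (j j' : J) : eps A J B' j * eps A J B' j' = 0 := by
  rw [eps_apply, eps_apply, ← map_mul, inr_mul_inr, map_zero]

theorem algebraMap_eq_add (a' : TrivSqZeroExt A J) :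
    algebraMap (TrivSqZeroExt A J) B' a' = algebraMap A B' a'.fst + eps A J B' a'.snd := by
  conv_lhs => rw [← inl_fst_add_inr_snd_eq a', map_add]
  rw [eps_apply, IsScalarTower.algebraMap_apply A (TrivSqZeroExt A J) B', algebraMap_eq_inl]

variable (A J) in
/-- The twisted structure map `a + εj ↦ a + (1 + w) εj`. -/
noncomputable def twist (w : B') : TrivSqZeroExt A J →ₐ[A] B' :=
  TrivSqZeroExt.lift (Algebra.ofId A B') ((LinearMap.mulLeft A (1 + w)) ∘ₗ eps A J B')
    (fun j j' => by
      simp only [LinearMap.comp_apply, LinearMap.mulLeft_apply]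
      have := eps_mul_eps (A := A) (B' := B') j j'
      linear_combination (1 + w) * (1 + w) * this)
    (fun r j => by
      simp only [LinearMap.comp_apply, LinearMap.mulLeft_apply, map_smul, Algebra.ofId_apply,
        Algebra.smul_def]
      try ring)
    (fun r j => by
      simp only [LinearMap.comp_apply, LinearMap.mulLeft_apply, op_smul_eq_smul, map_smul,
        Algebra.ofId_apply, Algebra.smul_def]
      try ring)

theorem twist_apply (w : B') (a' : TrivSqZeroExt A J) :
    twist A J w a' = algebraMap (TrivSqZeroExt A J) B' a' + w * eps A J B' a'.snd := by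
  rw [twist, TrivSqZeroExt.lift_def, algebraMap_eq_add]
  simp only [LinearMap.comp_apply, LinearMap.mulLeft_apply, Algebra.ofId_apply]
  ring

variable {τ : TrivSqZeroExt A J} {x y : B'}

variable (A J B') in
/-- The ideal generated by `εJ`. -/
noncomputable def idealI : Ideal B' :=
  Ideal.map (algebraMap (TrivSqZeroExt A J) B') (TrivSqZeroExt.kerIdeal A J)

theorem idealI_mul : idealI A J B' * idealI A J B' = ⊥ := by
  unfold idealI
  rw [← Ideal.map_mul, ← pow_two, TrivSqZeroExt.kerIdeal_sq, Ideal.map_bot]

theorem eps_mem (j : J) : eps A J B' j ∈ idealI A J B' := by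
  rw [eps_apply]
  apply Ideal.mem_map_of_mem
  rw [TrivSqZeroExt.mem_kerIdeal_iff_inr]
  simp

/-- The twisted endomorphism of the node model. -/
theorem exists_twisted_end (h : IsNodeModel τ x y) (w u v : B')
    (hu : u - x ∈ idealI A J B') (hv : v - y ∈ idealI A J B')
    (huv : u * v = twist A J w τ) :
    ∃ φ : B' →ₐ[A] B', (∀ b, φ b - b ∈ idealI A J B') ∧
      ∀ ι ∈ idealI A J B', φ ι = (1 + w) * ι := by
  obtain ⟨g, hgR, hgx, hgy⟩ := h.exists_lift (twist A J w).toRingHom u v huv
  have hcomm : ∀ a : A, g (algebraMap A B' a) = algebraMap A B' a := by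
    intro a
    have h1 : g (algebraMap (TrivSqZeroExt A J) B' (algebraMap A (TrivSqZeroExt A J) a)) =
        (twist A J w) (algebraMap A (TrivSqZeroExt A J) a) := hgR _
    rw [(twist A J w).commutes a, ← IsScalarTower.algebraMap_apply A (TrivSqZeroExt A J) B'] at h1
    exact h1
  let φ : B' →ₐ[A] B' := { g with commutes' := hcomm }
  have hφ : ∀ b, φ b - b ∈ idealI A J B' := by
    intro b
    obtain ⟨P, rfl⟩ := h.surj b
    induction P using MvPolynomial.induction_on with
    | C a' =>
      rw [MvPolynomial.aeval_C]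
      have : φ (algebraMap (TrivSqZeroExt A J) B' a') = twist A J w a' := hgR a'
      rw [this, twist_apply, add_sub_cancel_left]
      exact Ideal.mul_mem_left _ _ (eps_mem _)
    | add P Q hP hQ =>
      rw [map_add, map_add]
      have := Ideal.add_mem _ hP hQ
      convert this using 1
      ring
    | mul_X P i hP =>
      rw [map_mul, map_mul, MvPolynomial.aeval_X]
      have hi : φ (![x, y] i) - ![x, y] i ∈ idealI A J B' := by
        fin_cases i
        · change g x - x ∈ _
          rw [hgx]; exact hu
        · change g y - y ∈ _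
          rw [hgy]; exact hv
      have := Ideal.add_mem _ (Ideal.mul_mem_right (φ (![x, y] i)) _ hP)
        (Ideal.mul_mem_left _ ((MvPolynomial.aeval ![x, y]) P) hi)
      convert this using 1
      ring
  refine ⟨φ, hφ, ?_⟩
  intro ι hι
  unfold idealI at hι
  rw [Ideal.map] at hι
  induction hι using Submodule.span_induction with
  | mem z hz =>
    obtain ⟨k, hk, rfl⟩ := hz
    have h1 : φ (algebraMap (TrivSqZeroExt A J) B' k) = twist A J w k := hgR k
    rw [SetLike.mem_coe, TrivSqZeroExt.mem_kerIdeal_iff_inr] at hk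
    rw [h1, twist_apply]
    have h2 : algebraMap (TrivSqZeroExt A J) B' k = eps A J B' k.snd := by
      conv_lhs => rw [hk]
      rfl
    rw [h2]
    ring
  | zero => simp
  | add a b _ _ ha hb => rw [map_add, ha, hb]; ring
  | smul r a ha' ha =>
    rw [smul_eq_mul, map_mul, ha]
    have ha'' : a ∈ idealI A J B' := ha'
    have h0 : (φ r - r) * a = 0 := by
      have : (φ r - r) * a ∈ idealI A J B' * idealI A J B' := Ideal.mul_mem_mul (hφ r) ha''
      rwa [idealI_mul, Ideal.mem_bot] at this
    linear_combination (1 + w) * h0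

theorem main (A : Type u) [CommRing A] (J : Type u) [AddCommGroup J] [Module A J] [Module Aᵐᵒᵖ J]
    [IsCentralScalar A J] (τ : TrivSqZeroExt A J)
    (B' : Type u) [CommRing B'] [Algebra (TrivSqZeroExt A J) B'] [Algebra A B']
    [IsScalarTower A (TrivSqZeroExt A J) B'] (x y : B')
    (hsurj : Function.Surjective
      (MvPolynomial.aeval ![x, y] : MvPolynomial (Fin 2) (TrivSqZeroExt A J) →ₐ[TrivSqZeroExt A J] B'))
    (hker : RingHom.ker
      (MvPolynomial.aeval ![x, y] : MvPolynomial (Fin 2) (TrivSqZeroExt A J) →ₐ[TrivSqZeroExt A J] B') =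
      Ideal.span {MvPolynomial.X 0 * MvPolynomial.X 1 - MvPolynomial.C τ}) :
    Function.Injective (KaehlerDifferential.kerToTensor A B'
      (B' ⧸ Ideal.map (algebraMap (TrivSqZeroExt A J) B') (TrivSqZeroExt.kerIdeal A J))) := by
  have h : IsNodeModel τ x y := ⟨hsurj, hker⟩
  have hxy := h.mul_eq
  obtain ⟨φ₁, hφ₁, hφ₁I⟩ := exists_twisted_end h y (x + eps A J B' τ.snd) y
    (by rw [add_sub_cancel_left]; exact eps_mem _) (by rw [sub_self]; exact Ideal.zero_mem _)
    (by rw [twist_apply, add_mul, hxy]; ring)
  obtain ⟨φ₂, hφ₂, hφ₂I⟩ := exists_twisted_end h x x (y + eps A J B' τ.snd)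
    (by rw [sub_self]; exact Ideal.zero_mem _) (by rw [add_sub_cancel_left]; exact eps_mem _)
    (by rw [twist_apply, mul_add, hxy])
  change Function.Injective (KaehlerDifferential.kerToTensor A B' (B' ⧸ idealI A J B'))
  rw [injective_iff_map_eq_zero]
  intro z hz
  have hzI : (z : B') ∈ idealI A J B' := by
    have h0 : algebraMap B' (B' ⧸ idealI A J B') (z : B') = 0 := z.2
    exact Ideal.Quotient.eq_zero_iff_mem.mp h0
  have h1 := eq_zero_of_kerToTensor_eq_zero (idealI A J B') idealI_mul
    (derivOfEnd _ idealI_mul φ₁ hφ₁) (fun b => hφ₁ b) z hz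
  have h2 := eq_zero_of_kerToTensor_eq_zero (idealI A J B') idealI_mul
    (derivOfEnd _ idealI_mul φ₂ hφ₂) (fun b => hφ₂ b) z hz
  rw [derivOfEnd_apply, hφ₁I _ hzI] at h1
  rw [derivOfEnd_apply, hφ₂I _ hzI] at h2
  have hy0 : y * (z : B') = 0 := by linear_combination h1
  have hx0 : x * (z : B') = 0 := by linear_combination h2
  exact Subtype.ext (h.eq_zero_of_mul_eq_zero _ hx0 hy0)

end Tsze

end Groth.Agent.Lib.NodeConormal
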