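import Mathlib
import Groth.Agent.Lib.NodeDef3
import Groth.Agent.Lib.ArtinianFlat

/-!
# The families `xy = a` as deformations of the node; the test ring `k[s,t]/(s²,t²)`
-/

set_option autoImplicit false
set_option linter.unusedVariables false
set_option linter.unusedSectionVars false

universe u

open CategoryTheory CategoryTheory.Limits AlgebraicGeometry ArtFun ArtFun.Art
open Groth.Agent.Lib.DefSchAff

namespace Groth.Agent.Lib.NodeDef

variable {k : Type u} [Field k]

section Family

variable (A : Art k k) (a : A) (ha : A.res a = 0)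

theorem isNilpotent_maximalIdeal_art : IsNilpotent (IsLocalRing.maximalIdeal A) :=
  Groth.Agent.Lib.ArtinianFlat.isNilpotent_maximalIdeal

include ha in
theorem flat_algebraMap_nodeRing : (algebraMap A (NodeRing a)).Flat := by
  rw [RingHom.flat_algebraMap_iff]
  exact flat_nodeRing (isNilpotent_maximalIdeal_art A) a ((Art.mem_maximalIdeal_iff A a).mpr ha)

theorem ker_nodeProj_art :
    RingHom.ker (nodeProj A.res.toRingHom a ha) =
      (IsLocalRing.maximalIdeal A).map (algebraMap A (NodeRing a)) := by
  rw [ker_nodeProj A.res.toRingHom a ha A.res_surjective, ker_res]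

/-- the deformation `xy = a` of the node over `A` -/
noncomputable def nodeFamily :
    DefSch (Spec (CommRingCat.of (NodeB k)))
      (Spec.map (CommRingCat.ofHom (algebraMap k (NodeB k)))) A :=
  ofRing (NodeRing a) (algebraMap A (NodeRing a)) (flat_algebraMap_nodeRing A a ha)
    (nodeProj A.res.toRingHom a ha) (nodeProj_algebraMap A.res.toRingHom a ha)
    (nodeProj_surjective A.res.toRingHom a ha A.res_surjective) (ker_nodeProj_art A a ha)

end Family

/-- base change of `xy = a` along `g` is `xy = g a` -/
theorem nonempty_iso_baseChange_nodeFamily {A A' : Art k k} (g : A ⟶ A') (a : A)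
    (ha : A.res a = 0) (a' : A') (ha' : A'.res a' = 0) (h : g a = a') :
    Nonempty (DefSch.Iso ((nodeFamily A a ha).baseChange g) (nodeFamily A' a' ha')) := by
  subst h
  let ρ : NodeRing a →+* NodeRing (g a) :=
    nodeLift ((algebraMap A' (NodeRing (g a))).comp g.toAlgHom.toRingHom) a (nx (g a)) (ny (g a))
      (nx_mul_ny (g a))
  apply nonempty_iso_baseChange_ofRing g _ _ _ _ _ _ _ _ _ _ _ _ _ _ ρ
  · intro c
    exact nodeLift_algebraMap _ _ _ _ _ c
  · intro r
    have h : (nodeProj A'.res.toRingHom (g a) ha').comp ρ = nodeProj A.res.toRingHom a ha := by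
      apply nodeRing_hom_ext
      · intro c
        rw [RingHom.comp_apply]
        have e1 : ρ (algebraMap A (NodeRing a) c) = algebraMap A' (NodeRing (g a)) (g c) :=
          nodeLift_algebraMap _ _ _ _ _ c
        rw [e1, nodeProj_algebraMap, nodeProj_algebraMap]
        congr 1
        exact Art.res_app g c
      · rw [RingHom.comp_apply]
        have e1 : ρ (nx a) = nx (g a) := nodeLift_nx _ _ _ _ _
        rw [e1, nodeProj_nx, nodeProj_nx]
      · rw [RingHom.comp_apply]
        have e1 : ρ (ny a) = ny (g a) := nodeLift_ny _ _ _ _ _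
        rw [e1, nodeProj_ny, nodeProj_ny]
    exact RingHom.congr_fun h r

/-- rescaling `x` by a unit congruent to `1`: `xy = a` and `xy = ua` are isomorphic deformations -/
theorem nonempty_iso_nodeFamily_unit (A : Art k k) (a : A) (ha : A.res a = 0) (u : A)
    (hu : A.res u = 1) (a' : A) (ha' : A.res a' = 0) (h : a' = u * a) :
    Nonempty (DefSch.Iso (nodeFamily A a ha) (nodeFamily A a' ha')) := by
  subst h
  let ρ : NodeRing (u * a) →+* NodeRing a :=
    nodeLift (algebraMap A (NodeRing a)) (u * a) (algebraMap A (NodeRing a) u * nx a) (ny a)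
      (by rw [mul_assoc, nx_mul_ny, map_mul])
  apply nonempty_iso_ofRing _ _ _ _ _ _ _ _ _ _ _ _ _ _ ρ
  · intro c
    exact nodeLift_algebraMap _ _ _ _ _ c
  · intro r
    have h : (nodeProj A.res.toRingHom a ha).comp ρ = nodeProj A.res.toRingHom (u * a) ha' := by
      apply nodeRing_hom_ext
      · intro c
        rw [RingHom.comp_apply]
        have e1 : ρ (algebraMap A (NodeRing (u * a)) c) = algebraMap A (NodeRing a) c :=
          nodeLift_algebraMap _ _ _ _ _ c
        rw [e1, nodeProj_algebraMap, nodeProj_algebraMap]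
      · rw [RingHom.comp_apply]
        have e1 : ρ (nx (u * a)) = algebraMap A (NodeRing a) u * nx a := nodeLift_nx _ _ _ _ _
        rw [e1, map_mul, nodeProj_algebraMap, nodeProj_nx, nodeProj_nx]
        have e2 : A.res.toRingHom u = 1 := hu
        rw [e2, map_one, one_mul]
      · rw [RingHom.comp_apply]
        have e1 : ρ (ny (u * a)) = ny a := nodeLift_ny _ _ _ _ _
        rw [e1, nodeProj_ny, nodeProj_ny]
    exact RingHom.congr_fun h r

end Groth.Agent.Lib.NodeDef
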