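import Mathlib
import Groth.Agent.Lib.NodeDef4

/-!
# `xy = ε` is a nontrivial deformation of the node; the test ring `k[s,t]/(s²,t²)`
-/

set_option autoImplicit false
set_option linter.unusedVariables false
set_option linter.unusedSectionVars false

universe u

open CategoryTheory CategoryTheory.Limits AlgebraicGeometry ArtFun ArtFun.Art
open Groth.Agent.Lib.DefSchAff

namespace Groth.Agent.Lib.NodeDef

variable {k : Type u} [Field k]

/-- `ε` as an element of the object `k[ε]` -/
def epsD : (Art.dual k k) := (DualNumber.eps : DualNumber k)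

theorem res_epsD : (Art.dual k k).res (epsD (k := k)) = 0 := rfl

theorem ker_res_dual :
    RingHom.ker ((TrivSqZeroExt.fstHom k k k).toRingHom : DualNumber k →+* k) =
    Ideal.span {(DualNumber.eps : DualNumber k)} := by
  ext a
  rw [RingHom.mem_ker, Ideal.mem_span_singleton']
  constructor
  · intro h
    have h' : a.fst = 0 := h
    refine ⟨TrivSqZeroExt.inl a.snd, ?_⟩
    ext <;> simp [h']
  · rintro ⟨c, rfl⟩
    change (c * DualNumber.eps).fst = 0
    simp

theorem not_iso_nodeFamily_eps :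
    ¬ Nonempty (DefSch.Iso (nodeFamily (Art.dual k k) epsD res_epsD)
      (nodeFamily (Art.dual k k) 0 (map_zero _))) := by
  rintro ⟨e⟩
  obtain ⟨ρ, h1, h2⟩ := exists_ringHom_of_iso_ofRing _ _ _ _ _ _ _ _ _ _ _ _ _ _ e
  have hz : ρ (nx 0) * ρ (ny 0) = 0 := by
    rw [← map_mul, nx_mul_ny, map_zero, map_zero]
  have hx := (h2 (nx 0)).trans (nodeProj_nx _ _ _)
  have hy := (h2 (ny 0)).trans (nodeProj_ny _ _ _)
  exact mul_ne_zero_of_lift (k := k) ((TrivSqZeroExt.fstHom k k k).toRingHom) rfl
    (Art.dual k k).res_surjective ker_res_dual (ρ (nx 0)) (ρ (ny 0)) hx hy hz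

section TestRing

open TrivSqZeroExt

/-- the ring `k[s,t]/(s²,t²)` as iterated dual numbers -/
abbrev DD (k : Type u) [Field k] : Type u := DualNumber (DualNumber k)

theorem isLocalRing_DD : IsLocalRing (DD k) := by
  refine IsLocalRing.of_isUnit_or_isUnit_one_sub_self fun a => ?_
  by_cases h : a.fst.fst = 0
  · right
    rw [TrivSqZeroExt.isUnit_iff_isUnit_fst, TrivSqZeroExt.isUnit_iff_isUnit_fst]
    simp [h]
  · left
    rw [TrivSqZeroExt.isUnit_iff_isUnit_fst, TrivSqZeroExt.isUnit_iff_isUnit_fst]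
    exact isUnit_iff_ne_zero.mpr h

theorem isArtinianRing_DD : IsArtinianRing (DD k) := by
  have h1 : IsArtinianRing (DualNumber k) := Art.isArtinianRing_tsze k k
  have h2 : Module.Finite (DualNumber k) (DD k) :=
    inferInstanceAs (Module.Finite (DualNumber k) (DualNumber k × DualNumber k))
  exact @IsArtinianRing.of_finite (DualNumber k) (DD k) _ _ _
    (IsScalarTower.right (R := DualNumber k) (A := DD k)) h1 h2

/-- the augmentation of `k[s,t]/(s²,t²)` -/
def resDD : DD k →ₐ[k] k :=
  (TrivSqZeroExt.fstHom k k k).comp (TrivSqZeroExt.fstHom k (DualNumber k) (DualNumber k))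

theorem resDD_apply (a : DD k) : resDD a = a.fst.fst := rfl

/-- `k[s,t]/(s²,t²)` as an object of `Art k k` -/
def testRing (k : Type u) [Field k] : Art k k :=
  letI := isLocalRing_DD (k := k)
  letI := isArtinianRing_DD (k := k)
  Art.of (DD k) resDD (fun c => ⟨algebraMap k (DD k) c, by
    rw [resDD_apply, TrivSqZeroExt.algebraMap_eq_inl', TrivSqZeroExt.fst_inl,
      TrivSqZeroExt.algebraMap_eq_inl, TrivSqZeroExt.fst_inl]⟩)

/-- the algebra map `k[ε] → k[s,t]/(s²,t²)`, `ε ↦ a` -/
def testAlgHom (a : DD k) (ha2 : a * a = 0) : DualNumber k →ₐ[k] DD k :=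
  DualNumber.lift ⟨(Algebra.ofId k (DD k), a), ha2, fun x => mul_comm a _⟩

theorem testAlgHom_apply (a : DD k) (ha2 : a * a = 0) (d : DualNumber k) :
    testAlgHom a ha2 d = algebraMap k (DD k) d.fst + algebraMap k (DD k) d.snd * a := by
  unfold testAlgHom
  rw [DualNumber.lift_apply_apply]
  rfl

theorem resDD_comp_testAlgHom (a : DD k) (ha2 : a * a = 0) (hra : a.fst.fst = 0) :
    resDD.comp (testAlgHom a ha2) = TrivSqZeroExt.fstHom k k k := by
  apply DualNumber.algHom_ext
  rw [AlgHom.comp_apply, testAlgHom_apply, resDD_apply]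
  simp [TrivSqZeroExt.algebraMap_eq_inl', hra]

/-- the map `k[ε] → k[s,t]/(s²,t²)`, `ε ↦ a` -/
def testHom (a : DD k) (ha2 : a * a = 0) (hra : a.fst.fst = 0) : Art.dual k k ⟶ testRing k :=
  Art.homMk (testAlgHom a ha2) (resDD_comp_testAlgHom a ha2 hra)

theorem testHom_apply (a : DD k) (ha2 : a * a = 0) (hra : a.fst.fst = 0) (d : DualNumber k) :
    (testHom a ha2 hra).toAlgHom d =
      algebraMap k (DD k) d.fst + algebraMap k (DD k) d.snd * a :=
  testAlgHom_apply a ha2 d

/-- `s` -/
def sD : DD k := inl DualNumber.eps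

/-- `s + st` -/
def sD' : DD k := inl DualNumber.eps + inr DualNumber.eps

/-- `1 + t` -/
def uD : DD k := 1 + inr 1

theorem sD_sq : (sD : DD k) * sD = 0 := by
  unfold sD
  rw [← inl_mul, DualNumber.eps_mul_eps, inl_zero]

theorem sD'_eq : (sD' : DD k) = uD * sD := by
  unfold sD' uD sD
  ext <;> simp

theorem sD'_sq : (sD' : DD k) * sD' = 0 := by
  rw [sD'_eq]
  have : (uD : DD k) * sD * (uD * sD) = uD * uD * (sD * sD) := by ring
  rw [this, sD_sq, mul_zero]

theorem sD_fst : (sD : DD k).fst.fst = 0 := by simp [sD]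

theorem sD'_fst : (sD' : DD k).fst.fst = 0 := by simp [sD']

theorem eq_zero_of_testHom_eq (d : DualNumber k)
    (h : (testHom (sD : DD k) sD_sq sD_fst).toAlgHom d =
      (testHom (sD' : DD k) sD'_sq sD'_fst).toAlgHom d) :
    d.snd = 0 := by
  rw [testHom_apply, testHom_apply] at h
  have h2 := congrArg (fun z : DD k => z.snd.snd) h
  simp only [sD, sD', TrivSqZeroExt.algebraMap_eq_inl'] at h2
  simpa [eq_comm] using h2

theorem testHom_eps (a : DD k) (ha2 : a * a = 0) (hra : a.fst.fst = 0) :
    (testHom a ha2 hra) (epsD (k := k)) = a := by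
  have h : algebraMap k (DD k) (DualNumber.eps : DualNumber k).fst +
      algebraMap k (DD k) (DualNumber.eps : DualNumber k).snd * a = a := by simp
  exact (testHom_apply a ha2 hra DualNumber.eps).trans h

theorem res_sD : (testRing k).res (sD : DD k) = 0 := sD_fst

theorem res_sD' : (testRing k).res (sD' : DD k) = 0 := sD'_fst

theorem res_uD : (testRing k).res (uD : DD k) = 1 := by
  change (uD : DD k).fst.fst = 1
  simp [uD]

end TestRing

end Groth.Agent.Lib.NodeDef
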