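import Mathlib

/-!
# The ring `R[[x, y]]/(xy - π)`: coefficient calculus

Coefficient formulas for multiplication by `xy - π` in `R[[x, y]]`, the Krull-intersection lemma
(a multiple of `xy - π` without mixed terms is zero when `π` lies in the maximal ideal of a
Noetherian local ring), and division by `x`.
-/

set_option autoImplicit false
set_option maxHeartbeats 400000

open MvPowerSeries

namespace Groth.Agent.Lib.NodeRing97

variable {R : Type*} [CommRing R]

/-- the exponent of `xy` -/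
noncomputable def e11 : Fin 2 →₀ ℕ := Finsupp.single 0 1 + Finsupp.single 1 1

theorem X0X1 : (X 0 * X 1 : MvPowerSeries (Fin 2) R) = monomial e11 1 := by
  rw [X_def, X_def, monomial_mul_monomial, one_mul]; rfl

theorem coeff_X0_mul_add (c : MvPowerSeries (Fin 2) R) (d : Fin 2 →₀ ℕ) :
    coeff (d + Finsupp.single 0 1) (X 0 * c) = coeff d c := by
  rw [X_def, add_comm, coeff_add_monomial_mul, one_mul]

theorem coeff_X1_mul_add (c : MvPowerSeries (Fin 2) R) (d : Fin 2 →₀ ℕ) :
    coeff (d + Finsupp.single 1 1) (X 1 * c) = coeff d c := by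
  rw [X_def, add_comm, coeff_add_monomial_mul, one_mul]

theorem coeff_X0_mul_of_zero (c : MvPowerSeries (Fin 2) R) (d : Fin 2 →₀ ℕ) (hd : d 0 = 0) :
    coeff d (X 0 * c) = 0 := by
  rw [X_def, coeff_monomial_mul, if_neg]
  intro h
  have := h 0
  simp [hd] at this

theorem coeff_X1_mul_of_zero (c : MvPowerSeries (Fin 2) R) (d : Fin 2 →₀ ℕ) (hd : d 1 = 0) :
    coeff d (X 1 * c) = 0 := by
  rw [X_def, coeff_monomial_mul, if_neg]
  intro h
  have := h 1
  simp [hd] at this

theorem exists_add_single0 (d : Fin 2 →₀ ℕ) (hd : d 0 ≠ 0) :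
    ∃ d' : Fin 2 →₀ ℕ, d = d' + Finsupp.single 0 1 := by
  refine ⟨d - Finsupp.single 0 1, ?_⟩
  rw [tsub_add_cancel_of_le]
  intro i
  fin_cases i
  · simp; omega
  · simp

theorem exists_add_single1 (d : Fin 2 →₀ ℕ) (hd : d 1 ≠ 0) :
    ∃ d' : Fin 2 →₀ ℕ, d = d' + Finsupp.single 1 1 := by
  refine ⟨d - Finsupp.single 1 1, ?_⟩
  rw [tsub_add_cancel_of_le]
  intro i
  fin_cases i
  · simp
  · simp; omega

theorem X0_mul_cancel {u v : MvPowerSeries (Fin 2) R} (h : X 0 * u = X 0 * v) : u = v := by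
  ext d
  rw [← coeff_X0_mul_add u d, ← coeff_X0_mul_add v d, h]

theorem X1_mul_cancel {u v : MvPowerSeries (Fin 2) R} (h : X 1 * u = X 1 * v) : u = v := by
  ext d
  rw [← coeff_X1_mul_add u d, ← coeff_X1_mul_add v d, h]

theorem coeff_node_mul_add (π : R) (c : MvPowerSeries (Fin 2) R) (d : Fin 2 →₀ ℕ) :
    coeff (d + e11) ((X 0 * X 1 - C π) * c) = coeff d c - π * coeff (d + e11) c := by
  rw [sub_mul, map_sub, X0X1, add_comm d e11, coeff_add_monomial_mul, one_mul, coeff_C_mul]

theorem coeff_node_mul_of_zero0 (π : R) (c : MvPowerSeries (Fin 2) R) (d : Fin 2 →₀ ℕ)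
    (hd : d 0 = 0) :
    coeff d ((X 0 * X 1 - C π) * c) = - (π * coeff d c) := by
  rw [sub_mul, map_sub, mul_assoc, coeff_X0_mul_of_zero _ d hd, coeff_C_mul, zero_sub]

theorem coeff_node_mul_of_zero1 (π : R) (c : MvPowerSeries (Fin 2) R) (d : Fin 2 →₀ ℕ)
    (hd : d 1 = 0) :
    coeff d ((X 0 * X 1 - C π) * c) = - (π * coeff d c) := by
  rw [sub_mul, map_sub, mul_comm (X 0) (X 1), mul_assoc, coeff_X1_mul_of_zero _ d hd,
    coeff_C_mul, zero_sub]

/-- **Krull-type lemma**: a multiple of `xy - π` without mixed terms is zero. -/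
theorem eq_zero_of_no_mixed [IsNoetherianRing R] [IsLocalRing R] (π : R)
    (hπ : π ∈ IsLocalRing.maximalIdeal R) (e : MvPowerSeries (Fin 2) R)
    (hh : ∀ d : Fin 2 →₀ ℕ, coeff (d + e11) ((X 0 * X 1 - C π) * e) = 0) : e = 0 := by
  have h1 : ∀ d : Fin 2 →₀ ℕ, coeff d e = π * coeff (d + e11) e := by
    intro d
    have := hh d
    rw [coeff_node_mul_add] at this
    linear_combination this
  have h2 : ∀ (n : ℕ) (d : Fin 2 →₀ ℕ), coeff d e = π ^ n * coeff (d + n • e11) e := by
    intro n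
    induction n with
    | zero => intro d; simp
    | succ n ih =>
      intro d
      rw [ih d, h1 (d + n • e11), pow_succ, succ_nsmul, add_assoc, mul_assoc]
  ext d
  rw [map_zero]
  have hmem : coeff d e ∈ (⨅ n : ℕ, IsLocalRing.maximalIdeal R ^ n : Ideal R) := by
    rw [Ideal.mem_iInf]
    intro n
    rw [h2 n d]
    exact Ideal.mul_mem_right _ _ (Ideal.pow_mem_pow hπ n)
  rw [Ideal.iInf_pow_eq_bot_of_isLocalRing _ (IsLocalRing.maximalIdeal.isMaximal R).ne_top] at hmem
  exact hmem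

/-- the part of a series without `x` -/
noncomputable def lowX (b : MvPowerSeries (Fin 2) R) : MvPowerSeries (Fin 2) R :=
  fun d => if d 0 = 0 then coeff d b else 0

/-- the quotient of the division by `x` -/
noncomputable def divX (b : MvPowerSeries (Fin 2) R) : MvPowerSeries (Fin 2) R :=
  fun d => coeff (d + Finsupp.single 0 1) b

/-- the part of a series without `y` -/
noncomputable def lowY (b : MvPowerSeries (Fin 2) R) : MvPowerSeries (Fin 2) R :=
  fun d => if d 1 = 0 then coeff d b else 0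

/-- the quotient of the division by `y` -/
noncomputable def divY (b : MvPowerSeries (Fin 2) R) : MvPowerSeries (Fin 2) R :=
  fun d => coeff (d + Finsupp.single 1 1) b

theorem coeff_lowX (b : MvPowerSeries (Fin 2) R) (d : Fin 2 →₀ ℕ) :
    coeff d (lowX b) = if d 0 = 0 then coeff d b else 0 := rfl

theorem coeff_divX (b : MvPowerSeries (Fin 2) R) (d : Fin 2 →₀ ℕ) :
    coeff d (divX b) = coeff (d + Finsupp.single 0 1) b := rfl

theorem coeff_lowY (b : MvPowerSeries (Fin 2) R) (d : Fin 2 →₀ ℕ) :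
    coeff d (lowY b) = if d 1 = 0 then coeff d b else 0 := rfl

theorem coeff_divY (b : MvPowerSeries (Fin 2) R) (d : Fin 2 →₀ ℕ) :
    coeff d (divY b) = coeff (d + Finsupp.single 1 1) b := rfl

theorem eq_lowX_add (b : MvPowerSeries (Fin 2) R) : b = lowX b + X 0 * divX b := by
  ext d
  rw [map_add, coeff_lowX]
  by_cases hd : d 0 = 0
  · rw [if_pos hd, coeff_X0_mul_of_zero _ d hd, add_zero]
  · rw [if_neg hd, zero_add]
    obtain ⟨d', rfl⟩ := exists_add_single0 d hd
    rw [coeff_X0_mul_add, coeff_divX]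

theorem eq_lowY_add (b : MvPowerSeries (Fin 2) R) : b = lowY b + X 1 * divY b := by
  ext d
  rw [map_add, coeff_lowY]
  by_cases hd : d 1 = 0
  · rw [if_pos hd, coeff_X1_mul_of_zero _ d hd, add_zero]
  · rw [if_neg hd, zero_add]
    obtain ⟨d', rfl⟩ := exists_add_single1 d hd
    rw [coeff_X1_mul_add, coeff_divY]

end Groth.Agent.Lib.NodeRing97
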