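import Mathlib
import Groth.Agent.Lib.NodeRing97

/-!
# The ring `R[[x, y]]/(xy - π)`: normal form

For `R` complete with respect to an ideal containing `π`, every series in `R[[x, y]]` is
congruent modulo `xy - π` to `f(x) + y g(y)`.
-/

set_option autoImplicit false
set_option maxHeartbeats 400000

open MvPowerSeries

namespace Groth.Agent.Lib.NodeRing97

theorem coeff_toMv_single {R σ : Type*} [CommRing R] (i : σ) (f : PowerSeries R) (n : ℕ) :
    coeff (Finsupp.single i n) (f.toMvPowerSeries i) = PowerSeries.coeff n f := by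
  have h1 := coeff_embDomain_rename (R := R) (Function.Embedding.punit i) f
    (Finsupp.single PUnit.unit n)
  rw [Finsupp.embDomain_single] at h1
  exact h1

theorem coeff_toMv_of_ne {R σ : Type*} [CommRing R] (i : σ) (f : PowerSeries R) (d : σ →₀ ℕ)
    (h : d ≠ Finsupp.single i (d i)) :
    coeff d (f.toMvPowerSeries i) = 0 := by
  classical
  rw [PowerSeries.toMvPowerSeries_apply]
  apply coeff_rename_eq_zero
  rintro ⟨x, hx⟩
  apply h
  have hx' : x = Finsupp.single PUnit.unit (x PUnit.unit) := by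
    ext
    simp
  rw [hx', Finsupp.mapDomain_single] at hx
  rw [← hx]
  simp

theorem fin2_eq_single0 (d : Fin 2 →₀ ℕ) : d = Finsupp.single 0 (d 0) ↔ d 1 = 0 := by
  constructor
  · intro h
    rw [h]
    simp
  · intro h
    ext j
    fin_cases j
    · simp
    · simp [h]

theorem fin2_eq_single1 (d : Fin 2 →₀ ℕ) : d = Finsupp.single 1 (d 1) ↔ d 0 = 0 := by
  constructor
  · intro h
    rw [h]
    simp
  · intro h
    ext j
    fin_cases j
    · simp [h]
    · simp

variable {R : Type*} [CommRing R]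

/-- `x`-series have no `y` -/
theorem coeff_toMv0_of_ne (f : PowerSeries R) (d : Fin 2 →₀ ℕ) (hd : d 1 ≠ 0) :
    coeff d (f.toMvPowerSeries (0 : Fin 2)) = 0 :=
  coeff_toMv_of_ne 0 f d (fun h => hd ((fin2_eq_single0 d).mp h))

theorem coeff_toMv1_of_ne (f : PowerSeries R) (d : Fin 2 →₀ ℕ) (hd : d 0 ≠ 0) :
    coeff d (f.toMvPowerSeries (1 : Fin 2)) = 0 :=
  coeff_toMv_of_ne 1 f d (fun h => hd ((fin2_eq_single1 d).mp h))

/-- solving `c_d - π c_{d + (1,1)} = h_{d + (1,1)}` by a convergent series -/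
theorem exists_solution (I : Ideal R) [IsAdicComplete I R] (π : R) (hπ : π ∈ I)
    (h : MvPowerSeries (Fin 2) R) :
    ∃ c : MvPowerSeries (Fin 2) R,
      ∀ d : Fin 2 →₀ ℕ, coeff d c - π * coeff (d + e11) c = coeff (d + e11) h := by
  have key : ∀ n : ℕ, (I ^ n • ⊤ : Submodule R R) = I ^ n := fun n => by
    rw [smul_eq_mul, Ideal.mul_top]
  let s : ℕ → (Fin 2 →₀ ℕ) → R := fun N d =>
    ∑ n ∈ Finset.range N, π ^ n * coeff (d + (n + 1) • e11) h
  have hs1 : ∀ (d : Fin 2 →₀ ℕ) (N : ℕ), s (N + 1) d - s N d ∈ I ^ N := by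
    intro d N
    simp only [s, Finset.sum_range_succ, add_sub_cancel_left]
    exact Ideal.mul_mem_right _ _ (Ideal.pow_mem_pow hπ N)
  have hs2 : ∀ (d : Fin 2 →₀ ℕ) (m n : ℕ), m ≤ n →
      s m d ≡ s n d [SMOD (I ^ m • ⊤ : Submodule R R)] := by
    intro d m n hmn
    rw [SModEq.sub_mem, key]
    induction n, hmn using Nat.le_induction with
    | base => simp
    | succ n hmn ih =>
      have : s m d - s (n + 1) d = (s m d - s n d) - (s (n + 1) d - s n d) := by ring
      rw [this]
      exact Ideal.sub_mem _ ih (Ideal.pow_le_pow_right hmn (hs1 d n))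
  choose L hL using fun d : Fin 2 →₀ ℕ =>
    IsPrecomplete.prec' (I := I) (fun N => s N d) (fun {m n} hmn => hs2 d m n hmn)
  have hL' : ∀ (d : Fin 2 →₀ ℕ) (n : ℕ), L d - s n d ∈ I ^ n := by
    intro d n
    have := (hL d n).symm
    rwa [SModEq.sub_mem, key] at this
  refine ⟨fun d => L d, fun d => ?_⟩
  have hshift : ∀ N : ℕ, s (N + 1) d = coeff (d + e11) h + π * s N (d + e11) := by
    intro N
    simp only [s]
    rw [Finset.sum_range_succ', Finset.mul_sum, pow_zero, one_mul, zero_add, one_nsmul, add_comm]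
    congr 1
    apply Finset.sum_congr rfl
    intro n _
    rw [pow_succ, succ_nsmul' e11 (n + 1), add_assoc]
    ring
  change L d - π * L (d + e11) = coeff (d + e11) h
  rw [← sub_eq_zero]
  apply IsHausdorff.haus' (I := I)
  intro N
  rw [SModEq.zero, key]
  have : L d - π * L (d + e11) - coeff (d + e11) h =
      (L d - s (N + 1) d) - π * (L (d + e11) - s N (d + e11)) := by
    rw [hshift N]; ring
  rw [this]
  exact Ideal.sub_mem _ (Ideal.pow_le_pow_right (Nat.le_succ N) (hL' d (N + 1)))
    (Ideal.mul_mem_left _ _ (hL' (d + e11) N))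

/-- **normal form**: every series is congruent mod `xy - π` to `f(x) + y g(y)` -/
theorem exists_normal_form (I : Ideal R) [IsAdicComplete I R] (π : R) (hπ : π ∈ I)
    (h : MvPowerSeries (Fin 2) R) :
    ∃ f g : PowerSeries R,
      h - (f.toMvPowerSeries (0 : Fin 2) + X 1 * g.toMvPowerSeries (1 : Fin 2)) ∈
        Ideal.span {(X 0 * X 1 - C π : MvPowerSeries (Fin 2) R)} := by
  obtain ⟨c, hc⟩ := exists_solution I π hπ h
  set N : MvPowerSeries (Fin 2) R := h - (X 0 * X 1 - C π) * c with hN
  have hmixed : ∀ d : Fin 2 →₀ ℕ, coeff (d + e11) N = 0 := by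
    intro d
    rw [hN, map_sub, coeff_node_mul_add, ← hc d, sub_self]
  refine ⟨PowerSeries.mk (fun n => coeff (Finsupp.single 0 n) N),
    PowerSeries.mk (fun n => coeff (Finsupp.single 1 (n + 1)) N), ?_⟩
  have hNeq : N = (PowerSeries.mk (fun n => coeff (Finsupp.single 0 n) N)).toMvPowerSeries
      (0 : Fin 2) + X 1 * (PowerSeries.mk
        (fun n => coeff (Finsupp.single 1 (n + 1)) N)).toMvPowerSeries (1 : Fin 2) := by
    ext d
    rw [map_add]
    by_cases h1 : d 1 = 0
    · have hd := (fin2_eq_single0 d).mpr h1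
      rw [coeff_X1_mul_of_zero _ d h1, add_zero]
      conv_rhs => rw [hd]
      rw [coeff_toMv_single, PowerSeries.coeff_mk, ← hd]
    · rw [coeff_toMv0_of_ne _ d h1, zero_add]
      obtain ⟨d', rfl⟩ := exists_add_single1 d h1
      rw [coeff_X1_mul_add]
      by_cases h0 : d' 0 = 0
      · have hd := (fin2_eq_single1 d').mpr h0
        conv_rhs => rw [hd]
        rw [coeff_toMv_single, PowerSeries.coeff_mk]
        conv_lhs => rw [hd]
        rw [← Finsupp.single_add]
      · rw [coeff_toMv1_of_ne _ d' h0]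
        obtain ⟨d'', rfl⟩ := exists_add_single0 d' h0
        rw [add_assoc]
        exact hmixed d''
  rw [← hNeq, hN, sub_sub_cancel]
  exact Ideal.mul_mem_right _ _ (Ideal.mem_span_singleton_self _)

end Groth.Agent.Lib.NodeRing97
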