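import Groth.Agent.Lib.TorPD
import Mathlib.RingTheory.Length
import Mathlib.LinearAlgebra.TensorProduct.Quotient
import Mathlib.RingTheory.SimpleModule.Basic
import Mathlib.RingTheory.MvPolynomial.Ideal
import Mathlib.Algebra.MvPolynomial.Division
import Mathlib.Tactic.LinearCombination
import Mathlib.Tactic.FinCases

/-!
# `Tor_i(κ, κ)` over the node `k[x,y]/(xy)` (helper35)

`ℓκ_succ`: `Tor_i(κ,κ)` has length `2` for `i ≥ 1`; `not_hasProjectiveDimensionLT`: `κ` has infinite
projective dimension.  General tools: `cycSES` (`0 → R/(d) → R → R/(c) → 0` when `ann c = (d)`),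
`ℓ_shift`, `ℓ_prod` (length of `Tor` of a product), `whiskerRight_eq_zero`.
-/

set_option autoImplicit false
universe u
open CategoryTheory MonoidalCategory Limits MvPolynomial

namespace Groth.Agent.Lib.NodeTor

section cyclic

variable {R : Type u} [CommRing R]

/-- multiplication by `c` as a map `R/(d) → R` when `c * d = 0`. -/
noncomputable def mulQ (c d : R) (h : c * d = 0) : (R ⧸ Ideal.span {d}) →ₗ[R] R :=
  Submodule.liftQ (Ideal.span {d}) (LinearMap.lsmul R R c) (by
    rw [Ideal.span_le]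
    rintro _ rfl
    exact h)

@[simp]
lemma mulQ_mk (c d : R) (h : c * d = 0) (a : R) :
    mulQ c d h (Submodule.Quotient.mk a) = c * a := rfl

lemma mulQ_injective (c d : R) (h : c * d = 0) (hann : ∀ a, c * a = 0 → ∃ b, a = d * b) :
    Function.Injective (mulQ c d h) := by
  rw [← LinearMap.ker_eq_bot]
  apply Submodule.ker_liftQ_eq_bot
  intro a ha
  obtain ⟨b, rfl⟩ := hann a ha
  exact Ideal.mem_span_singleton'.mpr ⟨b, mul_comm _ _⟩

lemma range_mulQ (c d : R) (h : c * d = 0) :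
    LinearMap.range (mulQ c d h) = Ideal.span {c} := by
  ext a
  rw [Ideal.mem_span_singleton']
  constructor
  · rintro ⟨z, rfl⟩
    obtain ⟨b, rfl⟩ := Submodule.Quotient.mk_surjective _ z
    exact ⟨b, mul_comm _ _⟩
  · rintro ⟨b, rfl⟩
    exact ⟨Submodule.Quotient.mk b, mul_comm _ _⟩

/-- A linear map into `R` with values in `I` dies after tensoring with `R/I`. -/
lemma whiskerRight_eq_zero {X : Type u} [AddCommGroup X] [Module R X] (φ : X →ₗ[R] R)
    (I : Ideal R) (hφ : ∀ x, φ x ∈ I) :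
    (ModuleCat.ofHom φ) ▷ (ModuleCat.of R (R ⧸ I)) = 0 := by
  apply ModuleCat.MonoidalCategory.tensor_ext
  intro m n
  obtain ⟨r, rfl⟩ := Submodule.Quotient.mk_surjective _ n
  change φ m ⊗ₜ[R] (Submodule.Quotient.mk r : R ⧸ I) = 0
  have h1 : φ m ⊗ₜ[R] (Submodule.Quotient.mk r : R ⧸ I) =
      (1 : R) ⊗ₜ[R] (φ m • (Submodule.Quotient.mk r : R ⧸ I)) := by
    rw [← TensorProduct.smul_tmul, smul_eq_mul, mul_one]
  rw [h1]
  have h2 : φ m • (Submodule.Quotient.mk r : R ⧸ I) = 0 := by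
    rw [← Submodule.Quotient.mk_smul, Submodule.Quotient.mk_eq_zero]
    exact I.mul_mem_right _ (hφ m)
  rw [h2, TensorProduct.tmul_zero]

/-- The short exact sequence `0 → R/(d) → R → R/(c) → 0` when `ann(c) = (d)`. -/
noncomputable def cycSES (c d : R) (h : c * d = 0) : ShortComplex (ModuleCat.{u} R) :=
  ShortComplex.mk (ModuleCat.ofHom (mulQ c d h))
    (ModuleCat.ofHom (Submodule.mkQ (Ideal.span {c}))) (by
      apply ModuleCat.hom_ext
      apply LinearMap.ext
      intro z
      have : mulQ c d h z ∈ LinearMap.range (mulQ c d h) := ⟨z, rfl⟩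
      rw [range_mulQ] at this
      exact (Submodule.Quotient.mk_eq_zero _).mpr this)

lemma cycSES_shortExact (c d : R) (h : c * d = 0) (hann : ∀ a, c * a = 0 → ∃ b, a = d * b) :
    (cycSES c d h).ShortExact := by
  apply ModuleCat.shortComplex_shortExact
  · intro (a : R)
    change (Submodule.mkQ (Ideal.span {c})) a = 0 ↔ a ∈ Set.range (mulQ c d h)
    rw [Submodule.mkQ_apply, Submodule.Quotient.mk_eq_zero, ← range_mulQ c d h]
    rfl
  · exact mulQ_injective c d h hann
  · exact Submodule.mkQ_surjective _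

/-- `(R/J) ⊗ (R/I) ≃ R/I` when `J ≤ I`. -/
lemma length_quot_tensor (I J : Ideal R) (hJ : J ≤ I) :
    Module.length R (TensorProduct R (R ⧸ J) (R ⧸ I)) = Module.length R (R ⧸ I) := by
  have hbot : J • (⊤ : Submodule R (R ⧸ I)) = ⊥ := by
    rw [eq_bot_iff, Submodule.smul_le]
    intro r hr n _
    obtain ⟨a, rfl⟩ := Submodule.Quotient.mk_surjective _ n
    rw [Submodule.mem_bot, ← Submodule.Quotient.mk_smul, Submodule.Quotient.mk_eq_zero]
    exact I.mul_mem_right _ (hJ hr)
  exact ((TensorProduct.quotTensorEquivQuotSMul (R ⧸ I) J).trans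
    (Submodule.quotEquivOfEqBot _ hbot)).length_eq

end cyclic

section ring

variable (k : Type u) [Field k]

/-- The ideal `(xy)` of `k[x,y]`. -/
noncomputable abbrev I0 : Ideal (MvPolynomial (Fin 2) k) :=
  Ideal.span {(X 0 * X 1 : MvPolynomial (Fin 2) k)}

/-- The node `k[x,y]/(xy)`. -/
noncomputable abbrev A := MvPolynomial (Fin 2) k ⧸ I0 k

/-- The quotient map. -/
noncomputable abbrev q : MvPolynomial (Fin 2) k →+* A k := Ideal.Quotient.mk (I0 k)

/-- The maximal ideal `(x, y)` of the node. -/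
noncomputable abbrev mI : Ideal (A k) := Ideal.span {q k (X 0), q k (X 1)}

variable {k}

lemma I0_eq {i j : Fin 2} (h : i ≠ j) :
    I0 k = Ideal.span {(X i * X j : MvPolynomial (Fin 2) k)} := by
  fin_cases i <;> fin_cases j
  · exact absurd rfl h
  · rfl
  · show Ideal.span {(X 0 * X 1 : MvPolynomial (Fin 2) k)} = Ideal.span {X 1 * X 0}
    rw [mul_comm]
  · exact absurd rfl h

lemma q_mul_eq_zero {i j : Fin 2} (h : i ≠ j) : q k (X i) * q k (X j) = 0 := by
  rw [← map_mul, Ideal.Quotient.eq_zero_iff_mem, I0_eq h]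
  exact Ideal.mem_span_singleton_self _

/-- `ann(x_i) = (x_j)`. -/
lemma ann {i j : Fin 2} (h : i ≠ j) (a : A k) (ha : q k (X i) * a = 0) :
    ∃ b, a = q k (X j) * b := by
  obtain ⟨p, rfl⟩ := Ideal.Quotient.mk_surjective a
  rw [← map_mul, Ideal.Quotient.eq_zero_iff_mem, I0_eq h, Ideal.mem_span_singleton'] at ha
  obtain ⟨c, hc⟩ := ha
  have : X i * p = X i * (X j * c) := by rw [← hc]; ring
  have hp : p = X j * c := mul_left_cancel₀ (X_ne_zero i) this
  exact ⟨q k c, by rw [hp, map_mul]⟩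

/-- `(x_i) ∩ (x_j) = 0`. -/
lemma inter {i j : Fin 2} (h : i ≠ j) (a b : A k) (hab : q k (X i) * a = q k (X j) * b) :
    q k (X i) * a = 0 := by
  obtain ⟨p, rfl⟩ := Ideal.Quotient.mk_surjective a
  obtain ⟨r, rfl⟩ := Ideal.Quotient.mk_surjective b
  rw [← map_mul, ← map_mul, Ideal.Quotient.eq, I0_eq h, Ideal.mem_span_singleton'] at hab
  obtain ⟨c, hc⟩ := hab
  have h1 : X j * r = X i * (p - c * X j) := by linear_combination hc
  have h2 : (X i : MvPolynomial (Fin 2) k) ∣ X j * r := ⟨_, h1⟩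
  rw [X_dvd_mul_iff, X_dvd_X] at h2
  rcases h2 with h2 | ⟨r', rfl⟩
  · exact absurd h2 h
  · have h3 : q k (X j * (X i * r')) = 0 := by
      rw [Ideal.Quotient.eq_zero_iff_mem, I0_eq h, Ideal.mem_span_singleton']
      exact ⟨r', by ring⟩
    have h4 : q k (X i * p) = q k (X j * (X i * r')) := by
      rw [Ideal.Quotient.eq, I0_eq h, Ideal.mem_span_singleton']
      exact ⟨c, hc⟩
    rw [map_mul] at h4
    rw [h4, h3]

/-- Evaluation at the origin. -/
noncomputable def ε : A k →+* k :=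
  Ideal.Quotient.lift (I0 k) constantCoeff (by
    intro a ha
    rw [Ideal.mem_span_singleton'] at ha
    obtain ⟨c, rfl⟩ := ha
    simp)

lemma ε_q (p : MvPolynomial (Fin 2) k) : ε (q k p) = constantCoeff p := rfl

lemma ε_surjective : Function.Surjective (ε (k := k)) := fun c =>
  ⟨q k (C c), by rw [ε_q, constantCoeff_C]⟩

lemma ker_ε : RingHom.ker (ε (k := k)) = mI k := by
  apply le_antisymm
  · intro a ha
    obtain ⟨p, rfl⟩ := Ideal.Quotient.mk_surjective a
    have hp : constantCoeff p = 0 := ha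
    have h1 : p ∈ idealOfVars (Fin 2) k ^ 1 := by
      rw [mem_pow_idealOfVars_iff']
      intro x hx
      have hx0 : x = 0 := by
        have : Finsupp.degree x = 0 := by omega
        exact (Finsupp.degree_eq_zero_iff x).mp this
      rw [hx0]
      exact hp
    rw [pow_one] at h1
    have h2 : q k p ∈ Ideal.map (q k) (idealOfVars (Fin 2) k) := Ideal.mem_map_of_mem _ h1
    rw [Ideal.map_span] at h2
    refine Ideal.span_mono ?_ h2
    rintro _ ⟨_, ⟨i, rfl⟩, rfl⟩
    fin_cases i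
    · exact Set.mem_insert _ _
    · exact Set.mem_insert_of_mem _ rfl
  · rw [Ideal.span_le]
    rintro _ (rfl | rfl)
    · show ε (q k (X 0)) = 0
      rw [ε_q, constantCoeff_X]
    · show ε (q k (X 1)) = 0
      rw [ε_q, constantCoeff_X]

instance mI_isMaximal : (mI k).IsMaximal := by
  rw [← ker_ε]
  exact RingHom.ker_isMaximal_of_surjective _ ε_surjective

end ring

open Groth.Agent.Lib.TorLES Groth.Agent.Lib.TorBalance

section general

variable {R : Type u} [CommRing R] {S : ShortComplex (ModuleCat.{u} R)} (hS : S.ShortExact)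
  (N : ModuleCat.{u} R)

lemma tor_zero_map_eq_zero (h0 : S.f ▷ N = 0) :
    ((Tor (ModuleCat.{u} R) 0).map S.f).app N = 0 := by
  rw [← cancel_mono (torZeroIso S.X₂ N).hom, torZeroIso_hom_naturality, h0, comp_zero, zero_comp]

include hS in
lemma isIso_δ_of_flat_of_zero [Module.Flat R S.X₂] (h0 : S.f ▷ N = 0) (i : ℕ) :
    IsIso (δ (ProjectiveResolution.of N) hS i) := by
  cases i with
  | zero =>
    have h2 : IsZero (((Tor (ModuleCat.{u} R) (0 + 1)).obj S.X₂).obj N) :=
      isZero_tor_succ_of_flat_left _ _ 0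
    have hm : Mono (δ (ProjectiveResolution.of N) hS 0) :=
      (exact₃ (ProjectiveResolution.of N) hS 0).mono_g (h2.eq_of_src _ _)
    have he : Epi (δ (ProjectiveResolution.of N) hS 0) :=
      (exact₁ (ProjectiveResolution.of N) hS 0).epi_f (tor_zero_map_eq_zero N h0)
    exact isIso_of_mono_of_epi _
  | succ n => exact isIso_δ_of_flat hS N n

/-- The length of `Tor_i(X, N)`. -/
noncomputable def ℓ (i : ℕ) (X : ModuleCat.{u} R) : ℕ∞ :=
  Module.length R (((Tor (ModuleCat.{u} R) i).obj X).obj N)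

lemma ℓ_congr_iso {X Y : ModuleCat.{u} R} (e : X ≅ Y) (i : ℕ) : ℓ N i X = ℓ N i Y :=
  (torMapIso (N := N) e i).toLinearEquiv.length_eq

include hS in
lemma ℓ_shift [Module.Flat R S.X₂] (h0 : S.f ▷ N = 0) (i : ℕ) :
    ℓ N (i + 1) S.X₃ = ℓ N i S.X₁ := by
  have := isIso_δ_of_flat_of_zero hS N h0 i
  exact (asIso (δ (ProjectiveResolution.of N) hS i)).toLinearEquiv.length_eq

lemma ℓ_zero (X : ModuleCat.{u} R) : ℓ N 0 X = Module.length R (TensorProduct R X N) :=
  (torZeroIso X N).toLinearEquiv.length_eq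

/-- Additivity of the length of `Tor` on a product. -/
lemma ℓ_prod (X Y : Type u) [AddCommGroup X] [Module R X] [AddCommGroup Y] [Module R Y] (i : ℕ) :
    ℓ N i (ModuleCat.of R (X × Y)) = ℓ N i (ModuleCat.of R X) + ℓ N i (ModuleCat.of R Y) := by
  let T : ShortComplex (ModuleCat.{u} R) :=
    ShortComplex.mk (ModuleCat.ofHom (LinearMap.inl R X Y)) (ModuleCat.ofHom (LinearMap.snd R X Y))
      (by ext x; rfl)
  have hT : T.ShortExact := by
    apply ModuleCat.shortComplex_shortExact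
    · intro z
      constructor
      · intro hz
        exact ⟨z.1, Prod.ext rfl (Eq.symm hz)⟩
      · rintro ⟨x, rfl⟩
        rfl
    · exact LinearMap.inl_injective
    · exact LinearMap.snd_surjective
  have hex := exact₂ (N := N) hT i
  have h1 : ((Tor (ModuleCat.{u} R) i).map T.f).app N ≫
      ((Tor (ModuleCat.{u} R) i).map (ModuleCat.ofHom (LinearMap.fst R X Y))).app N = 𝟙 _ := by
    rw [← NatTrans.comp_app, ← Functor.map_comp]
    have : T.f ≫ ModuleCat.ofHom (LinearMap.fst R X Y) = 𝟙 _ := by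
      ext x; rfl
    rw [this, CategoryTheory.Functor.map_id]
    rfl
  have h2 : ((Tor (ModuleCat.{u} R) i).map (ModuleCat.ofHom (LinearMap.inr R X Y))).app N ≫
      ((Tor (ModuleCat.{u} R) i).map T.g).app N = 𝟙 _ := by
    rw [← NatTrans.comp_app, ← Functor.map_comp]
    have : ModuleCat.ofHom (LinearMap.inr R X Y) ≫ T.g = 𝟙 _ := by
      ext x; rfl
    rw [this, CategoryTheory.Functor.map_id]
    rfl
  have hm : Mono (((Tor (ModuleCat.{u} R) i).map T.f).app N) := mono_of_mono_fac h1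
  have he : Epi (((Tor (ModuleCat.{u} R) i).map T.g).app N) := epi_of_epi_fac h2
  exact Module.length_eq_add_of_exact _ _ ((ModuleCat.mono_iff_injective _).mp hm)
    ((ModuleCat.epi_iff_surjective _).mp he)
    ((ShortComplex.ShortExact.moduleCat_exact_iff_function_exact _).mp hex)

end general

section node

variable (k : Type u) [Field k]

/-- The class of `x`. -/
noncomputable abbrev x : A k := q k (X 0)

/-- The class of `y`. -/
noncomputable abbrev y : A k := q k (X 1)

/-- The residue field at the origin as a module. -/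
noncomputable abbrev κ : ModuleCat.{u} (A k) := ModuleCat.of (A k) (A k ⧸ mI k)

/-- `A/(y) ≅ xA`. -/
noncomputable abbrev U : ModuleCat.{u} (A k) := ModuleCat.of (A k) (A k ⧸ Ideal.span {y k})

/-- `A/(x) ≅ yA`. -/
noncomputable abbrev V : ModuleCat.{u} (A k) := ModuleCat.of (A k) (A k ⧸ Ideal.span {x k})

lemma xy : x k * y k = 0 := q_mul_eq_zero (by decide : (0 : Fin 2) ≠ 1)

lemma yx : y k * x k = 0 := q_mul_eq_zero (by decide : (1 : Fin 2) ≠ 0)

lemma x_mem : x k ∈ mI k := Ideal.subset_span (Set.mem_insert _ _)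

lemma y_mem : y k ∈ mI k := Ideal.subset_span (Set.mem_insert_of_mem _ rfl)

lemma length_κ : Module.length (A k) (A k ⧸ mI k) = 1 := by
  rw [Module.length_eq_one_iff, isSimpleModule_iff_isCoatom, ← Ideal.isMaximal_def]
  exact mI_isMaximal

lemma mulQ_mem (c d : A k) (h : c * d = 0) (hc : c ∈ mI k) (z : A k ⧸ Ideal.span {d}) :
    mulQ c d h z ∈ mI k := by
  obtain ⟨b, rfl⟩ := Submodule.Quotient.mk_surjective _ z
  exact (mI k).mul_mem_right _ hc

lemma ℓU_succ (i : ℕ) : ℓ (κ k) (i + 1) (U k) = ℓ (κ k) i (V k) := by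
  have hS := cycSES_shortExact (y k) (x k) (yx k) (ann (by decide : (1 : Fin 2) ≠ 0))
  have : Module.Flat (A k) (cycSES (y k) (x k) (yx k)).X₂ := by
    change Module.Flat (A k) (A k)
    infer_instance
  exact ℓ_shift hS (κ k) (whiskerRight_eq_zero _ (mI k) (mulQ_mem k _ _ _ (y_mem k))) i

lemma ℓV_succ (i : ℕ) : ℓ (κ k) (i + 1) (V k) = ℓ (κ k) i (U k) := by
  have hS := cycSES_shortExact (x k) (y k) (xy k) (ann (by decide : (0 : Fin 2) ≠ 1))
  have : Module.Flat (A k) (cycSES (x k) (y k) (xy k)).X₂ := by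
    change Module.Flat (A k) (A k)
    infer_instance
  exact ℓ_shift hS (κ k) (whiskerRight_eq_zero _ (mI k) (mulQ_mem k _ _ _ (x_mem k))) i

lemma ℓU_zero : ℓ (κ k) 0 (U k) = 1 := by
  rw [ℓ_zero]
  exact (length_quot_tensor (mI k) (Ideal.span {y k})
    ((Ideal.span_singleton_le_iff_mem _).mpr (y_mem k))).trans (length_κ k)

lemma ℓV_zero : ℓ (κ k) 0 (V k) = 1 := by
  rw [ℓ_zero]
  exact (length_quot_tensor (mI k) (Ideal.span {x k})
    ((Ideal.span_singleton_le_iff_mem _).mpr (x_mem k))).trans (length_κ k)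

lemma ℓUV (i : ℕ) : ℓ (κ k) i (U k) = 1 ∧ ℓ (κ k) i (V k) = 1 := by
  induction i with
  | zero => exact ⟨ℓU_zero k, ℓV_zero k⟩
  | succ n ih => exact ⟨(ℓU_succ k n).trans ih.2, (ℓV_succ k n).trans ih.1⟩

/-- `A/(y) × A/(x) → A`, `(u, v) ↦ xu + yv`. -/
noncomputable def ψ : ((A k ⧸ Ideal.span {y k}) × (A k ⧸ Ideal.span {x k})) →ₗ[A k] A k :=
  (mulQ (x k) (y k) (xy k)).coprod (mulQ (y k) (x k) (yx k))

lemma ψ_injective : Function.Injective (ψ k) := by
  rw [← LinearMap.ker_eq_bot, eq_bot_iff]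
  rintro ⟨u, v⟩ huv
  obtain ⟨a, rfl⟩ := Submodule.Quotient.mk_surjective _ u
  obtain ⟨b, rfl⟩ := Submodule.Quotient.mk_surjective _ v
  have h1 : x k * a + y k * b = 0 := huv
  have h2 : x k * a = y k * (-b) := by linear_combination h1
  have h3 : x k * a = 0 := inter (by decide : (0 : Fin 2) ≠ 1) a (-b) h2
  have h4 : y k * b = 0 := by linear_combination h1 - h3
  obtain ⟨a', rfl⟩ := ann (by decide : (0 : Fin 2) ≠ 1) a h3
  obtain ⟨b', rfl⟩ := ann (by decide : (1 : Fin 2) ≠ 0) b h4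
  have hu : (Submodule.Quotient.mk (y k * a') : A k ⧸ Ideal.span {y k}) = 0 :=
    (Submodule.Quotient.mk_eq_zero _).mpr (Ideal.mem_span_singleton'.mpr ⟨a', mul_comm _ _⟩)
  have hv : (Submodule.Quotient.mk (x k * b') : A k ⧸ Ideal.span {x k}) = 0 :=
    (Submodule.Quotient.mk_eq_zero _).mpr (Ideal.mem_span_singleton'.mpr ⟨b', mul_comm _ _⟩)
  rw [Submodule.mem_bot, hu, hv]
  rfl

lemma range_ψ : LinearMap.range (ψ k) = mI k := by
  rw [ψ, LinearMap.range_coprod, range_mulQ, range_mulQ]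
  exact (Ideal.span_insert _ _).symm

/-- The short exact sequence `0 → A/(y) × A/(x) → A → κ → 0`. -/
noncomputable def kSES : ShortComplex (ModuleCat.{u} (A k)) :=
  ShortComplex.mk (ModuleCat.ofHom (ψ k)) (ModuleCat.ofHom (Submodule.mkQ (mI k))) (by
    apply ModuleCat.hom_ext
    apply LinearMap.ext
    intro z
    have : ψ k z ∈ LinearMap.range (ψ k) := ⟨z, rfl⟩
    rw [range_ψ] at this
    exact (Submodule.Quotient.mk_eq_zero _).mpr this)

lemma kSES_shortExact : (kSES k).ShortExact := by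
  apply ModuleCat.shortComplex_shortExact
  · intro (a : A k)
    change (Submodule.mkQ (mI k)) a = 0 ↔ a ∈ Set.range (ψ k)
    rw [Submodule.mkQ_apply, Submodule.Quotient.mk_eq_zero, ← range_ψ k]
    rfl
  · exact ψ_injective k
  · exact Submodule.mkQ_surjective _

/-- **`Tor_i(κ, κ)` has length two for `i ≥ 1`.** -/
theorem ℓκ_succ (i : ℕ) : ℓ (κ k) (i + 1) (κ k) = 2 := by
  have hS := kSES_shortExact k
  have : Module.Flat (A k) (kSES k).X₂ := by
    change Module.Flat (A k) (A k)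
    infer_instance
  have h0 : (kSES k).f ▷ κ k = 0 := by
    apply whiskerRight_eq_zero _ (mI k)
    intro z
    have : ψ k z ∈ LinearMap.range (ψ k) := ⟨z, rfl⟩
    rwa [range_ψ] at this
  have h1 := ℓ_shift hS (κ k) h0 i
  have h2 := ℓ_prod (κ k) (A k ⧸ Ideal.span {y k}) (A k ⧸ Ideal.span {x k}) i
  have h3 := ℓUV k i
  change ℓ (κ k) i (U k) = 1 ∧ ℓ (κ k) i (V k) = 1 at h3
  change ℓ (κ k) (i + 1) (κ k) = ℓ (κ k) i (ModuleCat.of (A k) _) at h1
  rw [h1, h2]
  change ℓ (κ k) i (U k) + ℓ (κ k) i (V k) = 2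
  rw [h3.1, h3.2]
  rfl

/-- `κ` has infinite projective dimension. -/
theorem not_hasProjectiveDimensionLT (n : ℕ) : ¬ HasProjectiveDimensionLT (κ k) n := by
  intro h
  have h' : HasProjectiveDimensionLT (κ k) (n + 1) :=
    hasProjectiveDimensionLT_of_ge (κ k) n (n + 1) (Nat.le_succ n)
  have hz := Groth.Agent.Lib.TorPD.isZero_tor_of_hasProjectiveDimensionLT n (κ k) (κ k) (n + 1)
    (Nat.lt_succ_self n)
  have h2 := ℓκ_succ k n
  have : Subsingleton (((Tor (ModuleCat.{u} (A k)) (n + 1)).obj (κ k)).obj (κ k)) :=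
    ModuleCat.subsingleton_of_isZero hz
  have h0 : ℓ (κ k) (n + 1) (κ k) = 0 := Module.length_eq_zero_iff.mpr this
  rw [h0] at h2
  exact absurd h2 (by decide)

end node

end Groth.Agent.Lib.NodeTor
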