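import Mathlib

/-!
# Closure of a locally closed subset of a Noetherian sober space

`exists_specializes_of_mem_closure_of_isLocallyClosed`: in a Noetherian quasi-sober space, every
point in the closure of a locally closed set `Z` is a specialization of a point of `Z`.

`exists_specializes_of_mem_closure`: the same for locally Noetherian schemes.
-/

set_option autoImplicit false

universe u

open TopologicalSpace AlgebraicGeometry

namespace Groth.Agent.Lib.NoethClosureSpec

theorem exists_specializes_of_mem_closure_of_isLocallyClosed {T : Type*} [TopologicalSpace T]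
    [NoetherianSpace T] [QuasiSober T] {Z : Set T} (hZ : IsLocallyClosed Z) {x : T}
    (hx : x ∈ closure Z) : ∃ z ∈ Z, z ⤳ x := by
  classical
  obtain ⟨S, hSf, hSc, hSi, hSU⟩ :=
    NoetherianSpace.exists_finite_set_isClosed_irreducible (isClosed_closure (s := Z))
  by_contra hcon
  push Not at hcon
  let D : Set T := ⋃₀ {t ∈ S | x ∉ t}
  have hDclosed : IsClosed D := by
    change IsClosed (⋃₀ {t ∈ S | x ∉ t})
    rw [Set.sUnion_eq_biUnion]
    exact (hSf.subset (Set.sep_subset _ _)).isClosed_biUnion fun t ht => hSc t ht.1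
  have hxD : x ∉ D := by
    rintro ⟨t, ⟨-, hxt⟩, hxt'⟩
    exact hxt hxt'
  have hopen : IsOpen (coborder Z) := isLocallyClosed_iff_isOpen_coborder.mp hZ
  have hZD : Z ⊆ D := by
    intro z hz
    have hz' : z ∈ closure Z := subset_closure hz
    rw [hSU] at hz'
    obtain ⟨t, htS, hzt⟩ := hz'
    refine ⟨t, ⟨htS, fun hxt => ?_⟩, hzt⟩
    obtain ⟨c, hc⟩ := QuasiSober.sober (hSi t htS) (hSc t htS)
    have hcx : c ⤳ x := hc.specializes hxt
    have hcco : c ∈ coborder Z :=
      (hc.mem_open_set_iff hopen).mpr ⟨z, hzt, subset_coborder hz⟩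
    have hct : c ∈ t := hc.mem
    have hccl : c ∈ closure Z := by
      rw [hSU]; exact ⟨t, htS, hct⟩
    have hcZ : c ∈ Z := by
      rw [← coborder_inter_closure (s := Z)]
      exact ⟨hcco, hccl⟩
    exact hcon c hcZ hcx
  exact hxD (closure_minimal hZD hDclosed hx)

theorem exists_specializes_of_mem_closure {X : Scheme.{u}} [IsLocallyNoetherian X] {Z : Set X}
    (hZ : IsLocallyClosed Z) {x : X} (hx : x ∈ closure Z) : ∃ z ∈ Z, z ⤳ x := by
  obtain ⟨_, ⟨W₁, hW₁, rfl⟩, hxW₁, -⟩ := X.isBasis_affineOpens.exists_subset_of_mem_open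
    (Set.mem_univ x) isOpen_univ
  haveI : IsNoetherianRing Γ(X, W₁) := IsLocallyNoetherian.component_noetherian ⟨W₁, hW₁⟩
  haveI : NoetherianSpace W₁ := noetherianSpace_of_isAffineOpen W₁ hW₁
  haveI : QuasiSober W₁ := W₁.isOpenEmbedding'.quasiSober
  let Z₁ : Set W₁ := Subtype.val ⁻¹' Z
  have hZ₁ : IsLocallyClosed Z₁ := hZ.preimage continuous_subtype_val
  have hx₁ : (⟨x, hxW₁⟩ : W₁) ∈ closure Z₁ := by
    have h := W₁.isOpenEmbedding'.isOpenMap.preimage_closure_eq_closure_preimage
      continuous_subtype_val Z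
    have h' : (⟨x, hxW₁⟩ : W₁) ∈ Subtype.val ⁻¹' closure Z := hx
    rw [h] at h'
    exact h'
  obtain ⟨z₁, hz₁, hsp⟩ := exists_specializes_of_mem_closure_of_isLocallyClosed hZ₁ hx₁
  exact ⟨z₁.1, hz₁, hsp.map continuous_subtype_val⟩

end Groth.Agent.Lib.NoethClosureSpec
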