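import Groth.Agent.Lib.NonAbTorsor
import Mathlib.Algebra.Category.Grp.ForgetCorepresentable
import Mathlib.Logic.Small.Defs

/-!
# The torsor attached to a Čech 1-cocycle (helper49)

General site `(C, J)`, sheaf of groups `G` (any universes), family `U : I → C` covering the site, cocycle `γ`.
`Fam G U γ T` is the type of "twisted matching families" (sections of the torsor over `T`); it lives in a large
universe and is shrunk to `Type w` to produce `cechTorsor`.
-/

set_option autoImplicit false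
universe w' w v u
open CategoryTheory Opposite

namespace Groth.Agent.Lib.NonAbCechTorsor

open Groth.Agent.Lib.NonAbTorsor

variable {C : Type u} [Category.{v} C] {J : GrothendieckTopology C}

section Grp

variable (G : Sheaf J GrpCat.{w})

/-- The underlying presheaf of sets of a sheaf of groups is a sheaf (no universe restrictions). -/
lemma isSheaf_forget : Presieve.IsSheaf J (G.obj ⋙ forget GrpCat.{w}) :=
  Presieve.isSheaf_iso J (Functor.isoWhiskerLeft G.obj GrpCat.coyonedaObjIsoForget)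
    (G.property (GrpCat.of (ULift.{w} (Multiplicative ℤ))))

theorem grp_ext {T : C} (S : Sieve T) (hS : S ∈ J T) (s t : G.obj.obj (op T))
    (h : ∀ ⦃V : C⦄ (f : V ⟶ T), S f → G.obj.map f.op s = G.obj.map f.op t) : s = t :=
  ((isSheaf_forget G) S hS).isSeparatedFor.ext (fun _ f hf => h f hf)

theorem grp_glue {T : C} (S : Sieve T) (hS : S ∈ J T)
    (x : ∀ ⦃V : C⦄ (f : V ⟶ T), S f → G.obj.obj (op V))
    (hx : ∀ ⦃V W : C⦄ (f : V ⟶ T) (g : W ⟶ V) (hf : S f),
      x (g ≫ f) (S.downward_closed hf g) = G.obj.map g.op (x f hf)) :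
    ∃ t : G.obj.obj (op T), ∀ ⦃V : C⦄ (f : V ⟶ T) (hf : S f), G.obj.map f.op t = x f hf := by
  have hsh := (isSheaf_forget G) S hS
  let y : Presieve.FamilyOfElements (G.obj ⋙ forget GrpCat.{w}) (S : Presieve T) := fun V f hf => x f hf
  have hy : y.Compatible := (Presieve.compatible_iff_sieveCompatible y).2 (fun V W f g hf => hx f g hf)
  exact ⟨hsh.amalgamate y hy, fun V f hf => hsh.valid_glue hy f hf⟩

lemma grp_map_comp {T V W : C} (f : V ⟶ T) (g : W ⟶ V) (s : G.obj.obj (op T)) :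
    G.obj.map (g ≫ f).op s = G.obj.map g.op (G.obj.map f.op s) := by
  rw [op_comp, Functor.map_comp]
  rfl

lemma grp_map_id {T : C} (s : G.obj.obj (op T)) : G.obj.map (𝟙 T).op s = s := by
  rw [op_id, CategoryTheory.Functor.map_id]
  rfl

end Grp

section Fam

variable (G : Sheaf J GrpCat.{w}) {I : Type w'} (U : I → C) (γ : PresheafOfGroups.OneCocycle G.obj U)

/-- Twisted matching families: `val a i b` is the element `g` with `p|a = g • t_i|b`. -/
@[ext]
structure Fam (T : C) where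
  val : ∀ ⦃T' : C⦄ (_ : T' ⟶ T) (i : I) (_ : T' ⟶ U i), G.obj.obj (op T')
  precomp : ∀ ⦃T' T'' : C⦄ (φ : T'' ⟶ T') (a : T' ⟶ T) (i : I) (b : T' ⟶ U i),
    G.obj.map φ.op (val a i b) = val (φ ≫ a) i (φ ≫ b)
  trans : ∀ ⦃T' : C⦄ (a : T' ⟶ T) (i j : I) (b : T' ⟶ U i) (b' : T' ⟶ U j),
    val a i b * γ.ev i j b b' = val a j b'

variable {G U γ}

namespace Fam

/-- Restriction of twisted families. -/
def restrict {T T₂ : C} (c : T₂ ⟶ T) (x : Fam G U γ T) : Fam G U γ T₂ where
  val T' a i b := x.val (a ≫ c) i b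
  precomp T' T'' φ a i b := by
    rw [x.precomp, Category.assoc]
  trans T' a i j b b' := x.trans (a ≫ c) i j b b'

@[simp] lemma restrict_val {T T₂ : C} (c : T₂ ⟶ T) (x : Fam G U γ T) {T' : C} (a : T' ⟶ T₂) (i : I)
    (b : T' ⟶ U i) : (x.restrict c).val a i b = x.val (a ≫ c) i b := rfl

lemma restrict_id {T : C} (x : Fam G U γ T) : x.restrict (𝟙 T) = x := by
  ext T' a i b
  rw [restrict_val, Category.comp_id]

lemma restrict_comp {T T₂ T₃ : C} (c : T₂ ⟶ T) (c' : T₃ ⟶ T₂) (x : Fam G U γ T) :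
    x.restrict (c' ≫ c) = (x.restrict c).restrict c' := by
  ext T' a i b
  rw [restrict_val, restrict_val, restrict_val, Category.assoc]

/-- The action of `G(T)`. -/
def smul {T : C} (h : G.obj.obj (op T)) (x : Fam G U γ T) : Fam G U γ T where
  val T' a i b := G.obj.map a.op h * x.val a i b
  precomp T' T'' φ a i b := by
    rw [map_mul, x.precomp, grp_map_comp]
  trans T' a i j b b' := by
    rw [mul_assoc, x.trans]

@[simp] lemma smul_val {T : C} (h : G.obj.obj (op T)) (x : Fam G U γ T) {T' : C} (a : T' ⟶ T) (i : I)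
    (b : T' ⟶ U i) : (smul h x).val a i b = G.obj.map a.op h * x.val a i b := rfl

lemma one_smul {T : C} (x : Fam G U γ T) : smul 1 x = x := by
  ext T' a i b
  rw [smul_val, map_one, one_mul]

lemma mul_smul {T : C} (h h' : G.obj.obj (op T)) (x : Fam G U γ T) :
    smul (h * h') x = smul h (smul h' x) := by
  ext T' a i b
  rw [smul_val, smul_val, smul_val, map_mul, mul_assoc]

lemma restrict_smul {T T₂ : C} (c : T₂ ⟶ T) (h : G.obj.obj (op T)) (x : Fam G U γ T) :
    (smul h x).restrict c = smul (G.obj.map c.op h) (x.restrict c) := by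
  ext T' a i b
  rw [restrict_val, smul_val, smul_val, restrict_val, grp_map_comp]

/-- The base point over an object mapping to some `U i₀`. -/
def base {T : C} (i₀ : I) (b₀ : T ⟶ U i₀) : Fam G U γ T where
  val T' a i b := γ.ev i₀ i (a ≫ b₀) b
  precomp T' T'' φ a i b := by
    rw [γ.ev_precomp, Category.assoc]
  trans T' a i j b b' := γ.ev_trans i₀ i j (a ≫ b₀) b b'

@[simp] lemma base_val {T : C} (i₀ : I) (b₀ : T ⟶ U i₀) {T' : C} (a : T' ⟶ T) (i : I)
    (b : T' ⟶ U i) : (base (γ := γ) i₀ b₀).val a i b = γ.ev i₀ i (a ≫ b₀) b := rfl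

/-- The difference `y x⁻¹` does not depend on the chart. -/
lemma div_indep {T : C} (x y : Fam G U γ T) {T' : C} (a : T' ⟶ T) (i j : I) (b : T' ⟶ U i)
    (b' : T' ⟶ U j) :
    y.val a i b * (x.val a i b)⁻¹ = y.val a j b' * (x.val a j b')⁻¹ := by
  rw [← y.trans a i j b b', ← x.trans a i j b b', mul_inv_rev, mul_assoc, mul_inv_cancel_left]

/-- `Fam T` is a pseudo-torsor under `G(T)`. -/
theorem existsUnique_smul (hU : J.CoversTop U) {T : C} (x y : Fam G U γ T) :
    ∃! h : G.obj.obj (op T), smul h x = y := by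
  have hkey : ∀ (h : G.obj.obj (op T)), smul h x = y ↔
      ∀ ⦃T' : C⦄ (a : T' ⟶ T) (i : I) (b : T' ⟶ U i),
        G.obj.map a.op h = y.val a i b * (x.val a i b)⁻¹ := by
    intro h
    constructor
    · rintro rfl T' a i b
      rw [smul_val, mul_inv_cancel_right]
    · intro hh
      ext T' a i b
      rw [smul_val, hh a i b, inv_mul_cancel_right]
  let d : ∀ ⦃T' : C⦄ (a : T' ⟶ T), Sieve.ofObjects U T a → G.obj.obj (op T') := fun T' a ha =>
    y.val a ha.choose ha.choose_spec.some * (x.val a ha.choose ha.choose_spec.some)⁻¹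
  have hd : ∀ ⦃T' : C⦄ (a : T' ⟶ T) (ha : Sieve.ofObjects U T a) (i : I) (b : T' ⟶ U i),
      d a ha = y.val a i b * (x.val a i b)⁻¹ := fun T' a ha i b => div_indep x y a _ _ _ _
  obtain ⟨h, hh⟩ := grp_glue G (Sieve.ofObjects U T) (hU T) d (by
    intro V W f g hf
    obtain ⟨i, ⟨b⟩⟩ := hf
    rw [hd f ⟨i, ⟨b⟩⟩ i b, hd (g ≫ f) _ i (g ≫ b), map_mul, map_inv, x.precomp, y.precomp])
  refine ⟨h, (hkey h).2 (fun T' a i b => by rw [hh a ⟨i, ⟨b⟩⟩, hd a _ i b]), ?_⟩
  intro h' hh'
  apply grp_ext G (Sieve.ofObjects U T) (hU T)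
  rintro V f ⟨i, ⟨b⟩⟩
  rw [(hkey h').1 hh' f i b, hh f ⟨i, ⟨b⟩⟩, hd f _ i b]

lemma smul_eq_self_iff (hU : J.CoversTop U) {T : C} (x : Fam G U γ T) (h : G.obj.obj (op T)) :
    smul h x = x ↔ h = 1 := by
  constructor
  · intro hx
    exact (existsUnique_smul hU x x).unique hx (one_smul x)
  · rintro rfl
    exact one_smul x

/-- Separatedness of `Fam`. -/
theorem ext_of_locally (hU : J.CoversTop U) {T : C} (S : Sieve T) (hS : S ∈ J T) (x y : Fam G U γ T)
    (hxy : ∀ ⦃V : C⦄ (f : V ⟶ T), S f → x.restrict f = y.restrict f) : x = y := by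
  obtain ⟨h, hh, -⟩ := existsUnique_smul hU x y
  have h1 : h = 1 := by
    apply grp_ext G S hS
    intro V f hf
    rw [map_one]
    apply (smul_eq_self_iff hU (x.restrict f) _).1
    rw [← restrict_smul, hh, hxy f hf]
  rw [← hh, h1, one_smul]

/-- Gluing of `Fam` over an object where `Fam` is nonempty. -/
theorem glue_of_nonempty (hU : J.CoversTop U) {T : C} (x₀ : Fam G U γ T) (S : Sieve T) (hS : S ∈ J T)
    (x : ∀ ⦃V : C⦄ (f : V ⟶ T), S f → Fam G U γ V)
    (hx : ∀ ⦃V W : C⦄ (f : V ⟶ T) (g : W ⟶ V) (hf : S f),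
      x (g ≫ f) (S.downward_closed hf g) = (x f hf).restrict g) :
    ∃ t : Fam G U γ T, ∀ ⦃V : C⦄ (f : V ⟶ T) (hf : S f), t.restrict f = x f hf := by
  choose h hh huniq using fun (V : C) (f : V ⟶ T) (hf : S f) =>
    existsUnique_smul hU (x₀.restrict f) (x f hf)
  obtain ⟨k, hk⟩ := grp_glue G S hS (fun V f hf => h V f hf) (by
    intro V W f g hf
    refine (huniq W (g ≫ f) _ _ ?_).symm
    change smul _ _ = x _ _
    rw [hx f g hf, ← hh V f hf, restrict_smul, ← restrict_comp])
  refine ⟨smul k x₀, fun V f hf => ?_⟩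
  rw [restrict_smul, hk f hf, hh]

lemma family_congr {T : C} (S : Sieve T) (x : ∀ ⦃V : C⦄ (f : V ⟶ T), S f → Fam G U γ V) {V : C}
    {f f' : V ⟶ T} (h : f = f') (hf : S f) (hf' : S f') : x f hf = x f' hf' := by
  subst h
  rfl

/-- Gluing of `Fam`. -/
theorem glue (hU : J.CoversTop U) {T : C} (S : Sieve T) (hS : S ∈ J T)
    (x : ∀ ⦃V : C⦄ (f : V ⟶ T), S f → Fam G U γ V)
    (hx : ∀ ⦃V W : C⦄ (f : V ⟶ T) (g : W ⟶ V) (hf : S f),
      x (g ≫ f) (S.downward_closed hf g) = (x f hf).restrict g) :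
    ∃ t : Fam G U γ T, ∀ ⦃V : C⦄ (f : V ⟶ T) (hf : S f), t.restrict f = x f hf := by
  -- amalgamations over good objects
  have hgood : ∀ ⦃T' : C⦄ (a : T' ⟶ T) (i : I) (b : T' ⟶ U i), ∃ z : Fam G U γ T',
      ∀ ⦃V : C⦄ (c : V ⟶ T') (hc : S (c ≫ a)), z.restrict c = x (c ≫ a) hc := by
    intro T' a i b
    exact glue_of_nonempty hU (base i b) (S.pullback a) (J.pullback_stable a hS)
      (fun V c hc => x (c ≫ a) hc) (by
        intro V W c g hc
        rw [← hx (c ≫ a) g hc]
        exact family_congr S x (Category.assoc _ _ _) _ _)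
  -- they do not depend on the chart
  have huniq : ∀ ⦃T' : C⦄ (a : T' ⟶ T) (z z' : Fam G U γ T'),
      (∀ ⦃V : C⦄ (c : V ⟶ T') (hc : S (c ≫ a)), z.restrict c = x (c ≫ a) hc) →
      (∀ ⦃V : C⦄ (c : V ⟶ T') (hc : S (c ≫ a)), z'.restrict c = x (c ≫ a) hc) → z = z' := by
    intro T' a z z' hz hz'
    apply ext_of_locally hU (S.pullback a) (J.pullback_stable a hS)
    intro V c hc
    rw [hz c hc, hz' c hc]
  choose Z hZ using hgood
  have hZres : ∀ ⦃T' T'' : C⦄ (φ : T'' ⟶ T') (a : T' ⟶ T) (i j : I) (b : T' ⟶ U i)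
      (b' : T'' ⟶ U j), Z (φ ≫ a) j b' = (Z a i b).restrict φ := by
    intro T' T'' φ a i j b b'
    apply huniq (φ ≫ a) _ _ (hZ (φ ≫ a) j b')
    intro V c hc
    rw [← restrict_comp]
    have hc' : S ((c ≫ φ) ≫ a) := by rw [Category.assoc]; exact hc
    rw [hZ a i b (c ≫ φ) hc']
    exact family_congr S x (Category.assoc _ _ _) _ _
  let t : Fam G U γ T :=
    { val := fun T' a i b => (Z a i b).val (𝟙 T') i b
      precomp := by
        intro T' T'' φ a i b
        rw [(Z a i b).precomp, hZres φ a i i b (φ ≫ b), restrict_val, Category.comp_id, Category.id_comp]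
      trans := by
        intro T' a i j b b'
        rw [(Z a i b).trans, huniq a _ _ (hZ a i b) (hZ a j b')] }
  refine ⟨t, fun V f hf => ?_⟩
  ext T' a i b
  change (Z (a ≫ f) i b).val (𝟙 T') i b = (x f hf).val a i b
  have h1 : Z (a ≫ f) i b = (x f hf).restrict a := by
    apply huniq (a ≫ f) _ _ (hZ (a ≫ f) i b)
    intro W c hc
    rw [← restrict_comp, ← hx f (c ≫ a) hf]
    exact family_congr S x (Category.assoc _ _ _) _ _
  rw [h1, restrict_val, Category.id_comp]

end Fam

end Fam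

section Torsor

open NonAbH1

variable (G : Sheaf J GrpCat.{w}) {I : Type w'} (U : I → C) (γ : PresheafOfGroups.OneCocycle G.obj U)
  (hU : J.CoversTop U)

include hU in
lemma small_fam (T : C) : Small.{w} (Fam G U γ T) := by
  by_cases h : Nonempty (Fam G U γ T)
  · obtain ⟨x₀⟩ := h
    exact small_of_surjective (f := fun h : G.obj.obj (op T) => Fam.smul h x₀)
      (fun y => (Fam.existsUnique_smul hU x₀ y).exists)
  · have : IsEmpty (Fam G U γ T) := not_nonempty_iff.1 h
    infer_instance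

/-- Sections of the torsor over `T`, in `Type w`. -/
def PT (T : C) : Type w := @Shrink (Fam G U γ T) (small_fam G U γ hU T)

/-- The shrinking equivalence. -/
noncomputable def eqv (T : C) : Fam G U γ T ≃ PT G U γ hU T := @equivShrink _ (small_fam G U γ hU T)

/-- The presheaf of sets underlying the torsor of a cocycle. -/
noncomputable def cechPresheaf : Cᵒᵖ ⥤ Type w where
  obj T := PT G U γ hU T.unop
  map {T T₂} c := TypeCat.ofHom (fun p => eqv G U γ hU T₂.unop (((eqv G U γ hU T.unop).symm p).restrict c.unop))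
  map_id T := by
    ext p
    change eqv G U γ hU T.unop (((eqv G U γ hU T.unop).symm p).restrict (𝟙 T.unop)) = p
    rw [Fam.restrict_id, Equiv.apply_symm_apply]
  map_comp {T T₂ T₃} c c' := by
    ext p
    change eqv G U γ hU T₃.unop (((eqv G U γ hU T.unop).symm p).restrict (c'.unop ≫ c.unop)) =
      eqv G U γ hU T₃.unop (((eqv G U γ hU T₂.unop).symm
        (eqv G U γ hU T₂.unop (((eqv G U γ hU T.unop).symm p).restrict c.unop))).restrict c'.unop)
    rw [Equiv.symm_apply_apply, Fam.restrict_comp]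

lemma cechPresheaf_map_apply {T T₂ : Cᵒᵖ} (c : T ⟶ T₂) (p : PT G U γ hU T.unop) :
    (cechPresheaf G U γ hU).map c p =
      eqv G U γ hU T₂.unop (((eqv G U γ hU T.unop).symm p).restrict c.unop) := rfl

lemma cechPresheaf_isSheaf : Presieve.IsSheaf J (cechPresheaf G U γ hU) := by
  intro T S hS x hx
  have hx' := (Presieve.compatible_iff_sieveCompatible x).1 hx
  obtain ⟨t, ht⟩ := Fam.glue hU S hS (fun V f hf => (eqv G U γ hU V).symm (x f hf)) (by
    intro V W f g hf
    have := hx' f g hf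
    rw [cechPresheaf_map_apply] at this
    rw [this, Equiv.symm_apply_apply]
    rfl)
  refine ⟨eqv G U γ hU T t, ?_, ?_⟩
  · intro V f hf
    rw [cechPresheaf_map_apply, Equiv.symm_apply_apply]
    change eqv G U γ hU V (t.restrict f) = x f hf
    rw [ht f hf, Equiv.apply_symm_apply]
  · intro t' ht'
    apply (eqv G U γ hU T).symm.injective
    rw [Equiv.symm_apply_apply]
    apply Fam.ext_of_locally hU S hS
    intro V f hf
    rw [ht f hf]
    have := ht' f hf
    rw [cechPresheaf_map_apply] at this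
    rw [← this, Equiv.symm_apply_apply]
    rfl

/-- The sheaf of sets underlying the torsor of a cocycle. -/
noncomputable def cechSheaf : Sheaf J (Type w) :=
  ⟨cechPresheaf G U γ hU, (isSheaf_iff_isSheaf_of_type J _).2 (cechPresheaf_isSheaf G U γ hU)⟩

/-- The `G`-sheaf of a cocycle. -/
noncomputable def cechGSheaf : GSheaf G where
  P := cechSheaf G U γ hU
  smul {T} h p := eqv G U γ hU T.unop (Fam.smul h ((eqv G U γ hU T.unop).symm p))
  one_smul {T} p := by
    rw [Fam.one_smul, Equiv.apply_symm_apply]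
  mul_smul {T} h h' p := by
    rw [Equiv.symm_apply_apply, Fam.mul_smul]
  map_smul {T T₂} c h p := by
    change (cechPresheaf G U γ hU).map c _ = eqv G U γ hU T₂.unop
      (Fam.smul _ ((eqv G U γ hU T₂.unop).symm ((cechPresheaf G U γ hU).map c p)))
    rw [cechPresheaf_map_apply, cechPresheaf_map_apply, Equiv.symm_apply_apply, Equiv.symm_apply_apply,
      Fam.restrict_smul]
    rfl

lemma cechGSheaf_smul {T : Cᵒᵖ} (h : G.obj.obj T) (p : PT G U γ hU T.unop) :
    (cechGSheaf G U γ hU).smul h p = eqv G U γ hU T.unop (Fam.smul h ((eqv G U γ hU T.unop).symm p)) :=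
  rfl

theorem cechGSheaf_isTorsor : (cechGSheaf G U γ hU).IsTorsor := by
  refine ⟨?_, ?_⟩
  · intro T p q
    obtain ⟨h, hh, huniq⟩ := Fam.existsUnique_smul hU ((eqv G U γ hU T.unop).symm p)
      ((eqv G U γ hU T.unop).symm q)
    refine ⟨h, ?_, ?_⟩
    · change eqv G U γ hU T.unop (Fam.smul h ((eqv G U γ hU T.unop).symm p)) = q
      rw [hh, Equiv.apply_symm_apply]
    · intro h' hh'
      apply huniq
      change eqv G U γ hU T.unop (Fam.smul h' ((eqv G U γ hU T.unop).symm p)) = q at hh'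
      rw [← hh', Equiv.symm_apply_apply]
  · intro T
    refine ⟨Sieve.ofObjects U T, hU T, ?_⟩
    rintro V f ⟨i, ⟨b⟩⟩
    exact ⟨eqv G U γ hU V (Fam.base i b)⟩

/-- The canonical sections of the torsor of a cocycle. -/
noncomputable def cechSection (i : I) : (cechGSheaf G U γ hU).P.obj.obj (op (U i)) :=
  eqv G U γ hU (U i) (Fam.base i (𝟙 (U i)))

theorem isCocycleOf_cechSection :
    (cechGSheaf G U γ hU).IsCocycleOf U (cechSection G U γ hU) γ := by
  intro i j T a b
  change eqv G U γ hU T (Fam.smul (γ.ev i j a b) ((eqv G U γ hU T).symm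
    ((cechPresheaf G U γ hU).map b.op (cechSection G U γ hU j)))) =
    (cechPresheaf G U γ hU).map a.op (cechSection G U γ hU i)
  rw [cechPresheaf_map_apply, cechPresheaf_map_apply, Equiv.symm_apply_apply]
  congr 1
  change Fam.smul (γ.ev i j a b) (((eqv G U γ hU (U j)).symm (eqv G U γ hU (U j)
    (Fam.base j (𝟙 (U j))))).restrict b) = ((eqv G U γ hU (U i)).symm (eqv G U γ hU (U i)
    (Fam.base i (𝟙 (U i))))).restrict a
  rw [Equiv.symm_apply_apply, Equiv.symm_apply_apply]
  ext T' a' k b''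
  rw [Fam.smul_val, Fam.restrict_val, Fam.restrict_val, Fam.base_val, Fam.base_val, Category.comp_id,
    Category.comp_id, γ.ev_precomp, γ.ev_trans]

include hU in
/-- Every Čech class is the class of a torsor. -/
theorem exists_torsor_hasCechClass (c : PresheafOfGroups.H1 G.obj U) :
    ∃ P : NonAbH1.Torsor G, P.TrivialisedBy U ∧ P.HasCechClass U c := by
  obtain ⟨γ, rfl⟩ := Quot.exists_rep c
  refine ⟨⟨cechGSheaf G U γ hU, cechGSheaf_isTorsor G U γ hU⟩, ?_, ?_⟩
  · intro i
    exact ⟨cechSection G U γ hU i⟩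
  · exact ⟨cechSection G U γ hU, γ, isCocycleOf_cechSection G U γ hU, rfl⟩

end Torsor

end Groth.Agent.Lib.NonAbCechTorsor
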