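import Groth.Prelude.Def_NonAbH1
import Mathlib.CategoryTheory.Sites.Subsheaf
import Mathlib.CategoryTheory.Sites.CoversTop.Basic

/-!
# Torsors under sheaves of groups: gluing toolkit (helper49)

General site `(C, J)`, universes as in `Def_NonAbH1`.
* `sheaf_ext`, `sheaf_glue`: separatedness and gluing for sheaves of sets in sieve form;
* `mem_range_of_locally`: the image of a sectionwise-injective morphism of sheaves is closed under local membership;
* `isoOfRangeEq`: two sectionwise-injective morphisms into the same sheaf with the same images have isomorphic sources;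
* `invSh G`: inversion on the underlying sheaf of sets of a sheaf of groups.
-/

set_option autoImplicit false
universe w v u
open CategoryTheory Opposite

namespace Groth.Agent.Lib.NonAbTorsor

variable {C : Type u} [Category.{v} C] {J : GrothendieckTopology C}

section Sheaf

variable (P : Sheaf J (Type w))

lemma isSheaf_type : Presieve.IsSheaf J P.obj := (isSheaf_iff_isSheaf_of_type J P.obj).1 P.property

/-- Separatedness, sieve form. -/
theorem sheaf_ext {U : C} (S : Sieve U) (hS : S ∈ J U) (s t : P.obj.obj (op U))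
    (h : ∀ ⦃V : C⦄ (f : V ⟶ U), S f → P.obj.map f.op s = P.obj.map f.op t) : s = t :=
  ((isSheaf_type P) S hS).isSeparatedFor.ext (fun _ f hf => h f hf)

/-- Gluing, sieve form. -/
theorem sheaf_glue {U : C} (S : Sieve U) (hS : S ∈ J U)
    (x : ∀ ⦃V : C⦄ (f : V ⟶ U), S f → P.obj.obj (op V))
    (hx : ∀ ⦃V W : C⦄ (f : V ⟶ U) (g : W ⟶ V) (hf : S f),
      x (g ≫ f) (S.downward_closed hf g) = P.obj.map g.op (x f hf)) :
    ∃ t : P.obj.obj (op U), ∀ ⦃V : C⦄ (f : V ⟶ U) (hf : S f), P.obj.map f.op t = x f hf := by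
  have hsh := (isSheaf_type P) S hS
  let y : Presieve.FamilyOfElements P.obj (S : Presieve U) := fun V f hf => x f hf
  have hy : y.Compatible := (Presieve.compatible_iff_sieveCompatible y).2 (fun V W f g hf => hx f g hf)
  exact ⟨hsh.amalgamate y hy, fun V f hf => hsh.valid_glue hy f hf⟩

lemma map_comp_apply {U V W : C} (f : V ⟶ U) (g : W ⟶ V) (s : P.obj.obj (op U)) :
    P.obj.map (g ≫ f).op s = P.obj.map g.op (P.obj.map f.op s) := by
  rw [op_comp, Functor.map_comp]
  rfl

lemma map_id_apply {U : C} (s : P.obj.obj (op U)) : P.obj.map (𝟙 U).op s = s := by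
  rw [op_id, CategoryTheory.Functor.map_id]
  rfl

end Sheaf

section Range

variable {T P : Sheaf J (Type w)} (ι : T ⟶ P)

lemma naturality_apply {U V : Cᵒᵖ} (f : U ⟶ V) (t : T.obj.obj U) :
    ι.hom.app V (T.obj.map f t) = P.obj.map f (ι.hom.app U t) :=
  ConcreteCategory.congr_hom (ι.hom.naturality f) t

/-- The image of a sectionwise injective morphism of sheaves of sets is closed under local membership. -/
theorem mem_range_of_locally (hι : ∀ U : Cᵒᵖ, Function.Injective (ι.hom.app U)) {U : C}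
    (g : P.obj.obj (op U)) (S : Sieve U) (hS : S ∈ J U)
    (h : ∀ ⦃V : C⦄ (f : V ⟶ U), S f → ∃ t : T.obj.obj (op V), ι.hom.app (op V) t = P.obj.map f.op g) :
    ∃ t : T.obj.obj (op U), ι.hom.app (op U) t = g := by
  choose s hs using h
  obtain ⟨t, ht⟩ := sheaf_glue T S hS s (by
    intro V W f a hf
    apply hι
    rw [hs, naturality_apply, hs, map_comp_apply])
  refine ⟨t, sheaf_ext P S hS _ _ ?_⟩
  intro V f hf
  rw [← naturality_apply, ht f hf, hs]

end Range

section Lift

variable {T T' P : Sheaf J (Type w)} (ι : T ⟶ P) (ι' : T' ⟶ P)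

/-- If the image of `ι` is contained sectionwise in the image of the sectionwise injective `ι'`, then `ι` factors
through `ι'`. -/
noncomputable def liftOfRange (hsub : ∀ (U : Cᵒᵖ) (t : T.obj.obj U), ∃ t' : T'.obj.obj U,
      ι'.hom.app U t' = ι.hom.app U t)
    (hι' : ∀ U : Cᵒᵖ, Function.Injective (ι'.hom.app U)) : T ⟶ T' :=
  ⟨{ app := fun U => TypeCat.ofHom (fun t => (hsub U t).choose)
     naturality := by
      intro U V f
      ext t
      apply hι' V
      change ι'.hom.app V (hsub V (T.obj.map f t)).choose =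
        ι'.hom.app V (T'.obj.map f (hsub U t).choose)
      rw [(hsub V (T.obj.map f t)).choose_spec, naturality_apply, naturality_apply,
        (hsub U t).choose_spec] }⟩

lemma liftOfRange_apply (hsub : ∀ (U : Cᵒᵖ) (t : T.obj.obj U), ∃ t' : T'.obj.obj U,
      ι'.hom.app U t' = ι.hom.app U t)
    (hι' : ∀ U : Cᵒᵖ, Function.Injective (ι'.hom.app U)) (U : Cᵒᵖ) (t : T.obj.obj U) :
    ι'.hom.app U ((liftOfRange ι ι' hsub hι').hom.app U t) = ι.hom.app U t :=
  (hsub U t).choose_spec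

/-- A morphism of sheaves of sets is determined by its values on sections. -/
lemma sheafHom_ext {A B : Sheaf J (Type w)} (f g : A ⟶ B)
    (h : ∀ (U : Cᵒᵖ) (a : A.obj.obj U), f.hom.app U a = g.hom.app U a) : f = g := by
  apply Sheaf.hom_ext
  ext U a
  exact h U a

/-- Two sectionwise injective morphisms into the same sheaf with the same images have isomorphic sources. -/
noncomputable def isoOfRangeEq (hι : ∀ U : Cᵒᵖ, Function.Injective (ι.hom.app U))
    (hι' : ∀ U : Cᵒᵖ, Function.Injective (ι'.hom.app U))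
    (h : ∀ (U : Cᵒᵖ) (g : P.obj.obj U), (∃ t, ι.hom.app U t = g) ↔ (∃ t', ι'.hom.app U t' = g)) :
    T ≅ T' where
  hom := liftOfRange ι ι' (fun U t => (h U _).1 ⟨t, rfl⟩) hι'
  inv := liftOfRange ι' ι (fun U t => (h U _).2 ⟨t, rfl⟩) hι
  hom_inv_id := by
    apply sheafHom_ext
    intro U a
    apply hι U
    exact (liftOfRange_apply ι' ι (fun U t => (h U _).2 ⟨t, rfl⟩) hι U _).trans
      (liftOfRange_apply ι ι' (fun U t => (h U _).1 ⟨t, rfl⟩) hι' U a)
  inv_hom_id := by
    apply sheafHom_ext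
    intro U a
    apply hι' U
    exact (liftOfRange_apply ι ι' (fun U t => (h U _).1 ⟨t, rfl⟩) hι' U _).trans
      (liftOfRange_apply ι' ι (fun U t => (h U _).2 ⟨t, rfl⟩) hι U a)

lemma isoOfRangeEq_hom_apply (hι : ∀ U : Cᵒᵖ, Function.Injective (ι.hom.app U))
    (hι' : ∀ U : Cᵒᵖ, Function.Injective (ι'.hom.app U))
    (h : ∀ (U : Cᵒᵖ) (g : P.obj.obj U), (∃ t, ι.hom.app U t = g) ↔ (∃ t', ι'.hom.app U t' = g))
    (U : Cᵒᵖ) (t : T.obj.obj U) :
    ι'.hom.app U ((isoOfRangeEq ι ι' hι hι' h).hom.hom.app U t) = ι.hom.app U t :=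
  liftOfRange_apply ι ι' (fun U t => (h U _).1 ⟨t, rfl⟩) hι' U t

end Lift

section Bijective

/-- A morphism of sheaves of sets which is bijective on sections is an isomorphism. -/
theorem isIso_of_bijective {A B : Sheaf J (Type w)} (φ : A ⟶ B)
    (h : ∀ U : Cᵒᵖ, Function.Bijective (φ.hom.app U)) : IsIso φ := by
  have h1 : ∀ U, IsIso (φ.hom.app U) := fun U => (isIso_iff_bijective _).2 (h U)
  have h2 : IsIso φ.hom := NatIso.isIso_of_isIso_app _
  have h3 : IsIso ((sheafToPresheaf J (Type w)).map φ) := h2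
  exact isIso_of_reflects_iso φ (sheafToPresheaf J (Type w))

/-- An isomorphism of sheaves of sets is bijective on sections. -/
theorem bijective_of_isIso {A B : Sheaf J (Type w)} (φ : A ⟶ B) [IsIso φ] (U : Cᵒᵖ) :
    Function.Bijective (φ.hom.app U) := by
  have h3 : IsIso ((sheafToPresheaf J (Type w)).map φ) := inferInstance
  have h2 : IsIso φ.hom := h3
  have h1 : IsIso (φ.hom.app U) := inferInstance
  exact (isIso_iff_bijective _).1 h1

end Bijective

section GlobalSection

open NonAbH1 NonAbH1.GSheaf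

variable {F : Sheaf J GrpCat.{w}}

/-- Gluing a global section from data defined on local sections of a locally nonempty `F`-sheaf, independent of the
local section. -/
theorem exists_section_of_const (T : GSheaf F) (hloc : T.LocallyNonempty) (P : Sheaf J (Type w))
    (ψ : ∀ U : Cᵒᵖ, T.P.obj.obj U → P.obj.obj U)
    (hnat : ∀ {U V : Cᵒᵖ} (a : U ⟶ V) (t : T.P.obj.obj U), P.obj.map a (ψ U t) = ψ V (T.P.obj.map a t))
    (hconst : ∀ (U : Cᵒᵖ) (t t' : T.P.obj.obj U), ψ U t = ψ U t') :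
    ∃ c : P.obj.sections, ∀ (U : Cᵒᵖ) (t : T.P.obj.obj U), ψ U t = c.1 U := by
  let IsC : ∀ U : C, P.obj.obj (op U) → Prop := fun U q =>
    ∀ ⦃V : C⦄ (a : V ⟶ U) (t : T.P.obj.obj (op V)), P.obj.map a.op q = ψ (op V) t
  have hex : ∀ U : C, ∃ q, IsC U q := by
    intro U
    obtain ⟨S, hS, hne⟩ := hloc U
    let s : ∀ (V : C) (a : V ⟶ U), S a → T.P.obj.obj (op V) := fun V a ha => (hne a ha).some
    obtain ⟨q, hq⟩ := sheaf_glue P S hS (fun V a ha => ψ (op V) (s V a ha)) (by
        intro V W a b ha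
        rw [hnat b.op]
        exact hconst _ _ _)
    refine ⟨q, ?_⟩
    intro V a t
    apply sheaf_ext P (S.pullback a) (J.pullback_stable a hS)
    intro W b hb
    rw [← map_comp_apply, hq (b ≫ a) hb, hnat b.op]
    exact hconst _ _ _
  have huniq : ∀ (U : C) (q q' : P.obj.obj (op U)), IsC U q → IsC U q' → q = q' := by
    intro U q q' hq hq'
    obtain ⟨S, hS, hne⟩ := hloc U
    apply sheaf_ext P S hS
    intro V a ha
    obtain ⟨t⟩ := hne a ha
    rw [hq a t, hq' a t]
  choose cc hcc using hex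
  have hcsec : (fun U : Cᵒᵖ => cc U.unop) ∈ P.obj.sections := by
    intro U V a
    apply huniq V.unop _ _ _ (hcc V.unop)
    intro W b t
    have := hcc U.unop (b ≫ a.unop) t
    rw [map_comp_apply] at this
    exact this
  refine ⟨⟨fun U => cc U.unop, hcsec⟩, ?_⟩
  intro U t
  have := hcc U.unop (𝟙 _) t
  rw [map_id_apply] at this
  exact this.symm

end GlobalSection

section Inv

open NonAbH1 NonAbH1.GSheaf

variable (G : Sheaf J GrpCat.{w}) [J.HasSheafCompose (forget GrpCat.{w})]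

/-- Restriction in the underlying sheaf of sets of `G` is restriction in `G`. -/
lemma uSh_map_apply {U V : Cᵒᵖ} (f : U ⟶ V) (g : G.obj.obj U) :
    (uSh G).obj.map f (ofGrp g) = ofGrp (G.obj.map f g) := rfl

/-- Inversion on the underlying sheaf of sets of a sheaf of groups. -/
def invSh : uSh G ⟶ uSh G :=
  ⟨{ app := fun U => TypeCat.ofHom (fun g : (uSh G).obj.obj U => ofGrp ((toGrp g)⁻¹))
     naturality := by
      intro U V f
      ext g
      change ofGrp ((toGrp ((uSh G).obj.map f g))⁻¹) = (uSh G).obj.map f (ofGrp ((toGrp g)⁻¹))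
      rw [uSh_map_apply, uSh_map_apply]
      exact (map_inv (G.obj.map f).hom (toGrp g)).symm }⟩

@[simp]
lemma invSh_apply {U : Cᵒᵖ} (g : (uSh G).obj.obj U) :
    (invSh G).hom.app U g = ofGrp ((toGrp g)⁻¹) := rfl

end Inv

section Local

variable {P Q : Sheaf J (Type w)}

/-- A morphism of sheaves of sets can be defined on a class of objects closed under precomposition and covering every
object ("good" objects). -/
theorem exists_hom_of_local (good : C → Prop) (hgood : ∀ {T T' : C} (_ : T' ⟶ T), good T → good T')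
    (hcov : ∀ T : C, ∃ S ∈ J T, ∀ ⦃T' : C⦄ (a : T' ⟶ T), S a → good T')
    (ψ : ∀ T : C, good T → P.obj.obj (op T) → Q.obj.obj (op T))
    (hψ : ∀ {T T' : C} (a : T' ⟶ T) (hT : good T) (p : P.obj.obj (op T)),
      Q.obj.map a.op (ψ T hT p) = ψ T' (hgood a hT) (P.obj.map a.op p)) :
    ∃ φ : P ⟶ Q, ∀ (T : C) (hT : good T) (p : P.obj.obj (op T)), φ.hom.app (op T) p = ψ T hT p := by
  -- the sieve of maps from good objects
  let gs : ∀ T : C, Sieve T := fun T =>
    { arrows := fun T' _ => good T'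
      downward_closed := fun h g => hgood g h }
  have hgs : ∀ T, gs T ∈ J T := by
    intro T
    obtain ⟨S, hS, h⟩ := hcov T
    exact J.superset_covering (fun T' a ha => h a ha) hS
  have hex : ∀ (T : C) (p : P.obj.obj (op T)), ∃ q : Q.obj.obj (op T),
      ∀ ⦃T' : C⦄ (a : T' ⟶ T) (ha : good T'), Q.obj.map a.op q = ψ T' ha (P.obj.map a.op p) := by
    intro T p
    exact sheaf_glue Q (gs T) (hgs T) (fun T' a ha => ψ T' ha (P.obj.map a.op p)) (by
      intro V W a b ha
      rw [hψ b ha, map_comp_apply])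
  choose φ hφ using hex
  refine ⟨⟨{ app := fun T => TypeCat.ofHom (φ T.unop), naturality := ?_ }⟩, ?_⟩
  · intro T T₂ b
    ext p
    change φ T₂.unop (P.obj.map b p) = Q.obj.map b (φ T.unop p)
    apply sheaf_ext Q (gs T₂.unop) (hgs T₂.unop)
    intro T' a ha
    have h1 := hφ T₂.unop (P.obj.map b p) a ha
    have h2 := hφ T.unop p (a ≫ b.unop) ha
    rw [h1]
    have h3 : Q.obj.map a.op (Q.obj.map b (φ T.unop p)) = Q.obj.map (a ≫ b.unop).op (φ T.unop p) :=
      (map_comp_apply Q b.unop a (φ T.unop p)).symm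
    rw [h3, h2]
    congr 1
    exact (map_comp_apply P b.unop a p).symm
  · intro T hT p
    change φ T p = ψ T hT p
    apply sheaf_ext Q (gs T) (hgs T)
    intro T' a ha
    rw [hφ T p a ha, hψ a hT]

end Local


section Trivial

open NonAbH1 NonAbH1.GSheaf

variable {F : Sheaf J GrpCat.{w}}

/-- An equivariant morphism whose underlying morphism of sheaves is an isomorphism is an isomorphism of `F`-sheaves. -/
noncomputable def gsheafIso {P Q : GSheaf F} (φ : P ⟶ Q) (h : IsIso φ.hom) : P ≅ Q where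
  hom := φ
  inv := ⟨inv φ.hom, by
    intro U a q
    have hb := bijective_of_isIso φ.hom U
    apply hb.1
    have h1 : ∀ x : Q.P.obj.obj U, φ.hom.hom.app U ((inv φ.hom).hom.app U x) = x := by
      intro x
      have := congrArg (fun ψ : Q.P ⟶ Q.P => ψ.hom.app U x) (IsIso.inv_hom_id φ.hom)
      exact this
    rw [h1, φ.map_smul, h1]⟩
  hom_inv_id := by
    apply GSheaf.hom_ext
    exact IsIso.hom_inv_id φ.hom
  inv_hom_id := by
    apply GSheaf.hom_ext
    exact IsIso.inv_hom_id φ.hom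

/-- The class of a torsor is the base point iff the torsor is trivial. -/
theorem cl_eq_one_iff [J.HasSheafCompose (forget GrpCat.{w})] (T : Torsor F) :
    T.cl = 1 ↔ Nonempty (GSheaf.trivial F ≅ T.toGSheaf) := by
  change Quot.mk _ T = Quot.mk _ (trivialTorsor F) ↔ _
  constructor
  · intro h
    have h' := Quot.eqvGen_exact h
    have hequiv : Equivalence (fun P Q : Torsor F => Nonempty (P.toGSheaf ≅ Q.toGSheaf)) :=
      ⟨fun P => ⟨Iso.refl _⟩, fun ⟨e⟩ => ⟨e.symm⟩, fun ⟨e⟩ ⟨e'⟩ => ⟨e ≪≫ e'⟩⟩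
    obtain ⟨e⟩ := (hequiv.eqvGen_iff).1 h'
    exact ⟨e.symm⟩
  · rintro ⟨e⟩
    exact Quot.sound ⟨e.symm⟩

/-- A pseudo-torsor with a global section is trivial. -/
theorem nonempty_trivial_iso_of_section [J.HasSheafCompose (forget GrpCat.{w})] (T : GSheaf F)
    (hps : T.IsPseudoTorsor) (s : T.P.obj.sections) : Nonempty (GSheaf.trivial F ≅ T) := by
  let φ : (GSheaf.trivial F).P ⟶ T.P :=
    ⟨{ app := fun U => TypeCat.ofHom (fun a : (uSh F).obj.obj U => T.smul (toGrp a) (s.1 U))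
       naturality := by
        intro U V f
        ext a
        change T.smul (toGrp ((uSh F).obj.map f a)) (s.1 V) = T.P.obj.map f (T.smul (toGrp a) (s.1 U))
        rw [T.map_smul, s.2 f]
        rfl }⟩
  have hφ : ∀ (U : Cᵒᵖ) (a : (uSh F).obj.obj U), φ.hom.app U a = T.smul (toGrp a) (s.1 U) :=
    fun U a => rfl
  have hbij : ∀ U : Cᵒᵖ, Function.Bijective (φ.hom.app U) := by
    intro U
    constructor
    · intro a b hab
      rw [hφ, hφ] at hab
      obtain ⟨g, -, hg⟩ := hps U (s.1 U) (T.smul (toGrp b) (s.1 U))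
      exact (hg _ hab).trans (hg _ rfl).symm
    · intro t
      obtain ⟨g, hg, -⟩ := hps U (s.1 U) t
      exact ⟨ofGrp g, hg⟩
  have hiso := isIso_of_bijective φ hbij
  let Φ : GSheaf.trivial F ⟶ T := ⟨φ, by
    intro U a b
    change T.smul (toGrp (ofGrp (a * toGrp b))) (s.1 U) = T.smul a (T.smul (toGrp b) (s.1 U))
    exact T.mul_smul a (toGrp b) (s.1 U)⟩
  exact ⟨gsheafIso Φ hiso⟩

/-- A trivial `F`-sheaf has a global section. -/
theorem exists_section_of_trivial_iso [J.HasSheafCompose (forget GrpCat.{w})] (T : GSheaf F)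
    (e : GSheaf.trivial F ≅ T) : ∃ _ : T.P.obj.sections, True := by
  refine ⟨⟨fun U => e.hom.hom.hom.app U (ofGrp (1 : F.obj.obj U)), ?_⟩, trivial⟩
  intro U V f
  rw [← naturality_apply e.hom.hom f]
  congr 1
  change ofGrp (F.obj.map f (1 : F.obj.obj U)) = ofGrp 1
  rw [map_one]

end Trivial

section Cech

open NonAbH1 NonAbH1.GSheaf

universe w'

variable {G : Sheaf J GrpCat.{w}} (P : GSheaf G) {I : Type w'} (U : I → C)

lemma smul_map_comp (P : GSheaf G) {T T' X : C} (φ : T ⟶ T') (a : T' ⟶ X) (g : G.obj.obj (op T'))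
    (s : P.P.obj.obj (op X)) :
    P.smul (G.obj.map φ.op g) (P.P.obj.map (φ ≫ a).op s) =
      P.P.obj.map φ.op (P.smul g (P.P.obj.map a.op s)) := by
  rw [P.map_smul, map_comp_apply]

/-- The 1-cocycle cut out by a family of sections of a pseudo-torsor. -/
noncomputable def cocycleOf (hps : P.IsPseudoTorsor) (s : ∀ i, P.P.obj.obj (op (U i))) :
    PresheafOfGroups.OneCocycle G.obj U where
  ev i j T a b := (hps (op T) (P.P.obj.map b.op (s j)) (P.P.obj.map a.op (s i))).choose
  ev_precomp i j T T' φ a b := by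
    apply (hps (op T) (P.P.obj.map (φ ≫ b).op (s j)) (P.P.obj.map (φ ≫ a).op (s i))).unique
    · rw [smul_map_comp, (hps (op T') _ _).choose_spec.1, map_comp_apply]
    · exact (hps (op T) _ _).choose_spec.1
  ev_trans i j k T a b c := by
    apply (hps (op T) (P.P.obj.map c.op (s k)) (P.P.obj.map a.op (s i))).unique
    · rw [P.mul_smul, (hps (op T) _ _).choose_spec.1, (hps (op T) _ _).choose_spec.1]
    · exact (hps (op T) _ _).choose_spec.1

lemma isCocycleOf_cocycleOf (hps : P.IsPseudoTorsor) (s : ∀ i, P.P.obj.obj (op (U i))) :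
    P.IsCocycleOf U s (cocycleOf P U hps s) := fun i j T a b =>
  (hps (op T) (P.P.obj.map b.op (s j)) (P.P.obj.map a.op (s i))).choose_spec.1

/-- Two families of sections of a pseudo-torsor cut out cohomologous cocycles. -/
theorem class_eq_of_isCocycleOf (hps : P.IsPseudoTorsor) (s s' : ∀ i, P.P.obj.obj (op (U i)))
    (γ γ' : PresheafOfGroups.OneCocycle G.obj U) (h : P.IsCocycleOf U s γ) (h' : P.IsCocycleOf U s' γ') :
    γ.class = γ'.class := by
  apply Quot.sound
  refine ⟨fun i => (hps (op (U i)) (s i) (s' i)).choose, ?_⟩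
  intro i j T a b
  have hα : ∀ i, P.smul (hps (op (U i)) (s i) (s' i)).choose (s i) = s' i := fun i =>
    (hps (op (U i)) (s i) (s' i)).choose_spec.1
  apply (hps (op T) (P.P.obj.map b.op (s j)) (P.P.obj.map a.op (s' i))).unique
  · rw [P.mul_smul, h i j a b, ← P.map_smul, hα]
  · rw [P.mul_smul, ← P.map_smul, hα, h' i j a b]

theorem existsUnique_hasCechClass (hps : P.IsPseudoTorsor) (hP : P.TrivialisedBy U) :
    ∃! c : PresheafOfGroups.H1 G.obj U, P.HasCechClass U c := by
  let s : ∀ i, P.P.obj.obj (op (U i)) := fun i => (hP i).some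
  refine ⟨(cocycleOf P U hps s).class, ⟨s, _, isCocycleOf_cocycleOf P U hps s, rfl⟩, ?_⟩
  rintro c ⟨s', γ', h', rfl⟩
  exact class_eq_of_isCocycleOf P U hps s' s γ' _ h' (isCocycleOf_cocycleOf P U hps s)

/-- Key independence: expressing `p` through two charts gives the same element of `Q`. -/
lemma smul_eq_smul_of_isCocycleOf (Q : GSheaf G) (hP : P.IsPseudoTorsor)
    (t : ∀ i, P.P.obj.obj (op (U i))) (s : ∀ i, Q.P.obj.obj (op (U i)))
    (γ : PresheafOfGroups.OneCocycle G.obj U) (hPγ : P.IsCocycleOf U t γ) (hQγ : Q.IsCocycleOf U s γ)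
    {T : C} (p : P.P.obj.obj (op T)) (i j : I) (b : T ⟶ U i) (b' : T ⟶ U j) (g g' : G.obj.obj (op T))
    (hg : P.smul g (P.P.obj.map b.op (t i)) = p) (hg' : P.smul g' (P.P.obj.map b'.op (t j)) = p) :
    Q.smul g (Q.P.obj.map b.op (s i)) = Q.smul g' (Q.P.obj.map b'.op (s j)) := by
  have h1 : g * γ.ev i j b b' = g' := by
    apply (hP (op T) (P.P.obj.map b'.op (t j)) p).unique
    · rw [P.mul_smul, hPγ i j b b', hg]
    · exact hg'
  rw [← h1, Q.mul_smul, hQγ i j b b']

/-- An equivariant morphism between pseudo-torsors from families of sections cutting out the same cocycle on a family of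
objects covering the site. -/
theorem exists_hom_of_isCocycleOf (hU : J.CoversTop U) (Q : GSheaf G) (hP : P.IsPseudoTorsor)
    (t : ∀ i, P.P.obj.obj (op (U i))) (s : ∀ i, Q.P.obj.obj (op (U i)))
    (γ : PresheafOfGroups.OneCocycle G.obj U) (hPγ : P.IsCocycleOf U t γ) (hQγ : Q.IsCocycleOf U s γ) :
    ∃ φ : P ⟶ Q, ∀ i, φ.hom.hom.app (op (U i)) (t i) = s i := by
  let good : C → Prop := fun T => ∃ i, Nonempty (T ⟶ U i)
  have hgood : ∀ {T T' : C} (_ : T' ⟶ T), good T → good T' := by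
    rintro T T' a ⟨i, ⟨b⟩⟩
    exact ⟨i, ⟨a ≫ b⟩⟩
  have hcov : ∀ T : C, ∃ S ∈ J T, ∀ ⦃T' : C⦄ (a : T' ⟶ T), S a → good T' := fun T =>
    ⟨Sieve.ofObjects U T, hU T, fun T' a ha => ha⟩
  -- the local map
  let ψ : ∀ T : C, good T → P.P.obj.obj (op T) → Q.P.obj.obj (op T) := fun T hT p =>
    Q.smul (hP (op T) (P.P.obj.map hT.choose_spec.some.op (t hT.choose)) p).choose
      (Q.P.obj.map hT.choose_spec.some.op (s hT.choose))
  have hψspec : ∀ (T : C) (hT : good T) (p : P.P.obj.obj (op T)) (i : I) (b : T ⟶ U i)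
      (g : G.obj.obj (op T)), P.smul g (P.P.obj.map b.op (t i)) = p →
      ψ T hT p = Q.smul g (Q.P.obj.map b.op (s i)) := by
    intro T hT p i b g hg
    exact smul_eq_smul_of_isCocycleOf P U Q hP t s γ hPγ hQγ p _ _ _ _ _ _
      (hP (op T) (P.P.obj.map hT.choose_spec.some.op (t hT.choose)) p).choose_spec.1 hg
  have hψnat : ∀ {T T' : C} (a : T' ⟶ T) (hT : good T) (p : P.P.obj.obj (op T)),
      Q.P.obj.map a.op (ψ T hT p) = ψ T' (hgood a hT) (P.P.obj.map a.op p) := by
    intro T T' a hT p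
    obtain ⟨i, ⟨b⟩⟩ := hT
    obtain ⟨g, hg, -⟩ := hP (op T) (P.P.obj.map b.op (t i)) p
    rw [hψspec T _ p i b g hg, hψspec T' _ (P.P.obj.map a.op p) i (a ≫ b) (G.obj.map a.op g)
      (by rw [smul_map_comp, hg]), smul_map_comp]
  obtain ⟨φ, hφ⟩ := exists_hom_of_local good hgood hcov ψ hψnat
  have hequiv : ∀ {T : Cᵒᵖ} (h : G.obj.obj T) (p : P.P.obj.obj T),
      φ.hom.app T (P.smul h p) = Q.smul h (φ.hom.app T p) := by
    intro T h p
    obtain ⟨S, hS, hS'⟩ := hcov T.unop
    apply sheaf_ext Q.P S hS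
    intro T' a ha
    obtain ⟨i, ⟨b⟩⟩ := hS' a ha
    obtain ⟨g, hg, -⟩ := hP (op T') (P.P.obj.map b.op (t i)) (P.P.obj.map a.op p)
    rw [← naturality_apply φ a.op, Q.map_smul, ← naturality_apply φ a.op, P.map_smul,
      hφ T' ⟨i, ⟨b⟩⟩, hφ T' ⟨i, ⟨b⟩⟩, hψspec T' _ _ i b g hg,
      hψspec T' _ _ i b (G.obj.map a.op h * g) (by rw [P.mul_smul, hg]), Q.mul_smul]
  refine ⟨⟨φ, hequiv⟩, ?_⟩
  intro i
  change φ.hom.app (op (U i)) (t i) = s i
  rw [hφ (U i) ⟨i, ⟨𝟙 _⟩⟩, hψspec (U i) _ (t i) i (𝟙 _) 1 (by rw [P.one_smul, map_id_apply]),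
    Q.one_smul, map_id_apply]

/-- An equivariant morphism from a torsor to a pseudo-torsor is an isomorphism of sheaves. -/
theorem isIso_of_equivariant {P Q : GSheaf G} (hP : P.IsTorsor) (hQ : Q.IsPseudoTorsor) (φ : P ⟶ Q) :
    IsIso φ.hom := by
  have hinj : ∀ T : Cᵒᵖ, Function.Injective (φ.hom.hom.app T) := by
    intro T p p' hpp
    obtain ⟨g, hg, -⟩ := hP.1 T p p'
    have h1 : Q.smul g (φ.hom.hom.app T p) = φ.hom.hom.app T p := by
      rw [← φ.map_smul, hg, hpp]
    have h2 : g = 1 := (hQ T (φ.hom.hom.app T p) (φ.hom.hom.app T p)).unique h1 (Q.one_smul _)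
    rw [← hg, h2, P.one_smul]
  apply isIso_of_bijective
  intro T
  refine ⟨hinj T, ?_⟩
  intro q
  obtain ⟨S, hS, hne⟩ := hP.2 T.unop
  apply mem_range_of_locally φ.hom hinj q S hS
  intro T' a ha
  obtain ⟨p⟩ := hne a ha
  obtain ⟨g, hg, -⟩ := hQ (op T') (φ.hom.hom.app (op T') p) (Q.P.obj.map a.op q)
  exact ⟨P.smul g p, by rw [φ.map_smul, hg]⟩

/-- Two torsors with a common Čech class on a family covering the site are isomorphic. -/
theorem nonempty_iso_of_hasCechClass (hU : J.CoversTop U) (P Q : GSheaf G) (hP : P.IsTorsor)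
    (hQ : Q.IsTorsor) (c : PresheafOfGroups.H1 G.obj U) (hPc : P.HasCechClass U c)
    (hQc : Q.HasCechClass U c) : Nonempty (P ≅ Q) := by
  obtain ⟨t, γ, hγ, rfl⟩ := hPc
  obtain ⟨s, γ', hγ', hc⟩ := hQc
  -- make the cocycles equal
  have hcoh : PresheafOfGroups.OneCocycle.IsCohomologous γ' γ := by
    have := Quot.eqvGen_exact hc
    exact ((PresheafOfGroups.OneCocycle.equivalence_isCohomologous G.obj U).eqvGen_iff).1 this
  obtain ⟨α, hα⟩ := hcoh
  let s' : ∀ i, Q.P.obj.obj (op (U i)) := fun i => Q.smul (α i) (s i)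
  have hs' : Q.IsCocycleOf U s' γ := by
    intro i j T a b
    change Q.smul (γ.ev i j a b) (Q.P.obj.map b.op (Q.smul (α j) (s j))) =
      Q.P.obj.map a.op (Q.smul (α i) (s i))
    rw [Q.map_smul, Q.map_smul, ← Q.mul_smul, ← hα i j a b, Q.mul_smul, hγ' i j a b]
  obtain ⟨φ, -⟩ := exists_hom_of_isCocycleOf P U hU Q hP.1 t s' γ hγ hs'
  exact ⟨gsheafIso φ (isIso_of_equivariant hP hQ.1 φ)⟩

end Cech

section Boundary

open NonAbH1 NonAbH1.GSheaf

variable [J.HasSheafCompose (forget GrpCat.{w})] {F G : Sheaf J GrpCat.{w}} (u : F ⟶ G)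
  {Q : GSheaf G} (π : trivial G ⟶ Q)

/-- Naturality of `π` on sections. -/
lemma π_naturality {U V : Cᵒᵖ} (f : U ⟶ V) (g : G.obj.obj U) :
    π.hom.hom.app V (ofGrp (G.obj.map f g)) = Q.P.obj.map f (π.hom.hom.app U (ofGrp g)) :=
  naturality_apply π.hom f (ofGrp g)

omit [J.HasSheafCompose (forget GrpCat.{w})] in
/-- Naturality of `u` on sections. -/
lemma u_naturality {U V : Cᵒᵖ} (f : U ⟶ V) (a : F.obj.obj U) :
    u.hom.app V (F.obj.map f a) = G.obj.map f (u.hom.app U a) :=
  ConcreteCategory.congr_hom (u.hom.naturality f) a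

variable {u π}

/-- `π` is invariant under right translation by `F`. -/
lemma π_mul_u (hQ : IsQuotientBy u π) {U : Cᵒᵖ} (g : G.obj.obj U) (a : F.obj.obj U) :
    π.hom.hom.app U (ofGrp (g * u.hom.app U a)) = π.hom.hom.app U (ofGrp g) :=
  ((hQ.1 U g (g * u.hom.app U a)).2 ⟨a, rfl⟩).symm

/-- A fibre of `π` over a global section is a torsor. -/
theorem isTorsor_of_isFibreOver (hu : ∀ U : Cᵒᵖ, Function.Injective (u.hom.app U))
    (hQ : IsQuotientBy u π) (c : Q.P.obj.sections) (T : GSheaf F) (hT : IsFibreOver u π c T) :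
    T.IsTorsor := by
  obtain ⟨ι, hι, hfib, heq⟩ := hT
  refine ⟨?_, ?_⟩
  · intro U p q
    have hp : π.hom.hom.app U (ofGrp (toGrp (ι.hom.app U p))) = c.1 U := (hfib U _).1 ⟨p, rfl⟩
    have hq : π.hom.hom.app U (ofGrp (toGrp (ι.hom.app U q))) = c.1 U := (hfib U _).1 ⟨q, rfl⟩
    obtain ⟨a, ha⟩ := (hQ.1 U _ _).1 (hp.trans hq.symm)
    refine ⟨a⁻¹, ?_, ?_⟩
    · apply hι U
      change toGrp (ι.hom.app U (T.smul a⁻¹ p)) = toGrp (ι.hom.app U q)
      rw [heq, ha, map_inv, inv_inv]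
    · intro b hb
      have h1 : toGrp (ι.hom.app U (T.smul b p)) = toGrp (ι.hom.app U q) := by rw [hb]
      rw [heq, ha] at h1
      have h2 : (u.hom.app U b)⁻¹ = u.hom.app U a := mul_left_cancel h1
      apply hu U
      rw [map_inv, ← h2, inv_inv]
  · intro U
    obtain ⟨S, hS, hlift⟩ := hQ.2 U (c.1 (op U))
    refine ⟨S, hS, fun V a ha => ?_⟩
    obtain ⟨g, hg⟩ := hlift a ha
    have hc : Q.P.obj.map a.op (c.1 (op U)) = c.1 (op V) := c.2 a.op
    obtain ⟨t, -⟩ := (hfib (op V) g).2 (hg.trans hc)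
    exact ⟨t⟩

/-- Any two fibres of `π` over the same global section are equivariantly isomorphic. -/
theorem nonempty_iso_of_isFibreOver (c : Q.P.obj.sections) (T T' : GSheaf F)
    (hT : IsFibreOver u π c T) (hT' : IsFibreOver u π c T') : Nonempty (T ≅ T') := by
  obtain ⟨ι, hι, hfib, heq⟩ := hT
  obtain ⟨ι', hι', hfib', heq'⟩ := hT'
  have hr : ∀ (U : Cᵒᵖ) (g : (uSh G).obj.obj U),
      (∃ t, ι.hom.app U t = g) ↔ (∃ t', ι'.hom.app U t' = g) := fun U g =>
    (hfib U g).trans (hfib' U g).symm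
  let e := isoOfRangeEq ι ι' hι hι' hr
  have he : ∀ (U : Cᵒᵖ) (t : T.P.obj.obj U), ι'.hom.app U (e.hom.hom.app U t) = ι.hom.app U t :=
    isoOfRangeEq_hom_apply ι ι' hι hι' hr
  have he' : ∀ (U : Cᵒᵖ) (t : T'.P.obj.obj U), ι.hom.app U (e.inv.hom.app U t) = ι'.hom.app U t := by
    intro U t
    have h1 := he U (e.inv.hom.app U t)
    have h2 : e.hom.hom.app U (e.inv.hom.app U t) = t := by
      have := congrArg (fun φ : T'.P ⟶ T'.P => φ.hom.app U t) e.inv_hom_id
      exact this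
    rw [h2] at h1
    exact h1.symm
  refine ⟨{ hom := ⟨e.hom, ?_⟩, inv := ⟨e.inv, ?_⟩, hom_inv_id := ?_, inv_hom_id := ?_ }⟩
  · intro U a t
    apply hι' U
    change toGrp (ι'.hom.app U (e.hom.hom.app U (T.smul a t))) =
      toGrp (ι'.hom.app U (T'.smul a (e.hom.hom.app U t)))
    rw [he, heq, heq', he]
  · intro U a t
    apply hι U
    change toGrp (ι.hom.app U (e.inv.hom.app U (T'.smul a t))) =
      toGrp (ι.hom.app U (T.smul a (e.inv.hom.app U t)))
    rw [he', heq, heq', he']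
  · apply GSheaf.hom_ext
    exact e.hom_inv_id
  · apply GSheaf.hom_ext
    exact e.inv_hom_id

section Fibre

variable (π)

/-- The subfunctor of `G` of liftings of the global section `c` of `Q`. -/
def fibreSub (c : Q.P.obj.sections) : Subfunctor (uSh G).obj where
  obj U := {g | π.hom.hom.app U g = c.1 U}
  map := by
    intro U V f g hg
    change π.hom.hom.app V ((uSh G).obj.map f g) = c.1 V
    have h1 : π.hom.hom.app V ((uSh G).obj.map f g) = Q.P.obj.map f (π.hom.hom.app U g) :=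
      naturality_apply π.hom f g
    have hg' : π.hom.hom.app U g = c.1 U := hg
    exact h1.trans ((congrArg (fun x => Q.P.obj.map f x) hg').trans (c.2 f))

lemma fibreSub_isSheaf (c : Q.P.obj.sections) : Presieve.IsSheaf J (fibreSub π c).toFunctor := by
  rw [Subfunctor.isSheaf_iff _ (isSheaf_type (uSh G))]
  intro U s hs
  change π.hom.hom.app U s = c.1 U
  apply sheaf_ext Q.P _ hs
  intro V f hf
  have h1 : π.hom.hom.app (op V) ((uSh G).obj.map f.op s) = c.1 (op V) := hf
  have h2 : π.hom.hom.app (op V) ((uSh G).obj.map f.op s) =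
      Q.P.obj.map f.op (π.hom.hom.app U s) := naturality_apply π.hom f.op s
  exact h2.symm.trans (h1.trans (c.2 f.op).symm)

/-- The sheaf of liftings of `c`. -/
def fibreSheaf (c : Q.P.obj.sections) : Sheaf J (Type w) :=
  ⟨(fibreSub π c).toFunctor, (isSheaf_iff_isSheaf_of_type J _).2 (fibreSub_isSheaf π c)⟩

/-- The inclusion of the sheaf of liftings into `G`. -/
def fibreι (c : Q.P.obj.sections) : fibreSheaf π c ⟶ uSh G := ⟨(fibreSub π c).ι⟩

lemma fibreι_apply (c : Q.P.obj.sections) (U : Cᵒᵖ) (t : (fibreSheaf π c).obj.obj U) :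
    (fibreι π c).hom.app U t = t.1 := rfl

variable {π}

/-- The sheaf of liftings of `c`, with `F` acting by `a • g = g * u(a)⁻¹`. -/
def fibreGSheaf (hQ : IsQuotientBy u π) (c : Q.P.obj.sections) : GSheaf F where
  P := fibreSheaf π c
  smul {U} a g := ⟨ofGrp (toGrp g.1 * (u.hom.app U a)⁻¹), by
    change π.hom.hom.app U (ofGrp (toGrp g.1 * (u.hom.app U a)⁻¹)) = c.1 U
    rw [← map_inv, π_mul_u hQ]
    exact g.2⟩
  one_smul {U} p := by
    apply Subtype.ext
    change ofGrp (toGrp p.1 * (u.hom.app U 1)⁻¹) = p.1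
    rw [map_one, inv_one, mul_one]
  mul_smul {U} a b p := by
    apply Subtype.ext
    change ofGrp (toGrp p.1 * (u.hom.app U (a * b))⁻¹) =
      ofGrp (toGrp p.1 * (u.hom.app U b)⁻¹ * (u.hom.app U a)⁻¹)
    rw [map_mul, mul_inv_rev, mul_assoc]
  map_smul {U V} f a p := by
    apply Subtype.ext
    change (uSh G).obj.map f (ofGrp (toGrp p.1 * (u.hom.app U a)⁻¹)) =
      ofGrp (toGrp ((uSh G).obj.map f p.1) * (u.hom.app V (F.obj.map f a))⁻¹)
    rw [uSh_map_apply, u_naturality, map_mul, map_inv]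
    rfl

theorem isFibreOver_fibreGSheaf (hQ : IsQuotientBy u π) (c : Q.P.obj.sections) :
    IsFibreOver u π c (fibreGSheaf hQ c) := by
  refine ⟨fibreι π c, ?_, ?_, ?_⟩
  · intro U a b hab
    exact Subtype.ext hab
  · intro U g
    constructor
    · rintro ⟨t, rfl⟩
      exact t.2
    · intro hg
      exact ⟨⟨ofGrp g, hg⟩, rfl⟩
  · intro U a t
    rfl

end Fibre

section Lifts

/-- Exactness at `H⁰(Q)`: the fibre torsor over `c` is trivial iff `c` lifts to a global section of `G`. -/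
theorem trivial_iff_lifts (c : Q.P.obj.sections) (T : GSheaf F) (hps : T.IsPseudoTorsor)
    (hT : IsFibreOver u π c T) :
    Nonempty (GSheaf.trivial F ≅ T) ↔
      ∃ g : (uSh G).obj.sections, ∀ U : Cᵒᵖ, π.hom.hom.app U (g.1 U) = c.1 U := by
  obtain ⟨ι, hι, hfib, heq⟩ := hT
  constructor
  · rintro ⟨e⟩
    obtain ⟨s, -⟩ := exists_section_of_trivial_iso T e
    refine ⟨⟨fun U => ι.hom.app U (s.1 U), ?_⟩, ?_⟩
    · intro U V f
      rw [← naturality_apply ι f, s.2 f]
    · intro U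
      exact (hfib U _).1 ⟨s.1 U, rfl⟩
  · rintro ⟨g, hg⟩
    have hex : ∀ U : Cᵒᵖ, ∃ t : T.P.obj.obj U, ι.hom.app U t = g.1 U := fun U =>
      (hfib U (toGrp (g.1 U))).2 (hg U)
    choose t ht using hex
    have hs : t ∈ T.P.obj.sections := by
      intro U V f
      apply hι V
      rw [naturality_apply ι f, ht, ht]
      exact g.2 f
    exact nonempty_trivial_iso_of_section T hps ⟨t, hs⟩

end Lifts

section Translate

/-- Left translation by a global section of `G` on the underlying sheaf of sets. -/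
def leftMulSh (g : (uSh G).obj.sections) : uSh G ⟶ uSh G :=
  ⟨{ app := fun U => TypeCat.ofHom (fun h : (uSh G).obj.obj U => ofGrp (toGrp (g.1 U) * toGrp h))
     naturality := by
      intro U V f
      ext h
      change ofGrp (toGrp (g.1 V) * G.obj.map f (toGrp h)) =
        ofGrp (G.obj.map f (toGrp (g.1 U) * toGrp h))
      rw [map_mul]
      have h1 : G.obj.map f (toGrp (g.1 U)) = toGrp (g.1 V) := g.2 f
      rw [h1] }⟩

lemma π_smul {U : Cᵒᵖ} (a h : G.obj.obj U) :
    π.hom.hom.app U (ofGrp (a * h)) = Q.smul a (π.hom.hom.app U (ofGrp h)) :=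
  π.map_smul a (ofGrp h)

/-- Translating the section `c` by a global section `g` of `G` does not change the fibre torsor. -/
theorem isFibreOver_of_translate (c c' : Q.P.obj.sections) (T : GSheaf F) (hT : IsFibreOver u π c T)
    (g : (uSh G).obj.sections) (hg : ∀ U : Cᵒᵖ, Q.smul (toGrp (g.1 U)) (c.1 U) = c'.1 U) :
    IsFibreOver u π c' T := by
  obtain ⟨ι, hι, hfib, heq⟩ := hT
  refine ⟨ι ≫ leftMulSh g, ?_, ?_, ?_⟩
  · intro U t t' htt
    apply hι U
    have h1 : toGrp (g.1 U) * toGrp (ι.hom.app U t) = toGrp (g.1 U) * toGrp (ι.hom.app U t') := htt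
    change toGrp (ι.hom.app U t) = toGrp (ι.hom.app U t')
    exact mul_left_cancel h1
  · intro U h
    constructor
    · rintro ⟨t, rfl⟩
      change π.hom.hom.app U (ofGrp (toGrp (g.1 U) * toGrp (ι.hom.app U t))) = c'.1 U
      rw [π_smul, (hfib U _).1 ⟨t, rfl⟩, hg]
    · intro hh
      have h1 : π.hom.hom.app U (ofGrp ((toGrp (g.1 U))⁻¹ * h)) = c.1 U := by
        rw [π_smul, hh, ← hg U, ← Q.mul_smul, inv_mul_cancel, Q.one_smul]
      obtain ⟨t, ht⟩ := (hfib U _).2 h1
      refine ⟨t, ?_⟩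
      change toGrp (g.1 U) * toGrp (ι.hom.app U t) = h
      rw [ht, mul_inv_cancel_left]
  · intro U a t
    change toGrp (g.1 U) * toGrp (ι.hom.app U (T.smul a t)) =
      toGrp (g.1 U) * toGrp (ι.hom.app U t) * (u.hom.app U a)⁻¹
    rw [heq, mul_assoc]

/-- `∂c = ∂c'` iff `c' = g • c` for a global section `g` of `G`. -/
theorem iso_iff_translate (hu : ∀ U : Cᵒᵖ, Function.Injective (u.hom.app U)) (hQ : IsQuotientBy u π)
    (c c' : Q.P.obj.sections) (T T' : GSheaf F) (hT : IsFibreOver u π c T)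
    (hT' : IsFibreOver u π c' T') :
    Nonempty (T ≅ T') ↔
      ∃ g : (uSh G).obj.sections, ∀ U : Cᵒᵖ, Q.smul (toGrp (g.1 U)) (c.1 U) = c'.1 U := by
  constructor
  · rintro ⟨e⟩
    have htors := isTorsor_of_isFibreOver hu hQ c T hT
    obtain ⟨ι, hι, hfib, heq⟩ := hT
    obtain ⟨ι', hι', hfib', heq'⟩ := hT'
    let ψ : ∀ U : Cᵒᵖ, T.P.obj.obj U → (uSh G).obj.obj U := fun U t =>
      ofGrp (toGrp (ι'.hom.app U (e.hom.hom.hom.app U t)) * (toGrp (ι.hom.app U t))⁻¹)
    obtain ⟨g, hg⟩ := exists_section_of_const T htors.2 (uSh G) ψ (by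
      intro U V a t
      change (uSh G).obj.map a (ofGrp (toGrp (ι'.hom.app U (e.hom.hom.hom.app U t)) *
        (toGrp (ι.hom.app U t))⁻¹)) = ofGrp (toGrp (ι'.hom.app V (e.hom.hom.hom.app V (T.P.obj.map a t))) *
        (toGrp (ι.hom.app V (T.P.obj.map a t)))⁻¹)
      rw [uSh_map_apply, map_mul, map_inv, naturality_apply e.hom.hom a t, naturality_apply ι' a,
        naturality_apply ι a]
      rfl) (by
      intro U t t'
      obtain ⟨b, hb, -⟩ := htors.1 U t t'
      change ofGrp (toGrp (ι'.hom.app U (e.hom.hom.hom.app U t)) * (toGrp (ι.hom.app U t))⁻¹) =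
        ofGrp (toGrp (ι'.hom.app U (e.hom.hom.hom.app U t')) * (toGrp (ι.hom.app U t'))⁻¹)
      rw [← hb, e.hom.map_smul, heq, heq', mul_inv_rev, inv_inv, mul_assoc,
        inv_mul_cancel_left])
    refine ⟨g, ?_⟩
    intro U
    obtain ⟨S, hS, hne⟩ := htors.2 U.unop
    apply sheaf_ext Q.P S hS
    intro V a ha
    obtain ⟨t⟩ := hne a ha
    rw [Q.map_smul, c.2 a.op, c'.2 a.op]
    have h1 : (uSh G).obj.map a.op (g.1 U) = g.1 (op V) := g.2 a.op
    have h2 : G.obj.map a.op (toGrp (g.1 U)) = toGrp (g.1 (op V)) := h1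
    rw [h2, ← hg (op V) t, ← (hfib (op V) _).1 ⟨t, rfl⟩, ← π_smul]
    change π.hom.hom.app (op V) (ofGrp (toGrp (ι'.hom.app (op V) (e.hom.hom.hom.app (op V) t)) *
      (toGrp (ι.hom.app (op V) t))⁻¹ * toGrp (ι.hom.app (op V) t))) = c'.1 (op V)
    rw [inv_mul_cancel_right]
    exact (hfib' (op V) _).1 ⟨_, rfl⟩
  · rintro ⟨g, hg⟩
    exact nonempty_iso_of_isFibreOver c' T T' (isFibreOver_of_translate c c' T hT g hg) hT'

end Translate

section Exactness

/-- If `T` is a fibre of `π`, the inverse of the inclusion is `u`-equivariant into the trivial `G`-sheaf. -/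
theorem isPushforwardAlong_of_isFibreOver (c : Q.P.obj.sections) (T : GSheaf F)
    (hT : IsFibreOver u π c T) : IsPushforwardAlong u T (GSheaf.trivial G) := by
  obtain ⟨ι, -, -, heq⟩ := hT
  refine ⟨ι ≫ invSh G, ?_⟩
  intro U a t
  change ofGrp ((toGrp (ι.hom.app U (T.smul a t)))⁻¹) =
    ofGrp (u.hom.app U a * toGrp (ofGrp ((toGrp (ι.hom.app U t))⁻¹)))
  rw [heq, mul_inv_rev, inv_inv]

/-- Exactness at `H¹(F)`: an `F`-torsor `T` whose push-forward to `G` is trivial is the fibre of `π` over some global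
section of `Q = G/F`. -/
theorem exists_isFibreOver_of_isPushforwardAlong (hu : ∀ U : Cᵒᵖ, Function.Injective (u.hom.app U))
    (hQ : IsQuotientBy u π) (T : GSheaf F) (hT : T.IsTorsor)
    (h : IsPushforwardAlong u T (GSheaf.trivial G)) :
    ∃ c : Q.P.obj.sections, IsFibreOver u π c T := by
  obtain ⟨f, hf⟩ := h
  obtain ⟨hps, hloc⟩ := hT
  let ι : T.P ⟶ uSh G := f ≫ invSh G
  have hιdef : ∀ (U : Cᵒᵖ) (t : T.P.obj.obj U), toGrp (ι.hom.app U t) = (toGrp (f.hom.app U t))⁻¹ :=
    fun U t => rfl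
  have hf' : ∀ (U : Cᵒᵖ) (a : F.obj.obj U) (t : T.P.obj.obj U),
      toGrp (f.hom.app U (T.smul a t)) = u.hom.app U a * toGrp (f.hom.app U t) := fun U a t => hf U a t
  have heq : ∀ (U : Cᵒᵖ) (a : F.obj.obj U) (t : T.P.obj.obj U),
      toGrp (ι.hom.app U (T.smul a t)) = toGrp (ι.hom.app U t) * (u.hom.app U a)⁻¹ := by
    intro U a t
    rw [hιdef, hιdef, hf', mul_inv_rev]
  have hinj : ∀ U : Cᵒᵖ, Function.Injective (ι.hom.app U) := by
    intro U t t' htt
    obtain ⟨a, ha, -⟩ := hps U t t'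
    have h1 : toGrp (ι.hom.app U (T.smul a t)) = toGrp (ι.hom.app U t) := by rw [ha]; exact htt.symm
    rw [heq] at h1
    have h2 : (u.hom.app U a)⁻¹ = 1 := mul_left_cancel (h1.trans (mul_one _).symm)
    have h3 : a = 1 := hu U (by rw [map_one, ← inv_inv (u.hom.app U a), h2, inv_one])
    rw [← ha, h3, T.one_smul]
  -- `π ∘ ι` is constant on sections of `T`
  have hconst : ∀ (U : Cᵒᵖ) (t t' : T.P.obj.obj U),
      π.hom.hom.app U (ofGrp (toGrp (ι.hom.app U t))) = π.hom.hom.app U (ofGrp (toGrp (ι.hom.app U t'))) := by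
    intro U t t'
    obtain ⟨a, ha, -⟩ := hps U t t'
    rw [← ha, heq, ← map_inv, π_mul_u hQ]
  -- naturality of `π ∘ ι`
  have hnat : ∀ {U V : Cᵒᵖ} (a : U ⟶ V) (t : T.P.obj.obj U),
      Q.P.obj.map a (π.hom.hom.app U (ι.hom.app U t)) = π.hom.hom.app V (ι.hom.app V (T.P.obj.map a t)) := by
    intro U V a t
    have h1 : π.hom.hom.app V ((uSh G).obj.map a (ι.hom.app U t)) =
        Q.P.obj.map a (π.hom.hom.app U (ι.hom.app U t)) := naturality_apply π.hom a (ι.hom.app U t)
    rw [← h1, ← naturality_apply ι a t]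
  let IsC : ∀ U : C, Q.P.obj.obj (op U) → Prop := fun U q =>
    ∀ ⦃V : C⦄ (a : V ⟶ U) (t : T.P.obj.obj (op V)),
      Q.P.obj.map a.op q = π.hom.hom.app (op V) (ι.hom.app (op V) t)
  have hex : ∀ U : C, ∃ q, IsC U q := by
    intro U
    obtain ⟨S, hS, hne⟩ := hloc U
    let s : ∀ (V : C) (a : V ⟶ U), S a → T.P.obj.obj (op V) := fun V a ha => (hne a ha).some
    obtain ⟨q, hq⟩ := sheaf_glue Q.P S hS
      (fun V a ha => π.hom.hom.app (op V) (ι.hom.app (op V) (s V a ha))) (by
        intro V W a b ha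
        rw [hnat b.op]
        exact hconst _ _ _)
    refine ⟨q, ?_⟩
    intro V a t
    apply sheaf_ext Q.P (S.pullback a) (J.pullback_stable a hS)
    intro W b hb
    rw [← map_comp_apply, hq (b ≫ a) hb, hnat b.op]
    exact hconst _ _ _
  have huniq : ∀ (U : C) (q q' : Q.P.obj.obj (op U)), IsC U q → IsC U q' → q = q' := by
    intro U q q' hq hq'
    obtain ⟨S, hS, hne⟩ := hloc U
    apply sheaf_ext Q.P S hS
    intro V a ha
    obtain ⟨t⟩ := hne a ha
    rw [hq a t, hq' a t]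
  choose cc hcc using hex
  have hcsec : (fun U : Cᵒᵖ => cc U.unop) ∈ Q.P.obj.sections := by
    intro U V a
    apply huniq V.unop _ _ _ (hcc V.unop)
    intro W b t
    have := hcc U.unop (b ≫ a.unop) t
    rw [map_comp_apply] at this
    exact this
  refine ⟨⟨fun U => cc U.unop, hcsec⟩, ι, hinj, ?_, heq⟩
  intro U g
  constructor
  · rintro ⟨t, rfl⟩
    have := hcc U.unop (𝟙 _) t
    rw [map_id_apply] at this
    exact this.symm
  · intro hg
    obtain ⟨S, hS, hne⟩ := hloc U.unop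
    apply mem_range_of_locally ι hinj (ofGrp g) S hS
    intro V a ha
    obtain ⟨t⟩ := hne a ha
    -- `π (g|V) = π (ι t)`
    have h1 : π.hom.hom.app (op V) ((uSh G).obj.map a.op (ofGrp g)) =
        π.hom.hom.app (op V) (ι.hom.app (op V) t) := by
      have h2 : π.hom.hom.app (op V) ((uSh G).obj.map a.op (ofGrp g)) =
        Q.P.obj.map a.op (π.hom.hom.app U (ofGrp g)) := naturality_apply π.hom a.op (ofGrp g)
      rw [h2]
      have h3 : π.hom.hom.app U (ofGrp g) = cc U.unop := hg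
      rw [h3]
      exact hcc U.unop a t
    obtain ⟨b, hb⟩ := (hQ.1 (op V) _ _).1 h1.symm
    refine ⟨T.smul b⁻¹ t, ?_⟩
    change ofGrp (toGrp (ι.hom.app (op V) (T.smul b⁻¹ t))) = _
    rw [heq, map_inv, inv_inv]
    exact congrArg ofGrp hb.symm

end Exactness

end Boundary

end Groth.Agent.Lib.NonAbTorsor
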