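import Groth.Agent.Lib.NormGlueH3
import Groth.Agent.Lib.H78SecAdd
import Mathlib.AlgebraicGeometry.Morphisms.QuasiFinite
import Mathlib.AlgebraicGeometry.Morphisms.Finite

/-!
# helper3: descent of ampleness along a finite surjective morphism with a norm
(namespace `Groth.Agent.Lib.NormAmpleH3`)

`isAmple_of_norm` (EGA II 6.6.1, coordinate form): let `π : X' ⟶ X` be finite and surjective with a system
of norms `N`, `L'` ample on `X'` with an atlas `A'` over the opens `π⁻¹(V i)` (`V i` affine opens covering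
`X`), `L` a module on `X` with an atlas `A` over the `V i` whose transition functions are
`N(A'.trans i j) ^ c i` (`c i ≥ 1`, locally constant).  Then `L` is ample.
-/

set_option autoImplicit false
universe u
open CategoryTheory CategoryTheory.Limits AlgebraicGeometry Opposite TopologicalSpace
open Groth.Agent.Lib.H90Invertible Groth.Agent.Lib.StructureModule Groth.Agent.Lib.H78TensorGen
open Groth.Agent.Lib.H78SecCoord Groth.Agent.Lib.H78Atlas Groth.Agent.Lib.NormChartH3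
open Groth.Agent.Lib.NormGlueH3

namespace Groth.Agent.Lib.NormAmpleH3

variable {X' X : Scheme.{u}}

/-- a function whose non-vanishing locus is everything is a unit -/
lemma isUnit_of_basicOpen_eq {Y : Scheme.{u}} {U : Y.Opens} (f : Γ(Y, U)) (h : Y.basicOpen f = U) :
    IsUnit f := by
  apply Y.toRingedSpace.isUnit_of_isUnit_germ U f
  intro x hx
  have hx' : x ∈ Y.basicOpen f := by rw [h]; exact hx
  exact (Y.mem_basicOpen f x hx).1 hx'

theorem isAmple_of_norm (π : X' ⟶ X) [IsFinite π] [Surjective π] (N : NormData π)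
    {L' : X'.Modules} (hL' : CohB1.IsAmple L') {L : X.Modules} (hL : PicF.IsInvertible L)
    {ι : Type*} (V : ι → X.Opens) (hVaff : ∀ i, IsAffineOpen (V i)) (hV : ⨆ i, V i = ⊤)
    (A' : Atlas L' (fun i => π ⁻¹ᵁ V i)) (A : Atlas L V) (c : ι → ℕ) (hc1 : ∀ i, 1 ≤ c i)
    (hc : ∀ i j, c i = c j ∨ V i ⊓ V j = ⊥)
    (hT : ∀ i j, A.trans i j = N.norm (V i ⊓ V j) (A'.trans i j) ^ c i) :
    CohB1.IsAmple L := by
  haveI : CompactSpace X' := hL'.2.1
  haveI : CompactSpace X := by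
    constructor
    have h1 : IsCompact (Set.range π.base) := isCompact_range π.continuous
    rwa [Set.range_eq_univ.2 π.surjective] at h1
  have hV' : ⨆ i, π ⁻¹ᵁ V i = ⊤ := by
    refine top_le_iff.1 (fun x _ => ?_)
    have hx : π x ∈ ⨆ i, V i := by rw [hV]; trivial
    obtain ⟨i, hi⟩ := Opens.mem_iSup.1 hx
    exact Opens.mem_iSup.2 ⟨i, hi⟩
  refine ⟨hL, inferInstance, fun x₀ => ?_⟩
  have hx₀ : x₀ ∈ ⨆ i, V i := by rw [hV]; trivial
  obtain ⟨i₀, hi₀⟩ := Opens.mem_iSup.1 hx₀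
  -- a section of a power of `L'` non-vanishing on the fibre, with `X'_{s'} ⊆ π⁻¹(V i₀)`
  obtain ⟨m, s', hZs', hs'U, -⟩ := Groth.Agent.Lib.H78SecAdd.exists_sec_finite hL' (π ⁻¹' {x₀})
    (π.finite_preimage_singleton x₀) (π ⁻¹ᵁ V i₀) (by
      intro z hz
      change π z ∈ V i₀
      rw [Set.mem_preimage, Set.mem_singleton_iff] at hz
      rw [hz]; exact hi₀)
  set σ' := sec s' with hσ'
  -- coordinates of `s'`
  set b : ∀ i, Γ(X', π ⁻¹ᵁ V i) := fun i => (A'.pow (m + 1)).co σ' i with hb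
  have hbcompat : ∀ i j, rf (inf_le_left : π ⁻¹ᵁ V i ⊓ π ⁻¹ᵁ V j ≤ π ⁻¹ᵁ V i) (b i) =
      rf (inf_le_right : π ⁻¹ᵁ V i ⊓ π ⁻¹ᵁ V j ≤ π ⁻¹ᵁ V j) (b j) * (A'.trans i j) ^ (m + 1) := by
    intro i j
    have := (A'.pow (m + 1)).co_compat σ' i j
    rwa [Atlas.pow_trans] at this
  have hbD : ∀ i, X'.basicOpen (b i) = CohB1.genLocus _ s' ⊓ π ⁻¹ᵁ V i := by
    intro i
    have := (A'.pow (m + 1)).genLocus_inf σ' i
    rw [hσ', ofSection_sec] at this
    exact this.symm
  -- the norms of the coordinates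
  set a : ∀ i, Γ(X, V i) := fun i => N.norm (V i) (b i) ^ c i with ha
  have hacompat : ∀ i j, rf (inf_le_left : V i ⊓ V j ≤ V i) (a i) =
      rf (inf_le_right : V i ⊓ V j ≤ V j) (a j) * (A.pow (m + 1)).trans i j := by
    intro i j
    rcases hc i j with hcij | hbot
    · rw [Atlas.pow_trans, hT i j]
      have h1 : rf (inf_le_left : V i ⊓ V j ≤ V i) (a i) =
          N.norm (V i ⊓ V j) (rfU π (inf_le_left : V i ⊓ V j ≤ V i) (b i)) ^ c i := by
        change rfD _ (N.norm (V i) (b i) ^ c i) = _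
        rw [map_pow, N.norm_res]
      have h2 : rf (inf_le_right : V i ⊓ V j ≤ V j) (a j) =
          N.norm (V i ⊓ V j) (rfU π (inf_le_right : V i ⊓ V j ≤ V j) (b j)) ^ c i := by
        change rfD _ (N.norm (V j) (b j) ^ c j) = _
        rw [map_pow, N.norm_res, hcij]
      have h3 : rfU π (inf_le_left : V i ⊓ V j ≤ V i) (b i) =
          rfU π (inf_le_right : V i ⊓ V j ≤ V j) (b j) *
            (show Γ(X', π ⁻¹ᵁ (V i ⊓ V j)) from A'.trans i j) ^ (m + 1) := hbcompat i j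
      rw [h1, h2, h3, map_mul, map_pow, mul_pow, ← pow_mul, ← pow_mul, mul_comm (m + 1) (c i)]
    · haveI : Subsingleton Γ(X, V i ⊓ V j) := by
        rw [hbot]
        exact CommRingCat.subsingleton_of_isTerminal X.sheaf.isTerminalOfEmpty
      exact Subsingleton.elim _ _
  obtain ⟨σ, hσ⟩ := (A.pow (m + 1)).exists_sec hV a hacompat
  have hD : ∀ i, CohB1.genLocus _ (ofSection σ) ⊓ V i = X.basicOpen (N.norm (V i) (b i)) := by
    intro i
    rw [(A.pow (m + 1)).genLocus_inf σ i, hσ i]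
    exact X.basicOpen_pow _ (hc1 i)
  -- `X_s ⊆ V i₀`
  have hle : CohB1.genLocus _ (ofSection σ) ≤ V i₀ := by
    intro y hy
    have hy' : y ∈ ⨆ i, V i := by rw [hV]; trivial
    obtain ⟨i, hi⟩ := Opens.mem_iSup.1 hy'
    have h1 : y ∈ X.basicOpen (N.norm (V i) (b i)) := by
      rw [← hD i]; exact ⟨hy, hi⟩
    obtain ⟨y', rfl⟩ := π.surjective y
    have h2 : y' ∈ X'.basicOpen (b i) := N.norm_le (V i) (b i) h1
    rw [hbD i] at h2
    exact hs'U h2.1
  -- `x₀ ∈ X_s`
  have hx₀s : x₀ ∈ CohB1.genLocus _ (ofSection σ) := by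
    have hK : IsClosed (π.base '' ((X'.basicOpen (b i₀) : Set X')ᶜ)) :=
      π.isClosedMap _ (X'.basicOpen (b i₀)).isOpen.isClosed_compl
    let W : X.Opens := V i₀ ⊓ ⟨_, hK.isOpen_compl⟩
    have hx₀W : x₀ ∈ W := by
      refine ⟨hi₀, ?_⟩
      rintro ⟨k, hk, hkx⟩
      apply hk
      rw [SetLike.mem_coe, hbD i₀]
      refine ⟨hZs' ?_, ?_⟩
      · rw [Set.mem_preimage, Set.mem_singleton_iff]; exact hkx
      · change π k ∈ V i₀
        rw [show π k = x₀ from hkx]; exact hi₀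
    have hWV : W ≤ V i₀ := inf_le_left
    have hpre : π ⁻¹ᵁ W ≤ X'.basicOpen (b i₀) := by
      intro w hw
      by_contra hcon
      exact hw.2 ⟨w, hcon, rfl⟩
    have hunit : IsUnit (rfU π hWV (b i₀)) := by
      apply isUnit_of_basicOpen_eq
      change X'.basicOpen (X'.presheaf.map (homOfLE (π.preimage_mono hWV)).op (b i₀)) = _
      rw [Scheme.basicOpen_res]
      exact inf_eq_left.2 hpre
    have hunit2 : IsUnit (rfD hWV (N.norm (V i₀) (b i₀))) := by
      rw [N.norm_res]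
      exact hunit.map _
    have h3 := X.basicOpen_of_isUnit hunit2
    change X.basicOpen (X.presheaf.map (homOfLE hWV).op (N.norm (V i₀) (b i₀))) = W at h3
    rw [Scheme.basicOpen_res] at h3
    have h4 : x₀ ∈ W ⊓ X.basicOpen (N.norm (V i₀) (b i₀)) := by rw [h3]; exact hx₀W
    rw [← hD i₀] at h4
    exact h4.2.1
  refine ⟨m, ofSection σ, hx₀s, ?_⟩
  have := hD i₀
  rw [inf_eq_left.2 hle] at this
  rw [this]
  exact (hVaff i₀).basicOpen _

end Groth.Agent.Lib.NormAmpleH3
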