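import Groth.Agent.Lib.NormLocus13
import Mathlib.RingTheory.Norm.Basic
import Mathlib.RingTheory.IsTensorProduct
import Mathlib.Algebra.Category.Ring.Constructions

/-!
# The norm commutes with base change (helper13)

* `norm_one_tmul`: `Norm_{R'}(1 ⊗ x) = Norm_R(x)` in `R' ⊗[R] S` for `S` finite free over `R`.
* `norm_of_isPushout`: the same for `Algebra.IsPushout R S T P`.
* `norm_of_isPushout_commRingCat`: the same for a pushout square in `CommRingCat`.
-/

set_option autoImplicit false
universe u

namespace Groth.Agent.Lib.NormBC13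

open TensorProduct

theorem norm_one_tmul (R S R' : Type*) [CommRing R] [CommRing S] [CommRing R'] [Algebra R S]
    [Algebra R R'] [Module.Free R S] [Module.Finite R S] (x : S) :
    Algebra.norm R' ((1 : R') ⊗ₜ[R] x) = algebraMap R R' (Algebra.norm R x) := by
  rw [Algebra.norm_apply, Algebra.norm_apply, ← NormLocus13.baseChange_mulLeft,
    LinearMap.det_baseChange]

theorem norm_of_isPushout (R S T P : Type*) [CommRing R] [CommRing S] [CommRing T] [CommRing P]
    [Algebra R S] [Algebra R T] [Algebra S P] [Algebra T P] [Algebra R P] [IsScalarTower R S P]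
    [IsScalarTower R T P] [Algebra.IsPushout R S T P] [Module.Free R S] [Module.Finite R S]
    (x : S) :
    Algebra.norm T (algebraMap S P x) = algebraMap R T (Algebra.norm R x) := by
  have : Algebra.IsPushout R T S P := Algebra.IsPushout.symm inferInstance
  let e : T ⊗[R] S ≃ₐ[T] P := Algebra.IsPushout.equiv R T S P
  have he : e ((1 : T) ⊗ₜ[R] x) = algebraMap S P x := by
    simp [e, Algebra.IsPushout.equiv_tmul]
  rw [← he, Algebra.norm_eq_of_algEquiv e, norm_one_tmul]

theorem norm_of_isPushout_commRingCat {R S T P : CommRingCat.{u}} {f : R ⟶ S} {g : R ⟶ T}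
    {inl : S ⟶ P} {inr : T ⟶ P} (h : CategoryTheory.IsPushout f g inl inr)
    (hfree : letI := f.hom.toAlgebra; Module.Free R S) (hfin : f.hom.Finite) (x : S) :
    (letI := inr.hom.toAlgebra; Algebra.norm T (inl.hom x)) =
      g.hom (letI := f.hom.toAlgebra; Algebra.norm R x) := by
  algebraize [f.hom, g.hom, inl.hom, inr.hom, inl.hom.comp f.hom]
  have : IsScalarTower R T P := .of_algebraMap_eq' <| congr($(h.1.1).hom)
  have : Algebra.IsPushout R S T P := CommRingCat.isPushout_iff_isPushout.mp h
  exact norm_of_isPushout R S T P x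

end Groth.Agent.Lib.NormBC13
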