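import Groth.Prelude.Def_Coh
import Groth.Prelude.Def_CohB1
import Groth.Prelude.Def_Curv2
import Groth.Prelude.Def_ClSub2
import Groth.Agent.S1585
import Groth.Agent.Lib.CurveVanishing54
import Groth.Agent.Lib.H90OXModPush
import Groth.Agent.Lib.H90OXModExact
import Groth.Agent.Lib.StructureModule

/-!
# Normalization of a genus-zero curve has genus zero (helper84; S16298)

Namespace `Groth.Agent.Lib.NormGenusZero84`.
* `isIso_app_of_isIso_morphismRestrict f V W hW`: if `f ∣_ V` is an isomorphism then `f.app W` is an isomorphism for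
  every open `W ≤ V`.
* `subsingleton_HH_one_of_generic_iso p hdim η V hV hη h1`: on an integral locally Noetherian scheme of dimension `≤ 1`,
  separated over an affine base, a morphism `η : M ⟶ N` of quasi-coherent modules which is surjective on sections
  over all opens inside a nonempty open `V`, with `H¹(M) = 0`, has `H¹(N) = 0`.
* `main`: S16298.
-/

set_option autoImplicit false
set_option maxHeartbeats 800000
set_option linter.style.haveILetI false
universe u
open CategoryTheory CategoryTheory.Limits AlgebraicGeometry Opposite TopologicalSpace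

namespace Groth.Agent.Lib.NormGenusZero84

open Groth.Agent.Lib.InvMap54 Groth.Agent.Lib.CurveVanishing54 Groth.Agent.Lib.CohLES

/-- If `f ∣_ V` is an isomorphism then `f.app W` is an isomorphism for every open `W ≤ V`. -/
lemma isIso_app_of_isIso_morphismRestrict {X Y : Scheme.{u}} (f : Y ⟶ X) (V : X.Opens)
    [IsIso (f ∣_ V)] (W : X.Opens) (hW : W ≤ V) : IsIso (f.app W) := by
  obtain ⟨W', rfl⟩ : ∃ W' : (V : Scheme.{u}).Opens, W = V.ι ''ᵁ W' := by
    refine ⟨V.ι ⁻¹ᵁ W, ?_⟩
    rw [Scheme.Hom.image_preimage_eq_opensRange_inf, Scheme.Opens.opensRange_ι]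
    exact (inf_eq_right.mpr hW).symm
  have h := morphismRestrict_app f V W'
  have hiso : IsIso ((f ∣_ V).app W') := inferInstance
  rw [h] at hiso
  have hm : IsIso (Y.presheaf.map (eqToHom (image_morphismRestrict_preimage f V W')).op) :=
    Functor.map_isIso _ _
  exact @IsIso.of_isIso_comp_right _ _ _ _ _ (f.app (V.ι ''ᵁ W'))
    (Y.presheaf.map (eqToHom (image_morphismRestrict_preimage f V W')).op) hm hiso

/-- General: a morphism `η : M ⟶ N` of modules on an integral curve with `H¹(M) = 0`, quasi-coherent kernel, and
bijective on sections over small opens inside a nonempty open `V`, has `H¹(N) = 0`. -/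
theorem subsingleton_HH_one_of_generic_iso {X S : Scheme.{u}} [IsIntegral X] [IsLocallyNoetherian X]
    [IsAffine S] (p : X ⟶ S) [IsSeparated p] (hdim : topologicalKrullDim X ≤ 1)
    {M N : X.Modules} [M.IsQuasicoherent] [N.IsQuasicoherent] (η : M ⟶ N) (V : X.Opens)
    (hV : (V : Set X).Nonempty) (hη : ∀ W : X.Opens, W ≤ V → Function.Surjective (η.app W))
    (h1 : Subsingleton (Coh.HH X M 1)) : Subsingleton (Coh.HH X N 1) := by
  have hZ : IsClosed ((V : Set X)ᶜ) := V.isOpen.isClosed_compl
  have h0 : ∀ y ∈ ((V : Set X)ᶜ), IsClosed ({y} : Set X) := fun y hy =>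
    isClosed_singleton_of_dim_le_one hdim y V V.isOpen hV hy
  have hC : CohB1.support (cokernel η) ⊆ (V : Set X)ᶜ := by
    intro y hy hyV
    exact ((not_mem_support_cokernel_iff η y).2
      (stalkLin_surjective_of_app_surjective η y V hyV hη)) hy
  have hCv := subsingleton_HH_of_support_subset (cokernel η) _ hZ h0 hC
  haveI hKq : (kernel η).IsQuasicoherent := Groth.Agent.Lib.H90OXModExact.isQuasicoherent_kernel η
  have hK2 : Subsingleton (Coh.HH X (kernel η) 2) := subsingleton_HH_add_two p hdim (kernel η) 0
  let S₁ : ShortComplex X.Modules :=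
    ShortComplex.mk (kernel.ι η) (cokernel.π (kernel.ι η)) (cokernel.condition _)
  have hS₁ : S₁.ShortExact :=
    { exact := ShortComplex.exact_cokernel (kernel.ι η) }
  let S₂ : ShortComplex X.Modules :=
    ShortComplex.mk (kernel.ι (cokernel.π η)) (cokernel.π η) (kernel.condition _)
  have hS₂ : S₂.ShortExact :=
    { exact := ShortComplex.exact_kernel (cokernel.π η) }
  have hI' : Subsingleton (Coh.HH X (Abelian.coimage η) 1) := by
    haveI : Subsingleton (Coh.HH X S₁.X₂ 1) := h1
    haveI : Subsingleton (Coh.HH X S₁.X₁ (1 + 1)) := hK2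
    exact subsingleton_right hS₁ 1
  have hI : Subsingleton (Coh.HH X (Abelian.image η) 1) :=
    (mapEquiv (Abelian.coimageIsoImage η) 1).symm.subsingleton
  haveI : Subsingleton (Coh.HH X S₂.X₁ 1) := hI
  haveI : Subsingleton (Coh.HH X S₂.X₃ 1) := hCv 0
  exact subsingleton_mid hS₂ 1

/-- S16298: the normalization of a genus-zero curve has genus zero. -/
theorem main (k : Type u) [Field k] (X : Scheme.{u}) [X.Over (Spec (CommRingCat.of k))]
    [IsIntegral X] [IsProper (X ↘ (Spec (CommRingCat.of k)))] (hdim : topologicalKrullDim X = 1)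
    (h1 : Subsingleton (Coh.HH X (Coh.structureModule X) 1))
    [QuasiCompact (X.fromSpecStalk (genericPoint X))] [QuasiSeparated (X.fromSpecStalk (genericPoint X))] :
    Subsingleton (Coh.HH (Curv2.normalization X) (Coh.structureModule (Curv2.normalization X)) 1) := by
  obtain ⟨hfin, -, ⟨V, hVne, hViso⟩, -, -⟩ := Groth.Agent.S1585.result k X
  have hlN : IsLocallyNoetherian X :=
    LocallyOfFiniteType.isLocallyNoetherian (X ↘ (Spec (CommRingCat.of k)))
  haveI hqY : Coh.IsQCoh (Coh.structureModule (Curv2.normalization X)) :=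
    Groth.Agent.Lib.StructureModule.isQCoh_structureModule _
  haveI hqX : (Coh.structureModule X).IsQuasicoherent :=
    Groth.Agent.Lib.StructureModule.isQCoh_structureModule _
  obtain ⟨e⟩ := Groth.Agent.S0012.result (Curv2.normalizationι X)
    (Coh.structureModule (Curv2.normalization X)) 1
  haveI : ((Scheme.Modules.pushforward (Curv2.normalizationι X)).obj
      (Coh.structureModule (Curv2.normalization X))).IsQuasicoherent :=
    Groth.Agent.Lib.H90OXModPush.isQuasicoherent_pushforward _ _
  have := subsingleton_HH_one_of_generic_iso (X ↘ (Spec (CommRingCat.of k))) hdim.le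
    (ClSub.unitToPush (Curv2.normalizationι X)) V hVne (fun W hW => by
      haveI := isIso_app_of_isIso_morphismRestrict (Curv2.normalizationι X) V W hW
      exact ((ConcreteCategory.isIso_iff_bijective ((Curv2.normalizationι X).app W)).1
        inferInstance).2) h1
  exact e.subsingleton

end Groth.Agent.Lib.NormGenusZero84
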