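import Groth.Prelude.Def_Found
import Groth.Agent.Lib.DeltaStalk84
import Groth.Agent.Lib.NagataNormFin96B
import Groth.Agent.Lib.NormalizationIntegral
import Groth.Agent.Lib.NormGenusZero84

/-!
# Normalization of an integral Nagata scheme of dimension one (helper84; S7689)

Namespace `Groth.Agent.Lib.NormNagataDelta84`.
* `isFinite_normalizationι_of_nagata X hN`: the normalization of an integral scheme whose affine opens have Nagata
  coordinate rings is finite (helper85 `NormFieldFin85.isFinite_fromNormalization` + helper96
  `NagataNormFin96.finite_integralClosure_field`).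
* `main`: S7689 (finite, iso over a dense open, `O_X → ν_* O` mono, stalks of the cokernel have length δ at closed
  points and vanish at non-closed points).
-/

set_option autoImplicit false
set_option maxHeartbeats 800000
set_option linter.style.haveILetI false
universe u
open CategoryTheory CategoryTheory.Limits AlgebraicGeometry Opposite TopologicalSpace

namespace Groth.Agent.Lib.NormNagataDelta84

open Groth.Agent.Lib.InvMap54 Groth.Agent.Lib.DeltaStalk84

/-- The normalization of an integral scheme all of whose affine opens have Nagata coordinate rings is finite. -/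
theorem isFinite_normalizationι_of_nagata (X : Scheme.{u}) [IsIntegral X]
    [QuasiCompact (X.fromSpecStalk (genericPoint X))] [QuasiSeparated (X.fromSpecStalk (genericPoint X))]
    (hN : ∀ U : X.affineOpens, CAlg.IsNagata Γ(X, (U : X.Opens))) :
    IsFinite (Curv2.normalizationι X) := by
  have hR : IsField (X.presheaf.stalk (genericPoint X)) :=
    Groth.Agent.Lib.NormField85.isField_stalk_of_eq_genericPoint rfl
  have hg : X.fromSpecStalk (genericPoint X) =
      Spec.map (𝟙 (X.presheaf.stalk (genericPoint X))) ≫ X.fromSpecStalk (genericPoint X) := by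
    simp
  unfold Curv2.normalizationι
  refine Groth.Agent.Lib.NormFieldFin85.isFinite_fromNormalization hR
    (𝟙 (X.presheaf.stalk (genericPoint X))) (X.fromSpecStalk (genericPoint X)) hg
    (RingHom.Finite.id _) fun V hV _ L _ _ _ _ hfd ↦ ?_
  haveI : IsFractionRing Γ(X, V) X.functionField :=
    functionField_isFractionRing_of_isAffineOpen X V hV
  refine Groth.Agent.Lib.NagataNormFin96.finite_integralClosure_field (hN ⟨V, hV⟩)
    X.functionField L (fun x => ?_)
  obtain ⟨⟨a, b⟩, hab⟩ := IsLocalization.surj (nonZeroDivisors Γ(X, V)) x
  exact ⟨a, b.1, IsLocalization.to_map_ne_zero_of_mem_nonZeroDivisors _ le_rfl b.2, hab⟩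

/-- S7689. -/
theorem main (X : Scheme.{u}) [IsIntegral X]
    [QuasiCompact (X.fromSpecStalk (genericPoint X))] [QuasiSeparated (X.fromSpecStalk (genericPoint X))]
    (hN : ∀ U : X.affineOpens, CAlg.IsNagata Γ(X, (U : X.Opens))) (hdim : topologicalKrullDim X = 1) :
    IsFinite (Curv2.normalizationι X) ∧
      (∃ U : X.Opens, Dense ((U : Set X)) ∧ IsIso (Curv2.normalizationι X ∣_ U)) ∧
      Mono (ClSub.unitToPush (Curv2.normalizationι X)) ∧
      (∀ x : X, IsClosed ({x} : Set X) →
        Module.length (X.presheaf.stalk x) ((cokernel (ClSub.unitToPush (Curv2.normalizationι X))).presheaf.stalk x) =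
          Curv2.deltaInv (X.presheaf.stalk x)) ∧
      (∀ x : X, ¬ IsClosed ({x} : Set X) →
        Subsingleton ((cokernel (ClSub.unitToPush (Curv2.normalizationι X))).presheaf.stalk x)) := by
  have hfin := isFinite_normalizationι_of_nagata X hN
  obtain ⟨V, hVne, hViso⟩ := Groth.Agent.Lib.NormGenIso85.exists_isIso_morphismRestrict X hfin
  have hViso' : IsIso (Curv2.normalizationι X ∣_ V) := hViso
  have hs : Surjective (Curv2.normalizationι X) :=
    ⟨Groth.Agent.Lib.NormalizationIntegral.surjective_fromNormalization X⟩
  haveI hmono : Mono (ClSub.unitToPush (Curv2.normalizationι X)) := mono_unitToPush _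
  refine ⟨hfin, ⟨V, V.isOpen.dense hVne, hViso'⟩, hmono, fun x _ => length_stalk_cokernel X x,
    fun x hx => ?_⟩
  have hxV : x ∈ V := by
    by_contra hxV
    exact hx (isClosed_singleton_of_dim_le_one hdim.le x V V.isOpen hVne hxV)
  have hsurj : Function.Surjective
      (Groth.Agent.Lib.ModStalkLin.stalkLin (ClSub.unitToPush (Curv2.normalizationι X)) x) :=
    stalkLin_surjective_of_app_surjective _ x V hxV (fun W hW => by
      haveI := Groth.Agent.Lib.NormGenusZero84.isIso_app_of_isIso_morphismRestrict
        (Curv2.normalizationι X) V W hW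
      exact ((ConcreteCategory.isIso_iff_bijective ((Curv2.normalizationι X).app W)).1
        inferInstance).2)
  have := (not_mem_support_cokernel_iff (ClSub.unitToPush (Curv2.normalizationι X)) x).2 hsurj
  exact not_not.1 this

end Groth.Agent.Lib.NormNagataDelta84
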