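import Groth.Prelude.Def_BlowUp2
import Groth.Prelude.Def_Pi1
import Groth.Agent.Lib.NormNagataDelta84
import Groth.Agent.S9833
import Groth.Agent.Lib.NagataFT98E
import Groth.Agent.Lib.BlowUpProper68
import Groth.Agent.Lib.NormalizationChar

/-!
# Normalized blow-up of a Nagata scheme (helper84; S7359)

Namespace `Groth.Agent.Lib.NormBlowUpNagata84`.
* `isNagata_affineOpens_of_locallyOfFiniteType f hN W`: `f : Y ⟶ X` locally of finite type, all affine opens of `X`
  have Nagata rings ⇒ so do all affine opens of `Y` (S9833 + NagataFT98.isNagata_of_finiteType).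
* `main`: S7359.
-/

set_option autoImplicit false
set_option maxHeartbeats 800000
set_option linter.style.haveILetI false
universe u
open CategoryTheory CategoryTheory.Limits AlgebraicGeometry Opposite TopologicalSpace

namespace Groth.Agent.Lib.NormBlowUpNagata84

/-- A scheme locally of finite type over a scheme whose affine opens have Nagata coordinate rings has the same
property. -/
theorem isNagata_affineOpens_of_locallyOfFiniteType {X Y : Scheme.{u}} (f : Y ⟶ X)
    [LocallyOfFiniteType f] (hN : ∀ U : X.affineOpens, CAlg.IsNagata Γ(X, U.1))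
    (W : Y.affineOpens) : CAlg.IsNagata Γ(Y, W.1) := by
  let ι : Type u := { p : X.affineOpens × Y.affineOpens // p.2.1 ≤ f ⁻¹ᵁ p.1.1 }
  refine Groth.Agent.S9833.result Y (ι := ι) (fun p => p.1.2.1) ?_ (fun p => p.1.2.2) (fun p => ?_)
    W.1 W.2
  · rw [eq_top_iff]
    intro y _
    obtain ⟨_, ⟨V, hV, rfl⟩, hyV, -⟩ :=
      X.isBasis_affineOpens.exists_subset_of_mem_open (Set.mem_univ (f y)) isOpen_univ
    obtain ⟨_, ⟨W', hW', rfl⟩, hyW', hW'V⟩ :=
      Y.isBasis_affineOpens.exists_subset_of_mem_open (show y ∈ (f ⁻¹ᵁ V : Y.Opens) from hyV)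
        (f ⁻¹ᵁ V).isOpen
    exact Opens.mem_iSup.mpr ⟨⟨⟨⟨V, hV⟩, ⟨W', hW'⟩⟩, hW'V⟩, hyW'⟩
  · obtain ⟨⟨V, W'⟩, hle⟩ := p
    have hft := f.finiteType_appLE V.2 W'.2 hle
    letI := (f.appLE V.1 W'.1 hle).hom.toAlgebra
    haveI : Algebra.FiniteType Γ(X, V.1) Γ(Y, W'.1) := hft
    exact Groth.Agent.Lib.NagataFT98.isNagata_of_finiteType Γ(X, V.1) (hN V) Γ(Y, W'.1)

/-- S7359: the normalized blow-up of an integral locally Noetherian Nagata scheme at a closed point. -/
theorem main (X : Scheme.{u}) [IsIntegral X] [IsLocallyNoetherian X]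
    (hN : ∀ U : X.affineOpens, CAlg.IsNagata Γ(X, U.1)) (x : X) (hx : IsClosed ({x} : Set X))
    (X' : Scheme.{u}) (b : X' ⟶ X) (hb : BlowUp.IsBlowUp b (Scheme.IdealSheafData.vanishingIdeal ⟨{x}, hx⟩)) [IsIntegral X']
    [QuasiCompact (X'.fromSpecStalk (genericPoint X'))] [QuasiSeparated (X'.fromSpecStalk (genericPoint X'))] :
    Pi1.IsNormalScheme (Curv2.normalization X') ∧
      (∀ U : (Curv2.normalization X').affineOpens, CAlg.IsNagata Γ(Curv2.normalization X', U.1)) ∧
      IsProper (Curv2.normalizationι X' ≫ b) := by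
  have hbp : IsProper b :=
    Groth.Agent.Lib.BlowUpProper68.isProper_of_isBlowUp_of_isFiniteTypeIdeal b _ hb
      (fun U => by
        haveI : IsNoetherianRing Γ(X, U.1) := IsLocallyNoetherian.component_noetherian U
        exact (isNoetherianRing_iff_ideal_fg _).mp inferInstance _)
  have hN' : ∀ U : X'.affineOpens, CAlg.IsNagata Γ(X', U.1) :=
    isNagata_affineOpens_of_locallyOfFiniteType b hN
  have hfin := Groth.Agent.Lib.NormNagataDelta84.isFinite_normalizationι_of_nagata X' hN'
  exact ⟨(Groth.Agent.Lib.NormalizationChar.normalization_props X').1,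
    isNagata_affineOpens_of_locallyOfFiniteType (Curv2.normalizationι X') hN', inferInstance⟩

end Groth.Agent.Lib.NormBlowUpNagata84
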