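import Groth.Agent.Lib.NormBasisH3
import Mathlib.RingTheory.Norm.Basic
import Mathlib.LinearAlgebra.Charpoly.BaseChange

/-!
# helper3: the norm of a finite locally free morphism on charts (namespace `Groth.Agent.Lib.NormChartH3`)

For `g : X' ⟶ X` put `E g = g_* O_{X'}`.  An open `W` of `X` is a *chart* (`IsChart g W`) if it is contained
in an open over which `E g` has a basis.  On a chart `Γ(X', g⁻¹W)` is a finite free `Γ(X, W)`-algebra and
`nrm g W : Γ(X', g⁻¹W) →* Γ(X, W)` is its norm.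

* `exists_norm_eq_mul` (algebra): `algebraMap (norm α) = α * c` for some `c` (Cayley–Hamilton).
* `nrm_rf`: the norm commutes with restriction to smaller opens (inside a chart).
* `nrm_app`: `nrm (g^♯ t) = t ^ n` over an open with a basis of `n` elements.
* `exists_nrm_eq_mul`: `g^♯ (nrm s) = s * c`.
* `exists_isChart`: charts form a basis of the topology when `E g` is finite locally free.
-/

set_option autoImplicit false
universe u
open CategoryTheory CategoryTheory.Limits AlgebraicGeometry Opposite TopologicalSpace Polynomial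
open Groth.Agent.Lib.H90Invertible Groth.Agent.Lib.StructureModule Groth.Agent.Lib.H78TensorGen
open Groth.Agent.Lib.H78SecCoord Groth.Agent.Lib.NormBasisH3

namespace Groth.Agent.Lib.NormChartH3

theorem exists_norm_eq_mul {R S : Type*} [CommRing R] [CommRing S] [Algebra R S] [Module.Finite R S]
    [Module.Free R S] (α : S) : ∃ c : S, algebraMap R S (Algebra.norm R α) = α * c := by
  have h0 := Algebra.aeval_self_charpoly_lmul (R := R) α
  set p := (Algebra.lmul R S α).charpoly with hp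
  have hp' : p = p.divX * X + C (p.coeff 0) := (Polynomial.divX_mul_X_add p).symm
  rw [hp'] at h0
  simp only [map_add, map_mul, aeval_X, aeval_C] at h0
  refine ⟨(-1) ^ (Module.finrank R S + 1) * aeval α p.divX, ?_⟩
  rw [Algebra.norm_apply, LinearMap.det_eq_sign_charpoly_coeff, ← hp, map_mul, map_pow, map_neg, map_one,
    eq_neg_of_add_eq_zero_right h0]
  ring

variable {X' X : Scheme.{u}} (g : X' ⟶ X)

/-- `g_* O_{X'}` -/
noncomputable abbrev E : X.Modules := (Scheme.Modules.pushforward g).obj (Coh.structureModule X')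

/-- the algebra structure on functions over the preimage of an open -/
noncomputable abbrev algW (W : X.Opens) : Algebra Γ(X, W) Γ(X', g ⁻¹ᵁ W) := (g.app W).hom.toAlgebra

/-- sections of `g_* O_{X'}` as functions -/
def toFn (W : X.Opens) (z : Γ(E g, W)) : Γ(X', g ⁻¹ᵁ W) := z

/-- functions as sections of `g_* O_{X'}` -/
def ofFn (W : X.Opens) (b : Γ(X', g ⁻¹ᵁ W)) : Γ(E g, W) := b

lemma toFn_ofFn (W : X.Opens) (b : Γ(X', g ⁻¹ᵁ W)) : toFn g W (ofFn g W b) = b := rfl
lemma ofFn_toFn (W : X.Opens) (z : Γ(E g, W)) : ofFn g W (toFn g W z) = z := rfl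

/-- restriction of functions upstairs along an inclusion of opens downstairs -/
noncomputable abbrev rfU {W W' : X.Opens} (h : W' ≤ W) : Γ(X', g ⁻¹ᵁ W) →+* Γ(X', g ⁻¹ᵁ W') :=
  (X'.presheaf.map (homOfLE (g.preimage_mono h)).op).hom

/-- restriction of functions downstairs -/
noncomputable abbrev rfD {W W' : X.Opens} (h : W' ≤ W) : Γ(X, W) →+* Γ(X, W') :=
  (X.presheaf.map (homOfLE h).op).hom

lemma toFn_smul (W : X.Opens) (a : Γ(X, W)) (z : Γ(E g, W)) :
    toFn g W (a • z) = g.app W a * toFn g W z := rfl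

lemma toFn_add (W : X.Opens) (z z' : Γ(E g, W)) :
    toFn g W (z + z') = toFn g W z + toFn g W z' := rfl

lemma toFn_rs {W W' : X.Opens} (h : W' ≤ W) (z : Γ(E g, W)) :
    toFn g W' (rs (E g) h z) = rfU g h (toFn g W z) := rfl

lemma toFn_sum (W : X.Opens) {ι : Type*} (s : Finset ι) (z : ι → Γ(E g, W)) :
    toFn g W (∑ i ∈ s, z i) = ∑ i ∈ s, toFn g W (z i) := by
  classical
  induction s using Finset.induction_on with
  | empty => rfl
  | insert i s hi ih => rw [Finset.sum_insert hi, Finset.sum_insert hi, toFn_add, ih]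

lemma rfU_app {W W' : X.Opens} (h : W' ≤ W) (a : Γ(X, W)) :
    rfU g h (g.app W a) = g.app W' (rfD h a) := by
  have := g.naturality (homOfLE h).op
  exact (congrArg (fun φ => (ConcreteCategory.hom φ) a) this).symm

/-- the norm of `Γ(X', g⁻¹W)` over `Γ(X, W)` (meaningful over charts) -/
noncomputable def nrm (W : X.Opens) : Γ(X', g ⁻¹ᵁ W) →* Γ(X, W) :=
  @Algebra.norm Γ(X, W) Γ(X', g ⁻¹ᵁ W) _ _ (algW g W)

section Basis

variable {g} {V : X.Opens} {n : ℕ} {e : Fin n → Γ(E g, V)} (he : IsBasisOn (E g) V e)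

include he in
theorem exists_basis {W : X.Opens} (hW : W ≤ V) :
    letI := algW g W
    ∃ b : Module.Basis (Fin n) Γ(X, W) Γ(X', g ⁻¹ᵁ W), ∀ i, b i = toFn g W (rs (E g) hW (e i)) := by
  letI := algW g W
  let v : Fin n → Γ(X', g ⁻¹ᵁ W) := fun i => toFn g W (rs (E g) hW (e i))
  have hcomb : ∀ a : Fin n → Γ(X, W), Fintype.linearCombination Γ(X, W) v a =
      toFn g W (comb (E g) e hW a) := by
    intro a
    rw [Fintype.linearCombination_apply]
    unfold comb
    rw [toFn_sum]
    rfl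
  have hli : LinearIndependent Γ(X, W) v := by
    rw [linearIndependent_iff_injective_fintypeLinearCombination]
    intro a a' h
    rw [hcomb, hcomb] at h
    exact (he W hW).1 h
  have hsp : ⊤ ≤ Submodule.span Γ(X, W) (Set.range v) := by
    rw [← Fintype.range_linearCombination]
    intro y _
    obtain ⟨a, ha⟩ := (he W hW).2 (ofFn g W y)
    exact ⟨a, by rw [hcomb, ha]; rfl⟩
  exact ⟨Module.Basis.mk hli hsp, fun i => Module.Basis.mk_apply hli hsp i⟩

include he in
/-- the norm commutes with restriction inside an open with a basis -/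
theorem nrm_rf_of_basis {W W' : X.Opens} (hW : W ≤ V) (h : W' ≤ W) (s : Γ(X', g ⁻¹ᵁ W)) :
    rfD h (nrm g W s) = nrm g W' (rfU g h s) := by
  classical
  letI := algW g W
  letI algW' := algW g W'
  obtain ⟨b, hb⟩ := exists_basis he hW
  obtain ⟨b', hb'⟩ := exists_basis he (h.trans hW)
  have hbb' : ∀ i, b' i = rfU g h (b i) := by
    intro i
    rw [hb, hb', ← toFn_rs, rs_rs]
  have hsmul : ∀ (a : Γ(X, W)) (y : Γ(X', g ⁻¹ᵁ W)), rfU g h (a • y) = rfD h a • rfU g h y := by
    intro a y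
    change rfU g h (g.app W a * y) = g.app W' (rfD h a) * rfU g h y
    rw [map_mul, rfU_app]
  have hrepr : ∀ (y : Γ(X', g ⁻¹ᵁ W)) (i : Fin n), b'.repr (rfU g h y) i = rfD h (b.repr y i) := by
    intro y i
    have hy : rfU g h y = ∑ j, rfD h (b.repr y j) • b' j := by
      conv_lhs => rw [← b.sum_repr y]
      rw [map_sum]
      refine Finset.sum_congr rfl (fun j _ => ?_)
      rw [hsmul, hbb']
    rw [hy, b'.repr_sum_self]
  unfold nrm
  rw [Algebra.norm_eq_matrix_det b, Algebra.norm_eq_matrix_det b', RingHom.map_det]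
  congr 1
  ext i j
  rw [RingHom.mapMatrix_apply, Matrix.map_apply, Algebra.leftMulMatrix_eq_repr_mul,
    Algebra.leftMulMatrix_eq_repr_mul, hbb', ← map_mul, hrepr]

include he in
theorem nrm_app_of_basis {W : X.Opens} (hW : W ≤ V) (t : Γ(X, W)) :
    nrm g W (g.app W t) = t ^ n := by
  letI := algW g W
  obtain ⟨b, -⟩ := exists_basis he hW
  have := Algebra.norm_algebraMap_of_basis b t
  rw [Fintype.card_fin] at this
  exact this

include he in
theorem exists_nrm_eq_mul_of_basis {W : X.Opens} (hW : W ≤ V) (s : Γ(X', g ⁻¹ᵁ W)) :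
    ∃ c : Γ(X', g ⁻¹ᵁ W), g.app W (nrm g W s) = s * c := by
  letI := algW g W
  obtain ⟨b, -⟩ := exists_basis he hW
  haveI : Module.Free Γ(X, W) Γ(X', g ⁻¹ᵁ W) := Module.Free.of_basis b
  haveI : Module.Finite Γ(X, W) Γ(X', g ⁻¹ᵁ W) := Module.Finite.of_basis b
  exact exists_norm_eq_mul (R := Γ(X, W)) s

end Basis

/-- `W` is a chart: it is contained in an open over which `g_* O_{X'}` has a basis -/
def IsChart (W : X.Opens) : Prop :=
  ∃ (V : X.Opens) (n : ℕ) (e : Fin n → Γ(E g, V)), W ≤ V ∧ IsBasisOn (E g) V e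

variable {g}

theorem IsChart.mono {W W' : X.Opens} (hW : IsChart g W) (h : W' ≤ W) : IsChart g W' := by
  obtain ⟨V, n, e, hWV, he⟩ := hW
  exact ⟨V, n, e, h.trans hWV, he⟩

theorem nrm_rf {W W' : X.Opens} (hW : IsChart g W) (h : W' ≤ W) (s : Γ(X', g ⁻¹ᵁ W)) :
    rfD h (nrm g W s) = nrm g W' (rfU g h s) := by
  obtain ⟨V, n, e, hWV, he⟩ := hW
  exact nrm_rf_of_basis he hWV h s

theorem exists_nrm_eq_mul {W : X.Opens} (hW : IsChart g W) (s : Γ(X', g ⁻¹ᵁ W)) :
    ∃ c : Γ(X', g ⁻¹ᵁ W), g.app W (nrm g W s) = s * c := by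
  obtain ⟨V, n, e, hWV, he⟩ := hW
  exact exists_nrm_eq_mul_of_basis he hWV s

/-- charts form a basis of the topology -/
theorem exists_isChart (hE : FlatMod.IsFinLocFree (E g)) {U : X.Opens} {x : X} (hx : x ∈ U) :
    ∃ W : X.Opens, x ∈ W ∧ W ≤ U ∧ IsChart g W := by
  obtain ⟨V, n, e, hxV, he⟩ := exists_isBasisOn hE x
  exact ⟨V ⊓ U, ⟨hxV, hx⟩, inf_le_right, V, n, e, inf_le_left, he⟩

/-- two bases over opens with a common point have the same number of elements -/
theorem card_eq_of_isBasisOn {V V' : X.Opens} {n n' : ℕ} {e : Fin n → Γ(E g, V)} {e' : Fin n' → Γ(E g, V')}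
    (he : IsBasisOn (E g) V e) (he' : IsBasisOn (E g) V' e') {x : X} (hx : x ∈ V ⊓ V') : n = n' := by
  letI := algW g (V ⊓ V')
  obtain ⟨b, -⟩ := exists_basis he (inf_le_left : V ⊓ V' ≤ V)
  obtain ⟨b', -⟩ := exists_basis he' (inf_le_right : V ⊓ V' ≤ V')
  haveI : Nonempty ↥(V ⊓ V') := ⟨⟨x, hx⟩⟩
  haveI : Nontrivial Γ(X, V ⊓ V') := inferInstance
  have := Fintype.card_congr (b.indexEquiv b')
  simpa using this

/-- if `g` is surjective, bases of `g_* O_{X'}` over nonempty opens are nonempty -/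
theorem one_le_of_isBasisOn [Surjective g] {V : X.Opens} {n : ℕ} {e : Fin n → Γ(E g, V)}
    (he : IsBasisOn (E g) V e) {x : X} (hx : x ∈ V) : 1 ≤ n := by
  by_contra hn
  have hn0 : n = 0 := by omega
  subst hn0
  letI := algW g V
  obtain ⟨b, -⟩ := exists_basis he (le_refl V)
  haveI : Subsingleton Γ(X', g ⁻¹ᵁ V) := by
    constructor
    intro y y'
    apply b.repr.injective
    ext i
    exact Fin.elim0 i
  obtain ⟨x', rfl⟩ := g.surjective x
  have h1 : X'.basicOpen (1 : Γ(X', g ⁻¹ᵁ V)) = g ⁻¹ᵁ V := X'.basicOpen_of_isUnit isUnit_one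
  have h2 : X'.basicOpen (0 : Γ(X', g ⁻¹ᵁ V)) = ⊥ := X'.basicOpen_zero _
  rw [Subsingleton.elim (1 : Γ(X', g ⁻¹ᵁ V)) 0, h2] at h1
  have : x' ∈ (⊥ : X'.Opens) := by rw [h1]; exact hx
  exact this

end Groth.Agent.Lib.NormChartH3
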