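import Mathlib

/-!
# A DVR criterion (Stacks-style)

`isDVR_of_integrallyClosedIn_away`: a Noetherian reduced local ring `D` of dimension one which is
integrally closed in `D[1/g]` for some `g` in the maximal ideal outside all minimal primes is a
discrete valuation ring.
-/

set_option autoImplicit false
set_option linter.style.haveILetI false

namespace Groth.Agent.Lib.NormDVR96

open IsLocalRing

theorem isDVR_of_integrallyClosedIn_away (D : Type*) [CommRing D] [IsNoetherianRing D]
    [IsLocalRing D] [IsReduced D] (hdim : ringKrullDim D = 1) (g : D)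
    (hgm : g ∈ maximalIdeal D) (hg : ∀ q ∈ minimalPrimes D, g ∉ q)
    (hcl : ∀ t : Localization.Away g, IsIntegral D t →
      t ∈ (algebraMap D (Localization.Away g)).range) :
    ∃ _ : IsDomain D, IsDiscreteValuationRing D := by
  have hnzd : g ∈ nonZeroDivisors D := by
    rw [mem_nonZeroDivisors_iff_right]
    intro x hx
    have hx' : x ∈ nilradical D := by
      rw [nilradical_eq_sInf, Ideal.mem_sInf]
      intro J hJ
      haveI : J.IsPrime := hJ
      obtain ⟨q, hq, hqJ⟩ := Ideal.exists_minimalPrimes_le (bot_le : ⊥ ≤ J)
      have hxq : x * g ∈ q := by rw [hx]; exact q.zero_mem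
      exact hqJ ((hq.1.1.mem_or_mem hxq).resolve_right (hg q hq))
    rwa [nilradical_eq_zero, Ideal.zero_eq_bot, Ideal.mem_bot] at hx'
  have hinj : Function.Injective (algebraMap D (Localization.Away g)) :=
    IsLocalization.injective (Localization.Away g) (Submonoid.powers_le.mpr hnzd)
  have hmh : (maximalIdeal D).height = 1 := by
    have := IsLocalRing.maximalIdeal_height_eq_ringKrullDim (R := D)
    rw [hdim] at this
    exact_mod_cast this
  have hmin : ∀ q : Ideal D, q.IsPrime → q ≠ maximalIdeal D → q ∈ minimalPrimes D := by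
    intro q hq hne
    have hlt : q < maximalIdeal D := lt_of_le_of_ne (IsLocalRing.le_maximalIdeal hq.ne_top) hne
    have h1 := Ideal.height_add_one_le_of_lt_of_isPrime hlt
    rw [hmh] at h1
    have h0 : q.height = 0 := by
      have h2 : q.height + 1 ≤ 0 + 1 := by simpa using h1
      have h3 := (ENat.add_le_add_iff_right (by simp : (1 : ℕ∞) ≠ ⊤)).mp h2
      exact le_antisymm h3 (by simp)
    exact Ideal.height_eq_zero_iff.mp h0
  have hgne : ∀ P : Ideal (Localization.Away g), P.IsPrime →
      P.comap (algebraMap D (Localization.Away g)) ≠ maximalIdeal D := by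
    intro P hP heq
    have hgP : algebraMap D (Localization.Away g) g ∈ P := by
      have : g ∈ P.comap (algebraMap D (Localization.Away g)) := heq ▸ hgm
      exact this
    exact hP.ne_top (Ideal.eq_top_of_isUnit_mem _ hgP (IsLocalization.Away.algebraMap_isUnit g))
  haveI : Ring.KrullDimLE 0 (Localization.Away g) := Ring.KrullDimLE.mk₀ (fun Q hQ => by
    obtain ⟨Q', hQ'max, hQQ'⟩ := Ideal.exists_le_maximal Q hQ.ne_top
    have h2 := hmin _ (hQ'max.isPrime.comap _) (hgne Q' hQ'max.isPrime)
    have hle : Q.comap (algebraMap D (Localization.Away g)) ≤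
        Q'.comap (algebraMap D (Localization.Away g)) := Ideal.comap_mono hQQ'
    have heq : Q.comap (algebraMap D (Localization.Away g)) =
        Q'.comap (algebraMap D (Localization.Away g)) :=
      le_antisymm hle (h2.2 ⟨hQ.comap _, bot_le⟩ hle)
    have : Q = Q' := by
      have e1 := IsLocalization.map_under (Submonoid.powers g) (Localization.Away g) Q
      have e2 := IsLocalization.map_under (Submonoid.powers g) (Localization.Away g) Q'
      rw [← e1, ← e2]
      exact congrArg (Ideal.map (algebraMap D (Localization.Away g))) heq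
    rw [this]
    exact hQ'max)
  haveI : IsArtinianRing (Localization.Away g) :=
    isArtinianRing_iff_isNoetherianRing_krullDimLE_zero.mpr ⟨inferInstance, inferInstance⟩
  haveI : Nontrivial (Localization.Away g) := hinj.nontrivial
  have hsub : ∀ P Q : PrimeSpectrum (Localization.Away g), Q = P := by
    intro P Q
    have hclopen : IsClopen ({P} : Set (PrimeSpectrum (Localization.Away g))) :=
      isClopen_discrete _
    obtain ⟨e, he, heq⟩ := PrimeSpectrum.isClopen_iff.mp hclopen
    have hint : IsIntegral D e := by
      refine ⟨Polynomial.X ^ 2 - Polynomial.X, Polynomial.monic_X_pow_sub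
        (by simp), ?_⟩
      have := he.eq
      simp [pow_two, this]
    obtain ⟨d, rfl⟩ := hcl e hint
    have hd : d * d = d := hinj (by rw [map_mul]; exact he.eq)
    rcases IsLocalRing.isUnit_or_isUnit_one_sub_self d with hu | hu
    · have hd1 : d = 1 := (hu.mul_right_inj).mp (by rw [hd, mul_one])
      have hQ : Q ∈ ({P} : Set (PrimeSpectrum (Localization.Away g))) := by
        rw [heq, hd1, map_one]
        simp
      exact hQ
    · have hd0 : d = 0 := by
        have h1 : (1 - d) * d = 0 := by rw [sub_mul, one_mul, hd, sub_self]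
        exact (hu.mul_right_eq_zero).mp h1
      have hP : P ∈ ({P} : Set (PrimeSpectrum (Localization.Away g))) := rfl
      rw [heq, hd0, map_zero] at hP
      simp at hP
  obtain ⟨M, hM⟩ := Ideal.exists_maximal (Localization.Away g)
  haveI : IsLocalRing (Localization.Away g) := IsLocalRing.of_unique_max_ideal
    ⟨M, hM, fun M' hM' => congrArg PrimeSpectrum.asIdeal
      (hsub ⟨M, hM.isPrime⟩ ⟨M', hM'.isPrime⟩)⟩
  have hF : IsField (Localization.Away g) :=
    IsArtinianRing.isField_of_isReduced_of_isLocalRing _
  letI := hF.toField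
  haveI : IsDomain D := hinj.isDomain (algebraMap D (Localization.Away g))
  haveI : FaithfulSMul D (Localization.Away g) :=
    (faithfulSMul_iff_algebraMap_injective D (Localization.Away g)).mpr hinj
  haveI : IsFractionRing D (Localization.Away g) := IsFractionRing.of_field D _ (fun z => by
    obtain ⟨x, ⟨_, n, rfl⟩, rfl⟩ := IsLocalization.exists_mk'_eq (Submonoid.powers g) z
    refine ⟨x, g ^ n, ?_⟩
    rw [IsLocalization.mk'_eq_iff_eq_mul, div_mul_cancel₀]
    have hu : IsUnit (algebraMap D (Localization.Away g) (g ^ n)) := by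
      rw [map_pow]
      exact (IsLocalization.Away.algebraMap_isUnit g).pow n
    exact hu.ne_zero)
  have hIC : IsIntegrallyClosed D :=
    (isIntegrallyClosed_iff (Localization.Away g)).mpr (fun {x} hx => hcl x hx)
  have hP : ∀ P : Ideal D, P ≠ ⊥ → P.IsPrime → P = maximalIdeal D := by
    intro P hPne hPp
    by_contra hne
    have h1 := hmin P hPp hne
    rw [IsDomain.minimalPrimes_eq_singleton_bot] at h1
    exact hPne h1
  have h30 := (tfae_of_isNoetherianRing_of_isLocalRing_of_isDomain D).out 3 0
  haveI : IsPrincipalIdealRing D := h30.mp ⟨hIC, hP⟩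
  refine ⟨inferInstance, { not_a_field' := ?_ }⟩
  intro h0
  have : g = 0 := by rw [h0] at hgm; exact hgm
  exact nonZeroDivisors.ne_zero hnzd this

end Groth.Agent.Lib.NormDVR96
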