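import Groth.Agent.Lib.NormDVR96A

/-!
# Localizing "integrally closed in" and the DVR criterion for relative normalizations
-/

set_option autoImplicit false
set_option linter.style.haveILetI false

namespace Groth.Agent.Lib.NormDVR96

section Loc

variable {A B : Type*} [CommRing A] [CommRing B] [Algebra A B] (M : Submonoid A)
  (AM BM : Type*) [CommRing AM] [CommRing BM] [Algebra A AM] [IsLocalization M AM]
  [Algebra B BM] [IsLocalization (Algebra.algebraMapSubmonoid B M) BM]
  [Algebra AM BM] [Algebra A BM] [IsScalarTower A AM BM] [IsScalarTower A B BM]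

include M in
theorem injective_of_isLocalization (hinj : Function.Injective (algebraMap A B)) :
    Function.Injective (algebraMap AM BM) := by
  rw [injective_iff_map_eq_zero]
  intro z hz
  obtain ⟨a, s, rfl⟩ := IsLocalization.exists_mk'_eq M z
  have h1 : algebraMap A BM a = 0 := by
    have := IsLocalization.mk'_spec AM a s
    have h2 := congrArg (algebraMap AM BM) this
    rw [map_mul, hz, zero_mul, ← IsScalarTower.algebraMap_apply] at h2
    exact h2.symm
  rw [IsScalarTower.algebraMap_apply A B BM,
    IsLocalization.map_eq_zero_iff (Algebra.algebraMapSubmonoid B M)] at h1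
  obtain ⟨⟨_, m, hm, rfl⟩, h⟩ := h1
  have h3 : m * a = 0 := hinj (by rw [map_mul, map_zero]; exact h)
  exact (IsLocalization.mk'_eq_zero_iff a s).mpr ⟨⟨m, hm⟩, h3⟩

include M in
theorem mem_range_of_isIntegral_of_isLocalization
    (hcl : ∀ b : B, IsIntegral A b → b ∈ (algebraMap A B).range) (t : BM)
    (ht : IsIntegral AM t) : t ∈ (algebraMap AM BM).range := by
  obtain ⟨m, hm⟩ := IsIntegral.exists_multiple_integral_of_isLocalization M t ht
  obtain ⟨⟨x, ⟨_, m₁, hm₁, rfl⟩⟩, e⟩ :=
    IsLocalization.surj (Algebra.algebraMapSubmonoid B M) (m • t)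
  simp only at e
  have hx : IsIntegral A (algebraMap B BM x) := by
    rw [← e, ← IsScalarTower.algebraMap_apply A B BM]
    exact hm.mul isIntegral_algebraMap
  obtain ⟨m₃, hm₃, hm₃x⟩ :=
    IsLocalization.exists_isIntegral_smul_of_isIntegral_map (Sₘ := BM) M hx
  obtain ⟨a, ha⟩ := hcl _ hm₃x
  refine ⟨IsLocalization.mk' AM a (m * ⟨m₁, hm₁⟩ * ⟨m₃, hm₃⟩), ?_⟩
  have hunit : IsUnit (algebraMap A BM ((m * ⟨m₁, hm₁⟩ * ⟨m₃, hm₃⟩ : M) : A)) := by
    rw [IsScalarTower.algebraMap_apply A AM BM]
    exact (IsLocalization.map_units AM (m * ⟨m₁, hm₁⟩ * ⟨m₃, hm₃⟩ : M)).map (algebraMap AM BM)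
  apply hunit.mul_right_cancel
  have h1 : algebraMap AM BM (IsLocalization.mk' AM a (m * ⟨m₁, hm₁⟩ * ⟨m₃, hm₃⟩)) *
      algebraMap A BM ((m * ⟨m₁, hm₁⟩ * ⟨m₃, hm₃⟩ : M) : A) = algebraMap A BM a := by
    rw [IsScalarTower.algebraMap_apply A AM BM, ← map_mul, IsLocalization.mk'_spec,
      ← IsScalarTower.algebraMap_apply]
  rw [h1, IsScalarTower.algebraMap_apply A B BM a, ha]
  simp only [Submonoid.coe_mul, map_mul, Algebra.smul_def, Submonoid.smul_def] at e ⊢
  rw [← IsScalarTower.algebraMap_apply A B BM m₃, ← e,
    ← IsScalarTower.algebraMap_apply A B BM m₁]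
  ring

end Loc

open IsLocalRing in
theorem isDVR_localization_atPrime {A B : Type*} [CommRing A] [CommRing B] [Algebra A B]
    [IsNoetherianRing A] [IsReduced A]
    (hinj : Function.Injective (algebraMap A B))
    (hcl : ∀ b : B, IsIntegral A b → b ∈ (algebraMap A B).range)
    (p : Ideal A) [p.IsPrime] (hdim : ringKrullDim (Localization.AtPrime p) = 1)
    (hgeom : ∀ g ∈ p, (∀ q ∈ minimalPrimes A, g ∉ q) →
      ∃ h, h ∉ p ∧ ∃ (u : B) (n : ℕ), algebraMap A B g * u = algebraMap A B h ^ n) :
    ∃ _ : IsDomain (Localization.AtPrime p),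
      IsDiscreteValuationRing (Localization.AtPrime p) := by
  classical
  have hht : p.height = 1 := by
    have := IsLocalization.AtPrime.ringKrullDim_eq_height p (Localization.AtPrime p)
    rw [hdim] at this
    exact_mod_cast this.symm
  have hpmin : p ∉ minimalPrimes A := fun h => by
    rw [← Ideal.height_eq_zero_iff] at h
    rw [h] at hht
    exact zero_ne_one hht
  obtain ⟨g, hgp, hg⟩ : ∃ g ∈ p, ∀ q ∈ minimalPrimes A, g ∉ q := by
    by_contra hcon
    push Not at hcon
    have hfin : (minimalPrimes A).Finite := minimalPrimes.finite_of_isNoetherianRing A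
    have hsub : (p : Set A) ⊆ ⋃ q ∈ (hfin.toFinset : Set (Ideal A)), ((fun q => q) q : Set A) := by
      intro x hx
      obtain ⟨q, hq, hxq⟩ := hcon x hx
      simp only [Set.mem_iUnion]
      exact ⟨q, by simpa using hq, hxq⟩
    obtain ⟨q, hq, hpq⟩ := (Ideal.subset_union_prime (s := hfin.toFinset) (f := fun q => q) p p
      (fun q hq _ _ => (hfin.mem_toFinset.mp hq).1.1)).mp hsub
    have hq' := hfin.mem_toFinset.mp hq
    have hqp : q ≤ p := hq'.2 ⟨inferInstance, bot_le⟩ hpq
    exact hpmin (le_antisymm hpq hqp ▸ hq')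
  obtain ⟨h, hh, u, n, hu⟩ := hgeom g hgp hg
  have hinjM : Function.Injective (algebraMap (Localization.AtPrime p)
      (Localization (Algebra.algebraMapSubmonoid B p.primeCompl))) :=
    injective_of_isLocalization p.primeCompl _ _ hinj
  have hclM : ∀ t : Localization (Algebra.algebraMapSubmonoid B p.primeCompl),
      IsIntegral (Localization.AtPrime p) t →
      t ∈ (algebraMap (Localization.AtPrime p)
        (Localization (Algebra.algebraMapSubmonoid B p.primeCompl))).range :=
    mem_range_of_isIntegral_of_isLocalization p.primeCompl _ _ hcl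
  have hgm : algebraMap A (Localization.AtPrime p) g ∈ maximalIdeal (Localization.AtPrime p) :=
    (IsLocalization.AtPrime.to_map_mem_maximal_iff (Localization.AtPrime p) p g).mpr hgp
  have hgmin : ∀ q ∈ minimalPrimes (Localization.AtPrime p),
      algebraMap A (Localization.AtPrime p) g ∉ q := by
    intro q hq hgq
    have hqp : q.IsPrime := hq.1.1
    have hcp : q.comap (algebraMap A (Localization.AtPrime p)) ≤ p := by
      intro x hx
      by_contra hxp
      exact hqp.ne_top (Ideal.eq_top_of_isUnit_mem _ hx
        (IsLocalization.map_units (Localization.AtPrime p) (⟨x, hxp⟩ : p.primeCompl)))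
    have hc : q.comap (algebraMap A (Localization.AtPrime p)) ∈ minimalPrimes A := by
      refine ⟨⟨hqp.comap _, bot_le⟩, fun q' hq' hle => ?_⟩
      have hq'p : q'.IsPrime := hq'.1
      have hdisj : Disjoint (p.primeCompl : Set A) (q' : Set A) := by
        rw [Set.disjoint_left]
        intro x hx hxq
        exact hx (hcp (hle hxq))
      have hmap : (q'.map (algebraMap A (Localization.AtPrime p))).IsPrime :=
        IsLocalization.isPrime_of_isPrime_disjoint p.primeCompl _ q' hq'p hdisj
      have hle' : q'.map (algebraMap A (Localization.AtPrime p)) ≤ q :=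
        Ideal.map_le_iff_le_comap.mpr hle
      have h1 := hq.2 ⟨hmap, bot_le⟩ hle'
      have h2 := IsLocalization.under_map_of_isPrime_disjoint p.primeCompl
        (Localization.AtPrime p) hq'p hdisj
      calc q.comap (algebraMap A (Localization.AtPrime p))
          ≤ (q'.map (algebraMap A (Localization.AtPrime p))).comap
            (algebraMap A (Localization.AtPrime p)) := Ideal.comap_mono h1
        _ = q' := h2
    exact hg _ hc hgq
  have hunit : IsUnit (algebraMap (Localization.AtPrime p)
      (Localization (Algebra.algebraMapSubmonoid B p.primeCompl))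
      (algebraMap A (Localization.AtPrime p) g)) := by
    rw [← IsScalarTower.algebraMap_apply A (Localization.AtPrime p),
      IsScalarTower.algebraMap_apply A B]
    have h1 : IsUnit (algebraMap B (Localization (Algebra.algebraMapSubmonoid B p.primeCompl))
        (algebraMap A B h ^ n)) := by
      rw [map_pow]
      exact (IsLocalization.map_units _
        (⟨algebraMap A B h, h, hh, rfl⟩ : Algebra.algebraMapSubmonoid B p.primeCompl)).pow n
    rw [← hu, map_mul] at h1
    exact isUnit_of_mul_isUnit_left h1
  let ψ : Localization.Away (algebraMap A (Localization.AtPrime p) g) →+*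
      Localization (Algebra.algebraMapSubmonoid B p.primeCompl) :=
    IsLocalization.Away.lift (algebraMap A (Localization.AtPrime p) g) hunit
  have hψ : ∀ d, ψ (algebraMap (Localization.AtPrime p) _ d) =
      algebraMap (Localization.AtPrime p) _ d := IsLocalization.Away.lift_eq _ hunit
  have hψinj : Function.Injective ψ := by
    rw [injective_iff_map_eq_zero]
    intro z hz
    obtain ⟨d, s, rfl⟩ := IsLocalization.exists_mk'_eq
      (Submonoid.powers (algebraMap A (Localization.AtPrime p) g)) z
    have h1 := IsLocalization.mk'_spec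
      (Localization.Away (algebraMap A (Localization.AtPrime p) g)) d s
    have h2 := congrArg ψ h1
    rw [map_mul, hz, zero_mul, hψ] at h2
    have hd : d = 0 := hinjM (by rw [← h2, map_zero])
    rw [hd, IsLocalization.mk'_zero]
  exact isDVR_of_integrallyClosedIn_away (Localization.AtPrime p) hdim
    (algebraMap A (Localization.AtPrime p) g) hgm hgmin (fun t ht => by
      have h1 : IsIntegral (Localization.AtPrime p) (ψ t) :=
        ht.map_of_comp_eq (RingHom.id _) ψ (by ext d; simp [hψ])
      obtain ⟨d, hd⟩ := hclM _ h1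
      exact ⟨d, hψinj (by rw [hψ, hd])⟩)

end Groth.Agent.Lib.NormDVR96
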