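import Groth.Agent.Lib.NormDVR96B
import Mathlib.AlgebraicGeometry.Morphisms.QuasiSeparated
import Mathlib.AlgebraicGeometry.Morphisms.QuasiCompact
import Mathlib.AlgebraicGeometry.AffineScheme

/-!
# Spreading out emptiness of a fibre: the unit relation
-/

set_option autoImplicit false
set_option linter.style.haveILetI false
universe u

open CategoryTheory CategoryTheory.Limits AlgebraicGeometry TopologicalSpace

namespace Groth.Agent.Lib.NormDVR96

theorem exists_unit_relation {Y N : Scheme.{u}} (τ : Y ⟶ N) [QuasiCompact τ] [QuasiSeparated τ]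
    (W' : N.Opens) (hW' : IsAffineOpen W') (x' : N) (hx'W : x' ∈ W')
    (hx' : x' ∉ Set.range τ.base)
    (hht : (hW'.primeIdealOf ⟨x', hx'W⟩).asIdeal.height = 1)
    (g : Γ(N, W')) (_hgp : g ∈ (hW'.primeIdealOf ⟨x', hx'W⟩).asIdeal)
    (hg : ∀ q ∈ minimalPrimes Γ(N, W'), g ∉ q) :
    ∃ h, h ∉ (hW'.primeIdealOf ⟨x', hx'W⟩).asIdeal ∧
      ∃ (u : Γ(Y, τ ⁻¹ᵁ W')) (n : ℕ), (τ.app W').hom g * u = (τ.app W').hom h ^ n := by
  classical
  have hWc : IsCompact (τ ⁻¹ᵁ W' : Set Y) := τ.isCompact_preimage hW'.isCompact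
  have hWqs : IsQuasiSeparated (τ ⁻¹ᵁ W' : Set Y) :=
    τ.isQuasiSeparated_preimage hW'.isQuasiSeparated
  obtain ⟨s, hsfin, hs⟩ := isCompact_iff_finite_and_eq_biUnion_affineOpens.mp hWc
  have hle : ∀ V : Y.affineOpens, V ∈ s → V.1 ≤ τ ⁻¹ᵁ W' := fun V hV => by
    rw [hs]
    exact le_iSup₂ (f := fun i (_ : i ∈ s) => (i : Y.Opens)) V hV
  have key : ∀ V : Y.affineOpens, ∀ hV : V ∈ s, ∃ hh : Γ(N, W'),
      hh ∉ (hW'.primeIdealOf ⟨x', hx'W⟩).asIdeal ∧ ∃ b : Γ(Y, V.1),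
        (τ.appLE W' V.1 (hle V hV)).hom hh = b * (τ.appLE W' V.1 (hle V hV)).hom g := by
    intro V hV
    by_contra hcon
    push Not at hcon
    have hsub : (Ideal.span {(τ.appLE W' V.1 (hle V hV)).hom g}).comap
        (τ.appLE W' V.1 (hle V hV)).hom ≤ (hW'.primeIdealOf ⟨x', hx'W⟩).asIdeal := by
      intro a ha
      by_contra hap
      obtain ⟨b, hb⟩ := Ideal.mem_span_singleton'.mp ha
      exact hcon a hap b hb.symm
    obtain ⟨q, hq₁, hq₂⟩ := Ideal.exists_minimalPrimes_le hsub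
    obtain ⟨Q, hQp, hQI, rfl⟩ :=
      Ideal.exists_comap_eq_of_mem_minimalPrimes (τ.appLE W' V.1 (hle V hV)).hom _ hq₁
    have hgq : g ∈ Q.comap (τ.appLE W' V.1 (hle V hV)).hom :=
      hQI (Ideal.mem_span_singleton_self _)
    rcases eq_or_lt_of_le hq₂ with heq | hlt
    · apply hx'
      have hyV : V.2.fromSpec ⟨Q, hQp⟩ ∈ V.1 := by
        have := Set.mem_range_self (f := V.2.fromSpec) ⟨Q, hQp⟩
        rwa [V.2.range_fromSpec] at this
      haveI := V.2.isOpenImmersion_fromSpec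
      have h1 : V.2.primeIdealOf ⟨V.2.fromSpec ⟨Q, hQp⟩, hyV⟩ = ⟨Q, hQp⟩ :=
        V.2.fromSpec.isOpenEmbedding.injective (V.2.fromSpec_primeIdealOf ⟨_, hyV⟩)
      have h2 := IsAffineOpen.comap_primeIdealOf_appLE W' hW' V.1 V.2 (hle V hV) hyV
      rw [h1] at h2
      have h3 : hW'.primeIdealOf ⟨τ (V.2.fromSpec ⟨Q, hQp⟩), hle V hV hyV⟩ =
          hW'.primeIdealOf ⟨x', hx'W⟩ := by
        rw [← h2]
        exact PrimeSpectrum.ext heq
      have h4 := congrArg hW'.fromSpec h3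
      rw [hW'.fromSpec_primeIdealOf, hW'.fromSpec_primeIdealOf] at h4
      exact ⟨_, h4⟩
    · haveI : (Q.comap (τ.appLE W' V.1 (hle V hV)).hom).IsPrime := hq₁.1.1
      have h1 := Ideal.height_add_one_le_of_lt_of_isPrime hlt
      rw [hht] at h1
      have h0 : (Q.comap (τ.appLE W' V.1 (hle V hV)).hom).height = 0 := by
        have h2 : (Q.comap (τ.appLE W' V.1 (hle V hV)).hom).height + 1 ≤ 0 + 1 := by
          simpa using h1
        have h3 := (ENat.add_le_add_iff_right (by simp : (1 : ℕ∞) ≠ ⊤)).mp h2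
        exact le_antisymm h3 (by simp)
      exact hg _ (Ideal.height_eq_zero_iff.mp h0) hgq
  choose! hh hhp b hb using key
  have hhp' : (∏ V ∈ hsfin.toFinset, hh V) ∉ (hW'.primeIdealOf ⟨x', hx'W⟩).asIdeal := by
    rw [Ideal.IsPrime.prod_mem_iff]
    rintro ⟨V, hV, hmem⟩
    exact hhp V (hsfin.mem_toFinset.mp hV) hmem
  have hbo : Y.basicOpen ((τ.app W').hom (∏ V ∈ hsfin.toFinset, hh V)) ≤
      Y.basicOpen ((τ.app W').hom g) := by
    intro y hy
    have hyW : y ∈ τ ⁻¹ᵁ W' := Y.basicOpen_le _ hy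
    rw [hs] at hyW
    obtain ⟨V, hV, hyV⟩ : ∃ V ∈ s, y ∈ V.1 := by
      simpa [Opens.mem_iSup] using hyW
    have e : ∀ a, (τ.appLE W' V.1 (hle V hV)).hom a =
        (Y.presheaf.map (homOfLE (hle V hV)).op).hom ((τ.app W').hom a) := fun a => rfl
    have h1 : y ∈ Y.basicOpen ((τ.appLE W' V.1 (hle V hV)).hom (∏ V ∈ hsfin.toFinset, hh V)) := by
      rw [e, Scheme.basicOpen_res]
      exact ⟨hyV, hy⟩
    have h2 : (τ.appLE W' V.1 (hle V hV)).hom (∏ V ∈ hsfin.toFinset, hh V) =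
        (τ.appLE W' V.1 (hle V hV)).hom g *
          (b V * (τ.appLE W' V.1 (hle V hV)).hom (∏ V' ∈ hsfin.toFinset.erase V, hh V')) := by
      rw [← Finset.mul_prod_erase _ _ (hsfin.mem_toFinset.mpr hV), map_mul, hb V hV]
      ring
    rw [h2, Scheme.basicOpen_mul] at h1
    have h3 := h1.1
    rw [e, Scheme.basicOpen_res] at h3
    exact h3.2
  have hDW : Y.basicOpen ((τ.app W').hom (∏ V ∈ hsfin.toFinset, hh V)) ≤ τ ⁻¹ᵁ W' :=
    Y.basicOpen_le _
  have hunit : IsUnit ((Y.presheaf.map (homOfLE hDW).op).hom ((τ.app W').hom g)) := by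
    refine Y.toRingedSpace.isUnit_of_isUnit_germ _ _ (fun x hx => ?_)
    have : x ∈ Y.basicOpen ((Y.presheaf.map (homOfLE hDW).op).hom ((τ.app W').hom g)) := by
      rw [Scheme.basicOpen_res]
      exact ⟨hx, hbo hx⟩
    exact (Y.mem_basicOpen _ x hx).mp this
  obtain ⟨v, hv⟩ := hunit.exists_right_inv
  obtain ⟨n, y, hy⟩ := exists_eq_pow_mul_of_isCompact_of_isQuasiSeparated Y (τ ⁻¹ᵁ W') hWc hWqs
    ((τ.app W').hom (∏ V ∈ hsfin.toFinset, hh V)) v
  have hres : ((τ.app W').hom g * y) |_ Y.basicOpen ((τ.app W').hom (∏ V ∈ hsfin.toFinset, hh V)) =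
      ((τ.app W').hom (∏ V ∈ hsfin.toFinset, hh V) ^ n) |_
        Y.basicOpen ((τ.app W').hom (∏ V ∈ hsfin.toFinset, hh V)) := by
    dsimp only [TopCat.Presheaf.restrictOpenCommRingCat_apply] at hy ⊢
    rw [map_mul, hy, map_pow]
    calc _ = ((Y.presheaf.map (homOfLE hDW).op).hom ((τ.app W').hom g) * v) *
        (Y.presheaf.map (homOfLE hDW).op).hom
          ((τ.app W').hom (∏ V ∈ hsfin.toFinset, hh V)) ^ n := by ring
      _ = _ := by rw [hv, one_mul]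
  obtain ⟨m, hm⟩ := exists_of_res_eq_of_qcqs hWc hWqs hres
  refine ⟨∏ V ∈ hsfin.toFinset, hh V, hhp', (τ.app W').hom (∏ V ∈ hsfin.toFinset, hh V) ^ m * y,
    m + n, ?_⟩
  rw [pow_add, ← hm]
  ring

end Groth.Agent.Lib.NormDVR96
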