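import Groth.Agent.Lib.NormDVR96C
import Groth.Agent.Lib.NagataNormFin96D

/-!
# DVR stalks of the relative normalization at codimension one points outside the image
(Stacks 0BXB-type statement)
-/

set_option autoImplicit false
set_option linter.style.haveILetI false
universe u

open CategoryTheory CategoryTheory.Limits AlgebraicGeometry TopologicalSpace

namespace Groth.Agent.Lib.NormDVR96

section Chart

variable {X Y : Scheme.{u}} (f : Y ⟶ X) [QuasiCompact f] [QuasiSeparated f]

theorem toNormalization_app_apply {U : X.Opens} (hU : IsAffineOpen U)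
    (a : Γ(f.normalization, f.fromNormalization ⁻¹ᵁ U)) :
    letI := (f.app U).hom.toAlgebra
    (f.toNormalization.app (f.fromNormalization ⁻¹ᵁ U)).hom a =
      (Y.presheaf.map (eqToHom (by simp [← Scheme.Hom.comp_preimage]) :
        f.toNormalization ⁻¹ᵁ f.fromNormalization ⁻¹ᵁ U ⟶ f ⁻¹ᵁ U).op).hom
        (((f.normalizationObjIso hU).hom.hom a : integralClosure Γ(X, U) Γ(Y, f ⁻¹ᵁ U)) :
          Γ(Y, f ⁻¹ᵁ U)) := by
  letI := (f.app U).hom.toAlgebra
  have h := f.toNormalization_app_preimage ⟨U, hU⟩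
  dsimp only at h
  rw [h]
  rfl

/-- On the chart over an affine open `U`, the ring map of `toNormalization` is injective. -/
theorem toNormalization_app_injective {U : X.Opens} (hU : IsAffineOpen U) :
    Function.Injective (f.toNormalization.app (f.fromNormalization ⁻¹ᵁ U)).hom := by
  letI := (f.app U).hom.toAlgebra
  intro a b hab
  rw [toNormalization_app_apply f hU, toNormalization_app_apply f hU] at hab
  have h1 := (ConcreteCategory.bijective_of_isIso (Y.presheaf.map (eqToHom
    (by simp [← Scheme.Hom.comp_preimage]) :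
      f.toNormalization ⁻¹ᵁ f.fromNormalization ⁻¹ᵁ U ⟶ f ⁻¹ᵁ U).op)).1 hab
  have h2 := Subtype.val_injective h1
  exact (ConcreteCategory.bijective_of_isIso (f.normalizationObjIso hU).hom).1 h2

/-- On the chart over an affine open `U`, the normalization is integrally closed in `Y`. -/
theorem mem_range_toNormalization_app {U : X.Opens} (hU : IsAffineOpen U)
    (b : Γ(Y, f.toNormalization ⁻¹ᵁ f.fromNormalization ⁻¹ᵁ U))
    (hb : (f.toNormalization.app (f.fromNormalization ⁻¹ᵁ U)).hom.IsIntegralElem b) :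
    b ∈ (f.toNormalization.app (f.fromNormalization ⁻¹ᵁ U)).hom.range := by
  letI := (f.app U).hom.toAlgebra
  have hρ := ConcreteCategory.bijective_of_isIso (Y.presheaf.map (eqToHom
    (by simp [← Scheme.Hom.comp_preimage]) :
      f.toNormalization ⁻¹ᵁ f.fromNormalization ⁻¹ᵁ U ⟶ f ⁻¹ᵁ U).op)
  obtain ⟨b₀, rfl⟩ := hρ.2 b
  have hι := ConcreteCategory.bijective_of_isIso (f.normalizationObjIso hU).hom
  -- `b₀` is integral over the integral closure
  have hb₀ : IsIntegral (integralClosure Γ(X, U) Γ(Y, f ⁻¹ᵁ U)) b₀ := by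
    obtain ⟨P, hPm, hP⟩ := hb
    refine ⟨P.map (f.normalizationObjIso hU).hom.hom, hPm.map _, ?_⟩
    apply hρ.1
    rw [map_zero, ← hP]
    rw [Polynomial.eval₂_map, Polynomial.hom_eval₂]
    congr 1
    ext a
    exact (toNormalization_app_apply f hU a).symm
  have hmem : b₀ ∈ integralClosure (integralClosure Γ(X, U) Γ(Y, f ⁻¹ᵁ U)) Γ(Y, f ⁻¹ᵁ U) := hb₀
  rw [integralClosure_idem] at hmem
  obtain ⟨c, rfl⟩ := hmem
  obtain ⟨a, rfl⟩ := hι.2 c
  exact ⟨a, toNormalization_app_apply f hU a⟩

end Chart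

/-- Stacks 0BXB-type statement: DVR stalks of the relative normalization at codimension one points
not in the image. -/
theorem isDVR_stalk_normalization {X Y : Scheme.{u}} (f : Y ⟶ X) [LocallyOfFiniteType f]
    [QuasiCompact f] [QuasiSeparated f] [IsReduced Y]
    (hX : ∀ U : X.affineOpens, CAlg.IsNagata Γ(X, U))
    (x' : ↥f.normalization) (hdim : ringKrullDim (f.normalization.presheaf.stalk x') = 1)
    (hx' : x' ∉ Set.range f.toNormalization.base) :
    ∃ _ : IsDomain (f.normalization.presheaf.stalk x'),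
      IsDiscreteValuationRing (f.normalization.presheaf.stalk x') := by
  obtain ⟨U, hU, hxU⟩ : ∃ U : X.Opens, IsAffineOpen U ∧ f.fromNormalization x' ∈ U := by
    obtain ⟨_, ⟨U, hU, rfl⟩, hxU, -⟩ := X.isBasis_affineOpens.exists_subset_of_mem_open
      (Set.mem_univ (f.fromNormalization x')) isOpen_univ
    exact ⟨U, hU, hxU⟩
  have hW' : IsAffineOpen (f.fromNormalization ⁻¹ᵁ U) := hU.preimage _
  have hx'W : x' ∈ f.fromNormalization ⁻¹ᵁ U := hxU
  haveI : IsFinite f.fromNormalization :=
    NagataNormFin96.isFinite_fromNormalization_of_nagata_of_finiteType f hX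
  haveI : IsNoetherianRing Γ(X, U) := (hX ⟨U, hU⟩).1
  haveI : IsNoetherianRing Γ(f.normalization, f.fromNormalization ⁻¹ᵁ U) := by
    letI := (f.fromNormalization.app U).hom.toAlgebra
    haveI : Module.Finite Γ(X, U) Γ(f.normalization, f.fromNormalization ⁻¹ᵁ U) :=
      f.fromNormalization.finite_app U hU
    exact IsNoetherianRing.of_finite Γ(X, U) Γ(f.normalization, f.fromNormalization ⁻¹ᵁ U)
  letI := (f.toNormalization.app (f.fromNormalization ⁻¹ᵁ U)).hom.toAlgebra
  letI := f.normalization.presheaf.algebra_section_stalk ⟨x', hx'W⟩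
  haveI : IsLocalization.AtPrime (f.normalization.presheaf.stalk x')
      (hW'.primeIdealOf ⟨x', hx'W⟩).asIdeal := hW'.isLocalization_stalk ⟨x', hx'W⟩
  let e : Localization.AtPrime (hW'.primeIdealOf ⟨x', hx'W⟩).asIdeal ≃ₐ[
      Γ(f.normalization, f.fromNormalization ⁻¹ᵁ U)] f.normalization.presheaf.stalk x' :=
    IsLocalization.algEquiv (hW'.primeIdealOf ⟨x', hx'W⟩).asIdeal.primeCompl _ _
  have hdim' : ringKrullDim (Localization.AtPrime (hW'.primeIdealOf ⟨x', hx'W⟩).asIdeal) = 1 :=
    (ringKrullDim_eq_of_ringEquiv e.toRingEquiv).trans hdim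
  have hht : (hW'.primeIdealOf ⟨x', hx'W⟩).asIdeal.height = 1 := by
    have := IsLocalization.AtPrime.ringKrullDim_eq_height (hW'.primeIdealOf ⟨x', hx'W⟩).asIdeal
      (Localization.AtPrime (hW'.primeIdealOf ⟨x', hx'W⟩).asIdeal)
    rw [hdim'] at this
    exact_mod_cast this.symm
  obtain ⟨hdom, hdvr⟩ := isDVR_localization_atPrime
    (A := Γ(f.normalization, f.fromNormalization ⁻¹ᵁ U))
    (B := Γ(Y, f.toNormalization ⁻¹ᵁ f.fromNormalization ⁻¹ᵁ U))
    (toNormalization_app_injective f hU) (fun b hb => mem_range_toNormalization_app f hU b hb)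
    (hW'.primeIdealOf ⟨x', hx'W⟩).asIdeal hdim'
    (fun g hgp hg => exists_unit_relation f.toNormalization _ hW' x' hx'W hx' hht g hgp hg)
  haveI := hdom
  haveI := hdvr
  haveI : IsDomain (f.normalization.presheaf.stalk x') :=
    MulEquiv.isDomain (Localization.AtPrime (hW'.primeIdealOf ⟨x', hx'W⟩).asIdeal)
      e.symm.toRingEquiv.toMulEquiv
  exact ⟨inferInstance, IsDiscreteValuationRing.RingEquivClass.isDiscreteValuationRing e⟩

end Groth.Agent.Lib.NormDVR96
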