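import Groth.Agent.Lib.NormGlueH3
import Groth.Agent.Lib.FinLocFreeMorRank

/-!
# helper3: the determinant norm of a finite locally free morphism of constant degree `d` has degree `d`
(namespace `Groth.Agent.Lib.NormDegH3`)
-/

set_option autoImplicit false
universe u
open CategoryTheory CategoryTheory.Limits AlgebraicGeometry Opposite TopologicalSpace

namespace Groth.Agent.Lib.NormDegH3

/-- for `π` finite locally free of constant degree `d`, the glued determinant norm satisfies
`N (π^♯ t) = t ^ d` -/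
theorem exists_glueNorm_app {X Y : Scheme.{u}} (π : X ⟶ Y) (d : ℕ)
    (hπ : Mor2.IsFinLocFreeOfDeg d π) :
    ∃ hE : FlatMod.IsFinLocFree (Groth.Agent.Lib.NormChartH3.E π),
      ∀ (U : Y.Opens) (t : Γ(Y, U)),
        (Groth.Agent.Lib.NormGlueH3.glueNorm hE).norm U (π.app U t) = t ^ d := by
  obtain ⟨hA, hrank⟩ := (Groth.Agent.Lib.FinLocFreeMorRank.isCover_iff π d).1 hπ
  have hE : FlatMod.IsFinLocFree (Groth.Agent.Lib.NormChartH3.E π) := by
    intro y
    obtain ⟨U, hyU, he⟩ := hrank y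
    exact ⟨U, d, hyU, he⟩
  refine ⟨hE, ?_⟩
  intro U t
  refine Groth.Agent.Lib.NormGlueH3.rfD_ext hE (fun W hW hWc => ?_)
  rw [(Groth.Agent.Lib.NormGlueH3.glueNorm hE).norm_res hW, Groth.Agent.Lib.NormChartH3.rfU_app,
    map_pow]
  obtain ⟨V, n, e, hWV, he⟩ := hWc
  rw [Groth.Agent.Lib.NormGlueH3.glueNorm_app_of_basis hE he hWV]
  by_cases hbot : W = ⊥
  · haveI : Subsingleton Γ(Y, W) := by
      rw [hbot]
      exact CommRingCat.subsingleton_of_isTerminal Y.sheaf.isTerminalOfEmpty
    exact Subsingleton.elim _ _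
  · obtain ⟨y, hy⟩ : ∃ y, y ∈ W := by
      by_contra hcon
      apply hbot
      ext y
      simp only [TopologicalSpace.Opens.coe_bot, Set.mem_empty_iff_false, iff_false]
      exact fun hy => hcon ⟨y, hy⟩
    obtain ⟨V', e', hyV', he'⟩ := Groth.Agent.Lib.NormBasisH3.exists_isBasisOn_of_rank hrank y
    have hn : n = d := Groth.Agent.Lib.NormChartH3.card_eq_of_isBasisOn he he' ⟨hWV hy, hyV'⟩
    rw [hn]

end Groth.Agent.Lib.NormDegH3
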