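import Groth.Agent.Lib.H78SecAdd
import Groth.Agent.Lib.H78AmpleLocal
import Groth.Agent.Lib.H78KeyLemma
import Groth.Agent.Lib.H90InvertibleFP
import Mathlib.AlgebraicGeometry.Morphisms.QuasiFinite
import Mathlib.AlgebraicGeometry.Morphisms.Finite

/-!
# helper3: invertible modules are trivial near the fibres of a finite morphism
(namespace `Groth.Agent.Lib.NormSemiLocalH3`)

* `genLocus_smul`: `X_{hσ} = D(h) ∩ X_σ` for a global function `h`.
* `exists_sec_mem_genLocus_of_isAffine`: on an affine scheme an invertible module is generated by global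
  sections; `exists_sec_finset_of_isAffine`: a single global section generates at finitely many given points
  ("the Picard group of a semi-local ring is trivial", in geometric form).
* `exists_isGen_preimage`: `π : X ⟶ Y` finite, `L` invertible on `X`, `y : Y` ⇒ `L` has a free generator over
  `π⁻¹(V)` for some affine open neighbourhood `V` of `y`.
-/

set_option autoImplicit false
universe u
open CategoryTheory CategoryTheory.Limits AlgebraicGeometry Opposite TopologicalSpace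
open Groth.Agent.Lib.H90Invertible Groth.Agent.Lib.StructureModule Groth.Agent.Lib.H78TensorGen
open Groth.Agent.Lib.H78SecCoord Groth.Agent.Lib.H78Atlas Groth.Agent.Lib.H78SecAdd
open Groth.Agent.Lib.H78KeyLemma

namespace Groth.Agent.Lib.NormSemiLocalH3

variable {X : Scheme.{u}}

theorem genLocus_smul {P : X.Modules} (hP : PicF.IsInvertible P) (h : Γ(X, ⊤)) (σ : Γ(P, ⊤)) :
    CohB1.genLocus P (ofSection (h • σ)) = X.basicOpen h ⊓ CohB1.genLocus P (ofSection σ) := by
  obtain ⟨V, hxV, -, ⟨A⟩⟩ := exists_atlas hP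
  refine opens_eq_of_cover (iSup_eq_top_of_mem hxV) (fun i => ?_)
  rw [A.genLocus_inf, Groth.Agent.Lib.H78AmpleLocal.co_smul, Scheme.basicOpen_mul, inf_assoc,
    A.genLocus_inf]
  change X.basicOpen (X.presheaf.map (homOfLE (le_top : V i ≤ ⊤)).op h) ⊓ _ = _
  rw [Scheme.basicOpen_res]
  ext x
  simp only [Opens.coe_inf, Set.mem_inter_iff, SetLike.mem_coe]
  constructor
  · rintro ⟨⟨-, h1⟩, h2⟩; exact ⟨h1, h2⟩
  · rintro ⟨h1, h2⟩; exact ⟨⟨X.basicOpen_le _ h2, h1⟩, h2⟩

/-- on an affine scheme, an invertible module is generated by its global sections -/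
theorem exists_sec_mem_genLocus_of_isAffine [IsAffine X] {L : X.Modules} (hL : PicF.IsInvertible L)
    (x : X) : ∃ τ : Γ(L, ⊤), x ∈ CohB1.genLocus L (ofSection τ) := by
  obtain ⟨V, hxV, e, he⟩ := (isInvertible_iff_exists_isGen L).1 hL x
  obtain ⟨f, hfV, hxf⟩ := (isAffineOpen_top X).exists_basicOpen_le (V := V) ⟨x, hxV⟩ trivial
  haveI : L.IsQuasicoherent := (isCoh_of_isInvertible hL).1
  obtain ⟨n, z, hz⟩ := (qcLike_of_isQuasicoherent L).ext (isAffineOpen_top X) f (rs L hfV e)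
  refine ⟨z, ?_⟩
  have he' : IsGen L (X.basicOpen f) (rs L hfV e) := he.mono hfV
  have h1 := genLocus_inf_eq he' (ofSection z)
  rw [sec_ofSection] at h1
  have h2 : coord he' le_rfl (rs L le_top z) = rf (X.basicOpen_le f) f ^ n := by
    symm
    apply coord_unique
    rw [rs_self]
    exact hz.symm
  have hu : IsUnit (rf (X.basicOpen_le f) f ^ n) :=
    (RingedSpace.isUnit_res_basicOpen _ f).pow n
  rw [h2, Scheme.basicOpen_of_isUnit _ hu] at h1
  have : x ∈ CohB1.genLocus L (ofSection z) ⊓ X.basicOpen f := by rw [h1]; exact hxf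
  exact this.1

/-- on an affine scheme, finitely many points lie in the generating locus of a single global section of an
invertible module -/
theorem exists_sec_finset_of_isAffine [IsAffine X] {L : X.Modules} (hL : PicF.IsInvertible L) :
    ∀ (k : ℕ) (Z : Finset X), Z.card = k →
      ∃ σ : Γ(L, ⊤), (Z : Set X) ⊆ CohB1.genLocus L (ofSection σ) := by
  classical
  intro k
  induction k with
  | zero =>
    intro Z hZ
    rw [Finset.card_eq_zero] at hZ
    subst hZ
    exact ⟨0, by simp⟩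
  | succ k ih =>
    intro Z hZ
    have hne : Z.Nonempty := by
      rw [← Finset.card_pos, hZ]; exact Nat.succ_pos k
    obtain ⟨z, hzZ, hzmax⟩ := Z.exists_maximalFor (fun z : X => closure ({z} : Set X)) hne
    have hz' : ∀ z' ∈ Z, z ∈ closure ({z'} : Set X) → z' = z := by
      intro z' hz'Z hzz'
      have h1 : closure ({z} : Set X) ≤ closure ({z'} : Set X) :=
        closure_minimal (Set.singleton_subset_iff.2 hzz') isClosed_closure
      have h2 := hzmax hz'Z h1
      exact (inseparable_iff_closure_eq.2 (le_antisymm h2 h1)).eq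
    obtain ⟨σ₀, hσ₀⟩ := ih (Z.erase z) (by rw [Finset.card_erase_of_mem hzZ, hZ]; rfl)
    by_cases hzσ₀ : z ∈ CohB1.genLocus L (ofSection σ₀)
    · refine ⟨σ₀, ?_⟩
      intro y hy
      by_cases hyz : y = z
      · rw [hyz]; exact hzσ₀
      · exact hσ₀ (Finset.mem_coe.2 (Finset.mem_erase.2 ⟨hyz, Finset.mem_coe.1 hy⟩))
    have hCclosed : IsClosed (⋃ y ∈ (Z.erase z : Set X), closure ({y} : Set X)) :=
      (Z.erase z).finite_toSet.isClosed_biUnion (fun _ _ => isClosed_closure)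
    have hzC : z ∉ ⋃ y ∈ (Z.erase z : Set X), closure ({y} : Set X) := by
      intro hz
      obtain ⟨y, hy, hzy⟩ := Set.mem_iUnion₂.1 hz
      have hy' := Finset.mem_erase.1 (Finset.mem_coe.1 hy)
      exact hy'.1 (hz' y hy'.2 hzy)
    obtain ⟨h, hhU, hzh⟩ := (isAffineOpen_top X).exists_basicOpen_le
      (V := ⟨_, hCclosed.isOpen_compl⟩) ⟨z, hzC⟩ trivial
    obtain ⟨τ, hτ⟩ := exists_sec_mem_genLocus_of_isAffine hL z
    refine ⟨σ₀ + h • τ, ?_⟩
    intro y hy
    by_cases hyz : y = z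
    · rw [hyz, add_comm]
      refine mem_genLocus_add hL _ _ ?_ hzσ₀
      rw [genLocus_smul hL]
      exact ⟨hzh, hτ⟩
    · have hy' : y ∈ Z.erase z := Finset.mem_erase.2 ⟨hyz, Finset.mem_coe.1 hy⟩
      refine mem_genLocus_add hL _ _ (hσ₀ (Finset.mem_coe.2 hy')) ?_
      rw [genLocus_smul hL]
      rintro ⟨hyh, -⟩
      exact hhU hyh (Set.mem_iUnion₂.2 ⟨y, Finset.mem_coe.2 hy', subset_closure rfl⟩)

/-- an invertible module is trivial over the preimage of a small affine neighbourhood of any point of the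
target of a finite morphism -/
theorem exists_isGen_preimage {Y : Scheme.{u}} (π : X ⟶ Y) [IsFinite π] {L : X.Modules}
    (hL : PicF.IsInvertible L) (y : Y) :
    ∃ V : Y.Opens, IsAffineOpen V ∧ y ∈ V ∧ ∃ e : Γ(L, π ⁻¹ᵁ V), IsGen L (π ⁻¹ᵁ V) e := by
  classical
  obtain ⟨V₀, hV₀, hyV₀, -⟩ := Opens.isBasis_iff_nbhd.1 Y.isBasis_affineOpens
    (show y ∈ (⊤ : Y.Opens) from trivial)
  let X₀ : X.Opens := π ⁻¹ᵁ V₀
  haveI : IsAffine (X₀ : Scheme.{u}) := hV₀.preimage π
  have hL₀ : PicF.IsInvertible (L.restrict X₀.ι) := isInvertible_restrict X₀.ι hL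
  have hfin : (π ⁻¹' {y}).Finite := π.finite_preimage_singleton y
  have hfin₀ : (X₀.ι ⁻¹' (π ⁻¹' {y})).Finite :=
    hfin.preimage (X₀.ι.isOpenEmbedding.injective.injOn)
  obtain ⟨σ₀, hσ₀⟩ := exists_sec_finset_of_isAffine hL₀ _ hfin₀.toFinset rfl
  rw [Set.Finite.coe_toFinset] at hσ₀
  set G₀ := CohB1.genLocus (L.restrict X₀.ι) (ofSection σ₀) with hG₀
  have hgen₀ : IsGen (L.restrict X₀.ι) G₀ (rs (L.restrict X₀.ι) le_top (sec (ofSection σ₀))) :=
    isGen_genLocus (ofSection σ₀)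
  have hgen : IsGen L (X₀.ι ''ᵁ G₀) (rs (L.restrict X₀.ι) le_top (sec (ofSection σ₀))) :=
    (isGen_restrict_iff X₀.ι L G₀ _).1 hgen₀
  set G : X.Opens := X₀.ι ''ᵁ G₀ with hG
  have hFG : π ⁻¹' {y} ⊆ (G : Set X) := by
    intro x hx
    have hxX₀ : x ∈ X₀ := by
      change π x ∈ V₀
      rw [Set.mem_preimage, Set.mem_singleton_iff] at hx
      rw [hx]; exact hyV₀
    exact ⟨⟨x, hxX₀⟩, hσ₀ (show (⟨x, hxX₀⟩ : X₀) ∈ X₀.ι ⁻¹' (π ⁻¹' {y}) from hx), rfl⟩
  have hK : IsClosed (π.base '' ((G : Set X)ᶜ)) := π.isClosedMap _ G.isOpen.isClosed_compl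
  have hyK : y ∉ π.base '' ((G : Set X)ᶜ) := by
    rintro ⟨x, hxG, hxy⟩
    exact hxG (hFG hxy)
  obtain ⟨V, hV, hyV, hVle⟩ := Opens.isBasis_iff_nbhd.1 Y.isBasis_affineOpens
    (show y ∈ V₀ ⊓ ⟨_, hK.isOpen_compl⟩ from ⟨hyV₀, hyK⟩)
  have hpre : π ⁻¹ᵁ V ≤ G := by
    intro x hx
    by_contra hcon
    exact (hVle hx).2 ⟨x, hcon, rfl⟩
  exact ⟨V, hV, hyV, _, hgen.mono hpre⟩

end Groth.Agent.Lib.NormSemiLocalH3
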