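import Groth.Agent.Lib.NormAmpleH3
import Groth.Agent.Lib.NormSemiLocalH3
import Groth.Agent.Lib.NormGlueModH3

/-!
# helper3: an ample module descends (as the norm) along a finite surjective morphism with a norm
(namespace `Groth.Agent.Lib.NormExistsH3`)

`exists_isAmple_of_norm` (Stacks 0BCZ / EGA II 6.6.1): `π : X ⟶ Y` finite surjective with a system of norms,
`L` ample on `X` ⇒ the norm of `L` (glued from the norms of the transition functions of `L` over preimages of
small affine opens of `Y`) is an ample invertible module on `Y`.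
-/

set_option autoImplicit false
universe u
open CategoryTheory CategoryTheory.Limits AlgebraicGeometry Opposite TopologicalSpace
open Groth.Agent.Lib.H90Invertible Groth.Agent.Lib.StructureModule Groth.Agent.Lib.H78TensorGen
open Groth.Agent.Lib.H78SecCoord Groth.Agent.Lib.H78Atlas Groth.Agent.Lib.NormChartH3
open Groth.Agent.Lib.NormGlueH3

namespace Groth.Agent.Lib.NormExistsH3

variable {X Y : Scheme.{u}}

/-- the norm of an invertible module: existence of an invertible module on `Y` whose transition functions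
are the norms of those of `L` -/
theorem exists_norm_atlas (π : X ⟶ Y) [IsFinite π] (N : NormData π) {L : X.Modules}
    (hL : PicF.IsInvertible L) :
    ∃ (V : Y → Y.Opens) (_ : ∀ y, IsAffineOpen (V y)) (_ : ⨆ y, V y = ⊤)
      (A' : Atlas L (fun y => π ⁻¹ᵁ V y)) (M : Y.Modules) (_ : PicF.IsInvertible M) (A : Atlas M V),
      ∀ i j, A.trans i j = N.norm (V i ⊓ V j) (A'.trans i j) := by
  choose V hVaff hyV e he using fun y => Groth.Agent.Lib.NormSemiLocalH3.exists_isGen_preimage π hL y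
  have hV : ⨆ y, V y = ⊤ := iSup_eq_top_of_mem hyV
  let A' : Atlas L (fun y => π ⁻¹ᵁ V y) := ⟨e, he⟩
  let t : ∀ i j, Γ(X, π ⁻¹ᵁ (V i ⊓ V j)) := fun i j => A'.trans i j
  let ν : ∀ i j, Γ(Y, V i ⊓ V j) := fun i j => N.norm (V i ⊓ V j) (t i j)
  have hν1 : ∀ i, ν i i = 1 := by
    intro i
    change N.norm (V i ⊓ V i) (t i i) = 1
    have : t i i = 1 := A'.trans_self i
    rw [this, map_one]
  have hνc : ∀ i j k,
      rf (inf_le_inf_right (V k) inf_le_left : V i ⊓ V j ⊓ V k ≤ V i ⊓ V k) (ν i k) =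
        rf (inf_le_left : V i ⊓ V j ⊓ V k ≤ V i ⊓ V j) (ν i j) *
          rf (inf_le_inf_right (V k) inf_le_right : V i ⊓ V j ⊓ V k ≤ V j ⊓ V k) (ν j k) := by
    intro i j k
    have hc : rfU π (inf_le_inf_right (V k) inf_le_left : V i ⊓ V j ⊓ V k ≤ V i ⊓ V k) (t i k) =
        rfU π (inf_le_left : V i ⊓ V j ⊓ V k ≤ V i ⊓ V j) (t i j) *
          rfU π (inf_le_inf_right (V k) inf_le_right : V i ⊓ V j ⊓ V k ≤ V j ⊓ V k) (t j k) :=
      A'.trans_cocycle i k j (Q := π ⁻¹ᵁ (V i ⊓ V j ⊓ V k))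
        (π.preimage_mono (inf_le_inf_right (V k) inf_le_left))
        (π.preimage_mono inf_le_left) (π.preimage_mono (inf_le_inf_right (V k) inf_le_right))
    change rfD _ (N.norm _ (t i k)) = rfD _ (N.norm _ (t i j)) * rfD _ (N.norm _ (t j k))
    rw [N.norm_res, N.norm_res, N.norm_res, hc, map_mul]
  obtain ⟨M, hM, A, hA⟩ := Groth.Agent.Lib.NormGlueModH3.exists_glued_atlas V hV ν hν1 hνc
  exact ⟨V, hVaff, hV, A', M, hM, A, hA⟩

theorem exists_isAmple_of_norm (π : X ⟶ Y) [IsFinite π] [Surjective π] (N : NormData π)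
    {L : X.Modules} (hL : CohB1.IsAmple L) : ∃ M : Y.Modules, CohB1.IsAmple M := by
  obtain ⟨V, hVaff, hV, A', M, hM, A, hA⟩ := exists_norm_atlas π N hL.1
  refine ⟨M, Groth.Agent.Lib.NormAmpleH3.isAmple_of_norm π N hL hM V hVaff hV A' A (fun _ => 1)
    (fun _ => le_rfl) (fun _ _ => Or.inl rfl) (fun i j => ?_)⟩
  rw [hA, pow_one]

end Groth.Agent.Lib.NormExistsH3
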