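import Mathlib.LinearAlgebra.Charpoly.BaseChange
import Mathlib.LinearAlgebra.Eigenspace.Charpoly
import Mathlib.LinearAlgebra.Eigenspace.Minpoly
import Mathlib.RingTheory.IntegralClosure.Algebra.Basic
import Mathlib.RingTheory.IntegralClosure.IsIntegralClosure.Basic
import Mathlib.RingTheory.IntegralClosure.IntegrallyClosed
import Mathlib.FieldTheory.SplittingField.Construction
import Mathlib.Algebra.Polynomial.Splits
import Mathlib.RingTheory.Localization.NormTrace
import Mathlib.RingTheory.Localization.BaseChange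
import Mathlib.RingTheory.Localization.Free
import Mathlib.RingTheory.IsTensorProduct
import Mathlib.RingTheory.Norm.Defs
import Mathlib.RingTheory.KrullDimension.Zero
import Mathlib.RingTheory.Ideal.GoingUp
import Mathlib.RingTheory.LocalProperties.Reduced

/-!
# helper3: the generic norm of a finite algebra over a domain (namespace `Groth.Agent.Lib.NormGenRingH3`)

`A` a domain with fraction field `K`, `C` a finite `A`-algebra.

* `gnorm A K C s : K`, the determinant of multiplication by `s` on `K ⊗_A C`; `isIntegral_gnorm`.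
* `gnorm_eq_of_away`: if `C_b` is free over `A_b` then the algebra norm of `s` over `A_b` maps to `gnorm`.
* `exists_mul_eq_of_isIntegral`: an element of `K` integral over `A` lies in every integrally closed localization.
* `exists_prime_of_gnorm`: if `gnorm s` is a unit at a prime `p` with `A_p` integrally closed, some prime of `C`
  over `p` does not contain `s`.
* `exists_free_away`: generic freeness for finite modules over reduced Noetherian rings, in `IsLocalizedModule` form.
-/

set_option autoImplicit false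
set_option linter.style.haveILetI false
set_option linter.unusedSectionVars false
universe u v
open TensorProduct

namespace Groth.Agent.Lib.NormGenRingH3

open Polynomial in
/-- (copied from helper79's `Groth.Agent.S4429.charpoly_coeff_isIntegral`) `R` a commutative ring, `K` a field
which is an `R`-algebra, `E` a finite `R`-module, `u` an endomorphism of `E`.  The coefficients of the
characteristic polynomial of `u ⊗ K` are integral over `R`. -/
theorem charpoly_coeff_isIntegral (R : Type*) [CommRing R] (K : Type*) [Field K] [Algebra R K]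
    (E : Type*) [AddCommGroup E] [Module R E] [Module.Finite R E] (u : E →ₗ[R] E) (i : ℕ) :
    IsIntegral R (((u.baseChange K).charpoly).coeff i) := by
  classical
  obtain ⟨p, hp_monic, hp⟩ := (Algebra.IsIntegral.isIntegral (R := R) (A := Module.End R E) u)
  set q := (u.baseChange K).charpoly with hq
  have hq_monic : q.Monic := LinearMap.charpoly_monic _
  let L := q.SplittingField
  let w : Module.End L (TensorProduct K L (TensorProduct R K E)) := (u.baseChange K).baseChange L
  have hw_charpoly : w.charpoly = q.map (algebraMap K L) := LinearMap.charpoly_baseChange _ _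
  have hpw : Polynomial.aeval w (p.map (algebraMap R L)) = 0 := by
    have h1 : Polynomial.aeval (u.baseChange K) p = 0 := by
      have := congrArg (Module.End.baseChangeHom R K E) hp
      rw [← Polynomial.aeval_def, ← Polynomial.aeval_algHom_apply, map_zero] at this
      exact this
    have h2 : Polynomial.aeval w (p.map (algebraMap R K)) = 0 := by
      have := congrArg (Module.End.baseChangeHom K L (TensorProduct R K E))
        ((Polynomial.aeval_map_algebraMap K (u.baseChange K) p).trans h1)
      rw [← Polynomial.aeval_algHom_apply, map_zero] at this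
      exact this
    rw [IsScalarTower.algebraMap_eq R K L, ← Polynomial.map_map, Polynomial.aeval_map_algebraMap]
    exact h2
  have hroots : ∀ a ∈ (q.map (algebraMap K L)).roots,
      a ∈ (algebraMap (integralClosure R L) L).range := by
    intro a ha
    rw [Subalgebra.algebraMap_eq, RingHom.mem_range]
    suffices h : IsIntegral R a from ⟨⟨a, h⟩, rfl⟩
    have hroot : (q.map (algebraMap K L)).IsRoot a := (Polynomial.mem_roots'.mp ha).2
    rw [← hw_charpoly, ← Module.End.hasEigenvalue_iff_isRoot_charpoly] at hroot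
    obtain ⟨v, hv⟩ := hroot.exists_hasEigenvector
    have h3 := Module.End.aeval_apply_of_hasEigenvector (p := p.map (algebraMap R L)) hv
    rw [hpw, LinearMap.zero_apply] at h3
    have h4 : (p.map (algebraMap R L)).eval a = 0 := by
      rcases smul_eq_zero.mp h3.symm with h | h
      · exact h
      · exact absurd h hv.2
    refine ⟨p, hp_monic, ?_⟩
    rwa [Polynomial.eval_map] at h4
  have hlift := (SplittingField.splits q).mem_lift_of_roots_mem_range (hq_monic.map _)
    (algebraMap (integralClosure R L) L) hroots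
  rw [Polynomial.lifts_iff_coeff_lifts] at hlift
  obtain ⟨c, hc⟩ := hlift i
  rw [Polynomial.coeff_map] at hc
  have hint : IsIntegral R (algebraMap K L (q.coeff i)) := by
    rw [← hc]; exact c.2
  exact (isIntegral_algebraMap_iff (algebraMap K L).injective).mp hint

section Gnorm

variable (A : Type*) (K : Type*) (C : Type*) [CommRing A] [Field K] [Algebra A K]
  [CommRing C] [Algebra A C]

/-- the generic norm: determinant of multiplication by `s` on `K ⊗_A C` -/
noncomputable def gnorm (s : C) : K := LinearMap.det ((LinearMap.mulLeft A s).baseChange K)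

variable [Module.Finite A C]

theorem isIntegral_gnorm (s : C) : IsIntegral A (gnorm A K C s) := by
  unfold gnorm
  rw [LinearMap.det_eq_sign_charpoly_coeff]
  refine IsIntegral.mul ?_ (charpoly_coeff_isIntegral A K C _ 0)
  exact (IsIntegral.neg isIntegral_one).pow _

end Gnorm



section Away
variable (A : Type*) (K : Type*) (C : Type*) [CommRing A] [IsDomain A] [Field K] [Algebra A K] [IsFractionRing A K]
  [CommRing C] [Algebra A C]

theorem gnorm_eq_of_away (b : A) (Ab Cb : Type*) [CommRing Ab] [CommRing Cb] [Algebra A Ab] [Algebra C Cb]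
    [Algebra Ab Cb] [Algebra A Cb] [IsScalarTower A Ab Cb] [IsScalarTower A C Cb]
    [IsLocalization.Away b Ab] [IsLocalization.Away (algebraMap A C b) Cb]
    [Algebra Ab K] [IsScalarTower A Ab K] [Module.Free Ab Cb] [Module.Finite Ab Cb] (s : C) :
    algebraMap Ab K (Algebra.norm Ab (algebraMap C Cb s)) = gnorm A K C s := by
  let f : C →ₗ[A] Cb := (IsScalarTower.toAlgHom A C Cb).toLinearMap
  have hloc : IsLocalizedModule (Submonoid.powers b) f := by
    rw [isLocalizedModule_iff_isLocalization]
    have : Algebra.algebraMapSubmonoid C (Submonoid.powers b) = Submonoid.powers (algebraMap A C b) := by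
      simp [Algebra.algebraMapSubmonoid, Submonoid.map_powers]
    rw [this]
    infer_instance
  have hf : IsBaseChange Ab f := IsLocalizedModule.isBaseChange (Submonoid.powers b) Ab f
  let e₀ : K ⊗[Ab] Cb ≃ₗ[Ab] K ⊗[A] C := hf.tensorEquiv K
  let e : K ⊗[Ab] Cb ≃ₗ[K] K ⊗[A] C :=
    (e₀.restrictScalars A).extendScalarsOfIsLocalization (nonZeroDivisors A) K
  have hesymm : ∀ (k : K) (c : C), e.symm (k ⊗ₜ c) = k ⊗ₜ f c := by
    intro k c
    change e₀.symm (k ⊗ₜ c) = _
    simp [e₀, IsBaseChange.tensorEquiv, IsBaseChange.equiv_tmul]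
  set u₁ : K ⊗[A] C →ₗ[K] K ⊗[A] C := (LinearMap.mulLeft A s).baseChange K with hu₁
  set u₂ : K ⊗[Ab] Cb →ₗ[K] K ⊗[Ab] Cb := (LinearMap.mulLeft Ab (algebraMap C Cb s)).baseChange K with hu₂
  have hcomm : u₂ = (e.symm : K ⊗[A] C →ₗ[K] K ⊗[Ab] Cb) ∘ₗ u₁ ∘ₗ (e : K ⊗[Ab] Cb →ₗ[K] K ⊗[A] C) := by
    have h1 : u₂ ∘ₗ (e.symm : K ⊗[A] C →ₗ[K] K ⊗[Ab] Cb) = (e.symm : K ⊗[A] C →ₗ[K] K ⊗[Ab] Cb) ∘ₗ u₁ := by
      apply TensorProduct.AlgebraTensorModule.curry_injective
      ext c
      simp only [hu₁, hu₂, LinearMap.coe_comp, Function.comp_apply, LinearEquiv.coe_coe,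
        TensorProduct.AlgebraTensorModule.curry_apply, LinearMap.restrictScalars_comp,
        TensorProduct.curry_apply, LinearMap.coe_restrictScalars, hesymm,
        LinearMap.baseChange_tmul, LinearMap.mulLeft_apply]
      congr 1
      exact (map_mul (IsScalarTower.toAlgHom A C Cb) s c).symm
    refine LinearMap.ext fun x => ?_
    have := congrArg (fun φ => φ (e x)) h1
    simpa using this
  rw [Algebra.norm_apply, ← LinearMap.det_baseChange (A := K), Algebra.coe_lmul_eq_mul,
    show LinearMap.mul Ab Cb (algebraMap C Cb s) = LinearMap.mulLeft Ab (algebraMap C Cb s) from rfl]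
  unfold gnorm
  rw [← hu₁, ← hu₂, hcomm]
  exact LinearMap.det_conj u₁ e.symm
end Away


theorem exists_mul_eq_of_isIntegral {A K : Type*} [CommRing A] [IsDomain A] [Field K] [Algebra A K]
    [IsFractionRing A K] (p : Ideal A) [p.IsPrime] (S : Type*) [CommRing S] [Algebra A S]
    [IsLocalization.AtPrime S p] [IsDomain S] [IsIntegrallyClosed S] (ν : K) (hν : IsIntegral A ν) :
    ∃ a σ : A, σ ∉ p ∧ ν * algebraMap A K σ = algebraMap A K a := by
  have hunit : ∀ y : p.primeCompl, IsUnit (algebraMap A K y) := by
    intro y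
    refine IsUnit.mk0 _ ?_
    rw [Ne, map_eq_zero_iff _ (IsFractionRing.injective A K)]
    intro h0
    exact y.2 (h0 ▸ p.zero_mem)
  letI : Algebra S K := (IsLocalization.lift (M := p.primeCompl) (S := S) hunit).toAlgebra
  haveI : IsScalarTower A S K :=
    IsScalarTower.of_algebraMap_eq fun x => (IsLocalization.lift_eq hunit x).symm
  haveI : IsFractionRing S K :=
    IsFractionRing.isFractionRing_of_isDomain_of_isLocalization p.primeCompl S K
  obtain ⟨y, hy⟩ := (IsIntegrallyClosed.isIntegral_iff (R := S) (K := K)).1 hν.tower_top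
  obtain ⟨a, σ, rfl⟩ := IsLocalization.exists_mk'_eq p.primeCompl y
  refine ⟨a, σ.1, σ.2, ?_⟩
  rw [← hy, IsScalarTower.algebraMap_apply A S K σ.1, ← map_mul, IsLocalization.mk'_spec,
    ← IsScalarTower.algebraMap_apply]



section
variable {A K C : Type*} [CommRing A] [IsDomain A] [Field K] [Algebra A K] [IsFractionRing A K]
  [CommRing C] [Algebra A C]

/-- an element of `C` dying in `K ⊗_A C` is torsion -/
theorem exists_smul_eq_zero_of_tmul_eq_zero (z : C) (hz : (1 : K) ⊗ₜ[A] z = 0) :
    ∃ d : A, d ≠ 0 ∧ d • z = 0 := by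
  haveI : IsLocalizedModule (nonZeroDivisors A) (TensorProduct.mk A K C 1) :=
    (isLocalizedModule_iff_isBaseChange (nonZeroDivisors A) K _).2 (TensorProduct.isBaseChange A C K)
  obtain ⟨d, hd⟩ := (IsLocalizedModule.eq_zero_iff (nonZeroDivisors A) (TensorProduct.mk A K C 1)).1 hz
  exact ⟨d.1, nonZeroDivisors.ne_zero d.2, hd⟩

variable [Module.Finite A C]

theorem exists_prime_of_gnorm (hinj : Function.Injective (algebraMap A C)) (p : Ideal A) [p.IsPrime]
    (hp : ∀ ν : K, IsIntegral A ν → ∃ a σ : A, σ ∉ p ∧ ν * algebraMap A K σ = algebraMap A K a)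
    (s : C) (a σ : A) (ha : a ∉ p)
    (hν : gnorm A K C s * algebraMap A K σ = algebraMap A K a) :
    ∃ q : Ideal C, q.IsPrime ∧ q.comap (algebraMap A C) = p ∧ s ∉ q := by
  classical
  set u : K ⊗[A] C →ₗ[K] K ⊗[A] C := (LinearMap.mulLeft A s).baseChange K with hu
  set P := u.charpoly with hP
  set n := P.natDegree with hn
  choose α' σ' hσ' hασ using fun i : ℕ => hp (P.coeff i) (charpoly_coeff_isIntegral A K C _ i)
  set σ₀ : A := ∏ i ∈ Finset.range (n + 1), σ' i with hσ₀def
  have hσ₀ : σ₀ ∉ p := by
    intro h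
    obtain ⟨i, -, hi⟩ := Ideal.IsPrime.prod_mem_iff.1 h
    exact hσ' i hi
  let α : ℕ → A := fun i => α' i * ∏ j ∈ (Finset.range (n + 1)).erase i, σ' j
  have hα : ∀ i ∈ Finset.range (n + 1), algebraMap A K (α i) = P.coeff i * algebraMap A K σ₀ := by
    intro i hi
    rw [hσ₀def, ← Finset.mul_prod_erase _ _ hi, map_mul, map_mul, ← mul_assoc, hασ i]
  -- powers of `u`
  have hupow : ∀ i : ℕ, (u ^ i) ((1 : K) ⊗ₜ[A] (1 : C)) = (1 : K) ⊗ₜ[A] (s ^ i) := by
    intro i
    induction i with
    | zero => simp
    | succ i ih =>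
      rw [pow_succ', Module.End.mul_apply, ih, hu, LinearMap.baseChange_tmul, LinearMap.mulLeft_apply,
        pow_succ']
  set z : C := ∑ i ∈ Finset.range (n + 1), α i • s ^ i with hz
  have hz0 : (1 : K) ⊗ₜ[A] z = 0 := by
    have hCH : Polynomial.aeval u P = 0 := LinearMap.aeval_self_charpoly u
    rw [Polynomial.aeval_eq_sum_range] at hCH
    have h1 := congrArg (fun φ : Module.End K (K ⊗[A] C) => φ ((1 : K) ⊗ₜ[A] (1 : C))) hCH
    simp only [LinearMap.sum_apply, LinearMap.smul_apply, LinearMap.zero_apply, hupow] at h1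
    rw [hz, TensorProduct.tmul_sum]
    have h2 : ∀ i ∈ Finset.range (n + 1), (1 : K) ⊗ₜ[A] (α i • s ^ i) =
        algebraMap A K σ₀ • (P.coeff i • ((1 : K) ⊗ₜ[A] (s ^ i))) := by
      intro i hi
      rw [TensorProduct.tmul_smul, smul_smul, ← algebraMap_smul K (α i) ((1 : K) ⊗ₜ[A] (s ^ i)),
        hα i hi, mul_comm]
    rw [Finset.sum_congr rfl h2, ← Finset.smul_sum, h1, smul_zero]
  obtain ⟨d, hd0, hdz⟩ := exists_smul_eq_zero_of_tmul_eq_zero (K := K) z hz0
  -- the torsion ideal
  let I : Ideal C := RingHom.ker (Algebra.TensorProduct.includeRight : C →ₐ[A] K ⊗[A] C).toRingHom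
  have hzI : z ∈ I := by
    change (Algebra.TensorProduct.includeRight : C →ₐ[A] K ⊗[A] C) z = 0
    rw [Algebra.TensorProduct.includeRight_apply]
    exact hz0
  have hIP : I.comap (algebraMap A C) ≤ p := by
    intro x hx
    have hx' : (1 : K) ⊗ₜ[A] (algebraMap A C x) = 0 := by
      have : (Algebra.TensorProduct.includeRight : C →ₐ[A] K ⊗[A] C) (algebraMap A C x) = 0 := hx
      rwa [Algebra.TensorProduct.includeRight_apply] at this
    obtain ⟨d', hd', hd'x⟩ := exists_smul_eq_zero_of_tmul_eq_zero (K := K) _ hx'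
    rw [Algebra.smul_def, ← map_mul] at hd'x
    have h0 : d' * x = 0 := hinj (by rw [hd'x, map_zero])
    rcases mul_eq_zero.1 h0 with h | h
    · exact absurd h hd'
    · rw [h]; exact p.zero_mem
  haveI : Algebra.IsIntegral A C := Algebra.IsIntegral.of_finite A C
  obtain ⟨q, hIq, hqprime, hqp⟩ := Ideal.exists_ideal_over_prime_of_isIntegral p I hIP
  refine ⟨q, hqprime, hqp, fun hsq => ?_⟩
  -- `α 0 ∈ p`
  have hα0q : algebraMap A C (α 0) ∈ q := by
    have hzq : z ∈ q := hIq hzI
    rw [hz, Finset.sum_range_succ'] at hzq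
    have h1 : ∑ i ∈ Finset.range n, α (i + 1) • s ^ (i + 1) ∈ q := by
      refine Ideal.sum_mem _ (fun i _ => ?_)
      rw [pow_succ', ← mul_smul_comm]
      exact q.mul_mem_right _ hsq
    have h2 := (Ideal.add_mem_iff_right q h1).1 hzq
    rwa [pow_zero, Algebra.smul_def, mul_one] at h2
  have hα0p : α 0 ∈ p := by rw [← hqp]; exact hα0q
  -- but `α 0 * σ = ± a * σ₀`
  have hdet : gnorm A K C s = (-1) ^ Module.finrank K (K ⊗[A] C) * P.coeff 0 :=
    LinearMap.det_eq_sign_charpoly_coeff u
  have hkey : algebraMap A K (α 0 * σ * (-1) ^ Module.finrank K (K ⊗[A] C)) =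
      algebraMap A K (a * σ₀) := by
    rw [map_mul, map_mul, hα 0 (Finset.mem_range.2 (Nat.succ_pos n)), map_mul, ← hν, hdet, map_pow,
      map_neg, map_one]
    ring
  have hkey' := IsFractionRing.injective A K hkey
  have : a * σ₀ ∈ p := by
    rw [← hkey']
    exact p.mul_mem_right _ (p.mul_mem_right _ hα0p)
  rcases (inferInstance : p.IsPrime).mem_or_mem this with h | h
  · exact ha h
  · exact hσ₀ h
end



/-- freeness transfers between two models of the localization of a module away from `r` -/
theorem free_of_isLocalizedModule {A : Type*} [CommRing A] {M : Type*} [AddCommGroup M] [Module A M] (r : A)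
    (hfree : Module.Free (Localization (Submonoid.powers r)) (LocalizedModule.Away r M))
    (Ar : Type*) (Mr : Type*) [CommRing Ar] [Algebra A Ar] [IsLocalization.Away r Ar]
    [AddCommGroup Mr] [Module A Mr] [Module Ar Mr] [IsScalarTower A Ar Mr] (f : M →ₗ[A] Mr)
    [IsLocalizedModule (Submonoid.powers r) f] : Module.Free Ar Mr := by
  let Loc := Localization (Submonoid.powers r)
  let σ : Loc ≃ₐ[A] Ar := IsLocalization.algEquiv (Submonoid.powers r) Loc Ar
  let e : LocalizedModule.Away r M ≃ₗ[A] Mr := IsLocalizedModule.iso (Submonoid.powers r) f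
  letI : Module Loc Mr := Module.compHom Mr (σ : Loc →+* Ar)
  haveI : IsScalarTower A Loc Mr := ⟨fun x a m => by
    change σ (x • a) • m = x • (σ a • m)
    rw [map_smul, smul_assoc]⟩
  let e' : LocalizedModule.Away r M ≃ₗ[Loc] Mr := e.extendScalarsOfIsLocalization (Submonoid.powers r) Loc
  haveI : Module.Free Loc Mr := Module.Free.of_equiv e'
  letI : RingHomInvPair (σ : Loc →+* Ar) (σ.symm : Ar →+* Loc) := RingHomInvPair.of_ringEquiv σ.toRingEquiv
  letI : RingHomInvPair (σ.symm : Ar →+* Loc) (σ : Loc →+* Ar) := RingHomInvPair.of_ringEquiv σ.symm.toRingEquiv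
  let id' : Mr ≃ₛₗ[(σ : Loc →+* Ar)] Mr :=
    { AddEquiv.refl Mr with
      map_smul' := fun a m => rfl }
  exact Module.Free.of_equiv id'

theorem exists_free_away (A : Type u) [CommRing A] [IsNoetherianRing A] [IsReduced A] [Nontrivial A]
    (M : Type v) [AddCommGroup M] [Module A M] [Module.Finite A M] :
    ∃ r : A, ¬ IsNilpotent r ∧
      Module.Free (Localization (Submonoid.powers r)) (LocalizedModule.Away r M) := by
  obtain ⟨m, hm⟩ := Ideal.exists_maximal A
  obtain ⟨p, hp, -⟩ := Ideal.exists_minimalPrimes_le (bot_le : (⊥ : Ideal A) ≤ m)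
  haveI : p.IsPrime := hp.1.1
  haveI : Ring.KrullDimLE 0 (Localization.AtPrime p) := .of_isLocalization _ hp _
  letI : Field (Localization.AtPrime p) := Ring.KrullDimLE.isField_of_isReduced.toField
  haveI : Module.FinitePresentation A M := Module.finitePresentation_of_finite A M
  obtain ⟨r, hr, hfree, -⟩ := Module.FinitePresentation.exists_free_localizedModule_powers
    p.primeCompl (LocalizedModule.mkLinearMap p.primeCompl M) (Localization.AtPrime p)
  refine ⟨r, fun hnil => hr ?_, hfree⟩
  obtain ⟨k, hk⟩ := hnil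
  exact (inferInstance : p.IsPrime).mem_of_pow_mem k (hk ▸ p.zero_mem)



theorem norm_mul_eq_of_gnorm {A K C : Type*} [CommRing A] [IsDomain A] [Field K] [Algebra A K]
    [IsFractionRing A K] [CommRing C] [Algebra A C] (b : A) (hb : b ≠ 0)
    (Ab Cb : Type*) [CommRing Ab] [CommRing Cb] [Algebra A Ab] [Algebra C Cb]
    [Algebra Ab Cb] [Algebra A Cb] [IsScalarTower A Ab Cb] [IsScalarTower A C Cb]
    [IsLocalization.Away b Ab] [IsLocalization.Away (algebraMap A C b) Cb]
    [Module.Free Ab Cb] [Module.Finite Ab Cb] (s : C) (a σ : A)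
    (h : gnorm A K C s * algebraMap A K σ = algebraMap A K a) :
    Algebra.norm Ab (algebraMap C Cb s) * algebraMap A Ab σ = algebraMap A Ab a := by
  have hunit : IsUnit (algebraMap A K b) := by
    refine IsUnit.mk0 _ ?_
    rwa [Ne, map_eq_zero_iff _ (IsFractionRing.injective A K)]
  letI : Algebra Ab K := (IsLocalization.Away.lift b hunit).toAlgebra
  haveI : IsScalarTower A Ab K :=
    IsScalarTower.of_algebraMap_eq fun x => (IsLocalization.Away.lift_eq b hunit x).symm
  haveI : IsFractionRing Ab K :=
    IsFractionRing.isFractionRing_of_isDomain_of_isLocalization (Submonoid.powers b) Ab K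
  apply IsFractionRing.injective Ab K
  rw [map_mul, gnorm_eq_of_away A K C b Ab Cb s, ← IsScalarTower.algebraMap_apply,
    ← IsScalarTower.algebraMap_apply, h]


end Groth.Agent.Lib.NormGenRingH3
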