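import Groth.Agent.Lib.NormChartH3
import Groth.Agent.Lib.NormGenRingH3
import Mathlib.AlgebraicGeometry.Morphisms.Finite
import Mathlib.AlgebraicGeometry.Noetherian

/-!
# helper3: affine free charts of a finite morphism (namespace `Groth.Agent.Lib.NormFChartH3`)

For `g : X' ⟶ X` finite, an *affine free chart* is an affine open `W ⊆ X` such that `Γ(X', g⁻¹W)` is a free
`Γ(X, W)`-module.

* `IsFChart.basicOpen`: basic opens of affine free charts are affine free charts, the norm commutes with the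
  restriction and the rank is preserved.
* `exists_isFChart_le`: on a reduced locally Noetherian scheme every nonempty open contains a nonempty affine
  free chart (generic freeness).
* `eq_of_dense`: functions on a reduced scheme agreeing on a "dense family" of opens are equal.
* `isFChart_of_isBasisOn`.
-/

set_option autoImplicit false
set_option linter.style.haveILetI false
universe u
open CategoryTheory CategoryTheory.Limits AlgebraicGeometry Opposite TopologicalSpace
open Groth.Agent.Lib.NormBasisH3 Groth.Agent.Lib.NormChartH3 Groth.Agent.Lib.NormGenRingH3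

namespace Groth.Agent.Lib.NormFChartH3

variable {X' X : Scheme.{u}} (g : X' ⟶ X)

/-- an affine free chart -/
def IsFChart (W : X.Opens) : Prop :=
  IsAffineOpen W ∧ @Module.Free Γ(X, W) Γ(X', g ⁻¹ᵁ W) _ _ (algW g W).toModule

/-- the rank of `Γ(X', g⁻¹W)` over `Γ(X, W)` -/
noncomputable def rk (W : X.Opens) : ℕ :=
  @Module.finrank Γ(X, W) Γ(X', g ⁻¹ᵁ W) _ _ (algW g W).toModule

section Loc

variable {g} {W : X.Opens} (hW : IsAffineOpen W) (h : Γ(X, W))

/-- `Γ(X', g⁻¹ D(h))` as an algebra over `Γ(X', g⁻¹ W)` -/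
noncomputable abbrev algC : Algebra Γ(X', g ⁻¹ᵁ W) Γ(X', g ⁻¹ᵁ (X.basicOpen h)) :=
  (rfU g (X.basicOpen_le h)).toAlgebra

/-- `Γ(X', g⁻¹ D(h))` as an algebra over `Γ(X, W)` -/
noncomputable abbrev algAC : Algebra Γ(X, W) Γ(X', g ⁻¹ᵁ (X.basicOpen h)) :=
  ((rfU g (X.basicOpen_le h)).comp (g.app W).hom).toAlgebra

lemma isScalarTower₁ :
    letI := algW g W
    letI := algC (g := g) h
    letI := algAC (g := g) h
    IsScalarTower Γ(X, W) Γ(X', g ⁻¹ᵁ W) Γ(X', g ⁻¹ᵁ (X.basicOpen h)) := by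
  letI := algW g W
  letI := algC (g := g) h
  letI := algAC (g := g) h
  exact IsScalarTower.of_algebraMap_eq fun _ => rfl

lemma isScalarTower₂ :
    letI := algW g (X.basicOpen h)
    letI := algAC (g := g) h
    IsScalarTower Γ(X, W) Γ(X, X.basicOpen h) Γ(X', g ⁻¹ᵁ (X.basicOpen h)) := by
  letI := algW g (X.basicOpen h)
  letI := algAC (g := g) h
  exact IsScalarTower.of_algebraMap_eq fun a => rfU_app g (X.basicOpen_le h) a

include hW in
lemma isLocalization_C [IsAffineHom g] :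
    letI := algW g W
    letI := algC (g := g) h
    IsLocalization.Away (algebraMap Γ(X, W) Γ(X', g ⁻¹ᵁ W) h) Γ(X', g ⁻¹ᵁ (X.basicOpen h)) :=
  (hW.preimage g).isLocalization_of_eq_basicOpen (g.app W h)
    (homOfLE (g.preimage_mono (X.basicOpen_le h))) (Scheme.preimage_basicOpen g h)

include hW in
lemma isLocalization_C' [IsAffineHom g] :
    letI := algW g W
    letI := algC (g := g) h
    IsLocalization (Algebra.algebraMapSubmonoid Γ(X', g ⁻¹ᵁ W) (Submonoid.powers h))
      Γ(X', g ⁻¹ᵁ (X.basicOpen h)) := by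
  letI := algW g W
  letI := algC (g := g) h
  have : Algebra.algebraMapSubmonoid Γ(X', g ⁻¹ᵁ W) (Submonoid.powers h) =
      Submonoid.powers (algebraMap Γ(X, W) Γ(X', g ⁻¹ᵁ W) h) := by
    simp [Algebra.algebraMapSubmonoid, Submonoid.map_powers]
  rw [this]
  exact isLocalization_C hW h

end Loc

variable {g}

/-- basic opens of affine free charts -/
theorem IsFChart.basicOpen [IsFinite g] {W : X.Opens} (hW : IsFChart g W) (h : Γ(X, W)) :
    IsFChart g (X.basicOpen h) ∧
      (∀ s : Γ(X', g ⁻¹ᵁ W), rfD (X.basicOpen_le h) (nrm g W s) =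
        nrm g (X.basicOpen h) (rfU g (X.basicOpen_le h) s)) ∧
      (X.basicOpen h ≠ ⊥ → rk g (X.basicOpen h) = rk g W) := by
  classical
  obtain ⟨hWaff, hfree⟩ := hW
  letI := algW g W
  letI := algW g (X.basicOpen h)
  letI := algC (g := g) h
  letI := algAC (g := g) h
  haveI := isScalarTower₁ (g := g) h
  haveI := isScalarTower₂ (g := g) h
  haveI : IsLocalization (Submonoid.powers h) Γ(X, X.basicOpen h) := hWaff.isLocalization_basicOpen h
  haveI := isLocalization_C' (g := g) hWaff h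
  haveI : Module.Free Γ(X, W) Γ(X', g ⁻¹ᵁ W) := hfree
  haveI : Module.Finite Γ(X, W) Γ(X', g ⁻¹ᵁ W) := IsFinite.finite_app g W hWaff
  let b := Module.Free.chooseBasis Γ(X, W) Γ(X', g ⁻¹ᵁ W)
  let b' := b.localizationLocalization Γ(X, X.basicOpen h) (Submonoid.powers h)
    Γ(X', g ⁻¹ᵁ (X.basicOpen h))
  refine ⟨⟨hWaff.basicOpen h, Module.Free.of_basis b'⟩, fun s => ?_, fun hne => ?_⟩
  · exact (Algebra.norm_localization Γ(X, W) (Submonoid.powers h) (Rₘ := Γ(X, X.basicOpen h))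
      (Sₘ := Γ(X', g ⁻¹ᵁ (X.basicOpen h))) s).symm
  · haveI : Nonempty ↥(X.basicOpen h) := by
      by_contra hcon
      apply hne
      ext y
      simp only [Opens.coe_bot, Set.mem_empty_iff_false, iff_false]
      exact fun hy => hcon ⟨⟨y, hy⟩⟩
    haveI : Nontrivial Γ(X, X.basicOpen h) := inferInstance
    haveI : Nontrivial Γ(X, W) := (algebraMap Γ(X, W) Γ(X, X.basicOpen h)).domain_nontrivial
    unfold rk
    rw [Module.finrank_eq_card_basis b', Module.finrank_eq_card_basis b]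


lemma exists_mem_of_ne_bot {Z : Scheme.{u}} {U : Z.Opens} (hU : U ≠ ⊥) : ∃ x, x ∈ U := by
  by_contra hcon
  apply hU
  ext y
  simp only [Opens.coe_bot, Set.mem_empty_iff_false, iff_false]
  exact fun hy => hcon ⟨y, hy⟩

lemma ne_bot_of_mem {Z : Scheme.{u}} {U : Z.Opens} {x : Z} (hx : x ∈ U) : U ≠ ⊥ := by
  rintro rfl
  exact hx

/-- generic freeness: a nonempty affine open contains a nonempty basic open which is an affine free chart -/
theorem exists_isFChart_basicOpen [IsFinite g] [IsReduced X] [IsLocallyNoetherian X] {W₀ : X.Opens}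
    (hW₀ : IsAffineOpen W₀) (hne : W₀ ≠ ⊥) :
    ∃ r : Γ(X, W₀), X.basicOpen r ≠ ⊥ ∧ IsFChart g (X.basicOpen r) := by
  obtain ⟨x, hxW₀⟩ := exists_mem_of_ne_bot hne
  letI := algW g W₀
  haveI : IsNoetherianRing Γ(X, W₀) := IsLocallyNoetherian.component_noetherian ⟨W₀, hW₀⟩
  haveI : Nonempty ↥W₀ := ⟨⟨x, hxW₀⟩⟩
  haveI : Module.Finite Γ(X, W₀) Γ(X', g ⁻¹ᵁ W₀) := IsFinite.finite_app g W₀ hW₀
  obtain ⟨r, hr, hfree⟩ := exists_free_away Γ(X, W₀) Γ(X', g ⁻¹ᵁ W₀)
  refine ⟨r, ?_, hW₀.basicOpen r, ?_⟩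
  · intro hbot
    apply hr
    rw [(basicOpen_eq_bot_iff r).1 hbot]
    exact IsNilpotent.zero
  · letI := algW g (X.basicOpen r)
    letI := algC (g := g) r
    letI := algAC (g := g) r
    haveI := isScalarTower₁ (g := g) r
    haveI := isScalarTower₂ (g := g) r
    haveI : IsLocalization.Away r Γ(X, X.basicOpen r) := hW₀.isLocalization_basicOpen r
    let f : Γ(X', g ⁻¹ᵁ W₀) →ₗ[Γ(X, W₀)] Γ(X', g ⁻¹ᵁ (X.basicOpen r)) :=
      (IsScalarTower.toAlgHom Γ(X, W₀) Γ(X', g ⁻¹ᵁ W₀) Γ(X', g ⁻¹ᵁ (X.basicOpen r))).toLinearMap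
    haveI : IsLocalizedModule (Submonoid.powers r) f :=
      isLocalizedModule_iff_isLocalization.2 (isLocalization_C' (g := g) hW₀ r)
    exact free_of_isLocalizedModule r hfree _ _ f

/-- generic freeness: nonempty opens contain nonempty affine free charts -/
theorem exists_isFChart_le [IsFinite g] [IsReduced X] [IsLocallyNoetherian X] {U : X.Opens} (hU : U ≠ ⊥) :
    ∃ W : X.Opens, W ≤ U ∧ W ≠ ⊥ ∧ IsFChart g W := by
  obtain ⟨x, hx⟩ := exists_mem_of_ne_bot hU
  obtain ⟨W₀, hW₀, hxW₀, hW₀U⟩ := Opens.isBasis_iff_nbhd.1 X.isBasis_affineOpens hx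
  obtain ⟨r, hr, hrc⟩ := exists_isFChart_basicOpen (g := g) hW₀ (ne_bot_of_mem hxW₀)
  exact ⟨X.basicOpen r, (X.basicOpen_le r).trans hW₀U, hr, hrc⟩

lemma isUnit_of_basicOpen_eq {Y : Scheme.{u}} {U : Y.Opens} (f : Γ(Y, U)) (h : Y.basicOpen f = U) :
    IsUnit f := by
  apply Y.toRingedSpace.isUnit_of_isUnit_germ U f
  intro x hx
  have hx' : x ∈ Y.basicOpen f := by rw [h]; exact hx
  exact (Y.mem_basicOpen f x hx).1 hx'

/-- functions on a reduced scheme agreeing on a dense family of opens are equal -/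
theorem eq_of_dense [IsReduced X] {U : X.Opens} (t t' : Γ(X, U))
    (h : ∀ U' : X.Opens, U' ≤ U → U' ≠ ⊥ →
      ∃ (U'' : X.Opens) (h'' : U'' ≤ U), U'' ≤ U' ∧ U'' ≠ ⊥ ∧ rfD h'' t = rfD h'' t') : t = t' := by
  rw [← sub_eq_zero]
  apply eq_zero_of_basicOpen_eq_bot
  by_contra hne
  obtain ⟨U'', h'', hU''le, hU''ne, heq⟩ := h (X.basicOpen (t - t')) (X.basicOpen_le _) hne
  have h0 : rfD h'' (t - t') = 0 := by rw [map_sub, heq, sub_self]
  have hunit : IsUnit (rfD h'' (t - t')) := by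
    apply isUnit_of_basicOpen_eq
    change X.basicOpen (X.presheaf.map (homOfLE h'').op (t - t')) = U''
    rw [Scheme.basicOpen_res]
    exact inf_eq_left.2 hU''le
  obtain ⟨y, hy⟩ := exists_mem_of_ne_bot hU''ne
  haveI : Nonempty ↥U'' := ⟨⟨y, hy⟩⟩
  rw [h0] at hunit
  exact not_isUnit_zero hunit

theorem isFChart_of_isBasisOn {V : X.Opens} {n : ℕ} {e : Fin n → Γ(E g, V)} (he : IsBasisOn (E g) V e)
    {W : X.Opens} (hW : IsAffineOpen W) (hWV : W ≤ V) :
    IsFChart g W ∧ (W ≠ ⊥ → rk g W = n) := by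
  letI := algW g W
  obtain ⟨b, -⟩ := exists_basis he hWV
  refine ⟨⟨hW, Module.Free.of_basis b⟩, fun hne => ?_⟩
  obtain ⟨y, hy⟩ := exists_mem_of_ne_bot hne
  haveI : Nonempty ↥W := ⟨⟨y, hy⟩⟩
  unfold rk
  rw [Module.finrank_eq_card_basis b, Fintype.card_fin]


end Groth.Agent.Lib.NormFChartH3
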