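import Groth.Agent.Lib.NormField85
import Mathlib.AlgebraicGeometry.Morphisms.Finite

set_option autoImplicit false
universe u

open CategoryTheory CategoryTheory.Limits AlgebraicGeometry TopologicalSpace

namespace Groth.Agent.Lib.NormFieldFin85

open Groth.Agent.Lib.NormField85

section

variable {X : Scheme.{u}} [IsIntegral X] {R : CommRingCat.{u}} (hR : IsField R)
  (ψ : X.presheaf.stalk (genericPoint X) ⟶ R) (g : Spec R ⟶ X)
  (hg : g = Spec.map ψ ≫ X.fromSpecStalk (genericPoint X)) [QuasiCompact g] [QuasiSeparated g]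

include hR hg in
set_option backward.isDefEq.respectTransparency false in
theorem finite_app_fromNormalization (hψ : ψ.hom.Finite) {V : X.Opens} (hV : IsAffineOpen V)
    [Nonempty V]
    (hfin : ∀ (L : Type u) [Field L] [Algebra Γ(X, V) L] [Algebra X.functionField L]
      [IsScalarTower Γ(X, V) X.functionField L], FiniteDimensional X.functionField L →
      Module.Finite Γ(X, V) (integralClosure Γ(X, V) L)) :
    (g.fromNormalization.app V).hom.Finite := by
  have hξ : genericPoint X ∈ V :=
    ((genericPoint_spec X).mem_open_set_iff V.isOpen).mpr (by simpa using ‹Nonempty V›)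
  let _ := (g.app V).hom.toAlgebra
  let _ := hR.toField
  have hiso := isIso_secHom ψ g hg hξ
  let e : Γ(Spec R, g ⁻¹ᵁ V) ≃+* R := (asIso (secHom g V)).symm.commRingCatIsoToRingEquiv
  let _ : Algebra Γ(X, V) R := (ψ.hom.comp (algebraMap Γ(X, V) X.functionField)).toAlgebra
  let _ : Algebra X.functionField R := ψ.hom.toAlgebra
  have : IsScalarTower Γ(X, V) X.functionField R := .of_algebraMap_eq' rfl
  have hfd : FiniteDimensional X.functionField R := hψ
  have h1 : Module.Finite Γ(X, V) (integralClosure Γ(X, V) R) := hfin R hfd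
  have happ := app_eq ψ g hg hξ
  let e' : Γ(Spec R, g ⁻¹ᵁ V) ≃ₐ[Γ(X, V)] R := AlgEquiv.ofRingEquiv (f := e) (fun a ↦ by
    change (inv (secHom g V)).hom ((g.app V).hom a) = ψ.hom ((X.germToFunctionField V).hom a)
    rw [happ]
    change (X.presheaf.germ V (genericPoint X) hξ ≫ ψ ≫ secHom g V ≫ inv (secHom g V)).hom a = _
    rw [IsIso.hom_inv_id, Category.comp_id]
    rfl)
  have h2 : Module.Finite Γ(X, V) (integralClosure Γ(X, V) Γ(Spec R, g ⁻¹ᵁ V)) :=
    Module.Finite.equiv e'.mapIntegralClosure.symm.toLinearEquiv
  rw [g.fromNormalization_app hV]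
  refine RingHom.Finite.comp (RingHom.Finite.of_surjective _ ?_) ?_
  · exact (ConcreteCategory.bijective_of_isIso (g.normalizationObjIso hV).inv).2
  · exact h2

include hR hg in
theorem isFinite_fromNormalization (hψ : ψ.hom.Finite)
    (hfin : ∀ (V : X.Opens) (_ : IsAffineOpen V) [Nonempty V] (L : Type u) [Field L]
      [Algebra Γ(X, V) L] [Algebra X.functionField L]
      [IsScalarTower Γ(X, V) X.functionField L], FiniteDimensional X.functionField L →
      Module.Finite Γ(X, V) (integralClosure Γ(X, V) L)) :
    IsFinite g.fromNormalization := by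
  rw [isFinite_iff]
  refine ⟨inferInstance, fun V hV ↦ ?_⟩
  by_cases hne : Nonempty V
  · exact finite_app_fromNormalization hR ψ g hg hψ hV (hfin V hV)
  · have hV0 : V = ⊥ := by
      ext x
      simp only [TopologicalSpace.Opens.coe_bot, Set.mem_empty_iff_false, iff_false]
      exact fun hx ↦ hne ⟨⟨x, hx⟩⟩
    subst hV0
    have hsub : Subsingleton Γ(g.normalization, g.fromNormalization ⁻¹ᵁ ⊥) := by
      rw [Scheme.Hom.preimage_bot]
      infer_instance
    let _ := (g.fromNormalization.app ⊥).hom.toAlgebra
    change Module.Finite Γ(X, ⊥) Γ(g.normalization, g.fromNormalization ⁻¹ᵁ ⊥)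
    infer_instance

end

/-- An integral morphism is strictly monotone for the specialization order. -/
theorem strictMono_of_isIntegralHom {N V : Scheme.{u}} (f : N ⟶ V) [IsIntegralHom f] :
    StrictMono f.base := by
  intro a b hab
  have h1 : b ⤳ a := Scheme.le_iff_specializes.mp hab.le
  have h2 : f b ⤳ f a := h1.map f.continuous
  refine lt_of_le_not_ge (Scheme.le_iff_specializes.mpr h2) fun hle ↦ ?_
  have h3 : f a ⤳ f b := Scheme.le_iff_specializes.mp hle
  have heq : f b = f a := (h2.antisymm h3).eq
  have := eq_of_specializes_of_isIntegralHom f h1 heq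
  subst this
  exact lt_irrefl _ hab

theorem ringKrullDim_stalk_le_of_isIntegralHom {N V : Scheme.{u}} (f : N ⟶ V) [IsIntegralHom f]
    (z : N) : ringKrullDim (N.presheaf.stalk z) ≤ ringKrullDim (V.presheaf.stalk (f z)) := by
  rw [ringKrullDim_stalk_eq_coheight, ringKrullDim_stalk_eq_coheight]
  exact_mod_cast Order.coheight_le_coheight_apply_of_strictMono _ (strictMono_of_isIntegralHom f) z

/-- Closed points of a scheme integral over a "curve" have local rings of dimension one. -/
theorem ringKrullDim_stalk_eq_one_of_isClosed {N V : Scheme.{u}} [IsIntegral N] [IsIntegral V]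
    (f : N ⟶ V) [IsIntegralHom f] (hgen : f (genericPoint N) = genericPoint V)
    (hV : ∀ x : V, IsClosed ({x} : Set V) → ringKrullDim (V.presheaf.stalk x) = 1)
    (z : N) (hz : IsClosed ({z} : Set N)) : ringKrullDim (N.presheaf.stalk z) = 1 := by
  have hfz : IsClosed ({f z} : Set V) := by
    have := f.isClosedMap _ hz
    rwa [Set.image_singleton] at this
  refine le_antisymm ((ringKrullDim_stalk_le_of_isIntegralHom f z).trans (hV _ hfz).le) ?_
  have hne : z ≠ genericPoint N := by
    rintro rfl
    have h1 := hV _ hfz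
    rw [hgen, ringKrullDim_stalk_eq_coheight] at h1
    have h2 : Order.coheight (genericPoint V) = 0 := Order.coheight_top (α := V)
    rw [h2] at h1
    exact zero_ne_one (α := WithBot ℕ∞) h1
  have hlt : z < genericPoint N := lt_of_le_not_ge (le_top (a := z)) fun hle ↦
    hne ((Scheme.le_iff_specializes.mp hle).antisymm (genericPoint_specializes z)).eq
  have h3 := Order.coheight_add_one_le hlt
  rw [ringKrullDim_stalk_eq_coheight]
  have h4 : (1 : ℕ∞) ≤ Order.coheight z := le_trans (by simp) h3
  exact_mod_cast h4

end Groth.Agent.Lib.NormFieldFin85
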