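import Groth.Agent.Lib.NormFieldFin85

/-!
# Finiteness of normalization in a field: version with a single field (helper85)

Variant of `NormFieldFin85.isFinite_fromNormalization` where finiteness of the integral closure is
only required in the given field `R`.
-/

set_option autoImplicit false
universe u

open CategoryTheory CategoryTheory.Limits AlgebraicGeometry TopologicalSpace

namespace Groth.Agent.Lib.NormFieldFin85b

open Groth.Agent.Lib.NormField85

section

variable {X : Scheme.{u}} [IsIntegral X] {R : CommRingCat.{u}} (hR : IsField R)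
  (ψ : X.presheaf.stalk (genericPoint X) ⟶ R) (g : Spec R ⟶ X)
  (hg : g = Spec.map ψ ≫ X.fromSpecStalk (genericPoint X)) [QuasiCompact g] [QuasiSeparated g]

include hR hg in
set_option backward.isDefEq.respectTransparency false in
theorem finite_app_fromNormalization {V : X.Opens} (hV : IsAffineOpen V)
    [Nonempty V]
    (hfin : ∀ (_ : Algebra Γ(X, V) R),
      algebraMap Γ(X, V) R = ψ.hom.comp (algebraMap Γ(X, V) X.functionField) →
      Module.Finite Γ(X, V) (integralClosure Γ(X, V) R)) :
    (g.fromNormalization.app V).hom.Finite := by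
  have hξ : genericPoint X ∈ V :=
    ((genericPoint_spec X).mem_open_set_iff V.isOpen).mpr (by simpa using ‹Nonempty V›)
  let _ := (g.app V).hom.toAlgebra
  let _ := hR.toField
  have hiso := isIso_secHom ψ g hg hξ
  let e : Γ(Spec R, g ⁻¹ᵁ V) ≃+* R := (asIso (secHom g V)).symm.commRingCatIsoToRingEquiv
  let _ : Algebra Γ(X, V) R := (ψ.hom.comp (algebraMap Γ(X, V) X.functionField)).toAlgebra
  have h1 : Module.Finite Γ(X, V) (integralClosure Γ(X, V) R) := hfin _ rfl
  have happ := app_eq ψ g hg hξ
  let e' : Γ(Spec R, g ⁻¹ᵁ V) ≃ₐ[Γ(X, V)] R := AlgEquiv.ofRingEquiv (f := e) (fun a ↦ by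
    change (inv (secHom g V)).hom ((g.app V).hom a) = ψ.hom ((X.germToFunctionField V).hom a)
    rw [happ]
    change (X.presheaf.germ V (genericPoint X) hξ ≫ ψ ≫ secHom g V ≫ inv (secHom g V)).hom a = _
    rw [IsIso.hom_inv_id, Category.comp_id]
    rfl)
  have h2 : Module.Finite Γ(X, V) (integralClosure Γ(X, V) Γ(Spec R, g ⁻¹ᵁ V)) :=
    Module.Finite.equiv e'.mapIntegralClosure.symm.toLinearEquiv
  rw [g.fromNormalization_app hV]
  refine RingHom.Finite.comp (RingHom.Finite.of_surjective _ ?_) ?_
  · exact (ConcreteCategory.bijective_of_isIso (g.normalizationObjIso hV).inv).2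
  · exact h2

include hR hg in
theorem isFinite_fromNormalization
    (hfin : ∀ (V : X.Opens) (_ : IsAffineOpen V) [Nonempty V] (_ : Algebra Γ(X, V) R),
      algebraMap Γ(X, V) R = ψ.hom.comp (algebraMap Γ(X, V) X.functionField) →
      Module.Finite Γ(X, V) (integralClosure Γ(X, V) R)) :
    IsFinite g.fromNormalization := by
  rw [isFinite_iff]
  refine ⟨inferInstance, fun V hV ↦ ?_⟩
  by_cases hne : Nonempty V
  · exact finite_app_fromNormalization hR ψ g hg hV (hfin V hV)
  · have hV0 : V = ⊥ := by
      ext x
      simp only [TopologicalSpace.Opens.coe_bot, Set.mem_empty_iff_false, iff_false]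
      exact fun hx ↦ hne ⟨⟨x, hx⟩⟩
    subst hV0
    have hsub : Subsingleton Γ(g.normalization, g.fromNormalization ⁻¹ᵁ ⊥) := by
      rw [Scheme.Hom.preimage_bot]
      infer_instance
    let _ := (g.fromNormalization.app ⊥).hom.toAlgebra
    change Module.Finite Γ(X, ⊥) Γ(g.normalization, g.fromNormalization ⁻¹ᵁ ⊥)
    infer_instance

end

end Groth.Agent.Lib.NormFieldFin85b
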