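import Groth.Agent.Lib.NormPreludeH3
import Groth.Agent.Lib.FibrationNormal5
import Groth.Prelude.Def_Pi1
import Mathlib.RingTheory.Norm.Transitivity
import Mathlib.FieldTheory.Minpoly.IsIntegrallyClosed
import Mathlib.RingTheory.Algebraic.Integral
import Mathlib.RingTheory.Localization.Finiteness

/-!
# helper3: the norm of a finite surjective morphism onto a normal integral scheme
(namespace `Groth.Agent.Lib.NormFieldH3`)

* `exists_norm_eq_mul_aeval` (algebra): `A` integrally closed with fraction field `K`, `F/K` a finite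
  field extension, `β ∈ F` integral over `A`: the field norm of `β` is (the image of) some `a : A`, and
  `β` divides `a` in `A[β]`.
* `psi π : K(Y) → K(X)`, `fnorm π : K(X) →* K(Y)` (the field norm), `finite_KF`.
* `exists_affine`, `exists_section`: the norm of a section over `π⁻¹ U` is a section over `U`.
* `normData π hY : NormData π`, `normData_app`: `N (π^♯ t) = t ^ deg π`, `one_le_deg`.
* `hasNorm`: the prelude's `Nrm.HasNorm π (deg π)`.
-/

set_option autoImplicit false
set_option linter.style.haveILetI false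
universe u
open CategoryTheory CategoryTheory.Limits AlgebraicGeometry Opposite TopologicalSpace
open Polynomial Module IntermediateField
open Groth.Agent.Lib.NormChartH3 Groth.Agent.Lib.NormGlueH3 Groth.Agent.Lib.NormPreludeH3

namespace Groth.Agent.Lib.NormFieldH3

/-- the norm of an integral element of a finite extension of the fraction field of an integrally
closed domain lies in the domain, and the element divides its norm in `A[β]` -/
theorem exists_norm_eq_mul_aeval {A K F : Type*} [CommRing A] [IsDomain A] [IsIntegrallyClosed A]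
    [Field K] [Algebra A K] [IsFractionRing A K] [Field F] [Algebra K F] [Algebra A F]
    [IsScalarTower A K F] [FiniteDimensional K F] (β : F) (hβ : IsIntegral A β) :
    ∃ (a : A) (Q : A[X]), algebraMap A K a = Algebra.norm K β ∧
      β * aeval β Q = algebraMap A F a := by
  classical
  have hβK : IsIntegral K β := hβ.tower_top
  set p := minpoly A β with hp
  have hpK : minpoly K β = p.map (algebraMap A K) :=
    minpoly.isIntegrallyClosed_eq_field_fractions' K hβ
  set m := finrank K⟮β⟯ F with hm
  have hm1 : 1 ≤ m := Nat.succ_le_of_lt finrank_pos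
  set pb := IntermediateField.adjoin.powerBasis hβK with hpb
  have h1 : Algebra.norm K β = Algebra.norm K (AdjoinSimple.gen K β) ^ m :=
    Algebra.norm_eq_norm_adjoin K β
  have h2 : Algebra.norm K (AdjoinSimple.gen K β) = (-1) ^ pb.dim * (minpoly K β).coeff 0 := by
    have := Algebra.PowerBasis.norm_gen_eq_coeff_zero_minpoly pb
    rw [IntermediateField.adjoin.powerBasis_gen, IntermediateField.minpoly_gen] at this
    exact this
  set c0 := p.coeff 0 with hc0
  set u : A := (-1) ^ pb.dim with hu
  have h3 : Algebra.norm K β = algebraMap A K ((u * c0) ^ m) := by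
    rw [h1, h2, hpK, coeff_map, map_pow, map_mul, hu, map_pow, map_neg, map_one]
  refine ⟨(u * c0) ^ m, C (u ^ m * c0 ^ (m - 1)) * (-divX p), h3.symm, ?_⟩
  have h4 : aeval β p = 0 := minpoly.aeval A β
  have h5 : algebraMap A F c0 = β * aeval β (-divX p) := by
    have h6 : p = divX p * X + C c0 := (divX_mul_X_add p).symm
    have h7 : aeval β (divX p * X + C c0) = 0 := by rw [← h6]; exact h4
    rw [map_add, map_mul, aeval_X, aeval_C] at h7
    rw [map_neg, mul_neg, ← mul_comm (aeval β (divX p)) β]
    exact eq_neg_of_add_eq_zero_right h7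
  rw [map_mul, aeval_C, mul_pow]
  have h8 : c0 ^ m = c0 ^ (m - 1) * c0 := by
    rw [← pow_succ, Nat.sub_add_cancel hm1]
  rw [h8, map_mul, map_mul, map_mul, h5]
  ring

section Scheme

variable {X Y : Scheme.{u}} [IsIntegral X] [IsIntegral Y] (π : X ⟶ Y)

theorem specializes [Surjective π] : π.base (genericPoint X) ⤳ genericPoint Y := by
  obtain ⟨x, hx⟩ := π.surjective (genericPoint Y)
  have h1 : genericPoint X ⤳ x := (genericPoint_spec X).specializes trivial
  have h2 := h1.map π.continuous
  rwa [hx] at h2

theorem map_genericPoint [Surjective π] : π.base (genericPoint X) = genericPoint Y :=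
  Groth.Agent.Lib.SteinNormal5.map_genericPoint_eq π (specializes π)

theorem mem_preimage [Surjective π] {U : Y.Opens} (h : genericPoint Y ∈ U) :
    genericPoint X ∈ π ⁻¹ᵁ U := by
  change π.base _ ∈ U
  rw [map_genericPoint]
  exact h

theorem mem_of_nonempty {Z : Scheme.{u}} [IsIntegral Z] {U : Z.Opens} {z : Z} (hz : z ∈ U) :
    genericPoint Z ∈ U :=
  Groth.Agent.Lib.FibrationNormal5.genericPoint_mem_of_nonempty U ⟨z, hz⟩

/-- the inclusion of function fields -/
noncomputable def psi [Surjective π] : Y.functionField →+* X.functionField :=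
  CohIII.stalkToFunctionField π (genericPoint Y) (specializes π)

theorem psi_germ [Surjective π] (U : Y.Opens) (h : genericPoint Y ∈ U) (t : Γ(Y, U)) :
    psi π (Y.presheaf.germ U (genericPoint Y) h t) =
      X.presheaf.germ (π ⁻¹ᵁ U) (genericPoint X) (mem_preimage π h) ((π.app U).hom t) := by
  have := Groth.Agent.Lib.FibrationNormal5.stalkToFunctionField_germ π (specializes π) U h
    (π ⁻¹ᵁ U) le_rfl (mem_preimage π h) t
  rw [← Scheme.Hom.app_eq_appLE] at this
  exact this

/-- `K(X)` as a `K(Y)`-algebra -/
noncomputable abbrev algKF [Surjective π] : Algebra Y.functionField X.functionField :=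
  (psi π).toAlgebra

/-- the field norm `K(X) →* K(Y)` -/
noncomputable def fnorm [Surjective π] : X.functionField →* Y.functionField :=
  @Algebra.norm Y.functionField X.functionField _ _ (algKF π)

/-- the degree `[K(X) : K(Y)]` -/
noncomputable def deg [Surjective π] : ℕ :=
  @Module.finrank Y.functionField X.functionField _ _ (algKF π).toModule

theorem app_injective [Surjective π] (V : Y.Opens) (hη : genericPoint Y ∈ V) :
    Function.Injective (π.app V).hom := by
  intro a a' h
  apply germ_injective_of_isIntegral Y (genericPoint Y) hη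
  apply (psi π).injective
  rw [psi_germ, psi_germ, h]

theorem finite_KF [IsFinite π] [Surjective π] :
    @Module.Finite Y.functionField X.functionField _ _ (algKF π).toModule := by
  obtain ⟨_, ⟨V, hV, rfl⟩, hηV, -⟩ :=
    Y.isBasis_affineOpens.exists_subset_of_mem_open (Set.mem_univ (genericPoint Y)) isOpen_univ
  have hξ := mem_preimage π hηV
  haveI : Nonempty V := ⟨⟨_, hηV⟩⟩
  haveI : Nonempty (π ⁻¹ᵁ V) := ⟨⟨_, hξ⟩⟩
  letI : Algebra Y.functionField X.functionField := algKF π
  letI : Algebra Γ(Y, V) Γ(X, π ⁻¹ᵁ V) := (π.app V).hom.toAlgebra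
  letI : Algebra Γ(Y, V) X.functionField :=
    ((algebraMap Y.functionField X.functionField).comp
      (algebraMap Γ(Y, V) Y.functionField)).toAlgebra
  haveI : IsScalarTower Γ(Y, V) Y.functionField X.functionField :=
    IsScalarTower.of_algebraMap_eq' rfl
  haveI : IsScalarTower Γ(Y, V) Γ(X, π ⁻¹ᵁ V) X.functionField :=
    IsScalarTower.of_algebraMap_eq (fun a => psi_germ π V hηV a)
  haveI : IsFractionRing Γ(Y, V) Y.functionField :=
    functionField_isFractionRing_of_isAffineOpen Y V hV
  haveI : IsFractionRing Γ(X, π ⁻¹ᵁ V) X.functionField :=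
    functionField_isFractionRing_of_isAffineOpen X _ (hV.preimage π)
  haveI : Module.Finite Γ(Y, V) Γ(X, π ⁻¹ᵁ V) := IsFinite.finite_app π V hV
  haveI : FaithfulSMul Γ(Y, V) Γ(X, π ⁻¹ᵁ V) :=
    (faithfulSMul_iff_algebraMap_injective _ _).2 (app_injective π V hηV)
  haveI : Algebra.IsAlgebraic Γ(Y, V) Γ(X, π ⁻¹ᵁ V) := inferInstance
  haveI : IsLocalization (Algebra.algebraMapSubmonoid Γ(X, π ⁻¹ᵁ V) (nonZeroDivisors Γ(Y, V)))
    X.functionField := inferInstance
  exact Module.Finite.of_isLocalization Γ(Y, V) Γ(X, π ⁻¹ᵁ V) (nonZeroDivisors Γ(Y, V))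

/-- the affine case: the norm of a section over `π⁻¹ V` is a section over `V`, and the section
divides (the pullback of) its norm -/
theorem exists_affine [IsFinite π] [Surjective π] (hY : Pi1.IsNormalScheme Y) (V : Y.Opens)
    (hV : IsAffineOpen V) (hη : genericPoint Y ∈ V) (b : Γ(X, π ⁻¹ᵁ V)) :
    ∃ (a : Γ(Y, V)) (c : Γ(X, π ⁻¹ᵁ V)),
      Y.presheaf.germ V (genericPoint Y) hη a =
        fnorm π (X.presheaf.germ (π ⁻¹ᵁ V) (genericPoint X) (mem_preimage π hη) b) ∧
      b * c = (π.app V).hom a := by
  have hξ := mem_preimage π hη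
  haveI : Nonempty V := ⟨⟨_, hη⟩⟩
  letI : Algebra Y.functionField X.functionField := algKF π
  letI : Algebra Γ(Y, V) X.functionField :=
    ((algebraMap Y.functionField X.functionField).comp
      (algebraMap Γ(Y, V) Y.functionField)).toAlgebra
  haveI : IsScalarTower Γ(Y, V) Y.functionField X.functionField :=
    IsScalarTower.of_algebraMap_eq' rfl
  haveI : IsFractionRing Γ(Y, V) Y.functionField :=
    functionField_isFractionRing_of_isAffineOpen Y V hV
  haveI : IsIntegrallyClosed Γ(Y, V) :=
    Groth.Agent.Lib.IntegralSection.isIntegrallyClosed_sections (fun y => (hY y).2) hV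
  haveI : FiniteDimensional Y.functionField X.functionField := finite_KF π
  set gX := X.presheaf.germ (π ⁻¹ᵁ V) (genericPoint X) hξ with hgX
  have hcomp : ∀ a : Γ(Y, V), algebraMap Γ(Y, V) X.functionField a = gX ((π.app V).hom a) :=
    fun a => psi_germ π V hη a
  have hcomp' : algebraMap Γ(Y, V) X.functionField = gX.hom.comp (π.app V).hom :=
    RingHom.ext hcomp
  have hfin : (π.app V).hom.Finite := IsFinite.finite_app π V hV
  obtain ⟨P, hP1, hP2⟩ := hfin.to_isIntegral b
  have hβ : IsIntegral Γ(Y, V) (gX b) := by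
    refine ⟨P, hP1, ?_⟩
    rw [hcomp', ← Polynomial.hom_eval₂, hP2, map_zero]
  obtain ⟨a, Q, h1, h2⟩ := exists_norm_eq_mul_aeval (A := Γ(Y, V)) (K := Y.functionField)
    (F := X.functionField) (gX b) hβ
  refine ⟨a, Polynomial.eval₂ (π.app V).hom b Q, h1, ?_⟩
  apply germ_injective_of_isIntegral X (genericPoint X) hξ
  change gX _ = gX _
  rw [map_mul, ← hcomp, ← h2]
  congr 1
  change gX.hom _ = _
  rw [Polynomial.hom_eval₂, ← hcomp']
  rfl

/-- sections are determined by their germ at the generic point -/
theorem eq_of_germ_eq (U : Y.Opens) (t t' : Γ(Y, U))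
    (h : ∀ hη : genericPoint Y ∈ U, Y.presheaf.germ U (genericPoint Y) hη t =
      Y.presheaf.germ U (genericPoint Y) hη t') : t = t' := by
  by_cases hη : genericPoint Y ∈ U
  · exact germ_injective_of_isIntegral Y _ hη (h hη)
  · have hbot : U = ⊥ := by
      by_contra hne
      obtain ⟨y, hy⟩ : (U : Set Y).Nonempty := by
        rw [Set.nonempty_iff_ne_empty]
        intro h0
        apply hne
        ext1
        simpa using h0
      exact hη (mem_of_nonempty hy)
    subst hbot
    haveI : Subsingleton Γ(Y, ⊥) :=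
      CommRingCat.subsingleton_of_isTerminal Y.sheaf.isTerminalOfEmpty
    exact Subsingleton.elim _ _

theorem germ_rfU [Surjective π] {U V : Y.Opens} (h : V ≤ U) (hη : genericPoint Y ∈ V)
    (s : Γ(X, π ⁻¹ᵁ U)) :
    X.presheaf.germ (π ⁻¹ᵁ V) (genericPoint X) (mem_preimage π hη) (rfU π h s) =
      X.presheaf.germ (π ⁻¹ᵁ U) (genericPoint X) (mem_preimage π (h hη)) s :=
  TopCat.Presheaf.germ_res_apply X.presheaf (homOfLE (π.preimage_mono h)) (genericPoint X)
    (mem_preimage π hη) s

theorem germ_rfD {U V : Y.Opens} (h : V ≤ U) (hη : genericPoint Y ∈ V) (t : Γ(Y, U)) :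
    Y.presheaf.germ V (genericPoint Y) hη (rfD h t) =
      Y.presheaf.germ U (genericPoint Y) (h hη) t :=
  TopCat.Presheaf.germ_res_apply Y.presheaf (homOfLE h) (genericPoint Y) hη t

/-- the norm of a section over `π⁻¹ U` is a section over `U` -/
theorem exists_section [IsFinite π] [Surjective π] (hY : Pi1.IsNormalScheme Y) (U : Y.Opens)
    (s : Γ(X, π ⁻¹ᵁ U)) :
    ∃ t : Γ(Y, U), ∀ hη : genericPoint Y ∈ U, Y.presheaf.germ U (genericPoint Y) hη t =
      fnorm π (X.presheaf.germ (π ⁻¹ᵁ U) (genericPoint X) (mem_preimage π hη) s) := by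
  by_cases hη : genericPoint Y ∈ U
  · obtain ⟨t, ht⟩ := Groth.Agent.Lib.FibrationNormal5.exists_germ_eq_of_forall_affine U hη
      (fnorm π (X.presheaf.germ (π ⁻¹ᵁ U) (genericPoint X) (mem_preimage π hη) s)) (by
        intro V hVU hV
        obtain ⟨a, c, h1, -⟩ := exists_affine π hY V.1 V.2 hV (rfU π hVU s)
        refine ⟨a, ?_⟩
        rw [h1, germ_rfU π hVU hV s])
    exact ⟨t, fun _ => ht⟩
  · exact ⟨0, fun h => absurd h hη⟩

/-- the norm on sections -/
noncomputable def nrmF [IsFinite π] [Surjective π] (hY : Pi1.IsNormalScheme Y) (U : Y.Opens)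
    (s : Γ(X, π ⁻¹ᵁ U)) : Γ(Y, U) := Classical.choose (exists_section π hY U s)

theorem germ_nrmF [IsFinite π] [Surjective π] (hY : Pi1.IsNormalScheme Y) (U : Y.Opens)
    (s : Γ(X, π ⁻¹ᵁ U)) (hη : genericPoint Y ∈ U) :
    Y.presheaf.germ U (genericPoint Y) hη (nrmF π hY U s) =
      fnorm π (X.presheaf.germ (π ⁻¹ᵁ U) (genericPoint X) (mem_preimage π hη) s) :=
  Classical.choose_spec (exists_section π hY U s) hη

/-- the norm maps of a finite surjective morphism of integral schemes with normal target -/
noncomputable def normData [IsFinite π] [Surjective π] (hY : Pi1.IsNormalScheme Y) :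
    NormData π where
  norm U :=
    { toFun := nrmF π hY U
      map_one' := by
        apply eq_of_germ_eq
        intro hη
        rw [germ_nrmF, map_one, map_one, map_one]
      map_mul' := by
        intro s s'
        apply eq_of_germ_eq
        intro hη
        rw [germ_nrmF, map_mul, map_mul, map_mul, germ_nrmF, germ_nrmF] }
  norm_res := by
    intro U V h s
    apply eq_of_germ_eq
    intro hη
    change Y.presheaf.germ V (genericPoint Y) hη (rfD h (nrmF π hY U s)) =
      Y.presheaf.germ V (genericPoint Y) hη (nrmF π hY V (rfU π h s))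
    rw [germ_rfD h hη, germ_nrmF, germ_nrmF, germ_rfU π h hη s]
  norm_le := by
    intro U s x hx
    have hxU : π.base x ∈ U := Y.basicOpen_le _ hx
    obtain ⟨_, ⟨V, hV, rfl⟩, hxV0, hVU0⟩ :=
      Y.isBasis_affineOpens.exists_subset_of_mem_open hxU U.2
    have hVU : V ≤ U := hVU0
    have hxV : π.base x ∈ V := hxV0
    have hη : genericPoint Y ∈ V := mem_of_nonempty hxV
    obtain ⟨a, c, h1, h2⟩ := exists_affine π hY V hV hη (rfU π hVU s)
    have ha : a = rfD hVU (nrmF π hY U s) := by
      apply eq_of_germ_eq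
      intro hη'
      rw [h1, germ_rfD hVU hη', germ_nrmF, germ_rfU π hVU hη' s]
    -- `π x ∈ D(a)`
    have h3 : π.base x ∈ Y.basicOpen a := by
      rw [ha]
      change π.base x ∈ Y.basicOpen ((Y.presheaf.map (homOfLE hVU).op).hom (nrmF π hY U s))
      rw [Scheme.basicOpen_res]
      exact ⟨hxV, hx⟩
    have h4 : x ∈ X.basicOpen ((π.app V).hom a) := by
      have := Scheme.preimage_basicOpen π a
      rw [← this]
      exact h3
    rw [← h2, Scheme.basicOpen_mul] at h4
    have h5 : x ∈ X.basicOpen (rfU π hVU s) := h4.1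
    change x ∈ X.basicOpen ((X.presheaf.map (homOfLE (π.preimage_mono hVU)).op).hom s) at h5
    rw [Scheme.basicOpen_res] at h5
    exact h5.2

theorem normData_apply [IsFinite π] [Surjective π] (hY : Pi1.IsNormalScheme Y) (U : Y.Opens)
    (s : Γ(X, π ⁻¹ᵁ U)) : (normData π hY).norm U s = nrmF π hY U s := rfl

theorem one_le_deg [IsFinite π] [Surjective π] : 1 ≤ deg π := by
  letI : Algebra Y.functionField X.functionField := algKF π
  haveI : FiniteDimensional Y.functionField X.functionField := finite_KF π
  exact Nat.succ_le_of_lt Module.finrank_pos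

theorem normData_app [IsFinite π] [Surjective π] (hY : Pi1.IsNormalScheme Y) (U : Y.Opens)
    (t : Γ(Y, U)) : (normData π hY).norm U (π.app U t) = t ^ deg π := by
  rw [normData_apply]
  apply eq_of_germ_eq
  intro hη
  rw [germ_nrmF, map_pow]
  have := psi_germ π U hη t
  change fnorm π (X.presheaf.germ (π ⁻¹ᵁ U) (genericPoint X) (mem_preimage π hη)
    ((π.app U).hom t)) = _
  rw [← this]
  letI : Algebra Y.functionField X.functionField := algKF π
  exact Algebra.norm_algebraMap (Y.presheaf.germ U (genericPoint Y) hη t)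

/-- **Norm for a finite surjective morphism onto a normal integral scheme.** -/
theorem hasNorm [IsFinite π] [Surjective π] (hY : Pi1.IsNormalScheme Y) :
    Nrm.HasNorm π (deg π) :=
  ⟨toNormOfDegree (normData π hY) (deg π) (one_le_deg π) (normData_app π hY)⟩

end Scheme

end Groth.Agent.Lib.NormFieldH3
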