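import Groth.Agent.Lib.NormChartH3

/-!
# helper3: the norm of a finite locally free morphism, glued (namespace `Groth.Agent.Lib.NormGlueH3`)

* `NormData π`: multiplicative maps `Γ(X', π⁻¹U) →* Γ(X, U)` compatible with restriction and such that
  `π⁻¹(D(N s)) ⊆ D(s)`.
* `glueNorm hE : NormData g` when `g_* O_{X'}` is finite locally free, with `glueNorm_of_isChart` (it is the
  algebra norm over charts) and `glueNorm_app_of_basis` (`N (g^♯ t) = t ^ n` inside an open with a basis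
  of `n` elements).
-/

set_option autoImplicit false
universe u
open CategoryTheory CategoryTheory.Limits AlgebraicGeometry Opposite TopologicalSpace
open Groth.Agent.Lib.H90Invertible Groth.Agent.Lib.StructureModule Groth.Agent.Lib.H78TensorGen
open Groth.Agent.Lib.H78SecCoord Groth.Agent.Lib.NormBasisH3 Groth.Agent.Lib.NormChartH3

namespace Groth.Agent.Lib.NormGlueH3

variable {X' X : Scheme.{u}}

/-- a system of norm maps for `π : X' ⟶ X` -/
structure NormData (π : X' ⟶ X) where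
  /-- the norm maps -/
  norm : ∀ U : X.Opens, Γ(X', π ⁻¹ᵁ U) →* Γ(X, U)
  norm_res : ∀ {U V : X.Opens} (h : V ≤ U) (s : Γ(X', π ⁻¹ᵁ U)),
    rfD h (norm U s) = norm V (rfU π h s)
  norm_le : ∀ (U : X.Opens) (s : Γ(X', π ⁻¹ᵁ U)), π ⁻¹ᵁ (X.basicOpen (norm U s)) ≤ X'.basicOpen s

variable (g : X' ⟶ X)

lemma rfU_rfU {W W' W'' : X.Opens} (h : W' ≤ W) (h' : W'' ≤ W') (s : Γ(X', g ⁻¹ᵁ W)) :
    rfU g h' (rfU g h s) = rfU g (h'.trans h) s := by
  change (X'.presheaf.map _ ≫ X'.presheaf.map _) s = _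
  rw [← Functor.map_comp]
  rfl

lemma rfD_rfD {W W' W'' : X.Opens} (h : W' ≤ W) (h' : W'' ≤ W') (a : Γ(X, W)) :
    rfD h' (rfD h a) = rfD (h'.trans h) a := by
  change (X.presheaf.map _ ≫ X.presheaf.map _) a = _
  rw [← Functor.map_comp]
  rfl

lemma rfU_self {W : X.Opens} (s : Γ(X', g ⁻¹ᵁ W)) : rfU g (le_refl W) s = s := by
  have : (homOfLE (g.preimage_mono (le_refl W))).op = 𝟙 (op (g ⁻¹ᵁ W)) := rfl
  change (X'.presheaf.map _) s = s
  rw [this, X'.presheaf.map_id]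
  rfl

lemma rfD_self {W : X.Opens} (a : Γ(X, W)) : rfD (le_refl W) a = a := by
  have : (homOfLE (le_refl W)).op = 𝟙 (op W) := rfl
  change (X.presheaf.map _) a = a
  rw [this, X.presheaf.map_id]
  rfl

variable {g}

section Glue

variable (hE : FlatMod.IsFinLocFree (E g))

include hE in
theorem rfD_ext {U : X.Opens} {t t' : Γ(X, U)}
    (h : ∀ (W : X.Opens) (hW : W ≤ U), IsChart g W → rfD hW t = rfD hW t') : t = t' := by
  refine sec_ext (Coh.structureModule X) (toSec U t) (toSec U t') (fun x hx => ?_)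
  obtain ⟨W, hxW, hWU, hW⟩ := exists_isChart hE hx
  exact ⟨W, hWU, hxW, h W hWU hW⟩

include hE in
theorem exists_glue (U : X.Opens) (s : Γ(X', g ⁻¹ᵁ U)) :
    ∃ t : Γ(X, U), ∀ (W : X.Opens) (hW : W ≤ U), IsChart g W → rfD hW t = nrm g W (rfU g hW s) := by
  let ι := {W : X.Opens // W ≤ U ∧ IsChart g W}
  obtain ⟨t, ht⟩ := sec_glue (Coh.structureModule X) (V := U) (fun i : ι => i.1) (fun i => i.2.1)
    (by
      intro x hx
      obtain ⟨W, hxW, hWU, hW⟩ := exists_isChart hE hx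
      exact Opens.mem_iSup.2 ⟨⟨W, hWU, hW⟩, hxW⟩)
    (fun i => toSec i.1 (nrm g i.1 (rfU g i.2.1 s)))
    (by
      intro i j
      change rfD (inf_le_left : i.1 ⊓ j.1 ≤ i.1) (nrm g i.1 (rfU g i.2.1 s)) =
        rfD (inf_le_right : i.1 ⊓ j.1 ≤ j.1) (nrm g j.1 (rfU g j.2.1 s))
      rw [nrm_rf i.2.2, nrm_rf j.2.2, rfU_rfU, rfU_rfU])
  exact ⟨ofS X U t, fun W hW hWc => ht ⟨W, hW, hWc⟩⟩

/-- the glued norm -/
noncomputable def gN (U : X.Opens) (s : Γ(X', g ⁻¹ᵁ U)) : Γ(X, U) := (exists_glue hE U s).choose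

lemma gN_spec (U : X.Opens) (s : Γ(X', g ⁻¹ᵁ U)) {W : X.Opens} (hW : W ≤ U) (hWc : IsChart g W) :
    rfD hW (gN hE U s) = nrm g W (rfU g hW s) :=
  (exists_glue hE U s).choose_spec W hW hWc

lemma gN_unique (U : X.Opens) (s : Γ(X', g ⁻¹ᵁ U)) (t : Γ(X, U))
    (h : ∀ (W : X.Opens) (hW : W ≤ U), IsChart g W → rfD hW t = nrm g W (rfU g hW s)) :
    t = gN hE U s :=
  rfD_ext hE (fun W hW hWc => (h W hW hWc).trans (gN_spec hE U s hW hWc).symm)

lemma gN_of_isChart {U : X.Opens} (hU : IsChart g U) (s : Γ(X', g ⁻¹ᵁ U)) :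
    gN hE U s = nrm g U s := by
  have := gN_spec hE U s le_rfl hU
  rwa [rfD_self, rfU_self] at this

lemma gN_res {U V : X.Opens} (h : V ≤ U) (s : Γ(X', g ⁻¹ᵁ U)) :
    rfD h (gN hE U s) = gN hE V (rfU g h s) := by
  apply gN_unique
  intro W hW hWc
  rw [rfD_rfD, rfU_rfU]
  exact gN_spec hE U s (hW.trans h) hWc

lemma gN_one (U : X.Opens) : gN hE U 1 = 1 := by
  symm
  apply gN_unique
  intro W hW hWc
  rw [map_one, map_one, map_one]

lemma gN_mul (U : X.Opens) (s s' : Γ(X', g ⁻¹ᵁ U)) : gN hE U (s * s') = gN hE U s * gN hE U s' := by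
  symm
  apply gN_unique
  intro W hW hWc
  rw [map_mul, map_mul, map_mul, gN_spec hE U s hW hWc, gN_spec hE U s' hW hWc]

lemma gN_le (U : X.Opens) (s : Γ(X', g ⁻¹ᵁ U)) :
    g ⁻¹ᵁ (X.basicOpen (gN hE U s)) ≤ X'.basicOpen s := by
  intro x' hx'
  have hxU : g x' ∈ U := X.basicOpen_le _ hx'
  obtain ⟨W, hxW, hWU, hW⟩ := exists_isChart hE hxU
  obtain ⟨c, hc⟩ := exists_nrm_eq_mul hW (rfU g hWU s)
  rw [← gN_spec hE U s hWU hW] at hc
  -- `g x' ∈ D(N s) ⊓ W = D(N s |_W)`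
  have h1 : g x' ∈ X.basicOpen (rfD hWU (gN hE U s)) := by
    change g x' ∈ X.basicOpen (X.presheaf.map (homOfLE hWU).op (gN hE U s))
    rw [Scheme.basicOpen_res]
    exact ⟨hxW, hx'⟩
  have h2 : x' ∈ X'.basicOpen (g.app W (rfD hWU (gN hE U s))) := by
    rw [← Scheme.preimage_basicOpen]
    exact h1
  rw [hc, Scheme.basicOpen_mul] at h2
  have h3 : x' ∈ X'.basicOpen (X'.presheaf.map (homOfLE (g.preimage_mono hWU)).op s) := h2.1
  rw [Scheme.basicOpen_res] at h3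
  exact h3.2

/-- the glued norm as a `NormData` -/
noncomputable def glueNorm : NormData g where
  norm U :=
    { toFun := gN hE U
      map_one' := gN_one hE U
      map_mul' := gN_mul hE U }
  norm_res h s := gN_res hE h s
  norm_le U s := gN_le hE U s

lemma glueNorm_of_isChart {U : X.Opens} (hU : IsChart g U) (s : Γ(X', g ⁻¹ᵁ U)) :
    (glueNorm hE).norm U s = nrm g U s := gN_of_isChart hE hU s

lemma glueNorm_app_of_basis {V : X.Opens} {n : ℕ} {e : Fin n → Γ(E g, V)} (he : IsBasisOn (E g) V e)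
    {U : X.Opens} (hU : U ≤ V) (t : Γ(X, U)) :
    (glueNorm hE).norm U (g.app U t) = t ^ n := by
  rw [glueNorm_of_isChart hE ⟨V, n, e, hU, he⟩]
  exact nrm_app_of_basis he hU t

end Glue

end Groth.Agent.Lib.NormGlueH3
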