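import Groth.Agent.Lib.H14SerreNormal
import Groth.Agent.Lib.H8CM10
import Groth.Agent.S0318
import Groth.Agent.Lib.LocCohLES
import Groth.Agent.Lib.LocCohH0
import Groth.Agent.Lib.LocCohFaltings

/-!
# Hartogs for normal Noetherian domains, via `depth ≥ 2` (helper53)
-/

set_option maxHeartbeats 400000
set_option linter.unusedSectionVars false
set_option linter.style.haveILetI false
universe u

namespace Groth.Agent.Lib.NormHartogs53
open Groth.Agent.Lib.LocCohLES

section N
variable (D : Type u) [CommRing D] [IsDomain D] [IsNoetherianRing D] [IsIntegrallyClosed D]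

theorem two_le_depth_localization (Q : Ideal D) [Q.IsPrime] (hQ : 2 ≤ Q.height) :
    (2 : ℕ∞) ≤ LocCoh.depth (Localization.AtPrime Q) (Localization.AtPrime Q) := by
  haveI : IsIntegrallyClosed (Localization.AtPrime Q) :=
    isIntegrallyClosed_of_isLocalization _ Q.primeCompl Q.primeCompl_le_nonZeroDivisors
  have h1 := Groth.Agent.Lib.H14SerreNormal.min_two_height_le_depth_of_normal
    (Localization.AtPrime Q)
  have hht : (IsLocalRing.maximalIdeal (Localization.AtPrime Q)).height = Q.height := by
    apply WithBot.coe_injective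
    rw [IsLocalRing.maximalIdeal_height_eq_ringKrullDim,
      IsLocalization.AtPrime.ringKrullDim_eq_height Q]
  rw [hht, min_eq_left hQ] at h1
  exact h1

/-- if every prime containing `I` has height `≥ 2` then `depth_I(D) ≥ 2`. -/
theorem two_le_idealDepth (I : Ideal D) (hI : ∀ Q : Ideal D, Q.IsPrime → I ≤ Q → 2 ≤ Q.height) :
    (2 : ℕ∞) ≤ LocCoh.idealDepth I D := by
  rw [Groth.Agent.Lib.H8CM.idealDepth_eq_iInf_depth_localizedModule I]
  refine le_iInf₂ fun p hp => ?_
  haveI := p.2
  have h1 := two_le_depth_localization D p.asIdeal (hI p.asIdeal p.2 hp)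
  have e : LocalizedModule p.asIdeal.primeCompl D ≃ₗ[Localization.AtPrime p.asIdeal]
      Localization.AtPrime p.asIdeal :=
    IsLocalizedModule.linearEquiv p.asIdeal.primeCompl
      (LocalizedModule.mkLinearMap p.asIdeal.primeCompl D)
      (Algebra.linearMap D (Localization.AtPrime p.asIdeal)) |>.extendScalarsOfIsLocalization
        p.asIdeal.primeCompl (Localization.AtPrime p.asIdeal)
  rw [Groth.Agent.Lib.H8CM.depth_eq_of_equiv e]
  exact h1

theorem subsingleton_H_of_height (I : Ideal D)
    (hI : ∀ Q : Ideal D, Q.IsPrime → I ≤ Q → 2 ≤ Q.height) (i : ℕ) (hi : i < 2) :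
    Subsingleton (LocCoh.H I i D) := by
  by_cases hIM : I • (⊤ : Submodule D D) = ⊤
  · exact Groth.Agent.Lib.LocCohFaltings.subsingleton_H_of_smul_top_eq_top I D hIM i
  · exact Groth.Agent.S0318.subsingleton_H_of_lt I D hIM 2 (two_le_idealDepth D I hI) i hi

end N

end Groth.Agent.Lib.NormHartogs53
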