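import Groth.Agent.Lib.NormHartogs53a

/-!
# Hartogs for normal Noetherian domains: `Γ_I(K/D) = 0` (helper53)
-/

set_option maxHeartbeats 400000
set_option linter.unusedSectionVars false
set_option linter.style.haveILetI false
universe u

namespace Groth.Agent.Lib.NormHartogs53
open Groth.Agent.Lib.LocCohLES

section N
variable (D : Type u) [CommRing D] [IsDomain D] [IsNoetherianRing D] [IsIntegrallyClosed D]
  (K : Type u) [Field K] [Algebra D K] [IsFractionRing D K]

/-- **Hartogs**: in a normal Noetherian domain, if all primes containing `I` have height `≥ 2`,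
an element `x` of the fraction field with `I^n x ⊆ D` lies in `D`. -/
theorem mem_range_of_pow_mul (I : Ideal D)
    (hI : ∀ Q : Ideal D, Q.IsPrime → I ≤ Q → 2 ≤ Q.height) (x : K) (n : ℕ)
    (hx : ∀ r ∈ I ^ n, ∃ d : D, algebraMap D K d = algebraMap D K r * x) :
    ∃ d : D, algebraMap D K d = x := by
  have hinj : Function.Injective (algebraMap D K) := IsFractionRing.injective D K
  -- `I ≠ ⊥`
  have hI0 : ∃ e ∈ I, e ≠ 0 := by
    by_contra hcon
    push Not at hcon
    have hIbot : I ≤ ⊥ := fun e he => by rw [Ideal.mem_bot]; exact hcon e he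
    have h2 := hI ⊥ Ideal.isPrime_bot hIbot
    rw [Ideal.height_bot] at h2
    exact absurd h2 (by decide)
  obtain ⟨e, heI, he0⟩ := hI0
  let f : D →ₗ[D] K := Algebra.linearMap D K
  let g : K →ₗ[D] K ⧸ LinearMap.range f := (LinearMap.range f).mkQ
  have hf : Function.Injective f := hinj
  have hg : Function.Surjective g := Submodule.mkQ_surjective _
  have hfg : Function.Exact f g := LinearMap.exact_map_mkQ_range f
  -- `Γ_I(K) = 0`
  have hK : Subsingleton (LocCoh.H I 0 K) := by
    refine ⟨fun a b => (Groth.Agent.Lib.LocCohH0.gammaEquiv I K).injective (Subtype.ext ?_)⟩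
    have key : ∀ y : DRing.torsionSub I K, (y : K) = 0 := by
      rintro ⟨y, m, hm⟩
      have h1 := hm (e ^ m) (Ideal.pow_mem_pow heI m)
      rw [Algebra.smul_def] at h1
      rcases mul_eq_zero.1 h1 with h2 | h2
      · exact absurd ((map_eq_zero_iff _ hinj).1 h2) (pow_ne_zero m he0)
      · exact h2
    rw [key, key]
  have hD1 : Subsingleton (LocCoh.H I 1 D) := subsingleton_H_of_height D I hI 1 (by norm_num)
  have hQ : Subsingleton (LocCoh.H I 0 (K ⧸ LinearMap.range f)) := by
    refine subsingleton_of_forall_eq 0 fun y => ?_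
    obtain ⟨z, rfl⟩ := (exact₃ I f g hf hfg hg 0 y).1 (Subsingleton.elim _ _)
    rw [Subsingleton.elim z 0, map_zero]
  -- the class of `x`
  have hxt : g x ∈ DRing.torsionSub I (K ⧸ LinearMap.range f) := by
    refine ⟨n, fun r hr => ?_⟩
    obtain ⟨d, hd⟩ := hx r hr
    rw [← map_smul, Algebra.smul_def, ← hd]
    exact (Submodule.Quotient.mk_eq_zero _).2 ⟨d, rfl⟩
  obtain ⟨w, hw⟩ := (Groth.Agent.Lib.LocCohH0.gammaEquiv I (K ⧸ LinearMap.range f)).surjective
    ⟨g x, hxt⟩
  rw [Subsingleton.elim w 0, map_zero] at hw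
  have h0 : g x = 0 := (congrArg Subtype.val hw).symm
  obtain ⟨d, hd⟩ := (Submodule.Quotient.mk_eq_zero _).1 h0
  exact ⟨d, hd⟩

end N

end Groth.Agent.Lib.NormHartogs53
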