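import Groth.Agent.Lib.NormHartogs53b
import Groth.Agent.Lib.CutoffFin53

/-!
# Heights in a finite extension of a universally catenary domain; Hartogs through the normalization
(helper53)
-/

set_option maxHeartbeats 400000
set_option linter.unusedSectionVars false
set_option linter.style.haveILetI false
universe u

namespace Groth.Agent.Lib.NormHartogs53
open Groth.Agent.Lib.LocCohLES

section ht
variable (B : Type u) [CommRing B] [IsDomain B] (hB : CAlg.IsUniversallyCatenary B)
  (D' : Type u) [CommRing D'] [IsDomain D'] [Algebra B D'] [FaithfulSMul B D'] [Module.Finite B D']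

include hB in
theorem height_eq_of_finite (Q : Ideal D') [Q.IsPrime] : Q.height = (Q.under B).height := by
  haveI : Algebra.FiniteType B D' := inferInstance
  have key := Groth.Agent.Lib.H56DimFormula.dimension_formula B hB D' (Q.under B) Q
  haveI : Algebra.IsIntegral B D' := inferInstance
  haveI : Algebra.IsAlgebraic B D' := inferInstance
  rw [Groth.Agent.Lib.CutoffFin53.trdeg_quotient_eq_zero, trdeg_eq_zero, add_zero, add_zero]
    at key
  exact_mod_cast key

end ht

end Groth.Agent.Lib.NormHartogs53
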