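import Groth.Agent.Lib.NormHartogs53c

/-!
# Elements of the fraction field regular at enough primes are integral (helper53)
-/

set_option maxHeartbeats 400000
set_option linter.unusedSectionVars false
set_option linter.style.haveILetI false
universe u

namespace Groth.Agent.Lib.NormHartogs53

section hull
variable (B : Type u) [CommRing B] [IsDomain B] [IsNoetherianRing B]
  (hB : CAlg.IsUniversallyCatenary B)
  (hfin : Module.Finite B (integralClosure B (FractionRing B)))

include hB hfin in
/-- Let `B` be a universally catenary Noetherian domain with finite normalization, and `Pset` a set of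
primes such that every nonzero prime outside `Pset` has height `≥ 2`.  An element of the fraction field
which is a fraction with denominator outside `q`, for every `q ∈ Pset`, is integral over `B`. -/
theorem isIntegral_of_forall_mem (Pset : Set (Ideal B))
    (hPs : ∀ q : Ideal B, q.IsPrime → q ≠ ⊥ → q ∉ Pset → 2 ≤ q.height)
    (x : FractionRing B)
    (hx : ∀ q : Ideal B, q.IsPrime → q ∈ Pset → ∃ s : B, s ∉ q ∧ ∃ a : B,
      algebraMap B (FractionRing B) a = algebraMap B (FractionRing B) s * x) :
    x ∈ integralClosure B (FractionRing B) := by
  -- the normalization
  haveI : Module.Finite B (integralClosure B (FractionRing B)) := hfin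
  haveI : IsNoetherian B (integralClosure B (FractionRing B)) :=
    isNoetherian_of_isNoetherianRing_of_finite B _
  haveI : IsNoetherianRing (integralClosure B (FractionRing B)) :=
    isNoetherian_of_tower B inferInstance
  haveI : IsIntegrallyClosed (integralClosure B (FractionRing B)) :=
    integralClosure.isIntegrallyClosedOfFiniteExtension (FractionRing B)
  haveI : IsFractionRing (integralClosure B (FractionRing B)) (FractionRing B) :=
    integralClosure.isFractionRing_of_finite_extension (FractionRing B) (FractionRing B)
  have hinjK : Function.Injective (algebraMap B (FractionRing B)) :=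
    IsFractionRing.injective B (FractionRing B)
  have hinj' : Function.Injective
      (algebraMap (integralClosure B (FractionRing B)) (FractionRing B)) :=
    Subtype.val_injective
  haveI : FaithfulSMul B (integralClosure B (FractionRing B)) := by
    rw [faithfulSMul_iff_algebraMap_injective]
    intro a b hab
    apply hinjK
    have := congrArg (algebraMap (integralClosure B (FractionRing B)) (FractionRing B)) hab
    rwa [← IsScalarTower.algebraMap_apply, ← IsScalarTower.algebraMap_apply] at this
  -- denominator ideal in the normalization
  let aa : Ideal (integralClosure B (FractionRing B)) :=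
    { carrier := {d | ∃ c : integralClosure B (FractionRing B),
        (c : FractionRing B) = (d : FractionRing B) * x}
      add_mem' := by
        rintro d₁ d₂ ⟨c₁, h₁⟩ ⟨c₂, h₂⟩
        exact ⟨c₁ + c₂, by push_cast; rw [h₁, h₂, add_mul]⟩
      zero_mem' := ⟨0, by simp⟩
      smul_mem' := by
        rintro e d ⟨c, h⟩
        exact ⟨e * c, by rw [smul_eq_mul]; push_cast; rw [h, mul_assoc]⟩ }
  have haa : ∀ Q : Ideal (integralClosure B (FractionRing B)), Q.IsPrime → aa ≤ Q →
      2 ≤ Q.height := by
    intro Q hQ haaQ
    haveI := hQ
    rw [height_eq_of_finite B hB (integralClosure B (FractionRing B)) Q]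
    have hq0 : Q.under B ≠ ⊥ := by
      intro h0
      -- `x = a / b`
      obtain ⟨a, b, hb, hab⟩ := IsFractionRing.div_surjective (A := B) x
      have hb0 : b ≠ 0 := nonZeroDivisors.ne_zero hb
      have hbmem : algebraMap B (integralClosure B (FractionRing B)) b ∈ aa := by
        refine ⟨algebraMap B (integralClosure B (FractionRing B)) a, ?_⟩
        change algebraMap B (FractionRing B) a = algebraMap B (FractionRing B) b * x
        rw [← hab, mul_div_cancel₀ _ ((map_ne_zero_iff _ hinjK).2 hb0)]
      have : b ∈ Q.under B := haaQ hbmem
      rw [h0, Ideal.mem_bot] at this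
      exact hb0 this
    by_contra hlt
    have hmem : Q.under B ∈ Pset := by
      by_contra hn
      exact hlt (hPs _ inferInstance hq0 hn)
    obtain ⟨s, hs, a, ha⟩ := hx _ inferInstance hmem
    apply hs
    refine haaQ ⟨algebraMap B (integralClosure B (FractionRing B)) a, ?_⟩
    exact ha
  obtain ⟨d, hd⟩ := mem_range_of_pow_mul (integralClosure B (FractionRing B)) (FractionRing B)
    aa haa x 1 (by
      intro r hr
      rw [pow_one] at hr
      obtain ⟨c, hc⟩ := hr
      exact ⟨c, hc⟩)
  rw [← hd]
  exact d.2

end hull

end Groth.Agent.Lib.NormHartogs53
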