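import Groth.Agent.Lib.NormHartogs53e
import Groth.Agent.Lib.LocCohIndepBase
import Groth.Agent.Lib.H1Fin53a

/-!
# `H^1_J(B)` is finite for a universally catenary domain with finite normalization when all primes
containing `J` have height `≥ 2` (helper53)
-/

set_option maxHeartbeats 400000
set_option linter.unusedSectionVars false
set_option linter.style.haveILetI false
universe u

namespace Groth.Agent.Lib.NormHartogs53
open Groth.Agent.Lib.LocCohLES

section dom
variable (B : Type u) [CommRing B] [IsDomain B] [IsNoetherianRing B]
  (hB : CAlg.IsUniversallyCatenary B)
  (hfin : Module.Finite B (integralClosure B (FractionRing B)))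

include hB hfin in
theorem finite_H1_of_normalization (J : Ideal B)
    (hJ : ∀ q : Ideal B, q.IsPrime → J ≤ q → 2 ≤ q.height) :
    Module.Finite B (LocCoh.H J 1 B) := by
  haveI : Module.Finite B (integralClosure B (FractionRing B)) := hfin
  haveI : IsNoetherian B (integralClosure B (FractionRing B)) :=
    isNoetherian_of_isNoetherianRing_of_finite B _
  haveI : IsNoetherianRing (integralClosure B (FractionRing B)) :=
    isNoetherian_of_tower B inferInstance
  haveI : IsIntegrallyClosed (integralClosure B (FractionRing B)) :=
    integralClosure.isIntegrallyClosedOfFiniteExtension (FractionRing B)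
  have hinjK : Function.Injective (algebraMap B (FractionRing B)) :=
    IsFractionRing.injective B (FractionRing B)
  have hinj : Function.Injective (algebraMap B (integralClosure B (FractionRing B))) := by
    intro a b hab
    apply hinjK
    have := congrArg (algebraMap (integralClosure B (FractionRing B)) (FractionRing B)) hab
    rwa [← IsScalarTower.algebraMap_apply, ← IsScalarTower.algebraMap_apply] at this
  haveI : FaithfulSMul B (integralClosure B (FractionRing B)) :=
    (faithfulSMul_iff_algebraMap_injective _ _).2 hinj
  -- `H^1_{JD'}(D') = 0`
  have h1 : Subsingleton (LocCoh.H (J.map (algebraMap B (integralClosure B (FractionRing B)))) 1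
      (integralClosure B (FractionRing B))) := by
    refine subsingleton_H_of_height _ _ (fun Q hQ hJQ => ?_) 1 (by norm_num)
    haveI := hQ
    rw [height_eq_of_finite B hB (integralClosure B (FractionRing B)) Q]
    exact hJ _ inferInstance (Ideal.map_le_iff_le_comap.1 hJQ)
  obtain ⟨φ, -⟩ := Groth.Agent.Lib.LocCohIndepBase.indep_base (R := B)
    (R' := integralClosure B (FractionRing B)) J 1 (integralClosure B (FractionRing B))
  have h2 : Subsingleton (LocCoh.H J 1 (integralClosure B (FractionRing B))) :=
    φ.symm.toEquiv.subsingleton
  -- the sequence `0 → B → D' → D'/B → 0`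
  let f : B →ₗ[B] integralClosure B (FractionRing B) :=
    Algebra.linearMap B (integralClosure B (FractionRing B))
  let g := (LinearMap.range f).mkQ
  have hg : Function.Surjective g := Submodule.mkQ_surjective _
  have hfg : Function.Exact f g := LinearMap.exact_map_mkQ_range f
  have hsurj : Function.Surjective (Hδ J f g hinj hfg hg 0) := by
    intro y
    exact (exact₁ J f g hinj hfg hg 0 y).1 (Subsingleton.elim _ _)
  haveI := Groth.Agent.Lib.H1Fin53.finite_H0 J
    (integralClosure B (FractionRing B) ⧸ LinearMap.range f)
  exact Module.Finite.of_surjective _ hsurj

end dom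

end Groth.Agent.Lib.NormHartogs53
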