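import Groth.Agent.Lib.NormHartogs53f
import Groth.Agent.Lib.PushCompl53b

/-!
# EGA IV 5.11.1-type finiteness over universally catenary Nagata / universally Japanese rings
(helper53)
-/

set_option maxHeartbeats 400000
set_option linter.unusedSectionVars false
set_option linter.style.haveILetI false
universe u

namespace Groth.Agent.Lib.NormHartogs53
open Groth.Agent.Lib.PushCompl53 Groth.Agent.Lib.H1Fin53

theorem n1_of_n2 (S : Type u) [CommRing S] [IsDomain S] (h : CAlg.IsN2 S) :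
    Module.Finite S (integralClosure S (FractionRing S)) :=
  h (FractionRing S) inferInstance

section main
variable (A : Type u) [CommRing A] [IsNoetherianRing A]
  (M : Type u) [AddCommGroup M] [Module A M] [Module.Finite A M]

/-- finiteness of `H^1_I(M)` from the domain case. -/
theorem finite_H1_of_forall (hU : CAlg.IsUniversallyCatenary A) (I : Ideal A)
    (hN1 : ∀ p : Ideal A, p.IsPrime → p ∈ associatedPrimes A M → ¬ I ≤ p →
      Module.Finite (A ⧸ p) (integralClosure (A ⧸ p) (FractionRing (A ⧸ p))))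
    (h : ∀ p : Ideal A, p.IsPrime → p ∈ associatedPrimes A M → ¬ I ≤ p →
      ∀ q' : Ideal (A ⧸ p), q'.IsPrime → I.map (Ideal.Quotient.mk p) ≤ q' → 2 ≤ q'.height) :
    Module.Finite A (LocCoh.H I 1 M) := by
  rw [finite_H1_iff]
  intro p hp hIp
  haveI hpp : p.IsPrime := hp.isPrime
  have hD : Module.Finite (A ⧸ p) (LocCoh.H (I.map (Ideal.Quotient.mk p)) 1 (A ⧸ p)) :=
    finite_H1_of_normalization (A ⧸ p) (Groth.Agent.S9684.uc_quotient hU p) (hN1 p hpp hp hIp) _
      (h p hpp hp hIp)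
  obtain ⟨φ, hφ⟩ := Groth.Agent.Lib.LocCohIndepBase.indep_base (R := A) (R' := A ⧸ p) I 1 (A ⧸ p)
  exact (finite_iff_of_addEquiv Ideal.Quotient.mk_surjective φ hφ).1 hD

theorem finite_H1_of_nagata (hN : CAlg.IsNagata A) (hU : CAlg.IsUniversallyCatenary A)
    (I : Ideal A)
    (h : ∀ (p q : PrimeSpectrum A) (hpq : p ≤ q), p.asIdeal ∈ associatedPrimes A M →
      ¬ I ≤ p.asIdeal → I ≤ q.asIdeal → (2 : ℕ∞) ≤ Order.height (⟨q, hpq⟩ : Set.Ici p)) :
    Module.Finite A (LocCoh.H I 1 M) := by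
  refine finite_H1_of_forall A M hU I (fun p hpp _ _ => n1_of_n2 _ (@hN.2 p hpp)) ?_
  intro p hpp hp hIp q' hq' hIq'
  haveI := hpp
  haveI := hq'
  have hpq : p ≤ q'.comap (Ideal.Quotient.mk p) := by
    intro a ha
    rw [Ideal.mem_comap, Ideal.Quotient.eq_zero_iff_mem.2 ha]
    exact Ideal.zero_mem _
  have hIq : I ≤ q'.comap (Ideal.Quotient.mk p) := Ideal.map_le_iff_le_comap.1 hIq'
  have h2 := h ⟨p, hpp⟩ ⟨q'.comap (Ideal.Quotient.mk p), inferInstance⟩
    ((PrimeSpectrum.asIdeal_le_asIdeal _ _).1 hpq) hp hIp hIq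
  rw [Groth.Agent.Lib.GFT53.orderHeight_Ici_eq] at h2
  change (2 : ℕ∞) ≤ ((q'.comap (Ideal.Quotient.mk p)).map (Ideal.Quotient.mk p)).height at h2
  rw [Ideal.map_comap_of_surjective _ Ideal.Quotient.mk_surjective] at h2
  exact h2

theorem isCoherentPushCompl_of_uc_uj
    (hA : CAlg.IsUniversallyCatenary A ∧ CAlg.IsUniversallyJapanese A) (J : Ideal A)
    (h : ∀ p ∈ associatedPrimes A M, ¬ J ≤ p →
      (2 : ℕ∞) ≤ (J.map (Ideal.Quotient.mk p)).height) :
    EGA4.IsCoherentPushCompl A J M := by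
  rw [isCoherentPushCompl_iff_finite_H1]
  refine finite_H1_of_forall A M hA.1 J (fun p hpp _ _ => ?_) ?_
  · haveI := hpp
    refine n1_of_n2 _ (hA.2 (A ⧸ p) ?_)
    exact Algebra.FiniteType.of_surjective (Ideal.Quotient.mkₐ A p) Ideal.Quotient.mk_surjective
  · intro p hpp hp hJp q' hq' hJq'
    exact (h p hp hJp).trans (Ideal.height_mono hJq')

end main

end Groth.Agent.Lib.NormHartogs53
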