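import Groth.Agent.Lib.NormMixNormalH3
import Mathlib.AlgebraicGeometry.SpreadingOut

/-!
# helper3: the glued norm under the mixed hypothesis "normal or locally free at every point"
(namespace `Groth.Agent.Lib.NormMixGlueH3`)

`g : X' ⟶ X` finite surjective, `X` reduced locally Noetherian, and at every point `x` of `X` either the local ring
is an integrally closed domain or `g_* O_{X'}` has a basis near `x` (`Hyp g`).

* `mN hyp U s : Γ(X, U)`: the norm of `s ∈ Γ(X', g⁻¹U)`; `mN_spec`, `mN_res`, `mN_one`, `mN_mul`;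
  `mN_le`: if `mN s` is invertible at `x` then `s` is invertible at some point over `x`.
* `HasDeg g W n`: every nonempty affine free chart inside `W` has rank `n`; `exists_hasDeg`, `HasDeg.eq`,
  `mN_app_of_hasDeg : mN U (g^♯ τ) = τ ^ n`.
-/
set_option autoImplicit false
set_option linter.style.haveILetI false
universe u
open CategoryTheory CategoryTheory.Limits AlgebraicGeometry Opposite TopologicalSpace
open Groth.Agent.Lib.H90Invertible Groth.Agent.Lib.StructureModule Groth.Agent.Lib.H78TensorGen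
open Groth.Agent.Lib.H78SecCoord Groth.Agent.Lib.NormBasisH3 Groth.Agent.Lib.NormChartH3
open Groth.Agent.Lib.NormGlueH3 Groth.Agent.Lib.NormFChartH3 Groth.Agent.Lib.NormMixH3
open Groth.Agent.Lib.NormMixNormalH3

namespace Groth.Agent.Lib.NormMixGlueH3

variable {X' X : Scheme.{u}} (g : X' ⟶ X)

/-- at every point the local ring is an integrally closed domain or `g_* O_{X'}` has a basis nearby -/
def Hyp : Prop :=
  ∀ x : X, (IsDomain (X.presheaf.stalk x) ∧ IsIntegrallyClosed (X.presheaf.stalk x)) ∨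
    ∃ (V : X.Opens) (n : ℕ) (e : Fin n → Γ(E g, V)), x ∈ V ∧ IsBasisOn (E g) V e

theorem hyp_of
    (hW : ∀ x : X, (IsDomain (X.presheaf.stalk x) ∧ IsIntegrallyClosed (X.presheaf.stalk x)) ∨
      ∃ T : X.Opens, x ∈ T ∧
        FlatMod.IsFinLocFree (((Coh.push g).obj (Coh.structureModule X')).restrict T.ι)) : Hyp g := by
  intro x
  rcases hW x with h | ⟨T, hxT, hT⟩
  · exact Or.inl h
  · right
    have hT' : FlatMod.IsFinLocFree ((E g).restrict T.ι) := hT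
    obtain ⟨V, n, e, hxV, he⟩ := exists_isBasisOn hT' (⟨x, hxT⟩ : T)
    exact ⟨T.ι ''ᵁ V, n, e, ⟨⟨x, hxT⟩, hxV, rfl⟩, isBasisOn_of_restrict T.ι (E g) V e he⟩

variable {g}
variable [IsFinite g] [Surjective g] [IsReduced X] [IsLocallyNoetherian X]

theorem exists_local (hyp : Hyp g) {U : X.Opens} (s : Γ(X', g ⁻¹ᵁ U)) {x : X} (hx : x ∈ U) :
    ∃ (V : X.Opens) (hV : V ≤ U) (t : Γ(X, V)), x ∈ V ∧ IsNrm g V (rfU g hV s) t ∧
      (x ∈ X.basicOpen t → ∃ x' : X', g x' = x ∧ x' ∈ X'.basicOpen s) := by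
  rcases hyp x with ⟨hdom, hic⟩ | ⟨V₀, n, e, hxV₀, he⟩
  · haveI := hdom
    haveI := hic
    obtain ⟨W, hxW, hWaff, hWU, hinj⟩ := X.exists_le_and_germ_injective x U hx
    obtain ⟨σ, t, hxσ, hN, hle⟩ := exists_isNrm_of_normal (g := g) hWaff hxW hinj (rfU g hWU s)
    refine ⟨X.basicOpen σ, (X.basicOpen_le σ).trans hWU, t, hxσ, ?_, ?_⟩
    · rw [rfU_rfU] at hN
      exact hN
    · intro hxt
      obtain ⟨x', hx', hx's⟩ := hle hxt
      refine ⟨x', hx', ?_⟩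
      change x' ∈ X'.basicOpen (X'.presheaf.map (homOfLE (g.preimage_mono hWU)).op s) at hx's
      rw [Scheme.basicOpen_res] at hx's
      exact hx's.2
  · refine ⟨V₀ ⊓ U, inf_le_right, nrm g (V₀ ⊓ U) (rfU g inf_le_right s), ⟨hxV₀, hx⟩,
      isNrm_of_isBasisOn he inf_le_left _, ?_⟩
    intro hxt
    obtain ⟨x', rfl⟩ := g.surjective x
    refine ⟨x', rfl, ?_⟩
    obtain ⟨c, hc⟩ := exists_nrm_eq_mul_of_basis he (inf_le_left : V₀ ⊓ U ≤ V₀)
      (rfU g (inf_le_right : V₀ ⊓ U ≤ U) s)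
    have h2 : x' ∈ X'.basicOpen (g.app (V₀ ⊓ U) (nrm g (V₀ ⊓ U) (rfU g inf_le_right s))) := by
      rw [← Scheme.preimage_basicOpen]
      exact hxt
    rw [hc, Scheme.basicOpen_mul] at h2
    have h3 : x' ∈ X'.basicOpen
        (X'.presheaf.map (homOfLE (g.preimage_mono (inf_le_right : V₀ ⊓ U ≤ U))).op s) := h2.1
    rw [Scheme.basicOpen_res] at h3
    exact h3.2

theorem exists_isNrm (hyp : Hyp g) (U : X.Opens) (s : Γ(X', g ⁻¹ᵁ U)) :
    ∃ t : Γ(X, U), IsNrm g U s t := by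
  let ι := {V : X.Opens // ∃ hV : V ≤ U, ∃ t : Γ(X, V), IsNrm g V (rfU g hV s) t}
  have hle : ∀ i : ι, i.1 ≤ U := fun i => i.2.choose
  have ht : ∀ i : ι, ∃ t : Γ(X, i.1), IsNrm g i.1 (rfU g (hle i) s) t := fun i => i.2.choose_spec
  choose t ht using ht
  obtain ⟨τ, hτ⟩ := sec_glue (Coh.structureModule X) (V := U) (fun i : ι => i.1) hle
    (by
      intro x hx
      obtain ⟨V, hV, t₀, hxV, hN, -⟩ := exists_local hyp s hx
      exact Opens.mem_iSup.2 ⟨⟨V, hV, t₀, hN⟩, hxV⟩)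
    (fun i => toSec i.1 (t i))
    (by
      intro i j
      change rfD (inf_le_left : i.1 ⊓ j.1 ≤ i.1) (t i) = rfD (inf_le_right : i.1 ⊓ j.1 ≤ j.1) (t j)
      have h1 := (ht i).res (inf_le_left : i.1 ⊓ j.1 ≤ i.1)
      have h2 := (ht j).res (inf_le_right : i.1 ⊓ j.1 ≤ j.1)
      rw [rfU_rfU] at h1 h2
      exact h1.unique h2)
  refine ⟨ofS X U τ, IsNrm.of_local (fun x hx => ?_)⟩
  obtain ⟨V, hV, t₀, hxV, hN, -⟩ := exists_local hyp s hx
  refine ⟨V, hV, hxV, ?_⟩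
  have h1 : rfD hV (ofS X U τ) = t ⟨V, hV, t₀, hN⟩ := hτ ⟨V, hV, t₀, hN⟩
  rw [h1]
  exact ht ⟨V, hV, t₀, hN⟩

/-- the norm under the mixed hypothesis -/
noncomputable def mN (hyp : Hyp g) (U : X.Opens) (s : Γ(X', g ⁻¹ᵁ U)) : Γ(X, U) :=
  (exists_isNrm hyp U s).choose

lemma mN_spec (hyp : Hyp g) (U : X.Opens) (s : Γ(X', g ⁻¹ᵁ U)) : IsNrm g U s (mN hyp U s) :=
  (exists_isNrm hyp U s).choose_spec

lemma mN_res (hyp : Hyp g) {U V : X.Opens} (h : V ≤ U) (s : Γ(X', g ⁻¹ᵁ U)) :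
    rfD h (mN hyp U s) = mN hyp V (rfU g h s) :=
  ((mN_spec hyp U s).res h).unique (mN_spec hyp V _)

lemma mN_one (hyp : Hyp g) (U : X.Opens) : mN hyp U 1 = 1 :=
  (mN_spec hyp U 1).unique (isNrm_one U)

lemma mN_mul (hyp : Hyp g) (U : X.Opens) (s s' : Γ(X', g ⁻¹ᵁ U)) :
    mN hyp U (s * s') = mN hyp U s * mN hyp U s' :=
  (mN_spec hyp U (s * s')).unique ((mN_spec hyp U s).mul (mN_spec hyp U s'))

lemma mN_le (hyp : Hyp g) (U : X.Opens) (s : Γ(X', g ⁻¹ᵁ U)) {x : X}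
    (hx : x ∈ X.basicOpen (mN hyp U s)) : ∃ x' : X', g x' = x ∧ x' ∈ X'.basicOpen s := by
  have hxU : x ∈ U := X.basicOpen_le _ hx
  obtain ⟨V, hV, t, hxV, hN, hle⟩ := exists_local hyp s hxU
  have h1 : rfD hV (mN hyp U s) = t := ((mN_spec hyp U s).res hV).unique hN
  apply hle
  rw [← h1]
  change x ∈ X.basicOpen (X.presheaf.map (homOfLE hV).op (mN hyp U s))
  rw [Scheme.basicOpen_res]
  exact ⟨hxV, hx⟩

/-- the norm as a monoid homomorphism -/
noncomputable def mNHom (hyp : Hyp g) (U : X.Opens) : Γ(X', g ⁻¹ᵁ U) →* Γ(X, U) where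
  toFun := mN hyp U
  map_one' := mN_one hyp U
  map_mul' := mN_mul hyp U

section Degree

variable (g) in
/-- every nonempty affine free chart inside `W` has rank `n` -/
def HasDeg (W : X.Opens) (n : ℕ) : Prop :=
  ∀ W' : X.Opens, W' ≤ W → W' ≠ ⊥ → IsFChart g W' → rk g W' = n

omit [IsFinite g] [Surjective g] [IsReduced X] [IsLocallyNoetherian X] in
theorem HasDeg.mono {W W' : X.Opens} {n : ℕ} (h : HasDeg g W n) (hW' : W' ≤ W) : HasDeg g W' n :=
  fun W'' hW'' hne hc => h W'' (hW''.trans hW') hne hc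

omit [Surjective g] in
theorem HasDeg.eq {W₁ W₂ : X.Opens} {n₁ n₂ : ℕ} (h₁ : HasDeg g W₁ n₁) (h₂ : HasDeg g W₂ n₂)
    (hne : W₁ ⊓ W₂ ≠ ⊥) : n₁ = n₂ := by
  obtain ⟨W, hW, hWne, hWc⟩ := exists_isFChart_le (g := g) hne
  rw [← h₁ W (hW.trans inf_le_left) hWne hWc, ← h₂ W (hW.trans inf_le_right) hWne hWc]

omit [Surjective g] [IsReduced X] [IsLocallyNoetherian X] in
lemma rk_eq_of_basicOpen_eq {W₁ W₂ : X.Opens} (h₁ : IsFChart g W₁) (h₂ : IsFChart g W₂)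
    (f₁ : Γ(X, W₁)) (f₂ : Γ(X, W₂)) (h : X.basicOpen f₁ = X.basicOpen f₂)
    (hne : X.basicOpen f₁ ≠ ⊥) : rk g W₁ = rk g W₂ := by
  have e1 := (IsFChart.basicOpen h₁ f₁).2.2 hne
  have e2 := (IsFChart.basicOpen h₂ f₂).2.2 (h ▸ hne)
  rw [← e1, ← e2, h]

theorem exists_hasDeg (hyp : Hyp g) (x : X) :
    ∃ (W : X.Opens) (n : ℕ), x ∈ W ∧ 1 ≤ n ∧ HasDeg g W n := by
  rcases hyp x with ⟨hdom, hic⟩ | ⟨V₀, n, e, hxV₀, he⟩
  · haveI := hdom
    haveI := hic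
    obtain ⟨W, hxW, hWaff, -, hinj⟩ := X.exists_le_and_germ_injective x ⊤ trivial
    haveI : IsDomain Γ(X, W) := hinj.isDomain (X.presheaf.germ W x hxW).hom
    obtain ⟨b, hbne, hbc⟩ := exists_isFChart_basicOpen (g := g) hWaff (ne_bot_of_mem hxW)
    refine ⟨W, rk g (X.basicOpen b), hxW, ?_, ?_⟩
    · -- the rank is positive
      obtain ⟨y, hy⟩ := exists_mem_of_ne_bot hbne
      obtain ⟨y', rfl⟩ := g.surjective y
      letI := algW g (X.basicOpen b)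
      haveI : Module.Free Γ(X, X.basicOpen b) Γ(X', g ⁻¹ᵁ (X.basicOpen b)) := hbc.2
      haveI : Module.Finite Γ(X, X.basicOpen b) Γ(X', g ⁻¹ᵁ (X.basicOpen b)) :=
        IsFinite.finite_app g _ hbc.1
      haveI : Nonempty ↥(X.basicOpen b) := ⟨⟨g y', hy⟩⟩
      haveI : Nonempty ↥(g ⁻¹ᵁ (X.basicOpen b)) := ⟨⟨y', hy⟩⟩
      haveI : Nontrivial Γ(X', g ⁻¹ᵁ (X.basicOpen b)) := inferInstance
      exact Nat.succ_le_of_lt ((Module.finrank_pos_iff_of_free Γ(X, X.basicOpen b)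
        Γ(X', g ⁻¹ᵁ (X.basicOpen b))).2 inferInstance)
    · intro W' hW' hne hc
      have hne2 := inf_ne_bot_of_isDomain hWaff hW' (X.basicOpen_le b) hne hbne
      obtain ⟨y, hy⟩ := exists_mem_of_ne_bot hne2
      obtain ⟨f₁, f₂, hf12, hyf⟩ := exists_basicOpen_le_affine_inter hc.1 hbc.1 y hy
      exact rk_eq_of_basicOpen_eq hc hbc f₁ f₂ hf12 (ne_bot_of_mem hyf)
  · refine ⟨V₀, n, hxV₀, one_le_of_isBasisOn he hxV₀, ?_⟩
    intro W' hW' hne hc
    exact (isFChart_of_isBasisOn he hc.1 hW').2 hne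

omit [Surjective g] [IsReduced X] [IsLocallyNoetherian X] in
theorem isNrm_app_of_hasDeg {W : X.Opens} {n : ℕ} (hdeg : HasDeg g W n) {U : X.Opens} (hU : U ≤ W)
    (τ : Γ(X, U)) : IsNrm g U (g.app U τ) (τ ^ n) := by
  intro W' hW' hW'c
  by_cases hne : W' = ⊥
  · subst hne
    haveI : Subsingleton Γ(X, (⊥ : X.Opens)) :=
      CommRingCat.subsingleton_of_isTerminal X.sheaf.isTerminalOfEmpty
    exact Subsingleton.elim _ _
  · have hrk := hdeg W' (hW'.trans hU) hne hW'c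
    obtain ⟨y, hy⟩ := exists_mem_of_ne_bot hne
    haveI : Nonempty ↥W' := ⟨⟨y, hy⟩⟩
    rw [rfU_app, map_pow]
    letI := algW g W'
    haveI : Module.Free Γ(X, W') Γ(X', g ⁻¹ᵁ W') := hW'c.2
    haveI : Module.Finite Γ(X, W') Γ(X', g ⁻¹ᵁ W') := IsFinite.finite_app g W' hW'c.1
    have h1 := Algebra.norm_algebraMap_of_basis
      (Module.Free.chooseBasis Γ(X, W') Γ(X', g ⁻¹ᵁ W')) (rfD hW' τ)
    rw [← Module.finrank_eq_card_chooseBasisIndex] at h1
    rw [← hrk]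
    exact h1.symm

theorem mN_app_of_hasDeg (hyp : Hyp g) {W : X.Opens} {n : ℕ} (hdeg : HasDeg g W n) {U : X.Opens}
    (hU : U ≤ W) (τ : Γ(X, U)) : mN hyp U (g.app U τ) = τ ^ n :=
  (mN_spec hyp U _).unique (isNrm_app_of_hasDeg hdeg hU τ)

end Degree

end Groth.Agent.Lib.NormMixGlueH3
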