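import Groth.Agent.Lib.NormWeakH3
import Groth.Agent.Lib.NormMixGlueH3
import Groth.Agent.Lib.H78PullSec
import Groth.Prelude.Def_LCI2

/-!
# helper3: EGA II 6.6.11, descent of relative ampleness along a finite surjective morphism onto a reduced
Noetherian scheme which is "normal or locally free at every point" (namespace `Groth.Agent.Lib.NormMixAmpleH3`)

* `wnorm hyp : WNormData g`: the glued norm of `NormMixGlueH3` as weak norm data.
* `isRelAmple_of_pullback`: if `g^* L` is ample relative to `g ≫ f`, then `L` is ample relative to `f`.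
-/

set_option autoImplicit false
set_option linter.style.haveILetI false
universe u
open CategoryTheory CategoryTheory.Limits AlgebraicGeometry Opposite TopologicalSpace
open Groth.Agent.Lib.H90Invertible Groth.Agent.Lib.StructureModule Groth.Agent.Lib.H78TensorGen
open Groth.Agent.Lib.H78SecCoord Groth.Agent.Lib.H78Atlas Groth.Agent.Lib.NormChartH3
open Groth.Agent.Lib.NormGlueH3 Groth.Agent.Lib.NormBasisH3 Groth.Agent.Lib.H78PullSec
open Groth.Agent.Lib.NormWeakH3 Groth.Agent.Lib.NormMixGlueH3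

namespace Groth.Agent.Lib.NormMixAmpleH3

variable {X' X : Scheme.{u}} {g : X' ⟶ X} [IsFinite g] [Surjective g] [IsReduced X]
  [IsLocallyNoetherian X]

/-- the glued norm as weak norm data -/
noncomputable def wnorm (hyp : Hyp g) : WNormData g where
  norm U := mNHom hyp U
  norm_res h s := mN_res hyp h s
  norm_le U s _ hx := mN_le hyp U s hx

theorem isRelAmple_of_pullback [CompactSpace X] {Y : Scheme.{u}} (f : X ⟶ Y) [QuasiCompact f]
    (hyp : Hyp g) {L : X.Modules} (hL : PicF.IsInvertible L)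
    (hR : RelAmple.IsRelAmple (g ≫ f) ((Scheme.Modules.pullback g).obj L)) :
    RelAmple.IsRelAmple f L := by
  classical
  obtain ⟨V₀, hxV₀, -, ⟨A₀⟩⟩ := exists_atlas hL
  choose Wd n hxWd hn1 hdeg using fun x => exists_hasDeg hyp x
  let W : X → X.Opens := fun x => V₀ x ⊓ Wd x
  have hxW : ∀ x, x ∈ W x := fun x => ⟨hxV₀ x, hxWd x⟩
  obtain ⟨T, hT⟩ := isCompact_univ.elim_finite_subcover (fun x => (W x : Set X))
    (fun x => (W x).isOpen) (fun x _ => Set.mem_iUnion.2 ⟨x, hxW x⟩)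
  let ι := {x : X // x ∈ T}
  let Vι : ι → X.Opens := fun i => W i.1
  have hV : ⨆ i, Vι i = ⊤ := by
    refine top_le_iff.1 (fun x _ => ?_)
    obtain ⟨y, hy⟩ := Set.mem_iUnion.1 (hT (Set.mem_univ x))
    obtain ⟨hyT, hxy⟩ := Set.mem_iUnion.1 hy
    exact Opens.mem_iSup.2 ⟨⟨y, hyT⟩, hxy⟩
  let A : Atlas L Vι := A₀.refine (fun i : ι => i.1) Vι (fun i => inf_le_left)
  let A' := pullAtlas g A
  set D := ∏ x ∈ T, n x with hD
  have hDpos : 0 < D := Finset.prod_pos (fun x _ => hn1 x)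
  let c : ι → ℕ := fun i => D / n i.1
  have hnc : ∀ i : ι, n i.1 * c i = D := fun i =>
    Nat.mul_div_cancel' (Finset.dvd_prod_of_mem n i.2)
  have hc1 : ∀ i, 1 ≤ c i := by
    intro i
    by_contra hcon
    have h0 : c i = 0 := by omega
    have := hnc i
    rw [h0, mul_zero] at this
    omega
  have hc : ∀ i j, c i = c j ∨ Vι i ⊓ Vι j = ⊥ := by
    intro i j
    by_cases hbot : Vι i ⊓ Vι j = ⊥
    · exact Or.inr hbot
    · left
      have hnn : n i.1 = n j.1 :=
        HasDeg.eq ((hdeg i.1).mono (inf_le_right : Vι i ≤ Wd i.1))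
          ((hdeg j.1).mono (inf_le_right : Vι j ≤ Wd j.1)) hbot
      change D / n i.1 = D / n j.1
      rw [hnn]
  have hTr : ∀ i j, A.trans i j ^ D = (wnorm hyp).norm (Vι i ⊓ Vι j) (A'.trans i j) ^ c i := by
    intro i j
    have h1 : A'.trans i j =
        g.appLE (Vι i ⊓ Vι j) (g ⁻¹ᵁ Vι i ⊓ g ⁻¹ᵁ Vι j) (le_of_eq rfl) (A.trans i j) :=
      pullAtlas_trans g A i j
    have h2 : g.appLE (Vι i ⊓ Vι j) (g ⁻¹ᵁ Vι i ⊓ g ⁻¹ᵁ Vι j) (le_of_eq rfl) =
        g.app (Vι i ⊓ Vι j) := g.appLE_eq_app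
    have h3 : mN hyp (Vι i ⊓ Vι j) (g.app (Vι i ⊓ Vι j) (A.trans i j)) = A.trans i j ^ n i.1 :=
      mN_app_of_hasDeg hyp (hdeg i.1) (inf_le_left.trans inf_le_right) _
    have h4 : (wnorm hyp).norm (Vι i ⊓ Vι j) (A'.trans i j) = A.trans i j ^ n i.1 := by
      rw [← h3]
      change mN hyp (Vι i ⊓ Vι j) _ = _
      congr 1
      rw [h1, h2]
      rfl
    rw [h4, ← pow_mul, hnc i]
  refine ⟨inferInstance, fun V => ?_⟩
  exact isAmple_restrict_of_wnorm_pow g (wnorm hyp) hL Vι hV A' A D hDpos c hc1 hc hTr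
    (f ⁻¹ᵁ V.1) (hR.2 V)

end Groth.Agent.Lib.NormMixAmpleH3
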