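import Groth.Agent.Lib.NormFChartH3
import Groth.Agent.Lib.NormGlueH3

/-!
# helper3: norms characterised on affine free charts (namespace `Groth.Agent.Lib.NormMixH3`)

`g : X' ⟶ X` finite, `X` reduced and locally Noetherian.  `IsNrm g U s t` says that `t ∈ Γ(X, U)` restricts to the
algebra norm of `s ∈ Γ(X', g⁻¹U)` on every affine free chart inside `U`.  Such a `t` is unique, local on `U`,
multiplicative; it exists over opens with a basis of `g_* O_{X'}` (`isNrm_of_isBasisOn`) and locally around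
points with integrally closed local ring (`NormMixNormalH3`).
-/

set_option autoImplicit false
set_option linter.style.haveILetI false
universe u
open CategoryTheory CategoryTheory.Limits AlgebraicGeometry Opposite TopologicalSpace
open Groth.Agent.Lib.H90Invertible Groth.Agent.Lib.StructureModule Groth.Agent.Lib.H78TensorGen
open Groth.Agent.Lib.H78SecCoord Groth.Agent.Lib.NormBasisH3 Groth.Agent.Lib.NormChartH3
open Groth.Agent.Lib.NormGlueH3 Groth.Agent.Lib.NormFChartH3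

namespace Groth.Agent.Lib.NormMixH3

variable {X' X : Scheme.{u}} (g : X' ⟶ X)

/-- `t` is a norm of `s` over `U` -/
def IsNrm (U : X.Opens) (s : Γ(X', g ⁻¹ᵁ U)) (t : Γ(X, U)) : Prop :=
  ∀ (W : X.Opens) (hW : W ≤ U), IsFChart g W → rfD hW t = nrm g W (rfU g hW s)

variable {g}

theorem rfD_ext' {U : X.Opens} {t t' : Γ(X, U)}
    (h : ∀ x ∈ U, ∃ (W : X.Opens) (hW : W ≤ U), x ∈ W ∧ rfD hW t = rfD hW t') : t = t' := by
  refine sec_ext (Coh.structureModule X) (toSec U t) (toSec U t') (fun x hx => ?_)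
  obtain ⟨W, hWU, hxW, hW⟩ := h x hx
  exact ⟨W, hWU, hxW, hW⟩

theorem IsNrm.unique [IsFinite g] [IsReduced X] [IsLocallyNoetherian X] {U : X.Opens}
    {s : Γ(X', g ⁻¹ᵁ U)} {t t' : Γ(X, U)} (h : IsNrm g U s t) (h' : IsNrm g U s t') : t = t' := by
  refine eq_of_dense t t' (fun U' hU' hne => ?_)
  obtain ⟨W, hWU', hWne, hW⟩ := exists_isFChart_le (g := g) hne
  exact ⟨W, hWU'.trans hU', hWU', hWne, (h W _ hW).trans (h' W _ hW).symm⟩

theorem IsNrm.res {U V : X.Opens} {s : Γ(X', g ⁻¹ᵁ U)} {t : Γ(X, U)} (h : IsNrm g U s t) (hV : V ≤ U) :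
    IsNrm g V (rfU g hV s) (rfD hV t) := by
  intro W hW hWc
  rw [rfD_rfD, rfU_rfU]
  exact h W (hW.trans hV) hWc

theorem isNrm_one (U : X.Opens) : IsNrm g U 1 1 := by
  intro W hW _
  rw [map_one, map_one, map_one]

theorem IsNrm.mul {U : X.Opens} {s s' : Γ(X', g ⁻¹ᵁ U)} {t t' : Γ(X, U)} (h : IsNrm g U s t)
    (h' : IsNrm g U s' t') : IsNrm g U (s * s') (t * t') := by
  intro W hW hWc
  rw [map_mul, map_mul, map_mul, h W hW hWc, h' W hW hWc]

theorem isNrm_of_isBasisOn {V : X.Opens} {n : ℕ} {e : Fin n → Γ(E g, V)} (he : IsBasisOn (E g) V e)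
    {U : X.Opens} (hU : U ≤ V) (s : Γ(X', g ⁻¹ᵁ U)) : IsNrm g U s (nrm g U s) := by
  intro W hW _
  exact nrm_rf_of_basis he hU hW s

/-- transport of `IsFChart.basicOpen` along an equality of opens -/
theorem IsFChart.of_eq_basicOpen [IsFinite g] {W : X.Opens} (hW : IsFChart g W) (h : Γ(X, W)) {D : X.Opens}
    (hD : D = X.basicOpen h) (hDW : D ≤ W) :
    IsFChart g D ∧ (∀ s : Γ(X', g ⁻¹ᵁ W), rfD hDW (nrm g W s) = nrm g D (rfU g hDW s)) ∧
      (D ≠ ⊥ → rk g D = rk g W) := by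
  subst hD
  exact hW.basicOpen h

/-- being a norm is local on the base -/
theorem IsNrm.of_local [IsFinite g] {U : X.Opens} {s : Γ(X', g ⁻¹ᵁ U)} {t : Γ(X, U)}
    (h : ∀ x ∈ U, ∃ (V : X.Opens) (hV : V ≤ U), x ∈ V ∧ IsNrm g V (rfU g hV s) (rfD hV t)) :
    IsNrm g U s t := by
  intro W hW hWc
  refine rfD_ext' (fun x hxW => ?_)
  obtain ⟨V, hV, hxV, hN⟩ := h x (hW hxW)
  obtain ⟨f, hf, hxf⟩ := hWc.1.exists_basicOpen_le (V := W ⊓ V) ⟨x, ⟨hxW, hxV⟩⟩ hxW
  obtain ⟨hDc, hDn, -⟩ := hWc.basicOpen f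
  refine ⟨X.basicOpen f, X.basicOpen_le f, hxf, ?_⟩
  rw [hDn, rfD_rfD, rfU_rfU]
  have := hN (X.basicOpen f) (hf.trans inf_le_right) hDc
  rw [rfD_rfD, rfU_rfU] at this
  exact this

end Groth.Agent.Lib.NormMixH3
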