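import Groth.Agent.Lib.NormMixH3

/-!
# helper3: local norms around normal points (namespace `Groth.Agent.Lib.NormMixNormalH3`)

`g : X' ⟶ X` finite surjective, `X` reduced locally Noetherian.

* `isNrm_of_dense`: a dense criterion for `NormMixH3.IsNrm`.
* `inf_ne_bot_of_isDomain`: nonempty opens of an integral affine open meet.
* `exists_isNrm_of_normal`: around a point `x` whose local ring is an integrally closed domain, every function
  `s` upstairs has a norm `t` on a basic open neighbourhood `D(σ)` of `x` (the generic norm, which is integral over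
  the coordinate ring); moreover if `t` is invertible at `x`, then `s` is invertible at some point above `x`.
-/
set_option autoImplicit false
set_option linter.style.haveILetI false
universe u
open CategoryTheory CategoryTheory.Limits AlgebraicGeometry Opposite TopologicalSpace
open Groth.Agent.Lib.H90Invertible Groth.Agent.Lib.StructureModule Groth.Agent.Lib.H78TensorGen
open Groth.Agent.Lib.H78SecCoord Groth.Agent.Lib.NormBasisH3 Groth.Agent.Lib.NormChartH3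
open Groth.Agent.Lib.NormGlueH3 Groth.Agent.Lib.NormFChartH3 Groth.Agent.Lib.NormMixH3
open Groth.Agent.Lib.NormGenRingH3

namespace Groth.Agent.Lib.NormMixNormalH3

variable {X' X : Scheme.{u}} {g : X' ⟶ X}

/-- a dense criterion for being a norm -/
theorem isNrm_of_dense [IsFinite g] [IsReduced X] {V : X.Opens} {s : Γ(X', g ⁻¹ᵁ V)} {t : Γ(X, V)}
    (h : ∀ (W'' : X.Opens) (hW'' : W'' ≤ V), IsAffineOpen W'' → W'' ≠ ⊥ →
      ∃ f : Γ(X, W''), X.basicOpen f ≠ ⊥ ∧ IsFChart g (X.basicOpen f) ∧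
        rfD ((X.basicOpen_le f).trans hW'') t =
          nrm g (X.basicOpen f) (rfU g ((X.basicOpen_le f).trans hW'') s)) :
    IsNrm g V s t := by
  intro W' hW' hW'c
  refine eq_of_dense _ _ (fun U' hU' hne => ?_)
  obtain ⟨y, hy⟩ := exists_mem_of_ne_bot hne
  obtain ⟨f₀, hf₀, hyf₀⟩ := hW'c.1.exists_basicOpen_le (V := U') ⟨y, hy⟩ (hU' hy)
  obtain ⟨hD₀c, hD₀n, -⟩ := hW'c.basicOpen f₀
  obtain ⟨f, hfne, hfc, hft⟩ := h (X.basicOpen f₀) ((X.basicOpen_le f₀).trans hW') hD₀c.1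
    (ne_bot_of_mem hyf₀)
  obtain ⟨-, hDn, -⟩ := hD₀c.basicOpen f
  refine ⟨X.basicOpen f, (X.basicOpen_le f).trans (X.basicOpen_le f₀), (X.basicOpen_le f).trans hf₀,
    hfne, ?_⟩
  rw [rfD_rfD]
  have h1 : rfD ((X.basicOpen_le f).trans (X.basicOpen_le f₀)) (nrm g W' (rfU g hW' s)) =
      nrm g (X.basicOpen f) (rfU g (((X.basicOpen_le f).trans (X.basicOpen_le f₀)).trans hW') s) := by
    rw [← rfD_rfD (X.basicOpen_le f₀) (X.basicOpen_le f), hD₀n, hDn, rfU_rfU, rfU_rfU]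
  rw [h1]
  exact hft

theorem inf_ne_bot_of_isDomain [IsReduced X] {W : X.Opens} (hW : IsAffineOpen W) [IsDomain Γ(X, W)]
    {U₁ U₂ : X.Opens} (h₁ : U₁ ≤ W) (h₂ : U₂ ≤ W) (hne₁ : U₁ ≠ ⊥) (hne₂ : U₂ ≠ ⊥) : U₁ ⊓ U₂ ≠ ⊥ := by
  obtain ⟨y₁, hy₁⟩ := exists_mem_of_ne_bot hne₁
  obtain ⟨y₂, hy₂⟩ := exists_mem_of_ne_bot hne₂
  obtain ⟨a₁, ha₁, hya₁⟩ := hW.exists_basicOpen_le (V := U₁) ⟨y₁, hy₁⟩ (h₁ hy₁)
  obtain ⟨a₂, ha₂, hya₂⟩ := hW.exists_basicOpen_le (V := U₂) ⟨y₂, hy₂⟩ (h₂ hy₂)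
  have h0₁ : a₁ ≠ 0 := by
    rintro rfl
    rw [Scheme.basicOpen_zero] at hya₁
    exact hya₁
  have h0₂ : a₂ ≠ 0 := by
    rintro rfl
    rw [Scheme.basicOpen_zero] at hya₂
    exact hya₂
  have h12 : X.basicOpen (a₁ * a₂) ≠ ⊥ := fun hbot =>
    mul_ne_zero h0₁ h0₂ ((basicOpen_eq_bot_iff _).1 hbot)
  intro hbot
  apply h12
  rw [Scheme.basicOpen_mul]
  exact le_bot_iff.1 (hbot ▸ inf_le_inf ha₁ ha₂)

lemma mem_basicOpen_iff_not_mem_primeIdealOf {Z : Scheme.{u}} {W : Z.Opens} (hW : IsAffineOpen W) {x : Z}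
    (hxW : x ∈ W) (c : Γ(Z, W)) :
    x ∈ Z.basicOpen c ↔ c ∉ (hW.primeIdealOf ⟨x, hxW⟩).asIdeal := by
  have h1 : hW.fromSpec (hW.primeIdealOf ⟨x, hxW⟩) = x := hW.fromSpec_primeIdealOf ⟨x, hxW⟩
  have h2 : hW.primeIdealOf ⟨x, hxW⟩ ∈ hW.fromSpec ⁻¹ᵁ Z.basicOpen c ↔ x ∈ Z.basicOpen c := by
    change hW.fromSpec (hW.primeIdealOf ⟨x, hxW⟩) ∈ Z.basicOpen c ↔ _
    rw [h1]
  rw [← h2, hW.fromSpec_preimage_basicOpen]
  rfl

/-- injectivity of `g^♯` for a surjective morphism to a reduced scheme -/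
lemma app_injective_of_surjective [Surjective g] [IsReduced X] (W : X.Opens) :
    Function.Injective (g.app W).hom := by
  rw [injective_iff_map_eq_zero]
  intro a ha
  apply eq_zero_of_basicOpen_eq_bot
  by_contra hne
  obtain ⟨y, hy⟩ := exists_mem_of_ne_bot hne
  obtain ⟨y', rfl⟩ := g.surjective y
  have h1 : y' ∈ g ⁻¹ᵁ X.basicOpen a := hy
  rw [Scheme.preimage_basicOpen] at h1
  have h2 : X'.basicOpen ((g.app W).hom a) = ⊥ := by rw [ha]; exact X'.basicOpen_zero _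
  change y' ∈ X'.basicOpen ((g.app W).hom a) at h1
  rw [h2] at h1
  exact h1


/-- the relation `n_b * σ = a` on a generic affine free chart `D(b)` -/
lemma nrm_mul_eq [IsFinite g] {W : X.Opens} (hW : IsAffineOpen W) [IsDomain Γ(X, W)]
    (s : Γ(X', g ⁻¹ᵁ W)) (a σ : Γ(X, W))
    (h : letI := algW g W
      gnorm Γ(X, W) (FractionRing Γ(X, W)) Γ(X', g ⁻¹ᵁ W) s * algebraMap Γ(X, W) (FractionRing Γ(X, W)) σ =
        algebraMap Γ(X, W) (FractionRing Γ(X, W)) a)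
    (b : Γ(X, W)) (hb : b ≠ 0) (hbc : IsFChart g (X.basicOpen b)) :
    nrm g (X.basicOpen b) (rfU g (X.basicOpen_le b) s) * rfD (X.basicOpen_le b) σ =
      rfD (X.basicOpen_le b) a := by
  letI := algW g W
  letI := algW g (X.basicOpen b)
  letI := algC (g := g) b
  letI := algAC (g := g) b
  haveI := isScalarTower₁ (g := g) b
  haveI := isScalarTower₂ (g := g) b
  haveI : IsLocalization.Away b Γ(X, X.basicOpen b) := hW.isLocalization_basicOpen b
  haveI := isLocalization_C (g := g) hW b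
  haveI : Module.Free Γ(X, X.basicOpen b) Γ(X', g ⁻¹ᵁ (X.basicOpen b)) := hbc.2
  haveI : Module.Finite Γ(X, X.basicOpen b) Γ(X', g ⁻¹ᵁ (X.basicOpen b)) :=
    IsFinite.finite_app g _ hbc.1
  exact norm_mul_eq_of_gnorm (K := FractionRing Γ(X, W)) b hb Γ(X, X.basicOpen b)
    Γ(X', g ⁻¹ᵁ (X.basicOpen b)) s a σ h

/-- local existence of norms around a point whose local ring is an integrally closed domain -/
theorem exists_isNrm_of_normal [IsFinite g] [Surjective g] [IsReduced X] [IsLocallyNoetherian X]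
    {W : X.Opens} (hW : IsAffineOpen W) {x : X} (hxW : x ∈ W)
    (hinj : Function.Injective (X.presheaf.germ W x hxW))
    [IsDomain (X.presheaf.stalk x)] [IsIntegrallyClosed (X.presheaf.stalk x)]
    (s : Γ(X', g ⁻¹ᵁ W)) :
    ∃ (σ : Γ(X, W)) (t : Γ(X, X.basicOpen σ)), x ∈ X.basicOpen σ ∧
      IsNrm g (X.basicOpen σ) (rfU g (X.basicOpen_le σ) s) t ∧
      (x ∈ X.basicOpen t → ∃ x' : X', g x' = x ∧ x' ∈ X'.basicOpen s) := by
  classical
  letI algAS : Algebra Γ(X, W) (X.presheaf.stalk x) :=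
    TopCat.Presheaf.algebra_section_stalk X.presheaf (⟨x, hxW⟩ : W)
  haveI : IsDomain Γ(X, W) := hinj.isDomain (X.presheaf.germ W x hxW).hom
  set p : Ideal Γ(X, W) := (hW.primeIdealOf ⟨x, hxW⟩).asIdeal with hp
  haveI : IsLocalization.AtPrime (X.presheaf.stalk x) p := hW.isLocalization_stalk ⟨x, hxW⟩
  letI := algW g W
  haveI : Module.Finite Γ(X, W) Γ(X', g ⁻¹ᵁ W) := IsFinite.finite_app g W hW
  have hpint : ∀ ν : FractionRing Γ(X, W), IsIntegral Γ(X, W) ν → ∃ a σ : Γ(X, W), σ ∉ p ∧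
      ν * algebraMap Γ(X, W) (FractionRing Γ(X, W)) σ = algebraMap Γ(X, W) (FractionRing Γ(X, W)) a :=
    fun ν hν => exists_mul_eq_of_isIntegral p (X.presheaf.stalk x) ν hν
  obtain ⟨a, σ, hσ, hνσ⟩ := hpint _ (isIntegral_gnorm Γ(X, W) (FractionRing Γ(X, W)) Γ(X', g ⁻¹ᵁ W) s)
  have hxσ : x ∈ X.basicOpen σ := (mem_basicOpen_iff_not_mem_primeIdealOf hW hxW σ).2 hσ
  have hunit : IsUnit (rfD (X.basicOpen_le σ) σ) := X.toRingedSpace.isUnit_res_basicOpen σ
  set t : Γ(X, X.basicOpen σ) := rfD (X.basicOpen_le σ) a * ↑hunit.unit⁻¹ with ht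
  have htσ : t * rfD (X.basicOpen_le σ) σ = rfD (X.basicOpen_le σ) a := by
    rw [ht, mul_assoc, IsUnit.val_inv_mul, mul_one]
  refine ⟨σ, t, hxσ, ?_, ?_⟩
  · obtain ⟨b, hbne, hbc⟩ := exists_isFChart_basicOpen (g := g) hW (ne_bot_of_mem hxW)
    have hb0 : b ≠ 0 := by
      rintro rfl
      exact hbne (X.basicOpen_zero _)
    have hR5 := nrm_mul_eq hW s a σ hνσ b hb0 hbc
    refine isNrm_of_dense (fun W'' hW'' hW''aff hW''ne => ?_)
    have hne := inf_ne_bot_of_isDomain hW (hW''.trans (X.basicOpen_le σ)) (X.basicOpen_le b) hW''ne hbne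
    obtain ⟨y, hy⟩ := exists_mem_of_ne_bot hne
    obtain ⟨f₁, f₂, hf12, hyf⟩ := exists_basicOpen_le_affine_inter hW''aff hbc.1 y hy
    have hDb : X.basicOpen f₁ ≤ X.basicOpen b := hf12 ▸ X.basicOpen_le f₂
    obtain ⟨hDc, hDn, -⟩ := NormMixH3.IsFChart.of_eq_basicOpen hbc f₂ hf12 hDb
    refine ⟨f₁, ne_bot_of_mem hyf, hDc, ?_⟩
    -- cancel the unit `σ`
    have hDσ : X.basicOpen f₁ ≤ X.basicOpen σ := (X.basicOpen_le f₁).trans hW''
    have hDW : X.basicOpen f₁ ≤ W := hDσ.trans (X.basicOpen_le σ)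
    have hunitD : IsUnit (rfD hDW σ) := by
      have := hunit.map (rfD hDσ)
      rwa [rfD_rfD] at this
    apply hunitD.mul_left_injective
    have e1 : rfD hDσ t * rfD hDW σ = rfD hDW a := by
      have := congrArg (rfD hDσ) htσ
      rwa [map_mul, rfD_rfD, rfD_rfD] at this
    have e2 : nrm g (X.basicOpen f₁) (rfU g hDW s) * rfD hDW σ = rfD hDW a := by
      have := congrArg (rfD hDb) hR5
      rw [map_mul, hDn, rfU_rfU, rfD_rfD, rfD_rfD] at this
      exact this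
    change rfD hDσ t * rfD hDW σ = nrm g (X.basicOpen f₁) (rfU g hDσ (rfU g (X.basicOpen_le σ) s)) * rfD hDW σ
    rw [rfU_rfU, e1, e2]
  · intro hxt
    have ha : a ∉ p := by
      rw [← mem_basicOpen_iff_not_mem_primeIdealOf hW hxW a]
      have h1 : x ∈ X.basicOpen (t * rfD (X.basicOpen_le σ) σ) := by
        rw [Scheme.basicOpen_mul]
        refine ⟨hxt, ?_⟩
        rw [X.basicOpen_of_isUnit hunit]
        exact hxσ
      rw [htσ] at h1
      change x ∈ X.basicOpen (X.presheaf.map (homOfLE (X.basicOpen_le σ)).op a) at h1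
      rw [Scheme.basicOpen_res] at h1
      exact h1.2
    obtain ⟨q, hqprime, hqp, hsq⟩ := exists_prime_of_gnorm (K := FractionRing Γ(X, W))
      (app_injective_of_surjective (g := g) W) p hpint s a σ ha hνσ
    have hV : IsAffineOpen (g ⁻¹ᵁ W) := hW.preimage g
    let y' : Spec Γ(X', g ⁻¹ᵁ W) := (⟨q, hqprime⟩ : PrimeSpectrum Γ(X', g ⁻¹ᵁ W))
    refine ⟨hV.fromSpec y', ?_, ?_⟩
    · have h1 := IsAffineOpen.SpecMap_appLE_fromSpec g hW hV le_rfl
      have h2 := congrArg (fun φ : Spec Γ(X', g ⁻¹ᵁ W) ⟶ X => φ y') h1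
      simp only [Scheme.Hom.comp_apply] at h2
      rw [← h2]
      have h3 : Spec.map (g.appLE W (g ⁻¹ᵁ W) le_rfl) y' = hW.primeIdealOf ⟨x, hxW⟩ := by
        apply PrimeSpectrum.ext
        change q.comap (g.appLE W (g ⁻¹ᵁ W) le_rfl).hom = p
        rw [← hqp, show g.appLE W (g ⁻¹ᵁ W) le_rfl = g.app W from g.appLE_eq_app]
        rfl
      rw [h3]
      exact hW.fromSpec_primeIdealOf ⟨x, hxW⟩
    · have h1 : y' ∈ hV.fromSpec ⁻¹ᵁ X'.basicOpen s := by
        rw [hV.fromSpec_preimage_basicOpen]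
        exact hsq
      exact h1

end Groth.Agent.Lib.NormMixNormalH3
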