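import Groth.Prelude.Def_Pi1
import Groth.Agent.Lib.NagataNormFin96C
import Groth.Agent.Lib.H15SheafLocal
import Mathlib.AlgebraicGeometry.Stalk

/-!
# Normal schemes with locally finite irreducible components: components are clopen,
indicator sections
-/

set_option autoImplicit false
set_option linter.style.haveILetI false
universe u

open CategoryTheory CategoryTheory.Limits AlgebraicGeometry TopologicalSpace Opposite

namespace Groth.Agent.Lib.NormNormal96

variable {Y : Scheme.{u}}

/-- If the stalk at `y` is a domain, the only generic point of an irreducible component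
specializing to `y` is the image of the zero ideal of the stalk. -/
theorem eq_fromSpecStalk_bot (y : Y) [IsDomain (Y.presheaf.stalk y)] (η : Y)
    (hη : closure {η} ∈ irreducibleComponents Y) (h : η ⤳ y) :
    η = Y.fromSpecStalk y (⊥ : PrimeSpectrum (Y.presheaf.stalk y)) := by
  have h1 : η ∈ Set.range (Y.fromSpecStalk y) := by
    rw [Scheme.range_fromSpecStalk]
    exact h
  obtain ⟨P, rfl⟩ := h1
  have h2 : (⊥ : PrimeSpectrum (Y.presheaf.stalk y)) ⤳ P :=
    (PrimeSpectrum.le_iff_specializes _ _).mp bot_le
  have h3 : Y.fromSpecStalk y (⊥ : PrimeSpectrum (Y.presheaf.stalk y)) ⤳ Y.fromSpecStalk y P :=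
    h2.map (Y.fromSpecStalk y).continuous
  have h4 : closure {Y.fromSpecStalk y P} ⊆
      closure {Y.fromSpecStalk y (⊥ : PrimeSpectrum (Y.presheaf.stalk y))} :=
    specializes_iff_closure_subset.mp h3
  have h5 := hη.2 (isIrreducible_singleton.closure) h4
  exact ((specializes_iff_closure_subset.mpr h5).antisymm h3).eq

/-- Two generic points of irreducible components specializing to a common point with domain stalk
coincide. -/
theorem generic_unique (y : Y) [IsDomain (Y.presheaf.stalk y)] (η η' : Y)
    (hη : closure {η} ∈ irreducibleComponents Y) (hη' : closure {η'} ∈ irreducibleComponents Y)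
    (h : η ⤳ y) (h' : η' ⤳ y) : η = η' :=
  (eq_fromSpecStalk_bot y η hη h).trans (eq_fromSpecStalk_bot y η' hη' h').symm

/-- On a normal scheme with locally finite irreducible components, the components are open. -/
theorem isOpen_of_mem_irreducibleComponents (hY : Pi1.IsNormalScheme Y)
    (hfin : LocallyFinite (fun Z : ↥(irreducibleComponents ↥Y) => (Z : Set ↥Y)))
    (Z : Set Y) (hZ : Z ∈ irreducibleComponents Y) : IsOpen Z := by
  have hfin' : LocallyFinite
      (fun Z' : {Z' : irreducibleComponents Y // Z'.1 ≠ Z} => (Z'.1 : Set Y)) :=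
    hfin.comp_injective Subtype.val_injective
  have hcl : IsClosed (⋃ Z' : {Z' : irreducibleComponents Y // Z'.1 ≠ Z}, (Z'.1 : Set Y)) :=
    hfin'.isClosed_iUnion (fun Z' => isClosed_of_mem_irreducibleComponents _ Z'.1.2)
  have hZeq : Z = (⋃ Z' : {Z' : irreducibleComponents Y // Z'.1 ≠ Z}, (Z'.1 : Set Y))ᶜ := by
    ext y
    simp only [Set.mem_compl_iff, Set.mem_iUnion, not_exists]
    constructor
    · rintro hy ⟨⟨Z', hZ'⟩, hne⟩ hyZ'
      apply hne
      obtain ⟨η, hη⟩ := QuasiSober.sober hZ.1 (isClosed_of_mem_irreducibleComponents _ hZ)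
      obtain ⟨η', hη'⟩ := QuasiSober.sober hZ'.1 (isClosed_of_mem_irreducibleComponents _ hZ')
      haveI := (hY y).1
      have hηy : η ⤳ y := by
        rw [specializes_iff_mem_closure, hη.def]
        exact hy
      have hη'y : η' ⤳ y := by
        rw [specializes_iff_mem_closure, hη'.def]
        exact hyZ'
      have e := generic_unique y η η' (hη.def ▸ hZ) (hη'.def ▸ hZ') hηy hη'y
      change Z' = Z
      rw [← hη'.def, ← hη.def, e]
    · intro hy
      by_contra hyZ
      exact hy ⟨⟨irreducibleComponent y, irreducibleComponent_mem_irreducibleComponents y⟩,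
        fun h => hyZ (h ▸ mem_irreducibleComponent)⟩ mem_irreducibleComponent
  rw [hZeq]
  exact hcl.isOpen_compl

end Groth.Agent.Lib.NormNormal96
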