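import Groth.Agent.Lib.NormNormal96A

/-!
# Indicator sections of clopen subsets
-/

set_option autoImplicit false
set_option linter.style.haveILetI false
universe u

open CategoryTheory CategoryTheory.Limits AlgebraicGeometry TopologicalSpace Opposite

namespace Groth.Agent.Lib.NormNormal96

variable {Y : Scheme.{u}}

theorem evaluation_map {U V : Y.Opens} (i : U ≤ V) (y : Y) (hy : y ∈ U) (s : Γ(Y, V)) :
    (Y.evaluation U y hy).hom ((Y.presheaf.map (homOfLE i).op).hom s) =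
      (Y.evaluation V y (i hy)).hom s := by
  change (Y.residue y).hom ((Y.presheaf.germ U y hy).hom ((Y.presheaf.map (homOfLE i).op).hom s)) =
    (Y.residue y).hom ((Y.presheaf.germ V y (i hy)).hom s)
  congr 1
  exact TopCat.Presheaf.germ_res_apply Y.presheaf (homOfLE i) y hy s

/-- The indicator section of a clopen subset. -/
theorem exists_indicator (W : Y.Opens) (Z : Set Y) (hZo : IsOpen Z) (hZc : IsClosed Z) :
    ∃ e : Γ(Y, W), (∀ y (hy : y ∈ W), y ∈ Z → (Y.evaluation W y hy).hom e = 1) ∧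
      (∀ y (hy : y ∈ W), y ∉ Z → (Y.evaluation W y hy).hom e = 0) := by
  let W₁ : Y.Opens := W ⊓ ⟨Z, hZo⟩
  let W₂ : Y.Opens := W ⊓ ⟨Zᶜ, hZc.isOpen_compl⟩
  have hdisj : W₁ ⊓ W₂ = ⊥ := by
    ext y
    simp only [W₁, W₂, Opens.coe_inf, Opens.coe_mk, Set.mem_inter_iff, Set.mem_compl_iff,
      Opens.coe_bot, Set.mem_empty_iff_false, iff_false]
    tauto
  haveI : Subsingleton Γ(Y, W₁ ⊓ W₂) := by
    rw [hdisj]
    infer_instance
  obtain ⟨t, ht1, ht2⟩ := Groth.Agent.Lib.H15SheafLocal.glue_two Y.sheaf (U1 := W₁) (U2 := W₂)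
    (1 : Γ(Y, W₁)) (0 : Γ(Y, W₂)) (Subsingleton.elim (α := Γ(Y, W₁ ⊓ W₂)) _ _)
  have hW : W ≤ W₁ ⊔ W₂ := by
    intro y hy
    by_cases hyZ : y ∈ Z
    · exact Or.inl ⟨hy, hyZ⟩
    · exact Or.inr ⟨hy, hyZ⟩
  have hle1 : W₁ ≤ W := inf_le_left
  have hle2 : W₂ ≤ W := inf_le_left
  refine ⟨(Y.presheaf.map (homOfLE hW).op).hom t, ?_, ?_⟩
  · intro y hy hyZ
    have hy1 : y ∈ W₁ := ⟨hy, hyZ⟩
    rw [evaluation_map hW y hy t, ← evaluation_map (le_sup_left : W₁ ≤ W₁ ⊔ W₂) y hy1 t]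
    have : (Y.presheaf.map (homOfLE (le_sup_left : W₁ ≤ W₁ ⊔ W₂)).op).hom t = 1 := ht1
    rw [this, map_one]
  · intro y hy hyZ
    have hy2 : y ∈ W₂ := ⟨hy, hyZ⟩
    rw [evaluation_map hW y hy t, ← evaluation_map (le_sup_right : W₂ ≤ W₁ ⊔ W₂) y hy2 t]
    have : (Y.presheaf.map (homOfLE (le_sup_right : W₂ ≤ W₁ ⊔ W₂)).op).hom t = 0 := ht2
    rw [this, map_zero]

end Groth.Agent.Lib.NormNormal96
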