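import Groth.Agent.Lib.NormNormal96B
import Groth.Agent.Lib.NormDVR96D
import Groth.Agent.Lib.DominantGeneric

/-!
# Generic points of the relative normalization of a normal scheme
-/

set_option autoImplicit false
set_option linter.style.haveILetI false
universe u

open CategoryTheory CategoryTheory.Limits AlgebraicGeometry TopologicalSpace Opposite

namespace Groth.Agent.Lib.NormNormal96

open Groth.Agent.Lib.NagataNormFin96 Groth.Agent.Lib.NormDVR96

theorem isReduced_of_isNormalScheme {Y : Scheme.{u}} (hY : Pi1.IsNormalScheme Y) : IsReduced Y := by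
  haveI : ∀ y : Y, _root_.IsReduced (Y.presheaf.stalk y) := fun y => by
    haveI := (hY y).1
    infer_instance
  exact isReduced_of_isReduced_stalk Y

theorem generic_eq_of_mem_closure {T : Type*} [TopologicalSpace T] [T0Space T] {η η' : T}
    (hη' : closure {η'} ∈ irreducibleComponents T) (h : η' ∈ closure {η}) : η' = η := by
  have h1 : closure {η'} ⊆ closure {η} :=
    specializes_iff_closure_subset.mp (specializes_iff_mem_closure.mpr h)
  have h2 := hη'.2 (isIrreducible_singleton.closure) h1
  exact ((specializes_iff_closure_subset.mpr h1).antisymm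
    (specializes_iff_closure_subset.mpr h2)).eq.symm

section

variable {X Y : Scheme.{u}} (f : Y ⟶ X) [QuasiCompact f] [QuasiSeparated f]
  (hY : Pi1.IsNormalScheme Y)
  (hfin : LocallyFinite (fun Z : ↥(irreducibleComponents ↥Y) => (Z : Set ↥Y)))

include hY hfin in
/-- The indicator section of an irreducible component, as a section of the normalization. -/
theorem exists_indicator_normalization {U : X.Opens} (hU : IsAffineOpen U) (η : Y)
    (hη : closure {η} ∈ irreducibleComponents Y) :
    ∃ ε : Γ(f.normalization, f.fromNormalization ⁻¹ᵁ U),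
      (∀ y (hy : y ∈ f.toNormalization ⁻¹ᵁ f.fromNormalization ⁻¹ᵁ U), y ∈ closure {η} →
        (Y.evaluation _ y hy).hom
          ((f.toNormalization.app (f.fromNormalization ⁻¹ᵁ U)).hom ε) = 1) ∧
      (∀ y (hy : y ∈ f.toNormalization ⁻¹ᵁ f.fromNormalization ⁻¹ᵁ U), y ∉ closure {η} →
        (Y.evaluation _ y hy).hom
          ((f.toNormalization.app (f.fromNormalization ⁻¹ᵁ U)).hom ε) = 0) := by
  haveI := isReduced_of_isNormalScheme hY
  obtain ⟨e, he1, he0⟩ := exists_indicator (f.toNormalization ⁻¹ᵁ f.fromNormalization ⁻¹ᵁ U)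
    (closure {η}) (isOpen_of_mem_irreducibleComponents hY hfin _ hη) isClosed_closure
  have hidem : e * e - e = 0 := by
    apply eq_zero_of_forall_genPts
    intro y hy
    by_cases hyZ : y ∈ closure {η}
    · rw [map_sub, map_mul, he1 y hy.1 hyZ]; simp
    · rw [map_sub, map_mul, he0 y hy.1 hyZ]; simp
  have hint : (f.toNormalization.app (f.fromNormalization ⁻¹ᵁ U)).hom.IsIntegralElem e := by
    refine ⟨Polynomial.X ^ 2 - Polynomial.X, Polynomial.monic_X_pow_sub
      (Polynomial.degree_X_le.trans_lt (by norm_num)), ?_⟩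
    simp only [Polynomial.eval₂_sub, Polynomial.eval₂_pow, Polynomial.eval₂_X]
    rw [pow_two]
    exact hidem
  obtain ⟨ε, hε⟩ := mem_range_toNormalization_app f hU e hint
  exact ⟨ε, fun y hy hyZ => by rw [hε]; exact he1 y hy hyZ,
    fun y hy hyZ => by rw [hε]; exact he0 y hy hyZ⟩

include hY hfin in
/-- Key separation lemma: distinct generic points of `Y` have images in the normalization which
are not related by specialization. -/
theorem generic_eq_of_specializes (y y' : Y) (hy : closure {y} ∈ irreducibleComponents Y)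
    (hy' : closure {y'} ∈ irreducibleComponents Y)
    (h : f.toNormalization y' ⤳ f.toNormalization y) : y' = y := by
  by_contra hne
  obtain ⟨U, hU, hxU⟩ : ∃ U : X.Opens, IsAffineOpen U ∧
      f.fromNormalization (f.toNormalization y) ∈ U := by
    obtain ⟨_, ⟨U, hU, rfl⟩, hxU, -⟩ := X.isBasis_affineOpens.exists_subset_of_mem_open
      (Set.mem_univ (f.fromNormalization (f.toNormalization y))) isOpen_univ
    exact ⟨U, hU, hxU⟩
  have hyW : y ∈ f.toNormalization ⁻¹ᵁ f.fromNormalization ⁻¹ᵁ U := hxU
  have hy'W : y' ∈ f.toNormalization ⁻¹ᵁ f.fromNormalization ⁻¹ᵁ U :=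
    h.mem_open (f.fromNormalization ⁻¹ᵁ U).isOpen hxU
  obtain ⟨ε, hε1, hε0⟩ := exists_indicator_normalization f hY hfin hU y' hy'
  have h1 := hε1 y' hy'W (subset_closure rfl)
  have h0 := hε0 y hyW (fun hmem => hne (generic_eq_of_mem_closure hy hmem).symm)
  -- evaluations of `1 - ε`
  have e1 : (f.toNormalization.residueFieldMap y).hom
      ((f.normalization.evaluation _ (f.toNormalization y) hyW).hom (1 - ε)) =
      (Y.evaluation _ y hyW).hom
        ((f.toNormalization.app (f.fromNormalization ⁻¹ᵁ U)).hom (1 - ε)) :=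
    Scheme.evaluation_naturality_apply f.toNormalization y hyW (1 - ε)
  have e2 : (f.toNormalization.residueFieldMap y').hom
      ((f.normalization.evaluation _ (f.toNormalization y') hy'W).hom (1 - ε)) =
      (Y.evaluation _ y' hy'W).hom
        ((f.toNormalization.app (f.fromNormalization ⁻¹ᵁ U)).hom (1 - ε)) :=
    Scheme.evaluation_naturality_apply f.toNormalization y' hy'W (1 - ε)
  rw [map_sub (f.toNormalization.app (f.fromNormalization ⁻¹ᵁ U)).hom, map_one,
    map_sub (Y.evaluation _ y hyW).hom, map_one, h0, sub_zero] at e1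
  rw [map_sub (f.toNormalization.app (f.fromNormalization ⁻¹ᵁ U)).hom, map_one,
    map_sub (Y.evaluation _ y' hy'W).hom, map_one, h1, sub_self] at e2
  have hmem : f.toNormalization y ∈ f.normalization.basicOpen (1 - ε) := by
    rw [← f.normalization.evaluation_ne_zero_iff_mem_basicOpen (f.toNormalization y) hyW]
    intro h0'
    rw [h0', map_zero] at e1
    exact zero_ne_one e1
  have hmem' : f.toNormalization y' ∈ f.normalization.basicOpen (1 - ε) :=
    h.mem_open (f.normalization.basicOpen (1 - ε)).isOpen hmem
  rw [← f.normalization.evaluation_ne_zero_iff_mem_basicOpen (f.toNormalization y') hy'W]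
    at hmem'
  apply hmem'
  exact (f.toNormalization.residueFieldMap y').hom.injective (by rw [e2, map_zero])

include hY hfin in
/-- `toNormalization` maps generic points of components to generic points of components. -/
theorem closure_toNormalization_mem_irreducibleComponents (y : Y)
    (hy : closure {y} ∈ irreducibleComponents Y) :
    closure {f.toNormalization y} ∈ irreducibleComponents f.normalization := by
  obtain ⟨ξ, hξ⟩ := QuasiSober.sober
    (isIrreducible_irreducibleComponent (x := f.toNormalization y)) isClosed_irreducibleComponent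
  have hξc : closure {ξ} = irreducibleComponent (f.toNormalization y) := hξ
  have hξgen : closure {ξ} ∈ irreducibleComponents f.normalization :=
    hξc ▸ irreducibleComponent_mem_irreducibleComponents _
  obtain ⟨y', hy', hτ⟩ :=
    Groth.Agent.Lib.DominantGeneric.exists_generic_of_isDominant f.toNormalization ξ hξgen
  have hspec : f.toNormalization y' ⤳ f.toNormalization y := by
    rw [hτ, specializes_iff_mem_closure, hξc]
    exact mem_irreducibleComponent
  have := generic_eq_of_specializes f hY hfin y y' hy hy' hspec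
  subst this
  rw [hτ]
  exact hξgen

include hY hfin in
theorem existsUnique_generic (x' : f.normalization)
    (hx' : closure {x'} ∈ irreducibleComponents f.normalization) :
    ∃! y : Y, closure {y} ∈ irreducibleComponents Y ∧ f.toNormalization y = x' := by
  obtain ⟨y, hy, hτ⟩ :=
    Groth.Agent.Lib.DominantGeneric.exists_generic_of_isDominant f.toNormalization x' hx'
  refine ⟨y, ⟨hy, hτ⟩, fun y' ⟨hy', hτ'⟩ => ?_⟩
  exact generic_eq_of_specializes f hY hfin y y' hy hy' (by rw [hτ, hτ'])

include hfin in
theorem locallyFinite_irreducibleComponents_normalization :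
    LocallyFinite (fun Z : ↥(irreducibleComponents ↥f.normalization) =>
      (Z : Set ↥f.normalization)) := by
  intro x
  obtain ⟨U, hU, hxU⟩ : ∃ U : X.Opens, IsAffineOpen U ∧ f.fromNormalization x ∈ U := by
    obtain ⟨_, ⟨U, hU, rfl⟩, hxU, -⟩ := X.isBasis_affineOpens.exists_subset_of_mem_open
      (Set.mem_univ (f.fromNormalization x)) isOpen_univ
    exact ⟨U, hU, hxU⟩
  have hW' : IsAffineOpen (f.fromNormalization ⁻¹ᵁ U) := hU.preimage _
  refine ⟨(f.fromNormalization ⁻¹ᵁ U : Set f.normalization),
    (f.fromNormalization ⁻¹ᵁ U).isOpen.mem_nhds hxU, ?_⟩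
  have hfinG : (genPts Y (f.toNormalization ⁻¹ᵁ f.fromNormalization ⁻¹ᵁ U)).Finite :=
    finite_genPts hfin _ (f.toNormalization.isCompact_preimage hW'.isCompact)
  haveI : Finite (genPts Y (f.toNormalization ⁻¹ᵁ f.fromNormalization ⁻¹ᵁ U)) := hfinG
  rw [← Set.finite_coe_iff]
  have key : ∀ T : {T : ↥(irreducibleComponents ↥f.normalization) |
      ((T : Set f.normalization) ∩ (f.fromNormalization ⁻¹ᵁ U : Set f.normalization)).Nonempty},
      ∃ y : genPts Y (f.toNormalization ⁻¹ᵁ f.fromNormalization ⁻¹ᵁ U),
        closure {f.toNormalization y.1} = (T.1 : Set f.normalization) := by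
    rintro ⟨T, hT⟩
    obtain ⟨ξ, hξ⟩ := QuasiSober.sober T.2.1 (isClosed_of_mem_irreducibleComponents _ T.2)
    have hξc : closure {ξ} = (T : Set f.normalization) := hξ
    have hξW : ξ ∈ f.fromNormalization ⁻¹ᵁ U :=
      (hξ.mem_open_set_iff (f.fromNormalization ⁻¹ᵁ U).isOpen).mpr hT
    obtain ⟨y, hy, hτ⟩ := Groth.Agent.Lib.DominantGeneric.exists_generic_of_isDominant
      f.toNormalization ξ (hξc ▸ T.2)
    refine ⟨⟨y, ?_, hy⟩, ?_⟩
    · change f.toNormalization y ∈ f.fromNormalization ⁻¹ᵁ U
      rw [hτ]
      exact hξW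
    · rw [hτ]
      exact hξc
  choose g hg using key
  refine Finite.of_injective g ?_
  intro T T' hTT'
  apply Subtype.ext
  apply Subtype.ext
  rw [← hg T, ← hg T', hTT']

end

end Groth.Agent.Lib.NormNormal96
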