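import Groth.Agent.Lib.NormNormal96C
import Groth.Agent.Lib.H87Japanese2
import Mathlib.RingTheory.LocalProperties.IntegrallyClosed

/-!
# Sections of an irreducible open of a normal scheme are integrally closed in the generic residue
field
-/

set_option autoImplicit false
set_option linter.style.haveILetI false
universe u

open CategoryTheory CategoryTheory.Limits AlgebraicGeometry TopologicalSpace Opposite

namespace Groth.Agent.Lib.NormNormal96

open Groth.Agent.Lib.NagataNormFin96 Groth.Agent.Lib.NormDVR96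

variable {Y : Scheme.{u}}

/-- If `V ⊆ closure {η}` with `closure {η}` an irreducible component, then the only generic point
in `V` is `η`. -/
theorem eq_of_mem_genPts {η : Y} (V : Y.Opens) (hV : (V : Set Y) ⊆ closure {η}) {η' : Y}
    (hη' : η' ∈ genPts Y V) : η' = η :=
  generic_eq_of_mem_closure hη'.2 (hV hη'.1)

theorem evaluation_injective_of_subset_closure [IsReduced Y] {η : Y} (V : Y.Opens) (hηV : η ∈ V)
    (hV : (V : Set Y) ⊆ closure {η}) : Function.Injective (Y.evaluation V η hηV).hom := by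
  rw [injective_iff_map_eq_zero]
  intro c hc
  apply eq_zero_of_forall_genPts
  intro η' hη'
  have := eq_of_mem_genPts V hV hη'
  subst this
  exact hc

theorem isIntegralElem_of_le {η : Y} {V V' : Y.Opens} (hle : V' ≤ V) (hηV' : η ∈ V')
    (t : Y.residueField η) (ht : (Y.evaluation V η (hle hηV')).hom.IsIntegralElem t) :
    (Y.evaluation V' η hηV').hom.IsIntegralElem t := by
  obtain ⟨P, hPm, hP⟩ := ht
  refine ⟨P.map (Y.presheaf.map (homOfLE hle).op).hom, hPm.map _, ?_⟩
  rw [Polynomial.eval₂_map, ← hP]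
  congr 1
  ext s
  exact evaluation_map hle η hηV' s

/-- Affine case. -/
theorem exists_section_of_isIntegral_affine (hY : Pi1.IsNormalScheme Y) {η : Y}
    (V : Y.Opens) (hVaff : IsAffineOpen V) (hηV : η ∈ V) (hV : (V : Set Y) ⊆ closure {η})
    (t : Y.residueField η) (ht : (Y.evaluation V η hηV).hom.IsIntegralElem t) :
    ∃ c : Γ(Y, V), (Y.evaluation V η hηV).hom c = t := by
  haveI := isReduced_of_isNormalScheme hY
  have hinj := evaluation_injective_of_subset_closure V hηV hV
  letI : Algebra Γ(Y, V) (Y.residueField η) := (Y.evaluation V η hηV).hom.toAlgebra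
  haveI : IsDomain Γ(Y, V) := hinj.isDomain (Y.evaluation V η hηV).hom
  haveI : IsFractionRing Γ(Y, V) (Y.residueField η) :=
    Groth.Agent.Lib.H87Japanese2.isFractionRing_of_forall_exists_div hinj (fun x => by
      obtain ⟨a, b, hb, hx⟩ := Groth.Agent.Lib.NormDimOne96.exists_evaluation_div hVaff η hηV x
      refine ⟨a, b, fun h0 => hb (by rw [h0, map_zero]), ?_⟩
      rw [hx]
      exact inv_mul_cancel_right₀ hb _)
  have hmem : ∀ P : PrimeSpectrum Γ(Y, V), hVaff.fromSpec P ∈ V := fun P =>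
    (hVaff.isoSpec.inv P).2
  haveI : IsIntegrallyClosed Γ(Y, V) :=
    @IsIntegrallyClosed.of_isLocalization_maximal Γ(Y, V) _
      (fun P hP ↦ Y.presheaf.stalk (hVaff.fromSpec ⟨P, hP.isPrime⟩)) (fun P hP ↦ inferInstance)
      (fun P hP ↦ TopCat.Presheaf.algebra_section_stalk Y.presheaf
        ⟨hVaff.fromSpec ⟨P, hP.isPrime⟩, hmem _⟩)
      (fun P hP ↦ hVaff.isLocalization_stalk' ⟨P, hP.isPrime⟩ (hmem _)) _ (fun P hP ↦ (hY _).2)
  exact IsIntegrallyClosed.algebraMap_eq_of_integral (R := Γ(Y, V)) ht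

/-- General case, by gluing. -/
theorem exists_section_of_isIntegral (hY : Pi1.IsNormalScheme Y) {η : Y}
    (V : Y.Opens) (hηV : η ∈ V) (hV : (V : Set Y) ⊆ closure {η})
    (t : Y.residueField η) (ht : (Y.evaluation V η hηV).hom.IsIntegralElem t) :
    ∃ c : Γ(Y, V), (Y.evaluation V η hηV).hom c = t := by
  haveI := isReduced_of_isNormalScheme hY
  let I := {V' : Y.affineOpens // V'.1 ≤ V ∧ η ∈ V'.1}
  let U : I → Y.Opens := fun i => i.1.1
  have hcover : V ≤ iSup U := by
    intro y hy
    obtain ⟨_, ⟨V', hV', rfl⟩, hyV', hV'V⟩ :=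
      Y.isBasis_affineOpens.exists_subset_of_mem_open hy V.isOpen
    have hηV' : η ∈ V' := by
      have hyc : y ∈ closure {η} := hV hy
      obtain ⟨z, hz, hzη⟩ := mem_closure_iff.mp hyc V' V'.isOpen hyV'
      rw [Set.mem_singleton_iff] at hzη
      subst hzη
      exact hz
    exact Opens.mem_iSup.mpr ⟨⟨⟨V', hV'⟩, hV'V, hηV'⟩, hyV'⟩
  have key : ∀ i : I, ∃ c : Γ(Y, U i), (Y.evaluation (U i) η i.2.2).hom c = t := fun i =>
    exists_section_of_isIntegral_affine hY (U i) i.1.2 i.2.2 (fun y hy => hV (i.2.1 hy)) t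
      (isIntegralElem_of_le i.2.1 i.2.2 t ht)
  choose sf hsf using key
  have hcompat : TopCat.Presheaf.IsCompatible Y.presheaf U sf := by
    intro i j
    have hηij : η ∈ U i ⊓ U j := ⟨i.2.2, j.2.2⟩
    apply evaluation_injective_of_subset_closure (U i ⊓ U j) hηij
      (fun y hy => hV (i.2.1 hy.1))
    have e1 := evaluation_map (inf_le_left : U i ⊓ U j ≤ U i) η hηij (sf i)
    have e2 := evaluation_map (inf_le_right : U i ⊓ U j ≤ U j) η hηij (sf j)
    exact (e1.trans (hsf i)).trans ((e2.trans (hsf j)).symm)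
  obtain ⟨c, hc, -⟩ := Y.sheaf.existsUnique_gluing' U V (fun i => homOfLE i.2.1) hcover sf
    hcompat
  obtain ⟨i₀, -⟩ : ∃ i : I, η ∈ U i := Opens.mem_iSup.mp (hcover hηV)
  refine ⟨c, ?_⟩
  rw [← evaluation_map i₀.2.1 η i₀.2.2 c]
  exact (congrArg (Y.evaluation (U i₀) η i₀.2.2).hom (hc i₀)).trans (hsf i₀)

end Groth.Agent.Lib.NormNormal96
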