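import Groth.Agent.Lib.NormNormal96D

/-!
# Normality of the relative normalization of a normal scheme (Stacks 035L)
-/

set_option autoImplicit false
set_option linter.style.haveILetI false
universe u

open CategoryTheory CategoryTheory.Limits AlgebraicGeometry TopologicalSpace Opposite

namespace Groth.Agent.Lib.NormNormal96

open Groth.Agent.Lib.NagataNormFin96 Groth.Agent.Lib.NormDVR96

theorem mem_primeIdealOf_iff {N : Scheme.{u}} {W' : N.Opens} (hW' : IsAffineOpen W') (x : N)
    (hx : x ∈ W') (a : Γ(N, W')) :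
    a ∈ (hW'.primeIdealOf ⟨x, hx⟩).asIdeal ↔ x ∉ N.basicOpen a := by
  have h1 : hW'.fromSpec (hW'.primeIdealOf ⟨x, hx⟩) = x := hW'.fromSpec_primeIdealOf ⟨x, hx⟩
  have h2 := hW'.fromSpec_preimage_basicOpen a
  constructor
  · intro ha hxa
    have h3 : hW'.primeIdealOf ⟨x, hx⟩ ∈ hW'.fromSpec ⁻¹ᵁ N.basicOpen a := by
      show hW'.fromSpec (hW'.primeIdealOf ⟨x, hx⟩) ∈ N.basicOpen a
      rw [h1]
      exact hxa
    rw [h2] at h3
    exact h3 ha
  · intro hxa
    by_contra ha
    apply hxa
    rw [← h1]
    have h3 : hW'.primeIdealOf ⟨x, hx⟩ ∈ hW'.fromSpec ⁻¹ᵁ N.basicOpen a := by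
      rw [h2]
      exact ha
    exact h3

section

variable {X Y : Scheme.{u}} (f : Y ⟶ X) [QuasiCompact f] [QuasiSeparated f]
  (hY : Pi1.IsNormalScheme Y)
  (hfin : LocallyFinite (fun Z : ↥(irreducibleComponents ↥Y) => (Z : Set ↥Y)))

include hY hfin in
/-- Chart data around a point of the normalization: a generic point `y` of `Y` whose image
generizes `x'`, and the indicator `ε` of its component, which is a unit at `x'` and kills the kernel
of evaluation at `y`. -/
theorem exists_chart_data (x' : f.normalization) {U : X.Opens} (hU : IsAffineOpen U)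
    (hxU : x' ∈ f.fromNormalization ⁻¹ᵁ U) :
    ∃ (y : Y) (_ : closure {y} ∈ irreducibleComponents Y)
      (hyW : y ∈ f.toNormalization ⁻¹ᵁ f.fromNormalization ⁻¹ᵁ U)
      (ε : Γ(f.normalization, f.fromNormalization ⁻¹ᵁ U)),
      ε ∉ ((hU.preimage f.fromNormalization).primeIdealOf ⟨x', hxU⟩).asIdeal ∧
      (∀ a : Γ(f.normalization, f.fromNormalization ⁻¹ᵁ U),
        (Y.evaluation _ y hyW).hom
          ((f.toNormalization.app (f.fromNormalization ⁻¹ᵁ U)).hom a) = 0 → a * ε = 0) := by
  haveI := isReduced_of_isNormalScheme hY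
  obtain ⟨ξ, hξ⟩ := QuasiSober.sober
    (isIrreducible_irreducibleComponent (x := x')) isClosed_irreducibleComponent
  have hξc : closure {ξ} = irreducibleComponent x' := hξ
  have hξgen : closure {ξ} ∈ irreducibleComponents f.normalization :=
    hξc ▸ irreducibleComponent_mem_irreducibleComponents _
  obtain ⟨y, hy, hτ⟩ :=
    Groth.Agent.Lib.DominantGeneric.exists_generic_of_isDominant f.toNormalization ξ hξgen
  have hspec : f.toNormalization y ⤳ x' := by
    rw [hτ, specializes_iff_mem_closure, hξc]
    exact mem_irreducibleComponent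
  have hyW : y ∈ f.toNormalization ⁻¹ᵁ f.fromNormalization ⁻¹ᵁ U :=
    hspec.mem_open (f.fromNormalization ⁻¹ᵁ U).isOpen hxU
  obtain ⟨ε, hε1, hε0⟩ := exists_indicator_normalization f hY hfin hU y hy
  refine ⟨y, hy, hyW, ε, ?_, ?_⟩
  · -- `1 - ε ∈ p`
    have h1 : (1 - ε) ∈ ((hU.preimage f.fromNormalization).primeIdealOf ⟨x', hxU⟩).asIdeal := by
      rw [mem_primeIdealOf_iff]
      intro hmem
      have hmem' : f.toNormalization y ∈ f.normalization.basicOpen (1 - ε) :=
        hspec.mem_open (f.normalization.basicOpen (1 - ε)).isOpen hmem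
      rw [← f.normalization.evaluation_ne_zero_iff_mem_basicOpen (f.toNormalization y) hyW]
        at hmem'
      apply hmem'
      have e1 : (f.toNormalization.residueFieldMap y).hom
          ((f.normalization.evaluation _ (f.toNormalization y) hyW).hom (1 - ε)) =
          (Y.evaluation _ y hyW).hom
            ((f.toNormalization.app (f.fromNormalization ⁻¹ᵁ U)).hom (1 - ε)) :=
        Scheme.evaluation_naturality_apply f.toNormalization y hyW (1 - ε)
      rw [map_sub (f.toNormalization.app (f.fromNormalization ⁻¹ᵁ U)).hom, map_one,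
        map_sub (Y.evaluation _ y hyW).hom, map_one, hε1 y hyW (subset_closure rfl), sub_self] at e1
      exact (f.toNormalization.residueFieldMap y).hom.injective (by rw [e1, map_zero])
    intro hε
    have h2 := Ideal.add_mem _ h1 hε
    rw [sub_add_cancel] at h2
    exact (Ideal.IsPrime.ne_top inferInstance) ((Ideal.eq_top_iff_one _).mpr h2)
  · intro a ha
    apply toNormalization_app_injective f hU
    rw [map_mul, map_zero]
    apply eq_zero_of_forall_genPts
    intro η hη
    rw [map_mul]
    by_cases hηy : η ∈ closure {y}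
    · have := generic_eq_of_mem_closure hη.2 hηy
      subst this
      rw [ha, zero_mul]
    · rw [hε0 η hη.1 hηy, mul_zero]

end

end Groth.Agent.Lib.NormNormal96
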