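import Groth.Agent.Lib.NormNormal96E

/-!
# Normality of the relative normalization of a normal scheme: the stalks
-/

set_option autoImplicit false
set_option linter.style.haveILetI false
universe u

open CategoryTheory CategoryTheory.Limits AlgebraicGeometry TopologicalSpace Opposite

namespace Groth.Agent.Lib.NormNormal96

open Groth.Agent.Lib.NagataNormFin96 Groth.Agent.Lib.NormDVR96

section

variable {X Y : Scheme.{u}} (f : Y ⟶ X) [QuasiCompact f] [QuasiSeparated f]
  (hY : Pi1.IsNormalScheme Y)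
  (hfin : LocallyFinite (fun Z : ↥(irreducibleComponents ↥Y) => (Z : Set ↥Y)))

include hY hfin in
theorem isNormal_stalk (x' : f.normalization) :
    IsDomain (f.normalization.presheaf.stalk x') ∧
      IsIntegrallyClosed (f.normalization.presheaf.stalk x') := by
  haveI := isReduced_of_isNormalScheme hY
  obtain ⟨U, hU, hxU⟩ : ∃ U : X.Opens, IsAffineOpen U ∧ x' ∈ f.fromNormalization ⁻¹ᵁ U := by
    obtain ⟨_, ⟨U, hU, rfl⟩, hxU, -⟩ := X.isBasis_affineOpens.exists_subset_of_mem_open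
      (Set.mem_univ (f.fromNormalization x')) isOpen_univ
    exact ⟨U, hU, hxU⟩
  have hW' : IsAffineOpen (f.fromNormalization ⁻¹ᵁ U) := hU.preimage _
  obtain ⟨y, hy, hyW, ε, hεp, hker⟩ := exists_chart_data f hY hfin x' hU hxU
  let θ : Γ(f.normalization, f.fromNormalization ⁻¹ᵁ U) →+* Y.residueField y :=
    (Y.evaluation _ y hyW).hom.comp (f.toNormalization.app (f.fromNormalization ⁻¹ᵁ U)).hom
  have hθker : ∀ a, θ a = 0 → a ∈ (hW'.primeIdealOf ⟨x', hxU⟩).asIdeal := fun a ha => by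
    have h1 := hker a ha
    have h2 : a * ε ∈ (hW'.primeIdealOf ⟨x', hxU⟩).asIdeal := by
      rw [h1]
      exact Ideal.zero_mem _
    exact ((Ideal.IsPrime.mem_or_mem inferInstance h2)).resolve_right hεp
  letI := f.normalization.presheaf.algebra_section_stalk ⟨x', hxU⟩
  haveI : IsLocalization.AtPrime (f.normalization.presheaf.stalk x')
      (hW'.primeIdealOf ⟨x', hxU⟩).asIdeal := hW'.isLocalization_stalk ⟨x', hxU⟩
  have hunits : ∀ s : (hW'.primeIdealOf ⟨x', hxU⟩).asIdeal.primeCompl, IsUnit (θ s) := fun s => by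
    rw [isUnit_iff_ne_zero]
    exact fun h0 => s.2 (hθker s h0)
  let Θ : f.normalization.presheaf.stalk x' →+* Y.residueField y := IsLocalization.lift hunits
  have hΘ : ∀ a, Θ (algebraMap _ _ a) = θ a := IsLocalization.lift_eq hunits
  have hΘinj : Function.Injective Θ := by
    rw [injective_iff_map_eq_zero]
    intro d hd
    obtain ⟨a, s, rfl⟩ := IsLocalization.exists_mk'_eq
      (hW'.primeIdealOf ⟨x', hxU⟩).asIdeal.primeCompl d
    have h1 : θ a = 0 := by
      have := IsLocalization.mk'_spec (f.normalization.presheaf.stalk x') a s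
      have h2 := congrArg Θ this
      rw [map_mul, hd, zero_mul, hΘ] at h2
      exact h2.symm
    exact (IsLocalization.mk'_eq_zero_iff a s).mpr
      ⟨⟨ε, hεp⟩, by rw [mul_comm]; exact hker a h1⟩
  haveI hdom : IsDomain (f.normalization.presheaf.stalk x') := hΘinj.isDomain Θ
  refine ⟨hdom, ?_⟩
  rw [isIntegrallyClosed_iff (FractionRing (f.normalization.presheaf.stalk x'))]
  intro t ht
  let Θ' : FractionRing (f.normalization.presheaf.stalk x') →+* Y.residueField y :=
    IsFractionRing.lift hΘinj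
  have hΘ' : ∀ d, Θ' (algebraMap _ _ d) = Θ d := IsFractionRing.lift_algebraMap hΘinj
  obtain ⟨m, hm⟩ := IsIntegral.exists_multiple_integral_of_isLocalization
    (hW'.primeIdealOf ⟨x', hxU⟩).asIdeal.primeCompl t ht
  have hθcomp : θ = Θ'.comp (algebraMap Γ(f.normalization, f.fromNormalization ⁻¹ᵁ U)
      (FractionRing (f.normalization.presheaf.stalk x'))) := by
    ext a
    show θ a = Θ' (algebraMap Γ(f.normalization, f.fromNormalization ⁻¹ᵁ U)
      (FractionRing (f.normalization.presheaf.stalk x')) a)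
    rw [IsScalarTower.algebraMap_apply
      Γ(f.normalization, f.fromNormalization ⁻¹ᵁ U) (f.normalization.presheaf.stalk x')
      (FractionRing (f.normalization.presheaf.stalk x')), hΘ', hΘ]
  have hτ₁int : θ.IsIntegralElem (Θ' (m • t)) := by
    obtain ⟨P, hPm, hP⟩ := hm
    refine ⟨P, hPm, ?_⟩
    rw [hθcomp, ← Polynomial.hom_eval₂, hP, map_zero]
  have hint_W : (Y.evaluation _ y hyW).hom.IsIntegralElem (Θ' (m • t)) := by
    obtain ⟨P, hPm, hP⟩ := hτ₁int
    exact ⟨P.map (f.toNormalization.app (f.fromNormalization ⁻¹ᵁ U)).hom, hPm.map _,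
      by rw [Polynomial.eval₂_map]; exact hP⟩
  -- the component of `y`
  have hZo : IsOpen (closure {y}) := isOpen_of_mem_irreducibleComponents hY hfin _ hy
  have hyV : y ∈ (f.toNormalization ⁻¹ᵁ f.fromNormalization ⁻¹ᵁ U) ⊓ ⟨closure {y}, hZo⟩ :=
    ⟨hyW, subset_closure rfl⟩
  obtain ⟨c, hc⟩ := exists_section_of_isIntegral hY
    ((f.toNormalization ⁻¹ᵁ f.fromNormalization ⁻¹ᵁ U) ⊓ ⟨closure {y}, hZo⟩) hyV
    (fun z hz => hz.2) (Θ' (m • t)) (isIntegralElem_of_le inf_le_left hyV _ hint_W)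
  -- extension by zero
  have hdisj : ((f.toNormalization ⁻¹ᵁ f.fromNormalization ⁻¹ᵁ U) ⊓ ⟨closure {y}, hZo⟩) ⊓
      ((f.toNormalization ⁻¹ᵁ f.fromNormalization ⁻¹ᵁ U) ⊓
        ⟨(closure {y})ᶜ, isClosed_closure.isOpen_compl⟩) = ⊥ := by
    ext z
    simp only [Opens.coe_inf, Opens.coe_mk, Set.mem_inter_iff, Set.mem_compl_iff,
      Opens.coe_bot, Set.mem_empty_iff_false, iff_false]
    tauto
  haveI : Subsingleton Γ(Y, ((f.toNormalization ⁻¹ᵁ f.fromNormalization ⁻¹ᵁ U) ⊓
      ⟨closure {y}, hZo⟩) ⊓ ((f.toNormalization ⁻¹ᵁ f.fromNormalization ⁻¹ᵁ U) ⊓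
        ⟨(closure {y})ᶜ, isClosed_closure.isOpen_compl⟩)) := by
    rw [hdisj]
    infer_instance
  obtain ⟨t₀, ht1, ht2⟩ := Groth.Agent.Lib.H15SheafLocal.glue_two Y.sheaf
    (U1 := (f.toNormalization ⁻¹ᵁ f.fromNormalization ⁻¹ᵁ U) ⊓ ⟨closure {y}, hZo⟩)
    (U2 := (f.toNormalization ⁻¹ᵁ f.fromNormalization ⁻¹ᵁ U) ⊓
        ⟨(closure {y})ᶜ, isClosed_closure.isOpen_compl⟩)
    c (0 : Γ(Y, (f.toNormalization ⁻¹ᵁ f.fromNormalization ⁻¹ᵁ U) ⊓
        ⟨(closure {y})ᶜ, isClosed_closure.isOpen_compl⟩)) (Subsingleton.elim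
      (α := Γ(Y, ((f.toNormalization ⁻¹ᵁ f.fromNormalization ⁻¹ᵁ U) ⊓
      ⟨closure {y}, hZo⟩) ⊓ ((f.toNormalization ⁻¹ᵁ f.fromNormalization ⁻¹ᵁ U) ⊓
        ⟨(closure {y})ᶜ, isClosed_closure.isOpen_compl⟩))) _ _)
  have hWle : (f.toNormalization ⁻¹ᵁ f.fromNormalization ⁻¹ᵁ U) ≤
      ((f.toNormalization ⁻¹ᵁ f.fromNormalization ⁻¹ᵁ U) ⊓ ⟨closure {y}, hZo⟩) ⊔
      ((f.toNormalization ⁻¹ᵁ f.fromNormalization ⁻¹ᵁ U) ⊓
        ⟨(closure {y})ᶜ, isClosed_closure.isOpen_compl⟩) := by
    intro z hz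
    by_cases hzZ : z ∈ closure {y}
    · exact Or.inl ⟨hz, hzZ⟩
    · exact Or.inr ⟨hz, hzZ⟩
  have hb_y : (Y.evaluation _ y hyW).hom ((Y.presheaf.map (homOfLE hWle).op).hom t₀) =
      Θ' (m • t) := by
    rw [evaluation_map hWle y hyW t₀, ← evaluation_map le_sup_left y hyV t₀]
    exact (congrArg (Y.evaluation _ y hyV).hom ht1).trans hc
  have hb_other : ∀ η (hη : η ∈ f.toNormalization ⁻¹ᵁ f.fromNormalization ⁻¹ᵁ U),
      η ∉ closure {y} →
      (Y.evaluation _ η hη).hom ((Y.presheaf.map (homOfLE hWle).op).hom t₀) = 0 := by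
    intro η hη hηy
    have hη2 : η ∈ (f.toNormalization ⁻¹ᵁ f.fromNormalization ⁻¹ᵁ U) ⊓
        ⟨(closure {y})ᶜ, isClosed_closure.isOpen_compl⟩ := ⟨hη, hηy⟩
    rw [evaluation_map hWle η hη t₀, ← evaluation_map le_sup_right η hη2 t₀]
    exact (congrArg (Y.evaluation _ η hη2).hom ht2).trans (map_zero _)
  have hbint : (f.toNormalization.app (f.fromNormalization ⁻¹ᵁ U)).hom.IsIntegralElem
      ((Y.presheaf.map (homOfLE hWle).op).hom t₀) := by
    obtain ⟨P, hPm, hP⟩ := hτ₁int
    refine ⟨Polynomial.X * P, Polynomial.monic_X.mul hPm, ?_⟩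
    rw [Polynomial.eval₂_mul, Polynomial.eval₂_X]
    apply eq_zero_of_forall_genPts
    intro η hη
    rw [map_mul]
    by_cases hηy : η ∈ closure {y}
    · have := generic_eq_of_mem_closure hη.2 hηy
      subst this
      rw [Polynomial.hom_eval₂, hb_y]
      have : (Y.evaluation _ η hη.1).hom.comp
          (f.toNormalization.app (f.fromNormalization ⁻¹ᵁ U)).hom = θ := rfl
      rw [this, hP, mul_zero]
    · rw [hb_other η hη.1 hηy, zero_mul]
  obtain ⟨a, ha⟩ := mem_range_toNormalization_app f hU _ hbint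
  have hθa : θ a = Θ' (m • t) := by
    change (Y.evaluation _ y hyW).hom ((f.toNormalization.app (f.fromNormalization ⁻¹ᵁ U)).hom a) = _
    rw [ha]
    exact hb_y
  have h1 : Θ' (algebraMap Γ(f.normalization, f.fromNormalization ⁻¹ᵁ U)
      (FractionRing (f.normalization.presheaf.stalk x')) a) = Θ' (m • t) := by
    rw [IsScalarTower.algebraMap_apply
      Γ(f.normalization, f.fromNormalization ⁻¹ᵁ U) (f.normalization.presheaf.stalk x')
      (FractionRing (f.normalization.presheaf.stalk x')), hΘ', hΘ, hθa]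
  have h2 : algebraMap Γ(f.normalization, f.fromNormalization ⁻¹ᵁ U)
      (FractionRing (f.normalization.presheaf.stalk x')) a = m • t := Θ'.injective h1
  refine ⟨IsLocalization.mk' (f.normalization.presheaf.stalk x') a m, ?_⟩
  have hmu : IsUnit (algebraMap (f.normalization.presheaf.stalk x')
      (FractionRing (f.normalization.presheaf.stalk x'))
      (algebraMap Γ(f.normalization, f.fromNormalization ⁻¹ᵁ U)
        (f.normalization.presheaf.stalk x') (m : Γ(f.normalization, f.fromNormalization ⁻¹ᵁ U)))) :=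
    (IsLocalization.map_units (f.normalization.presheaf.stalk x') m).map
      (algebraMap (f.normalization.presheaf.stalk x')
        (FractionRing (f.normalization.presheaf.stalk x')))
  apply hmu.mul_right_cancel
  rw [← map_mul, IsLocalization.mk'_spec, ← IsScalarTower.algebraMap_apply
      Γ(f.normalization, f.fromNormalization ⁻¹ᵁ U) (f.normalization.presheaf.stalk x')
      (FractionRing (f.normalization.presheaf.stalk x')), h2, Submonoid.smul_def, Algebra.smul_def,
      mul_comm, IsScalarTower.algebraMap_apply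
      Γ(f.normalization, f.fromNormalization ⁻¹ᵁ U) (f.normalization.presheaf.stalk x')
      (FractionRing (f.normalization.presheaf.stalk x'))]

end

end Groth.Agent.Lib.NormNormal96
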