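import Groth.Agent.Lib.NormGlueH3
import Groth.Prelude.Def_Fitting
import Mathlib.AlgebraicGeometry.Morphisms.UniversallyClosed

/-!
# helper3: `NormData` versus the prelude's `Nrm.NormOfDegree` (namespace `Groth.Agent.Lib.NormPreludeH3`)

* `toNormOfDegree`: a `NormData` with `N (π^♯ t) = t ^ d`, `d ≥ 1`, is a prelude norm of degree `d`.
* `ofNormOfDegree`: a prelude norm of degree `d` gives a `NormData`.
* `surjective_of_normOfDegree`: a closed map with a norm of degree `d ≥ 1` is surjective.
-/

set_option autoImplicit false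
universe u
open CategoryTheory CategoryTheory.Limits AlgebraicGeometry Opposite TopologicalSpace
open Groth.Agent.Lib.NormChartH3 Groth.Agent.Lib.NormGlueH3

namespace Groth.Agent.Lib.NormPreludeH3

variable {X Y : Scheme.{u}} {π : X ⟶ Y}

/-- a `NormData` of constant degree as a prelude norm -/
noncomputable def toNormOfDegree (N : NormData π) (d : ℕ) (hd : 1 ≤ d)
    (happ : ∀ (U : Y.Opens) (t : Γ(Y, U)), N.norm U (π.app U t) = t ^ d) : Nrm.NormOfDegree π d where
  one_le := hd
  norm := N.norm
  norm_res := by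
    intro U V i s
    exact N.norm_res i.le s
  norm_app := happ
  norm_mem := by
    intro U s x hx hs
    by_contra hcon
    have h1 : IsUnit (Y.presheaf.germ U (π.base x) hx (N.norm U s)) := by
      by_contra h2
      exact hcon h2
    have h3 : π.base x ∈ Y.basicOpen (N.norm U s) := (Y.mem_basicOpen _ _ hx).2 h1
    have h4 : x ∈ X.basicOpen s := N.norm_le U s h3
    have h5 : IsUnit (X.presheaf.germ (π ⁻¹ᵁ U) x hx s) := (X.mem_basicOpen _ _ hx).1 h4
    exact hs h5

/-- a prelude norm as a `NormData` -/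
noncomputable def ofNormOfDegree {d : ℕ} (N : Nrm.NormOfDegree π d) : NormData π where
  norm := N.norm
  norm_res := by
    intro U V h s
    exact N.norm_res (homOfLE h) s
  norm_le := by
    intro U s x hx
    have hxU : π.base x ∈ U := Y.basicOpen_le _ hx
    have h1 : IsUnit (Y.presheaf.germ U (π.base x) hxU (N.norm U s)) := (Y.mem_basicOpen _ _ hxU).1 hx
    rw [X.mem_basicOpen s x hxU]
    by_contra hcon
    exact N.norm_mem U s x hxU hcon h1

lemma ofNormOfDegree_app {d : ℕ} (N : Nrm.NormOfDegree π d) (U : Y.Opens) (t : Γ(Y, U)) :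
    (ofNormOfDegree N).norm U (π.app U t) = t ^ d := N.norm_app U t

/-- a closed map with a norm of degree `d ≥ 1` is surjective -/
theorem surjective_of_normOfDegree {d : ℕ} (N : Nrm.NormOfDegree π d) (hcl : IsClosedMap π.base) :
    Function.Surjective π.base := by
  intro y
  by_contra hy
  have hy' : y ∉ Set.range π.base := fun ⟨x, hx⟩ => hy ⟨x, hx⟩
  have hK : IsClosed (Set.range π.base) := by
    rw [← Set.image_univ]
    exact hcl _ isClosed_univ
  let U : Y.Opens := ⟨(Set.range π.base)ᶜ, hK.isOpen_compl⟩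
  have hpre : π ⁻¹ᵁ U = ⊥ := by
    ext x
    simp only [Opens.coe_bot, Set.mem_empty_iff_false, iff_false]
    intro hx
    exact hx ⟨x, rfl⟩
  haveI : Subsingleton Γ(X, π ⁻¹ᵁ U) := by
    rw [hpre]
    exact CommRingCat.subsingleton_of_isTerminal X.sheaf.isTerminalOfEmpty
  have h1 := N.norm_app U 1
  have h0 := N.norm_app U 0
  rw [Subsingleton.elim (π.app U 1) (π.app U 0), h0, one_pow, zero_pow (by have := N.one_le; omega)] at h1
  -- `0 = 1` in `Γ(Y, U)`, so `U` is empty
  have h2 : Y.basicOpen (1 : Γ(Y, U)) = U := Y.basicOpen_of_isUnit isUnit_one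
  rw [← h1, Y.basicOpen_zero] at h2
  have : y ∈ (⊥ : Y.Opens) := by rw [h2]; exact hy'
  exact this

end Groth.Agent.Lib.NormPreludeH3
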