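import Mathlib

/-!
# Norms for finite projective algebras via a projective coordinate system (helper55)

`A` an `R`-algebra with a "projective coordinate system" `a : Fin N → A`, `g : Fin N → A →ₗ[R] R`,
`∑ i, g i x • a i = x` (exists iff `A` is finite projective: `exists_coords`).  For every commutative
`R`-algebra `S` and `y : S ⊗[R] A` we define `Nm a g S y : S`, the determinant of
"multiplication by `y` on `S ⊗ A`, extended by the identity on a complement" inside `S^N`.

* `Nm_mul`, `Nm_one`, `isUnit_Nm` : multiplicativity;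
* `Nm_map` : compatibility with base change `S → S'`;
* `Nm_algEquiv` : invariance under `S`-algebra automorphisms of `S ⊗ A`;
* `Nm_mem_span` : `Nm y ∈ (π y)` for every `S`-algebra map `π : S ⊗ A → S`.
Mathlib only.
-/

set_option autoImplicit false
universe u v w w'

open TensorProduct

namespace Groth.Agent.Lib.NormProj55

section Coords

variable (R : Type u) [CommRing R] (A : Type v) [CommRing A] [Algebra R A]

theorem exists_coords [Module.Finite R A] [Module.Projective R A] :
    ∃ (N : ℕ) (a : Fin N → A) (g : Fin N → A →ₗ[R] R), ∀ x : A, ∑ i, g i x • a i = x := by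
  obtain ⟨N, f, g, -, -, hfg⟩ := Module.Finite.exists_comp_eq_id_of_projective R A
  refine ⟨N, fun i => f (Pi.single i 1), fun i => (LinearMap.proj i).comp g, fun x => ?_⟩
  have h1 : g x = ∑ i, (g x i) • (Pi.single i 1 : Fin N → R) := by
    ext j
    simp [Finset.sum_apply, Pi.single_apply]
  have h2 := LinearMap.congr_fun hfg x
  simp only [LinearMap.coe_comp, Function.comp_apply, LinearMap.id_coe, id_eq] at h2
  conv_rhs => rw [← h2, h1]
  rw [map_sum]
  refine Finset.sum_congr rfl fun i _ => ?_
  rw [map_smul]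
  rfl

end Coords

section Def

variable {R : Type u} [CommRing R] {A : Type v} [CommRing A] [Algebra R A]
  {N : ℕ} (a : Fin N → A) (g : Fin N → A →ₗ[R] R)
  (S : Type w) [CommRing S] [Algebra R S]

/-- The `i`-th coordinate `S ⊗ A → S`. -/
noncomputable def coordS (i : Fin N) : S ⊗[R] A →ₗ[S] S :=
  (AlgebraTensorModule.rid R S S).toLinearMap ∘ₗ (g i).baseChange S

theorem coordS_tmul (i : Fin N) (s : S) (x : A) : coordS g S i (s ⊗ₜ[R] x) = g i x • s := by
  simp [coordS]

/-- `S ⊗ A → S^N`. -/
noncomputable def GS : S ⊗[R] A →ₗ[S] (Fin N → S) := LinearMap.pi (coordS g S)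

theorem GS_apply (z : S ⊗[R] A) (i : Fin N) : GS g S z i = coordS g S i z := rfl

/-- `S^N → S ⊗ A`. -/
noncomputable def FS : (Fin N → S) →ₗ[S] S ⊗[R] A :=
  Fintype.linearCombination S (fun j => (1 : S) ⊗ₜ[R] a j)

theorem FS_apply (v : Fin N → S) : FS a S v = ∑ j, v j • ((1 : S) ⊗ₜ[R] a j) := by
  simp [FS, Fintype.linearCombination_apply]

theorem FS_single (j : Fin N) : FS a S (Pi.single j 1) = (1 : S) ⊗ₜ[R] a j := by
  rw [FS_apply]
  rw [Finset.sum_eq_single j]
  · simp
  · intro i _ hij
    simp [Pi.single_apply, hij]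
  · simp

variable (hag : ∀ x : A, ∑ i, g i x • a i = x)

include hag in
theorem FS_GS (z : S ⊗[R] A) : FS a S (GS g S z) = z := by
  induction z using TensorProduct.induction_on with
  | zero => simp
  | add x y hx hy => rw [map_add, map_add, hx, hy]
  | tmul s x =>
    rw [FS_apply]
    simp only [GS_apply, coordS_tmul]
    have h1 : ∀ j, (g j x • s) • ((1 : S) ⊗ₜ[R] a j) = s ⊗ₜ[R] (g j x • a j) := by
      intro j
      rw [TensorProduct.smul_tmul', TensorProduct.tmul_smul, smul_eq_mul, mul_one,
        TensorProduct.smul_tmul']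
    simp only [h1]
    rw [← TensorProduct.tmul_sum, hag]

include hag in
theorem FS_comp_GS : FS a S ∘ₗ GS g S = LinearMap.id :=
  LinearMap.ext fun z => FS_GS a g S hag z

/-- Multiplication by `y` on `S ⊗ A`, extended by the identity on the complement, inside `S^N`. -/
noncomputable def PM (y : S ⊗[R] A) : (Fin N → S) →ₗ[S] (Fin N → S) :=
  GS g S ∘ₗ LinearMap.mulLeft S y ∘ₗ FS a S + (LinearMap.id - GS g S ∘ₗ FS a S)

theorem PM_apply (y : S ⊗[R] A) (v : Fin N → S) :
    PM a g S y v = GS g S (y * FS a S v) + (v - GS g S (FS a S v)) := by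
  simp [PM]

/-- The norm. -/
noncomputable def Nm (y : S ⊗[R] A) : S := LinearMap.det (PM a g S y)

include hag in
theorem PM_one : PM a g S 1 = LinearMap.id := by
  refine LinearMap.ext fun v => ?_
  rw [PM_apply, one_mul]
  simp

include hag in
theorem PM_mul (y y' : S ⊗[R] A) : PM a g S (y * y') = PM a g S y ∘ₗ PM a g S y' := by
  refine LinearMap.ext fun v => ?_
  rw [LinearMap.comp_apply, PM_apply, PM_apply, PM_apply]
  simp only [map_add, map_sub, mul_add, mul_sub, FS_GS a g S hag]
  rw [mul_assoc]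
  abel

include hag in
theorem Nm_one : Nm a g S 1 = 1 := by
  rw [Nm, PM_one a g S hag, LinearMap.det_id]

include hag in
theorem Nm_mul (y y' : S ⊗[R] A) : Nm a g S (y * y') = Nm a g S y * Nm a g S y' := by
  rw [Nm, PM_mul a g S hag, LinearMap.det_comp]
  rfl

include hag in
theorem isUnit_Nm {y : S ⊗[R] A} (hy : IsUnit y) : IsUnit (Nm a g S y) := by
  obtain ⟨u, rfl⟩ := hy
  refine IsUnit.of_mul_eq_one (Nm a g S (↑u⁻¹ : S ⊗[R] A)) ?_
  rw [← Nm_mul a g S hag, Units.mul_inv, Nm_one a g S hag]

/-- The conjugating map attached to a linear automorphism. -/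
noncomputable def UM (e : S ⊗[R] A →ₗ[S] S ⊗[R] A) : (Fin N → S) →ₗ[S] (Fin N → S) :=
  GS g S ∘ₗ e ∘ₗ FS a S + (LinearMap.id - GS g S ∘ₗ FS a S)

theorem UM_apply (e : S ⊗[R] A →ₗ[S] S ⊗[R] A) (v : Fin N → S) :
    UM a g S e v = GS g S (e (FS a S v)) + (v - GS g S (FS a S v)) := by
  simp [UM]

include hag in
theorem UM_comp (e e' : S ⊗[R] A →ₗ[S] S ⊗[R] A) :
    UM a g S e ∘ₗ UM a g S e' = UM a g S (e ∘ₗ e') := by
  refine LinearMap.ext fun v => ?_
  rw [LinearMap.comp_apply, UM_apply, UM_apply, UM_apply]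
  simp only [map_add, map_sub, FS_GS a g S hag, LinearMap.comp_apply]
  abel

include hag in
theorem UM_id : UM a g S LinearMap.id = LinearMap.id := by
  refine LinearMap.ext fun v => ?_
  rw [UM_apply]
  simp

include hag in
/-- Invariance under algebra automorphisms. -/
theorem Nm_algEquiv (e : S ⊗[R] A ≃ₐ[S] S ⊗[R] A) (y : S ⊗[R] A) :
    Nm a g S (e y) = Nm a g S y := by
  let E : (Fin N → S) ≃ₗ[S] (Fin N → S) :=
    LinearEquiv.ofLinear (UM a g S e.toLinearEquiv.toLinearMap)
      (UM a g S e.symm.toLinearEquiv.toLinearMap)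
      (by
        rw [UM_comp a g S hag]
        have : (e.toLinearEquiv.toLinearMap ∘ₗ e.symm.toLinearEquiv.toLinearMap) = LinearMap.id := by
          ext z; simp
        rw [this, UM_id a g S hag])
      (by
        rw [UM_comp a g S hag]
        have : (e.symm.toLinearEquiv.toLinearMap ∘ₗ e.toLinearEquiv.toLinearMap) = LinearMap.id := by
          ext z; simp
        rw [this, UM_id a g S hag])
  have hconj : PM a g S (e y) = E.conj (PM a g S y) := by
    refine LinearMap.ext fun v => ?_
    rw [LinearEquiv.conj_apply]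
    simp only [LinearMap.comp_apply, LinearEquiv.coe_coe]
    change _ = UM a g S e.toLinearEquiv.toLinearMap
      (PM a g S y (UM a g S e.symm.toLinearEquiv.toLinearMap v))
    rw [PM_apply, UM_apply, PM_apply, UM_apply]
    simp only [map_add, map_sub, mul_add, mul_sub, FS_GS a g S hag, AlgEquiv.toLinearEquiv_toLinearMap,
      AlgEquiv.toLinearMap_apply, map_mul, AlgEquiv.apply_symm_apply]
    abel
  rw [Nm, hconj]
  have h2 : E.conj (PM a g S y) = (E : (Fin N → S) →ₗ[S] (Fin N → S)) ∘ₗ PM a g S y ∘ₗ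
      (E.symm : (Fin N → S) →ₗ[S] (Fin N → S)) := by
    refine LinearMap.ext fun v => ?_
    simp [LinearEquiv.conj_apply]
  rw [h2, LinearMap.det_conj]
  rfl

theorem PM_single (y : S ⊗[R] A) (i j : Fin N) :
    PM a g S y (Pi.single j 1) i =
      coordS g S i (y * ((1 : S) ⊗ₜ[R] a j)) +
        ((Pi.single j 1 : Fin N → S) i - coordS g S i ((1 : S) ⊗ₜ[R] a j)) := by
  rw [PM_apply, FS_single]
  rfl

theorem Nm_eq_det (y : S ⊗[R] A) :
    Nm a g S y = (Matrix.of fun i j => PM a g S y (Pi.single j 1) i).det := by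
  rw [Nm, ← LinearMap.det_toMatrix']
  congr 1

variable {S' : Type w'} [CommRing S'] [Algebra R S']

theorem coordS_map (φ : S →ₐ[R] S') (i : Fin N) (z : S ⊗[R] A) :
    coordS g S' i (Algebra.TensorProduct.map φ (AlgHom.id R A) z) = φ (coordS g S i z) := by
  induction z using TensorProduct.induction_on with
  | zero => simp
  | add x y hx hy => simp only [map_add, hx, hy]
  | tmul s x =>
    rw [Algebra.TensorProduct.map_tmul, AlgHom.id_apply, coordS_tmul, coordS_tmul, map_smul]

/-- Base change. -/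
theorem Nm_map (φ : S →ₐ[R] S') (y : S ⊗[R] A) :
    Nm a g S' (Algebra.TensorProduct.map φ (AlgHom.id R A) y) = φ (Nm a g S y) := by
  rw [Nm_eq_det, Nm_eq_det]
  have hdet := RingHom.map_det (φ : S →+* S')
    (Matrix.of fun i j => PM a g S y (Pi.single j 1) i)
  rw [RingHom.coe_coe] at hdet
  rw [hdet]
  congr 1
  ext i j
  simp only [Matrix.of_apply, RingHom.mapMatrix_apply, Matrix.map_apply, AlgHom.coe_toRingHom]
  rw [PM_single, PM_single]
  have h1 : (1 : S') ⊗ₜ[R] a j =
      Algebra.TensorProduct.map φ (AlgHom.id R A) ((1 : S) ⊗ₜ[R] a j) := by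
    rw [Algebra.TensorProduct.map_tmul, map_one, AlgHom.id_apply]
  rw [h1, ← map_mul, coordS_map, coordS_map, map_add, map_sub]
  congr 2
  by_cases hij : i = j
  · subst hij; simp
  · simp [Pi.single_apply, hij]

include hag in
/-- `Nm y` is a multiple of `π y` for every algebra retraction `π : S ⊗ A → S`. -/
theorem Nm_mem_span (π : S ⊗[R] A →ₐ[S] S) (y : S ⊗[R] A) :
    Nm a g S y ∈ Ideal.span ({π y} : Set S) := by
  classical
  set M : Matrix (Fin N) (Fin N) S := Matrix.of fun i j => PM a g S y (Pi.single j 1) i with hM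
  let w : Fin N → S := fun i => π ((1 : S) ⊗ₜ[R] a i)
  -- `ℓ v = π (FS v)` satisfies `ℓ (PM y v) = π y * ℓ v`
  have hℓ : ∀ v : Fin N → S, π (FS a S (PM a g S y v)) = π y * π (FS a S v) := by
    intro v
    rw [PM_apply, map_add, map_sub, FS_GS a g S hag, FS_GS a g S hag, sub_self, add_zero, map_mul]
  have hπF : ∀ v : Fin N → S, π (FS a S v) = ∑ i, v i * w i := by
    intro v
    rw [FS_apply, map_sum]
    refine Finset.sum_congr rfl fun i _ => ?_
    rw [map_smul, smul_eq_mul]
  have hwM : Matrix.vecMul w M = π y • w := by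
    ext j
    have h := hℓ (Pi.single j 1)
    rw [hπF, hπF] at h
    simp only [Matrix.vecMul, dotProduct, Pi.smul_apply, smul_eq_mul]
    have h2 : ∑ i, (Pi.single j 1 : Fin N → S) i * w i = w j := by
      rw [Finset.sum_eq_single j]
      · simp
      · intro i _ hij
        simp [Pi.single_apply, hij]
      · simp
    rw [h2] at h
    rw [← h]
    refine Finset.sum_congr rfl fun i _ => ?_
    rw [hM, Matrix.of_apply, mul_comm]
  have h3 : M.det • w = π y • Matrix.vecMul w M.adjugate := by
    have := congrArg (fun u => Matrix.vecMul u M.adjugate) hwM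
    simp only [Matrix.vecMul_vecMul, Matrix.mul_adjugate, Matrix.vecMul_smul, Matrix.vecMul_one,
      Matrix.smul_vecMul] at this
    exact this
  -- unimodularity of `w`
  have h1 : ∑ i, GS g S 1 i * w i = 1 := by
    rw [← hπF, FS_GS a g S hag, map_one]
  have h4 : Nm a g S y = ∑ i, GS g S 1 i * (M.det * w i) := by
    rw [Nm_eq_det]
    calc M.det = M.det * ∑ i, GS g S 1 i * w i := by rw [h1, mul_one]
      _ = ∑ i, GS g S 1 i * (M.det * w i) := by
        rw [Finset.mul_sum]
        refine Finset.sum_congr rfl fun i _ => ?_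
        ring
  rw [h4]
  refine Ideal.sum_mem _ fun i _ => ?_
  have h5 : M.det * w i = π y * Matrix.vecMul w M.adjugate i := by
    have := congrFun h3 i
    simpa [Pi.smul_apply, smul_eq_mul] using this
  rw [h5, ← mul_assoc, mul_comm (GS g S 1 i), mul_assoc]
  exact Ideal.mul_mem_right _ _ (Ideal.subset_span rfl)

end Def

end Groth.Agent.Lib.NormProj55
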