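import Groth.Agent.Lib.NormAmpleH3
import Groth.Agent.Lib.H78PullSec
import Groth.Agent.Lib.H78AmpleOps

/-!
# helper3: ampleness descends along finite locally free surjective morphisms
(namespace `Groth.Agent.Lib.NormPullH3`)

`isAmple_of_isAmple_pullback` (EGA II 6.6.2): `g : X' ⟶ X` finite surjective with `g_* O_{X'}` finite locally
free, `L` invertible on `X` with `g^* L` ample ⇒ `L` ample.
-/

set_option autoImplicit false
universe u
open CategoryTheory CategoryTheory.Limits AlgebraicGeometry Opposite TopologicalSpace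
open Groth.Agent.Lib.H90Invertible Groth.Agent.Lib.StructureModule Groth.Agent.Lib.H78TensorGen
open Groth.Agent.Lib.H78SecCoord Groth.Agent.Lib.H78Atlas Groth.Agent.Lib.NormChartH3
open Groth.Agent.Lib.NormGlueH3 Groth.Agent.Lib.NormBasisH3 Groth.Agent.Lib.H78PullSec

namespace Groth.Agent.Lib.NormPullH3

variable {X' X : Scheme.{u}}

theorem isAmple_of_isAmple_pullback (g : X' ⟶ X) [IsFinite g] [Surjective g]
    (hE : FlatMod.IsFinLocFree (E g)) {L : X.Modules} (hL : PicF.IsInvertible L)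
    (h : CohB1.IsAmple ((Scheme.Modules.pullback g).obj L)) : CohB1.IsAmple L := by
  classical
  haveI : CompactSpace X' := h.2.1
  haveI : CompactSpace X := by
    constructor
    have h1 : IsCompact (Set.range g.base) := isCompact_range g.continuous
    rwa [Set.range_eq_univ.2 g.surjective] at h1
  obtain ⟨V₀, hxV₀, -, ⟨A₀⟩⟩ := exists_atlas hL
  choose Vb n e hxVb he using fun x => exists_isBasisOn hE x
  have key : ∀ x : X, ∃ W : X.Opens, IsAffineOpen W ∧ x ∈ W ∧ W ≤ V₀ x ⊓ Vb x := by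
    intro x
    obtain ⟨W, hW, hxW, hWV⟩ := Opens.isBasis_iff_nbhd.1 X.isBasis_affineOpens
      (show x ∈ V₀ x ⊓ Vb x from ⟨hxV₀ x, hxVb x⟩)
    exact ⟨W, hW, hxW, hWV⟩
  choose W hWaff hxW hWV using key
  obtain ⟨T, hT⟩ := isCompact_univ.elim_finite_subcover (fun x => (W x : Set X))
    (fun x => (W x).isOpen) (fun x _ => Set.mem_iUnion.2 ⟨x, hxW x⟩)
  let ι := {x : X // x ∈ T}
  let Vι : ι → X.Opens := fun i => W i.1
  have hV : ⨆ i, Vι i = ⊤ := by
    refine top_le_iff.1 (fun x _ => ?_)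
    obtain ⟨y, hy⟩ := Set.mem_iUnion.1 (hT (Set.mem_univ x))
    obtain ⟨hyT, hxy⟩ := Set.mem_iUnion.1 hy
    exact Opens.mem_iSup.2 ⟨⟨y, hyT⟩, hxy⟩
  let A : Atlas L Vι := A₀.refine (fun i : ι => i.1) Vι (fun i => (hWV i.1).trans inf_le_left)
  let A' := pullAtlas g A
  have hn1 : ∀ x, 1 ≤ n x := fun x => one_le_of_isBasisOn (he x) (hxVb x)
  set D := ∏ x ∈ T, n x with hD
  have hDpos : 0 < D := Finset.prod_pos (fun x _ => hn1 x)
  let c : ι → ℕ := fun i => D / n i.1
  have hnc : ∀ i : ι, n i.1 * c i = D := fun i =>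
    Nat.mul_div_cancel' (Finset.dvd_prod_of_mem n i.2)
  have hc1 : ∀ i, 1 ≤ c i := by
    intro i
    by_contra hcon
    have h0 : c i = 0 := by omega
    have := hnc i
    rw [h0, mul_zero] at this
    omega
  have hc : ∀ i j, c i = c j ∨ Vι i ⊓ Vι j = ⊥ := by
    intro i j
    by_cases hbot : Vι i ⊓ Vι j = ⊥
    · exact Or.inr hbot
    · left
      obtain ⟨y, hy⟩ : ∃ y, y ∈ Vι i ⊓ Vι j := by
        by_contra hcon
        apply hbot
        ext y
        simp only [Opens.coe_bot, Set.mem_empty_iff_false, iff_false]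
        exact fun hy => hcon ⟨y, hy⟩
      have hnn : n i.1 = n j.1 := card_eq_of_isBasisOn (he i.1) (he j.1)
        (⟨(hWV i.1 hy.1).2, (hWV j.1 hy.2).2⟩ : y ∈ Vb i.1 ⊓ Vb j.1)
      change D / n i.1 = D / n j.1
      rw [hnn]
  have hTr : ∀ i j, (A.pow D).trans i j =
      (glueNorm hE).norm (Vι i ⊓ Vι j) (A'.trans i j) ^ c i := by
    intro i j
    rw [Atlas.pow_trans]
    have h1 : A'.trans i j =
        g.appLE (Vι i ⊓ Vι j) (g ⁻¹ᵁ Vι i ⊓ g ⁻¹ᵁ Vι j) (le_of_eq rfl) (A.trans i j) :=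
      pullAtlas_trans g A i j
    have h2 : g.appLE (Vι i ⊓ Vι j) (g ⁻¹ᵁ Vι i ⊓ g ⁻¹ᵁ Vι j) (le_of_eq rfl) =
        g.app (Vι i ⊓ Vι j) := g.appLE_eq_app
    have h3 : (glueNorm hE).norm (Vι i ⊓ Vι j) (g.app (Vι i ⊓ Vι j) (A.trans i j)) =
        A.trans i j ^ n i.1 :=
      glueNorm_app_of_basis hE (he i.1) (inf_le_left.trans ((hWV i.1).trans inf_le_right)) _
    have h4 : (glueNorm hE).norm (Vι i ⊓ Vι j) (A'.trans i j) = A.trans i j ^ n i.1 := by
      rw [← h3]
      congr 1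
      rw [h1, h2]
      rfl
    rw [h4, ← pow_mul, hnc i]
  have := Groth.Agent.Lib.NormAmpleH3.isAmple_of_norm g (glueNorm hE) h (isInvertible_tensorPow hL D) Vι
    (fun i => hWaff i.1) hV A' (A.pow D) c hc1 hc hTr
  exact (Groth.Agent.Lib.H78AmpleOps.isAmple_tensorPow_iff hL hDpos).2 this

end Groth.Agent.Lib.NormPullH3
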