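import Groth.Agent.Lib.NormPreludeH3
import Groth.Agent.Lib.NormAmpleH3
import Groth.Agent.Lib.ReducedSubscheme
import Groth.Agent.Lib.BoxIrr45

/-!
# helper3: quasi-affineness descends along a finite surjective morphism with norms
(namespace `Groth.Agent.Lib.NormQAffH3`)

* `isQuasiAffine_of_normData`: `π` finite surjective with a `NormData`, `X` quasi-affine ⇒ `Y` quasi-affine.
* `exists_integral_closedSubscheme`: for `π : X ⟶ Y` closed surjective onto an integral scheme there is an
  integral closed subscheme `Z ⊆ X` mapping onto `Y`.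
-/

set_option autoImplicit false
universe u
open CategoryTheory CategoryTheory.Limits AlgebraicGeometry TopologicalSpace
open Groth.Agent.Lib.NormGlueH3

namespace Groth.Agent.Lib.NormQAffH3

/-- quasi-affineness descends along a finite surjective morphism carrying norm maps -/
theorem isQuasiAffine_of_normData {X Y : Scheme.{u}} (π : X ⟶ Y) [IsFinite π] [Surjective π]
    (N : NormData π) (hX : X.IsQuasiAffine) : Y.IsQuasiAffine := by
  haveI : CompactSpace X := hX.toCompactSpace
  have hL' : CohB1.IsAmple (Coh.structureModule X) :=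
    Groth.Agent.Lib.H78AmpleUnit.isAmple_unit_iff.2 hX
  let V : Y.affineOpens → Y.Opens := fun i => i.1
  have hV : ⨆ i, V i = ⊤ := by
    refine top_le_iff.1 (fun y _ => ?_)
    obtain ⟨W, hW, hyW, -⟩ := TopologicalSpace.Opens.isBasis_iff_nbhd.1 Y.isBasis_affineOpens
      (show y ∈ (⊤ : Y.Opens) from trivial)
    exact TopologicalSpace.Opens.mem_iSup.2 ⟨⟨W, hW⟩, hyW⟩
  let A : Groth.Agent.Lib.H78Atlas.Atlas (Coh.structureModule Y) V :=
    ⟨fun i => Groth.Agent.Lib.StructureModule.toSec (V i) 1,
      fun i => Groth.Agent.Lib.H90Invertible.isGen_one (V i)⟩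
  let A' : Groth.Agent.Lib.H78Atlas.Atlas (Coh.structureModule X) (fun i => π ⁻¹ᵁ V i) :=
    ⟨fun i => Groth.Agent.Lib.StructureModule.toSec (π ⁻¹ᵁ V i) 1,
      fun i => Groth.Agent.Lib.H90Invertible.isGen_one (π ⁻¹ᵁ V i)⟩
  have hA : ∀ i j, A.trans i j = 1 := by
    intro i j
    symm
    refine Groth.Agent.Lib.H78Atlas.Atlas.trans_unique A i j ?_
    rw [one_smul]
    change Groth.Agent.Lib.H78TensorGen.rs _ _ (Groth.Agent.Lib.StructureModule.toSec (V i) 1) =
      Groth.Agent.Lib.H78TensorGen.rs _ _ (Groth.Agent.Lib.StructureModule.toSec (V j) 1)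
    rw [Groth.Agent.Lib.H78SecCoord.toSec_rs, Groth.Agent.Lib.H78SecCoord.toSec_rs, map_one, map_one]
  have hA' : ∀ i j, A'.trans i j = 1 := by
    intro i j
    symm
    refine Groth.Agent.Lib.H78Atlas.Atlas.trans_unique A' i j ?_
    rw [one_smul]
    change Groth.Agent.Lib.H78TensorGen.rs _ _ (Groth.Agent.Lib.StructureModule.toSec (π ⁻¹ᵁ V i) 1) =
      Groth.Agent.Lib.H78TensorGen.rs _ _ (Groth.Agent.Lib.StructureModule.toSec (π ⁻¹ᵁ V j) 1)
    rw [Groth.Agent.Lib.H78SecCoord.toSec_rs, Groth.Agent.Lib.H78SecCoord.toSec_rs, map_one, map_one]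
  have hamp := Groth.Agent.Lib.NormAmpleH3.isAmple_of_norm π N hL'
    (Groth.Agent.Lib.H90Invertible.isInvertible_structureModule Y) V (fun i => i.2) hV A' A
    (fun _ => 1) (fun _ => le_rfl) (fun _ _ => Or.inl rfl) (by
      intro i j
      rw [hA, hA']
      change (1 : Γ(Y, V i ⊓ V j)) = (N.norm (V i ⊓ V j) (1 : Γ(X, π ⁻¹ᵁ (V i ⊓ V j)))) ^ 1
      rw [map_one, one_pow])
  haveI : CompactSpace Y := hamp.2.1
  exact Groth.Agent.Lib.H78AmpleUnit.isAmple_unit_iff.1 hamp

/-- an integral closed subscheme of `X` mapping onto the integral scheme `Y` -/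
theorem exists_integral_closedSubscheme {X Y : Scheme.{u}} (π : X ⟶ Y) [Surjective π]
    (hcl : IsClosedMap π.base) [IsIntegral Y] :
    ∃ (Z : Scheme.{u}) (i : Z ⟶ X), IsClosedImmersion i ∧ IsIntegral Z ∧ Surjective (i ≫ π) := by
  obtain ⟨x, hx⟩ := π.surjective (genericPoint Y)
  let T : Closeds X := ⟨closure {x}, isClosed_closure⟩
  let I := Scheme.IdealSheafData.vanishingIdeal T
  have hrange : Set.range I.subschemeι = closure {x} := by
    rw [Scheme.IdealSheafData.range_subschemeι]
    exact Scheme.IdealSheafData.coe_support_vanishingIdeal _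
  haveI : IsReduced I.subscheme :=
    Groth.Agent.Lib.ReducedSubscheme.isReduced_subscheme_vanishingIdeal T
  haveI : IrreducibleSpace I.subscheme := by
    apply Groth.Agent.Lib.BoxIrr45.irreducibleSpace_of_isClosedImmersion I.subschemeι
    rw [hrange]
    exact isIrreducible_singleton.closure
  haveI : IsIntegral I.subscheme := isIntegral_of_irreducibleSpace_of_isReduced _
  refine ⟨I.subscheme, I.subschemeι, inferInstance, inferInstance, ⟨?_⟩⟩
  intro y
  have h1 : Set.range (I.subschemeι ≫ π).base = π.base '' closure {x} := by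
    rw [← hrange]
    ext y
    simp only [Scheme.Hom.comp_base, TopCat.hom_comp, ContinuousMap.coe_comp, Set.mem_range,
      Function.comp_apply, Set.mem_image, exists_exists_eq_and]
  have h2 : IsClosed (π.base '' closure {x}) := hcl _ isClosed_closure
  have h3 : genericPoint Y ∈ π.base '' closure {x} := ⟨x, subset_closure rfl, hx⟩
  have h4 : y ∈ closure {genericPoint Y} := by
    rw [(genericPoint_spec Y).def]
    trivial
  have h5 : closure {genericPoint Y} ⊆ π.base '' closure {x} :=
    h2.closure_subset_iff.2 (Set.singleton_subset_iff.2 h3)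
  have h6 := h5 h4
  rw [← h1] at h6
  exact h6

end Groth.Agent.Lib.NormQAffH3
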