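import Groth.Agent.Lib.NormPreludeH3
import Mathlib.RingTheory.Noetherian.Nilpotent
import Mathlib.AlgebraicGeometry.Noetherian
import Mathlib.AlgebraicGeometry.IdealSheaf.Subscheme
import Mathlib.Algebra.CharP.Lemmas

/-!
# helper3: the reduction of a Noetherian scheme of characteristic `p` carries a norm of degree `p ^ e`
(namespace `Groth.Agent.Lib.NormRedH3`)

`hasNorm`: `X` Noetherian, `p = 0` on `X` ⇒ `X_red ⟶ X` has a norm of degree `p ^ e`, `e > 0`
(`N(s) = a ^ (p ^ e)` for any local lift `a` of `s`; independent of the lift since the nilradical is nilpotent).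
-/

set_option autoImplicit false
set_option linter.style.haveILetI false
universe u
open CategoryTheory CategoryTheory.Limits AlgebraicGeometry Opposite TopologicalSpace
open Groth.Agent.Lib.NormChartH3 Groth.Agent.Lib.NormGlueH3 Groth.Agent.Lib.NormPreludeH3

namespace Groth.Agent.Lib.NormRedH3

variable {X : Scheme.{u}}

/-- On a Noetherian scheme, the nilradical is nilpotent (copied from helper78's `H78IrredComp`, to keep the
import closure small). -/
theorem exists_nilradical_pow_eq_bot (X : Scheme.{u}) [IsNoetherian X] :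
    ∃ m : ℕ, X.nilradical ^ (m + 1) = ⊥ := by
  let 𝒰 := X.affineCover.finiteSubcover
  let U : 𝒰.I₀ → X.affineOpens := fun i => ⟨(𝒰.f i).opensRange, isAffineOpen_opensRange _⟩
  have hU : ⨆ i, (U i).1 = ⊤ := 𝒰.iSup_opensRange
  have key : ∀ i, ∃ m : ℕ, (nilradical Γ(X, (U i).1)) ^ m = ⊥ := by
    intro i
    haveI : IsNoetherianRing Γ(X, (U i).1) := IsLocallyNoetherian.component_noetherian (U i)
    exact IsNoetherianRing.isNilpotent_nilradical _
  choose m hm using key
  refine ⟨Finset.univ.sup m, ?_⟩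
  refine Scheme.IdealSheafData.ext_of_iSup_eq_top U hU (fun i => ?_)
  change (X.nilradical.ideal (U i)) ^ (Finset.univ.sup m + 1) = ⊥
  have h1 : X.nilradical.ideal (U i) = nilradical Γ(X, (U i).1) := rfl
  rw [h1, eq_bot_iff, ← hm i]
  exact Ideal.pow_le_pow_right ((Finset.le_sup (Finset.mem_univ i)).trans (Nat.le_succ _))

/-- sections agreeing on all affine opens are equal -/
lemma eq_of_forall_affine {U : X.Opens} (t t' : Γ(X, U))
    (h : ∀ (W : X.affineOpens) (hW : W.1 ≤ U), rfD hW t = rfD hW t') : t = t' := by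
  let ι := {W : X.affineOpens // W.1 ≤ U}
  refine X.sheaf.eq_of_locally_eq' (fun W : ι => W.1.1) U (fun W => homOfLE W.2) ?_ t t'
    (fun W => h W.1 W.2)
  intro x hx
  obtain ⟨_, ⟨V, hV, rfl⟩, hxV, hVU⟩ := X.isBasis_affineOpens.exists_subset_of_mem_open hx U.2
  exact Opens.mem_iSup.mpr ⟨⟨⟨V, hV⟩, hVU⟩, hxV⟩

section

variable (p : ℕ) (m e : ℕ)

/-- independence of the lift -/
lemma pow_eq_of_app_eq (hp : p.Prime) (hpX : (p : Γ(X, ⊤)) = 0)
    (hm : X.nilradical ^ (m + 1) = ⊥) (hme : m + 1 ≤ p ^ e) (W : X.affineOpens) (a a' : Γ(X, W.1))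
    (h : (X.nilradical.subschemeι.app W.1).hom a = (X.nilradical.subschemeι.app W.1).hom a') :
    a ^ p ^ e = a' ^ p ^ e := by
  have hpW : (p : Γ(X, W.1)) = 0 := by
    have := congrArg (X.presheaf.map (homOfLE (le_top : W.1 ≤ ⊤)).op).hom hpX
    rwa [map_natCast, map_zero] at this
  set ν := a' - a with hν
  have hνker : ν ∈ RingHom.ker (X.nilradical.subschemeι.app W.1).hom := by
    rw [RingHom.mem_ker, hν, map_sub, h, sub_self]
  rw [Scheme.IdealSheafData.ker_subschemeι_app] at hνker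
  have h1 : ν ^ (m + 1) ∈ (X.nilradical ^ (m + 1)).ideal W := by
    rw [Scheme.IdealSheafData.ideal_pow]
    exact Ideal.pow_mem_pow hνker (m + 1)
  rw [hm] at h1
  have h2 : ν ^ (m + 1) = 0 := h1
  have h3 : ν ^ p ^ e = 0 := pow_eq_zero_of_le hme h2
  have h4 : a' = a + ν := by rw [hν]; ring
  obtain ⟨r, hr⟩ := exists_add_pow_prime_pow_eq hp a ν e
  rw [h4, hr, h3, hpW]
  ring


/-- `t` is the `q`-th power norm of `s` -/
def IsNrm (q : ℕ) (U : X.Opens) (s : Γ(X.nilradical.subscheme, X.nilradical.subschemeι ⁻¹ᵁ U))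
    (t : Γ(X, U)) : Prop :=
  ∀ (W : X.affineOpens) (hW : W.1 ≤ U) (a : Γ(X, W.1)),
    (X.nilradical.subschemeι.app W.1).hom a = rfU X.nilradical.subschemeι hW s → rfD hW t = a ^ q

lemma IsNrm.unique {q : ℕ} {U : X.Opens}
    {s : Γ(X.nilradical.subscheme, X.nilradical.subschemeι ⁻¹ᵁ U)} {t t' : Γ(X, U)}
    (h : IsNrm q U s t) (h' : IsNrm q U s t') : t = t' := by
  apply eq_of_forall_affine
  intro W hW
  obtain ⟨a, ha⟩ := X.nilradical.subschemeι_app_surjective W (rfU X.nilradical.subschemeι hW s)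
  rw [h W hW a ha, h' W hW a ha]


lemma exists_isNrm (hp : p.Prime) (hpX : (p : Γ(X, ⊤)) = 0)
    (hm : X.nilradical ^ (m + 1) = ⊥) (hme : m + 1 ≤ p ^ e) (U : X.Opens)
    (s : Γ(X.nilradical.subscheme, X.nilradical.subschemeι ⁻¹ᵁ U)) :
    ∃ t : Γ(X, U), IsNrm (p ^ e) U s t := by
  let ι := {W : X.affineOpens // W.1 ≤ U}
  have hlift : ∀ W : ι, ∃ a : Γ(X, W.1.1),
      (X.nilradical.subschemeι.app W.1.1).hom a = rfU X.nilradical.subschemeι W.2 s :=
    fun W => X.nilradical.subschemeι_app_surjective W.1 _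
  choose a ha using hlift
  let sf : ∀ W : ι, Γ(X, W.1.1) := fun W => a W ^ p ^ e
  have hcompat : TopCat.Presheaf.IsCompatible X.sheaf.1 (fun W : ι => W.1.1) sf := by
    intro W W'
    apply eq_of_forall_affine
    intro W'' hW''
    change rfD hW'' (rfD inf_le_left (a W ^ p ^ e)) = rfD hW'' (rfD inf_le_right (a W' ^ p ^ e))
    rw [rfD_rfD, rfD_rfD, map_pow, map_pow]
    apply pow_eq_of_app_eq p m e hp hpX hm hme W''
    rw [← rfU_app, ← rfU_app, ha, ha, rfU_rfU, rfU_rfU]
  have hcover : U ≤ ⨆ W : ι, W.1.1 := by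
    intro x hx
    obtain ⟨_, ⟨V, hV, rfl⟩, hxV, hVU⟩ := X.isBasis_affineOpens.exists_subset_of_mem_open hx U.2
    exact Opens.mem_iSup.mpr ⟨⟨⟨V, hV⟩, hVU⟩, hxV⟩
  obtain ⟨t, ht, -⟩ := X.sheaf.existsUnique_gluing' (fun W : ι => W.1.1) U
    (fun W => homOfLE W.2) hcover sf hcompat
  refine ⟨t, fun W hW b hb => ?_⟩
  have h1 : rfD hW t = a ⟨W, hW⟩ ^ p ^ e := ht ⟨W, hW⟩
  rw [h1]
  apply pow_eq_of_app_eq p m e hp hpX hm hme W
  exact (ha ⟨W, hW⟩).trans hb.symm


variable (hp : p.Prime) (hpX : (p : Γ(X, ⊤)) = 0)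
  (hm : X.nilradical ^ (m + 1) = ⊥) (hme : m + 1 ≤ p ^ e)

/-- the `p^e`-th power norm of the reduction -/
noncomputable def nrm (U : X.Opens)
    (s : Γ(X.nilradical.subscheme, X.nilradical.subschemeι ⁻¹ᵁ U)) : Γ(X, U) :=
  Classical.choose (exists_isNrm p m e hp hpX hm hme U s)

lemma nrm_spec (U : X.Opens)
    (s : Γ(X.nilradical.subscheme, X.nilradical.subschemeι ⁻¹ᵁ U)) :
    IsNrm (p ^ e) U s (nrm p m e hp hpX hm hme U s) :=
  Classical.choose_spec (exists_isNrm p m e hp hpX hm hme U s)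

include hp hpX hm hme in
lemma isNrm_one (U : X.Opens) : IsNrm (p ^ e) U 1 1 := by
  intro W hW a ha
  rw [map_one]
  rw [map_one] at ha
  have := pow_eq_of_app_eq p m e hp hpX hm hme W a 1 (by rw [ha, map_one])
  rw [this, one_pow]

include hp hpX hm hme in
lemma isNrm_mul (U : X.Opens) {s s' : Γ(X.nilradical.subscheme, X.nilradical.subschemeι ⁻¹ᵁ U)}
    {t t' : Γ(X, U)} (h : IsNrm (p ^ e) U s t) (h' : IsNrm (p ^ e) U s' t') :
    IsNrm (p ^ e) U (s * s') (t * t') := by
  intro W hW a ha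
  obtain ⟨b, hb⟩ := X.nilradical.subschemeι_app_surjective W (rfU X.nilradical.subschemeι hW s)
  obtain ⟨b', hb'⟩ := X.nilradical.subschemeι_app_surjective W (rfU X.nilradical.subschemeι hW s')
  rw [map_mul, h W hW b hb, h' W hW b' hb', ← mul_pow]
  apply pow_eq_of_app_eq p m e hp hpX hm hme W
  rw [ha, map_mul, map_mul]
  exact congrArg₂ (· * ·) hb hb'

lemma isNrm_res {q : ℕ} {U V : X.Opens} (h : V ≤ U)
    {s : Γ(X.nilradical.subscheme, X.nilradical.subschemeι ⁻¹ᵁ U)} {t : Γ(X, U)}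
    (ht : IsNrm q U s t) : IsNrm q V (rfU X.nilradical.subschemeι h s) (rfD h t) := by
  intro W hW a ha
  rw [rfD_rfD]
  apply ht W (hW.trans h) a
  rw [ha, rfU_rfU]

include hp hpX hm hme in
lemma isNrm_app (U : X.Opens) (g : Γ(X, U)) :
    IsNrm (p ^ e) U ((X.nilradical.subschemeι.app U).hom g) (g ^ p ^ e) := by
  intro W hW a ha
  rw [map_pow]
  apply pow_eq_of_app_eq p m e hp hpX hm hme W
  rw [ha]
  exact (rfU_app X.nilradical.subschemeι hW g).symm

/-- the norm maps of the reduction of a Noetherian scheme of characteristic `p` -/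
noncomputable def normData : NormData X.nilradical.subschemeι where
  norm U :=
    { toFun := nrm p m e hp hpX hm hme U
      map_one' := (nrm_spec p m e hp hpX hm hme U 1).unique (isNrm_one p m e hp hpX hm hme U)
      map_mul' := fun s s' => (nrm_spec p m e hp hpX hm hme U (s * s')).unique
        (isNrm_mul p m e hp hpX hm hme U (nrm_spec p m e hp hpX hm hme U s)
          (nrm_spec p m e hp hpX hm hme U s')) }
  norm_res := by
    intro U V h s
    exact (isNrm_res h (nrm_spec p m e hp hpX hm hme U s)).unique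
      (nrm_spec p m e hp hpX hm hme V _)
  norm_le := by
    intro U s x hx
    have hxU : X.nilradical.subschemeι x ∈ U := X.basicOpen_le _ hx
    obtain ⟨_, ⟨W, hW, rfl⟩, hxW0, hWU0⟩ :=
      X.isBasis_affineOpens.exists_subset_of_mem_open hxU U.2
    have hWU : W ≤ U := hWU0
    have hxW : X.nilradical.subschemeι x ∈ W := hxW0
    obtain ⟨a, ha⟩ := X.nilradical.subschemeι_app_surjective ⟨W, hW⟩
      (rfU X.nilradical.subschemeι hWU s)
    have h1 : rfD hWU (nrm p m e hp hpX hm hme U s) = a ^ p ^ e :=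
      nrm_spec p m e hp hpX hm hme U s ⟨W, hW⟩ hWU a ha
    have h2 : X.nilradical.subschemeι x ∈ X.basicOpen (rfD hWU (nrm p m e hp hpX hm hme U s)) := by
      change _ ∈ X.basicOpen ((X.presheaf.map (homOfLE hWU).op).hom _)
      rw [Scheme.basicOpen_res]
      exact ⟨hxW, hx⟩
    rw [h1] at h2
    have hq : 0 < p ^ e := Nat.pos_of_ne_zero (pow_ne_zero _ hp.ne_zero)
    rw [Scheme.basicOpen_pow _ _ hq] at h2
    have h3 : x ∈ X.nilradical.subscheme.basicOpen ((X.nilradical.subschemeι.app W).hom a) := by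
      have := Scheme.preimage_basicOpen X.nilradical.subschemeι a
      rw [← this]
      exact h2
    rw [ha] at h3
    change x ∈ X.nilradical.subscheme.basicOpen
      ((X.nilradical.subscheme.presheaf.map
        (homOfLE (X.nilradical.subschemeι.preimage_mono hWU)).op).hom s) at h3
    rw [Scheme.basicOpen_res] at h3
    exact h3.2

lemma normData_app (U : X.Opens) (g : Γ(X, U)) :
    (normData p m e hp hpX hm hme).norm U (X.nilradical.subschemeι.app U g) = g ^ p ^ e :=
  (nrm_spec p m e hp hpX hm hme U _).unique (isNrm_app p m e hp hpX hm hme U g)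

end

/-- **The reduction of a Noetherian scheme of characteristic `p` has a norm of degree `p ^ e`.** -/
theorem hasNorm (X : Scheme.{u}) [IsNoetherian X] (p : ℕ) (hp : p.Prime)
    (hpX : (p : Γ(X, ⊤)) = 0) : ∃ e : ℕ, 0 < e ∧ Nrm.HasNorm X.nilradical.subschemeι (p ^ e) := by
  obtain ⟨m, hm⟩ := exists_nilradical_pow_eq_bot X
  have hme : m + 1 ≤ p ^ (m + 1) := (Nat.lt_pow_self hp.one_lt).le
  refine ⟨m + 1, Nat.succ_pos m, ⟨toNormOfDegree (normData p m (m + 1) hp hpX hm hme) (p ^ (m + 1))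
    (Nat.one_le_pow _ _ hp.pos) (normData_app p m (m + 1) hp hpX hm hme)⟩⟩

end Groth.Agent.Lib.NormRedH3
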