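import Groth.Agent.Lib.NormAmpleH3
import Groth.Agent.Lib.H78Atlas
import Groth.Agent.Lib.H78GenOn

/-!
# helper3: restricting norm maps and atlases to an open of the target; relative descent of ampleness
(namespace `Groth.Agent.Lib.NormRestrictH3`)

* `restrict N U : NormData (π ∣_ U)` for `N : NormData π`.
* `restrictAtlas A U f T hT : Atlas (P.restrict U.ι) T`, `restrictAtlas_trans`.
* `isAmple_restrict_of_norm`: relative form of `NormAmpleH3.isAmple_of_norm`: if the transition functions of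
  `L` are the norms of those of `L'`, and `L'` is ample over `π⁻¹ U`, then `L` is ample over `U`.
-/

set_option autoImplicit false
set_option linter.style.haveILetI false
universe u
open CategoryTheory CategoryTheory.Limits AlgebraicGeometry Opposite TopologicalSpace
open Groth.Agent.Lib.NormChartH3 Groth.Agent.Lib.NormGlueH3
open Groth.Agent.Lib.H90Invertible Groth.Agent.Lib.H78TensorGen Groth.Agent.Lib.H78Atlas
open Groth.Agent.Lib.H78GenOn

namespace Groth.Agent.Lib.NormRestrictH3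

lemma map_comp_eq {Z : Scheme.{u}} {A B C B' : Z.Opens} (a : A ⟶ B) (b : B ⟶ C) (a' : A ⟶ B')
    (b' : B' ⟶ C) :
    Z.presheaf.map b.op ≫ Z.presheaf.map a.op = Z.presheaf.map b'.op ≫ Z.presheaf.map a'.op := by
  rw [← Functor.map_comp, ← Functor.map_comp]
  congr 1

section Atlas

variable {Z : Scheme.{u}} {P : Z.Modules} {ι : Type*} {V : ι → Z.Opens}

/-- a section of `P` over `U.ι ''ᵁ T` as a section of `P.restrict U.ι` over `T` -/
def toR (P : Z.Modules) (U : Z.Opens) (T : (U : Scheme.{u}).Opens) (x : Γ(P, U.ι ''ᵁ T)) :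
    Γ(P.restrict U.ι, T) := x

/-- a function on `U.ι ''ᵁ T` as a function on the open `T` of the open subscheme `U` -/
def toF (U : Z.Opens) (T : (U : Scheme.{u}).Opens) (a : Γ(Z, U.ι ''ᵁ T)) :
    Γ((U : Scheme.{u}), T) := a

lemma toR_smul (U : Z.Opens) (T : (U : Scheme.{u}).Opens) (a : Γ(Z, U.ι ''ᵁ T))
    (x : Γ(P, U.ι ''ᵁ T)) : toF U T a • toR P U T x = toR P U T (a • x) := by
  rw [restrict_smul, Scheme.Opens.ι_appIso]
  rfl

lemma toR_rs (U : Z.Opens) {T T₂ : (U : Scheme.{u}).Opens} (h : T₂ ≤ T) (x : Γ(P, U.ι ''ᵁ T)) :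
    rs (P.restrict U.ι) h (toR P U T x) = toR P U T₂ (rs P (U.ι.image_mono h) x) := rfl

/-- restriction of an atlas to an open subscheme, over a family of opens of the subscheme refining the
atlas -/
noncomputable def restrictAtlas (A : Atlas P V) (U : Z.Opens) {κ : Type*} (f : κ → ι)
    (T : κ → (U : Scheme.{u}).Opens) (hT : ∀ k, U.ι ''ᵁ T k ≤ V (f k)) :
    Atlas (P.restrict U.ι) T where
  E k := toR P U (T k) (rs P (hT k) (A.E (f k)))
  gen k := (isGen_restrict_iff U.ι P (T k) _).2 ((A.gen (f k)).mono (hT k))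

lemma image_inf_le (U : Z.Opens) {κ : Type*} (f : κ → ι)
    (T : κ → (U : Scheme.{u}).Opens) (hT : ∀ k, U.ι ''ᵁ T k ≤ V (f k)) (k l : κ) :
    U.ι ''ᵁ (T k ⊓ T l) ≤ V (f k) ⊓ V (f l) :=
  le_inf ((U.ι.image_mono inf_le_left).trans (hT k)) ((U.ι.image_mono inf_le_right).trans (hT l))

lemma restrictAtlas_trans (A : Atlas P V) (U : Z.Opens) {κ : Type*} (f : κ → ι)
    (T : κ → (U : Scheme.{u}).Opens) (hT : ∀ k, U.ι ''ᵁ T k ≤ V (f k)) (k l : κ) :
    (restrictAtlas A U f T hT).trans k l =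
      toF U (T k ⊓ T l) (rf (X := Z) (image_inf_le U f T hT k l) (A.trans (f k) (f l))) := by
  symm
  apply Atlas.trans_unique
  have h := congrArg (rs P (image_inf_le U f T hT k l)) (A.trans_spec (f k) (f l))
  rw [rs_smul, rs_rs, rs_rs] at h
  change _ • rs (P.restrict U.ι) _ (toR P U (T k) (rs P (hT k) (A.E (f k)))) =
    rs (P.restrict U.ι) _ (toR P U (T l) (rs P (hT l) (A.E (f l))))
  rw [toR_rs, toR_rs, toR_smul, rs_rs, rs_rs]
  exact congrArg (toR P U (T k ⊓ T l)) h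

end Atlas

section Norm

variable {X' X : Scheme.{u}} (π : X' ⟶ X)

/-- transport of a function on `(π⁻¹U).ι ''ᵁ ((π ∣_ U) ⁻¹ᵁ T)` to `π ⁻¹ᵁ (U.ι ''ᵁ T)` -/
noncomputable def tr (U : X.Opens) (T : (U : Scheme.{u}).Opens) :
    Γ((π ⁻¹ᵁ U : Scheme.{u}), (π ∣_ U) ⁻¹ᵁ T) →+* Γ(X', π ⁻¹ᵁ (U.ι ''ᵁ T)) :=
  (X'.presheaf.map (eqToHom (image_morphismRestrict_preimage π U T).symm).op).hom

lemma tr_res (U : X.Opens) {T T₂ : (U : Scheme.{u}).Opens} (h : T₂ ≤ T)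
    (s : Γ((π ⁻¹ᵁ U : Scheme.{u}), (π ∣_ U) ⁻¹ᵁ T)) :
    tr π U T₂ (rfU (π ∣_ U) h s) =
      rfU π (U.ι.image_mono h : U.ι ''ᵁ T₂ ≤ U.ι ''ᵁ T) (tr π U T s) := by
  have := map_comp_eq (Z := X')
    (eqToHom (image_morphismRestrict_preimage π U T₂).symm)
    ((π ⁻¹ᵁ U).ι.opensFunctor.map (homOfLE ((π ∣_ U).preimage_mono h)))
    (homOfLE (π.preimage_mono (U.ι.image_mono h)))
    (eqToHom (image_morphismRestrict_preimage π U T).symm)
  exact congrArg (fun φ => φ.hom s) this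

/-- basic opens of an open subscheme -/
lemma mem_basicOpen_iff {Z : Scheme.{u}} (U : Z.Opens) (T : (U : Scheme.{u}).Opens)
    (t : Γ(Z, U.ι ''ᵁ T)) (z : (U : Scheme.{u})) :
    z ∈ (U : Scheme.{u}).basicOpen (show Γ((U : Scheme.{u}), T) from t) ↔
      U.ι z ∈ Z.basicOpen t := by
  have h1 := Scheme.image_basicOpen U.ι (show Γ((U : Scheme.{u}), T) from t)
  rw [Scheme.Opens.ι_appIso] at h1
  change U.ι ''ᵁ _ = Z.basicOpen t at h1
  rw [← h1]
  constructor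
  · intro hz
    exact ⟨z, hz, rfl⟩
  · rintro ⟨z₀, hz₀, e⟩
    rwa [← U.ι.isOpenEmbedding.injective e]

/-- restriction of a system of norm maps to an open of the target -/
noncomputable def restrict (N : NormData π) (U : X.Opens) : NormData (π ∣_ U) where
  norm T := (N.norm (U.ι ''ᵁ T)).comp (tr π U T).toMonoidHom
  norm_res := by
    intro T T₂ h s
    change rfD (U.ι.image_mono h) (N.norm (U.ι ''ᵁ T) (tr π U T s)) =
      N.norm (U.ι ''ᵁ T₂) (tr π U T₂ (rfU (π ∣_ U) h s))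
    rw [N.norm_res, tr_res]
  norm_le := by
    intro T s x hx
    change (π ∣_ U) x ∈ (U : Scheme.{u}).basicOpen
      (show Γ((U : Scheme.{u}), T) from N.norm (U.ι ''ᵁ T) (tr π U T s)) at hx
    rw [mem_basicOpen_iff] at hx
    have h1 : U.ι ((π ∣_ U) x) = π ((π ⁻¹ᵁ U).ι x) := by
      have := morphismRestrict_ι π U
      exact congrArg (fun φ : (π ⁻¹ᵁ U : Scheme.{u}) ⟶ X => φ x) this
    rw [h1] at hx
    have h2 : (π ⁻¹ᵁ U).ι x ∈ X'.basicOpen (tr π U T s) := N.norm_le _ _ hx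
    have h3 : X'.basicOpen (tr π U T s) =
        X'.basicOpen (show Γ(X', (π ⁻¹ᵁ U).ι ''ᵁ ((π ∣_ U) ⁻¹ᵁ T)) from s) :=
      Scheme.basicOpen_res_eq X' _ _
    rw [h3] at h2
    exact (mem_basicOpen_iff (π ⁻¹ᵁ U) ((π ∣_ U) ⁻¹ᵁ T) s x).2 h2


lemma tr_toF_rf (U : X.Opens) (T : (U : Scheme.{u}).Opens) {W : X'.Opens}
    (h1 : (π ⁻¹ᵁ U).ι ''ᵁ ((π ∣_ U) ⁻¹ᵁ T) ≤ W) (h2 : π ⁻¹ᵁ (U.ι ''ᵁ T) ≤ W) (t : Γ(X', W)) :
    tr π U T (toF (π ⁻¹ᵁ U) ((π ∣_ U) ⁻¹ᵁ T) (rf (X := X') h1 t)) = rf (X := X') h2 t := by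
  have := map_comp_eq (Z := X')
    (eqToHom (image_morphismRestrict_preimage π U T).symm) (homOfLE h1)
    (homOfLE h2) (𝟙 W)
  have h3 := congrArg (fun φ => φ.hom t) this
  refine h3.trans ?_
  change X'.presheaf.map (homOfLE h2).op ((X'.presheaf.map (𝟙 W).op) t) = _
  rw [show (𝟙 W : W ⟶ W).op = 𝟙 (op W) from rfl, X'.presheaf.map_id]
  rfl

lemma exists_affine_refinement {ι : Type*} (V : ι → X.Opens) (hV : ⨆ i, V i = ⊤) (U : X.Opens) :
    ∃ (κ : Type (max u_1 u)) (f : κ → ι) (T : κ → (U : Scheme.{u}).Opens),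
      (∀ k, IsAffineOpen (T k)) ∧ (∀ k, U.ι ''ᵁ T k ≤ V (f k)) ∧ ⨆ k, T k = ⊤ := by
  refine ⟨{p : ι × (U : Scheme.{u}).Opens // IsAffineOpen p.2 ∧ U.ι ''ᵁ p.2 ≤ V p.1},
    fun k => k.1.1, fun k => k.1.2, fun k => k.2.1, fun k => k.2.2, ?_⟩
  refine top_le_iff.1 (fun z _ => ?_)
  have hz : U.ι z ∈ ⨆ i, V i := by rw [hV]; trivial
  obtain ⟨i, hi⟩ := Opens.mem_iSup.1 hz
  obtain ⟨_, ⟨W, hW, rfl⟩, hzW, hWle⟩ :=
    (U : Scheme.{u}).isBasis_affineOpens.exists_subset_of_mem_open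
      (show z ∈ ((U.ι ⁻¹ᵁ V i : (U : Scheme.{u}).Opens) : Set (U : Scheme.{u})) from hi)
      (U.ι ⁻¹ᵁ V i).2
  have hWle' : U.ι ''ᵁ W ≤ V i := by
    rintro _ ⟨w, hw, rfl⟩
    exact hWle hw
  exact Opens.mem_iSup.2 ⟨⟨(i, W), hW, hWle'⟩, hzW⟩

/-- **relative descent of ampleness along a finite surjective morphism with norms** -/
theorem isAmple_restrict_of_norm [IsFinite π] [Surjective π] (N : NormData π)
    {L' : X'.Modules} {L : X.Modules} (hL : PicF.IsInvertible L)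
    {ι : Type*} (V : ι → X.Opens) (hV : ⨆ i, V i = ⊤)
    (A' : Atlas L' (fun i => π ⁻¹ᵁ V i)) (A : Atlas L V)
    (hT : ∀ i j, A.trans i j = N.norm (V i ⊓ V j) (A'.trans i j))
    (U : X.Opens) (hL'U : CohB1.IsAmple (L'.restrict (π ⁻¹ᵁ U).ι)) :
    CohB1.IsAmple (L.restrict U.ι) := by
  haveI : Surjective (π ∣_ U) :=
    MorphismProperty.of_isPullback (P := @Surjective)
      (isPullback_morphismRestrict π U).flip inferInstance
  obtain ⟨κ, f, T, hTaff, hTle, hcover⟩ := exists_affine_refinement V hV U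
  have hT'le : ∀ k, (π ⁻¹ᵁ U).ι ''ᵁ ((π ∣_ U) ⁻¹ᵁ T k) ≤ π ⁻¹ᵁ V (f k) := by
    intro k
    rw [image_morphismRestrict_preimage]
    exact π.preimage_mono (hTle k)
  refine Groth.Agent.Lib.NormAmpleH3.isAmple_of_norm (π ∣_ U) (restrict π N U) hL'U
    (isInvertible_restrict U.ι hL) T hTaff hcover
    (restrictAtlas A' (π ⁻¹ᵁ U) f (fun k => (π ∣_ U) ⁻¹ᵁ T k) hT'le)
    (restrictAtlas A U f T hTle) (fun _ => 1) (fun _ => le_rfl)
    (fun _ _ => Or.inl rfl) (fun k l => ?_)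
  rw [pow_one, restrictAtlas_trans A U f T hTle k l,
    restrictAtlas_trans A' (π ⁻¹ᵁ U) f (fun k => (π ∣_ U) ⁻¹ᵁ T k) hT'le k l, hT]
  have key := tr_toF_rf π U (T k ⊓ T l)
    (W := π ⁻¹ᵁ V (f k) ⊓ π ⁻¹ᵁ V (f l))
    (image_inf_le (V := fun i => π ⁻¹ᵁ V i) (π ⁻¹ᵁ U) f (fun k => (π ∣_ U) ⁻¹ᵁ T k) hT'le k l)
    (π.preimage_mono (image_inf_le U f T hTle k l)) (A'.trans (f k) (f l))
  have h2 := N.norm_res (image_inf_le U f T hTle k l) (A'.trans (f k) (f l))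
  exact h2.trans (congrArg (N.norm (U.ι ''ᵁ (T k ⊓ T l))) key.symm)


end Norm

end Groth.Agent.Lib.NormRestrictH3
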