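import Mathlib

/-!
# helper96: extending a ring map from a domain to its integral closure, into a normal ring

`existsUnique_extension`: `B` a domain with fraction ring `K`, `σ : B → C` a ring map such that for
every prime `q` of `C` the localization `C_q` is an integrally closed domain and `B → C_q` is
injective. Then `σ` extends uniquely to the integral closure of `B` in `K`.
-/

set_option autoImplicit false
set_option linter.style.haveILetI false
universe u

namespace Groth.Agent.Lib.NormUniv96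

section Ring

variable {B C : Type u} [CommRing B] [CommRing C] (σ : B →+* C)

theorem mem_nonZeroDivisors_of_local
    (hN : ∀ (q : Ideal C) [q.IsPrime], ∃ (D : Type u) (_ : CommRing D) (_ : IsDomain D)
      (_ : Algebra C D) (_ : IsLocalization.AtPrime D q),
      Function.Injective ((algebraMap C D).comp σ))
    (s : B) (hs : s ≠ 0) : σ s ∈ nonZeroDivisors C := by
  rw [mem_nonZeroDivisors_iff_right]
  intro c hc
  by_contra hc0
  let I : Ideal C := LinearMap.ker (LinearMap.toSpanSingleton C C c)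
  have hI : ∀ t, t ∈ I ↔ t * c = 0 := fun t => by
    simp [I, LinearMap.mem_ker, LinearMap.toSpanSingleton_apply]
  have hIne : I ≠ ⊤ := by
    intro h
    have : (1 : C) ∈ I := h ▸ Submodule.mem_top
    rw [hI, one_mul] at this
    exact hc0 this
  obtain ⟨q, hq, hIq⟩ := Ideal.exists_le_maximal I hIne
  haveI := hq.isPrime
  obtain ⟨D, _, _, _, _, hinj⟩ := hN q
  have h1 : algebraMap C D c ≠ 0 := by
    intro h0
    obtain ⟨m, hm⟩ := (IsLocalization.map_eq_zero_iff q.primeCompl D c).mp h0
    have : (m : C) ∈ I := (hI _).mpr hm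
    exact m.2 (hIq this)
  have h2 : algebraMap C D c * algebraMap C D (σ s) = 0 := by
    rw [← map_mul, hc, map_zero]
  have h3 : algebraMap C D (σ s) = 0 := (mul_eq_zero.mp h2).resolve_left h1
  exact hs (hinj (by rw [RingHom.comp_apply, h3, map_zero]))

variable {K : Type u} [IsDomain B] [CommRing K] [Algebra B K] [IsFractionRing B K]

theorem exists_of_integral
    (hN : ∀ (q : Ideal C) [q.IsPrime], ∃ (D : Type u) (_ : CommRing D) (_ : IsDomain D)
      (_ : IsIntegrallyClosed D) (_ : Algebra C D) (_ : IsLocalization.AtPrime D q),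
      Function.Injective ((algebraMap C D).comp σ))
    (b' : K) (hb' : IsIntegral B b') (s₀ a₀ : B) (hs₀ : s₀ ≠ 0)
    (h₀ : b' * algebraMap B K s₀ = algebraMap B K a₀) :
    ∃ c : C, σ s₀ * c = σ a₀ := by
  let I : Ideal C :=
    { carrier := {t | ∃ c, σ s₀ * c = t * σ a₀}
      add_mem' := by
        rintro t₁ t₂ ⟨c₁, h₁⟩ ⟨c₂, h₂⟩
        exact ⟨c₁ + c₂, by rw [mul_add, h₁, h₂, add_mul]⟩
      zero_mem' := ⟨0, by simp⟩
      smul_mem' := by
        rintro r t ⟨c, h⟩
        exact ⟨r * c, by rw [smul_eq_mul, mul_left_comm, h, mul_assoc]⟩ }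
  suffices hI : I = ⊤ by
    have h1 : (1 : C) ∈ I := hI ▸ Submodule.mem_top
    obtain ⟨c, hc⟩ := h1
    exact ⟨c, by rw [hc, one_mul]⟩
  by_contra hIne
  obtain ⟨q, hq, hIq⟩ := Ideal.exists_le_maximal I hIne
  haveI := hq.isPrime
  obtain ⟨D, _, _, _, _, _, hinj⟩ := hN q
  let τ : B →+* D := (algebraMap C D).comp σ
  let g : B →+* FractionRing D := (algebraMap D (FractionRing D)).comp τ
  have hg : Function.Injective g :=
    (IsFractionRing.injective D (FractionRing D)).comp hinj
  let κ : K →+* FractionRing D := IsLocalization.lift (M := nonZeroDivisors B) (g := g)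
    (fun y => IsUnit.mk0 _ (by
      intro h0
      exact nonZeroDivisors.ne_zero y.2 (hg (by rw [h0, map_zero]))))
  have hκ : ∀ b : B, κ (algebraMap B K b) = g b := fun b => IsLocalization.lift_eq _ b
  have hint : IsIntegral D (κ b') := by
    obtain ⟨p, hp, hp0⟩ := hb'
    refine ⟨p.map τ, hp.map τ, ?_⟩
    rw [Polynomial.eval₂_map]
    have h1 : (algebraMap D (FractionRing D)).comp τ = κ.comp (algebraMap B K) :=
      RingHom.ext fun b => (hκ b).symm
    rw [h1, ← Polynomial.hom_eval₂, hp0, map_zero]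
  obtain ⟨d, hd⟩ := IsIntegrallyClosed.algebraMap_eq_of_integral hint
  have h2 : τ s₀ * d = τ a₀ := by
    apply IsFractionRing.injective D (FractionRing D)
    rw [map_mul, hd]
    have h3 := congrArg κ h₀
    rw [map_mul, hκ, hκ] at h3
    rw [mul_comm]
    exact h3
  obtain ⟨⟨c, t⟩, hct⟩ := IsLocalization.surj q.primeCompl d
  have h4 : algebraMap C D (σ s₀ * c) = algebraMap C D (t * σ a₀) := by
    rw [map_mul, ← hct, map_mul]
    show τ s₀ * (d * algebraMap C D t) = algebraMap C D t * τ a₀
    rw [← h2]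
    ring
  obtain ⟨t', ht'⟩ := (IsLocalization.eq_iff_exists q.primeCompl D).mp h4
  have h5 : (t' : C) * t ∈ I := ⟨t' * c, by
    rw [mul_left_comm, ht']
    ring⟩
  have h6 : (t' : C) * t ∈ q := hIq h5
  rcases (Ideal.IsPrime.mem_or_mem inferInstance h6) with h | h
  · exact t'.2 h
  · exact t.2 h

theorem existsUnique_extension
    (hN : ∀ (q : Ideal C) [q.IsPrime], ∃ (D : Type u) (_ : CommRing D) (_ : IsDomain D)
      (_ : IsIntegrallyClosed D) (_ : Algebra C D) (_ : IsLocalization.AtPrime D q),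
      Function.Injective ((algebraMap C D).comp σ)) :
    ∃! ψ : integralClosure B K →+* C, ψ.comp (algebraMap B (integralClosure B K)) = σ := by
  have hN' : ∀ (q : Ideal C) [q.IsPrime], ∃ (D : Type u) (_ : CommRing D) (_ : IsDomain D)
      (_ : Algebra C D) (_ : IsLocalization.AtPrime D q),
      Function.Injective ((algebraMap C D).comp σ) := by
    intro q _
    obtain ⟨D, i1, i2, _, i4, i5, h⟩ := hN q
    exact ⟨D, i1, i2, i4, i5, h⟩
  have hnzd : ∀ s : B, s ≠ 0 → σ s ∈ nonZeroDivisors C :=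
    fun s hs => mem_nonZeroDivisors_of_local σ hN' s hs
  -- representation of elements of `K`
  have hrep : ∀ b' : K, ∃ s₀ a₀ : B, s₀ ≠ 0 ∧ b' * algebraMap B K s₀ = algebraMap B K a₀ := by
    intro b'
    obtain ⟨⟨a₀, s₀⟩, h⟩ := IsLocalization.surj (nonZeroDivisors B) b'
    exact ⟨s₀.1, a₀, nonZeroDivisors.ne_zero s₀.2, h⟩
  -- the map to the total fraction ring
  let Q := FractionRing C
  have hQinj : Function.Injective (algebraMap C Q) := IsFractionRing.injective C Q
  let κ : K →+* Q := IsLocalization.lift (M := nonZeroDivisors B)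
    (g := (algebraMap C Q).comp σ) (fun y => by
      have h1 := hnzd y.1 (nonZeroDivisors.ne_zero y.2)
      exact IsLocalization.map_units Q (⟨σ y.1, h1⟩ : nonZeroDivisors C))
  have hκ : ∀ b : B, κ (algebraMap B K b) = algebraMap C Q (σ b) := fun b =>
    IsLocalization.lift_eq _ b
  have hex : ∀ b' : integralClosure B K, ∃ c : C, algebraMap C Q c = κ b'.1 := by
    intro b'
    obtain ⟨s₀, a₀, hs₀, h₀⟩ := hrep b'.1
    obtain ⟨c, hc⟩ := exists_of_integral σ hN b'.1 b'.2 s₀ a₀ hs₀ h₀
    refine ⟨c, ?_⟩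
    have hu : IsUnit (algebraMap C Q (σ s₀)) :=
      IsLocalization.map_units Q (⟨σ s₀, hnzd s₀ hs₀⟩ : nonZeroDivisors C)
    apply hu.mul_left_cancel
    rw [← map_mul, hc, ← hκ, ← h₀, map_mul, hκ, mul_comm]
  choose ψ₀ hψ₀ using hex
  let ψ : integralClosure B K →+* C :=
    { toFun := ψ₀
      map_one' := hQinj (by rw [hψ₀, map_one]; simp)
      map_mul' := fun a b => hQinj (by rw [hψ₀, map_mul, hψ₀, hψ₀]; simp)
      map_zero' := hQinj (by rw [hψ₀, map_zero]; simp)
      map_add' := fun a b => hQinj (by rw [hψ₀, map_add, hψ₀, hψ₀]; simp) }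
  have hψσ : ψ.comp (algebraMap B (integralClosure B K)) = σ := by
    ext b
    apply hQinj
    show algebraMap C Q (ψ₀ (algebraMap B (integralClosure B K) b)) = _
    rw [hψ₀, ← hκ]
    rfl
  refine ⟨ψ, hψσ, fun ψ' hψ' => ?_⟩
  ext b'
  obtain ⟨s₀, a₀, hs₀, h₀⟩ := hrep b'.1
  have h1 : b' * algebraMap B (integralClosure B K) s₀ = algebraMap B (integralClosure B K) a₀ :=
    Subtype.ext h₀
  have h2 : ψ' b' * σ s₀ = σ a₀ := by
    have := congrArg ψ' h1
    rw [map_mul] at this
    rw [← hψ']
    exact this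
  have h3 : ψ b' * σ s₀ = σ a₀ := by
    have := congrArg ψ h1
    rw [map_mul] at this
    rw [← hψσ]
    exact this
  exact (mul_cancel_right_mem_nonZeroDivisors (hnzd s₀ hs₀)).mp (h2.trans h3.symm)

end Ring

end Groth.Agent.Lib.NormUniv96
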