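import Mathlib
import Groth.Prelude.Def_Pi1

/-!
# helper96: normal schemes dominating an integral scheme: injectivity of stalk maps

* `NormalDom g`: the working hypothesis: all stalks of the source are integrally closed domains and
  all stalk maps of `g` are injective.
* `normalDom_of_dominant`: a normal scheme all of whose generic points map to the generic point of the
  integral scheme `X` satisfies it.
* `NormalDom.comp_openImmersion`: it is inherited by open subschemes.
-/

set_option autoImplicit false
set_option linter.style.haveILetI false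
universe u

namespace Groth.Agent.Lib.NormUniv96

open AlgebraicGeometry CategoryTheory

/-- Working hypothesis: the source is normal and all stalk maps are injective. -/
structure NormalDom {Z X : Scheme.{u}} (g : Z ⟶ X) : Prop where
  normal : ∀ z : Z, IsDomain (Z.presheaf.stalk z) ∧ IsIntegrallyClosed (Z.presheaf.stalk z)
  inj : ∀ z : Z, Function.Injective (g.stalkMap z).hom

theorem NormalDom.comp_openImmersion {Z' Z X : Scheme.{u}} {g : Z ⟶ X} (h : NormalDom g)
    (j : Z' ⟶ Z) [IsOpenImmersion j] : NormalDom (j ≫ g) := by
  constructor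
  · intro z'
    let e : Z.presheaf.stalk (j z') ≃+* Z'.presheaf.stalk z' :=
      (asIso (j.stalkMap z')).commRingCatIsoToRingEquiv
    obtain ⟨hd, hic⟩ := h.normal (j z')
    exact ⟨e.symm.injective.isDomain e.symm.toRingHom, IsIntegrallyClosed.of_equiv e⟩
  · intro z'
    rw [Scheme.Hom.stalkMap_comp]
    have h1 : Function.Injective (j.stalkMap z').hom :=
      (ConcreteCategory.bijective_of_isIso (j.stalkMap z')).1
    exact h1.comp (h.inj (j z'))

section Generic

variable {X : Scheme.{u}} [IsIntegral X]

/-- The generic point of the spectrum of a stalk of an integral scheme maps to the generic point. -/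
theorem fromSpecStalk_bot (x : X) :
    X.fromSpecStalk x (⊥ : PrimeSpectrum (X.presheaf.stalk x)) = genericPoint X := by
  have h1 : genericPoint X ∈ Set.range (X.fromSpecStalk x) := by
    rw [Scheme.range_fromSpecStalk]
    exact genericPoint_specializes x
  obtain ⟨P, hP⟩ := h1
  have h2 : (⊥ : PrimeSpectrum (X.presheaf.stalk x)) ⤳ P :=
    (PrimeSpectrum.le_iff_specializes _ _).mp bot_le
  have h3 : X.fromSpecStalk x (⊥ : PrimeSpectrum (X.presheaf.stalk x)) ⤳ genericPoint X := by
    rw [← hP]
    exact h2.map (X.fromSpecStalk x).continuous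
  exact (h3.antisymm (genericPoint_specializes _)).eq

end Generic

section Comp

variable {Z : Scheme.{u}}

/-- The image of the generic point of `Spec O_{Z,z}` (for a domain `O_{Z,z}`) is the generic point
of an irreducible component of `Z`. -/
theorem closure_fromSpecStalk_bot_mem_irreducibleComponents (z : Z)
    [IsDomain (Z.presheaf.stalk z)] :
    closure {Z.fromSpecStalk z (⊥ : PrimeSpectrum (Z.presheaf.stalk z))} ∈
      irreducibleComponents Z := by
  set ξ := Z.fromSpecStalk z (⊥ : PrimeSpectrum (Z.presheaf.stalk z)) with hξ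
  refine ⟨isIrreducible_singleton.closure, fun T hT hle => ?_⟩
  -- the closure of `T` has a generic point `t`
  have hTc : IsIrreducible (closure T) := hT.closure
  obtain ⟨t, ht⟩ := QuasiSober.sober hTc isClosed_closure
  have hξT : ξ ∈ closure T := subset_closure (hle (subset_closure (Set.mem_singleton ξ)))
  have htξ : t ⤳ ξ := by
    rw [specializes_iff_mem_closure, ht.def]
    exact hξT
  have hξz : ξ ⤳ z := by
    have : ξ ∈ Set.range (Z.fromSpecStalk z) := Set.mem_range_self _
    rw [Scheme.range_fromSpecStalk] at this
    exact this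
  have htz : t ∈ Set.range (Z.fromSpecStalk z) := by
    rw [Scheme.range_fromSpecStalk]
    exact htξ.trans hξz
  obtain ⟨P', hP'⟩ := htz
  let b : Spec (Z.presheaf.stalk z) := (⊥ : PrimeSpectrum (Z.presheaf.stalk z))
  have h1 : P' ⤳ b := by
    rw [← (Z.fromSpecStalk z).isEmbedding.isInducing.specializes_iff, hP']
    exact htξ
  have h3 : P' = b := by
    let P'' : PrimeSpectrum (Z.presheaf.stalk z) := P'
    have h2 : P'' ≤ (⊥ : PrimeSpectrum (Z.presheaf.stalk z)) :=
      (PrimeSpectrum.le_iff_specializes P'' ⊥).mpr h1
    exact (le_bot_iff (α := PrimeSpectrum (Z.presheaf.stalk z)) (a := P'')).mp h2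
  have h4 : t = ξ := by rw [← hP', h3]
  intro x hx
  have : x ∈ closure T := subset_closure hx
  rw [← ht.def, h4] at this
  exact this

end Comp

/-- A normal scheme whose generic points map to the generic point of the integral scheme `X`. -/
theorem normalDom_of_dominant {X Z : Scheme.{u}} [IsIntegral X] (g : Z ⟶ X)
    (hZ : Pi1.IsNormalScheme Z)
    (hdom : ∀ z : Z, closure {z} ∈ irreducibleComponents Z → g.base z = genericPoint X) :
    NormalDom g := by
  refine ⟨hZ, fun z => ?_⟩
  haveI := (hZ z).1
  set ξ := Z.fromSpecStalk z (⊥ : PrimeSpectrum (Z.presheaf.stalk z)) with hξ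
  have h1 : g ξ = genericPoint X :=
    hdom ξ (closure_fromSpecStalk_bot_mem_irreducibleComponents z)
  have h2 := Scheme.SpecMap_stalkMap_fromSpecStalk g (x := z)
  have h3 : X.fromSpecStalk (g z) (Spec.map (g.stalkMap z)
      (⊥ : PrimeSpectrum (Z.presheaf.stalk z))) = g ξ :=
    congrArg (fun k : Spec (Z.presheaf.stalk z) ⟶ X =>
      k (⊥ : PrimeSpectrum (Z.presheaf.stalk z))) h2
  rw [h1, ← fromSpecStalk_bot (g z)] at h3
  have h4 : Spec.map (g.stalkMap z) (⊥ : PrimeSpectrum (Z.presheaf.stalk z)) =
      (⊥ : PrimeSpectrum (X.presheaf.stalk (g z))) :=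
    (X.fromSpecStalk (g z)).isEmbedding.injective h3
  have h5 : (⊥ : Ideal (Z.presheaf.stalk z)).comap (g.stalkMap z).hom = ⊥ :=
    congrArg PrimeSpectrum.asIdeal h4
  rw [RingHom.injective_iff_ker_eq_bot, RingHom.ker_eq_comap_bot]
  exact h5

end Groth.Agent.Lib.NormUniv96
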