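import Mathlib
import Groth.Agent.Lib.NormUnivRing96
import Groth.Agent.Lib.NormUnivSchA96
import Groth.Agent.Lib.NormBranchesS96
import Groth.Agent.Lib.NormBranchesF96

/-!
# helper96: universal property of the normalization of an integral scheme
(maps from normal schemes whose generic points dominate)
-/

set_option autoImplicit false
set_option linter.style.haveILetI false
set_option linter.unusedSectionVars false
universe u

namespace Groth.Agent.Lib.NormUniv96

open AlgebraicGeometry CategoryTheory Opposite Groth.Agent.Lib.NormBranches96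

variable (X : Scheme.{u}) [IsIntegral X]
  [QuasiCompact (X.fromSpecStalk (genericPoint X))]
  [QuasiSeparated (X.fromSpecStalk (genericPoint X))]

section Local

variable {Z : Scheme.{u}} (g : Z ⟶ X) (hg : NormalDom g)
  (U : X.Opens) (hU : IsAffineOpen U) [Nonempty U]
  (W : Z.Opens) (hW : IsAffineOpen W) (hWU : W ≤ g ⁻¹ᵁ U)

include hg hU hW hWU in
theorem existsUnique_chart_lift :
    ∃! ψ : (X.fromSpecStalk (genericPoint X)).normalizationDiagram.obj (op U) →+* Γ(Z, W),
      ψ.comp ((X.fromSpecStalk (genericPoint X)).normalizationDiagramMap.app (op U)).hom =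
        (g.appLE U W hWU).hom := by
  letI algBR : Algebra Γ(X, U) Γ(Spec (X.presheaf.stalk (genericPoint X)),
      (X.fromSpecStalk (genericPoint X)) ⁻¹ᵁ U) :=
    ((X.fromSpecStalk (genericPoint X)).app U).hom.toAlgebra
  haveI := isFractionRing_chart X U hU
  refine existsUnique_extension (K := Γ(Spec (X.presheaf.stalk (genericPoint X)),
      (X.fromSpecStalk (genericPoint X)) ⁻¹ᵁ U)) (g.appLE U W hWU).hom ?_
  intro q hq
  let P : Spec Γ(Z, W) := ⟨q, hq⟩
  let z : Z := hW.fromSpec P
  have hzW : z ∈ W := by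
    have h0 : z ∈ Set.range hW.fromSpec := Set.mem_range_self P
    rw [hW.range_fromSpec] at h0
    exact h0
  have hP : hW.primeIdealOf ⟨z, hzW⟩ = P := by
    apply hW.fromSpec.isOpenEmbedding.injective
    rw [hW.fromSpec_primeIdealOf]
  letI algCD : Algebra Γ(Z, W) (Z.presheaf.stalk z) := Z.presheaf.algebra_section_stalk ⟨z, hzW⟩
  have h1 : IsLocalization.AtPrime (Z.presheaf.stalk z) (hW.primeIdealOf ⟨z, hzW⟩).asIdeal :=
    hW.isLocalization_stalk ⟨z, hzW⟩
  rw [hP] at h1
  have h2 : IsLocalization.AtPrime (Z.presheaf.stalk z) q := h1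
  refine ⟨Z.presheaf.stalk z, inferInstance, (hg.normal z).1, (hg.normal z).2, algCD, h2, ?_⟩
  have hgzU : g z ∈ U := hWU hzW
  have hcomm : ∀ b : Γ(X, U), algebraMap Γ(Z, W) (Z.presheaf.stalk z) ((g.appLE U W hWU).hom b) =
      (g.stalkMap z).hom ((X.presheaf.germ U (g z) hgzU).hom b) := by
    intro b
    have e1 := Scheme.Hom.germ_stalkMap_apply g U z hgzU b
    have e2 : (g.appLE U W hWU).hom b =
        (Z.presheaf.map (homOfLE hWU).op).hom ((g.app U).hom b) := rfl
    rw [e2]
    show (Z.presheaf.germ W z hzW).hom _ = _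
    have e3 := Z.presheaf.germ_res_apply (homOfLE hWU) z hzW ((g.app U).hom b)
    exact e3.trans e1.symm
  intro b₁ b₂ hb
  simp only [RingHom.comp_apply] at hb
  rw [hcomm, hcomm] at hb
  exact germ_injective_of_isIntegral X (g z) hgzU (hg.inj z hb)

include hg hU hW hWU in
/-- The local lift over an affine open `W ≤ g⁻¹ U`. -/
theorem exists_local_lift :
    ∃ h : W.toScheme ⟶ (X.fromSpecStalk (genericPoint X)).normalization,
      h ≫ (X.fromSpecStalk (genericPoint X)).fromNormalization = W.ι ≫ g := by
  obtain ⟨ψ, hψ, -⟩ := existsUnique_chart_lift X g hg U hU W hW hWU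
  refine ⟨hW.isoSpec.hom ≫ Spec.map (CommRingCat.ofHom ψ) ≫
    chart (X.fromSpecStalk (genericPoint X)) U hU, ?_⟩
  have h1 : (X.fromSpecStalk (genericPoint X)).normalizationDiagramMap.app (op U) ≫
      CommRingCat.ofHom ψ = g.appLE U W hWU := CommRingCat.hom_ext hψ
  have h2 : Spec.map (CommRingCat.ofHom ψ) ≫
      Spec.map ((X.fromSpecStalk (genericPoint X)).normalizationDiagramMap.app (op U)) =
      Spec.map (g.appLE U W hWU) := by
    rw [← Spec.map_comp]
    exact congrArg Spec.map h1
  calc (hW.isoSpec.hom ≫ Spec.map (CommRingCat.ofHom ψ) ≫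
        chart (X.fromSpecStalk (genericPoint X)) U hU) ≫
        (X.fromSpecStalk (genericPoint X)).fromNormalization
      = hW.isoSpec.hom ≫ Spec.map (CommRingCat.ofHom ψ) ≫
        (chart (X.fromSpecStalk (genericPoint X)) U hU ≫
        (X.fromSpecStalk (genericPoint X)).fromNormalization) := by
        simp only [Category.assoc]
    _ = hW.isoSpec.hom ≫ (Spec.map (CommRingCat.ofHom ψ) ≫
        Spec.map ((X.fromSpecStalk (genericPoint X)).normalizationDiagramMap.app (op U))) ≫
        hU.fromSpec := by
        rw [chart_fromNormalization]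
        simp only [Category.assoc]
    _ = hW.isoSpec.hom ≫ hW.fromSpec ≫ g := by
        rw [h2, IsAffineOpen.SpecMap_appLE_fromSpec g hU hW hWU]
    _ = W.ι ≫ g := by
        rw [← hW.isoSpec_inv_ι, Category.assoc, Iso.hom_inv_id_assoc]

include hg hU hW hWU in
/-- Two global lifts agree on an affine open `W ≤ g⁻¹ U`. -/
theorem lift_unique_local
    (h₁ h₂ : Z ⟶ (X.fromSpecStalk (genericPoint X)).normalization)
    (e₁ : h₁ ≫ (X.fromSpecStalk (genericPoint X)).fromNormalization = g)
    (e₂ : h₂ ≫ (X.fromSpecStalk (genericPoint X)).fromNormalization = g) :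
    W.ι ≫ h₁ = W.ι ≫ h₂ := by
  have hrange : ∀ h : Z ⟶ (X.fromSpecStalk (genericPoint X)).normalization,
      h ≫ (X.fromSpecStalk (genericPoint X)).fromNormalization = g →
      Set.range (W.ι ≫ h) ⊆ Set.range (chart (X.fromSpecStalk (genericPoint X)) U hU) := by
    rintro h e _ ⟨w, rfl⟩
    apply mem_range_chart
    have h1 : (X.fromSpecStalk (genericPoint X)).fromNormalization ((W.ι ≫ h) w) =
        g (W.ι w) := by
      rw [← e]; rfl
    rw [h1]
    exact hWU w.2
  obtain ⟨ψ, -, huniq⟩ := existsUnique_chart_lift X g hg U hU W hW hWU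
  have key : ∀ h : Z ⟶ (X.fromSpecStalk (genericPoint X)).normalization,
      (e : h ≫ (X.fromSpecStalk (genericPoint X)).fromNormalization = g) →
      W.ι ≫ h = hW.isoSpec.hom ≫ Spec.map (CommRingCat.ofHom ψ) ≫
        chart (X.fromSpecStalk (genericPoint X)) U hU := by
    intro h e
    let l := IsOpenImmersion.lift (chart (X.fromSpecStalk (genericPoint X)) U hU) (W.ι ≫ h)
      (hrange h e)
    have hl : l ≫ chart (X.fromSpecStalk (genericPoint X)) U hU = W.ι ≫ h :=
      IsOpenImmersion.lift_fac _ _ _
    obtain ⟨ψ', hψ'⟩ := Spec.map_surjective (hW.isoSpec.inv ≫ l)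
    have h3 : (X.fromSpecStalk (genericPoint X)).normalizationDiagramMap.app (op U) ≫ ψ' =
        g.appLE U W hWU := by
      apply Spec.map_injective
      rw [← cancel_mono hU.fromSpec, IsAffineOpen.SpecMap_appLE_fromSpec g hU hW hWU]
      calc Spec.map ((X.fromSpecStalk (genericPoint X)).normalizationDiagramMap.app (op U) ≫ ψ') ≫
            hU.fromSpec
          = Spec.map ψ' ≫ (Spec.map
            ((X.fromSpecStalk (genericPoint X)).normalizationDiagramMap.app (op U)) ≫
            hU.fromSpec) := by rw [Spec.map_comp, Category.assoc]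
        _ = (hW.isoSpec.inv ≫ l) ≫ (chart (X.fromSpecStalk (genericPoint X)) U hU ≫
            (X.fromSpecStalk (genericPoint X)).fromNormalization) := by
            rw [hψ', chart_fromNormalization]
        _ = hW.isoSpec.inv ≫ (l ≫ chart (X.fromSpecStalk (genericPoint X)) U hU) ≫
            (X.fromSpecStalk (genericPoint X)).fromNormalization := by
            simp only [Category.assoc]
        _ = hW.fromSpec ≫ g := by
            rw [hl, Category.assoc, e, ← Category.assoc, hW.isoSpec_inv_ι]
    have h4 : ψ'.hom = ψ := huniq ψ'.hom (congrArg CommRingCat.Hom.hom h3)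
    have h5 : ψ' = CommRingCat.ofHom ψ := CommRingCat.hom_ext h4
    rw [← hl, ← h5, hψ']
    simp only [Category.assoc, Iso.hom_inv_id_assoc]
  rw [key h₁ e₁, key h₂ e₂]

end Local

end Groth.Agent.Lib.NormUniv96
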