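import Mathlib
import Groth.Agent.Lib.NormUnivSchB96

/-!
# helper96: universal property of the normalization of an integral scheme: global statement
-/

set_option autoImplicit false
set_option linter.style.haveILetI false
set_option linter.unusedSectionVars false
universe u

namespace Groth.Agent.Lib.NormUniv96

open AlgebraicGeometry CategoryTheory Opposite Limits Groth.Agent.Lib.NormBranches96

variable (X : Scheme.{u}) [IsIntegral X]
  [QuasiCompact (X.fromSpecStalk (genericPoint X))]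
  [QuasiSeparated (X.fromSpecStalk (genericPoint X))]

theorem exists_affine_pair {Z : Scheme.{u}} (g : Z ⟶ X) (z : Z) :
    ∃ (U : X.Opens) (_ : IsAffineOpen U) (W : Z.Opens) (_ : IsAffineOpen W),
      g z ∈ U ∧ z ∈ W ∧ W ≤ g ⁻¹ᵁ U := by
  obtain ⟨_, ⟨U, hU, rfl⟩, hzU, -⟩ :=
    X.isBasis_affineOpens.exists_subset_of_mem_open (Set.mem_univ (g z)) isOpen_univ
  obtain ⟨_, ⟨W, hW, rfl⟩, hzW, hWU⟩ :=
    Z.isBasis_affineOpens.exists_subset_of_mem_open (show z ∈ ((g ⁻¹ᵁ U : Z.Opens) : Set Z) from hzU)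
      (g ⁻¹ᵁ U).isOpen
  exact ⟨U, hU, W, hW, hzU, hzW, hWU⟩

theorem lift_unique {Z : Scheme.{u}} (g : Z ⟶ X) (hg : NormalDom g)
    (h₁ h₂ : Z ⟶ (X.fromSpecStalk (genericPoint X)).normalization)
    (e₁ : h₁ ≫ (X.fromSpecStalk (genericPoint X)).fromNormalization = g)
    (e₂ : h₂ ≫ (X.fromSpecStalk (genericPoint X)).fromNormalization = g) : h₁ = h₂ := by
  apply Scheme.hom_ext_of_forall
  intro z
  obtain ⟨U, hU, W, hW, hzU, hzW, hWU⟩ := exists_affine_pair X g z
  haveI : Nonempty U := ⟨⟨_, hzU⟩⟩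
  exact ⟨W, hzW, lift_unique_local X g hg U hU W hW hWU h₁ h₂ e₁ e₂⟩

theorem exists_lift {Z : Scheme.{u}} (g : Z ⟶ X) (hg : NormalDom g) :
    ∃ h : Z ⟶ (X.fromSpecStalk (genericPoint X)).normalization,
      h ≫ (X.fromSpecStalk (genericPoint X)).fromNormalization = g := by
  have hloc : ∀ z : Z, ∃ W : Z.Opens, z ∈ W ∧
      ∃ h : W.toScheme ⟶ (X.fromSpecStalk (genericPoint X)).normalization,
        h ≫ (X.fromSpecStalk (genericPoint X)).fromNormalization = W.ι ≫ g := by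
    intro z
    obtain ⟨U, hU, W, hW, hzU, hzW, hWU⟩ := exists_affine_pair X g z
    haveI : Nonempty U := ⟨⟨_, hzU⟩⟩
    exact ⟨W, hzW, exists_local_lift X g hg U hU W hW hWU⟩
  choose W hzW hl hl' using hloc
  let 𝒰 : Z.OpenCover :=
    { I₀ := Z, X := fun i => (W i), f := fun i => (W i).ι,
      mem₀ := by
        rw [Scheme.presieve₀_mem_precoverage_iff]
        refine ⟨fun x ↦ ⟨x, by simpa using hzW x⟩, inferInstance⟩ }
  have hcompat : ∀ x y : Z, pullback.fst (𝒰.f x) (𝒰.f y) ≫ hl x =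
      pullback.snd (𝒰.f x) (𝒰.f y) ≫ hl y := by
    intro x y
    haveI : IsOpenImmersion (𝒰.f x) := inferInstanceAs (IsOpenImmersion (W x).ι)
    haveI : IsOpenImmersion (𝒰.f y) := inferInstanceAs (IsOpenImmersion (W y).ι)
    refine lift_unique X (pullback.fst (𝒰.f x) (𝒰.f y) ≫ (W x).ι ≫ g)
      (by
        have := hg.comp_openImmersion (pullback.fst (𝒰.f x) (𝒰.f y) ≫ (W x).ι)
        rwa [Category.assoc] at this) _ _ ?_ ?_
    · rw [Category.assoc, hl' x]
    · rw [Category.assoc, hl' y]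
      have hc : pullback.fst (𝒰.f x) (𝒰.f y) ≫ (W x).ι = pullback.snd (𝒰.f x) (𝒰.f y) ≫ (W y).ι :=
        pullback.condition
      rw [← Category.assoc, ← hc, Category.assoc]
  refine ⟨𝒰.glueMorphisms hl hcompat, ?_⟩
  apply 𝒰.hom_ext
  intro z
  rw [← Category.assoc, Scheme.Cover.ι_glueMorphisms]
  exact hl' z

theorem existsUnique_lift {Z : Scheme.{u}} (g : Z ⟶ X) (hg : NormalDom g) :
    ∃! h : Z ⟶ (X.fromSpecStalk (genericPoint X)).normalization,
      h ≫ (X.fromSpecStalk (genericPoint X)).fromNormalization = g := by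
  obtain ⟨h, hh⟩ := exists_lift X g hg
  exact ⟨h, hh, fun h' hh' => lift_unique X g hg h' h hh' hh⟩

end Groth.Agent.Lib.NormUniv96
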