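import Groth.Agent.Lib.NormRestrictH3
import Groth.Agent.Lib.H78AmpleOps

/-!
# helper3: descent of ampleness along a finite surjective morphism with a *weak* norm
(namespace `Groth.Agent.Lib.NormWeakH3`)

`WNormData π` is as `NormGlueH3.NormData π`, but with the weaker compatibility "if `N s` is invertible at `x`,
then `s` is invertible at *some* point over `x`" (this is what holds for the generic norm over a normal base when
`X'` has components which do not dominate `X`).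

* `isAmple_of_wnorm`: the analogue of `NormAmpleH3.isAmple_of_norm`.
* `restrict N U : WNormData (π ∣_ U)`.
* `isAmple_restrict_of_wnorm_pow`: relative form, for transition functions with `A.trans ^ D = N (A'.trans) ^ c i`.
-/

set_option autoImplicit false
set_option linter.style.haveILetI false
universe u
open CategoryTheory CategoryTheory.Limits AlgebraicGeometry Opposite TopologicalSpace
open Groth.Agent.Lib.H90Invertible Groth.Agent.Lib.StructureModule Groth.Agent.Lib.H78TensorGen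
open Groth.Agent.Lib.H78SecCoord Groth.Agent.Lib.H78Atlas Groth.Agent.Lib.NormChartH3
open Groth.Agent.Lib.NormGlueH3 Groth.Agent.Lib.NormRestrictH3 Groth.Agent.Lib.H78GenOn

namespace Groth.Agent.Lib.NormWeakH3

variable {X' X : Scheme.{u}}

/-- a system of weak norm maps for `π : X' ⟶ X` -/
structure WNormData (π : X' ⟶ X) where
  /-- the norm maps -/
  norm : ∀ U : X.Opens, Γ(X', π ⁻¹ᵁ U) →* Γ(X, U)
  norm_res : ∀ {U V : X.Opens} (h : V ≤ U) (s : Γ(X', π ⁻¹ᵁ U)),
    rfD h (norm U s) = norm V (rfU π h s)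
  norm_le : ∀ (U : X.Opens) (s : Γ(X', π ⁻¹ᵁ U)) (x : X), x ∈ X.basicOpen (norm U s) →
    ∃ x' : X', π x' = x ∧ x' ∈ X'.basicOpen s

theorem isAmple_of_wnorm (π : X' ⟶ X) [IsFinite π] [Surjective π] (N : WNormData π)
    {L' : X'.Modules} (hL' : CohB1.IsAmple L') {L : X.Modules} (hL : PicF.IsInvertible L)
    {ι : Type*} (V : ι → X.Opens) (hVaff : ∀ i, IsAffineOpen (V i)) (hV : ⨆ i, V i = ⊤)
    (A' : Atlas L' (fun i => π ⁻¹ᵁ V i)) (A : Atlas L V) (c : ι → ℕ) (hc1 : ∀ i, 1 ≤ c i)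
    (hc : ∀ i j, c i = c j ∨ V i ⊓ V j = ⊥)
    (hT : ∀ i j, A.trans i j = N.norm (V i ⊓ V j) (A'.trans i j) ^ c i) :
    CohB1.IsAmple L := by
  haveI : CompactSpace X' := hL'.2.1
  haveI : CompactSpace X := by
    constructor
    have h1 : IsCompact (Set.range π.base) := isCompact_range π.continuous
    rwa [Set.range_eq_univ.2 π.surjective] at h1
  have hV' : ⨆ i, π ⁻¹ᵁ V i = ⊤ := by
    refine top_le_iff.1 (fun x _ => ?_)
    have hx : π x ∈ ⨆ i, V i := by rw [hV]; trivial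
    obtain ⟨i, hi⟩ := Opens.mem_iSup.1 hx
    exact Opens.mem_iSup.2 ⟨i, hi⟩
  refine ⟨hL, inferInstance, fun x₀ => ?_⟩
  have hx₀ : x₀ ∈ ⨆ i, V i := by rw [hV]; trivial
  obtain ⟨i₀, hi₀⟩ := Opens.mem_iSup.1 hx₀
  -- a section of a power of `L'` non-vanishing on the fibre, with `X'_{s'} ⊆ π⁻¹(V i₀)`
  obtain ⟨m, s', hZs', hs'U, -⟩ := Groth.Agent.Lib.H78SecAdd.exists_sec_finite hL' (π ⁻¹' {x₀})
    (π.finite_preimage_singleton x₀) (π ⁻¹ᵁ V i₀) (by
      intro z hz
      change π z ∈ V i₀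
      rw [Set.mem_preimage, Set.mem_singleton_iff] at hz
      rw [hz]; exact hi₀)
  set σ' := sec s' with hσ'
  -- coordinates of `s'`
  set b : ∀ i, Γ(X', π ⁻¹ᵁ V i) := fun i => (A'.pow (m + 1)).co σ' i with hb
  have hbcompat : ∀ i j, rf (inf_le_left : π ⁻¹ᵁ V i ⊓ π ⁻¹ᵁ V j ≤ π ⁻¹ᵁ V i) (b i) =
      rf (inf_le_right : π ⁻¹ᵁ V i ⊓ π ⁻¹ᵁ V j ≤ π ⁻¹ᵁ V j) (b j) * (A'.trans i j) ^ (m + 1) := by
    intro i j
    have := (A'.pow (m + 1)).co_compat σ' i j
    rwa [Atlas.pow_trans] at this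
  have hbD : ∀ i, X'.basicOpen (b i) = CohB1.genLocus _ s' ⊓ π ⁻¹ᵁ V i := by
    intro i
    have := (A'.pow (m + 1)).genLocus_inf σ' i
    rw [hσ', ofSection_sec] at this
    exact this.symm
  -- the norms of the coordinates
  set a : ∀ i, Γ(X, V i) := fun i => N.norm (V i) (b i) ^ c i with ha
  have hacompat : ∀ i j, rf (inf_le_left : V i ⊓ V j ≤ V i) (a i) =
      rf (inf_le_right : V i ⊓ V j ≤ V j) (a j) * (A.pow (m + 1)).trans i j := by
    intro i j
    rcases hc i j with hcij | hbot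
    · rw [Atlas.pow_trans, hT i j]
      have h1 : rf (inf_le_left : V i ⊓ V j ≤ V i) (a i) =
          N.norm (V i ⊓ V j) (rfU π (inf_le_left : V i ⊓ V j ≤ V i) (b i)) ^ c i := by
        change rfD _ (N.norm (V i) (b i) ^ c i) = _
        rw [map_pow, N.norm_res]
      have h2 : rf (inf_le_right : V i ⊓ V j ≤ V j) (a j) =
          N.norm (V i ⊓ V j) (rfU π (inf_le_right : V i ⊓ V j ≤ V j) (b j)) ^ c i := by
        change rfD _ (N.norm (V j) (b j) ^ c j) = _
        rw [map_pow, N.norm_res, hcij]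
      have h3 : rfU π (inf_le_left : V i ⊓ V j ≤ V i) (b i) =
          rfU π (inf_le_right : V i ⊓ V j ≤ V j) (b j) *
            (show Γ(X', π ⁻¹ᵁ (V i ⊓ V j)) from A'.trans i j) ^ (m + 1) := hbcompat i j
      rw [h1, h2, h3, map_mul, map_pow, mul_pow, ← pow_mul, ← pow_mul, mul_comm (m + 1) (c i)]
    · haveI : Subsingleton Γ(X, V i ⊓ V j) := by
        rw [hbot]
        exact CommRingCat.subsingleton_of_isTerminal X.sheaf.isTerminalOfEmpty
      exact Subsingleton.elim _ _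
  obtain ⟨σ, hσ⟩ := (A.pow (m + 1)).exists_sec hV a hacompat
  have hD : ∀ i, CohB1.genLocus _ (ofSection σ) ⊓ V i = X.basicOpen (N.norm (V i) (b i)) := by
    intro i
    rw [(A.pow (m + 1)).genLocus_inf σ i, hσ i]
    exact X.basicOpen_pow _ (hc1 i)
  -- `X_s ⊆ V i₀`
  have hle : CohB1.genLocus _ (ofSection σ) ≤ V i₀ := by
    intro y hy
    have hy' : y ∈ ⨆ i, V i := by rw [hV]; trivial
    obtain ⟨i, hi⟩ := Opens.mem_iSup.1 hy'
    have h1 : y ∈ X.basicOpen (N.norm (V i) (b i)) := by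
      rw [← hD i]; exact ⟨hy, hi⟩
    obtain ⟨y', rfl, h2⟩ := N.norm_le (V i) (b i) y h1
    rw [hbD i] at h2
    exact hs'U h2.1
  -- `x₀ ∈ X_s`
  have hx₀s : x₀ ∈ CohB1.genLocus _ (ofSection σ) := by
    have hK : IsClosed (π.base '' ((X'.basicOpen (b i₀) : Set X')ᶜ)) :=
      π.isClosedMap _ (X'.basicOpen (b i₀)).isOpen.isClosed_compl
    let W : X.Opens := V i₀ ⊓ ⟨_, hK.isOpen_compl⟩
    have hx₀W : x₀ ∈ W := by
      refine ⟨hi₀, ?_⟩
      rintro ⟨k, hk, hkx⟩
      apply hk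
      rw [SetLike.mem_coe, hbD i₀]
      refine ⟨hZs' ?_, ?_⟩
      · rw [Set.mem_preimage, Set.mem_singleton_iff]; exact hkx
      · change π k ∈ V i₀
        rw [show π k = x₀ from hkx]; exact hi₀
    have hWV : W ≤ V i₀ := inf_le_left
    have hpre : π ⁻¹ᵁ W ≤ X'.basicOpen (b i₀) := by
      intro w hw
      by_contra hcon
      exact hw.2 ⟨w, hcon, rfl⟩
    have hunit : IsUnit (rfU π hWV (b i₀)) := by
      apply Groth.Agent.Lib.NormAmpleH3.isUnit_of_basicOpen_eq
      change X'.basicOpen (X'.presheaf.map (homOfLE (π.preimage_mono hWV)).op (b i₀)) = _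
      rw [Scheme.basicOpen_res]
      exact inf_eq_left.2 hpre
    have hunit2 : IsUnit (rfD hWV (N.norm (V i₀) (b i₀))) := by
      rw [N.norm_res]
      exact hunit.map _
    have h3 := X.basicOpen_of_isUnit hunit2
    change X.basicOpen (X.presheaf.map (homOfLE hWV).op (N.norm (V i₀) (b i₀))) = W at h3
    rw [Scheme.basicOpen_res] at h3
    have h4 : x₀ ∈ W ⊓ X.basicOpen (N.norm (V i₀) (b i₀)) := by rw [h3]; exact hx₀W
    rw [← hD i₀] at h4
    exact h4.2.1
  refine ⟨m, ofSection σ, hx₀s, ?_⟩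
  have := hD i₀
  rw [inf_eq_left.2 hle] at this
  rw [this]
  exact (hVaff i₀).basicOpen _

section Restrict

variable (π : X' ⟶ X)

/-- restriction of a system of weak norm maps to an open of the target -/
noncomputable def restrict (N : WNormData π) (U : X.Opens) : WNormData (π ∣_ U) where
  norm T := (N.norm (U.ι ''ᵁ T)).comp (tr π U T).toMonoidHom
  norm_res := by
    intro T T₂ h s
    change rfD (U.ι.image_mono h) (N.norm (U.ι ''ᵁ T) (tr π U T s)) =
      N.norm (U.ι ''ᵁ T₂) (tr π U T₂ (rfU (π ∣_ U) h s))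
    rw [N.norm_res, tr_res]
  norm_le := by
    intro T s x hx
    change x ∈ (U : Scheme.{u}).basicOpen
      (show Γ((U : Scheme.{u}), T) from N.norm (U.ι ''ᵁ T) (tr π U T s)) at hx
    rw [mem_basicOpen_iff] at hx
    obtain ⟨x', hx', hx's⟩ := N.norm_le _ _ _ hx
    have hx'U : x' ∈ π ⁻¹ᵁ U := by
      change π x' ∈ U
      rw [hx']
      exact x.2
    let x'' : (π ⁻¹ᵁ U : Scheme.{u}) := ⟨x', hx'U⟩
    have h1 : U.ι ((π ∣_ U) x'') = π ((π ⁻¹ᵁ U).ι x'') := by
      have := morphismRestrict_ι π U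
      exact congrArg (fun φ : (π ⁻¹ᵁ U : Scheme.{u}) ⟶ X => φ x'') this
    refine ⟨x'', ?_, ?_⟩
    · apply U.ι.isOpenEmbedding.injective
      rw [h1]
      exact hx'
    · have h3 : X'.basicOpen (tr π U T s) =
          X'.basicOpen (show Γ(X', (π ⁻¹ᵁ U).ι ''ᵁ ((π ∣_ U) ⁻¹ᵁ T)) from s) :=
        Scheme.basicOpen_res_eq X' _ _
      rw [h3] at hx's
      exact (mem_basicOpen_iff (π ⁻¹ᵁ U) ((π ∣_ U) ⁻¹ᵁ T) s x'').2 hx's

/-- **relative descent of ampleness along a finite surjective morphism with weak norms** -/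
theorem isAmple_restrict_of_wnorm_pow [IsFinite π] [Surjective π] (N : WNormData π)
    {L' : X'.Modules} {L : X.Modules} (hL : PicF.IsInvertible L)
    {ι : Type*} (V : ι → X.Opens) (hV : ⨆ i, V i = ⊤)
    (A' : Atlas L' (fun i => π ⁻¹ᵁ V i)) (A : Atlas L V)
    (D : ℕ) (hD : 0 < D) (c : ι → ℕ) (hc1 : ∀ i, 1 ≤ c i) (hc : ∀ i j, c i = c j ∨ V i ⊓ V j = ⊥)
    (hT : ∀ i j, A.trans i j ^ D = N.norm (V i ⊓ V j) (A'.trans i j) ^ c i)
    (U : X.Opens) (hL'U : CohB1.IsAmple (L'.restrict (π ⁻¹ᵁ U).ι)) :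
    CohB1.IsAmple (L.restrict U.ι) := by
  haveI : Surjective (π ∣_ U) :=
    MorphismProperty.of_isPullback (P := @Surjective)
      (isPullback_morphismRestrict π U).flip inferInstance
  haveI : CompactSpace ↥(π ⁻¹ᵁ U : Scheme.{u}) := hL'U.2.1
  haveI : CompactSpace ↥(U : Scheme.{u}) := by
    constructor
    have h1 : IsCompact (Set.range (π ∣_ U).base) := isCompact_range (π ∣_ U).continuous
    rwa [Set.range_eq_univ.2 (π ∣_ U).surjective] at h1
  obtain ⟨κ, f, T, hTaff, hTle, hcover⟩ := exists_affine_refinement V hV U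
  have hT'le : ∀ k, (π ⁻¹ᵁ U).ι ''ᵁ ((π ∣_ U) ⁻¹ᵁ T k) ≤ π ⁻¹ᵁ V (f k) := by
    intro k
    rw [image_morphismRestrict_preimage]
    exact π.preimage_mono (hTle k)
  have hLU : PicF.IsInvertible (L.restrict U.ι) := isInvertible_restrict U.ι hL
  have key : CohB1.IsAmple (CohB1.tensorPow (L.restrict U.ι) D) := by
    refine isAmple_of_wnorm (π ∣_ U) (restrict π N U) hL'U
      (isInvertible_tensorPow hLU D) T hTaff hcover
      (restrictAtlas A' (π ⁻¹ᵁ U) f (fun k => (π ∣_ U) ⁻¹ᵁ T k) hT'le)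
      ((restrictAtlas A U f T hTle).pow D) (fun k => c (f k)) (fun k => hc1 (f k))
      (fun k l => ?_) (fun k l => ?_)
    · rcases hc (f k) (f l) with h | h
      · exact Or.inl h
      · right
        have h1 := image_inf_le U f T hTle k l
        rw [h] at h1
        refine le_bot_iff.1 (fun z hz => ?_)
        exact h1 ⟨z, hz, rfl⟩
    · rw [Atlas.pow_trans, restrictAtlas_trans A U f T hTle k l,
        restrictAtlas_trans A' (π ⁻¹ᵁ U) f (fun k => (π ∣_ U) ⁻¹ᵁ T k) hT'le k l]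
      have key := tr_toF_rf π U (T k ⊓ T l)
        (W := π ⁻¹ᵁ V (f k) ⊓ π ⁻¹ᵁ V (f l))
        (image_inf_le (V := fun i => π ⁻¹ᵁ V i) (π ⁻¹ᵁ U) f (fun k => (π ∣_ U) ⁻¹ᵁ T k) hT'le k l)
        (π.preimage_mono (image_inf_le U f T hTle k l)) (A'.trans (f k) (f l))
      have h2 := N.norm_res (image_inf_le U f T hTle k l) (A'.trans (f k) (f l))
      have h3 := congrArg (rfD (image_inf_le U f T hTle k l)) (hT (f k) (f l))
      rw [map_pow, map_pow, h2] at h3
      change (rfD (image_inf_le U f T hTle k l) (A.trans (f k) (f l))) ^ D = _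
      rw [h3]
      exact congrArg (fun z => z ^ c (f k)) (congrArg (N.norm (U.ι ''ᵁ (T k ⊓ T l))) key.symm)
  exact (Groth.Agent.Lib.H78AmpleOps.isAmple_tensorPow_iff hLU hD).2 key

end Restrict

end Groth.Agent.Lib.NormWeakH3
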