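import Groth.Agent.Lib.Refl53c
import Groth.Agent.Lib.HartogsO
import Groth.Agent.Lib.ZClos5O

/-!
# helper53: reflexive = torsion-free + normal (sections extend across codimension 2) on normal schemes
(namespace `Groth.Agent.Lib.Normal53`)

* `IsNormalMod F`: restriction `F(U) → F(V)` is bijective whenever `U ∖ V` consists of points of codimension `≥ 2`.
* `isNormalMod_of_reflexive`: coherent with reflexive stalks ⟹ normal (Hartogs), `X` normal locally Noetherian.
* `isReflexive_of_torsionFree_of_isNormalMod`: the converse.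
-/

set_option autoImplicit false
set_option maxHeartbeats 400000
set_option linter.unusedSectionVars false
set_option linter.style.haveILetI false
universe u

open CategoryTheory CategoryTheory.Limits AlgebraicGeometry Opposite TopologicalSpace
open Groth.Agent.Lib.ModStalkLin Groth.Agent.Lib.RestrictStalk Groth.Agent.Lib.QCohStalk

namespace Groth.Agent.Lib.Normal53

variable {X : Scheme.{u}}

/-- sections extend uniquely across closed subsets of codimension `≥ 2` -/
def IsNormalMod (F : X.Modules) : Prop :=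
  ∀ (U V : X.Opens) (hVU : V ≤ U),
    (∀ x : X, x ∈ U → x ∉ V → (2 : WithBot ℕ∞) ≤ ringKrullDim (X.presheaf.stalk x)) →
      Function.Bijective (F.presheaf.map (homOfLE hVU).op)

theorem res_bijective_congr (F : X.Modules) {A B U V : X.Opens} (hBA : B ≤ A) (hVU : V ≤ U)
    (hA : A = U) (hB : B = V) (h : Function.Bijective (F.presheaf.map (homOfLE hBA).op)) :
    Function.Bijective (F.presheaf.map (homOfLE hVU).op) := by
  subst hA hB
  exact h

/-- depth of the local rings of an open subscheme of a normal scheme -/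
theorem two_le_depth_stalk_opens [IsLocallyNoetherian X] (hX : Pi1.IsNormalScheme X) (U : X.Opens)
    (x : ↥(U : Scheme.{u}))
    (h : (2 : WithBot ℕ∞) ≤ ringKrullDim (X.presheaf.stalk (U.ι x))) :
    (2 : ℕ∞) ≤ LocCoh.depth ((U : Scheme.{u}).presheaf.stalk x) ((U : Scheme.{u}).presheaf.stalk x) := by
  let e := stalkRingEquiv U.ι x
  haveI := (hX (U.ι x)).1
  haveI := (hX (U.ι x)).2
  haveI : IsDomain ((U : Scheme.{u}).presheaf.stalk x) :=
    MulEquiv.isDomain (X.presheaf.stalk (U.ι x)) e.symm.toMulEquiv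
  haveI : IsIntegrallyClosed ((U : Scheme.{u}).presheaf.stalk x) := IsIntegrallyClosed.of_equiv e
  apply Groth.Agent.Lib.Refl53.two_le_depth_of_normal
  rw [← ringKrullDim_eq_of_ringEquiv e]
  exact h

theorem isNormalMod_of_reflexive [IsLocallyNoetherian X] (hX : Pi1.IsNormalScheme X)
    (F : X.Modules) (hF : Coh.IsCoh F)
    (hr : ∀ x : X, Module.IsReflexive (X.presheaf.stalk x) (F.presheaf.stalk x)) :
    IsNormalMod F := by
  intro U V hVU hdim
  have hcohU : Coh.IsCoh (F.restrict U.ι) := Groth.Agent.Lib.H90CohRestrict.isCoh_restrict U.ι F hF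
  have hdepth : ∀ x : ↥(U : Scheme.{u}), x ∉ U.ι ⁻¹ᵁ V →
      (2 : ℕ∞) ≤ LocCoh.depth ((U : Scheme.{u}).presheaf.stalk x)
        ((F.restrict U.ι).presheaf.stalk x) := by
    intro x hx
    have h1 := two_le_depth_stalk_opens hX U x (hdim (U.ι x) x.2 hx)
    haveI := Groth.Agent.Lib.CohFinite.finite_stalk_of_isCoh (F.restrict U.ι) hcohU x
    haveI : Module.IsReflexive ((U : Scheme.{u}).presheaf.stalk x)
        ((F.restrict U.ι).presheaf.stalk x) :=
      (Groth.Agent.Lib.Refl53.isReflexive_restrict_iff U.ι F x).mpr (hr (U.ι x))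
    exact (Groth.Agent.S6880.depth_of_isReflexive ((U : Scheme.{u}).presheaf.stalk x)
      ((F.restrict U.ι).presheaf.stalk x)).2 h1
  have hb := Groth.Agent.Lib.Hartogs.res_bijective_of_eq (F.restrict U.ι) hcohU (U.ι ⁻¹ᵁ V) hdepth
    (le_top : U.ι ⁻¹ᵁ V ≤ ⊤) (by simp)
  have hA : U.ι ''ᵁ (⊤ : (U : Scheme.{u}).Opens) = U := U.ι_image_top
  have hB : U.ι ''ᵁ (U.ι ⁻¹ᵁ V) = V := by
    rw [Scheme.Hom.image_preimage_eq_opensRange_inf, Scheme.Opens.opensRange_ι]
    exact inf_eq_right.mpr hVU
  exact res_bijective_congr F (U.ι.image_mono le_top) hVU hA hB hb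

end Groth.Agent.Lib.Normal53
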