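import Groth.Agent.Lib.Normal53a
import Groth.Agent.Lib.FEtFF42
import Groth.Prelude.Def_TorSh

/-!
# helper53: reflexive = torsion-free + normal, part 2
(namespace `Groth.Agent.Lib.Normal53`)

* `app_bijective_of_stalk_bijective`: a morphism which is bijective on all stalks over `V` is bijective on sections over `V`.
* `isReflexive_of_torsionFree_of_isNormalMod`.
* `isReflexive_iff_torsionFree_and_isNormalMod`.
-/

set_option autoImplicit false
set_option maxHeartbeats 400000
set_option linter.unusedSectionVars false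
set_option linter.style.haveILetI false
universe u

open CategoryTheory CategoryTheory.Limits AlgebraicGeometry Opposite TopologicalSpace
open Groth.Agent.Lib.ModStalkLin Groth.Agent.Lib.RestrictStalk Groth.Agent.Lib.QCohStalk

namespace Groth.Agent.Lib.Normal53

variable {X : Scheme.{u}}

theorem app_bijective_congr {M N : X.Modules} (φ : M ⟶ N) {A V : X.Opens} (hA : A = V)
    (h : Function.Bijective (φ.app A)) : Function.Bijective (φ.app V) := by
  subst hA
  exact h

theorem app_bijective_of_stalk_bijective {M N : X.Modules} (φ : M ⟶ N) (V : X.Opens)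
    (h : ∀ x ∈ V, Function.Bijective (stalkLin φ x)) : Function.Bijective (φ.app V) := by
  haveI : IsIso ((Scheme.Modules.restrictFunctor V.ι).map φ) := by
    rw [Groth.Agent.Lib.ModStalkIso.isIso_iff_stalk_bijective]
    intro x
    exact (stalkLin_restrict_bijective_iff V.ι x φ).mpr (h _ x.2)
  have h1 := Groth.Agent.Lib.FEtFF42.bijective_app_of_isIso
    ((Scheme.Modules.restrictFunctor V.ι).map φ) ⊤
  exact app_bijective_congr φ V.ι_image_top h1

theorem isReflexive_of_torsionFree_of_isNormalMod [IsIntegral X] [IsLocallyNoetherian X]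
    (hX : Pi1.IsNormalScheme X) (F : X.Modules) (hF : Coh.IsCoh F) (htf : TorSh.IsTorsionFree F)
    (hn : IsNormalMod F) : RefHull.IsReflexive F := by
  unfold RefHull.IsReflexive
  have hH : Coh.IsCoh (RefHull.ddual F) := Groth.Agent.Lib.HomSh53.isCoh_ddual hF
  have hHn : IsNormalMod (RefHull.ddual F) :=
    isNormalMod_of_reflexive hX _ hH (fun x => Groth.Agent.Lib.Refl53.isReflexiveAt_ddual hF x)
  have hopen := Groth.Agent.Lib.ZClos5.isOpen_setOf_stalkLin_bijective (RefHull.bidualMap F) hF hH
  let V₀ : X.Opens := ⟨_, hopen⟩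
  have hV₀ : ∀ x : X, x ∉ V₀ → (2 : WithBot ℕ∞) ≤ ringKrullDim (X.presheaf.stalk x) := by
    intro x hx
    by_contra hdim
    apply hx
    haveI := (hX x).2
    haveI := Groth.Agent.Lib.Refl53.isPrincipalIdealRing_of_normal (X.presheaf.stalk x) hdim
    haveI := htf x
    haveI := Groth.Agent.Lib.CohFinite.finite_stalk_of_isCoh F hF x
    have hfree : Module.Free (X.presheaf.stalk x) (F.presheaf.stalk x) := inferInstance
    have hrefl : Module.IsReflexive (X.presheaf.stalk x) (F.presheaf.stalk x) := inferInstance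
    exact (Groth.Agent.Lib.HomSh53.bijective_stalkLin_bidualMap_iff hF x).mpr hrefl
  rw [Scheme.Modules.Hom.isIso_iff_isIso_app]
  intro W
  rw [ConcreteCategory.isIso_iff_bijective]
  have hVW : W ⊓ V₀ ≤ W := inf_le_left
  have hcod : ∀ x : X, x ∈ W → x ∉ W ⊓ V₀ →
      (2 : WithBot ℕ∞) ≤ ringKrullDim (X.presheaf.stalk x) :=
    fun x hxW hxV => hV₀ x (fun h => hxV ⟨hxW, h⟩)
  have h1 := hn W (W ⊓ V₀) hVW hcod
  have h2 := hHn W (W ⊓ V₀) hVW hcod
  have h3 : Function.Bijective ((RefHull.bidualMap F).app (W ⊓ V₀)) :=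
    app_bijective_of_stalk_bijective _ _ (fun x hx => hx.2)
  have hnat : ∀ s : Γ(F, W), (RefHull.bidualMap F).app (W ⊓ V₀) (F.presheaf.map (homOfLE hVW).op s) =
      (RefHull.ddual F).presheaf.map (homOfLE hVW).op ((RefHull.bidualMap F).app W s) :=
    fun s => NatTrans.naturality_apply (RefHull.bidualMap F).mapPresheaf (homOfLE hVW).op s
  constructor
  · intro s t hst
    apply h1.1
    apply h3.1
    rw [hnat, hnat, hst]
  · intro t
    obtain ⟨s', hs'⟩ := h3.2 ((RefHull.ddual F).presheaf.map (homOfLE hVW).op t)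
    obtain ⟨s, rfl⟩ := h1.2 s'
    refine ⟨s, ?_⟩
    apply h2.1
    rw [← hnat, hs']

theorem isReflexive_iff_torsionFree_and_isNormalMod [IsIntegral X] [IsLocallyNoetherian X]
    (hX : Pi1.IsNormalScheme X) (F : X.Modules) (hF : Coh.IsCoh F) :
    RefHull.IsReflexive F ↔ TorSh.IsTorsionFree F ∧ IsNormalMod F := by
  constructor
  · intro h
    have hr := (Groth.Agent.Lib.HomSh53.isReflexive_iff_forall_isReflexiveAt hF).mp h
    refine ⟨fun x => ?_, isNormalMod_of_reflexive hX F hF hr⟩
    haveI : Module.IsReflexive (X.presheaf.stalk x) (F.presheaf.stalk x) := hr x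
    infer_instance
  · rintro ⟨htf, hn⟩
    exact isReflexive_of_torsionFree_of_isNormalMod hX F hF htf hn

end Groth.Agent.Lib.Normal53
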