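import Groth.Agent.Lib.RefSec53a
import Mathlib.AlgebraicGeometry.Stalk

/-!
# helper53: specialization maps of stalks of quasi-coherent modules (part 2)
(namespace `Groth.Agent.Lib.RefSec53`)
-/

set_option autoImplicit false
set_option maxHeartbeats 400000
set_option linter.unusedSectionVars false
set_option linter.style.haveILetI false
universe u

open CategoryTheory CategoryTheory.Limits AlgebraicGeometry Opposite TopologicalSpace
open Groth.Agent.Lib.QCohStalk Groth.Agent.Lib.GenericFree

namespace Groth.Agent.Lib.RefSec53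

variable {X : Scheme.{u}}

theorem germ_stalkSpecializes' (F : X.Modules) {x y : X} (h : x ⤳ y) {U : X.Opens} (hyU : y ∈ U)
    (s : Γ(F, U)) :
    F.presheaf.stalkSpecializes h (F.presheaf.germ U y hyU s) =
      F.presheaf.germ U x (h.mem_open U.isOpen hyU) s :=
  ConcreteCategory.congr_hom (F.presheaf.germ_stalkSpecializes (U := U) hyU h) s

theorem germO_stalkSpecializes' {x y : X} (h : x ⤳ y) {U : X.Opens} (hyU : y ∈ U)
    (s : Γ(X, U)) :
    X.presheaf.stalkSpecializes h (X.presheaf.germ U y hyU s) =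
      X.presheaf.germ U x (h.mem_open U.isOpen hyU) s :=
  ConcreteCategory.congr_hom (X.presheaf.germ_stalkSpecializes (U := U) hyU h) s

/-- the kernel of `F_y → F_x` is killed by elements of `O_y` invertible at `x`. -/
theorem exists_smul_eq_zero_of_stalkSpecializes_eq_zero (F : X.Modules) [F.IsQuasicoherent]
    {x y : X} (h : x ⤳ y) (n : F.presheaf.stalk y) (hn : F.presheaf.stalkSpecializes h n = 0) :
    ∃ v : X.presheaf.stalk y, IsUnit (X.presheaf.stalkSpecializes h v) ∧ v • n = 0 := by
  obtain ⟨U, hU, hyU, -⟩ :=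
    Opens.isBasis_iff_nbhd.mp X.isBasis_affineOpens (show y ∈ (⊤ : X.Opens) from trivial)
  have hxU : x ∈ U := h.mem_open U.isOpen hyU
  obtain ⟨g, τ, hgu, hgτ⟩ := exists_germ_smul_eq_germ F hU y hyU n
  have h1 := congrArg (F.presheaf.stalkSpecializes h) hgτ
  rw [stalkSpecializes_smul, hn, smul_zero, germ_stalkSpecializes'] at h1
  obtain ⟨v, hvu, hvτ⟩ := exists_smul_eq_zero_of_germ_eq_zero F hU x hxU τ h1.symm
  refine ⟨X.presheaf.germ U y hyU v, ?_, ?_⟩
  · rw [germO_stalkSpecializes']
    exact hvu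
  · have h2 : X.presheaf.germ U y hyU g • (X.presheaf.germ U y hyU v • n) = 0 := by
      rw [smul_comm, hgτ, ← germ_smul, hvτ, map_zero]
    exact (hgu.smul_eq_zero).mp h2

theorem stalkSpecializes_eq_zero_iff_of_torsionFree [IsIntegral X] (F : X.Modules)
    [F.IsQuasicoherent] {x y : X} (h : x ⤳ y)
    [Module.IsTorsionFree (X.presheaf.stalk y) (F.presheaf.stalk y)] (n : F.presheaf.stalk y) :
    F.presheaf.stalkSpecializes h n = 0 ↔ n = 0 := by
  constructor
  · intro hn
    obtain ⟨v, hvu, hvn⟩ := exists_smul_eq_zero_of_stalkSpecializes_eq_zero F h n hn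
    have hv0 : v ≠ 0 := by
      rintro rfl
      rw [map_zero] at hvu
      exact not_isUnit_zero hvu
    exact (smul_eq_zero.mp hvn).resolve_left hv0
  · rintro rfl
    exact map_zero _

/-- if `a ↦ a • m_x` is surjective onto `F_x`, then `u • n = a • m` in `F_z` with `u` invertible at `x`. -/
theorem exists_smul_eq_smul_of_surjective [IsIntegral X] (F : X.Modules) [F.IsQuasicoherent]
    {x z : X} (h : x ⤳ z) [Module.IsTorsionFree (X.presheaf.stalk z) (F.presheaf.stalk z)]
    (m n : F.presheaf.stalk z)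
    (hsurj : Function.Surjective
      (fun a : X.presheaf.stalk x => a • F.presheaf.stalkSpecializes h m)) :
    ∃ u a : X.presheaf.stalk z, IsUnit (X.presheaf.stalkSpecializes h u) ∧ u • n = a • m := by
  obtain ⟨b, hb⟩ := hsurj (F.presheaf.stalkSpecializes h n)
  obtain ⟨a, u, hu, hbu⟩ := Groth.Agent.Lib.PurityBir82.exists_mul_stalkSpecializes_eq X h b
  refine ⟨u, a, hu, ?_⟩
  rw [← sub_eq_zero, ← stalkSpecializes_eq_zero_iff_of_torsionFree F h, map_sub,
    stalkSpecializes_smul, stalkSpecializes_smul, sub_eq_zero]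
  change (X.presheaf.stalkSpecializes h).hom u • _ = (X.presheaf.stalkSpecializes h).hom a • _
  rw [← hbu, ← hb, smul_smul, mul_comm]

/-- a non-maximal prime of `O_z` comes from a proper generization -/
theorem exists_generization_of_prime (z : X) (p : Ideal (X.presheaf.stalk z)) [hp : p.IsPrime]
    (hpm : p ≠ IsLocalRing.maximalIdeal (X.presheaf.stalk z)) :
    ∃ (x : X) (h : x ⤳ z), x ≠ z ∧
      ∀ u : X.presheaf.stalk z, IsUnit (X.presheaf.stalkSpecializes h u) → u ∉ p := by
  let P : ↥(Spec (X.presheaf.stalk z)) := ⟨p, hp⟩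
  have hsp : X.fromSpecStalk z P ⤳ z := by
    have : X.fromSpecStalk z P ∈ Set.range (X.fromSpecStalk z) := ⟨P, rfl⟩
    rwa [Scheme.range_fromSpecStalk] at this
  refine ⟨X.fromSpecStalk z P, hsp, ?_, ?_⟩
  · intro heq
    apply hpm
    have h1 : X.fromSpecStalk z P =
        X.fromSpecStalk z (IsLocalRing.closedPoint (X.presheaf.stalk z)) := by
      rw [heq, Scheme.fromSpecStalk_closedPoint]
    have h2 := (X.fromSpecStalk z).isEmbedding.injective h1
    exact congrArg PrimeSpectrum.asIdeal h2
  · intro u hu hup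
    have h1 := Scheme.SpecMap_stalkSpecializes_fromSpecStalk hsp
    have h2 : X.fromSpecStalk z (Spec.map (X.presheaf.stalkSpecializes hsp)
        (IsLocalRing.closedPoint (X.presheaf.stalk (X.fromSpecStalk z P)))) =
        X.fromSpecStalk z P := by
      rw [← Scheme.Hom.comp_apply, h1, Scheme.fromSpecStalk_closedPoint]
    have h3 := (X.fromSpecStalk z).isEmbedding.injective h2
    have h4 : u ∈ (Spec.map (X.presheaf.stalkSpecializes hsp)
        (IsLocalRing.closedPoint (X.presheaf.stalk (X.fromSpecStalk z P)))).asIdeal := by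
      rw [h3]; exact hup
    have h5 : (X.presheaf.stalkSpecializes hsp).hom u ∈
        IsLocalRing.maximalIdeal (X.presheaf.stalk (X.fromSpecStalk z P)) := h4
    exact (IsLocalRing.mem_maximalIdeal _).mp h5 hu

end Groth.Agent.Lib.RefSec53
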