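import Groth.Agent.Lib.Normal53b
import Groth.Agent.Lib.RefSec53b
import Groth.Agent.Lib.IdealMod
import Groth.Agent.Lib.H78Dual

/-!
# helper53: kernels of maps from reflexive to torsion-free modules are normal
(namespace `Groth.Agent.Lib.Normal53`)
-/

set_option autoImplicit false
set_option maxHeartbeats 400000
set_option linter.unusedSectionVars false
set_option linter.style.haveILetI false
universe u

open CategoryTheory CategoryTheory.Limits AlgebraicGeometry Opposite TopologicalSpace
open Groth.Agent.Lib.ModStalkLin Groth.Agent.Lib.RestrictStalk Groth.Agent.Lib.QCohStalk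
open Groth.Agent.Lib.RefSec53

namespace Groth.Agent.Lib.Normal53

variable {X : Scheme.{u}}

theorem ringKrullDim_stalk_genericPoint [IsIntegral X] :
    ringKrullDim (X.presheaf.stalk (genericPoint X)) = 0 := by
  letI : Field (X.presheaf.stalk (genericPoint X)) := inferInstanceAs (Field X.functionField)
  exact ringKrullDim_eq_zero_of_field _

/-- a section of a torsion-free quasi-coherent module vanishing off codimension 2 vanishes -/
theorem eq_zero_of_res_eq_zero [IsIntegral X] (Q : X.Modules) [Q.IsQuasicoherent]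
    (hQ : TorSh.IsTorsionFree Q) {U V : X.Opens} (hVU : V ≤ U)
    (hdim : ∀ x : X, x ∈ U → x ∉ V → (2 : WithBot ℕ∞) ≤ ringKrullDim (X.presheaf.stalk x))
    (q : Γ(Q, U)) (hq : Q.presheaf.map (homOfLE hVU).op q = 0) : q = 0 := by
  refine Groth.Agent.Lib.H78Dual.germ_ext Q q 0 (fun x hx => ?_)
  rw [map_zero]
  have hη : genericPoint X ⤳ x := _root_.genericPoint_specializes x
  have hηU : genericPoint X ∈ U := hη.mem_open U.isOpen hx
  have hηV : genericPoint X ∈ V := by
    by_contra h
    have h2 := hdim _ hηU h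
    rw [ringKrullDim_stalk_genericPoint] at h2
    exact absurd h2 (by decide)
  haveI := hQ x
  rw [← stalkSpecializes_eq_zero_iff_of_torsionFree Q hη, germ_stalkSpecializes',
    ← germ_res Q hVU (genericPoint X) hηV q]
  change Q.presheaf.germ V (genericPoint X) hηV (Q.presheaf.map (homOfLE hVU).op q) = 0
  rw [hq, map_zero]

theorem isNormalMod_of_shortExact [IsIntegral X] [IsLocallyNoetherian X]
    (hX : Pi1.IsNormalScheme X) (S : ShortComplex X.Modules) (hS : S.ShortExact)
    (hE : Coh.IsCoh S.X₂) (hQ : Coh.IsCoh S.X₃)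
    (hEr : ∀ x : X, Module.IsReflexive (X.presheaf.stalk x) (S.X₂.presheaf.stalk x))
    (hQtf : TorSh.IsTorsionFree S.X₃) : IsNormalMod S.X₁ := by
  intro U V hVU hdim
  have hEn := isNormalMod_of_reflexive hX S.X₂ hE hEr U V hVU hdim
  haveI := hS.mono_f
  haveI := hQ.1
  obtain ⟨hinjU, hexU⟩ := Groth.Agent.Lib.IdealMod.sections_exact hS.exact U
  obtain ⟨hinjV, -⟩ := Groth.Agent.Lib.IdealMod.sections_exact hS.exact V
  have hnatf : ∀ s : Γ(S.X₁, U), S.f.app V (S.X₁.presheaf.map (homOfLE hVU).op s) =
      S.X₂.presheaf.map (homOfLE hVU).op (S.f.app U s) :=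
    fun s => NatTrans.naturality_apply S.f.mapPresheaf (homOfLE hVU).op s
  have hnatg : ∀ s : Γ(S.X₂, U), S.g.app V (S.X₂.presheaf.map (homOfLE hVU).op s) =
      S.X₃.presheaf.map (homOfLE hVU).op (S.g.app U s) :=
    fun s => NatTrans.naturality_apply S.g.mapPresheaf (homOfLE hVU).op s
  constructor
  · intro s t hst
    apply hinjU
    apply hEn.1
    have h1 := hnatf s
    have h2 := hnatf t
    rw [hst] at h1
    exact h1.symm.trans h2
  · intro t
    obtain ⟨e, he⟩ := hEn.2 (S.f.app V t)
    have hge : S.g.app U e = 0 := by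
      apply eq_zero_of_res_eq_zero S.X₃ hQtf hVU hdim
      rw [← hnatg, he]
      have : (S.f ≫ S.g).app V t = 0 := by rw [S.zero]; rfl
      exact this
    obtain ⟨s, hs⟩ := hexU e hge
    refine ⟨s, ?_⟩
    apply hinjV
    have h1 := hnatf s
    exact h1.trans ((congrArg _ hs).trans he)

end Groth.Agent.Lib.Normal53
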