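/-
helper6: valuations at height-one primes of normal Noetherian domains, and n-th power descent
along flat local homomorphisms weakly unramified in codimension one.

Main results (namespace `Groth.Agent.Lib.OrdHtOne6`):
* `HtOne p`, `isDVR_atPrime` (localization of a normal Noetherian domain at a height-one prime is
  a DVR), `ord p a : ℕ∞` (order of vanishing; no instance arguments), `ord_mul`, `ord_pow`,
  `ord_eq_top_iff`, `ord_eq_zero_iff`, `ord_pos_iff`, `min_le_ord_add`, `ord_add_eq_of_lt`,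
  `le_ord_of_mem_pow`, `exists_ord_eq_one`, `ord_prod`;
* `dvd_of_forall_ord_le` : divisibility is detected at height-one primes;
* `exists_ord_eq` : approximation — prescribe orders at finitely many height-one primes;
* `ord_algebraMap_eq` : weakly unramified extension of height-one primes preserves orders;
* `exists_eq_unit_mul_pow` (= S7125).
-/
import Mathlib
import Groth.Agent.Lib.H14SerreNormal
import Groth.Agent.Lib.NormalDimTwo6

set_option autoImplicit false
universe u

namespace Groth.Agent.Lib.OrdHtOne6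

open IsLocalRing LocCoh IsDiscreteValuationRing

section basic

variable {A : Type u} [CommRing A] [IsDomain A] [IsNoetherianRing A] [IsIntegrallyClosed A]

/-- Height-one primes. -/
def HtOne (p : Ideal A) : Prop := p.IsPrime ∧ p.height = 1

omit [IsNoetherianRing A] [IsIntegrallyClosed A] in
theorem HtOne.ne_bot {p : Ideal A} (hp : HtOne p) : p ≠ ⊥ := by
  rintro rfl
  have := hp.2
  rw [Ideal.height_bot] at this
  exact zero_ne_one this

/-- The localization of a normal Noetherian domain at a height-one prime is a DVR. -/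
theorem isDVR_atPrime (p : Ideal A) [hpp : p.IsPrime] (hp : p.height = 1) :
    IsDiscreteValuationRing (Localization.AtPrime p) := by
  set S := Localization.AtPrime p with hSdef
  have : IsIntegrallyClosed S :=
    isIntegrallyClosed_of_isLocalization _ p.primeCompl p.primeCompl_le_nonZeroDivisors
  have hdim : ringKrullDim S ≤ 1 := by
    rw [IsLocalization.AtPrime.ringKrullDim_eq_height p, hp]; rfl
  have hK : Ring.KrullDimLE 1 S := Ring.krullDimLE_iff.mpr hdim
  have hmax : ∀ P : Ideal S, P ≠ ⊥ → P.IsPrime → P = maximalIdeal S := fun P hP hPp =>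
    IsLocalRing.eq_maximalIdeal ((Ring.krullDimLE_one_iff_of_isPrime_bot.mp hK) P hP hPp)
  have h30 : (IsIntegrallyClosed S ∧ ∀ P : Ideal S, P ≠ ⊥ → P.IsPrime → P = maximalIdeal S) ↔
      IsPrincipalIdealRing S := (tfae_of_isNoetherianRing_of_isLocalRing_of_isDomain S).out 3 0
  have hpir : IsPrincipalIdealRing S := h30.mp ⟨inferInstance, hmax⟩
  have hp0 : p ≠ ⊥ := HtOne.ne_bot ⟨hpp, hp⟩
  refine { toIsPrincipalIdealRing := hpir, toIsLocalRing := inferInstance, not_a_field' := ?_ }
  intro hbot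
  apply hp0
  rw [eq_bot_iff]
  intro t ht
  have h3 : algebraMap A S t ∈ p.map (algebraMap A S) := Ideal.mem_map_of_mem _ ht
  rw [Localization.AtPrime.map_eq_maximalIdeal, hbot, Ideal.mem_bot] at h3
  rw [Ideal.mem_bot]
  exact (IsLocalization.injective S p.primeCompl_le_nonZeroDivisors) (by rw [h3, map_zero])

theorem HtOne.isDVR {p : Ideal A} (hp : HtOne p) :
    IsDiscreteValuationRing (@Localization.AtPrime A _ p hp.1) :=
  @isDVR_atPrime A _ _ _ _ p hp.1 hp.2

open Classical in
/-- The order of vanishing of `a` at the height-one prime `p` (junk value `0` if `p` is not a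
height-one prime). -/
noncomputable def ord (p : Ideal A) (a : A) : ℕ∞ :=
  if h : HtOne p then
    @IsDiscreteValuationRing.addVal (@Localization.AtPrime A _ p h.1) _ _ h.isDVR
      (algebraMap A (@Localization.AtPrime A _ p h.1) a)
  else 0

theorem ord_eq {p : Ideal A} [hpp : p.IsPrime] [IsDiscreteValuationRing (Localization.AtPrime p)]
    (hp : HtOne p) (a : A) :
    ord p a = addVal (Localization.AtPrime p) (algebraMap A (Localization.AtPrime p) a) := by
  unfold ord
  rw [dif_pos hp]

theorem ord_mul {p : Ideal A} (hp : HtOne p) (a b : A) : ord p (a * b) = ord p a + ord p b := by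
  have := hp.1
  have := hp.isDVR
  rw [ord_eq hp, ord_eq hp, ord_eq hp, map_mul, addVal_mul]

theorem ord_pow {p : Ideal A} (hp : HtOne p) (a : A) (n : ℕ) : ord p (a ^ n) = n • ord p a := by
  have := hp.1
  have := hp.isDVR
  rw [ord_eq hp, ord_eq hp, map_pow, addVal_pow]

theorem ord_one {p : Ideal A} (hp : HtOne p) : ord p (1 : A) = 0 := by
  have := hp.1
  have := hp.isDVR
  rw [ord_eq hp, map_one, addVal_one]

theorem ord_eq_top_iff {p : Ideal A} (hp : HtOne p) {a : A} : ord p a = ⊤ ↔ a = 0 := by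
  have := hp.1
  have := hp.isDVR
  rw [ord_eq hp, addVal_eq_top_iff]
  constructor
  · intro h
    exact (IsLocalization.injective (Localization.AtPrime p) p.primeCompl_le_nonZeroDivisors)
      (by rw [h, map_zero])
  · rintro rfl; exact map_zero _

theorem ord_zero {p : Ideal A} (hp : HtOne p) : ord p (0 : A) = ⊤ := (ord_eq_top_iff hp).mpr rfl

theorem ord_eq_zero_iff {p : Ideal A} (hp : HtOne p) {a : A} : ord p a = 0 ↔ a ∉ p := by
  have := hp.1
  have := hp.isDVR
  rw [ord_eq hp, addVal_eq_zero_iff, IsLocalization.AtPrime.isUnit_to_map_iff _ p]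
  rfl

theorem ord_pos_iff {p : Ideal A} (hp : HtOne p) {a : A} : 0 < ord p a ↔ a ∈ p := by
  rw [pos_iff_ne_zero, Ne, ord_eq_zero_iff hp, not_not]

theorem min_le_ord_add {p : Ideal A} (hp : HtOne p) (a b : A) :
    min (ord p a) (ord p b) ≤ ord p (a + b) := by
  have := hp.1
  have := hp.isDVR
  rw [ord_eq hp, ord_eq hp, ord_eq hp, map_add]
  exact addVal_add

theorem ord_add_eq_of_lt {p : Ideal A} (hp : HtOne p) {a b : A} (h : ord p a < ord p b) :
    ord p (a + b) = ord p a := by
  have := hp.1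
  have := hp.isDVR
  rw [ord_eq hp a, ord_eq hp b] at h
  rw [ord_eq hp, ord_eq hp, map_add]
  exact (addVal (Localization.AtPrime p)).map_add_eq_of_lt_left h

theorem le_ord_of_mem_pow {p : Ideal A} (hp : HtOne p) {a : A} {k : ℕ} (ha : a ∈ p ^ k) :
    (k : ℕ∞) ≤ ord p a := by
  have := hp.1
  have := hp.isDVR
  rw [ord_eq hp]
  obtain ⟨ϖ, hϖ⟩ := exists_irreducible (Localization.AtPrime p)
  have h1 : algebraMap A (Localization.AtPrime p) a ∈
      (p ^ k).map (algebraMap A (Localization.AtPrime p)) := Ideal.mem_map_of_mem _ ha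
  rw [Ideal.map_pow, Localization.AtPrime.map_eq_maximalIdeal, hϖ.maximalIdeal_eq,
    Ideal.span_singleton_pow, Ideal.mem_span_singleton] at h1
  have h2 := addVal_le_iff_dvd.mpr h1
  rwa [hϖ.addVal_pow] at h2

/-- There is an element of `p` of order exactly one. -/
theorem exists_ord_eq_one {p : Ideal A} (hp : HtOne p) : ∃ t ∈ p, ord p t = 1 := by
  have hpp := hp.1
  have := hp.isDVR
  obtain ⟨ϖ, hϖ⟩ := exists_irreducible (Localization.AtPrime p)
  obtain ⟨a, s, rfl⟩ := IsLocalization.exists_mk'_eq p.primeCompl ϖ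
  refine ⟨a, ?_, ?_⟩
  · have h1 : IsLocalization.mk' (Localization.AtPrime p) a s ∈
        IsLocalRing.maximalIdeal (Localization.AtPrime p) := by
      rw [hϖ.maximalIdeal_eq]; exact Ideal.subset_span rfl
    rw [← Localization.AtPrime.map_eq_maximalIdeal, IsLocalization.mk'_mem_map_algebraMap_iff] at h1
    obtain ⟨t, ht, hta⟩ := h1
    exact (hpp.mem_or_mem hta).resolve_left (fun h => ht h)
  · rw [ord_eq hp]
    have h2 : algebraMap A (Localization.AtPrime p) a =
        IsLocalization.mk' (Localization.AtPrime p) a s * algebraMap A _ (s : A) := by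
      rw [IsLocalization.mk'_spec]
    rw [h2, addVal_mul, addVal_uniformizer hϖ]
    have h3 : IsUnit (algebraMap A (Localization.AtPrime p) (s : A)) :=
      IsLocalization.map_units _ s
    rw [addVal_eq_zero_iff.mpr h3, add_zero]

end basic

section div

variable {A : Type u} [CommRing A] [IsDomain A] [IsNoetherianRing A] [IsIntegrallyClosed A]

/-- Divisibility in a normal Noetherian domain is detected at height-one primes. -/
theorem dvd_of_forall_ord_le {a b : A} (hb : b ≠ 0)
    (h : ∀ p, HtOne p → b ∈ p → ord p b ≤ ord p a) : b ∣ a := by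
  by_contra hnd
  have hna : a ∉ Ideal.span {b} := fun hmem => hnd (Ideal.mem_span_singleton.mp hmem)
  have hS : HasSk 2 A A := Groth.Agent.Lib.H14SerreNormal.hasSk_two_of_normal A
    (fun p _ => ⟨inferInstance,
      isIntegrallyClosed_of_isLocalization _ p.primeCompl p.primeCompl_le_nonZeroDivisors⟩)
  have hreg : IsSMulRegular A b := fun x y hxy => mul_left_cancel₀ hb hxy
  obtain ⟨p, hpp, hht, hbp, hap⟩ :=
    Groth.Agent.Lib.H14SerreNormal.exists_prime_of_notMem_span hS hreg hna
  have hp0 : p ≠ ⊥ := by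
    rintro rfl
    exact hb (by simpa using hbp)
  have hht1 : p.height = 1 := by
    refine le_antisymm hht ?_
    have h1 : (⊥ : Ideal A).height < p.height :=
      Ideal.height_strict_mono_of_isPrime (bot_lt_iff_ne_bot.mpr hp0)
    rw [Ideal.height_bot] at h1
    exact Order.one_le_iff_pos.mpr h1
  have hp : HtOne p := ⟨hpp, hht1⟩
  have := hp.isDVR
  have hle := h p hp hbp
  rw [ord_eq hp, ord_eq hp, addVal_le_iff_dvd] at hle
  exact hap (Ideal.mem_span_singleton.mpr hle)

omit [IsNoetherianRing A] [IsIntegrallyClosed A] in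
theorem HtOne.eq_of_le {q' q : Ideal A} [IsNoetherianRing A] (hq' : HtOne q') (hq : HtOne q)
    (hle : q' ≤ q) : q' = q := by
  have := hq'.1
  exact Ideal.eq_of_le_of_height_le q' hle (by rw [hq'.2, hq.2])

theorem ord_prod {p : Ideal A} (hp : HtOne p) {ι : Type*} (s : Finset ι) (f : ι → A) :
    ord p (∏ i ∈ s, f i) = ∑ i ∈ s, ord p (f i) := by
  classical
  induction s using Finset.induction_on with
  | empty => simp [ord_one hp]
  | insert i s hi ih => rw [Finset.prod_insert hi, Finset.sum_insert hi, ord_mul hp, ih]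

/-- A "local uniformizer": order one at `q`, order zero at the other primes of `T`. -/
theorem exists_ord_eq_one_of_finset (T : Finset (Ideal A)) (hT : ∀ q ∈ T, HtOne q)
    (q : Ideal A) (hq : q ∈ T) :
    ∃ π : A, ord q π = 1 ∧ ∀ q' ∈ T, q' ≠ q → ord q' π = 0 := by
  classical
  have hqo := hT q hq
  have hqp := hqo.1
  obtain ⟨t, htq, ht1⟩ := exists_ord_eq_one hqo
  -- u
  have hu : ∃ u ∈ ∏ q' ∈ T.erase q, q', u ∉ q := by
    by_contra hcon
    push Not at hcon
    have hle : ∏ q' ∈ T.erase q, q' ≤ q := fun u hu => hcon u hu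
    obtain ⟨q', hq', hle'⟩ := (Ideal.IsPrime.prod_le hqp).mp hle
    exact (Finset.ne_of_mem_erase hq')
      ((hT q' (Finset.mem_of_mem_erase hq')).eq_of_le hqo hle')
  obtain ⟨u, hu1, hu2⟩ := hu
  -- z
  have hz : ∃ z ∈ q ^ 2, ∀ q' ∈ T.erase q, z ∉ q' := by
    by_contra hcon
    push Not at hcon
    have hsub : ((q ^ 2 : Ideal A) : Set A) ⊆
        ⋃ q' ∈ (↑(T.erase q) : Set (Ideal A)), ((fun q' : Ideal A => q') q' : Ideal A) := by
      intro z hz
      obtain ⟨q', hq', hzq'⟩ := hcon z hz
      exact Set.mem_biUnion (Finset.mem_coe.mpr hq') hzq'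
    obtain ⟨q', hq', hle⟩ := (Ideal.subset_union_prime (f := fun q' : Ideal A => q') ⊥ ⊥
      (fun q' hq' _ _ => (hT q' (Finset.mem_of_mem_erase hq')).1)).mp hsub
    have hq'o := hT q' (Finset.mem_of_mem_erase hq')
    have := hq'o.1
    have hle' : q ≤ q' := Ideal.IsPrime.le_of_pow_le hle
    exact (Finset.ne_of_mem_erase hq') (hqo.eq_of_le hq'o hle').symm
  obtain ⟨z, hz1, hz2⟩ := hz
  refine ⟨t * u + z, ?_, ?_⟩
  · have h1 : ord q (t * u) = 1 := by
      rw [ord_mul hqo, ht1, (ord_eq_zero_iff hqo).mpr hu2, add_zero]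
    have h2 : (2 : ℕ∞) ≤ ord q z := by
      have := le_ord_of_mem_pow hqo hz1
      exact_mod_cast this
    rw [ord_add_eq_of_lt hqo, h1]
    rw [h1]
    exact lt_of_lt_of_le (by norm_num) h2
  · intro q' hq' hne
    have hq'o := hT q' hq'
    rw [ord_eq_zero_iff hq'o]
    intro hmem
    have hq'e : q' ∈ T.erase q := Finset.mem_erase.mpr ⟨hne, hq'⟩
    have hle : ∏ q'' ∈ T.erase q, q'' ≤ q' :=
      (Ideal.prod_le_inf (s := T.erase q) (f := fun q'' : Ideal A => q'')).trans
        (Finset.inf_le (f := fun q'' : Ideal A => q'') (b := q') hq'e)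
    have htu : t * u ∈ q' := Ideal.mul_mem_left _ _ (hle hu1)
    have : z ∈ q' := by
      have := sub_mem hmem htu
      simpa using this
    exact hz2 q' hq'e this

/-- Approximation: prescribe the orders at finitely many height-one primes. -/
theorem exists_ord_eq (T : Finset (Ideal A)) (hT : ∀ q ∈ T, HtOne q) (m : Ideal A → ℕ) :
    ∃ g : A, g ≠ 0 ∧ ∀ q ∈ T, ord q g = m q := by
  classical
  have h1 : ∀ q ∈ T, ∃ π : A, ord q π = 1 ∧ ∀ q' ∈ T, q' ≠ q → ord q' π = 0 :=
    fun q hq => exists_ord_eq_one_of_finset T hT q hq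
  choose! π hπ1 hπ2 using h1
  have hne : ∀ q ∈ T, π q ≠ 0 := fun q hq h0 => by
    have := hπ1 q hq
    rw [h0, ord_zero (hT q hq)] at this
    exact absurd this (by simp)
  refine ⟨∏ q ∈ T, π q ^ m q, ?_, ?_⟩
  · rw [Finset.prod_ne_zero_iff]
    exact fun q hq => pow_ne_zero _ (hne q hq)
  · intro q₀ hq₀
    have hq₀o := hT q₀ hq₀
    rw [ord_prod hq₀o, ← Finset.add_sum_erase _ _ hq₀, ord_pow hq₀o, hπ1 q₀ hq₀,
      Finset.sum_eq_zero, add_zero, nsmul_one]
    intro q hq
    rw [ord_pow hq₀o, hπ2 q (Finset.mem_of_mem_erase hq) q₀ hq₀ (Finset.ne_of_mem_erase hq).symm,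
      smul_zero]

end div

section unram

variable {A B : Type u} [CommRing A] [IsDomain A] [IsNoetherianRing A] [IsIntegrallyClosed A]
  [CommRing B] [IsDomain B] [IsNoetherianRing B] [IsIntegrallyClosed B] [Algebra A B]

/-- Along a weakly unramified extension of height-one primes, orders are preserved. -/
theorem ord_algebraMap_eq {p : Ideal A} (hp : HtOne p) (q : Ideal B) [hqp : q.IsPrime]
    (hq : q.height = 1) (hpq : q.comap (algebraMap A B) = p)
    (hram : Ideal.map (algebraMap B (Localization.AtPrime q)) (Ideal.map (algebraMap A B) p) =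
      IsLocalRing.maximalIdeal (Localization.AtPrime q)) (a : A) :
    ord q (algebraMap A B a) = ord p a := by
  have hpp := hp.1
  have := hp.isDVR
  have hqo : HtOne q := ⟨hqp, hq⟩
  have := hqo.isDVR
  rw [ord_eq hp, ord_eq hqo]
  set S := Localization.AtPrime p with hS
  set S' := Localization.AtPrime q with hS'
  set φ : S →+* S' := Localization.localRingHom p q (algebraMap A B) hpq.symm with hφ
  have hφmap : ∀ x : A, φ (algebraMap A S x) = algebraMap B S' (algebraMap A B x) := fun x =>
    Localization.localRingHom_to_map p q (algebraMap A B) hpq.symm x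
  obtain ⟨ϖ, hϖ⟩ := exists_irreducible S
  have hcomp : (algebraMap B S').comp (algebraMap A B) = φ.comp (algebraMap A S) := by
    ext x
    simp only [RingHom.comp_apply]
    exact (hφmap x).symm
  have hmax : IsLocalRing.maximalIdeal S' = Ideal.span {φ ϖ} := by
    rw [← hram, Ideal.map_map, hcomp, ← Ideal.map_map, Localization.AtPrime.map_eq_maximalIdeal,
      hϖ.maximalIdeal_eq, Ideal.map_span, Set.image_singleton]
  have hϖ' : Irreducible (φ ϖ) := (irreducible_iff_uniformizer _).mpr hmax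
  by_cases ha : a = 0
  · subst ha
    simp
  have ha' : algebraMap A S a ≠ 0 := fun h0 => ha
    ((IsLocalization.injective S p.primeCompl_le_nonZeroDivisors) (by rw [h0, map_zero]))
  obtain ⟨k, u, hk⟩ := eq_unit_mul_pow_irreducible ha' hϖ
  rw [addVal_def _ u hϖ k hk]
  have hk' : algebraMap B S' (algebraMap A B a) = ((Units.map (φ : S →* S') u : S'ˣ) : S') *
      (φ ϖ) ^ k := by
    rw [← hφmap, hk, map_mul, map_pow]
    rfl
  rw [addVal_def _ _ hϖ' k hk']

end unram

section aux

variable {A : Type u} [CommRing A] [IsDomain A] [IsNoetherianRing A] [IsIntegrallyClosed A]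

/-- Minimal primes of a nonzero principal ideal are height-one. -/
theorem htOne_of_mem_minimalPrimes {f : A} (hf : f ≠ 0) {p : Ideal A}
    (hp : p ∈ (Ideal.span {f}).minimalPrimes) : HtOne p := by
  have hpp := hp.1.1
  refine ⟨hpp, le_antisymm (Ideal.height_le_one_of_isPrincipal_of_mem_minimalPrimes _ _ hp) ?_⟩
  have hp0 : p ≠ ⊥ := by
    rintro rfl
    exact hf (by simpa using hp.1.2 (Ideal.subset_span rfl))
  have h1 : (⊥ : Ideal A).height < p.height :=
    Ideal.height_strict_mono_of_isPrime (bot_lt_iff_ne_bot.mpr hp0)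
  rw [Ideal.height_bot] at h1
  exact Order.one_le_iff_pos.mpr h1

theorem mem_minimalPrimes_of_htOne {f : A} (hf : f ≠ 0) {p : Ideal A} (hp : HtOne p)
    (hfp : f ∈ p) : p ∈ (Ideal.span {f}).minimalPrimes := by
  have := hp.1
  exact Groth.Agent.Lib.NormalDimTwo6.mem_minimalPrimes_of_height_le_one hf p (le_of_eq hp.2) hfp

theorem ord_ne_top {p : Ideal A} (hp : HtOne p) {a : A} (ha : a ≠ 0) : ord p a ≠ ⊤ :=
  fun h => ha ((ord_eq_top_iff hp).mp h)

end aux

section main

variable {A B : Type u} [CommRing A] [IsDomain A] [IsNoetherianRing A] [IsIntegrallyClosed A]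
  [CommRing B] [IsDomain B] [IsNoetherianRing B] [IsIntegrallyClosed B] [Algebra A B]

/-- Step V1: orders of `f = w hⁿ` are divisible by `n` at primes admitting a weakly unramified
height-one prime above. -/
theorem exists_ord_eq_mul (f : A) (h : B) (n : ℕ) (w : Bˣ) (hh : h ≠ 0)
    (hf : algebraMap A B f = (w : B) * h ^ n) {p : Ideal A} (hp : HtOne p)
    (hram : ∃ (q : Ideal B) (_ : q.IsPrime), q.height = 1 ∧ q.comap (algebraMap A B) = p ∧
        Ideal.map (algebraMap B (Localization.AtPrime q)) (Ideal.map (algebraMap A B) p) =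
          IsLocalRing.maximalIdeal (Localization.AtPrime q)) :
    ∃ k : ℕ, ord p f = ((n * k : ℕ) : ℕ∞) := by
  obtain ⟨q, hqp, hq1, hpq, hmax⟩ := hram
  have hqo : HtOne q := ⟨hqp, hq1⟩
  have h1 := ord_algebraMap_eq hp q hq1 hpq hmax f
  rw [hf, ord_mul hqo, ord_pow hqo, (ord_eq_zero_iff hqo).mpr, zero_add] at h1
  · obtain ⟨k, hk⟩ := ENat.ne_top_iff_exists.mp (ord_ne_top hqo hh)
    refine ⟨k, ?_⟩
    rw [← h1, ← hk]
    push_cast
    rw [nsmul_eq_mul]
  · intro hw
    exact hqp.ne_top (Ideal.eq_top_of_isUnit_mem _ hw w.isUnit)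

end main

section main

variable {A B : Type u} [CommRing A] [IsDomain A] [IsNoetherianRing A] [IsIntegrallyClosed A]
  [CommRing B] [IsDomain B] [IsNoetherianRing B] [IsIntegrallyClosed B] [Algebra A B]

/-- `n`-th power descent along a flat local homomorphism of normal Noetherian local domains
which is weakly unramified in codimension one. -/
theorem exists_eq_unit_mul_pow [IsLocalRing A] [IsLocalRing B] [IsLocalHom (algebraMap A B)]
    [Module.Flat A B]
    (f : A) (h : B) (n : ℕ) (hn : 1 < n) (w : Bˣ) (hf : algebraMap A B f = (w : B) * h ^ n)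
    (hram : ∀ (p : Ideal A) [p.IsPrime], p.height = 1 →
      ∃ (q : Ideal B) (_ : q.IsPrime), q.height = 1 ∧ q.comap (algebraMap A B) = p ∧
        Ideal.map (algebraMap B (Localization.AtPrime q)) (Ideal.map (algebraMap A B) p) =
          IsLocalRing.maximalIdeal (Localization.AtPrime q)) :
    ∃ (g : A) (u : Aˣ), f = (u : A) * g ^ n := by
  classical
  have hn0 : n ≠ 0 := by omega
  by_cases hf0 : f = 0
  · exact ⟨0, 1, by rw [hf0, zero_pow hn0, mul_zero]⟩
  have hff : Module.FaithfullyFlat A B := Module.FaithfullyFlat.of_flat_of_isLocalHom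
  have hinj : Function.Injective (algebraMap A B) := FaithfulSMul.algebraMap_injective A B
  set φ := algebraMap A B with hφ
  have hφf : φ f ≠ 0 := fun h0 => hf0 (hinj (by rw [h0, map_zero]))
  have hh0 : h ≠ 0 := by
    rintro rfl
    rw [hf, zero_pow hn0, mul_zero] at hφf
    exact hφf rfl
  have hhn0 : h ^ n ≠ 0 := pow_ne_zero _ hh0
  -- Step V1
  have hV1 : ∀ p : Ideal A, ∃ k : ℕ, HtOne p → ord p f = ((n * k : ℕ) : ℕ∞) := fun p => by
    by_cases hp : HtOne p
    · have := hp.1
      obtain ⟨k, hk⟩ := exists_ord_eq_mul f h n w hh0 hf hp (hram p hp.2)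
      exact ⟨k, fun _ => hk⟩
    · exact ⟨0, fun hp' => absurd hp' hp⟩
  choose m hm using hV1
  -- the primes of f
  have hfinP := Ideal.finite_minimalPrimes_of_isNoetherianRing A (Ideal.span {f})
  set P : Finset (Ideal A) := hfinP.toFinset with hPdef
  have hP : ∀ p ∈ P, HtOne p := fun p hp => htOne_of_mem_minimalPrimes hf0 (hfinP.mem_toFinset.mp hp)
  have hPmem : ∀ p, HtOne p → f ∈ p → p ∈ P := fun p hp hfp =>
    hfinP.mem_toFinset.mpr (mem_minimalPrimes_of_htOne hf0 hp hfp)
  -- g₀
  obtain ⟨g₀, hg₀0, hg₀⟩ := exists_ord_eq P hP m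
  have hdvd1 : f ∣ g₀ ^ n := by
    apply dvd_of_forall_ord_le hf0
    intro p hp hfp
    rw [ord_pow hp, hg₀ p (hPmem p hp hfp), hm p hp]
    push_cast
    rw [nsmul_eq_mul]
  obtain ⟨f', hf'⟩ := hdvd1
  have hf'0 : f' ≠ 0 := by
    rintro rfl
    rw [mul_zero] at hf'
    exact pow_ne_zero n hg₀0 hf'
  -- c
  have hfinQ := Ideal.finite_minimalPrimes_of_isNoetherianRing A (Ideal.span {g₀})
  set T : Finset (Ideal A) := P ∪ hfinQ.toFinset with hTdef
  have hT : ∀ q ∈ T, HtOne q := fun q hq => by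
    rcases Finset.mem_union.mp hq with hq | hq
    · exact hP q hq
    · exact htOne_of_mem_minimalPrimes hg₀0 (hfinQ.mem_toFinset.mp hq)
  obtain ⟨c, hc0, hc⟩ := exists_ord_eq T hT (fun r => if r ∈ P then 0 else (ord r g₀).toNat)
  have hcP : ∀ p ∈ P, ord p c = 0 := fun p hp => by
    rw [hc p (Finset.mem_union_left _ hp), if_pos hp]; rfl
  have hcQ : ∀ r, HtOne r → g₀ ∈ r → r ∉ P → ord r c = ord r g₀ := fun r hr hgr hrP => by
    have hrT : r ∈ T := Finset.mem_union_right _
      (hfinQ.mem_toFinset.mpr (mem_minimalPrimes_of_htOne hg₀0 hr hgr))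
    rw [hc r hrT, if_neg hrP, ENat.natCast_toNat (ord_ne_top hr hg₀0)]
  -- f' ∣ c ^ n
  have hdvd2 : f' ∣ c ^ n := by
    apply dvd_of_forall_ord_le hf'0
    intro r hr hf'r
    have hrel : n • ord r g₀ = ord r f + ord r f' := by
      rw [← ord_pow hr, hf', ord_mul hr]
    by_cases hrP : r ∈ P
    · exfalso
      rw [hg₀ r hrP, hm r hr] at hrel
      have h1 : ((n * m r : ℕ) : ℕ∞) + ord r f' = ((n * m r : ℕ) : ℕ∞) + 0 := by
        rw [add_zero, ← hrel]
        push_cast
        rw [nsmul_eq_mul]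
      have h2 : ord r f' = 0 := ENat.add_right_injective_of_ne_top (ENat.natCast_ne_top _) h1
      exact (ord_eq_zero_iff hr).mp h2 hf'r
    · have hgr : g₀ ∈ r := by
        have : g₀ ^ n ∈ r := by rw [hf']; exact Ideal.mul_mem_left _ _ hf'r
        exact hr.1.mem_of_pow_mem n this
      have hfr : f ∉ r := fun hfr => hrP (hPmem r hr hfr)
      rw [(ord_eq_zero_iff hr).mpr hfr, zero_add] at hrel
      rw [ord_pow hr, hcQ r hr hgr hrP, hrel]
  obtain ⟨y, hy⟩ := hdvd2
  -- Step 9: in B
  have hB1 : h ^ n ∣ (φ g₀) ^ n := by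
    refine ⟨(w : B) * φ f', ?_⟩
    rw [← map_pow, hf', map_mul, hf]
    ring
  obtain ⟨h', hh'⟩ := (IsIntegrallyClosed.pow_dvd_pow_iff hn0).mp hB1
  have hh'n : h' ^ n = (w : B) * φ f' := by
    apply mul_left_cancel₀ hhn0
    rw [← mul_pow, ← hh', ← map_pow, hf', map_mul, hf]
    ring
  have hB2 : h' ^ n ∣ (φ c) ^ n := by
    refine ⟨((w⁻¹ : Bˣ) : B) * φ y, ?_⟩
    rw [← map_pow, hy, map_mul, hh'n]
    have : (w : B) * ((w⁻¹ : Bˣ) : B) = 1 := by simp
    linear_combination (-(φ f' * φ y)) * this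
  obtain ⟨c', hc'⟩ := (IsIntegrallyClosed.pow_dvd_pow_iff hn0).mp hB2
  -- Step 10: flatness
  have htriv : Module.IsTrivialRelation (R := A) (M := B) ![c, -g₀] ![h, c'] := by
    refine Module.Flat.isTrivialRelation_of_sum_smul_eq_zero (R := A) (M := B) ?_
    rw [Fin.sum_univ_two]
    simp only [Matrix.cons_val_zero, Matrix.cons_val_one, Algebra.smul_def]
    rw [map_neg, ← hφ, hc', hh']
    ring
  obtain ⟨κ, a, yy, hx, hrel'⟩ := htriv
  have ha0 : ∀ j, c * a 0 j = g₀ * a 1 j := fun j => by
    have := hrel' j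
    rw [Fin.sum_univ_two] at this
    simp only [Matrix.cons_val_zero, Matrix.cons_val_one] at this
    linear_combination this
  -- Step 11
  have hdvd3 : ∀ j, f ∣ (a 0 j) ^ n := fun j => by
    apply dvd_of_forall_ord_le hf0
    intro p hp hfp
    have hpP := hPmem p hp hfp
    have h1 : ord p c + ord p (a 0 j) = ord p g₀ + ord p (a 1 j) := by
      rw [← ord_mul hp, ← ord_mul hp, ha0 j]
    rw [hcP p hpP, zero_add, hg₀ p hpP] at h1
    rw [ord_pow hp, hm p hp, h1]
    push_cast
    rw [nsmul_eq_mul, mul_add]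
    exact le_self_add
  have hd : ∀ j, ∃ d : B, φ (a 0 j) = h * d := fun j => by
    obtain ⟨e, he⟩ := hdvd3 j
    have : h ^ n ∣ (φ (a 0 j)) ^ n := by
      refine ⟨(w : B) * φ e, ?_⟩
      rw [← map_pow, he, map_mul, hf]
      ring
    exact (IsIntegrallyClosed.pow_dvd_pow_iff hn0).mp this
  choose d hd' using hd
  -- Step 12
  have hsum : ∑ j, d j * yy j = 1 := by
    apply mul_left_cancel₀ hh0
    rw [mul_one, Finset.mul_sum]
    have h0 := hx 0
    simp only [Matrix.cons_val_zero] at h0
    conv_rhs => rw [h0]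
    refine Finset.sum_congr rfl fun j _ => ?_
    rw [Algebra.smul_def, ← hφ, hd' j]
    ring
  have hex : ∃ j, IsUnit (d j) := by
    by_contra hcon
    push Not at hcon
    have hmem : ∑ j, d j * yy j ∈ maximalIdeal B :=
      Ideal.sum_mem _ fun j _ => Ideal.mul_mem_right _ _ ((mem_maximalIdeal _).mpr (hcon j))
    rw [hsum] at hmem
    exact (Ideal.ne_top_iff_one _).mp (IsLocalRing.maximalIdeal.isMaximal B).ne_top hmem
  obtain ⟨j, hj⟩ := hex
  -- Step 13
  obtain ⟨e, he⟩ := hdvd3 j
  have heB : (d j) ^ n = (w : B) * φ e := by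
    apply mul_left_cancel₀ hhn0
    rw [← mul_pow, ← hd' j, ← map_pow, he, map_mul, hf]
    ring
  have heu : IsUnit (φ e) := by
    have h1 : IsUnit ((w : B) * φ e) := heB ▸ hj.pow n
    exact (IsUnit.mul_iff.mp h1).2
  have heA : IsUnit e := isUnit_of_map_unit φ e heu
  obtain ⟨u, rfl⟩ := heA
  refine ⟨a 0 j, u⁻¹, ?_⟩
  rw [he]
  simp [mul_comm]

end main

end Groth.Agent.Lib.OrdHtOne6
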