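/-
helper6: catenary normal Noetherian local domains — nonzero radical ideals contain a nonzero
element with reduced quotient (generalization of S7119 to arbitrary dimension).

Main results (namespace `Groth.Agent.Lib.NormalCatenary6`):
* `minCompl 𝔞`, `Lam 𝔞`, `toLam 𝔞` : the Artinian semilocal ring `S⁻¹(R/𝔞)` (`S` = complement of
  the minimal primes of `𝔞`), `isArtinianRing_Lam`, `exists_mul_mem_of_map_toLam_le`;
* `exists_mem_notMem_of_finset` (prime avoidance for a finset of primes), `isEquidim_of_isDomain`,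
  `isReduced_of_forall_ord_eq_one` (reducedness criterion via orders);
* `mem_minimalPrimes_pair` (catenary input);
* `exists_reduced_of_primes`, `exists_mem_reduced` (= S2013).
-/
import Mathlib
import Groth.Agent.Lib.OrdHtOne6
import Groth.Agent.Lib.EquidimCat33

set_option autoImplicit false
universe u

namespace Groth.Agent.Lib.NormalCatenary6

open IsLocalRing LocCoh Groth.Agent.Lib.OrdHtOne6

section lambda

variable {R : Type u} [CommRing R]

/-- The submonoid of elements lying outside all minimal primes of `𝔞`. -/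
def minCompl (𝔞 : Ideal R) : Submonoid R where
  carrier := {s | ∀ P ∈ 𝔞.minimalPrimes, s ∉ P}
  one_mem' := fun _ hP h1 => hP.1.1.ne_top ((Ideal.eq_top_iff_one _).mpr h1)
  mul_mem' := fun ha hb P hP hab => (hP.1.1.mem_or_mem hab).elim (ha P hP) (hb P hP)

/-- The semilocal ring `S⁻¹(R/𝔞)`, `S` the complement of the minimal primes of `𝔞`. -/
abbrev Lam (𝔞 : Ideal R) : Type u := Localization ((minCompl 𝔞).map (Ideal.Quotient.mk 𝔞))

/-- The canonical map `R → Λ`. -/
noncomputable def toLam (𝔞 : Ideal R) : R →+* Lam 𝔞 :=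
  (algebraMap (R ⧸ 𝔞) (Lam 𝔞)).comp (Ideal.Quotient.mk 𝔞)

theorem toLam_eq_zero {𝔞 : Ideal R} {a : R} (ha : a ∈ 𝔞) : toLam 𝔞 a = 0 := by
  simp only [toLam, RingHom.comp_apply]
  rw [Ideal.Quotient.eq_zero_iff_mem.mpr ha, map_zero]

theorem isUnit_toLam {𝔞 : Ideal R} {s : R} (hs : s ∈ minCompl 𝔞) : IsUnit (toLam 𝔞 s) := by
  simp only [toLam, RingHom.comp_apply]
  exact IsLocalization.map_units (Lam 𝔞)
    (⟨Ideal.Quotient.mk 𝔞 s, Submonoid.mem_map_of_mem _ hs⟩ :
      (minCompl 𝔞).map (Ideal.Quotient.mk 𝔞))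

theorem map_comap_toLam (𝔞 : Ideal R) (I : Ideal (Lam 𝔞)) :
    (I.comap (toLam 𝔞)).map (toLam 𝔞) = I := by
  unfold toLam
  rw [← Ideal.comap_comap, ← Ideal.map_map,
    Ideal.map_comap_of_surjective _ Ideal.Quotient.mk_surjective,
    IsLocalization.map_under ((minCompl 𝔞).map (Ideal.Quotient.mk 𝔞))]

variable [IsNoetherianRing R]

/-- The contraction of a prime of `Λ` is a minimal prime of `𝔞`. -/
theorem comap_toLam_mem_minimalPrimes (𝔞 : Ideal R) (Q : Ideal (Lam 𝔞)) [hQ : Q.IsPrime] :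
    Q.comap (toLam 𝔞) ∈ 𝔞.minimalPrimes := by
  classical
  have hprime : (Q.comap (toLam 𝔞)).IsPrime := inferInstance
  have hle : 𝔞 ≤ Q.comap (toLam 𝔞) := fun a ha => by
    rw [Ideal.mem_comap, toLam_eq_zero ha]; exact zero_mem _
  have hdisj : ∀ s ∈ minCompl 𝔞, s ∉ Q.comap (toLam 𝔞) := fun s hs hmem =>
    hQ.ne_top (Ideal.eq_top_of_isUnit_mem _ hmem (isUnit_toLam hs))
  have hfin := Ideal.finite_minimalPrimes_of_isNoetherianRing R 𝔞
  have hsub : ((Q.comap (toLam 𝔞) : Ideal R) : Set R) ⊆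
      ⋃ P ∈ (↑hfin.toFinset : Set (Ideal R)), ((fun P : Ideal R => P) P : Ideal R) := by
    intro a ha
    by_contra hcon
    apply hdisj a _ ha
    intro P hP haP
    exact hcon (Set.mem_biUnion (Finset.mem_coe.mpr (hfin.mem_toFinset.mpr hP)) haP)
  obtain ⟨P, hP, hQP⟩ := (Ideal.subset_union_prime (f := fun P : Ideal R => P) ⊥ ⊥
    (fun P hP _ _ => ((hfin.mem_toFinset).mp hP).1.1)).mp hsub
  have hP' := hfin.mem_toFinset.mp hP
  have hPQ : P ≤ Q.comap (toLam 𝔞) := hP'.2 ⟨hprime, hle⟩ hQP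
  exact (le_antisymm hQP hPQ) ▸ hP'

theorem isArtinianRing_Lam (𝔞 : Ideal R) : IsArtinianRing (Lam 𝔞) := by
  rw [isArtinianRing_iff_krullDimLE_zero, Ring.krullDimLE_zero_iff]
  intro I hI
  obtain ⟨M, hM, hIM⟩ := Ideal.exists_le_maximal I hI.ne_top
  have hMp : M.IsPrime := hM.isPrime
  have h1 := comap_toLam_mem_minimalPrimes 𝔞 I
  have h2 := comap_toLam_mem_minimalPrimes 𝔞 M
  have hle : I.comap (toLam 𝔞) ≤ M.comap (toLam 𝔞) := Ideal.comap_mono hIM
  have hge : M.comap (toLam 𝔞) ≤ I.comap (toLam 𝔞) := h2.2 h1.1 hle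
  have heq : I = M := by
    rw [← map_comap_toLam 𝔞 I, ← map_comap_toLam 𝔞 M, le_antisymm hle hge]
  exact heq ▸ hM

omit [IsNoetherianRing R] in
/-- Interface: comparison of extended ideals in `Λ` in elementwise form. -/
theorem exists_mul_mem_of_map_toLam_le {𝔞 J J' : Ideal R}
    (h : J.map (toLam 𝔞) ≤ J'.map (toLam 𝔞)) :
    ∀ a ∈ J, ∃ s ∈ minCompl 𝔞, s * a ∈ J' ⊔ 𝔞 := by
  intro a ha
  have h1 : toLam 𝔞 a ∈ J'.map (toLam 𝔞) := h (Ideal.mem_map_of_mem _ ha)
  unfold toLam at h1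
  rw [← Ideal.map_map] at h1
  obtain ⟨⟨⟨j, hj⟩, ⟨sbar, hsbar⟩⟩, hx⟩ := (IsLocalization.mem_map_algebraMap_iff
    ((minCompl 𝔞).map (Ideal.Quotient.mk 𝔞)) (Lam 𝔞)).mp h1
  simp only [RingHom.comp_apply] at hx
  obtain ⟨s, hs, rfl⟩ := Submonoid.mem_map.mp hsbar
  obtain ⟨j', hj', rfl⟩ := (Ideal.mem_map_iff_of_surjective _ Ideal.Quotient.mk_surjective).mp hj
  rw [← map_mul, ← map_mul] at hx
  obtain ⟨⟨tbar, htbar⟩, ht⟩ := (IsLocalization.eq_iff_exists
    ((minCompl 𝔞).map (Ideal.Quotient.mk 𝔞)) (Lam 𝔞)).mp hx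
  obtain ⟨t, ht', rfl⟩ := Submonoid.mem_map.mp htbar
  simp only at ht
  rw [← map_mul, ← map_mul, Ideal.Quotient.eq] at ht
  refine ⟨t * s, mul_mem ht' hs, ?_⟩
  have : t * s * a = t * j' + (t * (a * s) - t * j') := by ring
  rw [this]
  exact Submodule.add_mem_sup (Ideal.mul_mem_left _ _ hj') ht

end lambda

section helpers

variable {R : Type u} [CommRing R]

/-- Prime avoidance for a finite set of primes. -/
theorem exists_mem_notMem_of_finset (K : Ideal R) (T : Finset (Ideal R))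
    (hT : ∀ q ∈ T, q.IsPrime) (hK : ∀ q ∈ T, ¬ K ≤ q) : ∃ u ∈ K, ∀ q ∈ T, u ∉ q := by
  classical
  by_contra hcon
  push Not at hcon
  have hsub : ((K : Ideal R) : Set R) ⊆
      ⋃ q ∈ (↑T : Set (Ideal R)), ((fun q : Ideal R => q) q : Ideal R) := by
    intro u hu
    obtain ⟨q, hq, huq⟩ := hcon u hu
    exact Set.mem_biUnion (Finset.mem_coe.mpr hq) huq
  obtain ⟨q, hq, hle⟩ := (Ideal.subset_union_prime (f := fun q : Ideal R => q) ⊥ ⊥
    (fun q hq _ _ => hT q hq)).mp hsub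
  exact hK q hq hle

theorem isEquidim_of_isDomain [IsDomain R] : EGA4.IsEquidim R := by
  intro p hp
  rw [IsDomain.minimalPrimes_eq_singleton_bot, Set.mem_singleton_iff] at hp
  subst hp
  exact ringKrullDim_eq_of_ringEquiv (RingEquiv.quotientBot R)

variable [IsDomain R] [IsNoetherianRing R] [IsIntegrallyClosed R]

/-- Reducedness criterion in terms of orders. -/
theorem isReduced_of_forall_ord_eq_one {f : R} (hf : f ≠ 0)
    (h : ∀ q, HtOne q → f ∈ q → ord q f = 1) : IsReduced (R ⧸ Ideal.span {f}) := by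
  rw [← Ideal.isRadical_iff_quotient_reduced]
  intro a ha
  rw [Ideal.mem_span_singleton]
  apply dvd_of_forall_ord_le hf
  intro p hp hfp
  rw [h p hp hfp]
  have hap : a ∈ p := by
    obtain ⟨k, hk⟩ := ha
    have : a ^ k ∈ p := (Ideal.span_singleton_le_iff_mem (I := p)).mpr hfp hk
    exact hp.1.mem_of_pow_mem k this
  exact Order.one_le_iff_pos.mpr ((ord_pos_iff hp).mpr hap)

variable [IsLocalRing R]

/-- Catenary input: a minimal prime over `q + (h)` (`q` height one, `h ∉ q`) containing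
`𝔞 = (x, h)` is a minimal prime of `𝔞`, provided `h` avoids the minimal primes of `(x)`. -/
theorem mem_minimalPrimes_pair (hc : CAlg.IsCatenary R) {x h : R} (hx : x ≠ 0)
    (hh : ∀ q ∈ (Ideal.span {x}).minimalPrimes, h ∉ q) {q P : Ideal R} (hq : HtOne q)
    (hhq : h ∉ q) (hP : P ∈ (q ⊔ Ideal.span {h}).minimalPrimes)
    (hle : Ideal.span {x, h} ≤ P) : P ∈ (Ideal.span {x, h}).minimalPrimes := by
  have hPp : P.IsPrime := hP.1.1
  have hqp := hq.1
  have hcov : (⟨q, hqp⟩ : PrimeSpectrum R) ⋖ ⟨P, hPp⟩ :=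
    Groth.Agent.Lib.EquidimCat33.covBy_of_mem_minimalPrimes ⟨q, hqp⟩ ⟨P, hPp⟩ h hhq hP
  have hE : EGA4.IsEquidim R := isEquidim_of_isDomain
  have hht0 := Groth.Agent.Lib.EquidimCat33.height_eq_add_one_of_covBy hE hc hcov
  have hht : P.height = q.height + 1 := hht0
  rw [hq.2] at hht
  refine ⟨⟨hPp, hle⟩, ?_⟩
  rintro P' ⟨hP'p, hP'le⟩ hP'P
  -- `P'` contains a minimal prime `q₀` of `(x)` strictly
  have hxP' : Ideal.span {x} ≤ P' := (Ideal.span_mono (by simp)).trans hP'le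
  obtain ⟨q₀, hq₀, hq₀P'⟩ := Ideal.exists_minimalPrimes_le hxP'
  have hq₀o := htOne_of_mem_minimalPrimes hx hq₀
  have hq₀p := hq₀o.1
  have hhP' : h ∈ P' := hP'le (Ideal.subset_span (by simp))
  have hlt : q₀ < P' := lt_of_le_of_ne hq₀P' (fun heq => hh q₀ hq₀ (heq ▸ hhP'))
  have h1 : q₀.height < P'.height := Ideal.height_strict_mono_of_isPrime hlt
  rw [hq₀o.2] at h1
  have h2 : P.height ≤ P'.height := by
    rw [hht]
    exact Order.add_one_le_of_lt h1
  exact (Ideal.eq_of_le_of_height_le P' hP'P h2).ge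

end helpers

section main

variable {R : Type u} [CommRing R] [IsDomain R] [IsNoetherianRing R] [IsIntegrallyClosed R]
  [IsLocalRing R]

/-- Core of the argument: `2 ≤ ht 𝔪`, `s` a nonempty finite set of height-one primes. -/
theorem exists_reduced_of_primes_aux (hc : CAlg.IsCatenary R)
    (hm2 : ∀ q : Ideal R, HtOne q → q ≠ maximalIdeal R)
    (s : Finset (Ideal R)) (hs : ∀ p ∈ s, HtOne p) (hne : s.Nonempty) :
    ∃ f : R, f ≠ 0 ∧ (∀ p ∈ s, f ∈ p) ∧ IsReduced (R ⧸ Ideal.span {f}) := by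
  classical
  obtain ⟨p0, hp0⟩ := hne
  -- Step 1: x
  obtain ⟨x, hx0, hxs⟩ := exists_ord_eq s hs (fun _ => 1)
  have hxs' : ∀ p ∈ s, ord p x = 1 := fun p hp => by rw [hxs p hp]; rfl
  -- Step 2: h and 𝔞
  have hfinx := Ideal.finite_minimalPrimes_of_isNoetherianRing R (Ideal.span {x})
  have hMinx : ∀ q ∈ hfinx.toFinset, HtOne q := fun q hq =>
    htOne_of_mem_minimalPrimes hx0 (hfinx.mem_toFinset.mp hq)
  obtain ⟨h, hhm, hh'⟩ := exists_mem_notMem_of_finset (maximalIdeal R) hfinx.toFinset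
    (fun q hq => (hMinx q hq).1)
    (fun q hq hle => hm2 q (hMinx q hq)
      ((IsLocalRing.maximalIdeal.isMaximal R).eq_of_le (hMinx q hq).1.ne_top hle).symm)
  have hh : ∀ q ∈ (Ideal.span {x}).minimalPrimes, h ∉ q := fun q hq =>
    hh' q (hfinx.mem_toFinset.mpr hq)
  set 𝔞 : Ideal R := Ideal.span {x, h} with h𝔞
  have hArt : IsArtinianRing (Lam 𝔞) := isArtinianRing_Lam 𝔞
  -- Fact A: no height-one prime contains 𝔞
  have factA : ∀ q, HtOne q → ¬ 𝔞 ≤ q := fun q hq hle => by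
    have hxq : x ∈ q := hle (Ideal.subset_span (by simp))
    have hhq : h ∈ q := hle (Ideal.subset_span (by simp))
    exact hh q (mem_minimalPrimes_of_htOne hx0 hq hxq) hhq
  -- the admissible perturbations
  let G : R → Prop := fun g => g ∈ maximalIdeal R * 𝔞 ∧ ∀ p ∈ s, (2 : ℕ∞) ≤ ord p g
  have hG0 : G 0 := ⟨zero_mem _, fun p hp => by rw [ord_zero (hs p hp)]; exact le_top⟩
  have key1 : ∀ g, G g → ∀ p ∈ s, ord p (x + g) = 1 := fun g hg p hp => by
    rw [ord_add_eq_of_lt (hs p hp), hxs' p hp]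
    rw [hxs' p hp]
    exact lt_of_lt_of_le (by norm_num) (hg.2 p hp)
  have nz_of : ∀ f : R, (∀ p ∈ s, ord p f = 1) → f ≠ 0 := by
    rintro f hf rfl
    have := hf p0 hp0
    rw [ord_zero (hs p0 hp0)] at this
    exact absurd this (by simp)
  have key2 : ∀ g, G g → Ideal.span {x + g, h} = 𝔞 := fun g hg =>
    Groth.Agent.Lib.NormalDimTwo6.span_pair_add_eq x h g hg.1
  have key3 : ∀ g, G g → ∀ q ∈ (Ideal.span {x + g}).minimalPrimes,
      HtOne q ∧ h ∉ q ∧ ¬ (maximalIdeal R * 𝔞 ≤ q) := fun g hg q hq => by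
    have hqo := htOne_of_mem_minimalPrimes (nz_of _ (key1 g hg)) hq
    have hqp := hqo.1
    refine ⟨hqo, fun hhq => factA q hqo ?_, fun hle => ?_⟩
    · rw [← key2 g hg, Ideal.span_le]
      intro y hy
      rcases hy with rfl | rfl
      · exact hq.1.2 (Ideal.subset_span rfl)
      · exact hhq
    · rcases (Ideal.IsPrime.mul_le hqp).mp hle with h1 | h1
      · exact hm2 q hqo ((IsLocalRing.maximalIdeal.isMaximal R).eq_of_le hqp.ne_top h1).symm
      · exact factA q hqo h1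
  -- Step 3: minimal choice
  let 𝒮 : Set (Ideal (Lam 𝔞)) :=
    {I | ∃ g, G g ∧ I = (Ideal.span {x + g}).radical.map (toLam 𝔞)}
  have h𝒮 : 𝒮.Nonempty := ⟨_, 0, hG0, rfl⟩
  obtain ⟨I₀, ⟨g, hg, rfl⟩, hmin⟩ := IsArtinian.set_has_minimal 𝒮 h𝒮
  have hfin := Ideal.finite_minimalPrimes_of_isNoetherianRing R (Ideal.span {x + g})
  set T : Finset (Ideal R) := hfin.toFinset with hT
  have hTmem : ∀ q, q ∈ T ↔ q ∈ (Ideal.span {x + g}).minimalPrimes := fun q => hfin.mem_toFinset
  have hTo : ∀ q ∈ T, HtOne q := fun q hq => (key3 g hg q ((hTmem q).mp hq)).1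
  have hTf : ∀ q ∈ T, x + g ∈ q := fun q hq => ((hTmem q).mp hq).1.2 (Ideal.subset_span rfl)
  -- the correction g'
  obtain ⟨g₁, -, hg₁⟩ := exists_ord_eq T hTo (fun q => if ord q (x + g) = 1 then 2 else 1)
  obtain ⟨u, huK, huT⟩ := exists_mem_notMem_of_finset (maximalIdeal R * 𝔞) T
    (fun q hq => (hTo q hq).1) (fun q hq => (key3 g hg q ((hTmem q).mp hq)).2.2)
  have hg'ord : ∀ q ∈ T, ord q (g₁ * u) = if ord q (x + g) = 1 then 2 else 1 := fun q hq => by
    rw [ord_mul (hTo q hq), hg₁ q hq, (ord_eq_zero_iff (hTo q hq)).mpr (huT q hq), add_zero]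
    split_ifs <;> rfl
  have hsT : ∀ p ∈ s, p ∈ T := fun p hp => by
    rw [hTmem]
    refine mem_minimalPrimes_of_htOne (nz_of _ (key1 g hg)) (hs p hp) ?_
    exact (ord_pos_iff (hs p hp)).mp (by rw [key1 g hg p hp]; norm_num)
  have hGg' : G (g + g₁ * u) := by
    refine ⟨Ideal.add_mem _ hg.1 (Ideal.mul_mem_left _ _ huK), fun p hp => ?_⟩
    refine le_trans ?_ (min_le_ord_add (hs p hp) g (g₁ * u))
    refine le_min (hg.2 p hp) ?_
    rw [hg'ord p (hsT p hp), if_pos (key1 g hg p hp)]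
  have hf'T : ∀ q ∈ T, ord q (x + (g + g₁ * u)) = 1 := fun q hq => by
    have hqo := hTo q hq
    rw [← add_assoc]
    by_cases hgood : ord q (x + g) = 1
    · rw [ord_add_eq_of_lt hqo, hgood]
      rw [hgood, hg'ord q hq, if_pos hgood]
      norm_num
    · have hpos : 0 < ord q (x + g) := (ord_pos_iff hqo).mpr (hTf q hq)
      have h2 : (2 : ℕ∞) ≤ ord q (x + g) := by
        have h1 : (1 : ℕ∞) ≤ ord q (x + g) := Order.one_le_iff_pos.mpr hpos
        have h1' : (1 : ℕ∞) < ord q (x + g) := lt_of_le_of_ne h1 (Ne.symm hgood)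
        have := Order.add_one_le_of_lt h1'
        rwa [one_add_one_eq_two] at this
      rw [add_comm (x + g), ord_add_eq_of_lt hqo, hg'ord q hq, if_neg hgood]
      rw [hg'ord q hq, if_neg hgood]
      exact lt_of_lt_of_le (by norm_num) h2
  have hf'mem : ∀ q ∈ T, x + (g + g₁ * u) ∈ q := fun q hq =>
    (ord_pos_iff (hTo q hq)).mp (by rw [hf'T q hq]; norm_num)
  -- radicals
  have hrad : (Ideal.span {x + (g + g₁ * u)}).radical ≤ (Ideal.span {x + g}).radical := by
    rw [← Ideal.sInf_minimalPrimes (I := Ideal.span {x + g})]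
    refine le_sInf fun q hq => ?_
    have hqp := hq.1.1
    rw [hqp.radical_le_iff, Ideal.span_singleton_le_iff_mem]
    exact hf'mem q ((hTmem q).mpr hq)
  have heq : (Ideal.span {x + (g + g₁ * u)}).radical.map (toLam 𝔞) =
      (Ideal.span {x + g}).radical.map (toLam 𝔞) := by
    by_contra hne'
    exact hmin _ ⟨g + g₁ * u, hGg', rfl⟩ (lt_of_le_of_ne (Ideal.map_mono hrad) hne')
  have hE := exists_mul_mem_of_map_toLam_le (le_of_eq heq.symm)
  -- conclusion
  have hf'0 := nz_of _ (key1 _ hGg')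
  refine ⟨x + (g + g₁ * u), hf'0, fun p hp =>
    (ord_pos_iff (hs p hp)).mp (by rw [key1 _ hGg' p hp]; norm_num), ?_⟩
  apply isReduced_of_forall_ord_eq_one hf'0
  intro qs hqso hfqs
  by_cases hqsT : qs ∈ T
  · exact hf'T qs hqsT
  exfalso
  have hqsmin := mem_minimalPrimes_of_htOne hf'0 hqso hfqs
  have hqsp := hqso.1
  have hhqs : h ∉ qs := (key3 _ hGg' qs hqsmin).2.1
  -- a minimal prime P over qs + (h)
  have hproper : qs ⊔ Ideal.span {h} ≠ ⊤ := by
    intro htop
    have hle : qs ⊔ Ideal.span {h} ≤ maximalIdeal R :=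
      sup_le (IsLocalRing.le_maximalIdeal hqsp.ne_top)
        ((Ideal.span_singleton_le_iff_mem _).mpr hhm)
    rw [htop] at hle
    exact (IsLocalRing.maximalIdeal.isMaximal R).ne_top (top_le_iff.mp hle)
  obtain ⟨P, hP⟩ := Ideal.nonempty_minimalPrimes hproper
  have hPp := hP.1.1
  have h𝔞P : 𝔞 ≤ P := by
    rw [← key2 _ hGg', Ideal.span_le]
    intro y hy
    rcases hy with rfl | rfl
    · exact hP.1.2 (Ideal.mem_sup_left hfqs)
    · exact hP.1.2 (Ideal.mem_sup_right (Ideal.subset_span rfl))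
  have hPmin : P ∈ 𝔞.minimalPrimes := mem_minimalPrimes_pair hc hx0 hh hqso hhqs hP h𝔞P
  have hqsP : qs ≤ P := le_sup_left.trans hP.1.2
  -- localize at P
  set S := Localization.AtPrime P with hSdef
  set J := (Ideal.span {x + g}).radical with hJ
  set J' := (Ideal.span {x + (g + g₁ * u)}).radical with hJ'
  have hf'rad : x + (g + g₁ * u) ∈ J' := Ideal.le_radical (Ideal.subset_span rfl)
  have hhS : algebraMap R S h ∈ maximalIdeal S :=
    (IsLocalization.AtPrime.to_map_mem_maximal_iff S P h).mpr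
      (hP.1.2 (Ideal.mem_sup_right (Ideal.subset_span rfl)))
  have hNak : J.map (algebraMap R S) ≤ J'.map (algebraMap R S) := by
    refine Submodule.le_of_le_smul_of_le_jacobson_bot (I := maximalIdeal S)
      (N := J'.map (algebraMap R S)) (N' := J.map (algebraMap R S))
      (IsNoetherian.noetherian _) (maximalIdeal_le_jacobson ⊥) ?_
    rw [Ideal.map_le_iff_le_comap]
    intro a ha
    obtain ⟨t, ht, hta⟩ := hE a ha
    rw [← key2 _ hGg'] at hta
    obtain ⟨b, hb, c, hc', hbc⟩ := Submodule.mem_sup.mp hta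
    obtain ⟨α, β, hαβ⟩ := Ideal.mem_span_pair.mp hc'
    have hβ : β ∈ J := by
      rw [hJ, ← Ideal.sInf_minimalPrimes (I := Ideal.span {x + g}), Submodule.mem_sInf]
      intro q hq
      have hqp := hq.1.1
      have h3 : β * h ∈ J := by
        have : β * h = t * a - b - α * (x + (g + g₁ * u)) := by rw [← hbc, ← hαβ]; ring
        rw [this]
        exact sub_mem (sub_mem (Ideal.mul_mem_left _ _ ha) (hrad hb))
          (Ideal.mul_mem_left _ _ (hrad hf'rad))
      have h4 : β * h ∈ q := by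
        rw [hJ, ← Ideal.sInf_minimalPrimes (I := Ideal.span {x + g}), Submodule.mem_sInf] at h3
        exact h3 q hq
      exact (hqp.mem_or_mem h4).resolve_right (key3 g hg q hq).2.1
    have htu : IsUnit (algebraMap R S t) :=
      (IsLocalization.AtPrime.isUnit_to_map_iff S P t).mpr (ht P hPmin)
    rw [Ideal.mem_comap]
    have h5 : algebraMap R S (t * a) ∈
        J'.map (algebraMap R S) ⊔ maximalIdeal S • J.map (algebraMap R S) := by
      have : t * a = (b + α * (x + (g + g₁ * u))) + h * β := by rw [← hbc, ← hαβ]; ring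
      rw [this, map_add, map_mul (algebraMap R S) h β]
      refine Submodule.add_mem_sup (Ideal.mem_map_of_mem _
        (Ideal.add_mem _ hb (Ideal.mul_mem_left _ _ hf'rad))) ?_
      rw [← smul_eq_mul]
      exact Submodule.smul_mem_smul hhS (Ideal.mem_map_of_mem _ hβ)
    rw [map_mul] at h5
    have h6 := Ideal.mul_mem_left _ (↑htu.unit⁻¹ : S) h5
    rwa [← mul_assoc, IsUnit.val_inv_mul, one_mul] at h6
  -- J' ⊆ qs, so the product of the primes of T lies in qs after localizing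
  have hJ'qs : J' ≤ qs := hqsp.radical_le_iff.mpr ((Ideal.span_singleton_le_iff_mem _).mpr hfqs)
  have hprodJ : ∏ q ∈ T, q ≤ J := by
    rw [hJ, ← Ideal.sInf_minimalPrimes (I := Ideal.span {x + g})]
    refine le_sInf fun q hq => ?_
    exact (Ideal.prod_le_inf (s := T) (f := fun q : Ideal R => q)).trans
      (Finset.inf_le (f := fun q : Ideal R => q) (b := q) ((hTmem q).mpr hq))
  have hprodqs : ∏ q ∈ T, q ≤ qs := by
    intro a ha
    have h1 : algebraMap R S a ∈ qs.map (algebraMap R S) :=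
      Ideal.map_mono hJ'qs (hNak (Ideal.mem_map_of_mem _ (hprodJ ha)))
    have h2 : a ∈ (qs.map (algebraMap R S)).comap (algebraMap R S) := h1
    have h3 := IsLocalization.under_map_of_isPrime_disjoint P.primeCompl S hqsp
      (Set.disjoint_left.mpr fun y hy hyq => hy (hqsP hyq))
    rw [Ideal.under_def] at h3
    rwa [h3] at h2
  obtain ⟨q, hq, hqle⟩ := (Ideal.IsPrime.prod_le hqsp).mp hprodqs
  exact hqsT ((hTo q hq).eq_of_le hqso hqle ▸ hq)

end main

section main

variable {R : Type u} [CommRing R] [IsDomain R] [IsNoetherianRing R] [IsIntegrallyClosed R]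
  [IsLocalRing R]

/-- `R` a catenary normal Noetherian local domain, `s` a finite set of height-one primes: there is
`f ≠ 0` in all of them with `R/(f)` reduced. -/
theorem exists_reduced_of_primes (hc : CAlg.IsCatenary R) (s : Finset (Ideal R))
    (hs : ∀ p ∈ s, HtOne p) :
    ∃ f : R, f ≠ 0 ∧ (∀ p ∈ s, f ∈ p) ∧ IsReduced (R ⧸ Ideal.span {f}) := by
  rcases s.eq_empty_or_nonempty with rfl | hne
  · refine ⟨1, one_ne_zero, by simp, ?_⟩
    have : Subsingleton (R ⧸ Ideal.span {(1 : R)}) := by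
      rw [Ideal.span_singleton_one]
      exact Ideal.Quotient.subsingleton_iff.mpr rfl
    exact ⟨fun x _ => Subsingleton.elim _ _⟩
  by_cases hm : ∀ q : Ideal R, HtOne q → q ≠ maximalIdeal R
  · exact exists_reduced_of_primes_aux hc hm s hs hne
  · push Not at hm
    obtain ⟨q₀, hq₀, rfl⟩ := hm
    have huniq : ∀ q : Ideal R, HtOne q → q = maximalIdeal R := fun q hq =>
      hq.eq_of_le hq₀ (IsLocalRing.le_maximalIdeal hq.1.ne_top)
    obtain ⟨p0, hp0⟩ := hne
    obtain ⟨x, hx0, hxs⟩ := exists_ord_eq s hs (fun _ => 1)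
    refine ⟨x, hx0, fun p hp => (ord_pos_iff (hs p hp)).mp (by rw [hxs p hp]; norm_num), ?_⟩
    apply isReduced_of_forall_ord_eq_one hx0
    intro q hq _
    have : q = p0 := (huniq q hq).trans (huniq p0 (hs p0 hp0)).symm
    rw [this, hxs p0 hp0]; rfl

/-- `R` a catenary normal Noetherian local domain, `J` a nonzero radical ideal: `J` contains a
nonzero `f` with `R/(f)` reduced. -/
theorem exists_mem_reduced (hc : CAlg.IsCatenary R) (J : Ideal R) (hJ : J.IsRadical)
    (hJ0 : J ≠ ⊥) : ∃ f ∈ J, f ≠ 0 ∧ IsReduced (R ⧸ Ideal.span {f}) := by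
  classical
  obtain ⟨x₀, hx₀J, hx₀⟩ := Submodule.exists_mem_ne_zero_of_ne_bot hJ0
  have hfin := Ideal.finite_minimalPrimes_of_isNoetherianRing R (Ideal.span {x₀})
  obtain ⟨f, hf0, hfs, hred⟩ := exists_reduced_of_primes hc hfin.toFinset
    (fun p hp => htOne_of_mem_minimalPrimes hx₀ (hfin.mem_toFinset.mp hp))
  refine ⟨f, ?_, hf0, hred⟩
  have h1 : f ∈ (Ideal.span {x₀}).radical := by
    rw [← Ideal.sInf_minimalPrimes, Submodule.mem_sInf]
    exact fun q hq => hfs q (hfin.mem_toFinset.mpr hq)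
  have h2 : (Ideal.span {x₀}).radical ≤ J.radical :=
    Ideal.radical_mono ((Ideal.span_singleton_le_iff_mem _).mpr hx₀J)
  exact hJ (h2 h1)

end main

end Groth.Agent.Lib.NormalCatenary6
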