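import Groth.Agent.Lib.ProdValFlat76
import Mathlib

/-!
# A normal domain is a fibre product `V ×_L K` with `V` of weak dimension ≤ 1 (helper76)

`V = Π W` over all valuation subrings `W ⊇ A` of `K = Frac A`, `L = Frac V` (total ring of
fractions), `K → L` induced by the diagonal `A → V`.
-/

set_option autoImplicit false
universe u
open CategoryTheory

namespace Groth.Agent.Lib.NormalFibProd76

/-- the image of an integrally closed domain in its fraction field is integrally closed in it -/
theorem isIntegrallyClosedIn_range (A K : Type u) [CommRing A] [IsDomain A] [Field K] [Algebra A K]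
    [IsFractionRing A K] [IsIntegrallyClosed A] :
    IsIntegrallyClosedIn (algebraMap A K).range K := by
  rw [Subring.isIntegrallyClosedIn_iff]
  intro x hx
  let _ : Algebra A (algebraMap A K).range := (algebraMap A K).rangeRestrict.toAlgebra
  have : IsScalarTower A (algebraMap A K).range K := IsScalarTower.of_algebraMap_eq (fun a => rfl)
  have : Algebra.IsIntegral A (algebraMap A K).range :=
    Algebra.isIntegral_of_surjective (algebraMap A K).rangeRestrict_surjective
  have hx' : IsIntegral A x := isIntegral_trans x hx
  obtain ⟨a, rfl⟩ := (IsIntegrallyClosed.isIntegral_iff (R := A) (K := K)).mp hx'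
  exact ⟨a, rfl⟩

variable (A K : Type u) [CommRing A] [IsDomain A] [Field K] [Algebra A K] [IsFractionRing A K]

/-- valuation subrings of `K` containing `A` -/
abbrev VIdx : Type u := {W : ValuationSubring K // (algebraMap A K).range ≤ W.toSubring}

/-- the product of all valuation rings of `K` containing `A` -/
abbrev VRing : Type u := Π W : VIdx A K, W.1

/-- the total ring of fractions of `VRing` -/
abbrev LRing : Type u := FractionRing (VRing A K)

/-- the diagonal map -/
def fMap : A →+* VRing A K :=
  RingHom.pi (fun W => RingHom.codRestrict (algebraMap A K) W.1 (fun a => W.2 ⟨a, rfl⟩))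

theorem fMap_apply (a : A) (W : VIdx A K) : ((fMap A K a W : W.1) : K) = algebraMap A K a := rfl

theorem algebraMap_ne_zero (y : nonZeroDivisors A) : algebraMap A K y ≠ 0 := by
  intro h0
  exact nonZeroDivisors.coe_ne_zero y ((IsFractionRing.injective A K) (by rw [h0, map_zero]))

theorem fMap_mem_nonZeroDivisors (y : nonZeroDivisors A) :
    fMap A K y ∈ nonZeroDivisors (VRing A K) := by
  rw [mem_nonZeroDivisors_iff_right]
  intro z hz
  funext W
  have h1 : z W * fMap A K y W = 0 := congrFun hz W
  have h2 : (fMap A K y W : W.1) ≠ 0 := by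
    intro h0
    have h3 : ((fMap A K y W : W.1) : K) = 0 := by rw [h0]; rfl
    rw [fMap_apply] at h3
    exact algebraMap_ne_zero A K y h3
  exact (mul_eq_zero.mp h1).resolve_right h2

theorem isUnit_gf (y : nonZeroDivisors A) :
    IsUnit (((algebraMap (VRing A K) (LRing A K)).comp (fMap A K)) y) :=
  IsLocalization.map_units (LRing A K) ⟨fMap A K y, fMap_mem_nonZeroDivisors A K y⟩

/-- the induced map `K → L` -/
noncomputable def hMap : K →+* LRing A K :=
  IsLocalization.lift (M := nonZeroDivisors A) (S := K) (isUnit_gf A K)

theorem hMap_algebraMap (a : A) :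
    hMap A K (algebraMap A K a) = algebraMap (VRing A K) (LRing A K) (fMap A K a) :=
  IsLocalization.lift_eq (isUnit_gf A K) a

theorem fibre [IsIntegrallyClosed A] (v : VRing A K) (k : K)
    (hvk : algebraMap (VRing A K) (LRing A K) v = hMap A K k) :
    ∃! a : A, fMap A K a = v ∧ algebraMap A K a = k := by
  have hR₀ : IsIntegrallyClosedIn (algebraMap A K).range K := isIntegrallyClosedIn_range A K
  have hg : Function.Injective (algebraMap (VRing A K) (LRing A K)) :=
    IsFractionRing.injective _ _
  obtain ⟨⟨a, b⟩, rfl⟩ := IsLocalization.mk'_surjective (nonZeroDivisors A) k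
  have hspec : IsLocalization.mk' K a b * algebraMap A K b = algebraMap A K a :=
    IsLocalization.mk'_spec K a b
  have h1 : algebraMap (VRing A K) (LRing A K) (v * fMap A K b) =
      algebraMap (VRing A K) (LRing A K) (fMap A K a) := by
    have := congrArg (hMap A K) hspec
    rw [map_mul, ← hvk, hMap_algebraMap, hMap_algebraMap] at this
    rw [map_mul]
    exact this
  have h2 := hg h1
  have hb0 : algebraMap A K b ≠ 0 := algebraMap_ne_zero A K b
  have hvW : ∀ W : VIdx A K, ((v W : W.1) : K) = IsLocalization.mk' K a b := by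
    intro W
    have h3 : ((v W * fMap A K b W : W.1) : K) = ((fMap A K a W : W.1) : K) :=
      congrArg (fun t : VRing A K => ((t W : W.1) : K)) h2
    rw [MulMemClass.coe_mul, fMap_apply, fMap_apply, ← hspec] at h3
    exact mul_right_cancel₀ hb0 h3
  have hk : IsLocalization.mk' K a b ∈ (algebraMap A K).range := by
    by_contra hk
    obtain ⟨W, hW, hkW⟩ := Subring.exists_le_valuationSubring_of_isIntegrallyClosedIn hk
    apply hkW
    rw [← hvW ⟨W, hW⟩]
    exact (v ⟨W, hW⟩).2
  obtain ⟨a₀, ha₀⟩ := hk
  refine ⟨a₀, ⟨?_, ha₀⟩, ?_⟩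
  · funext W
    apply Subtype.ext
    rw [fMap_apply, ha₀, hvW]
  · rintro a' ⟨_, ha'⟩
    exact IsFractionRing.injective A K (ha'.trans ha₀.symm)

/-- **Main theorem.** -/
theorem exists_cartesian_square [IsIntegrallyClosed A] :
    ∃ (V L : Type u) (_ : CommRing V) (_ : CommRing L) (f : A →+* V) (g : V →+* L) (h : K →+* L),
      g.comp f = h.comp (algebraMap A K) ∧
      (∀ I : Ideal V, Module.Flat V I) ∧ g.Flat ∧ Function.Injective g ∧
      Epi (CommRingCat.ofHom g) ∧
      ∀ (v : V) (k : K), g v = h k → ∃! a : A, f a = v ∧ algebraMap A K a = k := by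
  refine ⟨VRing A K, LRing A K, inferInstance, inferInstance, fMap A K,
    algebraMap (VRing A K) (LRing A K), hMap A K, ?_, ?_, ?_, IsFractionRing.injective _ _, ?_,
    fibre A K⟩
  · ext a
    exact (hMap_algebraMap A K a).symm
  · intro I
    exact Groth.Agent.Lib.ProdValFlat76.flat_ideal (fun W : VIdx A K => (W.1 : Type u)) I
  · exact RingHom.flat_algebraMap_iff.mpr inferInstance
  · exact IsLocalization.epi (nonZeroDivisors (VRing A K)) (LRing A K)

end Groth.Agent.Lib.NormalFibProd76
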