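import Groth.Agent.S10494
import Groth.Agent.Lib.H30NormalSmoothSch
import Groth.Agent.Lib.H69AlgSpReduced

/-!
# Global sections of a normal integral algebraic space (owner: helper46)

* `existsUnique_mul_eq_of_forall_germ_dvd`: on a scheme whose stalks are domains, division of global sections by a
  section with nonzero germs can be tested stalkwise.
* `dvd_of_isIntegral_div`: integrality of `a / b` over `R` gives `φ b ∣ φ a` in an integrally closed domain `A`
  receiving an injective ring map `φ : R → A`.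
* `normal_stalks_of_repWith_etale`: a scheme étale over a normal sheaf has normal stalks.
* `germ_res_ne_zero`: nonzero global functions on an integral algebraic space have nonzero germs everywhere.
* `isIntegrallyClosed_gsect`: `Γ(X, O_X)` is integrally closed for `X` normal and integral.
-/

set_option autoImplicit false
set_option linter.style.haveILetI false
universe u
open CategoryTheory CategoryTheory.Limits AlgebraicGeometry TopologicalSpace Opposite

namespace Groth.Agent.Lib.NormalGSect46

open AlgSp Groth.Agent.S10494.Aux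

section Scheme

theorem map_map_top (E : Scheme.{u}) {W V : E.Opens} (i : W ⟶ V) (s : Γ(E, ⊤)) :
    E.presheaf.map i.op (E.presheaf.map (homOfLE le_top : V ⟶ ⊤).op s) =
      E.presheaf.map (homOfLE le_top : W ⟶ ⊤).op s := by
  rw [← ConcreteCategory.comp_apply, ← Functor.map_comp]
  rfl

theorem section_ext' (E : Scheme.{u}) (V : E.Opens) (s t : Γ(E, V))
    (h : ∀ (x : E) (hx : x ∈ V), E.presheaf.germ V x hx s = E.presheaf.germ V x hx t) : s = t :=
  TopCat.Presheaf.section_ext E.sheaf V s t h

/-- Division of global sections can be done stalkwise when stalks are domains and the divisor has nonzero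
germs. -/
theorem existsUnique_mul_eq_of_forall_germ_dvd (E : Scheme.{u}) (a b : Γ(E, ⊤))
    (hdom : ∀ e : E, IsDomain (E.presheaf.stalk e))
    (hb : ∀ e : E, E.presheaf.germ ⊤ e trivial b ≠ 0)
    (hdvd : ∀ e : E, E.presheaf.germ ⊤ e trivial b ∣ E.presheaf.germ ⊤ e trivial a) :
    ∃! c : Γ(E, ⊤), c * b = a := by
  have huniq : ∀ (V : E.Opens) (c c' : Γ(E, V)),
      c * E.presheaf.map (homOfLE le_top : V ⟶ ⊤).op b = c' * E.presheaf.map (homOfLE le_top : V ⟶ ⊤).op b →
      c = c' := by
    intro V c c' h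
    apply section_ext' E V
    intro x hx
    have hd : IsDomain (E.presheaf.stalk x) := hdom x
    have h1 := congrArg (E.presheaf.germ V x hx) h
    rw [map_mul, map_mul, TopCat.Presheaf.germ_res_apply] at h1
    exact mul_right_cancel₀ (hb x) h1
  have hloc : ∀ e : E, ∃ (V : E.Opens) (_ : e ∈ V) (c : Γ(E, V)),
      c * E.presheaf.map (homOfLE le_top : V ⟶ ⊤).op b = E.presheaf.map (homOfLE le_top : V ⟶ ⊤).op a := by
    intro e
    obtain ⟨q, hq⟩ := hdvd e
    obtain ⟨V', heV', c', hc'⟩ := E.presheaf.exists_germ_eq q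
    have h1 : E.presheaf.germ V' e heV' (c' * E.presheaf.map (homOfLE le_top : V' ⟶ ⊤).op b) =
        E.presheaf.germ V' e heV' (E.presheaf.map (homOfLE le_top : V' ⟶ ⊤).op a) := by
      rw [map_mul, TopCat.Presheaf.germ_res_apply, TopCat.Presheaf.germ_res_apply, hc', hq, mul_comm]
    obtain ⟨W, heW, i1, i2, hW⟩ := E.presheaf.germ_eq e heV' heV' _ _ h1
    refine ⟨W, heW, E.presheaf.map i1.op c', ?_⟩
    rw [map_mul, map_map_top, map_map_top] at hW
    exact hW
  choose V heV c hc using hloc
  have hcompat : TopCat.Presheaf.IsCompatible E.presheaf V c := by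
    intro x y
    apply huniq
    have e1 : E.presheaf.map (Opens.infLELeft (V x) (V y)).op (c x) *
        E.presheaf.map (homOfLE le_top : V x ⊓ V y ⟶ ⊤).op b =
        E.presheaf.map (homOfLE le_top : V x ⊓ V y ⟶ ⊤).op a := by
      rw [← map_map_top E (Opens.infLELeft (V x) (V y)) b, ← map_mul, hc x, map_map_top]
    have e2 : E.presheaf.map (Opens.infLERight (V x) (V y)).op (c y) *
        E.presheaf.map (homOfLE le_top : V x ⊓ V y ⟶ ⊤).op b =
        E.presheaf.map (homOfLE le_top : V x ⊓ V y ⟶ ⊤).op a := by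
      rw [← map_map_top E (Opens.infLERight (V x) (V y)) b, ← map_mul, hc y, map_map_top]
    rw [e1, e2]
  obtain ⟨s, hs, -⟩ : ∃! s : Γ(E, ⊤), ∀ x : E, E.presheaf.map (homOfLE le_top : V x ⟶ ⊤).op s = c x :=
    E.sheaf.existsUnique_gluing' V ⊤ (fun x => homOfLE le_top)
      (fun x _ => Opens.mem_iSup.mpr ⟨x, heV x⟩) c hcompat
  have hmap_id : ∀ t : Γ(E, ⊤), E.presheaf.map (homOfLE le_top : (⊤ : E.Opens) ⟶ ⊤).op t = t := by
    intro t
    have : (homOfLE le_top : (⊤ : E.Opens) ⟶ ⊤) = 𝟙 _ := Subsingleton.elim _ _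
    rw [this, op_id, E.presheaf.map_id]
    rfl
  have hsb : s * b = a := by
    apply section_ext' E ⊤
    intro x hx
    have h1 := congrArg (E.presheaf.germ (V x) x (heV x)) (hc x)
    rw [map_mul, TopCat.Presheaf.germ_res_apply, TopCat.Presheaf.germ_res_apply] at h1
    rw [← h1, map_mul]
    congr 1
    have h2 := congrArg (E.presheaf.germ (V x) x (heV x)) (hs x)
    rw [← h2]
    exact (TopCat.Presheaf.germ_res_apply E.presheaf (homOfLE le_top : V x ⟶ ⊤) x (heV x) s).symm
  refine ⟨s, hsb, fun s' hs' => ?_⟩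
  apply huniq ⊤
  rw [hmap_id, hs', hsb]

theorem dvd_of_isIntegral_div {R A : Type*} [CommRing R] [IsDomain R] [CommRing A] [IsDomain A]
    [IsIntegrallyClosed A] (φ : R →+* A) (hφ : Function.Injective φ) (a b : R) (hb : b ≠ 0)
    (hx : IsIntegral R (algebraMap R (FractionRing R) a / algebraMap R (FractionRing R) b)) :
    φ b ∣ φ a := by
  have hφ' : Function.Injective ((algebraMap A (FractionRing A)).comp φ) :=
    (IsFractionRing.injective A (FractionRing A)).comp hφ
  let ι : FractionRing R →+* FractionRing A := IsFractionRing.lift hφ'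
  have hι : ∀ r, ι (algebraMap R (FractionRing R) r) = algebraMap A (FractionRing A) (φ r) :=
    fun r => IsFractionRing.lift_algebraMap hφ' r
  have hint : IsIntegral A (ι (algebraMap R (FractionRing R) a / algebraMap R (FractionRing R) b)) := by
    obtain ⟨p, hp, hpx⟩ := hx
    refine ⟨p.map φ, hp.map _, ?_⟩
    rw [Polynomial.eval₂_map]
    have hcomp : (algebraMap A (FractionRing A)).comp φ = ι.comp (algebraMap R (FractionRing R)) := by
      ext r
      simp only [RingHom.comp_apply, hι]
    rw [hcomp, ← Polynomial.hom_eval₂, hpx, map_zero]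
  obtain ⟨y, hy⟩ := IsIntegrallyClosed.algebraMap_eq_of_integral hint
  refine ⟨y, ?_⟩
  apply IsFractionRing.injective A (FractionRing A)
  rw [map_mul, hy, map_div₀, hι, hι]
  have hb' : algebraMap A (FractionRing A) (φ b) ≠ 0 := by
    intro h0
    apply hb
    apply hφ
    rw [map_zero]
    exact IsFractionRing.injective A (FractionRing A) (by rw [h0, map_zero])
  field_simp

end Scheme

variable {S : Scheme.{u}}

/-- A scheme étale over a sheaf with a normal étale atlas has normal stalks. -/
theorem normal_stalks_of_repWith_etale {F : Sp S}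
    (hF : EtaleLocally (fun U => ∀ u : ↥U, IsDomain ↥(U.presheaf.stalk u) ∧
      IsIntegrallyClosed ↥(U.presheaf.stalk u)) F) {W : Over S}
    (a : (yon S).obj W ⟶ F) (ha : RepWith @Etale a) (w : ↥W.left) :
    IsDomain ↥(W.left.presheaf.stalk w) ∧ IsIntegrallyClosed ↥(W.left.presheaf.stalk w) := by
  obtain ⟨V, b, hbe, hbs, hV⟩ := hF
  obtain ⟨T, s, t, hse, hss, sq⟩ := Groth.Agent.Lib.H69AlgSpReduced.exists_chart (𝟙 F) a b hbe hbs
  rw [Category.comp_id] at sq
  have hte : Etale t.left := ha.2 b _ _ sq.flip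
  haveI : Etale s.left := hse
  obtain ⟨τ, hτ⟩ := hss.surj w
  have h1 := (Groth.Agent.Lib.H30NormalSmoothSch.stalk_iff_of_smooth t.left τ).1.2 (hV _)
  have h2 := (Groth.Agent.Lib.H30NormalSmoothSch.stalk_iff_of_smooth s.left τ).1.1 h1
  rw [hτ] at h2
  exact h2

variable (X : AlgSp.Space S)

/-- If a global function vanishes on `E`, then the image of `E` in `|X|` misses its non-vanishing locus. -/
theorem ofPt_notMem_D_of_res_eq_zero (E : AlgSp.EtOver X.obj) (f : ↥(AlgSp.gsectEt (AlgSp.OEt X.obj)))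
    (h : res X E f = 0) (e : ↥E.obj.left.left) : AlgSp.Points.ofPt E.obj.hom e ∉ D X f := by
  intro hmem
  obtain ⟨E', e', he', hee'⟩ := Set.mem_iUnion.1 hmem
  have sq := E.property.rep.isPullback' E'.obj.hom
  obtain ⟨w, hw1, hw2⟩ :=
    Groth.Agent.Lib.H86CartierChart2.exists_scheme_point_of_isPullback sq e e' hee'.symm
  have hsnd : Etale (E.property.rep.snd E'.obj.hom).left := E.property.property_snd E'.obj.hom
  have hsnd' : AlgSp.RepWith @Etale ((AlgSp.yon S).map (E.property.rep.snd E'.obj.hom)) :=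
    (AlgSp.repWith_yon_map_iff _ _).2 hsnd
  let E'' : AlgSp.EtOver X.obj :=
    AlgSp.EtOver.mk ((AlgSp.yon S).map (E.property.rep.snd E'.obj.hom) ≫ E'.obj.hom)
      (MorphismProperty.comp_mem _ _ _ hsnd' E'.property)
  let g₂ : E'' ⟶ E' := AlgSp.EtOver.homMk (E.property.rep.snd E'.obj.hom) rfl
  let g₁ : E'' ⟶ E := AlgSp.EtOver.homMk (E.property.rep.fst' E'.obj.hom) sq.w
  have h2 : w ∈ E''.obj.left.left.basicOpen (res X E'' f) := by
    rw [res_comp X g₂ f, ← Scheme.preimage_basicOpen_top]
    have h0 : (E.property.rep.snd E'.obj.hom).left w ∈ E'.obj.left.left.basicOpen (res X E' f) := by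
      rw [hw2]; exact he'
    exact h0
  rw [res_comp X g₁ f, h, map_zero, Scheme.basicOpen_zero] at h2
  exact h2

/-- Nonzero global functions on an integral algebraic space have nonzero germs at all points of all étale
charts. -/
theorem germ_res_ne_zero (hX : AlgSp.IsIntegralSp X.obj) (f : ↥(AlgSp.gsectEt (AlgSp.OEt X.obj)))
    (hf : f ≠ 0) (E : AlgSp.EtOver X.obj) (e : ↥E.obj.left.left) :
    E.obj.left.left.presheaf.germ ⊤ e trivial (res X E f) ≠ 0 := by
  intro h0
  obtain ⟨hred, hdec, hirr⟩ := hX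
  haveI := hirr
  have h1 : E.obj.left.left.presheaf.germ ⊤ e trivial (res X E f) =
      E.obj.left.left.presheaf.germ ⊤ e trivial 0 := by rw [h0, map_zero]
  obtain ⟨W', heW, i1, i2, hW⟩ := E.obj.left.left.presheaf.germ_eq (U := ⊤) (V := ⊤) e
    (Set.mem_univ e) (Set.mem_univ e) _ _ h1
  rw [map_zero] at hW
  let W : E.obj.left.left.Opens := W'
  -- the open subscheme `W` as an object of the small étale site
  have hι : AlgSp.RepWith @Etale ((AlgSp.yon S).map
      (Over.homMk W.ι rfl : Over.mk (W.ι ≫ E.obj.left.hom) ⟶ E.obj.left)) :=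
    (AlgSp.repWith_yon_map_iff _ _).2 (inferInstance : Etale W.ι)
  let EW : AlgSp.EtOver X.obj :=
    AlgSp.EtOver.mk ((AlgSp.yon S).map
      (Over.homMk W.ι rfl : Over.mk (W.ι ≫ E.obj.left.hom) ⟶ E.obj.left) ≫ E.obj.hom)
      (MorphismProperty.comp_mem _ _ _ hι E.property)
  let g : EW ⟶ E := AlgSp.EtOver.homMk
    (Over.homMk W.ι rfl : Over.mk (W.ι ≫ E.obj.left.hom) ⟶ E.obj.left) rfl
  have hres : res X EW f = 0 := by
    rw [res_comp X g f]
    change W.ι.appTop.hom (res X E f) = 0
    rw [Scheme.Opens.ι_appTop]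
    have : (homOfLE le_top : W.ι ''ᵁ ⊤ ⟶ ⊤) = eqToHom W.ι_image_top ≫ i1 := Subsingleton.elim _ _
    rw [this, op_comp, Functor.map_comp]
    change (E.obj.left.left.presheaf.map (eqToHom W.ι_image_top).op).hom
      ((E.obj.left.left.presheaf.map i1.op).hom (res X E f)) = 0
    have hW' : (E.obj.left.left.presheaf.map i1.op).hom (res X E f) = 0 := hW
    rw [hW', map_zero]
  have hopen : IsOpen (Set.range (AlgSp.Points.ofPt EW.obj.hom)) :=
    (Groth.Agent.Lib.H86AlgSpPoints.isOpenMap_ofPt EW.property).isOpen_range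
  have hne : (Set.range (AlgSp.Points.ofPt EW.obj.hom)).Nonempty :=
    ⟨_, ⟨(⟨e, heW⟩ : ↥W), rfl⟩⟩
  have hD : (D X f).Nonempty := by
    rw [Set.nonempty_iff_ne_empty]
    exact fun h => hf (eq_zero_of_D_eq_empty X hred f h)
  obtain ⟨x, ⟨w, rfl⟩, hxD⟩ := nonempty_preirreducible_inter hopen (isOpen_D X f) hne hD
  exact ofPt_notMem_D_of_res_eq_zero X EW f hres w hxD

end Groth.Agent.Lib.NormalGSect46

namespace Groth.Agent.Lib.NormalGSect46

open AlgSp Groth.Agent.S10494.Aux

variable {S : Scheme.{u}} (X : AlgSp.Space S)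

/-- A compatible family of functions on all étale charts is a global function. -/
theorem exists_gsect_of_compatible (c : ∀ E : AlgSp.EtOver X.obj, Γ(E.obj.left.left, ⊤))
    (hc : ∀ {E'' E : AlgSp.EtOver X.obj} (g : E'' ⟶ E), g.hom.left.left.appTop.hom (c E) = c E'') :
    ∃ y : ↥(AlgSp.gsectEt (AlgSp.OEt X.obj)), ∀ E, res X E y = c E := by
  let F := (AlgSp.OEt X.obj).obj
  have hl := isLimitOfPreserves (forget CommRingCat.{u + 1}) (limit.isLimit F)
  let s : (F ⋙ forget CommRingCat.{u + 1}).sections :=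
    ⟨fun E => (ULift.up (c E.unop) : ULift.{u + 1} Γ(E.unop.obj.left.left, ⊤)), by
      intro j j' f
      change (AlgSp.OEt X.obj).obj.map f (ULift.up (c j.unop)) = ULift.up (c j'.unop)
      have := AlgSp.OEt_map (X := X.obj) f.unop (ULift.up (c j.unop))
      rw [Quiver.Hom.op_unop] at this
      rw [this, hc f.unop]⟩
  refine ⟨(Types.isLimitEquivSections hl).symm s, fun E => ?_⟩
  have h1 := Types.isLimitEquivSections_symm_apply hl s (op E)
  exact congrArg ULift.down h1

end Groth.Agent.Lib.NormalGSect46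

namespace Groth.Agent.Lib.NormalGSect46

open AlgSp Groth.Agent.S10494.Aux

variable {S : Scheme.{u}} (X : AlgSp.Space S)

theorem res_add (E : AlgSp.EtOver X.obj) (f g : ↥(AlgSp.gsectEt (AlgSp.OEt X.obj))) :
    res X E (f + g) = res X E f + res X E g := by
  unfold res
  rw [map_add]
  rfl

/-- Restriction of global functions to an étale chart, as a ring homomorphism. -/
noncomputable def resHom (E : AlgSp.EtOver X.obj) :
    ↥(AlgSp.gsectEt (AlgSp.OEt X.obj)) →+* Γ(E.obj.left.left, ⊤) where
  toFun := res X E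
  map_one' := res_one X E
  map_mul' := res_mul X E
  map_zero' := res_zero X E
  map_add' := res_add X E

theorem ext_of_res (f g : ↥(AlgSp.gsectEt (AlgSp.OEt X.obj)))
    (h : ∀ E : AlgSp.EtOver X.obj, res X E f = res X E g) : f = g := by
  refine Concrete.limit_ext (AlgSp.OEt X.obj).obj f g fun j => ?_
  exact ULift.ext _ _ (h j.unop)

/-- `Γ(X, O_X)` is integrally closed for a normal integral algebraic space `X`. -/
theorem isIntegrallyClosed_gsect (hXi : AlgSp.IsIntegralSp X.obj)
    (hXn : AlgSp.EtaleLocally (fun U => ∀ u : ↥U, IsDomain ↥(U.presheaf.stalk u) ∧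
      IsIntegrallyClosed ↥(U.presheaf.stalk u)) X.obj) :
    IsIntegrallyClosed ↥(AlgSp.gsectEt (AlgSp.OEt X.obj)) := by
  haveI : IsDomain ↥(AlgSp.gsectEt (AlgSp.OEt X.obj)) := isDomain X hXi
  rw [isIntegrallyClosed_iff (FractionRing ↥(AlgSp.gsectEt (AlgSp.OEt X.obj)))]
  intro x hx
  obtain ⟨a, b, hb, rfl⟩ := IsFractionRing.div_surjective (A := ↥(AlgSp.gsectEt (AlgSp.OEt X.obj))) x
  have hb0 : b ≠ 0 := nonZeroDivisors.ne_zero hb
  have key : ∀ E : AlgSp.EtOver X.obj, ∃! c : Γ(E.obj.left.left, ⊤), c * res X E b = res X E a := by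
    intro E
    apply existsUnique_mul_eq_of_forall_germ_dvd
    · intro e
      exact (normal_stalks_of_repWith_etale hXn E.obj.hom E.property e).1
    · intro e
      exact germ_res_ne_zero X hXi b hb0 E e
    · intro e
      obtain ⟨hd, hic⟩ := normal_stalks_of_repWith_etale hXn E.obj.hom E.property e
      let φ : ↥(AlgSp.gsectEt (AlgSp.OEt X.obj)) →+* ↥(E.obj.left.left.presheaf.stalk e) :=
        (E.obj.left.left.presheaf.germ ⊤ e trivial).hom.comp (resHom X E)
      have hφ : Function.Injective φ := by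
        rw [injective_iff_map_eq_zero]
        intro r hr
        by_contra h
        exact germ_res_ne_zero X hXi r h E e hr
      exact dvd_of_isIntegral_div φ hφ a b hb0 hx
  choose c hc hcu using key
  have hcompat : ∀ {E'' E : AlgSp.EtOver X.obj} (g : E'' ⟶ E),
      g.hom.left.left.appTop.hom (c E) = c E'' := by
    intro E'' E g
    apply hcu E''
    rw [res_comp X g b, res_comp X g a, ← map_mul, hc E]
  obtain ⟨y, hy⟩ := exists_gsect_of_compatible X c hcompat
  refine ⟨y, ?_⟩
  have hyb : y * b = a := by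
    apply ext_of_res
    intro E
    rw [res_mul, hy, hc]
  rw [← hyb, map_mul]
  have hb' : algebraMap ↥(AlgSp.gsectEt (AlgSp.OEt X.obj))
      (FractionRing ↥(AlgSp.gsectEt (AlgSp.OEt X.obj))) b ≠ 0 := by
    intro h0
    apply hb0
    exact IsFractionRing.injective _ (FractionRing ↥(AlgSp.gsectEt (AlgSp.OEt X.obj)))
      (by rw [h0, map_zero])
  field_simp

end Groth.Agent.Lib.NormalGSect46
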