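import Groth.Agent.Lib.ActOpen18
import Mathlib.AlgebraicGeometry.Morphisms.SchemeTheoreticallyDominant

/-!
# Products of scheme-theoretically dominant quasi-compact morphisms over a field (helper45)

Over a field `k`: if `z : Z ⟶ X` is quasi-compact and scheme-theoretically dominant then so are
`M ◁ z`, `z ▷ M` and `z ⊗ₘ z'`.  Also: a closed immersion through which a scheme-theoretically
dominant morphism factors is an isomorphism.
-/

set_option autoImplicit false
universe u
open CategoryTheory CategoryTheory.Limits MonoidalCategory CartesianMonoidalCategory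
  AlgebraicGeometry

namespace Groth.Agent.Lib.SchDomProd45

section overS

variable {S : Scheme.{u}}

lemma isPullback_whiskerRight_fst (M : Over S) {Z X : Over S} (z : Z ⟶ X) :
    IsPullback (z ▷ M).left (fst Z M).left (fst X M).left z.left := by
  show IsPullback (z ▷ M).left (pullback.fst Z.hom M.hom) (pullback.fst X.hom M.hom) z.left
  refine IsPullback.of_right (h₁₂ := pullback.snd X.hom M.hom) (h₂₂ := X.hom)
    (v₁₃ := M.hom) ?_ (Over.whiskerRight_left_fst z) ?_
  · rw [Over.whiskerRight_left_snd, Over.w z]
    exact (IsPullback.of_hasPullback Z.hom M.hom).flip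
  · exact (IsPullback.of_hasPullback X.hom M.hom).flip

end overS

section field

variable {k : Type u} [Field k]

set_option backward.isDefEq.respectTransparency false in
lemma flat_snd (M X : Over (Spec (CommRingCat.of k))) : Flat (snd M X).left := by
  have h1 : Flat M.hom := inferInstance
  exact inferInstanceAs (Flat (pullback.snd M.hom X.hom))

set_option backward.isDefEq.respectTransparency false in
lemma flat_fst (X M : Over (Spec (CommRingCat.of k))) : Flat (fst X M).left := by
  have h1 : Flat M.hom := inferInstance
  exact inferInstanceAs (Flat (pullback.fst X.hom M.hom))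

variable (M : Over (Spec (CommRingCat.of k))) {Z X : Over (Spec (CommRingCat.of k))} (z : Z ⟶ X)

lemma quasiCompact_whiskerLeft [QuasiCompact z.left] : QuasiCompact (M ◁ z).left :=
  MorphismProperty.of_isPullback (P := @QuasiCompact)
    (Groth.Agent.Lib.ActOpen18.isPullback_whiskerLeft_snd M z).flip inferInstance

lemma quasiCompact_whiskerRight [QuasiCompact z.left] : QuasiCompact (z ▷ M).left :=
  MorphismProperty.of_isPullback (P := @QuasiCompact)
    (isPullback_whiskerRight_fst M z).flip inferInstance

lemma schDominant_whiskerLeft [QuasiCompact z.left] [IsSchemeTheoreticallyDominant z.left] :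
    IsSchemeTheoreticallyDominant (M ◁ z).left := by
  have := flat_snd M X
  exact IsSchemeTheoreticallyDominant.of_isPullback
    (Groth.Agent.Lib.ActOpen18.isPullback_whiskerLeft_snd M z).flip

lemma schDominant_whiskerRight [QuasiCompact z.left] [IsSchemeTheoreticallyDominant z.left] :
    IsSchemeTheoreticallyDominant (z ▷ M).left := by
  have := flat_fst X M
  exact IsSchemeTheoreticallyDominant.of_isPullback (isPullback_whiskerRight_fst M z).flip

lemma schDominant_tensorHom {Z' X' : Over (Spec (CommRingCat.of k))} (z' : Z' ⟶ X')
    [QuasiCompact z.left] [IsSchemeTheoreticallyDominant z.left]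
    [QuasiCompact z'.left] [IsSchemeTheoreticallyDominant z'.left] :
    IsSchemeTheoreticallyDominant (z ⊗ₘ z').left := by
  rw [MonoidalCategory.tensorHom_def, Over.comp_left]
  have h1 := schDominant_whiskerRight Z' z
  have h2 := schDominant_whiskerLeft X z'
  infer_instance

end field

/-- A closed immersion through which a scheme-theoretically dominant morphism factors is an
isomorphism. -/
lemma isIso_of_isClosedImmersion_of_factor {P X Y : Scheme.{u}} (c : P ⟶ Y) [IsClosedImmersion c]
    (t : X ⟶ P) (h : IsSchemeTheoreticallyDominant (t ≫ c)) : IsIso c := by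
  rw [IsClosedImmersion.isIso_iff_ker_eq_bot, ← le_bot_iff]
  exact (t.le_ker_comp c).trans h.ker_eq_bot.le

end Groth.Agent.Lib.SchDomProd45
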