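import Groth.Agent.Lib.FibrationNormal5
import Groth.Agent.Lib.SchDomProd45
import Groth.Prelude.Def_W4bk4git07Quot

/-!
# A geometric quotient of a normal integral scheme is normal (helper45)

* `eq_zero_of_mul_appLE_eq_zero`: for a flat morphism `p : Z ⟶ X` to an integral scheme, the pullback
  of a nonzero section is a nonzerodivisor on every open of `Z` mapping into its domain.
* `isNormal_of_isGeomQuot`: if `X` is integral and normal, `snd : G × X ⟶ X` is flat and
  `φ : X ⟶ Y` is a geometric quotient then `Y` is normal.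
-/

set_option autoImplicit false
universe u
open CategoryTheory CategoryTheory.Limits MonoidalCategory CartesianMonoidalCategory MonObj
  AlgebraicGeometry

namespace Groth.Agent.Lib.NormalQuot45

theorem eq_zero_of_mul_appLE_eq_zero {Z X : Scheme.{u}} [IsIntegral X] (p : Z ⟶ X) [Flat p]
    (V : X.Opens) (O : Z.Opens) (e : O ≤ p ⁻¹ᵁ V) (t : Γ(X, V)) (ht : t ≠ 0) (r : Γ(Z, O))
    (h : r * (p.appLE V O e).hom t = 0) : r = 0 := by
  apply TopCat.Presheaf.section_ext Z.sheaf O
  intro z hz
  change Z.presheaf.germ O z hz r = Z.presheaf.germ O z hz 0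
  rw [map_zero]
  have hpz : p z ∈ V := e hz
  have h1 : Z.presheaf.germ O z hz ((p.appLE V O e).hom t) =
      (p.stalkMap z).hom (X.presheaf.germ V (p z) hpz t) := by
    have := Scheme.Hom.germ_stalkMap p V z hpz
    have h2 : p.appLE V O e ≫ Z.presheaf.germ O z hz =
        X.presheaf.germ V (p z) hpz ≫ p.stalkMap z := by
      rw [Scheme.Hom.germ_stalkMap, Scheme.Hom.appLE, Category.assoc, TopCat.Presheaf.germ_res]
    exact congr($(h2).hom t)
  have h2 : X.presheaf.germ V (p z) hpz t ≠ 0 := fun h0 =>
    ht (germ_injective_of_isIntegral X _ hpz (by rw [h0, map_zero]))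
  have hfl : (p.stalkMap z).hom.Flat := Flat.stalkMap p z
  have h3 := congrArg (Z.presheaf.germ O z hz) h
  rw [map_mul, map_zero, h1] at h3
  let _ := (p.stalkMap z).hom.toAlgebra
  have hfl' : Module.Flat (X.presheaf.stalk (p z)) (Z.presheaf.stalk z) := hfl
  have hreg := Module.Flat.isSMulRegular_of_nonZeroDivisors (M := Z.presheaf.stalk z)
    (mem_nonZeroDivisors_of_ne_zero h2)
  apply hreg
  change _ • _ = _ • (0 : Z.presheaf.stalk z)
  rw [smul_zero, Algebra.smul_def, mul_comm]
  exact h3

variable {S : Scheme.{u}} {G X Y : Over S} [GrpObj G]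

theorem isIntegral_of_isGeomQuot [IsIntegral X.left] {a : AlgGrp.Action G X} {φ : X ⟶ Y}
    (h : GIT.IsGeomQuot a φ) : IsIntegral Y.left := by
  have hne : Nonempty Y.left := ⟨φ.left (Nonempty.some inferInstance)⟩
  refine ⟨hne, fun U hU => ?_⟩
  obtain ⟨⟨y, hy⟩⟩ := hU
  obtain ⟨x, rfl⟩ := h.surj y
  have : Nonempty (φ.left ⁻¹ᵁ U) := ⟨⟨x, hy⟩⟩
  exact (h.sections U).1.isDomain (φ.left.app U).hom

theorem isNormal_of_isGeomQuot [IsIntegral X.left] (hX : Pi1.IsNormalScheme X.left)
    [Flat (snd G X).left] {a : AlgGrp.Action G X} {φ : X ⟶ Y} (h : GIT.IsGeomQuot a φ) :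
    Pi1.IsNormalScheme Y.left := by
  have hYint : IsIntegral Y.left := isIntegral_of_isGeomQuot h
  -- the generic point
  have hgen : φ.left (genericPoint X.left) ⤳ genericPoint Y.left := by
    rw [specializes_iff_mem_closure]
    have h1 := (genericPoint_spec X.left).image φ.left.continuous
    have h2 : closure (φ.left '' Set.univ) = Set.univ := by
      rw [Set.image_univ, Set.range_eq_univ.mpr h.surj, closure_univ]
    rw [h1.def, h2]
    trivial
  -- sections over affine opens are integrally closed
  have key : ∀ (V : Y.left.Opens), IsAffineOpen V → ∀ [Nonempty V],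
      IsIntegrallyClosed Γ(Y.left, V) := by
    intro V hV hne
    have hηV : genericPoint Y.left ∈ V :=
      Groth.Agent.Lib.FibrationNormal5.genericPoint_mem_of_nonempty V
        (by obtain ⟨⟨y, hy⟩⟩ := hne; exact ⟨y, hy⟩)
    have hgenEq : φ.left (genericPoint X.left) = genericPoint Y.left :=
      Groth.Agent.Lib.SteinNormal5.map_genericPoint_eq φ.left hgen
    have hξ : genericPoint X.left ∈ φ.left ⁻¹ᵁ V := by
      change φ.left _ ∈ V
      rw [hgenEq]; exact hηV
    have hfr : IsFractionRing Γ(Y.left, V) Y.left.functionField :=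
      functionField_isFractionRing_of_isAffineOpen Y.left V hV
    set ψ := CohIII.stalkToFunctionField φ.left (genericPoint Y.left) hgen with hψ
    let _ : Algebra Y.left.functionField X.left.functionField := ψ.toAlgebra
    let _ : Algebra Γ(Y.left, V) X.left.functionField :=
      (ψ.comp (algebraMap Γ(Y.left, V) Y.left.functionField)).toAlgebra
    have hst : IsScalarTower Γ(Y.left, V) Y.left.functionField X.left.functionField :=
      IsScalarTower.of_algebraMap_eq' rfl
    rw [isIntegrallyClosed_iff Y.left.functionField]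
    intro z hz
    have hz' : IsIntegral Γ(Y.left, V) (ψ z) := hz.algebraMap
    -- `ψ z` comes from a section over `φ⁻¹ V`
    obtain ⟨s, hs⟩ := Groth.Agent.Lib.FibrationNormal5.exists_germ_eq_of_forall_affine
      (φ.left ⁻¹ᵁ V) hξ (ψ z) (by
        intro W hWle hW
        have : Nonempty W.1 := ⟨⟨_, hW⟩⟩
        have : IsIntegrallyClosed Γ(X.left, W.1) :=
          Groth.Agent.Lib.IntegralSection.isIntegrallyClosed_sections (fun x => (hX x).2) W.2
        have : IsFractionRing Γ(X.left, W.1) X.left.functionField :=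
          functionField_isFractionRing_of_isAffineOpen X.left W.1 W.2
        have hint : IsIntegral Γ(X.left, W.1) (ψ z) := by
          obtain ⟨q, hq, hqz⟩ := hz'
          refine ⟨q.map (φ.left.appLE V W.1 hWle).hom, hq.map _, ?_⟩
          rw [Polynomial.eval₂_map]
          have hcomp : (algebraMap Γ(X.left, W.1) X.left.functionField).comp
              (φ.left.appLE V W.1 hWle).hom = algebraMap Γ(Y.left, V) X.left.functionField := by
            ext b
            exact (Groth.Agent.Lib.FibrationNormal5.stalkToFunctionField_germ φ.left hgen V hηV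
              W.1 hWle hW b).symm
          rw [hcomp]
          exact hqz
        obtain ⟨y, hy⟩ := IsIntegrallyClosed.isIntegral_iff.mp hint
        exact ⟨y, hy⟩)
    -- write `z = n / d`
    obtain ⟨n, d, hd, hnd⟩ := IsFractionRing.div_surjective (A := Γ(Y.left, V)) z
    have hd0 : d ≠ 0 := nonZeroDivisors.ne_zero hd
    have hgermφ : ∀ b : Γ(Y.left, V), ψ (algebraMap Γ(Y.left, V) Y.left.functionField b) =
        X.left.presheaf.germ (φ.left ⁻¹ᵁ V) (genericPoint X.left) hξ ((φ.left.app V).hom b) := by
      intro b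
      have := Groth.Agent.Lib.FibrationNormal5.stalkToFunctionField_germ φ.left hgen V hηV
        (φ.left ⁻¹ᵁ V) le_rfl hξ b
      rw [← Scheme.Hom.app_eq_appLE] at this
      exact this
    have hd1 : algebraMap Γ(Y.left, V) Y.left.functionField d ≠ 0 := by
      intro h0
      exact hd0 ((IsFractionRing.injective Γ(Y.left, V) Y.left.functionField)
        (by rw [h0, map_zero]))
    have hkey : s * (φ.left.app V).hom d = (φ.left.app V).hom n := by
      apply germ_injective_of_isIntegral X.left (genericPoint X.left) hξ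
      rw [map_mul, hs, ← hgermφ, ← hgermφ, ← map_mul, ← hnd, div_mul_cancel₀ _ hd1]
    -- invariance of `s`
    have hinvφ : ∀ b : Γ(Y.left, V), GIT.IsInvSection a φ V ((φ.left.app V).hom b) := by
      intro b
      have : (φ.left.app V).hom b ∈ {f | GIT.IsInvSection a φ V f} := by
        rw [← (h.sections V).2]; exact ⟨b, rfl⟩
      exact this
    have hsinv : GIT.IsInvSection a φ V s := by
      unfold GIT.IsInvSection
      have e1 := hinvφ d
      have e2 := hinvφ n
      unfold GIT.IsInvSection at e1 e2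
      set α := (a.act.left.appLE (φ.left ⁻¹ᵁ V)
        (a.act.left ⁻¹ᵁ (φ.left ⁻¹ᵁ V) ⊓ (snd G X).left ⁻¹ᵁ (φ.left ⁻¹ᵁ V)) inf_le_left).hom
        with hα
      set β := ((snd G X).left.appLE (φ.left ⁻¹ᵁ V)
        (a.act.left ⁻¹ᵁ (φ.left ⁻¹ᵁ V) ⊓ (snd G X).left ⁻¹ᵁ (φ.left ⁻¹ᵁ V)) inf_le_right).hom
        with hβ
      have hne0 : (φ.left.app V).hom d ≠ 0 := fun h0 =>
        hd0 ((h.sections V).1 (by rw [h0, map_zero]))
      have hmul : (α s - β s) * β ((φ.left.app V).hom d) = 0 := by
        have t1 : α s * α ((φ.left.app V).hom d) = α ((φ.left.app V).hom n) := by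
          rw [← map_mul, hkey]
        have t2 : β s * β ((φ.left.app V).hom d) = β ((φ.left.app V).hom n) := by
          rw [← map_mul, hkey]
        have e1' : α ((φ.left.app V).hom d) = β ((φ.left.app V).hom d) := e1
        have e2' : α ((φ.left.app V).hom n) = β ((φ.left.app V).hom n) := e2
        rw [sub_mul, t2, ← e1', t1, e2', sub_self]
      have := eq_zero_of_mul_appLE_eq_zero (snd G X).left (φ.left ⁻¹ᵁ V) _ inf_le_right
        ((φ.left.app V).hom d) hne0 (α s - β s) hmul
      exact sub_eq_zero.mp this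
    have hsr : s ∈ Set.range (φ.left.app V) := by
      rw [(h.sections V).2]; exact hsinv
    obtain ⟨b, rfl⟩ := hsr
    refine ⟨b, ?_⟩
    apply ψ.injective
    rw [hgermφ]
    exact hs
  intro y
  refine ⟨inferInstance, ?_⟩
  obtain ⟨_, ⟨V, hV, rfl⟩, hyV, -⟩ :=
    Y.left.isBasis_affineOpens.exists_subset_of_mem_open (Set.mem_univ y) isOpen_univ
  have hne : Nonempty V := ⟨⟨y, hyV⟩⟩
  have hic : IsIntegrallyClosed Γ(Y.left, V) := key V hV
  have hloc := hV.isLocalization_stalk ⟨y, hyV⟩
  have hdomV : IsDomain Γ(Y.left, V) := inferInstance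
  exact @isIntegrallyClosed_of_isLocalization Γ(Y.left, V) (Y.left.presheaf.stalk y) _ _
    (TopCat.Presheaf.algebra_section_stalk Y.left.presheaf ⟨y, hyV⟩) hic hdomV
    (hV.primeIdealOf ⟨y, hyV⟩).asIdeal.primeCompl
    (Ideal.primeCompl_le_nonZeroDivisors _) hloc

end Groth.Agent.Lib.NormalQuot45
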