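import Mathlib

/-!
# Normal local domains with separably closed fraction field are strictly henselian (helper61)

For an integrally closed domain `A` with separably closed fraction field `K`:

* `exists_factor`: every monic `p ∈ A[X]` of positive degree has a monic factor `g ∈ A[X]`
  of positive degree which is either of degree one or has zero derivative.
* `henselianLocalRing`: if `A` is local, it is henselian.
* `isSepClosed_residueField`: if `A` is local, its residue field is separably closed.
-/

set_option autoImplicit false

namespace Groth.Agent.Lib.NormalSepClosed61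

open Polynomial IsLocalRing

variable (A K : Type*) [CommRing A] [IsIntegrallyClosed A] [Field K] [Algebra A K]
  [IsFractionRing A K] [IsSepClosed K]

include K in
/-- A monic polynomial of positive degree over `A` has a monic factor of positive degree which
is linear or has vanishing derivative. -/
theorem exists_factor {p : A[X]} (hp : p.Monic) (hdeg : 0 < p.natDegree) :
    ∃ g h : A[X], g.Monic ∧ p = g * h ∧ 0 < g.natDegree ∧
      (derivative g = 0 ∨ g.natDegree = 1) := by
  have hinj := IsFractionRing.injective A K
  have hnu : ¬ IsUnit (p.map (algebraMap A K)) :=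
    not_isUnit_of_natDegree_pos _ (by rwa [hp.natDegree_map])
  obtain ⟨gK, hgM, hgI, hgd⟩ := exists_monic_irreducible_factor _ hnu
  obtain ⟨g, hg⟩ := IsIntegrallyClosed.eq_map_mul_C_of_dvd K hp hgd
  rw [hgM.leadingCoeff, C_1, mul_one] at hg
  have hgmonic : g.Monic := monic_of_injective hinj (by rw [hg]; exact hgM)
  obtain ⟨h, hh⟩ := hp.dvd_of_fraction_map_dvd_fraction_map (K := K) hgmonic
    (by rw [hg]; exact hgd)
  have hgnat : g.natDegree = gK.natDegree := by
    rw [← hgmonic.natDegree_map (algebraMap A K), hg]
  refine ⟨g, h, hgmonic, hh, ?_, ?_⟩
  · rw [hgnat]; exact hgI.natDegree_pos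
  · by_cases hsep : gK.Separable
    · right
      have h1 := IsSepClosed.degree_eq_one_of_irreducible K hgI hsep
      rw [hgnat]
      exact natDegree_eq_of_degree_eq_some h1
    · left
      have h0 : derivative gK = 0 := by
        by_contra hne
        exact hsep ((separable_iff_derivative_ne_zero hgI).mpr hne)
      apply Polynomial.map_injective _ hinj
      rw [← derivative_map, hg, h0, Polynomial.map_zero]

variable [IsLocalRing A]

include K in
theorem exists_root_aux (n : ℕ) : ∀ (f : A[X]), f.natDegree = n → f.Monic → ∀ a₀ : A,
    f.eval a₀ ∈ maximalIdeal A → IsUnit ((derivative f).eval a₀) →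
    ∃ a : A, f.IsRoot a ∧ a - a₀ ∈ maximalIdeal A := by
  induction n using Nat.strong_induction_on with
  | _ n ih =>
    intro f hn hf a₀ h₁ h₂
    have hpos : 0 < f.natDegree := by
      rcases Nat.eq_zero_or_pos f.natDegree with h0 | h0
      · exfalso
        have : f = 1 := eq_one_of_monic_natDegree_zero hf h0
        rw [this, eval_one] at h₁
        exact (Ideal.ne_top_iff_one _).mp (maximalIdeal.isMaximal A).ne_top h₁
      · exact h0
    obtain ⟨g, h, hgM, hfgh, hgdeg, hcase⟩ := exists_factor A K hf hpos
    have hhM : h.Monic := hgM.of_mul_monic_left (hfgh ▸ hf)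
    have hev : f.eval a₀ = g.eval a₀ * h.eval a₀ := by rw [hfgh, eval_mul]
    have hder : (derivative f).eval a₀ =
        (derivative g).eval a₀ * h.eval a₀ + g.eval a₀ * (derivative h).eval a₀ := by
      rw [hfgh, derivative_mul, eval_add, eval_mul, eval_mul]
    by_cases hg0 : g.eval a₀ ∈ maximalIdeal A
    · -- `g` has the root
      have hunit : IsUnit ((derivative g).eval a₀ * h.eval a₀) := by
        have h3 : (derivative g).eval a₀ * h.eval a₀ =
            (derivative f).eval a₀ - g.eval a₀ * (derivative h).eval a₀ := by
          rw [hder]; ring
        rw [h3]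
        by_contra hnu
        have h4 : (derivative f).eval a₀ - g.eval a₀ * (derivative h).eval a₀ ∈
            maximalIdeal A := (mem_maximalIdeal _).mpr hnu
        have h5 : g.eval a₀ * (derivative h).eval a₀ ∈ maximalIdeal A :=
          Ideal.mul_mem_right _ _ hg0
        have h6 := (maximalIdeal A).add_mem h4 h5
        rw [sub_add_cancel] at h6
        exact (mem_maximalIdeal _).mp h6 h₂
      have hgder : IsUnit ((derivative g).eval a₀) := isUnit_of_mul_isUnit_left hunit
      rcases hcase with hd | h1
      · exfalso
        rw [hd, eval_zero] at hgder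
        exact not_isUnit_zero hgder
      · have hg : g = X + C (g.coeff 0) := hgM.eq_X_add_C h1
        have hga : g.eval a₀ = a₀ + g.coeff 0 := by
          conv_lhs => rw [hg]
          simp
        refine ⟨-(g.coeff 0), ?_, ?_⟩
        · rw [IsRoot.def, hfgh, eval_mul]
          have : g.eval (-(g.coeff 0)) = 0 := by
            conv_lhs => rw [hg]
            simp
          rw [this, zero_mul]
        · have : -(g.coeff 0) - a₀ = -(g.eval a₀) := by rw [hga]; ring
          rw [this]
          exact (maximalIdeal A).neg_mem hg0
    · -- `h` has the root
      have hh0 : h.eval a₀ ∈ maximalIdeal A := by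
        rw [hev] at h₁
        exact ((maximalIdeal.isMaximal A).isPrime.mem_or_mem h₁).resolve_left hg0
      have hunit : IsUnit (g.eval a₀ * (derivative h).eval a₀) := by
        have h3 : g.eval a₀ * (derivative h).eval a₀ =
            (derivative f).eval a₀ - (derivative g).eval a₀ * h.eval a₀ := by
          rw [hder]; ring
        rw [h3]
        by_contra hnu
        have h4 : (derivative f).eval a₀ - (derivative g).eval a₀ * h.eval a₀ ∈
            maximalIdeal A := (mem_maximalIdeal _).mpr hnu
        have h5 : (derivative g).eval a₀ * h.eval a₀ ∈ maximalIdeal A :=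
          Ideal.mul_mem_left _ _ hh0
        have h6 := (maximalIdeal A).add_mem h4 h5
        rw [sub_add_cancel] at h6
        exact (mem_maximalIdeal _).mp h6 h₂
      have hhder : IsUnit ((derivative h).eval a₀) := isUnit_of_mul_isUnit_right hunit
      have hlt : h.natDegree < n := by
        have : f.natDegree = g.natDegree + h.natDegree := by
          rw [hfgh, hgM.natDegree_mul hhM]
        omega
      obtain ⟨a, ha, haa⟩ := ih h.natDegree hlt h rfl hhM a₀ hh0 hhder
      refine ⟨a, ?_, haa⟩
      rw [IsRoot.def, hfgh, eval_mul, ha, mul_zero]

include K in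
/-- A local integrally closed domain with separably closed fraction field is henselian. -/
theorem henselianLocalRing : HenselianLocalRing A where
  is_henselian f hf a₀ h₁ h₂ := exists_root_aux A K f.natDegree f rfl hf a₀ h₁ h₂

include K in
/-- The residue field of a local integrally closed domain with separably closed fraction field
is separably closed. -/
theorem isSepClosed_residueField : IsSepClosed (ResidueField A) := by
  apply IsSepClosed.of_exists_root
  intro p hpM hpI hpS
  have hlift : p ∈ lifts (residue A) := by
    rw [lifts_iff_coeff_lifts]
    intro n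
    exact residue_surjective _
  obtain ⟨q, hq, hqdeg, hqM⟩ := lifts_and_natDegree_eq_and_monic hlift hpM
  have hdeg : 0 < q.natDegree := by rw [hqdeg]; exact hpI.natDegree_pos
  obtain ⟨g, h, hgM, hqgh, hgdeg, hcase⟩ := exists_factor A K hqM hdeg
  have hpgh : p = g.map (residue A) * h.map (residue A) := by
    rw [← hq, hqgh, Polynomial.map_mul]
  have hgsep : (g.map (residue A)).Separable := hpS.of_dvd ⟨_, hpgh⟩
  rcases hcase with hd | h1
  · exfalso
    have h0 : derivative (g.map (residue A)) = 0 := by
      rw [derivative_map, hd, Polynomial.map_zero]
    have hu : IsUnit (g.map (residue A)) := by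
      have h2 : IsCoprime (g.map (residue A)) (derivative (g.map (residue A))) := hgsep
      rw [h0] at h2
      exact isCoprime_zero_right.mp h2
    have h3 := natDegree_eq_zero_of_isUnit hu
    rw [hgM.natDegree_map] at h3
    omega
  · have hg : g = X + C (g.coeff 0) := hgM.eq_X_add_C h1
    refine ⟨residue A (-(g.coeff 0)), ?_⟩
    rw [hpgh, eval_mul, eval_map, eval₂_hom]
    have : g.eval (-(g.coeff 0)) = 0 := by
      conv_lhs => rw [hg]
      simp
    rw [this, map_zero, zero_mul]

end Groth.Agent.Lib.NormalSepClosed61
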