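import Groth.Agent.Lib.NormalizationChar
import Groth.Agent.Lib.H30NormalSmoothSch
import Mathlib.AlgebraicGeometry.Morphisms.UniversallyOpen

/-!
# Normalization commutes with smooth base change, integral case (helper37)

For `f : X ⟶ Y` smooth with `X`, `Y` integral: `X ×_Y Y^ν` is integral and normal
(`isIntegral_pullback_normalization`, `isNormalScheme_pullback_normalization`) and the canonical
morphism `X^ν ⟶ X ×_Y Y^ν` is the unique isomorphism over `X` (`exists_iso`).
Also: `hom_ext_of_fibre` (morphisms from a field spectrum), `irreducibleSpace_of_generalizingMap`,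
`irreducibleSpace_of_isEmbedding`, `map_genericPoint_of_flat`, `toNu` (`Spec K(Y) ⟶ Y^ν`).
-/

set_option autoImplicit false
universe u
open CategoryTheory CategoryTheory.Limits AlgebraicGeometry TopologicalSpace

namespace Groth.Agent.Lib.NormalizationSmoothBC

open Groth.Agent.Lib.NormalizationChar



/-- A space embedded in another one, containing a point whose image is dense, is irreducible. -/
lemma irreducibleSpace_of_isEmbedding {A B : Type*} [TopologicalSpace A] [TopologicalSpace B]
    (π : A → B) (hπ : Topology.IsEmbedding π) (ξ : A) (hξ : closure {π ξ} = Set.univ) :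
    IrreducibleSpace A := by
  rw [irreducibleSpace_def, Set.top_eq_univ]
  have h1 : closure {ξ} = Set.univ := by
    rw [hπ.isInducing.closure_eq_preimage_closure_image, Set.image_singleton, hξ, Set.preimage_univ]
  rw [← h1]
  exact isIrreducible_singleton.closure

/-- If `p` is a generalizing map to a space with a generic point `η` and `p ⁻¹' {η}` is
irreducible, then the source is irreducible. -/
lemma irreducibleSpace_of_generalizingMap {P B : Type*} [TopologicalSpace P] [TopologicalSpace B]
    (p : P → B) (hp : GeneralizingMap p) (η : B) (hη : ∀ b, η ⤳ b)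
    (hS : IsIrreducible (p ⁻¹' {η})) : IrreducibleSpace P := by
  rw [irreducibleSpace_def, Set.top_eq_univ]
  have h1 : closure (p ⁻¹' {η}) = Set.univ := by
    rw [Set.eq_univ_iff_forall]
    intro s
    obtain ⟨s', hs', hps'⟩ := hp (hη (p s))
    exact closure_mono (Set.singleton_subset_iff.mpr (show s' ∈ p ⁻¹' {η} from hps'))
      (specializes_iff_mem_closure.mp hs')
  rw [← h1]
  exact hS.closure

/-- A flat morphism of integral schemes maps the generic point to the generic point. -/
lemma map_genericPoint_of_flat {X Y : Scheme.{u}} (f : X ⟶ Y) [IsIntegral X] [IsIntegral Y]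
    [Flat f] : f (genericPoint X) = genericPoint Y := by
  obtain ⟨x', hx', hfx'⟩ := Flat.generalizingMap f
    ((genericPoint_spec Y).specializes (Set.mem_univ (f (genericPoint X))))
  have h1 : genericPoint X ⤳ x' := (genericPoint_spec X).specializes (Set.mem_univ x')
  have h2 : x' = genericPoint X := (hx'.antisymm h1).eq
  rw [← hfx', h2]

set_option backward.isDefEq.respectTransparency.types false in
set_option backward.defeqAttrib.useBackward true in
/-- Two morphisms from the spectrum of a field into `N` with the same composite to `V` agree if the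
relevant fibre of `g : N ⟶ V` is a single point with surjective residue field map. -/
lemma hom_ext_of_fibre {N V : Scheme.{u}} (g : N ⟶ V) (K : Type u) [Field K]
    (u₁ u₂ : Spec (.of K) ⟶ N) (h : u₁ ≫ g = u₂ ≫ g)
    (hfib : ∀ z : N, g z = g (u₁ (IsLocalRing.closedPoint K)) →
      z = u₁ (IsLocalRing.closedPoint K) ∧ Function.Surjective (g.residueFieldMap z).hom) :
    u₁ = u₂ := by
  obtain ⟨e, h'⟩ := Scheme.SpecToEquivOfField_eq_iff.mp congr((V.SpecToEquivOfField K) $(h))
  apply (N.SpecToEquivOfField K).injective
  dsimp at e h'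
  simp only [Scheme.descResidueField_stalkClosedPointTo_comp] at e h'
  have e' : u₁ (IsLocalRing.closedPoint K) = u₂ (IsLocalRing.closedPoint K) :=
    ((hfib _ e.symm).1).symm
  rw [← g.residueFieldMap_congr'_assoc e', CommRingCat.hom_ext_iff] at h'
  rw [Scheme.SpecToEquivOfField_eq_iff]
  refine ⟨e', CommRingCat.hom_ext ?_⟩
  have hs := (hfib _ rfl).2
  simp only [CommRingCat.hom_comp] at h'
  exact (RingHom.cancel_right hs).mp h'

section toNu

variable (Y : Scheme.{u}) [IsIntegral Y]
    [QuasiCompact (Y.fromSpecStalk (genericPoint Y))] [QuasiSeparated (Y.fromSpecStalk (genericPoint Y))]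

/-- `Spec K(Y) ⟶ Y^ν`, typed with `Curv2.normalization`. -/
noncomputable def toNu : Spec (Y.presheaf.stalk (genericPoint Y)) ⟶ Curv2.normalization Y :=
  (Y.fromSpecStalk (genericPoint Y)).toNormalization

lemma toNu_ι : toNu Y ≫ Curv2.normalizationι Y = Y.fromSpecStalk (genericPoint Y) :=
  (Y.fromSpecStalk (genericPoint Y)).toNormalization_fromNormalization

lemma range_toNu : Set.range (toNu Y) = {genericPoint (Curv2.normalization Y)} := by
  have : Subsingleton (Spec (Y.presheaf.stalk (genericPoint Y))) :=
    inferInstanceAs (Subsingleton (PrimeSpectrum Y.functionField))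
  ext z
  simp only [Set.mem_range, Set.mem_singleton_iff]
  constructor
  · rintro ⟨p, rfl⟩
    rw [Subsingleton.elim p (IsLocalRing.closedPoint (Y.presheaf.stalk (genericPoint Y)))]
    exact Groth.Agent.Lib.NormalizationIntegral.toNormalization_closedPoint Y
  · rintro rfl
    exact ⟨_, Groth.Agent.Lib.NormalizationIntegral.toNormalization_closedPoint Y⟩

end toNu

section

variable {X Y : Scheme.{u}} (f : X ⟶ Y) [Smooth f] [IsIntegral X] [IsIntegral Y]
    [QuasiCompact (Y.fromSpecStalk (genericPoint Y))] [QuasiSeparated (Y.fromSpecStalk (genericPoint Y))]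

omit [QuasiCompact (Y.fromSpecStalk (genericPoint Y))]
  [QuasiSeparated (Y.fromSpecStalk (genericPoint Y))] in
/-- The generic fibre `X ×_Y Spec K(Y)` is irreducible. -/
lemma irreducibleSpace_genericFibre :
    IrreducibleSpace ↥(pullback f (Y.fromSpecStalk (genericPoint Y))) := by
  have hfη : f (genericPoint X) = genericPoint Y := map_genericPoint_of_flat f
  have hmem : genericPoint X ∈ Set.range (pullback.fst f (Y.fromSpecStalk (genericPoint Y))) := by
    rw [Scheme.Pullback.range_fst, Scheme.range_fromSpecStalk]
    show f (genericPoint X) ⤳ genericPoint Y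
    rw [hfη]
  obtain ⟨ξ, hξ⟩ := hmem
  refine irreducibleSpace_of_isEmbedding _
    (pullback.fst f (Y.fromSpecStalk (genericPoint Y))).isEmbedding ξ ?_
  rw [hξ]
  exact (genericPoint_spec X).def

/-- `X ×_Y Y^ν` is irreducible. -/
lemma irreducibleSpace_pullback_normalization :
    IrreducibleSpace ↥(pullback f (Curv2.normalizationι Y)) := by
  set gY := Y.fromSpecStalk (genericPoint Y) with hgY
  have hfac : toNu Y ≫ Curv2.normalizationι Y = gY := toNu_ι Y
  let j : pullback f gY ⟶ pullback f (Curv2.normalizationι Y) :=
    pullback.lift (pullback.fst f gY) (pullback.snd f gY ≫ toNu Y)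
      (by rw [Category.assoc, hfac, pullback.condition])
  have hj1 : j ≫ pullback.fst f (Curv2.normalizationι Y) = pullback.fst f gY := pullback.lift_fst _ _ _
  have hj2 : j ≫ pullback.snd f (Curv2.normalizationι Y) = pullback.snd f gY ≫ toNu Y :=
    pullback.lift_snd _ _ _
  have hbig : IsPullback (j ≫ pullback.fst f (Curv2.normalizationι Y)) (pullback.snd f gY) f
      (toNu Y ≫ Curv2.normalizationι Y) := by
    rw [hj1, hfac]
    exact IsPullback.of_hasPullback f gY
  have hleft : IsPullback j (pullback.snd f gY) (pullback.snd f (Curv2.normalizationι Y))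
      (toNu Y) :=
    IsPullback.of_right hbig hj2 (IsPullback.of_hasPullback f (Curv2.normalizationι Y))
  have hirr : IrreducibleSpace ↥(pullback f gY) := irreducibleSpace_genericFibre f
  have hS : (pullback.snd f (Curv2.normalizationι Y)) ⁻¹' {genericPoint (Curv2.normalization Y)} =
      Set.range j := by
    have := Scheme.image_preimage_eq_of_isPullback hleft.flip Set.univ
    rw [Set.preimage_univ, Set.image_univ, Set.image_univ, range_toNu] at this
    exact this.symm
  refine irreducibleSpace_of_generalizingMap _
    (Flat.generalizingMap (pullback.snd f (Curv2.normalizationι Y)))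
    (genericPoint (Curv2.normalization Y))
    (fun b ↦ (genericPoint_spec _).specializes (Set.mem_univ b)) ?_
  rw [hS, ← Set.image_univ]
  exact (IrreducibleSpace.isIrreducible_univ _).image j j.continuous.continuousOn

end

section main

variable {X Y : Scheme.{u}} (f : X ⟶ Y) [Smooth f] [IsIntegral X] [IsIntegral Y]
    [QuasiCompact (X.fromSpecStalk (genericPoint X))] [QuasiSeparated (X.fromSpecStalk (genericPoint X))]
    [QuasiCompact (Y.fromSpecStalk (genericPoint Y))] [QuasiSeparated (Y.fromSpecStalk (genericPoint Y))]

omit [IsIntegral X] [QuasiCompact (X.fromSpecStalk (genericPoint X))]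
  [QuasiSeparated (X.fromSpecStalk (genericPoint X))] in
/-- `X ×_Y Y^ν` is normal. -/
lemma isNormalScheme_pullback_normalization :
    Pi1.IsNormalScheme (pullback f (Curv2.normalizationι Y)) := fun z ↦
  ((Groth.Agent.Lib.H30NormalSmoothSch.stalk_iff_of_smooth
    (pullback.snd f (Curv2.normalizationι Y)) z).1).mpr ((normalization_props Y).1 _)

omit [QuasiCompact (X.fromSpecStalk (genericPoint X))]
  [QuasiSeparated (X.fromSpecStalk (genericPoint X))] in
lemma isIntegral_pullback_normalization :
    IsIntegral (pullback f (Curv2.normalizationι Y)) := by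
  have hn := isNormalScheme_pullback_normalization f
  have : ∀ z : ↥(pullback f (Curv2.normalizationι Y)),
      _root_.IsReduced ((pullback f (Curv2.normalizationι Y)).presheaf.stalk z) := fun z ↦ by
    have := (hn z).1
    infer_instance
  have hred : IsReduced (pullback f (Curv2.normalizationι Y)) := isReduced_of_isReduced_stalk _
  have hirr := irreducibleSpace_pullback_normalization f
  exact isIntegral_of_irreducibleSpace_of_isReduced _

omit [Smooth f] [IsIntegral X] [IsIntegral Y] [QuasiCompact (X.fromSpecStalk (genericPoint X))]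
  [QuasiSeparated (X.fromSpecStalk (genericPoint X))]
  [QuasiCompact (Y.fromSpecStalk (genericPoint Y))]
  [QuasiSeparated (Y.fromSpecStalk (genericPoint Y))] in
lemma exists_spec_map (x : X) (y : Y) (h : f x = y) :
    ∃ c : Spec (X.presheaf.stalk x) ⟶ Spec (Y.presheaf.stalk y),
      c ≫ Y.fromSpecStalk y = X.fromSpecStalk x ≫ f := by
  subst h
  exact ⟨Spec.map (f.stalkMap x), Scheme.SpecMap_stalkMap_fromSpecStalk f⟩

omit [Smooth f] [QuasiCompact (X.fromSpecStalk (genericPoint X))]
  [QuasiSeparated (X.fromSpecStalk (genericPoint X))] in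
/-- Key uniqueness: a morphism `Spec K(X) ⟶ Y^ν` over `Y` lying over the generic point is unique. -/
lemma spec_hom_ext_normalization (u₁ u₂ : Spec (X.presheaf.stalk (genericPoint X)) ⟶ Curv2.normalization Y)
    (h : u₁ ≫ Curv2.normalizationι Y = u₂ ≫ Curv2.normalizationι Y)
    (hη : (u₁ ≫ Curv2.normalizationι Y) (IsLocalRing.closedPoint X.functionField) = genericPoint Y) :
    u₁ = u₂ := by
  refine hom_ext_of_fibre (Curv2.normalizationι Y) X.functionField u₁ u₂ h fun z hz ↦ ?_
  have h1 : (Curv2.normalizationι Y) (u₁ (IsLocalRing.closedPoint X.functionField)) = genericPoint Y := hη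
  have hz' : z ∈ (Curv2.normalizationι Y).base ⁻¹' {genericPoint Y} := hz.trans h1
  have hu' : u₁ (IsLocalRing.closedPoint X.functionField) ∈
      (Curv2.normalizationι Y).base ⁻¹' {genericPoint Y} := h1
  rw [(normalization_props Y).2] at hz' hu'
  obtain rfl : z = genericPoint (Curv2.normalization Y) := hz'
  refine ⟨hu'.symm, ?_⟩
  exact (Groth.Agent.Lib.NormalizationIntegral.bijective_residueFieldMap_fromNormalization Y).2

theorem exists_iso :
    ∃ a : Curv2.normalization X ⟶ pullback f (Curv2.normalizationι Y), IsIso a ∧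
      a ≫ pullback.fst f (Curv2.normalizationι Y) = Curv2.normalizationι X ∧
      ∀ e : Curv2.normalization X ≅ pullback f (Curv2.normalizationι Y),
        e.hom ≫ pullback.fst f (Curv2.normalizationι Y) = Curv2.normalizationι X → e.hom = a := by
  have hPint : IsIntegral (pullback f (Curv2.normalizationι Y)) := isIntegral_pullback_normalization f
  have hPn := isNormalScheme_pullback_normalization f
  have hfη : f (genericPoint X) = genericPoint Y := map_genericPoint_of_flat f
  obtain ⟨c, hc⟩ := exists_spec_map f _ _ hfη
  set gX := X.fromSpecStalk (genericPoint X) with hgX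
  set p₁ := pullback.fst f (Curv2.normalizationι Y) with hp₁
  set p₂ := pullback.snd f (Curv2.normalizationι Y) with hp₂
  let f₁ : Spec (X.presheaf.stalk (genericPoint X)) ⟶ pullback f (Curv2.normalizationι Y) :=
    pullback.lift gX (c ≫ toNu Y) (by rw [Category.assoc, toNu_ι, hc])
  have hf₁ : f₁ ≫ p₁ = gX := pullback.lift_fst _ _ _
  have hf₁' : f₁ ≫ p₂ = c ≫ toNu Y := pullback.lift_snd _ _ _
  let a : Curv2.normalization X ⟶ pullback f (Curv2.normalizationι Y) :=
    gX.normalizationDesc f₁ p₁ hf₁.symm
  have ha : a ≫ p₁ = Curv2.normalizationι X := gX.normalizationDesc_comp f₁ p₁ hf₁.symm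
  have hta : toNu X ≫ a = f₁ := gX.toNormalization_normalizationDesc f₁ p₁ hf₁.symm
  have haint : IsIntegralHom a :=
    inferInstanceAs (IsIntegralHom (gX.normalizationDesc f₁ p₁ hf₁.symm))
  have haη : a (genericPoint (Curv2.normalization X)) =
      genericPoint ↥(pullback f (Curv2.normalizationι Y)) := by
    refine eq_genericPoint_of_integral p₁ _ ?_
    rw [← Scheme.Hom.comp_apply, ha, normalizationι_genericPoint]
  have haiso : IsIso (a.stalkMap (genericPoint (Curv2.normalization X))) := by
    have h1 : IsIso ((a ≫ p₁).stalkMap (genericPoint (Curv2.normalization X))) :=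
      isIso_stalkMap_of_eq ha.symm rfl (isIso_stalkMap_normalizationι X)
    rw [Scheme.Hom.stalkMap_comp] at h1
    rw [ConcreteCategory.isIso_iff_bijective]
    have h2 : Function.Bijective
        (⇑(a.stalkMap (genericPoint (Curv2.normalization X))).hom ∘
          ⇑(p₁.stalkMap (a (genericPoint (Curv2.normalization X)))).hom) :=
      (ConcreteCategory.isIso_iff_bijective _).mp h1
    refine ⟨?_, Function.Surjective.of_comp h2.2⟩
    have hF := isField_stalk_of_eq_genericPoint (pullback f (Curv2.normalizationι Y)) _ haη
    let _ := hF.toField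
    exact RingHom.injective _
  have hIso : IsIso a := Groth.Agent.S4809.isIso_of_integral_birational (fun z ↦ (hPn z).2) a _ haη haiso
  refine ⟨a, hIso, ha, fun e he ↦ ?_⟩
  have hcond : p₁ ≫ f = p₂ ≫ Curv2.normalizationι Y := pullback.condition
  refine Scheme.Hom.normalization.hom_ext gX e.hom a p₁ ?_ he ha
  change toNu X ≫ e.hom = toNu X ≫ a
  rw [hta]
  have key : (toNu X ≫ e.hom ≫ p₂) ≫ Curv2.normalizationι Y = gX ≫ f := by
    calc (toNu X ≫ e.hom ≫ p₂) ≫ Curv2.normalizationι Y
        = toNu X ≫ e.hom ≫ (p₂ ≫ Curv2.normalizationι Y) := by simp only [Category.assoc]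
      _ = toNu X ≫ (e.hom ≫ p₁) ≫ f := by rw [← hcond]; simp only [Category.assoc]
      _ = (toNu X ≫ Curv2.normalizationι X) ≫ f := by rw [he]; simp only [Category.assoc]
      _ = gX ≫ f := by rw [toNu_ι]
  refine pullback.hom_ext ?_ ?_
  · change (toNu X ≫ e.hom) ≫ p₁ = f₁ ≫ p₁
    rw [Category.assoc, he, toNu_ι, hf₁]
  · change (toNu X ≫ e.hom) ≫ p₂ = f₁ ≫ p₂
    rw [Category.assoc, hf₁']
    refine spec_hom_ext_normalization _ _ ?_ ?_
    · rw [key, Category.assoc, toNu_ι, hc]
    · rw [key]
      change f (gX (IsLocalRing.closedPoint (X.presheaf.stalk (genericPoint X)))) = genericPoint Y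
      rw [hgX, Scheme.fromSpecStalk_closedPoint]
      exact hfη

end main


end Groth.Agent.Lib.NormalizationSmoothBC
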