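import Mathlib.LinearAlgebra.Matrix.ToLin
import Mathlib.LinearAlgebra.Matrix.Symmetric
import Mathlib.Algebra.Order.Field.Basic
import Mathlib.Algebra.Order.BigOperators.Ring.Finset
import Mathlib.Tactic.Linarith
import Mathlib.Tactic.Ring
import Mathlib.Tactic.FieldSimp

/-!
Symmetric matrices with non-negative off-diagonal entries and a positive vector:
the quadratic form identity and its consequences.
-/

set_option autoImplicit false
open Finset

namespace Groth.Agent.Lib.SymMat

theorem symm_apply {n : ℕ} {R : Type*} {A : Matrix (Fin n) (Fin n) R} (hsymm : A.IsSymm)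
    (i j : Fin n) : A i j = A j i := by
  have := congrFun (congrFun hsymm j) i
  simpa [Matrix.transpose_apply] using this

/-- Connectedness propagates equality of `y`. -/
theorem const_of_connected {n : ℕ} {R S : Type*} [Zero R] (A : Matrix (Fin n) (Fin n) R)
    (y : Fin n → S)
    (hconn : ∀ I : Finset (Fin n), I.Nonempty → I ≠ univ → ∃ i ∈ I, ∃ j ∉ I, A i j ≠ 0)
    (h : ∀ i j, A i j ≠ 0 → i ≠ j → y i = y j) (i0 i : Fin n) : y i = y i0 := by
  classical
  by_contra hne
  let I : Finset (Fin n) := univ.filter (fun k => y k = y i0)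
  have hI : I.Nonempty := ⟨i0, by simp [I]⟩
  have hI' : I ≠ univ := by
    intro hu
    have : i ∈ I := hu ▸ mem_univ i
    simp only [I, mem_filter, mem_univ, true_and] at this
    exact hne this
  obtain ⟨k, hk, j, hj, hkj⟩ := hconn I hI hI'
  simp only [I, mem_filter, mem_univ, true_and] at hk hj
  have hkj' : k ≠ j := by
    rintro rfl
    exact hj hk
  exact hj ((h k j hkj hkj').symm.trans hk)

variable {n : ℕ} {K : Type*} [Field K] [LinearOrder K] [IsStrictOrderedRing K]

/-- The basic identity: with `x i = m i * y i`,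
`2 x^t A x = 2 ∑ y_i^2 m_i (A m)_i - ∑_{i,j} A_ij m_i m_j (y_i - y_j)^2`. -/
theorem two_mul_quad (A : Matrix (Fin n) (Fin n) K) (hsymm : A.IsSymm) (m y : Fin n → K) :
    2 * (dotProduct (fun i => m i * y i) (A.mulVec (fun i => m i * y i)))
      = 2 * ∑ i, y i ^ 2 * m i * (A.mulVec m) i
        - ∑ i, ∑ j, A i j * m i * m j * (y i - y j) ^ 2 := by
  have e1 : dotProduct (fun i => m i * y i) (A.mulVec (fun i => m i * y i))
      = ∑ i, ∑ j, A i j * m i * m j * (y i * y j) := by
    simp only [dotProduct, Matrix.mulVec, Finset.mul_sum]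
    apply Finset.sum_congr rfl; intro i _
    apply Finset.sum_congr rfl; intro j _
    ring
  have e2 : ∑ i, y i ^ 2 * m i * (A.mulVec m) i = ∑ i, ∑ j, A i j * m i * m j * y i ^ 2 := by
    simp only [dotProduct, Matrix.mulVec, Finset.mul_sum]
    apply Finset.sum_congr rfl; intro i _
    apply Finset.sum_congr rfl; intro j _
    ring
  have e3 : ∑ i, ∑ j, A i j * m i * m j * y j ^ 2 = ∑ i, ∑ j, A i j * m i * m j * y i ^ 2 := by
    rw [Finset.sum_comm]
    apply Finset.sum_congr rfl; intro i _
    apply Finset.sum_congr rfl; intro j _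
    rw [symm_apply hsymm j i]
    ring
  have e4 : ∑ i, ∑ j, A i j * m i * m j * (y i - y j) ^ 2
      = ∑ i, ∑ j, A i j * m i * m j * y i ^ 2 + ∑ i, ∑ j, A i j * m i * m j * y j ^ 2
        - 2 * ∑ i, ∑ j, A i j * m i * m j * (y i * y j) := by
    simp only [Finset.mul_sum, ← Finset.sum_add_distrib, ← Finset.sum_sub_distrib]
    apply Finset.sum_congr rfl; intro i _
    apply Finset.sum_congr rfl; intro j _
    ring
  rw [e1, e2, e4, e3]
  ring

/-- Version in terms of `x` itself, `y i = x i / m i`. -/
theorem two_mul_quad' (A : Matrix (Fin n) (Fin n) K) (hsymm : A.IsSymm) (m x : Fin n → K)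
    (hm : ∀ i, m i ≠ 0) :
    2 * (dotProduct x (A.mulVec x))
      = 2 * ∑ i, (x i / m i) ^ 2 * m i * (A.mulVec m) i
        - ∑ i, ∑ j, A i j * m i * m j * (x i / m i - x j / m j) ^ 2 := by
  have hx : x = fun i => m i * (x i / m i) := by
    funext i
    field_simp [hm i]
  rw [← two_mul_quad A hsymm m (fun i => x i / m i), ← hx]

theorem term_nonneg (A : Matrix (Fin n) (Fin n) K) (m y : Fin n → K)
    (hA : ∀ i j, i ≠ j → 0 ≤ A i j) (hm : ∀ i, 0 < m i) (i j : Fin n) :
    0 ≤ A i j * m i * m j * (y i - y j) ^ 2 := by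
  by_cases h : i = j
  · subst h; simp
  · exact mul_nonneg (mul_nonneg (mul_nonneg (hA i j h) (hm i).le) (hm j).le) (sq_nonneg _)

theorem quad_nonpos_and_eq_iff (A : Matrix (Fin n) (Fin n) K)
    (m : Fin n → K) (hsymm : A.IsSymm) (hA : ∀ i j, i ≠ j → 0 ≤ A i j) (hm : ∀ i, 0 < m i)
    (hAm : A.mulVec m = 0)
    (hconn : ∀ I : Finset (Fin n), I.Nonempty → I ≠ univ → ∃ i ∈ I, ∃ j ∉ I, A i j ≠ 0)
    (x : Fin n → K) :
    dotProduct x (A.mulVec x) ≤ 0 ∧ (dotProduct x (A.mulVec x) = 0 ↔ ∃ q : K, x = q • m) := by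
  have hm' : ∀ i, m i ≠ 0 := fun i => (hm i).ne'
  have key := two_mul_quad' A hsymm m x hm'
  simp only [hAm, Pi.zero_apply, mul_zero, Finset.sum_const_zero, zero_sub] at key
  have hnn : 0 ≤ ∑ i, ∑ j, A i j * m i * m j * (x i / m i - x j / m j) ^ 2 :=
    Finset.sum_nonneg fun i _ => Finset.sum_nonneg fun j _ =>
      term_nonneg A m (fun i => x i / m i) hA hm i j
  refine ⟨by linarith, ?_, ?_⟩
  · intro h0
    have hz : ∑ i, ∑ j, A i j * m i * m j * (x i / m i - x j / m j) ^ 2 = 0 := by
      rw [h0] at key; linarith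
    have hz1 : ∀ i, ∑ j, A i j * m i * m j * (x i / m i - x j / m j) ^ 2 = 0 := by
      intro i
      exact (Finset.sum_eq_zero_iff_of_nonneg (fun i _ => Finset.sum_nonneg fun j _ =>
        term_nonneg A m (fun i => x i / m i) hA hm i j)).mp hz i (mem_univ i)
    have hz2 : ∀ i j, A i j * m i * m j * (x i / m i - x j / m j) ^ 2 = 0 := by
      intro i j
      exact (Finset.sum_eq_zero_iff_of_nonneg (fun j _ =>
        term_nonneg A m (fun i => x i / m i) hA hm i j)).mp (hz1 i) j (mem_univ j)
    have heq : ∀ i j, A i j ≠ 0 → i ≠ j → x i / m i = x j / m j := by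
      intro i j hij _
      have h := hz2 i j
      rcases mul_eq_zero.mp h with h | h
      · rcases mul_eq_zero.mp h with h | h
        · rcases mul_eq_zero.mp h with h | h
          · exact absurd h hij
          · exact absurd h (hm' i)
        · exact absurd h (hm' j)
      · exact sub_eq_zero.mp ((pow_eq_zero_iff (two_ne_zero)).mp h)
    rcases Nat.eq_zero_or_pos n with hn | hn
    · subst hn
      exact ⟨0, funext fun i => i.elim0⟩
    · let i0 : Fin n := ⟨0, hn⟩
      refine ⟨x i0 / m i0, funext fun i => ?_⟩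
      have := const_of_connected A (fun i => x i / m i) hconn heq i0 i
      simp only [Pi.smul_apply, smul_eq_mul]
      rw [← this]
      field_simp [hm' i]
  · rintro ⟨q, rfl⟩
    rw [Matrix.mulVec_smul, hAm, smul_zero, dotProduct_zero]

theorem mulVec_apply_split (A : Matrix (Fin n) (Fin n) K) (m : Fin n → K) (i : Fin n) :
    (A.mulVec m) i = A i i * m i + ∑ j ∈ univ.erase i, A i j * m j := by
  simp only [Matrix.mulVec, dotProduct]
  rw [← Finset.add_sum_erase _ _ (mem_univ i)]

theorem ker_eq_span_indicator (A : Matrix (Fin n) (Fin n) K) (m : Fin n → K)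
    (hsymm : A.IsSymm) (hA : ∀ i j, i ≠ j → 0 ≤ A i j) (hm : ∀ i, 0 < m i)
    (hle : ∀ i, ∑ j ∈ univ.erase i, A i j * m j ≤ -(A i i * m i)) :
    LinearMap.ker (Matrix.mulVecLin A) = Submodule.span K
      {x : Fin n → K | ∃ I : Finset (Fin n), (∀ i ∈ I, ∀ j ∉ I, A i j = 0) ∧
        (∀ i ∈ I, ∑ j ∈ univ.erase i, A i j * m j = -(A i i * m i)) ∧
        x = fun i => if i ∈ I then m i else 0} := by
  have hm' : ∀ i, m i ≠ 0 := fun i => (hm i).ne'
  have hAm_le : ∀ i, (A.mulVec m) i ≤ 0 := by
    intro i
    rw [mulVec_apply_split]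
    linarith [hle i]
  apply le_antisymm
  · intro x hx
    rw [LinearMap.mem_ker, Matrix.mulVecLin_apply] at hx
    have key := two_mul_quad' A hsymm m x hm'
    rw [hx, dotProduct_zero, mul_zero] at key
    have hnn : 0 ≤ ∑ i, ∑ j, A i j * m i * m j * (x i / m i - x j / m j) ^ 2 :=
      Finset.sum_nonneg fun i _ => Finset.sum_nonneg fun j _ =>
        term_nonneg A m (fun i => x i / m i) hA hm i j
    have hterm1 : ∀ i, (x i / m i) ^ 2 * m i * (A.mulVec m) i ≤ 0 := by
      intro i
      exact mul_nonpos_of_nonneg_of_nonpos (mul_nonneg (sq_nonneg _) (hm i).le) (hAm_le i)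
    have hnp : ∑ i, (x i / m i) ^ 2 * m i * (A.mulVec m) i ≤ 0 :=
      Finset.sum_nonpos fun i _ => hterm1 i
    have hz : ∑ i, ∑ j, A i j * m i * m j * (x i / m i - x j / m j) ^ 2 = 0 := by linarith
    have hz' : ∑ i, (x i / m i) ^ 2 * m i * (A.mulVec m) i = 0 := by linarith
    have hz1 : ∀ i, ∑ j, A i j * m i * m j * (x i / m i - x j / m j) ^ 2 = 0 := by
      intro i
      exact (Finset.sum_eq_zero_iff_of_nonneg (fun i _ => Finset.sum_nonneg fun j _ =>
        term_nonneg A m (fun i => x i / m i) hA hm i j)).mp hz i (mem_univ i)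
    have hz2 : ∀ i j, A i j * m i * m j * (x i / m i - x j / m j) ^ 2 = 0 := by
      intro i j
      exact (Finset.sum_eq_zero_iff_of_nonneg (fun j _ =>
        term_nonneg A m (fun i => x i / m i) hA hm i j)).mp (hz1 i) j (mem_univ j)
    have hz3 : ∀ i, (x i / m i) ^ 2 * m i * (A.mulVec m) i = 0 := by
      intro i
      exact (Finset.sum_eq_zero_iff_of_nonpos (fun i _ => hterm1 i)).mp hz' i (mem_univ i)
    have hA0 : ∀ i j, x i / m i ≠ x j / m j → A i j = 0 := by
      intro i j hij
      rcases mul_eq_zero.mp (hz2 i j) with h | h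
      · rcases mul_eq_zero.mp h with h | h
        · rcases mul_eq_zero.mp h with h | h
          · exact h
          · exact absurd h (hm' i)
        · exact absurd h (hm' j)
      · exact absurd (sub_eq_zero.mp ((pow_eq_zero_iff (two_ne_zero)).mp h)) hij
    have hAm0 : ∀ i, x i / m i ≠ 0 → (A.mulVec m) i = 0 := by
      intro i hi
      rcases mul_eq_zero.mp (hz3 i) with h | h
      · rcases mul_eq_zero.mp h with h | h
        · exact absurd ((pow_eq_zero_iff (two_ne_zero)).mp h) hi
        · exact absurd h (hm' i)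
      · exact h
    -- decompose x according to the values of y
    have hx_eq : x = ∑ c ∈ univ.image (fun i => x i / m i),
        c • (fun i => if i ∈ univ.filter (fun k => x k / m k = c) then m i else 0) := by
      funext i
      rw [Finset.sum_apply]
      simp only [Pi.smul_apply, smul_eq_mul, mem_filter, mem_univ, true_and, mul_ite, mul_zero]
      rw [Finset.sum_ite_eq]
      rw [if_pos (mem_image_of_mem _ (mem_univ i))]
      field_simp [hm' i]
    rw [hx_eq]
    apply Submodule.sum_mem
    intro c _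
    by_cases hc : c = 0
    · rw [hc, zero_smul]
      exact Submodule.zero_mem _
    · apply Submodule.smul_mem
      apply Submodule.subset_span
      refine ⟨univ.filter (fun k => x k / m k = c), ?_, ?_, rfl⟩
      · intro i hi j hj
        simp only [mem_filter, mem_univ, true_and] at hi hj
        apply hA0
        rw [hi]
        exact fun h => hj h.symm
      · intro i hi
        simp only [mem_filter, mem_univ, true_and] at hi
        have := hAm0 i (by rw [hi]; exact hc)
        rw [mulVec_apply_split] at this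
        linarith
  · rw [Submodule.span_le]
    rintro x ⟨I, hI1, hI2, rfl⟩
    rw [SetLike.mem_coe, LinearMap.mem_ker, Matrix.mulVecLin_apply]
    funext k
    rw [Pi.zero_apply]
    simp only [Matrix.mulVec, dotProduct]
    by_cases hk : k ∈ I
    · have h1 : ∑ j, A k j * (if j ∈ I then m j else 0) = ∑ j, A k j * m j := by
        apply Finset.sum_congr rfl
        intro j _
        by_cases hj : j ∈ I
        · rw [if_pos hj]
        · rw [if_neg hj, hI1 k hk j hj, zero_mul, zero_mul]
      rw [h1, ← Finset.add_sum_erase _ _ (mem_univ k), hI2 k hk]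
      ring
    · apply Finset.sum_eq_zero
      intro j _
      by_cases hj : j ∈ I
      · rw [symm_apply hsymm k j, hI1 j hj k hk, zero_mul]
      · rw [if_neg hj, mul_zero]

end Groth.Agent.Lib.SymMat
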