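import Groth.Prelude.Def_Models
import Groth.Agent.Lib.SymMat
import Mathlib.LinearAlgebra.Dimension.Finrank
import Mathlib.LinearAlgebra.Dimension.RankNullity
import Mathlib.LinearAlgebra.Dimension.Localization

/-!
Basic facts on numerical types (namespace `Models`), shared by several statements.
-/

set_option autoImplicit false
open Finset

namespace Groth.Agent.Lib.NumType

open Models

variable {n : ℕ} (T : Models.NumericalType n)

theorem row_sum (i : Fin n) : ∑ k, T.a i k * T.m k = 0 := by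
  have := congrFun T.mulVec_m i
  simpa [Matrix.mulVec, dotProduct] using this

theorem a_symm (i j : Fin n) : T.a i j = T.a j i := by
  have := congrFun (congrFun T.symm j) i
  simpa [Matrix.transpose_apply] using this

theorem diag_mul_m (i : Fin n) :
    -(T.a i i * T.m i) = ∑ k ∈ univ.erase i, T.a i k * T.m k := by
  have h := row_sum T i
  rw [← Finset.add_sum_erase _ _ (mem_univ i)] at h
  linarith

theorem erase_sum_nonneg (i : Fin n) : 0 ≤ ∑ k ∈ univ.erase i, T.a i k * T.m k := by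
  apply Finset.sum_nonneg
  intro k hk
  exact mul_nonneg (T.offDiag_nonneg i k (Ne.symm (ne_of_mem_erase hk))) (T.m_pos k).le

theorem diag_nonpos (i : Fin n) : T.a i i ≤ 0 := by
  have h1 := diag_mul_m T i
  have h2 := erase_sum_nonneg T i
  have hmi := T.m_pos i
  by_contra hcon
  rw [not_le] at hcon
  have := mul_pos hcon hmi
  linarith

theorem exists_pos_offDiag (hn : 1 < n) (i : Fin n) : ∃ j, j ≠ i ∧ 0 < T.a i j := by
  have hne : ({i} : Finset (Fin n)) ≠ univ := by
    intro h
    have := congrArg Finset.card h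
    simp at this
    omega
  obtain ⟨i', hi', j, hj, hij⟩ := T.connected {i} (singleton_nonempty i) hne
  rw [mem_singleton] at hi'
  subst hi'
  rw [mem_singleton] at hj
  exact ⟨j, hj, lt_of_le_of_ne (T.offDiag_nonneg i' j (Ne.symm hj)) (Ne.symm hij)⟩

theorem diag_neg (hn : 1 < n) (i : Fin n) : T.a i i < 0 := by
  obtain ⟨j, hj, hjpos⟩ := exists_pos_offDiag T hn i
  have h1 := diag_mul_m T i
  have hsum : 0 < ∑ k ∈ univ.erase i, T.a i k * T.m k := by
    apply Finset.sum_pos'
    · intro k hk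
      exact mul_nonneg (T.offDiag_nonneg i k (Ne.symm (ne_of_mem_erase hk))) (T.m_pos k).le
    · exact ⟨j, mem_erase.mpr ⟨hj, mem_univ j⟩, mul_pos hjpos (T.m_pos j)⟩
  have hmi := T.m_pos i
  nlinarith

/-- A positive entry is off-diagonal. -/
theorem ne_of_pos {i j : Fin n} (hij : 0 < T.a i j) : i ≠ j := by
  rintro rfl
  exact absurd hij (not_lt.mpr (diag_nonpos T i))

/-- Splitting a double sum of a symmetric function. -/
theorem sum_sum_symm {α : Type*} [AddCommMonoid α] (f : Fin n → Fin n → α)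
    (hf : ∀ i j, f i j = f j i) :
    ∑ i, ∑ j, f i j = ∑ i, f i i + (∑ i, ∑ j ∈ univ.filter (fun j => i < j), f i j
      + ∑ i, ∑ j ∈ univ.filter (fun j => i < j), f i j) := by
  have h1 : ∀ i, ∑ j, f i j = f i i + (∑ j ∈ univ.filter (fun j => i < j), f i j
      + ∑ j ∈ univ.filter (fun j => j < i), f i j) := by
    intro i
    rw [← Finset.add_sum_erase _ _ (mem_univ i)]
    congr 1
    rw [← Finset.sum_union]
    · apply Finset.sum_congr _ (fun _ _ => rfl)
      ext j
      simp only [mem_erase, mem_univ, and_true, mem_union, mem_filter, true_and]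
      constructor
      · intro h
        rcases lt_trichotomy i j with h' | h' | h'
        · exact Or.inl h'
        · exact absurd h'.symm h
        · exact Or.inr h'
      · rintro (h | h)
        · exact (ne_of_lt h).symm
        · exact ne_of_lt h
    · rw [Finset.disjoint_left]
      intro j hj hj'
      simp only [mem_filter, mem_univ, true_and] at hj hj'
      exact absurd hj (not_lt.mpr hj'.le)
  simp_rw [h1]
  rw [Finset.sum_add_distrib, Finset.sum_add_distrib]
  congr 2
  -- swap the order of summation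
  have : ∑ i, ∑ j ∈ univ.filter (fun j => j < i), f i j
      = ∑ j, ∑ i ∈ univ.filter (fun i => j < i), f i j := by
    apply Finset.sum_comm'
    intro x y
    simp only [mem_univ, mem_filter, true_and, and_true]
  rw [this]
  apply Finset.sum_congr rfl
  intro j _
  apply Finset.sum_congr rfl
  intro i _
  exact hf i j

theorem sum_sum_a_m_m : ∑ i, ∑ j, T.a i j * T.m i * T.m j = 0 := by
  have : ∀ i, ∑ j, T.a i j * T.m i * T.m j = T.m i * ∑ j, T.a i j * T.m j := by
    intro i
    rw [Finset.mul_sum]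
    apply Finset.sum_congr rfl
    intro j _
    ring
  simp_rw [this, row_sum, mul_zero, Finset.sum_const_zero]

theorem two_dvd_sum_m_mul_diag : (2 : ℤ) ∣ ∑ i, T.m i * T.a i i := by
  have h0 := sum_sum_a_m_m T
  rw [sum_sum_symm (fun i j => T.a i j * T.m i * T.m j)
    (fun i j => by rw [a_symm T i j]; ring)] at h0
  have h1 : (2 : ℤ) ∣ ∑ i, T.a i i * T.m i * T.m i := by
    refine ⟨-∑ i, ∑ j ∈ univ.filter (fun j => i < j), T.a i j * T.m i * T.m j, ?_⟩
    linarith
  have h2 : (2 : ℤ) ∣ ∑ i, T.a i i * (T.m i * (T.m i - 1)) := by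
    apply Finset.dvd_sum
    intro i _
    exact Dvd.dvd.mul_left (even_iff_two_dvd.mp (Int.even_mul_pred_self (T.m i))) _
  have h3 : ∑ i, T.m i * T.a i i
      = ∑ i, T.a i i * T.m i * T.m i - ∑ i, T.a i i * (T.m i * (T.m i - 1)) := by
    rw [← Finset.sum_sub_distrib]
    apply Finset.sum_congr rfl
    intro i _
    ring
  rw [h3]
  exact dvd_sub h1 h2

theorem two_mul_genus :
    2 * T.genus = 2 + 2 * (∑ i, T.m i * T.w i * (T.g i - 1)) - ∑ i, T.m i * T.a i i := by
  obtain ⟨c, hc⟩ := two_dvd_sum_m_mul_diag T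
  unfold NumericalType.genus
  rw [hc, Int.mul_ediv_cancel_left _ (by norm_num : (2 : ℤ) ≠ 0)]
  ring

theorem w_le_of_pos {i j : Fin n} (hij : 0 < T.a i j) : T.w i ≤ T.a i j :=
  Int.le_of_dvd hij (T.w_dvd i j)

theorem m_mul_abs_diag (j : Fin n) : T.m j * |T.a j j| = -(T.a j j * T.m j) := by
  rw [abs_of_nonpos (diag_nonpos T j)]
  ring

theorem mul_le_of_pos_offDiag (i j : Fin n) (hij : 0 < T.a i j) :
    T.m i * T.a i j ≤ T.m j * |T.a j j| ∧ T.m i * T.w i ≤ T.m j * |T.a j j| := by
  have hne : i ≠ j := ne_of_pos T hij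
  have h1 : T.m i * T.a i j ≤ T.m j * |T.a j j| := by
    rw [m_mul_abs_diag, diag_mul_m]
    have hmem : i ∈ univ.erase j := mem_erase.mpr ⟨hne, mem_univ i⟩
    have := Finset.single_le_sum (f := fun k => T.a j k * T.m k) (s := univ.erase j)
      (fun k hk => mul_nonneg (T.offDiag_nonneg j k (Ne.symm (ne_of_mem_erase hk)))
        (T.m_pos k).le) hmem
    rw [a_symm T j i] at this
    linarith
  refine ⟨h1, le_trans ?_ h1⟩
  exact mul_le_mul_of_nonneg_left (w_le_of_pos T hij) (T.m_pos i).le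

/-- The local contribution `c i = 2 w_i (g_i - 1) - a_ii` to `2 g - 2`. -/
def cc (i : Fin n) : ℤ := 2 * T.w i * (T.g i - 1) - T.a i i

theorem two_mul_genus_sub_two : 2 * T.genus - 2 = ∑ i, T.m i * cc T i := by
  rw [two_mul_genus, Finset.mul_sum]
  have : ∑ i, T.m i * cc T i
      = ∑ i, 2 * (T.m i * T.w i * (T.g i - 1)) - ∑ i, T.m i * T.a i i := by
    rw [← Finset.sum_sub_distrib]
    apply Finset.sum_congr rfl
    intro i _
    unfold cc
    ring
  rw [this]
  ring

theorem cc_nonneg (hmin : T.IsMinimal) (hn : 1 < n) (i : Fin n) : 0 ≤ cc T i := by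
  unfold cc
  have hneg := diag_neg T hn i
  obtain ⟨k, hk⟩ := T.w_dvd i i
  have hw := T.w_pos i
  have hg := T.g_nonneg i
  have hk1 : k ≤ -1 := by
    by_contra hcon
    rw [not_le] at hcon
    have : 0 ≤ T.w i * k := mul_nonneg hw.le (by omega)
    linarith
  rcases eq_or_lt_of_le hg with hg0 | hgpos
  · -- g i = 0
    have hk2 : k ≠ -1 := by
      intro hk'
      apply hmin i
      refine ⟨hg0.symm, ?_⟩
      rw [hk, hk']
      ring
    have hk3 : k ≤ -2 := by omega
    rw [← hg0, hk]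
    nlinarith
  · have : 1 ≤ T.g i := hgpos
    have h1 : 0 ≤ 2 * T.w i * (T.g i - 1) :=
      mul_nonneg (by linarith) (by linarith)
    linarith

theorem one_le_genus_of_isMinimal (hmin : T.IsMinimal) (hn : 1 < n) : 1 ≤ T.genus := by
  have h := two_mul_genus_sub_two T
  have : 0 ≤ ∑ i, T.m i * cc T i :=
    Finset.sum_nonneg fun i _ => mul_nonneg (T.m_pos i).le (cc_nonneg T hmin hn i)
  linarith

/-- Edge indicator. -/
def nb (i j : Fin n) : ℚ := if 0 < T.a i j then 1 else 0

/-- Ratio of multiplicities along edges. -/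
def rr (i j : Fin n) : ℚ := if 0 < T.a i j then (T.m j : ℚ) / (T.m i : ℚ) else 0

theorem nb_symm (i j : Fin n) : nb T i j = nb T j i := by
  unfold nb
  rw [a_symm T i j]

theorem nb_diag (i : Fin n) : nb T i i = 0 := by
  unfold nb
  rw [if_neg (not_lt.mpr (diag_nonpos T i))]

theorem edgeCount_eq : (T.edgeCount : ℚ) = ∑ i, ∑ j ∈ univ.filter (fun j => i < j), nb T i j := by
  unfold NumericalType.edgeCount nb
  rw [Finset.card_filter]
  push_cast
  rw [← Finset.univ_product_univ, Finset.sum_product]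
  apply Finset.sum_congr rfl
  intro i _
  rw [Finset.sum_filter]
  apply Finset.sum_congr rfl
  intro j _
  by_cases h1 : i < j <;> by_cases h2 : 0 < T.a i j <;> simp [h1, h2]

theorem sum_nb : ∑ i, ∑ j, nb T i j = 2 * (T.edgeCount : ℚ) := by
  rw [sum_sum_symm (fun i j => nb T i j) (nb_symm T), edgeCount_eq]
  simp only [nb_diag, Finset.sum_const_zero, zero_add]
  ring

theorem rr_ge (i j : Fin n) : 2 * nb T i j - rr T j i ≤ rr T i j := by
  unfold nb rr
  rw [a_symm T j i]
  by_cases h : 0 < T.a i j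
  · rw [if_pos h, if_pos h, if_pos h]
    have hi : (0 : ℚ) < T.m i := by exact_mod_cast T.m_pos i
    have hj : (0 : ℚ) < T.m j := by exact_mod_cast T.m_pos j
    rw [sub_le_iff_le_add, div_add_div _ _ hi.ne' hj.ne', le_div_iff₀ (mul_pos hi hj)]
    nlinarith [sq_nonneg ((T.m i : ℚ) - T.m j)]
  · rw [if_neg h, if_neg h, if_neg h]
    norm_num

theorem sum_rr_ge : 2 * (T.edgeCount : ℚ) ≤ ∑ i, ∑ j, rr T i j := by
  have h1 : ∑ i, ∑ j, (2 * nb T i j - rr T j i) ≤ ∑ i, ∑ j, rr T i j :=
    Finset.sum_le_sum fun i _ => Finset.sum_le_sum fun j _ => rr_ge T i j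
  have h2 : ∑ i, ∑ j, (2 * nb T i j - rr T j i)
      = 2 * ∑ i, ∑ j, nb T i j - ∑ i, ∑ j, rr T i j := by
    simp only [Finset.sum_sub_distrib, Finset.mul_sum]
    congr 1
    exact Finset.sum_comm
  rw [h2, sum_nb] at h1
  linarith

/-- `-a_ii / w_i` as a rational number. -/
def kk (i : Fin n) : ℚ := -(T.a i i : ℚ) / (T.w i : ℚ)

theorem sum_rr_le_kk (i : Fin n) : ∑ j, rr T i j ≤ kk T i := by
  have hw : (0 : ℚ) < T.w i := by exact_mod_cast T.w_pos i
  have hm : (0 : ℚ) < T.m i := by exact_mod_cast T.m_pos i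
  have hZ : T.w i * ∑ j, (if 0 < T.a i j then T.m j else 0) ≤ -(T.a i i * T.m i) := by
    rw [diag_mul_m, Finset.mul_sum, ← Finset.add_sum_erase _ _ (mem_univ i),
      if_neg (not_lt.mpr (diag_nonpos T i)), mul_zero, zero_add]
    apply Finset.sum_le_sum
    intro j hj
    by_cases h : 0 < T.a i j
    · rw [if_pos h]
      exact mul_le_mul_of_nonneg_right (w_le_of_pos T h) (T.m_pos j).le
    · rw [if_neg h, mul_zero]
      exact mul_nonneg (T.offDiag_nonneg i j (Ne.symm (ne_of_mem_erase hj))) (T.m_pos j).le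
  have hQ : (T.w i : ℚ) * ∑ j, (if 0 < T.a i j then (T.m j : ℚ) else 0)
      ≤ -((T.a i i : ℚ) * T.m i) := by
    have := (Int.cast_le (R := ℚ)).mpr hZ
    push_cast at this
    exact this
  unfold kk
  rw [le_div_iff₀ hw]
  have h3 : (∑ j, rr T i j) * (T.m i : ℚ) = ∑ j, (if 0 < T.a i j then (T.m j : ℚ) else 0) := by
    rw [Finset.sum_mul]
    apply Finset.sum_congr rfl
    intro j _
    unfold rr
    split_ifs
    · field_simp
    · simp
  have h4 : (∑ j, rr T i j) * (T.w i : ℚ) * (T.m i : ℚ) ≤ -(T.a i i : ℚ) * (T.m i : ℚ) := by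
    calc (∑ j, rr T i j) * (T.w i : ℚ) * (T.m i : ℚ)
        = (T.w i : ℚ) * ((∑ j, rr T i j) * (T.m i : ℚ)) := by ring
      _ ≤ -((T.a i i : ℚ) * T.m i) := by rw [h3]; exact hQ
      _ = -(T.a i i : ℚ) * (T.m i : ℚ) := by ring
  exact le_of_mul_le_mul_right h4 hm

theorem cc_cast (i : Fin n) :
    (cc T i : ℚ) = (T.w i : ℚ) * (2 * (T.g i : ℚ) - 2 + kk T i) := by
  have hw : (T.w i : ℚ) ≠ 0 := by exact_mod_cast (T.w_pos i).ne'
  unfold cc kk
  push_cast
  field_simp
  ring

theorem topGenus_le_genus_of_isMinimal (hmin : T.IsMinimal) (hn : 1 < n) :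
    T.topGenus ≤ T.genus := by
  have h := two_mul_genus_sub_two T
  have hq : (2 : ℚ) * (T.genus : ℚ) - 2 = ∑ i, (T.m i : ℚ) * (cc T i : ℚ) := by
    have := congrArg (Int.cast (R := ℚ)) h
    push_cast at this
    exact this
  have h1 : ∀ i, kk T i - 2 ≤ (T.m i : ℚ) * (cc T i : ℚ) := by
    intro i
    have hw : (1 : ℚ) ≤ T.w i := by exact_mod_cast T.w_pos i
    have hm : (1 : ℚ) ≤ T.m i := by exact_mod_cast T.m_pos i
    have hg : (0 : ℚ) ≤ T.g i := by exact_mod_cast T.g_nonneg i
    have hc : (0 : ℚ) ≤ cc T i := by exact_mod_cast cc_nonneg T hmin hn i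
    have hc' := cc_cast T i
    have hpos : 0 ≤ 2 * (T.g i : ℚ) - 2 + kk T i := by
      by_contra hcon
      rw [not_le] at hcon
      have : (T.w i : ℚ) * (2 * (T.g i : ℚ) - 2 + kk T i) < 0 :=
        mul_neg_of_pos_of_neg (by linarith) hcon
      linarith
    calc kk T i - 2 ≤ 2 * (T.g i : ℚ) - 2 + kk T i := by linarith
      _ ≤ (T.w i : ℚ) * (2 * (T.g i : ℚ) - 2 + kk T i) := le_mul_of_one_le_left hpos hw
      _ = (cc T i : ℚ) := hc'.symm
      _ ≤ (T.m i : ℚ) * (cc T i : ℚ) := le_mul_of_one_le_left hc hm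
  have h2 : ∑ i, (kk T i - 2) ≤ ∑ i, (T.m i : ℚ) * (cc T i : ℚ) :=
    Finset.sum_le_sum fun i _ => h1 i
  have h3 : ∑ i, ∑ j, rr T i j ≤ ∑ i, kk T i :=
    Finset.sum_le_sum fun i _ => sum_rr_le_kk T i
  have h4 := sum_rr_ge T
  rw [Finset.sum_sub_distrib] at h2
  simp only [Finset.sum_const, Finset.card_univ, Fintype.card_fin, nsmul_eq_mul] at h2
  have h5 : (T.topGenus : ℚ) ≤ (T.genus : ℚ) := by
    unfold NumericalType.topGenus
    push_cast
    linarith
  exact_mod_cast h5

theorem w_mul_picMatrix (i j : Fin n) : T.w i * T.picMatrix i j = T.a i j := by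
  unfold NumericalType.picMatrix
  exact Int.mul_ediv_cancel' (T.w_dvd i j)

theorem a_mulVec_apply (x : Fin n → ℤ) (i : Fin n) :
    (T.a.mulVec x) i = T.w i * (T.picMatrix.mulVec x) i := by
  simp only [Matrix.mulVec, dotProduct, Finset.mul_sum]
  apply Finset.sum_congr rfl
  intro j _
  rw [← mul_assoc, w_mul_picMatrix]

theorem picMatrix_mulVec_eq_zero_iff (x : Fin n → ℤ) :
    T.picMatrix.mulVec x = 0 ↔ T.a.mulVec x = 0 := by
  constructor
  · intro h
    funext i
    rw [a_mulVec_apply, h]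
    simp
  · intro h
    funext i
    have := congrFun h i
    rw [a_mulVec_apply] at this
    rcases mul_eq_zero.mp this with h' | h'
    · exact absurd h' (T.w_pos i).ne'
    · exact h'

/-- The rational version of the intersection matrix. -/
def aQ : Matrix (Fin n) (Fin n) ℚ := fun i j => (T.a i j : ℚ)

/-- The rational version of the multiplicities. -/
def mQ : Fin n → ℚ := fun i => (T.m i : ℚ)

theorem aQ_mulVec_cast (x : Fin n → ℤ) (i : Fin n) :
    ((aQ T).mulVec (fun j => (x j : ℚ))) i = ((T.a.mulVec x i : ℤ) : ℚ) := by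
  simp only [Matrix.mulVec, dotProduct, aQ]
  push_cast
  rfl

theorem aQ_symm : (aQ T).IsSymm := by
  ext i j
  simp only [Matrix.transpose_apply, aQ]
  rw [a_symm T j i]

theorem aQ_offDiag (i j : Fin n) (h : i ≠ j) : 0 ≤ aQ T i j := by
  simp only [aQ]
  exact_mod_cast T.offDiag_nonneg i j h

theorem mQ_pos (i : Fin n) : 0 < mQ T i := by
  simp only [mQ]
  exact_mod_cast T.m_pos i

theorem aQ_mulVec_mQ : (aQ T).mulVec (mQ T) = 0 := by
  funext i
  have := aQ_mulVec_cast T T.m i
  rw [T.mulVec_m] at this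
  simp only [Pi.zero_apply, Int.cast_zero] at this
  exact this

theorem aQ_conn (I : Finset (Fin n)) (h1 : I.Nonempty) (h2 : I ≠ univ) :
    ∃ i ∈ I, ∃ j ∉ I, aQ T i j ≠ 0 := by
  obtain ⟨i, hi, j, hj, hij⟩ := T.connected I h1 h2
  exact ⟨i, hi, j, hj, by simp only [aQ]; exact_mod_cast hij⟩

/-- The quadratic form of a numerical type is negative semi-definite with radical `ℚ m`. -/
theorem aQ_quad (x : Fin n → ℚ) :
    dotProduct x ((aQ T).mulVec x) ≤ 0 ∧
      (dotProduct x ((aQ T).mulVec x) = 0 ↔ ∃ q : ℚ, x = q • mQ T) :=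
  Groth.Agent.Lib.SymMat.quad_nonpos_and_eq_iff (aQ T) (mQ T) (aQ_symm T) (aQ_offDiag T)
    (mQ_pos T) (aQ_mulVec_mQ T) (aQ_conn T) x

theorem exists_rat_of_a_mulVec_eq_zero (x : Fin n → ℤ) (hx : T.a.mulVec x = 0) :
    ∃ q : ℚ, ∀ i, (x i : ℚ) = q * T.m i := by
  have h0 : (aQ T).mulVec (fun j => (x j : ℚ)) = 0 := by
    funext i
    rw [aQ_mulVec_cast, hx]
    simp
  have h1 : dotProduct (fun j => (x j : ℚ)) ((aQ T).mulVec (fun j => (x j : ℚ))) = 0 := by
    rw [h0, dotProduct_zero]
  obtain ⟨q, hq⟩ := ((aQ_quad T _).2).mp h1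
  refine ⟨q, fun i => ?_⟩
  have := congrFun hq i
  simpa [mQ] using this

/-- An integer vector killed by `a` and vanishing at one index vanishes. -/
theorem eq_zero_of_a_mulVec_eq_zero (x : Fin n → ℤ) (hx : T.a.mulVec x = 0) (i0 : Fin n)
    (h0 : x i0 = 0) : x = 0 := by
  obtain ⟨q, hq⟩ := exists_rat_of_a_mulVec_eq_zero T x hx
  have hm : (T.m i0 : ℚ) ≠ 0 := by exact_mod_cast (T.m_pos i0).ne'
  have hq0 : q = 0 := by
    have := hq i0
    rw [h0] at this
    simp only [Int.cast_zero] at this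
    rcases mul_eq_zero.mp this.symm with h | h
    · exact h
    · exact absurd h hm
  funext i
  have := hq i
  rw [hq0, zero_mul] at this
  exact_mod_cast this

theorem finrank_ker_picMatrix :
    Module.finrank ℤ (LinearMap.ker (Matrix.mulVecLin T.picMatrix)) = 1 := by
  let i0 : Fin n := ⟨0, T.pos⟩
  let K := LinearMap.ker (Matrix.mulVecLin T.picMatrix)
  apply le_antisymm
  · let g : K →ₗ[ℤ] ℤ := (LinearMap.proj i0).comp K.subtype
    have hg : Function.Injective g := by
      rw [← LinearMap.ker_eq_bot, LinearMap.ker_eq_bot']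
      intro x hx
      have hx' : T.a.mulVec x.1 = 0 := by
        rw [← picMatrix_mulVec_eq_zero_iff]
        have := x.2
        rwa [LinearMap.mem_ker, Matrix.mulVecLin_apply] at this
      have : x.1 = 0 := eq_zero_of_a_mulVec_eq_zero T x.1 hx' i0 (by simpa [g] using hx)
      exact Subtype.ext this
    have := LinearMap.finrank_le_finrank_of_injective hg
    rwa [Module.finrank_self] at this
  · have hm : T.m ∈ K := by
      rw [LinearMap.mem_ker, Matrix.mulVecLin_apply, picMatrix_mulVec_eq_zero_iff]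
      exact T.mulVec_m
    have : 0 < Module.finrank ℤ K := by
      rw [Module.finrank_pos_iff_exists_ne_zero]
      refine ⟨⟨T.m, hm⟩, ?_⟩
      intro h
      have := congrFun (congrArg Subtype.val h) i0
      simp only [ZeroMemClass.coe_zero, Pi.zero_apply] at this
      exact (T.m_pos i0).ne' this
    exact this

theorem finrank_pic : Module.finrank ℤ T.Pic = 1 := by
  let f := Matrix.mulVecLin T.picMatrix
  have h1 := (LinearMap.range f).finrank_quotient_add_finrank
  have h2 := (LinearMap.ker f).finrank_quotient_add_finrank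
  have h3 := f.quotKerEquivRange.finrank_eq
  have h4 := finrank_ker_picMatrix T
  change Module.finrank ℤ ((Fin n → ℤ) ⧸ LinearMap.range f) = 1
  change Module.finrank ℤ (LinearMap.ker f) = 1 at h4
  omega

/-- Multiplication of the `i`-th coordinate by `w i`. -/
def wMap : (Fin n → ℤ) →ₗ[ℤ] (Fin n → ℤ) where
  toFun x i := T.w i * x i
  map_add' x y := by funext i; simp [mul_add]
  map_smul' c x := by funext i; simp [mul_left_comm]

theorem wMap_apply (x : Fin n → ℤ) (i : Fin n) : wMap T x i = T.w i * x i := rfl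

theorem wMap_picMatrix_mulVec (z : Fin n → ℤ) :
    wMap T (T.picMatrix.mulVec z) = T.a.mulVec z := by
  funext i
  rw [wMap_apply, a_mulVec_apply]

theorem range_pic_le_comap :
    LinearMap.range (Matrix.mulVecLin T.picMatrix)
      ≤ (LinearMap.range (Matrix.mulVecLin T.a)).comap (wMap T) := by
  rintro x ⟨z, rfl⟩
  rw [Submodule.mem_comap, Matrix.mulVecLin_apply, wMap_picMatrix_mulVec]
  exact ⟨z, rfl⟩

/-- The induced map `Pic → CokerA`. -/
def picToCokerA : T.Pic →ₗ[ℤ] T.CokerA :=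
  Submodule.mapQ _ _ (wMap T) (range_pic_le_comap T)

theorem picToCokerA_mk (x : Fin n → ℤ) :
    picToCokerA T (Submodule.Quotient.mk x) = Submodule.Quotient.mk (fun i => T.w i * x i) := by
  unfold picToCokerA
  rw [Submodule.mapQ_apply]
  rfl

theorem picToCokerA_injective : Function.Injective (picToCokerA T) := by
  rw [← LinearMap.ker_eq_bot, LinearMap.ker_eq_bot']
  intro y hy
  obtain ⟨x, rfl⟩ := Submodule.Quotient.mk_surjective _ y
  rw [picToCokerA_mk, Submodule.Quotient.mk_eq_zero] at hy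
  obtain ⟨z, hz⟩ := hy
  rw [Matrix.mulVecLin_apply] at hz
  rw [Submodule.Quotient.mk_eq_zero]
  refine ⟨z, ?_⟩
  rw [Matrix.mulVecLin_apply]
  funext i
  have := congrFun hz i
  rw [a_mulVec_apply] at this
  exact mul_left_cancel₀ (T.w_pos i).ne' this

/-- Structure of `cc` at an index which is neither a `(-1)`- nor a `(-2)`-index. -/
theorem cc_bounds (hmin : T.IsMinimal) (hn : 1 < n) (j : Fin n) (hj : ¬T.IsMinusTwo j) :
    1 ≤ cc T j ∧ 2 * T.g j - 1 ≤ cc T j ∧ -T.a j j ≤ 3 * cc T j := by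
  have hneg := diag_neg T hn j
  obtain ⟨k, hk⟩ := T.w_dvd j j
  have hw := T.w_pos j
  have hg := T.g_nonneg j
  have hk1 : k ≤ -1 := by
    by_contra hcon
    rw [not_le] at hcon
    have : 0 ≤ T.w j * k := mul_nonneg hw.le (by omega)
    linarith
  have hcc : cc T j = T.w j * (2 * T.g j - 2 - k) := by
    unfold cc
    rw [hk]
    ring
  rcases eq_or_lt_of_le hg with hg0 | hgpos
  · have hk2 : k ≠ -1 := by
      intro hk'
      apply hmin j
      refine ⟨hg0.symm, ?_⟩
      rw [hk, hk']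
      ring
    have hk3 : k ≠ -2 := by
      intro hk'
      apply hj
      refine ⟨hg0.symm, ?_⟩
      rw [hk, hk']
      ring
    have hk4 : k ≤ -3 := by omega
    rw [hcc, ← hg0, hk]
    refine ⟨?_, ?_, ?_⟩ <;> nlinarith
  · have h1 : 1 ≤ T.g j := hgpos
    rw [hcc, hk]
    refine ⟨?_, ?_, ?_⟩ <;> nlinarith

theorem m_mul_cc_le (hmin : T.IsMinimal) (hn : 1 < n) (j : Fin n) :
    T.m j * cc T j ≤ 2 * T.genus - 2 := by
  rw [two_mul_genus_sub_two]
  exact Finset.single_le_sum (f := fun i => T.m i * cc T i)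
    (fun i _ => mul_nonneg (T.m_pos i).le (cc_nonneg T hmin hn i)) (mem_univ j)

end Groth.Agent.Lib.NumType
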