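import Groth.Agent.Lib.NumType

/-!
The bound `m_i |a_ij| ≤ 768 g` for minimal numerical types of genus `g ≥ 2`
(Stacks, Models of curves, "bounding invariants of numerical types"), proved without the
classification of `(-2)`-configurations.

Write `μ x = w x * m x`.  For a `(-2)`-index `x` one has `2 μ x = ∑_{k ≠ x} a x k * m k` and every
non-zero term `a x k * m k` is at least `μ k`.  Take a `(-2)`-index `v` with `μ v = M` maximal and,
among those, closest (in the dual graph) to the set of non-`(-2)`-indices.  If `M > 64 B`, where `B`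
bounds `m i * a i j` for `j` not a `(-2)`-index, then a ball of radius `5` around `v` consists of
`(-2)`-indices all of whose neighbours are `(-2)`-indices.  A local analysis at `v` shows that the
neighbour `p` of `v` on a geodesic towards the non-`(-2)`-indices has `6 μ p ≤ 5 M`; concavity of
`μ` along the geodesic then forces `μ ≤ 0` after six steps, a contradiction.
-/

set_option autoImplicit false
open Finset

namespace Groth.Agent.Lib.NumType768

open Models Groth.Agent.Lib.NumType

variable {n : ℕ} (T : Models.NumericalType n)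

/-- `μ i = w i * m i`. -/
def mu (i : Fin n) : ℤ := T.w i * T.m i

theorem mu_pos (i : Fin n) : 0 < mu T i := mul_pos (T.w_pos i) (T.m_pos i)

/-! ### A distance function to a non-empty set of indices -/

section dist

open Classical in
/-- indices at distance at most `k` from `J₀` -/
noncomputable def reach (J₀ : Finset (Fin n)) : ℕ → Finset (Fin n)
  | 0 => J₀
  | k + 1 => reach J₀ k ∪ univ.filter (fun x => ∃ y ∈ reach J₀ k, T.a x y ≠ 0)

theorem reach_succ_subset (J₀ : Finset (Fin n)) (k : ℕ) : reach T J₀ k ⊆ reach T J₀ (k + 1) := by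
  intro x hx
  simp only [reach, mem_union]
  exact Or.inl hx

theorem reach_mono (J₀ : Finset (Fin n)) {i j : ℕ} (h : i ≤ j) : reach T J₀ i ⊆ reach T J₀ j := by
  induction j, h using Nat.le_induction with
  | base => exact subset_rfl
  | succ j _ ih => exact ih.trans (reach_succ_subset T J₀ j)

theorem mem_reach_succ (J₀ : Finset (Fin n)) (k : ℕ) (x y : Fin n) (hy : y ∈ reach T J₀ k)
    (hxy : T.a x y ≠ 0) : x ∈ reach T J₀ (k + 1) := by
  classical
  simp only [reach, mem_union, mem_filter, mem_univ, true_and]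
  exact Or.inr ⟨y, hy, hxy⟩

theorem exists_of_mem_reach_succ (J₀ : Finset (Fin n)) (k : ℕ) (x : Fin n)
    (hx : x ∈ reach T J₀ (k + 1)) (hx' : x ∉ reach T J₀ k) :
    ∃ y ∈ reach T J₀ k, T.a x y ≠ 0 := by
  classical
  simp only [reach, mem_union, mem_filter, mem_univ, true_and] at hx
  rcases hx with hx | hx
  · exact absurd hx hx'
  · exact hx

theorem reach_card (J₀ : Finset (Fin n)) (hJ : J₀.Nonempty) (k : ℕ) :
    reach T J₀ k = univ ∨ k + 1 ≤ (reach T J₀ k).card := by
  induction k with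
  | zero =>
    right
    simp only [reach]
    exact Finset.card_pos.mpr hJ
  | succ k ih =>
    rcases ih with ih | ih
    · left
      exact Finset.eq_univ_of_forall fun x => reach_succ_subset T J₀ k (ih ▸ mem_univ x)
    · by_cases hk : reach T J₀ k = univ
      · left
        exact Finset.eq_univ_of_forall fun x => reach_succ_subset T J₀ k (hk ▸ mem_univ x)
      · right
        have hne : (reach T J₀ k).Nonempty := by
          obtain ⟨j, hj⟩ := hJ
          exact ⟨j, reach_mono T J₀ (Nat.zero_le k) hj⟩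
        obtain ⟨i, hi, j, hj, hij⟩ := T.connected _ hne hk
        have hj' : j ∈ reach T J₀ (k + 1) :=
          mem_reach_succ T J₀ k j i hi (by rw [a_symm T j i]; exact hij)
        have hss : reach T J₀ k ⊂ reach T J₀ (k + 1) := by
          refine ⟨reach_succ_subset T J₀ k, fun h => hj (h hj')⟩
        have := Finset.card_lt_card hss
        omega

theorem reach_eq_univ (J₀ : Finset (Fin n)) (hJ : J₀.Nonempty) : reach T J₀ n = univ := by
  rcases reach_card T J₀ hJ n with h | h
  · exact h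
  · have := Finset.card_le_univ (reach T J₀ n)
    simp only [Fintype.card_fin] at this
    omega

/-- A "distance to `J₀`" function: every index outside `J₀` has a neighbour which is one step
closer. -/
theorem exists_dist (J₀ : Finset (Fin n)) (hJ : J₀.Nonempty) :
    ∃ d : Fin n → ℕ, ∀ x, x ∉ J₀ → ∃ y, T.a x y ≠ 0 ∧ d y + 1 = d x := by
  classical
  have hex : ∀ x : Fin n, ∃ k, x ∈ reach T J₀ k := fun x =>
    ⟨n, by rw [reach_eq_univ T J₀ hJ]; exact mem_univ x⟩
  refine ⟨fun x => Nat.find (hex x), ?_⟩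
  intro x hx
  have hspec := Nat.find_spec (hex x)
  have hne : Nat.find (hex x) ≠ 0 := by
    intro h0
    rw [h0] at hspec
    exact hx hspec
  obtain ⟨k, hk⟩ := Nat.exists_eq_succ_of_ne_zero hne
  have hnotk : x ∉ reach T J₀ k := Nat.find_min (hex x) (by omega)
  rw [hk] at hspec
  obtain ⟨y, hy, hxy⟩ := exists_of_mem_reach_succ T J₀ k x hspec hnotk
  refine ⟨y, hxy, ?_⟩
  show Nat.find (hex y) + 1 = Nat.find (hex x)
  rw [hk]
  have hle : Nat.find (hex y) ≤ k := Nat.find_min' (hex y) hy
  rcases Nat.lt_or_ge (Nat.find (hex y)) k with hlt | hge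
  · exfalso
    have hy' : y ∈ reach T J₀ (k - 1) :=
      reach_mono T J₀ (by omega) (Nat.find_spec (hex y))
    have := mem_reach_succ T J₀ (k - 1) x y hy' hxy
    rw [show k - 1 + 1 = k by omega] at this
    exact hnotk this
  · omega

end dist

/-! ### Basic inequalities at a `(-2)`-index -/

theorem two_mu_eq {x : Fin n} (hx : T.IsMinusTwo x) :
    2 * mu T x = ∑ k ∈ univ.erase x, T.a x k * T.m k := by
  rw [← diag_mul_m T x, hx.2]
  unfold mu
  ring

theorem term_nonneg (x : Fin n) {k : Fin n} (hk : k ∈ univ.erase x) :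
    0 ≤ T.a x k * T.m k :=
  mul_nonneg (T.offDiag_nonneg x k (Ne.symm (ne_of_mem_erase hk))) (T.m_pos k).le

/-- a non-zero term `a x k * m k` is at least `μ k` -/
theorem mu_le_term {x k : Fin n} (h : 0 < T.a x k) : mu T k ≤ T.a x k * T.m k := by
  have h' : 0 < T.a k x := by rw [a_symm T k x]; exact h
  have := w_le_of_pos T h'
  rw [a_symm T k x] at this
  unfold mu
  exact mul_le_mul_of_nonneg_right this (T.m_pos k).le

theorem term_le {x k : Fin n} (hx : T.IsMinusTwo x) (hk : k ≠ x) :
    T.a x k * T.m k ≤ 2 * mu T x := by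
  rw [two_mu_eq T hx]
  exact Finset.single_le_sum (f := fun k => T.a x k * T.m k)
    (fun k hk => term_nonneg T x hk) (mem_erase.mpr ⟨hk, mem_univ k⟩)

theorem two_terms_le {x k₁ k₂ : Fin n} (hx : T.IsMinusTwo x) (h₁ : k₁ ≠ x) (h₂ : k₂ ≠ x)
    (h₁₂ : k₁ ≠ k₂) : T.a x k₁ * T.m k₁ + T.a x k₂ * T.m k₂ ≤ 2 * mu T x := by
  rw [two_mu_eq T hx]
  have hsub : ({k₁, k₂} : Finset (Fin n)) ⊆ univ.erase x := by
    intro k hk
    rw [mem_insert, mem_singleton] at hk
    rcases hk with rfl | rfl
    · exact mem_erase.mpr ⟨h₁, mem_univ _⟩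
    · exact mem_erase.mpr ⟨h₂, mem_univ _⟩
  have := Finset.sum_le_sum_of_subset_of_nonneg (f := fun k => T.a x k * T.m k) hsub
    (fun k hk _ => term_nonneg T x hk)
  rwa [Finset.sum_pair h₁₂] at this

/-- `μ` is concave along paths through a `(-2)`-index. -/
theorem concave {x y z : Fin n} (hy : T.IsMinusTwo y) (hyx : 0 < T.a y x) (hyz : 0 < T.a y z)
    (hxz : x ≠ z) : mu T x + mu T z ≤ 2 * mu T y := by
  have h1 := mu_le_term T hyx
  have h2 := mu_le_term T hyz
  have h3 := two_terms_le T hy (ne_of_pos T hyx).symm (ne_of_pos T hyz).symm hxz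
  linarith

/-- a neighbour of a `(-2)`-index `z` has `μ` at most `2 μ z` -/
theorem mu_le_two_mu {y z : Fin n} (hz : T.IsMinusTwo z) (hzy : 0 < T.a z y) :
    mu T y ≤ 2 * mu T z :=
  (mu_le_term T hzy).trans (term_le T hz (ne_of_pos T hzy).symm)

/-! ### Arithmetic of sums whose terms obey the local trichotomy -/

/-- the local trichotomy for a term `c` relative to the maximum `M` -/
def Tri (M c : ℤ) : Prop := c = 0 ∨ 2 * c = M ∨ (2 * M ≤ 3 * c ∧ c ≤ M) ∨ 4 * M ≤ 3 * c

theorem Tri.ge {M c : ℤ} (hM : 0 < M) (h : Tri M c) : c = 0 ∨ M ≤ 2 * c := by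
  rcases h with h | h | h | h
  · exact Or.inl h
  · right; omega
  · right; omega
  · right; omega

theorem sum_small {ι : Type*} (s : Finset ι) (c : ι → ℤ) (M : ℤ) (hM : 0 < M)
    (hc : ∀ l ∈ s, Tri M (c l)) (h : 2 * ∑ l ∈ s, c l < M) : ∑ l ∈ s, c l = 0 := by
  have hnn : ∀ l ∈ s, 0 ≤ c l := by
    intro l hl
    rcases (hc l hl).ge hM with h0 | h0 <;> omega
  apply Finset.sum_eq_zero
  intro l hl
  have hle := Finset.single_le_sum hnn hl
  rcases (hc l hl).ge hM with h0 | h0
  · exact h0
  · omega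

theorem sum_not_mem {ι : Type*} [DecidableEq ι] (s : Finset ι) (c : ι → ℤ) (M : ℤ) (hM : 0 < M)
    (hc : ∀ l ∈ s, Tri M (c l)) (h1 : M < ∑ l ∈ s, c l) (h2 : 6 * ∑ l ∈ s, c l < 7 * M) :
    False := by
  classical
  by_cases hall : ∀ l ∈ s, c l = 0 ∨ 2 * c l = M
  · -- all terms are `0` or `M / 2`
    have hsum : 2 * ∑ l ∈ s, c l = ((s.filter fun l => 2 * c l = M).card : ℤ) * M := by
      rw [Finset.mul_sum, ← Finset.sum_filter_add_sum_filter_not s (fun l => 2 * c l = M)]
      have e1 : ∑ l ∈ s.filter (fun l => 2 * c l = M), 2 * c l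
          = ((s.filter fun l => 2 * c l = M).card : ℤ) * M := by
        rw [Finset.sum_congr rfl (fun l hl => (mem_filter.mp hl).2), Finset.sum_const,
          nsmul_eq_mul]
      have e2 : ∑ l ∈ s.filter (fun l => ¬ 2 * c l = M), 2 * c l = 0 := by
        apply Finset.sum_eq_zero
        intro l hl
        rw [mem_filter] at hl
        rcases hall l hl.1 with h0 | h0
        · rw [h0]; ring
        · exact absurd h0 hl.2
      rw [e1, e2, add_zero]
    set k : ℤ := ((s.filter fun l => 2 * c l = M).card : ℤ) with hk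
    have hk2 : 2 < k := by
      by_contra hcon
      rw [not_lt] at hcon
      nlinarith
    have hk3 : 3 ≤ k := by omega
    nlinarith
  · push Not at hall
    obtain ⟨l0, hl0, hne0, hneM⟩ := hall
    have hnn : ∀ l ∈ s, 0 ≤ c l := by
      intro l hl
      rcases (hc l hl).ge hM with h0 | h0 <;> omega
    have hsplit := Finset.add_sum_erase s c hl0
    have hrest : ∑ l ∈ s.erase l0, c l = 0 := by
      apply sum_small (s.erase l0) c M hM (fun l hl => hc l (mem_of_mem_erase hl))
      rcases hc l0 hl0 with h0 | h0 | h0 | h0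
      · exact absurd h0 hne0
      · exact absurd h0 hneM
      · omega
      · omega
    rcases hc l0 hl0 with h0 | h0 | h0 | h0
    · exact absurd h0 hne0
    · exact absurd h0 hneM
    · omega
    · omega

/-! ### The local analysis at a maximum point -/

/-- a `(-2)`-index with `μ > B` has only `(-2)`-neighbours -/
theorem safe (B : ℤ) (hB : ∀ j, ¬T.IsMinusTwo j → ∀ i, T.m i * T.a i j ≤ B)
    {x : Fin n} (hbig : B < mu T x) : ∀ y, 0 < T.a x y → T.IsMinusTwo y := by
  intro y hxy
  by_contra hy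
  have h1 := hB y hy x
  have h2 := w_le_of_pos T hxy
  have h3 : mu T x ≤ T.m x * T.a x y := by
    unfold mu
    have := mul_le_mul_of_nonneg_right h2 (T.m_pos x).le
    linarith
  linarith

theorem tri_of_nbr {v l : Fin n} (hl : T.IsMinusTwo l) (hvl : 0 < T.a v l)
    (hmax : ∀ x, T.IsMinusTwo x → mu T x ≤ mu T v)
    (hsafe : ∀ x, 0 < T.a l x → T.IsMinusTwo x) :
    Tri (mu T v) (T.a v l * T.m l) := by
  have hM : 0 < mu T v := mu_pos T v
  have hμl : 0 < mu T l := mu_pos T l
  obtain ⟨α, hα⟩ := T.w_dvd v l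
  obtain ⟨β, hβ⟩ := T.w_dvd l v
  have hsym : T.a l v = T.a v l := a_symm T l v
  have hlv : 0 < T.a l v := by rw [hsym]; exact hvl
  have hvl_ne : v ≠ l := ne_of_pos T hvl
  have hα1 : 1 ≤ α := by
    have h1 : 0 < T.w v * α := by rw [← hα]; exact hvl
    have h2 := T.w_pos v
    by_contra hcon
    have : α ≤ 0 := by omega
    nlinarith
  have hβ1 : 1 ≤ β := by
    have h1 : 0 < T.w l * β := by rw [← hβ]; exact hlv
    have h2 := T.w_pos l
    by_contra hcon
    have : β ≤ 0 := by omega
    nlinarith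
  have hc : T.a v l * T.m l = β * mu T l := by
    rw [← hsym, hβ]; unfold mu; ring
  have hav : T.a l v * T.m v = α * mu T v := by
    rw [hsym, hα]; unfold mu; ring
  have hαβ1 : 1 ≤ α * β := by nlinarith
  have hlM := hmax l hl
  by_cases hleaf : ∃ x, x ≠ l ∧ x ≠ v ∧ 0 < T.a l x
  · obtain ⟨x, hxl, hxv, hlx⟩ := hleaf
    have hx2 := hsafe x hlx
    have h1 := two_terms_le T hl hvl_ne hxl (Ne.symm hxv)
    have h2 := mu_le_term T hlx
    have h3 : mu T l ≤ 2 * mu T x :=
      mu_le_two_mu T hx2 (by rw [a_symm T x l]; exact hlx)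
    have h4 : 2 * (α * mu T v) ≤ 3 * mu T l := by linarith
    have h5 : 2 * ((α * β) * mu T v) ≤ 3 * (T.a v l * T.m l) := by
      rw [hc]
      have := mul_le_mul_of_nonneg_left h4 (by omega : (0 : ℤ) ≤ β)
      linarith
    rcases (by omega : α * β = 1 ∨ 2 ≤ α * β) with h | h
    · have hβ' : β = 1 := by nlinarith
      right; right; left
      rw [h, one_mul] at h5
      refine ⟨h5, ?_⟩
      rw [hc, hβ', one_mul]
      exact hlM
    · right; right; right
      have : 2 * mu T v ≤ (α * β) * mu T v := mul_le_mul_of_nonneg_right h hM.le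
      linarith
  · push Not at hleaf
    have hsum : 2 * mu T l = T.a l v * T.m v := by
      rw [two_mu_eq T hl]
      apply Finset.sum_eq_single_of_mem v (mem_erase.mpr ⟨hvl_ne, mem_univ v⟩)
      intro k hk hkv
      have h0 : 0 ≤ T.a l k := T.offDiag_nonneg l k (Ne.symm (ne_of_mem_erase hk))
      have h1 := hleaf k (ne_of_mem_erase hk) hkv
      have : T.a l k = 0 := by omega
      rw [this, zero_mul]
    have h5 : 2 * (T.a v l * T.m l) = (α * β) * mu T v := by
      rw [hc]
      have : β * (2 * mu T l) = β * (α * mu T v) := by rw [hsum, hav]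
      linarith
    rcases (by omega : α * β = 1 ∨ α * β = 2 ∨ 3 ≤ α * β) with h | h | h
    · right; left
      rw [h5, h, one_mul]
    · right; right; left
      rw [h] at h5
      constructor <;> omega
    · right; right; right
      have : 3 * mu T v ≤ (α * β) * mu T v := mul_le_mul_of_nonneg_right h hM.le
      omega

theorem slope (B : ℤ) (hB0 : 0 ≤ B)
    (hB : ∀ j, ¬T.IsMinusTwo j → ∀ i, T.m i * T.a i j ≤ B) {v p : Fin n}
    (hv : T.IsMinusTwo v) (hvp : 0 < T.a v p)
    (hmax : ∀ x, T.IsMinusTwo x → mu T x ≤ mu T v) (hbig : 2 * B < mu T v)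
    (hlt : mu T p < mu T v) : 6 * mu T p ≤ 5 * mu T v := by
  classical
  have hM : 0 < mu T v := mu_pos T v
  have hvsafe := safe T B hB (x := v) (by linarith)
  have hp2 : T.IsMinusTwo p := hvsafe p hvp
  have hpv_ne : p ≠ v := (ne_of_pos T hvp).symm
  -- every other neighbour obeys the trichotomy
  have htri : ∀ l ∈ (univ.erase v).erase p, Tri (mu T v) (T.a v l * T.m l) := by
    intro l hl
    have hlv : l ≠ v := ne_of_mem_erase (mem_of_mem_erase hl)
    have h0 : 0 ≤ T.a v l := T.offDiag_nonneg v l (Ne.symm hlv)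
    rcases h0.eq_or_lt with h0 | h0
    · left; rw [← h0, zero_mul]
    · have hl2 := hvsafe l h0
      have hl3 : mu T v ≤ 2 * mu T l :=
        mu_le_two_mu T hl2 (by rw [a_symm T l v]; exact h0)
      exact tri_of_nbr T hl2 h0 hmax (safe T B hB (x := l) (by linarith))
  have hsplit : 2 * mu T v = T.a v p * T.m p + ∑ l ∈ (univ.erase v).erase p, T.a v l * T.m l := by
    rw [two_mu_eq T hv]
    exact (Finset.add_sum_erase (univ.erase v) (fun l => T.a v l * T.m l)
      (mem_erase.mpr ⟨hpv_ne, mem_univ p⟩)).symm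
  have hRnn : 0 ≤ ∑ l ∈ (univ.erase v).erase p, T.a v l * T.m l :=
    Finset.sum_nonneg fun l hl => term_nonneg T v (mem_of_mem_erase hl)
  obtain ⟨β, hβ⟩ := T.w_dvd p v
  have hsym : T.a p v = T.a v p := a_symm T p v
  have hβ1 : 1 ≤ β := by
    have h1 : 0 < T.w p * β := by rw [← hβ, hsym]; exact hvp
    have h2 := T.w_pos p
    by_contra hcon
    have : β ≤ 0 := by omega
    nlinarith
  have hc : T.a v p * T.m p = β * mu T p := by
    rw [← hsym, hβ]; unfold mu; ring
  have hμp : 0 < mu T p := mu_pos T p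
  by_contra hcon
  rw [not_le] at hcon
  rw [hc] at hsplit
  rcases (by omega : β = 1 ∨ β = 2 ∨ 3 ≤ β) with h | h | h
  · rw [h, one_mul] at hsplit
    exact sum_not_mem _ _ (mu T v) hM htri (by linarith) (by linarith)
  · rw [h] at hsplit
    have := sum_small _ _ (mu T v) hM htri (by linarith)
    linarith
  · have : 3 * mu T p ≤ β * mu T p := mul_le_mul_of_nonneg_right h hμp.le
    linarith

/-! ### Descent along a geodesic -/

theorem descent (B : ℤ) (hB0 : 0 ≤ B)
    (hB : ∀ j, ¬T.IsMinusTwo j → ∀ i, T.m i * T.a i j ≤ B) (d : Fin n → ℕ)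
    (hd : ∀ x, T.IsMinusTwo x → ∃ y, T.a x y ≠ 0 ∧ d y + 1 = d x) (σ : ℤ) :
    ∀ (k : ℕ) (x y : Fin n), T.IsMinusTwo y → 0 < T.a y x → d y + 1 = d x →
      mu T y + σ ≤ mu T x → 2 ^ k * B < mu T y → ∃ z, mu T z + k * σ ≤ mu T y := by
  intro k
  induction k with
  | zero =>
    intro x y _ _ _ _ _
    exact ⟨y, by simp⟩
  | succ k ih =>
    intro x y hy hyx hdxy hσ hbig
    have hpow : (0 : ℤ) < 2 ^ k := by positivity
    have hBk : 0 ≤ 2 ^ k * B := mul_nonneg hpow.le hB0
    have hbig' : 2 * (2 ^ k * B) < mu T y := by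
      have : (2 : ℤ) ^ (k + 1) * B = 2 * (2 ^ k * B) := by ring
      linarith
    have hB1 : B ≤ 2 ^ k * B := by nlinarith
    have hysafe := safe T B hB (x := y) (by linarith)
    obtain ⟨z, hyz, hdz⟩ := hd y hy
    have hzy_ne : z ≠ y := by
      rintro rfl
      omega
    have hyz' : 0 < T.a y z :=
      lt_of_le_of_ne (T.offDiag_nonneg y z (Ne.symm hzy_ne)) (Ne.symm hyz)
    have hxz : x ≠ z := by
      rintro rfl
      omega
    have hz2 := hysafe z hyz'
    have hconc := concave T hy hyx hyz' hxz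
    have hzy : 0 < T.a z y := by rw [a_symm T z y]; exact hyz'
    have hhalf := mu_le_two_mu T hz2 hzy
    obtain ⟨z', hz'⟩ := ih y z hz2 hzy hdz (by linarith) (by linarith)
    refine ⟨z', ?_⟩
    push_cast
    linarith

/-! ### The bound -/

theorem mu_le (B : ℤ) (hB0 : 0 ≤ B)
    (hB : ∀ j, ¬T.IsMinusTwo j → ∀ i, T.m i * T.a i j ≤ B) (hJ : ∃ j, ¬T.IsMinusTwo j) :
    ∀ i, T.IsMinusTwo i → mu T i ≤ 64 * B := by
  classical
  intro i hi
  by_contra hcon
  rw [not_le] at hcon
  obtain ⟨j0, hj0⟩ := hJ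
  obtain ⟨d, hd⟩ := exists_dist T (univ.filter fun j => ¬T.IsMinusTwo j)
    ⟨j0, mem_filter.mpr ⟨mem_univ _, hj0⟩⟩
  have hd' : ∀ x, T.IsMinusTwo x → ∃ y, T.a x y ≠ 0 ∧ d y + 1 = d x := by
    intro x hx
    apply hd x
    rw [mem_filter]
    exact fun h => h.2 hx
  -- a maximum point of `μ` among `(-2)`-indices
  obtain ⟨v0, hv0, hv0max⟩ := Finset.exists_max_image (univ.filter fun x => T.IsMinusTwo x)
    (mu T) ⟨i, mem_filter.mpr ⟨mem_univ _, hi⟩⟩
  rw [mem_filter] at hv0
  -- among the maximum points, one closest to the non-`(-2)`-indices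
  obtain ⟨v, hv, hvmin⟩ := Finset.exists_min_image
    (univ.filter fun x => T.IsMinusTwo x ∧ mu T x = mu T v0) d
    ⟨v0, mem_filter.mpr ⟨mem_univ _, hv0.2, rfl⟩⟩
  rw [mem_filter] at hv
  obtain ⟨-, hv2, hvM⟩ := hv
  have hmax : ∀ x, T.IsMinusTwo x → mu T x ≤ mu T v := by
    intro x hx
    rw [hvM]
    exact hv0max x (mem_filter.mpr ⟨mem_univ _, hx⟩)
  have hbig : 64 * B < mu T v := lt_of_lt_of_le hcon (hmax i hi)
  obtain ⟨p, hvp, hdp⟩ := hd' v hv2
  have hpv_ne : p ≠ v := by
    rintro rfl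
    omega
  have hvp' : 0 < T.a v p :=
    lt_of_le_of_ne (T.offDiag_nonneg v p (Ne.symm hpv_ne)) (Ne.symm hvp)
  have hp2 : T.IsMinusTwo p := safe T B hB (x := v) (by linarith) p hvp'
  have hlt : mu T p < mu T v := by
    refine lt_of_le_of_ne (hmax p hp2) ?_
    intro heq
    have := hvmin p (mem_filter.mpr ⟨mem_univ _, hp2, by rw [heq, hvM]⟩)
    omega
  have hslope := slope T B hB0 hB hv2 hvp' hmax (by linarith) hlt
  have hpv : 0 < T.a p v := by rw [a_symm T p v]; exact hvp'
  have hhalf := mu_le_two_mu T hp2 hpv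
  obtain ⟨z, hz⟩ := descent T B hB0 hB d hd' (mu T v - mu T p) 5 v p hp2 hpv hdp
    (by linarith) (by norm_num; linarith)
  have hzpos := mu_pos T z
  push_cast at hz
  linarith

end Groth.Agent.Lib.NumType768
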