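import Mathlib
import Groth.Prelude.Def_Models

/-!
# Numerical types of genus one: the opening argument for arbitrary `n`

For a minimal numerical type of genus `1` on `n ≥ 2` indices, all `g i = 0` and
`a i i = -2 * w i`.  Also: basic row equations and the "Cartan" integers.
-/

set_option autoImplicit false

namespace Groth.Agent.Lib.NumType97

open Finset Models Models.NumericalType

variable {n : ℕ} (T : Models.NumericalType n)

lemma a_symm (i j : Fin n) : T.a i j = T.a j i := (T.symm.apply i j).symm

lemma row_eq (i : Fin n) : ∑ j, T.a i j * T.m j = 0 := by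
  have := congrFun T.mulVec_m i
  simpa [Matrix.mulVec, dotProduct] using this

lemma exists_pos_offDiag (hn : 2 ≤ n) (i : Fin n) : ∃ j, j ≠ i ∧ 0 < T.a i j := by
  obtain ⟨i', hi', j, hj, hij⟩ := T.connected {i} (by simp) (by
    intro h
    have := congrArg Finset.card h
    simp at this
    omega)
  have hi0 : i' = i := by simpa using hi'
  subst hi0
  have hj1 : j ≠ i' := by
    intro h
    apply hj
    simp [h]
  exact ⟨j, hj1, lt_of_le_of_ne (T.offDiag_nonneg i' j hj1.symm) (Ne.symm hij)⟩

lemma diag_neg (hn : 2 ≤ n) (i : Fin n) : T.a i i < 0 := by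
  obtain ⟨j, hj, hpos⟩ := exists_pos_offDiag T hn i
  have hrow := row_eq T i
  rw [← Finset.add_sum_erase _ _ (Finset.mem_univ i)] at hrow
  have hrest : 0 < ∑ x ∈ univ.erase i, T.a i x * T.m x := by
    apply Finset.sum_pos'
    · intro x hx
      have hx' : x ≠ i := (Finset.mem_erase.mp hx).1
      exact mul_nonneg (T.offDiag_nonneg i x hx'.symm) (T.m_pos x).le
    · exact ⟨j, Finset.mem_erase.mpr ⟨hj, Finset.mem_univ _⟩, mul_pos hpos (T.m_pos j)⟩
  have hneg : T.a i i * T.m i < 0 := by linarith
  by_contra h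
  simp only [not_lt] at h
  have : 0 ≤ T.a i i * T.m i := mul_nonneg h (T.m_pos i).le
  linarith

/-- The opening argument: a minimal numerical type of genus one on at least two indices has all
`g i = 0` and `a i i = -2 * w i`. -/
theorem genus_one_minimal (hn : 2 ≤ n) (hmin : T.IsMinimal) (hg : T.genus = 1) (i : Fin n) :
    T.g i = 0 ∧ T.a i i = -2 * T.w i := by
  choose c hc using fun i => T.w_dvd i i
  have hcneg : ∀ i, c i < 0 := by
    intro i
    have h1 := diag_neg T hn i
    rw [hc i] at h1
    by_contra h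
    simp only [not_lt] at h
    have : 0 ≤ T.w i * c i := mul_nonneg (T.w_pos i).le h
    linarith
  have ht : ∀ i, 0 ≤ -c i + 2 * T.g i - 2 := by
    intro i
    by_contra h
    simp only [not_le] at h
    have h0 := T.g_nonneg i
    have h1 := hcneg i
    have hg0 : T.g i = 0 := by omega
    have hc1 : c i = -1 := by omega
    exact hmin i ⟨hg0, by rw [hc i, hc1]; ring⟩
  have hD : ∑ i, T.m i * T.a i i = 2 * (∑ i, T.m i * T.w i * (T.g i - 1)) -
      ∑ i, T.m i * T.w i * (-c i + 2 * T.g i - 2) := by
    rw [Finset.mul_sum, ← Finset.sum_sub_distrib]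
    apply Finset.sum_congr rfl
    intro i _
    rw [hc i]; ring
  have hgen : (∑ i, T.m i * T.a i i) / 2 = ∑ i, T.m i * T.w i * (T.g i - 1) := by
    have := hg
    unfold Models.NumericalType.genus at this
    linarith
  have hΘ : 0 ≤ ∑ i, T.m i * T.w i * (-c i + 2 * T.g i - 2) :=
    Finset.sum_nonneg fun i _ => mul_nonneg (mul_pos (T.m_pos i) (T.w_pos i)).le (ht i)
  have hsum : ∑ i, T.m i * T.w i * (-c i + 2 * T.g i - 2) = 0 := by
    generalize (∑ i, T.m i * T.a i i) = D at hgen hD
    generalize (∑ i, T.m i * T.w i * (T.g i - 1)) = S at hgen hD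
    generalize (∑ i, T.m i * T.w i * (-c i + 2 * T.g i - 2)) = Θ at hΘ hD ⊢
    omega
  have hz := (Finset.sum_eq_zero_iff_of_nonneg
    (fun i _ => mul_nonneg (mul_pos (T.m_pos i) (T.w_pos i)).le (ht i))).mp hsum i (Finset.mem_univ i)
  have hz' : -c i + 2 * T.g i - 2 = 0 := by
    rcases mul_eq_zero.mp hz with h | h
    · exact absurd h (mul_pos (T.m_pos i) (T.w_pos i)).ne'
    · exact h
  have h0 := T.g_nonneg i
  have h1 := hcneg i
  have hg0 : T.g i = 0 := by omega
  have hc2 : c i = -2 := by omega
  exact ⟨hg0, by rw [hc i, hc2]; ring⟩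

end Groth.Agent.Lib.NumType97
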