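import Mathlib
import Groth.Prelude.Def_Models

/-!
# Numerical types all of whose indices are `(-2)`-indices: test vectors, rigidity, kernel

General tools for the classification of minimal numerical types of genus one
(affine Cartan data).  Everything is phrased with `ℕ`-indexed vertex functions
`v : ℕ → Fin n` restricted to `range N`.
-/

set_option autoImplicit false

namespace Groth.Agent.Lib.NumTypeAff67

open Finset Models

variable {n : ℕ} (T : Models.NumericalType n)

lemma a_symm (i j : Fin n) : T.a i j = T.a j i := (T.symm.apply i j).symm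

lemma row_eq (i : Fin n) : ∑ j, T.a i j * T.m j = 0 := by
  have := congrFun T.mulVec_m i
  simpa [Matrix.mulVec, dotProduct] using this

/-- The global test-vector lemma: a nonzero nonnegative vector which is superharmonic on its
support has full support and is harmonic. -/
theorem key (N : ℕ) (v : ℕ → Fin n) (c : ℕ → ℤ)
    (hc : ∀ j < N, 0 ≤ c j) (hc' : ∃ j < N, 0 < c j)
    (hsup : ∀ i < N, 0 < c i → 0 ≤ ∑ j ∈ range N, T.a (v i) (v j) * c j) :
    (∀ p : Fin n, ∑ j ∈ range N, T.a p (v j) * c j = 0) ∧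
      ∀ p : Fin n, ∃ j < N, v j = p ∧ 0 < c j := by
  set f : Fin n → ℤ := fun p => ∑ j ∈ range N, T.a p (v j) * c j with hf
  have hterm : ∀ p : Fin n, (∀ j < N, 0 < c j → v j ≠ p) →
      ∀ j ∈ range N, 0 ≤ T.a p (v j) * c j := by
    intro p hp j hj
    have hjN := mem_range.mp hj
    rcases (hc j hjN).eq_or_lt with h0 | h0
    · rw [← h0, mul_zero]
    · exact mul_nonneg (T.offDiag_nonneg p (v j) (hp j hjN h0).symm) (hc j hjN)
  have claim1 : ∀ p, 0 ≤ f p := by
    intro p
    by_cases hp : ∃ i < N, v i = p ∧ 0 < c i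
    · obtain ⟨i, hiN, rfl, hi⟩ := hp
      exact hsup i hiN hi
    · push Not at hp
      exact Finset.sum_nonneg
        (hterm p (fun j hjN hj hvj => absurd hj (not_lt.mpr (hp j hjN hvj))))
  have claim2 : ∑ p, T.m p * f p = 0 := by
    simp only [hf, Finset.mul_sum]
    rw [Finset.sum_comm]
    apply Finset.sum_eq_zero
    intro j _
    have : ∀ p, T.m p * (T.a p (v j) * c j) = c j * (T.a (v j) p * T.m p) := by
      intro p
      rw [a_symm T p (v j)]
      ring
    simp only [this]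
    rw [← Finset.mul_sum, row_eq, mul_zero]
  have claim3 : ∀ p, f p = 0 := by
    intro p
    have := (Finset.sum_eq_zero_iff_of_nonneg
      (fun p _ => mul_nonneg (T.m_pos p).le (claim1 p))).1 claim2 p (mem_univ p)
    rcases mul_eq_zero.1 this with h1 | h1
    · exact absurd h1 (T.m_pos p).ne'
    · exact h1
  refine ⟨claim3, ?_⟩
  set I : Finset (Fin n) := ((range N).filter (fun j => 0 < c j)).image v with hI
  have hIne : I.Nonempty := by
    obtain ⟨j, hjN, hj⟩ := hc'
    exact ⟨v j, Finset.mem_image_of_mem v (by simp [hjN, hj])⟩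
  have hIuniv : I = univ := by
    by_contra hne
    obtain ⟨i, hi, p, hp, hip⟩ := T.connected I hIne hne
    rw [hI, Finset.mem_image] at hi
    obtain ⟨j₀, hj₀, rfl⟩ := hi
    rw [mem_filter, mem_range] at hj₀
    have hpI : ∀ j < N, 0 < c j → v j ≠ p := by
      intro j hjN hj hvj
      apply hp
      rw [hI, Finset.mem_image]
      exact ⟨j, by simp [hjN, hj], hvj⟩
    have h0 := (Finset.sum_eq_zero_iff_of_nonneg (hterm p hpI)).1 (claim3 p) j₀
      (mem_range.mpr hj₀.1)
    rcases mul_eq_zero.1 h0 with h1 | h1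
    · rw [a_symm T p (v j₀)] at h1
      exact hip h1
    · exact absurd h1 hj₀.2.ne'
  intro p
  have hpI : p ∈ I := hIuniv ▸ mem_univ p
  rw [hI, Finset.mem_image] at hpI
  obtain ⟨j, hj, rfl⟩ := hpI
  rw [mem_filter, mem_range] at hj
  exact ⟨j, hj.1, rfl, hj.2⟩

/-- Reindexing a sum over all indices along a bijective `v` on `range N`. -/
lemma sum_range_eq_sum_univ (N : ℕ) (v : ℕ → Fin n)
    (hinj : ∀ i < N, ∀ j < N, v i = v j → i = j) (hsurj : ∀ p : Fin n, ∃ j < N, v j = p)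
    (g : Fin n → ℤ) : ∑ j ∈ range N, g (v j) = ∑ q, g q := by
  have himg : (range N).image v = univ := by
    ext p
    simp only [mem_image, mem_range, mem_univ, iff_true]
    exact hsurj p
  rw [← himg, Finset.sum_image]
  intro i hi j hj hij
  exact hinj i (mem_range.mp hi) j (mem_range.mp hj) hij

lemma card_eq_of_bij (N : ℕ) (v : ℕ → Fin n)
    (hinj : ∀ i < N, ∀ j < N, v i = v j → i = j) (hsurj : ∀ p : Fin n, ∃ j < N, v j = p) :
    N = n := by
  have himg : (range N).image v = univ := by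
    ext p
    simp only [mem_image, mem_range, mem_univ, iff_true]
    exact hsurj p
  have h1 : ((range N).image v).card = N := by
    rw [Finset.card_image_of_injOn, card_range]
    intro i hi j hj hij
    exact hinj i (mem_range.mp (by simpa using hi)) j (mem_range.mp (by simpa using hj)) hij
  rw [himg, card_univ, Fintype.card_fin] at h1
  exact h1.symm

/-- The kernel of `a` is spanned by `m`. -/
theorem ker_unique (N : ℕ) (v : ℕ → Fin n)
    (hinj : ∀ i < N, ∀ j < N, v i = v j → i = j) (hsurj : ∀ p : Fin n, ∃ j < N, v j = p)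
    (c : ℕ → ℤ) (hker : ∀ p : Fin n, ∑ j ∈ range N, T.a p (v j) * c j = 0) :
    ∀ i < N, ∀ j < N, T.m (v i) * c j = T.m (v j) * c i := by
  have hNpos : 0 < N := by
    obtain ⟨j, hj, -⟩ := hsurj ⟨0, T.pos⟩
    omega
  obtain ⟨i0, hi0, hmin⟩ := Finset.exists_min_image (range N)
    (fun i => (c i : ℚ) / (T.m (v i) : ℚ)) ⟨0, mem_range.mpr hNpos⟩
  have hi0N := mem_range.mp hi0
  have hmQ : ∀ i, (0 : ℚ) < (T.m (v i) : ℚ) := fun i => by exact_mod_cast T.m_pos (v i)
  have hmin' : ∀ j < N, c i0 * T.m (v j) ≤ c j * T.m (v i0) := by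
    intro j hj
    have := hmin j (mem_range.mpr hj)
    rw [div_le_div_iff₀ (hmQ i0) (hmQ j)] at this
    exact_mod_cast this
  set c' : ℕ → ℤ := fun j => T.m (v i0) * c j - c i0 * T.m (v j) with hc'
  have hc'0 : ∀ j < N, 0 ≤ c' j := by
    intro j hj
    have := hmin' j hj
    simp only [hc']
    linarith
  have hc'i0 : c' i0 = 0 := by simp only [hc']; ring
  have hker' : ∀ p : Fin n, ∑ j ∈ range N, T.a p (v j) * c' j = 0 := by
    intro p
    have h1 : ∑ j ∈ range N, T.a p (v j) * c' j =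
        T.m (v i0) * ∑ j ∈ range N, T.a p (v j) * c j -
          c i0 * ∑ j ∈ range N, T.a p (v j) * T.m (v j) := by
      rw [Finset.mul_sum, Finset.mul_sum, ← Finset.sum_sub_distrib]
      apply Finset.sum_congr rfl
      intro j _
      simp only [hc']
      ring
    rw [h1, hker p, sum_range_eq_sum_univ N v hinj hsurj (fun q => T.a p q * T.m q), row_eq]
    ring
  have hzero : ∀ j < N, c' j = 0 := by
    by_contra hne
    push Not at hne
    obtain ⟨j, hjN, hj⟩ := hne
    have hpos : 0 < c' j := lt_of_le_of_ne (hc'0 j hjN) (Ne.symm hj)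
    obtain ⟨-, hsupp⟩ := key T N v c' hc'0 ⟨j, hjN, hpos⟩
      (fun i _ _ => by rw [hker' (v i)])
    obtain ⟨j', hj'N, hj'v, hj'pos⟩ := hsupp (v i0)
    have := hinj j' hj'N i0 hi0N hj'v
    subst this
    rw [hc'i0] at hj'pos
    exact lt_irrefl _ hj'pos
  intro i hi j hj
  have h1 := hzero i hi
  have h2 := hzero j hj
  simp only [hc'] at h1 h2
  have hm0 := T.m_pos (v i0)
  have : T.m (v i0) * (T.m (v i) * c j) = T.m (v i0) * (T.m (v j) * c i) := by
    have e1 : T.m (v i0) * c j = c i0 * T.m (v j) := by linarith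
    have e2 : T.m (v i0) * c i = c i0 * T.m (v i) := by linarith
    calc T.m (v i0) * (T.m (v i) * c j) = T.m (v i) * (T.m (v i0) * c j) := by ring
      _ = T.m (v i) * (c i0 * T.m (v j)) := by rw [e1]
      _ = T.m (v j) * (c i0 * T.m (v i)) := by ring
      _ = T.m (v j) * (T.m (v i0) * c i) := by rw [e2]
      _ = T.m (v i0) * (T.m (v j) * c i) := by ring
  exact mul_left_cancel₀ hm0.ne' this

/-- No strictly subharmonic vector on the whole configuration. -/
theorem finite_excl (N : ℕ) (v : ℕ → Fin n)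
    (hinj : ∀ i < N, ∀ j < N, v i = v j → i = j) (hsurj : ∀ p : Fin n, ∃ j < N, v j = p)
    (u : ℕ → ℤ)
    (hle : ∀ i < N, ∑ j ∈ range N, T.a (v i) (v j) * u j ≤ 0)
    (hlt : ∃ i < N, ∑ j ∈ range N, T.a (v i) (v j) * u j < 0) : False := by
  have h0 : ∑ i ∈ range N, T.m (v i) * ∑ j ∈ range N, T.a (v i) (v j) * u j = 0 := by
    simp only [Finset.mul_sum]
    rw [Finset.sum_comm]
    apply Finset.sum_eq_zero
    intro j _
    have : ∀ i, T.m (v i) * (T.a (v i) (v j) * u j) = u j * (T.a (v j) (v i) * T.m (v i)) := by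
      intro i
      rw [a_symm T (v i) (v j)]
      ring
    simp only [this]
    rw [← Finset.mul_sum,
      sum_range_eq_sum_univ N v hinj hsurj (fun q => T.a (v j) q * T.m q), row_eq, mul_zero]
  have h1 : ∑ i ∈ range N, T.m (v i) * ∑ j ∈ range N, T.a (v i) (v j) * u j < 0 := by
    obtain ⟨i, hiN, hi⟩ := hlt
    apply Finset.sum_neg'
    · intro i hi
      exact mul_nonpos_of_nonneg_of_nonpos (T.m_pos (v i)).le (hle i (mem_range.mp hi))
    · exact ⟨i, mem_range.mpr hiN, mul_neg_of_pos_of_neg (T.m_pos (v i)) hi⟩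
  linarith

/-- Row decomposition along a neighbour list. -/
theorem row_decomp (h2 : ∀ i, T.a i i = -2 * T.w i) (N : ℕ) (v : ℕ → Fin n) (u : ℕ → ℤ)
    (p : ℕ) (hp : p < N) (l : List (ℕ × ℤ))
    (hl : ∀ e ∈ l, e.1 < N ∧ e.1 ≠ p) (hnd : (l.map Prod.fst).Nodup) :
    ∑ j ∈ range N, T.a (v p) (v j) * u j =
      T.w (v p) * ((l.map fun e => e.2 * u e.1).sum - 2 * u p) +
      ∑ e ∈ l.toFinset, (T.a (v p) (v e.1) - e.2 * T.w (v p)) * u e.1 +
      ∑ j ∈ ((range N).erase p) \ (l.toFinset.image Prod.fst), T.a (v p) (v j) * u j := by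
  have hlnd : l.Nodup := List.Nodup.of_map _ hnd
  have hinjfst : Set.InjOn Prod.fst (l.toFinset : Set (ℕ × ℤ)) := by
    intro e he e' he' h
    exact List.inj_on_of_nodup_map hnd (by simpa using he) (by simpa using he') h
  have hS : l.toFinset.image Prod.fst ⊆ (range N).erase p := by
    intro q hq
    obtain ⟨e, he, rfl⟩ := mem_image.mp hq
    have := hl e (by simpa using he)
    simp [this.1, this.2]
  rw [← Finset.add_sum_erase _ _ (mem_range.mpr hp), h2, ← Finset.sum_sdiff hS,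
    Finset.sum_image hinjfst]
  have hsumL : (l.map fun e => e.2 * u e.1).sum = ∑ e ∈ l.toFinset, e.2 * u e.1 :=
    (List.sum_toFinset _ hlnd).symm
  rw [hsumL]
  have h3 : ∑ e ∈ l.toFinset, (T.a (v p) (v e.1) - e.2 * T.w (v p)) * u e.1 =
      ∑ e ∈ l.toFinset, T.a (v p) (v e.1) * u e.1 -
        T.w (v p) * ∑ e ∈ l.toFinset, e.2 * u e.1 := by
    rw [Finset.mul_sum, ← Finset.sum_sub_distrib]
    apply Finset.sum_congr rfl
    intro e _
    ring
  rw [h3]
  ring

/-- Rigidity: a weak embedding of an affine pattern is an isomorphism. -/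
theorem rigid (h2 : ∀ i, T.a i i = -2 * T.w i) (N : ℕ) (v : ℕ → Fin n)
    (hinj : ∀ i < N, ∀ j < N, v i = v j → i = j)
    (u : ℕ → ℤ) (hu : ∀ p < N, 0 < u p) (hN : 0 < N)
    (nb : ℕ → List (ℕ × ℤ))
    (hnb : ∀ p < N, ∀ e ∈ nb p, e.1 < N ∧ e.1 ≠ p ∧ e.2 * T.w (v p) ≤ T.a (v p) (v e.1))
    (hnd : ∀ p < N, ((nb p).map Prod.fst).Nodup)
    (hsum : ∀ p < N, 2 * u p ≤ ((nb p).map fun e => e.2 * u e.1).sum) :
    N = n ∧ (∀ p : Fin n, ∃ j < N, v j = p) ∧
    (∀ p < N, ∀ e ∈ nb p, T.a (v p) (v e.1) = e.2 * T.w (v p)) ∧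
    (∀ p < N, ∀ q < N, q ≠ p → q ∉ (nb p).map Prod.fst → T.a (v p) (v q) = 0) ∧
    (∀ p < N, 2 * u p = ((nb p).map fun e => e.2 * u e.1).sum) ∧
    (∀ i < N, ∀ j < N, T.m (v i) * u j = T.m (v j) * u i) := by
  have hoff : ∀ p < N, ∀ q < N, q ≠ p → 0 ≤ T.a (v p) (v q) := fun p hp q hq hqp =>
    T.offDiag_nonneg _ _ (fun e => hqp (hinj q hq p hp e.symm))
  have hXt : ∀ p < N, ∀ e ∈ (nb p).toFinset,
      0 ≤ (T.a (v p) (v e.1) - e.2 * T.w (v p)) * u e.1 := by
    intro p hp e he
    have he' := hnb p hp e (by simpa using he)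
    exact mul_nonneg (by linarith [he'.2.2]) (hu e.1 he'.1).le
  have hYt : ∀ p < N, ∀ j ∈ ((range N).erase p) \ ((nb p).toFinset.image Prod.fst),
      0 ≤ T.a (v p) (v j) * u j := by
    intro p hp j hj
    rw [mem_sdiff, mem_erase, mem_range] at hj
    exact mul_nonneg (hoff p hp j hj.1.2 hj.1.1) (hu j hj.1.2).le
  have hZ : ∀ p < N, 0 ≤ T.w (v p) * (((nb p).map fun e => e.2 * u e.1).sum - 2 * u p) :=
    fun p hp => mul_nonneg (T.w_pos _).le (by linarith [hsum p hp])
  have hdec := fun p (hp : p < N) => row_decomp T h2 N v u p hp (nb p)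
    (fun e he => ⟨(hnb p hp e he).1, (hnb p hp e he).2.1⟩) (hnd p hp)
  obtain ⟨hker, hsupp⟩ := key T N v u (fun j hj => (hu j hj).le) ⟨0, hN, hu 0 hN⟩
    (fun i hi _ => by
      rw [hdec i hi]
      linarith [Finset.sum_nonneg (hXt i hi), Finset.sum_nonneg (hYt i hi), hZ i hi])
  have hsurj : ∀ p : Fin n, ∃ j < N, v j = p := fun p => by
    obtain ⟨j, hj, hv, -⟩ := hsupp p
    exact ⟨j, hj, hv⟩
  have hrow0 : ∀ p < N,
      ∑ e ∈ (nb p).toFinset, (T.a (v p) (v e.1) - e.2 * T.w (v p)) * u e.1 = 0 ∧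
      ∑ j ∈ ((range N).erase p) \ ((nb p).toFinset.image Prod.fst), T.a (v p) (v j) * u j = 0 ∧
      T.w (v p) * (((nb p).map fun e => e.2 * u e.1).sum - 2 * u p) = 0 := by
    intro p hp
    have h0 := hker (v p)
    rw [hdec p hp] at h0
    have hX := Finset.sum_nonneg (hXt p hp)
    have hY := Finset.sum_nonneg (hYt p hp)
    have hZ' := hZ p hp
    refine ⟨by linarith, by linarith, by linarith⟩
  refine ⟨card_eq_of_bij N v hinj hsurj, hsurj, ?_, ?_, ?_,
    ker_unique T N v hinj hsurj u hker⟩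
  · intro p hp e he
    have h0 := (Finset.sum_eq_zero_iff_of_nonneg (hXt p hp)).1 (hrow0 p hp).1 e (by simpa using he)
    have he' := hnb p hp e he
    rcases mul_eq_zero.1 h0 with h1 | h1
    · linarith
    · exact absurd h1 (hu e.1 he'.1).ne'
  · intro p hp q hq hqp hqn
    have hmem : q ∈ ((range N).erase p) \ ((nb p).toFinset.image Prod.fst) := by
      rw [mem_sdiff, mem_erase, mem_range]
      refine ⟨⟨hqp, hq⟩, ?_⟩
      intro h
      apply hqn
      obtain ⟨e, he, rfl⟩ := mem_image.mp h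
      exact List.mem_map_of_mem (by simpa using he)
    have h0 := (Finset.sum_eq_zero_iff_of_nonneg (hYt p hp)).1 (hrow0 p hp).2.1 q hmem
    rcases mul_eq_zero.1 h0 with h1 | h1
    · exact h1
    · exact absurd h1 (hu q hq).ne'
  · intro p hp
    have h0 := (hrow0 p hp).2.2
    rcases mul_eq_zero.1 h0 with h1 | h1
    · exact absurd h1 (T.w_pos _).ne'
    · linarith

/-- Exact evaluation of a row along a neighbour list. -/
theorem row_eval (h2 : ∀ i, T.a i i = -2 * T.w i) (N : ℕ) (v : ℕ → Fin n) (u : ℕ → ℤ)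
    (p : ℕ) (hp : p < N) (l : List (ℕ × ℤ))
    (hl : ∀ e ∈ l, e.1 < N ∧ e.1 ≠ p ∧ T.a (v p) (v e.1) = e.2 * T.w (v p))
    (hnd : (l.map Prod.fst).Nodup)
    (hzero : ∀ q < N, q ≠ p → q ∉ l.map Prod.fst → T.a (v p) (v q) = 0) :
    ∑ j ∈ range N, T.a (v p) (v j) * u j =
      T.w (v p) * ((l.map fun e => e.2 * u e.1).sum - 2 * u p) := by
  rw [row_decomp T h2 N v u p hp l (fun e he => ⟨(hl e he).1, (hl e he).2.1⟩) hnd]
  have h1 : ∑ e ∈ l.toFinset, (T.a (v p) (v e.1) - e.2 * T.w (v p)) * u e.1 = 0 := by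
    apply Finset.sum_eq_zero
    intro e he
    rw [(hl e (by simpa using he)).2.2, sub_self, zero_mul]
  have h2' : ∑ j ∈ ((range N).erase p) \ (l.toFinset.image Prod.fst),
      T.a (v p) (v j) * u j = 0 := by
    apply Finset.sum_eq_zero
    intro j hj
    rw [mem_sdiff, mem_erase, mem_range] at hj
    rw [hzero j hj.1.2 hj.1.1, zero_mul]
    intro h
    apply hj.2
    obtain ⟨e, he, hej⟩ := List.mem_map.mp h
    exact mem_image.mpr ⟨e, by simpa using he, hej⟩
  rw [h1, h2']
  ring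

/-- Exclusion of configurations of finite type, neighbour-list form. -/
theorem finite_excl' (h2 : ∀ i, T.a i i = -2 * T.w i) (N : ℕ) (v : ℕ → Fin n)
    (hinj : ∀ i < N, ∀ j < N, v i = v j → i = j) (hsurj : ∀ p : Fin n, ∃ j < N, v j = p)
    (u : ℕ → ℤ) (nb : ℕ → List (ℕ × ℤ))
    (hnb : ∀ p < N, ∀ e ∈ nb p, e.1 < N ∧ e.1 ≠ p ∧ T.a (v p) (v e.1) = e.2 * T.w (v p))
    (hnd : ∀ p < N, ((nb p).map Prod.fst).Nodup)
    (hzero : ∀ p < N, ∀ q < N, q ≠ p → q ∉ (nb p).map Prod.fst → T.a (v p) (v q) = 0)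
    (hle : ∀ p < N, ((nb p).map fun e => e.2 * u e.1).sum ≤ 2 * u p)
    (hlt : ∃ p < N, ((nb p).map fun e => e.2 * u e.1).sum < 2 * u p) : False := by
  have hrow := fun p (hp : p < N) =>
    row_eval T h2 N v u p hp (nb p) (hnb p hp) (hnd p hp) (hzero p hp)
  apply finite_excl T N v hinj hsurj u
  · intro i hi
    rw [hrow i hi]
    exact mul_nonpos_of_nonneg_of_nonpos (T.w_pos _).le (by linarith [hle i hi])
  · obtain ⟨p, hp, hlt'⟩ := hlt
    refine ⟨p, hp, ?_⟩
    rw [hrow p hp]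
    exact mul_neg_of_pos_of_neg (T.w_pos _) (by linarith)

/-- Lookup of a multiplier in a list of directed weighted edges. -/
def lamOf (E : List (ℕ × ℕ × ℤ)) (p q : ℕ) : ℤ :=
  match E.find? (fun e => e.1 = p ∧ e.2.1 = q) with
  | some e => e.2.2
  | none => 0

/-- Rigidity for a pattern given by an explicit list of directed weighted edges. -/
theorem rigidE (h2 : ∀ i, T.a i i = -2 * T.w i) (N : ℕ) (v : ℕ → Fin n)
    (hinj : ∀ i < N, ∀ j < N, v i = v j → i = j)
    (u : ℕ → ℤ) (hu : ∀ p < N, 0 < u p) (hN : 0 < N)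
    (E : List (ℕ × ℕ × ℤ))
    (hE : ∀ e ∈ E, e.2.2 * T.w (v e.1) ≤ T.a (v e.1) (v e.2.1))
    (hsum : ∀ p < N, 2 * u p ≤
      (((List.range N).filter (fun q => q ≠ p)).map fun q => lamOf E p q * u q).sum) :
    N = n ∧ (∀ p : Fin n, ∃ j < N, v j = p) ∧
    (∀ p < N, ∀ q < N, q ≠ p → T.a (v p) (v q) = lamOf E p q * T.w (v p)) ∧
    (∀ i < N, ∀ j < N, T.m (v i) * u j = T.m (v j) * u i) := by
  set nb : ℕ → List (ℕ × ℤ) := fun p =>
    ((List.range N).filter (fun q => q ≠ p)).map (fun q => (q, lamOf E p q)) with hnbdef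
  have hmem : ∀ p, ∀ e ∈ nb p, e.1 < N ∧ e.1 ≠ p ∧ e.2 = lamOf E p e.1 := by
    intro p e he
    simp only [hnbdef, List.mem_map, List.mem_filter, List.mem_range] at he
    obtain ⟨q, ⟨hq, hqp⟩, rfl⟩ := he
    exact ⟨hq, by simpa using hqp, rfl⟩
  have hbound : ∀ p < N, ∀ q < N, q ≠ p → lamOf E p q * T.w (v p) ≤ T.a (v p) (v q) := by
    intro p hp q hq hqp
    unfold lamOf
    cases hfind : E.find? (fun e => e.1 = p ∧ e.2.1 = q) with
    | none =>
      show (0 : ℤ) * T.w (v p) ≤ _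
      rw [zero_mul]
      exact T.offDiag_nonneg _ _ (fun e => hqp (hinj q hq p hp e.symm))
    | some e =>
      show e.2.2 * T.w (v p) ≤ T.a (v p) (v q)
      have hmemE : e ∈ E := List.mem_of_find?_eq_some hfind
      have hpq := List.find?_some hfind
      simp only [decide_eq_true_eq] at hpq
      obtain ⟨h1, h2'⟩ := hpq
      have := hE e hmemE
      rw [h1, h2'] at this
      exact this
  obtain ⟨hNn, hsurj, hA, -, -, hm⟩ := rigid T h2 N v hinj u hu hN nb
    (by
      intro p hp e he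
      obtain ⟨h1, h2', h3⟩ := hmem p e he
      refine ⟨h1, h2', ?_⟩
      rw [h3]
      exact hbound p hp e.1 h1 h2')
    (by
      intro p _
      simp only [hnbdef, List.map_map]
      have : (Prod.fst ∘ fun q => (q, lamOf E p q)) = id := by
        funext q
        rfl
      rw [this, List.map_id]
      exact List.Nodup.filter _ List.nodup_range)
    (by
      intro p hp
      have := hsum p hp
      simp only [hnbdef, List.map_map]
      exact this)
  refine ⟨hNn, hsurj, ?_, hm⟩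
  intro p hp q hq hqp
  have hqmem : (q, lamOf E p q) ∈ nb p := by
    simp only [hnbdef, List.mem_map, List.mem_filter, List.mem_range]
    exact ⟨q, ⟨hq, by simpa using hqp⟩, rfl⟩
  exact hA p hp _ hqmem

end Groth.Agent.Lib.NumTypeAff67
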