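import Mathlib
import Groth.Prelude.Def_Models
import Groth.Agent.Lib.NumTypeAff67A

/-!
# Numerical types with only `(-2)`-indices: adjacency, bonds, normal forms
-/

set_option autoImplicit false

namespace Groth.Agent.Lib.NumTypeAff67

open Finset Models

variable {n : ℕ} (T : Models.NumericalType n)

/-- Adjacency in the dual graph. -/
def Adj (p q : Fin n) : Prop := p ≠ q ∧ T.a p q ≠ 0

variable {T}

lemma Adj.symm {p q : Fin n} (h : Adj T p q) : Adj T q p :=
  ⟨h.1.symm, by rw [a_symm]; exact h.2⟩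

lemma Adj.pos {p q : Fin n} (h : Adj T p q) : 0 < T.a p q :=
  lt_of_le_of_ne (T.offDiag_nonneg p q h.1) (Ne.symm h.2)

lemma Adj.one_le {p q : Fin n} (h : Adj T p q) : 1 * T.w p ≤ T.a p q := by
  obtain ⟨x, hx⟩ := T.w_dvd p q
  have hw := T.w_pos p
  have hpos := h.pos
  rw [hx] at hpos ⊢
  have hx1 : 1 ≤ x := by
    by_contra hcon
    have : x ≤ 0 := by omega
    nlinarith
  nlinarith

lemma Adj.eq_or_two_le {p q : Fin n} (h : Adj T p q) :
    T.a p q = T.w p ∨ 2 * T.w p ≤ T.a p q := by
  obtain ⟨x, hx⟩ := T.w_dvd p q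
  have hw := T.w_pos p
  have hpos := h.pos
  rw [hx] at hpos ⊢
  have hx1 : 1 ≤ x := by
    by_contra hcon
    have : x ≤ 0 := by omega
    nlinarith
  rcases hx1.eq_or_lt with h1 | h1
  · left
    rw [← h1, mul_one]
  · right
    have : 2 ≤ x := by omega
    nlinarith

lemma adj_of_pos {p q : Fin n} (hpq : p ≠ q) (h : T.a p q ≠ 0) : Adj T p q := ⟨hpq, h⟩

lemma not_adj_iff {p q : Fin n} (hpq : p ≠ q) : ¬ Adj T p q ↔ T.a p q = 0 := by
  unfold Adj
  constructor
  · intro h
    by_contra h0
    exact h ⟨hpq, h0⟩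
  · intro h h'
    exact h'.2 h

/-- Injectivity of a vertex function read off from a duplicate-free list. -/
lemma getD_inj (l : List (Fin n)) (d : Fin n) (h : l.Nodup) :
    ∀ i < l.length, ∀ j < l.length, l.getD i d = l.getD j d → i = j := by
  intro i hi j hj hij
  rw [List.getD_eq_getElem _ _ hi, List.getD_eq_getElem _ _ hj] at hij
  exact (List.Nodup.getElem_inj_iff h).mp hij

variable (T)

/-- Normal-form data: multiplicities, weights and off-diagonal intersection numbers, indexed by
positions `0, …, n - 1`. -/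
structure NF where
  M : ℕ → ℤ
  W : ℕ → ℤ
  A : ℕ → ℕ → ℤ

/-- `T` has the normal form `F` after renumbering the indices. -/
def Realizes (F : NF) : Prop :=
  ∃ (v : ℕ → Fin n) (m w : ℤ), (∀ i < n, ∀ j < n, v i = v j → i = j) ∧
    (∀ i < n, T.m (v i) = F.M i * m) ∧ (∀ i < n, T.w (v i) = F.W i * w) ∧
    ∀ i < n, ∀ j < n, i ≠ j → T.a (v i) (v j) = F.A i j * w

variable {T}

theorem Realizes.toPerm {F : NF} (h : Realizes T F) :
    ∃ (σ : Equiv.Perm (Fin n)) (m w : ℤ),
      (∀ i : Fin n, T.m (σ i) = F.M i.val * m) ∧ (∀ i : Fin n, T.w (σ i) = F.W i.val * w) ∧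
      ∀ i j : Fin n, i ≠ j → T.a (σ i) (σ j) = F.A i.val j.val * w := by
  obtain ⟨v, m, w, hinj, hM, hW, hA⟩ := h
  have hinj' : Function.Injective (fun i : Fin n => v i.val) := by
    intro i j hij
    exact Fin.ext (hinj i.val i.isLt j.val j.isLt hij)
  refine ⟨Equiv.ofBijective _ ⟨hinj', Finite.injective_iff_surjective.mp hinj'⟩, m, w, ?_, ?_, ?_⟩
  · intro i
    exact hM i.val i.isLt
  · intro i
    exact hW i.val i.isLt
  · intro i j hij
    exact hA i.val i.isLt j.val j.isLt (fun e => hij (Fin.ext e))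

/-- No bond with both Cartan integers at least two (for `n ≥ 3`). -/
theorem no22 (h2 : ∀ i, T.a i i = -2 * T.w i) (hn : 3 ≤ n) {p q : Fin n} (h : Adj T p q)
    (h1 : 2 * T.w p ≤ T.a p q) (h2' : 2 * T.w q ≤ T.a q p) : False := by
  have hinj := getD_inj [p, q] p (by simp [h.1])
  obtain ⟨hNn, -⟩ := rigidE T h2 2 (fun i => ([p, q] : List (Fin n)).getD i p) hinj
    (fun _ => 2) (by intro _ _; norm_num) (by norm_num) [(0, 1, 2), (1, 0, 2)]
    (by
      intro e he
      simp only [List.mem_cons, List.not_mem_nil, or_false] at he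
      rcases he with rfl | rfl
      · simpa using h1
      · simpa using h2')
    (by decide)
  omega

/-- No bond with a Cartan integer at least three (for `n ≥ 4`). -/
theorem no3 (h2 : ∀ i, T.a i i = -2 * T.w i) (hn : 4 ≤ n) {p q : Fin n} (h : Adj T p q)
    (h3 : 3 * T.w p ≤ T.a p q) : False := by
  obtain ⟨i, hi, r, hr, hir⟩ := T.connected {p, q} (by simp) (by
    intro hu
    have := congrArg Finset.card hu
    rw [Finset.card_univ, Fintype.card_fin] at this
    have h2c : ({p, q} : Finset (Fin n)).card ≤ 2 := Finset.card_le_two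
    omega)
  have hrp : r ≠ p := fun e => hr (by simp [e])
  have hrq : r ≠ q := fun e => hr (by simp [e])
  have hiq : i = p ∨ i = q := by simpa using hi
  rcases hiq with rfl | rfl
  · -- r adjacent to p
    have hadj : Adj T r i := ⟨hrp, by rw [a_symm]; exact hir⟩
    have hinj := getD_inj [r, i, q] r (by simp [hrp, hrq, h.1])
    obtain ⟨hNn, -⟩ := rigidE T h2 3 (fun t => ([r, i, q] : List (Fin n)).getD t r) hinj
      (fun t => ([1, 2, 1] : List ℤ).getD t 0) (by decide) (by norm_num)
      [(0, 1, 1), (1, 0, 1), (1, 2, 3), (2, 1, 1)]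
      (by
        intro e he
        simp only [List.mem_cons, List.not_mem_nil, or_false] at he
        rcases he with rfl | rfl | rfl | rfl
        · simpa using hadj.one_le
        · simpa using hadj.symm.one_le
        · simpa using h3
        · simpa using h.symm.one_le)
      (by decide)
    omega
  · -- r adjacent to q
    have hadj : Adj T r i := ⟨hrq, by rw [a_symm]; exact hir⟩
    have hinj := getD_inj [r, i, p] r (by simp [hrp, hrq, h.1.symm])
    obtain ⟨hNn, -⟩ := rigidE T h2 3 (fun t => ([r, i, p] : List (Fin n)).getD t r) hinj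
      (fun t => ([1, 2, 3] : List ℤ).getD t 0) (by decide) (by norm_num)
      [(0, 1, 1), (1, 0, 1), (1, 2, 1), (2, 1, 3)]
      (by
        intro e he
        simp only [List.mem_cons, List.not_mem_nil, or_false] at he
        rcases he with rfl | rfl | rfl | rfl
        · simpa using hadj.one_le
        · simpa using hadj.symm.one_le
        · simpa using h.symm.one_le
        · simpa using h3)
      (by decide)
    omega

lemma Adj.cases12 (h2 : ∀ i, T.a i i = -2 * T.w i) (hn : 4 ≤ n) {p q : Fin n} (h : Adj T p q) :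
    T.a p q = T.w p ∨ T.a p q = 2 * T.w p := by
  obtain ⟨x, hx⟩ := T.w_dvd p q
  have hw := T.w_pos p
  have hpos := h.pos
  have hx1 : 1 ≤ x := by
    by_contra hcon
    have : x ≤ 0 := by omega
    rw [hx] at hpos
    nlinarith
  have hx2 : x ≤ 2 := by
    by_contra hcon
    have h3 : 3 ≤ x := by omega
    exact no3 h2 hn h (by rw [hx]; nlinarith)
  rcases (by omega : x = 1 ∨ x = 2) with rfl | rfl
  · left; rw [hx]; ring
  · right; rw [hx]; ring

/-- A bond is simple. -/
def Simple (T : Models.NumericalType n) (p q : Fin n) : Prop := T.a p q = T.w p ∧ T.a p q = T.w q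

/-- Bond trichotomy for `n ≥ 4`. -/
theorem bond_cases (h2 : ∀ i, T.a i i = -2 * T.w i) (hn : 4 ≤ n) {p q : Fin n} (h : Adj T p q) :
    Simple T p q ∨ (T.a p q = 2 * T.w p ∧ T.a p q = T.w q) ∨
      (T.a p q = T.w p ∧ T.a p q = 2 * T.w q) := by
  have hs := a_symm T p q
  rcases h.cases12 h2 hn with h1 | h1 <;> rcases h.symm.cases12 h2 hn with h1' | h1'
  · left; exact ⟨h1, by rw [hs, h1']⟩
  · right; right; exact ⟨h1, by rw [hs, h1']⟩
  · right; left; exact ⟨h1, by rw [hs, h1']⟩
  · exfalso
    exact no22 h2 (by omega) h (by rw [h1]) (by rw [h1'])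

lemma not_simple_heavy {p q : Fin n} (h : Adj T p q) (hns : ¬ Simple T p q) :
    2 * T.w p ≤ T.a p q ∨ 2 * T.w q ≤ T.a q p := by
  rcases h.eq_or_two_le with h1 | h1
  · rcases h.symm.eq_or_two_le with h1' | h1'
    · exfalso
      exact hns ⟨h1, by rw [a_symm T p q, h1']⟩
    · right; exact h1'
  · left; exact h1

/-- Lookup in a neighbour list. -/
def lookup (l : List (ℕ × ℤ)) (q : ℕ) : ℤ :=
  match l.find? (fun e => e.1 = q) with
  | some e => e.2
  | none => 0

/-- Assemble a normal form from exact intersection numbers along neighbour lists. -/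
theorem realizes_of (nb : ℕ → List (ℕ × ℤ)) (M W : ℕ → ℤ) (v : ℕ → Fin n)
    (hinj : ∀ i < n, ∀ j < n, v i = v j → i = j)
    (hA : ∀ p < n, ∀ e ∈ nb p, T.a (v p) (v e.1) = e.2 * T.w (v p))
    (hZ : ∀ p < n, ∀ q < n, q ≠ p → q ∉ (nb p).map Prod.fst → T.a (v p) (v q) = 0)
    (m w : ℤ) (hM : ∀ p < n, T.m (v p) = M p * m) (hW : ∀ p < n, T.w (v p) = W p * w) :
    Realizes T ⟨M, W, fun p q => lookup (nb p) q * W p⟩ := by
  refine ⟨v, m, w, hinj, hM, hW, ?_⟩
  intro p hp q hq hpq
  show T.a (v p) (v q) = lookup (nb p) q * W p * w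
  unfold lookup
  cases hfind : (nb p).find? (fun e => e.1 = q) with
  | none =>
    show _ = (0 : ℤ) * W p * w
    rw [zero_mul, zero_mul]
    apply hZ p hp q hq (Ne.symm hpq)
    intro hmem
    obtain ⟨e, he, heq⟩ := List.mem_map.mp hmem
    have := List.find?_eq_none.mp hfind e he
    simp only [decide_eq_true_eq] at this
    exact this heq
  | some e =>
    show _ = e.2 * W p * w
    have hmem : e ∈ nb p := List.mem_of_find?_eq_some hfind
    have heq := List.find?_some hfind
    simp only [decide_eq_true_eq] at heq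
    rw [← heq, hA p hp e hmem, hW p hp]
    ring

/-- Along a chain of simple bonds the weights are constant. -/
lemma w_const_chain (v : ℕ → Fin n) (lo hi : ℕ)
    (h : ∀ p, lo ≤ p → p < hi → T.a (v p) (v (p + 1)) = 1 * T.w (v p) ∧
      T.a (v (p + 1)) (v p) = 1 * T.w (v (p + 1))) :
    ∀ p, lo ≤ p → p ≤ hi → T.w (v p) = T.w (v lo) := by
  intro p hlo hhi
  induction p, hlo using Nat.le_induction with
  | base => rfl
  | succ p hlo ih =>
    have := h p hlo (by omega)
    rw [← ih (by omega)]
    have hs := a_symm T (v p) (v (p + 1))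
    linarith [this.1, this.2]

end Groth.Agent.Lib.NumTypeAff67
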