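import Mathlib
import Groth.Prelude.Def_Models
import Groth.Agent.Lib.NumTypeAff67B

/-!
# Numerical types with only `(-2)`-indices: the infinite families (cycle, chains)
-/

set_option autoImplicit false

namespace Groth.Agent.Lib.NumTypeAff67

open Finset Models

variable {n : ℕ} {T : Models.NumericalType n}

/-- Neighbour lists of the `N`-cycle. -/
def nbCyc (N p : ℕ) : List (ℕ × ℤ) :=
  if p = 0 then [(1, 1), (N - 1, 1)]
  else if p + 1 = N then [(p - 1, 1), (0, 1)]
  else [(p - 1, 1), (p + 1, 1)]

/-- Normal form of the `N`-cycle. -/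
def cyc (N : ℕ) : NF := ⟨fun _ => 1, fun _ => 1, fun p q => lookup (nbCyc N p) q * 1⟩

theorem cyc_form (h2 : ∀ i, T.a i i = -2 * T.w i) (N : ℕ) (hN : 3 ≤ N) (v : ℕ → Fin n)
    (hinj : ∀ i < N, ∀ j < N, v i = v j → i = j)
    (hadj : ∀ t, t + 1 < N → Adj T (v t) (v (t + 1))) (hclose : Adj T (v (N - 1)) (v 0)) :
    Realizes T (cyc n) := by
  have hback : ∀ p, 0 < p → p < N → Adj T (v p) (v (p - 1)) := by
    intro p hp0 hp
    have := (hadj (p - 1) (by omega)).symm
    rwa [show p - 1 + 1 = p by omega] at this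
  have hlow : ∀ p < N, ∀ e ∈ nbCyc N p, e.1 < N ∧ e.1 ≠ p ∧ e.2 = 1 ∧ Adj T (v p) (v e.1) := by
    intro p hp e he
    unfold nbCyc at he
    split_ifs at he with h0 h1
    · subst h0
      simp only [List.mem_cons, List.not_mem_nil, or_false] at he
      rcases he with rfl | rfl
      · exact ⟨by omega, by omega, rfl, hadj 0 (by omega)⟩
      · exact ⟨by omega, by omega, rfl, hclose.symm⟩
    · simp only [List.mem_cons, List.not_mem_nil, or_false] at he
      rcases he with rfl | rfl
      · exact ⟨by omega, by omega, rfl, hback p (by omega) hp⟩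
      · refine ⟨by omega, by omega, rfl, ?_⟩
        have : p = N - 1 := by omega
        subst this
        exact hclose
    · simp only [List.mem_cons, List.not_mem_nil, or_false] at he
      rcases he with rfl | rfl
      · exact ⟨by omega, by omega, rfl, hback p (by omega) hp⟩
      · exact ⟨by omega, by omega, rfl, hadj p (by omega)⟩
  obtain ⟨hNn, hsurj, hA, hZ, -, hm⟩ := rigid T h2 N v hinj (fun _ => 1)
    (by intros; norm_num) (by omega) (nbCyc N)
    (fun p hp e he => by
      obtain ⟨h1, h2', h3, h4⟩ := hlow p hp e he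
      exact ⟨h1, h2', by rw [h3]; exact h4.one_le⟩)
    (by
      intro p hp
      unfold nbCyc
      split_ifs <;> simp <;> omega)
    (by
      intro p hp
      unfold nbCyc
      split_ifs <;> simp)
  subst hNn
  have hwc : ∀ p < N, T.w (v p) = T.w (v 0) := by
    intro p hp
    apply w_const_chain v 0 (N - 1) ?_ p (by omega) (by omega)
    intro q _ hq
    constructor
    · have hmem : ((q + 1, 1) : ℕ × ℤ) ∈ nbCyc N q := by
        unfold nbCyc
        split_ifs <;> first | contradiction | omega | (simp <;> omega)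
      simpa using hA q (by omega) _ hmem
    · have hmem : ((q, 1) : ℕ × ℤ) ∈ nbCyc N (q + 1) := by
        unfold nbCyc
        split_ifs <;> first | contradiction | omega | (simp <;> omega)
      simpa using hA (q + 1) (by omega) _ hmem
  refine realizes_of (nbCyc N) _ _ v hinj hA hZ (T.m (v 0)) (T.w (v 0)) ?_ ?_
  · intro p hp
    have := hm p hp 0 (by omega)
    simpa using this
  · intro p hp
    rw [hwc p hp]
    ring

/-- Neighbour lists of a chain with a (possibly) double bond at each end. -/
def nbDD (αL βL αR βR : ℤ) (N p : ℕ) : List (ℕ × ℤ) :=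
  if p = 0 then [(1, αL)]
  else if p + 1 = N then [(p - 1, αR)]
  else [(p - 1, if p = 1 then βL else 1), (p + 1, if p + 2 = N then βR else 1)]

/-- The null vector of such a chain. -/
def uDD (αL αR : ℤ) (N p : ℕ) : ℤ := if p = 0 then αL else if p + 1 = N then αR else 2

theorem dd_raw (h2 : ∀ i, T.a i i = -2 * T.w i) (N : ℕ) (hN : 4 ≤ N) (v : ℕ → Fin n)
    (hinj : ∀ i < N, ∀ j < N, v i = v j → i = j)
    (hadj : ∀ t, t + 1 < N → Adj T (v t) (v (t + 1)))
    (αL βL αR βR : ℤ) (hαL : 0 < αL) (hαR : 0 < αR) (hL : αL * βL = 2) (hR : αR * βR = 2)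
    (hL1 : αL * T.w (v 0) ≤ T.a (v 0) (v 1)) (hL2 : βL * T.w (v 1) ≤ T.a (v 1) (v 0))
    (hR1 : αR * T.w (v (N - 1)) ≤ T.a (v (N - 1)) (v (N - 2)))
    (hR2 : βR * T.w (v (N - 2)) ≤ T.a (v (N - 2)) (v (N - 1))) :
    N = n ∧ (∀ p < N, ∀ e ∈ nbDD αL βL αR βR N p, T.a (v p) (v e.1) = e.2 * T.w (v p)) ∧
    (∀ p < N, ∀ q < N, q ≠ p → q ∉ (nbDD αL βL αR βR N p).map Prod.fst →
      T.a (v p) (v q) = 0) ∧
    (∀ i < N, ∀ j < N, T.m (v i) * uDD αL αR N j = T.m (v j) * uDD αL αR N i) := by
  have hback : ∀ p, 0 < p → p < N → Adj T (v p) (v (p - 1)) := by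
    intro p hp0 hp
    have := (hadj (p - 1) (by omega)).symm
    rwa [show p - 1 + 1 = p by omega] at this
  obtain ⟨hNn, -, hA, hZ, -, hm⟩ := rigid T h2 N v hinj (uDD αL αR N)
    (by
      intro p _
      unfold uDD
      split_ifs <;> first | assumption | norm_num)
    (by omega) (nbDD αL βL αR βR N)
    (by
      intro p hp e he
      unfold nbDD at he
      by_cases h0 : p = 0
      · rw [if_pos h0] at he
        subst h0
        simp only [List.mem_cons, List.not_mem_nil, or_false] at he
        subst he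
        exact ⟨by omega, by omega, hL1⟩
      by_cases h1 : p + 1 = N
      · rw [if_neg h0, if_pos h1] at he
        simp only [List.mem_cons, List.not_mem_nil, or_false] at he
        subst he
        have hpN : p = N - 1 := by omega
        subst hpN
        refine ⟨by omega, by omega, ?_⟩
        rw [show N - 1 - 1 = N - 2 by omega]
        exact hR1
      · rw [if_neg h0, if_neg h1] at he
        simp only [List.mem_cons, List.not_mem_nil, or_false] at he
        rcases he with rfl | rfl
        · refine ⟨by omega, by omega, ?_⟩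
          by_cases hp1 : p = 1
          · subst hp1
            simpa using hL2
          · simp only [hp1, if_false]
            exact (hback p (by omega) hp).one_le
        · refine ⟨by omega, by omega, ?_⟩
          by_cases hp2 : p + 2 = N
          · have hpN : p = N - 2 := by omega
            subst hpN
            simp only [hp2, if_true]
            rw [show N - 2 + 1 = N - 1 by omega]
            exact hR2
          · simp only [hp2, if_false]
            exact (hadj p (by omega)).one_le)
    (by
      intro p hp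
      unfold nbDD
      split_ifs <;> first | contradiction | (simp <;> omega))
    (by
      intro p hp
      by_cases h0 : p = 0
      · subst h0
        have h1 : ¬ (1 + 1 = N) := by omega
        simp [nbDD, uDD, h1]
        linarith
      · by_cases h1 : p + 1 = N
        · have h3 : ¬ (p - 1 = 0) := by omega
          have h4 : ¬ (p - 1 + 1 = N) := by omega
          simp [nbDD, uDD, h0, h1, h3, h4]
          linarith
        · have e1 : (if p = 1 then βL else 1) * uDD αL αR N (p - 1) = 2 := by
            by_cases hp1 : p = 1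
            · subst hp1
              simp [uDD]
              linarith
            · have h3 : ¬ (p - 1 = 0) := by omega
              have h4 : ¬ (p - 1 + 1 = N) := by omega
              simp [uDD, hp1, h3, h4]
          have e2 : (if p + 2 = N then βR else 1) * uDD αL αR N (p + 1) = 2 := by
            by_cases hp2 : p + 2 = N
            · have h4 : p + 1 + 1 = N := by omega
              simp [uDD, hp2, h4]
              linarith
            · have h4 : ¬ (p + 1 + 1 = N) := by omega
              simp [uDD, hp2, h4]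
          simp only [nbDD, h0, h1, if_false, List.map_cons, List.map_nil, List.sum_cons,
            List.sum_nil, e1, e2]
          simp [uDD, h0, h1])
  exact ⟨hNn, hA, hZ, hm⟩

/-- Weights along a chain with double ends, from the exact intersection numbers. -/
theorem dd_weights (N : ℕ) (hN : 4 ≤ N) (v : ℕ → Fin n) (αL βL αR βR : ℤ)
    (hA : ∀ p < N, ∀ e ∈ nbDD αL βL αR βR N p, T.a (v p) (v e.1) = e.2 * T.w (v p)) :
    (∀ p, 1 ≤ p → p ≤ N - 2 → T.w (v p) = T.w (v 1)) ∧
    αL * T.w (v 0) = βL * T.w (v 1) ∧ αR * T.w (v (N - 1)) = βR * T.w (v 1) := by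
  have hint : ∀ p, 1 ≤ p → p ≤ N - 2 → T.w (v p) = T.w (v 1) := by
    apply w_const_chain v 1 (N - 2)
    intro q hq1 hq2
    constructor
    · have hmem : ((q + 1, 1) : ℕ × ℤ) ∈ nbDD αL βL αR βR N q := by
        have h0 : ¬ q = 0 := by omega
        have h1 : ¬ q + 1 = N := by omega
        have h3 : ¬ q + 2 = N := by omega
        simp [nbDD, h0, h1, h3]
      simpa using hA q (by omega) _ hmem
    · have hmem : ((q, 1) : ℕ × ℤ) ∈ nbDD αL βL αR βR N (q + 1) := by
        have h1 : ¬ q + 1 + 1 = N := by omega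
        have h3 : ¬ q = 0 := by omega
        simp [nbDD, h1, h3]
      simpa using hA (q + 1) (by omega) _ hmem
  refine ⟨hint, ?_, ?_⟩
  · have hm1 : ((1, αL) : ℕ × ℤ) ∈ nbDD αL βL αR βR N 0 := by simp [nbDD]
    have hm2 : ((0, βL) : ℕ × ℤ) ∈ nbDD αL βL αR βR N 1 := by
      have h1 : ¬ 1 + 1 = N := by omega
      simp [nbDD, h1]
    have e1 := hA 0 (by omega) _ hm1
    have e2 := hA 1 (by omega) _ hm2
    have hs := a_symm T (v 0) (v 1)
    simp only at e1 e2
    linarith
  · have hm1 : ((N - 2, αR) : ℕ × ℤ) ∈ nbDD αL βL αR βR N (N - 1) := by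
      have h0 : ¬ N - 1 = 0 := by omega
      have h1 : N - 1 + 1 = N := by omega
      have h3 : N - 1 - 1 = N - 2 := by omega
      simp [nbDD, h0, h1, h3]
    have hm2 : ((N - 1, βR) : ℕ × ℤ) ∈ nbDD αL βL αR βR N (N - 2) := by
      have h0 : ¬ N - 2 = 0 := by omega
      have h1 : ¬ N - 1 = N := by omega
      have h3 : N - 2 + 2 = N := by omega
      have h4 : N - 2 + 1 = N - 1 := by omega
      simp [nbDD, h0, h1, h3, h4]
    have e1 := hA (N - 1) (by omega) _ hm1
    have e2 := hA (N - 2) (by omega) _ hm2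
    have hs := a_symm T (v (N - 1)) (v (N - 2))
    have hw := hint (N - 2) (by omega) le_rfl
    simp only at e1 e2
    rw [hw] at e2
    linarith

/-- Normal form: chain with weights `(w, 2w, …, 2w, w)`. -/
def chUD (N : ℕ) : NF :=
  ⟨fun _ => 1, fun p => if p = 0 ∨ p + 1 = N then 1 else 2,
    fun p q => lookup (nbDD 2 1 2 1 N p) q * (if p = 0 ∨ p + 1 = N then 1 else 2)⟩

/-- Normal form: chain with weights `(w, 2w, …, 2w, 4w)`. -/
def chUU (N : ℕ) : NF :=
  ⟨fun p => if p + 1 = N then 1 else 2, fun p => if p = 0 then 1 else if p + 1 = N then 4 else 2,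
    fun p q => lookup (nbDD 2 1 1 2 N p) q * (if p = 0 then 1 else if p + 1 = N then 4 else 2)⟩

/-- Normal form: chain with weights `(2w, w, …, w, 2w)`. -/
def chDU (N : ℕ) : NF :=
  ⟨fun p => if p = 0 ∨ p + 1 = N then 1 else 2, fun p => if p = 0 ∨ p + 1 = N then 2 else 1,
    fun p q => lookup (nbDD 1 2 1 2 N p) q * (if p = 0 ∨ p + 1 = N then 2 else 1)⟩

theorem ud_form (h2 : ∀ i, T.a i i = -2 * T.w i) (N : ℕ) (hN : 4 ≤ N) (v : ℕ → Fin n)
    (hinj : ∀ i < N, ∀ j < N, v i = v j → i = j)
    (hadj : ∀ t, t + 1 < N → Adj T (v t) (v (t + 1)))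
    (hL1 : 2 * T.w (v 0) ≤ T.a (v 0) (v 1))
    (hR1 : 2 * T.w (v (N - 1)) ≤ T.a (v (N - 1)) (v (N - 2))) :
    Realizes T (chUD n) := by
  have hb1 : Adj T (v 1) (v 0) := (hadj 0 (by omega)).symm
  have hb2 : Adj T (v (N - 2)) (v (N - 1)) := by
    have := hadj (N - 2) (by omega)
    rwa [show N - 2 + 1 = N - 1 by omega] at this
  obtain ⟨hNn, hA, hZ, hm⟩ := dd_raw h2 N hN v hinj hadj 2 1 2 1 (by norm_num) (by norm_num)
    (by norm_num) (by norm_num) hL1 hb1.one_le hR1 hb2.one_le
  obtain ⟨hw1, hw2, hw3⟩ := dd_weights N hN v 2 1 2 1 hA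
  subst hNn
  refine realizes_of (nbDD 2 1 2 1 N) _ _ v hinj hA hZ (T.m (v 0)) (T.w (v 0)) ?_ ?_
  · intro p hp
    have := hm p hp 0 (by omega)
    unfold uDD at this
    split_ifs at this <;> linarith
  · intro p hp
    by_cases h0 : p = 0
    · subst h0; simp
    · by_cases h1 : p + 1 = N
      · have : p = N - 1 := by omega
        subst this
        simp only [h1, or_true, if_true]
        linarith
      · simp only [h0, h1, or_self, if_false]
        rw [hw1 p (by omega) (by omega)]
        linarith

theorem uu_form (h2 : ∀ i, T.a i i = -2 * T.w i) (N : ℕ) (hN : 4 ≤ N) (v : ℕ → Fin n)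
    (hinj : ∀ i < N, ∀ j < N, v i = v j → i = j)
    (hadj : ∀ t, t + 1 < N → Adj T (v t) (v (t + 1)))
    (hL1 : 2 * T.w (v 0) ≤ T.a (v 0) (v 1))
    (hR2 : 2 * T.w (v (N - 2)) ≤ T.a (v (N - 2)) (v (N - 1))) :
    Realizes T (chUU n) := by
  have hb1 : Adj T (v 1) (v 0) := (hadj 0 (by omega)).symm
  have hb2 : Adj T (v (N - 1)) (v (N - 2)) := by
    have := (hadj (N - 2) (by omega)).symm
    rwa [show N - 2 + 1 = N - 1 by omega] at this
  obtain ⟨hNn, hA, hZ, hm⟩ := dd_raw h2 N hN v hinj hadj 2 1 1 2 (by norm_num) (by norm_num)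
    (by norm_num) (by norm_num) hL1 hb1.one_le hb2.one_le hR2
  obtain ⟨hw1, hw2, hw3⟩ := dd_weights N hN v 2 1 1 2 hA
  subst hNn
  refine realizes_of (nbDD 2 1 1 2 N) _ _ v hinj hA hZ (T.m (v (N - 1))) (T.w (v 0)) ?_ ?_
  · intro p hp
    have := hm p hp (N - 1) (by omega)
    unfold uDD at this
    have h0 : ¬ N - 1 = 0 := by omega
    have h1 : N - 1 + 1 = N := by omega
    simp only [h0, h1, if_false, if_true] at this
    by_cases hp1 : p + 1 = N
    · have : p = N - 1 := by omega
      subst this
      simp [hp1]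
    · simp only [hp1, if_false] at this ⊢
      split_ifs at this <;> linarith
  · intro p hp
    by_cases h0 : p = 0
    · subst h0; simp
    · by_cases h1 : p + 1 = N
      · have : p = N - 1 := by omega
        subst this
        simp only [h0, h1, if_false, if_true]
        linarith
      · simp only [h0, h1, if_false]
        rw [hw1 p (by omega) (by omega)]
        linarith

theorem du_form (h2 : ∀ i, T.a i i = -2 * T.w i) (N : ℕ) (hN : 4 ≤ N) (v : ℕ → Fin n)
    (hinj : ∀ i < N, ∀ j < N, v i = v j → i = j)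
    (hadj : ∀ t, t + 1 < N → Adj T (v t) (v (t + 1)))
    (hL2 : 2 * T.w (v 1) ≤ T.a (v 1) (v 0))
    (hR2 : 2 * T.w (v (N - 2)) ≤ T.a (v (N - 2)) (v (N - 1))) :
    Realizes T (chDU n) := by
  have hb1 : Adj T (v 0) (v 1) := hadj 0 (by omega)
  have hb2 : Adj T (v (N - 1)) (v (N - 2)) := by
    have := (hadj (N - 2) (by omega)).symm
    rwa [show N - 2 + 1 = N - 1 by omega] at this
  obtain ⟨hNn, hA, hZ, hm⟩ := dd_raw h2 N hN v hinj hadj 1 2 1 2 (by norm_num) (by norm_num)
    (by norm_num) (by norm_num) hb1.one_le hL2 hb2.one_le hR2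
  obtain ⟨hw1, hw2, hw3⟩ := dd_weights N hN v 1 2 1 2 hA
  subst hNn
  refine realizes_of (nbDD 1 2 1 2 N) _ _ v hinj hA hZ (T.m (v 0)) (T.w (v 1)) ?_ ?_
  · intro p hp
    have := hm p hp 0 (by omega)
    unfold uDD at this
    simp only [if_true] at this
    by_cases h0 : p = 0
    · subst h0; simp
    · by_cases h1 : p + 1 = N
      · simp only [h0, h1, if_false, if_true, or_true] at this ⊢
        linarith
      · simp only [h0, h1, if_false, or_self] at this ⊢
        linarith
  · intro p hp
    by_cases h0 : p = 0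
    · subst h0
      simp only [true_or, if_true]
      linarith
    · by_cases h1 : p + 1 = N
      · have : p = N - 1 := by omega
        subst this
        simp only [h1, or_true, if_true]
        linarith
      · simp only [h0, h1, or_self, if_false]
        rw [hw1 p (by omega) (by omega)]
        ring

end Groth.Agent.Lib.NumTypeAff67
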