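import Mathlib
import Groth.Prelude.Def_Models
import Groth.Agent.Lib.NumTypeAff67C

/-!
# Numerical types with only `(-2)`-indices: the infinite families with forks
-/

set_option autoImplicit false

namespace Groth.Agent.Lib.NumTypeAff67

open Finset Models

variable {n : ℕ} {T : Models.NumericalType n}

/-- Neighbour lists: chain `0, …, N - 2` with a double bond at `(0, 1)` and the extra leaf `N - 1`
attached to `N - 3`. -/
def nbDF (αL βL : ℤ) (N p : ℕ) : List (ℕ × ℤ) :=
  if p = 0 then [(1, αL)]
  else if N ≤ p + 2 then [(N - 3, 1)]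
  else if p + 3 = N then [(p - 1, if p = 1 then βL else 1), (p + 1, 1), (p + 2, 1)]
  else [(p - 1, if p = 1 then βL else 1), (p + 1, 1)]

def uDF (αL : ℤ) (N p : ℕ) : ℤ := if p = 0 then αL else if N ≤ p + 2 then 1 else 2

theorem df_raw (h2 : ∀ i, T.a i i = -2 * T.w i) (N : ℕ) (hN : 5 ≤ N) (v : ℕ → Fin n)
    (hinj : ∀ i < N, ∀ j < N, v i = v j → i = j)
    (hadj : ∀ t, t + 2 < N → Adj T (v t) (v (t + 1)))
    (hfork : Adj T (v (N - 3)) (v (N - 1)))
    (αL βL : ℤ) (hαL : 0 < αL) (hL : αL * βL = 2)
    (hL1 : αL * T.w (v 0) ≤ T.a (v 0) (v 1)) (hL2 : βL * T.w (v 1) ≤ T.a (v 1) (v 0)) :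
    N = n ∧ (∀ p < N, ∀ e ∈ nbDF αL βL N p, T.a (v p) (v e.1) = e.2 * T.w (v p)) ∧
    (∀ p < N, ∀ q < N, q ≠ p → q ∉ (nbDF αL βL N p).map Prod.fst → T.a (v p) (v q) = 0) ∧
    (∀ i < N, ∀ j < N, T.m (v i) * uDF αL N j = T.m (v j) * uDF αL N i) := by
  have hback : ∀ p, 0 < p → p + 1 < N → Adj T (v p) (v (p - 1)) := by
    intro p hp0 hp
    have := (hadj (p - 1) (by omega)).symm
    rwa [show p - 1 + 1 = p by omega] at this
  obtain ⟨hNn, -, hA, hZ, -, hm⟩ := rigid T h2 N v hinj (uDF αL N)
    (by
      intro p _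
      unfold uDF
      split_ifs <;> first | assumption | norm_num)
    (by omega) (nbDF αL βL N)
    (by
      intro p hp e he
      unfold nbDF at he
      by_cases h0 : p = 0
      · rw [if_pos h0] at he
        subst h0
        simp only [List.mem_cons, List.not_mem_nil, or_false] at he
        subst he
        exact ⟨by omega, by omega, hL1⟩
      by_cases h1 : N ≤ p + 2
      · rw [if_neg h0, if_pos h1] at he
        simp only [List.mem_cons, List.not_mem_nil, or_false] at he
        subst he
        refine ⟨by omega, by omega, ?_⟩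
        rcases (by omega : p = N - 2 ∨ p = N - 1) with hp' | hp'
        · subst hp'
          have := (hadj (N - 3) (by omega)).symm
          rw [show N - 3 + 1 = N - 2 by omega] at this
          exact this.one_le
        · subst hp'
          exact hfork.symm.one_le
      by_cases h3 : p + 3 = N
      · rw [if_neg h0, if_neg h1, if_pos h3] at he
        have hp1 : ¬ p = 1 := by omega
        simp only [hp1, if_false, List.mem_cons, List.not_mem_nil, or_false] at he
        rcases he with rfl | rfl | rfl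
        · exact ⟨by omega, by omega, (hback p (by omega) (by omega)).one_le⟩
        · exact ⟨by omega, by omega, (hadj p (by omega)).one_le⟩
        · refine ⟨by omega, by omega, ?_⟩
          have hpN : p = N - 3 := by omega
          subst hpN
          rw [show N - 3 + 2 = N - 1 by omega]
          exact hfork.one_le
      · rw [if_neg h0, if_neg h1, if_neg h3] at he
        simp only [List.mem_cons, List.not_mem_nil, or_false] at he
        rcases he with rfl | rfl
        · refine ⟨by omega, by omega, ?_⟩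
          by_cases hp1 : p = 1
          · subst hp1
            simpa using hL2
          · simp only [hp1, if_false]
            exact (hback p (by omega) (by omega)).one_le
        · exact ⟨by omega, by omega, (hadj p (by omega)).one_le⟩)
    (by
      intro p hp
      unfold nbDF
      split_ifs <;> first | contradiction | (simp <;> omega))
    (by
      intro p hp
      by_cases h0 : p = 0
      · subst h0
        have h1 : ¬ (N ≤ 1 + 2) := by omega
        simp [nbDF, uDF, h1]
        linarith
      by_cases h1 : N ≤ p + 2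
      · have h3 : ¬ (N - 3 = 0) := by omega
        have h4 : ¬ (N ≤ N - 3 + 2) := by omega
        simp [nbDF, uDF, h0, h1, h3, h4]
      have e1 : (if p = 1 then βL else 1) * uDF αL N (p - 1) = 2 := by
        by_cases hp1 : p = 1
        · subst hp1
          simp [uDF]
          linarith
        · have h3 : ¬ (p - 1 = 0) := by omega
          have h4 : ¬ (N ≤ p - 1 + 2) := by omega
          simp [uDF, hp1, h3, h4]
      by_cases h3 : p + 3 = N
      · have e2 : uDF αL N (p + 1) = 1 := by
          have h4 : N ≤ p + 1 + 2 := by omega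
          simp [uDF, h4]
        have e3 : uDF αL N (p + 2) = 1 := by
          have h4 : N ≤ p + 2 + 2 := by omega
          simp [uDF, h4]
        simp only [nbDF, h0, h1, h3, if_false, if_true, List.map_cons, List.map_nil,
          List.sum_cons, List.sum_nil, e1, e2, e3]
        simp [uDF, h0, h1]
      · have e2 : uDF αL N (p + 1) = 2 := by
          have h4 : ¬ (N ≤ p + 1 + 2) := by omega
          simp [uDF, h4]
        simp only [nbDF, h0, h1, h3, if_false, List.map_cons, List.map_nil,
          List.sum_cons, List.sum_nil, e1, e2]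
        simp [uDF, h0, h1])
  exact ⟨hNn, hA, hZ, hm⟩

theorem df_weights (N : ℕ) (hN : 5 ≤ N) (v : ℕ → Fin n) (αL βL : ℤ)
    (hA : ∀ p < N, ∀ e ∈ nbDF αL βL N p, T.a (v p) (v e.1) = e.2 * T.w (v p)) :
    (∀ p, 1 ≤ p → p < N → T.w (v p) = T.w (v 1)) ∧
    αL * T.w (v 0) = βL * T.w (v 1) := by
  have hint : ∀ p, 1 ≤ p → p ≤ N - 3 → T.w (v p) = T.w (v 1) := by
    apply w_const_chain v 1 (N - 3)
    intro q hq1 hq2
    constructor
    · have hmem : ((q + 1, 1) : ℕ × ℤ) ∈ nbDF αL βL N q := by
        have h0 : ¬ q = 0 := by omega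
        have h1 : ¬ N ≤ q + 2 := by omega
        have h3 : ¬ q + 3 = N := by omega
        simp [nbDF, h0, h1, h3]
      simpa using hA q (by omega) _ hmem
    · have hmem : ((q, 1) : ℕ × ℤ) ∈ nbDF αL βL N (q + 1) := by
        have h1 : ¬ N ≤ q + 1 + 2 := by omega
        have h3 : ¬ q = 0 := by omega
        by_cases h4 : q + 1 + 3 = N
        · simp [nbDF, h1, h3, h4]
        · simp [nbDF, h1, h3, h4]
      simpa using hA (q + 1) (by omega) _ hmem
  have hleaf : ∀ p, N ≤ p + 2 → p < N → T.w (v p) = T.w (v 1) := by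
    intro p hp1 hp2
    have h0 : ¬ p = 0 := by omega
    have hm1 : ((N - 3, 1) : ℕ × ℤ) ∈ nbDF αL βL N p := by
      simp [nbDF, h0, hp1]
    have hm2 : ((p, 1) : ℕ × ℤ) ∈ nbDF αL βL N (N - 3) := by
      have h3 : ¬ N - 3 = 0 := by omega
      have h4 : ¬ N ≤ N - 3 + 2 := by omega
      have h5 : N - 3 + 3 = N := by omega
      have h6 : ¬ N - 3 = 1 := by omega
      simp only [nbDF, h3, h4, h5, h6, if_false, if_true, List.mem_cons, Prod.mk.injEq,
        and_true, List.not_mem_nil, or_false]
      omega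
    have e1 := hA p hp2 _ hm1
    have e2 := hA (N - 3) (by omega) _ hm2
    have hs := a_symm T (v p) (v (N - 3))
    have hw := hint (N - 3) (by omega) le_rfl
    simp only at e1 e2
    linarith
  refine ⟨?_, ?_⟩
  · intro p hp1 hp2
    by_cases h : p ≤ N - 3
    · exact hint p hp1 h
    · exact hleaf p (by omega) hp2
  · have hm1 : ((1, αL) : ℕ × ℤ) ∈ nbDF αL βL N 0 := by simp [nbDF]
    have hm2 : ((0, βL) : ℕ × ℤ) ∈ nbDF αL βL N 1 := by
      have h1 : ¬ N ≤ 1 + 2 := by omega
      have h3 : ¬ 1 + 3 = N := by omega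
      simp [nbDF, h1, h3]
    have e1 := hA 0 (by omega) _ hm1
    have e2 := hA 1 (by omega) _ hm2
    have hs := a_symm T (v 0) (v 1)
    simp only at e1 e2
    linarith

/-- Normal form: D-type graph, weights `(2w, w, …, w)`. -/
def dU (N : ℕ) : NF :=
  ⟨fun p => if p = 0 ∨ N ≤ p + 2 then 1 else 2, fun p => if p = 0 then 2 else 1,
    fun p q => lookup (nbDF 1 2 N p) q * (if p = 0 then 2 else 1)⟩

/-- Normal form: D-type graph, weights `(w, 2w, …, 2w)`. -/
def dD (N : ℕ) : NF :=
  ⟨fun p => if N ≤ p + 2 then 1 else 2, fun p => if p = 0 then 1 else 2,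
    fun p q => lookup (nbDF 2 1 N p) q * (if p = 0 then 1 else 2)⟩

theorem dU_form (h2 : ∀ i, T.a i i = -2 * T.w i) (N : ℕ) (hN : 5 ≤ N) (v : ℕ → Fin n)
    (hinj : ∀ i < N, ∀ j < N, v i = v j → i = j)
    (hadj : ∀ t, t + 2 < N → Adj T (v t) (v (t + 1)))
    (hfork : Adj T (v (N - 3)) (v (N - 1)))
    (hL2 : 2 * T.w (v 1) ≤ T.a (v 1) (v 0)) :
    Realizes T (dU n) := by
  have hb1 : Adj T (v 0) (v 1) := hadj 0 (by omega)
  obtain ⟨hNn, hA, hZ, hm⟩ := df_raw h2 N hN v hinj hadj hfork 1 2 (by norm_num) (by norm_num)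
    hb1.one_le hL2
  obtain ⟨hw1, hw2⟩ := df_weights N hN v 1 2 hA
  subst hNn
  refine realizes_of (nbDF 1 2 N) _ _ v hinj hA hZ (T.m (v 0)) (T.w (v 1)) ?_ ?_
  · intro p hp
    have := hm p hp 0 (by omega)
    unfold uDF at this
    simp only [if_true] at this
    by_cases h0 : p = 0
    · subst h0; simp
    · by_cases h1 : N ≤ p + 2
      · simp only [h0, h1, if_false, if_true, or_true] at this ⊢
        linarith
      · simp only [h0, h1, if_false, or_self] at this ⊢
        linarith
  · intro p hp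
    by_cases h0 : p = 0
    · subst h0
      simp only [if_true]
      linarith
    · simp only [h0, if_false]
      rw [hw1 p (by omega) hp]
      ring

theorem dD_form (h2 : ∀ i, T.a i i = -2 * T.w i) (N : ℕ) (hN : 5 ≤ N) (v : ℕ → Fin n)
    (hinj : ∀ i < N, ∀ j < N, v i = v j → i = j)
    (hadj : ∀ t, t + 2 < N → Adj T (v t) (v (t + 1)))
    (hfork : Adj T (v (N - 3)) (v (N - 1)))
    (hL1 : 2 * T.w (v 0) ≤ T.a (v 0) (v 1)) :
    Realizes T (dD n) := by
  have hb1 : Adj T (v 1) (v 0) := (hadj 0 (by omega)).symm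
  obtain ⟨hNn, hA, hZ, hm⟩ := df_raw h2 N hN v hinj hadj hfork 2 1 (by norm_num) (by norm_num)
    hL1 hb1.one_le
  obtain ⟨hw1, hw2⟩ := df_weights N hN v 2 1 hA
  subst hNn
  refine realizes_of (nbDF 2 1 N) _ _ v hinj hA hZ (T.m (v (N - 1))) (T.w (v 0)) ?_ ?_
  · intro p hp
    have := hm p hp (N - 1) (by omega)
    unfold uDF at this
    have h0 : ¬ N - 1 = 0 := by omega
    have h1 : N ≤ N - 1 + 2 := by omega
    simp only [h0, h1, if_false, if_true] at this
    by_cases hp1 : N ≤ p + 2
    · have hp0 : ¬ p = 0 := by omega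
      simp only [hp0, hp1, if_false, if_true] at this ⊢
      linarith
    · simp only [hp1, if_false] at this ⊢
      split_ifs at this <;> linarith
  · intro p hp
    by_cases h0 : p = 0
    · subst h0; simp
    · simp only [h0, if_false]
      rw [hw1 p (by omega) hp]
      linarith

/-- Neighbour lists of the double fork. -/
def nbFF (N p : ℕ) : List (ℕ × ℤ) :=
  if p ≤ 1 then [(2, 1)]
  else if N ≤ p + 2 then [(N - 3, 1)]
  else if p = 2 then [(0, 1), (1, 1), (3, 1)]
  else if p + 3 = N then [(p - 1, 1), (p + 1, 1), (p + 2, 1)]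
  else [(p - 1, 1), (p + 1, 1)]

def uFF (N p : ℕ) : ℤ := if p ≤ 1 ∨ N ≤ p + 2 then 1 else 2

/-- Normal form of the double fork. -/
def dF (N : ℕ) : NF := ⟨uFF N, fun _ => 1, fun p q => lookup (nbFF N p) q * 1⟩

/-- Edge relation of the double fork. -/
def EFF (N p q : ℕ) : Prop :=
  p < N ∧ q < N ∧ ((p ≤ 1 ∧ q = 2) ∨ (q ≤ 1 ∧ p = 2) ∨ (N ≤ p + 2 ∧ q + 3 = N) ∨
    (N ≤ q + 2 ∧ p + 3 = N) ∨
    (2 ≤ p ∧ p + 3 ≤ N ∧ 2 ≤ q ∧ q + 3 ≤ N ∧ (q = p + 1 ∨ p = q + 1)))

lemma mem_nbFF (N p : ℕ) (hN : 6 ≤ N) (hp : p < N) (q : ℕ) (c : ℤ) :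
    (q, c) ∈ nbFF N p ↔ c = 1 ∧ EFF N p q := by
  unfold nbFF EFF
  split_ifs <;> first | contradiction | (simp <;> omega)

lemma EFF_symm (N p q : ℕ) : EFF N p q ↔ EFF N q p := by
  unfold EFF
  omega

theorem ff_form (h2 : ∀ i, T.a i i = -2 * T.w i) (N : ℕ) (hN : 6 ≤ N) (v : ℕ → Fin n)
    (hinj : ∀ i < N, ∀ j < N, v i = v j → i = j)
    (h02 : Adj T (v 0) (v 2)) (h12 : Adj T (v 1) (v 2))
    (hadj : ∀ t, 2 ≤ t → t + 2 < N → Adj T (v t) (v (t + 1)))
    (hfork : Adj T (v (N - 3)) (v (N - 1))) :
    Realizes T (dF n) := by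
  have hback : ∀ p, 2 < p → p + 1 < N → Adj T (v p) (v (p - 1)) := by
    intro p hp0 hp
    have := (hadj (p - 1) (by omega) (by omega)).symm
    rwa [show p - 1 + 1 = p by omega] at this
  have hlow : ∀ p < N, ∀ e ∈ nbFF N p, e.1 < N ∧ e.1 ≠ p ∧ e.2 = 1 ∧ Adj T (v p) (v e.1) := by
    intro p hp e he
    unfold nbFF at he
    by_cases h0 : p ≤ 1
    · rw [if_pos h0] at he
      simp only [List.mem_cons, List.not_mem_nil, or_false] at he
      subst he
      refine ⟨by omega, by omega, rfl, ?_⟩
      rcases (by omega : p = 0 ∨ p = 1) with rfl | rfl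
      · exact h02
      · exact h12
    by_cases h1 : N ≤ p + 2
    · rw [if_neg h0, if_pos h1] at he
      simp only [List.mem_cons, List.not_mem_nil, or_false] at he
      subst he
      refine ⟨by omega, by omega, rfl, ?_⟩
      rcases (by omega : p = N - 2 ∨ p = N - 1) with hp' | hp'
      · subst hp'
        have := (hadj (N - 3) (by omega) (by omega)).symm
        rwa [show N - 3 + 1 = N - 2 by omega] at this
      · subst hp'
        exact hfork.symm
    by_cases h3 : p = 2
    · rw [if_neg h0, if_neg h1, if_pos h3] at he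
      subst h3
      simp only [List.mem_cons, List.not_mem_nil, or_false] at he
      rcases he with rfl | rfl | rfl
      · exact ⟨by omega, by omega, rfl, h02.symm⟩
      · exact ⟨by omega, by omega, rfl, h12.symm⟩
      · exact ⟨by omega, by omega, rfl, hadj 2 le_rfl (by omega)⟩
    by_cases h4 : p + 3 = N
    · rw [if_neg h0, if_neg h1, if_neg h3, if_pos h4] at he
      simp only [List.mem_cons, List.not_mem_nil, or_false] at he
      rcases he with rfl | rfl | rfl
      · exact ⟨by omega, by omega, rfl, hback p (by omega) (by omega)⟩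
      · exact ⟨by omega, by omega, rfl, hadj p (by omega) (by omega)⟩
      · refine ⟨by omega, by omega, rfl, ?_⟩
        have hpN : p = N - 3 := by omega
        subst hpN
        rw [show N - 3 + 2 = N - 1 by omega]
        exact hfork
    · rw [if_neg h0, if_neg h1, if_neg h3, if_neg h4] at he
      simp only [List.mem_cons, List.not_mem_nil, or_false] at he
      rcases he with rfl | rfl
      · exact ⟨by omega, by omega, rfl, hback p (by omega) (by omega)⟩
      · exact ⟨by omega, by omega, rfl, hadj p (by omega) (by omega)⟩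
  obtain ⟨hNn, -, hA, hZ, -, hm⟩ := rigid T h2 N v hinj (uFF N)
    (by
      intro p _
      unfold uFF
      split_ifs <;> norm_num)
    (by omega) (nbFF N)
    (fun p hp e he => by
      obtain ⟨h1, h2', h3, h4⟩ := hlow p hp e he
      exact ⟨h1, h2', by rw [h3]; exact h4.one_le⟩)
    (by
      intro p hp
      unfold nbFF
      split_ifs <;> first | contradiction | (simp <;> omega))
    (by
      intro p hp
      by_cases h0 : p ≤ 1
      · have h1 : ¬ (N ≤ 2 + 2) := by omega
        simp [nbFF, uFF, h0, h1]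
      by_cases h1 : N ≤ p + 2
      · have h3 : ¬ (N - 3 ≤ 1) := by omega
        have h4 : ¬ (N ≤ N - 3 + 2) := by omega
        simp [nbFF, uFF, h0, h1, h3, h4]
      by_cases h3 : p = 2
      · subst h3
        have h4 : ¬ (N ≤ 3 + 2) := by omega
        have h5 : ¬ (N ≤ 2 + 2) := by omega
        simp [nbFF, uFF, h4, h5]
      have e1 : uFF N (p - 1) = 2 := by
        have h4 : ¬ (p - 1 ≤ 1) := by omega
        have h5 : ¬ (N ≤ p - 1 + 2) := by omega
        simp [uFF, h4, h5]
      by_cases h4 : p + 3 = N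
      · have e2 : uFF N (p + 1) = 1 := by
          have h5 : N ≤ p + 1 + 2 := by omega
          simp [uFF, h5]
        have e3 : uFF N (p + 2) = 1 := by
          have h5 : N ≤ p + 2 + 2 := by omega
          simp [uFF, h5]
        simp only [nbFF, h0, h1, h3, h4, if_false, if_true, List.map_cons, List.map_nil,
          List.sum_cons, List.sum_nil, e1, e2, e3]
        simp [uFF, h0, h1]
      · have e2 : uFF N (p + 1) = 2 := by
          have h5 : ¬ (p + 1 ≤ 1) := by omega
          have h6 : ¬ (N ≤ p + 1 + 2) := by omega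
          simp [uFF, h5, h6]
        simp only [nbFF, h0, h1, h3, h4, if_false, List.map_cons, List.map_nil,
          List.sum_cons, List.sum_nil, e1, e2]
        simp [uFF, h0, h1])
  subst hNn
  -- weights: all equal to `w (v 2)`
  have hedge : ∀ p < N, ∀ e ∈ nbFF N p, T.w (v p) = T.w (v e.1) := by
    intro p hp e he
    obtain ⟨h1, h2', h3, h4⟩ := hlow p hp e he
    have e1 := hA p hp e he
    -- the reverse edge
    have hrev : ((p, 1) : ℕ × ℤ) ∈ nbFF N e.1 := by
      have hE : EFF N p e.1 := ((mem_nbFF N p hN hp e.1 e.2).mp he).2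
      exact (mem_nbFF N e.1 hN h1 p 1).mpr ⟨rfl, (EFF_symm N p e.1).mp hE⟩
    have e2 := hA e.1 h1 _ hrev
    have hs := a_symm T (v p) (v e.1)
    simp only at e2
    rw [h3] at e1
    linarith
  have hint : ∀ p, 2 ≤ p → p ≤ N - 3 → T.w (v p) = T.w (v 2) := by
    apply w_const_chain v 2 (N - 3)
    intro q hq1 hq2
    have hmem : ((q + 1, 1) : ℕ × ℤ) ∈ nbFF N q := by
      have c0 : ¬ (q ≤ 1) := by omega
      have c1 : ¬ (N ≤ q + 2) := by omega
      have c4 : ¬ (q + 3 = N) := by omega
      by_cases c3 : q = 2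
      · subst c3; simp [nbFF, c1]
      · simp [nbFF, c0, c1, c3, c4]
    have hw := hedge q (by omega) _ hmem
    have e1 := hA q (by omega) _ hmem
    simp only at hw e1
    refine ⟨e1, ?_⟩
    rw [a_symm T (v (q + 1)) (v q), e1, hw]
  have hw : ∀ p < N, T.w (v p) = T.w (v 2) := by
    intro p hp
    by_cases c0 : p ≤ 1
    · have hmem : ((2, 1) : ℕ × ℤ) ∈ nbFF N p := by simp [nbFF, c0]
      exact hedge p hp _ hmem
    by_cases c1 : N ≤ p + 2
    · have hmem : ((N - 3, 1) : ℕ × ℤ) ∈ nbFF N p := by simp [nbFF, c0, c1]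
      rw [hedge p hp _ hmem]
      exact hint (N - 3) (by omega) le_rfl
    · exact hint p (by omega) (by omega)
  refine realizes_of (nbFF N) _ _ v hinj hA hZ (T.m (v 0)) (T.w (v 2)) ?_ ?_
  · intro p hp
    have := hm p hp 0 (by omega)
    have hu0 : uFF N 0 = 1 := by simp [uFF]
    rw [hu0] at this
    linarith
  · intro p hp
    rw [hw p hp]
    ring

end Groth.Agent.Lib.NumTypeAff67
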