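import Mathlib
import Groth.Prelude.Def_Models
import Groth.Agent.Lib.NumTypeAff67D

/-!
# Numerical types with only `(-2)`-indices: patterns of fixed size
-/

set_option autoImplicit false

namespace Groth.Agent.Lib.NumTypeAff67

open Finset Models

variable {n : ℕ} {T : Models.NumericalType n}

/-- Normal form attached to explicit lists. -/
def fixedNF (u W : List ℤ) (E : List (ℕ × ℕ × ℤ)) : NF :=
  ⟨fun p => u.getD p 0, fun p => W.getD p 0, fun p q => lamOf E p q * W.getD p 0⟩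

/-- The decidable side conditions of `fixed_form`. -/
def Chk (N : ℕ) (u W : List ℤ) (E : List (ℕ × ℕ × ℤ)) (par rk : List ℕ) (bw bm : ℕ) : Prop :=
  0 < N ∧ (∀ p < N, 0 < u.getD p 0) ∧
  (∀ p < N, 2 * u.getD p 0 ≤
    (((List.range N).filter (fun q => q ≠ p)).map fun q => lamOf E p q * u.getD q 0).sum) ∧
  (∀ p < N, ∀ q < N, lamOf E p q * W.getD p 0 = lamOf E q p * W.getD q 0) ∧
  bw < N ∧ W.getD bw 0 = 1 ∧ bm < N ∧ u.getD bm 0 = 1 ∧
  (∀ p < N, p = bw ∨ (par.getD p 0 < N ∧ par.getD p 0 ≠ p ∧ lamOf E p (par.getD p 0) ≠ 0 ∧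
    rk.getD (par.getD p 0) 0 < rk.getD p 0))

instance (N : ℕ) (u W : List ℤ) (E : List (ℕ × ℕ × ℤ)) (par rk : List ℕ) (bw bm : ℕ) :
    Decidable (Chk N u W E par rk bw bm) := by
  unfold Chk
  infer_instance

theorem fixed_form (h2 : ∀ i, T.a i i = -2 * T.w i) (l : List (Fin n)) (d : Fin n)
    (hnd : l.Nodup) (u W : List ℤ) (E : List (ℕ × ℕ × ℤ)) (par rk : List ℕ) (bw bm : ℕ)
    (hE : ∀ e ∈ E, e.2.2 * T.w (l.getD e.1 d) ≤ T.a (l.getD e.1 d) (l.getD e.2.1 d))
    (hchk : Chk l.length u W E par rk bw bm) :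
    l.length = n ∧ Realizes T (fixedNF u W E) := by
  obtain ⟨hN, hu, hsum, hWsym, hbw, hWbw, hbm, hubm, hpar⟩ := hchk
  set N := l.length with hNdef
  set v : ℕ → Fin n := fun i => l.getD i d with hv
  have hinj : ∀ i < N, ∀ j < N, v i = v j → i = j := getD_inj l d hnd
  obtain ⟨hNn, -, hA, hm⟩ := rigidE T h2 N v hinj (fun p => u.getD p 0) hu hN E hE hsum
  refine ⟨hNn, ?_⟩
  have hedge : ∀ p < N, ∀ q < N, q ≠ p →
      lamOf E p q * T.w (v p) = lamOf E q p * T.w (v q) := by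
    intro p hp q hq hqp
    rw [← hA p hp q hq hqp, ← hA q hq p hp (Ne.symm hqp), a_symm]
  have hW : ∀ r, ∀ p < N, rk.getD p 0 ≤ r → T.w (v p) = W.getD p 0 * T.w (v bw) := by
    intro r
    induction r using Nat.strong_induction_on with
    | _ r ih =>
      intro p hp hr
      rcases hpar p hp with rfl | ⟨hq, hqp, hlam, hrk⟩
      · rw [hWbw, one_mul]
      · set q := par.getD p 0 with hqdef
        have ihq := ih (rk.getD q 0) (by omega) q hq le_rfl
        have e1 := hedge p hp q hq hqp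
        have e2 := hWsym p hp q hq
        have : lamOf E p q * T.w (v p) = lamOf E p q * (W.getD p 0 * T.w (v bw)) := by
          rw [e1, ihq, ← mul_assoc, ← e2]
          ring
        exact mul_left_cancel₀ hlam this
  have hNn' : n = N := hNn.symm
  refine ⟨v, T.m (v bm), T.w (v bw), ?_, ?_, ?_, ?_⟩
  · intro i hi j hj h
    exact hinj i (by omega) j (by omega) h
  · intro p hp
    have hp' : p < N := by omega
    have := hm p hp' bm hbm
    simp only [hubm, mul_one] at this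
    show T.m (v p) = u.getD p 0 * T.m (v bm)
    linarith
  · intro p hp
    have hp' : p < N := by omega
    exact hW (rk.getD p 0) p hp' le_rfl
  · intro p hp q hq hpq
    have hp' : p < N := by omega
    have hq' : q < N := by omega
    show T.a (v p) (v q) = lamOf E p q * W.getD p 0 * T.w (v bw)
    rw [hA p hp' q hq' (Ne.symm hpq), hW (rk.getD p 0) p hp' le_rfl]
    ring

/-- Normal form `tripU`. -/
def tripU : NF := fixedNF [2, 1, 1, 1] [1, 1, 1, 2]
  [(0, 1, 1), (1, 0, 1), (0, 2, 1), (2, 0, 1), (0, 3, 2), (3, 0, 1)]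

theorem tripU_form (h2 : ∀ i, T.a i i = -2 * T.w i) {x0 x1 x2 x3 : Fin n}
    (hnd : ([x0, x1, x2, x3] : List (Fin n)).Nodup)
    (a01 : Adj T x0 x1) (a02 : Adj T x0 x2) (a03 : Adj T x0 x3) (hh : 2 * T.w x0 ≤ T.a x0 x3) :
    n = 4 ∧ Realizes T tripU := by
  obtain ⟨hN, hR⟩ := fixed_form h2 [x0, x1, x2, x3] x0 hnd [2, 1, 1, 1] [1, 1, 1, 2]
    [(0, 1, 1), (1, 0, 1), (0, 2, 1), (2, 0, 1), (0, 3, 2), (3, 0, 1)]
    [0, 0, 0, 0] [0, 1, 1, 1] 0 1
    (by
      intro e he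
      simp only [List.mem_cons, List.not_mem_nil, or_false] at he
      rcases he with rfl | rfl | rfl | rfl | rfl | rfl
      · simpa using a01.one_le
      · simpa using a01.symm.one_le
      · simpa using a02.one_le
      · simpa using a02.symm.one_le
      · simpa using hh
      · simpa using a03.symm.one_le)
    (by
      have hlen : ([x0, x1, x2, x3] : List (Fin n)).length = 4 := rfl
      rw [hlen]
      decide)
  exact ⟨by simpa using hN.symm, hR⟩

/-- Normal form `tripD`. -/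
def tripD : NF := fixedNF [2, 1, 1, 2] [2, 2, 2, 1]
  [(0, 1, 1), (1, 0, 1), (0, 2, 1), (2, 0, 1), (0, 3, 1), (3, 0, 2)]

theorem tripD_form (h2 : ∀ i, T.a i i = -2 * T.w i) {x0 x1 x2 x3 : Fin n}
    (hnd : ([x0, x1, x2, x3] : List (Fin n)).Nodup)
    (a01 : Adj T x0 x1) (a02 : Adj T x0 x2) (a03 : Adj T x0 x3) (hh : 2 * T.w x3 ≤ T.a x3 x0) :
    n = 4 ∧ Realizes T tripD := by
  obtain ⟨hN, hR⟩ := fixed_form h2 [x0, x1, x2, x3] x0 hnd [2, 1, 1, 2] [2, 2, 2, 1]
    [(0, 1, 1), (1, 0, 1), (0, 2, 1), (2, 0, 1), (0, 3, 1), (3, 0, 2)]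
    [3, 0, 0, 3] [1, 2, 2, 0] 3 1
    (by
      intro e he
      simp only [List.mem_cons, List.not_mem_nil, or_false] at he
      rcases he with rfl | rfl | rfl | rfl | rfl | rfl
      · simpa using a01.one_le
      · simpa using a01.symm.one_le
      · simpa using a02.one_le
      · simpa using a02.symm.one_le
      · simpa using a03.one_le
      · simpa using hh)
    (by
      have hlen : ([x0, x1, x2, x3] : List (Fin n)).length = 4 := rfl
      rw [hlen]
      decide)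
  exact ⟨by simpa using hN.symm, hR⟩

/-- Normal form `star5`. -/
def star5 : NF := fixedNF [2, 1, 1, 1, 1] [1, 1, 1, 1, 1]
  [(0, 1, 1), (1, 0, 1), (0, 2, 1), (2, 0, 1), (0, 3, 1), (3, 0, 1), (0, 4, 1), (4, 0, 1)]

theorem star5_form (h2 : ∀ i, T.a i i = -2 * T.w i) {x0 x1 x2 x3 x4 : Fin n}
    (hnd : ([x0, x1, x2, x3, x4] : List (Fin n)).Nodup)
    (a01 : Adj T x0 x1) (a02 : Adj T x0 x2) (a03 : Adj T x0 x3) (a04 : Adj T x0 x4)  :
    n = 5 ∧ Realizes T star5 := by
  obtain ⟨hN, hR⟩ := fixed_form h2 [x0, x1, x2, x3, x4] x0 hnd [2, 1, 1, 1, 1] [1, 1, 1, 1, 1]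
    [(0, 1, 1), (1, 0, 1), (0, 2, 1), (2, 0, 1), (0, 3, 1), (3, 0, 1), (0, 4, 1), (4, 0, 1)]
    [0, 0, 0, 0, 0] [0, 1, 1, 1, 1] 0 1
    (by
      intro e he
      simp only [List.mem_cons, List.not_mem_nil, or_false] at he
      rcases he with rfl | rfl | rfl | rfl | rfl | rfl | rfl | rfl
      · simpa using a01.one_le
      · simpa using a01.symm.one_le
      · simpa using a02.one_le
      · simpa using a02.symm.one_le
      · simpa using a03.one_le
      · simpa using a03.symm.one_le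
      · simpa using a04.one_le
      · simpa using a04.symm.one_le)
    (by
      have hlen : ([x0, x1, x2, x3, x4] : List (Fin n)).length = 5 := rfl
      rw [hlen]
      decide)
  exact ⟨by simpa using hN.symm, hR⟩

/-- Normal form `f4U`. -/
def f4U : NF := fixedNF [1, 2, 3, 2, 1] [1, 1, 1, 2, 2]
  [(0, 1, 1), (1, 0, 1), (1, 2, 1), (2, 1, 1), (2, 3, 2), (3, 2, 1), (3, 4, 1), (4, 3, 1)]

theorem f4U_form (h2 : ∀ i, T.a i i = -2 * T.w i) {x0 x1 x2 x3 x4 : Fin n}
    (hnd : ([x0, x1, x2, x3, x4] : List (Fin n)).Nodup)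
    (a01 : Adj T x0 x1) (a12 : Adj T x1 x2) (a23 : Adj T x2 x3) (a34 : Adj T x3 x4) (hh : 2 * T.w x2 ≤ T.a x2 x3) :
    n = 5 ∧ Realizes T f4U := by
  obtain ⟨hN, hR⟩ := fixed_form h2 [x0, x1, x2, x3, x4] x0 hnd [1, 2, 3, 2, 1] [1, 1, 1, 2, 2]
    [(0, 1, 1), (1, 0, 1), (1, 2, 1), (2, 1, 1), (2, 3, 2), (3, 2, 1), (3, 4, 1), (4, 3, 1)]
    [0, 0, 1, 2, 3] [0, 1, 2, 3, 4] 0 0
    (by
      intro e he
      simp only [List.mem_cons, List.not_mem_nil, or_false] at he
      rcases he with rfl | rfl | rfl | rfl | rfl | rfl | rfl | rfl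
      · simpa using a01.one_le
      · simpa using a01.symm.one_le
      · simpa using a12.one_le
      · simpa using a12.symm.one_le
      · simpa using hh
      · simpa using a23.symm.one_le
      · simpa using a34.one_le
      · simpa using a34.symm.one_le)
    (by
      have hlen : ([x0, x1, x2, x3, x4] : List (Fin n)).length = 5 := rfl
      rw [hlen]
      decide)
  exact ⟨by simpa using hN.symm, hR⟩

/-- Normal form `f4D`. -/
def f4D : NF := fixedNF [1, 2, 3, 4, 2] [2, 2, 2, 1, 1]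
  [(0, 1, 1), (1, 0, 1), (1, 2, 1), (2, 1, 1), (2, 3, 1), (3, 2, 2), (3, 4, 1), (4, 3, 1)]

theorem f4D_form (h2 : ∀ i, T.a i i = -2 * T.w i) {x0 x1 x2 x3 x4 : Fin n}
    (hnd : ([x0, x1, x2, x3, x4] : List (Fin n)).Nodup)
    (a01 : Adj T x0 x1) (a12 : Adj T x1 x2) (a23 : Adj T x2 x3) (a34 : Adj T x3 x4) (hh : 2 * T.w x3 ≤ T.a x3 x2) :
    n = 5 ∧ Realizes T f4D := by
  obtain ⟨hN, hR⟩ := fixed_form h2 [x0, x1, x2, x3, x4] x0 hnd [1, 2, 3, 4, 2] [2, 2, 2, 1, 1]
    [(0, 1, 1), (1, 0, 1), (1, 2, 1), (2, 1, 1), (2, 3, 1), (3, 2, 2), (3, 4, 1), (4, 3, 1)]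
    [1, 2, 3, 4, 4] [4, 3, 2, 1, 0] 4 0
    (by
      intro e he
      simp only [List.mem_cons, List.not_mem_nil, or_false] at he
      rcases he with rfl | rfl | rfl | rfl | rfl | rfl | rfl | rfl
      · simpa using a01.one_le
      · simpa using a01.symm.one_le
      · simpa using a12.one_le
      · simpa using a12.symm.one_le
      · simpa using a23.one_le
      · simpa using hh
      · simpa using a34.one_le
      · simpa using a34.symm.one_le)
    (by
      have hlen : ([x0, x1, x2, x3, x4] : List (Fin n)).length = 5 := rfl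
      rw [hlen]
      decide)
  exact ⟨by simpa using hN.symm, hR⟩

/-- Normal form `e6`. -/
def e6 : NF := fixedNF [1, 2, 3, 1, 2, 1, 2] [1, 1, 1, 1, 1, 1, 1]
  [(0, 1, 1), (1, 0, 1), (1, 2, 1), (2, 1, 1), (2, 4, 1), (4, 2, 1), (4, 3, 1), (3, 4, 1), (2, 6, 1), (6, 2, 1), (6, 5, 1), (5, 6, 1)]

theorem e6_form (h2 : ∀ i, T.a i i = -2 * T.w i) {x0 x1 x2 x3 x4 x5 x6 : Fin n}
    (hnd : ([x0, x1, x2, x3, x4, x5, x6] : List (Fin n)).Nodup)
    (a01 : Adj T x0 x1) (a12 : Adj T x1 x2) (a24 : Adj T x2 x4) (a43 : Adj T x4 x3) (a26 : Adj T x2 x6) (a65 : Adj T x6 x5)  :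
    n = 7 ∧ Realizes T e6 := by
  obtain ⟨hN, hR⟩ := fixed_form h2 [x0, x1, x2, x3, x4, x5, x6] x0 hnd [1, 2, 3, 1, 2, 1, 2] [1, 1, 1, 1, 1, 1, 1]
    [(0, 1, 1), (1, 0, 1), (1, 2, 1), (2, 1, 1), (2, 4, 1), (4, 2, 1), (4, 3, 1), (3, 4, 1), (2, 6, 1), (6, 2, 1), (6, 5, 1), (5, 6, 1)]
    [0, 0, 1, 4, 2, 6, 2] [0, 1, 2, 4, 3, 4, 3] 0 0
    (by
      intro e he
      simp only [List.mem_cons, List.not_mem_nil, or_false] at he
      rcases he with rfl | rfl | rfl | rfl | rfl | rfl | rfl | rfl | rfl | rfl | rfl | rfl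
      · simpa using a01.one_le
      · simpa using a01.symm.one_le
      · simpa using a12.one_le
      · simpa using a12.symm.one_le
      · simpa using a24.one_le
      · simpa using a24.symm.one_le
      · simpa using a43.one_le
      · simpa using a43.symm.one_le
      · simpa using a26.one_le
      · simpa using a26.symm.one_le
      · simpa using a65.one_le
      · simpa using a65.symm.one_le)
    (by
      have hlen : ([x0, x1, x2, x3, x4, x5, x6] : List (Fin n)).length = 7 := rfl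
      rw [hlen]
      decide)
  exact ⟨by simpa using hN.symm, hR⟩

/-- Normal form `e7`. -/
def e7 : NF := fixedNF [1, 2, 3, 4, 3, 2, 1, 2] [1, 1, 1, 1, 1, 1, 1, 1]
  [(0, 1, 1), (1, 0, 1), (1, 2, 1), (2, 1, 1), (2, 3, 1), (3, 2, 1), (3, 4, 1), (4, 3, 1), (4, 5, 1), (5, 4, 1), (5, 6, 1), (6, 5, 1), (3, 7, 1), (7, 3, 1)]

theorem e7_form (h2 : ∀ i, T.a i i = -2 * T.w i) {x0 x1 x2 x3 x4 x5 x6 x7 : Fin n}
    (hnd : ([x0, x1, x2, x3, x4, x5, x6, x7] : List (Fin n)).Nodup)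
    (a01 : Adj T x0 x1) (a12 : Adj T x1 x2) (a23 : Adj T x2 x3) (a34 : Adj T x3 x4) (a45 : Adj T x4 x5) (a56 : Adj T x5 x6) (a37 : Adj T x3 x7)  :
    n = 8 ∧ Realizes T e7 := by
  obtain ⟨hN, hR⟩ := fixed_form h2 [x0, x1, x2, x3, x4, x5, x6, x7] x0 hnd [1, 2, 3, 4, 3, 2, 1, 2] [1, 1, 1, 1, 1, 1, 1, 1]
    [(0, 1, 1), (1, 0, 1), (1, 2, 1), (2, 1, 1), (2, 3, 1), (3, 2, 1), (3, 4, 1), (4, 3, 1), (4, 5, 1), (5, 4, 1), (5, 6, 1), (6, 5, 1), (3, 7, 1), (7, 3, 1)]
    [0, 0, 1, 2, 3, 4, 5, 3] [0, 1, 2, 3, 4, 5, 6, 4] 0 0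
    (by
      intro e he
      simp only [List.mem_cons, List.not_mem_nil, or_false] at he
      rcases he with rfl | rfl | rfl | rfl | rfl | rfl | rfl | rfl | rfl | rfl | rfl | rfl | rfl | rfl
      · simpa using a01.one_le
      · simpa using a01.symm.one_le
      · simpa using a12.one_le
      · simpa using a12.symm.one_le
      · simpa using a23.one_le
      · simpa using a23.symm.one_le
      · simpa using a34.one_le
      · simpa using a34.symm.one_le
      · simpa using a45.one_le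
      · simpa using a45.symm.one_le
      · simpa using a56.one_le
      · simpa using a56.symm.one_le
      · simpa using a37.one_le
      · simpa using a37.symm.one_le)
    (by
      have hlen : ([x0, x1, x2, x3, x4, x5, x6, x7] : List (Fin n)).length = 8 := rfl
      rw [hlen]
      decide)
  exact ⟨by simpa using hN.symm, hR⟩

/-- Normal form `e8`. -/
def e8 : NF := fixedNF [1, 2, 3, 4, 5, 6, 4, 2, 3] [1, 1, 1, 1, 1, 1, 1, 1, 1]
  [(0, 1, 1), (1, 0, 1), (1, 2, 1), (2, 1, 1), (2, 3, 1), (3, 2, 1), (3, 4, 1), (4, 3, 1), (4, 5, 1), (5, 4, 1), (5, 6, 1), (6, 5, 1), (6, 7, 1), (7, 6, 1), (5, 8, 1), (8, 5, 1)]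

theorem e8_form (h2 : ∀ i, T.a i i = -2 * T.w i) {x0 x1 x2 x3 x4 x5 x6 x7 x8 : Fin n}
    (hnd : ([x0, x1, x2, x3, x4, x5, x6, x7, x8] : List (Fin n)).Nodup)
    (a01 : Adj T x0 x1) (a12 : Adj T x1 x2) (a23 : Adj T x2 x3) (a34 : Adj T x3 x4) (a45 : Adj T x4 x5) (a56 : Adj T x5 x6) (a67 : Adj T x6 x7) (a58 : Adj T x5 x8)  :
    n = 9 ∧ Realizes T e8 := by
  obtain ⟨hN, hR⟩ := fixed_form h2 [x0, x1, x2, x3, x4, x5, x6, x7, x8] x0 hnd [1, 2, 3, 4, 5, 6, 4, 2, 3] [1, 1, 1, 1, 1, 1, 1, 1, 1]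
    [(0, 1, 1), (1, 0, 1), (1, 2, 1), (2, 1, 1), (2, 3, 1), (3, 2, 1), (3, 4, 1), (4, 3, 1), (4, 5, 1), (5, 4, 1), (5, 6, 1), (6, 5, 1), (6, 7, 1), (7, 6, 1), (5, 8, 1), (8, 5, 1)]
    [0, 0, 1, 2, 3, 4, 5, 6, 5] [0, 1, 2, 3, 4, 5, 6, 7, 6] 0 0
    (by
      intro e he
      simp only [List.mem_cons, List.not_mem_nil, or_false] at he
      rcases he with rfl | rfl | rfl | rfl | rfl | rfl | rfl | rfl | rfl | rfl | rfl | rfl | rfl | rfl | rfl | rfl
      · simpa using a01.one_le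
      · simpa using a01.symm.one_le
      · simpa using a12.one_le
      · simpa using a12.symm.one_le
      · simpa using a23.one_le
      · simpa using a23.symm.one_le
      · simpa using a34.one_le
      · simpa using a34.symm.one_le
      · simpa using a45.one_le
      · simpa using a45.symm.one_le
      · simpa using a56.one_le
      · simpa using a56.symm.one_le
      · simpa using a67.one_le
      · simpa using a67.symm.one_le
      · simpa using a58.one_le
      · simpa using a58.symm.one_le)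
    (by
      have hlen : ([x0, x1, x2, x3, x4, x5, x6, x7, x8] : List (Fin n)).length = 9 := rfl
      rw [hlen]
      decide)
  exact ⟨by simpa using hN.symm, hR⟩

end Groth.Agent.Lib.NumTypeAff67
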