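import Mathlib
import Groth.Prelude.Def_Models
import Groth.Agent.Lib.NumTypeAff67E

/-!
# Numerical types with only `(-2)`-indices: dispatch lemmas and exclusions of finite type
-/

set_option autoImplicit false

namespace Groth.Agent.Lib.NumTypeAff67

open Finset Models

variable {n : ℕ} {T : Models.NumericalType n}

/-- Two non-simple bonds sharing a vertex force `n = 3`. -/
theorem dd1_false (h2 : ∀ i, T.a i i = -2 * T.w i) (hn : 4 ≤ n) {x f y : Fin n}
    (hnd : ([x, f, y] : List (Fin n)).Nodup) (h1 : Adj T x f) (h3 : Adj T f y)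
    (hL : 2 * T.w x ≤ T.a x f ∨ 2 * T.w f ≤ T.a f x)
    (hR : 2 * T.w y ≤ T.a y f ∨ 2 * T.w f ≤ T.a f y) : False := by
  have hinj := getD_inj [x, f, y] x hnd
  rcases hL with hL | hL <;> rcases hR with hR | hR
  · obtain ⟨hNn, -⟩ := rigidE T h2 3 (fun t => ([x, f, y] : List (Fin n)).getD t x) hinj
      (fun t => ([2, 2, 2] : List ℤ).getD t 0) (by decide) (by norm_num)
      [(0, 1, 2), (1, 0, 1), (1, 2, 1), (2, 1, 2)]
      (by
        intro e he
        simp only [List.mem_cons, List.not_mem_nil, or_false] at he
        rcases he with rfl | rfl | rfl | rfl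
        · simpa using hL
        · simpa using h1.symm.one_le
        · simpa using h3.one_le
        · simpa using hR)
      (by decide)
    omega
  · obtain ⟨hNn, -⟩ := rigidE T h2 3 (fun t => ([x, f, y] : List (Fin n)).getD t x) hinj
      (fun t => ([2, 2, 1] : List ℤ).getD t 0) (by decide) (by norm_num)
      [(0, 1, 2), (1, 0, 1), (1, 2, 2), (2, 1, 1)]
      (by
        intro e he
        simp only [List.mem_cons, List.not_mem_nil, or_false] at he
        rcases he with rfl | rfl | rfl | rfl
        · simpa using hL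
        · simpa using h1.symm.one_le
        · simpa using hR
        · simpa using h3.symm.one_le)
      (by decide)
    omega
  · obtain ⟨hNn, -⟩ := rigidE T h2 3 (fun t => ([x, f, y] : List (Fin n)).getD t x) hinj
      (fun t => ([1, 2, 2] : List ℤ).getD t 0) (by decide) (by norm_num)
      [(0, 1, 1), (1, 0, 2), (1, 2, 1), (2, 1, 2)]
      (by
        intro e he
        simp only [List.mem_cons, List.not_mem_nil, or_false] at he
        rcases he with rfl | rfl | rfl | rfl
        · simpa using h1.one_le
        · simpa using hL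
        · simpa using h3.one_le
        · simpa using hR)
      (by decide)
    omega
  · obtain ⟨hNn, -⟩ := rigidE T h2 3 (fun t => ([x, f, y] : List (Fin n)).getD t x) hinj
      (fun t => ([1, 2, 1] : List ℤ).getD t 0) (by decide) (by norm_num)
      [(0, 1, 1), (1, 0, 2), (1, 2, 2), (2, 1, 1)]
      (by
        intro e he
        simp only [List.mem_cons, List.not_mem_nil, or_false] at he
        rcases he with rfl | rfl | rfl | rfl
        · simpa using h1.one_le
        · simpa using hL
        · simpa using hR
        · simpa using h3.symm.one_le)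
      (by decide)
    omega

/-- A chain with a non-simple bond at each end. -/
theorem dd_dispatch (h2 : ∀ i, T.a i i = -2 * T.w i) (hn : 4 ≤ n) (N : ℕ) (hN : 3 ≤ N)
    (v : ℕ → Fin n) (hinj : ∀ i < N, ∀ j < N, v i = v j → i = j)
    (hadj : ∀ t, t + 1 < N → Adj T (v t) (v (t + 1)))
    (hL : 2 * T.w (v 0) ≤ T.a (v 0) (v 1) ∨ 2 * T.w (v 1) ≤ T.a (v 1) (v 0))
    (hR : 2 * T.w (v (N - 1)) ≤ T.a (v (N - 1)) (v (N - 2)) ∨
      2 * T.w (v (N - 2)) ≤ T.a (v (N - 2)) (v (N - 1))) :
    Realizes T (chUD n) ∨ Realizes T (chUU n) ∨ Realizes T (chDU n) := by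
  rcases (by omega : N = 3 ∨ 4 ≤ N) with rfl | hN4
  · exfalso
    have h01 : v 0 ≠ v 1 := fun e => by have := hinj 0 (by omega) 1 (by omega) e; omega
    have h02 : v 0 ≠ v 2 := fun e => by have := hinj 0 (by omega) 2 (by omega) e; omega
    have h12 : v 1 ≠ v 2 := fun e => by have := hinj 1 (by omega) 2 (by omega) e; omega
    exact dd1_false h2 hn (x := v 0) (f := v 1) (y := v 2) (by simp [h01, h02, h12])
      (hadj 0 (by omega)) (hadj 1 (by omega)) hL hR
  · rcases hL with hL | hL <;> rcases hR with hR | hR
    · exact Or.inl (ud_form h2 N hN4 v hinj hadj hL hR)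
    · exact Or.inr (Or.inl (uu_form h2 N hN4 v hinj hadj hL hR))
    · -- reverse the chain
      right; left
      refine uu_form h2 N hN4 (fun t => v (N - 1 - t)) ?_ ?_ ?_ ?_
      · intro i hi j hj hij
        have := hinj (N - 1 - i) (by omega) (N - 1 - j) (by omega) hij
        omega
      · intro t ht
        have := (hadj (N - 1 - (t + 1)) (by omega)).symm
        rwa [show N - 1 - (t + 1) + 1 = N - 1 - t by omega] at this
      · show 2 * T.w (v (N - 1 - 0)) ≤ T.a (v (N - 1 - 0)) (v (N - 1 - 1))
        rw [show N - 1 - 0 = N - 1 by omega, show N - 1 - 1 = N - 2 by omega]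
        exact hR
      · show 2 * T.w (v (N - 1 - (N - 2))) ≤ T.a (v (N - 1 - (N - 2))) (v (N - 1 - (N - 1)))
        rw [show N - 1 - (N - 2) = 1 by omega, show N - 1 - (N - 1) = 0 by omega]
        exact hL
    · exact Or.inr (Or.inr (du_form h2 N hN4 v hinj hadj hL hR))

/-- A chain with a non-simple bond at the left end and a fork at the right end. -/
theorem df_dispatch (h2 : ∀ i, T.a i i = -2 * T.w i) (N : ℕ) (hN : 4 ≤ N)
    (v : ℕ → Fin n) (hinj : ∀ i < N, ∀ j < N, v i = v j → i = j)
    (hadj : ∀ t, t + 2 < N → Adj T (v t) (v (t + 1)))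
    (hfork : Adj T (v (N - 3)) (v (N - 1)))
    (hL : 2 * T.w (v 0) ≤ T.a (v 0) (v 1) ∨ 2 * T.w (v 1) ≤ T.a (v 1) (v 0)) :
    Realizes T (dU n) ∨ Realizes T (dD n) ∨ (n = 4 ∧ (Realizes T tripU ∨ Realizes T tripD)) := by
  rcases (by omega : N = 4 ∨ 5 ≤ N) with rfl | hN5
  · right; right
    have hne : ∀ i < 4, ∀ j < 4, i ≠ j → v i ≠ v j := fun i hi j hj hij e => hij (hinj i hi j hj e)
    have hnd : ([v 1, v 2, v 3, v 0] : List (Fin n)).Nodup := by
      simp [hne 1 (by omega) 2 (by omega) (by omega), hne 1 (by omega) 3 (by omega) (by omega),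
        hne 1 (by omega) 0 (by omega) (by omega), hne 2 (by omega) 3 (by omega) (by omega),
        hne 2 (by omega) 0 (by omega) (by omega), hne 3 (by omega) 0 (by omega) (by omega)]
    rcases hL with hL | hL
    · -- heavy on the outer side: tripD
      obtain ⟨h4, hR⟩ := tripD_form h2 hnd (hadj 1 (by omega)) hfork (hadj 0 (by omega)).symm hL
      exact ⟨h4, Or.inr hR⟩
    · obtain ⟨h4, hR⟩ := tripU_form h2 hnd (hadj 1 (by omega)) hfork (hadj 0 (by omega)).symm hL
      exact ⟨h4, Or.inl hR⟩
  · rcases hL with hL | hL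
    · exact Or.inr (Or.inl (dD_form h2 N hN5 v hinj hadj hfork hL))
    · exact Or.inl (dU_form h2 N hN5 v hinj hadj hfork hL)

lemma surj_of_inj (N : ℕ) (hN : N = n) (v : ℕ → Fin n)
    (hinj : ∀ i < N, ∀ j < N, v i = v j → i = j) : ∀ p : Fin n, ∃ j < N, v j = p := by
  subst hN
  have hinj' : Function.Injective (fun i : Fin N => v i.val) := by
    intro i j hij
    exact Fin.ext (hinj i.val i.isLt j.val j.isLt hij)
  have hs := Finite.injective_iff_surjective.mp hinj'
  intro p
  obtain ⟨i, hi⟩ := hs p
  exact ⟨i.val, i.isLt, hi⟩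

/-- Neighbour lists of a chain with multipliers `lp s` (from `s` to `s + 1`) and `lm s`
(from `s + 1` to `s`). -/
def nbCh (lp lm : ℕ → ℤ) (k s : ℕ) : List (ℕ × ℤ) :=
  (if 0 < s then [(s - 1, lm (s - 1))] else []) ++ (if s + 1 < k then [(s + 1, lp s)] else [])

/-- Exclusion of chains of finite type. -/
theorem chain_excl (h2 : ∀ i, T.a i i = -2 * T.w i) (k : ℕ) (hk : k = n) (x : ℕ → Fin n)
    (hinj : ∀ i < k, ∀ j < k, x i = x j → i = j) (lp lm : ℕ → ℤ)
    (hp : ∀ s, s + 1 < k → T.a (x s) (x (s + 1)) = lp s * T.w (x s))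
    (hm : ∀ s, s + 1 < k → T.a (x (s + 1)) (x s) = lm s * T.w (x (s + 1)))
    (hnc : ∀ s t, s + 2 ≤ t → t < k → T.a (x s) (x t) = 0)
    (u : ℕ → ℤ)
    (hle : ∀ s < k, ((nbCh lp lm k s).map fun e => e.2 * u e.1).sum ≤ 2 * u s)
    (hlt : ∃ s < k, ((nbCh lp lm k s).map fun e => e.2 * u e.1).sum < 2 * u s) : False := by
  refine finite_excl' T h2 k x hinj (surj_of_inj k hk x hinj) u (nbCh lp lm k) ?_ ?_ ?_ hle hlt
  · intro s hs e he
    unfold nbCh at he
    rw [List.mem_append] at he
    rcases he with he | he
    · split_ifs at he with h0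
      · simp only [List.mem_cons, List.not_mem_nil, or_false] at he
        subst he
        refine ⟨by omega, by omega, ?_⟩
        have := hm (s - 1) (by omega)
        rwa [show s - 1 + 1 = s by omega] at this
      · simp at he
    · split_ifs at he with h0
      · simp only [List.mem_cons, List.not_mem_nil, or_false] at he
        subst he
        exact ⟨by omega, by omega, hp s h0⟩
      · simp at he
  · intro s hs
    unfold nbCh
    split_ifs <;> simp <;> omega
  · intro s hs q hq hqs hqn
    have h1 : ¬ (0 < s ∧ q = s - 1) := by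
      rintro ⟨h0, rfl⟩
      apply hqn
      simp [nbCh, h0]
    have h3 : ¬ (s + 1 < k ∧ q = s + 1) := by
      rintro ⟨h0, rfl⟩
      apply hqn
      simp [nbCh, h0]
    rcases lt_or_gt_of_ne hqs with hlt' | hgt
    · rw [a_symm]
      exact hnc q s (by omega) hs
    · exact hnc s q (by omega) hq

/-- Neighbour lists of a chain `0, …, k - 1` with an extra leaf `k` attached to `i`. -/
def nbT (k i s : ℕ) : List (ℕ × ℤ) :=
  if s = k then [(i, 1)]
  else (if 0 < s then [(s - 1, 1)] else []) ++ ((if s + 1 < k then [(s + 1, 1)] else []) ++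
    (if s = i then [(k, 1)] else []))

/-- Exclusion of trees of finite type (chain with one extra leaf, all bonds simple). -/
theorem T_excl (h2 : ∀ i, T.a i i = -2 * T.w i) (k i : ℕ) (hi : i < k) (hk : k + 1 = n)
    (x : ℕ → Fin n) (y : Fin n)
    (hinj : ∀ i < k, ∀ j < k, x i = x j → i = j) (hy : ∀ s < k, x s ≠ y)
    (hsimple : ∀ s, s + 1 < k → Simple T (x s) (x (s + 1)))
    (hnc : ∀ s t, s + 2 ≤ t → t < k → T.a (x s) (x t) = 0)
    (hyi : Simple T (x i) y) (hy0 : ∀ s < k, s ≠ i → T.a (x s) y = 0)
    (u : ℕ → ℤ)
    (hle : ∀ s < k + 1, ((nbT k i s).map fun e => e.2 * u e.1).sum ≤ 2 * u s)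
    (hlt : ∃ s < k + 1, ((nbT k i s).map fun e => e.2 * u e.1).sum < 2 * u s) : False := by
  set v : ℕ → Fin n := fun s => if s < k then x s else y with hv
  have hvx : ∀ s < k, v s = x s := fun s hs => by simp [hv, hs]
  have hvy : v k = y := by simp [hv]
  have hinjv : ∀ a < k + 1, ∀ b < k + 1, v a = v b → a = b := by
    intro a ha b hb hab
    by_cases hak : a < k <;> by_cases hbk : b < k
    · rw [hvx a hak, hvx b hbk] at hab
      exact hinj a hak b hbk hab
    · have : b = k := by omega
      subst this
      rw [hvx a hak, hvy] at hab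
      exact absurd hab (hy a hak)
    · have : a = k := by omega
      subst this
      rw [hvx b hbk, hvy] at hab
      exact absurd hab.symm (hy b hbk)
    · omega
  refine finite_excl' T h2 (k + 1) v hinjv (surj_of_inj (k + 1) hk v hinjv) u (nbT k i) ?_ ?_ ?_
    hle hlt
  · intro s hs e he
    unfold nbT at he
    by_cases hsk : s = k
    · rw [if_pos hsk] at he
      simp only [List.mem_cons, List.not_mem_nil, or_false] at he
      subst he
      subst hsk
      refine ⟨by omega, by omega, ?_⟩
      rw [hvy, hvx i hi, one_mul, a_symm]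
      exact hyi.2
    · rw [if_neg hsk] at he
      have hs' : s < k := by omega
      rw [List.mem_append, List.mem_append] at he
      rcases he with he | he | he
      · split_ifs at he with h0
        · simp only [List.mem_cons, List.not_mem_nil, or_false] at he
          subst he
          refine ⟨by omega, by omega, ?_⟩
          rw [hvx s hs', hvx (s - 1) (by omega), one_mul, a_symm]
          have := (hsimple (s - 1) (by omega)).2
          rwa [show s - 1 + 1 = s by omega] at this
        · simp at he
      · split_ifs at he with h0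
        · simp only [List.mem_cons, List.not_mem_nil, or_false] at he
          subst he
          refine ⟨by omega, by omega, ?_⟩
          rw [hvx s hs', hvx (s + 1) h0, one_mul]
          exact (hsimple s h0).1
        · simp at he
      · split_ifs at he with h0
        · simp only [List.mem_cons, List.not_mem_nil, or_false] at he
          subst he
          subst h0
          refine ⟨by omega, by omega, ?_⟩
          rw [hvx s hs', hvy, one_mul]
          exact hyi.1
        · simp at he
  · intro s hs
    unfold nbT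
    split_ifs <;> simp <;> omega
  · intro s hs q hq hqs hqn
    by_cases hsk : s = k
    · subst hsk
      have hq' : q < s := by omega
      have hqi : q ≠ i := by
        rintro rfl
        apply hqn
        simp [nbT]
      rw [hvy, hvx q hq', a_symm]
      exact hy0 q hq' hqi
    · have hs' : s < k := by omega
      by_cases hqk : q = k
      · subst hqk
        have hsi : s ≠ i := by
          rintro rfl
          apply hqn
          simp [nbT, hsk]
        rw [hvx s hs', hvy]
        exact hy0 s hs' hsi
      · have hq' : q < k := by omega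
        have h1 : ¬ (0 < s ∧ q = s - 1) := by
          rintro ⟨h0, rfl⟩
          apply hqn
          simp [nbT, hsk, h0]
        have h3 : ¬ (s + 1 < k ∧ q = s + 1) := by
          rintro ⟨h0, rfl⟩
          apply hqn
          simp [nbT, hsk, h0]
        rw [hvx s hs', hvx q hq']
        rcases lt_or_gt_of_ne hqs with hlt' | hgt
        · rw [a_symm]
          exact hnc q s (by omega) hs'
        · exact hnc s q (by omega) hq'

end Groth.Agent.Lib.NumTypeAff67
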