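import Mathlib
import Groth.Prelude.Def_Models
import Groth.Agent.Lib.NumTypeAff67F

/-!
# Numerical types with only `(-2)`-indices: paths in the dual graph, the chain case
-/

set_option autoImplicit false

namespace Groth.Agent.Lib.NumTypeAff67

open Finset Models

variable {n : ℕ} {T : Models.NumericalType n}

/-- The classification statement. -/
def Classified (T : Models.NumericalType n) : Prop :=
  Realizes T (cyc n) ∨ Realizes T (chUD n) ∨ Realizes T (chUU n) ∨ Realizes T (chDU n) ∨
  (5 ≤ n ∧ (Realizes T (dU n) ∨ Realizes T (dD n))) ∨ (6 ≤ n ∧ Realizes T (dF n)) ∨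
  (n = 4 ∧ (Realizes T tripU ∨ Realizes T tripD)) ∨
  (n = 5 ∧ (Realizes T star5 ∨ Realizes T f4U ∨ Realizes T f4D)) ∨
  (n = 7 ∧ Realizes T e6) ∨ (n = 8 ∧ Realizes T e7) ∨ (n = 9 ∧ Realizes T e8)

/-- A path in the dual graph: `x 0, …, x (k - 1)` distinct, consecutive ones adjacent. -/
def IsPath (T : Models.NumericalType n) (x : ℕ → Fin n) (k : ℕ) : Prop :=
  (∀ i < k, ∀ j < k, x i = x j → i = j) ∧ ∀ i, i + 1 < k → Adj T (x i) (x (i + 1))

lemma IsPath.le_card {x : ℕ → Fin n} {k : ℕ} (h : IsPath T x k) : k ≤ n := by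
  have hinj : Function.Injective (fun i : Fin k => x i.val) := by
    intro i j hij
    exact Fin.ext (h.1 i.val i.isLt j.val j.isLt hij)
  simpa using Fintype.card_le_of_injective _ hinj

lemma IsPath.rev {x : ℕ → Fin n} {k : ℕ} (h : IsPath T x k) :
    IsPath T (fun i => x (k - 1 - i)) k := by
  refine ⟨?_, ?_⟩
  · intro i hi j hj hij
    have := h.1 (k - 1 - i) (by omega) (k - 1 - j) (by omega) hij
    omega
  · intro i hi
    have := (h.2 (k - 1 - (i + 1)) (by omega)).symm
    rwa [show k - 1 - (i + 1) + 1 = k - 1 - i by omega] at this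

lemma IsPath.cons {x : ℕ → Fin n} {k : ℕ} (h : IsPath T x k) (hk : 0 < k) {z : Fin n}
    (hz : Adj T z (x 0)) (hnot : ∀ i < k, x i ≠ z) :
    IsPath T (fun i => if i = 0 then z else x (i - 1)) (k + 1) := by
  refine ⟨?_, ?_⟩
  · intro i hi j hj hij
    by_cases hi0 : i = 0 <;> by_cases hj0 : j = 0
    · omega
    · simp only [hi0, hj0, if_true, if_false] at hij
      exact absurd hij.symm (hnot (j - 1) (by omega))
    · simp only [hi0, hj0, if_true, if_false] at hij
      exact absurd hij (hnot (i - 1) (by omega))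
    · simp only [hi0, hj0, if_false] at hij
      have := h.1 (i - 1) (by omega) (j - 1) (by omega) hij
      omega
  · intro i hi
    by_cases hi0 : i = 0
    · subst hi0
      simpa using hz
    · have h1 : ¬ (i + 1 = 0) := by omega
      simp only [hi0, h1, if_false]
      have := h.2 (i - 1) (by omega)
      rwa [show i - 1 + 1 = i by omega] at this

lemma IsPath.drop {x : ℕ → Fin n} {k : ℕ} (h : IsPath T x k) (i : ℕ) :
    IsPath T (fun j => x (i + j)) (k - i) := by
  refine ⟨?_, ?_⟩
  · intro a ha b hb hab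
    have := h.1 (i + a) (by omega) (i + b) (by omega) hab
    omega
  · intro a ha
    exact h.2 (i + a) (by omega)

/-- A longest path. -/
def IsLongest (T : Models.NumericalType n) (x : ℕ → Fin n) (k : ℕ) : Prop :=
  IsPath T x k ∧ ∀ (x' : ℕ → Fin n) (k' : ℕ), IsPath T x' k' → k' ≤ k

lemma IsLongest.rev {x : ℕ → Fin n} {k : ℕ} (h : IsLongest T x k) :
    IsLongest T (fun i => x (k - 1 - i)) k := ⟨h.1.rev, h.2⟩

lemma exists_longest (T : Models.NumericalType n) : ∃ x k, IsLongest T x k ∧ 0 < k := by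
  classical
  let P : ℕ → Prop := fun k => ∃ x, IsPath T x k
  have hP1 : P 1 := by
    refine ⟨fun _ => ⟨0, T.pos⟩, ?_, ?_⟩
    · intro i hi j hj _
      omega
    · intro i hi
      omega
  have hn : 1 ≤ n := T.pos
  have hspec : P (Nat.findGreatest P n) := Nat.findGreatest_spec hn hP1
  obtain ⟨x, hx⟩ := hspec
  refine ⟨x, Nat.findGreatest P n, ⟨hx, ?_⟩, ?_⟩
  · intro x' k' hx'
    exact Nat.le_findGreatest hx'.le_card ⟨x', hx'⟩
  · exact lt_of_lt_of_le Nat.one_pos (Nat.le_findGreatest hn hP1)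

/-- A chord of a path gives a cycle. -/
theorem chord_cycle (h2 : ∀ i, T.a i i = -2 * T.w i) {x : ℕ → Fin n} {k : ℕ}
    (h : IsPath T x k) {s t : ℕ} (hst : s + 2 ≤ t) (ht : t < k) (hadj : Adj T (x s) (x t)) :
    Realizes T (cyc n) := by
  refine cyc_form h2 (t - s + 1) (by omega) (fun u => x (s + u)) ?_ ?_ ?_
  · intro a ha b hb hab
    have := h.1 (s + a) (by omega) (s + b) (by omega) hab
    omega
  · intro u hu
    exact h.2 (s + u) (by omega)
  · show Adj T (x (s + (t - s + 1 - 1))) (x (s + 0))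
    rw [show s + (t - s + 1 - 1) = t by omega, show s + 0 = s by omega]
    exact hadj.symm

/-- No chords, as vanishing of intersection numbers. -/
def NoChord (T : Models.NumericalType n) (x : ℕ → Fin n) (k : ℕ) : Prop :=
  ∀ s t, s + 2 ≤ t → t < k → T.a (x s) (x t) = 0

lemma NoChord.rev {x : ℕ → Fin n} {k : ℕ} (h : NoChord T x k) :
    NoChord T (fun i => x (k - 1 - i)) k := by
  intro s t hst ht
  show T.a (x (k - 1 - s)) (x (k - 1 - t)) = 0
  rw [a_symm]
  exact h (k - 1 - t) (k - 1 - s) (by omega) (by omega)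

/-- Either some chord exists (and `T` is a cycle) or there are no chords. -/
theorem chord_or (h2 : ∀ i, T.a i i = -2 * T.w i) {x : ℕ → Fin n} {k : ℕ}
    (h : IsPath T x k) : Realizes T (cyc n) ∨ NoChord T x k := by
  by_cases hc : ∃ s t, s + 2 ≤ t ∧ t < k ∧ Adj T (x s) (x t)
  · obtain ⟨s, t, hst, ht, hadj⟩ := hc
    exact Or.inl (chord_cycle h2 h hst ht hadj)
  · right
    intro s t hst ht
    by_contra h0
    apply hc
    refine ⟨s, t, hst, ht, ?_, h0⟩
    intro e
    have := h.1 s (by omega) t ht e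
    omega

/-- The first vertex of a longest path without chords is a leaf of the dual graph. -/
theorem end_leaf {x : ℕ → Fin n} {k : ℕ} (h : IsLongest T x k) (hk : 0 < k)
    (hnc : NoChord T x k) {z : Fin n} (hz : Adj T z (x 0)) : 1 < k ∧ z = x 1 := by
  by_cases hmem : ∃ j < k, x j = z
  · obtain ⟨j, hj, rfl⟩ := hmem
    rcases (by omega : j = 0 ∨ j = 1 ∨ 2 ≤ j) with rfl | rfl | h2j
    · exact absurd rfl hz.1
    · exact ⟨hj, rfl⟩
    · exfalso
      have := hnc 0 j (by omega) hj
      exact hz.symm.2 this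
  · exfalso
    push Not at hmem
    have := h.2 _ _ (h.1.cons hk hz hmem)
    omega

lemma Simple.symm {p q : Fin n} (h : Simple T p q) : Simple T q p := by
  unfold Simple at h ⊢
  rw [a_symm T q p]
  exact ⟨h.2, h.1⟩

/-- Exclusion of chains of type `B`/`C`: one non-simple bond at the left end. -/
theorem bc_excl (h2 : ∀ i, T.a i i = -2 * T.w i) (k : ℕ) (hk : k = n) (hk3 : 3 ≤ k)
    (x : ℕ → Fin n) (hinj : ∀ i < k, ∀ j < k, x i = x j → i = j) (hnc : NoChord T x k)
    (α β : ℤ) (hab : α * β = 2)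
    (h0p : T.a (x 0) (x 1) = α * T.w (x 0)) (h0m : T.a (x 1) (x 0) = β * T.w (x 1))
    (hsimple : ∀ t, t + 1 < k → t ≠ 0 → Simple T (x t) (x (t + 1))) : False := by
  refine chain_excl h2 k hk x hinj (fun t => if t = 0 then α else 1)
    (fun t => if t = 0 then β else 1) ?_ ?_ hnc (fun t => if t = 0 then α else 2) ?_ ?_
  · intro t ht
    by_cases h0 : t = 0
    · subst h0; simpa using h0p
    · simp only [h0, if_false, one_mul]
      exact (hsimple t ht h0).1
  · intro t ht
    by_cases h0 : t = 0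
    · subst h0; simpa using h0m
    · simp only [h0, if_false, one_mul]
      exact (hsimple t ht h0).symm.1
  · intro t ht
    by_cases h0 : t = 0
    · subst h0
      have h1 : 0 + 1 < k := by omega
      simp [nbCh, h1]
      linarith
    · by_cases h1 : t + 1 < k
      · by_cases h3 : t = 1
        · subst h3
          simp [nbCh, h1]
          linarith
        · have h4 : ¬ (t - 1 = 0) := by omega
          have h5 : 0 < t := by omega
          simp [nbCh, h0, h1, h4, h5]
      · have h4 : ¬ (t - 1 = 0) := by omega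
        have h5 : 0 < t := by omega
        simp [nbCh, h0, h1, h4, h5]
  · refine ⟨k - 1, by omega, ?_⟩
    have h0 : ¬ (k - 1 = 0) := by omega
    have h1 : ¬ (k - 1 + 1 < k) := by omega
    have h4 : ¬ (k - 1 - 1 = 0) := by omega
    have h5 : 0 < k - 1 := by omega
    simp [nbCh, h0, h1, h4, h5]

/-- Exclusion of the chain of type `A`. -/
theorem an_excl (h2 : ∀ i, T.a i i = -2 * T.w i) (k : ℕ) (hk : k = n) (hk2 : 2 ≤ k)
    (x : ℕ → Fin n) (hinj : ∀ i < k, ∀ j < k, x i = x j → i = j) (hnc : NoChord T x k)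
    (hsimple : ∀ t, t + 1 < k → Simple T (x t) (x (t + 1))) : False := by
  refine chain_excl h2 k hk x hinj (fun _ => 1) (fun _ => 1) ?_ ?_ hnc (fun _ => 1) ?_ ?_
  · intro t ht
    simpa using (hsimple t ht).1
  · intro t ht
    simpa using (hsimple t ht).symm.1
  · intro t ht
    unfold nbCh
    split_ifs <;> simp
  · refine ⟨0, by omega, ?_⟩
    have h1 : 0 + 1 < k := by omega
    simp [nbCh, h1]

/-- Exclusion of the chain of type `F₄`. -/
theorem f4_excl (h2 : ∀ i, T.a i i = -2 * T.w i) (hn : n = 4)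
    (x : ℕ → Fin n) (hinj : ∀ i < 4, ∀ j < 4, x i = x j → i = j) (hnc : NoChord T x 4)
    (hor : (T.a (x 1) (x 2) = 2 * T.w (x 1) ∧ T.a (x 1) (x 2) = T.w (x 2)) ∨
      (T.a (x 1) (x 2) = T.w (x 1) ∧ T.a (x 1) (x 2) = 2 * T.w (x 2)))
    (hsimple : ∀ t, t + 1 < 4 → t ≠ 1 → Simple T (x t) (x (t + 1))) : False := by
  rcases hor with ⟨ha, hb⟩ | ⟨ha, hb⟩
  · refine chain_excl h2 4 hn.symm x hinj (fun t => if t = 1 then 2 else 1) (fun _ => 1) ?_ ?_ hnc
      (fun t => ([2, 3, 2, 1] : List ℤ).getD t 0) ?_ ?_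
    · intro t ht
      by_cases h1 : t = 1
      · subst h1; simpa using ha
      · simp only [h1, if_false, one_mul]
        exact (hsimple t ht h1).1
    · intro t ht
      by_cases h1 : t = 1
      · subst h1
        rw [a_symm, one_mul]
        exact hb
      · rw [one_mul]
        exact (hsimple t ht h1).symm.1
    · intro t ht
      interval_cases t <;> simp [nbCh]
    · exact ⟨0, by omega, by simp [nbCh]⟩
  · refine chain_excl h2 4 hn.symm x hinj (fun _ => 1) (fun t => if t = 1 then 2 else 1) ?_ ?_ hnc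
      (fun t => ([1, 2, 3, 2] : List ℤ).getD t 0) ?_ ?_
    · intro t ht
      by_cases h1 : t = 1
      · subst h1
        rw [one_mul]
        exact ha
      · rw [one_mul]
        exact (hsimple t ht h1).1
    · intro t ht
      by_cases h1 : t = 1
      · subst h1
        rw [a_symm]
        simpa using hb
      · simp only [h1, if_false, one_mul]
        exact (hsimple t ht h1).symm.1
    · intro t ht
      interval_cases t <;> simp [nbCh]
    · exact ⟨3, by omega, by simp [nbCh]⟩

lemma nodup_map_path {x : ℕ → Fin n} {k : ℕ} (h : IsPath T x k) (l : List ℕ) (hl : l.Nodup)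
    (hlk : ∀ a ∈ l, a < k) : (l.map x).Nodup :=
  List.Nodup.map_on (fun a ha b hb hab => h.1 a (hlk a ha) b (hlk b hb) hab) hl

/-- A chain covering all indices with exactly one non-simple bond, in the left half. -/
theorem one_double (h2 : ∀ i, T.a i i = -2 * T.w i) (hn : 4 ≤ n) {x : ℕ → Fin n} {k : ℕ}
    (h : IsPath T x k) (hk : k = n) (hnc : NoChord T x k)
    (s : ℕ) (hs : s + 1 < k) (hhalf : s ≤ k - 2 - s)
    (hor : (T.a (x s) (x (s + 1)) = 2 * T.w (x s) ∧ T.a (x s) (x (s + 1)) = T.w (x (s + 1))) ∨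
      (T.a (x s) (x (s + 1)) = T.w (x s) ∧ T.a (x s) (x (s + 1)) = 2 * T.w (x (s + 1))))
    (hsimple : ∀ t, t + 1 < k → t ≠ s → Simple T (x t) (x (t + 1))) : Classified T := by
  have hsym := a_symm T (x s) (x (s + 1))
  rcases (by omega : s = 0 ∨ s = 1 ∨ 2 ≤ s) with rfl | rfl | hs2
  · exfalso
    rcases hor with ⟨ha, hb⟩ | ⟨ha, hb⟩
    · exact bc_excl h2 k hk (by omega) x h.1 hnc 2 1 (by norm_num) ha
        (by rw [← hsym, hb, one_mul]) hsimple
    · exact bc_excl h2 k hk (by omega) x h.1 hnc 1 2 (by norm_num) (by rw [ha, one_mul])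
        (by rw [← hsym, hb]) hsimple
  · rcases (by omega : k = 4 ∨ 5 ≤ k) with rfl | hk5
    · exfalso
      exact f4_excl h2 hk.symm x h.1 hnc hor hsimple
    · -- reversed `F̃₄`-pattern on `x 4, x 3, x 2, x 1, x 0`
      have hnd : ([x 4, x 3, x 2, x 1, x 0] : List (Fin n)).Nodup := by
        simpa using nodup_map_path h [4, 3, 2, 1, 0] (by simp) (by simp; omega)
      have a43 : Adj T (x 4) (x 3) := (h.2 3 (by omega)).symm
      have a32 : Adj T (x 3) (x 2) := (h.2 2 (by omega)).symm
      have a21 : Adj T (x 2) (x 1) := (h.2 1 (by omega)).symm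
      have a10 : Adj T (x 1) (x 0) := (h.2 0 (by omega)).symm
      right; right; right; right; right; right; right; left
      rcases hor with ⟨ha, hb⟩ | ⟨ha, hb⟩
      · obtain ⟨h5, hR⟩ := f4D_form h2 hnd a43 a32 a21 a10 (by rw [ha])
        exact ⟨h5, Or.inr (Or.inr hR)⟩
      · obtain ⟨h5, hR⟩ := f4U_form h2 hnd a43 a32 a21 a10 (by rw [← hsym, hb])
        exact ⟨h5, Or.inr (Or.inl hR)⟩
  · have hnd : ([x (s - 2), x (s - 1), x s, x (s + 1), x (s + 2)] : List (Fin n)).Nodup := by
      simpa using nodup_map_path h [s - 2, s - 1, s, s + 1, s + 2] (by simp; omega)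
        (by simp; omega)
    have a01 : Adj T (x (s - 2)) (x (s - 1)) := by
      have := h.2 (s - 2) (by omega)
      rwa [show s - 2 + 1 = s - 1 by omega] at this
    have a12 : Adj T (x (s - 1)) (x s) := by
      have := h.2 (s - 1) (by omega)
      rwa [show s - 1 + 1 = s by omega] at this
    have a23 : Adj T (x s) (x (s + 1)) := h.2 s hs
    have a34 : Adj T (x (s + 1)) (x (s + 2)) := h.2 (s + 1) (by omega)
    right; right; right; right; right; right; right; left
    rcases hor with ⟨ha, hb⟩ | ⟨ha, hb⟩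
    · obtain ⟨h5, hR⟩ := f4U_form h2 hnd a01 a12 a23 a34 (by rw [ha])
      exact ⟨h5, Or.inr (Or.inl hR)⟩
    · obtain ⟨h5, hR⟩ := f4D_form h2 hnd a01 a12 a23 a34 (by rw [← hsym, hb])
      exact ⟨h5, Or.inr (Or.inr hR)⟩

/-- The case where a chordless path covers all indices. -/
theorem chain_case (h2 : ∀ i, T.a i i = -2 * T.w i) (hn : 4 ≤ n) {x : ℕ → Fin n} {k : ℕ}
    (h : IsPath T x k) (hk : k = n) (hnc : NoChord T x k) : Classified T := by
  by_cases h2d : ∃ s t, s < t ∧ t + 1 < k ∧ ¬ Simple T (x s) (x (s + 1)) ∧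
      ¬ Simple T (x t) (x (t + 1))
  · obtain ⟨s, t, hst, ht, hns, hnt⟩ := h2d
    have hL := not_simple_heavy (h.2 s (by omega)) hns
    have hR := not_simple_heavy (h.2 t ht) hnt
    have key := dd_dispatch h2 hn (t - s + 2) (by omega) (fun u => x (s + u))
      (by
        intro a ha b hb hab
        have := h.1 (s + a) (by omega) (s + b) (by omega) hab
        omega)
      (fun u hu => h.2 (s + u) (by omega))
      (by simpa using hL)
      (by
        show 2 * T.w (x (s + (t - s + 2 - 1))) ≤ T.a (x (s + (t - s + 2 - 1)))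
            (x (s + (t - s + 2 - 2))) ∨
          2 * T.w (x (s + (t - s + 2 - 2))) ≤ T.a (x (s + (t - s + 2 - 2)))
            (x (s + (t - s + 2 - 1)))
        rw [show s + (t - s + 2 - 1) = t + 1 by omega, show s + (t - s + 2 - 2) = t by omega]
        exact hR.symm)
    rcases key with h1 | h1 | h1
    · exact Or.inr (Or.inl h1)
    · exact Or.inr (Or.inr (Or.inl h1))
    · exact Or.inr (Or.inr (Or.inr (Or.inl h1)))
  · by_cases h1d : ∃ s, s + 1 < k ∧ ¬ Simple T (x s) (x (s + 1))
    · obtain ⟨s, hs, hns⟩ := h1d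
      have hsimple : ∀ t, t + 1 < k → t ≠ s → Simple T (x t) (x (t + 1)) := by
        intro t ht hts
        by_contra hnt
        apply h2d
        rcases lt_or_gt_of_ne hts with hlt | hgt
        · exact ⟨t, s, hlt, hs, hnt, hns⟩
        · exact ⟨s, t, hgt, ht, hns, hnt⟩
      have hor := bond_cases h2 hn (h.2 s hs)
      rcases hor with hsim | hor
      · exact absurd hsim hns
      rcases le_total s (k - 2 - s) with hhalf | hhalf
      · exact one_double h2 hn h hk hnc s hs hhalf hor hsimple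
      · -- reverse the path
        have hsym := a_symm T (x s) (x (s + 1))
        refine one_double h2 hn h.rev hk hnc.rev (k - 2 - s) (by omega) (by omega) ?_ ?_
        · show (T.a (x (k - 1 - (k - 2 - s))) (x (k - 1 - (k - 2 - s + 1))) =
              2 * T.w (x (k - 1 - (k - 2 - s))) ∧
              T.a (x (k - 1 - (k - 2 - s))) (x (k - 1 - (k - 2 - s + 1))) =
                T.w (x (k - 1 - (k - 2 - s + 1)))) ∨
            (T.a (x (k - 1 - (k - 2 - s))) (x (k - 1 - (k - 2 - s + 1))) =
              T.w (x (k - 1 - (k - 2 - s))) ∧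
              T.a (x (k - 1 - (k - 2 - s))) (x (k - 1 - (k - 2 - s + 1))) =
                2 * T.w (x (k - 1 - (k - 2 - s + 1))))
          rw [show k - 1 - (k - 2 - s) = s + 1 by omega, show k - 1 - (k - 2 - s + 1) = s by omega,
            ← hsym]
          rcases hor with ⟨ha, hb⟩ | ⟨ha, hb⟩
          · exact Or.inr ⟨hb, ha⟩
          · exact Or.inl ⟨hb, ha⟩
        · intro t ht hts
          show Simple T (x (k - 1 - t)) (x (k - 1 - (t + 1)))
          have := (hsimple (k - 1 - (t + 1)) (by omega) (by omega)).symm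
          rwa [show k - 1 - (t + 1) + 1 = k - 1 - t by omega] at this
    · exfalso
      apply an_excl h2 k hk (by omega) x h.1 hnc
      intro t ht
      by_contra hnt
      exact h1d ⟨t, ht, hnt⟩

end Groth.Agent.Lib.NumTypeAff67
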