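import Mathlib
import Groth.Prelude.Def_Models
import Groth.Agent.Lib.NumTypeAff67G

/-!
# Numerical types with only `(-2)`-indices: the branch case and the classification
-/

set_option autoImplicit false

namespace Groth.Agent.Lib.NumTypeAff67

open Finset Models

variable {n : ℕ} {T : Models.NumericalType n}

lemma le_of_inj (N : ℕ) (v : ℕ → Fin n) (hinj : ∀ i < N, ∀ j < N, v i = v j → i = j) :
    N ≤ n := by
  have hinj' : Function.Injective (fun i : Fin N => v i.val) := by
    intro i j hij
    exact Fin.ext (hinj i.val i.isLt j.val j.isLt hij)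
  simpa using Fintype.card_le_of_injective _ hinj'

/-- A chain with a non-simple bond at the left end and a fork at the right end is classified. -/
theorem df_classified (h2 : ∀ i, T.a i i = -2 * T.w i) (N : ℕ) (hN : 4 ≤ N)
    (v : ℕ → Fin n) (hinj : ∀ i < N, ∀ j < N, v i = v j → i = j)
    (hadj : ∀ t, t + 2 < N → Adj T (v t) (v (t + 1)))
    (hfork : Adj T (v (N - 3)) (v (N - 1)))
    (hL : 2 * T.w (v 0) ≤ T.a (v 0) (v 1) ∨ 2 * T.w (v 1) ≤ T.a (v 1) (v 0)) :
    Classified T := by
  have hNn := le_of_inj N v hinj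
  rcases (by omega : N = 4 ∨ 5 ≤ N) with rfl | hN5
  · have hne : ∀ i < 4, ∀ j < 4, i ≠ j → v i ≠ v j := fun i hi j hj hij e => hij (hinj i hi j hj e)
    have hnd : ([v 1, v 2, v 3, v 0] : List (Fin n)).Nodup := by
      simp [hne 1 (by omega) 2 (by omega) (by omega), hne 1 (by omega) 3 (by omega) (by omega),
        hne 1 (by omega) 0 (by omega) (by omega), hne 2 (by omega) 3 (by omega) (by omega),
        hne 2 (by omega) 0 (by omega) (by omega), hne 3 (by omega) 0 (by omega) (by omega)]
    right; right; right; right; right; right; left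
    rcases hL with hL | hL
    · obtain ⟨h4, hR⟩ := tripD_form h2 hnd (hadj 1 (by omega)) hfork (hadj 0 (by omega)).symm hL
      exact ⟨h4, Or.inr hR⟩
    · obtain ⟨h4, hR⟩ := tripU_form h2 hnd (hadj 1 (by omega)) hfork (hadj 0 (by omega)).symm hL
      exact ⟨h4, Or.inl hR⟩
  · right; right; right; right; left
    rcases df_dispatch h2 N hN v hinj hadj hfork hL with h | h | ⟨h4, -⟩
    · exact ⟨by omega, Or.inl h⟩
    · exact ⟨by omega, Or.inr h⟩
    · omega

/-- An off-path vertex adjacent to two path vertices gives a cycle. -/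
theorem two_adj_cycle (h2 : ∀ i, T.a i i = -2 * T.w i) {x : ℕ → Fin n} {k : ℕ}
    (h : IsPath T x k) {y : Fin n} (hy : ∀ s < k, x s ≠ y) {i j : ℕ} (hij : i < j) (hj : j < k)
    (hai : Adj T y (x i)) (haj : Adj T y (x j)) : Realizes T (cyc n) := by
  have hp := (h.drop i).cons (by omega) (z := y) (by simpa using hai)
    (by intro t ht; exact hy (i + t) (by omega))
  refine cyc_form h2 (j - i + 2) (by omega)
    (fun t => if t = 0 then y else x (i + (t - 1))) ?_ ?_ ?_
  · intro a ha b hb hab
    exact hp.1 a (by omega) b (by omega) hab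
  · intro t ht
    exact hp.2 t (by omega)
  · have h1 : ¬ (j - i + 2 - 1 = 0) := by omega
    simp only [h1, if_false, if_true]
    rw [show i + (j - i + 2 - 1 - 1) = j by omega]
    exact haj.symm

/-- A non-simple bond on a path carrying a branch. -/
theorem heavy_path_bond (h2 : ∀ i, T.a i i = -2 * T.w i) {x : ℕ → Fin n} {k : ℕ}
    (h : IsPath T x k) {y : Fin n} (hy : ∀ s < k, x s ≠ y) {i : ℕ} (hi0 : 0 < i) (hik : i + 1 < k)
    (hadj : Adj T (x i) y) {s : ℕ} (hs : s + 1 < k) (hns : ¬ Simple T (x s) (x (s + 1))) :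
    Classified T := by
  have hheavy := not_simple_heavy (h.2 s hs) hns
  rcases Nat.lt_or_ge s i with hsi | hsi
  · obtain ⟨N, hN⟩ : ∃ N, N = i - s + 3 := ⟨_, rfl⟩
    refine df_classified h2 N (by omega) (fun t => if t + 1 = N then y else x (s + t)) ?_ ?_ ?_ ?_
    · intro a ha b hb hab
      by_cases ha' : a + 1 = N <;> by_cases hb' : b + 1 = N
      · omega
      · simp only [ha', hb', if_true, if_false] at hab
        exact absurd hab.symm (hy _ (by omega))
      · simp only [ha', hb', if_true, if_false] at hab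
        exact absurd hab (hy _ (by omega))
      · simp only [ha', hb', if_false] at hab
        have := h.1 _ (by omega) _ (by omega) hab
        omega
    · intro t ht
      have h1 : ¬ (t + 1 = N) := by omega
      have h2' : ¬ (t + 1 + 1 = N) := by omega
      simp only [h1, h2', if_false]
      exact h.2 (s + t) (by omega)
    · have h1 : ¬ (N - 3 + 1 = N) := by omega
      have h2' : (N - 1 + 1 = N) := by omega
      simp only [h1, h2', if_false, if_true]
      rw [show s + (N - 3) = i by omega]
      exact hadj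
    · have h1 : ¬ (0 + 1 = N) := by omega
      have h2' : ¬ (1 + 1 = N) := by omega
      simp only [h1, h2', if_false]
      simpa using hheavy
  · obtain ⟨N, hN⟩ : ∃ N, N = s - i + 4 := ⟨_, rfl⟩
    refine df_classified h2 N (by omega) (fun t => if t + 1 = N then y else x (s + 1 - t))
      ?_ ?_ ?_ ?_
    · intro a ha b hb hab
      by_cases ha' : a + 1 = N <;> by_cases hb' : b + 1 = N
      · omega
      · simp only [ha', hb', if_true, if_false] at hab
        exact absurd hab.symm (hy _ (by omega))
      · simp only [ha', hb', if_true, if_false] at hab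
        exact absurd hab (hy _ (by omega))
      · simp only [ha', hb', if_false] at hab
        have := h.1 _ (by omega) _ (by omega) hab
        omega
    · intro t ht
      have h1 : ¬ (t + 1 = N) := by omega
      have h2' : ¬ (t + 1 + 1 = N) := by omega
      simp only [h1, h2', if_false]
      have e1 : s + 1 - t = (s - t) + 1 := by omega
      have e2 : s + 1 - (t + 1) = s - t := by omega
      rw [e1, e2]
      exact (h.2 (s - t) (by omega)).symm
    · have h1 : ¬ (N - 3 + 1 = N) := by omega
      have h2' : (N - 1 + 1 = N) := by omega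
      simp only [h1, h2', if_false, if_true]
      rw [show s + 1 - (N - 3) = i by omega]
      exact hadj
    · have h1 : ¬ (0 + 1 = N) := by omega
      have h2' : ¬ (1 + 1 = N) := by omega
      simp only [h1, h2', if_false]
      rw [show s + 1 - 0 = s + 1 by omega, show s + 1 - 1 = s by omega]
      exact hheavy.symm

lemma nodup_append_off {x : ℕ → Fin n} {k : ℕ} (h : IsPath T x k) (l : List ℕ) (hl : l.Nodup)
    (hlk : ∀ a ∈ l, a < k) (ys : List (Fin n)) (hys : ys.Nodup)
    (hoff : ∀ y ∈ ys, ∀ s < k, x s ≠ y) : (l.map x ++ ys).Nodup := by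
  refine List.Nodup.append (nodup_map_path h l hl hlk) hys ?_
  intro a ha hb
  obtain ⟨s, hs, rfl⟩ := List.mem_map.mp ha
  exact hoff _ hb s (hlk s hs) rfl

/-- A non-simple bond towards a branch vertex. -/
theorem heavy_leaf_bond (h2 : ∀ i, T.a i i = -2 * T.w i) {x : ℕ → Fin n} {k : ℕ}
    (h : IsPath T x k) {y : Fin n} (hy : ∀ s < k, x s ≠ y) {i : ℕ} (hi0 : 0 < i) (hik : i + 1 < k)
    (hadj : Adj T (x i) y) (hns : ¬ Simple T (x i) y) : Classified T := by
  have hheavy := not_simple_heavy hadj hns
  have hnd0 := nodup_append_off h [i, i + 1, i - 1] (by simp; omega) (by simp; omega) [y]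
    (by simp) (by simpa using hy)
  have hnd : ([y, x i, x (i + 1), x (i - 1)] : List (Fin n)).Nodup :=
    (List.perm_append_comm.nodup_iff).mp hnd0
  refine df_classified h2 4 le_rfl
    (fun t => ([y, x i, x (i + 1), x (i - 1)] : List (Fin n)).getD t y) (getD_inj _ y hnd) ?_ ?_ ?_
  · intro t ht
    rcases (by omega : t = 0 ∨ t = 1) with rfl | rfl
    · simpa using hadj.symm
    · simpa using h.2 i hik
  · have := (h.2 (i - 1) (by omega)).symm
    rw [show i - 1 + 1 = i by omega] at this
    simpa using this
  · simpa using hheavy.symm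

/-- Two branches at the same path vertex. -/
theorem two_branch_same (h2 : ∀ i, T.a i i = -2 * T.w i) {x : ℕ → Fin n} {k : ℕ}
    (h : IsPath T x k) {y y' : Fin n} (hy : ∀ s < k, x s ≠ y) (hy' : ∀ s < k, x s ≠ y')
    (hyy : y ≠ y') {i : ℕ} (hi0 : 0 < i) (hik : i + 1 < k)
    (hai : Adj T (x i) y) (hai' : Adj T (x i) y') : Classified T := by
  have hnd0 := nodup_append_off h [i, i - 1, i + 1] (by simp; omega) (by simp; omega) [y, y']
    (by simp [hyy]) (by
      intro z hz
      simp only [List.mem_cons, List.not_mem_nil, or_false] at hz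
      rcases hz with rfl | rfl
      · exact hy
      · exact hy')
  have hnd : ([x i, x (i - 1), x (i + 1), y, y'] : List (Fin n)).Nodup := hnd0
  have a01 : Adj T (x i) (x (i - 1)) := by
    have := (h.2 (i - 1) (by omega)).symm
    rwa [show i - 1 + 1 = i by omega] at this
  obtain ⟨h5, hR⟩ := star5_form h2 hnd a01 (h.2 i hik) hai hai'
  right; right; right; right; right; right; right; left
  exact ⟨h5, Or.inl hR⟩

/-- Two branches at different path vertices. -/
theorem two_branch_diff (h2 : ∀ i, T.a i i = -2 * T.w i) {x : ℕ → Fin n} {k : ℕ}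
    (h : IsPath T x k) {y y' : Fin n} (hy : ∀ s < k, x s ≠ y) (hy' : ∀ s < k, x s ≠ y')
    (hyy : y ≠ y') {i j : ℕ} (hi0 : 0 < i) (hij : i < j) (hjk : j + 1 < k)
    (hai : Adj T (x i) y) (haj : Adj T (x j) y') : Classified T := by
  obtain ⟨N, hN⟩ : ∃ N, N = j - i + 5 := ⟨_, rfl⟩
  obtain ⟨v, hv⟩ : ∃ v : ℕ → Fin n, v = fun t => if t = 0 then x (i - 1) else if t = 1 then y
      else if t + 1 = N then y' else x (i + t - 2) := ⟨_, rfl⟩
  have hv0 : v 0 = x (i - 1) := by simp [hv]
  have hv1 : v 1 = y := by simp [hv]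
  have hvm : ∀ t, 2 ≤ t → t + 1 < N → v t = x (i + t - 2) := by
    intro t h1 h2
    have e0 : ¬ t = 0 := by omega
    have e1 : ¬ t = 1 := by omega
    have e2 : ¬ t + 1 = N := by omega
    simp only [hv, e0, e1, e2, if_false]
  have hvN : v (N - 1) = y' := by
    have e0 : ¬ N - 1 = 0 := by omega
    have e1 : ¬ N - 1 = 1 := by omega
    have e2 : N - 1 + 1 = N := by omega
    simp only [hv, e0, e1, e2, if_false, if_true]
  have hcls : ∀ a < N, (a = 0 ∧ v a = x (i - 1)) ∨ (a = 1 ∧ v a = y) ∨
      (2 ≤ a ∧ a + 1 < N ∧ v a = x (i + a - 2)) ∨ (a = N - 1 ∧ v a = y') := by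
    intro a ha
    rcases (by omega : a = 0 ∨ a = 1 ∨ (2 ≤ a ∧ a + 1 < N) ∨ a = N - 1) with
      rfl | rfl | ⟨h1, h2⟩ | rfl
    · exact Or.inl ⟨rfl, hv0⟩
    · exact Or.inr (Or.inl ⟨rfl, hv1⟩)
    · exact Or.inr (Or.inr (Or.inl ⟨h1, h2, hvm a h1 h2⟩))
    · exact Or.inr (Or.inr (Or.inr ⟨rfl, hvN⟩))
  have hinj : ∀ a < N, ∀ b < N, v a = v b → a = b := by
    intro a ha b hb hab
    rcases hcls a ha with ⟨ha0, hva⟩ | ⟨ha0, hva⟩ | ⟨ha0, ha1, hva⟩ | ⟨ha0, hva⟩ <;>
      rcases hcls b hb with ⟨hb0, hvb⟩ | ⟨hb0, hvb⟩ | ⟨hb0, hb1, hvb⟩ | ⟨hb0, hvb⟩ <;>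
      rw [hva, hvb] at hab <;>
      first
        | omega
        | (exfalso; exact hy _ (by omega) hab)
        | (exfalso; exact hy _ (by omega) hab.symm)
        | (exfalso; exact hy' _ (by omega) hab)
        | (exfalso; exact hy' _ (by omega) hab.symm)
        | (exfalso; exact hyy hab)
        | (exfalso; exact hyy hab.symm)
        | (have := h.1 _ (by omega) _ (by omega) hab; omega)
  have hNn : N ≤ n := le_of_inj N v hinj
  right; right; right; right; right; left
  refine ⟨by omega, ff_form h2 N (by omega) v hinj ?_ ?_ ?_ ?_⟩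
  · rw [hv0, hvm 2 le_rfl (by omega)]
    have := h.2 (i - 1) (by omega)
    rwa [show i - 1 + 1 = i + 2 - 2 by omega] at this
  · rw [hv1, hvm 2 le_rfl (by omega), show i + 2 - 2 = i by omega]
    exact hai.symm
  · intro t ht1 ht2
    rw [hvm t ht1 (by omega), hvm (t + 1) (by omega) (by omega)]
    have := h.2 (i + t - 2) (by omega)
    rwa [show i + t - 2 + 1 = i + (t + 1) - 2 by omega] at this
  · rw [hvN, hvm (N - 3) (by omega) (by omega), show i + (N - 3) - 2 = j by omega]
    exact haj

/-- A branch of length two in the middle of the path. -/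
theorem e6_case (h2 : ∀ i, T.a i i = -2 * T.w i) {x : ℕ → Fin n} {k : ℕ}
    (h : IsPath T x k) {y z : Fin n} (hy : ∀ s < k, x s ≠ y) (hz : ∀ s < k, x s ≠ z)
    (hyz : y ≠ z) {i : ℕ} (hi2 : 2 ≤ i) (hik : i + 2 < k)
    (hai : Adj T (x i) y) (hyz' : Adj T y z) : Classified T := by
  have hnd0 := nodup_append_off h [i - 2, i - 1, i, i + 2, i + 1] (by simp; omega)
    (by simp; omega) [z, y]
    (by simp [hyz.symm]) (by
      intro z hz
      simp only [List.mem_cons, List.not_mem_nil, or_false] at hz
      rcases hz with rfl | rfl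
      · exact hz
      · exact hy)
  have hnd : ([x (i - 2), x (i - 1), x i, x (i + 2), x (i + 1), z, y] : List (Fin n)).Nodup := hnd0
  have a01 : Adj T (x (i - 2)) (x (i - 1)) := by
    have := h.2 (i - 2) (by omega)
    rwa [show i - 2 + 1 = i - 1 by omega] at this
  have a12 : Adj T (x (i - 1)) (x i) := by
    have := h.2 (i - 1) (by omega)
    rwa [show i - 1 + 1 = i by omega] at this
  have a24 : Adj T (x i) (x (i + 1)) := h.2 i (by omega)
  have a43 : Adj T (x (i + 1)) (x (i + 2)) := h.2 (i + 1) (by omega)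
  obtain ⟨h7, hR⟩ := e6_form h2 hnd a01 a12 a24 a43 hai hyz'
  right; right; right; right; right; right; right; right; left
  exact ⟨h7, hR⟩

/-- The tree case: the dual graph is the path together with one leaf `y` attached at `x i`,
all bonds simple, `i` in the left half. -/
theorem tree_case (h2 : ∀ i, T.a i i = -2 * T.w i) {x : ℕ → Fin n} {k : ℕ}
    (h : IsPath T x k) (hnc : NoChord T x k) (hkn : k + 1 = n) {y : Fin n}
    (hy : ∀ s < k, x s ≠ y) {i : ℕ} (hi0 : 0 < i) (hhalf : i ≤ k - 1 - i) (hik : i + 1 < k)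
    (hsimple : ∀ s, s + 1 < k → Simple T (x s) (x (s + 1)))
    (hyi : Simple T (x i) y) (hy0 : ∀ s < k, s ≠ i → T.a (x s) y = 0) : Classified T := by
  have hadjy : Adj T (x i) y := by
    refine ⟨hy i (by omega), ?_⟩
    have := T.w_pos (x i)
    rw [hyi.1]
    omega
  have hback : ∀ s, 0 < s → s < k → Adj T (x (s - 1)) (x s) := by
    intro s hs0 hs
    have := h.2 (s - 1) (by omega)
    rwa [show s - 1 + 1 = s by omega] at this
  rcases (by omega : i = 1 ∨ i = 2 ∨ 3 ≤ i) with rfl | rfl | hi3
  · exfalso
    refine T_excl h2 k 1 (by omega) hkn x y h.1 hy hsimple hnc hyi hy0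
      (fun s => if s = 0 ∨ s = k then 1 else 2) ?_ ?_
    · intro s hs
      unfold nbT
      split_ifs <;> simp <;> split_ifs <;> omega
    · refine ⟨k - 1, by omega, ?_⟩
      unfold nbT
      split_ifs <;> simp <;> split_ifs <;> omega
  · rcases (by omega : k = 5 ∨ k = 6 ∨ k = 7 ∨ 8 ≤ k) with rfl | rfl | rfl | hk8
    · exfalso
      refine T_excl h2 5 2 (by omega) hkn x y h.1 hy hsimple hnc hyi hy0
        (fun s => ([1, 2, 3, 2, 1, 2] : List ℤ).getD s 0) ?_ ?_
      · intro s hs
        interval_cases s <;> simp [nbT]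
      · exact ⟨5, by omega, by simp [nbT]⟩
    · exfalso
      refine T_excl h2 6 2 (by omega) hkn x y h.1 hy hsimple hnc hyi hy0
        (fun s => ([2, 3, 4, 3, 2, 1, 2] : List ℤ).getD s 0) ?_ ?_
      · intro s hs
        interval_cases s <;> simp [nbT]
      · exact ⟨0, by omega, by simp [nbT]⟩
    · exfalso
      refine T_excl h2 7 2 (by omega) hkn x y h.1 hy hsimple hnc hyi hy0
        (fun s => ([2, 4, 6, 5, 4, 3, 2, 3] : List ℤ).getD s 0) ?_ ?_
      · intro s hs
        interval_cases s <;> simp [nbT]
      · exact ⟨6, by omega, by simp [nbT]⟩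
    · have hnd0 := nodup_append_off h [7, 6, 5, 4, 3, 2, 1, 0] (by simp)
        (by simp; omega) [y] (by simp) (by simpa using hy)
      have hnd : ([x 7, x 6, x 5, x 4, x 3, x 2, x 1, x 0, y] : List (Fin n)).Nodup := hnd0
      obtain ⟨h9, hR⟩ := e8_form h2 hnd (hback 7 (by omega) (by omega)).symm
        (hback 6 (by omega) (by omega)).symm (hback 5 (by omega) (by omega)).symm
        (hback 4 (by omega) (by omega)).symm (hback 3 (by omega) (by omega)).symm
        (hback 2 (by omega) (by omega)).symm (hback 1 (by omega) (by omega)).symm hadjy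
      right; right; right; right; right; right; right; right; right; right
      exact ⟨h9, hR⟩
  · have hnd0 := nodup_append_off h [i - 3, i - 2, i - 1, i, i + 1, i + 2, i + 3] (by simp; omega)
      (by simp; omega) [y] (by simp) (by simpa using hy)
    have hnd : ([x (i - 3), x (i - 2), x (i - 1), x i, x (i + 1), x (i + 2), x (i + 3), y] :
        List (Fin n)).Nodup := hnd0
    have a01 : Adj T (x (i - 3)) (x (i - 2)) := by
      have := hback (i - 2) (by omega) (by omega)
      rwa [show i - 2 - 1 = i - 3 by omega] at this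
    have a12 : Adj T (x (i - 2)) (x (i - 1)) := by
      have := hback (i - 1) (by omega) (by omega)
      rwa [show i - 1 - 1 = i - 2 by omega] at this
    have a23 : Adj T (x (i - 1)) (x i) := hback i (by omega) (by omega)
    have a34 : Adj T (x i) (x (i + 1)) := h.2 i (by omega)
    have a45 : Adj T (x (i + 1)) (x (i + 2)) := h.2 (i + 1) (by omega)
    have a56 : Adj T (x (i + 2)) (x (i + 3)) := h.2 (i + 2) (by omega)
    obtain ⟨h8, hR⟩ := e7_form h2 hnd a01 a12 a23 a34 a45 a56 hadjy
    right; right; right; right; right; right; right; right; right; left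
    exact ⟨h8, hR⟩

/-- A vertex off a longest chordless path is attached to an interior vertex. -/
lemma branch_pos {x : ℕ → Fin n} {k : ℕ} (hL : IsLongest T x k) (hk0 : 0 < k)
    (hnc : NoChord T x k) {y : Fin n} (hy : ∀ s < k, x s ≠ y) {j : ℕ} (hj : j < k)
    (hadj : Adj T (x j) y) : 0 < j ∧ j + 1 < k := by
  constructor
  · by_contra hcon
    have : j = 0 := by omega
    subst this
    obtain ⟨h1k, hy1⟩ := end_leaf hL hk0 hnc hadj.symm
    exact hy 1 h1k hy1.symm
  · by_contra hcon
    have : j = k - 1 := by omega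
    subst this
    obtain ⟨h1k, hy1⟩ := end_leaf hL.rev hk0 hnc.rev (z := y) (by
      show Adj T y (x (k - 1 - 0))
      simpa using hadj.symm)
    exact hy (k - 1 - 1) (by omega) hy1.symm

/-- The case where a longest chordless path misses some index. -/
theorem branch_case (h2 : ∀ i, T.a i i = -2 * T.w i) {x : ℕ → Fin n} {k : ℕ}
    (hL : IsLongest T x k) (hk0 : 0 < k) (hnc : NoChord T x k) (hkn : k < n) :
    Classified T := by
  classical
  have h := hL.1
  obtain ⟨p, hp, y, hyI, hpy⟩ := T.connected ((Finset.range k).image x)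
    ⟨x 0, Finset.mem_image.mpr ⟨0, Finset.mem_range.mpr hk0, rfl⟩⟩ (by
      intro hu
      have hc := congrArg Finset.card hu
      rw [Finset.card_univ, Fintype.card_fin] at hc
      have hle : ((Finset.range k).image x).card ≤ k := by
        simpa using Finset.card_image_le (s := Finset.range k) (f := x)
      omega)
  obtain ⟨i, hik, rfl⟩ : ∃ i, i < k ∧ x i = p := by simpa using hp
  have hy : ∀ s < k, x s ≠ y := by
    intro s hs e
    apply hyI
    exact Finset.mem_image.mpr ⟨s, Finset.mem_range.mpr hs, e⟩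
  have hadj : Adj T (x i) y := ⟨hy i hik, hpy⟩
  obtain ⟨hi0, hik'⟩ := branch_pos hL hk0 hnc hy hik hadj
  -- `y` adjacent to another path vertex
  by_cases hc2 : ∃ j < k, j ≠ i ∧ Adj T y (x j)
  · obtain ⟨j, hj, hji, haj⟩ := hc2
    left
    rcases lt_or_gt_of_ne hji with hlt | hgt
    · exact two_adj_cycle h2 h hy hlt hik haj hadj.symm
    · exact two_adj_cycle h2 h hy hgt hj hadj.symm haj
  push Not at hc2
  have hy0 : ∀ s < k, s ≠ i → T.a (x s) y = 0 := by
    intro s hs hsi
    have := hc2 s hs hsi
    rw [a_symm]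
    exact (not_adj_iff (hy s hs).symm).mp this
  -- a non-simple bond on the path
  by_cases hc3 : ∃ s, s + 1 < k ∧ ¬ Simple T (x s) (x (s + 1))
  · obtain ⟨s, hs, hns⟩ := hc3
    exact heavy_path_bond h2 h hy hi0 hik' hadj hs hns
  push Not at hc3
  -- the branch bond is not simple
  by_cases hc4 : Simple T (x i) y
  swap
  · exact heavy_leaf_bond h2 h hy hi0 hik' hadj hc4
  -- a second branch
  by_cases hc5 : ∃ y' j, (∀ s < k, x s ≠ y') ∧ y' ≠ y ∧ j < k ∧ Adj T (x j) y'
  · obtain ⟨y', j, hy', hyy, hj, haj⟩ := hc5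
    obtain ⟨hj0, hjk⟩ := branch_pos hL hk0 hnc hy' hj haj
    rcases lt_trichotomy i j with hlt | rfl | hgt
    · exact two_branch_diff h2 h hy hy' hyy.symm hi0 hlt hjk hadj haj
    · exact two_branch_same h2 h hy hy' hyy.symm hi0 hik' hadj haj
    · exact two_branch_diff h2 h hy' hy hyy hj0 hgt hik' haj hadj
  push Not at hc5
  -- a further vertex
  by_cases hc6 : ∃ z, (∀ s < k, x s ≠ z) ∧ z ≠ y
  · obtain ⟨z0, hz0, hz0y⟩ := hc6
    obtain ⟨p, hp, z, hzI, hpz⟩ := T.connected (insert y ((Finset.range k).image x))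
      ⟨y, Finset.mem_insert_self _ _⟩ (by
        intro hu
        have hmem : z0 ∈ insert y ((Finset.range k).image x) := by rw [hu]; exact Finset.mem_univ _
        rcases Finset.mem_insert.mp hmem with e | hmem
        · exact hz0y e
        · obtain ⟨s, hs, e⟩ := Finset.mem_image.mp hmem
          exact hz0 s (Finset.mem_range.mp hs) e)
    have hz : ∀ s < k, x s ≠ z := by
      intro s hs e
      apply hzI
      exact Finset.mem_insert_of_mem (Finset.mem_image.mpr ⟨s, Finset.mem_range.mpr hs, e⟩)
    have hzy : z ≠ y := by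
      intro e
      apply hzI
      rw [e]
      exact Finset.mem_insert_self _ _
    rcases Finset.mem_insert.mp hp with rfl | hp
    · have hyz : Adj T p z := ⟨hzy.symm, hpz⟩
      have hi2 : 2 ≤ i := by
        have p1 := (h.drop i).cons (by omega) (z := p) (by simpa using hadj.symm)
          (by intro t ht; exact hy (i + t) (by omega))
        have p2 := p1.cons (by omega) (z := z) (by simpa using hyz.symm) (by
          intro t ht
          by_cases ht0 : t = 0
          · subst ht0
            simpa using hzy.symm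
          · simp only [ht0, if_false]
            exact hz _ (by omega))
        have := hL.2 _ _ p2
        omega
      have hik2 : i + 2 < k := by
        have p1 := (h.rev.drop (k - 1 - i)).cons (by omega) (z := p) (by
            show Adj T p (x (k - 1 - (k - 1 - i + 0)))
            rw [show k - 1 - (k - 1 - i + 0) = i by omega]
            exact hadj.symm)
          (by intro t ht; exact hy _ (by omega))
        have p2 := p1.cons (by omega) (z := z) (by simpa using hyz.symm) (by
          intro t ht
          by_cases ht0 : t = 0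
          · subst ht0
            simpa using hzy.symm
          · simp only [ht0, if_false]
            exact hz _ (by omega))
        have := hL.2 _ _ p2
        omega
      exact e6_case h2 h hy hz hzy.symm hi2 hik2 hadj hyz
    · obtain ⟨s, hs, rfl⟩ := Finset.mem_image.mp hp
      have hs' := Finset.mem_range.mp hs
      exact absurd ⟨hz s hs', hpz⟩ (hc5 z s hz hzy hs')
  push Not at hc6
  -- the tree case
  have hkn' : k + 1 = n := by
    have hsurj : Function.Surjective
        (fun s : Fin (k + 1) => if s.val < k then x s.val else y) := by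
      intro z
      by_cases hzp : ∃ s < k, x s = z
      · obtain ⟨s, hs, rfl⟩ := hzp
        exact ⟨⟨s, by omega⟩, by simp [hs]⟩
      · push Not at hzp
        have := hc6 z hzp
        exact ⟨⟨k, by omega⟩, by simp [this]⟩
    have := Fintype.card_le_of_surjective _ hsurj
    simp only [Fintype.card_fin] at this
    omega
  rcases le_total i (k - 1 - i) with hhalf | hhalf
  · exact tree_case h2 h hnc hkn' hy hi0 hhalf hik' hc3 hc4 hy0
  · refine tree_case h2 h.rev hnc.rev hkn' (y := y) (i := k - 1 - i) ?_ (by omega) (by omega)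
      (by omega) ?_ ?_ ?_
    · intro s hs
      exact hy _ (by omega)
    · intro s hs
      show Simple T (x (k - 1 - s)) (x (k - 1 - (s + 1)))
      have := (hc3 (k - 1 - (s + 1)) (by omega)).symm
      rwa [show k - 1 - (s + 1) + 1 = k - 1 - s by omega] at this
    · show Simple T (x (k - 1 - (k - 1 - i))) y
      rw [show k - 1 - (k - 1 - i) = i by omega]
      exact hc4
    · intro s hs hsi
      exact hy0 (k - 1 - s) (by omega) (by omega)

/-- The classification of numerical types all of whose indices are `(-2)`-indices. -/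
theorem classify (h2 : ∀ i, T.a i i = -2 * T.w i) (hn : 4 ≤ n) : Classified T := by
  obtain ⟨x, k, hL, hk0⟩ := exists_longest T
  rcases chord_or h2 hL.1 with hc | hnc
  · exact Or.inl hc
  · rcases (Nat.lt_or_ge k n) with hkn | hkn
    · exact branch_case h2 hL hk0 hnc hkn
    · exact chain_case h2 hn hL.1 (le_antisymm hL.1.le_card hkn) hnc

end Groth.Agent.Lib.NumTypeAff67
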