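import Mathlib
import Groth.Prelude.Def_Models
import Groth.Agent.Lib.NumTypeAff67H

/-!
# Numerical types with only `(-2)`-indices: reading off explicit normal forms
-/

set_option autoImplicit false

namespace Groth.Agent.Lib.NumTypeAff67

open Finset Models

lemma eval_mul {a b c m : ℤ} (h : a = b * m) (hb : b = c) : a = c * m := by rw [h, hb]

lemma eval_one {a b m : ℤ} (h : a = b * m) (hb : b = 1) : a = m := by rw [h, hb, one_mul]

lemma eval_zero {a b m : ℤ} (h : a = b * m) (hb : b = 0) : a = 0 := by rw [h, hb, zero_mul]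

lemma eval_diag {a t b w c : ℤ} (h2 : a = -2 * t) (h : t = b * w) (hb : -2 * b = c) :
    a = c * w := by rw [h2, h, ← hb]; ring

end Groth.Agent.Lib.NumTypeAff67
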