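import Groth.Agent.Lib.NumTypeDynkin

/-!
Classification of chains of three (-2)-indices in a numerical type, in embedded form
(machine-generated proof; used by S7341).
-/

set_option autoImplicit false
open Finset
open Models Models.NumericalType

namespace Groth.Agent.Lib.NumTypeChain3

open Groth.Agent.Lib.NumTypeDynkin Groth.Agent.Lib.NumType

theorem three_chain {n : ℕ} (T : Models.NumericalType n) (hn : 3 < n)
    (v : Fin 3 ↪ Fin n) (hv : ∀ j, T.IsMinusTwo (v j)) (h01 : T.a (v 0) (v 1) ≠ 0) (h12 : T.a (v 1) (v 2) ≠ 0) :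
    (T.a (v 0) (v 2) = 0) ∧
    ∃ (u : Fin 3 → Fin n) (w : ℤ), ((∀ j, u j = v j) ∨ (∀ j, u j = v (Fin.rev j))) ∧
      ((T.w (u 0) = w ∧ T.w (u 1) = w ∧ T.w (u 2) = w ∧ T.a (u 0) (u 1) = w ∧ T.a (u 1) (u 2) = w ∧ T.m (u 1) ≤ 2 * T.m (u 0) ∧ T.m (u 0) + T.m (u 2) ≤ 2 * T.m (u 1) ∧ T.m (u 1) ≤ 2 * T.m (u 2)) ∨
      (T.w (u 0) = w ∧ T.w (u 1) = w ∧ T.w (u 2) = 2 * w ∧ T.a (u 0) (u 1) = w ∧ T.a (u 1) (u 2) = 2 * w ∧ T.m (u 1) ≤ 2 * T.m (u 0) ∧ T.m (u 0) + 2 * T.m (u 2) ≤ 2 * T.m (u 1) ∧ T.m (u 1) ≤ 2 * T.m (u 2)) ∨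
      (T.w (u 0) = 2 * w ∧ T.w (u 1) = 2 * w ∧ T.w (u 2) = w ∧ T.a (u 0) (u 1) = 2 * w ∧ T.a (u 1) (u 2) = 2 * w ∧ T.m (u 1) ≤ 2 * T.m (u 0) ∧ T.m (u 0) + T.m (u 2) ≤ 2 * T.m (u 1) ∧ T.m (u 1) ≤ T.m (u 2))) := by
  have n_0_1 : T.a (v 0) (v 1) ≠ 0 := h01
  have n_1_0 : T.a (v 1) (v 0) ≠ 0 := by rw [a_symm T (v 1) (v 0)]; exact h01
  have n_1_2 : T.a (v 1) (v 2) ≠ 0 := h12
  have n_2_1 : T.a (v 2) (v 1) ≠ 0 := by rw [a_symm T (v 2) (v 1)]; exact h12
  have l_0_1 := one_le' T v (p := 0) (q := 1) (by decide) n_0_1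
  have l_1_0 := one_le' T v (p := 1) (q := 0) (by decide) n_1_0
  have l_1_2 := one_le' T v (p := 1) (q := 2) (by decide) n_1_2
  have l_2_1 := one_le' T v (p := 2) (q := 1) (by decide) n_2_1
  have z_0_2 : T.a (v 0) (v 2) = 0 := by
    by_contra hne
    have hne' : T.a (v 2) (v 0) ≠ 0 := by rw [a_symm T (v 2) (v 0)]; exact hne
    have l_0_2 := one_le' T v (p := 0) (q := 2) (by decide) hne
    have l_2_0 := one_le' T v (p := 2) (q := 0) (by decide) hne'
    refine no_super_list T hn v hv [(0, 1, 1), (1, 0, 1), (1, 2, 1), (2, 1, 1), (0, 2, 1), (2, 0, 1)] ?_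
      ![1, 1, 1] (by decide) ⟨0, by decide⟩ (by decide)
    intro e he
    simp only [List.mem_cons, List.not_mem_nil, or_false] at he
    rcases he with rfl | rfl | rfl | rfl | rfl | rfl
    exacts [l_0_1, l_1_0, l_1_2, l_2_1, l_0_2, l_2_0]
  have z_2_0 : T.a (v 2) (v 0) = 0 := by rw [a_symm T (v 2) (v 0)]; exact z_0_2
  have T_0_P : ¬ (3 * T.w (v 0) ≤ T.a (v 0) (v 1)) := by
    intro b
    refine no_super_list T hn v hv [(0, 1, 3), (1, 0, 1), (1, 2, 1), (2, 1, 1)] ?_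
      ![3, 2, 1] (by decide) ⟨0, by decide⟩ (by decide)
    intro e he
    simp only [List.mem_cons, List.not_mem_nil, or_false] at he
    rcases he with rfl | rfl | rfl | rfl
    exacts [b, l_1_0, l_1_2, l_2_1]
  have T_0_Q : ¬ (3 * T.w (v 1) ≤ T.a (v 1) (v 0)) := by
    intro b
    refine no_super_list T hn v hv [(0, 1, 1), (1, 0, 3), (1, 2, 1), (2, 1, 1)] ?_
      ![1, 2, 1] (by decide) ⟨0, by decide⟩ (by decide)
    intro e he
    simp only [List.mem_cons, List.not_mem_nil, or_false] at he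
    rcases he with rfl | rfl | rfl | rfl
    exacts [l_0_1, b, l_1_2, l_2_1]
  have T_1_P : ¬ (3 * T.w (v 1) ≤ T.a (v 1) (v 2)) := by
    intro b
    refine no_super_list T hn v hv [(0, 1, 1), (1, 0, 1), (1, 2, 3), (2, 1, 1)] ?_
      ![1, 2, 1] (by decide) ⟨0, by decide⟩ (by decide)
    intro e he
    simp only [List.mem_cons, List.not_mem_nil, or_false] at he
    rcases he with rfl | rfl | rfl | rfl
    exacts [l_0_1, l_1_0, b, l_2_1]
  have T_1_Q : ¬ (3 * T.w (v 2) ≤ T.a (v 2) (v 1)) := by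
    intro b
    refine no_super_list T hn v hv [(0, 1, 1), (1, 0, 1), (1, 2, 1), (2, 1, 3)] ?_
      ![1, 2, 3] (by decide) ⟨0, by decide⟩ (by decide)
    intro e he
    simp only [List.mem_cons, List.not_mem_nil, or_false] at he
    rcases he with rfl | rfl | rfl | rfl
    exacts [l_0_1, l_1_0, l_1_2, b]
  have D_0_1_PP : 2 * T.w (v 0) ≤ T.a (v 0) (v 1) → 2 * T.w (v 1) ≤ T.a (v 1) (v 2) → False := by
    intro b1 b2
    refine no_super_list T hn v hv [(0, 1, 2), (1, 0, 1), (1, 2, 2), (2, 1, 1)] ?_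
      ![2, 2, 1] (by decide) ⟨0, by decide⟩ (by decide)
    intro e he
    simp only [List.mem_cons, List.not_mem_nil, or_false] at he
    rcases he with rfl | rfl | rfl | rfl
    exacts [b1, l_1_0, b2, l_2_1]
  have D_0_1_PQ : 2 * T.w (v 0) ≤ T.a (v 0) (v 1) → 2 * T.w (v 2) ≤ T.a (v 2) (v 1) → False := by
    intro b1 b2
    refine no_super_list T hn v hv [(0, 1, 2), (1, 0, 1), (1, 2, 1), (2, 1, 2)] ?_
      ![1, 1, 1] (by decide) ⟨0, by decide⟩ (by decide)
    intro e he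
    simp only [List.mem_cons, List.not_mem_nil, or_false] at he
    rcases he with rfl | rfl | rfl | rfl
    exacts [b1, l_1_0, l_1_2, b2]
  have D_0_1_QP : 2 * T.w (v 1) ≤ T.a (v 1) (v 0) → 2 * T.w (v 1) ≤ T.a (v 1) (v 2) → False := by
    intro b1 b2
    refine no_super_list T hn v hv [(0, 1, 1), (1, 0, 2), (1, 2, 2), (2, 1, 1)] ?_
      ![1, 2, 1] (by decide) ⟨0, by decide⟩ (by decide)
    intro e he
    simp only [List.mem_cons, List.not_mem_nil, or_false] at he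
    rcases he with rfl | rfl | rfl | rfl
    exacts [l_0_1, b1, b2, l_2_1]
  have D_0_1_QQ : 2 * T.w (v 1) ≤ T.a (v 1) (v 0) → 2 * T.w (v 2) ≤ T.a (v 2) (v 1) → False := by
    intro b1 b2
    refine no_super_list T hn v hv [(0, 1, 1), (1, 0, 2), (1, 2, 1), (2, 1, 2)] ?_
      ![1, 2, 2] (by decide) ⟨0, by decide⟩ (by decide)
    intro e he
    simp only [List.mem_cons, List.not_mem_nil, or_false] at he
    rcases he with rfl | rfl | rfl | rfl
    exacts [l_0_1, b1, l_1_2, b2]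
  obtain ⟨x0, y0, hx0, hy0, hxy0⟩ := bond' T (by omega) v (p := 0) (q := 1) (by decide) (hv 0) (hv 1) n_0_1
  have hy0' : T.a (v 1) (v 0) = y0 * T.w (v 1) := by rw [a_symm T (v 1) (v 0)]; exact hy0
  have b0 : (x0 = 1 ∧ y0 = 1) ∨ (x0 = 2 ∧ y0 = 1) ∨ (x0 = 1 ∧ y0 = 2) := by
    rcases hxy0 with h | h | h | ⟨rfl, rfl⟩ | ⟨rfl, rfl⟩
    · exact Or.inl h
    · exact Or.inr (Or.inl h)
    · exact Or.inr (Or.inr h)
    · exact absurd hx0.symm.le T_0_P
    · exact absurd hy0'.symm.le T_0_Q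
  obtain ⟨x1, y1, hx1, hy1, hxy1⟩ := bond' T (by omega) v (p := 1) (q := 2) (by decide) (hv 1) (hv 2) n_1_2
  have hy1' : T.a (v 2) (v 1) = y1 * T.w (v 2) := by rw [a_symm T (v 2) (v 1)]; exact hy1
  have b1 : (x1 = 1 ∧ y1 = 1) ∨ (x1 = 2 ∧ y1 = 1) ∨ (x1 = 1 ∧ y1 = 2) := by
    rcases hxy1 with h | h | h | ⟨rfl, rfl⟩ | ⟨rfl, rfl⟩
    · exact Or.inl h
    · exact Or.inr (Or.inl h)
    · exact Or.inr (Or.inr h)
    · exact absurd hx1.symm.le T_1_P
    · exact absurd hy1'.symm.le T_1_Q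
  refine ⟨z_0_2, ?_⟩
  rcases b0 with ⟨rfl, rfl⟩ | ⟨rfl, rfl⟩ | ⟨rfl, rfl⟩
  · rcases b1 with ⟨rfl, rfl⟩ | ⟨rfl, rfl⟩ | ⟨rfl, rfl⟩
    · have hW := T.w_pos (v 0)
      have w_0 : T.w (v 0) = 1 * T.w (v 0) := by linarith
      have w_1 : T.w (v 1) = 1 * T.w (v 0) := by linarith
      have w_2 : T.w (v 2) = 1 * T.w (v 0) := by linarith
      have val_0_0 : T.a (v 0) (v 0) = -2 * T.w (v 0) := by have := (hv 0).2; linarith
      have val_0_1 : T.a (v 0) (v 1) = 1 * T.w (v 0) := by linarith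
      have val_0_2 : T.a (v 0) (v 2) = 0 * T.w (v 0) := by rw [z_0_2]; ring
      have val_1_0 : T.a (v 1) (v 0) = 1 * T.w (v 0) := by linarith
      have val_1_1 : T.a (v 1) (v 1) = -2 * T.w (v 0) := by have := (hv 1).2; linarith
      have val_1_2 : T.a (v 1) (v 2) = 1 * T.w (v 0) := by linarith
      have val_2_0 : T.a (v 2) (v 0) = 0 * T.w (v 0) := by rw [z_2_0]; ring
      have val_2_1 : T.a (v 2) (v 1) = 1 * T.w (v 0) := by linarith
      have val_2_2 : T.a (v 2) (v 2) = -2 * T.w (v 0) := by have := (hv 2).2; linarith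
      have m_0 : T.m (v 1) ≤ 2 * T.m (v 0) := by
        have h := row_le T v 0
        simp only [Fin.sum_univ_three, val_0_0, val_0_1, val_0_2] at h
        have h2 := le_of_W hW (X := (-2) * T.m (v 0) + (1) * T.m (v 1) + (0) * T.m (v 2)) (by linarith)
        linarith
      have m_1 : T.m (v 0) + T.m (v 2) ≤ 2 * T.m (v 1) := by
        have h := row_le T v 1
        simp only [Fin.sum_univ_three, val_1_0, val_1_1, val_1_2] at h
        have h2 := le_of_W hW (X := (1) * T.m (v 0) + (-2) * T.m (v 1) + (1) * T.m (v 2)) (by linarith)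
        linarith
      have m_2 : T.m (v 1) ≤ 2 * T.m (v 2) := by
        have h := row_le T v 2
        simp only [Fin.sum_univ_three, val_2_0, val_2_1, val_2_2] at h
        have h2 := le_of_W hW (X := (0) * T.m (v 0) + (1) * T.m (v 1) + (-2) * T.m (v 2)) (by linarith)
        linarith
      have goal : T.w (v 0) = T.w (v 0) ∧ T.w (v 1) = T.w (v 0) ∧ T.w (v 2) = T.w (v 0) ∧ T.a (v 0) (v 1) = T.w (v 0) ∧ T.a (v 1) (v 2) = T.w (v 0) ∧ T.m (v 1) ≤ 2 * T.m (v 0) ∧ T.m (v 0) + T.m (v 2) ≤ 2 * T.m (v 1) ∧ T.m (v 1) ≤ 2 * T.m (v 2) :=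
        ⟨by linarith, by linarith, by linarith, by linarith, by linarith, m_0, m_1, m_2⟩
      exact ⟨v, T.w (v 0), Or.inl (fun j => rfl), Or.inl goal⟩
    · have hW := T.w_pos (v 0)
      have w_0 : T.w (v 0) = 1 * T.w (v 0) := by linarith
      have w_1 : T.w (v 1) = 1 * T.w (v 0) := by linarith
      have w_2 : T.w (v 2) = 2 * T.w (v 0) := by linarith
      have val_0_0 : T.a (v 0) (v 0) = -2 * T.w (v 0) := by have := (hv 0).2; linarith
      have val_0_1 : T.a (v 0) (v 1) = 1 * T.w (v 0) := by linarith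
      have val_0_2 : T.a (v 0) (v 2) = 0 * T.w (v 0) := by rw [z_0_2]; ring
      have val_1_0 : T.a (v 1) (v 0) = 1 * T.w (v 0) := by linarith
      have val_1_1 : T.a (v 1) (v 1) = -2 * T.w (v 0) := by have := (hv 1).2; linarith
      have val_1_2 : T.a (v 1) (v 2) = 2 * T.w (v 0) := by linarith
      have val_2_0 : T.a (v 2) (v 0) = 0 * T.w (v 0) := by rw [z_2_0]; ring
      have val_2_1 : T.a (v 2) (v 1) = 2 * T.w (v 0) := by linarith
      have val_2_2 : T.a (v 2) (v 2) = -4 * T.w (v 0) := by have := (hv 2).2; linarith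
      have m_0 : T.m (v 1) ≤ 2 * T.m (v 0) := by
        have h := row_le T v 0
        simp only [Fin.sum_univ_three, val_0_0, val_0_1, val_0_2] at h
        have h2 := le_of_W hW (X := (-2) * T.m (v 0) + (1) * T.m (v 1) + (0) * T.m (v 2)) (by linarith)
        linarith
      have m_1 : T.m (v 0) + 2 * T.m (v 2) ≤ 2 * T.m (v 1) := by
        have h := row_le T v 1
        simp only [Fin.sum_univ_three, val_1_0, val_1_1, val_1_2] at h
        have h2 := le_of_W hW (X := (1) * T.m (v 0) + (-2) * T.m (v 1) + (2) * T.m (v 2)) (by linarith)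
        linarith
      have m_2 : T.m (v 1) ≤ 2 * T.m (v 2) := by
        have h := row_le T v 2
        simp only [Fin.sum_univ_three, val_2_0, val_2_1, val_2_2] at h
        have h2 := le_of_W hW (X := (0) * T.m (v 0) + (2) * T.m (v 1) + (-4) * T.m (v 2)) (by linarith)
        linarith
      have goal : T.w (v 0) = T.w (v 0) ∧ T.w (v 1) = T.w (v 0) ∧ T.w (v 2) = 2 * T.w (v 0) ∧ T.a (v 0) (v 1) = T.w (v 0) ∧ T.a (v 1) (v 2) = 2 * T.w (v 0) ∧ T.m (v 1) ≤ 2 * T.m (v 0) ∧ T.m (v 0) + 2 * T.m (v 2) ≤ 2 * T.m (v 1) ∧ T.m (v 1) ≤ 2 * T.m (v 2) :=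
        ⟨by linarith, by linarith, by linarith, by linarith, by linarith, m_0, m_1, m_2⟩
      exact ⟨v, T.w (v 0), Or.inl (fun j => rfl), Or.inr (Or.inl goal)⟩
    · have hW := T.w_pos (v 2)
      have w_0 : T.w (v 0) = 2 * T.w (v 2) := by linarith
      have w_1 : T.w (v 1) = 2 * T.w (v 2) := by linarith
      have w_2 : T.w (v 2) = 1 * T.w (v 2) := by linarith
      have val_0_0 : T.a (v 0) (v 0) = -4 * T.w (v 2) := by have := (hv 0).2; linarith
      have val_0_1 : T.a (v 0) (v 1) = 2 * T.w (v 2) := by linarith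
      have val_0_2 : T.a (v 0) (v 2) = 0 * T.w (v 2) := by rw [z_0_2]; ring
      have val_1_0 : T.a (v 1) (v 0) = 2 * T.w (v 2) := by linarith
      have val_1_1 : T.a (v 1) (v 1) = -4 * T.w (v 2) := by have := (hv 1).2; linarith
      have val_1_2 : T.a (v 1) (v 2) = 2 * T.w (v 2) := by linarith
      have val_2_0 : T.a (v 2) (v 0) = 0 * T.w (v 2) := by rw [z_2_0]; ring
      have val_2_1 : T.a (v 2) (v 1) = 2 * T.w (v 2) := by linarith
      have val_2_2 : T.a (v 2) (v 2) = -2 * T.w (v 2) := by have := (hv 2).2; linarith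
      have m_0 : T.m (v 1) ≤ 2 * T.m (v 0) := by
        have h := row_le T v 0
        simp only [Fin.sum_univ_three, val_0_0, val_0_1, val_0_2] at h
        have h2 := le_of_W hW (X := (-4) * T.m (v 0) + (2) * T.m (v 1) + (0) * T.m (v 2)) (by linarith)
        linarith
      have m_1 : T.m (v 0) + T.m (v 2) ≤ 2 * T.m (v 1) := by
        have h := row_le T v 1
        simp only [Fin.sum_univ_three, val_1_0, val_1_1, val_1_2] at h
        have h2 := le_of_W hW (X := (2) * T.m (v 0) + (-4) * T.m (v 1) + (2) * T.m (v 2)) (by linarith)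
        linarith
      have m_2 : T.m (v 1) ≤ T.m (v 2) := by
        have h := row_le T v 2
        simp only [Fin.sum_univ_three, val_2_0, val_2_1, val_2_2] at h
        have h2 := le_of_W hW (X := (0) * T.m (v 0) + (2) * T.m (v 1) + (-2) * T.m (v 2)) (by linarith)
        linarith
      have goal : T.w (v 0) = 2 * T.w (v 2) ∧ T.w (v 1) = 2 * T.w (v 2) ∧ T.w (v 2) = T.w (v 2) ∧ T.a (v 0) (v 1) = 2 * T.w (v 2) ∧ T.a (v 1) (v 2) = 2 * T.w (v 2) ∧ T.m (v 1) ≤ 2 * T.m (v 0) ∧ T.m (v 0) + T.m (v 2) ≤ 2 * T.m (v 1) ∧ T.m (v 1) ≤ T.m (v 2) :=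
        ⟨by linarith, by linarith, by linarith, by linarith, by linarith, m_0, m_1, m_2⟩
      exact ⟨v, T.w (v 2), Or.inl (fun j => rfl), Or.inr (Or.inr goal)⟩
  · rcases b1 with ⟨rfl, rfl⟩ | ⟨rfl, rfl⟩ | ⟨rfl, rfl⟩
    · have hW := T.w_pos (v 0)
      have w_0 : T.w (v 0) = 1 * T.w (v 0) := by linarith
      have w_1 : T.w (v 1) = 2 * T.w (v 0) := by linarith
      have w_2 : T.w (v 2) = 2 * T.w (v 0) := by linarith
      have val_0_0 : T.a (v 0) (v 0) = -2 * T.w (v 0) := by have := (hv 0).2; linarith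
      have val_0_1 : T.a (v 0) (v 1) = 2 * T.w (v 0) := by linarith
      have val_0_2 : T.a (v 0) (v 2) = 0 * T.w (v 0) := by rw [z_0_2]; ring
      have val_1_0 : T.a (v 1) (v 0) = 2 * T.w (v 0) := by linarith
      have val_1_1 : T.a (v 1) (v 1) = -4 * T.w (v 0) := by have := (hv 1).2; linarith
      have val_1_2 : T.a (v 1) (v 2) = 2 * T.w (v 0) := by linarith
      have val_2_0 : T.a (v 2) (v 0) = 0 * T.w (v 0) := by rw [z_2_0]; ring
      have val_2_1 : T.a (v 2) (v 1) = 2 * T.w (v 0) := by linarith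
      have val_2_2 : T.a (v 2) (v 2) = -4 * T.w (v 0) := by have := (hv 2).2; linarith
      have m_2 : T.m (v 1) ≤ 2 * T.m (v 2) := by
        have h := row_le T v 2
        simp only [Fin.sum_univ_three, val_2_0, val_2_1, val_2_2] at h
        have h2 := le_of_W hW (X := (0) * T.m (v 0) + (2) * T.m (v 1) + (-4) * T.m (v 2)) (by linarith)
        linarith
      have m_1 : T.m (v 2) + T.m (v 0) ≤ 2 * T.m (v 1) := by
        have h := row_le T v 1
        simp only [Fin.sum_univ_three, val_1_0, val_1_1, val_1_2] at h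
        have h2 := le_of_W hW (X := (2) * T.m (v 0) + (-4) * T.m (v 1) + (2) * T.m (v 2)) (by linarith)
        linarith
      have m_0 : T.m (v 1) ≤ T.m (v 0) := by
        have h := row_le T v 0
        simp only [Fin.sum_univ_three, val_0_0, val_0_1, val_0_2] at h
        have h2 := le_of_W hW (X := (-2) * T.m (v 0) + (2) * T.m (v 1) + (0) * T.m (v 2)) (by linarith)
        linarith
      have goal : T.w (v 2) = 2 * T.w (v 0) ∧ T.w (v 1) = 2 * T.w (v 0) ∧ T.w (v 0) = T.w (v 0) ∧ T.a (v 2) (v 1) = 2 * T.w (v 0) ∧ T.a (v 1) (v 0) = 2 * T.w (v 0) ∧ T.m (v 1) ≤ 2 * T.m (v 2) ∧ T.m (v 2) + T.m (v 0) ≤ 2 * T.m (v 1) ∧ T.m (v 1) ≤ T.m (v 0) :=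
        ⟨by linarith, by linarith, by linarith, by linarith, by linarith, m_2, m_1, m_0⟩
      exact ⟨(fun j => v (Fin.rev j)), T.w (v 0), Or.inr (fun j => rfl), Or.inr (Or.inr goal)⟩
    · exact (D_0_1_PP hx0.symm.le hx1.symm.le).elim
    · exact (D_0_1_PQ hx0.symm.le hy1'.symm.le).elim
  · rcases b1 with ⟨rfl, rfl⟩ | ⟨rfl, rfl⟩ | ⟨rfl, rfl⟩
    · have hW := T.w_pos (v 1)
      have w_0 : T.w (v 0) = 2 * T.w (v 1) := by linarith
      have w_1 : T.w (v 1) = 1 * T.w (v 1) := by linarith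
      have w_2 : T.w (v 2) = 1 * T.w (v 1) := by linarith
      have val_0_0 : T.a (v 0) (v 0) = -4 * T.w (v 1) := by have := (hv 0).2; linarith
      have val_0_1 : T.a (v 0) (v 1) = 2 * T.w (v 1) := by linarith
      have val_0_2 : T.a (v 0) (v 2) = 0 * T.w (v 1) := by rw [z_0_2]; ring
      have val_1_0 : T.a (v 1) (v 0) = 2 * T.w (v 1) := by linarith
      have val_1_1 : T.a (v 1) (v 1) = -2 * T.w (v 1) := by have := (hv 1).2; linarith
      have val_1_2 : T.a (v 1) (v 2) = 1 * T.w (v 1) := by linarith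
      have val_2_0 : T.a (v 2) (v 0) = 0 * T.w (v 1) := by rw [z_2_0]; ring
      have val_2_1 : T.a (v 2) (v 1) = 1 * T.w (v 1) := by linarith
      have val_2_2 : T.a (v 2) (v 2) = -2 * T.w (v 1) := by have := (hv 2).2; linarith
      have m_2 : T.m (v 1) ≤ 2 * T.m (v 2) := by
        have h := row_le T v 2
        simp only [Fin.sum_univ_three, val_2_0, val_2_1, val_2_2] at h
        have h2 := le_of_W hW (X := (0) * T.m (v 0) + (1) * T.m (v 1) + (-2) * T.m (v 2)) (by linarith)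
        linarith
      have m_1 : T.m (v 2) + 2 * T.m (v 0) ≤ 2 * T.m (v 1) := by
        have h := row_le T v 1
        simp only [Fin.sum_univ_three, val_1_0, val_1_1, val_1_2] at h
        have h2 := le_of_W hW (X := (2) * T.m (v 0) + (-2) * T.m (v 1) + (1) * T.m (v 2)) (by linarith)
        linarith
      have m_0 : T.m (v 1) ≤ 2 * T.m (v 0) := by
        have h := row_le T v 0
        simp only [Fin.sum_univ_three, val_0_0, val_0_1, val_0_2] at h
        have h2 := le_of_W hW (X := (-4) * T.m (v 0) + (2) * T.m (v 1) + (0) * T.m (v 2)) (by linarith)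
        linarith
      have goal : T.w (v 2) = T.w (v 1) ∧ T.w (v 1) = T.w (v 1) ∧ T.w (v 0) = 2 * T.w (v 1) ∧ T.a (v 2) (v 1) = T.w (v 1) ∧ T.a (v 1) (v 0) = 2 * T.w (v 1) ∧ T.m (v 1) ≤ 2 * T.m (v 2) ∧ T.m (v 2) + 2 * T.m (v 0) ≤ 2 * T.m (v 1) ∧ T.m (v 1) ≤ 2 * T.m (v 0) :=
        ⟨by linarith, by linarith, by linarith, by linarith, by linarith, m_2, m_1, m_0⟩
      exact ⟨(fun j => v (Fin.rev j)), T.w (v 1), Or.inr (fun j => rfl), Or.inr (Or.inl goal)⟩
    · exact (D_0_1_QP hy0'.symm.le hx1.symm.le).elim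
    · exact (D_0_1_QQ hy0'.symm.le hy1'.symm.le).elim

end Groth.Agent.Lib.NumTypeChain3
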