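import Groth.Agent.Lib.NumTypeDynkin

/-!
Local exclusion lemmas for chains of (-2)-indices (machine-generated test vectors):
no triple bond next to another bond; no multiple bond in the middle of a chain of five.
-/

set_option autoImplicit false
open Finset

namespace Groth.Agent.Lib.NumTypeLocal

open Models Groth.Agent.Lib.NumType Groth.Agent.Lib.NumTypeDynkin

variable {n : ℕ} (T : Models.NumericalType n)

/-- In a chain of three (-2)-indices no bond is triple. -/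
theorem no_triple3 (hn : 3 < n) (v : Fin 3 ↪ Fin n) (hv : ∀ j, T.IsMinusTwo (v j))
    (hchain : ∀ s s' : Fin 3, s'.val = s.val + 1 → T.a (v s) (v s') ≠ 0) :
    ¬ (3 * T.w (v 0) ≤ T.a (v 0) (v 1)) ∧
      ¬ (3 * T.w (v 1) ≤ T.a (v 1) (v 0)) ∧
      ¬ (3 * T.w (v 1) ≤ T.a (v 1) (v 2)) ∧
      ¬ (3 * T.w (v 2) ≤ T.a (v 2) (v 1)) := by
  have n_0_1 : T.a (v 0) (v 1) ≠ 0 := hchain 0 1 (by decide)
  have n_1_0 : T.a (v 1) (v 0) ≠ 0 := by rw [a_symm T (v 1) (v 0)]; exact n_0_1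
  have n_1_2 : T.a (v 1) (v 2) ≠ 0 := hchain 1 2 (by decide)
  have n_2_1 : T.a (v 2) (v 1) ≠ 0 := by rw [a_symm T (v 2) (v 1)]; exact n_1_2
  have l_0_1 := one_le' T v (p := 0) (q := 1) (by decide) n_0_1
  have l_1_0 := one_le' T v (p := 1) (q := 0) (by decide) n_1_0
  have l_1_2 := one_le' T v (p := 1) (q := 2) (by decide) n_1_2
  have l_2_1 := one_le' T v (p := 2) (q := 1) (by decide) n_2_1
  have c0 : ¬ (3 * T.w (v 0) ≤ T.a (v 0) (v 1)) := by
    intro b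
    refine no_super_list T hn v hv [(0, 1, 3), (1, 0, 1), (1, 2, 1), (2, 1, 1)] ?_
      ![3, 2, 1] (by decide) ⟨0, by decide⟩ (by decide)
    intro e he
    simp only [List.mem_cons, List.not_mem_nil, or_false] at he
    rcases he with rfl | rfl | rfl | rfl
    exacts [b, l_1_0, l_1_2, l_2_1]
  have c1 : ¬ (3 * T.w (v 1) ≤ T.a (v 1) (v 0)) := by
    intro b
    refine no_super_list T hn v hv [(0, 1, 1), (1, 0, 3), (1, 2, 1), (2, 1, 1)] ?_
      ![1, 2, 1] (by decide) ⟨0, by decide⟩ (by decide)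
    intro e he
    simp only [List.mem_cons, List.not_mem_nil, or_false] at he
    rcases he with rfl | rfl | rfl | rfl
    exacts [l_0_1, b, l_1_2, l_2_1]
  have c2 : ¬ (3 * T.w (v 1) ≤ T.a (v 1) (v 2)) := by
    intro b
    refine no_super_list T hn v hv [(0, 1, 1), (1, 0, 1), (1, 2, 3), (2, 1, 1)] ?_
      ![1, 2, 1] (by decide) ⟨0, by decide⟩ (by decide)
    intro e he
    simp only [List.mem_cons, List.not_mem_nil, or_false] at he
    rcases he with rfl | rfl | rfl | rfl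
    exacts [l_0_1, l_1_0, b, l_2_1]
  have c3 : ¬ (3 * T.w (v 2) ≤ T.a (v 2) (v 1)) := by
    intro b
    refine no_super_list T hn v hv [(0, 1, 1), (1, 0, 1), (1, 2, 1), (2, 1, 3)] ?_
      ![1, 2, 3] (by decide) ⟨0, by decide⟩ (by decide)
    intro e he
    simp only [List.mem_cons, List.not_mem_nil, or_false] at he
    rcases he with rfl | rfl | rfl | rfl
    exacts [l_0_1, l_1_0, l_1_2, b]
  exact ⟨c0, c1, c2, c3⟩

/-- In a chain of five (-2)-indices the two middle bonds are simple. -/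
theorem five_mid (hn : 5 < n) (v : Fin 5 ↪ Fin n) (hv : ∀ j, T.IsMinusTwo (v j))
    (hchain : ∀ s s' : Fin 5, s'.val = s.val + 1 → T.a (v s) (v s') ≠ 0) :
    ¬ (2 * T.w (v 1) ≤ T.a (v 1) (v 2)) ∧
      ¬ (2 * T.w (v 2) ≤ T.a (v 2) (v 1)) ∧
      ¬ (2 * T.w (v 2) ≤ T.a (v 2) (v 3)) ∧
      ¬ (2 * T.w (v 3) ≤ T.a (v 3) (v 2)) := by
  have n_0_1 : T.a (v 0) (v 1) ≠ 0 := hchain 0 1 (by decide)
  have n_1_0 : T.a (v 1) (v 0) ≠ 0 := by rw [a_symm T (v 1) (v 0)]; exact n_0_1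
  have n_1_2 : T.a (v 1) (v 2) ≠ 0 := hchain 1 2 (by decide)
  have n_2_1 : T.a (v 2) (v 1) ≠ 0 := by rw [a_symm T (v 2) (v 1)]; exact n_1_2
  have n_2_3 : T.a (v 2) (v 3) ≠ 0 := hchain 2 3 (by decide)
  have n_3_2 : T.a (v 3) (v 2) ≠ 0 := by rw [a_symm T (v 3) (v 2)]; exact n_2_3
  have n_3_4 : T.a (v 3) (v 4) ≠ 0 := hchain 3 4 (by decide)
  have n_4_3 : T.a (v 4) (v 3) ≠ 0 := by rw [a_symm T (v 4) (v 3)]; exact n_3_4
  have l_0_1 := one_le' T v (p := 0) (q := 1) (by decide) n_0_1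
  have l_1_0 := one_le' T v (p := 1) (q := 0) (by decide) n_1_0
  have l_1_2 := one_le' T v (p := 1) (q := 2) (by decide) n_1_2
  have l_2_1 := one_le' T v (p := 2) (q := 1) (by decide) n_2_1
  have l_2_3 := one_le' T v (p := 2) (q := 3) (by decide) n_2_3
  have l_3_2 := one_le' T v (p := 3) (q := 2) (by decide) n_3_2
  have l_3_4 := one_le' T v (p := 3) (q := 4) (by decide) n_3_4
  have l_4_3 := one_le' T v (p := 4) (q := 3) (by decide) n_4_3
  have c0 : ¬ (2 * T.w (v 1) ≤ T.a (v 1) (v 2)) := by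
    intro b
    refine no_super_list T hn v hv [(0, 1, 1), (1, 0, 1), (1, 2, 2), (2, 1, 1), (2, 3, 1), (3, 2, 1), (3, 4, 1), (4, 3, 1)] ?_
      ![2, 4, 3, 2, 1] (by decide) ⟨0, by decide⟩ (by decide)
    intro e he
    simp only [List.mem_cons, List.not_mem_nil, or_false] at he
    rcases he with rfl | rfl | rfl | rfl | rfl | rfl | rfl | rfl
    exacts [l_0_1, l_1_0, b, l_2_1, l_2_3, l_3_2, l_3_4, l_4_3]
  have c1 : ¬ (2 * T.w (v 2) ≤ T.a (v 2) (v 1)) := by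
    intro b
    refine no_super_list T hn v hv [(0, 1, 1), (1, 0, 1), (1, 2, 1), (2, 1, 2), (2, 3, 1), (3, 2, 1), (3, 4, 1), (4, 3, 1)] ?_
      ![1, 2, 3, 2, 1] (by decide) ⟨0, by decide⟩ (by decide)
    intro e he
    simp only [List.mem_cons, List.not_mem_nil, or_false] at he
    rcases he with rfl | rfl | rfl | rfl | rfl | rfl | rfl | rfl
    exacts [l_0_1, l_1_0, l_1_2, b, l_2_3, l_3_2, l_3_4, l_4_3]
  have c2 : ¬ (2 * T.w (v 2) ≤ T.a (v 2) (v 3)) := by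
    intro b
    refine no_super_list T hn v hv [(0, 1, 1), (1, 0, 1), (1, 2, 1), (2, 1, 1), (2, 3, 2), (3, 2, 1), (3, 4, 1), (4, 3, 1)] ?_
      ![1, 2, 3, 2, 1] (by decide) ⟨0, by decide⟩ (by decide)
    intro e he
    simp only [List.mem_cons, List.not_mem_nil, or_false] at he
    rcases he with rfl | rfl | rfl | rfl | rfl | rfl | rfl | rfl
    exacts [l_0_1, l_1_0, l_1_2, l_2_1, b, l_3_2, l_3_4, l_4_3]
  have c3 : ¬ (2 * T.w (v 3) ≤ T.a (v 3) (v 2)) := by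
    intro b
    refine no_super_list T hn v hv [(0, 1, 1), (1, 0, 1), (1, 2, 1), (2, 1, 1), (2, 3, 1), (3, 2, 2), (3, 4, 1), (4, 3, 1)] ?_
      ![1, 2, 3, 4, 2] (by decide) ⟨0, by decide⟩ (by decide)
    intro e he
    simp only [List.mem_cons, List.not_mem_nil, or_false] at he
    rcases he with rfl | rfl | rfl | rfl | rfl | rfl | rfl | rfl
    exacts [l_0_1, l_1_0, l_1_2, l_2_1, l_2_3, b, l_3_4, l_4_3]
  exact ⟨c0, c1, c2, c3⟩

end Groth.Agent.Lib.NumTypeLocal
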