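import Groth.Agent.Lib.NumTypeLong
import Groth.Agent.Lib.NumTypeLocal

/-!
Chains of (-2)-indices of arbitrary length in a numerical type: vanishing of non-adjacent
intersection numbers and "at most one multiple bond".
-/

set_option autoImplicit false
open Finset

namespace Groth.Agent.Lib.NumTypeChainLong

open Models Groth.Agent.Lib.NumType Groth.Agent.Lib.NumTypeDynkin Groth.Agent.Lib.NumTypeLong
open Groth.Agent.Lib.NumTypeLocal

variable {n : ℕ} (T : Models.NumericalType n)

/-- Sub-configuration on the `m` consecutive indices starting at `o`. -/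
def subEmb {t : ℕ} (v : Fin t ↪ Fin n) (o m : ℕ) (h : o + m ≤ t) : Fin m ↪ Fin n :=
  ⟨fun s => v ⟨o + s.val, by have := s.isLt; omega⟩, by
    intro a b e
    have := v.injective e
    simp only [Fin.mk.injEq] at this
    exact Fin.ext (by omega)⟩

theorem subEmb_apply {t : ℕ} (v : Fin t ↪ Fin n) (o m : ℕ) (h : o + m ≤ t) (s : Fin m) :
    subEmb v o m h s = v ⟨o + s.val, by have := s.isLt; omega⟩ := rfl

theorem subEmb_eq {t : ℕ} (v : Fin t ↪ Fin n) (o m : ℕ) (h : o + m ≤ t) (s : Fin m) (j : Fin t)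
    (hj : j.val = o + s.val) : subEmb v o m h s = v j := by
  rw [subEmb_apply]
  congr 1
  exact Fin.ext hj.symm

theorem ne_of_val_ne {k : ℕ} {x y : Fin k} (h : x.val ≠ y.val) : x ≠ y := fun e => h (congrArg _ e)

/-- In a chain of (-2)-indices, non-adjacent members do not meet. -/
theorem chain_nonadj {t : ℕ} (ht : t < n) (v : Fin t ↪ Fin n) (hv : ∀ j, T.IsMinusTwo (v j))
    (hchain : ∀ j j' : Fin t, j'.val = j.val + 1 → T.a (v j) (v j') ≠ 0)
    (j k : Fin t) (hjk : j.val + 1 < k.val) : T.a (v j) (v k) = 0 := by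
  by_contra hne
  have : NeZero t := ⟨by have := j.isLt; omega⟩
  have hklt := k.isLt
  have hP : ∀ s, s + j.val < t → (mkP t j.val s).val = s + j.val := fun s h => mkP_val h
  set c : Fin t → ℤ := fun i => if j.val ≤ i.val ∧ i.val ≤ k.val then 2 else 0 with hc
  have hcin : ∀ i : Fin t, j.val ≤ i.val → i.val ≤ k.val → c i = 2 := by
    intro i h1 h2
    simp only [hc]
    rw [if_pos ⟨h1, h2⟩]
  have hcnn : ∀ i, 0 ≤ c i := by
    intro i
    simp only [hc]
    split_ifs <;> norm_num
  have hadj : ∀ s, s < k.val - j.val →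
      T.a (v (mkP t j.val s)) (v (mkP t j.val (s + 1))) ≠ 0 := by
    intro s hs
    refine hchain _ _ ?_
    rw [hP s (by omega), hP (s + 1) (by omega)]
    omega
  have hP0 : mkP t j.val 0 = j := Fin.ext (by rw [hP 0 (by omega)]; omega)
  have hPr : mkP t j.val (k.val - j.val) = k := Fin.ext (by rw [hP _ (by omega)]; omega)
  refine uc T ht v hv c hcnn ⟨j, by rw [hcin j le_rfl (by omega)]; norm_num⟩ (k.val - j.val)
    (mkP t j.val) ?_ hadj ?_ ?_ ?_ ?_
  · intro s s' hs hs' e
    have := congrArg Fin.val e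
    rw [hP s (by omega), hP s' (by omega)] at this
    omega
  · intro s _ hs
    exact hcin _ (by rw [hP s (by omega)]; omega) (by rw [hP s (by omega)]; omega)
  · intro _
    rw [hcin _ (by rw [hP 0 (by omega)]; omega) (by rw [hP 0 (by omega)]; omega)]
    have h := hadj 0 (by omega)
    have hne' : mkP t j.val 0 ≠ mkP t j.val (0 + 1) :=
      ne_of_val_ne (by rw [hP 0 (by omega), hP (0 + 1) (by omega)]; omega)
    have := w_le_right' T v hne' h
    rw [a_symm T (v (mkP t j.val 1)) (v (mkP t j.val 0))]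
    simp only [Nat.zero_add] at this
    linarith
  · intro _
    rw [hcin _ (by rw [hP _ (by omega)]; omega) (by rw [hP _ (by omega)]; omega)]
    have h := hadj (k.val - j.val - 1) (by omega)
    rw [Nat.sub_add_cancel (by omega)] at h
    have hne' : mkP t j.val (k.val - j.val - 1) ≠ mkP t j.val (k.val - j.val) :=
      ne_of_val_ne (by rw [hP _ (by omega), hP _ (by omega)]; omega)
    have := w_le_left' T v hne' h
    linarith
  · intro q hq hnot
    have hqin : j.val ≤ q.val ∧ q.val ≤ k.val := by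
      by_contra hcon
      simp only [hc] at hq
      rw [if_neg hcon] at hq
      exact absurd hq (lt_irrefl 0)
    have hcase : q = j ∨ q = k := by
      by_contra hcon
      push Not at hcon
      have h1 : q.val ≠ j.val := fun e => hcon.1 (Fin.ext e)
      have h2 : q.val ≠ k.val := fun e => hcon.2 (Fin.ext e)
      refine hnot (q.val - j.val) (by omega) (by omega) (Fin.ext ?_)
      rw [hP _ (by omega)]
      omega
    have hjk' : j ≠ k := ne_of_val_ne (by omega)
    rcases hcase with rfl | rfl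
    · -- row j : neighbours j+1 and k
      have h1 := hadj 0 (by omega)
      rw [hP0] at h1
      have hne1 : mkP t q.val (0 + 1) ≠ q := ne_of_val_ne (by rw [hP _ (by omega)]; omega)
      have hne2 : mkP t q.val (0 + 1) ≠ k := ne_of_val_ne (by rw [hP _ (by omega)]; omega)
      refine superAt_two (mkP t q.val (0 + 1)) k hne1 (Ne.symm hjk') hne2 ?_
      rw [hcin q le_rfl (by omega), hcin k (by omega) le_rfl,
        hcin _ (by rw [hP _ (by omega)]; omega) (by rw [hP _ (by omega)]; omega)]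
      have e1 := w_le_left' T v (Ne.symm hne1) h1
      have e2 := w_le_left' T v hjk' hne
      linarith
    · -- row k : neighbours k-1 and j
      have h1 := hadj (q.val - j.val - 1) (by omega)
      rw [Nat.sub_add_cancel (by omega), hPr] at h1
      have hne1 : mkP t j.val (q.val - j.val - 1) ≠ q :=
        ne_of_val_ne (by rw [hP _ (by omega)]; omega)
      have hne2 : mkP t j.val (q.val - j.val - 1) ≠ j :=
        ne_of_val_ne (by rw [hP _ (by omega)]; omega)
      refine superAt_two (mkP t j.val (q.val - j.val - 1)) j hne1 hjk' hne2 ?_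
      rw [hcin q (by omega) le_rfl, hcin j le_rfl (by omega),
        hcin _ (by rw [hP _ (by omega)]; omega) (by rw [hP _ (by omega)]; omega)]
      have e1 := w_le_right' T v hne1 h1
      rw [a_symm T (v (mkP t j.val (q.val - j.val - 1))) (v q)] at e1
      have e2 := w_le_right' T v hjk' hne
      rw [a_symm T (v j) (v q)] at e2
      linarith

/-- All four lower bounds from a nonzero off-diagonal entry. -/
theorem ne_le {k : ℕ} (v : Fin k ↪ Fin n) {p q : Fin k} (hpq : p ≠ q)
    (h : T.a (v p) (v q) ≠ 0) :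
    T.w (v p) ≤ T.a (v p) (v q) ∧ T.w (v q) ≤ T.a (v p) (v q) ∧
      T.w (v q) ≤ T.a (v q) (v p) ∧ T.w (v p) ≤ T.a (v q) (v p) := by
  have a1 := w_le_left' T v hpq h
  have a2 := w_le_right' T v hpq h
  have hs := a_symm T (v p) (v q)
  exact ⟨a1, a2, hs ▸ a2, hs ▸ a1⟩

/-- The interval test vector `(cl, 2, …, 2, ch)`. -/
def cI (lo hi : ℕ) (cl ch : ℤ) (x : ℕ) : ℤ :=
  if x = lo then cl else if x = hi then ch else if lo < x ∧ x < hi then 2 else 0

theorem cI_lo (lo hi : ℕ) (cl ch : ℤ) : cI lo hi cl ch lo = cl := by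
  unfold cI
  rw [if_pos rfl]

theorem cI_hi {lo hi : ℕ} (cl ch : ℤ) (h : hi ≠ lo) : cI lo hi cl ch hi = ch := by
  unfold cI
  rw [if_neg h, if_pos rfl]

theorem cI_in {lo hi x : ℕ} (cl ch : ℤ) (h1 : lo < x) (h2 : x < hi) : cI lo hi cl ch x = 2 := by
  unfold cI
  rw [if_neg (by omega), if_neg (by omega), if_pos ⟨h1, h2⟩]

theorem cI_out {lo hi x : ℕ} (cl ch : ℤ) (h1 : x ≠ lo) (h2 : x ≠ hi)
    (h3 : ¬ (lo < x ∧ x < hi)) : cI lo hi cl ch x = 0 := by
  unfold cI
  rw [if_neg h1, if_neg h2, if_neg h3]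

theorem cI_nonneg {lo hi : ℕ} {cl ch : ℤ} (hcl : 0 < cl) (hch : 0 < ch) (x : ℕ) :
    0 ≤ cI lo hi cl ch x := by
  unfold cI
  split_ifs <;> omega

/-- Interval test vector `(cl, 2, …, 2, ch)` on a chain: two "heavy" ends at distance at least two
are impossible. -/
theorem chain_interval {t : ℕ} (ht : t < n) (v : Fin t ↪ Fin n) (hv : ∀ j, T.IsMinusTwo (v j))
    (hchain : ∀ j j' : Fin t, j'.val = j.val + 1 → T.a (v j) (v j') ≠ 0)
    (lo lo1 hi1 hi : Fin t) (hlo1 : lo1.val = lo.val + 1) (hhi1 : hi1.val + 1 = hi.val)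
    (hlohi : lo.val + 2 ≤ hi.val) (cl ch : ℤ) (hcl : 0 < cl) (hch : 0 < ch)
    (hl1 : cl * T.w (v lo) ≤ T.a (v lo) (v lo1))
    (hl2 : 2 * T.w (v lo1) ≤ T.a (v lo1) (v lo) * cl)
    (hr1 : ch * T.w (v hi) ≤ T.a (v hi) (v hi1))
    (hr2 : 2 * T.w (v hi1) ≤ T.a (v hi1) (v hi) * ch) : False := by
  have : NeZero t := ⟨by have := lo.isLt; omega⟩
  have hhilt := hi.isLt
  have hP : ∀ s, s + lo.val < t → (mkP t lo.val s).val = s + lo.val := fun s h => mkP_val h
  have hclo : cI lo.val hi.val cl ch lo.val = cl := cI_lo _ _ _ _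
  have hchi : cI lo.val hi.val cl ch hi.val = ch := cI_hi _ _ (by omega)
  have hadj : ∀ s, s < hi.val - lo.val →
      T.a (v (mkP t lo.val s)) (v (mkP t lo.val (s + 1))) ≠ 0 := by
    intro s hs
    refine hchain _ _ ?_
    rw [hP s (by omega), hP (s + 1) (by omega)]
    omega
  have hP0 : mkP t lo.val 0 = lo := Fin.ext (by rw [hP 0 (by omega)]; omega)
  have hP1 : mkP t lo.val 1 = lo1 := Fin.ext (by rw [hP 1 (by omega)]; omega)
  have hPr : mkP t lo.val (hi.val - lo.val) = hi := Fin.ext (by rw [hP _ (by omega)]; omega)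
  have hPr1 : mkP t lo.val (hi.val - lo.val - 1) = hi1 :=
    Fin.ext (by rw [hP _ (by omega)]; omega)
  refine uc T ht v hv (fun i => cI lo.val hi.val cl ch i.val) (fun i => cI_nonneg hcl hch _)
    ⟨lo, by show 0 < cI lo.val hi.val cl ch lo.val; rw [hclo]; exact hcl⟩ (hi.val - lo.val)
    (mkP t lo.val) ?_ hadj ?_ ?_ ?_ ?_
  · intro s s' hs hs' e
    have := congrArg Fin.val e
    rw [hP s (by omega), hP s' (by omega)] at this
    omega
  · intro s _ hs
    show cI lo.val hi.val cl ch (mkP t lo.val s).val = 2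
    rw [hP s (by omega)]
    exact cI_in _ _ (by omega) (by omega)
  · intro _
    show 2 * T.w (v (mkP t lo.val 1)) ≤
      T.a (v (mkP t lo.val 1)) (v (mkP t lo.val 0)) * cI lo.val hi.val cl ch (mkP t lo.val 0).val
    rw [hP0, hP1, hclo]
    exact hl2
  · intro _
    show 2 * T.w (v (mkP t lo.val (hi.val - lo.val - 1))) ≤
      T.a (v (mkP t lo.val (hi.val - lo.val - 1))) (v (mkP t lo.val (hi.val - lo.val))) *
        cI lo.val hi.val cl ch (mkP t lo.val (hi.val - lo.val)).val
    rw [hPr, hPr1, hchi]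
    exact hr2
  · intro q hq hnot
    have hq' : 0 < cI lo.val hi.val cl ch q.val := hq
    have hcase : q = lo ∨ q = hi := by
      by_contra hcon
      push Not at hcon
      have h1 : q.val ≠ lo.val := fun e => hcon.1 (Fin.ext e)
      have h2 : q.val ≠ hi.val := fun e => hcon.2 (Fin.ext e)
      have hqin : lo.val < q.val ∧ q.val < hi.val := by
        by_contra hcon2
        rw [cI_out _ _ h1 h2 hcon2] at hq'
        exact absurd hq' (lt_irrefl 0)
      refine hnot (q.val - lo.val) (by omega) (by omega) (Fin.ext ?_)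
      rw [hP _ (by omega)]
      omega
    rcases hcase with rfl | rfl
    · refine superAt_one lo1 (ne_of_val_ne (by omega)) ?_
      show 2 * cI q.val hi.val cl ch q.val * T.w (v q) ≤
        T.a (v q) (v lo1) * cI q.val hi.val cl ch lo1.val
      rw [hclo, cI_in _ _ (by omega) (by omega)]
      linarith
    · refine superAt_one hi1 (ne_of_val_ne (by omega)) ?_
      show 2 * cI lo.val q.val cl ch q.val * T.w (v q) ≤
        T.a (v q) (v hi1) * cI lo.val q.val cl ch hi1.val
      rw [hchi, cI_in _ _ (by omega) (by omega)]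
      linarith

/-- Two distinct multiple bonds in a chain of (-2)-indices are impossible. -/
theorem chain_two_double {t : ℕ} (ht : t < n) (v : Fin t ↪ Fin n) (hv : ∀ j, T.IsMinusTwo (v j))
    (hchain : ∀ j j' : Fin t, j'.val = j.val + 1 → T.a (v j) (v j') ≠ 0)
    (lo lo1 hi1 hi : Fin t) (hlo1 : lo1.val = lo.val + 1) (hhi1 : hi1.val + 1 = hi.val)
    (hlohi : lo.val + 2 ≤ hi.val)
    (hlo : 2 * T.w (v lo) ≤ T.a (v lo) (v lo1) ∨ 2 * T.w (v lo1) ≤ T.a (v lo1) (v lo))
    (hhi : 2 * T.w (v hi) ≤ T.a (v hi) (v hi1) ∨ 2 * T.w (v hi1) ≤ T.a (v hi1) (v hi)) :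
    False := by
  have hne1 : lo ≠ lo1 := ne_of_val_ne (by omega)
  have hne2 : hi1 ≠ hi := ne_of_val_ne (by omega)
  obtain ⟨a1, a2, a3, a4⟩ := ne_le T v hne1 (hchain lo lo1 hlo1)
  obtain ⟨b1, b2, b3, b4⟩ := ne_le T v hne2 (hchain hi1 hi hhi1.symm)
  rcases hlo with hl | hl <;> rcases hhi with hh | hh
  · exact chain_interval T ht v hv hchain lo lo1 hi1 hi hlo1 hhi1 hlohi 2 2 (by norm_num)
      (by norm_num) hl (by linarith) hh (by linarith)
  · exact chain_interval T ht v hv hchain lo lo1 hi1 hi hlo1 hhi1 hlohi 2 1 (by norm_num)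
      (by norm_num) hl (by linarith) (by linarith) (by linarith)
  · exact chain_interval T ht v hv hchain lo lo1 hi1 hi hlo1 hhi1 hlohi 1 2 (by norm_num)
      (by norm_num) (by linarith) (by linarith) hh (by linarith)
  · exact chain_interval T ht v hv hchain lo lo1 hi1 hi hlo1 hhi1 hlohi 1 1 (by norm_num)
      (by norm_num) (by linarith) (by linarith) (by linarith) (by linarith)

theorem subEmb_chain {t : ℕ} (v : Fin t ↪ Fin n)
    (hchain : ∀ j j' : Fin t, j'.val = j.val + 1 → T.a (v j) (v j') ≠ 0)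
    (o m : ℕ) (h : o + m ≤ t) (s s' : Fin m) (e : s'.val = s.val + 1) :
    T.a (subEmb v o m h s) (subEmb v o m h s') ≠ 0 := by
  rw [subEmb_apply, subEmb_apply]
  exact hchain _ _ (by show o + s'.val = o + s.val + 1; omega)

/-- Every bond of a chain of at least three (-2)-indices is simple or double. -/
theorem bond_type {t : ℕ} (ht3 : 3 ≤ t) (ht : t < n) (v : Fin t ↪ Fin n)
    (hv : ∀ j, T.IsMinusTwo (v j))
    (hchain : ∀ j j' : Fin t, j'.val = j.val + 1 → T.a (v j) (v j') ≠ 0)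
    (j j' : Fin t) (hjj : j'.val = j.val + 1) :
    (T.a (v j) (v j') = T.w (v j) ∧ T.a (v j) (v j') = T.w (v j')) ∨
    (T.a (v j) (v j') = 2 * T.w (v j) ∧ T.a (v j) (v j') = T.w (v j')) ∨
    (T.a (v j) (v j') = T.w (v j) ∧ T.a (v j) (v j') = 2 * T.w (v j')) := by
  have hne : j ≠ j' := ne_of_val_ne (by omega)
  have hj'lt := j'.isLt
  obtain ⟨x, y, hx, hy, hxy⟩ := bond' T (by omega) v hne (hv j) (hv j') (hchain j j' hjj)
  have hsym := a_symm T (v j') (v j)
  -- the triple cases are impossible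
  have hno : ¬ (3 * T.w (v j) ≤ T.a (v j) (v j')) ∧ ¬ (3 * T.w (v j') ≤ T.a (v j') (v j)) := by
    by_cases h0 : j.val = 0
    · have h3 := no_triple3 T (by omega) (subEmb v 0 3 (by omega)) (fun s => hv _)
        (subEmb_chain T v hchain 0 3 (by omega))
      rw [subEmb_eq v 0 3 (by omega) 0 j (by rw [h0]; rfl),
        subEmb_eq v 0 3 (by omega) 1 j' (by rw [hjj, h0]; rfl)] at h3
      exact ⟨h3.1, h3.2.1⟩
    · have h3 := no_triple3 T (by omega) (subEmb v (j.val - 1) 3 (by omega)) (fun s => hv _)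
        (subEmb_chain T v hchain (j.val - 1) 3 (by omega))
      rw [subEmb_eq v (j.val - 1) 3 (by omega) 1 j (by show j.val = j.val - 1 + 1; omega),
        subEmb_eq v (j.val - 1) 3 (by omega) 2 j' (by show j'.val = j.val - 1 + 2; omega)] at h3
      exact ⟨h3.2.2.1, h3.2.2.2⟩
  rcases hxy with ⟨rfl, rfl⟩ | ⟨rfl, rfl⟩ | ⟨rfl, rfl⟩ | ⟨rfl, rfl⟩ | ⟨rfl, rfl⟩
  · exact Or.inl ⟨by linarith, by linarith⟩
  · exact Or.inr (Or.inl ⟨by linarith, by linarith⟩)
  · exact Or.inr (Or.inr ⟨by linarith, by linarith⟩)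
  · exact absurd (by linarith) hno.1
  · exact absurd (by linarith) hno.2

/-- The bonds of a chain of at least five (-2)-indices other than the first and the last one are
simple. -/
theorem mid_simple {t : ℕ} (ht5 : 5 ≤ t) (ht : t < n) (v : Fin t ↪ Fin n)
    (hv : ∀ j, T.IsMinusTwo (v j))
    (hchain : ∀ j j' : Fin t, j'.val = j.val + 1 → T.a (v j) (v j') ≠ 0)
    (j j' : Fin t) (hjj : j'.val = j.val + 1) (h1 : 1 ≤ j.val) (h2 : j'.val + 1 < t) :
    T.a (v j) (v j') = T.w (v j) ∧ T.a (v j) (v j') = T.w (v j') := by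
  have hsym := a_symm T (v j') (v j)
  have hno : ¬ (2 * T.w (v j) ≤ T.a (v j) (v j')) ∧ ¬ (2 * T.w (v j') ≤ T.a (v j') (v j)) := by
    by_cases h0 : j.val = 1
    · have h5 := five_mid T (by omega) (subEmb v 0 5 (by omega)) (fun s => hv _)
        (subEmb_chain T v hchain 0 5 (by omega))
      rw [subEmb_eq v 0 5 (by omega) 1 j (by rw [h0]; rfl),
        subEmb_eq v 0 5 (by omega) 2 j' (by rw [hjj, h0]; rfl)] at h5
      exact ⟨h5.1, h5.2.1⟩
    · have h5 := five_mid T (by omega) (subEmb v (j.val - 2) 5 (by omega)) (fun s => hv _)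
        (subEmb_chain T v hchain (j.val - 2) 5 (by omega))
      rw [subEmb_eq v (j.val - 2) 5 (by omega) 2 j (by show j.val = j.val - 2 + 2; omega),
        subEmb_eq v (j.val - 2) 5 (by omega) 3 j' (by show j'.val = j.val - 2 + 3; omega)] at h5
      exact ⟨h5.2.2.1, h5.2.2.2⟩
  have hwj := T.w_pos (v j)
  have hwj' := T.w_pos (v j')
  rcases bond_type T (by omega) ht v hv hchain j j' hjj with h | h | h
  · exact h
  · exact absurd (by linarith [h.1]) hno.1
  · exact absurd (by linarith [h.2]) hno.2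

/-- Normal form of a chain all of whose bonds except possibly the last are simple. -/
theorem final_form {t : ℕ} (ht3 : 3 ≤ t) (ht : t < n) (v : Fin t ↪ Fin n)
    (hv : ∀ j, T.IsMinusTwo (v j))
    (hchain : ∀ j j' : Fin t, j'.val = j.val + 1 → T.a (v j) (v j') ≠ 0)
    (hsimple : ∀ j j' : Fin t, j'.val = j.val + 1 → j'.val + 1 < t →
      T.a (v j) (v j') = T.w (v j) ∧ T.a (v j) (v j') = T.w (v j')) :
    ∃ w : ℤ,
      ((∀ j : Fin t, T.w (v j) = w) ∧ (∀ j j' : Fin t, j'.val = j.val + 1 → T.a (v j) (v j') = w) ∨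
        ((∀ j : Fin t, j.val + 1 < t → T.w (v j) = w) ∧
          (∀ j : Fin t, j.val + 1 = t → T.w (v j) = 2 * w) ∧
          (∀ j j' : Fin t, j'.val = j.val + 1 → j'.val + 1 < t → T.a (v j) (v j') = w) ∧
          (∀ j j' : Fin t, j'.val = j.val + 1 → j'.val + 1 = t → T.a (v j) (v j') = 2 * w)) ∨
        ((∀ j : Fin t, j.val + 1 < t → T.w (v j) = 2 * w) ∧
          (∀ j : Fin t, j.val + 1 = t → T.w (v j) = w) ∧
          (∀ j j' : Fin t, j'.val = j.val + 1 → T.a (v j) (v j') = 2 * w))) := by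
  set w0 := T.w (v ⟨0, by omega⟩) with hw0
  have hw : ∀ s (hs : s + 1 < t), T.w (v ⟨s, by omega⟩) = w0 := by
    intro s
    induction s with
    | zero => intro _; rfl
    | succ s ih =>
      intro hs
      have h := hsimple ⟨s, by omega⟩ ⟨s + 1, by omega⟩ rfl hs
      rw [← h.2, h.1]
      exact ih (by omega)
  have hw' : ∀ j : Fin t, j.val + 1 < t → T.w (v j) = w0 := fun j hj => hw j.val hj
  have ha : ∀ j j' : Fin t, j'.val = j.val + 1 → j'.val + 1 < t → T.a (v j) (v j') = w0 := by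
    intro j j' hjj hj'
    rw [(hsimple j j' hjj hj').1]
    exact hw' j (by omega)
  -- the last bond
  have hl := bond_type T ht3 ht v hv hchain ⟨t - 2, by omega⟩ ⟨t - 1, by omega⟩
    (by show t - 1 = t - 2 + 1; omega)
  have hwl : T.w (v ⟨t - 2, by omega⟩) = w0 := hw' _ (by show t - 2 + 1 < t; omega)
  have hlastj : ∀ j : Fin t, j.val + 1 = t → j = ⟨t - 1, by omega⟩ :=
    fun j hj => Fin.ext (by show j.val = t - 1; omega)
  have hlastb : ∀ j j' : Fin t, j'.val = j.val + 1 → j'.val + 1 = t →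
      j = ⟨t - 2, by omega⟩ ∧ j' = ⟨t - 1, by omega⟩ :=
    fun j j' h1 h2 => ⟨Fin.ext (by show j.val = t - 2; omega), Fin.ext (by show j'.val = t - 1; omega)⟩
  rcases hl with h | h | h
  · refine ⟨w0, Or.inl ⟨?_, ?_⟩⟩
    · intro j
      by_cases hj : j.val + 1 < t
      · exact hw' j hj
      · rw [hlastj j (by have := j.isLt; omega), ← h.2, h.1, hwl]
    · intro j j' hjj
      by_cases hj : j'.val + 1 < t
      · exact ha j j' hjj hj
      · obtain ⟨rfl, rfl⟩ := hlastb j j' hjj (by have := j'.isLt; omega)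
        rw [h.1, hwl]
  · refine ⟨w0, Or.inr (Or.inl ⟨hw', ?_, ha, ?_⟩)⟩
    · intro j hj
      rw [hlastj j hj, ← h.2, h.1, hwl]
    · intro j j' hjj hj
      obtain ⟨rfl, rfl⟩ := hlastb j j' hjj hj
      rw [h.1, hwl]
  · refine ⟨T.w (v ⟨t - 1, by omega⟩), Or.inr (Or.inr ⟨?_, ?_, ?_⟩)⟩
    · intro j hj
      rw [hw' j hj, ← hwl, ← h.1, h.2]
    · intro j hj
      rw [hlastj j hj]
    · intro j j' hjj
      by_cases hj : j'.val + 1 < t
      · rw [ha j j' hjj hj, ← hwl, ← h.1, h.2]
      · obtain ⟨rfl, rfl⟩ := hlastb j j' hjj (by have := j'.isLt; omega)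
        exact h.2

end Groth.Agent.Lib.NumTypeChainLong
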