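import Groth.Prelude.Def_Models
import Mathlib.Tactic.Linarith
import Mathlib.Tactic.Ring

set_option autoImplicit false

namespace Groth.Agent.Lib.NumTypeDiag

open Finset Models Models.NumericalType

variable {n : ℕ} (T : Models.NumericalType n)

/-- The diagonal entries of the intersection matrix of a numerical type on more than one index are
negative. -/
lemma a_diag_neg (hn : 1 < n) (i : Fin n) : T.a i i < 0 := by
  classical
  -- there is `j ≠ i` with `a i j ≠ 0`
  have hne : ({i} : Finset (Fin n)) ≠ univ := by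
    intro h
    have hc : (univ : Finset (Fin n)).card = 1 := by rw [← h]; simp
    simp at hc
    omega
  obtain ⟨i', hi', j, hj, hij⟩ := T.connected {i} (singleton_nonempty i) hne
  rw [mem_singleton] at hi'
  subst hi'
  rw [mem_singleton] at hj
  have hji : i' ≠ j := fun h => hj h.symm
  have hpos : 0 < T.a i' j := lt_of_le_of_ne (T.offDiag_nonneg i' j hji) (Ne.symm hij)
  -- row `i` of `a * m = 0`
  have hrow : ∑ k, T.a i' k * T.m k = 0 := by
    have := congrFun T.mulVec_m i'
    simpa [Matrix.mulVec, dotProduct] using this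
  rw [← Finset.add_sum_erase univ _ (mem_univ i')] at hrow
  have hsum : 0 < ∑ k ∈ univ.erase i', T.a i' k * T.m k := by
    have hjmem : j ∈ univ.erase i' := mem_erase.mpr ⟨hj, mem_univ j⟩
    refine Finset.sum_pos' (fun k hk => ?_) ⟨j, hjmem, mul_pos hpos (T.m_pos j)⟩
    have hk' : i' ≠ k := fun h => (mem_erase.mp hk).1 h.symm
    exact mul_nonneg (T.offDiag_nonneg i' k hk') (le_of_lt (T.m_pos k))
  have hneg : T.a i' i' * T.m i' < 0 := by linarith
  have hm := T.m_pos i'
  by_contra hcon
  push Not at hcon
  have := mul_nonneg hcon (le_of_lt hm)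
  linarith

/-- `a i i = - k * w i` with `k ≥ 1` when `n > 1`. -/
lemma exists_a_diag_eq (hn : 1 < n) (i : Fin n) : ∃ k : ℤ, 1 ≤ k ∧ T.a i i = -(k * T.w i) := by
  obtain ⟨c, hc⟩ := T.w_dvd i i
  have hneg := a_diag_neg T hn i
  have hw := T.w_pos i
  refine ⟨-c, ?_, by rw [hc]; ring⟩
  rw [hc] at hneg
  have hc0 : c < 0 := by
    by_contra hcon
    push Not at hcon
    have := mul_nonneg (le_of_lt hw) hcon
    linarith
  omega

end Groth.Agent.Lib.NumTypeDiag
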