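import Groth.Prelude.Def_Models
import Groth.Agent.Lib.NumType

/-!
Test-vector lemma for numerical types: on a proper subset of indices the intersection matrix is
"of finite type": there is no nonzero nonnegative vector supported there which is superharmonic on
its support. Used for the classification of proper subgraphs of (-2)-indices.
-/

set_option autoImplicit false
open Finset

namespace Groth.Agent.Lib.NumTypeDynkin

open Models Groth.Agent.Lib.NumType

variable {n : ℕ} (T : Models.NumericalType n)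

/-- The test-vector lemma. -/
theorem key {k : ℕ} (hk : k < n) (v : Fin k ↪ Fin n) (c : Fin k → ℤ)
    (hc : ∀ j, 0 ≤ c j) (hc' : ∃ j, 0 < c j) :
    ∃ i : Fin k, 0 < c i ∧ ∑ j, T.a (v i) (v j) * c j < 0 := by
  by_contra h
  push Not at h
  set f : Fin n → ℤ := fun p => ∑ j, T.a p (v j) * c j with hf
  have hterm : ∀ p : Fin n, (∀ j, 0 < c j → v j ≠ p) → ∀ j, 0 ≤ T.a p (v j) * c j := by
    intro p hp j
    rcases (hc j).eq_or_lt with h0 | h0
    · rw [← h0, mul_zero]
    · exact mul_nonneg (T.offDiag_nonneg p (v j) (hp j h0).symm) (hc j)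
  have claim1 : ∀ p, 0 ≤ f p := by
    intro p
    by_cases hp : ∃ i, v i = p ∧ 0 < c i
    · obtain ⟨i, rfl, hi⟩ := hp
      exact h i hi
    · push Not at hp
      exact Finset.sum_nonneg fun j _ => hterm p (fun j hj hvj => absurd hj (not_lt.mpr (hp j hvj))) j
  have claim2 : ∑ p, T.m p * f p = 0 := by
    simp only [hf, Finset.mul_sum]
    rw [Finset.sum_comm]
    apply Finset.sum_eq_zero
    intro j _
    have : ∀ p, T.m p * (T.a p (v j) * c j) = c j * (T.a (v j) p * T.m p) := by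
      intro p
      rw [a_symm T p (v j)]
      ring
    simp only [this]
    rw [← Finset.mul_sum, row_sum, mul_zero]
  have claim3 : ∀ p, f p = 0 := by
    intro p
    have := (Finset.sum_eq_zero_iff_of_nonneg
      (fun p _ => mul_nonneg (T.m_pos p).le (claim1 p))).1 claim2 p (mem_univ p)
    rcases mul_eq_zero.1 this with h1 | h1
    · exact absurd h1 (T.m_pos p).ne'
    · exact h1
  set I : Finset (Fin n) := (univ.filter (fun j => 0 < c j)).map v with hI
  have hIne : I.Nonempty := by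
    obtain ⟨j, hj⟩ := hc'
    exact ⟨v j, Finset.mem_map_of_mem v (by simp [hj])⟩
  have hIuniv : I ≠ univ := by
    intro hu
    have h1 : I.card ≤ k := by
      rw [hI, Finset.card_map]
      exact (Finset.card_le_univ _).trans (by simp)
    rw [hu, Finset.card_univ, Fintype.card_fin] at h1
    omega
  obtain ⟨i, hi, p, hp, hip⟩ := T.connected I hIne hIuniv
  rw [hI, Finset.mem_map] at hi
  obtain ⟨j₀, hj₀, rfl⟩ := hi
  have hj₀' : 0 < c j₀ := by simpa using hj₀
  have hpI : ∀ j, 0 < c j → v j ≠ p := by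
    intro j hj hvj
    apply hp
    rw [hI, Finset.mem_map]
    exact ⟨j, by simp [hj], hvj⟩
  have h0 := (Finset.sum_eq_zero_iff_of_nonneg (fun j _ => hterm p hpI j)).1 (claim3 p) j₀
    (mem_univ j₀)
  rcases mul_eq_zero.1 h0 with h1 | h1
  · rw [a_symm T p (v j₀)] at h1
    exact hip h1
  · exact absurd h1 hj₀'.ne'

/-- Row inequality on a sub-configuration. -/
theorem row_le {k : ℕ} (v : Fin k ↪ Fin n) (i : Fin k) :
    ∑ j, T.a (v i) (v j) * T.m (v j) ≤ 0 := by
  have h := row_sum T (v i)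
  have h1 : ∑ j, T.a (v i) (v j) * T.m (v j) =
      ∑ p ∈ (univ : Finset (Fin k)).map v, T.a (v i) p * T.m p := by
    rw [Finset.sum_map]
  rw [h1]
  have h2 : ∑ p ∈ (univ : Finset (Fin k)).map v, T.a (v i) p * T.m p +
      ∑ p ∈ univ \ (univ : Finset (Fin k)).map v, T.a (v i) p * T.m p = 0 := by
    rw [← h, add_comm]
    exact Finset.sum_sdiff (Finset.subset_univ _)
  have h3 : 0 ≤ ∑ p ∈ univ \ (univ : Finset (Fin k)).map v, T.a (v i) p * T.m p := by
    apply Finset.sum_nonneg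
    intro p hp
    have hpi : v i ≠ p := by
      rintro rfl
      rw [Finset.mem_sdiff] at hp
      exact hp.2 (Finset.mem_map_of_mem v (mem_univ i))
    exact mul_nonneg (T.offDiag_nonneg (v i) p hpi) (T.m_pos p).le
  linarith

theorem offDiag_nonneg' {k : ℕ} (v : Fin k ↪ Fin n) (p q : Fin k) (h : p ≠ q) :
    0 ≤ T.a (v p) (v q) :=
  T.offDiag_nonneg _ _ (fun e => h (v.injective e))

theorem w_le_left {i j : Fin n} (hij : i ≠ j) (h : T.a i j ≠ 0) : T.w i ≤ T.a i j :=
  w_le_of_pos T (lt_of_le_of_ne (T.offDiag_nonneg i j hij) (Ne.symm h))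

theorem w_le_right {i j : Fin n} (hij : i ≠ j) (h : T.a i j ≠ 0) : T.w j ≤ T.a i j := by
  rw [a_symm T i j] at h ⊢
  exact w_le_left T (Ne.symm hij) h

theorem w_le_left' {k : ℕ} (v : Fin k ↪ Fin n) {p q : Fin k} (hpq : p ≠ q)
    (h : T.a (v p) (v q) ≠ 0) : T.w (v p) ≤ T.a (v p) (v q) :=
  w_le_left T (fun e => hpq (v.injective e)) h

theorem w_le_right' {k : ℕ} (v : Fin k ↪ Fin n) {p q : Fin k} (hpq : p ≠ q)
    (h : T.a (v p) (v q) ≠ 0) : T.w (v q) ≤ T.a (v p) (v q) :=
  w_le_right T (fun e => hpq (v.injective e)) h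

/-- Generalized test-vector criterion for configurations of (-2)-indices: if `lam i j * w_i ≤ a_ij`
for `i ≠ j` and `c` is a nonzero nonnegative vector with `2 c_i ≤ ∑_{j ≠ i} lam i j * c_j` on its
support, we get a contradiction (the configuration being a proper subset). -/
theorem no_superharmonic {k : ℕ} (hk : k < n) (v : Fin k ↪ Fin n)
    (hv : ∀ j, T.IsMinusTwo (v j)) (lam : Fin k → Fin k → ℤ)
    (hlam : ∀ i j, i ≠ j → lam i j ≠ 0 → lam i j * T.w (v i) ≤ T.a (v i) (v j))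
    (c : Fin k → ℤ) (hc : ∀ j, 0 ≤ c j) (hc' : ∃ j, 0 < c j)
    (hnum : ∀ i, 0 < c i → 2 * c i ≤ ∑ j, if j = i then 0 else lam i j * c j) : False := by
  obtain ⟨i, hci, hlt⟩ := key T hk v c hc hc'
  have h1 : ∑ j, T.a (v i) (v j) * c j =
      T.a (v i) (v i) * c i + ∑ j ∈ univ.erase i, T.a (v i) (v j) * c j :=
    (Finset.add_sum_erase _ _ (mem_univ i)).symm
  have h2 : ∑ j, (if j = i then 0 else lam i j * c j) =
      ∑ j ∈ univ.erase i, lam i j * c j := by
    rw [← Finset.add_sum_erase _ _ (mem_univ i)]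
    simp only [if_true, zero_add]
    apply Finset.sum_congr rfl
    intro j hj
    rw [if_neg (Finset.ne_of_mem_erase hj)]
  have h3 : ∑ j ∈ univ.erase i, T.w (v i) * (lam i j * c j) ≤
      ∑ j ∈ univ.erase i, T.a (v i) (v j) * c j := by
    apply Finset.sum_le_sum
    intro j hj
    have hji : j ≠ i := Finset.ne_of_mem_erase hj
    by_cases h0 : lam i j = 0
    · rw [h0, zero_mul, mul_zero]
      exact mul_nonneg (offDiag_nonneg' T v i j (Ne.symm hji)) (hc j)
    · have := hlam i j (Ne.symm hji) h0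
      calc T.w (v i) * (lam i j * c j) = (lam i j * T.w (v i)) * c j := by ring
        _ ≤ T.a (v i) (v j) * c j := mul_le_mul_of_nonneg_right this (hc j)
  have h4 := hnum i hci
  rw [h2] at h4
  rw [← Finset.mul_sum] at h3
  have hw := T.w_pos (v i)
  have hd := (hv i).2
  rw [h1, hd] at hlt
  nlinarith

/-- Simply-laced version: the configuration contains the edges `E` and `c` is superharmonic for
the graph `E`. -/
theorem no_affine {k : ℕ} (hk : k < n) (v : Fin k ↪ Fin n)
    (hv : ∀ j, T.IsMinusTwo (v j)) (E : Finset (Fin k × Fin k))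
    (hE : ∀ e ∈ E, T.a (v e.1) (v e.2) ≠ 0)
    (c : Fin k → ℤ) (hc : ∀ j, 0 ≤ c j) (hc' : ∃ j, 0 < c j)
    (hnum : ∀ i, 0 < c i → 2 * c i ≤
      ∑ j, if j = i then 0 else (if (i, j) ∈ E ∨ (j, i) ∈ E then 1 else 0) * c j) : False := by
  refine no_superharmonic T hk v hv (fun i j => if (i, j) ∈ E ∨ (j, i) ∈ E then 1 else 0)
    ?_ c hc hc' hnum
  intro i j hij hne
  by_cases h : (i, j) ∈ E ∨ (j, i) ∈ E
  · simp only [if_pos h, one_mul]
    rcases h with h | h
    · exact w_le_left' T v hij (hE _ h)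
    · have := hE _ h
      rw [a_symm T (v j) (v i)] at this
      exact w_le_left' T v hij this
  · simp only [if_neg h] at hne
    exact absurd rfl hne

/-- Lookup of a lower-bound multiplier in a list of directed weighted edges. -/
def lamOf {k : ℕ} (L : List (Fin k × Fin k × ℤ)) (i j : Fin k) : ℤ :=
  match L.find? (fun e => e.1 = i ∧ e.2.1 = j) with
  | some e => e.2.2
  | none => 0

/-- List version of `no_superharmonic`: `L` lists directed edges `(i, j, lam)` with
`lam * w_i ≤ a_ij`. -/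
theorem no_super_list {k : ℕ} (hk : k < n) (v : Fin k ↪ Fin n)
    (hv : ∀ j, T.IsMinusTwo (v j)) (L : List (Fin k × Fin k × ℤ))
    (hL : ∀ e ∈ L, e.2.2 * T.w (v e.1) ≤ T.a (v e.1) (v e.2.1))
    (c : Fin k → ℤ) (hc : ∀ j, 0 ≤ c j) (hc' : ∃ j, 0 < c j)
    (hnum : ∀ i, 0 < c i → 2 * c i ≤ ∑ j, if j = i then 0 else lamOf L i j * c j) : False := by
  refine no_superharmonic T hk v hv (lamOf L) ?_ c hc hc' hnum
  intro i j _ hne
  unfold lamOf at hne ⊢
  cases hfind : L.find? (fun e => e.1 = i ∧ e.2.1 = j) with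
  | none => rw [hfind] at hne; exact absurd rfl hne
  | some e =>
    show e.2.2 * T.w (v i) ≤ T.a (v i) (v j)
    have hmem : e ∈ L := List.mem_of_find?_eq_some hfind
    have hp := List.find?_some hfind
    simp only [decide_eq_true_eq] at hp
    obtain ⟨h1, h2⟩ := hp
    have := hL e hmem
    rw [h1, h2] at this
    exact this

/-- A nonzero off-diagonal entry different from `w_i` is at least `2 w_i`. -/
theorem two_le_of_ne {i j : Fin n} (hij : i ≠ j) (h : T.a i j ≠ 0) (hne : T.a i j ≠ T.w i) :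
    2 * T.w i ≤ T.a i j := by
  obtain ⟨x, hx⟩ := T.w_dvd i j
  have hw := T.w_pos i
  have hpos : 0 < T.a i j := lt_of_le_of_ne (T.offDiag_nonneg i j hij) (Ne.symm h)
  have hx1 : 1 ≤ x := by
    by_contra hcon
    have : x ≤ 0 := by omega
    nlinarith
  have hx2 : x ≠ 1 := by
    rintro rfl
    exact hne (by rw [hx, mul_one])
  have : 2 ≤ x := by omega
  nlinarith

theorem two_le_of_ne' {k : ℕ} (v : Fin k ↪ Fin n) {p q : Fin k} (hpq : p ≠ q)
    (h : T.a (v p) (v q) ≠ 0) (hne : T.a (v p) (v q) ≠ T.w (v p)) :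
    2 * T.w (v p) ≤ T.a (v p) (v q) :=
  two_le_of_ne T (fun e => hpq (v.injective e)) h hne

theorem one_le' {k : ℕ} (v : Fin k ↪ Fin n) {p q : Fin k} (hpq : p ≠ q)
    (h : T.a (v p) (v q) ≠ 0) : 1 * T.w (v p) ≤ T.a (v p) (v q) := by
  rw [one_mul]
  exact w_le_left' T v hpq h

theorem one_le_symm' {k : ℕ} (v : Fin k ↪ Fin n) {p q : Fin k} (hpq : p ≠ q)
    (h : T.a (v p) (v q) ≠ 0) : 1 * T.w (v q) ≤ T.a (v q) (v p) := by
  rw [one_mul, a_symm T (v q) (v p)]
  exact w_le_right' T v hpq h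

theorem le_of_W {W X : ℤ} (hW : 0 < W) (h : W * X ≤ 0) : X ≤ 0 := by
  by_contra hcon
  push Not at hcon
  nlinarith

/-- Embedding of two distinct indices. -/
def emb2 {i j : Fin n} (hij : i ≠ j) : Fin 2 ↪ Fin n :=
  ⟨![i, j], by
    intro a b h
    fin_cases a <;> fin_cases b <;> simp_all⟩

/-- Classification of a bond between two (-2)-indices (types A1xA1 excluded, A2, B2, G2). -/
theorem bond (hn : 2 < n) {i j : Fin n} (hij : i ≠ j) (hi : T.IsMinusTwo i) (hj : T.IsMinusTwo j)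
    (h : T.a i j ≠ 0) :
    ∃ x y : ℤ, T.a i j = x * T.w i ∧ T.a i j = y * T.w j ∧
      ((x = 1 ∧ y = 1) ∨ (x = 2 ∧ y = 1) ∨ (x = 1 ∧ y = 2) ∨ (x = 3 ∧ y = 1) ∨ (x = 1 ∧ y = 3)) := by
  obtain ⟨x, hx⟩ := T.w_dvd i j
  obtain ⟨y, hy⟩ := T.w_dvd j i
  have hwi := T.w_pos i
  have hwj := T.w_pos j
  have hpos : 0 < T.a i j := lt_of_le_of_ne (T.offDiag_nonneg i j hij) (Ne.symm h)
  have hsym := a_symm T i j
  have hx1 : 1 ≤ x := by
    by_contra hcon
    have : x ≤ 0 := by omega
    nlinarith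
  have hy1 : 1 ≤ y := by
    by_contra hcon
    have : y ≤ 0 := by omega
    nlinarith
  have hxy : x * y ≤ 3 := by
    by_contra hcon
    have h4 : 4 ≤ x * y := by omega
    obtain ⟨s, hs, hlt⟩ := key T hn (emb2 hij) ![x, 2]
      (by intro j; fin_cases j <;> simp <;> omega) ⟨1, by simp⟩
    have hd0 := hi.2
    have hd1 := hj.2
    fin_cases s
    · simp [emb2, Fin.sum_univ_two] at hlt
      rw [hd0, hx] at hlt
      nlinarith
    · simp [emb2, Fin.sum_univ_two] at hlt
      rw [hd1, hy] at hlt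
      nlinarith
  have hx3 : x ≤ 3 := by nlinarith
  have hy3 : y ≤ 3 := by nlinarith
  refine ⟨x, y, by rw [hx]; ring, by rw [hsym, hy]; ring, ?_⟩
  interval_cases x <;> interval_cases y <;> simp_all

/-- Bond classification inside a configuration. -/
theorem bond' {k : ℕ} (hn : 2 < n) (v : Fin k ↪ Fin n) {p q : Fin k} (hpq : p ≠ q)
    (hp : T.IsMinusTwo (v p)) (hq : T.IsMinusTwo (v q)) (h : T.a (v p) (v q) ≠ 0) :
    ∃ x y : ℤ, T.a (v p) (v q) = x * T.w (v p) ∧ T.a (v p) (v q) = y * T.w (v q) ∧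
      ((x = 1 ∧ y = 1) ∨ (x = 2 ∧ y = 1) ∨ (x = 1 ∧ y = 2) ∨ (x = 3 ∧ y = 1) ∨ (x = 1 ∧ y = 3)) :=
  bond T hn (fun e => hpq (v.injective e)) hp hq h

end Groth.Agent.Lib.NumTypeDynkin
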