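import Groth.Agent.Lib.NumTypeDiag
import Mathlib.Combinatorics.SimpleGraph.Acyclic

set_option autoImplicit false

namespace Groth.Agent.Lib.NumTypeGraph

open Finset Models Models.NumericalType

variable {n : ℕ} (T : Models.NumericalType n)

/-- The dual graph of a numerical type. -/
def dualGraph : SimpleGraph (Fin n) where
  Adj i j := i ≠ j ∧ 0 < T.a i j
  symm := ⟨fun i j ⟨hij, hpos⟩ => by
    refine ⟨hij.symm, ?_⟩
    have : T.a j i = T.a i j := by
      have := congrFun (congrFun T.symm i) j
      simpa [Matrix.transpose_apply] using this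
    rw [this]; exact hpos⟩
  loopless := ⟨fun i h => h.1 rfl⟩

lemma dualGraph_connected : (dualGraph T).Connected := by
  classical
  have hne : Nonempty (Fin n) := ⟨⟨0, T.pos⟩⟩
  rw [SimpleGraph.connected_iff]
  refine ⟨?_, hne⟩
  intro u v
  -- the set of vertices reachable from `u`
  let I : Finset (Fin n) := univ.filter fun x => (dualGraph T).Reachable u x
  have huI : u ∈ I := by simp [I]
  by_cases hI : I = univ
  · have : v ∈ I := by rw [hI]; exact mem_univ v
    simpa [I] using this
  · obtain ⟨i, hi, j, hj, hij⟩ := T.connected I ⟨u, huI⟩ hI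
    exfalso
    apply hj
    have hne' : i ≠ j := by rintro rfl; exact hj hi
    have hpos : 0 < T.a i j := lt_of_le_of_ne (T.offDiag_nonneg i j hne') (Ne.symm hij)
    have hadj : (dualGraph T).Adj i j := ⟨hne', hpos⟩
    have hri : (dualGraph T).Reachable u i := by simpa [I] using hi
    have : (dualGraph T).Reachable u j := hri.trans hadj.reachable
    simpa [I] using this

lemma card_edgeSet_le : Nat.card (dualGraph T).edgeSet ≤ T.edgeCount := by
  classical
  unfold Models.NumericalType.edgeCount
  rw [Nat.card_eq_fintype_card]
  let S := univ.filter fun p : Fin n × Fin n => p.1 < p.2 ∧ 0 < T.a p.1 p.2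
  have hsymm : ∀ i j, T.a j i = T.a i j := fun i j => by
    have := congrFun (congrFun T.symm i) j
    simpa [Matrix.transpose_apply] using this
  -- map an edge to its ordered pair
  let f : (dualGraph T).edgeSet → Fin n × Fin n := fun e =>
    Sym2.lift ⟨fun i j => (min i j, max i j), fun i j => by simp [min_comm, max_comm]⟩ e.1
  have hf_mem : ∀ e, f e ∈ S := by
    rintro ⟨e, he⟩
    induction e using Sym2.ind with
    | _ i j =>
      have hadj : (dualGraph T).Adj i j := he
      simp only [f, S, Sym2.lift_mk, mem_filter, mem_univ, true_and]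
      rcases lt_trichotomy i j with h | h | h
      · rw [min_eq_left h.le, max_eq_right h.le]; exact ⟨h, hadj.2⟩
      · exact absurd h hadj.1
      · rw [min_eq_right h.le, max_eq_left h.le]; exact ⟨h, by rw [hsymm]; exact hadj.2⟩
  have hf_inj : Function.Injective f := by
    rintro ⟨e1, he1⟩ ⟨e2, he2⟩ h
    apply Subtype.ext
    induction e1 using Sym2.ind with
    | _ i j =>
    induction e2 using Sym2.ind with
    | _ k l =>
      simp only [f, Sym2.lift_mk, Prod.mk.injEq] at h
      show s(i, j) = s(k, l)
      rw [Sym2.eq_iff]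
      obtain ⟨h1, h2⟩ := h
      rcases le_total i j with hij | hij <;> rcases le_total k l with hkl | hkl
      · rw [min_eq_left hij, min_eq_left hkl] at h1
        rw [max_eq_right hij, max_eq_right hkl] at h2
        exact Or.inl ⟨h1, h2⟩
      · rw [min_eq_left hij, min_eq_right hkl] at h1
        rw [max_eq_right hij, max_eq_left hkl] at h2
        exact Or.inr ⟨h1, h2⟩
      · rw [min_eq_right hij, min_eq_left hkl] at h1
        rw [max_eq_left hij, max_eq_right hkl] at h2
        exact Or.inr ⟨h2, h1⟩
      · rw [min_eq_right hij, min_eq_right hkl] at h1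
        rw [max_eq_left hij, max_eq_left hkl] at h2
        exact Or.inl ⟨h2, h1⟩
  have := Fintype.card_le_of_injective (fun e => (⟨f e, hf_mem e⟩ : S)) (by
    intro e1 e2 h
    apply hf_inj
    exact congrArg Subtype.val h)
  rw [Fintype.card_coe] at this
  exact this

theorem topGenus_nonneg : 0 ≤ T.topGenus := by
  unfold Models.NumericalType.topGenus
  have h1 := (dualGraph_connected T).card_vert_le_card_edgeSet_add_one
  have h2 := card_edgeSet_le T
  rw [Nat.card_eq_fintype_card, Fintype.card_fin] at h1
  have : (n : ℤ) ≤ (T.edgeCount : ℤ) + 1 := by exact_mod_cast le_trans h1 (Nat.add_le_add_right h2 1)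
  linarith

end Groth.Agent.Lib.NumTypeGraph
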