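import Groth.Agent.Lib.NumTypeDynkin

/-!
Test vectors of unbounded support for numerical types: a path carrying the value `2` in its
interior, with arbitrary superharmonic ends (covers cycles, and the affine diagrams of types
B, C, D and their twisted forms).
-/

set_option autoImplicit false
open Finset

namespace Groth.Agent.Lib.NumTypeLong

open Models Groth.Agent.Lib.NumType Groth.Agent.Lib.NumTypeDynkin

variable {n : ℕ} (T : Models.NumericalType n)

/-- Superharmonicity of `c` at `q`, witnessed by a set of other vertices. -/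
def SuperAt {k : ℕ} (v : Fin k ↪ Fin n) (c : Fin k → ℤ) (q : Fin k) : Prop :=
  ∃ S : Finset (Fin k), q ∉ S ∧ 2 * c q * T.w (v q) ≤ ∑ j ∈ S, T.a (v q) (v j) * c j

variable {T}

theorem superAt_one {k : ℕ} {v : Fin k ↪ Fin n} {c : Fin k → ℤ} {q : Fin k} (p : Fin k)
    (hpq : p ≠ q) (h : 2 * c q * T.w (v q) ≤ T.a (v q) (v p) * c p) : SuperAt T v c q :=
  ⟨{p}, by simpa using hpq.symm, by simpa using h⟩

theorem superAt_two {k : ℕ} {v : Fin k ↪ Fin n} {c : Fin k → ℤ} {q : Fin k} (p1 p2 : Fin k)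
    (h1 : p1 ≠ q) (h2 : p2 ≠ q) (h12 : p1 ≠ p2)
    (h : 2 * c q * T.w (v q) ≤ T.a (v q) (v p1) * c p1 + T.a (v q) (v p2) * c p2) :
    SuperAt T v c q :=
  ⟨{p1, p2}, by simp [h1.symm, h2.symm], by rw [Finset.sum_pair h12]; exact h⟩

theorem superAt_three {k : ℕ} {v : Fin k ↪ Fin n} {c : Fin k → ℤ} {q : Fin k} (p1 p2 p3 : Fin k)
    (h1 : p1 ≠ q) (h2 : p2 ≠ q) (h3 : p3 ≠ q) (h12 : p1 ≠ p2) (h13 : p1 ≠ p3) (h23 : p2 ≠ p3)
    (h : 2 * c q * T.w (v q) ≤
      T.a (v q) (v p1) * c p1 + T.a (v q) (v p2) * c p2 + T.a (v q) (v p3) * c p3) :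
    SuperAt T v c q := by
  refine ⟨{p1, p2, p3}, by simp [h1.symm, h2.symm, h3.symm], ?_⟩
  rw [Finset.sum_insert (by simp [h12, h13]), Finset.sum_pair h23]
  linarith

variable (T)

/-- Test-vector lemma with witnesses given as neighbour sets. -/
theorem key_nb {k : ℕ} (hk : k < n) (v : Fin k ↪ Fin n) (hv : ∀ j, T.IsMinusTwo (v j))
    (c : Fin k → ℤ) (hc : ∀ j, 0 ≤ c j) (hc' : ∃ j, 0 < c j)
    (h : ∀ q, 0 < c q → SuperAt T v c q) : False := by
  obtain ⟨i, hci, hlt⟩ := key T hk v c hc hc'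
  obtain ⟨S, hiS, hS⟩ := h i hci
  have h1 : ∑ j, T.a (v i) (v j) * c j =
      T.a (v i) (v i) * c i + ∑ j ∈ univ.erase i, T.a (v i) (v j) * c j :=
    (Finset.add_sum_erase _ _ (mem_univ i)).symm
  have h2 : ∑ j ∈ S, T.a (v i) (v j) * c j ≤ ∑ j ∈ univ.erase i, T.a (v i) (v j) * c j := by
    apply Finset.sum_le_sum_of_subset_of_nonneg
    · intro j hj
      rw [Finset.mem_erase]
      exact ⟨fun e => hiS (e ▸ hj), mem_univ j⟩
    · intro j hj _
      rw [Finset.mem_erase] at hj
      exact mul_nonneg (offDiag_nonneg' T v i j (Ne.symm hj.1)) (hc j)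
  have hd := (hv i).2
  rw [h1, hd] at hlt
  nlinarith

/-- The uniform chain lemma: a path `P 0, …, P r` in a configuration of (-2)-indices, with
`c = 2` on the interior of the path, each interior vertex receiving at least `2 w` from each of
its two path neighbours; the remaining vertices of the support are checked by the caller. -/
theorem uc {k : ℕ} (hk : k < n) (v : Fin k ↪ Fin n) (hv : ∀ j, T.IsMinusTwo (v j))
    (c : Fin k → ℤ) (hc : ∀ j, 0 ≤ c j) (hc' : ∃ j, 0 < c j)
    (r : ℕ) (P : ℕ → Fin k)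
    (hinj : ∀ s s', s ≤ r → s' ≤ r → P s = P s' → s = s')
    (hadj : ∀ s, s < r → T.a (v (P s)) (v (P (s + 1))) ≠ 0)
    (hc2 : ∀ s, 0 < s → s < r → c (P s) = 2)
    (hL : 1 < r → 2 * T.w (v (P 1)) ≤ T.a (v (P 1)) (v (P 0)) * c (P 0))
    (hR : 1 < r → 2 * T.w (v (P (r - 1))) ≤ T.a (v (P (r - 1))) (v (P r)) * c (P r))
    (hends : ∀ q, 0 < c q → (∀ s, 0 < s → s < r → q ≠ P s) → SuperAt T v c q) : False := by
  refine key_nb T hk v hv c hc hc' ?_
  intro q hq
  by_cases hint : ∃ s, 0 < s ∧ s < r ∧ q = P s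
  · obtain ⟨s, hs0, hsr, rfl⟩ := hint
    have hne1 : P (s - 1) ≠ P s := by
      intro e
      have := hinj (s - 1) s (by omega) (by omega) e
      omega
    have hne2 : P (s + 1) ≠ P s := by
      intro e
      have := hinj (s + 1) s (by omega) (by omega) e
      omega
    have hne12 : P (s - 1) ≠ P (s + 1) := by
      intro e
      have := hinj (s - 1) (s + 1) (by omega) (by omega) e
      omega
    refine superAt_two (P (s - 1)) (P (s + 1)) hne1 hne2 hne12 ?_
    rw [hc2 s hs0 hsr]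
    have hleft : 2 * T.w (v (P s)) ≤ T.a (v (P s)) (v (P (s - 1))) * c (P (s - 1)) := by
      by_cases h1 : s = 1
      · subst h1
        exact hL hsr
      · rw [hc2 (s - 1) (by omega) (by omega)]
        have hadj' := hadj (s - 1) (by omega)
        rw [Nat.sub_add_cancel (by omega : 1 ≤ s)] at hadj'
        have := w_le_right' T v hne1 hadj'
        rw [a_symm T (v (P s)) (v (P (s - 1)))]
        linarith
    have hright : 2 * T.w (v (P s)) ≤ T.a (v (P s)) (v (P (s + 1))) * c (P (s + 1)) := by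
      by_cases h1 : s + 1 = r
      · subst h1
        have := hR (by omega)
        rw [Nat.add_sub_cancel] at this
        exact this
      · rw [hc2 (s + 1) (by omega) (by omega)]
        have := w_le_left' T v (Ne.symm hne2) (hadj s hsr)
        linarith
    linarith
  · push Not at hint
    exact hends q hq (fun s h0 hr heq => hint s h0 hr heq)

/-- The map `s ↦ s + off` into `Fin k` (junk value outside the range). -/
def mkP (k : ℕ) [NeZero k] (off : ℕ) (s : ℕ) : Fin k := Fin.ofNat k (s + off)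

theorem mkP_val {k : ℕ} [NeZero k] {off s : ℕ} (h : s + off < k) : (mkP k off s).val = s + off := by
  unfold mkP
  rw [Fin.val_ofNat]
  exact Nat.mod_eq_of_lt h

variable {T} in
theorem pos_le {p q : Fin n} (h : 0 < T.a p q) :
    T.w p ≤ T.a p q ∧ T.w q ≤ T.a p q ∧ T.w q ≤ T.a q p ∧ T.w p ≤ T.a q p := by
  have h' : 0 < T.a q p := by rw [a_symm T q p]; exact h
  have hs := a_symm T p q
  exact ⟨w_le_of_pos T h, hs ▸ w_le_of_pos T h', w_le_of_pos T h', hs ▸ w_le_of_pos T h⟩

theorem exists_fin {k : ℕ} (x : ℕ) (h : x < k) : ∃ p : Fin k, p.val = x := ⟨⟨x, h⟩, rfl⟩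

end Groth.Agent.Lib.NumTypeLong
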