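import Groth.Agent.Lib.NumType
import Mathlib

/-!
# Permuting the indices of a numerical type (`Groth.Agent.Lib.NumTypePerm`)

* `permType T σ`: the numerical type with all data precomposed with the permutation `σ`.
* `genus_permType`, `isMinusOne_permType`, `picEquiv_permType : (permType T σ).Pic ≃ₗ[ℤ] T.Pic`.
* `pic_equiv_int_of_injective`: a ℤ-module which embeds into `ℤ` with image containing `2` is `≃+ ℤ`.
-/

set_option autoImplicit false
open Finset

namespace Groth.Agent.Lib.NumTypePerm

open Models Models.NumericalType Groth.Agent.Lib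

variable {n : ℕ} (T : Models.NumericalType n) (σ : Equiv.Perm (Fin n))

/-- the permuted numerical type -/
def permType : Models.NumericalType n where
  m := fun i => T.m (σ i)
  a := T.a.submatrix σ σ
  w := fun i => T.w (σ i)
  g := fun i => T.g (σ i)
  pos := T.pos
  m_pos := fun i => T.m_pos _
  w_pos := fun i => T.w_pos _
  g_nonneg := fun i => T.g_nonneg _
  symm := T.symm.submatrix σ
  offDiag_nonneg := fun i j hij => T.offDiag_nonneg _ _ (fun h => hij (σ.injective h))
  connected := by
    intro I hI hIne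
    obtain ⟨i', hi', j', hj', hij⟩ := T.connected (I.map σ.toEmbedding) (by
      obtain ⟨i, hi⟩ := hI
      exact ⟨σ i, Finset.mem_map.2 ⟨i, hi, rfl⟩⟩) (by
      intro hu
      apply hIne
      rw [Finset.eq_univ_iff_forall]
      intro i
      have : σ i ∈ I.map σ.toEmbedding := hu ▸ Finset.mem_univ _
      obtain ⟨i0, hi0, h0⟩ := Finset.mem_map.1 this
      have : i0 = i := σ.injective h0
      rw [← this]; exact hi0)
    obtain ⟨i, hi, rfl⟩ := Finset.mem_map.1 hi'
    refine ⟨i, hi, σ.symm j', ?_, ?_⟩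
    · intro hc
      apply hj'
      exact Finset.mem_map.2 ⟨σ.symm j', hc, by simp⟩
    · simpa using hij
  mulVec_m := by
    funext i
    show ∑ j, T.a (σ i) (σ j) * T.m (σ j) = 0
    rw [Equiv.sum_comp σ (fun k => T.a (σ i) k * T.m k)]
    exact NumType.row_sum T (σ i)
  w_dvd := fun i j => T.w_dvd _ _

theorem genus_permType : (permType T σ).genus = T.genus := by
  unfold NumericalType.genus
  have h1 : ∑ i, (permType T σ).m i * (permType T σ).w i * ((permType T σ).g i - 1) =
      ∑ i, T.m i * T.w i * (T.g i - 1) :=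
    Equiv.sum_comp σ (fun k => T.m k * T.w k * (T.g k - 1))
  have h2 : ∑ i, (permType T σ).m i * (permType T σ).a i i = ∑ i, T.m i * T.a i i :=
    Equiv.sum_comp σ (fun k => T.m k * T.a k k)
  rw [h1, h2]

theorem isMinusOne_permType (i : Fin n) : (permType T σ).IsMinusOne i ↔ T.IsMinusOne (σ i) :=
  Iff.rfl

theorem picMatrix_permType (i j : Fin n) :
    (permType T σ).picMatrix i j = T.picMatrix (σ i) (σ j) := rfl

/-- the Picard groups agree -/
noncomputable def picEquiv_permType : T.Pic ≃ₗ[ℤ] (permType T σ).Pic := by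
  refine Submodule.Quotient.equiv _ _ (LinearEquiv.funCongrLeft ℤ ℤ σ) ?_
  have hcomm : (Matrix.mulVecLin (permType T σ).picMatrix) ∘ₗ
      (LinearEquiv.funCongrLeft ℤ ℤ σ).toLinearMap =
      (LinearEquiv.funCongrLeft ℤ ℤ σ).toLinearMap ∘ₗ (Matrix.mulVecLin T.picMatrix) := by
    apply LinearMap.ext
    intro x
    funext i
    simp only [LinearMap.comp_apply, LinearEquiv.coe_coe, Matrix.mulVecLin_apply, Matrix.mulVec,
      dotProduct, LinearEquiv.funCongrLeft_apply, LinearMap.funLeft_apply]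
    rw [← Equiv.sum_comp σ (fun k => T.picMatrix (σ i) k * x k)]
    rfl
  rw [← LinearMap.range_comp, ← hcomm, LinearMap.range_comp]
  have : LinearMap.range (LinearEquiv.funCongrLeft ℤ ℤ σ).toLinearMap = ⊤ :=
    LinearMap.range_eq_top.2 (LinearEquiv.funCongrLeft ℤ ℤ σ).surjective
  rw [this, Submodule.map_top]

/-- a ℤ-module embedding into `ℤ` with `2` in the image is infinite cyclic -/
theorem equiv_int_of_injective {P : Type*} [AddCommGroup P] (φ : P →+ ℤ)
    (hφ : Function.Injective φ) (h2 : ∃ x, φ x = 2) : Nonempty (P ≃+ ℤ) := by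
  let φl : P →ₗ[ℤ] ℤ := φ.toIntLinearMap
  obtain ⟨k, hk⟩ := (IsPrincipalIdealRing.principal (LinearMap.range φl : Ideal ℤ)).principal
  have hk0 : k ≠ 0 := by
    rintro rfl
    obtain ⟨x, hx⟩ := h2
    have : (2 : ℤ) ∈ LinearMap.range φl := ⟨x, hx⟩
    rw [hk] at this
    simp at this
  let e1 : P ≃ₗ[ℤ] LinearMap.range φl := LinearEquiv.ofInjective φl hφ
  let e2 : ℤ ≃ₗ[ℤ] Submodule.span ℤ {k} := LinearEquiv.toSpanNonzeroSingleton ℤ ℤ k hk0
  have e3 : LinearMap.range φl ≃ₗ[ℤ] Submodule.span ℤ {k} := LinearEquiv.ofEq _ _ hk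
  exact ⟨(e1.trans (e3.trans e2.symm)).toAddEquiv⟩

end Groth.Agent.Lib.NumTypePerm
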