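import Mathlib
import Groth.Prelude.Def_Models
import Groth.Agent.Lib.NumType97

/-!
# Relabelling numerical types along a permutation; sorting the multiplicities
-/

set_option autoImplicit false

namespace Groth.Agent.Lib.NumTypePerm97

open Finset Models Models.NumericalType

variable {n : ℕ}

/-- Relabel a numerical type along a permutation of the indices. -/
def perm (T : Models.NumericalType n) (τ : Equiv.Perm (Fin n)) : Models.NumericalType n where
  m := fun i => T.m (τ i)
  a := fun i j => T.a (τ i) (τ j)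
  w := fun i => T.w (τ i)
  g := fun i => T.g (τ i)
  pos := T.pos
  m_pos := fun i => T.m_pos _
  w_pos := fun i => T.w_pos _
  g_nonneg := fun i => T.g_nonneg _
  symm := by
    ext i j
    exact Groth.Agent.Lib.NumType97.a_symm T (τ j) (τ i)
  offDiag_nonneg := fun i j h => T.offDiag_nonneg _ _ (τ.injective.ne h)
  connected := by
    intro I hI hI'
    obtain ⟨i, hi, j, hj, hij⟩ := T.connected (I.map τ.toEmbedding) (by simpa using hI) (by
      intro h
      apply hI'
      rw [Finset.eq_univ_iff_forall] at h ⊢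
      intro x
      have := h (τ x)
      simpa using this)
    obtain ⟨i', hi', rfl⟩ := Finset.mem_map.mp hi
    refine ⟨i', hi', τ.symm j, ?_, ?_⟩
    · intro h
      apply hj
      exact Finset.mem_map.mpr ⟨τ.symm j, h, by simp⟩
    · simpa using hij
  mulVec_m := by
    ext i
    have := Groth.Agent.Lib.NumType97.row_eq T (τ i)
    rw [← Equiv.sum_comp τ] at this
    simpa [Matrix.mulVec, dotProduct] using this
  w_dvd := fun i j => T.w_dvd _ _

@[simp] lemma perm_m (T : Models.NumericalType n) (τ : Equiv.Perm (Fin n)) (i : Fin n) :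
    (perm T τ).m i = T.m (τ i) := rfl
@[simp] lemma perm_a (T : Models.NumericalType n) (τ : Equiv.Perm (Fin n)) (i j : Fin n) :
    (perm T τ).a i j = T.a (τ i) (τ j) := rfl
@[simp] lemma perm_w (T : Models.NumericalType n) (τ : Equiv.Perm (Fin n)) (i : Fin n) :
    (perm T τ).w i = T.w (τ i) := rfl
@[simp] lemma perm_g (T : Models.NumericalType n) (τ : Equiv.Perm (Fin n)) (i : Fin n) :
    (perm T τ).g i = T.g (τ i) := rfl

lemma perm_isMinimal (T : Models.NumericalType n) (τ : Equiv.Perm (Fin n)) (h : T.IsMinimal) :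
    (perm T τ).IsMinimal := fun i hi => h (τ i) hi

lemma perm_genus (T : Models.NumericalType n) (τ : Equiv.Perm (Fin n)) :
    (perm T τ).genus = T.genus := by
  unfold Models.NumericalType.genus
  have h1 : ∑ i, (perm T τ).m i * (perm T τ).w i * ((perm T τ).g i - 1) =
      ∑ i, T.m i * T.w i * (T.g i - 1) :=
    Equiv.sum_comp τ (fun i => T.m i * T.w i * (T.g i - 1))
  have h2 : ∑ i, (perm T τ).m i * (perm T τ).a i i = ∑ i, T.m i * T.a i i :=
    Equiv.sum_comp τ (fun i => T.m i * T.a i i)
  rw [h1, h2]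

/-- Every numerical type can be relabelled so that the multiplicities are sorted. -/
lemma exists_sorted (T : Models.NumericalType n) :
    ∃ τ : Equiv.Perm (Fin n), Monotone (perm T τ).m :=
  ⟨Tuple.sort T.m, Tuple.monotone_sort T.m⟩

/-- A wrapper hiding a proposition from `omega`. -/
def Hid (p : Prop) : Prop := p

lemma Hid.out {p : Prop} (h : Hid p) : p := h

lemma Hid.mk {p : Prop} (h : p) : Hid p := h

/-- Connectivity in contrapositive form. -/
lemma connected_false (T : Models.NumericalType n) (I : Finset (Fin n)) (hI : I.Nonempty)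
    (hI' : I ≠ univ) (h : ∀ i ∈ I, ∀ j ∉ I, T.a i j = 0) : False := by
  obtain ⟨i, hi, j, hj, hij⟩ := T.connected I hI hI'
  exact hij (h i hi j hj)

/-- A permutation with prescribed values. -/
lemma exists_perm_eq (j : Fin n → Fin n) (hj : Function.Injective j) :
    ∃ σ : Equiv.Perm (Fin n), ∀ k, σ k = j k :=
  ⟨Equiv.ofBijective j (Finite.injective_iff_bijective.mp hj), fun _ => rfl⟩

/-- The possible pairs of Cartan integers on an edge. -/
lemma pair_cases (x y m n w v : ℤ) (hx : 0 ≤ x) (hy : 0 ≤ y) (hm : 0 < m) (hn : 0 < n)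
    (hw : 0 < w) (hv : 0 < v) (hs : w * x = v * y) (h1 : x * n ≤ 2 * m) (h2 : y * m ≤ 2 * n) :
    (x = 0 ∧ y = 0) ∨ (x = 1 ∧ y = 1) ∨ (x = 1 ∧ y = 2) ∨ (x = 2 ∧ y = 1) ∨ (x = 1 ∧ y = 3) ∨
      (x = 3 ∧ y = 1) ∨ (x = 1 ∧ y = 4) ∨ (x = 4 ∧ y = 1) ∨ (x = 2 ∧ y = 2) := by
  rcases eq_or_lt_of_le hx with hx0 | hx0
  · left
    refine ⟨hx0.symm, ?_⟩
    rw [← hx0, mul_zero] at hs
    rcases mul_eq_zero.mp hs.symm with h | h
    · exact absurd h hv.ne'
    · exact h
  rcases eq_or_lt_of_le hy with hy0 | hy0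
  · exfalso
    rw [← hy0, mul_zero] at hs
    rcases mul_eq_zero.mp hs with h | h
    · exact absurd h hw.ne'
    · exact absurd h hx0.ne'
  right
  have hxy : x * y ≤ 4 := by
    have hmn : 0 < m * n := mul_pos hm hn
    have h3 : (x * n) * (y * m) ≤ (2 * m) * (2 * n) :=
      mul_le_mul h1 h2 (mul_nonneg hy hm.le) (by linarith)
    have h4 : (x * y) * (m * n) ≤ 4 * (m * n) := by nlinarith
    exact le_of_mul_le_mul_right h4 hmn
  have hx4 : x ≤ 4 := by nlinarith
  have hy4 : y ≤ 4 := by nlinarith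
  interval_cases x <;> interval_cases y <;> simp_all

end Groth.Agent.Lib.NumTypePerm97
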