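import Groth.Agent.Lib.NumTypePerm
import Groth.Agent.S2172
import Groth.Agent.S2175
import Groth.Agent.S2177
import Groth.Agent.S2179
import Groth.Agent.S2180
import Groth.Agent.S2184

/-!
`ℓ`-torsion of the Picard group of a numerical type of genus `g ≥ 2`, `ℓ > 768 g` prime:
assembly of S2172 (torsion of the cokernel of the intersection matrix), S2179 (`Pic ↪ CokerA`),
S2184 (`m_i |a_ij| ≤ 768 g`), S2177 (`g_top ≤ g`) for minimal types, and contraction of
`(-1)`-indices (S2175, S2180, `permType`) for the general case.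
-/

set_option autoImplicit false
open Finset

namespace Groth.Agent.Lib.NumTypeTorsion

open Models Models.NumericalType
open Groth.Agent.Lib Groth.Agent.Lib.NumTypePerm

/-- the `ℓ`-torsion of a finitely generated abelian group is finite -/
theorem finite_torsionBy (M : Type*) [AddCommGroup M] [Module.Finite ℤ M] (ℓ : ℤ) (hℓ : ℓ ≠ 0) :
    Finite (Submodule.torsionBy ℤ M ℓ) := by
  haveI : Module.Finite ℤ (Submodule.torsionBy ℤ M ℓ) := inferInstance
  apply Module.finite_of_fg_torsion
  intro x
  refine ⟨⟨ℓ, mem_nonZeroDivisors_of_ne_zero hℓ⟩, ?_⟩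
  exact Submodule.smul_torsionBy ℓ x

theorem card_torsionBy_le {A B : Type*} [AddCommGroup A] [AddCommGroup B] (f : A →+ B)
    (hf : Function.Injective f) (ℓ : ℤ) [Finite (Submodule.torsionBy ℤ B ℓ)] :
    Nat.card (Submodule.torsionBy ℤ A ℓ) ≤ Nat.card (Submodule.torsionBy ℤ B ℓ) := by
  let g : Submodule.torsionBy ℤ A ℓ → Submodule.torsionBy ℤ B ℓ := fun x =>
    ⟨f x, by
      rw [Submodule.mem_torsionBy_iff, ← map_zsmul, (Submodule.mem_torsionBy_iff _ _).1 x.2,
        map_zero]⟩
  apply Nat.card_le_card_of_injective g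
  intro x y hxy
  apply Subtype.ext
  apply hf
  exact congrArg Subtype.val hxy

variable {n : ℕ}

instance (T : Models.NumericalType n) : Module.Finite ℤ T.Pic := by
  unfold NumericalType.Pic
  infer_instance

instance (T : Models.NumericalType n) : Module.Finite ℤ T.CokerA := by
  unfold NumericalType.CokerA
  infer_instance

theorem natCast_ne_zero_of_prime {ℓ : ℕ} (hℓ : ℓ.Prime) : (ℓ : ℤ) ≠ 0 := by
  exact_mod_cast hℓ.ne_zero

/-- one index: the Picard group is `ℤ`, hence torsion free -/
theorem card_torsion_one (T : Models.NumericalType 1) (ℓ : ℕ) (hℓ : ℓ.Prime) :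
    Nat.card (Submodule.torsionBy ℤ T.Pic (ℓ : ℤ)) = 1 := by
  have h0 : T.a 0 0 = 0 := by
    have h1 := NumType.row_sum T 0
    rw [Fin.sum_univ_one] at h1
    have := T.m_pos 0
    rcases mul_eq_zero.1 h1 with h | h
    · exact h
    · omega
  have hpic : T.picMatrix = 0 := by
    ext i j
    have hi : i = 0 := Subsingleton.elim _ _
    have hj : j = 0 := Subsingleton.elim _ _
    subst hi; subst hj
    show T.a 0 0 / T.w 0 = 0
    rw [h0, Int.zero_ediv]
  have hbot : LinearMap.range (Matrix.mulVecLin T.picMatrix) = ⊥ := by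
    rw [hpic]
    simp
  let e : T.Pic ≃ₗ[ℤ] ℤ := (Submodule.quotEquivOfEqBot _ hbot).trans
      (LinearEquiv.funUnique (Fin 1) ℤ ℤ)
  have hsub : Subsingleton (Submodule.torsionBy ℤ T.Pic (ℓ : ℤ)) := by
    refine ⟨fun x y => ?_⟩
    have hz : ∀ z : Submodule.torsionBy ℤ T.Pic (ℓ : ℤ), (z : T.Pic) = 0 := by
      intro z
      have h1 := (Submodule.mem_torsionBy_iff _ _).1 z.2
      have h2 : (ℓ : ℤ) • e (z : T.Pic) = 0 := by rw [← map_smul, h1, map_zero]
      rw [smul_eq_mul] at h2
      rcases mul_eq_zero.1 h2 with h | h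
      · exact absurd h (natCast_ne_zero_of_prime hℓ)
      · exact e.injective (by rw [h, map_zero])
    apply Subtype.ext
    rw [hz x, hz y]
  haveI := hsub
  exact Nat.card_unique

theorem toNat_topGenus (T : Models.NumericalType n) :
    T.topGenus.toNat = T.edgeCount + 1 - n := by
  unfold NumericalType.topGenus
  omega

/-- minimal case -/
theorem card_torsion_minimal (T : Models.NumericalType n) (hmin : T.IsMinimal)
    (hg : 2 ≤ T.genus) (ℓ : ℕ) (hℓ : ℓ.Prime) (hℓg : 768 * T.genus < ℓ) :
    Nat.card (Submodule.torsionBy ℤ T.Pic (ℓ : ℤ)) ≤ ℓ ^ T.topGenus.toNat ∧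
      T.topGenus ≤ T.genus := by
  by_cases hn : 1 < n
  · have h84 := Groth.Agent.S2184.result T hmin hg
    have hℓA : ∀ i j, T.a i j ≠ 0 → ¬ ((ℓ : ℤ) ∣ T.a i j) := by
      intro i j hij hdvd
      have h1 : (ℓ : ℤ) ≤ |T.a i j| :=
        Int.le_of_dvd (abs_pos.mpr hij) ((dvd_abs _ _).mpr hdvd)
      have h2 := h84 i j
      have h3 := T.m_pos i
      have h4 : |T.a i j| ≤ T.m i * |T.a i j| := by
        have := abs_nonneg (T.a i j)
        nlinarith
      linarith
    have hℓm : ∀ i, ¬ ((ℓ : ℤ) ∣ T.m i) := by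
      intro i hdvd
      have h1 : (ℓ : ℤ) ≤ T.m i := Int.le_of_dvd (T.m_pos i) hdvd
      have h2 := h84 i i
      have h3 := NumType.diag_neg T hn i
      have h4 : T.m i ≤ T.m i * |T.a i i| := by
        have : 1 ≤ |T.a i i| := by
          rw [abs_of_neg h3]
          omega
        have := T.m_pos i
        nlinarith
      linarith
    have h72 := Groth.Agent.S2172.result T.a T.m T.symm T.offDiag_nonneg T.m_pos T.mulVec_m
      T.connected ℓ hℓ hℓA hℓm
    obtain ⟨f, hf, -⟩ := Groth.Agent.S2179.result T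
    have : Finite (Submodule.torsionBy ℤ T.CokerA (ℓ : ℤ)) :=
      finite_torsionBy T.CokerA _ (natCast_ne_zero_of_prime hℓ)
    have hle := card_torsionBy_le f hf (ℓ : ℤ)
    refine ⟨?_, Groth.Agent.S2177.result T hmin hn⟩
    rw [toNat_topGenus]
    exact hle.trans h72
  · have hn1 : n = 1 := by have := T.pos; omega
    subst hn1
    refine ⟨?_, ?_⟩
    · rw [card_torsion_one T ℓ hℓ]
      exact Nat.one_le_pow _ _ hℓ.pos
    · unfold NumericalType.topGenus
      have : T.edgeCount = 0 := by
        unfold NumericalType.edgeCount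
        rw [Finset.card_eq_zero, Finset.filter_eq_empty_iff]
        rintro ⟨p1, p2⟩ _ ⟨h1, -⟩
        have : p1 = p2 := Subsingleton.elim _ _
        simp only at h1
        omega
      rw [this]
      push_cast
      linarith

theorem card_torsion_general : ∀ (n : ℕ) (T : Models.NumericalType n), 2 ≤ T.genus →
    ∀ (ℓ : ℕ), ℓ.Prime → 768 * T.genus < ℓ →
      Nat.card (Submodule.torsionBy ℤ T.Pic (ℓ : ℤ)) ≤ ℓ ^ T.genus.toNat
  | 0, T, _, _, _, _ => absurd T.pos (lt_irrefl 0)
  | (n + 1), T, hg, ℓ, hℓ, hℓg => by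
    by_cases hmin : T.IsMinimal
    · obtain ⟨h1, h2⟩ := card_torsion_minimal T hmin hg ℓ hℓ hℓg
      refine h1.trans (Nat.pow_le_pow_right hℓ.pos ?_)
      omega
    · unfold NumericalType.IsMinimal at hmin
      push Not at hmin
      obtain ⟨i, hi⟩ := hmin
      -- `n ≥ 1`, as a single index is never a `(-1)`-index
      obtain ⟨n, rfl⟩ : ∃ k, n = k + 1 := by
        rcases n with _ | k
        · exfalso
          haveI : Subsingleton (Fin (0 + 1)) := (inferInstance : Subsingleton (Fin 1))
          have h1 := NumType.row_sum T i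
          rw [Fintype.sum_subsingleton _ i] at h1
          have := T.m_pos i
          have := T.w_pos i
          have h2 := hi.2
          rcases mul_eq_zero.1 h1 with h | h <;> omega
        · exact ⟨k, rfl⟩
      let σ : Equiv.Perm (Fin (n + 2)) := Equiv.swap i (Fin.last (n + 1))
      let T₁ := permType T σ
      have h1 : T₁.IsMinusOne (Fin.last (n + 1)) := by
        rw [isMinusOne_permType]
        have : σ (Fin.last (n + 1)) = i := Equiv.swap_apply_right _ _
        rw [this]
        exact hi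
      obtain ⟨⟨T', hT'⟩, hgen⟩ := Groth.Agent.S2175.result T₁ h1
      have hg' : T'.genus = T.genus := by
        rw [hgen T' hT', genus_permType]
      have ih := card_torsion_general (n + 1) T' (by rw [hg']; exact hg) ℓ hℓ
        (by rw [hg']; exact hℓg)
      rw [hg'] at ih
      obtain ⟨f, hf, -⟩ := Groth.Agent.S2180.result T₁ h1 T' hT'
      have : Finite (Submodule.torsionBy ℤ T'.Pic (ℓ : ℤ)) :=
        finite_torsionBy T'.Pic _ (natCast_ne_zero_of_prime hℓ)
      have : Finite (Submodule.torsionBy ℤ T₁.Pic (ℓ : ℤ)) :=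
        finite_torsionBy T₁.Pic _ (natCast_ne_zero_of_prime hℓ)
      have hle1 := card_torsionBy_le f hf (ℓ : ℤ)
      have hle2 := card_torsionBy_le (picEquiv_permType T σ).toAddEquiv.toAddMonoidHom
        (picEquiv_permType T σ).injective (ℓ : ℤ)
      exact hle2.trans (hle1.trans ih)

end Groth.Agent.Lib.NumTypeTorsion
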