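import Groth.Agent.Lib.LocInjG88
import Groth.Prelude.Def_FlatCA

/-!
# Universal injectivity of multiplication by fibrewise nonzerodivisors (helper88)

Stacks 05FP-type consequences of Stacks 046Y (`LocInjG88`): `R → S` local, essentially of finite
presentation, `N` a finitely presented `S`-module flat over `R`.

* `toFiberMod_eq_zero_iff`: the kernel of `N → fiberMod 𝔪 S N` is `𝔪 N`.
* `univInj_lsmul`: multiplication by `s ∈ nzdFiber R S N` is universally injective over `R`.
* `univInj_mkLinearMap`: `N → Σ⁻¹ N` is universally injective over `R` (`Σ = nzdFiber R S N`).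
-/

set_option autoImplicit false
set_option maxHeartbeats 400000
set_option linter.style.haveILetI false
set_option linter.unusedSectionVars false

open TensorProduct Function

universe u

namespace Groth.Agent.Lib.NzdFiber88

attribute [local instance] Algebra.TensorProduct.rightAlgebra

section Fiber

variable {R S : Type u} [CommRing R] [IsLocalRing R] [CommRing S] [Algebra R S]
  (N : Type u) [AddCommGroup N] [Module S N] [Module R N] [IsScalarTower R S N]

theorem surjective_algebraMap_fiber :
    Surjective (algebraMap S ((IsLocalRing.maximalIdeal R).Fiber S)) := by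
  intro x
  obtain ⟨s, hs⟩ := TensorProduct.mk_surjective R S (IsLocalRing.maximalIdeal R).ResidueField
    (IsLocalRing.maximalIdeal R).algebraMap_residueField_surjective x
  exact ⟨s, hs⟩

theorem ker_algebraMap_fiber :
    RingHom.ker (algebraMap S ((IsLocalRing.maximalIdeal R).Fiber S)) =
      (IsLocalRing.maximalIdeal R).map (algebraMap R S) := by
  have h := Groth.Agent.Lib.DeformRing88.ker_eq_map_of_isPushout (R' := R)
    (R := (IsLocalRing.maximalIdeal R).ResidueField) (B' := S)
    (B := (IsLocalRing.maximalIdeal R).Fiber S)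
    (IsLocalRing.maximalIdeal R).algebraMap_residueField_surjective
  rw [h, Ideal.ker_algebraMap_residueField]

/-- The kernel of `N → fiberMod 𝔪 S N` is `𝔪 N`. -/
theorem toFiberMod_eq_zero_iff (x : N) :
    FlatCA.toFiberMod (IsLocalRing.maximalIdeal R) S N x = 0 ↔
      x ∈ (IsLocalRing.maximalIdeal R).map (algebraMap R S) • (⊤ : Submodule S N) := by
  have hbc : IsBaseChange ((IsLocalRing.maximalIdeal R).Fiber S)
      (TensorProduct.mk S ((IsLocalRing.maximalIdeal R).Fiber S) N 1) :=
    TensorProduct.isBaseChange S N ((IsLocalRing.maximalIdeal R).Fiber S)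
  have := Groth.Agent.Lib.CritFibA88.ker_of_isBaseChange (B := S)
    (Bb := (IsLocalRing.maximalIdeal R).Fiber S) (M := N)
    surjective_algebraMap_fiber
    (TensorProduct.mk S ((IsLocalRing.maximalIdeal R).Fiber S) N 1) hbc x
  rw [ker_algebraMap_fiber] at this
  exact this

end Fiber

section Comm

variable {R M M' : Type*} [CommRing R] [AddCommGroup M] [Module R M] [AddCommGroup M'] [Module R M']

theorem rTensor_injective_of_lTensor (f : M →ₗ[R] M') (Q : Type*) [AddCommGroup Q] [Module R Q]
    (h : Injective (f.lTensor Q)) : Injective (f.rTensor Q) := by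
  have : f.rTensor Q = (TensorProduct.comm R Q M').toLinearMap ∘ₗ f.lTensor Q ∘ₗ
      (TensorProduct.comm R M Q).toLinearMap := by
    apply TensorProduct.ext'
    intro m q
    simp
  rw [this]
  exact (TensorProduct.comm R Q M').injective.comp (h.comp (TensorProduct.comm R M Q).injective)

theorem lTensor_injective_of_rTensor (f : M →ₗ[R] M') (Q : Type*) [AddCommGroup Q] [Module R Q]
    (h : Injective (f.rTensor Q)) : Injective (f.lTensor Q) := by
  have : f.lTensor Q = (TensorProduct.comm R M' Q).toLinearMap ∘ₗ f.rTensor Q ∘ₗ
      (TensorProduct.comm R Q M).toLinearMap := by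
    apply TensorProduct.ext'
    intro q m
    simp
  rw [this]
  exact (TensorProduct.comm R M' Q).injective.comp (h.comp (TensorProduct.comm R Q M).injective)

end Comm

section Main

variable {R S : Type u} [CommRing R] [IsLocalRing R] [CommRing S] [IsLocalRing S] [Algebra R S]
  [IsLocalHom (algebraMap R S)]
  (N : Type u) [AddCommGroup N] [Module S N] [Module R N] [IsScalarTower R S N]
  [Module.FinitePresentation S N] [Module.Flat R N]

/-- Stacks 046Z: a fibrewise nonzerodivisor on `N` is a nonzerodivisor with `R`-flat cokernel. -/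
theorem injective_and_flat_lsmul (hS : CAlgX.IsEssFinitePresentation R S) (s : S)
    (hs : s ∈ FlatCA.nzdFiber R S N) :
    Injective (LinearMap.lsmul S N s) ∧
      Module.Flat R (N ⧸ LinearMap.range (LinearMap.lsmul S N s)) := by
  apply Groth.Agent.Lib.LocInjG88.injective_and_flat_of_essFP hS
  intro x hx
  rw [← toFiberMod_eq_zero_iff] at hx ⊢
  have h2 : s • FlatCA.toFiberMod (IsLocalRing.maximalIdeal R) S N x = 0 := by
    rw [← map_smul]
    exact hx
  exact (mem_nonZeroSMulDivisors_iff.mp hs) _ h2

theorem univInj_lsmul (hS : CAlgX.IsEssFinitePresentation R S) (s : S)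
    (hs : s ∈ FlatCA.nzdFiber R S N) :
    FlatCA.UnivInj R ((LinearMap.lsmul S N s).restrictScalars R) := by
  obtain ⟨hinj, hflat⟩ := injective_and_flat_lsmul N hS s hs
  intro Q _ _
  let π : N →ₗ[R] N ⧸ LinearMap.range (LinearMap.lsmul S N s) :=
    { toFun := Submodule.Quotient.mk
      map_add' := fun _ _ => rfl
      map_smul' := fun _ _ => rfl }
  have hπ : Surjective π := Submodule.Quotient.mk_surjective _
  have hex : Function.Exact ((LinearMap.lsmul S N s).restrictScalars R) π :=
    LinearMap.exact_map_mkQ_range (LinearMap.lsmul S N s)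
  exact LinearMap.lTensor_injective_of_exact_of_flat π hπ
    ((LinearMap.lsmul S N s).restrictScalars R) hinj hex Q

theorem univInj_mkLinearMap (hS : CAlgX.IsEssFinitePresentation R S) :
    FlatCA.UnivInj R
      ((LocalizedModule.mkLinearMap (FlatCA.nzdFiber R S N) N).restrictScalars R) := by
  intro Q _ _
  apply lTensor_injective_of_rTensor
  have hloc : IsLocalizedModule (FlatCA.nzdFiber R S N)
      (AlgebraTensorModule.rTensor R Q
        (LocalizedModule.mkLinearMap (FlatCA.nzdFiber R S N) N)) := inferInstance
  rw [injective_iff_map_eq_zero]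
  intro z hz
  have hz' : AlgebraTensorModule.rTensor R Q
      (LocalizedModule.mkLinearMap (FlatCA.nzdFiber R S N) N) z = 0 := hz
  obtain ⟨c, hc⟩ := (IsLocalizedModule.eq_zero_iff (FlatCA.nzdFiber R S N) _).mp hz'
  have hcz : ∀ w : N ⊗[R] Q,
      (c : S) • w = ((LinearMap.lsmul S N (c : S)).restrictScalars R).rTensor Q w := by
    intro w
    induction w with
    | zero => simp
    | add x y hx hy => rw [smul_add, map_add, hx, hy]
    | tmul n q => rfl
  have hinj := rTensor_injective_of_lTensor _ Q (univInj_lsmul N hS (c : S) c.2 Q)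
  apply hinj
  rw [map_zero, ← hcz z]
  exact hc

end Main

end Groth.Agent.Lib.NzdFiber88
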