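import Groth.Agent.Lib.RegSeqFlat64
import Groth.Agent.Lib.FibreLocIso64

set_option autoImplicit false
set_option maxHeartbeats 400000
set_option linter.style.haveILetI false
universe u
open TensorProduct RingTheory.Sequence
open scoped Pointwise

/-!
# Regular sequences on a fibre of a flat finitely presented module (helper64)

EGA IV 11.3.8 in the ring form `A → B` finitely presented, `M` a finitely presented `B`-module,
`q` a prime of `B` over `p`: if `M_q` is `A`-flat and `g` is a regular sequence on
`(M ⊗_A κ(p))_q` then `g` is regular on `M_q` and all `(M/(g₁,…,gᵢ)M)_q` are `A`-flat.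

* `isEssFinitePresentation_atPrime`: `B_q` is essentially of finite presentation over `A_p`.
* `main`: the statement above.
-/

namespace Groth.Agent.Lib.RegSeqFibre64

open Algebra in
/-- For `B` finitely presented over `A` and `q` a prime of `B` over `p`, the local ring `B_q` is
essentially of finite presentation over `A_p`. -/
theorem isEssFinitePresentation_atPrime {A B : Type u} [CommRing A] [CommRing B] [Algebra A B]
    [Algebra.FinitePresentation A B] (p : Ideal A) (q : Ideal B) [p.IsPrime] [q.IsPrime]
    [q.LiesOver p] :
    letI := Localization.AtPrime.algebraOfLiesOver p q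
    CAlgX.IsEssFinitePresentation (Localization.AtPrime p) (Localization.AtPrime q) := by
  let Rp := Localization.AtPrime p
  let Sp := Localization (algebraMapSubmonoid B p.primeCompl)
  let Sq := Localization.AtPrime q
  let := Localization.AtPrime.algebraOfLiesOver p q
  let f : Sp →ₐ[B] Sq := IsLocalization.liftAlgHom (M := algebraMapSubmonoid B p.primeCompl)
        (f := Algebra.ofId _ _) (by
      rintro ⟨_, x, hx, rfl⟩
      simpa using! IsLocalization.map_units (M := q.primeCompl) Sq ⟨algebraMap _ _ x,
        by simp_all [q.over_def p]⟩)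
  algebraize [f.toRingHom]
  have : IsScalarTower A Sp Sq := .to₁₃₄ _ B _ _
  have : IsScalarTower Rp Sp Sq := .of_algebraMap_eq' <| by
    apply IsLocalization.ringHom_ext p.primeCompl
    simp only [RingHom.comp_assoc, ← IsScalarTower.algebraMap_eq]
  have : IsLocalization (algebraMapSubmonoid Sp q.primeCompl) Sq :=
    .isLocalization_of_submonoid_le _ _ (algebraMapSubmonoid B p.primeCompl) _
    (by rintro _ ⟨x, hx, rfl⟩; simp_all [q.over_def p])
  have : FinitePresentation Rp Sp := by
    have : Algebra.IsPushout A Rp B Sp :=
      .symm <| Algebra.isPushout_of_isLocalization p.primeCompl _ _ _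
    exact .equiv (Algebra.IsPushout.equiv A Rp B Sp)
  exact ⟨Sp, inferInstance, inferInstance, inferInstance, inferInstance,
    algebraMapSubmonoid Sp q.primeCompl, inferInstance, inferInstance⟩

variable {A B : Type u} [CommRing A] [CommRing B] [Algebra A B] [Algebra.FinitePresentation A B]
  (M : Type u) [AddCommGroup M] [Module B M] [Module A M] [IsScalarTower A B M]
  [Module.FinitePresentation B M] (p : Ideal A) [p.IsPrime] (q : Ideal B) [q.IsPrime]
  [q.LiesOver p]


theorem main (g : List B) (hg : ∀ b ∈ g, b ∈ q)
    (hflat : Module.Flat A (LocalizedModule q.primeCompl M))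
    (hreg : IsRegular (LocalizedModule q.primeCompl (M ⊗[A] p.ResidueField)) g) :
    IsRegular (LocalizedModule q.primeCompl M) g ∧
      ∀ i ≤ g.length, Module.Flat A
        (LocalizedModule q.primeCompl
          (M ⧸ (Ideal.span {b | b ∈ g.take i} • (⊤ : Submodule B M)))) := by
  classical
  letI algRS : Algebra (Localization.AtPrime p) (Localization.AtPrime q) :=
    Localization.AtPrime.algebraOfLiesOver p q
  have hS := isEssFinitePresentation_atPrime (A := A) (B := B) p q
  haveI : IsLocalHom (algebraMap (Localization.AtPrime p) (Localization.AtPrime q)) :=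
    Localization.isLocalHom_localRingHom _ _ _ Ideal.LiesOver.over
  letI modRN : Module (Localization.AtPrime p) (LocalizedModule q.primeCompl M) :=
    Module.compHom _ (algebraMap (Localization.AtPrime p) (Localization.AtPrime q))
  have hsmR : ∀ (r : Localization.AtPrime p) (n : LocalizedModule q.primeCompl M),
      r • n = algebraMap (Localization.AtPrime p) (Localization.AtPrime q) r • n := fun _ _ => rfl
  haveI tRSN : IsScalarTower (Localization.AtPrime p) (Localization.AtPrime q)
      (LocalizedModule q.primeCompl M) := ⟨fun r s n => by
    rw [hsmR r (s • n), Algebra.smul_def, mul_smul]⟩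
  haveI tARN : IsScalarTower A (Localization.AtPrime p) (LocalizedModule q.primeCompl M) :=
    ⟨fun a r n => by
      rw [hsmR (a • r) n, hsmR r n, Algebra.smul_def, map_mul, mul_smul,
        ← IsScalarTower.algebraMap_apply A (Localization.AtPrime p) (Localization.AtPrime q),
        algebraMap_smul]⟩
  haveI flatRN : Module.Flat (Localization.AtPrime p) (LocalizedModule q.primeCompl M) :=
    (Module.flat_iff_of_isLocalization (Localization.AtPrime p) p.primeCompl _).mpr hflat
  -- fibre identification
  obtain ⟨e, he⟩ := Groth.Agent.Lib.FibreLocIso64.exists_addEquiv (A := A) (B := B)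
    (R := Localization.AtPrime p) (S := Localization.AtPrime q) p q
    (LocalizedModule.mkLinearMap q.primeCompl M)
    (LocalizedModule.mkLinearMap q.primeCompl (M ⊗[A] p.ResidueField))
  set gS := g.map (algebraMap B (Localization.AtPrime q)) with hgS
  have hF : List.Forall₂ (fun (r : B) (s : Localization.AtPrime q) => ∀ x, e (r • x) = s • e x)
      g gS :=
    List.forall₂_map_right_iff.mpr (List.forall₂_same.mpr fun r _ x => he r x)
  have hregS := (e.isRegular_congr hF).mp hreg
  obtain ⟨hw, hfl⟩ := Groth.Agent.Lib.RegSeqFlat64.isWeaklyRegular_and_flat hS gS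
    (LocalizedModule q.primeCompl M) hregS.toIsWeaklyRegular
  -- conclusion 1
  have hnt : Nontrivial (LocalizedModule q.primeCompl M) := by
    by_contra hn
    rw [not_nontrivial_iff_subsingleton] at hn
    exact hregS.top_ne_smul (Subsingleton.elim _ _)
  have hmem : ∀ r ∈ gS, r ∈ IsLocalRing.maximalIdeal (Localization.AtPrime q) := by
    intro r hr
    rw [hgS, List.mem_map] at hr
    obtain ⟨b, hb, rfl⟩ := hr
    exact (IsLocalization.AtPrime.to_map_mem_maximal_iff _ q b).mpr (hg b hb)
  have hregN : IsRegular (LocalizedModule q.primeCompl M) gS :=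
    (IsLocalRing.isRegular_iff_isWeaklyRegular_of_subset_maximalIdeal hmem).mpr hw
  have hF' : List.Forall₂ (fun (r : B) (s : Localization.AtPrime q) =>
      ∀ x, (AddEquiv.refl (LocalizedModule q.primeCompl M)) (r • x) =
        s • (AddEquiv.refl (LocalizedModule q.primeCompl M)) x) g gS :=
    List.forall₂_map_right_iff.mpr (List.forall₂_same.mpr fun r _ x =>
      (algebraMap_smul (Localization.AtPrime q) r x).symm)
  refine ⟨((AddEquiv.refl (LocalizedModule q.primeCompl M)).isRegular_congr hF').mpr hregN, ?_⟩
  -- conclusion 2
  intro i hi
  have hi' : i ≤ gS.length := by rw [hgS, List.length_map]; exact hi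
  have h1 := hfl i hi'
  have h2 : Module.Flat A (LocalizedModule q.primeCompl M ⧸
      (Ideal.ofList (gS.take i) • ⊤ :
        Submodule (Localization.AtPrime q) (LocalizedModule q.primeCompl M))) :=
    Module.Flat.trans A (Localization.AtPrime p) _
  have hloc : (Ideal.span {b | b ∈ g.take i} • (⊤ : Submodule B M)).localized q.primeCompl =
      (Ideal.ofList (gS.take i) • ⊤ :
        Submodule (Localization.AtPrime q) (LocalizedModule q.primeCompl M)) := by
    rw [Submodule.localized, Submodule.localized'_smul, Submodule.localized'_top]
    congr 1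
    rw [Ideal.span, Submodule.localized'_span, Ideal.ofList, Ideal.span]
    congr 1
    ext r
    simp only [hgS, ← List.map_take, List.mem_map, Set.mem_image, Set.mem_ofPred_eq,
      Algebra.linearMap_apply]
  exact Module.Flat.of_linearEquiv
    (((Submodule.quotEquivOfEq _ _ hloc.symm) ≪≫ₗ
      (localizedQuotientEquiv q.primeCompl
        (Ideal.span {b | b ∈ g.take i} • (⊤ : Submodule B M)))).restrictScalars A).symm

end Groth.Agent.Lib.RegSeqFibre64
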