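import Groth.Agent.Lib.HalfDisc16

/-!
# Orthogonal decomposition of forms of odd rank with unit half-discriminant over local rings (helper16)

`exists_basis_zero_eq` (a vector with a unit coordinate is the first vector of a basis), `exists_basis_orth_of_isUnit_two_mul`,
`exists_basis_orth_of_isUnit_det` (orthogonalisation by transvections), `isUnit_of_orth`, `det_mem_of_forall_mem`,
`exists_orth_basis_of_isUnit_two`, `exists_orth_basis_of_not_isUnit_two`, `exists_orth_basis` (local ring, `halfDisc` a unit:
a basis `b'` with `b' 0 ⟂ b' j.succ`, `Q (b' 0)` a unit and the polar matrix of the `b' j.succ` invertible).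
-/

set_option autoImplicit false
set_option linter.style.haveILetI false
set_option linter.unusedSectionVars false
set_option linter.unusedSimpArgs false
set_option linter.unusedVariables false

namespace Groth.Agent.Lib.OddDecomp16
open QuadraticMap Groth.Agent.Lib.HalfDisc16

universe u v
variable {R : Type u} [CommRing R] {M : Type v} [AddCommGroup M] [Module R M] {k : ℕ}

/-- a vector with a unit coordinate is the first vector of some basis. -/
theorem exists_basis_zero_eq (b : Module.Basis (Fin (k + 1)) R M) (v : M) (i₀ : Fin (k + 1))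
    (hv : IsUnit (b.repr v i₀)) : ∃ b' : Module.Basis (Fin (k + 1)) R M, b' 0 = v := by
  classical
  have hdet : IsUnit (b.det (Function.update b i₀ v)) := by
    rw [Module.Basis.det_apply, Module.Basis.toMatrix_update, Module.Basis.toMatrix_self,
      ← Matrix.cramer_apply, Matrix.cramer_one]
    exact hv
  obtain ⟨hli, hsp⟩ := (b.is_basis_iff_det).2 hdet
  let bz : Module.Basis (Fin (k + 1)) R M := Module.Basis.mk hli hsp.ge
  refine ⟨bz.reindex (Equiv.swap 0 i₀), ?_⟩
  rw [Module.Basis.reindex_apply, Equiv.symm_swap, Equiv.swap_apply_left, Module.Basis.mk_apply,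
    Function.update_self]

/-- orthogonalise the other basis vectors against the first one (when `2 Q (b 0)` is a unit). -/
theorem exists_basis_orth_of_isUnit_two_mul (Q : QuadraticForm R M)
    (b : Module.Basis (Fin (k + 1)) R M) (h : IsUnit (2 * Q (b 0))) :
    ∃ b' : Module.Basis (Fin (k + 1)) R M, b' 0 = b 0 ∧
      ∀ j : Fin k, polar Q (b' 0) (b' j.succ) = 0 := by
  obtain ⟨u, hu⟩ := h
  -- the functional `x ↦ -(polar (b 0) x_tail) / (2 Q (b 0))`, killing `b 0`
  let lam : Module.Dual R M := b.constr R (fun i : Fin (k + 1) =>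
    Fin.cases (0 : R) (fun j => -(↑u⁻¹ : R) * polar Q (b 0) (b j.succ)) i)
  have hlam0 : lam (b 0) = 0 := by
    simp [lam, Module.Basis.constr_basis]
  have hlams : ∀ j : Fin k, lam (b j.succ) = -(↑u⁻¹ : R) * polar Q (b 0) (b j.succ) := by
    intro j
    simp [lam, Module.Basis.constr_basis]
  let g : M ≃ₗ[R] M := LinearEquiv.transvection (f := lam) (v := b 0) hlam0
  refine ⟨b.map g, ?_, fun j => ?_⟩
  · rw [Module.Basis.map_apply, LinearEquiv.transvection.apply, hlam0, zero_smul, add_zero]
  · rw [Module.Basis.map_apply, Module.Basis.map_apply, LinearEquiv.transvection.apply,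
      LinearEquiv.transvection.apply, hlam0, zero_smul, add_zero, hlams, polar_add_right,
      polar_smul_right, polar_self, smul_eq_mul]
    have : (↑u⁻¹ : R) * (u : R) = 1 := Units.inv_mul u
    rw [hu] at this
    rw [nsmul_eq_mul]
    push_cast
    linear_combination (-(polar Q (b 0) (b j.succ))) * this

end Groth.Agent.Lib.OddDecomp16

namespace Groth.Agent.Lib.OddDecomp16
open QuadraticMap Groth.Agent.Lib.HalfDisc16

universe u v
variable {R : Type u} [CommRing R] {M : Type v} [AddCommGroup M] [Module R M] {k : ℕ}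

/-- orthogonalise the first basis vector against the others (when their polar matrix is invertible). -/
theorem exists_basis_orth_of_isUnit_det (Q : QuadraticForm R M)
    (b : Module.Basis (Fin (k + 1)) R M)
    (h : IsUnit (gramFam Q (fun j : Fin k => b j.succ)).det) :
    ∃ b' : Module.Basis (Fin (k + 1)) R M, (∀ j : Fin k, b' j.succ = b j.succ) ∧
      ∀ j : Fin k, polar Q (b' 0) (b' j.succ) = 0 := by
  classical
  set G := gramFam Q (fun j : Fin k => b j.succ) with hG
  let p : Fin k → R := fun j => polar Q (b 0) (b j.succ)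
  let c : Fin k → R := G⁻¹.mulVec p
  have hGc : G.mulVec c = p := by
    simp only [c]
    rw [Matrix.mulVec_mulVec, Matrix.mul_nonsing_inv _ h, Matrix.one_mulVec]
  let w : M := ∑ j, c j • b j.succ
  have hcoord : (b.coord 0) (-w) = 0 := by
    simp only [w, map_neg, map_sum, map_smul, Module.Basis.coord_apply, Module.Basis.repr_self]
    simp [Finsupp.single_apply, Fin.succ_ne_zero]
  let g : M ≃ₗ[R] M := LinearEquiv.transvection (f := b.coord 0) (v := -w) hcoord
  have hg0 : g (b 0) = b 0 - w := by
    rw [LinearEquiv.transvection.apply, Module.Basis.coord_apply, Module.Basis.repr_self,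
      Finsupp.single_eq_same, one_smul, sub_eq_add_neg]
  have hgs : ∀ j : Fin k, g (b j.succ) = b j.succ := by
    intro j
    rw [LinearEquiv.transvection.apply, Module.Basis.coord_apply, Module.Basis.repr_self,
      Finsupp.single_eq_of_ne (Fin.succ_ne_zero j).symm, zero_smul, add_zero]
  refine ⟨b.map g, fun j => by rw [Module.Basis.map_apply, hgs], fun l => ?_⟩
  rw [Module.Basis.map_apply, Module.Basis.map_apply, hg0, hgs, polar_sub_left]
  have h1 : polar Q w (b l.succ) = G.mulVec c l := by
    simp only [w, Matrix.mulVec, dotProduct, hG, gramFam, Matrix.of_apply]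
    rw [← polarBilin_apply_apply, map_sum, LinearMap.sum_apply]
    refine Finset.sum_congr rfl (fun j _ => ?_)
    rw [map_smul, LinearMap.smul_apply, polarBilin_apply_apply, smul_eq_mul, mul_comm,
      polar_comm]
  rw [h1, hGc]
  simp [p]

end Groth.Agent.Lib.OddDecomp16

namespace Groth.Agent.Lib.OddDecomp16
open QuadraticMap Groth.Agent.Lib.HalfDisc16

universe u v
variable {R : Type u} [CommRing R] {M : Type v} [AddCommGroup M] [Module R M]

/-- final step: an orthogonal basis has unit value and unit polar determinant. -/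
theorem isUnit_of_orth (m : ℕ) (b b' : Module.Basis (Fin (2 * m + 1)) R M) (Q : QuadraticForm R M)
    (hQ : IsUnit (QuadGrp.halfDisc b (LinearEquiv.refl R R) Q))
    (horth : ∀ j : Fin (2 * m), polar Q (b' 0) (b' j.succ) = 0) :
    IsUnit (Q (b' 0)) ∧ IsUnit (gramFam Q (fun j : Fin (2 * m) => b' j.succ)).det := by
  have h1 := (isUnit_halfDisc_iff m b b' Q).2 hQ
  rw [halfDisc_eq_mul ⟨m, rfl⟩ b' Q horth] at h1
  exact IsUnit.mul_iff.1 h1

theorem det_mem_of_forall_mem {n : ℕ} (I : Ideal R) (hI : I ≠ ⊤) (P : Matrix (Fin (n + 1)) (Fin (n + 1)) R)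
    (h : ∀ i j, P i j ∈ I) : P.det ∈ I := by
  have h0 : P.map (Ideal.Quotient.mk I) = 0 := by
    ext i j
    simp only [Matrix.map_apply, Matrix.zero_apply]
    exact Ideal.Quotient.eq_zero_iff_mem.2 (h i j)
  have := RingHom.map_det (Ideal.Quotient.mk I) P
  rw [RingHom.mapMatrix_apply, h0, Matrix.det_zero] at this
  exact Ideal.Quotient.eq_zero_iff_mem.1 this

/-- Case A: `2` is a unit. -/
theorem exists_orth_basis_of_isUnit_two [IsLocalRing R] (h2 : IsUnit (2 : R)) (m : ℕ)
    (b : Module.Basis (Fin (2 * m + 1)) R M) (Q : QuadraticForm R M)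
    (hQ : IsUnit (QuadGrp.halfDisc b (LinearEquiv.refl R R) Q)) :
    ∃ b' : Module.Basis (Fin (2 * m + 1)) R M, ∀ j : Fin (2 * m), polar Q (b' 0) (b' j.succ) = 0 := by
  classical
  -- a vector with unit value and a unit coordinate
  have hv : ∃ (v : M) (i₀ : Fin (2 * m + 1)), IsUnit (b.repr v i₀) ∧ IsUnit (Q v) := by
    by_cases hd : ∃ i, IsUnit (Q (b i))
    · obtain ⟨i, hi⟩ := hd
      exact ⟨b i, i, by simp, hi⟩
    · push Not at hd
      have hdm : ∀ i, Q (b i) ∈ IsLocalRing.maximalIdeal R := fun i =>
        (IsLocalRing.mem_maximalIdeal _).2 (hd i)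
      by_cases ho : ∃ i j, i ≠ j ∧ IsUnit (polar Q (b i) (b j))
      · obtain ⟨i, j, hij, hu⟩ := ho
        refine ⟨b i + b j, i, ?_, ?_⟩
        · rw [map_add, Finsupp.add_apply, Module.Basis.repr_self, Module.Basis.repr_self,
            Finsupp.single_eq_same, Finsupp.single_eq_of_ne hij, add_zero]
          exact isUnit_one
        · by_contra hcon
          have h1 : Q (b i + b j) ∈ IsLocalRing.maximalIdeal R :=
            (IsLocalRing.mem_maximalIdeal _).2 hcon
          have h3 : polar Q (b i) (b j) ∈ IsLocalRing.maximalIdeal R := by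
            rw [polar]
            exact Ideal.sub_mem _ (Ideal.sub_mem _ h1 (hdm i)) (hdm j)
          exact (IsLocalRing.mem_maximalIdeal _).1 h3 hu
      · push Not at ho
        exfalso
        have hall : ∀ i j, gramFam Q b i j ∈ IsLocalRing.maximalIdeal R := by
          intro i j
          simp only [gramFam, Matrix.of_apply]
          by_cases hij : i = j
          · subst hij
            rw [polar_self, nsmul_eq_mul]
            exact Ideal.mul_mem_left _ _ (hdm i)
          · exact (IsLocalRing.mem_maximalIdeal _).2 (ho i j hij)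
        have hdet := det_mem_of_forall_mem (IsLocalRing.maximalIdeal R)
          (IsLocalRing.maximalIdeal.isMaximal R).ne_top (gramFam Q b) hall
        rw [← two_mul_halfDisc ⟨m, rfl⟩ b Q] at hdet
        exact (IsLocalRing.mem_maximalIdeal _).1 hdet (h2.mul hQ)
  obtain ⟨v, i₀, hi₀, hQv⟩ := hv
  obtain ⟨b1, hb1⟩ := exists_basis_zero_eq b v i₀ hi₀
  obtain ⟨b2, -, horth⟩ := exists_basis_orth_of_isUnit_two_mul Q b1 (by rw [hb1]; exact h2.mul hQv)
  exact ⟨b2, horth⟩

end Groth.Agent.Lib.OddDecomp16

namespace Groth.Agent.Lib.OddDecomp16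
open QuadraticMap Groth.Agent.Lib.HalfDisc16

universe u v
variable {R : Type u} [CommRing R] {M : Type v} [AddCommGroup M] [Module R M]

/-- Case B: `2` is not a unit. -/
theorem exists_orth_basis_of_not_isUnit_two [IsLocalRing R] (h2 : ¬ IsUnit (2 : R)) (m : ℕ)
    (b : Module.Basis (Fin (2 * m + 1)) R M) (Q : QuadraticForm R M)
    (hQ : IsUnit (QuadGrp.halfDisc b (LinearEquiv.refl R R) Q)) :
    ∃ b' : Module.Basis (Fin (2 * m + 1)) R M, ∀ j : Fin (2 * m), polar Q (b' 0) (b' j.succ) = 0 := by
  classical
  have h2m : (2 : R) ∈ IsLocalRing.maximalIdeal R := (IsLocalRing.mem_maximalIdeal _).2 h2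
  set P := gramFam Q b with hP
  have hsymm : ∀ i j, P i j = P j i := fun i j => by
    simp only [hP, gramFam, Matrix.of_apply]; exact polar_comm _ _ _
  let res := IsLocalRing.residue R
  have hdet : (P.map res).det = 0 := by
    rw [← RingHom.mapMatrix_apply, ← RingHom.map_det, ← two_mul_halfDisc ⟨m, rfl⟩ b Q, map_mul]
    have : res 2 = 0 := (IsLocalRing.residue_eq_zero_iff _).2 h2m
    rw [this, zero_mul]
  obtain ⟨w, hw0, hw⟩ := Matrix.exists_mulVec_eq_zero_iff.2 hdet
  have hsurj : Function.Surjective res := IsLocalRing.residue_surjective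
  choose lift hlift using hsurj
  let v : M := ∑ i, lift (w i) • b i
  obtain ⟨i₀, hi₀⟩ : ∃ i, w i ≠ 0 := by
    by_contra hcon
    push Not at hcon
    exact hw0 (funext hcon)
  have hrepr : b.repr v i₀ = lift (w i₀) := by
    simp only [v, map_sum, map_smul, Module.Basis.repr_self, Finsupp.coe_finsetSum, Finset.sum_apply,
      Finsupp.smul_apply, Finsupp.single_apply, smul_eq_mul, mul_ite, mul_one, mul_zero,
      Finset.sum_ite_eq', Finset.mem_univ, if_true]
  have hunit : IsUnit (b.repr v i₀) := by
    rw [hrepr]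
    by_contra hcon
    have := (IsLocalRing.residue_eq_zero_iff _).2 ((IsLocalRing.mem_maximalIdeal _).2 hcon)
    rw [hlift] at this
    exact hi₀ this
  have hpol : ∀ j, polar Q v (b j) ∈ IsLocalRing.maximalIdeal R := by
    intro j
    rw [← IsLocalRing.residue_eq_zero_iff]
    have h1 : polar Q v (b j) = ∑ i, lift (w i) * P i j := by
      simp only [v, hP, gramFam, Matrix.of_apply]
      rw [← polarBilin_apply_apply, map_sum, LinearMap.sum_apply]
      refine Finset.sum_congr rfl (fun i _ => ?_)
      rw [map_smul, LinearMap.smul_apply, polarBilin_apply_apply, smul_eq_mul]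
    rw [h1, map_sum]
    have h2' := congrFun hw j
    simp only [Matrix.mulVec, dotProduct, Matrix.map_apply, Pi.zero_apply] at h2'
    rw [← h2']
    refine Finset.sum_congr rfl (fun i _ => ?_)
    rw [map_mul, hlift, hsymm i j, mul_comm]
  have hpol' : ∀ x : M, polar Q v x ∈ IsLocalRing.maximalIdeal R := by
    intro x
    rw [← b.sum_repr x, ← polarBilin_apply_apply, map_sum]
    refine Ideal.sum_mem _ (fun j _ => ?_)
    rw [map_smul, smul_eq_mul, polarBilin_apply_apply]
    exact Ideal.mul_mem_left _ _ (hpol j)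
  obtain ⟨b1, hb1⟩ := exists_basis_zero_eq b v i₀ hunit
  have hmem := halfDisc_sub_mem (IsLocalRing.maximalIdeal R) ⟨m, rfl⟩ b1 Q
    (fun j => by rw [hb1]; exact hpol' _)
  have hu1 : IsUnit (QuadGrp.halfDisc b1 (LinearEquiv.refl R R) Q) :=
    (isUnit_halfDisc_iff m b b1 Q).2 hQ
  have hprod : IsUnit (Q (b1 0) * (gramFam Q (fun j : Fin (2 * m) => b1 j.succ)).det) := by
    by_contra hcon
    have h3 := (IsLocalRing.mem_maximalIdeal _).2 hcon
    have h4 := Ideal.add_mem _ hmem h3
    rw [sub_add_cancel] at h4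
    exact (IsLocalRing.mem_maximalIdeal _).1 h4 hu1
  obtain ⟨b2, -, horth⟩ := exists_basis_orth_of_isUnit_det Q b1 (IsUnit.mul_iff.1 hprod).2
  exact ⟨b2, horth⟩

/-- **Orthogonal decomposition over a local ring**: a form of odd rank with unit half-discriminant has a basis whose first
vector is orthogonal to the others, has unit value, and the others span a regular form. -/
theorem exists_orth_basis [IsLocalRing R] (m : ℕ)
    (b : Module.Basis (Fin (2 * m + 1)) R M) (Q : QuadraticForm R M)
    (hQ : IsUnit (QuadGrp.halfDisc b (LinearEquiv.refl R R) Q)) :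
    ∃ b' : Module.Basis (Fin (2 * m + 1)) R M,
      (∀ j : Fin (2 * m), polar Q (b' 0) (b' j.succ) = 0) ∧ IsUnit (Q (b' 0)) ∧
        IsUnit (gramFam Q (fun j : Fin (2 * m) => b' j.succ)).det := by
  by_cases h2 : IsUnit (2 : R)
  · obtain ⟨b', horth⟩ := exists_orth_basis_of_isUnit_two h2 m b Q hQ
    exact ⟨b', horth, isUnit_of_orth m b b' Q hQ horth⟩
  · obtain ⟨b', horth⟩ := exists_orth_basis_of_not_isUnit_two h2 m b Q hQ
    exact ⟨b', horth, isUnit_of_orth m b b' Q hQ horth⟩

end Groth.Agent.Lib.OddDecomp16
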