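import Groth.Agent.Lib.Apolar38
import Mathlib.LinearAlgebra.Matrix.MvPolynomial
import Mathlib.LinearAlgebra.Matrix.Determinant.Basic
import Mathlib.Algebra.MvPolynomial.Funext
import Mathlib.Algebra.CharZero.Infinite

/-!
# Cayley's Ω-process on the polynomial ring of square matrices (helper38)

`rsub g f = f(X g)`; chain rule; `Ω = det(∂)`; `Ω (rsub g f) = det g • rsub g (Ω f)`;
Cayley's identity with an unspecified constant `Ω det^(s+1) = b det^s`; the functionals
`J r f = B(det^r, f)/B(det^r, det^r)` with `J (r+1) (det f) = J r f` and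
`J r (rsub g f) = det g ^ r * J r f`.  Mathlib-only.
-/

set_option autoImplicit false
set_option linter.unusedSimpArgs false
universe u v
open MvPolynomial Matrix

namespace Groth.Agent.Lib.Omega38
open Groth.Agent.Lib.Apolar38

section Ring
variable {m : Type u} [Fintype m] [DecidableEq m] {R : Type v} [CommRing R]

/-- `f(X) ↦ f(X g)` -/
noncomputable def rsub (g : Matrix m m R) : MvPolynomial (m × m) R →ₐ[R] MvPolynomial (m × m) R :=
  aeval fun p : m × m => ∑ l, X (p.1, l) * C (g l p.2)

@[simp] theorem rsub_X (g : Matrix m m R) (i j : m) :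
    rsub g (X (i, j)) = ∑ l, X (i, l) * C (g l j) := by
  simp [rsub]

theorem pderiv_rsub_X (g : Matrix m m R) (i j a b : m) :
    pderiv (i, j) (rsub g (X (a, b))) = if i = a then C (g j b) else 0 := by
  rw [rsub_X, map_sum]
  simp only [Derivation.leibniz, pderiv_C, smul_zero, zero_add, pderiv_X, smul_eq_mul]
  by_cases h : i = a
  · subst h
    rw [if_pos rfl, Finset.sum_eq_single j]
    · simp
    · intro l _ hl
      have : (i, j) ≠ (i, l) := fun hh => hl (Prod.ext_iff.mp hh).2.symm
      simp [Pi.single_apply, this.symm]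
    · intro hj; exact absurd (Finset.mem_univ j) hj
  · rw [if_neg h]
    apply Finset.sum_eq_zero
    intro l _
    have : (a, l) ≠ (i, j) := fun hh => h (Prod.ext_iff.mp hh).1.symm
    simp [Pi.single_apply, this]

theorem pderiv_X_pair (i l a b : m) : pderiv (i, l) (X (a, b) : MvPolynomial (m × m) R) =
    if i = a ∧ l = b then 1 else 0 := by
  rw [pderiv_X, Pi.single_apply]
  congr 1
  simp [Prod.ext_iff, eq_comm]

/-- the chain rule for the linear substitution `X ↦ X g` -/
theorem pderiv_rsub (g : Matrix m m R) (i j : m) (f : MvPolynomial (m × m) R) :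
    pderiv (i, j) (rsub g f) = ∑ l, g j l • rsub g (pderiv (i, l) f) := by
  induction f using MvPolynomial.induction_on with
  | C a => simp [rsub]
  | add p q hp hq => simp only [map_add, hp, hq, smul_add, Finset.sum_add_distrib]
  | mul_X p ab hp =>
    obtain ⟨a, b⟩ := ab
    have e1 : ∀ l, pderiv (i, l) (p * X (a, b)) =
        pderiv (i, l) p * X (a, b) + p * (if i = a ∧ l = b then 1 else 0) := by
      intro l
      rw [pderiv_mul, pderiv_X_pair]
    simp only [e1]
    rw [map_mul, pderiv_mul, hp, pderiv_rsub_X]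
    simp only [map_add, map_mul, smul_add, Finset.sum_add_distrib]
    congr 1
    · rw [Finset.sum_mul]
      apply Finset.sum_congr rfl
      intro l _
      rw [smul_mul_assoc]
    · by_cases h : i = a
      · subst h
        rw [if_pos rfl, Finset.sum_eq_single b]
        · simp [Algebra.smul_def, mul_comm]
        · intro l _ hl
          simp [hl]
        · intro hb; exact absurd (Finset.mem_univ b) hb
      · rw [if_neg h, mul_zero]
        symm
        apply Finset.sum_eq_zero
        intro l _
        simp [h]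

/-- the chain rule for constant-coefficient operators -/
theorem dopE_rsub (g : Matrix m m R) (P : MvPolynomial (m × m) R) :
    ∀ f : MvPolynomial (m × m) R, dopE P (rsub g f) = rsub g (dopE (rsub gᵀ P) f) := by
  induction P using MvPolynomial.induction_on with
  | C c =>
    intro f
    have : rsub gᵀ (C c) = (C c : MvPolynomial (m × m) R) := by simp [rsub]
    rw [this, dopE_C]
    simp
  | add p q hp hq =>
    intro f
    rw [map_add, dopE_add, dopE_add, LinearMap.add_apply, LinearMap.add_apply, hp, hq, map_add]
  | mul_X p ij hp =>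
    intro f
    obtain ⟨i, j⟩ := ij
    rw [map_mul, dopE_mul_apply, dopE_mul_apply, dopE_X, pdEnd_apply, pderiv_rsub, map_sum, rsub_X,
      dopE_sum, LinearMap.sum_apply, map_sum, map_sum]
    apply Finset.sum_congr rfl
    intro l _
    rw [map_smul, hp, mul_comm (X (i, l)), dopE_mul_apply, dopE_C, dopE_X, transpose_apply]
    simp

variable (m R) in
/-- the generic determinant -/
noncomputable def detP : MvPolynomial (m × m) R := (mvPolynomialX m m R).det

theorem rsub_mapMatrix (g : Matrix m m R) :
    (rsub g).mapMatrix (mvPolynomialX m m R) = mvPolynomialX m m R * g.map C := by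
  ext i j
  simp [Matrix.mul_apply, mvPolynomialX]

theorem rsub_detP (g : Matrix m m R) : rsub g (detP m R) = C g.det * detP m R := by
  rw [detP, AlgHom.map_det, rsub_mapMatrix, det_mul, mul_comm]
  congr 1
  rw [RingHom.map_det]
  rfl

theorem rsub_detP_pow (g : Matrix m m R) (s : ℕ) :
    rsub g (detP m R ^ s) = C (g.det ^ s) * detP m R ^ s := by
  rw [map_pow, rsub_detP, mul_pow, map_pow]

variable (m R) in
/-- Cayley's operator `Ω = det(∂)` -/
noncomputable def Omega : Module.End R (MvPolynomial (m × m) R) := dopE (detP m R)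

theorem Omega_rsub (g : Matrix m m R) (f : MvPolynomial (m × m) R) :
    Omega m R (rsub g f) = g.det • rsub g (Omega m R f) := by
  rw [Omega, dopE_rsub, rsub_detP, det_transpose, dopE_mul, dopE_C]
  simp

theorem coeff_zero_rsub (g : Matrix m m R) (f : MvPolynomial (m × m) R) :
    coeff 0 (rsub g f) = coeff 0 f := by
  have h : (aeval (0 : m × m → R) : MvPolynomial (m × m) R →ₐ[R] R).comp (rsub g) =
      aeval (0 : m × m → R) := by
    apply MvPolynomial.algHom_ext
    intro p
    simp [rsub]
  have h2 := AlgHom.congr_fun h f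
  simpa [constantCoeff_eq] using h2

/-- the apolar pairing is compatible with linear substitutions -/
theorem B_rsub (g : Matrix m m R) (P f : MvPolynomial (m × m) R) :
    B P (rsub g f) = B (rsub gᵀ P) f := by
  rw [B_eq_coeff_zero, dopE_rsub, coeff_zero_rsub, ← B_eq_coeff_zero]

theorem B_detP_pow_rsub (g : Matrix m m R) (r : ℕ) (f : MvPolynomial (m × m) R) :
    B (detP m R ^ r) (rsub g f) = g.det ^ r * B (detP m R ^ r) f := by
  rw [B_rsub, rsub_detP_pow, det_transpose, B_C_mul]

theorem B_detP_mul (P f : MvPolynomial (m × m) R) :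
    B (detP m R * P) f = B P (Omega m R f) := B_mul_left _ _ _

/-- evaluation at a matrix -/
noncomputable def evalMat (g : Matrix m m R) : MvPolynomial (m × m) R →ₐ[R] R :=
  aeval fun p : m × m => g p.1 p.2

theorem evalMat_detP (g : Matrix m m R) : evalMat g (detP m R) = g.det := by
  rw [detP, evalMat, AlgHom.map_det, mvPolynomialX_mapMatrix_aeval]

theorem evalMat_one_rsub (g : Matrix m m R) (f : MvPolynomial (m × m) R) :
    evalMat 1 (rsub g f) = evalMat g f := by
  have h : (evalMat (1 : Matrix m m R)).comp (rsub g) = evalMat g := by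
    apply MvPolynomial.algHom_ext
    rintro ⟨i, j⟩
    rw [AlgHom.comp_apply, rsub_X, map_sum]
    simp [evalMat, Matrix.one_apply]
  exact AlgHom.congr_fun h f

theorem map_detP {S : Type*} [CommRing S] (φ : R →+* S) : map φ (detP m R) = detP m S := by
  rw [detP, detP, RingHom.map_det]
  congr 1
  ext i j
  simp [mvPolynomialX]

end Ring

section Field
variable {m : Type u} [Fintype m] [DecidableEq m] {k : Type v} [Field k]

/-- Cayley's identity with an unspecified constant -/
theorem exists_Omega_detP_pow [Infinite k] (s : ℕ) :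
    ∃ b : k, Omega m k (detP m k ^ (s + 1)) = C b * detP m k ^ s := by
  set q := Omega m k (detP m k ^ (s + 1)) with hq
  refine ⟨evalMat 1 q, ?_⟩
  have hdet : detP m k ≠ 0 := det_mvPolynomialX_ne_zero m k
  apply mul_right_cancel₀ hdet
  apply MvPolynomial.funext
  intro x
  set g : Matrix m m k := Matrix.of fun i j => x (i, j) with hg
  have hx : ∀ p : MvPolynomial (m × m) k, eval x p = evalMat g p := by
    intro p
    rw [evalMat, ← aeval_eq_eval]
    rfl
  rw [hx, hx, map_mul, map_mul, map_mul, evalMat_detP, map_pow, evalMat_detP]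
  by_cases hd : g.det = 0
  · rw [hd, mul_zero, mul_zero]
  · have h1 := Omega_rsub g (detP m k ^ (s + 1))
    rw [rsub_detP_pow, ← hq] at h1
    have h2 : Omega m k (C (g.det ^ (s + 1)) * detP m k ^ (s + 1)) = g.det ^ (s + 1) • q := by
      rw [C_mul', map_smul]
    rw [h2] at h1
    have h3 := congrArg (evalMat (1 : Matrix m m k)) h1
    rw [map_smul, map_smul, evalMat_one_rsub, smul_eq_mul, smul_eq_mul] at h3
    have h4 : evalMat g q = g.det ^ s * evalMat 1 q := by
      apply mul_left_cancel₀ hd
      rw [← h3]
      ring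
    rw [h4]
    simp only [evalMat, aeval_C, Algebra.algebraMap_self, RingHom.id_apply]
    ring

variable (m k) in
/-- `B(det^r, det^r)` -/
noncomputable def cc (r : ℕ) : k := B (detP m k ^ r) (detP m k ^ r)

theorem cc_ne_zero [CharZero k] (r : ℕ) : cc m k r ≠ 0 := by
  have h1 : detP m k ^ r = map (Int.castRingHom k) (detP m ℤ ^ r) := by
    rw [map_pow, map_detP]
  rw [cc, h1, B_map]
  have h2 : detP m ℤ ^ r ≠ 0 := pow_ne_zero _ (det_mvPolynomialX_ne_zero m ℤ)
  have h3 := B_self_pos h2
  simpa using h3.ne'

variable (m k) in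
/-- the normalised functional `f ↦ B(det^r, f)/B(det^r, det^r)` -/
noncomputable def J (r : ℕ) : MvPolynomial (m × m) k →ₗ[k] k := (cc m k r)⁻¹ • B (detP m k ^ r)

theorem J_apply (r : ℕ) (f : MvPolynomial (m × m) k) :
    J m k r f = (cc m k r)⁻¹ * B (detP m k ^ r) f := rfl

theorem J_detP_pow [CharZero k] (r : ℕ) : J m k r (detP m k ^ r) = 1 := by
  rw [J_apply]
  exact inv_mul_cancel₀ (cc_ne_zero r)

theorem J_zero_one [CharZero k] : J m k 0 1 = 1 := by
  have := J_detP_pow (m := m) (k := k) 0
  simpa using this

theorem J_rsub (r : ℕ) (g : Matrix m m k) (f : MvPolynomial (m × m) k) :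
    J m k r (rsub g f) = g.det ^ r * J m k r f := by
  rw [J_apply, J_apply, B_detP_pow_rsub]
  ring

theorem J_succ_detP_mul [CharZero k] (r : ℕ) (f : MvPolynomial (m × m) k) :
    J m k (r + 1) (detP m k * f) = J m k r f := by
  obtain ⟨b, hb⟩ := exists_Omega_detP_pow (m := m) (k := k) r
  have key : ∀ f : MvPolynomial (m × m) k,
      B (detP m k ^ (r + 1)) (detP m k * f) = b * B (detP m k ^ r) f := by
    intro f
    rw [B_comm, B_detP_mul, hb, B_comm, B_C_mul]
  have hc : cc m k (r + 1) = b * cc m k r := by
    have := key (detP m k ^ r)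
    rwa [← pow_succ'] at this
  have hb0 : b ≠ 0 := by
    intro h0
    apply cc_ne_zero (m := m) (k := k) (r + 1)
    rw [hc, h0, zero_mul]
  rw [J_apply, J_apply, key, hc, mul_inv, mul_comm b⁻¹, mul_assoc, ← mul_assoc b⁻¹,
    inv_mul_cancel₀ hb0, one_mul]

end Field

end Groth.Agent.Lib.Omega38
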