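import Groth.Agent.Lib.OmegaDer81

set_option autoImplicit false
set_option linter.style.haveILetI false
universe u

open CategoryTheory AlgebraicGeometry TopologicalSpace Opposite

namespace Groth.Agent.Lib.OmegaDer81

open Groth.Agent.Lib.QCohStalk

section restrict

variable {X S U' : Scheme.{u}} {f : X ⟶ S} (j : U' ⟶ X)

/-- pushforward of a derivation -/
noncomputable def pushDer {G : U'.Modules} (D' : OmegaSh.Der (j ≫ f) G) :
    OmegaSh.Der f ((Scheme.Modules.pushforward j).obj G) where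
  d {W} := AddMonoidHom.mk' (fun s => D'.app (j ⁻¹ᵁ W.unop) (j.app W.unop s)) (by
    intro a b
    rw [map_add, map_add]
    rfl)
  d_mul {W} a b := by
    change D'.app (j ⁻¹ᵁ W.unop) (j.app W.unop (a * b)) = _
    rw [map_mul, der_app_mul]
    rfl
  d_map {W W'} i s := by
    change D'.app (j ⁻¹ᵁ W'.unop) (j.app W'.unop (X.presheaf.map i s)) =
      G.presheaf.map ((Opens.map j.base).map i.unop).op (D'.app (j ⁻¹ᵁ W.unop) (j.app W.unop s))
    have h1 : j.app W'.unop (X.presheaf.map i s) =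
        U'.presheaf.map ((Opens.map j.base).map i.unop).op (j.app W.unop s) :=
      congr($(j.naturality i) s)
    rw [h1]
    exact D'.d_map ((Opens.map j.base).map i.unop).op (j.app W.unop s)
  d_app {V} c := by
    change D'.app (j ⁻¹ᵁ (f ⁻¹ᵁ V.unop)) (j.app (f ⁻¹ᵁ V.unop) (f.app V.unop c)) = 0
    have h1 : j.app (f ⁻¹ᵁ V.unop) (f.app V.unop c) = (j ≫ f).app V.unop c := by
      rw [Scheme.Hom.comp_app]; rfl
    rw [h1]
    exact der_app_app D' V.unop c

theorem pushDer_app {G : U'.Modules} (D' : OmegaSh.Der (j ≫ f) G) (W : X.Opens) (s : Γ(X, W)) :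
    (pushDer j D').app W s = D'.app (j ⁻¹ᵁ W) (j.app W s) := rfl

variable [IsOpenImmersion j]

/-- restriction of a derivation along an open immersion -/
noncomputable def restrictDer {F : X.Modules} (D : OmegaSh.Der f F) :
    OmegaSh.Der (j ≫ f) (F.restrict j) where
  d {W} := AddMonoidHom.mk' (fun s => D.app (j ''ᵁ W.unop) ((j.appIso W.unop).inv s)) (by
    intro a b
    rw [map_add, map_add]
    rfl)
  d_mul {W} a b := by
    change D.app (j ''ᵁ W.unop) ((j.appIso W.unop).inv (a * b)) = _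
    rw [map_mul, der_app_mul]
    rfl
  d_map {W W'} i s := by
    change D.app (j ''ᵁ W'.unop) ((j.appIso W'.unop).inv (U'.presheaf.map i s)) =
      F.presheaf.map (j.opensFunctor.map i.unop).op (D.app (j ''ᵁ W.unop) ((j.appIso W.unop).inv s))
    have h1 : (j.appIso W'.unop).inv (U'.presheaf.map i s) =
        X.presheaf.map (j.opensFunctor.op.map i) ((j.appIso W.unop).inv s) :=
      congr($(j.appIso_inv_naturality i) s)
    rw [h1]
    exact D.d_map (j.opensFunctor.op.map i) ((j.appIso W.unop).inv s)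
  d_app {V} c := by
    change D.app (j ''ᵁ (j ⁻¹ᵁ (f ⁻¹ᵁ V.unop)))
      ((j.appIso (j ⁻¹ᵁ (f ⁻¹ᵁ V.unop))).inv ((j ≫ f).app V.unop c)) = 0
    have h1 : (j.appIso (j ⁻¹ᵁ (f ⁻¹ᵁ V.unop))).inv ((j ≫ f).app V.unop c) =
        X.presheaf.map (homOfLE (j.image_preimage_le (f ⁻¹ᵁ V.unop))).op (f.app V.unop c) := by
      have : (j ≫ f).app V.unop c = j.app (f ⁻¹ᵁ V.unop) (f.app V.unop c) := by
        rw [Scheme.Hom.comp_app]; rfl
      rw [this]
      exact congr($(j.app_appIso_inv (f ⁻¹ᵁ V.unop)) (f.app V.unop c))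
    rw [h1]
    have h2 := der_app_map D (j.image_preimage_le (f ⁻¹ᵁ V.unop)) (f.app V.unop c)
    rw [der_app_app, res_zero] at h2
    exact h2

theorem restrictDer_app {F : X.Modules} (D : OmegaSh.Der f F) (W : U'.Opens) (s : Γ(U', W)) :
    (restrictDer j D).app W s = D.app (j ''ᵁ W) ((j.appIso W).inv s) := rfl

end restrict


section univ

variable {X S U' : Scheme.{u}} {f : X ⟶ S} (j : U' ⟶ X) [IsOpenImmersion j]

theorem postcomp_app {F G : X.Modules} (D : OmegaSh.Der f F) (α : F ⟶ G) (W : X.Opens)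
    (s : Γ(X, W)) : OmegaSh.Der.app (f := f) (F := G) (D.postcomp α.val) W s = α.app W (D.app W s) := rfl

theorem homEquiv_symm_app {Ω : X.Modules} {G : U'.Modules}
    (β : Ω ⟶ (Scheme.Modules.pushforward j).obj G) (W : U'.Opens) (x : Γ(Ω, j ''ᵁ W)) :
    (((Scheme.Modules.restrictAdjunction j).homEquiv Ω G).symm β).app W x =
      G.presheaf.map (eqToHom (j.preimage_image_eq W).symm).op (β.app (j ''ᵁ W) x) := by
  rw [Adjunction.homEquiv_counit]
  rfl

theorem homEquiv_app {Ω : X.Modules} {G : U'.Modules}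
    (α : Ω.restrict j ⟶ G) (V : X.Opens) (x : Γ(Ω, V)) :
    (((Scheme.Modules.restrictAdjunction j).homEquiv Ω G) α).app V x =
      α.app (j ⁻¹ᵁ V) (Ω.presheaf.map (homOfLE (j.image_preimage_le V)).op x) := by
  rw [Adjunction.homEquiv_unit]
  rfl

end univ


section univ2

variable {X S U' : Scheme.{u}} {f : X ⟶ S} (j : U' ⟶ X) [IsOpenImmersion j]

theorem isUniversal_restrictDer {Ω : X.Modules} (d : OmegaSh.Der f Ω)
    (hd : OmegaSh.IsUniversal d) : OmegaSh.IsUniversal (restrictDer j d) := by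
  intro G D'
  obtain ⟨β, hβ, hβu⟩ := hd ((Scheme.Modules.pushforward j).obj G) (pushDer j D')
  refine ⟨((Scheme.Modules.restrictAdjunction j).homEquiv Ω G).symm β, ?_, ?_⟩
  · apply der_ext'
    intro W s
    rw [postcomp_app, restrictDer_app, homEquiv_symm_app]
    have h1 : β.app (j ''ᵁ W) (d.app (j ''ᵁ W) ((j.appIso W).inv s)) =
        (pushDer j D').app (j ''ᵁ W) ((j.appIso W).inv s) := by
      rw [← postcomp_app, hβ]
    rw [h1, pushDer_app]
    have h2 := (D'.d_map (eqToHom (j.preimage_image_eq W).symm).op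
      (j.app (j ''ᵁ W) ((j.appIso W).inv s))).symm
    refine h2.trans ?_
    have h3 : U'.presheaf.map (eqToHom (j.preimage_image_eq W).symm).op
        (j.app (j ''ᵁ W) ((j.appIso W).inv s)) = s :=
      congr($(j.appIso_inv_app_presheafMap W) s)
    exact congrArg (D'.app W) h3
  · intro α' hα'
    have h3 : (Scheme.Modules.restrictAdjunction j).homEquiv Ω G α' = β := by
      apply hβu
      apply der_ext'
      intro V t
      rw [postcomp_app, homEquiv_app, pushDer_app, ← hα', postcomp_app, restrictDer_app]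
      congr 1
      have h4 : (j.appIso (j ⁻¹ᵁ V)).inv (j.app V t) =
          X.presheaf.map (homOfLE (j.image_preimage_le V)).op t :=
        congr($(j.app_appIso_inv V) t)
      rw [h4]
      exact (der_app_map d (j.image_preimage_le V) t).symm
    rw [← h3, Equiv.symm_apply_apply]

end univ2


section sameDer

variable {X S S' : Scheme.{u}}

/-- a derivation relative to `f` which kills the functions coming from `f'` is a derivation
relative to `f'`. -/
def derOfKills {f : X ⟶ S} {f' : X ⟶ S'} {F : X.Modules} (D : OmegaSh.Der f F)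
    (h : ∀ (V' : S'.Opens) (c' : Γ(S', V')), D.app (f' ⁻¹ᵁ V') (f'.app V' c') = 0) :
    OmegaSh.Der f' F where
  d := D.d
  d_mul := D.d_mul
  d_map := D.d_map
  d_app {V} c := h V.unop c

theorem derOfKills_app {f : X ⟶ S} {f' : X ⟶ S'} {F : X.Modules} (D : OmegaSh.Der f F)
    (h : ∀ (V' : S'.Opens) (c' : Γ(S', V')), D.app (f' ⁻¹ᵁ V') (f'.app V' c') = 0)
    (W : X.Opens) (s : Γ(X, W)) : (derOfKills D h).app W s = D.app W s := rfl

/-- `f` and `f'` have the same derivations -/
structure SameDer (f : X ⟶ S) (f' : X ⟶ S') : Prop where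
  fwd : ∀ (F : X.Modules) (D : OmegaSh.Der f F) (V' : S'.Opens) (c' : Γ(S', V')),
    D.app (f' ⁻¹ᵁ V') (f'.app V' c') = 0
  bwd : ∀ (F : X.Modules) (D : OmegaSh.Der f' F) (V : S.Opens) (c : Γ(S, V)),
    D.app (f ⁻¹ᵁ V) (f.app V c) = 0

theorem SameDer.symm {f : X ⟶ S} {f' : X ⟶ S'} (h : SameDer f f') : SameDer f' f :=
  ⟨h.bwd, h.fwd⟩

/-- transport of derivations -/
def SameDer.der {f : X ⟶ S} {f' : X ⟶ S'} (h : SameDer f f') {F : X.Modules}
    (D : OmegaSh.Der f F) : OmegaSh.Der f' F := derOfKills D (h.fwd F D)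

theorem SameDer.der_app {f : X ⟶ S} {f' : X ⟶ S'} (h : SameDer f f') {F : X.Modules}
    (D : OmegaSh.Der f F) (W : X.Opens) (s : Γ(X, W)) : (h.der D).app W s = D.app W s := rfl

theorem SameDer.isUniversal {f : X ⟶ S} {f' : X ⟶ S'} (h : SameDer f f') {Ω : X.Modules}
    (d : OmegaSh.Der f Ω) (hd : OmegaSh.IsUniversal d) : OmegaSh.IsUniversal (h.der d) := by
  intro G D'
  obtain ⟨α, hα, hαu⟩ := hd G (h.symm.der D')
  refine ⟨α, ?_, ?_⟩
  · apply der_ext'
    intro W s
    have := congrArg (fun D => OmegaSh.Der.app D W s) hα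
    exact this
  · intro α' hα'
    apply hαu
    apply der_ext'
    intro W s
    have := congrArg (fun D => OmegaSh.Der.app D W s) hα'
    exact this

theorem sameDer_of_eq {f f' : X ⟶ S} (h : f = f') : SameDer f f' := by
  subst h
  exact ⟨fun F D V c => der_app_app D V c, fun F D V c => der_app_app D V c⟩

/-- base shrink along an open immersion -/
theorem sameDer_comp_openImmersion (g : X ⟶ S') (i : S' ⟶ S) [IsOpenImmersion i] :
    SameDer (g ≫ i) g := by
  constructor
  · intro F D V' c'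
    -- c' = restriction of i♯ c with c = (i.appIso V').inv c'
    let c : Γ(S, i ''ᵁ V') := (i.appIso V').inv c'
    have h1 : S'.presheaf.map (eqToHom (i.preimage_image_eq V').symm).op (i.app (i ''ᵁ V') c) = c' :=
      congr($(i.appIso_inv_app_presheafMap V') c')
    have hle : g ⁻¹ᵁ V' ≤ (g ≫ i) ⁻¹ᵁ (i ''ᵁ V') := by
      intro x hx
      exact ⟨g x, hx, rfl⟩
    have h2 : g.app V' c' = X.presheaf.map (homOfLE hle).op ((g ≫ i).app (i ''ᵁ V') c) := by
      rw [← h1, Scheme.Hom.comp_app]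
      have := congr($(g.naturality (eqToHom (i.preimage_image_eq V').symm).op)
        (i.app (i ''ᵁ V') c))
      exact this
    rw [h2]
    have h3 := der_app_map D hle ((g ≫ i).app (i ''ᵁ V') c)
    rw [der_app_app, res_zero] at h3
    exact h3
  · intro F D V c
    have : (g ≫ i).app V c = g.app (i ⁻¹ᵁ V) (i.app V c) := by
      rw [Scheme.Hom.comp_app]; rfl
    rw [this]
    exact der_app_app D (i ⁻¹ᵁ V) (i.app V c)

end sameDer

end Groth.Agent.Lib.OmegaDer81
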