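import Groth.Agent.Lib.OmegaDer81F
import Groth.Agent.Lib.H77OmegaSections
import Groth.Prelude.Def_Omega4

/-!
# helper81: the conormal module of the diagonal is the module of Kähler differentials (abstract form)

`exists_kaehler_equiv_of_diag`: data `β : B ⊗[A] B ≃+* R`, `R → B` (multiplication), an `R`-module
`𝓘` with an injective `R`-linear `ι : 𝓘 → R` onto the kernel of `R → B`, and a base change
`u : 𝓘 → M` along `R → B`, `lift s ∈ 𝓘` with `ι (lift s) = β (1 ⊗ s - s ⊗ 1)`:
then `Ω[B/A] ≃ M` sending `D s` to `u (lift s)`.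
-/

set_option autoImplicit false
set_option linter.style.haveILetI false
universe u

open TensorProduct KaehlerDifferential

namespace Groth.Agent.Lib.OmegaDer81

section

variable {A B R : Type u} [CommRing A] [CommRing B] [CommRing R] [Algebra A B] [Algebra R B]
  (β : B ⊗[A] B ≃+* R)
  (hβ : ∀ x, algebraMap R B (β x) = Algebra.TensorProduct.lmul' A x)
  {𝓘 M : Type u} [AddCommGroup 𝓘] [Module R 𝓘] [AddCommGroup M] [Module B M] [Module R M]
  [IsScalarTower R B M]
  (ι : 𝓘 →ₗ[R] R) (hι : Function.Injective ι)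
  (hιk : ∀ x, algebraMap R B (ι x) = 0)
  (u : 𝓘 →ₗ[R] M) (hu : IsBaseChange B u)
  (lift : B → 𝓘) (hlift : ∀ s, ι (lift s) = β (1 ⊗ₜ s - s ⊗ₜ 1))

include hβ hι hιk hu hlift in
theorem exists_kaehler_equiv_of_diag :
    ∃ ε : Ω[B⁄A] ≃ₗ[B] M, ∀ s, ε (D A B s) = u (lift s) := by
  have hsm : ∀ (r : R) (m : M), r • m = algebraMap R B r • m := fun r m =>
    (algebraMap_smul B r m).symm
  -- properties of `lift`
  have lift_add : ∀ s t, lift (s + t) = lift s + lift t := by
    intro s t
    apply hι
    rw [map_add, hlift, hlift, hlift, ← map_add]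
    congr 1
    rw [tmul_add, add_tmul]; abel
  have lift_mul : ∀ s t, lift (s * t) = β (1 ⊗ₜ s) • lift t + β (t ⊗ₜ 1) • lift s := by
    intro s t
    apply hι
    rw [map_add, map_smul, map_smul, hlift, hlift, hlift, smul_eq_mul, smul_eq_mul, ← map_mul,
      ← map_mul, ← map_add]
    congr 1
    simp only [mul_sub, Algebra.TensorProduct.tmul_mul_tmul, one_mul, mul_one]
    rw [mul_comm t s]; abel
  have lift_alg : ∀ a : A, lift (algebraMap A B a) = 0 := by
    intro a
    apply hι
    rw [hlift, map_zero]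
    have : (1 : B) ⊗ₜ[A] (algebraMap A B a) = (algebraMap A B a) ⊗ₜ[A] (1 : B) := by
      rw [Algebra.algebraMap_eq_smul_one, tmul_smul, smul_tmul']
    rw [this, sub_self, map_zero]
  -- the additive Leibniz map
  let δ : B →+ M := AddMonoidHom.mk' (fun s => u (lift s)) (fun s t => by rw [lift_add, map_add])
  have hδ : IsLeibniz δ := by
    intro s t
    change u (lift (s * t)) = s • u (lift t) + t • u (lift s)
    rw [lift_mul, map_add, map_smul, map_smul, hsm, hsm, hβ, hβ]
    simp
  have h0 : ∀ a, δ (algebraMap A B a) = 0 := fun a => by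
    change u (lift (algebraMap A B a)) = 0
    rw [lift_alg, map_zero]
  obtain ⟨ε₀, hε₀, -⟩ := existsUnique_lift_kaehler (A := A) δ hδ h0
  -- surjectivity
  have hsurj : Function.Surjective ε₀ := by
    -- every element of `𝓘` is in the `R`-span of the `lift s`
    have h1 : ∀ x : 𝓘, x ∈ Submodule.span R (Set.range lift) := by
      intro x
      have hx : β.symm (ι x) ∈ KaehlerDifferential.ideal A B := by
        rw [RingHom.mem_ker]
        have := hβ (β.symm (ι x))
        rw [RingEquiv.apply_symm_apply, hιk] at this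
        exact this.symm
      rw [← KaehlerDifferential.span_range_eq_ideal] at hx
      have key : ∀ y ∈ Ideal.span (Set.range fun s : B => (1 : B) ⊗ₜ[A] s - s ⊗ₜ[A] (1 : B)),
          ∃ z ∈ Submodule.span R (Set.range lift), ι z = β y := by
        intro y hy
        refine Submodule.span_induction ?_ ?_ ?_ ?_ hy
        · rintro _ ⟨s, rfl⟩
          exact ⟨lift s, Submodule.subset_span ⟨s, rfl⟩, hlift s⟩
        · exact ⟨0, Submodule.zero_mem _, by rw [map_zero, map_zero]⟩
        · rintro a b _ _ ⟨za, hza, ha⟩ ⟨zb, hzb, hb⟩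
          exact ⟨za + zb, Submodule.add_mem _ hza hzb, by rw [map_add, map_add, ha, hb]⟩
        · rintro r a _ ⟨za, hza, ha⟩
          refine ⟨β r • za, Submodule.smul_mem _ _ hza, ?_⟩
          rw [map_smul, ha, smul_eq_mul, smul_eq_mul, map_mul]
      obtain ⟨z, hz, hzx⟩ := key _ hx
      rw [RingEquiv.apply_symm_apply] at hzx
      rw [← hι hzx]
      exact hz
    -- hence `u x ∈ range ε₀`
    have h2 : ∀ x : 𝓘, u x ∈ LinearMap.range ε₀ := by
      intro x
      refine Submodule.span_induction ?_ ?_ ?_ ?_ (h1 x)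
      · rintro _ ⟨s, rfl⟩
        exact ⟨D A B s, hε₀ s⟩
      · rw [map_zero]; exact Submodule.zero_mem _
      · intro a b _ _ ha hb
        rw [map_add]; exact Submodule.add_mem _ ha hb
      · intro r a _ ha
        rw [map_smul, hsm]
        exact Submodule.smul_mem _ _ ha
    intro m
    refine hu.inductionOn m (fun m => m ∈ LinearMap.range ε₀) (Submodule.zero_mem _) h2 ?_ ?_
    · intro b n hn
      exact Submodule.smul_mem _ _ hn
    · intro n₁ n₂ h₁ h₂
      exact Submodule.add_mem _ h₁ h₂
  -- injectivity: a retraction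
  haveI : IsScalarTower R B Ω[B⁄A] := inferInstance
  let ψ : 𝓘 →ₗ[R] Ω[B⁄A] :=
    { toFun := fun x => (D A B).tensorProductTo (β.symm (ι x))
      map_add' := fun x y => by rw [map_add, map_add, map_add]
      map_smul' := fun r x => by
        rw [map_smul, smul_eq_mul, map_mul, Derivation.tensorProductTo_mul]
        have hx : Algebra.TensorProduct.lmul' (S := B) A (β.symm (ι x)) = 0 := by
          have := hβ (β.symm (ι x))
          rw [RingEquiv.apply_symm_apply, hιk] at this
          exact this.symm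
        have hr : Algebra.TensorProduct.lmul' (S := B) A (β.symm r) = algebraMap R B r := by
          have := hβ (β.symm r)
          rw [RingEquiv.apply_symm_apply] at this
          exact this.symm
        rw [hx, zero_smul, add_zero, hr]
        exact algebraMap_smul B r _ }
  let φ : M →ₗ[B] Ω[B⁄A] := hu.lift ψ
  have hφ : ∀ s, φ (ε₀ (D A B s)) = D A B s := by
    intro s
    rw [hε₀]
    change φ (u (lift s)) = _
    rw [hu.lift_eq]
    change (D A B).tensorProductTo (β.symm (ι (lift s))) = _
    rw [hlift, RingEquiv.symm_apply_apply, map_sub, Derivation.tensorProductTo_tmul,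
      Derivation.tensorProductTo_tmul, one_smul]
    simp
  have hcomp : φ ∘ₗ ε₀ = LinearMap.id := linearMap_ext_D _ _ hφ
  have hinj : Function.Injective ε₀ := by
    intro a b hab
    have := congrArg φ hab
    have ha := LinearMap.congr_fun hcomp a
    have hb := LinearMap.congr_fun hcomp b
    simp only [LinearMap.comp_apply, LinearMap.id_apply] at ha hb
    rw [← ha, ← hb, this]
  exact ⟨LinearEquiv.ofBijective ε₀ ⟨hinj, hsurj⟩, hε₀⟩

end

section geo

open CategoryTheory CategoryTheory.Limits AlgebraicGeometry TopologicalSpace Opposite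
open Groth.Agent.Lib.H77OmegaSections Groth.Agent.Lib.UnitBaseChange Groth.Agent.Lib.IdealMod
  Groth.Agent.Lib.H77QCohKernel

variable {X Y : Scheme.{u}} (f : X ⟶ Y) [QuasiSeparated f] {U : X.Opens} {V : Y.Opens}
  (hU : IsAffineOpen U) (hV : IsAffineOpen V) (h : U ≤ f ⁻¹ᵁ V)

include hU hV in
set_option backward.isDefEq.respectTransparency false in
/-- **Sections of the frozen sheaf of differentials with its derivation**: over affine opens
`U ≤ f⁻¹ V` the pair `(Γ(Omega.sheaf f, U), dSect f U)` is the module of Kähler differentials with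
its universal derivation. -/
theorem exists_kaehler_equiv_dSect :
    letI : Algebra Γ(Y, V) Γ(X, U) := (f.appLE V U h).hom.toAlgebra
    ∃ ε : Ω[Γ(X, U)⁄Γ(Y, V)] ≃ₗ[Γ(X, U)] Γ(Omega.sheaf f, U),
      ∀ s, ε (KaehlerDifferential.D Γ(Y, V) Γ(X, U) s) = OmegaSh.dSect f U s := by
  letI : Algebra Γ(Y, V) Γ(X, U) := (f.appLE V U h).hom.toAlgebra
  have hW : IsAffineOpen (WW f U) := isAffineOpen_WW f h hV hU
  have hle : U ≤ pullback.diagonal f ⁻¹ᵁ WW f U := le_diag_preimage f
  have hVW : pullback.diagonal f ⁻¹ᵁ WW f U = U := diag_preimage_WW f U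
  letI : Algebra Γ(pullback f f, WW f U) Γ(X, U) :=
    ((pullback.diagonal f).appLE (WW f U) U hle).hom.toAlgebra
  letI : Module Γ(pullback f f, WW f U) Γ((Scheme.Modules.pullback (pullback.diagonal f)).obj
      (ClSub.idealMod (pullback.diagonal f).ker), U) :=
    Module.compHom _ ((pullback.diagonal f).appLE (WW f U) U hle).hom
  haveI : IsScalarTower Γ(pullback f f, WW f U) Γ(X, U)
      Γ((Scheme.Modules.pullback (pullback.diagonal f)).obj
        (ClSub.idealMod (pullback.diagonal f).ker), U) :=
    .of_algebraMap_smul fun _ _ => rfl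
  have hbc := isBaseChange_unitSec (pullback.diagonal f)
    (ClSub.idealMod (pullback.diagonal f).ker) hU hW hle
  let β : Γ(X, U) ⊗[Γ(Y, V)] Γ(X, U) ≃+* Γ(pullback f f, WW f U) :=
    (betaIso f h hV hU).commRingCatIsoToRingEquiv
  have hβ : ∀ x, algebraMap Γ(pullback f f, WW f U) Γ(X, U) (β x) =
      Algebra.TensorProduct.lmul' Γ(Y, V) x :=
    fun x => congr($(betaIso_comm f h hV hU) x)
  let ι : Γ(ClSub.idealMod (pullback.diagonal f).ker, WW f U) →ₗ[Γ(pullback f f, WW f U)]
      Γ(pullback f f, WW f U) :=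
    { toFun := idealFn (pullback.diagonal f).ker (WW f U)
      map_add' := fun s t => idealFn_add _ s t
      map_smul' := fun a s => idealFn_smul _ a s }
  have hι : Function.Injective ι := idealFn_injective _ _
  have hιk : ∀ x, algebraMap Γ(pullback f f, WW f U) Γ(X, U) (ι x) = 0 := fun x =>
    idealFn_mem_ker' (pullback.diagonal f) hW hVW x
  have hlift : ∀ s : Γ(X, U), ι (OmegaSh.idealLift f U s) = β (1 ⊗ₜ s - s ⊗ₜ 1) := by
    intro s
    have h1 : β (1 ⊗ₜ s) = (pullback.snd f f).appLE U (WW f U) (WW_le_snd f U) s :=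
      congr($((CommRingCat.isPushout_tensorProduct Γ(Y, V) Γ(X, U) Γ(X, U)).inr_isoIsPushout_hom
        _ _ (isPushout_WW f h hV hU)) s)
    have h2 : β (s ⊗ₜ 1) = (pullback.fst f f).appLE U (WW f U) (WW_le_fst f U) s :=
      congr($((CommRingCat.isPushout_tensorProduct Γ(Y, V) Γ(X, U) Γ(X, U)).inl_isoIsPushout_hom
        _ _ (isPushout_WW f h hV hU)) s)
    rw [map_sub, h1, h2]
    exact OmegaSh.ι_idealLift f U s
  obtain ⟨ε, hε⟩ := exists_kaehler_equiv_of_diag β hβ ι hι hιk
    (unitSec (pullback.diagonal f) (ClSub.idealMod (pullback.diagonal f).ker) hle) hbc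
    (OmegaSh.idealLift f U) hlift
  exact ⟨ε, fun s => (hε s).trans rfl⟩

end geo

end Groth.Agent.Lib.OmegaDer81
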