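import Groth.Prelude.Def_W4c5ffgsreadingcourseOT
import Mathlib.FieldTheory.Finite.Basic
import Mathlib.RingTheory.IntegralDomain

/-!
# Eigenspace decomposition of the augmentation ideal under the power maps (helper55)

`R` a commutative ring with `u (p - 1) = 1`, `χ : (ZMod p)ˣ →* Rˣ` with `χ m - 1` a unit for
`m ≠ 1`, `A` a commutative Hopf algebra killed by `p`.  The operators `[m] = powConv m.val` give an
action of `(ZMod p)ˣ` on `A`; the averaging operators `e k = u Σ_m χ(m)^{-k} [m]` (`k : ℤ`) are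
orthogonal idempotents with sum the identity.
-/

set_option autoImplicit false
universe u

open WithConv

namespace Groth.Agent.Lib.OortTate55

section CharSum

variable {p : ℕ} [Fact p.Prime] {R : Type u} [CommRing R] (χ : (ZMod p)ˣ →* Rˣ)

/-- `χ(m)^k` for an integer `k`, as an element of `R`. -/
noncomputable def cz (k : ℤ) (m : (ZMod p)ˣ) : R := (((χ m) ^ k : Rˣ) : R)

theorem cz_zero (m : (ZMod p)ˣ) : cz χ 0 m = 1 := by simp [cz]

theorem cz_one_right (k : ℤ) : cz χ k 1 = 1 := by simp [cz]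

theorem cz_add (j k : ℤ) (m : (ZMod p)ˣ) : cz χ (j + k) m = cz χ j m * cz χ k m := by
  simp [cz, zpow_add]

theorem cz_mul (k : ℤ) (m n : (ZMod p)ˣ) : cz χ k (m * n) = cz χ k m * cz χ k n := by
  simp [cz, mul_zpow]

theorem cz_natCast (i : ℕ) (m : (ZMod p)ˣ) : cz χ (i : ℤ) m = ((χ m : Rˣ) : R) ^ i := by
  simp [cz]

theorem cz_neg_natCast (i : ℕ) (m : (ZMod p)ˣ) :
    cz χ (-(i : ℤ)) m = ((χ m⁻¹ : Rˣ) : R) ^ i := by
  simp [cz, map_inv]

theorem cz_neg_mul_self (k : ℤ) (m : (ZMod p)ˣ) : cz χ (-k) m * cz χ k m = 1 := by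
  rw [← cz_add, neg_add_cancel, cz_zero]

theorem cz_inv (k : ℤ) (m : (ZMod p)ˣ) : cz χ k m⁻¹ = cz χ (-k) m := by
  simp [cz, map_inv]

theorem card_units_zmod : Fintype.card (ZMod p)ˣ = p - 1 := ZMod.card_units p

theorem cz_eq_one_of_dvd (k : ℤ) (hk : ((p - 1 : ℕ) : ℤ) ∣ k) (m : (ZMod p)ˣ) : cz χ k m = 1 := by
  obtain ⟨c, rfl⟩ := hk
  have h1 : m ^ (p - 1) = 1 := by
    rw [← card_units_zmod (p := p)]
    exact pow_card_eq_one
  have h2 : (χ m) ^ (p - 1) = 1 := by rw [← map_pow, h1, map_one]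
  simp only [cz]
  rw [zpow_mul, zpow_natCast, h2, one_zpow, Units.val_one]

theorem sum_cz_of_dvd (k : ℤ) (hk : ((p - 1 : ℕ) : ℤ) ∣ k) :
    ∑ m : (ZMod p)ˣ, cz χ k m = ((p - 1 : ℕ) : R) := by
  simp only [cz_eq_one_of_dvd χ k hk]
  rw [Finset.sum_const, Finset.card_univ, card_units_zmod, nsmul_eq_mul, mul_one]

variable (hχ : ∀ m : (ZMod p)ˣ, m ≠ 1 → IsUnit ((χ m : R) - 1))

include hχ in
theorem sum_cz (k : ℤ) (hk : ¬ ((p - 1 : ℕ) : ℤ) ∣ k) : ∑ m : (ZMod p)ˣ, cz χ k m = 0 := by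
  obtain ⟨g, hg⟩ := IsCyclic.exists_generator (α := (ZMod p)ˣ)
  have hord : orderOf g = p - 1 := by
    rw [orderOf_eq_card_of_forall_mem_zpowers hg, Nat.card_eq_fintype_card, card_units_zmod]
  have hgk : g ^ k ≠ 1 := by
    intro h
    apply hk
    rw [← hord]
    exact orderOf_dvd_iff_zpow_eq_one.2 h
  have hunit : IsUnit (cz χ k g - 1) := by
    have := hχ (g ^ k) hgk
    rwa [map_zpow] at this
  have hS : cz χ k g * ∑ m : (ZMod p)ˣ, cz χ k m = ∑ m : (ZMod p)ˣ, cz χ k m := by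
    rw [Finset.mul_sum]
    simp only [← cz_mul]
    exact Fintype.sum_equiv (Equiv.mulLeft g) _ _ (fun m => rfl)
  have h0 : (cz χ k g - 1) * ∑ m : (ZMod p)ˣ, cz χ k m = 0 := by
    rw [sub_mul, hS, one_mul, sub_self]
  exact (hunit.mul_right_eq_zero).1 h0

end CharSum


section Pow

variable {R : Type u} [CommRing R] {A : Type u} [CommRing A] [HopfAlgebra R A]

theorem comp_convPow {B : Type*} [CommRing B] [Algebra R B] (h : A →ₐ[R] B)
    (f : WithConv (A →ₐ[R] A)) (n : ℕ) :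
    h.comp (f ^ n).ofConv = ofConv ((toConv (h.comp f.ofConv)) ^ n) := by
  induction n with
  | zero =>
    rw [pow_zero, pow_zero]
    apply AlgHom.ext
    intro a
    show h (algebraMap R A _) = algebraMap R B _
    rw [AlgHom.commutes]
  | succ n ih =>
    rw [pow_succ, pow_succ, AlgHom.comp_convMul_distrib, ih]

theorem powConv_comp (m n : ℕ) :
    (SGA3b.powConv R A m).comp (SGA3b.powConv R A n) = SGA3b.powConv R A (m * n) := by
  unfold SGA3b.powConv
  rw [comp_convPow, pow_mul]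
  rfl

theorem powConv_apply_apply (m n : ℕ) (a : A) :
    SGA3b.powConv R A m (SGA3b.powConv R A n a) = SGA3b.powConv R A (m * n) a := by
  rw [← powConv_comp]; rfl

theorem powConv_one : SGA3b.powConv R A 1 = AlgHom.id R A := by
  unfold SGA3b.powConv
  rw [pow_one]

theorem counit_powConv (n : ℕ) (a : A) :
    CoalgebraStruct.counit (R := R) (SGA3b.powConv R A n a) = CoalgebraStruct.counit (R := R) a := by
  have h := comp_convPow (Bialgebra.counitAlgHom R A) (toConv (AlgHom.id R A)) n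
  have h1 : toConv ((Bialgebra.counitAlgHom R A).comp (toConv (AlgHom.id R A)).ofConv) =
      (1 : WithConv (A →ₐ[R] R)) := by
    rw [AlgHom.convOne_def]
    congr 1
  rw [h1, one_pow] at h
  have h2 := AlgHom.congr_fun h a
  exact h2

end Pow


section Killed

variable {p : ℕ} [Fact p.Prime] {R : Type u} [CommRing R] {A : Type u} [CommRing A]
  [HopfAlgebra R A]

/-- the operator `[m]` for a unit `m` of `ZMod p` -/
noncomputable def pwm (m : (ZMod p)ˣ) : A →ₐ[R] A := SGA3b.powConv R A (m : ZMod p).val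

theorem counit_pwm (m : (ZMod p)ˣ) (a : A) :
    CoalgebraStruct.counit (R := R) (pwm (R := R) m a) = CoalgebraStruct.counit (R := R) a :=
  counit_powConv _ a

variable (hp : (toConv (AlgHom.id R A)) ^ p = 1)

include hp in
theorem powConv_add_mul (a b : ℕ) :
    SGA3b.powConv R A (a + p * b) = SGA3b.powConv R A a := by
  unfold SGA3b.powConv
  rw [pow_add, pow_mul, hp, one_pow, mul_one]

include hp in
theorem powConv_mod (a : ℕ) : SGA3b.powConv R A (a % p) = SGA3b.powConv R A a := by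
  conv_rhs => rw [← Nat.mod_add_div a p]
  rw [powConv_add_mul hp]

include hp in
theorem pwm_mul (m n : (ZMod p)ˣ) (a : A) :
    pwm (R := R) m (pwm (R := R) n a) = pwm (R := R) (m * n) a := by
  unfold pwm
  rw [powConv_apply_apply, Units.val_mul, ZMod.val_mul, powConv_mod hp]

theorem pwm_one (a : A) : pwm (R := R) (1 : (ZMod p)ˣ) a = a := by
  unfold pwm
  rw [Units.val_one, ZMod.val_one, powConv_one]
  rfl

variable (u : R) (χ : (ZMod p)ˣ →* Rˣ)

/-- the averaging operator `u Σ_m χ(m)^{-k} [m]` -/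
noncomputable def ez (k : ℤ) : A →ₗ[R] A :=
  u • ∑ m : (ZMod p)ˣ, cz χ (-k) m • (pwm (R := R) (A := A) m).toLinearMap

theorem ez_apply (k : ℤ) (a : A) :
    ez u χ k a = u • ∑ m : (ZMod p)ˣ, cz χ (-k) m • pwm (R := R) m a := by
  simp [ez, LinearMap.sum_apply]

theorem proj_eq_ez (i : ℕ) : OortTate.proj R A p u χ i = ez u χ (i : ℤ) := by
  unfold OortTate.proj ez
  congr 1
  refine Finset.sum_congr rfl fun m _ => ?_
  rw [cz_neg_natCast]
  rfl

include hp in
/-- (E1) the image of `e k` consists of `χ^k`-eigenvectors -/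
theorem pwm_ez (n : (ZMod p)ˣ) (k : ℤ) (a : A) :
    pwm (R := R) n (ez u χ k a) = cz χ k n • ez u χ k a := by
  rw [ez_apply, map_smul, map_sum, smul_comm]
  congr 1
  rw [Finset.smul_sum]
  have h1 : ∀ m : (ZMod p)ˣ, pwm (R := R) n (cz χ (-k) m • pwm (R := R) m a) =
      cz χ (-k) m • pwm (R := R) (n * m) a := by
    intro m
    rw [map_smul, pwm_mul hp]
  simp only [h1, smul_smul]
  symm
  refine Fintype.sum_equiv (Equiv.mulLeft n⁻¹) _ _ (fun m => ?_)
  show (cz χ k n * cz χ (-k) m) • pwm (R := R) m a =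
    cz χ (-k) (n⁻¹ * m) • pwm (R := R) (n * (n⁻¹ * m)) a
  rw [mul_inv_cancel_left, cz_mul, cz_inv, neg_neg]

theorem ez_of_eigen (j k : ℤ) (f : A) (hf : ∀ m, pwm (R := R) m f = cz χ j m • f) :
    ez u χ k f = (u * ∑ m : (ZMod p)ˣ, cz χ (j - k) m) • f := by
  rw [ez_apply, mul_smul, Finset.sum_smul]
  congr 1
  refine Finset.sum_congr rfl fun m _ => ?_
  rw [hf m, smul_smul, sub_eq_add_neg, cz_add, mul_comm]

variable (hu : u * ((p - 1 : ℕ) : R) = 1)

include hu in
/-- (E2) -/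
theorem ez_eq_self (j k : ℤ) (hjk : ((p - 1 : ℕ) : ℤ) ∣ j - k) (f : A)
    (hf : ∀ m, pwm (R := R) m f = cz χ j m • f) : ez u χ k f = f := by
  rw [ez_of_eigen u χ j k f hf, sum_cz_of_dvd χ _ hjk, hu, one_smul]

variable (hχ : ∀ m : (ZMod p)ˣ, m ≠ 1 → IsUnit ((χ m : R) - 1))

include hχ in
/-- (E3) -/
theorem ez_eq_zero (j k : ℤ) (hjk : ¬ ((p - 1 : ℕ) : ℤ) ∣ j - k) (f : A)
    (hf : ∀ m, pwm (R := R) m f = cz χ j m • f) : ez u χ k f = 0 := by
  rw [ez_of_eigen u χ j k f hf, sum_cz χ hχ _ hjk, mul_zero, zero_smul]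

include hu hχ in
/-- (E4) the operators `e 0, …, e (p-2)` sum to the identity -/
theorem sum_ez (a : A) : ∑ k : Fin (p - 1), ez u χ ((k : ℕ) : ℤ) a = a := by
  simp only [ez_apply]
  rw [← Finset.smul_sum, Finset.sum_comm]
  simp only [← Finset.sum_smul]
  have key : ∀ m : (ZMod p)ˣ, (∑ k : Fin (p - 1), cz χ (-((k : ℕ) : ℤ)) m) =
      if m = 1 then ((p - 1 : ℕ) : R) else 0 := by
    intro m
    split_ifs with hm
    · subst hm
      simp only [cz_one_right]
      rw [Finset.sum_const, Finset.card_univ, Fintype.card_fin, nsmul_eq_mul, mul_one]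
    · simp only [cz_neg_natCast]
      rw [Fin.sum_univ_eq_sum_range (fun i => ((χ m⁻¹ : Rˣ) : R) ^ i) (p - 1)]
      have hm' : m⁻¹ ≠ 1 := by simpa using hm
      have hunit := hχ m⁻¹ hm'
      have hpow : ((χ m⁻¹ : Rˣ) : R) ^ (p - 1) = 1 := by
        have h1 : (m⁻¹) ^ (p - 1) = 1 := by
          rw [← card_units_zmod (p := p)]
          exact pow_card_eq_one
        rw [← Units.val_pow_eq_pow_val, ← map_pow, h1, map_one, Units.val_one]
      have hg := geom_sum_mul ((χ m⁻¹ : Rˣ) : R) (p - 1)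
      rw [hpow, sub_self] at hg
      exact (hunit.mul_left_eq_zero).1 hg
  simp only [key]
  rw [Finset.sum_eq_single (1 : (ZMod p)ˣ)]
  · rw [if_pos rfl, pwm_one, smul_smul, hu, one_smul]
  · intro m _ hm
    rw [if_neg hm, zero_smul]
  · intro h
    exact absurd (Finset.mem_univ _) h

/-- (E5) `e k` preserves the augmentation ideal -/
theorem counit_ez (k : ℤ) (a : A) (ha : CoalgebraStruct.counit (R := R) a = 0) :
    CoalgebraStruct.counit (R := R) (ez u χ k a) = 0 := by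
  rw [ez_apply, map_smul, map_sum]
  simp only [map_smul, counit_pwm, ha, smul_zero, Finset.sum_const_zero]

end Killed


section Eigen

variable {p : ℕ} [Fact p.Prime] {R : Type u} [CommRing R] {A : Type u} [CommRing A]
  [HopfAlgebra R A] (u : R) (χ : (ZMod p)ˣ →* Rˣ)

theorem mem_eigenAug_iff (i : ℕ) (f : A) :
    f ∈ OortTate.eigenAug R A p χ i ↔
      CoalgebraStruct.counit (R := R) f = 0 ∧ ∀ m, pwm (R := R) m f = cz χ (i : ℤ) m • f := by
  unfold OortTate.eigenAug
  rw [Submodule.mem_inf, Submodule.mem_iInf, LinearMap.mem_ker]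
  refine and_congr Iff.rfl (forall_congr' fun m => ?_)
  rw [Module.End.mem_eigenspace_iff, cz_natCast]
  rfl

theorem mem_augKer_iff (f : A) :
    f ∈ LinearMap.ker (Bialgebra.counitAlgHom R A).toLinearMap ↔
      CoalgebraStruct.counit (R := R) f = 0 := by
  rw [LinearMap.mem_ker]; rfl

variable (hp : (toConv (AlgHom.id R A)) ^ p = 1) (hu : u * ((p - 1 : ℕ) : R) = 1)
  (hχ : ∀ m : (ZMod p)ˣ, m ≠ 1 → IsUnit ((χ m : R) - 1))

include hp hu in
theorem eigenAug_eq_map_ez (i : ℕ) :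
    OortTate.eigenAug R A p χ i =
      Submodule.map (ez u χ (i : ℤ)) (LinearMap.ker (Bialgebra.counitAlgHom R A).toLinearMap) := by
  apply le_antisymm
  · intro f hf
    rw [mem_eigenAug_iff] at hf
    refine ⟨f, (mem_augKer_iff f).2 hf.1, ?_⟩
    exact ez_eq_self u χ hu i i (by simp) f hf.2
  · rintro _ ⟨a, ha, rfl⟩
    rw [mem_eigenAug_iff]
    exact ⟨counit_ez u χ _ a ((mem_augKer_iff a).1 ha), fun m => pwm_ez hp u χ m _ a⟩

include hp hu hχ in
theorem iSup_eigenAug :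
    (⨆ i : Fin (p - 1), OortTate.eigenAug R A p χ (i : ℕ)) =
      LinearMap.ker (Bialgebra.counitAlgHom R A).toLinearMap := by
  apply le_antisymm
  · refine iSup_le fun i => ?_
    intro f hf
    rw [mem_eigenAug_iff] at hf
    exact (mem_augKer_iff f).2 hf.1
  · intro a ha
    rw [← sum_ez u χ hu hχ a]
    refine Submodule.sum_mem _ fun k _ => ?_
    refine Submodule.mem_iSup_of_mem k ?_
    rw [eigenAug_eq_map_ez u χ hp hu]
    exact ⟨a, ha, rfl⟩

include hu hχ in
theorem iSupIndep_eigenAug :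
    iSupIndep (fun i : Fin (p - 1) => OortTate.eigenAug R A p χ (i : ℕ)) := by
  intro i
  rw [Submodule.disjoint_def]
  intro x hxi hx
  have h1 : ez u χ ((i : ℕ) : ℤ) x = x :=
    ez_eq_self u χ hu _ _ (by simp) x ((mem_eigenAug_iff χ _ x).1 hxi).2
  have h2 : (⨆ (j : Fin (p - 1)) (_ : j ≠ i), OortTate.eigenAug R A p χ (j : ℕ)) ≤
      LinearMap.ker (ez (A := A) u χ ((i : ℕ) : ℤ)) := by
    refine iSup_le fun j => iSup_le fun hj => ?_
    intro f hf
    rw [LinearMap.mem_ker]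
    refine ez_eq_zero u χ hχ _ _ ?_ f ((mem_eigenAug_iff χ _ f).1 hf).2
    intro hdvd
    apply hj
    have hj' := j.2
    have hi' := i.2
    have h3 : |((j : ℕ) : ℤ) - ((i : ℕ) : ℤ)| < ((p - 1 : ℕ) : ℤ) := by
      rw [abs_lt]
      constructor <;> omega
    have h4 := Int.eq_zero_of_abs_lt_dvd hdvd h3
    apply Fin.ext
    omega
  rw [← h1]
  exact LinearMap.mem_ker.1 (h2 hx)

end Eigen

end Groth.Agent.Lib.OortTate55
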