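import Groth.Agent.Lib.OortTate55a
import Groth.Prelude.Def_CartDual

/-!
# Power maps on the Cartier dual (helper55)

`powConv_dual_apply`: the power map `[n]` of the dual Hopf algebra `D R A` is the transpose of
the power map of `A`.
-/

set_option autoImplicit false
universe u

open WithConv TensorProduct

namespace Groth.Agent.Lib.OortTate55

section Transpose

variable {R : Type u} [CommRing R] {A : Type u} [CommRing A] [HopfAlgebra R A]
  [Module.Finite R A] [Module.Projective R A]

/-- transposition is compatible with convolution products of endomorphisms -/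
theorem convMul_transpose (F G : CartDual.D R A →ₗ[R] CartDual.D R A) (F' G' : A →ₗ[R] A)
    (hF : ∀ x a, (F x).ofConv a = x.ofConv (F' a)) (hG : ∀ x a, (G x).ofConv a = x.ofConv (G' a))
    (x : CartDual.D R A) (a : A) :
    ((toConv F * toConv G : WithConv (CartDual.D R A →ₗ[R] CartDual.D R A)).ofConv x).ofConv a =
      x.ofConv ((toConv F' * toConv G' : WithConv (A →ₗ[R] A)).ofConv a) := by
  have main : ∀ (y : CartDual.D R A ⊗[R] CartDual.D R A),
      (LinearMap.mul' R (CartDual.D R A) (TensorProduct.map F G y)).ofConv a =
        CartDual.ev₂ R A y (TensorProduct.map F' G' (CoalgebraStruct.comul (R := R) a)) := by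
    intro y
    induction y using TensorProduct.induction_on with
    | zero => simp
    | add y₁ y₂ h₁ h₂ =>
      simp only [map_add, WithConv.ofConv_add, LinearMap.add_apply, h₁, h₂]
    | tmul x₁ x₂ =>
      rw [TensorProduct.map_tmul, LinearMap.mul'_apply, LinearMap.convMul_def,
        WithConv.ofConv_toConv]
      simp only [LinearMap.coe_comp, Function.comp_apply]
      generalize CoalgebraStruct.comul (R := R) a = t
      induction t using TensorProduct.induction_on with
      | zero => simp
      | add t₁ t₂ h₁ h₂ => simp only [map_add, h₁, h₂]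
      | tmul b c =>
        rw [TensorProduct.map_tmul, LinearMap.mul'_apply, TensorProduct.map_tmul,
          CartDual.ev₂_tmul, hF, hG]
  have h1 : (toConv F * toConv G : WithConv (CartDual.D R A →ₗ[R] CartDual.D R A)).ofConv x =
      LinearMap.mul' R (CartDual.D R A)
        (TensorProduct.map F G (CoalgebraStruct.comul (R := R) x)) := rfl
  rw [h1, main, CartDual.comul_def, CartDual.ev₂_comul]
  rfl

end Transpose


section PowTranspose

variable {R : Type u} [CommRing R] {A : Type u} [CommRing A] [HopfAlgebra R A]
  [Module.Finite R A] [Module.Projective R A]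

theorem convPow_id_transpose (n : ℕ) (x : CartDual.D R A) (a : A) :
    (((toConv (LinearMap.id : CartDual.D R A →ₗ[R] CartDual.D R A)) ^ n).ofConv x).ofConv a =
      x.ofConv (((toConv (LinearMap.id : A →ₗ[R] A)) ^ n).ofConv a) := by
  induction n generalizing x a with
  | zero =>
    rw [pow_zero, pow_zero]
    show ((algebraMap R (CartDual.D R A) (CoalgebraStruct.counit (R := R) x))).ofConv a =
      x.ofConv (algebraMap R A (CoalgebraStruct.counit (R := R) a))
    rw [Algebra.algebraMap_eq_smul_one, Algebra.algebraMap_eq_smul_one, map_smul]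
    show (CoalgebraStruct.counit (R := R) x) • ((1 : CartDual.D R A).ofConv a) = _
    rw [LinearMap.convOne_def]
    simp [CartDual.coe_apply, mul_comm]
  | succ n ih =>
    rw [pow_succ, pow_succ]
    exact convMul_transpose _ _ _ _ (fun x a => ih x a) (fun _ _ => rfl) x a

variable [Coalgebra.IsCocomm R A]

theorem powConv_dual_apply (n : ℕ) (x : CartDual.D R A) (a : A) :
    (SGA3b.powConv R (CartDual.D R A) n x).ofConv a = x.ofConv (SGA3b.powConv R A n a) := by
  have h1 := AlgHom.toLinearMap_convPow (toConv (AlgHom.id R (CartDual.D R A))) n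
  have h2 := AlgHom.toLinearMap_convPow (toConv (AlgHom.id R A)) n
  have h3 : SGA3b.powConv R (CartDual.D R A) n x =
      ((toConv (LinearMap.id : CartDual.D R A →ₗ[R] CartDual.D R A)) ^ n).ofConv x := by
    have := congrArg (fun f : WithConv (CartDual.D R A →ₗ[R] CartDual.D R A) => f.ofConv x) h1
    exact this
  have h4 : SGA3b.powConv R A n a = ((toConv (LinearMap.id : A →ₗ[R] A)) ^ n).ofConv a := by
    have := congrArg (fun f : WithConv (A →ₗ[R] A) => f.ofConv a) h2
    exact this
  rw [h3, h4, convPow_id_transpose]

end PowTranspose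


section DualEigen

variable {p : ℕ} [Fact p.Prime] {R : Type u} [CommRing R] {A : Type u} [CommRing A]
  [HopfAlgebra R A] (u : R) (χ : (ZMod p)ˣ →* Rˣ)
  (hp : (toConv (AlgHom.id R A)) ^ p = 1)

include hp in
theorem ez_pwm (n : (ZMod p)ˣ) (k : ℤ) (a : A) :
    ez u χ k (pwm (R := R) n a) = cz χ k n • ez u χ k a := by
  rw [← pwm_ez hp u χ n k a, ez_apply, ez_apply, map_smul, map_sum]
  congr 1
  refine Finset.sum_congr rfl fun m _ => ?_
  rw [map_smul, pwm_mul hp, pwm_mul hp, mul_comm]

variable [Module.Finite R A] [Module.Projective R A] [Coalgebra.IsCocomm R A]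

theorem mem_eigenAug_dual_iff (i : ℕ) (f : CartDual.D R A) :
    f ∈ OortTate.eigenAug R (CartDual.D R A) p χ i ↔
      f.ofConv 1 = 0 ∧ ∀ (m : (ZMod p)ˣ) (a : A),
        f.ofConv (pwm (R := R) m a) = cz χ (i : ℤ) m * f.ofConv a := by
  rw [mem_eigenAug_iff]
  refine and_congr Iff.rfl (forall_congr' fun m => ?_)
  constructor
  · intro h a
    have := congrArg (fun g : CartDual.D R A => g.ofConv a) h
    rw [pwm] at this
    exact (powConv_dual_apply _ f a).symm.trans this
  · intro h
    apply WithConv.ofConv_injective
    apply LinearMap.ext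
    intro a
    rw [pwm, powConv_dual_apply]
    exact h a

end DualEigen

end Groth.Agent.Lib.OortTate55
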