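import Mathlib
import Groth.Prelude.Def_W4c5ffgsreadingcourseOT
import Groth.Agent.Lib.OortTate55a
import Groth.Agent.Lib.HopfPrimeClass41
import Groth.Agent.Lib.HopfKilledByOrder41

/-!
# Oort–Tate eigenspaces: products, and non-vanishing over an algebraically closed field (helper55)

* `eigenAug_mul_mem`, `pow_mem_eigenAug`, `eigenAug_one_pow_le`, `eigenAug_congr`;
* `epsDer_powConv`: an `ε`-derivation `d` satisfies `d ∘ [n] = n d`;
* `exists_eigen_pow_ne_zero`: over an algebraically closed field, a group scheme of order `p` has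
  `y ∈ I_1` with `y ^ (p - 1) ≠ 0`.
-/

set_option autoImplicit false
universe u

open WithConv

namespace Groth.Agent.Lib.OortTate55

section Products

variable {p : ℕ} [Fact p.Prime] {R : Type u} [CommRing R] {A : Type u} [CommRing A]
  [HopfAlgebra R A] (χ : (ZMod p)ˣ →* Rˣ)

theorem eigenAug_mul_mem (i j : ℕ) {f g : A} (hf : f ∈ OortTate.eigenAug R A p χ i)
    (hg : g ∈ OortTate.eigenAug R A p χ j) : f * g ∈ OortTate.eigenAug R A p χ (i + j) := by
  rw [mem_eigenAug_iff] at *
  refine ⟨?_, fun m => ?_⟩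
  · rw [Bialgebra.counit_mul, hf.1, zero_mul]
  · rw [map_mul, hf.2 m, hg.2 m, smul_mul_smul_comm, Nat.cast_add, cz_add]

theorem pow_mem_eigenAug {y : A} (hy : y ∈ OortTate.eigenAug R A p χ 1) (t : ℕ) (ht : 1 ≤ t) :
    y ^ t ∈ OortTate.eigenAug R A p χ t := by
  induction t, ht using Nat.le_induction with
  | base => simpa using hy
  | succ t ht ih =>
    rw [pow_succ]
    exact eigenAug_mul_mem χ t 1 ih hy

theorem eigenAug_one_pow_le (t : ℕ) (ht : 1 ≤ t) :
    (OortTate.eigenAug R A p χ 1) ^ t ≤ OortTate.eigenAug R A p χ t := by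
  induction t, ht using Nat.le_induction with
  | base => simp
  | succ t ht ih =>
    rw [pow_succ, Submodule.mul_le]
    intro f hf g hg
    exact eigenAug_mul_mem χ t 1 (ih hf) hg

theorem eigenAug_congr (i j : ℕ) (h : ((p - 1 : ℕ) : ℤ) ∣ (i : ℤ) - (j : ℤ)) :
    OortTate.eigenAug R A p χ i = OortTate.eigenAug R A p χ j := by
  have hc : ∀ m : (ZMod p)ˣ, cz χ (i : ℤ) m = cz χ (j : ℤ) m := by
    intro m
    have h1 : (i : ℤ) = ((i : ℤ) - (j : ℤ)) + (j : ℤ) := by ring
    rw [h1, cz_add, cz_eq_one_of_dvd χ _ h, one_mul]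
  ext f
  rw [mem_eigenAug_iff, mem_eigenAug_iff]
  simp only [hc]

theorem eigenAug_mod (i : ℕ) :
    OortTate.eigenAug R A p χ i = OortTate.eigenAug R A p χ (i % (p - 1)) := by
  apply eigenAug_congr
  have h := Nat.mod_add_div i (p - 1)
  refine ⟨(i / (p - 1) : ℕ), ?_⟩
  have h2 : (i : ℤ) = ((i % (p - 1) : ℕ) : ℤ) + ((p - 1 : ℕ) : ℤ) * ((i / (p - 1) : ℕ) : ℤ) := by
    exact_mod_cast h.symm
  linarith

end Products

section EpsDer

open Groth.Agent.Lib.Cartier38 Groth.Agent.Lib.Comod

variable {K : Type u} [Field K] {B : Type u} [CommRing B] [HopfAlgebra K B]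

theorem epsDer_one {d : B →ₗ[K] K} (hd : IsEpsDer d) : d 1 = 0 := by
  have h := hd 1 1
  rw [mul_one, Bialgebra.counit_one, one_mul, mul_one] at h
  have : d 1 + d 1 = d 1 + 0 := by rw [add_zero]; exact h.symm
  exact add_left_cancel this

theorem sum_smul_counit {a : B} {ι : Type*} (ℛ : Coalgebra.Repr K a ι) :
    ∑ i ∈ ℛ.index, CoalgebraStruct.counit (R := K) (ℛ.right i) • ℛ.left i = a := by
  have h := congrArg (TensorProduct.rid K B) (Coalgebra.sum_tmul_counit_eq ℛ)
  rw [map_sum] at h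
  simp only [TensorProduct.rid_tmul, one_smul] at h
  exact h

theorem epsDer_powConv {d : B →ₗ[K] K} (hd : IsEpsDer d) (n : ℕ) (x : B) :
    d (SGA3b.powConv K B n x) = (n : K) * d x := by
  induction n with
  | zero =>
    have h0 : SGA3b.powConv K B 0 x = algebraMap K B (CoalgebraStruct.counit (R := K) x) := by
      unfold SGA3b.powConv
      rw [pow_zero]
      rfl
    rw [h0, Algebra.algebraMap_eq_smul_one, map_smul, epsDer_one hd]
    simp
  | succ n ih =>
    have ℛ := Coalgebra.Repr.arbitrary K x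
    have h1 : SGA3b.powConv K B (n + 1) x =
        ∑ i ∈ ℛ.index, SGA3b.powConv K B n (ℛ.left i) * ℛ.right i := by
      unfold SGA3b.powConv
      rw [pow_succ]
      have h2 : ((toConv (AlgHom.id K B)) ^ n * toConv (AlgHom.id K B)).ofConv x =
          (toConv ((toConv (AlgHom.id K B)) ^ n).ofConv.toLinearMap *
            toConv (toConv (AlgHom.id K B)).ofConv.toLinearMap) x := rfl
      rw [h2, ℛ.convMul_apply]
      rfl
    rw [h1, map_sum]
    simp only [hd _ _, counit_powConv]
    rw [Finset.sum_add_distrib]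
    have e1 : ∑ i ∈ ℛ.index, CoalgebraStruct.counit (R := K) (ℛ.left i) * d (ℛ.right i) = d x := by
      conv_rhs => rw [← Coalgebra.sum_counit_smul ℛ, map_sum]
      simp only [map_smul, smul_eq_mul]
    have e2 : ∑ i ∈ ℛ.index, d (SGA3b.powConv K B n (ℛ.left i)) *
        CoalgebraStruct.counit (R := K) (ℛ.right i) = d (SGA3b.powConv K B n x) := by
      conv_rhs => rw [← sum_smul_counit ℛ, map_sum, map_sum]
      simp only [map_smul, smul_eq_mul, mul_comm]
    rw [e1, e2, ih]
    push_cast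
    ring

end EpsDer

section NonReduced

open Groth.Agent.Lib.Cartier38 Groth.Agent.Lib.Comod Groth.Agent.Lib.HopfPrimeOrder41

variable {p : ℕ} [Fact p.Prime] {K : Type u} [Field K] {B : Type u} [CommRing B] [HopfAlgebra K B]
  [Module.Finite K B]

theorem exists_mem_augI_notMem_sq
    (hnil : ∀ f : B, CoalgebraStruct.counit (R := K) f = 0 → IsNilpotent f)
    (hA : 1 < Module.finrank K B) : ∃ x ∈ augI K B, x ∉ augI K B ^ 2 := by
  by_contra hcon
  push Not at hcon
  have hle : augI K B ≤ augI K B ^ 2 := hcon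
  have hInil : IsNilpotent (augI K B) := by
    have : IsNoetherianRing B := IsNoetherianRing.of_finite K B
    rw [Ideal.FG.isNilpotent_iff_le_nilradical (IsNoetherian.noetherian _)]
    intro f hf
    exact mem_nilradical.2 (hnil f (mem_augI.1 hf))
  obtain ⟨n, hn⟩ := hInil
  have hall : ∀ m : ℕ, augI K B ≤ augI K B ^ (m + 1) := by
    intro m
    induction m with
    | zero => simp
    | succ m ih =>
      calc augI K B ≤ augI K B ^ 2 := hle
        _ = augI K B * augI K B := pow_two _
        _ ≤ augI K B ^ (m + 1) * augI K B := Ideal.mul_mono_left ih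
        _ = augI K B ^ (m + 1 + 1) := (pow_succ _ _).symm
  have hbot : augI K B = ⊥ := by
    apply le_bot_iff.1
    calc augI K B ≤ augI K B ^ (n + 1) := hall n
      _ ≤ augI K B ^ n := Ideal.pow_le_pow_right (Nat.le_succ n)
      _ = ⊥ := hn
  have h1 := HopfInfinitesimal41.finrank_eq_one_of_augIdeal_eq_bot (k := K) (A := B)
    (fun f hf => by
      have : f ∈ augI K B := mem_augI.2 hf
      rw [hbot] at this
      exact this)
  omega

theorem exists_eigen_pow_ne_zero_of_nil [CharP K p] (u : K) (χ : (ZMod p)ˣ →* Kˣ)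
    (hu : u * ((p - 1 : ℕ) : K) = 1)
    (hχval : ∀ m : (ZMod p)ˣ, ((χ m : Kˣ) : K) = (((m : ZMod p).val : ℕ) : K))
    (hpB : (toConv (AlgHom.id K B)) ^ p = 1)
    (hnil : ∀ f : B, CoalgebraStruct.counit (R := K) f = 0 → IsNilpotent f)
    (hA : Module.finrank K B = p) :
    ∃ y ∈ OortTate.eigenAug K B p χ 1, y ^ (p - 1) ≠ 0 := by
  have hp : p.Prime := Fact.out
  obtain ⟨x, hx, hx2⟩ := exists_mem_augI_notMem_sq hnil (by rw [hA]; exact hp.one_lt)
  obtain ⟨d, hd, hdx⟩ := exists_epsDer x hx hx2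
  have hyI : ez u χ ((1 : ℕ) : ℤ) x ∈ OortTate.eigenAug K B p χ 1 := by
    rw [eigenAug_eq_map_ez u χ hpB hu 1]
    exact ⟨x, (mem_augKer_iff x).2 (mem_augI.1 hx), rfl⟩
  refine ⟨ez u χ ((1 : ℕ) : ℤ) x, hyI, ?_⟩
  have hdy : d (ez u χ ((1 : ℕ) : ℤ) x) = 1 := by
    rw [ez_apply, map_smul, map_sum]
    have hterm : ∀ m : (ZMod p)ˣ, d (cz χ (-((1 : ℕ) : ℤ)) m • pwm (R := K) m x) = 1 := by
      intro m
      rw [map_smul, smul_eq_mul]
      show cz χ (-((1 : ℕ) : ℤ)) m * d (SGA3b.powConv K B (m : ZMod p).val x) = 1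
      rw [epsDer_powConv hd, hdx, mul_one, ← hχval m]
      have h := cz_neg_mul_self χ ((1 : ℕ) : ℤ) m
      rw [cz_natCast, pow_one] at h
      exact h
    rw [Finset.sum_congr rfl (fun m _ => hterm m), Finset.sum_const, Finset.card_univ,
      card_units_zmod, smul_eq_mul, nsmul_eq_mul, mul_one, hu]
  intro h0
  have hy : ez u χ ((1 : ℕ) : ℤ) x ∈ augI K B := mem_augI.2 ((mem_eigenAug_iff χ 1 _).1 hyI).1
  have h1 := counit_slice_pow_pow hd _ hy hdy (p - 1)
  rw [h0, map_zero, map_zero] at h1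
  have h2 := (CharP.cast_eq_zero_iff K p _).1 h1.symm
  have h3 := (hp.dvd_factorial).1 h2
  have := hp.one_lt
  omega

end NonReduced

section Reduced

open Groth.Agent.Lib.FinEtaleHopf41

variable {p : ℕ} [Fact p.Prime] {K : Type u} [Field K] [IsAlgClosed K] {B : Type u} [CommRing B]
  [HopfAlgebra K B] [Module.Finite K B] [IsReduced B]

theorem exists_eigen_pow_ne_zero_of_isReduced (χ : (ZMod p)ˣ →* Kˣ)
    (hA : Module.finrank K B = p) :
    ∃ y ∈ OortTate.eigenAug K B p χ 1, y ^ (p - 1) ≠ 0 := by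
  classical
  have hp : p.Prime := Fact.out
  have hfin : Finite (B →ₐ[K] K) := finite_points K B
  have : Fintype (B →ₐ[K] K) := Fintype.ofFinite _
  let G := WithConv (B →ₐ[K] K)
  have hfinG : Finite G := Finite.of_equiv _ (WithConv.equiv (B →ₐ[K] K)).symm
  let e : B ≃ₗ[K] ((B →ₐ[K] K) → K) :=
    LinearEquiv.ofBijective (evPts K B).toLinearMap ⟨evPts_injective K B, evPts_surjective K B⟩
  have hcard : Nat.card G = p := by
    rw [← hA, e.finrank_eq, Module.finrank_fintype_fun_eq_card, ← Nat.card_eq_fintype_card]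
    exact Nat.card_congr (WithConv.equiv (B →ₐ[K] K))
  have hcyc : IsCyclic G := isCyclic_of_prime_card hcard
  obtain ⟨θ⟩ : Nonempty (Multiplicative (ZMod p) ≃* G) := by
    have := zmodCyclicMulEquiv hcyc
    rw [hcard] at this
    exact ⟨this⟩
  -- the function `χ` extended by zero
  let idx : (B →ₐ[K] K) → ZMod p := fun φ => Multiplicative.toAdd (θ.symm (toConv φ))
  let F : (B →ₐ[K] K) → K := fun φ =>
    if h : idx φ = 0 then 0 else ((χ (Units.mk0 (idx φ) h) : Kˣ) : K)
  obtain ⟨y, hy⟩ := evPts_surjective K B F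
  have hyφ : ∀ φ : B →ₐ[K] K, φ y = F φ := fun φ => congrFun hy φ
  have hidx_pow : ∀ (φ : B →ₐ[K] K) (n : ℕ),
      idx (ofConv ((toConv φ : G) ^ n)) = (n : ZMod p) * idx φ := by
    intro φ n
    show Multiplicative.toAdd (θ.symm ((toConv φ : G) ^ n)) = _
    rw [map_pow, toAdd_pow, nsmul_eq_mul]
  have hone : toConv (Bialgebra.counitAlgHom K B) = (1 : G) := by
    rw [AlgHom.convOne_def]
    congr 1
  refine ⟨y, ?_, ?_⟩
  · rw [mem_eigenAug_iff]
    constructor
    · have h1 : CoalgebraStruct.counit (R := K) y = (Bialgebra.counitAlgHom K B) y := rfl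
      rw [h1, hyφ]
      have h2 : idx (Bialgebra.counitAlgHom K B) = 0 := by
        show Multiplicative.toAdd (θ.symm (toConv (Bialgebra.counitAlgHom K B))) = 0
        rw [hone, map_one]
        rfl
      show (if h : idx (Bialgebra.counitAlgHom K B) = 0 then (0 : K) else _) = 0
      rw [dif_pos h2]
    · intro m
      apply evPts_injective K B
      funext φ
      rw [evPts_apply, evPts_apply, map_smul, hyφ, smul_eq_mul]
      have h1 : φ (pwm (R := K) m y) =
          (ofConv ((toConv φ : G) ^ (m : ZMod p).val)) y := by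
        have h := comp_convPow φ (toConv (AlgHom.id K B)) (m : ZMod p).val
        exact AlgHom.congr_fun h y
      rw [h1, hyφ]
      have h2 := hidx_pow φ (m : ZMod p).val
      rw [ZMod.natCast_zmod_val] at h2
      show (if h : idx (ofConv ((toConv φ : G) ^ (m : ZMod p).val)) = 0 then (0 : K) else _) =
        cz χ ((1 : ℕ) : ℤ) m * (if h : idx φ = 0 then (0 : K) else _)
      by_cases h0 : idx φ = 0
      · have h3 : idx (ofConv ((toConv φ : G) ^ (m : ZMod p).val)) = 0 := by
          rw [h2, h0, mul_zero]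
        rw [dif_pos h0, dif_pos h3, mul_zero]
      · have h3 : idx (ofConv ((toConv φ : G) ^ (m : ZMod p).val)) ≠ 0 := by
          rw [h2]
          exact mul_ne_zero (Units.ne_zero m) h0
        rw [dif_neg h0, dif_neg h3, cz_natCast, pow_one]
        have h4 : Units.mk0 (idx (ofConv ((toConv φ : G) ^ (m : ZMod p).val))) h3 =
            m * Units.mk0 (idx φ) h0 := by
          apply Units.ext
          rw [Units.val_mk0, Units.val_mul, Units.val_mk0, h2]
        rw [h4, map_mul, Units.val_mul]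
  · intro h0
    let φ₀ : B →ₐ[K] K := ofConv (θ (Multiplicative.ofAdd (1 : ZMod p)))
    have h1 : φ₀ (y ^ (p - 1)) = 0 := by rw [h0, map_zero]
    rw [map_pow, hyφ] at h1
    have h2 : idx φ₀ = 1 := by
      show Multiplicative.toAdd (θ.symm (toConv (ofConv (θ (Multiplicative.ofAdd (1 : ZMod p)))))) = 1
      rw [WithConv.toConv_ofConv, MulEquiv.symm_apply_apply]
      rfl
    have h3 : idx φ₀ ≠ 0 := by
      rw [h2]
      haveI : Fact (1 < p) := ⟨hp.one_lt⟩
      exact one_ne_zero
    have h4 : F φ₀ = ((χ (Units.mk0 (idx φ₀) h3) : Kˣ) : K) := by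
      show (if h : idx φ₀ = 0 then (0 : K) else _) = _
      rw [dif_neg h3]
    rw [h4] at h1
    exact (pow_ne_zero _ (Units.ne_zero _)) h1

end Reduced

section Main

open Groth.Agent.Lib.HopfPrimeClass41

variable {p : ℕ} [Fact p.Prime] {K : Type u} [Field K] [IsAlgClosed K] {B : Type u} [CommRing B]
  [HopfAlgebra K B] [Module.Finite K B]

/-- Over an algebraically closed field, a group scheme of order `p` has an element `y ∈ I_1` with
`y ^ (p - 1) ≠ 0`. -/
theorem exists_eigen_pow_ne_zero (u : K) (χ : (ZMod p)ˣ →* Kˣ)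
    (hu : u * ((p - 1 : ℕ) : K) = 1)
    (hχp : ∀ m : (ZMod p)ˣ, ((χ m : Kˣ) : K) - (((m : ZMod p).val : ℕ) : K) ∈
      Ideal.span ({(p : K)} : Set K))
    (hA : Module.finrank K B = p) :
    ∃ y ∈ OortTate.eigenAug K B p χ 1, y ^ (p - 1) ≠ 0 := by
  have hp : p.Prime := Fact.out
  by_cases hred : IsReduced B
  · exact exists_eigen_pow_ne_zero_of_isReduced χ hA
  · obtain ⟨ℓ, hℓ⟩ := CharP.exists K
    rcases CharP.char_is_prime_or_zero K ℓ with hℓp | rfl
    · haveI : Fact ℓ.Prime := ⟨hℓp⟩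
      rcases isReduced_or_nil_of_finrank_eq_prime K B ℓ p hp hA with h | ⟨hpl, hnil⟩
      · exact absurd h hred
      · subst hpl
        have hpB : (toConv (AlgHom.id K B)) ^ p = 1 := by
          have h := HopfKilledByOrder41.convPow_finrank_eq_one_of_isAlgClosed K B
          rwa [hA] at h
        have hχval : ∀ m : (ZMod p)ˣ, ((χ m : Kˣ) : K) = (((m : ZMod p).val : ℕ) : K) := by
          intro m
          have h := hχp m
          rw [CharP.cast_eq_zero K p, Ideal.span_singleton_zero, Ideal.mem_bot, sub_eq_zero] at h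
          exact h
        exact exists_eigen_pow_ne_zero_of_nil u χ hu hχval hpB hnil hA
    · exfalso
      have : CharZero K := CharP.charP_to_charZero K
      exact hred (Cartier38.isReduced_of_charZero K B)

end Main

end Groth.Agent.Lib.OortTate55
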