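import Mathlib
import Groth.Prelude.Def_W4c5ffgsreadingcourseOT
import Groth.Agent.Lib.OortTate55a
import Groth.Agent.Lib.OortTate55c
import Groth.Agent.Lib.HopfKilledByOrder41

/-!
# Oort–Tate eigenspaces: the projector onto `I_i` and base change (helper55)

* `pr u χ i`: the idempotent `e_i ∘ (id - η ε)` with range `I_i`; `pr_mem`, `pr_of_mem`;
* `finite_eigenAug`, `projective_eigenAug`;
* `pr_baseChange`: compatibility with base change `R → K`;
* `eigenAug_baseChange_le`: `I_i (K ⊗ A)` is spanned by the image of `I_i (A)`;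
* `exists_pow_tmul_ne_zero`: for `K` algebraically closed there is `n ∈ I_1 ^ t` with
  `1 ⊗ n ≠ 0` in `K ⊗ A`.
-/

set_option autoImplicit false
universe u

open WithConv
open scoped TensorProduct Pointwise

namespace Groth.Agent.Lib.OortTate55

section Proj

variable {p : ℕ} [Fact p.Prime] {R : Type u} [CommRing R] {A : Type u} [CommRing A]
  [HopfAlgebra R A] (u : R) (χ : (ZMod p)ˣ →* Rˣ)

/-- projection onto the augmentation ideal -/
noncomputable def qaug : A →ₗ[R] A :=
  LinearMap.id - (Algebra.linearMap R A) ∘ₗ (Bialgebra.counitAlgHom R A).toLinearMap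

theorem qaug_apply (a : A) :
    qaug (R := R) a = a - algebraMap R A (CoalgebraStruct.counit (R := R) a) := rfl

theorem counit_qaug (a : A) : CoalgebraStruct.counit (R := R) (qaug (R := R) a) = 0 := by
  rw [qaug_apply, map_sub, Bialgebra.counit_algebraMap, sub_self]

theorem qaug_of_counit_eq_zero (a : A) (ha : CoalgebraStruct.counit (R := R) a = 0) :
    qaug (R := R) a = a := by
  rw [qaug_apply, ha, map_zero, sub_zero]

/-- the projector onto `I_i` -/
noncomputable def pr (i : ℕ) : A →ₗ[R] A := ez u χ (i : ℤ) ∘ₗ qaug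

theorem pr_apply (i : ℕ) (a : A) : pr u χ i a = ez u χ (i : ℤ) (qaug (R := R) a) := rfl

variable (hp : (toConv (AlgHom.id R A)) ^ p = 1) (hu : u * ((p - 1 : ℕ) : R) = 1)

include hp hu in
theorem pr_mem (i : ℕ) (a : A) : pr u χ i a ∈ OortTate.eigenAug R A p χ i := by
  rw [eigenAug_eq_map_ez u χ hp hu i]
  exact ⟨qaug (R := R) a, (mem_augKer_iff _).2 (counit_qaug a), rfl⟩

include hu in
theorem pr_of_mem (i : ℕ) (f : A) (hf : f ∈ OortTate.eigenAug R A p χ i) : pr u χ i f = f := by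
  rw [mem_eigenAug_iff] at hf
  rw [pr_apply, qaug_of_counit_eq_zero f hf.1]
  exact ez_eq_self u χ hu i i (by simp) f hf.2

include hp hu in
theorem finite_eigenAug [Module.Finite R A] (i : ℕ) :
    Module.Finite R (OortTate.eigenAug R A p χ i) := by
  let g : A →ₗ[R] OortTate.eigenAug R A p χ i :=
    (pr u χ i).codRestrict _ (pr_mem u χ hp hu i)
  refine Module.Finite.of_surjective g ?_
  intro ⟨f, hf⟩
  refine ⟨f, ?_⟩
  apply Subtype.ext
  exact pr_of_mem u χ hu i f hf

include hp hu in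
theorem projective_eigenAug [Module.Projective R A] (i : ℕ) :
    Module.Projective R (OortTate.eigenAug R A p χ i) := by
  let g : A →ₗ[R] OortTate.eigenAug R A p χ i :=
    (pr u χ i).codRestrict _ (pr_mem u χ hp hu i)
  refine Module.Projective.of_split (OortTate.eigenAug R A p χ i).subtype g ?_
  apply LinearMap.ext
  intro ⟨f, hf⟩
  apply Subtype.ext
  exact pr_of_mem u χ hu i f hf

end Proj

section BaseChange

variable {p : ℕ} [Fact p.Prime] {R : Type u} [CommRing R] {A : Type u} [CommRing A]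
  [HopfAlgebra R A] (u : R) (χ : (ZMod p)ˣ →* Rˣ)
  (K : Type u) [CommRing K] [Algebra R K]

/-- the base-changed character -/
noncomputable def chiK : (ZMod p)ˣ →* Kˣ :=
  (Units.map (algebraMap R K : R →* K)).comp χ

theorem chiK_apply (m : (ZMod p)ˣ) :
    ((chiK χ K m : Kˣ) : K) = algebraMap R K ((χ m : Rˣ) : R) := rfl

theorem cz_chiK (k : ℤ) (m : (ZMod p)ˣ) : cz (chiK χ K) k m = algebraMap R K (cz χ k m) := by
  unfold cz
  have h : (chiK χ K m) ^ k = Units.map (algebraMap R K : R →* K) ((χ m) ^ k) := by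
    rw [map_zpow]
    rfl
  rw [h]
  rfl

theorem pwm_baseChange (m : (ZMod p)ˣ) (c : K) (a : A) :
    pwm (R := K) (A := K ⊗[R] A) m (c ⊗ₜ[R] a) = c ⊗ₜ[R] pwm (R := R) m a := by
  have h1 : c ⊗ₜ[R] a = c • ((1 : K) ⊗ₜ[R] a) := by
    rw [TensorProduct.smul_tmul', smul_eq_mul, mul_one]
  have h2 : c ⊗ₜ[R] pwm (R := R) m a = c • ((1 : K) ⊗ₜ[R] pwm (R := R) m a) := by
    rw [TensorProduct.smul_tmul', smul_eq_mul, mul_one]
  rw [h1, h2, map_smul]
  congr 1
  exact HopfKilledByOrder41.convPow_id_baseChange_apply K (m : ZMod p).val a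

theorem counit_baseChange (c : K) (a : A) :
    CoalgebraStruct.counit (R := K) (c ⊗ₜ[R] a) =
      c * algebraMap R K (CoalgebraStruct.counit (R := R) a) := by
  rw [TensorProduct.counit_tmul, Algebra.smul_def, mul_comm]
  rfl

theorem qaug_baseChange (c : K) (a : A) :
    qaug (R := K) (A := K ⊗[R] A) (c ⊗ₜ[R] a) = c ⊗ₜ[R] qaug (R := R) a := by
  rw [qaug_apply, qaug_apply, counit_baseChange, TensorProduct.tmul_sub,
    Algebra.TensorProduct.algebraMap_apply, Algebra.algebraMap_eq_smul_one (A := A),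
    TensorProduct.tmul_smul, TensorProduct.smul_tmul', Algebra.smul_def, Algebra.algebraMap_self,
    RingHom.id_apply, mul_comm]

theorem ez_baseChange (k : ℤ) (c : K) (a : A) :
    ez (algebraMap R K u) (chiK χ K) k (c ⊗ₜ[R] a) = c ⊗ₜ[R] ez u χ k a := by
  rw [ez_apply, ez_apply, TensorProduct.tmul_smul, TensorProduct.tmul_sum, algebraMap_smul]
  congr 1
  refine Finset.sum_congr rfl fun m _ => ?_
  rw [pwm_baseChange, cz_chiK, algebraMap_smul, TensorProduct.tmul_smul]

theorem pr_baseChange (i : ℕ) (c : K) (a : A) :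
    pr (algebraMap R K u) (chiK χ K) i (c ⊗ₜ[R] a) = c ⊗ₜ[R] pr u χ i a := by
  rw [pr_apply, pr_apply, qaug_baseChange, ez_baseChange]

variable (hp : (toConv (AlgHom.id R A)) ^ p = 1) (hu : u * ((p - 1 : ℕ) : R) = 1)

include hp hu in
theorem eigenAug_baseChange_le (i : ℕ) :
    OortTate.eigenAug K (K ⊗[R] A) p (chiK χ K) i ≤
      Submodule.span K ((fun a : A => (1 : K) ⊗ₜ[R] a) '' (OortTate.eigenAug R A p χ i : Set A)) := by
  have huK : algebraMap R K u * ((p - 1 : ℕ) : K) = 1 := by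
    rw [← map_natCast (algebraMap R K), ← map_mul, hu, map_one]
  have hgen : ∀ z : K ⊗[R] A, pr (algebraMap R K u) (chiK χ K) i z ∈
      Submodule.span K ((fun a : A => (1 : K) ⊗ₜ[R] a) '' (OortTate.eigenAug R A p χ i : Set A)) := by
    intro z
    induction z using TensorProduct.induction_on with
    | zero => rw [map_zero]; exact Submodule.zero_mem _
    | add x y hx hy => rw [map_add]; exact Submodule.add_mem _ hx hy
    | tmul c a =>
      rw [pr_baseChange]
      have h1 : c ⊗ₜ[R] pr u χ i a = c • ((1 : K) ⊗ₜ[R] pr u χ i a) := by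
        rw [TensorProduct.smul_tmul', smul_eq_mul, mul_one]
      rw [h1]
      exact Submodule.smul_mem _ _ (Submodule.subset_span ⟨_, pr_mem u χ hp hu i a, rfl⟩)
  intro z hz
  have h1 := pr_of_mem (algebraMap R K u) (chiK χ K) huK i z hz
  rw [← h1]
  exact hgen z

end BaseChange

section Geometric

variable {p : ℕ} [Fact p.Prime] {R : Type u} [CommRing R] {A : Type u} [CommRing A]
  [HopfAlgebra R A] [Module.Finite R A] (u : R) (χ : (ZMod p)ˣ →* Rˣ)
  (K : Type u) [Field K] [IsAlgClosed K] [Algebra R K]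
  (hp : (toConv (AlgHom.id R A)) ^ p = 1) (hu : u * ((p - 1 : ℕ) : R) = 1)

theorem image_pow_subset (M : Submodule R A) (t : ℕ) :
    ((fun a : A => (1 : K) ⊗ₜ[R] a) '' (M : Set A)) ^ t ⊆
      (fun a : A => (1 : K) ⊗ₜ[R] a) '' ((M ^ t : Submodule R A) : Set A) := by
  induction t with
  | zero =>
    rw [pow_zero, pow_zero]
    intro x hx
    rw [Set.mem_one] at hx
    subst hx
    exact ⟨1, Submodule.one_le.1 le_rfl, rfl⟩
  | succ t ih =>
    rw [pow_succ, pow_succ]
    intro x hx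
    obtain ⟨a, ha, b, hb, rfl⟩ := Set.mem_mul.1 hx
    obtain ⟨a', ha', rfl⟩ := ih ha
    obtain ⟨b', hb', rfl⟩ := hb
    refine ⟨a' * b', Submodule.mul_mem_mul ha' hb', ?_⟩
    show (1 : K) ⊗ₜ[R] (a' * b') = (1 : K) ⊗ₜ[R] a' * (1 : K) ⊗ₜ[R] b'
    rw [Algebra.TensorProduct.tmul_mul_tmul, one_mul]

include hp hu in
theorem exists_pow_tmul_ne_zero
    (hχp : ∀ m : (ZMod p)ˣ, ((χ m : Rˣ) : R) - (((m : ZMod p).val : ℕ) : R) ∈
      Ideal.span ({(p : R)} : Set R))
    (hrkK : Module.finrank K (K ⊗[R] A) = p) (t : ℕ) (ht : t ≤ p - 1) :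
    ∃ n ∈ (OortTate.eigenAug R A p χ 1) ^ t, (1 : K) ⊗ₜ[R] n ≠ 0 := by
  have huK : algebraMap R K u * ((p - 1 : ℕ) : K) = 1 := by
    rw [← map_natCast (algebraMap R K), ← map_mul, hu, map_one]
  have hχpK : ∀ m : (ZMod p)ˣ, ((chiK χ K m : Kˣ) : K) - (((m : ZMod p).val : ℕ) : K) ∈
      Ideal.span ({(p : K)} : Set K) := by
    intro m
    obtain ⟨r, hr⟩ := Ideal.mem_span_singleton'.1 (hχp m)
    refine Ideal.mem_span_singleton'.2 ⟨algebraMap R K r, ?_⟩
    rw [chiK_apply, ← map_natCast (algebraMap R K) p, ← map_mul, hr, map_sub, map_natCast]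
  obtain ⟨y, hy, hy0⟩ := exists_eigen_pow_ne_zero (algebraMap R K u) (chiK χ K) huK hχpK hrkK
  have hyt : y ^ t ≠ 0 := by
    intro h
    apply hy0
    rw [← Nat.sub_add_cancel ht, pow_add, h, mul_zero]
  by_contra hall
  push Not at hall
  apply hyt
  have hyS := eigenAug_baseChange_le u χ K hp hu 1 hy
  have hpow := Submodule.pow_mem_pow _ hyS t
  rw [Submodule.span_pow] at hpow
  have hle := Submodule.span_mono (R := K) (image_pow_subset (R := R) (A := A) K
    (OortTate.eigenAug R A p χ 1) t)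
  have h1 := hle hpow
  have h2 : Submodule.span K ((fun a : A => (1 : K) ⊗ₜ[R] a) ''
      (((OortTate.eigenAug R A p χ 1) ^ t : Submodule R A) : Set A)) = ⊥ := by
    rw [Submodule.span_eq_bot]
    rintro _ ⟨n, hn, rfl⟩
    exact hall n hn
  rw [h2] at h1
  exact (Submodule.mem_bot K).1 h1

end Geometric

end Groth.Agent.Lib.OortTate55
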