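import Mathlib
import Groth.Prelude.Def_W4c5ffgsreadingcourseOT
import Groth.Agent.Lib.OortTate55a
import Groth.Agent.Lib.OortTate55c
import Groth.Agent.Lib.OortTate55d
import Groth.Agent.Lib.PrimeOrderComm55c
import Groth.Agent.Lib.HopfDeligne41

/-!
# Oort–Tate eigenspaces are invertible and `I_1 ^ t = I_t` (helper55)
-/

set_option autoImplicit false
universe u

open WithConv
open scoped TensorProduct

namespace Groth.Agent.Lib.OortTate55

section Nakayama

variable {R : Type*} [CommRing R] {A : Type*} [AddCommGroup A] [Module R A]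

/-- Global Nakayama: if `M` is finitely generated and `M ≤ N + 𝔪 M` for every maximal ideal `𝔪`,
then `M ≤ N`. -/
theorem le_of_forall_maximal_le_sup_smul (N M : Submodule R A) (hM : M.FG)
    (h : ∀ 𝔪 : Ideal R, 𝔪.IsMaximal → M ≤ N ⊔ 𝔪 • M) : M ≤ N := by
  by_contra hne
  have hJ : N.colon (M : Set A) ≠ ⊤ := by
    intro htop
    apply hne
    intro m hm
    have h1 : (1 : R) ∈ N.colon (M : Set A) := htop ▸ Submodule.mem_top
    have h2 := Submodule.mem_colon.1 h1 m hm
    rwa [one_smul] at h2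
  obtain ⟨𝔪, hmax, hle⟩ := Ideal.exists_le_maximal _ hJ
  have h1 : M.map N.mkQ ≤ 𝔪 • M.map N.mkQ := by
    rw [← Submodule.map_smul'']
    have h2 := Submodule.map_mono (f := N.mkQ) (h 𝔪 hmax)
    rw [Submodule.map_sup, N.mkQ_map_self, bot_sup_eq] at h2
    exact h2
  obtain ⟨r, hr1, hr0⟩ :=
    Submodule.exists_sub_one_mem_and_smul_eq_zero_of_fg_of_le_smul 𝔪 _ (hM.map _) h1
  have hrJ : r ∈ N.colon (M : Set A) := by
    rw [Submodule.mem_colon]
    intro m hm
    have h2 := hr0 (N.mkQ m) (Submodule.mem_map_of_mem hm)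
    rw [← map_smul, Submodule.mkQ_apply, Submodule.Quotient.mk_eq_zero] at h2
    exact h2
  have h3 : (1 : R) ∈ 𝔪 := by
    have h4 := 𝔪.sub_mem (hle hrJ) hr1
    simpa using h4
  exact hmax.ne_top ((Ideal.eq_top_iff_one _).2 h3)

/-- In a finite projective module of rank one at a maximal ideal `𝔪`, any element outside `𝔪 M`
generates modulo `𝔪 M`. -/
theorem exists_sub_smul_mem_of_rank_one (M : Type*) [AddCommGroup M] [Module R M]
    [Module.Finite R M] [Module.Projective R M] (𝔪 : Ideal R) [h𝔪 : 𝔪.IsMaximal]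
    (hrk : Module.rankAtStalk M ⟨𝔪, h𝔪.isPrime⟩ = 1) (x : M)
    (hx : x ∉ 𝔪 • (⊤ : Submodule R M)) (m : M) :
    ∃ r : R, m - r • x ∈ 𝔪 • (⊤ : Submodule R M) := by
  letI : Field (R ⧸ 𝔪) := Ideal.Quotient.field 𝔪
  have hV : Module.finrank (R ⧸ 𝔪) ((R ⧸ 𝔪) ⊗[R] M) = 1 := by
    have h1 := Module.rankAtStalk_baseChange (R := R) (M := M) (S := R ⧸ 𝔪) ⊥
    have h2 : PrimeSpectrum.comap (algebraMap R (R ⧸ 𝔪)) ⊥ = ⟨𝔪, h𝔪.isPrime⟩ := by
      apply PrimeSpectrum.ext
      show Ideal.comap (algebraMap R (R ⧸ 𝔪)) ⊥ = 𝔪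
      rw [← RingHom.ker_eq_comap_bot]
      exact Ideal.mk_ker
    rw [h2, hrk] at h1
    rw [← h1, Module.rankAtStalk_eq_finrank_of_free]
    rfl
  have key : ∀ y : M, ((1 : R ⧸ 𝔪) ⊗ₜ[R] y = 0) → y ∈ 𝔪 • (⊤ : Submodule R M) := by
    intro y hy
    have h1 := congrArg (TensorProduct.quotTensorEquivQuotSMul M 𝔪) hy
    rw [TensorProduct.quotTensorEquivQuotSMul_mk_one_tmul, map_zero,
      Submodule.Quotient.mk_eq_zero] at h1
    exact h1
  have hx0 : (1 : R ⧸ 𝔪) ⊗ₜ[R] x ≠ 0 := fun h => hx (key x h)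
  obtain ⟨c, hc⟩ := (finrank_eq_one_iff_of_nonzero' _ hx0).1 hV ((1 : R ⧸ 𝔪) ⊗ₜ[R] m)
  obtain ⟨r, rfl⟩ := Ideal.Quotient.mk_surjective c
  refine ⟨r, key _ ?_⟩
  rw [TensorProduct.tmul_sub, ← hc, TensorProduct.tmul_smul, TensorProduct.smul_tmul', sub_eq_zero]
  congr 1

end Nakayama

section Decomp

variable {p : ℕ} [Fact p.Prime] {R : Type u} [CommRing R] {A : Type u} [CommRing A]
  [HopfAlgebra R A] (u : R) (χ : (ZMod p)ˣ →* Rˣ)
  (hp : (toConv (AlgHom.id R A)) ^ p = 1) (hu : u * ((p - 1 : ℕ) : R) = 1)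
  (hχ : ∀ m : (ZMod p)ˣ, m ≠ 1 → IsUnit ((χ m : R) - 1))

/-- the map `A → R × Π_k I_k` -/
noncomputable def decompTo :
    A →ₗ[R] R × (Π k : Fin (p - 1), OortTate.eigenAug R A p χ (k : ℕ)) :=
  LinearMap.prod (Bialgebra.counitAlgHom R A).toLinearMap
    (LinearMap.pi fun k : Fin (p - 1) =>
      (pr u χ (k : ℕ)).codRestrict _ (pr_mem u χ hp hu (k : ℕ)))

/-- the map `R × Π_k I_k → A` -/
noncomputable def decompInv :
    R × (Π k : Fin (p - 1), OortTate.eigenAug R A p χ (k : ℕ)) →ₗ[R] A :=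
  LinearMap.coprod (Algebra.linearMap R A)
    (∑ k : Fin (p - 1), (Submodule.subtype _).comp (LinearMap.proj k))

theorem decompInv_apply (x : R × (Π k : Fin (p - 1), OortTate.eigenAug R A p χ (k : ℕ))) :
    decompInv χ x = algebraMap R A x.1 + ∑ k : Fin (p - 1), ((x.2 k : A)) := by
  simp [decompInv, LinearMap.sum_apply]

include hχ in
theorem decompInv_decompTo (a : A) : decompInv χ (decompTo u χ hp hu a) = a := by
  rw [decompInv_apply]
  show algebraMap R A (CoalgebraStruct.counit (R := R) a) +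
    ∑ k : Fin (p - 1), pr u χ (k : ℕ) a = a
  simp only [pr_apply]
  rw [sum_ez u χ hu hχ, qaug_apply]
  ring

include hχ in
theorem decompTo_decompInv
    (x : R × (Π k : Fin (p - 1), OortTate.eigenAug R A p χ (k : ℕ))) :
    decompTo u χ hp hu (decompInv χ x) = x := by
  obtain ⟨r, y⟩ := x
  have hy : ∀ k, CoalgebraStruct.counit (R := R) ((y k : A)) = 0 :=
    fun k => ((mem_eigenAug_iff χ _ _).1 (y k).2).1
  rw [decompInv_apply]
  apply Prod.ext
  · show CoalgebraStruct.counit (R := R) (algebraMap R A r + ∑ k : Fin (p - 1), ((y k : A))) = r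
    rw [map_add, map_sum, Bialgebra.counit_algebraMap]
    simp only [hy, Finset.sum_const_zero, add_zero]
  · funext j
    apply Subtype.ext
    show pr u χ (j : ℕ) (algebraMap R A r + ∑ k : Fin (p - 1), ((y k : A))) = (y j : A)
    rw [map_add, map_sum]
    have h1 : pr u χ (j : ℕ) (algebraMap R A r) = 0 := by
      rw [pr_apply, qaug_apply, Bialgebra.counit_algebraMap, sub_self, map_zero]
    rw [h1, zero_add, Finset.sum_eq_single j]
    · exact pr_of_mem u χ hu _ _ (y j).2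
    · intro k _ hkj
      rw [pr_apply, qaug_of_counit_eq_zero _ (hy k)]
      refine ez_eq_zero u χ hχ _ _ ?_ _ ((mem_eigenAug_iff χ _ _).1 (y k).2).2
      intro hdvd
      apply hkj
      have hj' := j.2
      have hk' := k.2
      have h3 : |((k : ℕ) : ℤ) - ((j : ℕ) : ℤ)| < ((p - 1 : ℕ) : ℤ) := by
        rw [abs_lt]
        constructor <;> omega
      have h4 := Int.eq_zero_of_abs_lt_dvd hdvd h3
      apply Fin.ext
      omega
    · intro h
      exact absurd (Finset.mem_univ _) h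

/-- `A ≃ R × Π_k I_k` -/
noncomputable def decompEquiv (hχ : ∀ m : (ZMod p)ˣ, m ≠ 1 → IsUnit ((χ m : R) - 1)) :
    A ≃ₗ[R] R × (Π k : Fin (p - 1), OortTate.eigenAug R A p χ (k : ℕ)) :=
  LinearEquiv.ofLinear (decompTo u χ hp hu) (decompInv χ)
    (LinearMap.ext fun x => decompTo_decompInv u χ hp hu hχ x)
    (LinearMap.ext fun a => decompInv_decompTo u χ hp hu hχ a)

end Decomp

section Main

variable {p : ℕ} [Fact p.Prime] {R : Type u} [CommRing R] {A : Type u} [CommRing A]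
  [HopfAlgebra R A] [Module.Finite R A] [Module.Projective R A] (u : R) (χ : (ZMod p)ˣ →* Rˣ)
  (hp : (toConv (AlgHom.id R A)) ^ p = 1) (hu : u * ((p - 1 : ℕ) : R) = 1)
  (hχ : ∀ m : (ZMod p)ˣ, m ≠ 1 → IsUnit ((χ m : R) - 1))
  (hχp : ∀ m : (ZMod p)ˣ, ((χ m : Rˣ) : R) - (((m : ZMod p).val : ℕ) : R) ∈
      Ideal.span ({(p : R)} : Set R))
  (hrk : ∀ q : PrimeSpectrum R, Module.rankAtStalk A q = p)

/-- the geometric point above a prime -/
abbrev KK (q : PrimeSpectrum R) : Type u := AlgebraicClosure q.asIdeal.ResidueField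

theorem algebraMap_KK_eq_zero (q : PrimeSpectrum R) (r : R) :
    algebraMap R (KK q) r = 0 ↔ r ∈ q.asIdeal := by
  rw [IsScalarTower.algebraMap_apply R q.asIdeal.ResidueField (KK q),
    map_eq_zero_iff _ (algebraMap q.asIdeal.ResidueField (KK q)).injective,
    Ideal.algebraMap_residueField_eq_zero]

include hrk in
theorem finrank_KK (q : PrimeSpectrum R) : Module.finrank (KK q) (KK q ⊗[R] A) = p := by
  have h1 := Module.rankAtStalk_baseChange (R := R) (M := A) (S := KK q) ⊥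
  rw [hrk] at h1
  rw [← h1, Module.rankAtStalk_eq_finrank_of_free]
  rfl

include hp hu hχp hrk in
theorem exists_mem_pow_tmul_ne_zero (q : PrimeSpectrum R) (t : ℕ) (ht : t ≤ p - 1) :
    ∃ n ∈ (OortTate.eigenAug R A p χ 1) ^ t, (1 : KK q) ⊗ₜ[R] n ≠ 0 :=
  exists_pow_tmul_ne_zero u χ (KK q) hp hu hχp (finrank_KK hrk q) t ht

theorem mem_of_smul_eq_zero (q : PrimeSpectrum R) (n : A) (hn : (1 : KK q) ⊗ₜ[R] n ≠ 0) (r : R)
    (hr : r • n = 0) : r ∈ q.asIdeal := by
  rw [← algebraMap_KK_eq_zero]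
  have h1 : algebraMap R (KK q) r • ((1 : KK q) ⊗ₜ[R] n) = 0 := by
    rw [algebraMap_smul, ← TensorProduct.tmul_smul, hr, TensorProduct.tmul_zero]
  exact (smul_eq_zero.1 h1).resolve_right hn

theorem tmul_eq_zero_of_mem_smul (q : PrimeSpectrum R) (M : Submodule R A) (x : A)
    (hx : x ∈ q.asIdeal • M) : (1 : KK q) ⊗ₜ[R] x = 0 := by
  refine Submodule.smul_induction_on hx ?_ ?_
  · intro r hr m _
    rw [TensorProduct.tmul_smul, ← algebraMap_smul (KK q) r, (algebraMap_KK_eq_zero q r).2 hr,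
      zero_smul]
  · intro x y hx hy
    rw [TensorProduct.tmul_add, hx, hy, add_zero]

/-- the representative `t ∈ [1, p - 1]` of `i` modulo `p - 1` -/
def trep (p i : ℕ) : ℕ := if i % (p - 1) = 0 then p - 1 else i % (p - 1)

theorem trep_le (i : ℕ) : trep p i ≤ p - 1 := by
  have hp2 : 2 ≤ p := (Fact.out : p.Prime).two_le
  unfold trep
  split_ifs with h
  · exact le_rfl
  · exact (Nat.mod_lt _ (by omega)).le

theorem one_le_trep (i : ℕ) : 1 ≤ trep p i := by
  have hp2 : 2 ≤ p := (Fact.out : p.Prime).two_le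
  unfold trep
  split_ifs with h
  · omega
  · omega

theorem eigenAug_trep (i : ℕ) :
    OortTate.eigenAug R A p χ (trep p i) = OortTate.eigenAug R A p χ i := by
  unfold trep
  split_ifs with h
  · apply eigenAug_congr
    have h1 : (p - 1) ∣ i := Nat.dvd_of_mod_eq_zero h
    obtain ⟨c, hc⟩ := h1
    refine ⟨1 - (c : ℤ), ?_⟩
    rw [hc]
    push_cast
    ring
  · exact (eigenAug_mod χ i).symm

include hp hu hχp hrk in
theorem rankAtStalk_eigenAug_pos (q : PrimeSpectrum R) (i : ℕ) :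
    0 < Module.rankAtStalk (OortTate.eigenAug R A p χ i) q := by
  haveI := finite_eigenAug u χ hp hu (A := A) i
  haveI := projective_eigenAug u χ hp hu (A := A) i
  rw [Module.rankAtStalk_pos_iff_mem_support, Module.mem_support_iff']
  obtain ⟨n, hn, hn0⟩ := exists_mem_pow_tmul_ne_zero u χ hp hu hχp hrk q (trep p i) (trep_le i)
  have hn' : n ∈ OortTate.eigenAug R A p χ i := by
    rw [← eigenAug_trep χ i]
    exact eigenAug_one_pow_le χ _ (one_le_trep i) hn
  refine ⟨⟨n, hn'⟩, ?_⟩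
  intro r hr h0
  apply hr
  apply mem_of_smul_eq_zero q n hn0 r
  exact congrArg Subtype.val h0

include hp hu hχ hrk in
theorem sum_rankAtStalk_eigenAug (q : PrimeSpectrum R) :
    ∑ k : Fin (p - 1), Module.rankAtStalk (OortTate.eigenAug R A p χ (k : ℕ)) q = p - 1 := by
  haveI : ∀ k : Fin (p - 1), Module.Finite R (OortTate.eigenAug R A p χ (k : ℕ)) :=
    fun k => finite_eigenAug u χ hp hu (A := A) _
  haveI : ∀ k : Fin (p - 1), Module.Projective R (OortTate.eigenAug R A p χ (k : ℕ)) :=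
    fun k => projective_eigenAug u χ hp hu (A := A) _
  haveI : Nontrivial R := q.2.ne_top |> fun h => by
    by_contra hnt
    rw [not_nontrivial_iff_subsingleton] at hnt
    exact h (Subsingleton.elim _ _)
  haveI : Module.Flat R (Π k : Fin (p - 1), OortTate.eigenAug R A p χ (k : ℕ)) := by
    classical
    exact Module.Flat.of_linearEquiv (DFinsupp.linearEquivFunOnFintype (R := R)
      (M := fun k : Fin (p - 1) => OortTate.eigenAug R A p χ (k : ℕ))).symm
  have h1 := Module.rankAtStalk_eq_of_equiv (decompEquiv u χ hp hu hχ)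
  have h2 := congrFun h1 q
  rw [hrk, Module.rankAtStalk_prod, Pi.add_apply, Module.rankAtStalk_self, Module.rankAtStalk_pi,
    finsum_eq_sum_of_fintype] at h2
  have : (1 : PrimeSpectrum R → ℕ) q = 1 := rfl
  omega

include hp hu hχ hχp hrk in
theorem rankAtStalk_eigenAug_eq_one (q : PrimeSpectrum R) (i : ℕ) :
    Module.rankAtStalk (OortTate.eigenAug R A p χ i) q = 1 := by
  have hp2 : 2 ≤ p := (Fact.out : p.Prime).two_le
  rw [eigenAug_mod χ i]
  let k : Fin (p - 1) := ⟨i % (p - 1), Nat.mod_lt _ (by omega)⟩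
  have hsum := sum_rankAtStalk_eigenAug u χ hp hu hχ hrk q
  have hpos : ∀ j : Fin (p - 1),
      1 ≤ Module.rankAtStalk (OortTate.eigenAug R A p χ (j : ℕ)) q :=
    fun j => rankAtStalk_eigenAug_pos u χ hp hu hχp hrk q _
  by_contra hne
  have hlt : ∑ _j : Fin (p - 1), 1 <
      ∑ j : Fin (p - 1), Module.rankAtStalk (OortTate.eigenAug R A p χ (j : ℕ)) q :=
    Finset.sum_lt_sum (fun j _ => hpos j)
      ⟨k, Finset.mem_univ _, lt_of_le_of_ne (hpos k) (Ne.symm hne)⟩
  rw [hsum] at hlt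
  simp at hlt

include hp hu hχ hχp hrk in
theorem eigenAug_one_pow_eq (t : ℕ) (ht1 : 1 ≤ t) (ht : t ≤ p - 1) :
    (OortTate.eigenAug R A p χ 1) ^ t = OortTate.eigenAug R A p χ t := by
  apply le_antisymm (eigenAug_one_pow_le χ t ht1)
  haveI := finite_eigenAug u χ hp hu (A := A) t
  haveI := projective_eigenAug u χ hp hu (A := A) t
  apply le_of_forall_maximal_le_sup_smul _ _ (Module.Finite.iff_fg.1 inferInstance)
  intro 𝔪 hmax
  let q : PrimeSpectrum R := ⟨𝔪, hmax.isPrime⟩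
  obtain ⟨n, hn, hn0⟩ := exists_mem_pow_tmul_ne_zero u χ hp hu hχp hrk q t ht
  have hnM : n ∈ OortTate.eigenAug R A p χ t := eigenAug_one_pow_le χ t ht1 hn
  have hrk1 := rankAtStalk_eigenAug_eq_one u χ hp hu hχ hχp hrk q t
  have hmap : ∀ x : OortTate.eigenAug R A p χ t,
      x ∈ 𝔪 • (⊤ : Submodule R (OortTate.eigenAug R A p χ t)) →
        (x : A) ∈ 𝔪 • OortTate.eigenAug R A p χ t := by
    intro x hx
    have h1 := Submodule.mem_map_of_mem (f := (OortTate.eigenAug R A p χ t).subtype) hx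
    rw [Submodule.map_smul'', Submodule.map_top, Submodule.range_subtype] at h1
    exact h1
  have hx : (⟨n, hnM⟩ : OortTate.eigenAug R A p χ t) ∉
      𝔪 • (⊤ : Submodule R (OortTate.eigenAug R A p χ t)) := by
    intro hmem
    exact hn0 (tmul_eq_zero_of_mem_smul q _ n (hmap _ hmem))
  intro m hm
  obtain ⟨r, hr⟩ := exists_sub_smul_mem_of_rank_one (OortTate.eigenAug R A p χ t) 𝔪 hrk1
    ⟨n, hnM⟩ hx ⟨m, hm⟩
  have h2 : m - r • n ∈ 𝔪 • OortTate.eigenAug R A p χ t := hmap _ hr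
  have h3 : m = r • n + (m - r • n) := by abel
  rw [h3]
  exact Submodule.add_mem_sup (Submodule.smul_mem _ r hn) h2

end Main

end Groth.Agent.Lib.OortTate55
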