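import Groth.Agent.Lib.OortTate55a
import Groth.Agent.Lib.HopfStruct41
import Groth.Agent.Lib.HopfPrimeClass41
import Groth.Agent.Lib.HopfDeligne41
import Groth.Agent.Lib.HopfPrimeOrder41
import Groth.Agent.Lib.Cartier38b
import Groth.Agent.Lib.FinEtaleHopf41
import Groth.Agent.Lib.HopfSimple41

/-!
# Oort–Tate: the field core (helper41)

Over an algebraically closed field `k`, for a commutative Hopf algebra `A` of prime dimension `p`
and `(u, χ)` as in the Oort–Tate rows:

* `core_of_isAlgClosed`: every `eigenAug k A p χ i` is a line, and for `0 ≠ f ∈ eigenAug 1` the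
  powers `f^t`, `t ≤ p - 1`, do not vanish (so `I_1^t = I_t`).
* `convPow_id_eq_one_of_finrank_eq_prime`: `[p] = 1`.
* `sum_finrank_eigenAug`, `finrank_iSup_of_iSupIndep`.
* `epsDer_convMul`, `epsDer_powConv`: `ε`-derivations and convolution powers (`d ∘ [n] = n d`).
* `eigenAug_congr`, `mul_mem_eigenAug`, `pow_mem_eigenAug` (any base ring).
* `exists_point_injective_on_eigenAug` (étale case), `exists_eigen_generator_of_nil`
  (infinitesimal case).
-/

set_option autoImplicit false
universe u v

open TensorProduct WithConv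

namespace Groth.Agent.Lib.OortTateField41

open Groth.Agent.Lib.OortTate55 Groth.Agent.Lib.Cartier38 Groth.Agent.Lib.FinEtaleHopf41


section General

variable {k : Type u} [Field k] {M : Type v} [AddCommGroup M] [Module k M]

/-- The dimension of the supremum of a finite independent family is the sum of the dimensions. -/
theorem finrank_iSup_of_iSupIndep {ι : Type} [Fintype ι] [DecidableEq ι] [FiniteDimensional k M]
    (V : ι → Submodule k M) (h : iSupIndep V) :
    Module.finrank k ↥(⨆ i, V i) = ∑ i, Module.finrank k (V i) := by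
  have hinj : Function.Injective (DirectSum.coeLinearMap V) := h.dfinsupp_lsum_injective
  have e1 := (LinearEquiv.ofInjective (DirectSum.coeLinearMap V) hinj).finrank_eq
  rw [Module.finrank_directSum] at e1
  rw [e1, DirectSum.range_coeLinearMap]

end General

section Der

variable {k : Type u} [Field k] {A : Type v} [CommRing A] [Bialgebra k A]

theorem sum_smul_counit {a : A} {ι : Type*} (ℛ : Coalgebra.Repr k a ι) :
    ∑ x ∈ ℛ.index, CoalgebraStruct.counit (R := k) (ℛ.right x) • ℛ.left x = a := by
  have h := Coalgebra.sum_tmul_counit_eq (R := k) ℛ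
  have h2 := congrArg (TensorProduct.lift ((LinearMap.lsmul k A).flip)) h
  simpa only [map_sum, TensorProduct.lift.tmul, LinearMap.flip_apply, LinearMap.lsmul_apply,
    one_smul] using h2

/-- An `ε`-derivation is additive on convolution products of augmentation preserving maps. -/
theorem epsDer_convMul {d : A →ₗ[k] k} (hd : IsEpsDer d) (f g : WithConv (A →ₐ[k] A))
    (hf : ∀ a, CoalgebraStruct.counit (R := k) (f.ofConv a) = CoalgebraStruct.counit (R := k) a)
    (hg : ∀ a, CoalgebraStruct.counit (R := k) (g.ofConv a) = CoalgebraStruct.counit (R := k) a)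
    (a : A) : d ((f * g).ofConv a) = d (f.ofConv a) + d (g.ofConv a) := by
  have ℛ := Coalgebra.Repr.arbitrary k a
  have h1 : (f * g).ofConv a = ∑ i ∈ ℛ.index, f.ofConv (ℛ.left i) * g.ofConv (ℛ.right i) := by
    have h := AlgHom.toLinearMap_convMul f g
    have h2 := congrArg (fun φ : WithConv (A →ₗ[k] A) => φ.ofConv a) h
    simp only at h2
    rw [show (toConv f.ofConv.toLinearMap * toConv g.ofConv.toLinearMap).ofConv a =
      (toConv f.ofConv.toLinearMap * toConv g.ofConv.toLinearMap) a from rfl,
      ℛ.convMul_apply] at h2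
    exact h2
  rw [h1, map_sum]
  simp only [hd _ _, hf, hg]
  rw [Finset.sum_add_distrib]
  have e1 : ∑ i ∈ ℛ.index, CoalgebraStruct.counit (R := k) (ℛ.left i) * d (g.ofConv (ℛ.right i)) =
      d (g.ofConv a) := by
    conv_rhs => rw [← Coalgebra.sum_counit_smul ℛ]
    rw [map_sum, map_sum]
    simp only [map_smul, smul_eq_mul]
  have e2 : ∑ i ∈ ℛ.index, d (f.ofConv (ℛ.left i)) * CoalgebraStruct.counit (R := k) (ℛ.right i) =
      d (f.ofConv a) := by
    conv_rhs => rw [← sum_smul_counit ℛ]
    rw [map_sum, map_sum]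
    simp only [map_smul, smul_eq_mul, mul_comm]
  rw [e1, e2, add_comm]

end Der


section Pow

variable {k : Type u} [Field k] {A : Type u} [CommRing A] [HopfAlgebra k A]

theorem epsDer_one {d : A →ₗ[k] k} (hd : IsEpsDer d) : d 1 = 0 := by
  have h := hd 1 1
  rw [mul_one, Bialgebra.counit_one, one_mul, mul_one] at h
  have h2 : d 1 + d 1 = d 1 + 0 := by rw [add_zero]; exact h.symm
  exact add_left_cancel h2

theorem epsDer_powConv {d : A →ₗ[k] k} (hd : IsEpsDer d) (n : ℕ) (a : A) :
    d (SGA3b.powConv k A n a) = (n : k) * d a := by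
  induction n with
  | zero =>
    have h0 : SGA3b.powConv k A 0 a = algebraMap k A (CoalgebraStruct.counit (R := k) a) := by
      unfold SGA3b.powConv
      rw [pow_zero]
      rfl
    rw [h0, Algebra.algebraMap_eq_smul_one, map_smul, epsDer_one hd, smul_zero, Nat.cast_zero,
      zero_mul]
  | succ n ih =>
    have h1 : SGA3b.powConv k A (n + 1) a =
        ((toConv (AlgHom.id k A)) ^ n * toConv (AlgHom.id k A)).ofConv a := by
      unfold SGA3b.powConv
      rw [pow_succ]
    rw [h1, epsDer_convMul hd _ _ (fun a => counit_powConv n a) (fun a => rfl)]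
    have h2 : d (((toConv (AlgHom.id k A)) ^ n).ofConv a) = (n : k) * d a := ih
    rw [h2]
    show (n : k) * d a + d a = _
    push_cast
    ring

end Pow

section EigenBasic

variable {p : ℕ} [Fact p.Prime] {R : Type u} [CommRing R] {A : Type u} [CommRing A]
  [HopfAlgebra R A] (χ : (ZMod p)ˣ →* Rˣ)

/-- The eigen-submodule only depends on the exponent modulo `p - 1`. -/
theorem eigenAug_congr {i j : ℕ} (h : ((p - 1 : ℕ) : ℤ) ∣ (i : ℤ) - (j : ℤ)) :
    OortTate.eigenAug R A p χ i = OortTate.eigenAug R A p χ j := by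
  ext f
  rw [mem_eigenAug_iff, mem_eigenAug_iff]
  have hc : ∀ m, cz χ (i : ℤ) m = cz χ (j : ℤ) m := by
    intro m
    have e : (i : ℤ) = ((i : ℤ) - (j : ℤ)) + (j : ℤ) := by ring
    rw [e, cz_add, cz_eq_one_of_dvd χ _ h, one_mul]
  simp only [hc]

theorem mul_mem_eigenAug {i j : ℕ} {f g : A} (hf : f ∈ OortTate.eigenAug R A p χ i)
    (hg : g ∈ OortTate.eigenAug R A p χ j) : f * g ∈ OortTate.eigenAug R A p χ (i + j) := by
  rw [mem_eigenAug_iff] at hf hg ⊢
  refine ⟨by rw [Bialgebra.counit_mul, hf.1, zero_mul], fun m => ?_⟩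
  rw [map_mul, hf.2 m, hg.2 m, Nat.cast_add, cz_add, smul_mul_smul_comm]

theorem pow_mem_eigenAug {f : A} (hf : f ∈ OortTate.eigenAug R A p χ 1) (t : ℕ) (ht : 1 ≤ t) :
    f ^ t ∈ OortTate.eigenAug R A p χ t := by
  induction t with
  | zero => omega
  | succ t ih =>
    rcases Nat.eq_zero_or_pos t with h0 | hpos
    · subst h0
      simpa using hf
    · rw [pow_succ]
      exact mul_mem_eigenAug χ (ih hpos) hf

end EigenBasic


section Reduced

variable (k : Type u) [Field k] [IsAlgClosed k] (A : Type u) [CommRing A] [HopfAlgebra k A]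
  [Module.Finite k A] [IsReduced A] (p : ℕ) [Fact p.Prime]

/-- Étale case: evaluation at a generator of the group of points is injective on every
eigenspace. -/
theorem exists_point_injective_on_eigenAug (hA : Module.finrank k A = p)
    (χ : (ZMod p)ˣ →* kˣ) :
    ∃ g₀ : A →ₐ[k] k, ∀ i : ℕ, ∀ f ∈ OortTate.eigenAug k A p χ i, g₀ f = 0 → f = 0 := by
  classical
  have hpp : p.Prime := Fact.out
  have hfin : Finite (A →ₐ[k] k) := finite_points k A
  have : Fintype (A →ₐ[k] k) := Fintype.ofFinite _
  let G := WithConv (A →ₐ[k] k)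
  have hfinG : Finite G := Finite.of_equiv _ (WithConv.equiv (A →ₐ[k] k)).symm
  let e : A ≃ₗ[k] ((A →ₐ[k] k) → k) :=
    LinearEquiv.ofBijective (evPts k A).toLinearMap ⟨evPts_injective k A, evPts_surjective k A⟩
  have hcard : Nat.card G = p := by
    rw [← hA, e.finrank_eq, Module.finrank_fintype_fun_eq_card, ← Nat.card_eq_fintype_card]
    exact Nat.card_congr (WithConv.equiv (A →ₐ[k] k))
  have hcyc : IsCyclic G := isCyclic_of_prime_card hcard
  obtain ⟨g₀, hg₀⟩ := IsCyclic.exists_monoid_generator (α := G)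
  have hg₀p : g₀ ^ p = 1 := by
    rw [← hcard]
    exact pow_card_eq_one'
  refine ⟨g₀.ofConv, fun i f hf h0 => ?_⟩
  rw [mem_eigenAug_iff] at hf
  apply evPts_injective k A
  ext g
  rw [evPts_apply, map_zero, Pi.zero_apply]
  obtain ⟨n, hn⟩ := hg₀ (toConv g)
  have hn' : g₀ ^ (n % p) = toConv g := by
    have h1 : g₀ ^ n = toConv g := hn
    rw [← h1]
    conv_rhs => rw [← Nat.mod_add_div n p, pow_add, pow_mul, hg₀p, one_pow, mul_one]
  have hlt : n % p < p := Nat.mod_lt _ hpp.pos
  have hg : g f = (g₀ ^ (n % p)).ofConv f := by rw [hn']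
  rw [hg]
  rcases Nat.eq_zero_or_pos (n % p) with hz | hpos
  · rw [hz, pow_zero]
    show algebraMap k k (CoalgebraStruct.counit (R := k) f) = 0
    rw [hf.1, map_zero]
  · -- the unit `m = n % p`
    have hcop : Nat.Coprime (n % p) p :=
      (Nat.coprime_of_lt_prime (Nat.pos_iff_ne_zero.1 hpos) hlt hpp).symm
    let m : (ZMod p)ˣ := ZMod.unitOfCoprime (n % p) hcop
    have hmval : (m : ZMod p).val = n % p := by
      rw [ZMod.coe_unitOfCoprime, ZMod.val_natCast_of_lt hlt]
    have h2 := hf.2 m
    have h3 : (g₀ ^ (n % p)).ofConv f = g₀.ofConv (SGA3b.powConv k A (n % p) f) := by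
      have h4 := comp_convPow g₀.ofConv (toConv (AlgHom.id k A)) (n % p)
      have h5 := AlgHom.congr_fun h4 f
      rw [AlgHom.comp_apply] at h5
      have h6 : toConv (g₀.ofConv.comp (toConv (AlgHom.id k A)).ofConv) = g₀ := rfl
      rw [h6] at h5
      exact h5.symm
    rw [h3]
    have h7 : SGA3b.powConv k A (n % p) f = pwm (R := k) m f := by
      unfold pwm
      rw [hmval]
    rw [h7, h2, map_smul, h0, smul_zero]

end Reduced


section Local

variable (k : Type u) [Field k] [IsAlgClosed k] (A : Type u) [CommRing A] [HopfAlgebra k A]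
  [Module.Finite k A] (p : ℕ) [Fact p.Prime] [CharP k p]

/-- Infinitesimal case: there is a `χ`-eigenvector whose first `p - 1` powers do not vanish. -/
theorem exists_eigen_generator_of_nil (hA : Module.finrank k A = p)
    (hnil : ∀ f : A, CoalgebraStruct.counit (R := k) f = 0 → IsNilpotent f)
    (hp : (toConv (AlgHom.id k A)) ^ p = 1)
    (u : k) (hu : u * ((p - 1 : ℕ) : k) = 1) (χ : (ZMod p)ˣ →* kˣ)
    (hχp : ∀ m : (ZMod p)ˣ, ((χ m : kˣ) : k) = (((m : ZMod p).val : ℕ) : k)) :
    ∃ f ∈ OortTate.eigenAug k A p χ 1, ∀ t : ℕ, t ≤ p - 1 → f ^ t ≠ 0 := by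
  classical
  have hpp : p.Prime := Fact.out
  obtain ⟨r, c, e, he1, hex, hdim⟩ := HopfStruct41.exists_coords_pow k p _ A hnil rfl
  -- `r = 1`
  have hr : r = 1 := by
    rw [hA, Finset.prod_pow_eq_pow_sum] at hdim
    have h1 : (∑ i : Fin r, e i) = 1 := by
      have := Nat.pow_right_injective hpp.two_le (a₁ := 1) (a₂ := ∑ i : Fin r, e i)
        (by simpa using hdim)
      exact this.symm
    have h2 : r ≤ ∑ i : Fin r, e i := by
      calc r = ∑ _i : Fin r, 1 := by simp
        _ ≤ ∑ i : Fin r, e i := Finset.sum_le_sum fun i _ => he1 i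
    have h3 : r ≠ 0 := by
      rintro rfl
      simp at h1
    omega
  subst hr
  let d : A →ₗ[k] k := c.d 0
  let x : A := c.x 0
  have hd : IsEpsDer d := c.isEpsDer 0
  have hdx : d x = 1 := by
    have := c.hd_x 0 0
    simpa using this
  have hxI : CoalgebraStruct.counit (R := k) x = 0 := mem_augI.1 (c.hx 0)
  have hspan : ∀ a ∈ augI k A, a - d a • x ∈ augI k A ^ 2 := by
    intro a ha
    have := c.hspan a ha
    simpa using this
  -- the eigenvector
  let f : A := ez u χ (1 : ℤ) x
  have hfmem : f ∈ OortTate.eigenAug k A p χ 1 := by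
    rw [eigenAug_eq_map_ez u χ hp hu 1]
    exact ⟨x, (mem_augKer_iff x).2 hxI, rfl⟩
  have hfI : f ∈ augI k A := mem_augI.2 ((mem_eigenAug_iff χ 1 f).1 hfmem).1
  have hdf : d f = 1 := by
    show d (ez u χ (1 : ℤ) x) = 1
    rw [ez_apply, map_smul, map_sum]
    have h1 : ∀ m : (ZMod p)ˣ, d (cz χ (-(1 : ℤ)) m • pwm (R := k) m x) = 1 := by
      intro m
      rw [map_smul]
      show cz χ (-(1 : ℤ)) m • d (SGA3b.powConv k A (m : ZMod p).val x) = 1
      rw [epsDer_powConv hd, hdx, mul_one, ← hχp m, smul_eq_mul]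
      have h2 : ((χ m : kˣ) : k) = cz χ (1 : ℤ) m := by simp [cz]
      rw [h2, cz_neg_mul_self]
    rw [Finset.sum_congr rfl fun m _ => h1 m, Finset.sum_const, Finset.card_univ, card_units_zmod,
      smul_eq_mul, nsmul_eq_mul, mul_one, hu]
  -- `I = (f)`
  have hnoeth : IsNoetherianRing A := IsNoetherianRing.of_finite k A
  have hIf : augI k A = Ideal.span {f} := by
    apply le_antisymm
    · apply Submodule.le_of_le_smul_of_le_jacobson_bot (I := augI k A)
        (IsNoetherian.noetherian (augI k A))
      · intro a ha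
        have h1 : a ∈ nilradical A := mem_nilradical.2 (hnil a (mem_augI.1 ha))
        exact Ideal.radical_le_jacobson h1
      · intro a ha
        have h1 := hspan a ha
        have h2 := hspan f hfI
        rw [hdf, one_smul] at h2
        have e1 : a = d a • f + ((a - d a • x) - d a • (f - x)) := by
          rw [smul_sub]
          ring
        rw [e1]
        refine Submodule.add_mem_sup ?_ ?_
        · rw [Algebra.smul_def]
          exact Ideal.mul_mem_left _ _ (Ideal.subset_span rfl)
        · have h3 : (a - d a • x) - d a • (f - x) ∈ augI k A ^ 2 := by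
            refine Ideal.sub_mem _ h1 ?_
            rw [Algebra.smul_def]
            exact Ideal.mul_mem_left _ _ h2
          rw [pow_two] at h3
          exact h3
    · rw [Ideal.span_le, Set.singleton_subset_iff]
      exact hfI
  refine ⟨f, hfmem, fun t ht h0 => ?_⟩
  have hsp := HopfSimple41.span_pow_eq_top (k := k) f t h0 hIf
  have h1 := finrank_range_le_card (R := k) (fun i : Fin t => f ^ (i : ℕ))
  rw [Set.finrank, hsp, finrank_top, Fintype.card_fin, hA] at h1
  have := hpp.two_le
  omega

end Local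


section Closed

variable (k : Type u) [Field k] [IsAlgClosed k] (A : Type u) [CommRing A] [HopfAlgebra k A]
  [Module.Finite k A] (p : ℕ) [Fact p.Prime]

/-- A group scheme of prime order over an algebraically closed field is killed by `p`. -/
theorem convPow_id_eq_one_of_finrank_eq_prime (hA : Module.finrank k A = p) :
    (toConv (AlgHom.id k A)) ^ p = 1 := by
  have hcc : Coalgebra.IsCocomm k A :=
    HopfPrimeOrder41.isCocomm_of_finrank_eq_prime k A p Fact.out hA
  have h := HopfDeligne41.convPow_id_card_eq_one_of_basis (Module.finBasis k A)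
  rwa [Fintype.card_fin, hA] at h

/-- The sum of the dimensions of the eigenspaces. -/
theorem sum_finrank_eigenAug (hA : Module.finrank k A = p)
    (u : k) (hu : u * ((p - 1 : ℕ) : k) = 1) (χ : (ZMod p)ˣ →* kˣ)
    (hχ : ∀ m : (ZMod p)ˣ, m ≠ 1 → IsUnit ((χ m : k) - 1)) :
    ∑ i : Fin (p - 1), Module.finrank k (OortTate.eigenAug k A p χ (i : ℕ)) = p - 1 := by
  classical
  have hp := convPow_id_eq_one_of_finrank_eq_prime k A p hA
  have h1 := finrank_iSup_of_iSupIndep (fun i : Fin (p - 1) => OortTate.eigenAug k A p χ (i : ℕ))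
    (iSupIndep_eigenAug u χ hu hχ)
  rw [← h1, iSup_eigenAug u χ hp hu hχ]
  have hsurj : Function.Surjective (Bialgebra.counitAlgHom k A).toLinearMap := by
    intro c
    exact ⟨algebraMap k A c, by simp⟩
  have h2 := LinearMap.finrank_range_add_finrank_ker (Bialgebra.counitAlgHom k A).toLinearMap
  rw [LinearMap.range_eq_top.2 hsurj, finrank_top, Module.finrank_self, hA] at h2
  omega

/-- **Field core of Oort–Tate**: over an algebraically closed field, for a group scheme of prime
order `p`, every eigenspace of the augmentation ideal is a line, and the powers `f^t`,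
`t ≤ p - 1`, of a nonzero `χ`-eigenvector do not vanish. -/
theorem core_of_isAlgClosed (hA : Module.finrank k A = p)
    (u : k) (hu : u * ((p - 1 : ℕ) : k) = 1) (χ : (ZMod p)ˣ →* kˣ)
    (hχ : ∀ m : (ZMod p)ˣ, m ≠ 1 → IsUnit ((χ m : k) - 1))
    (hχp : ∀ m : (ZMod p)ˣ, ((χ m : kˣ) : k) - (((m : ZMod p).val : ℕ) : k) ∈
      Ideal.span ({(p : k)} : Set k)) :
    (∀ i : ℕ, Module.finrank k (OortTate.eigenAug k A p χ i) = 1) ∧
      ∀ f ∈ OortTate.eigenAug k A p χ 1, f ≠ 0 → ∀ t : ℕ, t ≤ p - 1 → f ^ t ≠ 0 := by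
  classical
  have hpp : p.Prime := Fact.out
  have hp := convPow_id_eq_one_of_finrank_eq_prime k A p hA
  have hsum := sum_finrank_eigenAug k A p hA u hu χ hχ
  -- reduction of the index modulo `p - 1`
  have hmod : ∀ i : ℕ, OortTate.eigenAug k A p χ i =
      OortTate.eigenAug k A p χ (i % (p - 1)) := fun i =>
    eigenAug_congr χ (Nat.modEq_iff_dvd.1 (Nat.mod_modEq i (p - 1)))
  have hp1 : 0 < p - 1 := by have := hpp.two_le; omega
  have hall : (∀ i : Fin (p - 1), Module.finrank k (OortTate.eigenAug k A p χ (i : ℕ)) = 1) →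
      ∀ i : ℕ, Module.finrank k (OortTate.eigenAug k A p χ i) = 1 := by
    intro h i
    rw [hmod i]
    exact h ⟨i % (p - 1), Nat.mod_lt _ hp1⟩
  -- reduced or infinitesimal
  have hcase : IsReduced A ∨
      (CharP k p ∧ ∀ f : A, CoalgebraStruct.counit (R := k) f = 0 → IsNilpotent f) := by
    obtain ⟨q, hq⟩ := CharP.exists k
    rcases Nat.eq_zero_or_pos q with h0 | hpos
    · subst h0
      have : CharZero k := CharP.charP_to_charZero k
      exact Or.inl (Cartier38.isReduced_of_charZero k A)
    · have hqp : q.Prime := (CharP.char_is_prime_or_zero k q).resolve_right hpos.ne'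
      have : Fact q.Prime := ⟨hqp⟩
      rcases HopfPrimeClass41.isReduced_or_nil_of_finrank_eq_prime k A q p hpp hA with h | ⟨h1, h2⟩
      · exact Or.inl h
      · subst h1
        exact Or.inr ⟨hq, h2⟩
  rcases hcase with hred | ⟨hchar, hnil⟩
  · -- étale case
    obtain ⟨g₀, hg₀⟩ := exists_point_injective_on_eigenAug k A p hA χ
    have hle : ∀ i : ℕ, Module.finrank k (OortTate.eigenAug k A p χ i) ≤ 1 := by
      intro i
      let φ : OortTate.eigenAug k A p χ i →ₗ[k] k :=
        g₀.toLinearMap ∘ₗ (OortTate.eigenAug k A p χ i).subtype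
      have hφ : Function.Injective φ := by
        rw [injective_iff_map_eq_zero]
        intro f hf
        exact Subtype.ext (hg₀ i f.1 f.2 hf)
      have := LinearMap.finrank_le_finrank_of_injective hφ
      rwa [Module.finrank_self] at this
    refine ⟨hall ?_, ?_⟩
    · have h1 : ∑ i : Fin (p - 1), Module.finrank k (OortTate.eigenAug k A p χ (i : ℕ)) =
          ∑ _i : Fin (p - 1), 1 := by
        rw [hsum]
        simp
      have h2 := (Finset.sum_eq_sum_iff_of_le (fun i _ => hle ((i : Fin (p - 1)) : ℕ))).1 h1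
      exact fun i => h2 i (Finset.mem_univ i)
    · intro f hf hf0 t _ h0
      have h1 : g₀ f ≠ 0 := fun h => hf0 (hg₀ 1 f hf h)
      have h2 : g₀ (f ^ t) = 0 := by rw [h0, map_zero]
      rw [map_pow] at h2
      exact h1 (eq_zero_of_pow_eq_zero h2)
  · -- infinitesimal case
    have hp0 : (p : k) = 0 := CharP.cast_eq_zero k p
    have hχp' : ∀ m : (ZMod p)ˣ, ((χ m : kˣ) : k) = (((m : ZMod p).val : ℕ) : k) := by
      intro m
      have h := hχp m
      rw [hp0, Ideal.span_singleton_eq_bot.2 rfl, Ideal.mem_bot, sub_eq_zero] at h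
      exact h
    obtain ⟨f₀, hf₀, hf₀t⟩ := exists_eigen_generator_of_nil k A p hA hnil hp u hu χ hχp'
    have hge : ∀ i : Fin (p - 1), 1 ≤ Module.finrank k (OortTate.eigenAug k A p χ (i : ℕ)) := by
      intro i
      rw [Submodule.one_le_finrank_iff]
      rcases Nat.eq_zero_or_pos (i : ℕ) with h0 | hpos
      · -- `I_0 = I_{p-1}` contains `f₀^(p-1)`
        rw [h0]
        have h1 : OortTate.eigenAug k A p χ (p - 1) = OortTate.eigenAug k A p χ 0 :=
          eigenAug_congr χ (by simp)
        intro hbot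
        have h2 := pow_mem_eigenAug χ hf₀ (p - 1) hp1
        rw [h1, hbot, Submodule.mem_bot] at h2
        exact hf₀t (p - 1) le_rfl h2
      · intro hbot
        have h2 := pow_mem_eigenAug χ hf₀ (i : ℕ) hpos
        rw [hbot, Submodule.mem_bot] at h2
        exact hf₀t (i : ℕ) (by have := i.2; omega) h2
    have hone : ∀ i : Fin (p - 1), Module.finrank k (OortTate.eigenAug k A p χ (i : ℕ)) = 1 := by
      have h1 : ∑ _i : Fin (p - 1), 1 =
          ∑ i : Fin (p - 1), Module.finrank k (OortTate.eigenAug k A p χ (i : ℕ)) := by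
        rw [hsum]
        simp
      have h2 := (Finset.sum_eq_sum_iff_of_le (fun i _ => hge i)).1 h1
      exact fun i => (h2 i (Finset.mem_univ i)).symm
    have hallone := hall hone
    refine ⟨hallone, ?_⟩
    intro f hf hf0 t ht h0
    have hf₀0 : f₀ ≠ 0 := by
      intro h
      have := hf₀t 1 hp1
      rw [pow_one] at this
      exact this h
    have h1 := (finrank_eq_one_iff_of_nonzero' (⟨f₀, hf₀⟩ : OortTate.eigenAug k A p χ 1)
      (fun h => hf₀0 (congrArg Subtype.val h))).1 (hallone 1) ⟨f, hf⟩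
    obtain ⟨c, hc⟩ := h1
    have hc' : c • f₀ = f := congrArg Subtype.val hc
    have hc0 : c ≠ 0 := by
      rintro rfl
      rw [zero_smul] at hc'
      exact hf0 hc'.symm
    rw [← hc', smul_pow] at h0
    have h2 := (smul_eq_zero.1 h0).resolve_left (pow_ne_zero t hc0)
    exact hf₀t t ht h2

end Closed

end Groth.Agent.Lib.OortTateField41
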