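import Groth.Agent.Lib.OortTateField41
import Mathlib.RingTheory.HopfAlgebra.TensorProduct
import Mathlib.FieldTheory.IsAlgClosed.AlgebraicClosure
import Mathlib.RingTheory.Spectrum.Prime.FreeLocus

/-!
# Oort–Tate: globalization (helper41)

`R` any commutative ring with `(u, χ)` as in the Oort–Tate rows, `A` a commutative Hopf algebra,
finite projective of rank `p`, killed by `p` (`hp : toConv id ^ p = 1`, automatic for
cocommutative `A` by Deligne, `HopfDeligne41.convPow_id_eq_one_of_rankAtStalk_eq`).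

* `retr`, `retr_mem`, `retr_of_mem`, `finite_eigenAug`, `projective_eigenAug`: the eigen-submodule
  `I_i` is a direct summand of `A`.
* base change: `chiBC`, `powConv_one_tmul`, `ez_one_tmul`, `convPow_id_baseChange`,
  `one_tmul_mem_eigenAug`, `eigenAug_baseChange_le`, `range_baseChange_subtype`,
  `finrank_baseChange_eigenAug`.
* `core_of_field`: the field core over an arbitrary field.
* `rankAtStalk_eigenAug`: `I_i` has rank one at every prime.
* `eigenAug_one_pow`: `I_1^t = I_t` for `1 ≤ t ≤ p - 1`.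
* `le_of_forall_isMaximal_le_sup_smul`: a Nakayama-type lemma.
-/

set_option autoImplicit false
universe u v

open TensorProduct WithConv

namespace Groth.Agent.Lib.OortTateGlobal41

open Groth.Agent.Lib.OortTate55 Groth.Agent.Lib.OortTateField41


section BaseChange

variable {R : Type u} [CommRing R] (S : Type u) [CommRing S] [Algebra R S]
  {A : Type u} [CommRing A] [HopfAlgebra R A] {p : ℕ} [Fact p.Prime]

/-- The base change of the character. -/
noncomputable def chiBC (χ : (ZMod p)ˣ →* Rˣ) : (ZMod p)ˣ →* Sˣ :=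
  (Units.map (algebraMap R S : R →* S)).comp χ

theorem chiBC_apply (χ : (ZMod p)ˣ →* Rˣ) (m : (ZMod p)ˣ) :
    ((chiBC S χ m : Sˣ) : S) = algebraMap R S ((χ m : Rˣ) : R) := rfl

theorem cz_chiBC (χ : (ZMod p)ˣ →* Rˣ) (k : ℤ) (m : (ZMod p)ˣ) :
    cz (chiBC S χ) k m = algebraMap R S (cz χ k m) := by
  unfold cz chiBC
  rw [MonoidHom.comp_apply, ← map_zpow]
  rfl

theorem counit_one_tmul (a : A) :
    CoalgebraStruct.counit (R := S) ((1 : S) ⊗ₜ[R] a) =
      algebraMap R S (CoalgebraStruct.counit (R := R) a) := by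
  rw [TensorProduct.counit_tmul, Algebra.algebraMap_eq_smul_one]
  simp

theorem powConv_one_tmul (n : ℕ) (a : A) :
    SGA3b.powConv S (S ⊗[R] A) n ((1 : S) ⊗ₜ[R] a) = (1 : S) ⊗ₜ[R] SGA3b.powConv R A n a := by
  unfold SGA3b.powConv
  exact HopfDeligne41.convPow_baseChange_apply' S
    (Algebra.TensorProduct.includeRight (R := R) (A := S) (B := A)).toRingHom
    (fun r => by
      show (1 : S) ⊗ₜ[R] algebraMap R A r = algebraMap S (S ⊗[R] A) (algebraMap R S r)
      rw [Algebra.TensorProduct.algebraMap_apply, Algebra.algebraMap_eq_smul_one (A := A),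
        TensorProduct.tmul_smul, TensorProduct.smul_tmul', Algebra.algebraMap_self,
        RingHom.id_apply, Algebra.algebraMap_eq_smul_one (A := S)])
    (toConv (AlgHom.id R A)) (toConv (AlgHom.id S (S ⊗[R] A))) (fun a => rfl) n a

theorem pwm_one_tmul (m : (ZMod p)ˣ) (a : A) :
    pwm (R := S) m ((1 : S) ⊗ₜ[R] a) = (1 : S) ⊗ₜ[R] pwm (R := R) m a :=
  powConv_one_tmul S _ a

theorem algebraMap_smul_one_tmul (r : R) (a : A) :
    algebraMap R S r • ((1 : S) ⊗ₜ[R] a) = (1 : S) ⊗ₜ[R] (r • a) := by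
  rw [TensorProduct.smul_tmul', TensorProduct.tmul_smul, smul_eq_mul, mul_one,
    Algebra.algebraMap_eq_smul_one, TensorProduct.smul_tmul']

theorem ez_one_tmul (u : R) (χ : (ZMod p)ˣ →* Rˣ) (k : ℤ) (a : A) :
    ez (algebraMap R S u) (chiBC S χ) k ((1 : S) ⊗ₜ[R] a) = (1 : S) ⊗ₜ[R] ez u χ k a := by
  rw [ez_apply, ez_apply]
  simp only [pwm_one_tmul, cz_chiBC, algebraMap_smul_one_tmul]
  rw [← TensorProduct.tmul_sum, algebraMap_smul_one_tmul]

/-- The base change is killed by `p` if `A` is. -/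
theorem convPow_id_baseChange (hp : (toConv (AlgHom.id R A)) ^ p = 1) :
    (toConv (AlgHom.id S (S ⊗[R] A))) ^ p = 1 := by
  apply WithConv.ofConv_injective
  apply Algebra.TensorProduct.ext'
  intro s a
  have e : s ⊗ₜ[R] a = s • ((1 : S) ⊗ₜ[R] a) := by
    rw [TensorProduct.smul_tmul', smul_eq_mul, mul_one]
  rw [e, map_smul, map_smul]
  congr 1
  have h1 := powConv_one_tmul (R := R) S p a
  unfold SGA3b.powConv at h1
  rw [h1, hp]
  show (1 : S) ⊗ₜ[R] algebraMap R A (CoalgebraStruct.counit (R := R) a) =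
    algebraMap S (S ⊗[R] A) (CoalgebraStruct.counit (R := S) ((1 : S) ⊗ₜ[R] a))
  rw [counit_one_tmul, Algebra.TensorProduct.algebraMap_apply,
    Algebra.algebraMap_eq_smul_one (A := A), TensorProduct.tmul_smul, TensorProduct.smul_tmul',
    Algebra.algebraMap_self, RingHom.id_apply, Algebra.algebraMap_eq_smul_one (A := S)]

end BaseChange


section Retr

variable {R : Type u} [CommRing R] {A : Type u} [CommRing A] [HopfAlgebra R A] {p : ℕ}
  [Fact p.Prime] (u : R) (χ : (ZMod p)ˣ →* Rˣ)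

/-- The projector of `A` onto the eigen-submodule `I_i`: `a ↦ e_i (a - ε(a))`. -/
noncomputable def retr (i : ℕ) : A →ₗ[R] A :=
  ez u χ (i : ℤ) ∘ₗ (LinearMap.id - Algebra.linearMap R A ∘ₗ CoalgebraStruct.counit (R := R) (A := A))

theorem retr_apply (i : ℕ) (a : A) :
    retr u χ i a = ez u χ (i : ℤ) (a - algebraMap R A (CoalgebraStruct.counit (R := R) a)) := rfl

variable (hp : (toConv (AlgHom.id R A)) ^ p = 1) (hu : u * ((p - 1 : ℕ) : R) = 1)

include hp hu in
theorem retr_mem (i : ℕ) (a : A) : retr u χ i a ∈ OortTate.eigenAug R A p χ i := by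
  rw [eigenAug_eq_map_ez u χ hp hu i, retr_apply]
  refine ⟨_, (mem_augKer_iff _).2 ?_, rfl⟩
  rw [map_sub, Bialgebra.counit_algebraMap, sub_self]

include hu in
theorem retr_of_mem (i : ℕ) {f : A} (hf : f ∈ OortTate.eigenAug R A p χ i) :
    retr u χ i f = f := by
  rw [mem_eigenAug_iff] at hf
  rw [retr_apply, hf.1, map_zero, sub_zero]
  exact ez_eq_self u χ hu (i : ℤ) (i : ℤ) (by simp) f hf.2

/-- The retraction `A → I_i`. -/
noncomputable def retr' (i : ℕ) : A →ₗ[R] OortTate.eigenAug R A p χ i :=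
  (retr u χ i).codRestrict _ (retr_mem u χ hp hu i)

include hp hu in
theorem retr'_comp_subtype (i : ℕ) :
    retr' u χ hp hu i ∘ₗ (OortTate.eigenAug R A p χ i).subtype = LinearMap.id := by
  apply LinearMap.ext
  intro f
  apply Subtype.ext
  exact retr_of_mem u χ hu i f.2

include hp hu in
theorem finite_eigenAug [Module.Finite R A] (i : ℕ) :
    Module.Finite R (OortTate.eigenAug R A p χ i) := by
  refine Module.Finite.of_surjective (retr' u χ hp hu i) ?_
  intro f
  exact ⟨f.1, Subtype.ext (retr_of_mem u χ hu i f.2)⟩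

include hp hu in
theorem projective_eigenAug [Module.Projective R A] (i : ℕ) :
    Module.Projective R (OortTate.eigenAug R A p χ i) :=
  Module.Projective.of_split (OortTate.eigenAug R A p χ i).subtype (retr' u χ hp hu i)
    (retr'_comp_subtype u χ hp hu i)

end Retr

section Span

variable {R : Type u} [CommRing R] (S : Type u) [CommRing S] [Algebra R S]
  {A : Type u} [CommRing A] [HopfAlgebra R A] {p : ℕ} [Fact p.Prime] (u : R)
  (χ : (ZMod p)ˣ →* Rˣ)

theorem retr_one_tmul (i : ℕ) (a : A) :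
    retr (algebraMap R S u) (chiBC S χ) i ((1 : S) ⊗ₜ[R] a) = (1 : S) ⊗ₜ[R] retr u χ i a := by
  rw [retr_apply, retr_apply, counit_one_tmul, ← ez_one_tmul]
  congr 1
  rw [TensorProduct.tmul_sub]
  congr 1
  rw [Algebra.TensorProduct.algebraMap_apply, Algebra.algebraMap_eq_smul_one (A := A),
    TensorProduct.tmul_smul, TensorProduct.smul_tmul', Algebra.algebraMap_self, RingHom.id_apply,
    Algebra.algebraMap_eq_smul_one (A := S)]

theorem one_tmul_mem_eigenAug (i : ℕ) {f : A} (hf : f ∈ OortTate.eigenAug R A p χ i) :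
    (1 : S) ⊗ₜ[R] f ∈ OortTate.eigenAug S (S ⊗[R] A) p (chiBC S χ) i := by
  rw [mem_eigenAug_iff] at hf ⊢
  refine ⟨by rw [counit_one_tmul, hf.1, map_zero], fun m => ?_⟩
  rw [pwm_one_tmul, hf.2 m, cz_chiBC, algebraMap_smul_one_tmul]

variable (hp : (toConv (AlgHom.id R A)) ^ p = 1) (hu : u * ((p - 1 : ℕ) : R) = 1)

include hu in
theorem hu_baseChange : algebraMap R S u * ((p - 1 : ℕ) : S) = 1 := by
  have h := congrArg (algebraMap R S) hu
  rwa [map_mul, map_natCast, map_one] at h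

include hp hu in
/-- Every element of `I_i(S ⊗ A)` is an `S`-combination of elements `1 ⊗ f`, `f ∈ I_i(A)`. -/
theorem eigenAug_baseChange_le (i : ℕ) :
    OortTate.eigenAug S (S ⊗[R] A) p (chiBC S χ) i ≤
      Submodule.span S ((fun f : A => (1 : S) ⊗ₜ[R] f) '' (OortTate.eigenAug R A p χ i : Set A)) := by
  have key : ∀ y : S ⊗[R] A, retr (algebraMap R S u) (chiBC S χ) i y ∈
      Submodule.span S ((fun f : A => (1 : S) ⊗ₜ[R] f) '' (OortTate.eigenAug R A p χ i : Set A)) := by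
    intro y
    induction y using TensorProduct.induction_on with
    | zero =>
      rw [map_zero]
      exact zero_mem _
    | tmul s a =>
      have e : s ⊗ₜ[R] a = s • ((1 : S) ⊗ₜ[R] a) := by
        rw [TensorProduct.smul_tmul', smul_eq_mul, mul_one]
      rw [e, map_smul, retr_one_tmul]
      exact Submodule.smul_mem _ _ (Submodule.subset_span ⟨_, retr_mem u χ hp hu i a, rfl⟩)
    | add y z hy hz =>
      rw [map_add]
      exact Submodule.add_mem _ hy hz
  intro y hy
  have h1 := retr_of_mem (algebraMap R S u) (chiBC S χ) (hu_baseChange S u hu) i hy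
  rw [← h1]
  exact key y

end Span


section Rank

variable {R : Type u} [CommRing R] (S : Type u) [CommRing S] [Algebra R S]
  {A : Type u} [CommRing A] [HopfAlgebra R A] {p : ℕ} [Fact p.Prime] (u : R)
  (χ : (ZMod p)ˣ →* Rˣ)
  (hp : (toConv (AlgHom.id R A)) ^ p = 1) (hu : u * ((p - 1 : ℕ) : R) = 1)

include hp hu in
theorem baseChange_subtype_injective (i : ℕ) :
    Function.Injective (LinearMap.baseChange S (OortTate.eigenAug R A p χ i).subtype) := by
  have h := LinearMap.baseChange_comp (A := S) (OortTate.eigenAug R A p χ i).subtype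
    (retr' u χ hp hu i)
  rw [retr'_comp_subtype, LinearMap.baseChange_id] at h
  intro x y hxy
  have h2 := congrArg (LinearMap.baseChange S (retr' u χ hp hu i)) hxy
  have hx := LinearMap.congr_fun h x
  have hy := LinearMap.congr_fun h y
  rw [LinearMap.comp_apply, LinearMap.id_apply] at hx hy
  rw [hx, hy]
  exact h2

include hp hu in
theorem range_baseChange_subtype (i : ℕ) :
    LinearMap.range (LinearMap.baseChange S (OortTate.eigenAug R A p χ i).subtype) =
      OortTate.eigenAug S (S ⊗[R] A) p (chiBC S χ) i := by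
  apply le_antisymm
  · rintro _ ⟨y, rfl⟩
    induction y using TensorProduct.induction_on with
    | zero =>
      rw [map_zero]
      exact zero_mem _
    | tmul s f =>
      rw [LinearMap.baseChange_tmul]
      have e : s ⊗ₜ[R] ((OortTate.eigenAug R A p χ i).subtype f) =
          s • ((1 : S) ⊗ₜ[R] (f : A)) := by
        rw [TensorProduct.smul_tmul', smul_eq_mul, mul_one]
        rfl
      rw [e]
      exact Submodule.smul_mem _ _ (one_tmul_mem_eigenAug S χ i f.2)
    | add y z hy hz =>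
      rw [map_add]
      exact Submodule.add_mem _ hy hz
  · refine (eigenAug_baseChange_le S u χ hp hu i).trans ?_
    rw [Submodule.span_le]
    rintro _ ⟨f, hf, rfl⟩
    exact ⟨(1 : S) ⊗ₜ[R] (⟨f, hf⟩ : OortTate.eigenAug R A p χ i), by
      rw [LinearMap.baseChange_tmul]; rfl⟩

include hp hu in
/-- Base change of the eigen-submodule: dimensions over a field. -/
theorem finrank_baseChange_eigenAug (K : Type u) [Field K] [Algebra R K] (i : ℕ) :
    Module.finrank K (K ⊗[R] OortTate.eigenAug R A p χ i) =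
      Module.finrank K (OortTate.eigenAug K (K ⊗[R] A) p (chiBC K χ) i) := by
  have e1 := (LinearEquiv.ofInjective _ (baseChange_subtype_injective K u χ hp hu i)).finrank_eq
  rw [e1, range_baseChange_subtype K u χ hp hu i]

end Rank


section Hyp

variable {R : Type u} [CommRing R] (S : Type u) [CommRing S] [Algebra R S] {p : ℕ} [Fact p.Prime]
  (χ : (ZMod p)ˣ →* Rˣ)

theorem hχ_baseChange (hχ : ∀ m : (ZMod p)ˣ, m ≠ 1 → IsUnit ((χ m : R) - 1)) :
    ∀ m : (ZMod p)ˣ, m ≠ 1 → IsUnit ((chiBC S χ m : S) - 1) := by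
  intro m hm
  have h := (hχ m hm).map (algebraMap R S)
  rwa [map_sub, map_one] at h

theorem hχp_baseChange
    (hχp : ∀ m : (ZMod p)ˣ, ((χ m : Rˣ) : R) - (((m : ZMod p).val : ℕ) : R) ∈
      Ideal.span ({(p : R)} : Set R)) :
    ∀ m : (ZMod p)ˣ, ((chiBC S χ m : Sˣ) : S) - (((m : ZMod p).val : ℕ) : S) ∈
      Ideal.span ({(p : S)} : Set S) := by
  intro m
  obtain ⟨r, hr⟩ := Ideal.mem_span_singleton'.1 (hχp m)
  rw [Ideal.mem_span_singleton']
  refine ⟨algebraMap R S r, ?_⟩
  have h := congrArg (algebraMap R S) hr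
  rw [map_mul, map_natCast, map_sub, map_natCast] at h
  exact h

end Hyp

section Field

variable (κ : Type u) [Field κ] (A : Type u) [CommRing A] [HopfAlgebra κ A] [Module.Finite κ A]
  (p : ℕ) [Fact p.Prime]

/-- **Field core of Oort–Tate** over an arbitrary field. -/
theorem core_of_field (hA : Module.finrank κ A = p)
    (u : κ) (hu : u * ((p - 1 : ℕ) : κ) = 1) (χ : (ZMod p)ˣ →* κˣ)
    (hχ : ∀ m : (ZMod p)ˣ, m ≠ 1 → IsUnit ((χ m : κ) - 1))
    (hχp : ∀ m : (ZMod p)ˣ, ((χ m : κˣ) : κ) - (((m : ZMod p).val : ℕ) : κ) ∈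
      Ideal.span ({(p : κ)} : Set κ)) :
    (toConv (AlgHom.id κ A)) ^ p = 1 ∧
      (∀ i : ℕ, Module.finrank κ (OortTate.eigenAug κ A p χ i) = 1) ∧
      ∀ f ∈ OortTate.eigenAug κ A p χ 1, f ≠ 0 → ∀ t : ℕ, t ≤ p - 1 → f ^ t ≠ 0 := by
  let K := AlgebraicClosure κ
  have hAK : Module.finrank K (K ⊗[κ] A) = p := by rw [Module.finrank_baseChange, hA]
  have hinj : Function.Injective (fun a : A => (1 : K) ⊗ₜ[κ] a) :=
    Algebra.TensorProduct.includeRight_injective (R := κ) (A := K) (B := A)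
      (algebraMap κ K).injective
  have hpK := convPow_id_eq_one_of_finrank_eq_prime K (K ⊗[κ] A) p hAK
  have hp : (toConv (AlgHom.id κ A)) ^ p = 1 := by
    apply WithConv.ofConv_injective
    apply AlgHom.ext
    intro a
    apply hinj
    show (1 : K) ⊗ₜ[κ] SGA3b.powConv κ A p a = (1 : K) ⊗ₜ[κ] _
    rw [← powConv_one_tmul]
    unfold SGA3b.powConv
    rw [hpK]
    show algebraMap K (K ⊗[κ] A) (CoalgebraStruct.counit (R := K) ((1 : K) ⊗ₜ[κ] a)) =
      (1 : K) ⊗ₜ[κ] algebraMap κ A (CoalgebraStruct.counit (R := κ) a)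
    rw [counit_one_tmul, Algebra.TensorProduct.algebraMap_apply,
      Algebra.algebraMap_eq_smul_one (A := A), TensorProduct.tmul_smul, TensorProduct.smul_tmul',
      Algebra.algebraMap_self, RingHom.id_apply, Algebra.algebraMap_eq_smul_one (A := K)]
  obtain ⟨h1K, h2K⟩ := core_of_isAlgClosed K (K ⊗[κ] A) p hAK (algebraMap κ K u)
    (hu_baseChange K u hu) (chiBC K χ) (hχ_baseChange K χ hχ) (hχp_baseChange K χ hχp)
  refine ⟨hp, fun i => ?_, fun f hf hf0 t ht h0 => ?_⟩
  · rw [← Module.finrank_baseChange (R := K) (S := κ), finrank_baseChange_eigenAug u χ hp hu K i,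
      h1K i]
  · have h1 : (1 : K) ⊗ₜ[κ] f ≠ 0 := by
      intro h
      apply hf0
      apply hinj
      show (1 : K) ⊗ₜ[κ] f = (1 : K) ⊗ₜ[κ] (0 : A)
      rw [h, TensorProduct.tmul_zero]
    have h2 := h2K _ (one_tmul_mem_eigenAug K χ 1 hf) h1 t ht
    apply h2
    rw [Algebra.TensorProduct.tmul_pow, one_pow, h0, TensorProduct.tmul_zero]

end Field


section Nakayama

/-- A finitely generated submodule `P` with `P ≤ N + 𝔪 P` for every maximal ideal `𝔪` lies in
`N`. -/
theorem le_of_forall_isMaximal_le_sup_smul {R : Type*} [CommRing R] {M : Type*} [AddCommGroup M]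
    [Module R M] (N P : Submodule R M) (hP : P.FG)
    (h : ∀ 𝔪 : Ideal R, 𝔪.IsMaximal → P ≤ N ⊔ 𝔪 • P) : P ≤ N := by
  by_contra hne
  let J : Ideal R := N.colon (P : Set M)
  have hJ : J ≠ ⊤ := by
    intro htop
    apply hne
    intro x hx
    have h1 : (1 : R) ∈ J := by rw [htop]; trivial
    have h2 := Submodule.mem_colon.1 h1 x hx
    simpa using h2
  obtain ⟨𝔪, hmax, hJ𝔪⟩ := Ideal.exists_le_maximal J hJ
  have h1 : P.map N.mkQ ≤ 𝔪 • P.map N.mkQ := by
    rw [← Submodule.map_smul'']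
    rintro _ ⟨x, hx, rfl⟩
    obtain ⟨n, hn, z, hz, hsum⟩ := Submodule.mem_sup.1 (h 𝔪 hmax hx)
    refine ⟨z, hz, ?_⟩
    rw [← hsum, map_add, Submodule.mkQ_apply, Submodule.mkQ_apply,
      (Submodule.Quotient.mk_eq_zero N).2 hn, zero_add]
  obtain ⟨r, hr1, hr⟩ :=
    Submodule.exists_sub_one_mem_and_smul_eq_zero_of_fg_of_le_smul 𝔪 _ (hP.map _) h1
  have hrJ : r ∈ J := Submodule.mem_colon.2 fun x hx => by
    have h2 := hr (N.mkQ x) ⟨x, hx, rfl⟩
    rw [← map_smul, Submodule.mkQ_apply, Submodule.Quotient.mk_eq_zero] at h2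
    exact h2
  have h3 : (1 : R) ∈ 𝔪 := by
    have h2 := 𝔪.sub_mem (hJ𝔪 hrJ) hr1
    simpa using h2
  exact hmax.ne_top ((Ideal.eq_top_iff_one _).2 h3)

end Nakayama


section Global

variable {R : Type u} [CommRing R] {A : Type u} [CommRing A] [HopfAlgebra R A]
  [Module.Finite R A] [Module.Projective R A] {p : ℕ} [Fact p.Prime]

/-- The dimension of a fibre of a finite projective module of constant rank. -/
theorem finrank_fibre_of_rankAtStalk (M : Type u) [AddCommGroup M] [Module R M] [Module.Finite R M]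
    [Module.Flat R M] (K : Type u) [Field K] [Algebra R K] :
    Module.finrank K (K ⊗[R] M) =
      Module.rankAtStalk M ((⊥ : PrimeSpectrum K).comap (algebraMap R K)) := by
  rw [← Module.rankAtStalk_baseChange, Module.rankAtStalk_eq_finrank_of_free]
  rfl

variable (u : R) (hu : u * ((p - 1 : ℕ) : R) = 1) (χ : (ZMod p)ˣ →* Rˣ)
  (hχ : ∀ m : (ZMod p)ˣ, m ≠ 1 → IsUnit ((χ m : R) - 1))
  (hχp : ∀ m : (ZMod p)ˣ, ((χ m : Rˣ) : R) - (((m : ZMod p).val : ℕ) : R) ∈
    Ideal.span ({(p : R)} : Set R))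
  (hrk : ∀ q : PrimeSpectrum R, Module.rankAtStalk A q = p)
  (hp : (toConv (AlgHom.id R A)) ^ p = 1)

include hu hχ hχp hrk hp in
/-- Each eigen-submodule is an invertible module. -/
theorem rankAtStalk_eigenAug (i : ℕ) (q : PrimeSpectrum R) :
    Module.rankAtStalk (OortTate.eigenAug R A p χ i) q = 1 := by
  have hfin := finite_eigenAug u χ hp hu i
  have hproj := projective_eigenAug u χ hp hu i
  let K := q.asIdeal.ResidueField
  have hq : (⊥ : PrimeSpectrum K).comap (algebraMap R K) = q := by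
    apply PrimeSpectrum.ext
    show Ideal.comap (algebraMap R K) ⊥ = q.asIdeal
    rw [← RingHom.ker_eq_comap_bot]
    exact Ideal.ker_algebraMap_residueField q.asIdeal
  have hAK : Module.finrank K (K ⊗[R] A) = p := by
    rw [finrank_fibre_of_rankAtStalk (R := R) A K, hq, hrk q]
  have h1 := finrank_fibre_of_rankAtStalk (R := R) (OortTate.eigenAug R A p χ i) K
  rw [hq] at h1
  rw [← h1, finrank_baseChange_eigenAug u χ hp hu K i]
  exact (core_of_field K (K ⊗[R] A) p hAK (algebraMap R K u) (hu_baseChange K u hu) (chiBC K χ)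
    (hχ_baseChange K χ hχ) (hχp_baseChange K χ hχp)).2.1 i

omit [Module.Finite R A] [Module.Projective R A] in
theorem pow_eigenAug_le (t : ℕ) (ht : 1 ≤ t) :
    (OortTate.eigenAug R A p χ 1) ^ t ≤ OortTate.eigenAug R A p χ t := by
  induction t with
  | zero => omega
  | succ t ih =>
    rcases Nat.eq_zero_or_pos t with h0 | hpos
    · subst h0
      simp
    · rw [pow_succ]
      refine Submodule.mul_le.2 fun m hm n hn => ?_
      exact mul_mem_eigenAug χ (ih hpos hm) hn

end Global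


section Surj

variable {R : Type u} [CommRing R] (S : Type u) [CommRing S] [Algebra R S]
  {A : Type u} [CommRing A] [HopfAlgebra R A] {p : ℕ} [Fact p.Prime] (u : R)
  (χ : (ZMod p)ˣ →* Rˣ)
  (hp : (toConv (AlgHom.id R A)) ^ p = 1) (hu : u * ((p - 1 : ℕ) : R) = 1)

include hp hu in
/-- For a quotient `S` of `R`, every element of `I_i(S ⊗ A)` is `1 ⊗ f` with `f ∈ I_i(A)`. -/
theorem exists_eq_one_tmul_of_surjective (hS : Function.Surjective (algebraMap R S)) (i : ℕ)
    {y : S ⊗[R] A} (hy : y ∈ OortTate.eigenAug S (S ⊗[R] A) p (chiBC S χ) i) :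
    ∃ f ∈ OortTate.eigenAug R A p χ i, y = (1 : S) ⊗ₜ[R] f := by
  have h := eigenAug_baseChange_le S u χ hp hu i hy
  clear hy
  induction h using Submodule.span_induction with
  | mem x hx =>
    obtain ⟨f, hf, rfl⟩ := hx
    exact ⟨f, hf, rfl⟩
  | zero => exact ⟨0, zero_mem _, by rw [TensorProduct.tmul_zero]⟩
  | add x y _ _ hx hy =>
    obtain ⟨f, hf, rfl⟩ := hx
    obtain ⟨g, hg, rfl⟩ := hy
    exact ⟨f + g, add_mem hf hg, by rw [TensorProduct.tmul_add]⟩
  | smul s x _ hx =>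
    obtain ⟨f, hf, rfl⟩ := hx
    obtain ⟨r, rfl⟩ := hS s
    exact ⟨r • f, Submodule.smul_mem _ _ hf, by rw [algebraMap_smul_one_tmul]⟩

end Surj

section Global2

variable {R : Type u} [CommRing R] {A : Type u} [CommRing A] [HopfAlgebra R A]
  [Module.Finite R A] [Module.Projective R A] {p : ℕ} [Fact p.Prime]
  (u : R) (hu : u * ((p - 1 : ℕ) : R) = 1) (χ : (ZMod p)ˣ →* Rˣ)
  (hχ : ∀ m : (ZMod p)ˣ, m ≠ 1 → IsUnit ((χ m : R) - 1))
  (hχp : ∀ m : (ZMod p)ˣ, ((χ m : Rˣ) : R) - (((m : ZMod p).val : ℕ) : R) ∈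
    Ideal.span ({(p : R)} : Set R))
  (hrk : ∀ q : PrimeSpectrum R, Module.rankAtStalk A q = p)
  (hp : (toConv (AlgHom.id R A)) ^ p = 1)

include hu hχ hχp hrk hp in
theorem eigenAug_le_pow_sup_smul (κ : Type u) [Field κ] [Algebra R κ]
    (hsurj : Function.Surjective (algebraMap R κ)) (t : ℕ) (ht1 : 1 ≤ t) (ht : t ≤ p - 1) :
    OortTate.eigenAug R A p χ t ≤ (OortTate.eigenAug R A p χ 1) ^ t ⊔
      RingHom.ker (algebraMap R κ) • OortTate.eigenAug R A p χ t := by
  intro g hg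
  have hAκ : Module.finrank κ (κ ⊗[R] A) = p := by
    rw [finrank_fibre_of_rankAtStalk (R := R) A κ, hrk]
  obtain ⟨hpκ, h1κ, h2κ⟩ := core_of_field κ (κ ⊗[R] A) p hAκ (algebraMap R κ u)
    (hu_baseChange κ u hu) (chiBC κ χ) (hχ_baseChange κ χ hχ) (hχp_baseChange κ χ hχp)
  -- a generator of `I_1` of the fibre
  have hpos : 0 < Module.finrank κ (OortTate.eigenAug κ (κ ⊗[R] A) p (chiBC κ χ) 1) := by
    rw [h1κ 1]
    exact one_pos
  obtain ⟨fbar, hfbar0⟩ := Module.finrank_pos_iff_exists_ne_zero.1 hpos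
  obtain ⟨f, hf, hfeq⟩ := exists_eq_one_tmul_of_surjective κ u χ hp hu hsurj 1 fbar.2
  have hf1 : (1 : κ) ⊗ₜ[R] f ∈ OortTate.eigenAug κ (κ ⊗[R] A) p (chiBC κ χ) 1 :=
    one_tmul_mem_eigenAug κ χ 1 hf
  have hf0 : (1 : κ) ⊗ₜ[R] f ≠ 0 := by
    rw [← hfeq]
    exact fun h => hfbar0 (Subtype.ext h)
  have hft : ((1 : κ) ⊗ₜ[R] f) ^ t ≠ 0 := h2κ _ hf1 hf0 t ht
  have hftmem : ((1 : κ) ⊗ₜ[R] f) ^ t ∈ OortTate.eigenAug κ (κ ⊗[R] A) p (chiBC κ χ) t :=
    pow_mem_eigenAug (chiBC κ χ) hf1 t ht1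
  obtain ⟨c, hc⟩ := (finrank_eq_one_iff_of_nonzero'
    (⟨((1 : κ) ⊗ₜ[R] f) ^ t, hftmem⟩ : OortTate.eigenAug κ (κ ⊗[R] A) p (chiBC κ χ) t)
    (fun h => hft (congrArg Subtype.val h))).1 (h1κ t)
    ⟨(1 : κ) ⊗ₜ[R] g, one_tmul_mem_eigenAug κ χ t hg⟩
  have hc' : c • ((1 : κ) ⊗ₜ[R] f) ^ t = (1 : κ) ⊗ₜ[R] g := congrArg Subtype.val hc
  obtain ⟨r, rfl⟩ := hsurj c
  have h3 : (1 : κ) ⊗ₜ[R] (g - r • f ^ t) = 0 := by
    rw [TensorProduct.tmul_sub, ← algebraMap_smul_one_tmul, ← hc',
      Algebra.TensorProduct.tmul_pow, one_pow, sub_self]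
  -- transport to `R ⧸ ker`
  have h4 : g - r • f ^ t ∈ RingHom.ker (algebraMap R κ) • (⊤ : Submodule R A) := by
    let e : (R ⧸ RingHom.ker (algebraMap R κ)) ≃ₗ[R] κ :=
      (Ideal.quotientKerAlgEquivOfSurjective (f := Algebra.ofId R κ) hsurj).toLinearEquiv
    have h5 := congrArg (TensorProduct.congr e.symm (LinearEquiv.refl R A)) h3
    rw [map_zero, TensorProduct.congr_tmul, LinearEquiv.refl_apply] at h5
    have e1 : e.symm (1 : κ) = Ideal.Quotient.mk _ (1 : R) := by
      rw [LinearEquiv.symm_apply_eq]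
      show (1 : κ) = Ideal.quotientKerAlgEquivOfSurjective (f := Algebra.ofId R κ) hsurj
        (Ideal.Quotient.mk _ (1 : R))
      rw [map_one, map_one]
    rw [e1] at h5
    have h6 := congrArg (TensorProduct.quotTensorEquivQuotSMul A (RingHom.ker (algebraMap R κ))) h5
    rw [map_zero, TensorProduct.quotTensorEquivQuotSMul_mk_tmul, one_smul,
      Submodule.Quotient.mk_eq_zero] at h6
    exact h6
  have hx : g - r • f ^ t ∈ OortTate.eigenAug R A p χ t :=
    sub_mem hg (Submodule.smul_mem _ _ (pow_mem_eigenAug χ hf t ht1))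
  have h5 : g - r • f ^ t ∈ RingHom.ker (algebraMap R κ) • OortTate.eigenAug R A p χ t := by
    rw [← retr_of_mem u χ hu t hx]
    have h6 : retr u χ t (g - r • f ^ t) ∈
        Submodule.map (retr u χ t) (RingHom.ker (algebraMap R κ) • ⊤) := ⟨_, h4, rfl⟩
    rw [Submodule.map_smul''] at h6
    refine Submodule.smul_mono le_rfl ?_ h6
    rintro _ ⟨a, -, rfl⟩
    exact retr_mem u χ hp hu t a
  have e : g = r • f ^ t + (g - r • f ^ t) := by abel
  rw [e]
  exact Submodule.add_mem_sup (Submodule.smul_mem _ _ (Submodule.pow_mem_pow _ hf t)) h5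

include hu hχ hχp hrk hp in
theorem eigenAug_le_pow (t : ℕ) (ht1 : 1 ≤ t) (ht : t ≤ p - 1) :
    OortTate.eigenAug R A p χ t ≤ (OortTate.eigenAug R A p χ 1) ^ t := by
  have hfinM := finite_eigenAug u χ hp hu t
  apply le_of_forall_isMaximal_le_sup_smul _ _ (Module.Finite.iff_fg.1 hfinM)
  intro 𝔪 hmax
  have h := eigenAug_le_pow_sup_smul u hu χ hχ hχp hrk hp 𝔪.ResidueField
    (Ideal.algebraMap_residueField_surjective 𝔪) t ht1 ht
  rwa [Ideal.ker_algebraMap_residueField] at h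

include hu hχ hχp hrk hp in
/-- **Oort–Tate, Lemma**: `I_1^t = I_t` for `1 ≤ t ≤ p - 1`. -/
theorem eigenAug_one_pow (t : ℕ) (ht1 : 1 ≤ t) (ht : t ≤ p - 1) :
    (OortTate.eigenAug R A p χ 1) ^ t = OortTate.eigenAug R A p χ t :=
  le_antisymm (pow_eigenAug_le χ t ht1) (eigenAug_le_pow u hu χ hχ hχp hrk hp t ht1 ht)

end Global2

end Groth.Agent.Lib.OortTateGlobal41
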