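import Mathlib.RingTheory.PicardGroup
import Mathlib.RingTheory.Spectrum.Prime.FreeLocus
import Mathlib.RingTheory.LocalProperties.Submodule
import Mathlib.RingTheory.Finiteness.Projective
import Mathlib.RingTheory.LocalRing.Module

/-!
# Finite projective modules of rank one are invertible (helper41)

* `smul_comm_of_rankAtStalk_eq_one`: `λ(x) y = λ(y) x`.
* `eq_zero_of_smul_eq_zero_of_rankAtStalk_eq_one`: faithfulness.
* `invertible_of_rankAtStalk_eq_one`: `Module.Invertible R M`.
-/

set_option autoImplicit false
universe u v

open TensorProduct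

namespace Groth.Agent.Lib.RankOne41

section K

variable {R : Type u} [CommRing R] {M : Type v} [AddCommGroup M] [Module R M] [Module.Finite R M]
  [Module.Projective R M]

/-- In a free module of rank one over a commutative ring, `λ(x) y = λ(y) x`. -/
theorem smul_comm_of_finrank_eq_one {S : Type*} [CommRing S] {N : Type*} [AddCommGroup N]
    [Module S N] [Module.Free S N] [Module.Finite S N] (h : Module.finrank S N = 1)
    (l : N →ₗ[S] S) (X Y : N) : l X • Y = l Y • X := by
  rcases subsingleton_or_nontrivial S with hS | hS
  · have : Subsingleton N := Module.subsingleton S N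
    exact Subsingleton.elim _ _
  let b : Module.Basis (Fin 1) S N := Module.basisUnique (Fin 1) h
  have hX : X = b.repr X 0 • b 0 := by
    conv_lhs => rw [← b.sum_repr X]
    simp
  have hY : Y = b.repr Y 0 • b 0 := by
    conv_lhs => rw [← b.sum_repr Y]
    simp
  rw [hX, hY, map_smul, map_smul, smul_smul, smul_smul, smul_eq_mul, smul_eq_mul]
  congr 1
  ring

/-- **Rank one**: `λ(x) y = λ(y) x` in a finite projective module of rank one. -/
theorem smul_comm_of_rankAtStalk_eq_one
    (hrk : ∀ q : PrimeSpectrum R, Module.rankAtStalk (R := R) M q = 1)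
    (l : M →ₗ[R] R) (x y : M) : l x • y = l y • x := by
  refine Module.eq_of_localization_maximal (fun (P : Ideal R) _ => LocalizedModule P.primeCompl M)
    (fun (P : Ideal R) _ => LocalizedModule.mkLinearMap P.primeCompl M) _ _ fun P hP => ?_
  let S := Localization.AtPrime P
  let M' := LocalizedModule P.primeCompl M
  have hfree : Module.Free S M' := Module.free_of_flat_of_isLocalRing
  have hrank : Module.finrank S M' = 1 := hrk ⟨P, hP.isPrime⟩
  let l' : M' →ₗ[S] S := IsLocalizedModule.mapExtendScalars P.primeCompl
    (LocalizedModule.mkLinearMap P.primeCompl M) (Algebra.linearMap R S) S l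
  have hl' : ∀ z : M, l' (LocalizedModule.mkLinearMap P.primeCompl M z) = algebraMap R S (l z) := by
    intro z
    exact IsLocalizedModule.map_apply P.primeCompl (LocalizedModule.mkLinearMap P.primeCompl M)
      (Algebra.linearMap R S) l z
  have key := smul_comm_of_finrank_eq_one hrank l'
    (LocalizedModule.mkLinearMap P.primeCompl M x) (LocalizedModule.mkLinearMap P.primeCompl M y)
  rw [hl', hl', algebraMap_smul, algebraMap_smul] at key
  rw [map_smul, map_smul]
  exact key

/-- A finite projective module of rank one is faithful. -/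
theorem eq_zero_of_smul_eq_zero_of_rankAtStalk_eq_one
    (hrk : ∀ q : PrimeSpectrum R, Module.rankAtStalk (R := R) M q = 1)
    (r : R) (hr : ∀ x : M, r • x = 0) : r = 0 := by
  refine Module.eq_of_localization_maximal (fun (P : Ideal R) _ => Localization.AtPrime P)
    (fun (P : Ideal R) _ => Algebra.linearMap R (Localization.AtPrime P)) r 0 fun P hP => ?_
  let S := Localization.AtPrime P
  let M' := LocalizedModule P.primeCompl M
  have hfree : Module.Free S M' := Module.free_of_flat_of_isLocalRing
  have hrank : Module.finrank S M' = 1 := hrk ⟨P, hP.isPrime⟩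
  have hnt : Nontrivial S := inferInstance
  let b : Module.Basis (Fin 1) S M' := Module.basisUnique (Fin 1) hrank
  rw [map_zero]
  show algebraMap R S r = 0
  -- `r` kills `M'`
  have hkill : ∀ X : M', algebraMap R S r • X = 0 := by
    intro X
    induction X using LocalizedModule.induction_on with
    | h m s =>
      rw [algebraMap_smul, LocalizedModule.smul'_mk, hr m, LocalizedModule.zero_mk]
  have h1 := hkill (b 0)
  have h2 := congrArg (fun v => b.repr v 0) h1
  simp only [map_smul, Module.Basis.repr_self, Finsupp.smul_apply, Finsupp.single_eq_same,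
    smul_eq_mul, mul_one, map_zero, Finsupp.zero_apply] at h2
  exact h2

/-- **Rank one projective modules are invertible.** -/
theorem invertible_of_rankAtStalk_eq_one
    (hrk : ∀ q : PrimeSpectrum R, Module.rankAtStalk (R := R) M q = 1) :
    Module.Invertible R M := by
  classical
  obtain ⟨n, f, g, -, -, hfg⟩ := Module.Finite.exists_comp_eq_id_of_projective R M
  let z : Fin n → M := fun k => f (Pi.single k 1)
  let μ : Fin n → Module.Dual R M := fun k => LinearMap.proj k ∘ₗ g
  have hrepr : ∀ x : M, x = ∑ k, μ k x • z k := by
    intro x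
    have h1 : x = f (g x) := by
      have := LinearMap.congr_fun hfg x
      simpa using this.symm
    conv_lhs => rw [h1, ← Finset.univ_sum_single (g x)]
    rw [map_sum]
    refine Finset.sum_congr rfl fun k _ => ?_
    have h2 : (Pi.single k (g x k) : Fin n → R) = g x k • Pi.single k (1 : R) := by
      ext j
      simp [Pi.single_apply]
    rw [h2, map_smul]
    rfl
  have hK := smul_comm_of_rankAtStalk_eq_one (M := M) hrk
  let s : R := ∑ k, μ k (z k)
  have hs : ∀ x : M, s • x = x := by
    intro x
    conv_rhs => rw [hrepr x]
    rw [Finset.sum_smul]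
    exact Finset.sum_congr rfl fun k _ => hK (μ k) (z k) x
  have hs1 : s = 1 := by
    have h := eq_zero_of_smul_eq_zero_of_rankAtStalk_eq_one (M := M) hrk (s - 1) (fun x => by
      rw [sub_smul, hs, one_smul, sub_self])
    exact sub_eq_zero.1 h
  let c : Module.Dual R M ⊗[R] M := ∑ k, μ k ⊗ₜ[R] z k
  have hc : contractLeft R M c = 1 := by
    rw [map_sum, ← hs1]
    exact Finset.sum_congr rfl fun k _ => contractLeft_apply _ _
  have hΦ : ∀ t : Module.Dual R M ⊗[R] M, t = contractLeft R M t • c := by
    intro t
    induction t using TensorProduct.induction_on with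
    | zero => simp
    | add t₁ t₂ h₁ h₂ =>
      rw [map_add, add_smul, ← h₁, ← h₂]
    | tmul l x =>
      rw [contractLeft_apply, Finset.smul_sum]
      conv_lhs => rw [hrepr x, TensorProduct.tmul_sum]
      refine Finset.sum_congr rfl fun k _ => ?_
      rw [TensorProduct.tmul_smul, TensorProduct.smul_tmul', TensorProduct.smul_tmul']
      congr 1
      -- `μ k x • l = l x • μ k`
      apply LinearMap.ext
      intro y
      have h1 := congrArg (μ k) (hK l x y)
      rw [map_smul, map_smul, smul_eq_mul, smul_eq_mul] at h1
      rw [LinearMap.smul_apply, LinearMap.smul_apply, smul_eq_mul, smul_eq_mul, h1, mul_comm]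
  refine ⟨⟨?_, ?_⟩⟩
  · rw [injective_iff_map_eq_zero]
    intro t ht
    rw [hΦ t, ht, zero_smul]
  · intro r
    exact ⟨r • c, by rw [map_smul, hc, smul_eq_mul, mul_one]⟩

end K

end Groth.Agent.Lib.RankOne41
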