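import Mathlib
import Groth.Prelude.Def_W4c5ffgsreadingcourseOT
import Groth.Prelude.Def_CartDual
import Groth.Agent.Lib.OortTate55a
import Groth.Agent.Lib.OortTate55b
import Groth.Agent.Lib.OortTateField41
import Groth.Agent.Lib.OortTateGlobal41
import Groth.Agent.Lib.RankOne41

/-!
# Power basis of an Oort–Tate Hopf algebra with free `I_1` (helper55)

If `I_1 = R x`, then `1, x, …, x ^ (p - 1)` is a basis of the Hopf algebra `H` of rank `p`.
-/

set_option autoImplicit false
universe u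

open WithConv Polynomial
open scoped TensorProduct

namespace Groth.Agent.Lib.OortTateBasis55

open Groth.Agent.Lib.OortTate55 Groth.Agent.Lib.OortTateGlobal41 Groth.Agent.Lib.OortTateField41

section Trep

variable {p : ℕ} [Fact p.Prime]

/-- the representative `t ∈ [1, p - 1]` of `i` modulo `p - 1` -/
def trep (p i : ℕ) : ℕ := if i % (p - 1) = 0 then p - 1 else i % (p - 1)

theorem trep_le (i : ℕ) : trep p i ≤ p - 1 := by
  have hp2 : 2 ≤ p := (Fact.out : p.Prime).two_le
  unfold trep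
  split_ifs with h
  · exact le_rfl
  · exact (Nat.mod_lt _ (by omega)).le

theorem one_le_trep (i : ℕ) : 1 ≤ trep p i := by
  have hp2 : 2 ≤ p := (Fact.out : p.Prime).two_le
  unfold trep
  split_ifs with h
  · omega
  · omega

theorem trep_dvd (i : ℕ) : ((p - 1 : ℕ) : ℤ) ∣ ((trep p i : ℕ) : ℤ) - (i : ℤ) := by
  unfold trep
  split_ifs with h
  · have h1 : (p - 1) ∣ i := Nat.dvd_of_mod_eq_zero h
    obtain ⟨c, hc⟩ := h1
    refine ⟨1 - (c : ℤ), ?_⟩
    rw [hc]
    push_cast
    ring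
  · have h := Nat.mod_add_div i (p - 1)
    refine ⟨-((i / (p - 1) : ℕ) : ℤ), ?_⟩
    have h2 : (i : ℤ) = ((i % (p - 1) : ℕ) : ℤ) + ((p - 1 : ℕ) : ℤ) * ((i / (p - 1) : ℕ) : ℤ) := by
      exact_mod_cast h.symm
    linarith

end Trep

section PB

variable {p : ℕ} [Fact p.Prime] {R : Type u} [CommRing R] {H : Type u} [CommRing H]
  [HopfAlgebra R H] [Module.Finite R H] [Module.Projective R H]
  (u : R) (hu : u * ((p - 1 : ℕ) : R) = 1) (χ : (ZMod p)ˣ →* Rˣ)
  (hχ : ∀ m : (ZMod p)ˣ, m ≠ 1 → IsUnit ((χ m : R) - 1))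
  (hχp : ∀ m : (ZMod p)ˣ, ((χ m : Rˣ) : R) - (((m : ZMod p).val : ℕ) : R) ∈
    Ideal.span ({(p : R)} : Set R))
  (hrk : ∀ q : PrimeSpectrum R, Module.rankAtStalk H q = p)
  (hp : (toConv (AlgHom.id R H)) ^ p = 1)
  (x : H) (hx : Submodule.span R {x} = OortTate.eigenAug R H p χ 1)

include hu hχ hχp hrk hp hx in
theorem span_pow_eq (t : ℕ) (ht1 : 1 ≤ t) (ht : t ≤ p - 1) :
    Submodule.span R {x ^ t} = OortTate.eigenAug R H p χ t := by
  rw [← eigenAug_one_pow u hu χ hχ hχp hrk hp t ht1 ht, ← hx, Submodule.span_pow,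
    Set.singleton_pow]

include hx in
theorem gen_mem : x ∈ OortTate.eigenAug R H p χ 1 := by
  rw [← hx]
  exact Submodule.mem_span_singleton_self x

include hx in
theorem pow_mem (k : ℕ) (hk : 1 ≤ k) : x ^ k ∈ OortTate.eigenAug R H p χ k :=
  pow_mem_eigenAug χ (gen_mem χ x hx) k hk

include hx in
theorem counit_pow (k : ℕ) (hk : 1 ≤ k) : CoalgebraStruct.counit (R := R) (x ^ k) = 0 :=
  ((mem_eigenAug_iff χ k _).1 (pow_mem χ x hx k hk)).1

include hu hχ hχp hrk hp hx in
theorem smul_pow_eq_zero (t : ℕ) (ht1 : 1 ≤ t) (ht : t ≤ p - 1) (r : R) (h : r • x ^ t = 0) :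
    r = 0 := by
  have hrk1 := rankAtStalk_eigenAug u hu χ hχ hχp hrk hp t
  haveI := finite_eigenAug u χ hp hu (A := H) t
  haveI := projective_eigenAug u χ hp hu (A := H) t
  apply RankOne41.eq_zero_of_smul_eq_zero_of_rankAtStalk_eq_one hrk1 r
  intro y
  apply Subtype.ext
  have hy : (y : H) ∈ Submodule.span R {x ^ t} := by
    rw [span_pow_eq u hu χ hχ hχp hrk hp x hx t ht1 ht]
    exact y.2
  obtain ⟨c, hc⟩ := Submodule.mem_span_singleton.1 hy
  show r • (y : H) = 0
  rw [← hc, smul_comm, h, smul_zero]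

include hu hχ hx in
theorem retr_pow (i k : ℕ) (hi1 : 1 ≤ i) (hi : i ≤ p - 1) (hk1 : 1 ≤ k) (hk : k ≤ p - 1) :
    retr u χ i (x ^ k) = if i = k then x ^ k else 0 := by
  have hmem := (mem_eigenAug_iff χ k _).1 (pow_mem χ x hx k hk1)
  rw [retr_apply, hmem.1, map_zero, sub_zero]
  split_ifs with hik
  · subst hik
    exact ez_eq_self u χ hu _ _ (by simp) _ hmem.2
  · refine ez_eq_zero u χ hχ _ _ ?_ _ hmem.2
    intro hdvd
    apply hik
    have h3 : |((k : ℕ) : ℤ) - ((i : ℕ) : ℤ)| < ((p - 1 : ℕ) : ℤ) := by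
      rw [abs_lt]
      constructor <;> omega
    have h4 := Int.eq_zero_of_abs_lt_dvd hdvd h3
    omega

omit [Module.Finite R H] [Module.Projective R H] in
theorem retr_one' (i : ℕ) : retr u χ i (1 : H) = 0 := by
  rw [retr_apply, Bialgebra.counit_one, map_one, sub_self, map_zero]

include hu hχ hχp hrk hp hx in
theorem linearIndependent_pow : LinearIndependent R (fun i : Fin p => x ^ (i : ℕ)) := by
  classical
  have hp2 : 2 ≤ p := (Fact.out : p.Prime).two_le
  rw [Fintype.linearIndependent_iff]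
  intro g hg j
  by_cases hj0 : (j : ℕ) = 0
  · -- apply the counit
    have h1 := congrArg (CoalgebraStruct.counit (R := R)) hg
    rw [map_sum, map_zero, Finset.sum_eq_single j] at h1
    · rw [map_smul, hj0, pow_zero, Bialgebra.counit_one, smul_eq_mul, mul_one] at h1
      exact h1
    · intro i _ hij
      have hi0 : (i : ℕ) ≠ 0 := fun h => hij (Fin.ext (h.trans hj0.symm))
      rw [map_smul, counit_pow χ x hx _ (Nat.one_le_iff_ne_zero.2 hi0), smul_zero]
    · intro h
      exact absurd (Finset.mem_univ _) h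
  · have hj1 : 1 ≤ (j : ℕ) := Nat.one_le_iff_ne_zero.2 hj0
    have hjp : (j : ℕ) ≤ p - 1 := by have := j.2; omega
    have h1 := congrArg (retr u χ (j : ℕ)) hg
    rw [map_sum, map_zero, Finset.sum_eq_single j] at h1
    · rw [map_smul, retr_pow u hu χ hχ x hx _ _ hj1 hjp hj1 hjp, if_pos rfl] at h1
      exact smul_pow_eq_zero u hu χ hχ hχp hrk hp x hx _ hj1 hjp _ h1
    · intro i _ hij
      rw [map_smul]
      by_cases hi0 : (i : ℕ) = 0
      · rw [hi0, pow_zero, retr_one', smul_zero]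
      · have hi1 : 1 ≤ (i : ℕ) := Nat.one_le_iff_ne_zero.2 hi0
        have hip : (i : ℕ) ≤ p - 1 := by have := i.2; omega
        rw [retr_pow u hu χ hχ x hx _ _ hj1 hjp hi1 hip, if_neg, smul_zero]
        intro h
        exact hij (Fin.ext h.symm)
    · intro h
      exact absurd (Finset.mem_univ _) h

include hu hχ hχp hrk hp hx in
theorem span_range_pow : ⊤ ≤ Submodule.span R (Set.range (fun i : Fin p => x ^ (i : ℕ))) := by
  have hp2 : 2 ≤ p := (Fact.out : p.Prime).two_le
  intro a _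
  have h1 : a = algebraMap R H (CoalgebraStruct.counit (R := R) a) +
      ∑ k : Fin (p - 1), retr u χ (k : ℕ) a := by
    simp only [retr_apply]
    rw [sum_ez u χ hu hχ]
    ring
  rw [h1]
  refine Submodule.add_mem _ ?_ (Submodule.sum_mem _ fun k _ => ?_)
  · rw [Algebra.algebraMap_eq_smul_one]
    refine Submodule.smul_mem _ _ (Submodule.subset_span ⟨⟨0, by omega⟩, ?_⟩)
    simp
  · have h2 : retr u χ (k : ℕ) a ∈ OortTate.eigenAug R H p χ (trep p (k : ℕ)) := by
      rw [eigenAug_congr χ (trep_dvd (p := p) (k : ℕ))]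
      exact retr_mem u χ hp hu _ a
    rw [← span_pow_eq u hu χ hχ hχp hrk hp x hx _ (one_le_trep _) (trep_le _)] at h2
    refine Submodule.span_mono ?_ h2
    rintro _ rfl
    have hlt : trep p (k : ℕ) < p := by have := trep_le (p := p) (k : ℕ); omega
    exact ⟨⟨trep p (k : ℕ), hlt⟩, rfl⟩

/-- The power basis `1, x, …, x ^ (p - 1)`. -/
noncomputable def powerBasis : PowerBasis R H where
  gen := x
  dim := p
  basis := Module.Basis.mk (linearIndependent_pow u hu χ hχ hχp hrk hp x hx)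
    (span_range_pow u hu χ hχ hχp hrk hp x hx)
  basis_eq_pow i := by rw [Module.Basis.mk_apply]

theorem powerBasis_gen : (powerBasis u hu χ hχ hχp hrk hp x hx).gen = x := rfl

theorem powerBasis_dim : (powerBasis u hu χ hχ hχp hrk hp x hx).dim = p := rfl

end PB

section Minpoly

variable {p : ℕ} [Fact p.Prime] {R : Type u} [CommRing R] {S : Type u} [CommRing S] [Algebra R S]

theorem minpoly_eq_of_pow_eq (pb : PowerBasis R S) (hdim : pb.dim = p) (α : R)
    (h : pb.gen ^ p = α • pb.gen) : minpoly R pb.gen = X ^ p - C α * X := by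
  have hp2 : 2 ≤ p := (Fact.out : p.Prime).two_le
  nontriviality R
  have hdeg2 : (C α * X : R[X]).degree < (X ^ p : R[X]).degree := by
    rw [degree_X_pow]
    calc (C α * X : R[X]).degree ≤ 1 := by
          refine (degree_C_mul_X_le α)
      _ < (p : WithBot ℕ) := by exact_mod_cast (by omega : 1 < p)
  have hmonic : (X ^ p - C α * X : R[X]).Monic := (monic_X_pow p).sub_of_left hdeg2
  have hdeg : (X ^ p - C α * X : R[X]).degree = (p : WithBot ℕ) := by
    rw [degree_sub_eq_left_of_degree_lt hdeg2, degree_X_pow]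
  have hroot : aeval pb.gen (X ^ p - C α * X : R[X]) = 0 := by
    rw [map_sub, map_pow, map_mul, aeval_X, aeval_C, h, Algebra.smul_def, sub_self]
  refine (minpoly.unique' R _ hmonic hroot fun q hq => or_iff_not_imp_left.2 fun hn0 h0 => ?_).symm
  have h1 := pb.dim_le_degree_of_root hn0 h0
  rw [hdim] at h1
  rw [hdeg] at hq
  exact absurd hq (not_lt.2 h1)

end Minpoly

end Groth.Agent.Lib.OortTateBasis55
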