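import Groth.Agent.Lib.OortTateGlobal41
import Groth.Agent.Lib.OortTate55b
import Mathlib.RingTheory.HopfAlgebra.MonoidAlgebra

/-!
# Oort–Tate: the Hopf algebra of `μ_p` (helper41)

In the group algebra `R[ℤ/p]`: the averaged elements `y_i = e_i (T - 1)` form a basis of the
augmentation ideal, `y_1` generates the algebra and `y_1^p = w y_1` (`muP_main`).
-/

set_option autoImplicit false
universe u v

open TensorProduct WithConv

namespace Groth.Agent.Lib.OortTateMuP41

open Groth.Agent.Lib.OortTate55 Groth.Agent.Lib.OortTateField41 Groth.Agent.Lib.OortTateGlobal41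

section MuP

variable (R : Type u) [CommRing R] (p : ℕ) [Fact p.Prime]

local notation "B" => MonoidAlgebra R (Multiplicative (ZMod p))

/-- `[n]` on a group-like basis element of a group algebra. -/
theorem powConv_single {G : Type} [CommGroup G] (n : ℕ) (g : G) :
    SGA3b.powConv R (MonoidAlgebra R G) n (MonoidAlgebra.single g 1) =
      MonoidAlgebra.single (g ^ n) 1 := by
  unfold SGA3b.powConv
  induction n with
  | zero =>
    rw [pow_zero, pow_zero]
    show algebraMap R (MonoidAlgebra R G) (CoalgebraStruct.counit (R := R)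
      (MonoidAlgebra.single g (1 : R))) = _
    rw [MonoidAlgebra.counit_single]
    simp
  | succ n ih =>
    rw [pow_succ]
    have h := MonoidAlgebra.convMul_algHom_single_one (R := R)
      ((toConv (AlgHom.id R (MonoidAlgebra R G))) ^ n) (toConv (AlgHom.id R (MonoidAlgebra R G))) g
    have h2 : ((toConv (AlgHom.id R (MonoidAlgebra R G))) ^ n *
        toConv (AlgHom.id R (MonoidAlgebra R G))).ofConv (MonoidAlgebra.single g 1) =
        ((toConv (AlgHom.id R (MonoidAlgebra R G))) ^ n).ofConv (MonoidAlgebra.single g 1) *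
          MonoidAlgebra.single g 1 := h
    rw [h2, ih, MonoidAlgebra.single_mul_single, one_mul, pow_succ]

theorem rankAtStalk_muP (q : PrimeSpectrum R) : Module.rankAtStalk B q = p := by
  have : Nontrivial R := q.nontrivial
  rw [Module.rankAtStalk_eq_finrank_of_free]
  have h := Module.finrank_eq_card_basis (MonoidAlgebra.basis (Multiplicative (ZMod p)) R)
  simp only [Pi.natCast_apply, Nat.cast_id]
  rw [h, Fintype.card_multiplicative, ZMod.card p]

theorem convPow_id_muP : (toConv (AlgHom.id R B)) ^ p = 1 := by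
  have h := HopfDeligne41.convPow_id_card_eq_one_of_basis
    (MonoidAlgebra.basis (Multiplicative (ZMod p)) R)
  rwa [Fintype.card_multiplicative, ZMod.card p] at h

variable (u : R) (χ : (ZMod p)ˣ →* Rˣ)

/-- `Y t = e_t (T - 1)`. -/
noncomputable def Y (t : ℕ) : B := ez u χ (t : ℤ) (OortTate.muT R p - 1)

theorem ygen_eq (i : ℕ) : OortTate.ygen R p u χ i = Y R p u χ i := by
  unfold OortTate.ygen Y
  rw [proj_eq_ez]

theorem counit_T_sub_one :
    CoalgebraStruct.counit (R := R) (OortTate.muT R p - 1) = 0 := by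
  rw [map_sub, Bialgebra.counit_one]
  show CoalgebraStruct.counit (R := R) (MonoidAlgebra.single (Multiplicative.ofAdd (1 : ZMod p))
    (1 : R)) - 1 = 0
  rw [MonoidAlgebra.counit_single]
  simp

variable (hu : u * ((p - 1 : ℕ) : R) = 1)

include hu in
theorem Y_mem (t : ℕ) : Y R p u χ t ∈ OortTate.eigenAug R B p χ t := by
  rw [eigenAug_eq_map_ez u χ (convPow_id_muP R p) hu t]
  exact ⟨_, (mem_augKer_iff _).2 (counit_T_sub_one R p), rfl⟩

theorem pwm_T_sub_one (m : (ZMod p)ˣ) :
    pwm (R := R) m (OortTate.muT R p - 1) =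
      MonoidAlgebra.single (Multiplicative.ofAdd (m : ZMod p)) (1 : R) - 1 := by
  rw [map_sub, map_one]
  congr 1
  show SGA3b.powConv R B (m : ZMod p).val (MonoidAlgebra.single (Multiplicative.ofAdd (1 : ZMod p))
    (1 : R)) = _
  rw [powConv_single, ← ofAdd_nsmul, nsmul_one, ZMod.natCast_zmod_val]

/-- The augmentation ideal is spanned by the `g - 1`. -/
theorem sub_counit_mem_span (a : B) :
    a - algebraMap R B (CoalgebraStruct.counit (R := R) a) ∈
      Submodule.span R (Set.range fun g : Multiplicative (ZMod p) =>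
        (MonoidAlgebra.single g (1 : R) - 1 : B)) := by
  induction a using MonoidAlgebra.induction_linear with
  | zero => simp
  | add a b ha hb =>
    have e : a + b - algebraMap R B (CoalgebraStruct.counit (R := R) (a + b)) =
        (a - algebraMap R B (CoalgebraStruct.counit (R := R) a)) +
          (b - algebraMap R B (CoalgebraStruct.counit (R := R) b)) := by
      rw [map_add, map_add]
      abel
    rw [e]
    exact Submodule.add_mem _ ha hb
  | single g r =>
    have e : (MonoidAlgebra.single g r : B) -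
        algebraMap R B (CoalgebraStruct.counit (R := R) (MonoidAlgebra.single g r : B)) =
        r • (MonoidAlgebra.single g (1 : R) - 1) := by
      rw [MonoidAlgebra.counit_single, smul_sub, MonoidAlgebra.smul_single, smul_eq_mul, mul_one,
        Algebra.algebraMap_eq_smul_one]
      simp
    rw [e]
    exact Submodule.smul_mem _ _ (Submodule.subset_span ⟨g, rfl⟩)

include hu in
/-- `I_t` is spanned by `Y t`. -/
theorem eigenAug_eq_span (t : ℕ) :
    OortTate.eigenAug R B p χ t = Submodule.span R {Y R p u χ t} := by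
  apply le_antisymm
  · intro f hf
    have hf' := (mem_eigenAug_iff χ t f).1 hf
    have h1 : ez u χ (t : ℤ) f = f := ez_eq_self u χ hu (t : ℤ) (t : ℤ) (by simp) f hf'.2
    have h2 := sub_counit_mem_span R p f
    rw [hf'.1, map_zero, sub_zero] at h2
    rw [← h1]
    have h3 : Submodule.span R (Set.range fun g : Multiplicative (ZMod p) =>
        (MonoidAlgebra.single g (1 : R) - 1 : B)) ≤
        (Submodule.span R {Y R p u χ t}).comap (ez u χ (t : ℤ)) := by
      rw [Submodule.span_le]
      rintro _ ⟨g, rfl⟩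
      show ez u χ (t : ℤ) (MonoidAlgebra.single g (1 : R) - 1) ∈ Submodule.span R {Y R p u χ t}
      by_cases hg : Multiplicative.toAdd g = 0
      · have hg1 : g = 1 := by
          rw [← ofAdd_toAdd g, hg]; rfl
        rw [hg1]
        have : (MonoidAlgebra.single (1 : Multiplicative (ZMod p)) (1 : R) : B) = 1 := rfl
        rw [this, sub_self, map_zero]
        exact zero_mem _
      · let m : (ZMod p)ˣ := Units.mk0 (Multiplicative.toAdd g) hg
        have hm : MonoidAlgebra.single g (1 : R) - 1 = pwm (R := R) m (OortTate.muT R p - 1) := by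
          rw [pwm_T_sub_one]
          rfl
        rw [hm, ez_pwm u χ (convPow_id_muP R p) m (t : ℤ)]
        exact Submodule.smul_mem _ _ (Submodule.mem_span_singleton_self _)
    exact h3 h2
  · rw [Submodule.span_le, Set.singleton_subset_iff]
    exact Y_mem R p u χ hu t

/-- The coefficient of `T` in `Y t` is the unit `u`. -/
theorem Y_coeff_one (t : ℕ) :
    (Y R p u χ t).coeff (Multiplicative.ofAdd (1 : ZMod p)) = u := by
  classical
  unfold Y
  rw [ez_apply]
  simp only [pwm_T_sub_one]
  rw [MonoidAlgebra.coeff_smul, Finsupp.smul_apply, MonoidAlgebra.coeff_sum,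
    Finsupp.finsetSum_apply]
  have hne : (Multiplicative.ofAdd (1 : ZMod p)) ≠ (1 : Multiplicative (ZMod p)) := by
    intro h
    have h2 : (1 : ZMod p) = 0 := h
    have := (Fact.out : p.Prime).one_lt
    have h3 : Nontrivial (ZMod p) := ZMod.nontrivial_iff.2 (by omega)
    exact one_ne_zero h2
  have key : ∀ m : (ZMod p)ˣ,
      (cz χ (-(t : ℤ)) m •
        (MonoidAlgebra.single (Multiplicative.ofAdd (m : ZMod p)) (1 : R) - 1 : B)).coeff
        (Multiplicative.ofAdd (1 : ZMod p)) = if m = 1 then 1 else 0 := by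
    intro m
    rw [MonoidAlgebra.coeff_smul, Finsupp.smul_apply, MonoidAlgebra.coeff_sub, Finsupp.sub_apply,
      MonoidAlgebra.one_def, MonoidAlgebra.coeff_single, MonoidAlgebra.coeff_single,
      Finsupp.single_apply, Finsupp.single_apply, if_neg hne.symm, sub_zero]
    by_cases hm : m = 1
    · subst hm
      simp [cz_one_right]
    · rw [if_neg hm, if_neg, smul_zero]
      intro h
      apply hm
      apply Units.ext
      exact Multiplicative.ofAdd.injective h
  rw [Finset.sum_congr rfl fun m _ => key m, Finset.sum_ite_eq' Finset.univ (1 : (ZMod p)ˣ)]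
  simp

theorem smul_Y_eq_zero (hu : u * ((p - 1 : ℕ) : R) = 1) (t : ℕ) (r : R)
    (h : r • Y R p u χ t = 0) : r = 0 := by
  have h1 := congrArg (fun b : B => b.coeff (Multiplicative.ofAdd (1 : ZMod p))) h
  simp only [MonoidAlgebra.coeff_smul, Finsupp.smul_apply, Y_coeff_one, MonoidAlgebra.coeff_zero,
    Finsupp.zero_apply, smul_eq_mul] at h1
  have h2 : r * u * ((p - 1 : ℕ) : R) = 0 := by rw [h1, zero_mul]
  rwa [mul_assoc, hu, mul_one] at h2

end MuP

section Main

variable (R : Type u) [CommRing R] (p : ℕ) [Fact p.Prime]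

local notation "B" => MonoidAlgebra R (Multiplicative (ZMod p))

variable (u : R) (hu : u * ((p - 1 : ℕ) : R) = 1) (χ : (ZMod p)ˣ →* Rˣ)
  (hχ : ∀ m : (ZMod p)ˣ, m ≠ 1 → IsUnit ((χ m : R) - 1))
  (hχp : ∀ m : (ZMod p)ˣ, ((χ m : Rˣ) : R) - (((m : ZMod p).val : ℕ) : R) ∈
    Ideal.span ({(p : R)} : Set R))

include hu hχ in
theorem linearIndependent_Y :
    LinearIndependent R (fun i : Fin (p - 1) => Y R p u χ (i : ℕ)) := by
  classical
  rw [Fintype.linearIndependent_iff]
  intro g hg j
  have h1 := congrArg (ez u χ ((j : ℕ) : ℤ)) hg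
  rw [map_sum, map_zero] at h1
  have h2 : ∀ i : Fin (p - 1), ez u χ ((j : ℕ) : ℤ) (g i • Y R p u χ (i : ℕ)) =
      if i = j then g j • Y R p u χ (j : ℕ) else 0 := by
    intro i
    have hmem := (mem_eigenAug_iff χ (i : ℕ) _).1 (Y_mem R p u χ hu (i : ℕ))
    rw [map_smul]
    by_cases hij : i = j
    · subst hij
      rw [if_pos rfl, ez_eq_self u χ hu ((i : ℕ) : ℤ) ((i : ℕ) : ℤ) (by simp) _ hmem.2]
    · rw [if_neg hij, ez_eq_zero u χ hχ ((i : ℕ) : ℤ) ((j : ℕ) : ℤ) ?_ _ hmem.2, smul_zero]
      intro hdvd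
      apply hij
      apply Fin.ext
      have hi := i.2
      have hj := j.2
      have h3 : ((i : ℕ) : ℤ) - ((j : ℕ) : ℤ) = 0 := by
        apply Int.eq_zero_of_abs_lt_dvd hdvd
        rw [abs_lt]
        constructor <;> omega
      omega
  rw [Finset.sum_congr rfl fun i _ => h2 i, Finset.sum_ite_eq' Finset.univ j] at h1
  simp only [Finset.mem_univ, if_true] at h1
  exact smul_Y_eq_zero R p u χ hu (j : ℕ) (g j) h1

include hu hχ in
theorem span_Y_eq_ker :
    Submodule.span R (Set.range (fun i : Fin (p - 1) => Y R p u χ (i : ℕ))) =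
      LinearMap.ker (Bialgebra.counitAlgHom R B).toLinearMap := by
  rw [← iSup_eigenAug u χ (convPow_id_muP R p) hu hχ, Submodule.span_range_eq_iSup]
  congr 1
  funext i
  rw [eigenAug_eq_span R p u χ hu]

include hu hχ hχp in
/-- `Y t` is a multiple of `Y 1 ^ t`. -/
theorem Y_mem_span_pow (t : ℕ) (ht1 : 1 ≤ t) (ht : t ≤ p - 1) :
    Y R p u χ t ∈ Submodule.span R {Y R p u χ 1 ^ t} := by
  have h := eigenAug_one_pow u hu χ hχ hχp (rankAtStalk_muP R p) (convPow_id_muP R p) t ht1 ht
  rw [eigenAug_eq_span R p u χ hu, eigenAug_eq_span R p u χ hu, Submodule.span_pow,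
    Set.singleton_pow] at h
  rw [h]
  exact Submodule.mem_span_singleton_self _

include hu hχ hχp in
theorem adjoin_Y_one : Algebra.adjoin R ({Y R p u χ 1} : Set B) = ⊤ := by
  have hpp : p.Prime := Fact.out
  have hp1 : 1 ≤ p - 1 := by have := hpp.two_le; omega
  have hpow : ∀ t : ℕ, Y R p u χ 1 ^ t ∈ Algebra.adjoin R ({Y R p u χ 1} : Set B) := fun t =>
    pow_mem (Algebra.subset_adjoin (Set.mem_singleton _)) t
  have hspan : ∀ t : ℕ, Submodule.span R {Y R p u χ 1 ^ t} ≤
      Subalgebra.toSubmodule (Algebra.adjoin R ({Y R p u χ 1} : Set B)) := by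
    intro t
    rw [Submodule.span_le, Set.singleton_subset_iff]
    exact hpow t
  have hY : ∀ i : Fin (p - 1), Y R p u χ (i : ℕ) ∈ Algebra.adjoin R ({Y R p u χ 1} : Set B) := by
    intro i
    rcases Nat.eq_zero_or_pos (i : ℕ) with h0 | hpos
    · -- `Y 0 ∈ I_0 = I_{p-1} = span (Y 1 ^ (p-1))`
      have h1 : Y R p u χ (i : ℕ) ∈ OortTate.eigenAug R B p χ (p - 1) := by
        rw [h0, eigenAug_congr χ (i := p - 1) (j := 0) (by simp)]
        exact Y_mem R p u χ hu 0
      rw [eigenAug_eq_span R p u χ hu] at h1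
      have h2 := Y_mem_span_pow R p u hu χ hχ hχp (p - 1) hp1 le_rfl
      have h3 : Submodule.span R {Y R p u χ (p - 1)} ≤ Submodule.span R {Y R p u χ 1 ^ (p - 1)} := by
        rw [Submodule.span_le, Set.singleton_subset_iff]
        exact h2
      exact hspan (p - 1) (h3 h1)
    · have hi := i.2
      exact hspan (i : ℕ) (Y_mem_span_pow R p u hu χ hχ hχp (i : ℕ) hpos (by omega))
  rw [eq_top_iff]
  rintro a -
  have h1 : a - algebraMap R B (CoalgebraStruct.counit (R := R) a) ∈
      LinearMap.ker (Bialgebra.counitAlgHom R B).toLinearMap := by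
    rw [mem_augKer_iff, map_sub, Bialgebra.counit_algebraMap, sub_self]
  rw [← span_Y_eq_ker R p u hu χ hχ] at h1
  have h2 : Submodule.span R (Set.range (fun i : Fin (p - 1) => Y R p u χ (i : ℕ))) ≤
      Subalgebra.toSubmodule (Algebra.adjoin R ({Y R p u χ 1} : Set B)) := by
    rw [Submodule.span_le]
    rintro _ ⟨i, rfl⟩
    exact hY i
  have h3 := h2 h1
  have h4 : a = (a - algebraMap R B (CoalgebraStruct.counit (R := R) a)) +
      algebraMap R B (CoalgebraStruct.counit (R := R) a) := by abel
  rw [h4]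
  exact Subalgebra.add_mem _ h3 (Subalgebra.algebraMap_mem _ _)

include hu in
theorem existsUnique_pow_eq : ∃! w : R, Y R p u χ 1 ^ p = w • Y R p u χ 1 := by
  have hpp : p.Prime := Fact.out
  have h1 : Y R p u χ 1 ^ p ∈ OortTate.eigenAug R B p χ p :=
    pow_mem_eigenAug χ (Y_mem R p u χ hu 1) p hpp.one_lt.le
  have h2 : OortTate.eigenAug R B p χ p = OortTate.eigenAug R B p χ 1 := by
    apply eigenAug_congr χ
    have : 1 ≤ p := hpp.one_lt.le
    push_cast [Nat.cast_sub this]
    simp
  rw [h2, eigenAug_eq_span R p u χ hu, Submodule.mem_span_singleton] at h1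
  obtain ⟨w, hw⟩ := h1
  refine ⟨w, hw.symm, fun w' hw' => ?_⟩
  have h3 : (w' - w) • Y R p u χ 1 = 0 := by rw [sub_smul, ← hw', hw, sub_self]
  exact sub_eq_zero.1 (smul_Y_eq_zero R p u χ hu 1 _ h3)

include hu hχ hχp in
/-- **Oort–Tate**: the elements `y_i` of the Hopf algebra of `μ_p`. -/
theorem muP_main :
    LinearIndependent R (fun i : Fin (p - 1) => OortTate.ygen R p u χ (i : ℕ)) ∧
      Submodule.span R (Set.range (fun i : Fin (p - 1) => OortTate.ygen R p u χ (i : ℕ))) =
        LinearMap.ker (Bialgebra.counitAlgHom R B).toLinearMap ∧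
      Algebra.adjoin R ({OortTate.ygen R p u χ 1} : Set B) = ⊤ ∧
      ∃! w : R, OortTate.ygen R p u χ 1 ^ p = w • OortTate.ygen R p u χ 1 := by
  simp only [ygen_eq]
  exact ⟨linearIndependent_Y R p u hu χ hχ, span_Y_eq_ker R p u hu χ hχ,
    adjoin_Y_one R p u hu χ hχ hχp, existsUnique_pow_eq R p u hu χ⟩

end Main

end Groth.Agent.Lib.OortTateMuP41
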