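import Mathlib
import Groth.Prelude.Def_W4c5ffgsreadingcourseOT
import Groth.Prelude.Def_CartDual
import Groth.Agent.Lib.OortTate55a
import Groth.Agent.Lib.OortTate55b
import Groth.Agent.Lib.OortTateGlobal41
import Groth.Agent.Lib.OortTateMuP41
import Groth.Agent.Lib.RankOne41
import Groth.Agent.Lib.HopfDeligne41

/-!
# The Cartier pairing of a group scheme of prime order (helper55)

`Th : A ⊗ D →ₐ Conv(End A)`, `a ⊗ φ ↦ (x ↦ φ(x) a)` is an algebra isomorphism (convolution product on
the right) sending the canonical element `δ` to the identity, hence `δ ^ n` to `[n]` and `ϕ(y_i)` to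
the projector onto `I_i`.
-/

set_option autoImplicit false
universe u

open WithConv
open scoped TensorProduct

namespace Groth.Agent.Lib.OortTatePair55

open Groth.Agent.Lib.OortTate55 Groth.Agent.Lib.OortTateGlobal41

section Theta

variable (R : Type u) [CommRing R] (A : Type u) [CommRing A] [HopfAlgebra R A]
  [Coalgebra.IsCocomm R A]

/-- `A ⊗ D → Conv(End A)`, `a ⊗ φ ↦ (x ↦ φ(x) a)`. -/
noncomputable def Th : A ⊗[R] CartDual.D R A →ₐ[R] WithConv (A →ₗ[R] A) :=
  (HopfDeligne41.Theta R A).comp (Algebra.TensorProduct.comm R A (CartDual.D R A)).toAlgHom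

theorem Th_tmul_apply (a : A) (φ : CartDual.D R A) (x : A) :
    (Th R A (a ⊗ₜ[R] φ)).ofConv x = φ.ofConv x • a := by
  show (HopfDeligne41.Theta R A (Algebra.TensorProduct.comm R A _ (a ⊗ₜ[R] φ))).ofConv x = _
  rw [Algebra.TensorProduct.comm_tmul, HopfDeligne41.Theta_tmul_apply]

/-- evaluation of a convolution endomorphism at a point, as a linear map -/
noncomputable def evc (a : A) : WithConv (A →ₗ[R] A) →ₗ[R] A :=
  (LinearMap.applyₗ a).comp (WithConv.linearEquiv R (A →ₗ[R] A)).toLinearMap

theorem evc_apply (a : A) (f : WithConv (A →ₗ[R] A)) : evc R A a f = f.ofConv a := rfl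

theorem Th_apply_eq (t : A ⊗[R] CartDual.D R A) (a : A) :
    (Th R A t).ofConv a = TensorProduct.rid R A (LinearMap.lTensor A
      ((Module.Dual.eval R A a) ∘ₗ (CartDual.toDual R A).toLinearMap) t) := by
  rw [← evc_apply]
  induction t using TensorProduct.induction_on with
  | zero => simp
  | add x y hx hy => rw [map_add, map_add, map_add, map_add, hx, hy]
  | tmul b φ =>
    rw [evc_apply, Th_tmul_apply, LinearMap.lTensor_tmul, TensorProduct.rid_tmul]
    rfl

theorem Th_delta (δ : A ⊗[R] CartDual.D R A)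
    (hδ : ∀ a : A, TensorProduct.rid R A
      (LinearMap.lTensor A ((Module.Dual.eval R A a) ∘ₗ (CartDual.toDual R A).toLinearMap) δ) = a) :
    Th R A δ = toConv LinearMap.id := by
  apply WithConv.ofConv_injective
  apply LinearMap.ext
  intro a
  rw [Th_apply_eq, hδ]
  rfl

theorem convPow_id_apply (n : ℕ) (a : A) :
    ((toConv (LinearMap.id : A →ₗ[R] A)) ^ n).ofConv a = SGA3b.powConv R A n a := by
  have h2 := AlgHom.toLinearMap_convPow (toConv (AlgHom.id R A)) n
  have := congrArg (fun f : WithConv (A →ₗ[R] A) => f.ofConv a) h2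
  exact this.symm

theorem Th_one : Th R A 1 = 1 := (Th R A).map_one'

theorem Th_mul (x y : A ⊗[R] CartDual.D R A) : Th R A (x * y) = Th R A x * Th R A y :=
  (Th R A).map_mul' x y

theorem Th_pow (x : A ⊗[R] CartDual.D R A) (n : ℕ) : Th R A (x ^ n) = (Th R A x) ^ n := by
  induction n with
  | zero => rw [pow_zero, pow_zero, Th_one]
  | succ n ih => rw [pow_succ, pow_succ, Th_mul, ih]

theorem Th_delta_pow (δ : A ⊗[R] CartDual.D R A)
    (hδ : ∀ a : A, TensorProduct.rid R A
      (LinearMap.lTensor A ((Module.Dual.eval R A a) ∘ₗ (CartDual.toDual R A).toLinearMap) δ) = a)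
    (n : ℕ) (a : A) : (Th R A (δ ^ n)).ofConv a = SGA3b.powConv R A n a := by
  rw [Th_pow, Th_delta R A δ hδ, convPow_id_apply]

theorem Th_one_apply (a : A) :
    (Th R A 1).ofConv a = algebraMap R A (CoalgebraStruct.counit (R := R) a) := by
  rw [Th_one, LinearMap.convOne_def]
  rfl

variable [Module.Finite R A] [Module.Projective R A]

theorem Th_bijective : Function.Bijective (Th R A) := by
  let E : A ⊗[R] CartDual.D R A ≃ₗ[R] WithConv (A →ₗ[R] A) :=
    (TensorProduct.comm R A (CartDual.D R A)) ≪≫ₗ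
      (TensorProduct.congr (CartDual.toDual R A) (LinearEquiv.refl R A)) ≪≫ₗ
      (dualTensorHomEquiv R A A) ≪≫ₗ (WithConv.linearEquiv R (A →ₗ[R] A)).symm
  have h : ∀ t, Th R A t = E t := by
    intro t
    induction t using TensorProduct.induction_on with
    | zero => simp
    | add x y hx hy => rw [map_add, map_add, hx, hy]
    | tmul a φ =>
      apply WithConv.ofConv_injective
      apply LinearMap.ext
      intro x
      rw [Th_tmul_apply]
      show _ = dualTensorHom R A A ((CartDual.toDual R A φ) ⊗ₜ[R] a) x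
      rw [dualTensorHom_apply]
      rfl
  have h2 : (Th R A : A ⊗[R] CartDual.D R A → WithConv (A →ₗ[R] A)) = E := funext h
  rw [h2]
  exact E.bijective

end Theta

section Phi

variable {p : ℕ} [Fact p.Prime] {R : Type u} [CommRing R] {A : Type u} [CommRing A]
  [HopfAlgebra R A] [Coalgebra.IsCocomm R A] (u : R) (χ : (ZMod p)ˣ →* Rˣ)

theorem pwm_muT_sub_one (m : (ZMod p)ˣ) :
    pwm (R := R) m (OortTate.muT R p - 1) = OortTate.muT R p ^ (m : ZMod p).val - 1 := by
  rw [map_sub, map_one]
  congr 1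
  show SGA3b.powConv R (MonoidAlgebra R (Multiplicative (ZMod p))) (m : ZMod p).val
    (MonoidAlgebra.single (Multiplicative.ofAdd (1 : ZMod p)) (1 : R)) =
    (MonoidAlgebra.single (Multiplicative.ofAdd (1 : ZMod p)) (1 : R)) ^ (m : ZMod p).val
  rw [OortTateMuP41.powConv_single, MonoidAlgebra.single_pow, one_pow]

theorem algHom_pow' {B : Type*} [Semiring B] [Algebra R B]
    (ψ : B →ₐ[R] A ⊗[R] CartDual.D R A) (x : B) (n : ℕ) : ψ (x ^ n) = (ψ x) ^ n := by
  induction n with
  | zero => rw [pow_zero, pow_zero]; exact ψ.map_one'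
  | succ n ih => rw [pow_succ, pow_succ, ← ih]; exact ψ.map_mul' _ _

theorem phi_ygen (δ : A ⊗[R] CartDual.D R A)
    (ϕ : MonoidAlgebra R (Multiplicative (ZMod p)) →ₐ[R] A ⊗[R] CartDual.D R A)
    (hϕ : ϕ (OortTate.muT R p) = δ) (i : ℕ) :
    ϕ (OortTate.ygen R p u χ i) =
      u • ∑ m : (ZMod p)ˣ, cz χ (-(i : ℤ)) m • (δ ^ (m : ZMod p).val - 1) := by
  rw [OortTateMuP41.ygen_eq]
  unfold OortTateMuP41.Y
  rw [ez_apply, map_smul, map_sum]
  congr 1
  refine Finset.sum_congr rfl fun m _ => ?_
  rw [map_smul, pwm_muT_sub_one, map_sub, algHom_pow', hϕ]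
  congr 2
  exact ϕ.map_one'

/-- `Th (ϕ (y_i))` is the projector onto `I_i`. -/
theorem Th_phi_ygen (δ : A ⊗[R] CartDual.D R A)
    (hδ : ∀ a : A, TensorProduct.rid R A
      (LinearMap.lTensor A ((Module.Dual.eval R A a) ∘ₗ (CartDual.toDual R A).toLinearMap) δ) = a)
    (ϕ : MonoidAlgebra R (Multiplicative (ZMod p)) →ₐ[R] A ⊗[R] CartDual.D R A)
    (hϕ : ϕ (OortTate.muT R p) = δ) (i : ℕ) (a : A) :
    (Th R A (ϕ (OortTate.ygen R p u χ i))).ofConv a = retr u χ i a := by
  rw [phi_ygen u χ δ ϕ hϕ, ← evc_apply, map_smul, map_sum, map_smul, map_sum, retr_apply, ez_apply]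
  congr 1
  refine Finset.sum_congr rfl fun m _ => ?_
  rw [map_smul, map_smul, map_sub, map_sub, evc_apply, evc_apply, Th_delta_pow R A δ hδ,
    Th_one_apply, map_sub, AlgHom.commutes]
  rfl

end Phi

section PEP

variable {p : ℕ} [Fact p.Prime] {R : Type u} [CommRing R] {A : Type u} [CommRing A]
  [HopfAlgebra R A] [Coalgebra.IsCocomm R A] [Module.Finite R A] [Module.Projective R A]
  (u : R) (χ : (ZMod p)ˣ →* Rˣ)
  (hp : (toConv (AlgHom.id R A)) ^ p = 1) (hu : u * ((p - 1 : ℕ) : R) = 1)

omit [Coalgebra.IsCocomm R A] [Module.Finite R A] [Module.Projective R A] in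
theorem retr_one (i : ℕ) : retr u χ i (1 : A) = 0 := by
  rw [retr_apply, Bialgebra.counit_one, map_one, sub_self, map_zero]

omit [Coalgebra.IsCocomm R A] [Module.Finite R A] [Module.Projective R A] in
include hp in
theorem retr_pwm (i : ℕ) (m : (ZMod p)ˣ) (a : A) :
    retr u χ i (pwm (R := R) m a) = cz χ (i : ℤ) m • retr u χ i a := by
  have h1 : pwm (R := R) m a - algebraMap R A (CoalgebraStruct.counit (R := R) a) =
      pwm (R := R) m (a - algebraMap R A (CoalgebraStruct.counit (R := R) a)) := by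
    rw [map_sub, AlgHom.commutes]
  rw [retr_apply, retr_apply, counit_pwm, h1, ez_pwm u χ hp m]

include hu in
theorem dual_retr (i : ℕ) (φ : CartDual.D R A)
    (hφ : φ ∈ OortTate.eigenAug R (CartDual.D R A) p χ i) (x : A) :
    φ.ofConv (retr u χ i x) = φ.ofConv x := by
  rw [mem_eigenAug_dual_iff] at hφ
  rw [retr_apply, ez_apply, map_smul, map_sum]
  have h1 : ∀ m : (ZMod p)ˣ, φ.ofConv (cz χ (-(i : ℤ)) m •
      pwm (R := R) m (x - algebraMap R A (CoalgebraStruct.counit (R := R) x))) =
      φ.ofConv x := by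
    intro m
    rw [map_smul, hφ.2 m, smul_eq_mul, ← mul_assoc, cz_neg_mul_self, one_mul, map_sub,
      Algebra.algebraMap_eq_smul_one, map_smul, hφ.1, smul_zero, sub_zero]
  rw [Finset.sum_congr rfl (fun m _ => h1 m), Finset.sum_const, Finset.card_univ,
    card_units_zmod, smul_eq_mul, nsmul_eq_mul, ← mul_assoc, hu, one_mul]

/-- the transpose of the projector -/
noncomputable def PD (i : ℕ) : CartDual.D R A →ₗ[R] CartDual.D R A :=
  (CartDual.toDual R A).symm.toLinearMap ∘ₗ (retr u χ i).dualMap ∘ₗ (CartDual.toDual R A).toLinearMap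

omit [Coalgebra.IsCocomm R A] [Module.Finite R A] [Module.Projective R A] in
theorem PD_apply (i : ℕ) (φ : CartDual.D R A) (x : A) :
    (PD u χ i φ).ofConv x = φ.ofConv (retr u χ i x) := rfl

include hp in
theorem PD_mem (i : ℕ) (φ : CartDual.D R A) :
    PD u χ i φ ∈ OortTate.eigenAug R (CartDual.D R A) p χ i := by
  rw [mem_eigenAug_dual_iff]
  refine ⟨?_, fun m a => ?_⟩
  · rw [PD_apply, retr_one, map_zero]
  · rw [PD_apply, PD_apply, retr_pwm u χ hp, map_smul, smul_eq_mul]

/-- codomain-restricted transpose projector -/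
noncomputable def PD' (i : ℕ) :
    CartDual.D R A →ₗ[R] OortTate.eigenAug R (CartDual.D R A) p χ i :=
  (PD u χ i).codRestrict _ (PD_mem u χ hp i)

include hu in
/-- elements of `I_i(A) ⊗ I_i(D)` give endomorphisms `f` with `P f = f = f P` -/
theorem Th_range_le (i : ℕ) (w : A ⊗[R] CartDual.D R A)
    (hw : w ∈ LinearMap.range (TensorProduct.map (OortTate.eigenAug R A p χ i).subtype
      (OortTate.eigenAug R (CartDual.D R A) p χ i).subtype)) (x : A) :
    retr u χ i ((Th R A w).ofConv x) = (Th R A w).ofConv x ∧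
      (Th R A w).ofConv (retr u χ i x) = (Th R A w).ofConv x := by
  obtain ⟨t, rfl⟩ := hw
  induction t using TensorProduct.induction_on with
  | zero => simp
  | add s t hs ht =>
    simp only [map_add, WithConv.ofConv_add, LinearMap.add_apply]
    rw [hs.1, hs.2, ht.1, ht.2]
    exact ⟨rfl, rfl⟩
  | tmul a φ =>
    rw [TensorProduct.map_tmul, Th_tmul_apply, Th_tmul_apply]
    constructor
    · rw [map_smul]
      congr 1
      exact retr_of_mem u χ hu i a.2
    · congr 1
      exact dual_retr u χ hu i _ φ.2 x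

include hp hu in
/-- conversely -/
theorem mem_range_of_Th (i : ℕ) (w : A ⊗[R] CartDual.D R A)
    (h : ∀ x : A, retr u χ i ((Th R A w).ofConv (retr u χ i x)) = (Th R A w).ofConv x) :
    w ∈ LinearMap.range (TensorProduct.map (OortTate.eigenAug R A p χ i).subtype
      (OortTate.eigenAug R (CartDual.D R A) p χ i).subtype) := by
  have key : ∀ t : A ⊗[R] CartDual.D R A, ∀ x : A,
      (Th R A (TensorProduct.map (retr u χ i) (PD u χ i) t)).ofConv x =
        retr u χ i ((Th R A t).ofConv (retr u χ i x)) := by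
    intro t x
    induction t using TensorProduct.induction_on with
    | zero => simp
    | add s t hs ht =>
      simp only [map_add, WithConv.ofConv_add, LinearMap.add_apply]
      rw [hs, ht]
    | tmul a φ =>
      rw [TensorProduct.map_tmul, Th_tmul_apply, Th_tmul_apply, PD_apply, map_smul]
  have h1 : TensorProduct.map (retr u χ i) (PD u χ i) w = w := by
    apply (Th_bijective R A).injective
    apply WithConv.ofConv_injective
    apply LinearMap.ext
    intro x
    rw [key, h]
  have h2 : TensorProduct.map (retr u χ i) (PD u χ i) =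
      (TensorProduct.map (OortTate.eigenAug R A p χ i).subtype
        (OortTate.eigenAug R (CartDual.D R A) p χ i).subtype) ∘ₗ
      (TensorProduct.map (retr' u χ hp hu i) (PD' u χ hp i)) := by
    rw [← TensorProduct.map_comp]
    rfl
  rw [← h1, h2]
  exact ⟨_, rfl⟩

end PEP

section Main

variable {p : ℕ} [Fact p.Prime] {R : Type u} [CommRing R] {A : Type u} [CommRing A]
  [HopfAlgebra R A] [Coalgebra.IsCocomm R A] [Module.Finite R A] [Module.Projective R A]
  (u : R) (χ : (ZMod p)ˣ →* Rˣ)
  (hp : (toConv (AlgHom.id R A)) ^ p = 1) (hu : u * ((p - 1 : ℕ) : R) = 1)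
  (hχ : ∀ m : (ZMod p)ˣ, m ≠ 1 → IsUnit ((χ m : R) - 1))
  (hχp : ∀ m : (ZMod p)ˣ, ((χ m : Rˣ) : R) - (((m : ZMod p).val : ℕ) : R) ∈
    Ideal.span ({(p : R)} : Set R))
  (hrk : ∀ q : PrimeSpectrum R, Module.rankAtStalk A q = p)

include hp hu hχ hχp hrk in
/-- If `Th z` is the projector onto `I_i`, then `z` freely generates the image of
`I_i(A) ⊗ I_i(D)`. -/
theorem span_eq_range_of_Th_eq_retr (i : ℕ) (z : A ⊗[R] CartDual.D R A)
    (hz : ∀ a : A, (Th R A z).ofConv a = retr u χ i a) :
    Submodule.span R {z} =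
        LinearMap.range (TensorProduct.map (OortTate.eigenAug R A p χ i).subtype
          (OortTate.eigenAug R (CartDual.D R A) p χ i).subtype) ∧
      ∀ r : R, r • z = 0 → r = 0 := by
  have hrk1 := rankAtStalk_eigenAug u hu χ hχ hχp hrk hp i
  haveI := finite_eigenAug u χ hp hu (A := A) i
  haveI := projective_eigenAug u χ hp hu (A := A) i
  haveI : Module.Invertible R (OortTate.eigenAug R A p χ i) :=
    RankOne41.invertible_of_rankAtStalk_eq_one hrk1
  have hsmul : ∀ (r : R) (x : A), (Th R A (r • z)).ofConv x = r • retr u χ i x := by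
    intro r x
    rw [map_smul, ← hz]
    rfl
  refine ⟨le_antisymm ?_ ?_, ?_⟩
  · rw [Submodule.span_singleton_le_iff_mem]
    apply mem_range_of_Th u χ hp hu i z
    intro x
    rw [hz, hz, retr_of_mem u χ hu i (retr_mem u χ hp hu i _),
      retr_of_mem u χ hu i (retr_mem u χ hp hu i _)]
  · intro w hw
    have hf := Th_range_le u χ hu i w hw
    let g : OortTate.eigenAug R A p χ i →ₗ[R] OortTate.eigenAug R A p χ i :=
      ((Th R A w).ofConv ∘ₗ (OortTate.eigenAug R A p χ i).subtype).codRestrict _ (fun y => by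
        show (Th R A w).ofConv (y : A) ∈ _
        rw [← (hf (y : A)).1]
        exact retr_mem u χ hp hu i _)
    obtain ⟨r, hr⟩ := (Module.Invertible.toModuleEnd_bijective R
      (OortTate.eigenAug R A p χ i)).surjective g
    rw [Submodule.mem_span_singleton]
    refine ⟨r, ?_⟩
    apply (Th_bijective R A).injective
    apply WithConv.ofConv_injective
    apply LinearMap.ext
    intro x
    rw [hsmul, ← (hf x).2]
    have h1 := LinearMap.congr_fun hr ⟨retr u χ i x, retr_mem u χ hp hu i x⟩
    have h2 := congrArg Subtype.val h1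
    exact h2
  · intro r hr
    apply RankOne41.eq_zero_of_smul_eq_zero_of_rankAtStalk_eq_one hrk1 r
    intro y
    apply Subtype.ext
    have h1 := hsmul r (y : A)
    rw [hr, retr_of_mem u χ hu i y.2] at h1
    rw [map_zero] at h1
    exact h1.symm

end Main

end Groth.Agent.Lib.OortTatePair55
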