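import Mathlib
import Groth.Prelude.Def_W4c5ffgsreadingcourseOT
import Groth.Prelude.Def_CartDual
import Groth.Agent.Lib.OortTatePair55a
import Groth.Agent.Lib.OortTateBasis55

/-!
# The pairing between powers of generators of `I_1(A)` and `I_1(A^D)` (helper55)

* `rankAtStalk_D`: the Cartier dual has the same rank;
* `Phi : R[ℤ/p] →ₐ Conv(End A)`, `T ↦ id`, with `Phi (y_i) =` projector onto `I_i`;
* `wconst u χ t`: universal constants with `y_1 ^ t = w_t y_t` in `R[ℤ/p]`;
* `pairing_pow`: `⟨ξ ^ j, x ^ k⟩ = δ_{jk} w_j`.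
-/

set_option autoImplicit false
universe u

open WithConv
open scoped TensorProduct

namespace Groth.Agent.Lib.OortTatePair55

open Groth.Agent.Lib.OortTate55 Groth.Agent.Lib.OortTateGlobal41 Groth.Agent.Lib.OortTateField41
open Groth.Agent.Lib.OortTateBasis55

section DualRank

variable {R : Type u} [CommRing R] (M : Type u) [AddCommGroup M] [Module R M] [Module.Finite R M]
  [Module.Projective R M]

theorem rankAtStalk_dual (q : PrimeSpectrum R) :
    Module.rankAtStalk (Module.Dual R M) q = Module.rankAtStalk M q := by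
  let S := q.asIdeal.primeCompl
  let Rq := Localization.AtPrime q.asIdeal
  haveI : Module.FinitePresentation R M := Module.finitePresentation_of_projective R M
  haveI : Nontrivial R := q.nontrivial
  let e : LocalizedModule S (M →ₗ[R] R) ≃ₗ[Rq]
      (LocalizedModule S M →ₗ[Rq] LocalizedModule S R) :=
    (Module.FinitePresentation.linearEquivMapExtendScalars S).extendScalarsOfIsLocalization S Rq
  have hfreeM : Module.Free Rq (LocalizedModule S M) := Module.free_of_flat_of_isLocalRing
  have hfreeR : Module.Free Rq (LocalizedModule S R) := Module.free_of_flat_of_isLocalRing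
  have h1 : Module.finrank Rq (LocalizedModule S R) = 1 := by
    have h := congrFun (Module.rankAtStalk_self (R := R)) q
    exact h
  show Module.finrank Rq (LocalizedModule S (M →ₗ[R] R)) = Module.finrank Rq (LocalizedModule S M)
  rw [e.finrank_eq, Module.finrank_linearMap, h1, mul_one]

theorem rankAtStalk_D (A : Type u) [AddCommGroup A] [Module R A] [Module.Finite R A]
    [Module.Projective R A] (q : PrimeSpectrum R) :
    Module.rankAtStalk (CartDual.D R A) q = Module.rankAtStalk A q := by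
  rw [← rankAtStalk_dual A q]
  exact congrFun (Module.rankAtStalk_eq_of_equiv (CartDual.toDual R A)) q

end DualRank

section Phi

variable {p : ℕ} [Fact p.Prime] {R : Type u} [CommRing R] {A : Type u} [CommRing A]
  [HopfAlgebra R A] [Coalgebra.IsCocomm R A]
  (hp : (toConv (AlgHom.id R A)) ^ p = 1)

include hp in
theorem convPow_linId : (toConv (LinearMap.id : A →ₗ[R] A)) ^ p = 1 := by
  apply WithConv.ofConv_injective
  apply LinearMap.ext
  intro a
  rw [convPow_id_apply]
  unfold SGA3b.powConv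
  rw [hp, LinearMap.convOne_def]
  rfl

/-- `g ↦ id ^ g` -/
noncomputable def thetaHom : Multiplicative (ZMod p) →* WithConv (A →ₗ[R] A) where
  toFun g := (toConv (LinearMap.id : A →ₗ[R] A)) ^ (Multiplicative.toAdd g).val
  map_one' := by
    show (toConv (LinearMap.id : A →ₗ[R] A)) ^ (0 : ZMod p).val = 1
    rw [ZMod.val_zero, pow_zero]
  map_mul' a b := by
    show (toConv (LinearMap.id : A →ₗ[R] A)) ^ (Multiplicative.toAdd a + Multiplicative.toAdd b).val =
      (toConv (LinearMap.id : A →ₗ[R] A)) ^ (Multiplicative.toAdd a).val *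
        (toConv (LinearMap.id : A →ₗ[R] A)) ^ (Multiplicative.toAdd b).val
    rw [ZMod.val_add, ← pow_add, ← pow_eq_pow_mod _ (convPow_linId hp)]

/-- `R[ℤ/p] → Conv(End A)`, `T ↦ id`. -/
noncomputable def Phi : MonoidAlgebra R (Multiplicative (ZMod p)) →ₐ[R] WithConv (A →ₗ[R] A) :=
  MonoidAlgebra.lift R (WithConv (A →ₗ[R] A)) (Multiplicative (ZMod p)) (thetaHom hp)

theorem Phi_muT : Phi hp (OortTate.muT R p) = toConv (LinearMap.id : A →ₗ[R] A) := by
  have hp1 : Fact (1 < p) := ⟨(Fact.out : p.Prime).one_lt⟩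
  show MonoidAlgebra.lift R (WithConv (A →ₗ[R] A)) (Multiplicative (ZMod p)) (thetaHom hp)
    (MonoidAlgebra.of R (Multiplicative (ZMod p)) (Multiplicative.ofAdd 1)) = _
  rw [MonoidAlgebra.lift_of]
  show (toConv (LinearMap.id : A →ₗ[R] A)) ^ (1 : ZMod p).val = _
  rw [ZMod.val_one, pow_one]

variable (u : R) (χ : (ZMod p)ˣ →* Rˣ)

/-- Any algebra map `R[ℤ/p] → Conv(End A)` with `T ↦ id` sends `y_i` to the projector onto `I_i`. -/
theorem algHom_ygen (Ψ : MonoidAlgebra R (Multiplicative (ZMod p)) →ₐ[R] WithConv (A →ₗ[R] A))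
    (hΨ : Ψ (OortTate.muT R p) = toConv (LinearMap.id : A →ₗ[R] A)) (i : ℕ) :
    Ψ (OortTate.ygen R p u χ i) = toConv (retr u χ i) := by
  apply WithConv.ofConv_injective
  apply LinearMap.ext
  intro a
  rw [OortTateMuP41.ygen_eq]
  unfold OortTateMuP41.Y
  rw [ez_apply, map_smul, map_sum, ← evc_apply, map_smul, map_sum, WithConv.ofConv_toConv,
    retr_apply, ez_apply]
  congr 1
  refine Finset.sum_congr rfl fun m _ => ?_
  rw [map_smul, map_smul, pwm_muT_sub_one, map_sub, map_pow, hΨ, map_one, map_sub, evc_apply,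
    evc_apply, convPow_id_apply, LinearMap.convOne_def, map_sub, AlgHom.commutes]
  rfl

theorem Phi_ygen (i : ℕ) : Phi hp (OortTate.ygen R p u χ i) = toConv (retr u χ i) :=
  algHom_ygen u χ (Phi hp) (Phi_muT hp) i

end Phi

section WConst

variable {p : ℕ} [Fact p.Prime] {R : Type u} [CommRing R] (u : R) (χ : (ZMod p)ˣ →* Rˣ)

theorem exists_w (hu : u * ((p - 1 : ℕ) : R) = 1) (t : ℕ) (ht1 : 1 ≤ t) :
    ∃ w : R, (OortTate.ygen R p u χ 1) ^ t = w • OortTate.ygen R p u χ t := by
  rw [OortTateMuP41.ygen_eq, OortTateMuP41.ygen_eq]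
  have h1 := pow_mem_eigenAug χ (OortTateMuP41.Y_mem R p u χ hu 1) t ht1
  rw [OortTateMuP41.eigenAug_eq_span R p u χ hu, Submodule.mem_span_singleton] at h1
  obtain ⟨w, hw⟩ := h1
  exact ⟨w, hw.symm⟩

open Classical in
/-- the universal constants `w_t` with `y_1 ^ t = w_t y_t` in the group algebra of `ℤ/p` -/
noncomputable def wconst (t : ℕ) : R :=
  if h : ∃ w : R, (OortTate.ygen R p u χ 1) ^ t = w • OortTate.ygen R p u χ t then
    Classical.choose h else 1

theorem ygen_pow (hu : u * ((p - 1 : ℕ) : R) = 1) (t : ℕ) (ht1 : 1 ≤ t) :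
    (OortTate.ygen R p u χ 1) ^ t = wconst u χ t • OortTate.ygen R p u χ t := by
  unfold wconst
  rw [dif_pos (exists_w u χ hu t ht1)]
  exact Classical.choose_spec (exists_w u χ hu t ht1)

end WConst

section Pairing

variable {p : ℕ} [Fact p.Prime] {R : Type u} [CommRing R] {A : Type u} [CommRing A]
  [HopfAlgebra R A] [Coalgebra.IsCocomm R A] [Module.Finite R A] [Module.Projective R A]
  (u : R) (hu : u * ((p - 1 : ℕ) : R) = 1) (χ : (ZMod p)ˣ →* Rˣ)
  (hχ : ∀ m : (ZMod p)ˣ, m ≠ 1 → IsUnit ((χ m : R) - 1))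
  (hχp : ∀ m : (ZMod p)ˣ, ((χ m : Rˣ) : R) - (((m : ZMod p).val : ℕ) : R) ∈
    Ideal.span ({(p : R)} : Set R))
  (hrk : ∀ q : PrimeSpectrum R, Module.rankAtStalk A q = p)
  (hp : (toConv (AlgHom.id R A)) ^ p = 1)
  (x : A) (hx : Submodule.span R {x} = OortTate.eigenAug R A p χ 1)
  (ξ : CartDual.D R A) (hξ : Submodule.span R {ξ} = OortTate.eigenAug R (CartDual.D R A) p χ 1)
  (hxξ : ξ.ofConv x = 1)

include hu hp hx hξ hxξ in
/-- `ξ(a) x = P_1 a` -/
theorem pairing_one (a : A) : ξ.ofConv a • x = retr u χ 1 a := by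
  have hξm : ξ ∈ OortTate.eigenAug R (CartDual.D R A) p χ 1 := by
    rw [← hξ]
    exact Submodule.mem_span_singleton_self ξ
  have h1 : retr u χ 1 a ∈ Submodule.span R {x} := by
    rw [hx]
    exact retr_mem u χ hp hu 1 a
  obtain ⟨c, hc⟩ := Submodule.mem_span_singleton.1 h1
  have h2 := dual_retr u χ hu 1 ξ hξm a
  rw [← hc, map_smul, hxξ, smul_eq_mul, mul_one] at h2
  rw [← hc, ← h2]

include hu hp hx hξ hxξ in
/-- `ξ^j(a) x^j = w_j P_j a` -/
theorem pairing_pow_smul (j : ℕ) (hj1 : 1 ≤ j) (a : A) :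
    (ξ ^ j).ofConv a • x ^ j = wconst u χ j • retr u χ j a := by
  have h1 : Th R A (x ⊗ₜ[R] ξ) = toConv (retr u χ 1) := by
    apply WithConv.ofConv_injective
    apply LinearMap.ext
    intro a
    rw [Th_tmul_apply]
    exact pairing_one u hu χ hp x hx ξ hξ hxξ a
  have h2 : Th R A ((x ^ j) ⊗ₜ[R] (ξ ^ j)) = wconst u χ j • toConv (retr u χ j) := by
    have e1 : (toConv (retr u χ 1) : WithConv (A →ₗ[R] A)) ^ j =
        Phi hp ((OortTate.ygen R p u χ 1) ^ j) := by
      rw [map_pow, Phi_ygen]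
    have e2 : (x ^ j) ⊗ₜ[R] (ξ ^ j) = (x ⊗ₜ[R] ξ) ^ j := by
      rw [Algebra.TensorProduct.tmul_pow]
    rw [e2, Th_pow, h1, e1, ygen_pow u χ hu j hj1, map_smul, Phi_ygen]
  have h3 := congrArg (fun f : WithConv (A →ₗ[R] A) => f.ofConv a) h2
  simp only [Th_tmul_apply] at h3
  exact h3

include hu hχ hχp hrk hp hx hξ hxξ in
/-- The pairing between the two power bases is diagonal with universal entries. -/
theorem pairing_pow (j k : ℕ) (hj : j < p) (hk : k < p) :
    (ξ ^ j).ofConv (x ^ k) =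
      if j = k then (if j = 0 then 1 else wconst u χ j) else 0 := by
  rcases Nat.eq_zero_or_pos j with hj0 | hjpos
  · subst hj0
    rw [pow_zero, LinearMap.convOne_def]
    show algebraMap R R (CoalgebraStruct.counit (R := R) (x ^ k)) = _
    rcases Nat.eq_zero_or_pos k with hk0 | hkpos
    · subst hk0
      simp
    · rw [counit_pow χ x hx k hkpos, map_zero, if_neg (by omega)]
  · have hjp : j ≤ p - 1 := by omega
    have key := pairing_pow_smul u hu χ hp x hx ξ hξ hxξ j hjpos (x ^ k)
    have hret : retr u χ j (x ^ k) = if j = k then x ^ j else 0 := by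
      rcases Nat.eq_zero_or_pos k with hk0 | hkpos
      · subst hk0
        rw [pow_zero, retr_one', if_neg (by omega)]
      · rw [retr_pow u hu χ hχ x hx j k hjpos hjp hkpos (by omega)]
        split_ifs with h
        · rw [h]
        · rfl
    rw [hret] at key
    have h0 : ((ξ ^ j).ofConv (x ^ k) -
        (if j = k then (if j = 0 then 1 else wconst u χ j) else 0)) • x ^ j = 0 := by
      rw [sub_smul, key]
      split_ifs with h1 h2
      · omega
      · rw [sub_self]
      · rw [smul_zero, zero_smul, sub_self]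
    exact sub_eq_zero.1 (smul_pow_eq_zero u hu χ hχ hχp hrk hp x hx j hjpos hjp _ h0)

end Pairing

end Groth.Agent.Lib.OortTatePair55
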