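import Mathlib
import Groth.Prelude.Def_W4c5ffgsreadingcourseOT
import Groth.Prelude.Def_CartDual
import Groth.Agent.Lib.OortTatePair55b
import Groth.Agent.Lib.HopfDeligne41

/-!
# Oort–Tate: the parameters `(α, β)` determine the group scheme (free `I_1`) (helper55)
-/

set_option autoImplicit false
universe u

open WithConv Polynomial
open scoped TensorProduct

namespace Groth.Agent.Lib.OortTateIso55

open Groth.Agent.Lib.OortTate55 Groth.Agent.Lib.OortTateGlobal41 Groth.Agent.Lib.OortTateField41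
open Groth.Agent.Lib.OortTateBasis55 Groth.Agent.Lib.OortTatePair55

section Duality

variable {R : Type u} [CommRing R] {A : Type u} [CommRing A] [HopfAlgebra R A]
  [Module.Finite R A] [Module.Projective R A] [Coalgebra.IsCocomm R A]
  {A' : Type u} [CommRing A'] [HopfAlgebra R A']
  [Module.Finite R A'] [Module.Projective R A'] [Coalgebra.IsCocomm R A']

/-- `(φ ψ)(a) = ev₂ (φ ⊗ ψ) (Δ a)` -/
theorem mul_ofConv_apply (φ ψ : CartDual.D R A) (a : A) :
    (φ * ψ).ofConv a = CartDual.ev₂ R A (φ ⊗ₜ[R] ψ) (CoalgebraStruct.comul (R := R) a) := by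
  rw [CartDual.ev₂_tmul_eq', LinearMap.convMul_def]
  rfl

/-- An algebra map whose transpose is an algebra map is a bialgebra map. -/
theorem bialg_of_transpose (f : A →ₐ[R] A') (g : CartDual.D R A' →ₐ[R] CartDual.D R A)
    (hfg : ∀ (φ' : CartDual.D R A') (a : A), (g φ').ofConv a = φ'.ofConv (f a)) :
    (Bialgebra.counitAlgHom R A').comp f = Bialgebra.counitAlgHom R A ∧
      (Algebra.TensorProduct.map f f).comp (Bialgebra.comulAlgHom R A) =
        (Bialgebra.comulAlgHom R A').comp f := by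
  constructor
  · apply AlgHom.ext
    intro a
    have h1 := hfg 1 a
    rw [map_one, LinearMap.convOne_def, LinearMap.convOne_def] at h1
    exact h1.symm
  · apply AlgHom.ext
    intro a
    show Algebra.TensorProduct.map f f (CoalgebraStruct.comul (R := R) a) =
      CoalgebraStruct.comul (R := R) (f a)
    rw [← sub_eq_zero, ← Module.forall_dual_apply_eq_zero_iff R]
    intro Λ
    obtain ⟨y, rfl⟩ := (CartDual.ev₂ R A').surjective Λ
    rw [map_sub, sub_eq_zero]
    have key : ∀ (φ' ψ' : CartDual.D R A') (t : A ⊗[R] A),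
        CartDual.ev₂ R A' (φ' ⊗ₜ[R] ψ') (Algebra.TensorProduct.map f f t) =
          CartDual.ev₂ R A (g φ' ⊗ₜ[R] g ψ') t := by
      intro φ' ψ' t
      induction t using TensorProduct.induction_on with
      | zero => simp
      | add s t hs ht => rw [map_add, map_add, map_add, hs, ht]
      | tmul b c =>
        rw [Algebra.TensorProduct.map_tmul, CartDual.ev₂_tmul, CartDual.ev₂_tmul]
        show φ'.ofConv (f b) * ψ'.ofConv (f c) = (g φ').ofConv b * (g ψ').ofConv c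
        rw [hfg, hfg]
    induction y using TensorProduct.induction_on with
    | zero => simp
    | add s t hs ht => rw [map_add, LinearMap.add_apply, LinearMap.add_apply, hs, ht]
    | tmul φ' ψ' =>
      rw [key, ← mul_ofConv_apply, ← mul_ofConv_apply, ← map_mul, hfg]

end Duality

section Core

variable {p : ℕ} [Fact p.Prime] {R : Type u} [CommRing R]
  (u : R) (hu : u * ((p - 1 : ℕ) : R) = 1) (χ : (ZMod p)ˣ →* Rˣ)
  (hχ : ∀ m : (ZMod p)ˣ, m ≠ 1 → IsUnit ((χ m : R) - 1))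
  (hχp : ∀ m : (ZMod p)ˣ, ((χ m : Rˣ) : R) - (((m : ZMod p).val : ℕ) : R) ∈
    Ideal.span ({(p : R)} : Set R))
  {A : Type u} [CommRing A] [HopfAlgebra R A] [Coalgebra.IsCocomm R A] [Module.Finite R A]
  [Module.Projective R A] (hrk : ∀ q : PrimeSpectrum R, Module.rankAtStalk A q = p)
  {A' : Type u} [CommRing A'] [HopfAlgebra R A'] [Coalgebra.IsCocomm R A'] [Module.Finite R A']
  [Module.Projective R A'] (hrk' : ∀ q : PrimeSpectrum R, Module.rankAtStalk A' q = p)
  (x : A) (hx : Submodule.span R {x} = OortTate.eigenAug R A p χ 1)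
  (ξ : CartDual.D R A) (hξ : Submodule.span R {ξ} = OortTate.eigenAug R (CartDual.D R A) p χ 1)
  (hxξ : ξ.ofConv x = 1)
  (x' : A') (hx' : Submodule.span R {x'} = OortTate.eigenAug R A' p χ 1)
  (ξ' : CartDual.D R A')
  (hξ' : Submodule.span R {ξ'} = OortTate.eigenAug R (CartDual.D R A') p χ 1)
  (hxξ' : ξ'.ofConv x' = 1)
  (α β : R) (hα : x ^ p = α • x) (hβ : ξ ^ p = β • ξ) (hα' : x' ^ p = α • x')
  (hβ' : ξ' ^ p = β • ξ')

include hu hχ hχp hrk hrk' hx hξ hxξ hx' hξ' hxξ' hα hβ hα' hβ' in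
/-- Same parameters `(α, β)`, generators paired to `1`: isomorphic bialgebras. -/
theorem nonempty_bialgEquiv_of_same : Nonempty (A ≃ₐc[R] A') := by
  have hpA : (toConv (AlgHom.id R A)) ^ p = 1 :=
    HopfDeligne41.convPow_id_eq_one_of_rankAtStalk_eq R A p hrk
  have hpA' : (toConv (AlgHom.id R A')) ^ p = 1 :=
    HopfDeligne41.convPow_id_eq_one_of_rankAtStalk_eq R A' p hrk'
  have hrkD : ∀ q : PrimeSpectrum R, Module.rankAtStalk (CartDual.D R A) q = p := fun q => by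
    rw [rankAtStalk_D, hrk]
  have hrkD' : ∀ q : PrimeSpectrum R, Module.rankAtStalk (CartDual.D R A') q = p := fun q => by
    rw [rankAtStalk_D, hrk']
  have hpD : (toConv (AlgHom.id R (CartDual.D R A))) ^ p = 1 :=
    HopfDeligne41.convPow_id_eq_one_of_rankAtStalk_eq R (CartDual.D R A) p hrkD
  have hpD' : (toConv (AlgHom.id R (CartDual.D R A'))) ^ p = 1 :=
    HopfDeligne41.convPow_id_eq_one_of_rankAtStalk_eq R (CartDual.D R A') p hrkD'
  let pbA := powerBasis u hu χ hχ hχp hrk hpA x hx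
  let pbA' := powerBasis u hu χ hχ hχp hrk' hpA' x' hx'
  let pbD := powerBasis u hu χ hχ hχp hrkD hpD ξ hξ
  let pbD' := powerBasis u hu χ hχ hχp hrkD' hpD' ξ' hξ'
  have hmA : minpoly R pbA.gen = X ^ p - C α * X := minpoly_eq_of_pow_eq (p := p) pbA rfl α hα
  have hmA' : minpoly R pbA'.gen = X ^ p - C α * X := minpoly_eq_of_pow_eq (p := p) pbA' rfl α hα'
  have hmD' : minpoly R pbD'.gen = X ^ p - C β * X := minpoly_eq_of_pow_eq (p := p) pbD' rfl β hβ'
  let f : A ≃ₐ[R] A' := pbA.equivOfMinpoly pbA' (hmA.trans hmA'.symm)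
  have hfx : f x = x' := PowerBasis.equivOfMinpoly_gen pbA pbA' _
  have hroot : aeval ξ (minpoly R pbD'.gen) = 0 := by
    rw [hmD', map_sub, map_pow, map_mul, aeval_X, aeval_C, hβ, Algebra.smul_def, sub_self]
  let g : CartDual.D R A' →ₐ[R] CartDual.D R A := pbD'.lift ξ hroot
  have hgξ : g ξ' = ξ := PowerBasis.lift_gen pbD' ξ hroot
  have hfg : ∀ (φ' : CartDual.D R A') (a : A), (g φ').ofConv a = φ'.ofConv (f a) := by
    intro φ' a
    let L1 : CartDual.D R A' →ₗ[R] R :=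
      (LinearMap.applyₗ a) ∘ₗ (CartDual.toDual R A).toLinearMap ∘ₗ g.toLinearMap
    let L2 : CartDual.D R A' →ₗ[R] R :=
      (LinearMap.applyₗ (f a)) ∘ₗ (CartDual.toDual R A').toLinearMap
    have hL : L1 = L2 := by
      apply pbD'.basis.ext
      intro j
      rw [pbD'.basis_eq_pow]
      show (g (ξ' ^ (j : ℕ))).ofConv a = (ξ' ^ (j : ℕ)).ofConv (f a)
      rw [map_pow g ξ' (j : ℕ), hgξ]
      let M1 : A →ₗ[R] R := (ξ ^ (j : ℕ)).ofConv
      let M2 : A →ₗ[R] R := (ξ' ^ (j : ℕ)).ofConv ∘ₗ f.toLinearMap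
      have hM : M1 = M2 := by
        apply pbA.basis.ext
        intro k
        rw [pbA.basis_eq_pow]
        show (ξ ^ (j : ℕ)).ofConv (x ^ (k : ℕ)) = (ξ' ^ (j : ℕ)).ofConv (f (x ^ (k : ℕ)))
        rw [map_pow f x (k : ℕ), hfx,
          pairing_pow u hu χ hχ hχp hrk hpA x hx ξ hξ hxξ (j : ℕ) (k : ℕ) j.2 k.2,
          pairing_pow u hu χ hχ hχp hrk' hpA' x' hx' ξ' hξ' hxξ' (j : ℕ) (k : ℕ) j.2 k.2]
      exact LinearMap.congr_fun hM a
    exact LinearMap.congr_fun hL φ'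
  obtain ⟨h1, h2⟩ := bialg_of_transpose (f : A →ₐ[R] A') g hfg
  exact ⟨BialgEquiv.ofAlgEquiv f h1 h2⟩

end Core

section Twist

variable {p : ℕ} [Fact p.Prime] {R : Type u} [CommRing R]
  (u : R) (hu : u * ((p - 1 : ℕ) : R) = 1) (χ : (ZMod p)ˣ →* Rˣ)
  (hχ : ∀ m : (ZMod p)ˣ, m ≠ 1 → IsUnit ((χ m : R) - 1))
  (hχp : ∀ m : (ZMod p)ˣ, ((χ m : Rˣ) : R) - (((m : ZMod p).val : ℕ) : R) ∈
    Ideal.span ({(p : R)} : Set R))
  {A : Type u} [CommRing A] [HopfAlgebra R A] [Coalgebra.IsCocomm R A] [Module.Finite R A]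
  [Module.Projective R A] (hrk : ∀ q : PrimeSpectrum R, Module.rankAtStalk A q = p)
  {A' : Type u} [CommRing A'] [HopfAlgebra R A'] [Coalgebra.IsCocomm R A'] [Module.Finite R A']
  [Module.Projective R A'] (hrk' : ∀ q : PrimeSpectrum R, Module.rankAtStalk A' q = p)
  (x : A) (hx : Submodule.span R {x} = OortTate.eigenAug R A p χ 1)
  (ξ : CartDual.D R A) (hξ : Submodule.span R {ξ} = OortTate.eigenAug R (CartDual.D R A) p χ 1)
  (hxξ : ξ.ofConv x = 1)
  (x' : A') (hx' : Submodule.span R {x'} = OortTate.eigenAug R A' p χ 1)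
  (ξ' : CartDual.D R A')
  (hξ' : Submodule.span R {ξ'} = OortTate.eigenAug R (CartDual.D R A') p χ 1)
  (hxξ' : ξ'.ofConv x' = 1)
  (α β α' β' : R) (hα : x ^ p = α • x) (hβ : ξ ^ p = β • ξ) (hα' : x' ^ p = α' • x')
  (hβ' : ξ' ^ p = β' • ξ')
  (v : Rˣ) (hαv : α' = ((v ^ (p - 1) : Rˣ) : R) * α) (hβv : β' = ((v⁻¹ ^ (p - 1) : Rˣ) : R) * β)

theorem units_aux (w : Rˣ) (n : ℕ) :
    ((w⁻¹ : Rˣ) : R) ^ (n + 1) * ((w ^ n : Rˣ) : R) = ((w⁻¹ : Rˣ) : R) := by
  rw [← Units.val_pow_eq_pow_val, ← Units.val_mul]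
  congr 1
  rw [pow_succ, mul_comm, ← mul_assoc, ← mul_pow, mul_inv_cancel, one_pow, one_mul]

include hu hχ hχp hrk hrk' hx hξ hxξ hx' hξ' hxξ' hα hβ hα' hβ' hαv hβv in
/-- **Oort–Tate**: the parameters determine the group scheme (free `I_1`). -/
theorem nonempty_bialgEquiv : Nonempty (A ≃ₐc[R] A') := by
  have hp1 : p - 1 + 1 = p := by
    have := (Fact.out : p.Prime).two_le
    omega
  have hy' : Submodule.span R {((v⁻¹ : Rˣ) : R) • x'} = OortTate.eigenAug R A' p χ 1 := by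
    rw [← hx']
    exact Submodule.span_singleton_smul_eq (Units.isUnit _) x'
  have hη' : Submodule.span R {((v : Rˣ) : R) • ξ'} =
      OortTate.eigenAug R (CartDual.D R A') p χ 1 := by
    rw [← hξ']
    exact Submodule.span_singleton_smul_eq (Units.isUnit _) ξ'
  have hpair : (((v : Rˣ) : R) • ξ').ofConv (((v⁻¹ : Rˣ) : R) • x') = 1 := by
    rw [WithConv.ofConv_smul, LinearMap.smul_apply, map_smul, hxξ', smul_eq_mul, smul_eq_mul,
      mul_one, Units.mul_inv]
  have hαy : (((v⁻¹ : Rˣ) : R) • x') ^ p = α • (((v⁻¹ : Rˣ) : R) • x') := by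
    rw [_root_.smul_pow, hα', hαv, smul_smul, smul_smul]
    congr 1
    have h := units_aux v (p - 1)
    rw [hp1] at h
    rw [← mul_assoc, h, mul_comm]
  have hβη : (((v : Rˣ) : R) • ξ') ^ p = β • (((v : Rˣ) : R) • ξ') := by
    rw [_root_.smul_pow, hβ', hβv, smul_smul, smul_smul]
    congr 1
    have h := units_aux v⁻¹ (p - 1)
    rw [hp1, inv_inv] at h
    rw [← mul_assoc, h, mul_comm]
  exact nonempty_bialgEquiv_of_same u hu χ hχ hχp hrk hrk' x hx ξ hξ hxξ _ hy' _ hη' hpair α β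
    hα hβ hαy hβη

end Twist

end Groth.Agent.Lib.OortTateIso55
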