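import Groth.Agent.Lib.OortTateGlobal41
import Groth.Agent.Lib.RankOne41
import Mathlib.LinearAlgebra.TensorAlgebra.Grading

/-!
# The tensor algebra presentation of an Oort–Tate Hopf algebra (helper41)

`phi χ : TensorAlgebra R I_1 → A` is surjective with kernel the (left) ideal generated by
`ι x_1 ⋯ ι x_p - ι (x_1 ⋯ x_p)`.
-/

set_option autoImplicit false
set_option linter.unusedSectionVars false
universe u v

open TensorProduct WithConv

namespace Groth.Agent.Lib.OortTateTensor41

open Groth.Agent.Lib.OortTate55 Groth.Agent.Lib.OortTateField41 Groth.Agent.Lib.OortTateGlobal41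

section Mul

variable {R : Type u} [CommRing R] {A : Type u} [CommRing A] [HopfAlgebra R A] {p : ℕ}
  [Fact p.Prime] (χ : (ZMod p)ˣ →* Rˣ)

/-- Multiplication `I_i ⊗ I_j → I_{i+j}`. -/
noncomputable def mulEig (i j : ℕ) :
    OortTate.eigenAug R A p χ i ⊗[R] OortTate.eigenAug R A p χ j →ₗ[R]
      OortTate.eigenAug R A p χ (i + j) :=
  TensorProduct.lift (LinearMap.mk₂ R
    (fun a b => (⟨(a : A) * (b : A), mul_mem_eigenAug χ a.2 b.2⟩ :
      OortTate.eigenAug R A p χ (i + j)))
    (fun a a' b => Subtype.ext (by simp [add_mul]))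
    (fun c a b => Subtype.ext (by simp))
    (fun a b b' => Subtype.ext (by simp [mul_add]))
    (fun c a b => Subtype.ext (by simp)))

@[simp] theorem mulEig_tmul (i j : ℕ) (a : OortTate.eigenAug R A p χ i)
    (b : OortTate.eigenAug R A p χ j) :
    ((mulEig χ i j (a ⊗ₜ[R] b) : OortTate.eigenAug R A p χ (i + j)) : A) = (a : A) * (b : A) := rfl

end Mul

section Inj

variable {R : Type u} [CommRing R] {A : Type u} [CommRing A] [HopfAlgebra R A]
  [Module.Finite R A] [Module.Projective R A] {p : ℕ} [Fact p.Prime]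
  (u : R) (hu : u * ((p - 1 : ℕ) : R) = 1) (χ : (ZMod p)ˣ →* Rˣ)
  (hχ : ∀ m : (ZMod p)ˣ, m ≠ 1 → IsUnit ((χ m : R) - 1))
  (hχp : ∀ m : (ZMod p)ˣ, ((χ m : Rˣ) : R) - (((m : ZMod p).val : ℕ) : R) ∈
    Ideal.span ({(p : R)} : Set R))
  (hrk : ∀ q : PrimeSpectrum R, Module.rankAtStalk A q = p)
  (hp : (toConv (AlgHom.id R A)) ^ p = 1)

include hu hχ hχp hrk hp in
theorem invertible_eigenAug (i : ℕ) : Module.Invertible R (OortTate.eigenAug R A p χ i) := by
  have hfin := finite_eigenAug u χ hp hu i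
  have hproj := projective_eigenAug u χ hp hu i
  exact RankOne41.invertible_of_rankAtStalk_eq_one
    (fun q => rankAtStalk_eigenAug u hu χ hχ hχp hrk hp i q)

include hu hχ hχp hrk hp in
theorem mulEig_injective (n : ℕ) (hn1 : 1 ≤ n) (hn : n + 1 ≤ p - 1) :
    Function.Injective (mulEig (R := R) (A := A) χ n 1) := by
  have h1 := invertible_eigenAug u hu χ hχ hχp hrk hp n
  have h2 := invertible_eigenAug u hu χ hχ hχp hrk hp 1
  have h3 := invertible_eigenAug u hu χ hχ hχp hrk hp (n + 1)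
  refine (Module.Invertible.bijective_of_surjective ?_).1
  rintro ⟨c, hc⟩
  have hc' : c ∈ (OortTate.eigenAug R A p χ 1) ^ n * OortTate.eigenAug R A p χ 1 := by
    rw [← pow_succ, eigenAug_one_pow u hu χ hχ hχp hrk hp (n + 1) (by omega) hn]
    exact hc
  rw [eigenAug_one_pow u hu χ hχ hχp hrk hp n hn1 (by omega)] at hc'
  have key : ∀ c ∈ OortTate.eigenAug R A p χ n * OortTate.eigenAug R A p χ 1,
      ∃ z, ((mulEig (R := R) (A := A) χ n 1 z : OortTate.eigenAug R A p χ (n + 1)) : A) = c := by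
    intro c hc
    refine Submodule.mul_induction_on hc ?_ ?_
    · intro a ha b hb
      exact ⟨(⟨a, ha⟩ : OortTate.eigenAug R A p χ n) ⊗ₜ[R]
        (⟨b, hb⟩ : OortTate.eigenAug R A p χ 1), rfl⟩
    · rintro x y ⟨z, rfl⟩ ⟨z', rfl⟩
      exact ⟨z + z', by rw [map_add]; rfl⟩
  obtain ⟨z, hz⟩ := key c hc'
  exact ⟨z, Subtype.ext hz⟩

end Inj

section Tensor

variable {R : Type u} [CommRing R] {A : Type u} [CommRing A] [HopfAlgebra R A]
  [Module.Finite R A] [Module.Projective R A] {p : ℕ} [Fact p.Prime]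
  (u : R) (hu : u * ((p - 1 : ℕ) : R) = 1) (χ : (ZMod p)ˣ →* Rˣ)
  (hχ : ∀ m : (ZMod p)ˣ, m ≠ 1 → IsUnit ((χ m : R) - 1))
  (hχp : ∀ m : (ZMod p)ˣ, ((χ m : Rˣ) : R) - (((m : ZMod p).val : ℕ) : R) ∈
    Ideal.span ({(p : R)} : Set R))
  (hrk : ∀ q : PrimeSpectrum R, Module.rankAtStalk A q = p)
  (hp : (toConv (AlgHom.id R A)) ^ p = 1)

/-- The graded pieces of the tensor algebra of `I_1`. -/
noncomputable def Tn (n : ℕ) : Submodule R (TensorAlgebra R (OortTate.eigenAug R A p χ 1)) :=
  (LinearMap.range (TensorAlgebra.ι R : OortTate.eigenAug R A p χ 1 →ₗ[R] _)) ^ n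

/-- The canonical map from the tensor algebra of `I_1` to `A`. -/
noncomputable abbrev phi : TensorAlgebra R (OortTate.eigenAug R A p χ 1) →ₐ[R] A :=
  TensorAlgebra.lift R (OortTate.eigenAug R A p χ 1).subtype

omit [Module.Finite R A] [Module.Projective R A] in
theorem map_Tn (n : ℕ) :
    Submodule.map (phi χ).toLinearMap (Tn χ n) = (OortTate.eigenAug R A p χ 1) ^ n := by
  unfold Tn
  rw [Submodule.map_pow]
  congr 1
  rw [← LinearMap.range_comp]
  have : (phi χ).toLinearMap ∘ₗ (TensorAlgebra.ι R) = (OortTate.eigenAug R A p χ 1).subtype := by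
    apply LinearMap.ext
    intro x
    exact TensorAlgebra.lift_ι_apply _ x
  rw [this, Submodule.range_subtype]

omit [Module.Finite R A] [Module.Projective R A] in
theorem phi_mem_eigenAug (n : ℕ) (hn : 1 ≤ n) {y : TensorAlgebra R (OortTate.eigenAug R A p χ 1)}
    (hy : y ∈ Tn χ n) : phi χ y ∈ OortTate.eigenAug R A p χ n := by
  have h1 : phi χ y ∈ Submodule.map (phi χ).toLinearMap (Tn χ n) := ⟨y, hy, rfl⟩
  rw [map_Tn] at h1
  exact pow_eigenAug_le χ n hn h1

include hu hχ hχp hrk hp in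
/-- `φ` is injective on the graded pieces of degree `1 ≤ n ≤ p - 1`. -/
theorem phi_injOn_Tn (n : ℕ) (hn1 : 1 ≤ n) (hn : n ≤ p - 1) :
    ∀ y ∈ Tn (A := A) χ n, phi (A := A) χ y = 0 → y = 0 := by
  induction n, hn1 using Nat.le_induction with
  | base =>
    intro y hy h0
    unfold Tn at hy
    rw [pow_one] at hy
    obtain ⟨x, rfl⟩ := hy
    rw [TensorAlgebra.lift_ι_apply] at h0
    have hx : x = 0 := Subtype.ext h0
    rw [hx, map_zero]
  | succ n hn1 ih =>
    intro y hy h0
    have ihn := ih (by omega)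
    have hproj := projective_eigenAug (A := A) u χ hp hu 1
    -- the restriction of `φ` to `Tn n`
    let φn : Tn χ n →ₗ[R] OortTate.eigenAug R A p χ n :=
      LinearMap.codRestrict _ ((phi χ).toLinearMap ∘ₗ (Tn χ n).subtype)
        (fun y => phi_mem_eigenAug χ n hn1 y.2)
    have hφn : Function.Injective φn := by
      rw [injective_iff_map_eq_zero]
      intro y hy0
      exact Subtype.ext (ihn y.1 y.2 (congrArg Subtype.val hy0))
    -- multiplication `Tn n ⊗ L → T`
    let m : Tn χ n ⊗[R] OortTate.eigenAug R A p χ 1 →ₗ[R]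
        TensorAlgebra R (OortTate.eigenAug R A p χ 1) :=
      LinearMap.mul' R _ ∘ₗ TensorProduct.map (Tn χ n).subtype (TensorAlgebra.ι R)
    have hm : ∀ z, ((mulEig χ n 1 (φn.rTensor _ z) : OortTate.eigenAug R A p χ (n + 1)) : A) =
        phi χ (m z) := by
      intro z
      induction z using TensorProduct.induction_on with
      | zero => simp
      | add z z' hz hz' =>
        rw [map_add, map_add, map_add, map_add, ← hz, ← hz']
        rfl
      | tmul t x =>
        rw [LinearMap.rTensor_tmul, mulEig_tmul]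
        show phi χ (t : TensorAlgebra R _) * (x : A) = phi χ ((t : TensorAlgebra R _) *
          TensorAlgebra.ι R x)
        rw [map_mul, TensorAlgebra.lift_ι_apply]
        rfl
    -- `y` is in the range of `m`
    have hy' : ∃ z, m z = y := by
      unfold Tn at hy
      rw [pow_succ] at hy
      refine Submodule.mul_induction_on hy ?_ ?_
      · rintro t ht _ ⟨x, rfl⟩
        exact ⟨(⟨t, ht⟩ : Tn χ n) ⊗ₜ[R] x, rfl⟩
      · rintro a b ⟨z, rfl⟩ ⟨z', rfl⟩
        exact ⟨z + z', map_add _ _ _⟩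
    obtain ⟨z, rfl⟩ := hy'
    have h1 : mulEig χ n 1 (φn.rTensor _ z) = 0 := Subtype.ext (by rw [hm, h0]; rfl)
    have h2 := mulEig_injective u hu χ hχ hχp hrk hp n hn1 hn
    have h3 : φn.rTensor _ z = 0 := h2 (by rw [h1, map_zero])
    have h4 : z = 0 :=
      Module.Flat.rTensor_preserves_injective_linearMap φn hφn (by rw [h3, map_zero])
    rw [h4, map_zero]

end Tensor

section Tensor2

variable {R : Type u} [CommRing R] {A : Type u} [CommRing A] [HopfAlgebra R A]
  [Module.Finite R A] [Module.Projective R A] {p : ℕ} [Fact p.Prime]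
  (u : R) (hu : u * ((p - 1 : ℕ) : R) = 1) (χ : (ZMod p)ˣ →* Rˣ)
  (hχ : ∀ m : (ZMod p)ˣ, m ≠ 1 → IsUnit ((χ m : R) - 1))
  (hχp : ∀ m : (ZMod p)ˣ, ((χ m : Rˣ) : R) - (((m : ZMod p).val : ℕ) : R) ∈
    Ideal.span ({(p : R)} : Set R))
  (hrk : ∀ q : PrimeSpectrum R, Module.rankAtStalk A q = p)
  (hp : (toConv (AlgHom.id R A)) ^ p = 1)

/-- The set of relations. -/
def relSet : Set (TensorAlgebra R (OortTate.eigenAug R A p χ 1)) :=
  {x | ∃ (f : Fin p → OortTate.eigenAug R A p χ 1) (g : OortTate.eigenAug R A p χ 1),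
    (g : A) = ∏ i, (f i : A) ∧
    x = (List.ofFn fun i => TensorAlgebra.ι R (f i)).prod - TensorAlgebra.ι R g}

omit [Module.Finite R A] [Module.Projective R A] in
theorem span_relSet_le_ker :
    Ideal.span (relSet (A := A) χ) ≤ RingHom.ker (phi (A := A) χ) := by
  rw [Ideal.span_le]
  rintro x ⟨f, g, hg, rfl⟩
  rw [SetLike.mem_coe, RingHom.mem_ker, map_sub, map_list_prod, List.map_ofFn,
    TensorAlgebra.lift_ι_apply, List.prod_ofFn]
  simp only [Function.comp, TensorAlgebra.lift_ι_apply, Submodule.subtype_apply]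
  rw [hg]
  exact sub_self _

omit [Module.Finite R A] [Module.Projective R A] in
theorem iSup_Tn : (⨆ n, Tn (A := A) χ n) = ⊤ :=
  (DirectSum.Decomposition.isInternal (fun n : ℕ =>
    (LinearMap.range (TensorAlgebra.ι R : OortTate.eigenAug R A p χ 1 →ₗ[R] _)) ^ n)).submodule_iSup_eq_top

/-- index shift: `0 ↦ p - 1`. -/
def sig (p : ℕ) (i : Fin (p - 1)) : ℕ := if (i : ℕ) = 0 then p - 1 else i

theorem sig_pos (i : Fin (p - 1)) : 1 ≤ sig p i := by
  have := (Fact.out : p.Prime).two_le
  unfold sig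
  split_ifs <;> omega

theorem sig_le (i : Fin (p - 1)) : sig p i ≤ p - 1 := by
  have := i.2
  unfold sig
  split_ifs <;> omega

theorem sig_dvd (i : Fin (p - 1)) : ((p - 1 : ℕ) : ℤ) ∣ ((sig p i : ℕ) : ℤ) - ((i : ℕ) : ℤ) := by
  unfold sig
  split_ifs with h
  · rw [h]; simp
  · simp

/-- The low-degree part of the tensor algebra. -/
noncomputable def Wp : Submodule R (TensorAlgebra R (OortTate.eigenAug R A p χ 1)) :=
  Tn χ 0 ⊔ ⨆ i : Fin (p - 1), Tn χ (sig p i)

omit [Module.Finite R A] [Module.Projective R A] in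
theorem Tn_le_Wp (n : ℕ) (hn : n ≤ p - 1) : Tn (A := A) χ n ≤ Wp χ := by
  have h2 := (Fact.out : p.Prime).two_le
  rcases Nat.eq_zero_or_pos n with h0 | hpos
  · subst h0
    exact le_sup_left
  · refine le_trans ?_ le_sup_right
    rcases Nat.lt_or_ge n (p - 1) with hlt | hge
    · refine le_trans (le_of_eq ?_) (le_iSup _ (⟨n, hlt⟩ : Fin (p - 1)))
      unfold sig
      rw [if_neg (by simp; omega)]
    · refine le_trans (le_of_eq ?_) (le_iSup _ (⟨0, by omega⟩ : Fin (p - 1)))
      unfold sig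
      rw [if_pos rfl]
      congr 1
      omega

omit [Module.Finite R A] [Module.Projective R A] in
theorem prod_mem_eigenAug (f : Fin p → OortTate.eigenAug R A p χ 1) :
    ∏ i, (f i : A) ∈ OortTate.eigenAug R A p χ 1 := by
  have h2 := (Fact.out : p.Prime).two_le
  have key : ∀ s : Finset (Fin p), s.Nonempty →
      ∏ i ∈ s, (f i : A) ∈ OortTate.eigenAug R A p χ s.card := by
    intro s hs
    induction hs using Finset.Nonempty.cons_induction with
    | singleton a => simp
    | cons a s ha hs ih =>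
      rw [Finset.prod_cons, Finset.card_cons, add_comm]
      exact mul_mem_eigenAug χ (f a).2 ih
  have h := key Finset.univ ⟨⟨0, by omega⟩, Finset.mem_univ _⟩
  rw [Finset.card_univ, Fintype.card_fin] at h
  rwa [eigenAug_congr χ (i := p) (j := 1) (by
    have : ((p : ℕ) : ℤ) - ((1 : ℕ) : ℤ) = ((p - 1 : ℕ) : ℤ) := by
      push_cast [Nat.cast_sub (by omega : 1 ≤ p)]; ring
    rw [this])] at h

omit [Module.Finite R A] [Module.Projective R A] in
theorem Tn_le (n : ℕ) :
    Tn (A := A) χ n ≤ Wp χ ⊔ (Ideal.span (relSet (A := A) χ)).restrictScalars R := by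
  have h2 := (Fact.out : p.Prime).two_le
  induction n using Nat.strong_induction_on with
  | _ n ih =>
    rcases Nat.lt_or_ge n p with hlt | hge
    · exact le_trans (Tn_le_Wp χ n (by omega)) le_sup_left
    · have hn : n = (n - p) + p := by omega
      have hT : Tn (A := A) χ n = Tn χ (n - p) * Tn χ p := by
        unfold Tn
        rw [← pow_add, ← hn]
      rw [hT, Submodule.mul_le]
      intro t ht w hw
      unfold Tn at hw
      rw [Submodule.pow_eq_span_pow_set] at hw
      induction hw using Submodule.span_induction with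
      | mem w hw =>
        rw [Set.mem_pow] at hw
        obtain ⟨f, rfl⟩ := hw
        have hf : ∀ i, ∃ y : OortTate.eigenAug R A p χ 1, TensorAlgebra.ι R y = (f i : _) :=
          fun i => (f i).2
        choose f' hf' using hf
        let g : OortTate.eigenAug R A p χ 1 := ⟨∏ i, (f' i : A), prod_mem_eigenAug χ f'⟩
        have hw : (List.ofFn fun i => ((f i : _) : TensorAlgebra R (OortTate.eigenAug R A p χ 1))).prod =
            (List.ofFn fun i => TensorAlgebra.ι R (f' i)).prod := by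
          simp only [hf']
        rw [hw]
        have hrel : (List.ofFn fun i => TensorAlgebra.ι R (f' i)).prod - TensorAlgebra.ι R g ∈
            relSet (A := A) χ := ⟨f', g, rfl, rfl⟩
        have e : t * (List.ofFn fun i => TensorAlgebra.ι R (f' i)).prod =
            t * TensorAlgebra.ι R g +
            t * ((List.ofFn fun i => TensorAlgebra.ι R (f' i)).prod - TensorAlgebra.ι R g) := by
          rw [mul_sub]; abel
        rw [e]
        refine Submodule.add_mem _ ?_ ?_
        · refine ih (n - p + 1) (by omega) ?_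
          unfold Tn
          rw [pow_succ]
          exact Submodule.mul_mem_mul ht ⟨g, rfl⟩
        · refine Submodule.mem_sup_right ?_
          rw [Submodule.restrictScalars_mem]
          exact Ideal.mul_mem_left _ _ (Ideal.subset_span hrel)
      | zero => rw [mul_zero]; exact Submodule.zero_mem _
      | add a b _ _ ha hb => rw [mul_add]; exact Submodule.add_mem _ ha hb
      | smul r a _ ha => rw [mul_smul_comm]; exact Submodule.smul_mem _ _ ha

include hu hχ hχp hrk hp in
theorem phi_injOn_Wp : ∀ w ∈ Wp (A := A) χ, phi (A := A) χ w = 0 → w = 0 := by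
  intro w hw h0
  unfold Wp at hw
  obtain ⟨w0, hw0, w', hw', rfl⟩ := Submodule.mem_sup.1 hw
  obtain ⟨μ, hμ, rfl⟩ := (Submodule.mem_iSup_iff_exists_finsupp _ _).1 hw'
  unfold Tn at hw0
  rw [pow_zero, Submodule.mem_one] at hw0
  obtain ⟨r, rfl⟩ := hw0
  have hφμ : ∀ i : Fin (p - 1), phi (A := A) χ (μ i) ∈ OortTate.eigenAug R A p χ (i : ℕ) := by
    intro i
    rw [← eigenAug_congr χ (sig_dvd i)]
    exact phi_mem_eigenAug χ _ (sig_pos i) (hμ i)
  rw [Finsupp.sum_fintype _ _ (fun _ => rfl)] at h0 ⊢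
  rw [map_add, map_sum, AlgHom.commutes] at h0
  -- the scalar part vanishes
  have hr : r = 0 := by
    have h1 := congrArg (CoalgebraStruct.counit (R := R) (A := A)) h0
    rw [map_add, map_sum, map_zero] at h1
    have h2 : ∀ i ∈ (Finset.univ : Finset (Fin (p - 1))),
        CoalgebraStruct.counit (R := R) (phi (A := A) χ (μ i)) = 0 :=
      fun i _ => ((mem_eigenAug_iff χ _ _).1 (hφμ i)).1
    rw [Finset.sum_eq_zero h2, add_zero, Bialgebra.counit_algebraMap] at h1
    exact h1
  rw [hr, map_zero, zero_add] at h0 ⊢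
  refine Finset.sum_eq_zero fun j _ => ?_
  have h3 := congrArg (ez u χ ((j : ℕ) : ℤ)) h0
  rw [map_sum, map_zero, Finset.sum_eq_single j] at h3
  · rw [ez_eq_self u χ hu ((j : ℕ) : ℤ) ((j : ℕ) : ℤ) (by simp) _
      ((mem_eigenAug_iff χ _ _).1 (hφμ j)).2] at h3
    exact phi_injOn_Tn u hu χ hχ hχp hrk hp _ (sig_pos j) (sig_le j) _ (hμ j) h3
  · intro i _ hij
    refine ez_eq_zero u χ hχ ((i : ℕ) : ℤ) ((j : ℕ) : ℤ) ?_ _ ((mem_eigenAug_iff χ _ _).1 (hφμ i)).2
    intro hdvd
    apply hij
    have hi := i.2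
    have hj := j.2
    obtain ⟨c, hc⟩ := hdvd
    have h2 := (Fact.out : p.Prime).two_le
    apply Fin.ext
    have hc' : ((i : ℕ) : ℤ) - ((j : ℕ) : ℤ) = ((p : ℤ) - 1) * c := by
      rw [hc]; push_cast [Nat.cast_sub (by omega : 1 ≤ p)]; ring
    have hc0 : c = 0 := by
      by_contra hne
      rcases lt_or_gt_of_ne hne with hlt | hgt
      · have : c ≤ -1 := by omega
        nlinarith
      · have : 1 ≤ c := by omega
        nlinarith
    rw [hc0, mul_zero] at hc'
    omega
  · intro h; exact absurd (Finset.mem_univ j) h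

end Tensor2

section Tensor3

variable {R : Type u} [CommRing R] {A : Type u} [CommRing A] [HopfAlgebra R A]
  [Module.Finite R A] [Module.Projective R A] {p : ℕ} [Fact p.Prime]
  (u : R) (hu : u * ((p - 1 : ℕ) : R) = 1) (χ : (ZMod p)ˣ →* Rˣ)
  (hχ : ∀ m : (ZMod p)ˣ, m ≠ 1 → IsUnit ((χ m : R) - 1))
  (hχp : ∀ m : (ZMod p)ˣ, ((χ m : Rˣ) : R) - (((m : ZMod p).val : ℕ) : R) ∈
    Ideal.span ({(p : R)} : Set R))
  (hrk : ∀ q : PrimeSpectrum R, Module.rankAtStalk A q = p)
  (hp : (toConv (AlgHom.id R A)) ^ p = 1)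

include hu hχ hχp hrk hp in
theorem phi_surjective : Function.Surjective (phi (A := A) χ) := by
  have hrange : ∀ i : Fin (p - 1), OortTate.eigenAug R A p χ (i : ℕ) ≤
      LinearMap.range (phi (A := A) χ).toLinearMap := by
    intro i
    rw [← eigenAug_congr χ (sig_dvd i),
      ← eigenAug_one_pow u hu χ hχ hχp hrk hp (sig p i) (sig_pos i) (sig_le i), ← map_Tn]
    exact LinearMap.map_le_range
  intro a
  have ha : a - algebraMap R A (CoalgebraStruct.counit (R := R) a) ∈
      LinearMap.ker (Bialgebra.counitAlgHom R A).toLinearMap := by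
    rw [mem_augKer_iff, map_sub, Bialgebra.counit_algebraMap, sub_self]
  rw [← iSup_eigenAug u χ hp hu hχ] at ha
  have h1 : a - algebraMap R A (CoalgebraStruct.counit (R := R) a) ∈
      LinearMap.range (phi (A := A) χ).toLinearMap := (iSup_le hrange) ha
  obtain ⟨y, hy⟩ := h1
  refine ⟨y + algebraMap R _ (CoalgebraStruct.counit (R := R) a), ?_⟩
  rw [map_add, AlgHom.commutes]
  have : phi (A := A) χ y = a - algebraMap R A (CoalgebraStruct.counit (R := R) a) := hy
  rw [this]
  ring

include hu hχ hχp hrk hp in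
theorem ker_phi : RingHom.ker (phi (A := A) χ) = Ideal.span (relSet (A := A) χ) := by
  apply le_antisymm
  · intro x hx
    rw [RingHom.mem_ker] at hx
    have hx1 : x ∈ (⨆ n, Tn (A := A) χ n) := by rw [iSup_Tn]; exact Submodule.mem_top
    have hx2 := (iSup_le (Tn_le (A := A) χ)) hx1
    obtain ⟨w, hw, j, hj, rfl⟩ := Submodule.mem_sup.1 hx2
    rw [Submodule.restrictScalars_mem] at hj
    have hj0 : phi (A := A) χ j = 0 := (RingHom.mem_ker).1 (span_relSet_le_ker χ hj)
    rw [map_add, hj0, add_zero] at hx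
    rw [phi_injOn_Wp u hu χ hχ hχp hrk hp w hw hx, zero_add]
    exact hj
  · exact span_relSet_le_ker χ

end Tensor3

end Groth.Agent.Lib.OortTateTensor41
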