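import Mathlib
import Groth.Prelude.Def_W4c5ffgsreadingcourseOT
import Groth.Agent.Lib.OortTateTensor41

/-!
# Algebra maps out of an Oort–Tate Hopf algebra from linear maps on `I_1` (helper55)

Using the presentation `T(I_1)/(relations) ≅ H` (helper41's `ker_phi`), a linear map
`τ : I_1(H) → I_1(H')` compatible with `p`-fold products extends to an algebra map `H → H'`.
-/

set_option autoImplicit false
universe u

open WithConv
open scoped TensorProduct

namespace Groth.Agent.Lib.OortTateLift55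

open Groth.Agent.Lib.OortTate55 Groth.Agent.Lib.OortTateGlobal41 Groth.Agent.Lib.OortTateField41
open Groth.Agent.Lib.OortTateTensor41

section Lift

variable {p : ℕ} [Fact p.Prime] {R : Type u} [CommRing R]
  (u : R) (hu : u * ((p - 1 : ℕ) : R) = 1) (χ : (ZMod p)ˣ →* Rˣ)
  (hχ : ∀ m : (ZMod p)ˣ, m ≠ 1 → IsUnit ((χ m : R) - 1))
  (hχp : ∀ m : (ZMod p)ˣ, ((χ m : Rˣ) : R) - (((m : ZMod p).val : ℕ) : R) ∈
    Ideal.span ({(p : R)} : Set R))
  {H : Type u} [CommRing H] [HopfAlgebra R H] [Module.Finite R H] [Module.Projective R H]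
  (hrk : ∀ q : PrimeSpectrum R, Module.rankAtStalk H q = p)
  (hp : (toConv (AlgHom.id R H)) ^ p = 1)
  {K : Type u} [CommRing K] [Algebra R K]

/-- the map from the tensor algebra induced by a linear map `I_1 → K` -/
noncomputable def tlift (τ : OortTate.eigenAug R H p χ 1 →ₗ[R] K) :
    TensorAlgebra R (OortTate.eigenAug R H p χ 1) →ₐ[R] K :=
  TensorAlgebra.lift R τ

omit [Module.Finite R H] [Module.Projective R H] in
theorem span_relSet_le_ker_tlift (τ : OortTate.eigenAug R H p χ 1 →ₗ[R] K)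
    (hτ : ∀ (f : Fin p → OortTate.eigenAug R H p χ 1) (g : OortTate.eigenAug R H p χ 1),
      (g : H) = ∏ i, (f i : H) → τ g = ∏ i, τ (f i)) :
    Ideal.span (relSet (A := H) χ) ≤ RingHom.ker (tlift χ τ) := by
  rw [Ideal.span_le]
  rintro x ⟨f, g, hg, rfl⟩
  rw [SetLike.mem_coe, RingHom.mem_ker, map_sub, map_list_prod, List.map_ofFn, List.prod_ofFn]
  simp only [Function.comp, tlift, TensorAlgebra.lift_ι_apply]
  rw [hτ f g hg]
  exact sub_self _

/-- The algebra map `H → K` induced by a linear map `τ : I_1(H) → K` compatible with `p`-fold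
products. -/
noncomputable def liftHom (τ : OortTate.eigenAug R H p χ 1 →ₗ[R] K)
    (hτ : ∀ (f : Fin p → OortTate.eigenAug R H p χ 1) (g : OortTate.eigenAug R H p χ 1),
      (g : H) = ∏ i, (f i : H) → τ g = ∏ i, τ (f i)) : H →ₐ[R] K :=
  (Ideal.Quotient.liftₐ (RingHom.ker (phi (A := H) χ)) (tlift χ τ) (fun a ha => by
    rw [ker_phi u hu χ hχ hχp hrk hp] at ha
    exact (RingHom.mem_ker).1 (span_relSet_le_ker_tlift χ τ hτ ha))).comp
  (Ideal.quotientKerAlgEquivOfSurjective (phi_surjective u hu χ hχ hχp hrk hp)).symm.toAlgHom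

theorem liftHom_phi (τ : OortTate.eigenAug R H p χ 1 →ₗ[R] K)
    (hτ : ∀ (f : Fin p → OortTate.eigenAug R H p χ 1) (g : OortTate.eigenAug R H p χ 1),
      (g : H) = ∏ i, (f i : H) → τ g = ∏ i, τ (f i))
    (y : TensorAlgebra R (OortTate.eigenAug R H p χ 1)) :
    liftHom u hu χ hχ hχp hrk hp τ hτ (phi (A := H) χ y) = tlift χ τ y := by
  unfold liftHom
  rw [AlgHom.comp_apply]
  show (Ideal.Quotient.liftₐ _ _ _)
    ((Ideal.quotientKerAlgEquivOfSurjective (phi_surjective u hu χ hχ hχp hrk hp)).symm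
      (phi (A := H) χ y)) = _
  rw [Ideal.quotientKerAlgEquivOfSurjective_symm_apply]
  rfl

theorem liftHom_apply (τ : OortTate.eigenAug R H p χ 1 →ₗ[R] K)
    (hτ : ∀ (f : Fin p → OortTate.eigenAug R H p χ 1) (g : OortTate.eigenAug R H p χ 1),
      (g : H) = ∏ i, (f i : H) → τ g = ∏ i, τ (f i))
    (x : OortTate.eigenAug R H p χ 1) :
    liftHom u hu χ hχ hχp hrk hp τ hτ (x : H) = τ x := by
  have h1 : (x : H) = phi (A := H) χ (TensorAlgebra.ι R x) := by
    rw [TensorAlgebra.lift_ι_apply]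
    rfl
  rw [h1, liftHom_phi]
  exact TensorAlgebra.lift_ι_apply _ x

include hu hχ hχp hrk hp in
/-- Algebra maps out of `H` are determined by their restriction to `I_1`. -/
theorem algHom_ext_eigenAug {K' : Type*} [Semiring K'] [Algebra R K'] (F G : H →ₐ[R] K')
    (h : ∀ x : OortTate.eigenAug R H p χ 1, F (x : H) = G (x : H)) : F = G := by
  have h1 : F.comp (phi (A := H) χ) = G.comp (phi (A := H) χ) := by
    apply TensorAlgebra.hom_ext
    apply LinearMap.ext
    intro x
    simp only [LinearMap.comp_apply, AlgHom.toLinearMap_apply, AlgHom.comp_apply,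
      TensorAlgebra.lift_ι_apply]
    exact h x
  apply AlgHom.ext
  intro a
  obtain ⟨y, rfl⟩ := phi_surjective u hu χ hχ hχp hrk hp a
  exact AlgHom.congr_fun h1 y

end Lift

end Groth.Agent.Lib.OortTateLift55
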