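import Mathlib
import Groth.Prelude.Def_W4c5ffgsreadingcourseOT
import Groth.Prelude.Def_CartDual
import Groth.Agent.Lib.OortTatePair55b

/-!
# Pairing of products of elements of `I_1(A)` and `I_1(A^D)` (helper55)

* `pairing_prod`: `⟨ψ_1 ⋯ ψ_n, x_1 ⋯ x_n⟩ = w_n ∏ ⟨ψ_i, x_i⟩` for `1 ≤ n ≤ p - 1`;
* `pairing_eq_zero`: `⟨Ψ, X⟩ = 0` for `Ψ ∈ I_s(D)`, `X ∈ I_t(A)`, `s ≢ t`;
* `linearMap_ext_prod`: linear maps on `A` are determined by their values on `1` and on products of
  at most `p - 1` elements of `I_1`.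
-/

set_option autoImplicit false
universe u

open WithConv
open scoped TensorProduct

namespace Groth.Agent.Lib.OortTatePair55

open Groth.Agent.Lib.OortTate55 Groth.Agent.Lib.OortTateGlobal41 Groth.Agent.Lib.OortTateField41
open Groth.Agent.Lib.OortTateBasis55

section SpanProd

variable {R : Type*} [CommRing R] {A : Type*} [CommRing A] [Algebra R A]

theorem pow_le_span_prod (M : Submodule R A) (n : ℕ) :
    M ^ n ≤ Submodule.span R {a : A | ∃ y : Fin n → M, a = ∏ i, (y i : A)} := by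
  induction n with
  | zero =>
    rw [pow_zero, Submodule.one_le]
    exact Submodule.subset_span ⟨fun i => i.elim0, by simp⟩
  | succ n ih =>
    rw [pow_succ', Submodule.mul_le]
    intro m hm x hx
    have aux : ∀ z ∈ Submodule.span R {a : A | ∃ y : Fin n → M, a = ∏ i, (y i : A)},
        m * z ∈ Submodule.span R {a : A | ∃ y : Fin (n + 1) → M, a = ∏ i, (y i : A)} := by
      intro z hz
      induction hz using Submodule.span_induction with
      | mem z hz =>
        obtain ⟨y, rfl⟩ := hz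
        refine Submodule.subset_span ⟨Fin.cons ⟨m, hm⟩ y, ?_⟩
        rw [Fin.prod_univ_succ]
        simp
      | zero => rw [mul_zero]; exact Submodule.zero_mem _
      | add z w _ _ hz hw => rw [mul_add]; exact Submodule.add_mem _ hz hw
      | smul r z _ hz => rw [mul_smul_comm]; exact Submodule.smul_mem _ r hz
    exact aux x (ih hx)

theorem prod_tmul_prod {B : Type*} [CommRing B] [Algebra R B] {ι : Type*} (s : Finset ι)
    (a : ι → A) (b : ι → B) :
    ∏ i ∈ s, (a i ⊗ₜ[R] b i) = (∏ i ∈ s, a i) ⊗ₜ[R] (∏ i ∈ s, b i) := by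
  classical
  induction s using Finset.induction_on with
  | empty => simp [Algebra.TensorProduct.one_def]
  | insert i s hi ih =>
    rw [Finset.prod_insert hi, Finset.prod_insert hi, Finset.prod_insert hi, ih,
      Algebra.TensorProduct.tmul_mul_tmul]

end SpanProd

section PairProd

variable {p : ℕ} [Fact p.Prime] {R : Type u} [CommRing R] {A : Type u} [CommRing A]
  [HopfAlgebra R A] [Coalgebra.IsCocomm R A] [Module.Finite R A] [Module.Projective R A]
  (u : R) (hu : u * ((p - 1 : ℕ) : R) = 1) (χ : (ZMod p)ˣ →* Rˣ)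
  (hχ : ∀ m : (ZMod p)ˣ, m ≠ 1 → IsUnit ((χ m : R) - 1))
  (hχp : ∀ m : (ZMod p)ˣ, ((χ m : Rˣ) : R) - (((m : ZMod p).val : ℕ) : R) ∈
    Ideal.span ({(p : R)} : Set R))
  (hrk : ∀ q : PrimeSpectrum R, Module.rankAtStalk A q = p)
  (hp : (toConv (AlgHom.id R A)) ^ p = 1)

theorem Th_prod {ι : Type*} (s : Finset ι) (t : ι → A ⊗[R] CartDual.D R A) :
    Th R A (∏ i ∈ s, t i) = ∏ i ∈ s, Th R A (t i) := by
  classical
  induction s using Finset.induction_on with
  | empty => simp [Th_one]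
  | insert i s hi ih => rw [Finset.prod_insert hi, Finset.prod_insert hi, Th_mul, ih]

include hu hχ hχp hrk hp in
/-- `ψ(a) x = ψ(x) P_1 a` for `x ∈ I_1(A)`, `ψ ∈ I_1(D)`. -/
theorem Th_tmul_eigen (x : OortTate.eigenAug R A p χ 1)
    (ψ : OortTate.eigenAug R (CartDual.D R A) p χ 1) :
    Th R A ((x : A) ⊗ₜ[R] (ψ : CartDual.D R A)) =
      (ψ : CartDual.D R A).ofConv (x : A) • toConv (retr u χ 1) := by
  have hrk1 := rankAtStalk_eigenAug u hu χ hχ hχp hrk hp 1
  haveI := finite_eigenAug u χ hp hu (A := A) 1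
  haveI := projective_eigenAug u χ hp hu (A := A) 1
  apply WithConv.ofConv_injective
  apply LinearMap.ext
  intro a
  rw [Th_tmul_apply]
  show _ = (ψ : CartDual.D R A).ofConv (x : A) • retr u χ 1 a
  rw [← dual_retr u χ hu 1 _ ψ.2 a]
  let l : OortTate.eigenAug R A p χ 1 →ₗ[R] R :=
    (ψ : CartDual.D R A).ofConv ∘ₗ (OortTate.eigenAug R A p χ 1).subtype
  have h := RankOne41.smul_comm_of_rankAtStalk_eq_one hrk1 l
    ⟨retr u χ 1 a, retr_mem u χ hp hu 1 a⟩ x
  exact congrArg Subtype.val h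

include hu hχ hχp hrk hp in
/-- `Ψ(a) X = w_n ∏ ψ_i(x_i) P_n a` for `X = ∏ x_i`, `Ψ = ∏ ψ_i`. -/
theorem pairing_prod_smul (n : ℕ) (hn1 : 1 ≤ n) (x : Fin n → OortTate.eigenAug R A p χ 1)
    (ψ : Fin n → OortTate.eigenAug R (CartDual.D R A) p χ 1) (a : A) :
    (∏ i, (ψ i : CartDual.D R A)).ofConv a • (∏ i, (x i : A)) =
      (wconst u χ n * ∏ i, (ψ i : CartDual.D R A).ofConv (x i : A)) • retr u χ n a := by
  have h1 : Th R A ((∏ i, (x i : A)) ⊗ₜ[R] (∏ i, (ψ i : CartDual.D R A))) =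
      (wconst u χ n * ∏ i, (ψ i : CartDual.D R A).ofConv (x i : A)) • toConv (retr u χ n) := by
    rw [← prod_tmul_prod, Th_prod]
    simp only [Th_tmul_eigen u hu χ hχ hχp hrk hp]
    have e1 : ∀ (s : Finset (Fin n)),
        ∏ i ∈ s, ((ψ i : CartDual.D R A).ofConv (x i : A) •
          (toConv (retr u χ 1) : WithConv (A →ₗ[R] A))) =
        (∏ i ∈ s, (ψ i : CartDual.D R A).ofConv (x i : A)) •
          (toConv (retr u χ 1) : WithConv (A →ₗ[R] A)) ^ s.card := by
      intro s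
      rw [Finset.prod_smul, Finset.prod_const]
    rw [e1, Finset.card_univ, Fintype.card_fin]
    have e2 : (toConv (retr u χ 1) : WithConv (A →ₗ[R] A)) ^ n =
        wconst u χ n • toConv (retr u χ n) := by
      rw [← Phi_ygen hp u χ 1, ← map_pow, ygen_pow u χ hu n hn1, map_smul, Phi_ygen]
    rw [e2, smul_smul, mul_comm]
  have h2 := congrArg (fun f : WithConv (A →ₗ[R] A) => f.ofConv a) h1
  simp only [Th_tmul_apply] at h2
  exact h2

omit [Coalgebra.IsCocomm R A] [Module.Finite R A] [Module.Projective R A] in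
theorem prod_fin_mem_eigenAug (n : ℕ) (hn1 : 1 ≤ n) (x : Fin n → OortTate.eigenAug R A p χ 1) :
    ∏ i, (x i : A) ∈ OortTate.eigenAug R A p χ n := by
  induction n with
  | zero => omega
  | succ n ih =>
    rw [Fin.prod_univ_succ]
    rcases Nat.eq_zero_or_pos n with h0 | hpos
    · subst h0
      simp
    · have h := mul_mem_eigenAug χ (x 0).2 (ih hpos (fun i => x i.succ))
      rwa [add_comm] at h

include hu hχ hχp hrk hp in
/-- `⟨ψ_1 ⋯ ψ_n, x_1 ⋯ x_n⟩ = w_n ∏ ⟨ψ_i, x_i⟩`. -/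
theorem pairing_prod (n : ℕ) (hn1 : 1 ≤ n)
    (x : Fin n → OortTate.eigenAug R A p χ 1)
    (ψ : Fin n → OortTate.eigenAug R (CartDual.D R A) p χ 1) :
    (∏ i, (ψ i : CartDual.D R A)).ofConv (∏ i, (x i : A)) =
      wconst u χ n * ∏ i, (ψ i : CartDual.D R A).ofConv (x i : A) := by
  have hrkn := rankAtStalk_eigenAug u hu χ hχ hχp hrk hp n
  haveI := finite_eigenAug u χ hp hu (A := A) n
  haveI := projective_eigenAug u χ hp hu (A := A) n
  have hX := prod_fin_mem_eigenAug χ n hn1 x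
  set X : A := ∏ i, (x i : A) with hXdef
  set Ψ : CartDual.D R A := ∏ i, (ψ i : CartDual.D R A) with hΨdef
  set c : R := wconst u χ n * ∏ i, (ψ i : CartDual.D R A).ofConv (x i : A) with hc
  let l : OortTate.eigenAug R A p χ n →ₗ[R] R :=
    Ψ.ofConv ∘ₗ (OortTate.eigenAug R A p χ n).subtype
  have h0 := RankOne41.eq_zero_of_smul_eq_zero_of_rankAtStalk_eq_one hrkn (Ψ.ofConv X - c)
    (fun Y => by
      have h1 := pairing_prod_smul u hu χ hχ hχp hrk hp n hn1 x ψ (Y : A)
      rw [retr_of_mem u χ hu n Y.2] at h1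
      have h2 := RankOne41.smul_comm_of_rankAtStalk_eq_one hrkn l Y ⟨X, hX⟩
      have h3 : Ψ.ofConv (Y : A) • X = Ψ.ofConv X • (Y : A) := congrArg Subtype.val h2
      apply Subtype.ext
      show (Ψ.ofConv X - c) • (Y : A) = 0
      rw [sub_smul, ← h3, h1, sub_self])
  exact sub_eq_zero.1 h0

include hu hχ in
/-- `⟨Ψ, X⟩ = 0` for `Ψ ∈ I_s(D)`, `X ∈ I_t(A)` with `s ≢ t` mod `p - 1`. -/
theorem pairing_eq_zero (s t : ℕ) (Ψ : CartDual.D R A)
    (hΨ : Ψ ∈ OortTate.eigenAug R (CartDual.D R A) p χ s) (X : A)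
    (hX : X ∈ OortTate.eigenAug R A p χ t)
    (hst : ¬ ((p - 1 : ℕ) : ℤ) ∣ (t : ℤ) - (s : ℤ)) : Ψ.ofConv X = 0 := by
  rw [← dual_retr u χ hu s Ψ hΨ X]
  have hmem := (mem_eigenAug_iff χ t X).1 hX
  rw [retr_apply, hmem.1, map_zero, sub_zero, ez_eq_zero u χ hχ (t : ℤ) (s : ℤ) hst X hmem.2,
    map_zero]

include hu hχ hχp hrk hp in
/-- Linear maps on `A` are determined by their values on `1` and on products of at most `p - 1`
elements of `I_1`. -/
theorem linearMap_ext_prod {N : Type*} [AddCommGroup N] [Module R N] (L1 L2 : A →ₗ[R] N)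
    (h1 : L1 1 = L2 1)
    (hprod : ∀ n : ℕ, 1 ≤ n → n ≤ p - 1 → ∀ x : Fin n → OortTate.eigenAug R A p χ 1,
      L1 (∏ i, (x i : A)) = L2 (∏ i, (x i : A))) : L1 = L2 := by
  apply LinearMap.ext
  intro a
  have ha : a = algebraMap R A (CoalgebraStruct.counit (R := R) a) +
      ∑ k : Fin (p - 1), retr u χ (k : ℕ) a := by
    simp only [retr_apply]
    rw [sum_ez u χ hu hχ]
    ring
  rw [ha, map_add, map_add, map_sum, map_sum, Algebra.algebraMap_eq_smul_one, map_smul, map_smul,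
    h1]
  congr 1
  refine Finset.sum_congr rfl fun k _ => ?_
  have h2 : retr u χ (k : ℕ) a ∈ OortTate.eigenAug R A p χ (trep p (k : ℕ)) := by
    rw [eigenAug_congr χ (trep_dvd (p := p) (k : ℕ))]
    exact retr_mem u χ hp hu _ a
  rw [← eigenAug_one_pow u hu χ hχ hχp hrk hp _ (one_le_trep _) (trep_le _)] at h2
  have h3 := pow_le_span_prod _ _ h2
  have h4 : Set.EqOn L1 L2 {a : A | ∃ y : Fin (trep p (k : ℕ)) → OortTate.eigenAug R A p χ 1,
      a = ∏ i, (y i : A)} := by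
    rintro _ ⟨y, rfl⟩
    exact hprod _ (one_le_trep _) (trep_le _) y
  exact LinearMap.eqOn_span h4 h3

end PairProd

end Groth.Agent.Lib.OortTatePair55
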