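import Mathlib
import Groth.Prelude.Def_W4c5ffgsreadingcourseOT
import Groth.Prelude.Def_CartDual
import Groth.Agent.Lib.OortTatePair55c
import Groth.Agent.Lib.OortTateIso55
import Groth.Agent.Lib.OortTateLift55

/-!
# Oort–Tate: the triple `(I_1, a, b)` determines the group scheme (helper55)
-/

set_option autoImplicit false
universe u

open WithConv
open scoped TensorProduct

namespace Groth.Agent.Lib.OortTateIso55

open Groth.Agent.Lib.OortTate55 Groth.Agent.Lib.OortTateGlobal41 Groth.Agent.Lib.OortTateField41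
open Groth.Agent.Lib.OortTateBasis55 Groth.Agent.Lib.OortTatePair55 Groth.Agent.Lib.OortTateLift55
open Groth.Agent.Lib.OortTateTensor41

section ThetaT

variable {p : ℕ} [Fact p.Prime] {R : Type u} [CommRing R]
  (u : R) (hu : u * ((p - 1 : ℕ) : R) = 1) (χ : (ZMod p)ˣ →* Rˣ)
  {A : Type u} [CommRing A] [HopfAlgebra R A] [Coalgebra.IsCocomm R A] [Module.Finite R A]
  [Module.Projective R A] (hp : (toConv (AlgHom.id R A)) ^ p = 1)
  {A' : Type u} [CommRing A'] [HopfAlgebra R A'] [Coalgebra.IsCocomm R A'] [Module.Finite R A']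
  [Module.Projective R A']
  (θ : OortTate.eigenAug R A p χ 1 →ₗ[R] OortTate.eigenAug R A' p χ 1)

/-- `φ' ↦ φ' ∘ θ ∘ P_1` -/
noncomputable def T0 : CartDual.D R A' →ₗ[R] CartDual.D R A :=
  (CartDual.toDual R A).symm.toLinearMap ∘ₗ
    ((OortTate.eigenAug R A' p χ 1).subtype ∘ₗ θ ∘ₗ retr' u χ hp hu 1).dualMap ∘ₗ
    (CartDual.toDual R A').toLinearMap

theorem T0_apply (φ' : CartDual.D R A') (a : A) :
    (T0 u hu χ hp θ φ').ofConv a = φ'.ofConv ((θ (retr' u χ hp hu 1 a) : A')) := rfl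

theorem T0_mem (φ' : CartDual.D R A') :
    T0 u hu χ hp θ φ' ∈ OortTate.eigenAug R (CartDual.D R A) p χ 1 := by
  rw [mem_eigenAug_dual_iff]
  refine ⟨?_, fun m a => ?_⟩
  · rw [T0_apply]
    have h1 : retr' u χ hp hu 1 (1 : A) = 0 := Subtype.ext (retr_one u χ 1)
    rw [h1, map_zero]
    simp
  · rw [T0_apply, T0_apply]
    have h1 : retr' u χ hp hu 1 (pwm (R := R) m a) =
        cz χ ((1 : ℕ) : ℤ) m • retr' u χ hp hu 1 a := Subtype.ext (retr_pwm u χ hp 1 m a)
    rw [h1, map_smul, Submodule.coe_smul, map_smul, smul_eq_mul]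

/-- the transpose of `θ` as a map `I_1(D') → I_1(D)` -/
noncomputable def thetaT :
    OortTate.eigenAug R (CartDual.D R A') p χ 1 →ₗ[R] OortTate.eigenAug R (CartDual.D R A) p χ 1 :=
  ((T0 u hu χ hp θ).codRestrict _ (T0_mem u hu χ hp θ)) ∘ₗ
    (OortTate.eigenAug R (CartDual.D R A') p χ 1).subtype

theorem thetaT_apply (φ' : OortTate.eigenAug R (CartDual.D R A') p χ 1)
    (x : OortTate.eigenAug R A p χ 1) :
    ((thetaT u hu χ hp θ φ' : OortTate.eigenAug R (CartDual.D R A) p χ 1) :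
      CartDual.D R A).ofConv (x : A) = (φ' : CartDual.D R A').ofConv ((θ x : A')) := by
  show (T0 u hu χ hp θ (φ' : CartDual.D R A')).ofConv (x : A) = _
  rw [T0_apply]
  have h1 : retr' u χ hp hu 1 (x : A) = x := Subtype.ext (retr_of_mem u χ hu 1 x.2)
  rw [h1]

include hu hp in
theorem eq_of_eigen_dual (Ξ₁ Ξ₂ : CartDual.D R A)
    (h₁ : Ξ₁ ∈ OortTate.eigenAug R (CartDual.D R A) p χ 1)
    (h₂ : Ξ₂ ∈ OortTate.eigenAug R (CartDual.D R A) p χ 1)
    (h : ∀ x : OortTate.eigenAug R A p χ 1, Ξ₁.ofConv (x : A) = Ξ₂.ofConv (x : A)) : Ξ₁ = Ξ₂ := by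
  apply WithConv.ofConv_injective
  apply LinearMap.ext
  intro a
  rw [← dual_retr u χ hu 1 Ξ₁ h₁ a, ← dual_retr u χ hu 1 Ξ₂ h₂ a]
  exact h ⟨retr u χ 1 a, retr_mem u χ hp hu 1 a⟩

end ThetaT

section Main

variable {p : ℕ} [Fact p.Prime] {R : Type u} [CommRing R]
  (u : R) (hu : u * ((p - 1 : ℕ) : R) = 1) (χ : (ZMod p)ˣ →* Rˣ)
  (hχ : ∀ m : (ZMod p)ˣ, m ≠ 1 → IsUnit ((χ m : R) - 1))
  (hχp : ∀ m : (ZMod p)ˣ, ((χ m : Rˣ) : R) - (((m : ZMod p).val : ℕ) : R) ∈
    Ideal.span ({(p : R)} : Set R))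
  {A : Type u} [CommRing A] [HopfAlgebra R A] [Coalgebra.IsCocomm R A] [Module.Finite R A]
  [Module.Projective R A] (hrk : ∀ q : PrimeSpectrum R, Module.rankAtStalk A q = p)
  {A' : Type u} [CommRing A'] [HopfAlgebra R A'] [Coalgebra.IsCocomm R A'] [Module.Finite R A']
  [Module.Projective R A'] (hrk' : ∀ q : PrimeSpectrum R, Module.rankAtStalk A' q = p)
  (θ : OortTate.eigenAug R A p χ 1 ≃ₗ[R] OortTate.eigenAug R A' p χ 1)
  (hθ : ∀ (f : Fin p → OortTate.eigenAug R A p χ 1) (g : OortTate.eigenAug R A p χ 1),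
    (g : A) = ∏ i, (f i : A) → ((θ g : OortTate.eigenAug R A' p χ 1) : A') = ∏ i, ((θ (f i)) : A'))
  (hθD : ∀ (φ : Fin p → OortTate.eigenAug R (CartDual.D R A) p χ 1)
    (φ' : Fin p → OortTate.eigenAug R (CartDual.D R A') p χ 1)
    (ψ : OortTate.eigenAug R (CartDual.D R A) p χ 1)
    (ψ' : OortTate.eigenAug R (CartDual.D R A') p χ 1),
    (∀ i, ∀ x : OortTate.eigenAug R A p χ 1,
      CartDual.toDual R A (φ i : CartDual.D R A) (x : A) =
        CartDual.toDual R A' (φ' i : CartDual.D R A') ((θ x : OortTate.eigenAug R A' p χ 1) : A')) →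
    (ψ : CartDual.D R A) = ∏ i, (φ i : CartDual.D R A) →
    (ψ' : CartDual.D R A') = ∏ i, (φ' i : CartDual.D R A') →
    ∀ x : OortTate.eigenAug R A p χ 1,
      CartDual.toDual R A (ψ : CartDual.D R A) (x : A) =
        CartDual.toDual R A' (ψ' : CartDual.D R A') ((θ x : OortTate.eigenAug R A' p χ 1) : A'))

include hu hχ hχp hrk hrk' hθ hθD in
/-- **Oort–Tate**: the classification map is injective on isomorphism classes. -/
theorem nonempty_bialgEquiv_of_theta : Nonempty (A ≃ₐc[R] A') := by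
  have hpA : (toConv (AlgHom.id R A)) ^ p = 1 :=
    HopfDeligne41.convPow_id_eq_one_of_rankAtStalk_eq R A p hrk
  have hpA' : (toConv (AlgHom.id R A')) ^ p = 1 :=
    HopfDeligne41.convPow_id_eq_one_of_rankAtStalk_eq R A' p hrk'
  have hrkD : ∀ q : PrimeSpectrum R, Module.rankAtStalk (CartDual.D R A) q = p := fun q => by
    rw [rankAtStalk_D, hrk]
  have hrkD' : ∀ q : PrimeSpectrum R, Module.rankAtStalk (CartDual.D R A') q = p := fun q => by
    rw [rankAtStalk_D, hrk']
  have hpD : (toConv (AlgHom.id R (CartDual.D R A))) ^ p = 1 :=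
    HopfDeligne41.convPow_id_eq_one_of_rankAtStalk_eq R (CartDual.D R A) p hrkD
  have hpD' : (toConv (AlgHom.id R (CartDual.D R A'))) ^ p = 1 :=
    HopfDeligne41.convPow_id_eq_one_of_rankAtStalk_eq R (CartDual.D R A') p hrkD'
  -- the algebra map `f : A → A'`
  let τ : OortTate.eigenAug R A p χ 1 →ₗ[R] A' :=
    (OortTate.eigenAug R A' p χ 1).subtype ∘ₗ θ.toLinearMap
  have hτ : ∀ (F : Fin p → OortTate.eigenAug R A p χ 1) (G : OortTate.eigenAug R A p χ 1),
      (G : A) = ∏ i, (F i : A) → τ G = ∏ i, τ (F i) := fun F G hG => hθ F G hG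
  let f : A →ₐ[R] A' := liftHom u hu χ hχ hχp hrk hpA τ hτ
  have hf : ∀ x : OortTate.eigenAug R A p χ 1, f (x : A) = ((θ x : _) : A') :=
    fun x => liftHom_apply u hu χ hχ hχp hrk hpA τ hτ x
  -- its inverse
  let τ' : OortTate.eigenAug R A' p χ 1 →ₗ[R] A :=
    (OortTate.eigenAug R A p χ 1).subtype ∘ₗ θ.symm.toLinearMap
  have hτ' : ∀ (F : Fin p → OortTate.eigenAug R A' p χ 1) (G : OortTate.eigenAug R A' p χ 1),
      (G : A') = ∏ i, (F i : A') → τ' G = ∏ i, τ' (F i) := by
    intro F G hG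
    let G0 : OortTate.eigenAug R A p χ 1 :=
      ⟨∏ i, ((θ.symm (F i) : _) : A), prod_mem_eigenAug χ (fun i => θ.symm (F i))⟩
    have h1 := hθ (fun i => θ.symm (F i)) G0 rfl
    simp only [LinearEquiv.apply_symm_apply] at h1
    have h2 : θ G0 = G := Subtype.ext (h1.trans hG.symm)
    have h3 : θ.symm G = G0 := by rw [← h2, LinearEquiv.symm_apply_apply]
    show ((θ.symm G : _) : A) = ∏ i, ((θ.symm (F i) : _) : A)
    rw [h3]
  let f' : A' →ₐ[R] A := liftHom u hu χ hχ hχp hrk' hpA' τ' hτ'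
  have hf' : ∀ x : OortTate.eigenAug R A' p χ 1, f' (x : A') = ((θ.symm x : _) : A) :=
    fun x => liftHom_apply u hu χ hχ hχp hrk' hpA' τ' hτ' x
  have hff' : f.comp f' = AlgHom.id R A' := by
    apply algHom_ext_eigenAug u hu χ hχ hχp hrk' hpA'
    intro x
    rw [AlgHom.comp_apply, hf', hf, LinearEquiv.apply_symm_apply]
    rfl
  have hf'f : f'.comp f = AlgHom.id R A := by
    apply algHom_ext_eigenAug u hu χ hχ hχp hrk hpA
    intro x
    rw [AlgHom.comp_apply, hf, hf', LinearEquiv.symm_apply_apply]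
    rfl
  let fe : A ≃ₐ[R] A' := AlgEquiv.ofAlgHom f f' hff' hf'f
  -- the transposed algebra map `g : D' → D`
  let tT := thetaT u hu χ hpA θ.toLinearMap
  have htT : ∀ (φ' : OortTate.eigenAug R (CartDual.D R A') p χ 1)
      (x : OortTate.eigenAug R A p χ 1),
      ((tT φ' : _) : CartDual.D R A).ofConv (x : A) =
        (φ' : CartDual.D R A').ofConv ((θ x : _) : A') :=
    fun φ' x => thetaT_apply u hu χ hpA θ.toLinearMap φ' x
  let τD : OortTate.eigenAug R (CartDual.D R A') p χ 1 →ₗ[R] CartDual.D R A :=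
    (OortTate.eigenAug R (CartDual.D R A) p χ 1).subtype ∘ₗ tT
  have hτD : ∀ (F : Fin p → OortTate.eigenAug R (CartDual.D R A') p χ 1)
      (G : OortTate.eigenAug R (CartDual.D R A') p χ 1),
      (G : CartDual.D R A') = ∏ i, (F i : CartDual.D R A') → τD G = ∏ i, τD (F i) := by
    intro F G hG
    let ψ : OortTate.eigenAug R (CartDual.D R A) p χ 1 :=
      ⟨∏ i, ((tT (F i) : _) : CartDual.D R A), prod_mem_eigenAug χ (fun i => tT (F i))⟩
    have h1 := hθD (fun i => tT (F i)) F ψ G (fun i x => htT (F i) x) rfl hG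
    have h2 : ((tT G : _) : CartDual.D R A) = (ψ : CartDual.D R A) := by
      apply eq_of_eigen_dual u hu χ hpA _ _ (tT G).2 ψ.2
      intro x
      rw [htT G x]
      exact (h1 x).symm
    exact h2
  let g : CartDual.D R A' →ₐ[R] CartDual.D R A := liftHom u hu χ hχ hχp hrkD' hpD' τD hτD
  have hg : ∀ φ' : OortTate.eigenAug R (CartDual.D R A') p χ 1,
      g (φ' : CartDual.D R A') = ((tT φ' : _) : CartDual.D R A) :=
    fun φ' => liftHom_apply u hu χ hχ hχp hrkD' hpD' τD hτD φ'
  -- counit compatibility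
  have hε : (Bialgebra.counitAlgHom R A').comp f = Bialgebra.counitAlgHom R A := by
    apply algHom_ext_eigenAug u hu χ hχ hχp hrk hpA
    intro x
    rw [AlgHom.comp_apply, hf]
    show CoalgebraStruct.counit (R := R) ((θ x : _) : A') = CoalgebraStruct.counit (R := R) (x : A)
    rw [((mem_eigenAug_iff χ 1 _).1 (θ x).2).1, ((mem_eigenAug_iff χ 1 _).1 x.2).1]
  -- the transpose identity
  have hfg : ∀ (φ' : CartDual.D R A') (a : A), (g φ').ofConv a = φ'.ofConv (f a) := by
    intro φ' a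
    let L1 : CartDual.D R A' →ₗ[R] R :=
      (LinearMap.applyₗ a) ∘ₗ (CartDual.toDual R A).toLinearMap ∘ₗ g.toLinearMap
    let L2 : CartDual.D R A' →ₗ[R] R :=
      (LinearMap.applyₗ (f a)) ∘ₗ (CartDual.toDual R A').toLinearMap
    have hL : L1 = L2 := by
      apply linearMap_ext_prod u hu χ hχ hχp hrkD' hpD'
      · show (g 1).ofConv a = (1 : CartDual.D R A').ofConv (f a)
        rw [map_one g, LinearMap.convOne_def, LinearMap.convOne_def]
        have := AlgHom.congr_fun hε a
        exact congrArg (algebraMap R R) this.symm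
      · intro s hs1 hs Φ'
        show (g (∏ i, (Φ' i : CartDual.D R A'))).ofConv a =
          (∏ i, (Φ' i : CartDual.D R A')).ofConv (f a)
        rw [map_prod g]
        simp only [hg]
        let M1 : A →ₗ[R] R := (∏ i, ((tT (Φ' i) : _) : CartDual.D R A)).ofConv
        let M2 : A →ₗ[R] R := (∏ i, (Φ' i : CartDual.D R A')).ofConv ∘ₗ f.toLinearMap
        have hM : M1 = M2 := by
          apply linearMap_ext_prod u hu χ hχ hχp hrk hpA
          · show (∏ i, ((tT (Φ' i) : _) : CartDual.D R A)).ofConv 1 =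
              (∏ i, (Φ' i : CartDual.D R A')).ofConv (f 1)
            rw [map_one f,
              ((mem_eigenAug_dual_iff χ s _).1
                (prod_fin_mem_eigenAug χ s hs1 (fun i => tT (Φ' i)))).1,
              ((mem_eigenAug_dual_iff χ s _).1 (prod_fin_mem_eigenAug χ s hs1 Φ')).1]
          · intro t ht1 ht X
            show (∏ i, ((tT (Φ' i) : _) : CartDual.D R A)).ofConv (∏ j, (X j : A)) =
              (∏ i, (Φ' i : CartDual.D R A')).ofConv (f (∏ j, (X j : A)))
            rw [map_prod f]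
            simp only [hf]
            by_cases hst : s = t
            · subst hst
              rw [pairing_prod u hu χ hχ hχp hrk hpA s hs1 X (fun i => tT (Φ' i)),
                pairing_prod u hu χ hχ hχp hrk' hpA' s hs1 (fun j => θ (X j)) Φ']
              congr 1
              refine Finset.prod_congr rfl fun i _ => ?_
              exact htT (Φ' i) (X i)
            · have hnd : ¬ ((p - 1 : ℕ) : ℤ) ∣ (t : ℤ) - (s : ℤ) := by
                intro hdvd
                have h3 : |(t : ℤ) - (s : ℤ)| < ((p - 1 : ℕ) : ℤ) := by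
                  rw [abs_lt]
                  constructor <;> omega
                have h4 := Int.eq_zero_of_abs_lt_dvd hdvd h3
                omega
              rw [pairing_eq_zero u hu χ hχ s t _
                  (prod_fin_mem_eigenAug χ s hs1 (fun i => tT (Φ' i))) _
                  (prod_fin_mem_eigenAug χ t ht1 X) hnd,
                pairing_eq_zero u hu χ hχ s t _ (prod_fin_mem_eigenAug χ s hs1 Φ') _
                  (prod_fin_mem_eigenAug χ t ht1 (fun j => θ (X j))) hnd]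
        exact LinearMap.congr_fun hM a
    exact LinearMap.congr_fun hL φ'
  obtain ⟨h1, h2⟩ := bialg_of_transpose f g hfg
  exact ⟨BialgEquiv.ofAlgEquiv fe h1 h2⟩

end Main

end Groth.Agent.Lib.OortTateIso55
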