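import Groth.Agent.Lib.OpenClosed2

/-!
# The open and closed restrictions are jointly conservative
-/

set_option autoImplicit false
set_option linter.unusedSectionVars false
open CategoryTheory CategoryTheory.Limits
universe v u

namespace Groth.Agent.Lib.OpenClosed

variable {E : Type v} [Category.{u} E] [HasBinaryProducts E] [HasTerminal E]
  [Adhesive E] [HasPushouts E] {U : E}

theorem isIso_iff_open_closed (hU : Mono (terminal.from U))
    (L : E ⥤ (SGA4.closedCompl U).FullSubcategory) (adj : L ⊣ (SGA4.closedCompl U).ι)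
    {X Y : E} (m : X ⟶ Y) :
    IsIso m ↔ IsIso ((Over.star U).map m) ∧ IsIso (L.map m) := by
  constructor
  · intro h
    exact ⟨inferInstance, inferInstance⟩
  · rintro ⟨h1, h2⟩
    have hiso : IsIso (prod.map (𝟙 U) m) := by
      rw [← Over.star_map_left]
      exact inferInstanceAs (IsIso ((Over.forget U).map ((Over.star U).map m)))
    obtain ⟨eX, heX⟩ := exists_iso_reflector hU L adj X
    obtain ⟨eY, heY⟩ := exists_iso_reflector hU L adj Y
    let k : Xc U X ⟶ Xc U Y := eX.hom ≫ ((SGA4.closedCompl U).ι).map (L.map m) ≫ eY.inv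
    have hk : IsIso k := inferInstance
    have hk₁ : pushout.inl (prod.fst : U ⨯ X ⟶ U) (prod.snd : U ⨯ X ⟶ X) ≫ k =
        pushout.inl (prod.fst : U ⨯ Y ⟶ U) (prod.snd : U ⨯ Y ⟶ Y) :=
      hom_ext_of_closedCompl (closedCompl_Xc hU Y) (𝟙 U) _ _
    have hnat : (adj.unit.app X : X ⟶ ((SGA4.closedCompl U).ι).obj (L.obj X)) ≫
        ((SGA4.closedCompl U).ι).map (L.map m) =
        m ≫ (adj.unit.app Y : Y ⟶ ((SGA4.closedCompl U).ι).obj (L.obj Y)) :=
      (adj.unit.naturality m).symm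
    have hk₂ : pushout.inr (prod.fst : U ⨯ X ⟶ U) (prod.snd : U ⨯ X ⟶ X) ≫ k =
        m ≫ pushout.inr (prod.fst : U ⨯ Y ⟶ U) (prod.snd : U ⨯ Y ⟶ Y) := by
      show pushout.inr (prod.fst : U ⨯ X ⟶ U) (prod.snd : U ⨯ X ⟶ X) ≫
        eX.hom ≫ ((SGA4.closedCompl U).ι).map (L.map m) ≫ eY.inv = _
      rw [reassoc_of% heX, reassoc_of% hnat, ← heY, Category.assoc, eY.hom_inv_id,
        Category.comp_id]
    have hpb := (isPullback_iff_isIso hU m k hk₁ hk₂).2 hiso
    exact hpb.isIso_fst_of_isIso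

end Groth.Agent.Lib.OpenClosed
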