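import Groth.Agent.Lib.ArtinGluing
import Groth.Agent.Lib.ClosedTop4
import Groth.Agent.Lib.OpenClosed3
import Mathlib.CategoryTheory.Adjunction.Triple
import Mathlib.CategoryTheory.Adjunction.Unique
import Mathlib.CategoryTheory.Adjunction.Limits

/-!
# A sheaf topos is glued from an open subtopos and its closed complement
-/

set_option autoImplicit false
open CategoryTheory CategoryTheory.Limits Opposite
universe u
open ToposFin

namespace Groth.Agent.Lib.OpenClosedGluing
open Groth.Agent.Lib.OpenClosed Groth.Agent.Lib.ClosedTop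

variable {C : Type u} [SmallCategory C] (J : GrothendieckTopology C) {U : Sheaf J (Type u)}

/-- For a subterminal object `U`, the forgetful functor from `Over U` is fully faithful. -/
def forgetFullyFaithful (hU : Mono (terminal.from U)) : (Over.forget U).FullyFaithful where
  preimage {X Y} f := Over.homMk f (hom_to_open_ext hU _ _)

/-- The closed complement is sent to the terminal object by restriction to the open part. -/
lemma isIso_star_map_ι {Y Y' : (SGA4.closedCompl U).FullSubcategory} (f : Y ⟶ Y') :
    IsIso ((Over.star U).map ((SGA4.closedCompl U).ι.map f)) := by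
  have h1 : IsIso (prod.fst : U ⨯ Y.obj ⟶ U) := Y.property
  have h2 : IsIso (prod.fst : U ⨯ Y'.obj ⟶ U) := Y'.property
  let g : Y.obj ⟶ Y'.obj := (SGA4.closedCompl U).ι.map f
  have h3 : IsIso (prod.map (𝟙 U) g ≫ (prod.fst : U ⨯ Y'.obj ⟶ U)) := by
    rw [prod.map_fst, Category.comp_id]
    exact h1
  have h4 : IsIso (prod.map (𝟙 U) g) :=
    IsIso.of_isIso_comp_right (prod.map (𝟙 U) g) (prod.fst : U ⨯ Y'.obj ⟶ U)
  have h5 : IsIso ((Over.forget U).map ((Over.star U).map g)) := by
    have e : (Over.forget U).map ((Over.star U).map g) = prod.map (𝟙 U) g :=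
      Over.star_map_left U g
    rw [e]
    exact h4
  exact isIso_of_reflects_iso _ (Over.forget U)

theorem nonempty_equivalence (hU : Mono (terminal.from U)) [(Over.star U).IsLeftAdjoint]
    (L : Sheaf J (Type u) ⥤ (SGA4.closedCompl U).FullSubcategory)
    (adj : L ⊣ (SGA4.closedCompl U).ι) :
    Nonempty (Sheaf J (Type u) ≌
      Comma (𝟭 (SGA4.closedCompl U).FullSubcategory) ((Over.star U).rightAdjoint ⋙ L)) := by
  let a₁ : Over.star U ⊣ (Over.star U).rightAdjoint := Adjunction.ofIsLeftAdjoint (Over.star U)
  have : PreservesLimitsOfSize.{0, 0} (Over.star U) :=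
    (Over.forgetAdjStar U).rightAdjoint_preservesLimits
  have hL : PreservesFiniteLimits L := by
    have := preservesFiniteLimits_closedReflector J hU
    exact preservesFiniteLimits_of_natIso
      ((closedReflectorAdj J hU).leftAdjointUniq adj)
  have hε₁ : IsIso a₁.counit := by
    let t : Adjunction.Triple (Over.forget U) (Over.star U) (Over.star U).rightAdjoint :=
      ⟨Over.forgetAdjStar U, a₁⟩
    have hf := forgetFullyFaithful J hU
    have := hf.full
    have := hf.faithful
    exact t.isIso_unit_iff_isIso_counit.1 inferInstance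
  have hε₂ : IsIso adj.counit := inferInstance
  exact Groth.Agent.Lib.ArtinGluing.nonempty_equivalence a₁ adj hε₁ hε₂
    (fun m h1 h2 => (isIso_iff_open_closed hU L adj m).2 ⟨h1, h2⟩)
    (fun f => isIso_star_map_ι J f)

end Groth.Agent.Lib.OpenClosedGluing
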