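import Groth.Agent.Lib.MultTors55a
import Groth.Agent.Lib.OortTate55a

/-!
# Translations of an affine group by points, in Hopf-algebra form

For a commutative Hopf algebra `C` over `K` and a `K`-point `h : C →ₐ[K] K`, the translation
`transl h : C →ₐ[K] C`, `c ↦ Σ h(c₁) c₂`; it is multiplicative in `h`, commutes with the power maps
up to a translation, and preserves the ideal of the `N`-torsion when `h ^ N = 1`.
-/

set_option autoImplicit false
set_option linter.unusedSectionVars false
set_option linter.unusedVariables false

universe u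

open TensorProduct WithConv

namespace Groth.Agent.Lib.OpenSub55

open Groth.Agent.Lib.MultType58 Groth.Agent.Lib.MultTors55

section Transl

variable {K : Type u} [CommRing K] {C : Type u} [CommRing C] [HopfAlgebra K C]

/-- A `K`-point, seen as an algebra map to any commutative `K`-algebra. -/
noncomputable def incl (A' : Type u) [CommRing A'] [Algebra K A'] (h : WithConv (C →ₐ[K] K)) :
    WithConv (C →ₐ[K] A') :=
  toConv ((Algebra.ofId K A').comp h.ofConv)

theorem incl_one (A' : Type u) [CommRing A'] [Algebra K A'] :
    incl A' (1 : WithConv (C →ₐ[K] K)) = 1 := by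
  apply WithConv.ofConv_injective
  apply AlgHom.ext
  intro c
  simp [incl, AlgHom.convOne_def]

theorem incl_mul (A' : Type u) [CommRing A'] [Algebra K A'] (g h : WithConv (C →ₐ[K] K)) :
    incl A' (g * h) = incl A' g * incl A' h := by
  apply WithConv.ofConv_injective
  unfold incl
  rw [ofConv_toConv, AlgHom.comp_convMul_distrib]

theorem incl_pow (A' : Type u) [CommRing A'] [Algebra K A'] (g : WithConv (C →ₐ[K] K)) (n : ℕ) :
    incl A' (g ^ n) = incl A' g ^ n := by
  induction n with
  | zero => rw [pow_zero, pow_zero, incl_one]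
  | succ n ih => rw [pow_succ, pow_succ, incl_mul, ih]

theorem incl_self (h : WithConv (C →ₐ[K] K)) : incl K h = h := by
  apply WithConv.ofConv_injective
  apply AlgHom.ext
  intro c
  simp [incl]

/-- Translation by the point `h`. -/
noncomputable def transl (h : WithConv (C →ₐ[K] K)) : C →ₐ[K] C :=
  (incl C h * toConv (AlgHom.id K C)).ofConv

theorem comp_transl {A' : Type u} [CommRing A'] [Algebra K A'] (x : C →ₐ[K] A')
    (h : WithConv (C →ₐ[K] K)) :
    x.comp (transl h) = (incl A' h * toConv x).ofConv := by
  unfold transl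
  rw [AlgHom.comp_convMul_distrib]
  congr 2
  apply WithConv.ofConv_injective
  apply AlgHom.ext
  intro c
  simp [incl]

theorem transl_one : transl (1 : WithConv (C →ₐ[K] K)) = AlgHom.id K C := by
  unfold transl
  rw [incl_one, one_mul, ofConv_toConv]

theorem transl_comp (g h : WithConv (C →ₐ[K] K)) :
    (transl g).comp (transl h) = transl (h * g) := by
  rw [comp_transl]
  unfold transl
  rw [toConv_ofConv, ← mul_assoc, incl_mul]

theorem transl_apply_transl (g h : WithConv (C →ₐ[K] K)) (c : C) :
    transl g (transl h c) = transl (h * g) c := by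
  rw [← transl_comp]; rfl

theorem point_transl (x h : WithConv (C →ₐ[K] K)) (c : C) :
    x.ofConv (transl h c) = (h * x).ofConv c := by
  have := comp_transl x.ofConv h
  rw [incl_self, toConv_ofConv] at this
  rw [← this]; rfl

end Transl

section Torsion

variable {K : Type u} [CommRing K] {C : Type u} [CommRing C] [HopfAlgebra K C]

theorem torsionIdeal_mul_le (n N : ℕ) :
    SGA3b.torsionIdeal K C (n * N) ≤ SGA3b.torsionIdeal K C n := by
  rw [torsionIdeal_le_iff]
  intro a ha
  rw [← OortTate55.powConv_apply_apply]
  apply powConv_mem_torsionIdeal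
  rw [OortTate55.counit_powConv, ha]

variable [Coalgebra.IsCocomm K C]

theorem transl_comp_powConv (h : WithConv (C →ₐ[K] K)) (n : ℕ) :
    (transl h).comp (SGA3b.powConv K C n) =
      (incl C (h ^ n) * toConv (SGA3b.powConv K C n)).ofConv := by
  unfold SGA3b.powConv
  rw [OortTate55.comp_convPow, ofConv_toConv, AlgHom.comp_id]
  unfold transl
  rw [toConv_ofConv, mul_pow, incl_pow, toConv_ofConv]

theorem transl_comp_powConv_of_pow_eq_one (h : WithConv (C →ₐ[K] K)) (N n : ℕ) (hN : h ^ N = 1) :
    (transl h).comp (SGA3b.powConv K C (N * n)) = SGA3b.powConv K C (N * n) := by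
  rw [transl_comp_powConv, pow_mul, hN, one_pow, incl_one, one_mul, ofConv_toConv]

theorem map_transl_torsionIdeal_le (h : WithConv (C →ₐ[K] K)) (N n : ℕ) (hN : h ^ N = 1) :
    Ideal.map (transl h) (SGA3b.torsionIdeal K C (N * n)) ≤ SGA3b.torsionIdeal K C (N * n) := by
  rw [Ideal.map_le_iff_le_comap, torsionIdeal_le_iff]
  intro a ha
  rw [Ideal.mem_comap]
  have h1 : transl h (SGA3b.powConv K C (N * n) a) = SGA3b.powConv K C (N * n) a := by
    have := transl_comp_powConv_of_pow_eq_one h N n hN
    exact congrArg (fun f : C →ₐ[K] C => f a) this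
  rw [h1]
  exact powConv_mem_torsionIdeal _ ha

end Torsion

end Groth.Agent.Lib.OpenSub55
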