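import Groth.Agent.Lib.OpenSub55a

/-!
# Points of diagonalisable groups: divisibility modulo torsion
-/

set_option autoImplicit false
set_option linter.unusedSectionVars false
set_option linter.unusedVariables false

universe u

open TensorProduct WithConv

namespace Groth.Agent.Lib.OpenSub55

open Groth.Agent.Lib.MultType58 Groth.Agent.Lib.MultTors55

section GroupTheory

/-- For a finitely generated commutative group `M`, a commutative group `D` in which all roots
exist, a character `γ : M →* D` and `m > 0`, there is a character `δ` such that `γ * δ ^ m` is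
torsion. -/
theorem exists_twist {M : Type*} [CommGroup M] [Group.FG M] {D : Type*} [CommGroup D]
    (hD : ∀ (d : D) (m : ℕ), 0 < m → ∃ d' : D, d' ^ m = d) (γ : M →* D) (m : ℕ) (hm : 0 < m) :
    ∃ (δ : M →* D) (t : ℕ), 0 < t ∧ ∀ x, (γ x * δ x ^ m) ^ t = 1 := by
  classical
  obtain ⟨ι, j, _, _, p, hp, e, ⟨φ⟩⟩ := CommGroup.equiv_free_prod_prod_multiplicative_zmod M
  let γ' : (j → Multiplicative ℤ) × ((i : ι) → Multiplicative (ZMod (p i ^ e i))) →* D :=
    γ.comp φ.symm.toMonoidHom
  let γF : (j → Multiplicative ℤ) →* D := γ'.comp (MonoidHom.inl _ _)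
  have hr : ∀ b : j, ∃ r : D, r ^ m = (γF (Pi.mulSingle b (Multiplicative.ofAdd 1)))⁻¹ :=
    fun b => hD _ m hm
  choose r hr using hr
  let δF : (j → Multiplicative ℤ) →* D :=
    ∏ b : j, (zpowersHom D (r b)).comp (Pi.evalMonoidHom _ b)
  have hδ : ∀ b : j, δF (Pi.mulSingle b (Multiplicative.ofAdd 1)) = r b := by
    intro b
    simp only [δF, MonoidHom.finset_prod_apply, MonoidHom.comp_apply, Pi.evalMonoidHom_apply]
    rw [Finset.prod_eq_single b]
    · simp [zpowersHom_apply]
    · intro c _ hc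
      rw [Pi.mulSingle_eq_of_ne hc, map_one]
    · intro h; exact absurd (Finset.mem_univ b) h
  have hF : γF * δF ^ m = 1 := by
    apply MonoidHom.functions_ext'
    intro b
    apply MonoidHom.ext_mint
    simp only [MonoidHom.comp_apply, MonoidHom.mul_apply, MonoidHom.pow_apply,
      MonoidHom.one_apply, MonoidHom.mulSingle_apply]
    rw [hδ, hr, mul_inv_cancel]
  let t : ℕ := ∏ i, p i ^ e i
  have ht : 0 < t := Finset.prod_pos (fun i _ => pow_pos (hp i).pos _)
  have hT : ∀ τ : ((i : ι) → Multiplicative (ZMod (p i ^ e i))), τ ^ t = 1 := by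
    intro τ
    funext i
    simp only [Pi.pow_apply, Pi.one_apply]
    apply Multiplicative.toAdd.injective
    rw [toAdd_pow, toAdd_one, nsmul_eq_mul]
    have : ((t : ℕ) : ZMod (p i ^ e i)) = 0 := by
      rw [ZMod.natCast_eq_zero_iff]
      exact Finset.dvd_prod_of_mem _ (Finset.mem_univ i)
    rw [this, zero_mul]
  refine ⟨δF.comp ((MonoidHom.fst _ _).comp φ.toMonoidHom), t, ht, ?_⟩
  intro x
  obtain ⟨⟨f, τ⟩, rfl⟩ := φ.symm.surjective x
  have h0 : ((f, τ) : (j → Multiplicative ℤ) × ((i : ι) → Multiplicative (ZMod (p i ^ e i)))) =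
      (f, 1) * (1, τ) := by
    rw [Prod.mk_mul_mk, mul_one, one_mul]
  have h1 : γ (φ.symm (f, τ)) = γF f * γ' (1, τ) := by
    change γ' (f, τ) = γ' (f, 1) * γ' (1, τ)
    rw [← map_mul, ← h0]
  have h2 : (δF.comp ((MonoidHom.fst _ _).comp φ.toMonoidHom)) (φ.symm (f, τ)) = δF f := by
    simp
  have h3 : γF f * δF f ^ m = 1 := by
    have := congrArg (fun g : (j → Multiplicative ℤ) →* D => g f) hF
    simpa using this
  rw [h1, h2, mul_right_comm, h3, one_mul, ← map_pow, Prod.pow_mk, one_pow, hT]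
  exact map_one γ'

end GroupTheory

section Points

variable {K : Type u} [CommRing K]

/-- Precomposition with a bialgebra map is a monoid homomorphism for convolution. -/
noncomputable def precomp {B C : Type u} [CommRing B] [CommRing C] [Bialgebra K B] [Bialgebra K C]
    (A' : Type u) [CommRing A'] [Algebra K A'] (f : B →ₐc[K] C) :
    WithConv (C →ₐ[K] A') →* WithConv (B →ₐ[K] A') where
  toFun x := toConv (x.ofConv.comp (f : B →ₐ[K] C))
  map_one' := by
    apply WithConv.ofConv_injective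
    apply AlgHom.ext
    intro b
    simp [AlgHom.convOne_def]
  map_mul' x y := by
    apply WithConv.ofConv_injective
    rw [ofConv_toConv, AlgHom.convMul_comp_bialgHom_distrib]

theorem precomp_apply {B C : Type u} [CommRing B] [CommRing C] [Bialgebra K B] [Bialgebra K C]
    (A' : Type u) [CommRing A'] [Algebra K A'] (f : B →ₐc[K] C) (x : WithConv (C →ₐ[K] A')) (b : B) :
    (precomp A' f x).ofConv b = x.ofConv (f b) := rfl

/-- Evaluation of points at a group-like element is multiplicative. -/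
noncomputable def evalGL {C : Type u} [CommRing C] [Bialgebra K C]
    (A' : Type u) [CommRing A'] [Algebra K A'] (g : C) (hg : IsGroupLikeElem K g) :
    WithConv (C →ₐ[K] A') →* A' where
  toFun x := x.ofConv g
  map_one' := by
    rw [AlgHom.convOne_def, ofConv_toConv]
    simp [hg.counit_eq_one]
  map_mul' x y := by
    change (x * y) g = _
    rw [AlgHom.convMul_apply, hg.comul_eq_tmul_self, Algebra.TensorProduct.lift_tmul]

end Points

section MonoidAlgebraPoints

theorem exists_torsion_twist_monoidAlgebra (K : Type u) [Field K] [IsAlgClosed K]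
    (M : Type u) [CommGroup M] [Group.FG M]
    (x : WithConv (MonoidAlgebra K M →ₐ[K] K)) (m : ℕ) (hm : 0 < m) :
    ∃ (y : WithConv (MonoidAlgebra K M →ₐ[K] K)) (t : ℕ), 0 < t ∧ (x * y ^ m) ^ t = 1 := by
  have hD : ∀ (d : Kˣ) (m : ℕ), 0 < m → ∃ d' : Kˣ, d' ^ m = d := by
    intro d m hm
    obtain ⟨z, hz⟩ := IsAlgClosed.exists_pow_nat_eq (d : K) hm
    have hz' : IsUnit z := by
      have : IsUnit (z ^ m) := hz ▸ d.isUnit
      exact (isUnit_pow_iff hm.ne').1 this
    refine ⟨hz'.unit, ?_⟩
    ext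
    simp [hz]
  let χ : M →* Kˣ :=
    ((x.ofConv : MonoidAlgebra K M →* K).comp (MonoidAlgebra.of K M)).toHomUnits
  obtain ⟨δ, t, ht, hδ⟩ := exists_twist hD χ m hm
  refine ⟨toConv (MonoidAlgebra.lift K K M ((Units.coeHom K).comp δ)), t, ht, ?_⟩
  apply WithConv.ofConv_injective
  apply MonoidAlgebra.algHom_ext
  · intro g
    have hg : IsGroupLikeElem K (MonoidAlgebra.single g (1 : K)) :=
      MonoidAlgebra.isGroupLikeElem_single_one g
    change evalGL K _ hg ((x * toConv (MonoidAlgebra.lift K K M ((Units.coeHom K).comp δ)) ^ m) ^ t)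
      = evalGL K _ hg 1
    rw [map_pow, map_mul, map_pow, map_one]
    have h1 : evalGL K _ hg x = (χ g : K) := rfl
    have h2 : evalGL K _ hg (toConv (MonoidAlgebra.lift K K M ((Units.coeHom K).comp δ))) =
        (δ g : K) := by
      change MonoidAlgebra.lift K K M ((Units.coeHom K).comp δ) (MonoidAlgebra.single g 1) = _
      rw [MonoidAlgebra.lift_single, one_smul]
      rfl
    rw [h1, h2]
    have := congrArg (fun u : Kˣ => (u : K)) (hδ g)
    simpa using this
  · exact Subsingleton.elim _ _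

theorem exists_torsion_twist {K : Type u} [Field K] [IsAlgClosed K] {C₀ : Type u} [CommRing C₀]
    [HopfAlgebra K C₀] (hft : Algebra.FiniteType K C₀) (hd : SGA3b.IsDiag K C₀)
    (x : WithConv (C₀ →ₐ[K] K)) (m : ℕ) (hm : 0 < m) :
    ∃ (y : WithConv (C₀ →ₐ[K] K)) (t : ℕ), 0 < t ∧ (x * y ^ m) ^ t = 1 := by
  obtain ⟨M, _, ⟨θ⟩⟩ := hd
  have hft' : Algebra.FiniteType K (MonoidAlgebra K M) :=
    hft.equiv (θ : C₀ ≃ₐ[K] MonoidAlgebra K M)
  have hfg : Group.FG M := MonoidAlgebra.finiteType_iff_group_fg.1 hft'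
  obtain ⟨y', t, ht, hy⟩ := exists_torsion_twist_monoidAlgebra K M
    (precomp K (θ.symm : MonoidAlgebra K M →ₐc[K] C₀) x) m hm
  refine ⟨precomp K (θ : C₀ →ₐc[K] MonoidAlgebra K M) y', t, ht, ?_⟩
  have hx : x = precomp K (θ : C₀ →ₐc[K] MonoidAlgebra K M)
      (precomp K (θ.symm : MonoidAlgebra K M →ₐc[K] C₀) x) := by
    apply WithConv.ofConv_injective
    apply AlgHom.ext
    intro c
    rw [precomp_apply, precomp_apply]
    simp
  rw [hx, ← map_pow, ← map_mul, ← map_pow, hy, map_one]

end MonoidAlgebraPoints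

end Groth.Agent.Lib.OpenSub55
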