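import Groth.Agent.Lib.MultTors55a
import Groth.Agent.Lib.HopfTraceEtale41

/-!
# Schematic density of the torsion subgroups of a group of multiplicative type (helper41)

SGA3 IX 4.7 in Hopf-algebra form, over an arbitrary base ring.

* `J R L n`: the kernel of `R[L] → R[L/Lⁿ]` (universe polymorphic in `L`); `J_eq_span`, `J_mono`.
* `field_case`: over a field, for `L` f.g. with `κ[L]` a domain and enough prime-power-free quotients.
* `eq_zero_of_isUnit_coeff`: reduction to the field case via a maximal ideal `W` not containing the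
  coefficients of `x` (all coefficients become multiples of one element with maximal annihilator).
* `torus_dense`: the torus case over any ring (content ideal reduction).
* `diag_dense`: diagonalisable case `R[M]`, `M` f.g. (`M ≅ ℤ^r × F`, `R[M] ≅ R[F][ℤ^r]`).
* `Dense R A` with descent `dense_of_faithfullyFlat`, `dense_of_isMultType`; `main` = S2981.
-/

set_option autoImplicit false
set_option linter.unusedSectionVars false

universe u w u'

open TensorProduct

namespace Groth.Agent.Lib.TorsDense41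

open Groth.Agent.Lib.MultTors55 Groth.Agent.Lib.MultType58



section Basic

variable (R : Type u) [CommRing R] (L : Type w) [CommGroup L]

/-- The subgroup of `n`-th powers (universe polymorphic). -/
def powSub (n : ℕ) : Subgroup L := (powMonoidHom n : L →* L).range

theorem pow_mem_powSub (n : ℕ) (m : L) : m ^ n ∈ powSub L n := ⟨m, rfl⟩

/-- Ring-level quotient map `R[L] → R[L/Lⁿ]`. -/
noncomputable def qHom (n : ℕ) : MonoidAlgebra R L →+* MonoidAlgebra R (L ⧸ powSub L n) :=
  MonoidAlgebra.mapDomainRingHom R (QuotientGroup.mk' (powSub L n))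

/-- The ideal of the `n`-torsion subgroup of `D(L)`. -/
noncomputable def J (n : ℕ) : Ideal (MonoidAlgebra R L) := RingHom.ker (qHom R L n)

variable {R L}

theorem mem_J_iff {n : ℕ} {x : MonoidAlgebra R L} : x ∈ J R L n ↔ qHom R L n x = 0 :=
  RingHom.mem_ker

theorem qHom_single (n : ℕ) (m : L) (r : R) :
    qHom R L n (MonoidAlgebra.single m r) =
      MonoidAlgebra.single (QuotientGroup.mk' (powSub L n) m) r := by
  simp [qHom]

theorem gen_mem_J (n : ℕ) (m : L) :
    (MonoidAlgebra.single (m ^ n) 1 - 1 : MonoidAlgebra R L) ∈ J R L n := by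
  rw [mem_J_iff, map_sub, map_one, qHom_single]
  have h1 : (QuotientGroup.mk' (powSub L n)) (m ^ n) = 1 := by
    rw [QuotientGroup.mk'_apply, QuotientGroup.eq_one_iff]
    exact pow_mem_powSub L n m
  rw [h1, MonoidAlgebra.one_def, sub_self]

theorem J_eq_span (n : ℕ) :
    J R L n = Ideal.span (Set.range fun m : L => (MonoidAlgebra.single (m ^ n) 1 - 1 : MonoidAlgebra R L)) := by
  apply le_antisymm
  · intro x hx
    rw [mem_J_iff] at hx
    set I := Ideal.span (Set.range fun m : L =>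
      (MonoidAlgebra.single (m ^ n) 1 - 1 : MonoidAlgebra R L)) with hI
    let σ : L ⧸ powSub L n → L := fun q => (QuotientGroup.mk'_surjective _ q).choose
    have hσ : ∀ q, QuotientGroup.mk' (powSub L n) (σ q) = q :=
      fun q => (QuotientGroup.mk'_surjective _ q).choose_spec
    have key : ∀ y : MonoidAlgebra R L,
        y - MonoidAlgebra.mapDomainLinearMap R R σ (qHom R L n y) ∈ I := by
      intro y
      induction y using MonoidAlgebra.induction_linear with
      | zero => simp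
      | add f g hf hg =>
        rw [map_add, map_add, add_sub_add_comm]
        exact Ideal.add_mem _ hf hg
      | single m r =>
        rw [qHom_single, MonoidAlgebra.mapDomainLinearMap_single]
        have h := (hσ (QuotientGroup.mk' (powSub L n) m)).symm
        rw [QuotientGroup.mk'_apply, QuotientGroup.mk'_apply, QuotientGroup.eq] at h
        obtain ⟨j, hj⟩ := h
        have hj' : σ (QuotientGroup.mk' (powSub L n) m) = m * j ^ n := by
          have : j ^ n = m⁻¹ * σ (QuotientGroup.mk' (powSub L n) m) := hj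
          rw [this, mul_inv_cancel_left]
        rw [hj']
        have h1 : (MonoidAlgebra.single m r - MonoidAlgebra.single (m * j ^ n) r :
            MonoidAlgebra R L) =
            - (MonoidAlgebra.single m r * (MonoidAlgebra.single (j ^ n) 1 - 1)) := by
          rw [mul_sub, MonoidAlgebra.single_mul_single, mul_one, mul_one, neg_sub]
        rw [h1]
        exact I.neg_mem (Ideal.mul_mem_left _ _ (Ideal.subset_span ⟨j, rfl⟩))
    have := key x
    rwa [hx, map_zero, sub_zero] at this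
  · rw [Ideal.span_le]
    rintro _ ⟨m, rfl⟩
    exact gen_mem_J n m

theorem J_mono {n n' : ℕ} (h : n' ∣ n) : J R L n ≤ J R L n' := by
  obtain ⟨k, rfl⟩ := h
  rw [J_eq_span (n := n' * k), Ideal.span_le]
  rintro _ ⟨m, rfl⟩
  have := gen_mem_J (R := R) n' (m ^ k)
  rwa [← pow_mul, mul_comm k n'] at this

theorem map_J_le {R' : Type*} [CommRing R'] (g : R →+* R') (n : ℕ) :
    Ideal.map (MonoidAlgebra.mapRingHom L g) (J R L n) ≤ J R' L n := by
  rw [J_eq_span, Ideal.map_span, Ideal.span_le]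
  rintro _ ⟨_, ⟨m, rfl⟩, rfl⟩
  have := gen_mem_J (R := R') n m
  simpa [MonoidAlgebra.one_def] using this

end Basic



section Field

variable (κ : Type u) [Field κ] (L : Type w) [CommGroup L] [Group.FG L]

theorem finite_quot (n : ℕ) (hn : 0 < n) : Finite (L ⧸ powSub L n) := by
  have : Group.FG (L ⧸ powSub L n) := inferInstance
  apply CommGroup.finite_of_fg_isMulTorsion
  intro q
  rw [isOfFinOrder_iff_pow_eq_one]
  refine ⟨n, hn, ?_⟩
  obtain ⟨m, rfl⟩ := QuotientGroup.mk'_surjective _ q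
  rw [← map_pow, QuotientGroup.mk'_apply, QuotientGroup.eq_one_iff]
  exact pow_mem_powSub L n m

theorem isReduced_quot (ℓ p : ℕ) [hp : CharP κ p] (hℓ : ℓ.Prime) (hne : ℓ ≠ p) :
    IsReduced (MonoidAlgebra κ (L ⧸ powSub L ℓ)) := by
  have hfin : Finite (L ⧸ powSub L ℓ) := finite_quot L ℓ hℓ.pos
  have : Fintype (L ⧸ powSub L ℓ) := Fintype.ofFinite _
  have hmf : Module.Finite κ (MonoidAlgebra κ (L ⧸ powSub L ℓ)) :=
    Module.Finite.equiv (MonoidAlgebra.coeffLinearEquiv κ).symm
  apply HopfTraceEtale41.isReduced_of_finrank_ne_zero κ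
  rw [LinearEquiv.finrank_eq (MonoidAlgebra.coeffLinearEquiv κ), Module.finrank_finsupp_self]
  have : Fact ℓ.Prime := ⟨hℓ⟩
  have hpg : IsPGroup ℓ (L ⧸ powSub L ℓ) := by
    intro q
    refine ⟨1, ?_⟩
    obtain ⟨m, rfl⟩ := QuotientGroup.mk'_surjective _ q
    rw [pow_one, ← map_pow, QuotientGroup.mk'_apply, QuotientGroup.eq_one_iff]
    exact pow_mem_powSub L ℓ m
  obtain ⟨k, hk⟩ := hpg.exists_card_eq
  rw [← Nat.card_eq_fintype_card, hk, Nat.cast_pow]
  apply pow_ne_zero
  intro h0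
  rw [CharP.cast_eq_zero_iff κ p] at h0
  rcases (Nat.dvd_prime hℓ).1 h0 with h1 | h1
  · exact CharP.char_ne_one κ p h1
  · exact hne h1.symm

theorem field_case [NoZeroDivisors (MonoidAlgebra κ L)]
    (hsep : ∀ (D : Finset L) (p : ℕ), (1 : L) ∉ D →
      ∃ ℓ : ℕ, ℓ.Prime ∧ ℓ ≠ p ∧ ∀ d ∈ D, d ∉ powSub L ℓ)
    (a y : MonoidAlgebra κ L) (ha : a ≠ 0) (hy : y ≠ 0)
    (H : ∀ n, 0 < n → ∃ j, a ^ j * y ∈ J κ L n) : False := by
  classical
  obtain ⟨p, hp⟩ := CharP.exists κ
  set b := a * y with hb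
  have hb0 : b ≠ 0 := mul_ne_zero ha hy
  let D : Finset L := (b.coeff.support.offDiag).image fun mm => mm.1⁻¹ * mm.2
  have hD : (1 : L) ∉ D := by
    intro h1
    obtain ⟨⟨m, m'⟩, hmm, h⟩ := Finset.mem_image.1 h1
    rw [Finset.mem_offDiag] at hmm
    apply hmm.2.2
    have : m⁻¹ * m' = 1 := h
    rw [inv_mul_eq_one] at this
    exact this
  obtain ⟨ℓ, hℓ, hne, hDℓ⟩ := hsep D p hD
  have hred : IsReduced (MonoidAlgebra κ (L ⧸ powSub L ℓ)) := isReduced_quot κ L ℓ p hℓ hne
  obtain ⟨j, hj⟩ := H ℓ hℓ.pos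
  rw [mem_J_iff, map_mul, map_pow] at hj
  have hqb : qHom κ L ℓ b = 0 := by
    apply IsNilpotent.eq_zero
    rcases Nat.eq_zero_or_pos j with h0 | h0
    · rw [h0, pow_zero, one_mul] at hj
      rw [hb, map_mul, hj, mul_zero]
      exact IsNilpotent.zero
    · refine ⟨j, ?_⟩
      rw [hb, map_mul, mul_pow]
      obtain ⟨i, rfl⟩ : ∃ i, j = i + 1 := ⟨j - 1, by omega⟩
      rw [pow_succ (qHom κ L ℓ y), ← mul_assoc, mul_right_comm, hj, zero_mul]
  apply hb0
  have hinj : Set.InjOn (QuotientGroup.mk' (powSub L ℓ)) (b.coeff.support : Set L) := by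
    intro m hm m' hm' hmm
    by_contra hne'
    have h1 : m⁻¹ * m' ∈ D := by
      apply Finset.mem_image.2
      exact ⟨(m, m'), Finset.mem_offDiag.2 ⟨hm, hm', hne'⟩, rfl⟩
    apply hDℓ _ h1
    rw [QuotientGroup.mk'_apply, QuotientGroup.mk'_apply, QuotientGroup.eq] at hmm
    exact hmm
  have h2 := Finsupp.mapDomain_injOn (M := κ) (b.coeff.support : Set L) hinj
  have h3 : b.coeff = (0 : MonoidAlgebra κ L).coeff := by
    apply h2
    · exact Set.Subset.refl _
    · simp
    · have : (qHom κ L ℓ b).coeff = 0 := by rw [hqb]; rfl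
      simpa [qHom] using this
  exact MonoidAlgebra.coeff_injective h3

end Field



section StepC

variable {R : Type u} [CommRing R] {L : Type w} [CommGroup L]

/-- The hypothesis of density: for every `n > 0`, `a^j x` lies in `J n` for some `j`. -/
def Hyp (R : Type u) [CommRing R] (L : Type w) [CommGroup L] (a x : MonoidAlgebra R L) : Prop :=
  ∀ n, 0 < n → ∃ j, a ^ j * x ∈ J R L n

theorem qHom_mapRingHom {R' : Type u'} [CommRing R'] (g : R →+* R') (n : ℕ)
    (v : MonoidAlgebra R L) :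
    MonoidAlgebra.mapRingHom _ g (qHom R L n v) = qHom R' L n (MonoidAlgebra.mapRingHom L g v) :=
  RingHom.congr_fun (MonoidAlgebra.mapRingHom_comp_mapDomainRingHom g _) v

theorem Hyp.map {R' : Type u'} [CommRing R'] (g : R →+* R') {a x : MonoidAlgebra R L}
    (h : Hyp R L a x) :
    Hyp R' L (MonoidAlgebra.mapRingHom L g a) (MonoidAlgebra.mapRingHom L g x) := by
  intro n hn
  obtain ⟨j, hj⟩ := h n hn
  refine ⟨j, ?_⟩
  rw [← map_pow, ← map_mul]
  exact map_J_le g n (Ideal.mem_map_of_mem _ hj)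

theorem exists_ideal (x : MonoidAlgebra R L) (hx : x ≠ 0) :
    ∃ (W : Ideal R) (n₀ : R), n₀ ∉ W ∧ (¬ ∀ m, x.coeff m ∈ W) ∧
      (∀ m, x.coeff m ∈ W ⊔ Ideal.span {n₀}) ∧
      ∀ r : R, r * n₀ ∉ W → ∃ s : R, (1 - s * r) * n₀ ∈ W := by
  classical
  set N : Ideal R := Ideal.span (Set.range x.coeff) with hN
  have hfg : N.FG := Submodule.fg_span x.coeff.finite_range
  have hcomp := (Submodule.fg_iff_compact N).1 hfg
  rw [CompleteLattice.isCompactElement_iff_le_of_directed_sSup_le] at hcomp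
  let S : Set (Ideal R) := {W | ¬ N ≤ W}
  have hbot : (⊥ : Ideal R) ∈ S := by
    intro h
    apply hx
    apply MonoidAlgebra.coeff_injective
    ext m
    have : x.coeff m ∈ (⊥ : Ideal R) := h (Ideal.subset_span ⟨m, rfl⟩)
    simpa using this
  obtain ⟨W, -, hW⟩ := zorn_le_nonempty₀ S (by
    intro c hcS hc y hy
    refine ⟨sSup c, ?_, fun z hz => le_sSup hz⟩
    intro hle
    obtain ⟨W, hWc, hNW⟩ := hcomp c ⟨y, hy⟩ hc.directedOn hle
    exact hcS hWc hNW) ⊥ hbot
  have hWS : ¬ N ≤ W := hW.prop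
  have hbig : ∀ W' : Ideal R, W ≤ W' → ¬ W' ≤ W → N ≤ W' := by
    intro W' h1 h2
    by_contra h3
    exact h2 (hW.le_of_ge h3 h1)
  have hnot : ¬ ∀ m, x.coeff m ∈ W := by
    intro h
    apply hWS
    rw [hN, Ideal.span_le]
    rintro _ ⟨m, rfl⟩
    exact h m
  obtain ⟨m₁, hm₁⟩ := not_forall.1 hnot
  refine ⟨W, x.coeff m₁, hm₁, hnot, ?_, ?_⟩
  · intro m
    have h1 : N ≤ W ⊔ Ideal.span {x.coeff m₁} := by
      apply hbig _ le_sup_left
      intro h
      exact hm₁ (h (Ideal.mem_sup_right (Ideal.mem_span_singleton_self _)))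
    exact h1 (Ideal.subset_span ⟨m, rfl⟩)
  · intro r hr
    have h1 : N ≤ W ⊔ Ideal.span {r * x.coeff m₁} := by
      apply hbig _ le_sup_left
      intro h
      exact hr (h (Ideal.mem_sup_right (Ideal.mem_span_singleton_self _)))
    have h2 : x.coeff m₁ ∈ W ⊔ Ideal.span {r * x.coeff m₁} := h1 (Ideal.subset_span ⟨m₁, rfl⟩)
    obtain ⟨w, hw, c, hc, hwc⟩ := Submodule.mem_sup.1 h2
    obtain ⟨s, rfl⟩ := Ideal.mem_span_singleton'.1 hc
    refine ⟨s, ?_⟩
    have : (1 - s * r) * x.coeff m₁ = w := by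
      linear_combination (-1 : R) * hwc
    rw [this]
    exact hw

theorem eq_zero_of_isUnit_coeff [Group.FG L]
    (hdom : ∀ (κ : Type u) [Field κ], NoZeroDivisors (MonoidAlgebra κ L))
    (hsep : ∀ (D : Finset L) (p : ℕ), (1 : L) ∉ D →
      ∃ ℓ : ℕ, ℓ.Prime ∧ ℓ ≠ p ∧ ∀ d ∈ D, d ∉ powSub L ℓ)
    (a x : MonoidAlgebra R L) (m₀ : L) (hu : IsUnit (a.coeff m₀)) (H : Hyp R L a x) : x = 0 := by
  classical
  by_contra hx
  obtain ⟨W, n₀, hn₀, hnot, hcoef, hmax⟩ := exists_ideal x hx
  let 𝔪 : Ideal R := Submodule.comap (LinearMap.toSpanSingleton R R n₀) W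
  have hmem : ∀ r : R, r ∈ 𝔪 ↔ r * n₀ ∈ W := by
    intro r
    change LinearMap.toSpanSingleton R R n₀ r ∈ W ↔ _
    rw [LinearMap.toSpanSingleton_apply, smul_eq_mul]
  have h𝔪 : 𝔪.IsMaximal := by
    rw [Ideal.isMaximal_iff]
    refine ⟨?_, ?_⟩
    · rw [hmem, one_mul]; exact hn₀
    · intro I r hI hr hrI
      rw [hmem] at hr
      obtain ⟨s, hs⟩ := hmax r hr
      have h1 : 1 - s * r ∈ I := hI ((hmem _).2 hs)
      have h2 : s * r ∈ I := I.mul_mem_left s hrI
      have := I.add_mem h1 h2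
      simpa using this
  let κ := R ⧸ 𝔪
  let _ : Field κ := Ideal.Quotient.field 𝔪
  let g : R →+* κ := Ideal.Quotient.mk 𝔪
  let gW : R →+* R ⧸ W := Ideal.Quotient.mk W
  have hex : ∀ m, ∃ r : R, x.coeff m - r * n₀ ∈ W := by
    intro m
    obtain ⟨w, hw, c, hc, hwc⟩ := Submodule.mem_sup.1 (hcoef m)
    obtain ⟨r, rfl⟩ := Ideal.mem_span_singleton'.1 hc
    refine ⟨r, ?_⟩
    rw [← hwc, add_sub_cancel_right]
    exact hw
  choose rr hrr using hex
  set y : MonoidAlgebra R L := ∑ m ∈ x.coeff.support, MonoidAlgebra.single m (rr m) with hy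
  have hycoef : ∀ m, y.coeff m = if m ∈ x.coeff.support then rr m else 0 := by
    intro m
    rw [hy, MonoidAlgebra.coeff_sum, Finsupp.finsetSum_apply]
    simp only [MonoidAlgebra.coeff_single, Finsupp.single_apply]
    rw [Finset.sum_ite_eq']
  have hF1 : ∀ m, x.coeff m - y.coeff m * n₀ ∈ W := by
    intro m
    rw [hycoef]
    split_ifs with h
    · exact hrr m
    · rw [Finsupp.notMem_support_iff] at h
      rw [h, zero_mul, sub_zero]
      exact W.zero_mem
  set C : MonoidAlgebra R L := MonoidAlgebra.single 1 n₀ with hC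
  have hu' : MonoidAlgebra.mapRingHom L gW (x - C * y) = 0 := by
    apply MonoidAlgebra.coeff_injective
    ext m
    rw [MonoidAlgebra.coeff_mapRingHom, MonoidAlgebra.coeff_sub, Finsupp.sub_apply, hC,
      MonoidAlgebra.coeff_single_one_mul]
    change Ideal.Quotient.mk W _ = 0
    rw [Ideal.Quotient.eq_zero_iff_mem, mul_comm]
    exact hF1 m
  -- `ȳ ≠ 0`
  have hy0 : MonoidAlgebra.mapRingHom L g y ≠ 0 := by
    intro h0
    apply hnot
    intro m
    have h1 : g (y.coeff m) = 0 := by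
      have := congrArg (fun z => z.coeff m) h0
      simpa [MonoidAlgebra.coeff_mapRingHom] using this
    have h2 : y.coeff m ∈ 𝔪 := Ideal.Quotient.eq_zero_iff_mem.1 h1
    rw [hmem] at h2
    have := W.add_mem (hF1 m) h2
    simpa using this
  have ha0 : MonoidAlgebra.mapRingHom L g a ≠ 0 := by
    intro h0
    have h1 : g (a.coeff m₀) = 0 := by
      have := congrArg (fun z => z.coeff m₀) h0
      simpa [MonoidAlgebra.coeff_mapRingHom] using this
    exact (hu.map g).ne_zero h1
  have hH : ∀ n, 0 < n → ∃ j, (MonoidAlgebra.mapRingHom L g a) ^ j *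
      (MonoidAlgebra.mapRingHom L g y) ∈ J κ L n := by
    intro n hn
    obtain ⟨j, hj⟩ := H n hn
    refine ⟨j, ?_⟩
    rw [mem_J_iff] at hj ⊢
    rw [← map_pow, ← map_mul, ← qHom_mapRingHom]
    -- coefficients of `qHom (a^j y)` lie in 𝔪
    apply MonoidAlgebra.coeff_injective
    ext c
    rw [MonoidAlgebra.coeff_mapRingHom]
    change Ideal.Quotient.mk 𝔪 _ = 0
    rw [Ideal.Quotient.eq_zero_iff_mem, hmem]
    -- `n₀ * coeff = coeff of qHom (C * a^j * y)`
    have h1 : MonoidAlgebra.mapRingHom _ gW (qHom R L n (a ^ j * (x - C * y))) = 0 := by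
      rw [qHom_mapRingHom, map_mul, hu', mul_zero, map_zero]
    have h2 : qHom R L n (a ^ j * (x - C * y)) =
        - (MonoidAlgebra.single 1 n₀ * qHom R L n (a ^ j * y)) := by
      have : a ^ j * (x - C * y) = a ^ j * x - C * (a ^ j * y) := by ring
      rw [this, map_sub, hj, zero_sub, map_mul, hC, qHom_single, map_one]
    rw [h2, map_neg, neg_eq_zero] at h1
    have h3 := congrArg (fun z => z.coeff c) h1
    simp only [MonoidAlgebra.coeff_mapRingHom, MonoidAlgebra.coeff_single_one_mul] at h3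
    have h4 : gW (n₀ * (qHom R L n (a ^ j * y)).coeff c) = 0 := by simpa using h3
    rw [mul_comm]
    exact Ideal.Quotient.eq_zero_iff_mem.1 h4
  have := hdom κ
  exact field_case κ L hsep _ _ ha0 hy0 hH

end StepC



section Torus

variable {R : Type u} [CommRing R] {L : Type w} [CommGroup L]

theorem exists_pow_coeff_mul_eq_zero [Group.FG L]
    (hdom : ∀ (κ : Type u) [Field κ], NoZeroDivisors (MonoidAlgebra κ L))
    (hsep : ∀ (D : Finset L) (p : ℕ), (1 : L) ∉ D →
      ∃ ℓ : ℕ, ℓ.Prime ∧ ℓ ≠ p ∧ ∀ d ∈ D, d ∉ powSub L ℓ)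
    (a x : MonoidAlgebra R L) (H : Hyp R L a x) (m : L) :
    ∃ N : ℕ, MonoidAlgebra.single (1 : L) ((a.coeff m) ^ N) * x = 0 := by
  classical
  set f := a.coeff m with hf
  let g : R →+* Localization.Away f := algebraMap R (Localization.Away f)
  have hu : IsUnit ((MonoidAlgebra.mapRingHom L g a).coeff m) := by
    rw [MonoidAlgebra.coeff_mapRingHom]
    exact IsLocalization.Away.algebraMap_isUnit f
  have h0 := eq_zero_of_isUnit_coeff hdom hsep _ _ m hu (H.map g)
  have h1 : ∀ m', ∃ n : ℕ, f ^ n * x.coeff m' = 0 := by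
    intro m'
    have h2 : g (x.coeff m') = 0 := by
      have := congrArg (fun z => z.coeff m') h0
      simpa [MonoidAlgebra.coeff_mapRingHom] using this
    obtain ⟨⟨_, n, rfl⟩, hn⟩ :=
      (IsLocalization.map_eq_zero_iff (Submonoid.powers f) (Localization.Away f) _).1 h2
    exact ⟨n, hn⟩
  choose nn hnn using h1
  refine ⟨x.coeff.support.sup nn, ?_⟩
  apply MonoidAlgebra.coeff_injective
  ext m'
  rw [MonoidAlgebra.coeff_single_one_mul]
  by_cases hm' : m' ∈ x.coeff.support
  · have hle : nn m' ≤ x.coeff.support.sup nn := Finset.le_sup hm'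
    obtain ⟨k, hk⟩ := Nat.exists_eq_add_of_le hle
    rw [hk, pow_add, mul_right_comm, hnn, zero_mul]
    rfl
  · rw [Finsupp.notMem_support_iff] at hm'
    rw [hm', mul_zero]
    rfl

theorem exists_pow_mul_eq_zero (a x : MonoidAlgebra R L)
    (h : ∀ m, ∃ N : ℕ, MonoidAlgebra.single (1 : L) ((a.coeff m) ^ N) * x = 0) :
    ∃ l : ℕ, a ^ l * x = 0 := by
  classical
  choose nn hnn using h
  set N := a.coeff.support.sup nn with hN
  let I : Ideal (MonoidAlgebra R L) := Submodule.annihilator (Ideal.span {x})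
  have hI : ∀ b : MonoidAlgebra R L, b ∈ I ↔ b * x = 0 := by
    intro b
    change b ∈ Submodule.annihilator (Submodule.span (MonoidAlgebra R L) {x}) ↔ _
    rw [Submodule.mem_annihilator_span_singleton, smul_eq_mul]
  have ha : a = ∑ m ∈ a.coeff.support, MonoidAlgebra.single m (a.coeff m) := by
    conv_lhs => rw [← MonoidAlgebra.sum_coeff_single a]
    rfl
  have h1 := Ideal.sum_pow_mem_span_pow a.coeff.support
    (fun m => (MonoidAlgebra.single m (a.coeff m) : MonoidAlgebra R L)) N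
  rw [← ha] at h1
  refine ⟨a.coeff.support.card * N + 1, ?_⟩
  rw [← hI]
  refine (Ideal.span_le.2 ?_) h1
  rintro _ ⟨m, hm, rfl⟩
  change _ ∈ I
  rw [hI]
  have hle : nn m ≤ N := Finset.le_sup hm
  obtain ⟨k, hk⟩ := Nat.exists_eq_add_of_le hle
  have h2 : (MonoidAlgebra.single m (a.coeff m) : MonoidAlgebra R L) ^ (N + 1) =
      MonoidAlgebra.single (m ^ (N + 1)) ((a.coeff m) ^ (k + 1)) *
        MonoidAlgebra.single 1 ((a.coeff m) ^ nn m) := by
    rw [MonoidAlgebra.single_pow, MonoidAlgebra.single_mul_single, mul_one, ← pow_add]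
    congr 2
    omega
  change MonoidAlgebra.single m (a.coeff m) ^ (N + 1) * x = 0
  rw [h2, mul_assoc, hnn, mul_zero]

theorem torus_dense [Group.FG L]
    (hdom : ∀ (κ : Type u) [Field κ], NoZeroDivisors (MonoidAlgebra κ L))
    (hsep : ∀ (D : Finset L) (p : ℕ), (1 : L) ∉ D →
      ∃ ℓ : ℕ, ℓ.Prime ∧ ℓ ≠ p ∧ ∀ d ∈ D, d ∉ powSub L ℓ)
    (e : ℕ) (a x : MonoidAlgebra R L)
    (H : ∀ n, 0 < n → ∃ j, a ^ j * x ∈ J R L (e * n)) : ∃ l : ℕ, a ^ l * x = 0 := by
  have H' : Hyp R L a x := by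
    intro n hn
    obtain ⟨j, hj⟩ := H n hn
    exact ⟨j, J_mono (Dvd.intro_left e rfl) hj⟩
  exact exists_pow_mul_eq_zero a x
    (fun m => exists_pow_coeff_mul_eq_zero hdom hsep a x H' m)

end Torus



section Diag

theorem hsep_pi (j : Type) [Fintype j] (D : Finset (j → Multiplicative ℤ)) (p : ℕ)
    (h1 : (1 : j → Multiplicative ℤ) ∉ D) :
    ∃ ℓ : ℕ, ℓ.Prime ∧ ℓ ≠ p ∧ ∀ d ∈ D, d ∉ powSub (j → Multiplicative ℤ) ℓ := by
  classical
  set B := p + ∑ d ∈ D, ∑ i, (Multiplicative.toAdd (d i)).natAbs with hB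
  obtain ⟨ℓ, hℓB, hℓ⟩ := Nat.exists_infinite_primes (B + 1)
  refine ⟨ℓ, hℓ, by omega, ?_⟩
  rintro d hd ⟨u, hu⟩
  have hd1 : d ≠ 1 := fun h => h1 (h ▸ hd)
  obtain ⟨i, hi⟩ : ∃ i, d i ≠ 1 := by
    by_contra hcon
    push Not at hcon
    exact hd1 (funext hcon)
  have h2 : Multiplicative.toAdd (d i) = (ℓ : ℤ) * Multiplicative.toAdd (u i) := by
    rw [← hu]
    simp [powMonoidHom_apply, Pi.pow_apply, toAdd_pow]
  have h3 : (Multiplicative.toAdd (d i)).natAbs ≠ 0 := by
    rw [Int.natAbs_ne_zero]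
    intro h0
    apply hi
    exact Multiplicative.toAdd.injective h0
  have h4 : ℓ ∣ (Multiplicative.toAdd (d i)).natAbs := by
    rw [h2, Int.natAbs_mul, Int.natAbs_natCast]
    exact Dvd.intro _ rfl
  have h5 : ℓ ≤ (Multiplicative.toAdd (d i)).natAbs := Nat.le_of_dvd (Nat.pos_of_ne_zero h3) h4
  have h6 : (Multiplicative.toAdd (d i)).natAbs ≤ ∑ d ∈ D, ∑ i, (Multiplicative.toAdd (d i)).natAbs := by
    calc (Multiplicative.toAdd (d i)).natAbs ≤ ∑ i, (Multiplicative.toAdd (d i)).natAbs :=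
          Finset.single_le_sum (f := fun i => (Multiplicative.toAdd (d i)).natAbs)
            (fun _ _ => Nat.zero_le _) (Finset.mem_univ i)
      _ ≤ _ := Finset.single_le_sum (f := fun d => ∑ i, (Multiplicative.toAdd (d i)).natAbs)
            (fun _ _ => Nat.zero_le _) hd
  omega

variable (R : Type u) [CommRing R]

theorem diag_dense (M : Type w) [CommGroup M] [Group.FG M] (a x : MonoidAlgebra R M)
    (H : ∀ n, 0 < n → ∃ j, a ^ j * x ∈ J R M n) : ∃ l : ℕ, a ^ l * x = 0 := by
  classical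
  obtain ⟨ι, j, _, _, p, hp, e, ⟨φ⟩⟩ := CommGroup.equiv_free_prod_prod_multiplicative_zmod M
  let L := j → Multiplicative ℤ
  let F := (i : ι) → Multiplicative (ZMod (p i ^ e i))
  have : ∀ i, NeZero (p i ^ e i) := fun i => ⟨pow_ne_zero _ (hp i).ne_zero⟩
  have hFfin : Finite F := inferInstance
  set E := Nat.card F with hE
  have hE0 : 0 < E := Nat.card_pos
  have hFE : ∀ f : F, f ^ E = 1 := fun f => pow_card_eq_one'
  have hLfg : Group.FG L := by
    have hs : Function.Surjective ((MonoidHom.fst L F).comp φ.toMonoidHom) := by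
      intro l
      refine ⟨φ.symm (l, 1), ?_⟩
      simp
    exact Group.fg_of_surjective hs
  let Φ : MonoidAlgebra R M ≃+* MonoidAlgebra (MonoidAlgebra R F) L :=
    (MonoidAlgebra.mapDomainRingEquiv R φ).trans MonoidAlgebra.curryRingEquiv
  have hΦ : ∀ n, Ideal.map (Φ : MonoidAlgebra R M →+* _) (J R M (E * n)) ≤
      J (MonoidAlgebra R F) L (E * n) := by
    intro n
    rw [J_eq_span, Ideal.map_span, Ideal.span_le]
    rintro _ ⟨_, ⟨m, rfl⟩, rfl⟩
    have h1 : (Φ : MonoidAlgebra R M →+* MonoidAlgebra (MonoidAlgebra R F) L)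
        (MonoidAlgebra.single (m ^ (E * n)) 1 - 1) =
        (MonoidAlgebra.single ((φ m).1 ^ (E * n)) 1 - 1 :
          MonoidAlgebra (MonoidAlgebra R F) L) := by
      have h2 : ((φ m).2) ^ (E * n) = 1 := by rw [pow_mul, hFE, one_pow]
      simp only [RingEquiv.coe_toRingHom, map_sub, map_one]
      congr 1
      simp only [Φ, RingEquiv.trans_apply, MonoidAlgebra.mapDomainRingEquiv_single, map_pow]
      rw [show (φ m) ^ (E * n) = (((φ m).1) ^ (E * n), ((φ m).2) ^ (E * n)) from rfl, h2,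
        MonoidAlgebra.curryRingEquiv_single]
      rfl
    rw [h1]
    exact gen_mem_J _ _
  have H' : ∀ n, 0 < n → ∃ k, (Φ a) ^ k * (Φ x) ∈ J (MonoidAlgebra R F) L (E * n) := by
    intro n hn
    obtain ⟨k, hk⟩ := H (E * n) (Nat.mul_pos hE0 hn)
    refine ⟨k, ?_⟩
    have := hΦ n (Ideal.mem_map_of_mem _ hk)
    simpa using this
  obtain ⟨l, hl⟩ := torus_dense (R := MonoidAlgebra R F) (L := L)
    (fun κ _ => inferInstance) (fun D p h => hsep_pi j D p h) E (Φ a) (Φ x) H'
  refine ⟨l, ?_⟩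
  apply Φ.injective
  rw [map_mul, map_pow, hl, map_zero]

end Diag




section Descent

variable (R : Type u) [CommRing R] (A : Type u) [CommRing A] [HopfAlgebra R A]

/-- Schematic density of the torsion subgroups, elementwise form. -/
def Dense : Prop :=
  ∀ a x : A, (∀ n, 0 < n → ∃ j, a ^ j * x ∈ SGA3b.torsionIdeal R A n) → ∃ l : ℕ, a ^ l * x = 0

variable {R A}

theorem dense_of_bialgEquiv {B : Type u} [CommRing B] [HopfAlgebra R B] (e : A ≃ₐc[R] B)
    (h : Dense R B) : Dense R A := by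
  intro a x H
  obtain ⟨l, hl⟩ := h (e a) (e x) (by
    intro n hn
    obtain ⟨j, hj⟩ := H n hn
    refine ⟨j, ?_⟩
    rw [← comap_torsionIdeal_equiv e n] at hj
    simpa using hj)
  refine ⟨l, e.injective ?_⟩
  rw [map_mul, map_pow, map_zero]
  exact hl

theorem torsionIdeal_le_J (M : Type u) [CommGroup M] (n : ℕ) :
    SGA3b.torsionIdeal R (MonoidAlgebra R M) n ≤ J R M n := by
  rw [torsionIdeal_le_iff]
  intro a ha
  rw [mem_J_iff]
  have key : ∀ b : MonoidAlgebra R M, qHom R M n (SGA3b.powConv R (MonoidAlgebra R M) n b) =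
      MonoidAlgebra.single 1 (Coalgebra.counit (R := R) b) := by
    intro b
    induction b using MonoidAlgebra.induction_linear with
    | zero => simp
    | add f g hf hg => rw [map_add, map_add, map_add, hf, hg, MonoidAlgebra.single_add]
    | single m r =>
      rw [powConv_single, qHom_single, MonoidAlgebra.counit_single]
      congr 1
      rw [QuotientGroup.mk'_apply, QuotientGroup.eq_one_iff]
      exact pow_mem_powSub M n m
  rw [key, ha, MonoidAlgebra.single_zero]

theorem dense_monoidAlgebra (M : Type u) [CommGroup M] [Group.FG M] :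
    Dense R (MonoidAlgebra R M) := by
  intro a x H
  apply diag_dense R M a x
  intro n hn
  obtain ⟨j, hj⟩ := H n hn
  exact ⟨j, torsionIdeal_le_J M n hj⟩

theorem dense_of_isDiag (hft : Algebra.FiniteType R A) (h : SGA3b.IsDiag R A) : Dense R A := by
  obtain ⟨M, _, ⟨e⟩⟩ := h
  rcases subsingleton_or_nontrivial R with hR | hR
  · intro a x _
    have : Subsingleton A := Module.subsingleton R A
    exact ⟨0, Subsingleton.elim _ _⟩
  · have hft' : Algebra.FiniteType R (MonoidAlgebra R M) :=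
      hft.equiv (e : A ≃ₐ[R] MonoidAlgebra R M)
    have hfg : Group.FG M := MonoidAlgebra.finiteType_iff_group_fg.1 hft'
    exact dense_of_bialgEquiv e (dense_monoidAlgebra M)

theorem dense_of_faithfullyFlat (S : Type u) [CommRing S] [Algebra R S]
    [Module.FaithfullyFlat R S] (hS : Dense S (S ⊗[R] A)) : Dense R A := by
  intro a x H
  obtain ⟨l, hl⟩ := hS ((1 : S) ⊗ₜ[R] a) ((1 : S) ⊗ₜ[R] x) (by
    intro n hn
    obtain ⟨j, hj⟩ := H n hn
    refine ⟨j, ?_⟩
    rw [torsionIdeal_baseChange S n]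
    have h1 : ((1 : S) ⊗ₜ[R] a) ^ j * ((1 : S) ⊗ₜ[R] x) =
        (Algebra.TensorProduct.includeRight : A →ₐ[R] S ⊗[R] A) (a ^ j * x) := by
      rw [Algebra.TensorProduct.includeRight_apply, Algebra.TensorProduct.tmul_pow, one_pow,
        Algebra.TensorProduct.tmul_mul_tmul, one_mul]
    rw [h1]
    exact Ideal.mem_map_of_mem _ hj)
  refine ⟨l, ?_⟩
  apply Module.FaithfullyFlat.tensorProduct_mk_injective (A := R) (B := S) A
  change (1 : S) ⊗ₜ[R] (a ^ l * x) = (1 : S) ⊗ₜ[R] (0 : A)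
  rw [TensorProduct.tmul_zero, ← hl, Algebra.TensorProduct.tmul_pow, one_pow,
    Algebra.TensorProduct.tmul_mul_tmul, one_mul]

theorem dense_of_isMultTypeConst (hft : Algebra.FiniteType R A)
    (h : SGA3b.IsMultTypeConst R A) : Dense R A := by
  obtain ⟨R', _, _, hff, hd⟩ := h
  exact dense_of_faithfullyFlat R' (dense_of_isDiag inferInstance hd)

theorem dense_of_isMultType (hft : Algebra.FiniteType R A)
    (h : SGA3b.IsMultType R A) : Dense R A := by
  classical
  obtain ⟨s, hs, hf⟩ := h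
  have hloc : ∀ f ∈ s, Dense (Localization.Away f) (Localization.Away f ⊗[R] A) :=
    fun f hfs => dense_of_isMultTypeConst inferInstance (hf f hfs)
  intro a x H
  obtain ⟨t, hts, ht⟩ := (Ideal.span_eq_top_iff_finite s).mp hs
  have hex : ∀ f : R, ∃ l : ℕ, f ∈ t →
      ((1 : Localization.Away f) ⊗ₜ[R] a) ^ l * ((1 : Localization.Away f) ⊗ₜ[R] x) = 0 := by
    intro f
    by_cases hft' : f ∈ t
    · obtain ⟨l, hl⟩ := hloc f (hts hft') ((1 : Localization.Away f) ⊗ₜ[R] a)
        ((1 : Localization.Away f) ⊗ₜ[R] x) (by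
          intro n hn
          obtain ⟨j, hj⟩ := H n hn
          refine ⟨j, ?_⟩
          rw [torsionIdeal_baseChange (Localization.Away f) n]
          have h1 : ((1 : Localization.Away f) ⊗ₜ[R] a) ^ j * ((1 : Localization.Away f) ⊗ₜ[R] x) =
              (Algebra.TensorProduct.includeRight : A →ₐ[R] Localization.Away f ⊗[R] A)
                (a ^ j * x) := by
            rw [Algebra.TensorProduct.includeRight_apply, Algebra.TensorProduct.tmul_pow, one_pow,
              Algebra.TensorProduct.tmul_mul_tmul, one_mul]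
          rw [h1]
          exact Ideal.mem_map_of_mem _ hj)
      exact ⟨l, fun _ => hl⟩
    · exact ⟨0, fun h => absurd h hft'⟩
  choose lf hlf using hex
  refine ⟨t.sup lf, ?_⟩
  rw [← Submodule.mem_bot R]
  refine Submodule.mem_of_span_eq_top_of_smul_pow_mem ⊥ (t : Set R) ht _ fun f => ?_
  have hle : lf (f : R) ≤ t.sup lf := Finset.le_sup f.2
  obtain ⟨k, hk⟩ := Nat.exists_eq_add_of_le hle
  have h2 : TensorProduct.mk R (Localization.Away (f : R)) A 1 (a ^ (t.sup lf) * x) =
      TensorProduct.mk R (Localization.Away (f : R)) A 1 0 := by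
    rw [map_zero]
    change (1 : Localization.Away (f : R)) ⊗ₜ[R] (a ^ (t.sup lf) * x) = 0
    have h3 : (1 : Localization.Away (f : R)) ⊗ₜ[R] (a ^ (t.sup lf) * x) =
        ((1 : Localization.Away (f : R)) ⊗ₜ[R] a) ^ k *
          (((1 : Localization.Away (f : R)) ⊗ₜ[R] a) ^ lf (f : R) *
            ((1 : Localization.Away (f : R)) ⊗ₜ[R] x)) := by
      rw [← mul_assoc, ← pow_add, Algebra.TensorProduct.tmul_pow, one_pow,
        Algebra.TensorProduct.tmul_mul_tmul, one_mul, add_comm, ← hk]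
    rw [h3, hlf f f.2, mul_zero]
  obtain ⟨n, hn⟩ := IsLocalizedModule.Away.exists_of_eq (f : R) h2
  refine ⟨n, ?_⟩
  rw [Submodule.mem_bot, hn, smul_zero]

/-- S2981 in library form. -/
theorem main (hft : Algebra.FiniteType R A) (h : SGA3b.IsMultType R A) (a : A) :
    ⨅ n : {n : ℕ // 0 < n}, Ideal.map (algebraMap A (Localization.Away a))
      (SGA3b.torsionIdeal R A n.1) = ⊥ := by
  have hD := dense_of_isMultType hft h
  rw [eq_bot_iff]
  intro y hy
  rw [Ideal.mem_iInf] at hy
  rw [Ideal.mem_bot]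
  obtain ⟨x, s, rfl⟩ := IsLocalization.exists_mk'_eq (Submonoid.powers a) y
  have H : ∀ n, 0 < n → ∃ j, a ^ j * x ∈ SGA3b.torsionIdeal R A n := by
    intro n hn
    have h1 := hy ⟨n, hn⟩
    have h2 : algebraMap A (Localization.Away a) x ∈
        Ideal.map (algebraMap A (Localization.Away a)) (SGA3b.torsionIdeal R A n) := by
      rw [← IsLocalization.mk'_spec (Localization.Away a) x s]
      exact Ideal.mul_mem_right _ _ h1
    rw [IsLocalization.algebraMap_mem_map_algebraMap_iff (Submonoid.powers a)] at h2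
    obtain ⟨m, ⟨j, rfl⟩, hm⟩ := h2
    exact ⟨j, hm⟩
  obtain ⟨l, hl⟩ := hD a x H
  rw [IsLocalization.mk'_eq_zero_iff]
  exact ⟨⟨a ^ l, l, rfl⟩, hl⟩

end Descent


end Groth.Agent.Lib.TorsDense41
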