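import Groth.Agent.Lib.OpenSub55b
import Groth.Agent.Lib.TorsDense41

/-!
# Density of torsion in a commutative group with an open diagonalisable subgroup (alg. closed field)
-/

set_option autoImplicit false
set_option linter.unusedSectionVars false
set_option linter.unusedVariables false

universe u

open TensorProduct WithConv

namespace Groth.Agent.Lib.OpenSub55

open Groth.Agent.Lib.MultType58 Groth.Agent.Lib.MultTors55

section NSS

variable {K : Type u} [Field K] [IsAlgClosed K] {C : Type u} [CommRing C] [Algebra K C]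

/-- Weak Nullstellensatz: a proper ideal of a finite type algebra over an algebraically closed
field has a rational point. -/
theorem exists_point_of_ne_top (hft : Algebra.FiniteType K C) (J : Ideal C) (hJ : J ≠ ⊤) :
    ∃ x : C →ₐ[K] K, ∀ c ∈ J, x c = 0 := by
  obtain ⟨𝔪, h𝔪, hJ𝔪⟩ := Ideal.exists_le_maximal J hJ
  letI : Field (C ⧸ 𝔪) := Ideal.Quotient.field 𝔪
  haveI : Algebra.FiniteType K (C ⧸ 𝔪) :=
    hft.of_surjective (Ideal.Quotient.mkₐ K 𝔪) (Ideal.Quotient.mkₐ_surjective K 𝔪)
  haveI : Module.Finite K (C ⧸ 𝔪) := finite_of_finite_type_of_isJacobsonRing K (C ⧸ 𝔪)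
  haveI : Algebra.IsIntegral K (C ⧸ 𝔪) := Algebra.IsIntegral.of_finite K (C ⧸ 𝔪)
  have hbij : Function.Bijective (algebraMap K (C ⧸ 𝔪)) :=
    IsAlgClosed.algebraMap_bijective_of_isIntegral
  let E : K ≃ₐ[K] (C ⧸ 𝔪) := AlgEquiv.ofBijective (Algebra.ofId K (C ⧸ 𝔪)) hbij
  refine ⟨(E.symm : (C ⧸ 𝔪) →ₐ[K] K).comp (Ideal.Quotient.mkₐ K 𝔪), ?_⟩
  intro c hc
  have : Ideal.Quotient.mkₐ K 𝔪 c = 0 := by
    rw [Ideal.Quotient.mkₐ_eq_mk, Ideal.Quotient.eq_zero_iff_mem]
    exact hJ𝔪 hc
  rw [AlgHom.comp_apply, this, map_zero]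

/-- An idempotent vanishing at all rational points is zero. -/
theorem idem_eq_zero_of_points (hft : Algebra.FiniteType K C) {f : C} (hf : IsIdempotentElem f)
    (h : ∀ x : C →ₐ[K] K, x f = 0) : f = 0 := by
  by_contra hne
  have hJ : Ideal.span {1 - f} ≠ (⊤ : Ideal C) := by
    intro htop
    rw [Ideal.eq_top_iff_one, Ideal.mem_span_singleton'] at htop
    obtain ⟨c, hc⟩ := htop
    apply hne
    have : f = c * (1 - f) * f := by rw [hc, one_mul]
    rw [this, mul_assoc, sub_mul, one_mul, hf.eq, sub_self, mul_zero]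
  obtain ⟨x, hx⟩ := exists_point_of_ne_top hft _ hJ
  have h1 := hx (1 - f) (Ideal.subset_span rfl)
  rw [map_sub, map_one, h x, sub_zero] at h1
  exact one_ne_zero h1

end NSS

section Sub

variable {K : Type u} [Field K] {C : Type u} [CommRing C] [HopfAlgebra K C]
  {C₀ : Type u} [CommRing C₀] [HopfAlgebra K C₀]
  (π : C →ₐc[K] C₀) (hπ : Function.Surjective π) (e : C) (he : IsIdempotentElem e)
  (hker : RingHom.ker π = Ideal.span {e})

/-- The points of the subgroup `Spec C₀`. -/
noncomputable def subPts : Subgroup (WithConv (C →ₐ[K] K)) := (precomp K π).range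

include hker in
theorem pi_e : π e = 0 := by
  have : e ∈ RingHom.ker π := by rw [hker]; exact Ideal.subset_span rfl
  exact (RingHom.mem_ker).1 this

include hπ hker in
theorem mem_subPts_iff (g : WithConv (C →ₐ[K] K)) : g ∈ subPts π ↔ g.ofConv e = 0 := by
  constructor
  · rintro ⟨γ, rfl⟩
    rw [precomp_apply, pi_e π e hker, map_zero]
  · intro hg
    have H : RingHom.ker (π : C →ₐ[K] C₀).toRingHom ≤ RingHom.ker g.ofConv.toRingHom := by
      intro c hc
      have hc' : c ∈ RingHom.ker π := hc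
      rw [hker, Ideal.mem_span_singleton'] at hc'
      obtain ⟨a, rfl⟩ := hc'
      rw [RingHom.mem_ker]
      change g.ofConv (a * e) = 0
      rw [map_mul, hg, mul_zero]
    refine ⟨toConv (AlgHom.liftOfSurjective (π : C →ₐ[K] C₀) hπ g.ofConv H), ?_⟩
    apply WithConv.ofConv_injective
    exact AlgHom.liftOfSurjective_comp (π : C →ₐ[K] C₀) hπ g.ofConv H

include he in
theorem point_e_eq (g : WithConv (C →ₐ[K] K)) : g.ofConv e = 0 ∨ g.ofConv e = 1 := by
  have h : IsIdempotentElem (g.ofConv e) := he.map g.ofConv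
  exact (IsIdempotentElem.iff_eq_zero_or_one).1 h

include hπ hker he in
theorem point_u_of_mem {g : WithConv (C →ₐ[K] K)} (hg : g ∈ subPts π) : g.ofConv (1 - e) = 1 := by
  rw [map_sub, map_one, (mem_subPts_iff π hπ e hker g).1 hg, sub_zero]

include hπ hker he in
theorem point_u_of_not_mem {g : WithConv (C →ₐ[K] K)} (hg : g ∉ subPts π) :
    g.ofConv (1 - e) = 0 := by
  rw [map_sub, map_one]
  rcases point_e_eq e he g with h | h
  · exact absurd ((mem_subPts_iff π hπ e hker g).2 h) hg
  · rw [h, sub_self]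

include hπ hker he in
theorem mem_of_point_u_ne_zero {g : WithConv (C →ₐ[K] K)} (hg : g.ofConv (1 - e) ≠ 0) :
    g ∈ subPts π := by
  by_contra h
  exact hg (point_u_of_not_mem π hπ e he hker h)

end Sub

section Orth

variable {K : Type u} [Field K] [IsAlgClosed K] {C : Type u} [CommRing C] [HopfAlgebra K C]
  [Coalgebra.IsCocomm K C] {C₀ : Type u} [CommRing C₀] [HopfAlgebra K C₀]
  (hft : Algebra.FiniteType K C)
  (π : C →ₐc[K] C₀) (hπ : Function.Surjective π) (e : C) (he : IsIdempotentElem e)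
  (hker : RingHom.ker π = Ideal.span {e})

include hft hπ he hker in
theorem u_mul_transl_eq_zero {g : WithConv (C →ₐ[K] K)} (hg : g ∉ subPts π) :
    (1 - e) * transl g (1 - e) = 0 := by
  have hu : IsIdempotentElem (1 - e) := he.one_sub
  apply idem_eq_zero_of_points hft (hu.mul (hu.map (transl g)))
  intro x
  rw [map_mul]
  by_contra hne
  have h1 : x (1 - e) ≠ 0 := left_ne_zero_of_mul hne
  have h2 : x (transl g (1 - e)) ≠ 0 := right_ne_zero_of_mul hne
  have hx : toConv x ∈ subPts π := mem_of_point_u_ne_zero π hπ e he hker (g := toConv x) h1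
  have h3 : (g * toConv x).ofConv (1 - e) ≠ 0 := by
    rw [← point_transl]; exact h2
  have hgx : g * toConv x ∈ subPts π := mem_of_point_u_ne_zero π hπ e he hker h3
  exact hg (((subPts π).mul_mem_cancel_right hx).1 hgx)

omit [IsAlgClosed K] [Coalgebra.IsCocomm K C] in
theorem exists_finset_lift (z : C ⊗[K] C) : ∃ s : Finset C, ∀ g : C →ₐ[K] K,
    Algebra.TensorProduct.lift ((Algebra.ofId K C).comp g) (AlgHom.id K C)
      (fun _ _ => Commute.all _ _) z ∈ Submodule.span K (s : Set C) := by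
  classical
  induction z using TensorProduct.induction_on with
  | zero => exact ⟨∅, fun g => by simp⟩
  | tmul a b =>
    refine ⟨{b}, fun g => ?_⟩
    rw [Algebra.TensorProduct.lift_tmul]
    have : ((Algebra.ofId K C).comp g) a * (AlgHom.id K C) b = g a • b := by
      rw [AlgHom.comp_apply, Algebra.ofId_apply, AlgHom.id_apply, Algebra.smul_def]
    rw [this]
    apply Submodule.smul_mem
    apply Submodule.subset_span
    simp
  | add z w hz hw =>
    obtain ⟨s, hs⟩ := hz
    obtain ⟨t, ht⟩ := hw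
    refine ⟨s ∪ t, fun g => ?_⟩
    rw [map_add]
    apply add_mem
    · exact Submodule.span_mono (by simp) (hs g)
    · exact Submodule.span_mono (by simp) (ht g)

omit [IsAlgClosed K] [Coalgebra.IsCocomm K C] in
theorem exists_finset_transl (c : C) : ∃ s : Finset C, ∀ g : WithConv (C →ₐ[K] K),
    transl g c ∈ Submodule.span K (s : Set C) := by
  obtain ⟨s, hs⟩ := exists_finset_lift (K := K) (Coalgebra.comul (R := K) c)
  refine ⟨s, fun g => ?_⟩
  have h := hs g.ofConv
  have h2 : transl g c = Algebra.TensorProduct.lift ((Algebra.ofId K C).comp g.ofConv)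
      (AlgHom.id K C) (fun _ _ => Commute.all _ _) (Coalgebra.comul (R := K) c) := by
    change (incl C g * toConv (AlgHom.id K C)) c = _
    rw [AlgHom.convMul_apply]
    rfl
  rw [h2]
  exact h

omit [IsAlgClosed K] [Coalgebra.IsCocomm K C] in
theorem linearIndependent_of_orth {ι : Type*} (v : ι → C) (h0 : ∀ i, v i ≠ 0)
    (hid : ∀ i, v i * v i = v i) (horth : ∀ i j, i ≠ j → v i * v j = 0) :
    LinearIndependent K v := by
  classical
  rw [linearIndependent_iff']
  intro t c hsum i hi
  have h1 := congrArg (fun y => y * v i) hsum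
  simp only [Finset.sum_mul, zero_mul, smul_mul_assoc] at h1
  rw [Finset.sum_eq_single i] at h1
  · rw [hid] at h1
    exact (smul_eq_zero.1 h1).resolve_right (h0 i)
  · intro j _ hj
    rw [horth j i hj, smul_zero]
  · intro h
    exact absurd hi h

include hft hπ he hker in
theorem exists_pow_mem_subPts (h : WithConv (C →ₐ[K] K)) :
    ∃ m : ℕ, 0 < m ∧ h ^ m ∈ subPts π := by
  classical
  obtain ⟨s, hs⟩ := exists_finset_transl (K := K) (1 - e)
  by_contra hcon
  push_neg at hcon
  let v : Fin (s.card + 1) → C := fun i => transl (h ^ (i : ℕ)) (1 - e)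
  have hu : IsIdempotentElem (1 - e) := he.one_sub
  have hεu : (1 : WithConv (C →ₐ[K] K)).ofConv (1 - e) = 1 :=
    point_u_of_mem π hπ e he hker (Subgroup.one_mem _)
  have h0 : ∀ i, v i ≠ 0 := by
    intro i hi
    have := point_transl ((h ^ (i : ℕ))⁻¹) (h ^ (i : ℕ)) (1 - e)
    rw [mul_inv_cancel, hεu] at this
    rw [show transl (h ^ (i : ℕ)) (1 - e) = 0 from hi, map_zero] at this
    exact zero_ne_one this
  have hid : ∀ i, v i * v i = v i := fun i => (hu.map (transl _)).eq
  have key : ∀ i j : Fin (s.card + 1), (i : ℕ) < (j : ℕ) → v i * v j = 0 := by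
    intro i j hij
    have hj : h ^ (j : ℕ) = h ^ ((j : ℕ) - (i : ℕ)) * h ^ (i : ℕ) := by
      rw [← pow_add, Nat.sub_add_cancel hij.le]
    have hvj : v j = transl (h ^ (i : ℕ)) (transl (h ^ ((j : ℕ) - (i : ℕ))) (1 - e)) := by
      rw [transl_apply_transl, ← hj]
    rw [hvj, ← map_mul,
      u_mul_transl_eq_zero hft π hπ e he hker (hcon _ (Nat.sub_pos_of_lt hij)), map_zero]
  have horth : ∀ i j, i ≠ j → v i * v j = 0 := by
    intro i j hij
    rcases lt_or_gt_of_ne (Fin.val_ne_of_ne hij) with h1 | h1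
    · exact key i j h1
    · rw [mul_comm]; exact key j i h1
  have hli := linearIndependent_of_orth (K := K) v h0 hid horth
  let v' : Fin (s.card + 1) → Submodule.span K (s : Set C) := fun i => ⟨v i, hs _⟩
  have hli' : LinearIndependent K v' :=
    LinearIndependent.of_comp (Submodule.span K (s : Set C)).subtype hli
  have h1 := hli'.fintype_card_le_finrank
  have h2 : Module.finrank K (Submodule.span K (s : Set C)) ≤ s.card :=
    finrank_span_finset_le_card (R := K) s
  rw [Fintype.card_fin] at h1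
  omega

include hft hπ he hker in
theorem exists_torsion_rep (hd : SGA3b.IsDiag K C₀) (h : WithConv (C →ₐ[K] K)) :
    ∃ (h' : WithConv (C →ₐ[K] K)) (N : ℕ), 0 < N ∧ h' ^ N = 1 ∧ h' * h ∈ subPts π := by
  obtain ⟨m, hm, hmem⟩ := exists_pow_mem_subPts hft π hπ e he hker h
  obtain ⟨γ, hγ⟩ := hmem
  have hft₀ : Algebra.FiniteType K C₀ := hft.of_surjective (π : C →ₐ[K] C₀) hπ
  obtain ⟨y, t, ht, hy⟩ := exists_torsion_twist hft₀ hd γ m hm
  refine ⟨(h * precomp K π y)⁻¹, m * t, Nat.mul_pos hm ht, ?_, ?_⟩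
  · rw [inv_pow, inv_eq_one, pow_mul, mul_pow, ← hγ, ← map_pow, ← map_mul, ← map_pow, hy, map_one]
  · have : (h * precomp K π y)⁻¹ * h = (precomp K π y)⁻¹ := by
      rw [mul_inv_rev, inv_mul_cancel_right]
    rw [this]
    exact Subgroup.inv_mem _ ⟨y, rfl⟩

include hft hπ he hker in
/-- Density of torsion in a commutative group of finite type over an algebraically closed field
having an open diagonalisable subgroup. -/
theorem dense_of_open_diag (hd : SGA3b.IsDiag K C₀) : TorsDense41.Dense K C := by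
  have hft₀ : Algebra.FiniteType K C₀ := hft.of_surjective (π : C →ₐ[K] C₀) hπ
  have hD₀ : TorsDense41.Dense K C₀ := TorsDense41.dense_of_isDiag hft₀ hd
  intro a x H
  have key : ∀ h : WithConv (C →ₐ[K] K), ∃ (f : C) (l : ℕ),
      h.ofConv f = 1 ∧ f * (a ^ l * x) = 0 := by
    intro h
    obtain ⟨h', N, hN, hN1, hmem⟩ := exists_torsion_rep hft π hπ e he hker hd h
    have hN1' : h'⁻¹ ^ N = 1 := by rw [inv_pow, hN1, inv_one]
    have hστ : ∀ c, transl h' (transl h'⁻¹ c) = c := by
      intro c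
      rw [transl_apply_transl, inv_mul_cancel, transl_one]
      rfl
    obtain ⟨l, hl⟩ := hD₀ (π (transl h'⁻¹ a)) (π (transl h'⁻¹ x)) (by
      intro n hn
      obtain ⟨j, hj⟩ := H (N * n) (Nat.mul_pos hN hn)
      refine ⟨j, ?_⟩
      have h1 : transl h'⁻¹ (a ^ j * x) ∈ SGA3b.torsionIdeal K C (N * n) :=
        map_transl_torsionIdeal_le h'⁻¹ N n hN1' (Ideal.mem_map_of_mem _ hj)
      have h2 : transl h'⁻¹ (a ^ j * x) ∈ SGA3b.torsionIdeal K C n := by
        rw [mul_comm N n] at h1
        exact torsionIdeal_mul_le n N h1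
      have h3 := map_torsionIdeal_le π n (Ideal.mem_map_of_mem π h2)
      rw [map_mul, map_pow] at h3
      rw [map_mul, map_pow] at h3
      exact h3)
    refine ⟨transl h' (1 - e), l, ?_, ?_⟩
    · rw [point_transl]
      exact point_u_of_mem π hπ e he hker hmem
    · have h4 : (transl h'⁻¹ a) ^ l * transl h'⁻¹ x ∈ RingHom.ker π := by
        rw [RingHom.mem_ker, map_mul, map_pow]
        exact hl
      rw [hker, Ideal.mem_span_singleton'] at h4
      obtain ⟨c, hc⟩ := h4
      have h5 : (1 - e) * ((transl h'⁻¹ a) ^ l * transl h'⁻¹ x) = 0 := by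
        rw [← hc, mul_comm c e, ← mul_assoc, sub_mul, one_mul, he.eq, sub_self, zero_mul]
      have h6 := congrArg (transl h') h5
      rw [map_mul, map_mul, map_pow, hστ, hστ, map_zero] at h6
      exact h6
  let I' : Ideal C :=
    { carrier := {y | ∃ l : ℕ, y * (a ^ l * x) = 0}
      add_mem' := by
        rintro y₁ y₂ ⟨l₁, h₁⟩ ⟨l₂, h₂⟩
        refine ⟨l₁ + l₂, ?_⟩
        have e1 : (y₁ + y₂) * (a ^ (l₁ + l₂) * x) =
            a ^ l₂ * (y₁ * (a ^ l₁ * x)) + a ^ l₁ * (y₂ * (a ^ l₂ * x)) := by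
          rw [pow_add]; ring
        rw [e1, h₁, h₂, mul_zero, mul_zero, add_zero]
      zero_mem' := ⟨0, zero_mul _⟩
      smul_mem' := by
        rintro c y ⟨l, hl⟩
        refine ⟨l, ?_⟩
        rw [smul_eq_mul, mul_assoc, hl, mul_zero] }
  have htop : I' = ⊤ := by
    by_contra hne
    obtain ⟨x₀, hx₀⟩ := exists_point_of_ne_top hft I' hne
    obtain ⟨f, l, hf1, hf2⟩ := key (toConv x₀)
    have h7 := hx₀ f ⟨l, hf2⟩
    rw [ofConv_toConv] at hf1
    rw [hf1] at h7
    exact one_ne_zero h7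
  have h1 : (1 : C) ∈ I' := by
    rw [htop]
    trivial
  obtain ⟨l, hl⟩ := h1
  exact ⟨l, by rwa [one_mul] at hl⟩

end Orth

end Groth.Agent.Lib.OpenSub55
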