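import Groth.Agent.Lib.OpenSub55c
import Groth.Agent.Lib.MultTors55f

/-!
# Density of torsion in a commutative group of finite type over a field with an open subgroup of
multiplicative type (S5300 in library form)
-/

set_option autoImplicit false
set_option linter.unusedSectionVars false
set_option linter.unusedVariables false

universe u

open TensorProduct WithConv

namespace Groth.Agent.Lib.OpenSub55

open Groth.Agent.Lib.MultType58 Groth.Agent.Lib.MultTors55

section Reduce

variable {k : Type u} [Field k] {C : Type u} [CommRing C] [HopfAlgebra k C]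
  [Coalgebra.IsCocomm k C] {C₀ : Type u} [CommRing C₀] [HopfAlgebra k C₀]

theorem dense_of_open_multType (hft : Algebra.FiniteType k C) (π : C →ₐc[k] C₀)
    (hπ : Function.Surjective π) (e : C) (he : IsIdempotentElem e)
    (hker : RingHom.ker π = Ideal.span {e}) (hG : SGA3b.IsMultType k C₀) :
    TorsDense41.Dense k C := by
  obtain ⟨R', _, _, hff, hd⟩ := isMultTypeConst_of_isLocalRing hG
  haveI : Nontrivial R' := by
    have : Nontrivial (k ⊗[k] R') :=
      (Module.FaithfullyFlat.nontrivial_tensorProduct_iff_left k k (N := R')).mpr inferInstance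
    exact (TensorProduct.lid k R').symm.toEquiv.nontrivial
  obtain ⟨𝔫, h𝔫⟩ := Ideal.exists_maximal R'
  letI : Field (R' ⧸ 𝔫) := Ideal.Quotient.field 𝔫
  let L := AlgebraicClosure (R' ⧸ 𝔫)
  have h1 : GLSpan R' (R' ⊗[k] C₀) := GLSpan.of_isDiag hd
  have h2 : GLSpan L (L ⊗[k] C₀) := GLSpan.trans k R' L C₀ h1
  have h5 : SGA3b.IsDiag L (L ⊗[k] C₀) := isDiag_of_GLSpan h2
  haveI : Module.FaithfullyFlat k L := ff_of_isField k (Field.toIsField k) L
  apply TorsDense41.dense_of_faithfullyFlat L
  have hπL : Function.Surjective (Bialgebra.TensorProduct.map (BialgHom.id L L) π :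
      L ⊗[k] C →ₐc[L] L ⊗[k] C₀) :=
    Algebra.TensorProduct.map_surjective (AlgHom.id L L) (π : C →ₐ[k] C₀)
      Function.surjective_id hπ
  have hkerL : RingHom.ker (Bialgebra.TensorProduct.map (BialgHom.id L L) π :
      L ⊗[k] C →ₐc[L] L ⊗[k] C₀) = Ideal.span {(1 : L) ⊗ₜ[k] e} := by
    have h3 := ker_baseChange L π hπ
    have h4 : RingHom.ker (π : C →ₐ[k] C₀) = Ideal.span {e} := by
      rw [← hker]
      ext x
      simp only [RingHom.mem_ker]
      rfl
    rw [h4, Ideal.map_span, Set.image_singleton,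
      Algebra.TensorProduct.includeRight_apply] at h3
    rw [← h3]
    ext x
    simp only [RingHom.mem_ker]
    rfl
  have heL : IsIdempotentElem ((1 : L) ⊗ₜ[k] e) := by
    unfold IsIdempotentElem
    rw [Algebra.TensorProduct.tmul_mul_tmul, one_mul, he.eq]
  have hftL : Algebra.FiniteType L (L ⊗[k] C) := by
    haveI := hft
    infer_instance
  exact dense_of_open_diag hftL _ hπL _ heL hkerL h5

end Reduce

section Final

variable {R : Type u} [CommRing R] {A : Type u} [CommRing A] [HopfAlgebra R A]

/-- The localisation form of density of torsion. -/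
theorem iInf_eq_bot_of_dense (hD : TorsDense41.Dense R A) (a : A) :
    ⨅ n : {n : ℕ // 0 < n}, Ideal.map (algebraMap A (Localization.Away a))
      (SGA3b.torsionIdeal R A n.1) = ⊥ := by
  rw [eq_bot_iff]
  intro y hy
  rw [Ideal.mem_iInf] at hy
  rw [Ideal.mem_bot]
  obtain ⟨x, s, rfl⟩ := IsLocalization.exists_mk'_eq (Submonoid.powers a) y
  have H : ∀ n, 0 < n → ∃ j, a ^ j * x ∈ SGA3b.torsionIdeal R A n := by
    intro n hn
    have h1 := hy ⟨n, hn⟩
    have h2 : algebraMap A (Localization.Away a) x ∈
        Ideal.map (algebraMap A (Localization.Away a)) (SGA3b.torsionIdeal R A n) := by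
      rw [← IsLocalization.mk'_spec (Localization.Away a) x s]
      exact Ideal.mul_mem_right _ _ h1
    rw [IsLocalization.algebraMap_mem_map_algebraMap_iff (Submonoid.powers a)] at h2
    obtain ⟨m, ⟨j, rfl⟩, hm⟩ := h2
    exact ⟨j, hm⟩
  obtain ⟨l, hl⟩ := hD a x H
  rw [IsLocalization.mk'_eq_zero_iff]
  exact ⟨⟨a ^ l, l, rfl⟩, hl⟩

end Final

end Groth.Agent.Lib.OpenSub55
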