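import Groth.Agent.Lib.OrbitDim38
import Groth.Agent.Lib.Cartier38c

/-!
# Stable points and fibres of the affine quotient (helper38)

Translations between the `x (g · f)` formulation of orbits / closures / stabilisers and the
`GLin` vocabulary, and the consequences of `exists_actPt_of_closed_of_finite_stab`:
a stable point's orbit is the whole fibre of the quotient map, and stability is equivalent to
finiteness of all stabilisers in the fibre.
-/

set_option autoImplicit false
set_option linter.unusedSectionVars false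
universe u v w

namespace Groth.Agent.Lib.OrbitDim38
open Groth.Agent.Lib.OrbitOpen38 Groth.Agent.Lib.GITOrbit38 Groth.Agent.Lib.GITQuot38
  Groth.Agent.Lib.GITPts38

section Translate
variable {k : Type u} [Field k] {A : Type v} [CommRing A] [Bialgebra k A]
  {R : Type w} [CommRing R] [Algebra k R] [HopfRep.Comod k A R] [GLin.IsCoactAlg k A R]

theorem exists_actPt_iff (p z : R →ₐ[k] k) :
    (∃ g : A →ₐ[k] k, z = GLin.actPt k g p) ↔
      ∃ g : A →ₐ[k] k, ∀ f : R, z f = p (HopfRep.Comod.act k A R g f) := by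
  constructor
  · rintro ⟨g, rfl⟩
    exact ⟨g, fun f => by rw [apply_act]; rfl⟩
  · rintro ⟨g, hg⟩
    exact ⟨g, AlgHom.ext fun f => by rw [hg, apply_act]; rfl⟩

theorem actPt_eq_iff (p z : R →ₐ[k] k) (g : A →ₐ[k] k) :
    GLin.actPt k g p = z ↔ ∀ f : R, p (HopfRep.Comod.act k A R g f) = z f := by
  constructor
  · rintro rfl f
    rw [apply_act]; rfl
  · intro h
    exact AlgHom.ext fun f => by rw [← h f, apply_act]; rfl

theorem stab_set_eq (x : R →ₐ[k] k) :
    {g : A →ₐ[k] k | ∀ f : R, x (HopfRep.Comod.act k A R g f) = x f} =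
      {g : A →ₐ[k] k | GLin.actPt k g x = x} := by
  ext g
  exact (actPt_eq_iff x x g).symm

theorem inOrbitClosure_iff_forall_act [IsAlgClosed k] [Algebra.FiniteType k A]
    (p z : R →ₐ[k] k) :
    GLin.InOrbitClosure k A p z ↔
      ∀ f : R, (∀ g : A →ₐ[k] k, p (HopfRep.Comod.act k A R g f) = 0) → z f = 0 := by
  constructor
  · intro h f hf
    exact apply_eq_zero_of_forall_act h hf
  · intro h f hf
    rw [RingHom.mem_ker] at hf ⊢
    apply h
    intro g
    rw [apply_act, hf, map_zero]

end Translate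

section Stable
variable {k : Type u} [Field k] [IsAlgClosed k] {A : Type u} [CommRing A] [HopfAlgebra k A]
  [Algebra.FiniteType k A] [IsReduced A]
  {R : Type u} [CommRing R] [Algebra k R] [HopfRep.Comod k A R] [GLin.IsCoactAlg k A R]
  [Algebra.FiniteType k R]

/-- closedness of the orbit is invariant under translation -/
theorem closed_actPt (x : R →ₐ[k] k)
    (hcl : ∀ z : R →ₐ[k] k, GLin.InOrbitClosure k A x z → ∃ g : A →ₐ[k] k, z = GLin.actPt k g x)
    (g : A →ₐ[k] k) (z : R →ₐ[k] k) (hz : GLin.InOrbitClosure k A (GLin.actPt k g x) z) :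
    ∃ g' : A →ₐ[k] k, z = GLin.actPt k g' (GLin.actPt k g x) := by
  have h1 : GLin.InOrbitClosure k A x (GLin.actPt k g x) :=
    inOrbitClosure_actPt (inOrbitClosure_self x) g
  have h2 : GLin.InOrbitClosure k A x z := (ker_orbitHom_le h1).trans hz
  obtain ⟨g', rfl⟩ := hcl z h2
  refine ⟨(((WithConv.toConv g)⁻¹ : WithConv (A →ₐ[k] k)) * WithConv.toConv g').ofConv, ?_⟩
  rw [← actPt_actPt]
  show _ = GLin.actPt k g' (GLin.actPt k (WithConv.toConv g)⁻¹.ofConv (GLin.actPt k g x))
  rw [actPt_inv_actPt (WithConv.toConv g) x]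

/-- finiteness of the stabiliser is invariant under translation -/
theorem finite_stab_actPt (x : R →ₐ[k] k)
    (hfin : {g : A →ₐ[k] k | GLin.actPt k g x = x}.Finite) (g : A →ₐ[k] k) :
    {h : A →ₐ[k] k | GLin.actPt k h (GLin.actPt k g x) = GLin.actPt k g x}.Finite := by
  refine (hfin.image fun s : A →ₐ[k] k =>
    (((WithConv.toConv g)⁻¹ : WithConv (A →ₐ[k] k)) * WithConv.toConv s *
      WithConv.toConv g).ofConv).subset ?_
  intro h hh
  have hh' : GLin.actPt k h (GLin.actPt k g x) = GLin.actPt k g x := hh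
  refine ⟨(WithConv.toConv g * WithConv.toConv h * (WithConv.toConv g)⁻¹).ofConv, ?_, ?_⟩
  · show GLin.actPt k (WithConv.toConv g * WithConv.toConv h * (WithConv.toConv g)⁻¹).ofConv x = x
    rw [← actPt_actPt, ← actPt_actPt]
    show GLin.actPt k (WithConv.toConv g)⁻¹.ofConv (GLin.actPt k h (GLin.actPt k g x)) = x
    rw [hh']
    exact actPt_inv_actPt (WithConv.toConv g) x
  · show ((WithConv.toConv g)⁻¹ * WithConv.toConv
      (WithConv.toConv g * WithConv.toConv h * (WithConv.toConv g)⁻¹).ofConv *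
        WithConv.toConv g).ofConv = h
    rw [WithConv.toConv_ofConv]
    have : (WithConv.toConv g)⁻¹ * (WithConv.toConv g * WithConv.toConv h *
        (WithConv.toConv g)⁻¹) * WithConv.toConv g = WithConv.toConv h := by group
    rw [this]

/-- **The orbit of a stable point is the whole fibre of the affine quotient map.** -/
theorem exists_actPt_of_same_invariants (hG : HopfRep.IsLinearlyReductive k A) (x : R →ₐ[k] k)
    (hcl : ∀ z : R →ₐ[k] k, GLin.InOrbitClosure k A x z → ∃ g : A →ₐ[k] k, z = GLin.actPt k g x)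
    (hfin : {g : A →ₐ[k] k | GLin.actPt k g x = x}.Finite)
    (y : R →ₐ[k] k) (hy : ∀ f ∈ GLin.invariants k A R, y f = x f) :
    ∃ g : A →ₐ[k] k, y = GLin.actPt k g x := by
  obtain ⟨y₀, hy₀F, hcl₀, h2, h3⟩ := exists_closed_orbit_in_fibre hG x
  obtain ⟨g, hg⟩ := h3 x (fun _ _ => rfl) hcl
  have h4 : GLin.InOrbitClosure k A y y₀ := h2 y hy
  have h5 : GLin.InOrbitClosure k A y x := by
    rw [hg]
    exact inOrbitClosure_actPt h4 g
  exact exists_actPt_of_closed_of_finite_stab x y hcl hfin h5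

/-- **Stability is finiteness of all stabilisers in the fibre.** -/
theorem stable_iff_fibre (hG : HopfRep.IsLinearlyReductive k A) (x : R →ₐ[k] k) :
    ((∀ z : R →ₐ[k] k, GLin.InOrbitClosure k A x z → ∃ g : A →ₐ[k] k, z = GLin.actPt k g x) ∧
      {g : A →ₐ[k] k | GLin.actPt k g x = x}.Finite) ↔
    ∀ z : R →ₐ[k] k, (∀ f ∈ GLin.invariants k A R, z f = x f) →
      {g : A →ₐ[k] k | GLin.actPt k g z = z}.Finite := by
  constructor
  · rintro ⟨hcl, hfin⟩ z hz
    obtain ⟨g, rfl⟩ := exists_actPt_of_same_invariants hG x hcl hfin z hz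
    exact finite_stab_actPt x hfin g
  · intro h
    refine ⟨?_, h x fun _ _ => rfl⟩
    obtain ⟨y₀, hy₀F, hcl₀, h2, h3⟩ := exists_closed_orbit_in_fibre hG x
    have h4 : GLin.InOrbitClosure k A x y₀ := h2 x fun _ _ => rfl
    obtain ⟨g, hg⟩ := exists_actPt_of_closed_of_finite_stab y₀ x hcl₀ (h y₀ hy₀F) h4
    rw [hg]
    exact closed_actPt y₀ hcl₀ g

end Stable

end Groth.Agent.Lib.OrbitDim38
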