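import Groth.Agent.Lib.OrbitStable45
import Groth.Agent.Lib.StabSq45
import Mathlib.AlgebraicGeometry.AlgClosed.Basic

/-!
# Meeting orbits of rational points are equal, over an algebraically closed field (helper45)

`k` algebraically closed, `G` a group scheme locally of finite type over `k` acting on `X`.
If the orbits of two rational points `x₁`, `x₂` meet, then `x₂ = g x₁` for a rational point `g`.
-/

set_option autoImplicit false
set_option linter.unusedSectionVars false
universe u
open CategoryTheory CategoryTheory.Limits MonoidalCategory CartesianMonoidalCategory MonObj GrpObj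
  AlgebraicGeometry
open Groth.Agent.Lib.GrpTopPts45 Groth.Agent.Lib.GrpAction Groth.Agent.Lib.OrbitStable45
  Groth.Agent.Lib.StabSq45

namespace Groth.Agent.Lib.OrbitMeet45

variable {k : Type u} [Field k] [IsAlgClosed k] {G X : Over (Spec (CommRingCat.of k))} [GrpObj G]
  (a : AlgGrp.Action G X)

/-- Two morphisms from schemes locally of finite type over an algebraically closed field whose
images meet agree on a pair of rational points. -/
lemma exists_rational_points_of_meet {P Q : Over (Spec (CommRingCat.of k))}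
    [LocallyOfFiniteType P.hom] [LocallyOfFiniteType Q.hom] (f : P ⟶ X) (g : Q ⟶ X)
    (h : (Set.range f.left ∩ Set.range g.left).Nonempty) :
    ∃ (p : 𝟙_ (Over (Spec (CommRingCat.of k))) ⟶ P) (q : 𝟙_ (Over (Spec (CommRingCat.of k))) ⟶ Q),
      p ≫ f = q ≫ g := by
  obtain ⟨z, ⟨p₀, hp₀⟩, ⟨q₀, hq₀⟩⟩ := h
  obtain ⟨w, -, -⟩ := Scheme.Pullback.exists_preimage_pullback (f := f.left) (g := g.left)
    p₀ q₀ (hp₀.trans hq₀.symm)
  have hg : LocallyOfFiniteType g.left := by
    have h1 : LocallyOfFiniteType (g.left ≫ X.hom) := by rw [Over.w]; infer_instance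
    exact locallyOfFiniteType_of_comp g.left X.hom
  have hW : LocallyOfFiniteType (pullback.fst f.left g.left ≫ P.hom) := inferInstance
  have hJ : JacobsonSpace ↥(pullback f.left g.left) :=
    LocallyOfFiniteType.jacobsonSpace (pullback.fst f.left g.left ≫ P.hom)
  obtain ⟨c, -, hc'⟩ := nonempty_inter_closedPoints (X := ↥(pullback f.left g.left))
    (Z := Set.univ) ⟨w, trivial⟩ isOpen_univ.isLocallyClosed
  have hc : IsClosed ({c} : Set ↥(pullback f.left g.left)) := hc'
  let s := pointOfClosedPoint (pullback.fst f.left g.left ≫ P.hom) c hc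
  have hs : s ≫ pullback.fst f.left g.left ≫ P.hom = 𝟙 _ := pointOfClosedPoint_comp _ c hc
  have hs' : s ≫ pullback.snd f.left g.left ≫ Q.hom = 𝟙 _ := by
    rw [← Over.w g, ← Category.assoc (pullback.snd _ _), ← pullback.condition, Category.assoc,
      Over.w f]
    exact hs
  refine ⟨Over.homMk (s ≫ pullback.fst f.left g.left) (by rw [Category.assoc]; exact hs),
    Over.homMk (s ≫ pullback.snd f.left g.left) (by rw [Category.assoc]; exact hs'), ?_⟩
  apply Over.OverMorphism.ext
  simp only [Over.comp_left, Over.homMk_left, Category.assoc]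
  rw [pullback.condition]

/-- If the orbits of two rational points meet, the points are translates of each other. -/
theorem exists_translate_of_orbits_meet [LocallyOfFiniteType G.hom]
    (x₁ x₂ : 𝟙_ (Over (Spec (CommRingCat.of k))) ⟶ X)
    (h : (orbit a x₁ ∩ orbit a x₂).Nonempty) :
    ∃ g : 𝟙_ (Over (Spec (CommRingCat.of k))) ⟶ G, lift g x₁ ≫ a.act = x₂ := by
  obtain ⟨g₁, g₂, hg⟩ := exists_rational_points_of_meet (a.orbitMap x₁) (a.orbitMap x₂) h
  have e : ∀ (g : 𝟙_ (Over (Spec (CommRingCat.of k))) ⟶ G)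
      (x : 𝟙_ (Over (Spec (CommRingCat.of k))) ⟶ X), g ≫ a.orbitMap x = lift g x ≫ a.act := by
    intro g x
    rw [comp_orbitMap, toUnit_unique (toUnit (𝟙_ (Over (Spec (CommRingCat.of k))))) (𝟙 _),
      Category.id_comp]
  refine ⟨g₂⁻¹ * g₁, ?_⟩
  rw [mul_act, ← e g₁ x₁, hg, e g₂ x₂, ← mul_act, inv_mul_cancel, one_act]

end Groth.Agent.Lib.OrbitMeet45
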