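import Groth.Agent.Lib.GITPts38
import Mathlib.RingTheory.Spectrum.Prime.Chevalley
import Mathlib.RingTheory.Ideal.MinimalPrime.Noetherian
import Mathlib.RingTheory.Ideal.MinimalPrime.Localization

set_option autoImplicit false
universe u v
open Topology

namespace Groth.Agent.Lib.OrbitOpen38

section Top
variable {X : Type*} [TopologicalSpace X]

/-- For an irreducible set `Z`, a constructible set or its complement contains a nonempty
relatively open subset of `Z`. -/
theorem exists_open_inter_subset_or {Z : Set X} (hZ : IsIrreducible Z) {C : Set X}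
    (hC : IsConstructible C) :
    (∃ U, IsOpen U ∧ (Z ∩ U).Nonempty ∧ Z ∩ U ⊆ C) ∨
      (∃ U, IsOpen U ∧ (Z ∩ U).Nonempty ∧ Z ∩ U ⊆ Cᶜ) := by
  induction hC using IsConstructible.empty_union_induction with
  | open_retrocompact U hU _ =>
    by_cases h : (Z ∩ U).Nonempty
    · exact Or.inl ⟨U, hU, h, Set.inter_subset_right⟩
    · refine Or.inr ⟨Set.univ, isOpen_univ, by simpa using hZ.1, ?_⟩
      intro p hp hpU
      exact h ⟨p, hp.1, hpU⟩
  | union s hs t ht ihs iht =>
    rcases ihs with ⟨U, hU, hne, hsub⟩ | ⟨U, hU, hne, hsub⟩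
    · exact Or.inl ⟨U, hU, hne, hsub.trans Set.subset_union_left⟩
    · rcases iht with ⟨V, hV, hne', hsub'⟩ | ⟨V, hV, hne', hsub'⟩
      · exact Or.inl ⟨V, hV, hne', hsub'.trans Set.subset_union_right⟩
      · refine Or.inr ⟨U ∩ V, hU.inter hV, hZ.2 U V hU hV hne hne', ?_⟩
        intro p hp
        rw [Set.compl_union]
        exact ⟨hsub ⟨hp.1, hp.2.1⟩, hsub' ⟨hp.1, hp.2.2⟩⟩
  | compl s hs ih =>
    rcases ih with ⟨U, hU, hne, hsub⟩ | ⟨U, hU, hne, hsub⟩
    · exact Or.inr ⟨U, hU, hne, by rwa [compl_compl]⟩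
    · exact Or.inl ⟨U, hU, hne, hsub⟩

end Top

section Lift
variable {k : Type*} [Field k] [IsAlgClosed k] {R A : Type*} [CommRing R] [CommRing A]
  [Algebra k R] [Algebra k A] [Algebra.FiniteType k R] [Algebra.FiniteType k A]

/-- **Generic lifting of rational points** (a form of Chevalley's theorem): for a map `φ : R → A`
of finitely generated algebras over an algebraically closed field there is `h`, not nilpotent
in `A`, such that every rational point of `V(ker φ) ∩ D(h)` lifts to `A`. -/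
theorem exists_generic_lift [Nontrivial A] (φ : R →ₐ[k] A) :
    ∃ h : R, ¬ IsNilpotent (φ h) ∧ ∀ z : R →ₐ[k] k, RingHom.ker φ ≤ RingHom.ker z → z h ≠ 0 →
      ∃ g : A →ₐ[k] k, z = g.comp φ := by
  classical
  have hRn : IsNoetherianRing R := Algebra.FiniteType.isNoetherianRing k R
  set K : Ideal R := RingHom.ker φ with hK
  have hKtop : K ≠ ⊤ := by
    intro h
    have h1 : (1 : R) ∈ K := h ▸ Submodule.mem_top
    rw [RingHom.mem_ker, map_one] at h1
    exact one_ne_zero h1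
  obtain ⟨P, hPmin⟩ : ∃ P, P ∈ K.minimalPrimes := by
    obtain ⟨M, hM, hKM⟩ := Ideal.exists_le_maximal K hKtop
    have := hM.isPrime
    obtain ⟨P, hP, -⟩ := Ideal.exists_minimalPrimes_le hKM
    exact ⟨P, hP⟩
  have hPprime : P.IsPrime := hPmin.1.1
  have hKP : K ≤ P := hPmin.1.2
  obtain ⟨P', hP'prime, -, hP'⟩ :=
    Ideal.exists_comap_eq_of_mem_minimalPrimes (I := ⊥) φ.toRingHom P hPmin
  let pt : PrimeSpectrum R := ⟨P, hPprime⟩
  let C : Set (PrimeSpectrum R) := Set.range (PrimeSpectrum.comap φ.toRingHom)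
  have hptC : pt ∈ C := ⟨⟨P', hP'prime⟩, PrimeSpectrum.ext hP'⟩
  have hfp : φ.toRingHom.FinitePresentation := by
    apply RingHom.FinitePresentation.of_finiteType.1
    have h1 : (φ.toRingHom.comp (algebraMap k R)).FiniteType := by
      have : φ.toRingHom.comp (algebraMap k R) = algebraMap k A := φ.comp_algebraMap
      rw [this]
      exact RingHom.finiteType_algebraMap.2 inferInstance
    exact RingHom.FiniteType.of_comp_finiteType h1
  have hCc : IsConstructible C := PrimeSpectrum.isConstructible_range_comap hfp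
  let Z : Set (PrimeSpectrum R) := PrimeSpectrum.zeroLocus (P : Set R)
  have hZirr : IsIrreducible Z :=
    (PrimeSpectrum.isIrreducible_zeroLocus_iff_of_radical P hPprime.isRadical).2 hPprime
  have hptZ : pt ∈ Z := by
    rw [PrimeSpectrum.mem_zeroLocus]
  have hgen : ∀ U, IsOpen U → (Z ∩ U).Nonempty → pt ∈ U := by
    rintro U hU ⟨q, hqZ, hqU⟩
    have hle : pt ≤ q := (PrimeSpectrum.mem_zeroLocus _ _).1 hqZ
    exact ((PrimeSpectrum.le_iff_specializes pt q).1 hle).mem_open hU hqU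
  obtain ⟨U, hU, hne, hsub⟩ : ∃ U, IsOpen U ∧ (Z ∩ U).Nonempty ∧ Z ∩ U ⊆ C := by
    rcases exists_open_inter_subset_or hZirr hCc with h | ⟨U, hU, hne, hsub⟩
    · exact h
    · exact absurd hptC (hsub ⟨hptZ, hgen U hU hne⟩)
  have hfin : (K.minimalPrimes).Finite := K.finite_minimalPrimes_of_isNoetherianRing R
  let T : Set (PrimeSpectrum R) :=
    ⋃ Q ∈ K.minimalPrimes \ {P}, PrimeSpectrum.zeroLocus (Q : Set R)
  have hTclosed : IsClosed T :=
    (hfin.subset Set.sdiff_subset).isClosed_biUnion fun Q _ => PrimeSpectrum.isClosed_zeroLocus _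
  have hptT : pt ∉ T := by
    intro h
    simp only [T, Set.mem_iUnion] at h
    obtain ⟨Q, ⟨hQmin, hQne⟩, hQ⟩ := h
    have hQP : Q ≤ P := (PrimeSpectrum.mem_zeroLocus _ _).1 hQ
    exact hQne (le_antisymm hQP (hPmin.2 hQmin.1 hQP))
  have hptU' : pt ∈ U ∩ Tᶜ := ⟨hgen U hU hne, hptT⟩
  obtain ⟨_, ⟨h, rfl⟩, hpth, hhU⟩ := PrimeSpectrum.isTopologicalBasis_basic_opens.exists_subset_of_mem_open
    hptU' (hU.inter hTclosed.isOpen_compl)
  have hhP : h ∉ P := (PrimeSpectrum.mem_basicOpen _ _).1 hpth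
  refine ⟨h, ?_, ?_⟩
  · rintro ⟨n, hn⟩
    have : h ^ n ∈ K := by rw [hK, RingHom.mem_ker, map_pow]; exact hn
    exact hhP (hPprime.mem_of_pow_mem n (hKP this))
  · intro z hKz hzh
    have hzmax : (RingHom.ker z).IsMaximal := RingHom.ker_isMaximal_of_surjective (z : R →+* k)
      (fun c => ⟨algebraMap k R c, AlgHom.commutes z c⟩)
    let 𝔷 : PrimeSpectrum R := ⟨RingHom.ker z, hzmax.isPrime⟩
    have h𝔷h : 𝔷 ∈ (PrimeSpectrum.basicOpen h : Set (PrimeSpectrum R)) := by
      show 𝔷 ∈ PrimeSpectrum.basicOpen h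
      rw [PrimeSpectrum.mem_basicOpen]
      exact fun hh => hzh hh
    obtain ⟨h𝔷U, h𝔷T⟩ := hhU h𝔷h
    have := hzmax.isPrime
    obtain ⟨Q, hQmin, hQz⟩ := Ideal.exists_minimalPrimes_le hKz
    have hQP : Q = P := by
      by_contra hne
      apply h𝔷T
      simp only [T, Set.mem_iUnion]
      exact ⟨Q, ⟨hQmin, hne⟩, (PrimeSpectrum.mem_zeroLocus _ _).2 hQz⟩
    have h𝔷Z : 𝔷 ∈ Z := (PrimeSpectrum.mem_zeroLocus _ _).2 (hQP ▸ hQz)
    obtain ⟨𝔭, h𝔭⟩ := hsub ⟨h𝔷Z, h𝔷U⟩
    obtain ⟨g, hg⟩ := Groth.Agent.Lib.GITQuot38.exists_algHom_ker_ge (k := k) 𝔭.asIdeal 𝔭.2.ne_top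
    refine ⟨g, ?_⟩
    have hle : RingHom.ker z ≤ RingHom.ker (g.comp φ) := by
      intro f hf
      have hf' : f ∈ (PrimeSpectrum.comap φ.toRingHom 𝔭).asIdeal := by
        rw [h𝔭]; exact hf
      rw [PrimeSpectrum.comap_asIdeal, Ideal.mem_comap] at hf'
      rw [RingHom.mem_ker]
      exact hg hf'
    apply AlgHom.ext
    intro f
    have hmem : f - algebraMap k R (z f) ∈ RingHom.ker z := by
      rw [RingHom.mem_ker, map_sub, AlgHom.commutes, sub_eq_zero]; rfl
    have := hle hmem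
    rw [RingHom.mem_ker, map_sub, AlgHom.commutes, sub_eq_zero] at this
    rw [this]; rfl

end Lift

end Groth.Agent.Lib.OrbitOpen38
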