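import Groth.Agent.Lib.RedOrbit45
import Groth.Agent.Lib.H71RatClosure
import Groth.Agent.Lib.H71GenSubgrp3
import Groth.Agent.Lib.HomogConn45
import Groth.Agent.Lib.TrivAct45
import Groth.Agent.Lib.FpqcDescent
import Groth.Agent.Lib.ReducedSubscheme
import Groth.Prelude.Def_W4bk4git07Quot

set_option autoImplicit false
universe u
open CategoryTheory CategoryTheory.Limits AlgebraicGeometry MonoidalCategory CartesianMonoidalCategory
  MonObj GrpObj

namespace Groth.Agent.Lib.OrbitProper45

open Groth.Agent.Lib.FpqcCov18 Groth.Agent.Lib.GrpAction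

section general
variable {S : Scheme.{u}} {G H X : Over S} [GrpObj G] [GrpObj H]

/-- Restriction of an action along a homomorphism. -/
noncomputable def restrictAction (a : AlgGrp.Action G X) (i : H ⟶ G) [IsMonHom i] :
    AlgGrp.Action H X where
  act := (i ▷ X) ≫ a.act
  one_act := by rw [← comp_whiskerRight_assoc, IsMonHom.one_hom, a.one_act]
  mul_act := by
    rw [← comp_whiskerRight_assoc, IsMonHom.mul_hom, comp_whiskerRight_assoc, a.mul_act,
      MonoidalCategory.whiskerLeft_comp_assoc]
    conv_rhs => rw [whisker_exchange_assoc, whisker_exchange_assoc]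
    rw [MonoidalCategory.tensorHom_def, comp_whiskerRight_assoc, associator_naturality_middle_assoc,
      associator_naturality_left_assoc]

lemma restrictAction_orbitMap (a : AlgGrp.Action G X) (i : H ⟶ G) [IsMonHom i]
    (x : 𝟙_ (Over S) ⟶ X) : (restrictAction a i).orbitMap x = i ≫ a.orbitMap x := by
  rw [comp_orbitMap]
  unfold AlgGrp.Action.orbitMap restrictAction
  simp only
  rw [lift_whiskerRight_assoc, Category.id_comp]

/-- `ψ_x` is the orbit map up to the unitor isomorphisms. -/
lemma psi_eq (a : AlgGrp.Action G X) (x : 𝟙_ (Over S) ⟶ X) :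
    GIT.psi a x = (ρ_ G).hom ≫ a.orbitMap x ≫ (ρ_ X).inv := by
  unfold GIT.psi
  apply CartesianMonoidalCategory.hom_ext
  · rw [lift_fst, Category.assoc, Category.assoc, ← rightUnitor_hom, Iso.inv_hom_id, Category.comp_id,
      comp_orbitMap, rightUnitor_hom]
    congr 1
    apply CartesianMonoidalCategory.hom_ext
    · rw [whiskerLeft_fst, lift_fst]
    · rw [whiskerLeft_snd, lift_snd, toUnit_unique (snd G (𝟙_ (Over S))) (toUnit _)]
  · exact toUnit_unique _ _

lemma lift_id_eq (x : 𝟙_ (Over S) ⟶ X) : lift x (𝟙 (𝟙_ (Over S))) = x ≫ (ρ_ X).inv := by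
  apply CartesianMonoidalCategory.hom_ext
  · rw [lift_fst, Category.assoc, ← rightUnitor_hom, Iso.inv_hom_id, Category.comp_id]
  · exact toUnit_unique _ _

end general

section field
variable {k : Type u} [Field k] [IsAlgClosed k]

/-- Over an algebraically closed field, `G_red` is a smooth closed subgroup scheme. -/
theorem exists_reduced_subgroup (G : Over (Spec (CommRingCat.of k))) [GrpObj G]
    [LocallyOfFiniteType G.hom] :
    ∃ (H : Over (Spec (CommRingCat.of k))) (_ : GrpObj H) (i : H ⟶ G), IsMonHom i ∧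
      IsClosedImmersion i.left ∧ Smooth H.hom ∧ Surjective i.left := by
  obtain ⟨H, instH, i, hi, hcl, hsm, hr⟩ :=
    Groth.Agent.Lib.H71RatClosure.exists_smooth_closed_subgroup G ⊤
  refine ⟨H, instH, i, hi, hcl, hsm, ⟨?_⟩⟩
  rw [← Set.range_eq_univ, hr]
  by_contra hne
  have hne' : (closure (Groth.Agent.Lib.H71RatClosure.ptOf ''
      ((⊤ : Subgroup (𝟙_ (Over (Spec (CommRingCat.of k))) ⟶ G)) :
        Set (𝟙_ (Over (Spec (CommRingCat.of k))) ⟶ G))))ᶜ.Nonempty := by
    rw [Set.nonempty_compl]; exact hne
  obtain ⟨x, hx⟩ := Groth.Agent.Lib.HomogConn45.exists_rational_point_mem (X := G)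
    (isClosed_closure.isOpen_compl.isLocallyClosed) hne'
  exact hx (IsLocalRing.closedPoint k) (subset_closure ⟨x, trivial, rfl⟩)

/-- **Properness of the orbit map** from a closed orbit and a proper stabiliser. -/
theorem isProper_orbitMap {G X St : Over (Spec (CommRingCat.of k))} [GrpObj G]
    [LocallyOfFiniteType G.hom] [QuasiCompact G.hom] [LocallyOfFiniteType X.hom]
    (a : AlgGrp.Action G X) (x : 𝟙_ (Over (Spec (CommRingCat.of k))) ⟶ X)
    (hcl : IsClosed (Set.range (a.orbitMap x).left))
    (iSt : St ⟶ G) (hSt : IsPullback iSt (toUnit St) (a.orbitMap x) x) (hprop : IsProper St.hom) :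
    IsProper (a.orbitMap x).left := by
  obtain ⟨H, instH, i, hi, hicl, hsm, hisurj⟩ := exists_reduced_subgroup G
  have hHred : IsReduced H.left := Groth.Agent.Lib.TrivAct45.isReduced_of_smooth H.hom
  have hHlft : LocallyOfFiniteType H.hom := by rw [← Over.w i]; infer_instance
  have hHqc : QuasiCompact H.hom := by rw [← Over.w i]; infer_instance
  have hCH : CompactSpace ↥H.left := QuasiCompact.compactSpace_of_compactSpace H.hom
  let aH := restrictAction a i
  have hπH : aH.orbitMap x = i ≫ a.orbitMap x := restrictAction_orbitMap a i x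
  -- the reduced orbit
  let T : TopologicalSpace.Closeds X.left := ⟨Set.range (a.orbitMap x).left, hcl⟩
  let I := Scheme.IdealSheafData.vanishingIdeal T
  have hZred : IsReduced I.subscheme :=
    Groth.Agent.Lib.ReducedSubscheme.isReduced_subscheme_vanishingIdeal T
  let Z : Over (Spec (CommRingCat.of k)) := Over.mk (I.subschemeι ≫ X.hom)
  let z : Z ⟶ X := Over.homMk I.subschemeι rfl
  have hzcl : IsClosedImmersion z.left := inferInstanceAs (IsClosedImmersion I.subschemeι)
  have hZred' : IsReduced Z.left := hZred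
  have hzr : Set.range z.left = Set.range (a.orbitMap x).left := by
    change Set.range I.subschemeι = _
    rw [Scheme.IdealSheafData.range_subschemeι, Scheme.IdealSheafData.coe_support_vanishingIdeal]
    rfl
  have hHr : Set.range (aH.orbitMap x).left = Set.range (a.orbitMap x).left := by
    rw [hπH, Over.comp_left, Scheme.Hom.comp_base, TopCat.coe_comp, Set.range_comp,
      Set.range_eq_univ.mpr i.left.surjective, Set.image_univ]
  have hmonoz : Mono z := by
    have : Mono z.left := inferInstance
    exact (Over.forget _).mono_of_mono_map this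
  obtain ⟨l, hl⟩ := Groth.Agent.Lib.ImmLift45.exists_lift_of_isReduced z.left
    (aH.orbitMap x).left (by rw [hzr, hHr])
  let j' : H ⟶ Z := Over.homMk l (by rw [← Over.w z, ← Category.assoc, hl, Over.w])
  have hj' : j' ≫ z = aH.orbitMap x := Over.OverMorphism.ext hl
  have hj'surj : Surjective j'.left := by
    refine ⟨fun t => ?_⟩
    have : z.left t ∈ Set.range (aH.orbitMap x).left := by rw [hHr, ← hzr]; exact ⟨t, rfl⟩
    obtain ⟨g, hg⟩ := this
    refine ⟨g, ?_⟩
    apply z.left.isEmbedding.injective
    rw [← Scheme.Hom.comp_apply, ← Over.comp_left, hj', hg]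
  have hZlft : LocallyOfFiniteType Z.hom := by
    rw [← Over.w z]; infer_instance
  have hNZ : IsLocallyNoetherian Z.left := LocallyOfFiniteType.isLocallyNoetherian Z.hom
  have hj'qc : QuasiCompact j'.left := inferInstance
  have hj'dom : IsSchemeTheoreticallyDominant j'.left := .of_isDominant _
  -- the action on the orbit
  obtain ⟨c, hc⟩ := Groth.Agent.Lib.RedOrbit45.exists_action_of_dominant aH
    (Groth.Agent.Lib.GrpHomAction45.leftMul H) z j' (by
      rw [hj', Groth.Agent.Lib.HomogFlat45.whiskerLeft_orbitMap_leftMul])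
  have hoZ : (η[H] ≫ j') ≫ z = x := by
    rw [Category.assoc, hj', Groth.Agent.Lib.RedOrbit45.one_comp_orbitMap]
  have hπZ : c.orbitMap (η[H] ≫ j') = j' := by
    rw [← cancel_mono z, Groth.Agent.Lib.RedOrbit45.orbitMap_comp_of_restrict aH c z hc, hoZ, hj']
  have hZsurj : Surjective (c.orbitMap (η[H] ≫ j')).left := by rw [hπZ]; exact hj'surj
  have hZfl : Flat (c.orbitMap (η[H] ≫ j')).left :=
    Groth.Agent.Lib.HomogFlat45.flat_orbitMap_of_surjective c (η[H] ≫ j')
  rw [hπZ] at hZfl
  -- the stabiliser in `H`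
  have hStH : IsPullback (pullback.fst (aH.orbitMap x) x) (toUnit _) (aH.orbitMap x) x := by
    have := IsPullback.of_hasPullback (aH.orbitMap x) x
    rwa [toUnit_unique (pullback.snd (aH.orbitMap x) x) (toUnit _)] at this
  let cSt : pullback (aH.orbitMap x) x ⟶ St :=
    hSt.lift (pullback.fst (aH.orbitMap x) x ≫ i) (toUnit _) (by
      rw [Category.assoc, ← hπH, hStH.w])
  have hcSt : cSt ≫ iSt = pullback.fst (aH.orbitMap x) x ≫ i := hSt.lift_fst _ _ _
  have hsq : IsPullback (pullback.fst (aH.orbitMap x) x) cSt i iSt := by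
    refine IsPullback.of_bot ?_ hcSt.symm hSt
    rw [toUnit_unique (cSt ≫ toUnit St) (toUnit _), ← hπH]
    exact hStH
  have hcStcl : IsClosedImmersion cSt.left :=
    MorphismProperty.of_isPullback (P := @IsClosedImmersion) (hsq.map (Over.forget _)) hicl
  have hStHprop : IsProper (pullback (aH.orbitMap x) x).hom := by
    rw [← Over.w cSt]; infer_instance
  -- descent
  have hpb := Groth.Agent.Lib.StabSq45.isPullback_fst_mul_of_isStabilizer aH x
    (pullback.fst (aH.orbitMap x) x) hStH j' z hj'
  have hfstprop : IsProper (fst H (pullback (aH.orbitMap x) x)).left :=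
    inferInstanceAs (IsProper (pullback.fst H.hom (pullback (aH.orbitMap x) x).hom))
  have hj'prop : IsProper j'.left :=
    MorphismProperty.of_isPullback_of_descendsAlong (P := @IsProper)
      (Q := @Surjective ⊓ @Flat ⊓ @QuasiCompact) (hpb.map (Over.forget _))
      ⟨⟨hj'surj, hZfl⟩, hj'qc⟩ hfstprop
  have hπHprop : IsProper (aH.orbitMap x).left := by
    rw [← hj', Over.comp_left]; infer_instance
  -- back to `G`
  have hsep : IsSeparated G.hom := Groth.Agent.Lib.H71GenSubgrp.isSeparated_of_grpObj G
  have hsep' : IsSeparated (a.orbitMap x).left := by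
    have : IsSeparated ((a.orbitMap x).left ≫ X.hom) := by rw [Over.w]; exact hsep
    exact IsSeparated.of_comp (a.orbitMap x).left X.hom
  have hlft : LocallyOfFiniteType (a.orbitMap x).left := by
    have : LocallyOfFiniteType ((a.orbitMap x).left ≫ X.hom) := by rw [Over.w]; infer_instance
    exact locallyOfFiniteType_of_comp (a.orbitMap x).left X.hom
  have hNX : IsLocallyNoetherian X.left := LocallyOfFiniteType.isLocallyNoetherian X.hom
  have hCG : CompactSpace ↥G.left := QuasiCompact.compactSpace_of_compactSpace G.hom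
  have hqc : QuasiCompact (a.orbitMap x).left := inferInstance
  have huc : UniversallyClosed (a.orbitMap x).left := by
    have h1 : UniversallyClosed (i.left ≫ (a.orbitMap x).left) := by
      rw [← Over.comp_left, ← hπH]; infer_instance
    exact UniversallyClosed.of_comp_surjective i.left (a.orbitMap x).left
  exact { }

set_option maxHeartbeats 400000 in
/-- Mumford's criterion: `ψ_x` is proper iff the orbit is closed and the stabiliser is proper. -/
theorem isProper_psi_iff {G X : Over (Spec (CommRingCat.of k))} [GrpObj G]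
    [LocallyOfFiniteType G.hom] [QuasiCompact G.hom] [LocallyOfFiniteType X.hom]
    (a : AlgGrp.Action G X) (x : 𝟙_ (Over (Spec (CommRingCat.of k))) ⟶ X) :
    IsProper (GIT.psi a x).left ↔
      IsClosed (Set.range (GIT.psi a x).left) ∧
        IsProper (Limits.pullback.snd (GIT.psi a x).left
          (lift x (𝟙 (𝟙_ (Over (Spec (CommRingCat.of k)))))).left ≫
          (𝟙_ (Over (Spec (CommRingCat.of k)))).hom) := by
  have hψ : (GIT.psi a x).left = (ρ_ G).hom.left ≫ (a.orbitMap x).left ≫ (ρ_ X).inv.left := by
    rw [psi_eq, Over.comp_left, Over.comp_left]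
  have hσ : (lift x (𝟙 (𝟙_ (Over (Spec (CommRingCat.of k)))))).left =
      x.left ≫ (ρ_ X).inv.left := by
    rw [lift_id_eq, Over.comp_left]
  have hunit : IsIso (𝟙_ (Over (Spec (CommRingCat.of k)))).hom :=
    inferInstanceAs (IsIso (𝟙 (Spec (CommRingCat.of k))))
  have hi1 : IsIso (ρ_ X).hom.left := inferInstanceAs (IsIso ((Over.forget _).map (ρ_ X).hom))
  have hi2 : IsIso (ρ_ X).inv.left := inferInstanceAs (IsIso ((Over.forget _).map (ρ_ X).inv))
  have hi3 : IsIso (ρ_ G).hom.left := inferInstanceAs (IsIso ((Over.forget _).map (ρ_ G).hom))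
  have hi4 : IsIso (ρ_ G).inv.left := inferInstanceAs (IsIso ((Over.forget _).map (ρ_ G).inv))
  constructor
  · intro h
    refine ⟨(GIT.psi a x).left.isClosedMap.isClosed_range, ?_⟩
    infer_instance
  · rintro ⟨hcl, hst⟩
    -- closedness of the orbit
    have hπ : (a.orbitMap x).left =
        (ρ_ G).inv.left ≫ (GIT.psi a x).left ≫ (ρ_ X).hom.left := by
      rw [hψ]
      simp only [Category.assoc, ← Over.comp_left, Iso.inv_hom_id, Iso.inv_hom_id_assoc]
      rw [Category.comp_id]
    have hcl' : IsClosed (Set.range (a.orbitMap x).left) := by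
      have h1 : Set.range (a.orbitMap x).left =
          (ρ_ X).hom.left '' Set.range (GIT.psi a x).left := by
        rw [hπ, Scheme.Hom.comp_base, TopCat.coe_comp, Set.range_comp,
          Set.range_eq_univ.mpr (ρ_ G).inv.left.surjective, Set.image_univ,
          Scheme.Hom.comp_base, TopCat.coe_comp, Set.range_comp]
      rw [h1]
      exact (ρ_ X).hom.left.homeomorph.isClosedMap _ hcl
    -- the stabiliser
    let P := pullback (GIT.psi a x).left (lift x (𝟙 (𝟙_ (Over (Spec (CommRingCat.of k)))))).left
    let p : P ⟶ (G ⊗ 𝟙_ (Over (Spec (CommRingCat.of k)))).left := pullback.fst _ _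
    let q : P ⟶ (𝟙_ (Over (Spec (CommRingCat.of k)))).left := pullback.snd _ _
    let St : Over (Spec (CommRingCat.of k)) :=
      Over.mk (q ≫ (𝟙_ (Over (Spec (CommRingCat.of k)))).hom)
    have hpq : p ≫ (GIT.psi a x).left =
        q ≫ (lift x (𝟙 (𝟙_ (Over (Spec (CommRingCat.of k)))))).left := pullback.condition
    let iSt : St ⟶ G := Over.homMk (p ≫ (ρ_ G).hom.left) (by
      have h1 : (ρ_ G).hom.left ≫ G.hom = (GIT.psi a x).left ≫ (X ⊗ 𝟙_ _).hom := by
        rw [Over.w, Over.w]
      have h2 : (lift x (𝟙 (𝟙_ (Over (Spec (CommRingCat.of k)))))).left ≫ (X ⊗ 𝟙_ _).hom =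
          (𝟙_ (Over (Spec (CommRingCat.of k)))).hom := Over.w _
      change (p ≫ (ρ_ G).hom.left) ≫ G.hom = q ≫ (𝟙_ (Over (Spec (CommRingCat.of k)))).hom
      rw [Category.assoc, h1, ← Category.assoc, hpq, Category.assoc, h2])
    have hP0 : IsPullback p q (GIT.psi a x).left
        (lift x (𝟙 (𝟙_ (Over (Spec (CommRingCat.of k)))))).left := IsPullback.of_hasPullback _ _
    have htu : (toUnit St).left = q := by
      have h1 : (toUnit St).left ≫ (𝟙_ (Over (Spec (CommRingCat.of k)))).hom = St.hom := Over.w _
      rw [← cancel_mono (𝟙_ (Over (Spec (CommRingCat.of k)))).hom, h1]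
      rfl
    have hPL : IsPullback iSt.left (toUnit St).left (a.orbitMap x).left x.left := by
      rw [htu]
      refine IsPullback.of_iso hP0 (Iso.refl _) (asIso (ρ_ G).hom.left) (Iso.refl _)
        (asIso (ρ_ X).hom.left) ?_ ?_ ?_ ?_
      · simp [iSt]
      · simp
      · rw [hψ]
        simp only [asIso_hom, Category.assoc, ← Over.comp_left, Iso.inv_hom_id]
        rw [Category.comp_id]
      · rw [hσ]
        simp only [asIso_hom, Iso.refl_hom, Category.assoc, ← Over.comp_left, Iso.inv_hom_id]
        rw [Category.comp_id, Category.id_comp]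
    have hSt : IsPullback iSt (toUnit St) (a.orbitMap x) x := by
      refine IsPullback.of_map (Over.forget _) ?_ hPL
      apply Over.OverMorphism.ext
      exact hPL.w
    have hπprop : IsProper (a.orbitMap x).left := isProper_orbitMap a x hcl' iSt hSt hst
    rw [hψ]
    infer_instance

end field

end Groth.Agent.Lib.OrbitProper45
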