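import Groth.Agent.Lib.StabSq45
import Groth.Agent.Lib.H43QuotGrp2

/-!
# The stabilizer of a section is a subgroup (helper45)

For an action `a` of `G` on `X` over `S`, a section `o` and `i : H ⟶ G` with
`IsPullback i (toUnit H) (a.orbitMap o) o`: `exists_grpObj_stabilizer` gives a group structure on
`H` making `i` a homomorphism.
-/

set_option autoImplicit false
universe u
open CategoryTheory CategoryTheory.Limits MonoidalCategory CartesianMonoidalCategory MonObj GrpObj
  AlgebraicGeometry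
open Groth.Agent.Lib.GrpAction Groth.Agent.Lib.StabSq45

namespace Groth.Agent.Lib.StabGrp45

variable {S : Scheme.{u}} {G X H : Over S} [GrpObj G] (a : AlgGrp.Action G X)
  (o : 𝟙_ (Over S) ⟶ X) (i : H ⟶ G) (hH : IsPullback i (toUnit H) (a.orbitMap o) o)

include hH in
lemma mono_stabilizer : Mono i := by
  have : Mono o := by
    have h : IsSplitMono o := ⟨⟨⟨toUnit X, toUnit_unique _ _⟩⟩⟩
    infer_instance
  exact hH.mono_fst_of_mono

include hH in
/-- a `T`-point of `G` fixing `o` lies in the stabilizer -/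
lemma exists_stab_lift {T : Over S} (g : T ⟶ G) (hg : g ≫ a.orbitMap o = toUnit T ≫ o) :
    ∃ n : T ⟶ H, n ≫ i = g :=
  ⟨hH.lift g (toUnit T) hg, hH.lift_fst _ _ _⟩

include hH in
theorem exists_grpObj_stabilizer :
    ∃ str : GrpObj H, @IsMonHom _ _ _ H G str.toMonObj _ i := by
  have hmono := mono_stabilizer a o i hH
  obtain ⟨e, he⟩ := exists_stab_lift a o i hH (η[G]) (by
    have h2 : (η[G] : 𝟙_ _ ⟶ G) = 1 := by
      rw [Hom.one_def, toUnit_unique (toUnit (𝟙_ (Over S))) (𝟙 _), Category.id_comp]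
    rw [h2, comp_orbitMap, one_act])
  obtain ⟨m, hm⟩ := exists_stab_lift a o i hH ((i ⊗ₘ i) ≫ μ[G]) (by
    have h1 : (i ⊗ₘ i) ≫ μ[G] = (fst H H ≫ i) * (snd H H ≫ i) := by
      rw [Hom.mul_def]
      congr 1
    rw [h1, mul_comp_orbitMap, stab_comp_orbitMap a o i hH, ← comp_orbitMap,
      stab_comp_orbitMap a o i hH])
  obtain ⟨v, hv⟩ := exists_stab_lift a o i hH (i ≫ ι[G]) (by
    have h1 : i ≫ ι[G] = i⁻¹ := by
      rw [Hom.inv_def]
    have h2 : i ≫ a.orbitMap o = toUnit H ≫ o := by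
      have := stab_comp_orbitMap a o i hH (𝟙 H)
      rwa [Category.id_comp] at this
    have h3 : (i⁻¹ * i) ≫ a.orbitMap o = lift i⁻¹ (i ≫ a.orbitMap o) ≫ a.act :=
      mul_comp_orbitMap a o _ _
    rw [inv_mul_cancel, comp_orbitMap, one_act, h2, ← comp_orbitMap] at h3
    rw [h1, ← h3])
  exact Groth.Agent.Lib.H43QuotGrp.exists_grpObj_of_mono i e he m hm v hv

end Groth.Agent.Lib.StabGrp45
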