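import Groth.Agent.Lib.OrbitFlat45
import Groth.Agent.Lib.StabGrp45
import Groth.Agent.Lib.OrbitClosed45
import Mathlib.AlgebraicGeometry.Morphisms.LocalFlatDescent

/-!
# Smoothness of the orbit map onto the reduced orbit (helper45)

* `smooth_lift_of_smooth_stabilizer` : in the setting of `OrbitFlat45`, if the stabilizer of `x` is
  smooth then the lift `ψ : G ⟶ O` of the orbit map is smooth.
* `surjective_orbitMap_of_transitive` : over an algebraically closed field, if `G(k)` acts
  transitively on `X(k)` then every orbit map is surjective.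
-/

set_option autoImplicit false
set_option linter.unusedSectionVars false
universe u
open CategoryTheory CategoryTheory.Limits MonoidalCategory CartesianMonoidalCategory MonObj GrpObj
  AlgebraicGeometry
open Groth.Agent.Lib.GrpTopPts45 Groth.Agent.Lib.GrpAction Groth.Agent.Lib.OrbitStable45
  Groth.Agent.Lib.OrbitSmooth45 Groth.Agent.Lib.GrpHomAction45 Groth.Agent.Lib.OrbitFlat45
  Groth.Agent.Lib.OrbitClosed45

namespace Groth.Agent.Lib.OrbitSmoothMap45

section descent

variable {k : Type u} [Field k] {G X : Over (Spec (CommRingCat.of k))} [GrpObj G]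
  (a : AlgGrp.Action G X) (x : 𝟙_ (Over (Spec (CommRingCat.of k))) ⟶ X)
  {O : Scheme.{u}} (i : O ⟶ X.left) [IsImmersion i] [IsReduced O] [Smooth G.hom]
  (ψ : G ⟶ Oo i) (hψ : ψ ≫ io i = a.orbitMap x) (b : G ⊗ Oo i ⟶ Oo i)
  (hb : b ≫ io i = (G ◁ io i) ≫ a.act)
  {H : Over (Spec (CommRingCat.of k))} (s : H ⟶ G)
  (hH : IsPullback s (toUnit H) (a.orbitMap x) x)

include hψ hb hH in
set_option backward.isDefEq.respectTransparency false in
theorem smooth_lift_of_smooth_stabilizer [QuasiCompact G.hom] [LocallyOfFiniteType X.hom]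
    [Surjective ψ.left] [Smooth H.hom] : Smooth ψ.left := by
  have hflat : Flat ψ.left := flat_lift a x i ψ hψ b hb
  have hlft : LocallyOfFiniteType (Oo i).hom := inferInstanceAs (LocallyOfFiniteType (i ≫ X.hom))
  have hlftψ : LocallyOfFiniteType ψ.left := by
    have h1 : LocallyOfFiniteType (ψ.left ≫ (Oo i).hom) := by rw [Over.w]; infer_instance
    exact locallyOfFiniteType_of_comp ψ.left (Oo i).hom
  have hlfp : LocallyOfFinitePresentation ψ.left := by
    have : IsLocallyNoetherian (Oo i).left := LocallyOfFiniteType.isLocallyNoetherian (Oo i).hom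
    exact LocallyOfFinitePresentation.iff_locallyOfFiniteType.mpr hlftψ
  have sq : IsPullback (fst G H).left ((G ◁ s) ≫ μ[G]).left ψ.left ψ.left :=
    (Groth.Agent.Lib.StabSq45.isPullback_fst_mul_of_isStabilizer a x s hH ψ (io i) hψ).map
      (Over.forget _)
  have hfst : Smooth (fst G H).left := inferInstanceAs (Smooth (pullback.fst G.hom H.hom))
  exact MorphismProperty.of_isPullback_of_descendsAlong (P := @Smooth)
    (Q := @Surjective ⊓ @Flat ⊓ @LocallyOfFinitePresentation) sq
    ⟨⟨inferInstance, hflat⟩, hlfp⟩ hfst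

end descent

section transitive

variable {k : Type u} [Field k] [IsAlgClosed k] {G X : Over (Spec (CommRingCat.of k))} [GrpObj G]
  (a : AlgGrp.Action G X) [LocallyOfFiniteType G.hom] [QuasiCompact G.hom]
  [LocallyOfFiniteType X.hom] [QuasiCompact X.hom]

/-- A nonempty locally closed subset of a scheme of finite type over an algebraically closed
field contains a rational point. -/
lemma exists_rational_point_mem_of_isLocallyClosed {Z : Set X.left} (hZ : IsLocallyClosed Z)
    (hne : Z.Nonempty) :
    ∃ x : 𝟙_ (Over (Spec (CommRingCat.of k))) ⟶ X, ∀ t, x.left t ∈ Z := by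
  have hJ : JacobsonSpace X.left := LocallyOfFiniteType.jacobsonSpace X.hom
  obtain ⟨y, hyZ, hy'⟩ := nonempty_inter_closedPoints hne hZ
  have hy : IsClosed ({y} : Set X.left) := hy'
  refine ⟨Over.homMk (pointOfClosedPoint X.hom y hy) (pointOfClosedPoint_comp X.hom y hy),
    fun t => ?_⟩
  have : (pointOfClosedPoint X.hom y hy) t = y := pointOfClosedPoint_apply X.hom y hy t
  change (pointOfClosedPoint X.hom y hy) t ∈ Z
  rw [this]
  exact hyZ

theorem surjective_orbitMap_of_transitive
    (htrans : ∀ x x' : 𝟙_ (Over (Spec (CommRingCat.of k))) ⟶ X,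
      ∃ σ : 𝟙_ (Over (Spec (CommRingCat.of k))) ⟶ G, lift σ x ≫ a.act = x')
    (x : 𝟙_ (Over (Spec (CommRingCat.of k))) ⟶ X) :
    Function.Surjective (a.orbitMap x).left := by
  have hpt : ∀ (x' : 𝟙_ (Over (Spec (CommRingCat.of k))) ⟶ X) t, x'.left t ∈ orbit a x := by
    intro x' t
    obtain ⟨σ, hσ⟩ := htrans x x'
    have h1 : σ ≫ a.orbitMap x = x' := by
      rw [comp_orbitMap, toUnit_unique (toUnit (𝟙_ (Over (Spec (CommRingCat.of k))))) (𝟙 _),
        Category.id_comp, hσ]
    rw [← h1]
    exact ⟨σ.left t, rfl⟩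
  have hcompl : (orbit a x)ᶜ = ∅ := by
    by_contra hne
    have hbd : boundary a x = ∅ := by
      by_contra hne'
      obtain ⟨x', hx'⟩ := exists_rational_point_mem (isClosed_boundary a x)
        (Set.nonempty_iff_ne_empty.mpr hne')
      exact (hx' (IsLocalRing.closedPoint k)).2 (hpt x' _)
    have hcl : IsClosed (orbit a x) := isClosed_orbit_of_boundary_eq_empty a x hbd
    have hlc : IsLocallyClosed (orbit a x)ᶜ := hcl.isOpen_compl.isLocallyClosed
    obtain ⟨x', hx'⟩ := exists_rational_point_mem_of_isLocallyClosed hlc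
      (Set.nonempty_iff_ne_empty.mpr hne)
    exact hx' (IsLocalRing.closedPoint k) (hpt x' _)
  intro y
  have : y ∈ orbit a x := by
    by_contra hy
    have : y ∈ (orbit a x)ᶜ := hy
    rw [hcompl] at this
    exact this
  exact this

end transitive

end Groth.Agent.Lib.OrbitSmoothMap45
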