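import Groth.Agent.Lib.GrpActionShear
import Groth.Agent.Lib.GrpTopPts45
import Groth.Agent.Lib.ConstrOpen45
import Mathlib.AlgebraicGeometry.Noetherian
import Mathlib.AlgebraicGeometry.Morphisms.FinitePresentation

/-!
# Stable subsets and orbits for actions of group schemes over a field (helper45)

For an action `a : AlgGrp.Action G X` of a group scheme over a field `k`, a subset `Z ⊆ |X|` is
*stable* if `pr₂⁻¹ Z = act⁻¹ Z` in `|G ×ₖ X|`. Stable subsets are closed under complement,
intersection, union, closure. Orbits (images of orbit maps) are stable, and locally closed when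
`G` and `X` are of finite type.
-/

set_option autoImplicit false
set_option linter.unusedSectionVars false
universe u
open CategoryTheory CategoryTheory.Limits MonoidalCategory CartesianMonoidalCategory MonObj GrpObj
  AlgebraicGeometry
open Groth.Agent.Lib.GrpTopPts45 Groth.Agent.Lib.GrpAction

namespace Groth.Agent.Lib.OrbitStable45

variable {k : Type u} [Field k] {G X : Over (Spec (CommRingCat.of k))} [GrpObj G]
  (a : AlgGrp.Action G X)

/-- A subset of `X` is stable under the action if its preimages under the second projection and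
the action map coincide. -/
def IsStable (Z : Set X.left) : Prop :=
  (snd G X).left ⁻¹' Z = a.act.left ⁻¹' Z

variable {a}

lemma IsStable.act_mem {Z : Set X.left} (hZ : IsStable a Z) {w : (G ⊗ X).left}
    (hw : (snd G X).left w ∈ Z) : a.act.left w ∈ Z := by
  have : w ∈ (snd G X).left ⁻¹' Z := hw
  rw [hZ] at this
  exact this

lemma IsStable.snd_mem {Z : Set X.left} (hZ : IsStable a Z) {w : (G ⊗ X).left}
    (hw : a.act.left w ∈ Z) : (snd G X).left w ∈ Z := by
  have : w ∈ a.act.left ⁻¹' Z := hw
  rw [← hZ] at this
  exact this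

variable (a) in
/-- `(g, x) ↦ (g⁻¹, g x)`. -/
noncomputable def nu : G ⊗ X ⟶ G ⊗ X := lift (fst G X)⁻¹ a.act

lemma nu_act : nu a ≫ a.act = snd G X := inv_act_act a

lemma nu_snd : nu a ≫ snd G X = a.act := lift_snd _ _

theorem isStable_of_forall {Z : Set X.left}
    (h : ∀ w : (G ⊗ X).left, (snd G X).left w ∈ Z → a.act.left w ∈ Z) : IsStable a Z := by
  ext w
  refine ⟨h w, fun hw => ?_⟩
  have h1 : (snd G X).left ((nu a).left w) = a.act.left w := by
    rw [← Scheme.Hom.comp_apply, ← Over.comp_left, nu_snd]
  have h2 : a.act.left ((nu a).left w) = (snd G X).left w := by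
    rw [← Scheme.Hom.comp_apply, ← Over.comp_left, nu_act]
  have := h ((nu a).left w) (by rw [h1]; exact hw)
  rwa [h2] at this

lemma isStable_univ : IsStable a Set.univ := by
  unfold IsStable; simp

lemma isStable_empty : IsStable a ∅ := by
  unfold IsStable; simp

lemma IsStable.compl {Z : Set X.left} (hZ : IsStable a Z) : IsStable a Zᶜ := by
  unfold IsStable at *
  rw [Set.preimage_compl, Set.preimage_compl, hZ]

lemma IsStable.inter {Z Z' : Set X.left} (hZ : IsStable a Z) (hZ' : IsStable a Z') :
    IsStable a (Z ∩ Z') := by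
  unfold IsStable at *
  rw [Set.preimage_inter, Set.preimage_inter, hZ, hZ']

lemma IsStable.union {Z Z' : Set X.left} (hZ : IsStable a Z) (hZ' : IsStable a Z') :
    IsStable a (Z ∪ Z') := by
  unfold IsStable at *
  rw [Set.preimage_union, Set.preimage_union, hZ, hZ']

lemma IsStable.diff {Z Z' : Set X.left} (hZ : IsStable a Z) (hZ' : IsStable a Z') :
    IsStable a (Z \ Z') := by
  rw [Set.sdiff_eq]
  exact hZ.inter hZ'.compl

variable (a) in
lemma isOpenMap_act : IsOpenMap a.act.left := by
  rw [act_left_eq a, Scheme.Hom.comp_base, TopCat.coe_comp]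
  exact (isOpenMap_snd G X).comp (shear a).left.homeomorph.isOpenMap

lemma IsStable.closure {Z : Set X.left} (hZ : IsStable a Z) : IsStable a (closure Z) := by
  unfold IsStable at *
  rw [(isOpenMap_snd G X).preimage_closure_eq_closure_preimage (snd G X).left.continuous,
    (isOpenMap_act a).preimage_closure_eq_closure_preimage a.act.left.continuous, hZ]

section orbit

variable (a) (x : 𝟙_ (Over (Spec (CommRingCat.of k))) ⟶ X)

lemma whiskerLeft_orbitMap_act : (G ◁ a.orbitMap x) ≫ a.act = μ[G] ≫ a.orbitMap x := by
  have h1 : G ◁ a.orbitMap x = lift (fst G G) (snd G G ≫ a.orbitMap x) := by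
    rw [← lift_whiskerLeft, lift_fst_snd, Category.id_comp]
  rw [h1, comp_orbitMap, ← mul_act, ← comp_orbitMap, mul_fst_snd]

/-- The orbit of a rational point. -/
def orbit : Set X.left := Set.range (a.orbitMap x).left

lemma range_whiskerLeft_orbitMap :
    Set.range (G ◁ a.orbitMap x).left = (snd G X).left ⁻¹' orbit a x := by
  have h : (G ◁ a.orbitMap x).left =
      pullback.map G.hom G.hom G.hom X.hom (𝟙 _) (a.orbitMap x).left (𝟙 _) (by simp)
        (by simp) := by
    apply pullback.hom_ext
    · have h1 : (G ◁ a.orbitMap x).left ≫ pullback.fst G.hom X.hom =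
          ((G ◁ a.orbitMap x) ≫ fst G X).left := rfl
      rw [h1, whiskerLeft_fst]
      erw [pullback.lift_fst]
      rw [Category.comp_id]
      rfl
    · have h1 : (G ◁ a.orbitMap x).left ≫ pullback.snd G.hom X.hom =
          ((G ◁ a.orbitMap x) ≫ snd G X).left := rfl
      rw [h1, whiskerLeft_snd]
      erw [pullback.lift_snd]
      rfl
  rw [h, Scheme.Pullback.range_map]
  simp [orbit]

theorem isStable_orbit : IsStable a (orbit a x) := by
  apply isStable_of_forall
  intro w hw
  have hw' : w ∈ Set.range (G ◁ a.orbitMap x).left := by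
    rw [range_whiskerLeft_orbitMap]; exact hw
  obtain ⟨w', rfl⟩ := hw'
  rw [← Scheme.Hom.comp_apply, ← Over.comp_left, whiskerLeft_orbitMap_act, Over.comp_left,
    Scheme.Hom.comp_apply]
  exact ⟨_, rfl⟩

theorem orbit_subset {Z : Set X.left} (hZ : IsStable a Z) (hx : ∀ t, x.left t ∈ Z) :
    orbit a x ⊆ Z := by
  rintro _ ⟨γ, rfl⟩
  have h : (a.orbitMap x).left γ =
      a.act.left ((lift (𝟙 G) (toUnit G ≫ x)).left γ) := by
    rw [← Scheme.Hom.comp_apply, ← Over.comp_left]
    rfl
  rw [h]
  apply hZ.act_mem
  rw [← Scheme.Hom.comp_apply, ← Over.comp_left, lift_snd, Over.comp_left, Scheme.Hom.comp_apply]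
  exact hx _

lemma orbit_nonempty [Nonempty G.left] : (orbit a x).Nonempty := Set.range_nonempty _

end orbit

section finiteType

variable (a) (x : 𝟙_ (Over (Spec (CommRingCat.of k))) ⟶ X)

omit [GrpObj G] in
lemma isNoetherian_of_finiteType (X : Over (Spec (CommRingCat.of k))) [LocallyOfFiniteType X.hom]
    [QuasiCompact X.hom] : IsNoetherian X.left := by
  have h1 : IsLocallyNoetherian X.left := LocallyOfFiniteType.isLocallyNoetherian X.hom
  have h2 : CompactSpace X.left := QuasiCompact.compactSpace_of_compactSpace X.hom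
  exact {}

/-- An open subset of a group scheme over a field that is stable under left multiplication by
everything is empty or everything. -/
lemma eq_univ_of_mulSet_subset {D : Set G.left} (hne : D.Nonempty)
    (hD : mulSet G Set.univ D ⊆ D) : D = Set.univ := by
  rw [Set.eq_univ_iff_forall]
  intro γ
  obtain ⟨d, hd⟩ := hne
  obtain ⟨w, hw1, hw2⟩ := Scheme.Pullback.exists_preimage_pullback (f := G.hom) (g := G.hom) γ d
    (Subsingleton.elim (α := PrimeSpectrum k) _ _)
  apply hD
  have h := mul_mem_mulSet (fst G G * (snd G G)⁻¹) (snd G G) w (A := Set.univ) (B := D) trivial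
    (by change pullback.snd G.hom G.hom w ∈ D; rw [hw2]; exact hd)
  rw [inv_mul_cancel_right] at h
  have h2 : (fst G G).left w = γ := hw1
  rwa [h2] at h

variable [LocallyOfFiniteType G.hom] [QuasiCompact G.hom] [LocallyOfFiniteType X.hom]
  [QuasiCompact X.hom]

theorem isConstructible_orbit : Topology.IsConstructible (orbit a x) := by
  have hX : IsNoetherian X.left := isNoetherian_of_finiteType X
  have hG : IsNoetherian G.left := isNoetherian_of_finiteType G
  have h1 : LocallyOfFiniteType ((a.orbitMap x).left ≫ X.hom) := by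
    rw [Over.w]; infer_instance
  have h2 : LocallyOfFiniteType (a.orbitMap x).left :=
    locallyOfFiniteType_of_comp (a.orbitMap x).left X.hom
  have h3 : LocallyOfFinitePresentation (a.orbitMap x).left := inferInstance
  have h4 : QuasiCompact (a.orbitMap x).left := inferInstance
  have := (a.orbitMap x).left.isConstructible_image (s := Set.univ) Topology.IsConstructible.univ
  rwa [Set.image_univ] at this

/-- The orbit of a rational point under a group scheme of finite type acting on a scheme of
finite type over a field is locally closed. -/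
theorem isLocallyClosed_orbit : IsLocallyClosed (orbit a x) := by
  have hX : IsNoetherian X.left := isNoetherian_of_finiteType X
  set O := orbit a x with hO
  -- the complement of the closure of the boundary
  set W' : Set X.left := (closure (closure O \ O))ᶜ with hW'
  have hW'st : IsStable a W' :=
    (((isStable_orbit a x).closure.diff (isStable_orbit a x)).closure).compl
  have hW'sub : W' ∩ closure O ⊆ O := by
    rintro z ⟨hz1, hz2⟩
    by_contra hzO
    exact hz1 (subset_closure ⟨hz2, hzO⟩)
  set D : Set G.left := (a.orbitMap x).left ⁻¹' W' with hD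
  have hDmul : mulSet G Set.univ D ⊆ D := by
    rintro _ ⟨w, ⟨-, hw⟩, rfl⟩
    change (a.orbitMap x).left (μ[G].left w) ∈ W'
    rw [← Scheme.Hom.comp_apply, ← Over.comp_left, ← whiskerLeft_orbitMap_act, Over.comp_left,
      Scheme.Hom.comp_apply]
    apply hW'st.act_mem
    rw [← Scheme.Hom.comp_apply, ← Over.comp_left, whiskerLeft_snd, Over.comp_left,
      Scheme.Hom.comp_apply]
    exact hw
  by_cases hGne : Nonempty G.left
  · have hOne : O.Nonempty := orbit_nonempty a x
    obtain ⟨U, hU, ⟨z, hzU, hzO⟩, hUO⟩ :=
      ConstrOpen45.exists_open_inter_closure_subset (isConstructible_orbit a x) hOne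
    have hUW : U ⊆ W' := by
      intro u hu hu'
      have hsub : closure O \ O ⊆ Uᶜ := fun v hv hvU => hv.2 (hUO ⟨hvU, hv.1⟩)
      exact closure_minimal hsub hU.isClosed_compl hu' hu
    have hDne : D.Nonempty := by
      obtain ⟨γ, hγ⟩ : z ∈ O := hUO ⟨hzU, hzO⟩
      exact ⟨γ, by change (a.orbitMap x).left γ ∈ W'; rw [hγ]; exact hUW hzU⟩
    have hDuniv := eq_univ_of_mulSet_subset hDne hDmul
    have hOW : O ⊆ W' := by
      rintro _ ⟨γ, rfl⟩
      have : γ ∈ D := hDuniv ▸ Set.mem_univ γ
      exact this
    refine ⟨W', closure O, isClosed_closure.isOpen_compl, isClosed_closure, ?_⟩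
    exact Set.Subset.antisymm (fun z hz => ⟨hOW hz, subset_closure hz⟩) hW'sub
  · have : O = ∅ := by
      rw [Set.eq_empty_iff_forall_notMem]
      rintro _ ⟨γ, -⟩
      exact hGne ⟨γ⟩
    rw [this]
    exact isClosed_empty.isLocallyClosed

end finiteType

end Groth.Agent.Lib.OrbitStable45
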