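import Groth.Agent.Lib.OrthCentre51

/-!
# Products of two reflections and the centre of the special orthogonal group (helper38)

Builds on helper51's `Lib/OrthCentre51` (reflections, base change facts).

* `ι_reflection_mul_ι`: `ι (s_v y) * ι v = - (ι v * ι y)` in the Clifford algebra.
* `map_mul_ι_mul_ι`: the automorphism of the Clifford algebra induced by `s_v s_w` is conjugation by
  `ι v * ι w`.
* `isDicksonTrivial_reflection_mul`: `s_v s_w` satisfies the Dickson condition; `reflection_mul_mem_SOeven`.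
* `comm_reflection_mul`: what commuting with `s_v s_w` gives at a vector `z₀ ⊥ w`.
-/

set_option autoImplicit false
universe u

open scoped TensorProduct
open QuadraticMap

namespace Groth.Agent.Lib.OrthCentre38

open Groth.Agent.Lib.OrthCentre51

section Clifford

variable {A V : Type*} [CommRing A] [AddCommGroup V] [Module A V] (𝒬 : QuadraticForm A V)

theorem ι_reflection_mul_ι (v : V) (u : Aˣ) (hu : 𝒬 v = u) (y : V) :
    CliffordAlgebra.ι 𝒬 (reflection 𝒬 v u hu y) * CliffordAlgebra.ι 𝒬 v =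
      - (CliffordAlgebra.ι 𝒬 v * CliffordAlgebra.ι 𝒬 y) := by
  have h1 := CliffordAlgebra.ι_mul_ι_add_swap (Q := 𝒬) v y
  have h2 : CliffordAlgebra.ι 𝒬 v * CliffordAlgebra.ι 𝒬 v = algebraMap A _ (u : A) := by
    rw [CliffordAlgebra.ι_sq_scalar, hu]
  have h3 : (↑u⁻¹ : A) * polar 𝒬 v y * (u : A) = polar 𝒬 v y := by
    have h1 : (↑u⁻¹ : A) * (u : A) = 1 := Units.inv_mul u
    linear_combination polar 𝒬 v y * h1
  have h4 : ((↑u⁻¹ : A) * polar 𝒬 v y) • algebraMap A (CliffordAlgebra 𝒬) (u : A) =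
      algebraMap A (CliffordAlgebra 𝒬) (polar 𝒬 v y) := by
    rw [Algebra.smul_def, ← RingHom.map_mul, h3]
  rw [reflection_apply, map_sub, map_smul, sub_mul, smul_mul_assoc, h2, h4, ← h1]
  abel

/-- The automorphism of the Clifford algebra induced by `s_v s_w` is conjugation by `ι v * ι w`. -/
theorem map_mul_ι_mul_ι (v w : V) (u₁ u₂ : Aˣ) (h₁ : 𝒬 v = u₁) (h₂ : 𝒬 w = u₂)
    (hh : reflection 𝒬 v u₁ h₁ * reflection 𝒬 w u₂ h₂ ∈ QuadGrp.O 𝒬) (a : CliffordAlgebra 𝒬) :
    CliffordAlgebra.map (QuadGrp.isometryOfMem 𝒬 _ hh) a *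
        (CliffordAlgebra.ι 𝒬 v * CliffordAlgebra.ι 𝒬 w) =
      (CliffordAlgebra.ι 𝒬 v * CliffordAlgebra.ι 𝒬 w) * a := by
  induction a using CliffordAlgebra.induction with
  | algebraMap r =>
    rw [AlgHom.commutes]
    exact Algebra.commutes r _
  | ι z =>
    rw [CliffordAlgebra.map_apply_ι, QuadGrp.isometryOfMem_apply, LinearEquiv.mul_apply,
      ← mul_assoc, ι_reflection_mul_ι, neg_mul, mul_assoc, ι_reflection_mul_ι, mul_neg, neg_neg,
      mul_assoc]
  | mul a b ha hb => rw [map_mul, mul_assoc, hb, ← mul_assoc, ha, mul_assoc]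
  | add a b ha hb => rw [map_add, add_mul, ha, hb, mul_add]

/-- A product of two reflections satisfies the Dickson condition. -/
theorem isDicksonTrivial_reflection_mul (v w : V) (u₁ u₂ : Aˣ) (h₁ : 𝒬 v = u₁) (h₂ : 𝒬 w = u₂)
    (hh : reflection 𝒬 v u₁ h₁ * reflection 𝒬 w u₂ h₂ ∈ QuadGrp.O 𝒬) :
    QuadGrp.IsDicksonTrivial 𝒬 (reflection 𝒬 v u₁ h₁ * reflection 𝒬 w u₂ h₂) hh := by
  intro z hz
  have hc : CliffordAlgebra.ι 𝒬 v * CliffordAlgebra.ι 𝒬 w ∈ CliffordAlgebra.even 𝒬 := by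
    rw [← Subalgebra.mem_toSubmodule, CliffordAlgebra.even_toSubmodule]
    exact CliffordAlgebra.ι_mul_ι_mem_evenOdd_zero 𝒬 v w
  have hcomm : (z : CliffordAlgebra 𝒬) * (CliffordAlgebra.ι 𝒬 v * CliffordAlgebra.ι 𝒬 w) =
      (CliffordAlgebra.ι 𝒬 v * CliffordAlgebra.ι 𝒬 w) * z := by
    have := Subalgebra.mem_center_iff.mp hz ⟨_, hc⟩
    exact (congrArg Subtype.val this).symm
  have key := map_mul_ι_mul_ι 𝒬 v w u₁ u₂ h₁ h₂ hh (z : CliffordAlgebra 𝒬)
  rw [← hcomm] at key
  -- cancel `ι v * ι w`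
  have hcc : CliffordAlgebra.ι 𝒬 v * (CliffordAlgebra.ι 𝒬 w *
      (CliffordAlgebra.ι 𝒬 w * CliffordAlgebra.ι 𝒬 v)) =
      algebraMap A (CliffordAlgebra 𝒬) ((u₁ : A) * (u₂ : A)) := by
    rw [← mul_assoc (CliffordAlgebra.ι 𝒬 w), CliffordAlgebra.ι_sq_scalar, h₂,
      Algebra.commutes, ← mul_assoc, CliffordAlgebra.ι_sq_scalar, h₁, ← map_mul]
  have key2 := congrArg (fun x => x * (CliffordAlgebra.ι 𝒬 w * CliffordAlgebra.ι 𝒬 v)) key
  simp only [mul_assoc] at key2
  rw [hcc] at key2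
  have hunit : IsUnit (algebraMap A (CliffordAlgebra 𝒬) ((u₁ : A) * (u₂ : A))) :=
    ((u₁ * u₂).isUnit.map (algebraMap A (CliffordAlgebra 𝒬)))
  exact hunit.mul_left_injective key2

/-- A product of two reflections lies in `SOeven`. -/
theorem reflection_mul_mem_SOeven (v w : V) (u₁ u₂ : Aˣ) (h₁ : 𝒬 v = u₁) (h₂ : 𝒬 w = u₂) :
    reflection 𝒬 v u₁ h₁ * reflection 𝒬 w u₂ h₂ ∈ QuadGrp.SOeven 𝒬 := by
  have hh : reflection 𝒬 v u₁ h₁ * reflection 𝒬 w u₂ h₂ ∈ QuadGrp.O 𝒬 :=
    (QuadGrp.O 𝒬).mul_mem (reflection_isometry 𝒬 v u₁ h₁) (reflection_isometry 𝒬 w u₂ h₂)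
  exact ⟨hh, isDicksonTrivial_reflection_mul 𝒬 v w u₁ u₂ h₁ h₂ hh⟩

end Clifford

section Comm

variable {A V : Type*} [CommRing A] [AddCommGroup V] [Module A V] (𝒬 : QuadraticForm A V)

/-- If `G` commutes with `s_v s_w` and `z₀ ⊥ w`, then `B(v, z₀) • G v` lies in the span of `v, w`. -/
theorem comm_reflection_mul (G : V ≃ₗ[A] V) (v w : V) (u₁ u₂ : Aˣ) (h₁ : 𝒬 v = u₁) (h₂ : 𝒬 w = u₂)
    (hcomm : G * (reflection 𝒬 v u₁ h₁ * reflection 𝒬 w u₂ h₂) =
      (reflection 𝒬 v u₁ h₁ * reflection 𝒬 w u₂ h₂) * G)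
    (z₀ : V) (hz : polar 𝒬 w z₀ = 0) :
    ∃ a b : A, polar 𝒬 v z₀ • G v = a • v + b • w := by
  have e1 : reflection 𝒬 w u₂ h₂ z₀ = z₀ := by
    rw [reflection_apply, hz, mul_zero, zero_smul, sub_zero]
  have h := LinearEquiv.congr_fun hcomm z₀
  rw [LinearEquiv.mul_apply, LinearEquiv.mul_apply, LinearEquiv.mul_apply, LinearEquiv.mul_apply,
    e1, reflection_apply 𝒬 v, map_sub, map_smul, reflection_apply 𝒬 v, reflection_apply 𝒬 w,
    sub_sub, sub_right_inj] at h
  refine ⟨(u₁ : A) * ((↑u₁⁻¹ : A) * polar 𝒬 v (G z₀ - ((↑u₂⁻¹ : A) * polar 𝒬 w (G z₀)) • w)),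
    (u₁ : A) * ((↑u₂⁻¹ : A) * polar 𝒬 w (G z₀)), ?_⟩
  calc polar 𝒬 v z₀ • G v = (u₁ : A) • (((↑u₁⁻¹ : A) * polar 𝒬 v z₀) • G v) := by
        rw [smul_smul, ← mul_assoc, Units.mul_inv, one_mul]
    _ = _ := by rw [h, smul_add, smul_smul, smul_smul, add_comm]

end Comm

section BaseChange

/-- A product of two reflections lies in `SO(q)(A)` (rank `2m`). -/
theorem reflection_mul_mem_sorth {R : Type u} [CommRing R] (m : ℕ)
    (Q : QuadraticForm R (Fin (2 * m) → R)) (A : Type*) [CommRing A] [Algebra R A]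
    (v w : A ⊗[R] (Fin (2 * m) → R)) (u₁ u₂ : Aˣ) (h₁ : QuadGrp.baseChangeForm A Q v = u₁)
    (h₂ : QuadGrp.baseChangeForm A Q w = u₂) :
    reflection (QuadGrp.baseChangeForm A Q) v u₁ h₁ * reflection (QuadGrp.baseChangeForm A Q) w u₂ h₂ ∈
      QuadGrp.sorth Q A := by
  unfold QuadGrp.sorth QuadGrp.SO
  rcases subsingleton_or_nontrivial A with hA | hA
  · have hodd : ¬ Even (Module.finrank A (A ⊗[R] (Fin (2 * m) → R))) := by
      rw [Module.finrank_subsingleton]
      decide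
    rw [if_neg hodd]
    refine ⟨(QuadGrp.O _).mul_mem (reflection_isometry _ v u₁ h₁) (reflection_isometry _ w u₂ h₂), ?_⟩
    change _ ∈ (LinearEquiv.det (R := A) (M := A ⊗[R] (Fin (2 * m) → R))).ker
    rw [MonoidHom.mem_ker]
    exact Subsingleton.elim _ _
  · have : Nontrivial R := (algebraMap R A).domain_nontrivial
    have hev : Even (Module.finrank A (A ⊗[R] (Fin (2 * m) → R))) := by
      rw [Module.finrank_baseChange, Module.finrank_fin_fun]
      exact even_two_mul m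
    rw [if_pos hev]
    exact reflection_mul_mem_SOeven _ v w u₁ u₂ h₁ h₂

end BaseChange

section Poly

open Polynomial

variable {K : Type*} [CommRing K]

/-- The `3 × 3` minor of the matrix with columns `X, v, w` on the rows `i, j, k`. -/
def det3 {ι : Type*} (X v w : ι → K) (i j k : ι) : K :=
  X i * (v j * w k - v k * w j) - X j * (v i * w k - v k * w i) + X k * (v i * w j - v j * w i)

/-- If `P • X = a • v + b • w` coordinatewise then `P * det3 X v w = 0`. -/
theorem det3_eq_zero_of_span {ι : Type*} (P a b : K) (X v w : ι → K)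
    (h : ∀ r, P * X r = a * v r + b * w r) (i j k : ι) : P * det3 X v w i j k = 0 := by
  unfold det3
  linear_combination (v j * w k - v k * w j) * h i - (v i * w k - v k * w i) * h j +
    (v i * w j - v j * w i) * h k

/-- A linear polynomial. -/
noncomputable def lin (a b : K) : K[X] := C a + X * C b

theorem natDegree_lin_le (a b : K) : (lin a b).natDegree ≤ 1 := by
  unfold lin
  compute_degree

theorem coeff_lin_one (a b : K) : (lin a b).coeff 1 = b := by
  simp [lin]

theorem coe_lin (a b : K) :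
    ((lin a b : K[X]) : PowerSeries K) = PowerSeries.C a + PowerSeries.X * PowerSeries.C b := by
  rw [lin, Polynomial.coe_add, Polynomial.coe_mul, Polynomial.coe_C, Polynomial.coe_C,
    Polynomial.coe_X]

theorem natDegree_lin_mul_le (a0 a1 b0 b1 : K) : (lin a0 a1 * lin b0 b1).natDegree ≤ 2 :=
  natDegree_mul_le_of_le (natDegree_lin_le _ _) (natDegree_lin_le _ _)

theorem coeff_two_lin_mul (a0 a1 b0 b1 : K) : (lin a0 a1 * lin b0 b1).coeff 2 = a1 * b1 := by
  have := coeff_mul_add_eq_of_natDegree_le (df := 1) (dg := 1) (natDegree_lin_le a0 a1)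
    (natDegree_lin_le b0 b1)
  rwa [coeff_lin_one, coeff_lin_one] at this

theorem natDegree_lin_mul_mul_le (a0 a1 b0 b1 c0 c1 : K) :
    (lin a0 a1 * (lin b0 b1 * lin c0 c1)).natDegree ≤ 3 :=
  natDegree_mul_le_of_le (natDegree_lin_le _ _) (natDegree_lin_mul_le _ _ _ _)

theorem coeff_three_lin_mul_mul (a0 a1 b0 b1 c0 c1 : K) :
    (lin a0 a1 * (lin b0 b1 * lin c0 c1)).coeff 3 = a1 * (b1 * c1) := by
  have := coeff_mul_add_eq_of_natDegree_le (df := 1) (dg := 2) (natDegree_lin_le a0 a1)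
    (natDegree_lin_mul_le b0 b1 c0 c1)
  rwa [coeff_lin_one, coeff_two_lin_mul] at this

theorem top_coeff {ι : Type*} (p0 p1 q0 q1 r0 r1 s0 s1 : K) (G0 G1 V0 V1 W0 W1 : ι → K) (i j k : ι)
    (h : (lin p0 p1 * lin q0 q1 - lin r0 r1 * lin s0 s1) *
      det3 (fun r => lin (G0 r) (G1 r)) (fun r => lin (V0 r) (V1 r)) (fun r => lin (W0 r) (W1 r))
        i j k = 0) :
    (p1 * q1 - r1 * s1) * det3 G1 V1 W1 i j k = 0 := by
  set P : K[X] := lin p0 p1 * lin q0 q1 - lin r0 r1 * lin s0 s1 with hP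
  set D : K[X] := det3 (fun r => lin (G0 r) (G1 r)) (fun r => lin (V0 r) (V1 r))
    (fun r => lin (W0 r) (W1 r)) i j k with hD
  have hPd : P.natDegree ≤ 2 :=
    (natDegree_sub_le_of_le (natDegree_lin_mul_le _ _ _ _) (natDegree_lin_mul_le _ _ _ _))
  have hPc : P.coeff 2 = p1 * q1 - r1 * s1 := by
    rw [hP, coeff_sub, coeff_two_lin_mul, coeff_two_lin_mul]
  have hD' : D = lin (G0 i) (G1 i) * (lin (V0 j) (V1 j) * lin (W0 k) (W1 k)) -
      lin (G0 i) (G1 i) * (lin (V0 k) (V1 k) * lin (W0 j) (W1 j)) -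
      (lin (G0 j) (G1 j) * (lin (V0 i) (V1 i) * lin (W0 k) (W1 k)) -
        lin (G0 j) (G1 j) * (lin (V0 k) (V1 k) * lin (W0 i) (W1 i))) +
      (lin (G0 k) (G1 k) * (lin (V0 i) (V1 i) * lin (W0 j) (W1 j)) -
        lin (G0 k) (G1 k) * (lin (V0 j) (V1 j) * lin (W0 i) (W1 i))) := by
    rw [hD, det3]
    ring
  have hDd : D.natDegree ≤ 3 := by
    rw [hD']
    refine natDegree_add_le_of_degree_le (natDegree_sub_le_of_le
      (natDegree_sub_le_of_le (natDegree_lin_mul_mul_le _ _ _ _ _ _) (natDegree_lin_mul_mul_le _ _ _ _ _ _))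
      (natDegree_sub_le_of_le (natDegree_lin_mul_mul_le _ _ _ _ _ _) (natDegree_lin_mul_mul_le _ _ _ _ _ _)))
      (natDegree_sub_le_of_le (natDegree_lin_mul_mul_le _ _ _ _ _ _) (natDegree_lin_mul_mul_le _ _ _ _ _ _))
  have hDc : D.coeff 3 = det3 G1 V1 W1 i j k := by
    rw [hD']
    simp only [coeff_add, coeff_sub, coeff_three_lin_mul_mul, det3]
    ring
  have := coeff_mul_add_eq_of_natDegree_le hPd hDd
  rw [h, coeff_zero, hPc, hDc] at this
  exact this.symm

theorem coe_det3 {ι : Type*} (f g h : ι → K[X]) (i j k : ι) :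
    ((det3 f g h i j k : K[X]) : PowerSeries K) =
      det3 (fun r => (f r : PowerSeries K)) (fun r => (g r : PowerSeries K))
        (fun r => (h r : PowerSeries K)) i j k := by
  simp only [det3, Polynomial.coe_add, Polynomial.coe_sub, Polynomial.coe_mul]

theorem map_det3 {K' : Type*} [CommRing K'] (φ : K →+* K') {ι : Type*} (f g h : ι → K) (i j k : ι) :
    φ (det3 f g h i j k) = det3 (fun r => φ (f r)) (fun r => φ (g r)) (fun r => φ (h r)) i j k := by
  simp only [det3, map_add, map_sub, map_mul]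

end Poly

section Key

variable {ι : Type} [Fintype ι] [DecidableEq ι] {R : Type u} [CommRing R]

omit [DecidableEq ι] in
/-- **Key extraction for products of two reflections.** -/
theorem key38 (Q : QuadraticForm R (ι → R)) (g : (ι → R) ≃ₗ[R] (ι → R))
    (H : ∀ (A : Type u) [CommRing A] [Algebra R A] (v w : A ⊗[R] (ι → R)) (u₁ u₂ : Aˣ)
        (_ : QuadGrp.baseChangeForm A Q v = u₁) (_ : QuadGrp.baseChangeForm A Q w = u₂)
        (z₀ : A ⊗[R] (ι → R)) (_ : polar (QuadGrp.baseChangeForm A Q) w z₀ = 0),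
        ∃ a b : A, polar (QuadGrp.baseChangeForm A Q) v z₀ •
          g.baseChange R A (ι → R) (ι → R) v = a • v + b • w)
    (v₀ y y' z₁ z₂ : ι → R) (i j k : ι) :
    ∃ N : ℕ, (Q v₀) ^ N * ((polar Q y' z₂ * polar Q y z₁ - polar Q y' z₁ * polar Q y z₂) *
      det3 (g y) y y' i j k) = 0 := by
  set s := Q v₀ with hs
  let Rs := Localization.Away s
  let A := PowerSeries Rs
  let 𝒬 := QuadGrp.baseChangeForm A Q
  let t : A := PowerSeries.X
  let ιm : (ι → R) → A ⊗[R] (ι → R) := fun m => (1 : A) ⊗ₜ[R] m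
  let al : R →+* Rs := algebraMap R Rs
  have hal : ∀ r : R, algebraMap R A r = PowerSeries.C (al r) :=
    fun r => PowerSeries.algebraMap_apply
  -- values at `v₀ + t x` are units
  have hunit : ∀ x : ι → R, IsUnit (𝒬 (ιm v₀ + t • ιm x)) := by
    intro x
    have hQv : 𝒬 (ιm v₀ + t • ιm x) = algebraMap R A (Q v₀) + t * t * algebraMap R A (Q x) +
        t * algebraMap R A (polar Q v₀ x) := by
      rw [QuadraticMap.map_add 𝒬, QuadraticMap.map_smul, polar_smul_right]
      simp only [ιm, 𝒬, baseChangeForm_one_tmul, polar_baseChangeForm_one_tmul, smul_eq_mul]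
    rw [PowerSeries.isUnit_iff_constantCoeff, hQv]
    simp only [map_add, map_mul, hal, PowerSeries.constantCoeff_C, t, PowerSeries.constantCoeff_X,
      zero_mul, add_zero]
    exact IsLocalization.Away.algebraMap_isUnit s
  -- polar forms and coordinates are linear polynomials
  have epol : ∀ x z : ι → R, polar 𝒬 (ιm v₀ + t • ιm x) (ιm z) =
      ((lin (al (polar Q v₀ z)) (al (polar Q x z)) : Polynomial Rs) : PowerSeries Rs) := by
    intro x z
    rw [coe_lin, polar_add_left, polar_smul_left]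
    simp only [ιm, 𝒬, polar_baseChangeForm_one_tmul, smul_eq_mul, hal, t, al]
  have ecoord : ∀ (x : ι → R) (r : ι), coord A r (ιm v₀ + t • ιm x) =
      ((lin (al (v₀ r)) (al (x r)) : Polynomial Rs) : PowerSeries Rs) := by
    intro x r
    rw [coe_lin, map_add, map_smul]
    simp only [ιm, coord_one_tmul, smul_eq_mul, hal, t, al]
  have egcoord : ∀ (x : ι → R) (r : ι),
      coord A r (g.baseChange R A (ι → R) (ι → R) (ιm v₀ + t • ιm x)) =
      ((lin (al (g v₀ r)) (al (g x r)) : Polynomial Rs) : PowerSeries Rs) := by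
    intro x r
    rw [coe_lin, map_add, map_smul, map_add, map_smul]
    simp only [ιm, LinearEquiv.baseChange_tmul, coord_one_tmul, smul_eq_mul, hal, t, al]
  set v : A ⊗[R] (ι → R) := ιm v₀ + t • ιm y with hv
  set w : A ⊗[R] (ι → R) := ιm v₀ + t • ιm y' with hw
  obtain ⟨u₁, hu₁⟩ := hunit y
  obtain ⟨u₂, hu₂⟩ := hunit y'
  set z₀ : A ⊗[R] (ι → R) := polar 𝒬 w (ιm z₂) • ιm z₁ - polar 𝒬 w (ιm z₁) • ιm z₂ with hz₀
  have hz : polar 𝒬 w z₀ = 0 := by
    rw [hz₀, polar_sub_right, polar_smul_right, polar_smul_right]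
    simp only [smul_eq_mul]
    ring
  have hP : polar 𝒬 v z₀ = polar 𝒬 w (ιm z₂) * polar 𝒬 v (ιm z₁) -
      polar 𝒬 w (ιm z₁) * polar 𝒬 v (ιm z₂) := by
    rw [hz₀, polar_sub_right, polar_smul_right, polar_smul_right]
    simp only [smul_eq_mul]
  obtain ⟨a, b, hab⟩ := H A v w u₁ u₂ hu₁.symm hu₂.symm z₀ hz
  have hcoord : ∀ r : ι, polar 𝒬 v z₀ * coord A r (g.baseChange R A (ι → R) (ι → R) v) =
      a * coord A r v + b * coord A r w := by
    intro r
    have := congrArg (coord A r) hab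
    rwa [(coord A r).map_smul, (coord A r).map_add, (coord A r).map_smul, (coord A r).map_smul,
      smul_eq_mul, smul_eq_mul, smul_eq_mul] at this
  have h0 := det3_eq_zero_of_span (polar 𝒬 v z₀) a b
    (fun r => coord A r (g.baseChange R A (ι → R) (ι → R) v)) (fun r => coord A r v)
    (fun r => coord A r w) hcoord i j k
  rw [hP] at h0
  simp only [hv, hw, epol, ecoord, egcoord] at h0
  rw [← coe_det3, ← Polynomial.coe_mul, ← Polynomial.coe_mul, ← Polynomial.coe_sub,
    ← Polynomial.coe_mul, Polynomial.coe_eq_zero_iff] at h0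
  have h1 := top_coeff _ _ _ _ _ _ _ _ _ _ _ _ _ _ i j k h0
  have h2 : al ((polar Q y' z₂ * polar Q y z₁ - polar Q y' z₁ * polar Q y z₂) *
      det3 (g y) y y' i j k) = 0 := by
    rw [map_mul, map_sub, map_mul, map_mul, map_det3]
    exact h1
  rw [IsLocalization.map_eq_zero_iff (Submonoid.powers s)] at h2
  obtain ⟨⟨_, N, rfl⟩, hN⟩ := h2
  exact ⟨N, hN⟩

end Key

section PureAlgebra

variable {R : Type u} [CommRing R] (n : ℕ)

theorem exists_ne_ne (hn : 3 ≤ n) (c j : Fin n) : ∃ d : Fin n, d ≠ c ∧ d ≠ j := by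
  have h1 : ({c, j} : Finset (Fin n)).card < (Finset.univ : Finset (Fin n)).card := by
    rw [Finset.card_univ, Fintype.card_fin]
    exact lt_of_le_of_lt Finset.card_le_two (by omega)
  obtain ⟨d, _, hd⟩ := Finset.exists_mem_notMem_of_card_lt_card h1
  refine ⟨d, fun h => hd (by simp [h]), fun h => hd (by simp [h])⟩

/-- **Pure algebra**: the `3 × 3`-minor identity forces an isometry of a regular form to be a scalar. -/
theorem scalar_of_det3 (hn : 3 ≤ n) (Q : QuadraticForm R (Fin n → R)) (hQ : QuadGrp.IsRegular Q)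
    (g : (Fin n → R) ≃ₗ[R] (Fin n → R)) (hg : ∀ v, Q (g v) = Q v)
    (T : ∀ (y y' z₁ z₂ : Fin n → R) (i j k : Fin n),
      (polar Q y' z₂ * polar Q y z₁ - polar Q y' z₁ * polar Q y z₂) * det3 (g y) y y' i j k = 0) :
    ∃ c : R, c * c = 1 ∧ ∀ v, g v = c • v := by
  have hb : ∀ i : Fin n, ∃ x : Fin n → R, ∀ m : Fin n → R, polar Q m x = m i := by
    intro i
    obtain ⟨x, hx⟩ := hQ.2 (LinearMap.proj i)
    refine ⟨x, fun m => ?_⟩
    have := LinearMap.congr_fun hx m
    rw [polar_comm]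
    simpa using this
  choose b hb using hb
  have T' : ∀ (y y' : Fin n → R) (c d i j k : Fin n),
      (y' d * y c - y' c * y d) * det3 (g y) y y' i j k = 0 := by
    intro y y' c d i j k
    have := T y y' (b c) (b d) i j k
    rwa [hb, hb, hb, hb] at this
  let e : Fin n → (Fin n → R) := fun c => Pi.single c 1
  have hoff : ∀ c j : Fin n, j ≠ c → g (e c) j = 0 := by
    intro c j hjc
    obtain ⟨d, hdc, hdj⟩ := exists_ne_ne n hn c j
    have := T' (e c) (e d) c d j c d
    simp only [e, det3, Pi.single_eq_same, Pi.single_eq_of_ne hdc, Pi.single_eq_of_ne hdc.symm,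
      Pi.single_eq_of_ne hjc, Pi.single_eq_of_ne hdj.symm] at this
    linear_combination this
  have hdiag : ∀ c d : Fin n, g (e d) d = g (e c) c := by
    intro c d
    by_cases hcd : c = d
    · subst hcd; rfl
    · have hdc : d ≠ c := fun h => hcd h.symm
      obtain ⟨k, hkc, hkd⟩ := exists_ne_ne n hn c d
      have := T' (e c + e d) (e k) c k c d k
      have h1 := hoff c d hdc
      have h2 := hoff d c hcd
      simp only [e] at h1 h2
      simp only [e, det3, map_add, Pi.add_apply, Pi.single_eq_same, Pi.single_eq_of_ne hcd,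
        Pi.single_eq_of_ne hdc, Pi.single_eq_of_ne hkc, Pi.single_eq_of_ne hkc.symm,
        Pi.single_eq_of_ne hkd, Pi.single_eq_of_ne hkd.symm, h1, h2] at this
      linear_combination -this
  let i0 : Fin n := ⟨0, by omega⟩
  set c0 := g (e i0) i0 with hc0
  have hgv : ∀ v, g v = c0 • v := by
    intro v
    funext j
    have := LinearMap.pi_apply_eq_sum_univ g.toLinearMap v
    simp only [LinearEquiv.coe_coe] at this
    rw [this, Finset.sum_apply, Pi.smul_apply, smul_eq_mul]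
    rw [Finset.sum_eq_single j]
    · have h1 : (fun k => if j = k then (1 : R) else 0) = e j := by
        funext k
        simp [e, Pi.single_apply, eq_comm]
      rw [Pi.smul_apply, h1, smul_eq_mul, hdiag i0 j, mul_comm]
    · intro b' _ hbj
      have h1 : (fun k => if b' = k then (1 : R) else 0) = e b' := by
        funext k
        simp [e, Pi.single_apply, eq_comm]
      rw [Pi.smul_apply, h1, hoff b' j (Ne.symm hbj), smul_zero]
    · intro h
      exact absurd (Finset.mem_univ j) h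
  refine ⟨c0, ?_, hgv⟩
  have hq : ∀ v, (c0 * c0 - 1) * Q v = 0 := by
    intro v
    have := hg v
    rw [hgv v, QuadraticMap.map_smul, smul_eq_mul] at this
    linear_combination this
  have h1 : polar Q (e i0) (b i0) = 1 := by
    rw [hb]
    simp [e]
  have : (c0 * c0 - 1) * polar Q (e i0) (b i0) = 0 := by
    rw [polar]
    linear_combination hq (e i0 + b i0) - hq (e i0) - hq (b i0)
  rw [h1, mul_one] at this
  linear_combination this

end PureAlgebra

end Groth.Agent.Lib.OrthCentre38
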