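import Groth.Prelude.Def_QuadGrp
import Mathlib.LinearAlgebra.Reflection
import Mathlib.LinearAlgebra.TensorProduct.Tower
import Mathlib.LinearAlgebra.StdBasis
import Mathlib.RingTheory.PowerSeries.Inverse
import Mathlib.RingTheory.Localization.Away.Basic
import Mathlib.RingTheory.Ideal.Maximal
import Mathlib.Tactic

/-!
# Tools for the centre of the orthogonal group (helper51)

* `reflection 𝒬 v u hu`: the reflection in a vector `v` with `𝒬 v = u` a unit, and
  `reflection_isometry`.
* base-change facts for `QuadGrp.baseChangeForm`.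
* `coeff_two_mul`: the `t²`-coefficient of a product of two linear power series.
* `eq_zero_of_pow_mul`: gluing over a family generating the unit ideal.
-/

set_option autoImplicit false
universe u

open scoped TensorProduct
open QuadraticMap

namespace Groth.Agent.Lib.OrthCentre51

section Reflection

variable {A V : Type*} [CommRing A] [AddCommGroup V] [Module A V] (𝒬 : QuadraticForm A V)

/-- The functional `z ↦ u⁻¹ * B(v, z)`. -/
noncomputable def reflForm (v : V) (u : Aˣ) : Module.Dual A V :=
  (↑u⁻¹ : A) • 𝒬.polarBilin v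

theorem reflForm_apply (v : V) (u : Aˣ) (z : V) :
    reflForm 𝒬 v u z = (↑u⁻¹ : A) * polar 𝒬 v z := rfl

theorem reflForm_self (v : V) (u : Aˣ) (hu : 𝒬 v = u) : reflForm 𝒬 v u v = 2 := by
  rw [reflForm_apply, polar_self, hu, two_smul, mul_add, Units.inv_mul]
  norm_num

/-- The reflection in a vector `v` whose value `𝒬 v = u` is a unit. -/
noncomputable def reflection (v : V) (u : Aˣ) (hu : 𝒬 v = u) : V ≃ₗ[A] V :=
  Module.reflection (reflForm_self 𝒬 v u hu)

theorem reflection_apply (v : V) (u : Aˣ) (hu : 𝒬 v = u) (z : V) :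
    reflection 𝒬 v u hu z = z - ((↑u⁻¹ : A) * polar 𝒬 v z) • v :=
  Module.reflection_apply _ _

theorem reflection_isometry (v : V) (u : Aˣ) (hu : 𝒬 v = u) (z : V) :
    𝒬 (reflection 𝒬 v u hu z) = 𝒬 z := by
  rw [reflection_apply, sub_eq_add_neg, ← neg_smul, QuadraticMap.map_add 𝒬, QuadraticMap.map_smul,
    polar_smul_right, hu, polar_comm 𝒬 z v]
  simp only [smul_eq_mul]
  have h1 : (↑u⁻¹ : A) * (u : A) = 1 := Units.inv_mul u
  linear_combination ((↑u⁻¹ : A) * polar 𝒬 v z * polar 𝒬 v z) * h1

end Reflection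

section BaseChange

variable {R : Type u} [CommRing R] {M : Type*} [AddCommGroup M] [Module R M] [Module.Free R M]
  (Q : QuadraticForm R M) (A : Type*) [CommRing A] [Algebra R A]

theorem baseChangeForm_apply (w : A ⊗[R] M) :
    QuadGrp.baseChangeForm A Q w =
      TensorProduct.AlgebraTensorModule.rid R A A (QuadGrp.baseChange A Q w) := rfl

theorem baseChangeForm_tmul (a : A) (m : M) :
    QuadGrp.baseChangeForm A Q (a ⊗ₜ[R] m) = a * a * algebraMap R A (Q m) := by
  rw [baseChangeForm_apply, QuadGrp.baseChange_tmul, TensorProduct.AlgebraTensorModule.rid_tmul,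
    Algebra.smul_def, mul_comm]

theorem baseChangeForm_one_tmul (m : M) :
    QuadGrp.baseChangeForm A Q ((1 : A) ⊗ₜ[R] m) = algebraMap R A (Q m) := by
  rw [baseChangeForm_tmul, one_mul, one_mul]

theorem polar_baseChangeForm_one_tmul (m m' : M) :
    polar (QuadGrp.baseChangeForm A Q) ((1 : A) ⊗ₜ[R] m) ((1 : A) ⊗ₜ[R] m') =
      algebraMap R A (polar Q m m') := by
  rw [polar, ← TensorProduct.tmul_add, baseChangeForm_one_tmul, baseChangeForm_one_tmul,
    baseChangeForm_one_tmul, polar, map_sub, map_sub]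

/-- Membership in `O(q)(A)` in terms of the `A`-valued form. -/
theorem mem_orth_iff (h : (A ⊗[R] M) ≃ₗ[A] (A ⊗[R] M)) :
    h ∈ QuadGrp.orth Q A ↔
      ∀ w, QuadGrp.baseChangeForm A Q (h w) = QuadGrp.baseChangeForm A Q w := by
  constructor
  · intro hh w
    rw [baseChangeForm_apply, baseChangeForm_apply]
    exact congrArg _ (hh w)
  · intro hh w
    have := hh w
    rw [baseChangeForm_apply, baseChangeForm_apply] at this
    exact (TensorProduct.AlgebraTensorModule.rid R A A).injective this

/-- The reflection in `v` lies in `O(q)(A)`. -/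
theorem reflection_mem_orth (v : A ⊗[R] M) (u : Aˣ) (hu : QuadGrp.baseChangeForm A Q v = u) :
    reflection (QuadGrp.baseChangeForm A Q) v u hu ∈ QuadGrp.orth Q A :=
  (mem_orth_iff Q A _).mpr (reflection_isometry _ v u hu)

end BaseChange

section Algebra

open PowerSeries in
/-- The `t²`-coefficient of a product of two linear power series. -/
theorem coeff_two_mul {K : Type*} [CommRing K] (a0 a1 b0 b1 : K) :
    PowerSeries.coeff 2 ((C a0 + X * C a1) * (C b0 + X * C b1) : PowerSeries K) = a1 * b1 := by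
  have h : ((C a0 + X * C a1) * (C b0 + X * C b1) : PowerSeries K) =
      C (a0 * b0) + X * C (a0 * b1 + a1 * b0) + X ^ 2 * C (a1 * b1) := by
    simp only [map_mul, map_add]
    ring
  rw [h]
  simp [PowerSeries.coeff_X_pow_mul', PowerSeries.coeff_C, show (2 : ℕ) = 1 + 1 from rfl,
    PowerSeries.coeff_succ_X_mul]

/-- Gluing: if for every `s` in a family generating the unit ideal some power of `s` kills `r`,
then `r = 0`. -/
theorem eq_zero_of_pow_mul {R : Type*} [CommRing R] (S₀ : Set R) (hS : Ideal.span S₀ = ⊤) (r : R)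
    (h : ∀ s ∈ S₀, ∃ N : ℕ, s ^ N * r = 0) : r = 0 := by
  by_contra hr
  -- the annihilator of `r`
  let I : Ideal R := LinearMap.ker (LinearMap.toSpanSingleton R R r)
  have hmem : ∀ c, c ∈ I ↔ c * r = 0 := by
    intro c
    simp [I, LinearMap.mem_ker, LinearMap.toSpanSingleton_apply]
  have hne : I ≠ ⊤ := by
    intro htop
    have : (1 : R) ∈ I := htop ▸ Submodule.mem_top
    rw [hmem, one_mul] at this
    exact hr this
  obtain ⟨m, hm, hIm⟩ := Ideal.exists_le_maximal I hne
  have hsub : S₀ ⊆ m := by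
    intro s hs
    obtain ⟨N, hN⟩ := h s hs
    have : s ^ N ∈ m := hIm ((hmem _).mpr hN)
    exact hm.isPrime.mem_of_pow_mem N this
  have : (⊤ : Ideal R) ≤ m := hS ▸ Ideal.span_le.mpr hsub
  exact hm.ne_top (top_le_iff.mp this)

end Algebra

section Key

variable {ι : Type} [Fintype ι] [DecidableEq ι] {R : Type u} [CommRing R]

/-- The `j`-th coordinate on `A ⊗ (ι → R)`. -/
noncomputable def coord (A : Type*) [CommRing A] [Algebra R A] (j : ι) :
    A ⊗[R] (ι → R) →ₗ[A] A :=
  (TensorProduct.AlgebraTensorModule.rid R A A).toLinearMap ∘ₗ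
    (LinearMap.proj j : (ι → R) →ₗ[R] R).baseChange A

omit [Fintype ι] [DecidableEq ι] in
theorem coord_one_tmul (A : Type*) [CommRing A] [Algebra R A] (j : ι) (m : ι → R) :
    coord A j ((1 : A) ⊗ₜ[R] m) = algebraMap R A (m j) := by
  simp [coord, Algebra.algebraMap_eq_smul_one]

omit [DecidableEq ι] in
/-- **Key extraction.** If `g` satisfies the reflection identity over every `R`-algebra, at every
vector with unit value, then over `R` it satisfies the identity at every vector up to a power of any
value `Q v₀`. -/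
theorem key (Q : QuadraticForm R (ι → R)) (g : (ι → R) ≃ₗ[R] (ι → R))
    (H : ∀ (A : Type u) [CommRing A] [Algebra R A] (v : A ⊗[R] (ι → R)) (u : Aˣ)
        (_ : QuadGrp.baseChangeForm A Q v = u) (z : A ⊗[R] (ι → R)),
        polar (QuadGrp.baseChangeForm A Q) v z • g.baseChange R A (ι → R) (ι → R) v =
          polar (QuadGrp.baseChangeForm A Q) v (g.baseChange R A (ι → R) (ι → R) z) • v)
    (v₀ x z : ι → R) (j : ι) :
    ∃ N : ℕ, (Q v₀) ^ N * (polar Q x z * g x j - polar Q x (g z) * x j) = 0 := by
  set s := Q v₀ with hs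
  let Rs := Localization.Away s
  let A := PowerSeries Rs
  let 𝒬 := QuadGrp.baseChangeForm A Q
  let t : A := PowerSeries.X
  let ιm : (ι → R) → A ⊗[R] (ι → R) := fun m => (1 : A) ⊗ₜ[R] m
  set v : A ⊗[R] (ι → R) := ιm v₀ + t • ιm x with hv
  have hal : ∀ r : R, algebraMap R A r = PowerSeries.C (algebraMap R Rs r) :=
    fun r => PowerSeries.algebraMap_apply
  -- the value at `v` is a unit
  have hQv : 𝒬 v = algebraMap R A (Q v₀) + t * t * algebraMap R A (Q x) +
      t * algebraMap R A (polar Q v₀ x) := by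
    rw [hv, QuadraticMap.map_add 𝒬, QuadraticMap.map_smul, polar_smul_right]
    simp only [ιm, 𝒬, baseChangeForm_one_tmul, polar_baseChangeForm_one_tmul, smul_eq_mul]
  have hunit : IsUnit (𝒬 v) := by
    rw [PowerSeries.isUnit_iff_constantCoeff, hQv]
    simp only [map_add, map_mul, hal, PowerSeries.constantCoeff_C, t, PowerSeries.constantCoeff_X,
      zero_mul, add_zero]
    exact IsLocalization.Away.algebraMap_isUnit s
  obtain ⟨u, hu⟩ := hunit
  have key1 := H A v u hu.symm (ιm z)
  have key2 := congrArg (coord A j) key1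
  rw [map_smul, map_smul] at key2
  have e1 : polar 𝒬 v (ιm z) = PowerSeries.C (algebraMap R Rs (polar Q v₀ z)) +
      PowerSeries.X * PowerSeries.C (algebraMap R Rs (polar Q x z)) := by
    rw [hv, polar_add_left, polar_smul_left]
    simp only [ιm, 𝒬, polar_baseChangeForm_one_tmul, smul_eq_mul, hal, t]
  have e2 : coord A j (g.baseChange R A (ι → R) (ι → R) v) =
      PowerSeries.C (algebraMap R Rs (g v₀ j)) +
      PowerSeries.X * PowerSeries.C (algebraMap R Rs (g x j)) := by
    rw [hv, map_add, map_smul, map_add, map_smul]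
    simp only [ιm, LinearEquiv.baseChange_tmul, coord_one_tmul, smul_eq_mul, hal, t]
  have e3 : polar 𝒬 v (g.baseChange R A (ι → R) (ι → R) (ιm z)) =
      PowerSeries.C (algebraMap R Rs (polar Q v₀ (g z))) +
      PowerSeries.X * PowerSeries.C (algebraMap R Rs (polar Q x (g z))) := by
    rw [hv, polar_add_left, polar_smul_left]
    simp only [ιm, 𝒬, LinearEquiv.baseChange_tmul, polar_baseChangeForm_one_tmul, smul_eq_mul,
      hal, t]
  have e4 : coord A j v = PowerSeries.C (algebraMap R Rs (v₀ j)) +
      PowerSeries.X * PowerSeries.C (algebraMap R Rs (x j)) := by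
    rw [hv, map_add, map_smul]
    simp only [ιm, coord_one_tmul, smul_eq_mul, hal, t]
  rw [e1, e2, e3, e4, smul_eq_mul, smul_eq_mul] at key2
  have key3 := congrArg (PowerSeries.coeff 2) key2
  rw [coeff_two_mul, coeff_two_mul, ← map_mul, ← map_mul, ← sub_eq_zero, ← map_sub,
    IsLocalization.map_eq_zero_iff (Submonoid.powers s)] at key3
  obtain ⟨⟨_, N, rfl⟩, hN⟩ := key3
  exact ⟨N, hN⟩

end Key

end Groth.Agent.Lib.OrthCentre51
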