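import Groth.Agent.Lib.OrthCentre51
import Groth.Agent.S17014

/-!
# Centre of the orthogonal group, II (helper51)

* `span_polar_eq_top`: for a non-degenerate form (in the sense of `QuadGrp.IsNondeg`, standard
  basis) of rank `≥ 2`, the values of the polar form generate the unit ideal.
* `scalar_of_T4`: an isometry `g` with `B(x,z) g(x) = B(x, g z) x` for all `x, z` is a scalar of
  square one.
-/

set_option autoImplicit false
universe u
open scoped TensorProduct
open QuadraticMap MvPolynomial

namespace Groth.Agent.Lib.OrthCentre51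

section Nondeg

variable {R : Type u} [CommRing R] (n : ℕ)

/-- Kill the off-diagonal variables. -/
noncomputable def θ : MvPolynomial (Sym2 (Fin n)) ℤ →ₐ[ℤ] MvPolynomial (Sym2 (Fin n)) ℤ :=
  aeval (fun s => if s.IsDiag then X s else 0)

theorem θ_X (i j : Fin n) : θ n (X s(i, j)) = if i = j then X s(i, j) else 0 := by
  simp [θ, Sym2.mk_isDiag_iff]

theorem θ_univPolarMat :
    (θ n).toRingHom.mapMatrix (QuadGrp.univPolarMat n) =
      Matrix.diagonal (fun i => 2 * X s(i, i)) := by
  ext i j
  simp only [RingHom.mapMatrix_apply, Matrix.map_apply, QuadGrp.univPolarMat, Matrix.of_apply,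
    Matrix.diagonal_apply, AlgHom.toRingHom_eq_coe, RingHom.coe_coe]
  by_cases h : i = j
  · subst h
    rw [if_pos rfl, if_pos rfl, map_mul, θ_X, if_pos rfl, map_ofNat]
  · rw [if_neg h, if_neg h, θ_X, if_neg h]

theorem θ_halfDiscUniv (hodd : Odd n) :
    θ n (QuadGrp.halfDiscUniv n) = 2 ^ (n - 1) * ∏ i : Fin n, X s(i, i) := by
  have h1 : θ n (QuadGrp.discUniv n) = ∏ i : Fin n, (2 * X s(i, i)) := by
    have := RingHom.map_det (θ n).toRingHom (QuadGrp.univPolarMat n)
    rw [θ_univPolarMat, Matrix.det_diagonal] at this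
    exact this
  rw [Groth.Agent.S17014.discUniv_eq_two_mul n hodd, map_mul, Finset.prod_mul_distrib,
    Finset.prod_const, Finset.card_univ, Fintype.card_fin] at h1
  have hn : n = (n - 1) + 1 := by
    obtain ⟨k, hk⟩ := hodd
    omega
  have h2 : (θ n) 2 = (2 : MvPolynomial (Sym2 (Fin n)) ℤ) := map_ofNat _ 2
  rw [h2] at h1
  have h3 : (2 : MvPolynomial (Sym2 (Fin n)) ℤ) ^ n = 2 * 2 ^ (n - 1) := by
    rw [← pow_succ']
    congr 1
  rw [h3, mul_assoc] at h1
  exact mul_left_cancel₀ (by norm_num) h1

/-- Evaluating at a point vanishing off the diagonal factors through `θ`. -/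
theorem eval₂_θ {K : Type*} [CommRing K] (c : Sym2 (Fin n) → K)
    (hc : ∀ i j : Fin n, i ≠ j → c s(i, j) = 0) (p : MvPolynomial (Sym2 (Fin n)) ℤ) :
    eval₂ (Int.castRingHom K) c (θ n p) = eval₂ (Int.castRingHom K) c p := by
  have h : (eval₂Hom (Int.castRingHom K) c).comp (θ n).toRingHom =
      eval₂Hom (Int.castRingHom K) c := by
    apply MvPolynomial.ringHom_ext
    · intro r
      simp
    · intro s
      induction s using Sym2.ind with
      | _ i j =>
        simp only [AlgHom.toRingHom_eq_coe, RingHom.coe_comp, RingHom.coe_coe, Function.comp_apply,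
          θ_X, coe_eval₂Hom]
        by_cases hij : i = j
        · rw [if_pos hij]
        · rw [if_neg hij, eval₂_zero, eval₂_X, hc i j hij]
  exact RingHom.congr_fun h p

/-- Non-degeneracy forces the values of the polar form to generate the unit ideal. -/
theorem span_polar_eq_top (hn : 2 ≤ n) (Q : QuadraticForm R (Fin n → R))
    (hQ : QuadGrp.IsNondeg (Pi.basisFun R (Fin n)) (LinearEquiv.refl R R) Q) :
    Ideal.span (Set.range fun p : (Fin n → R) × (Fin n → R) => polar Q p.1 p.2) = ⊤ := by
  set I := Ideal.span (Set.range fun p : (Fin n → R) × (Fin n → R) => polar Q p.1 p.2) with hI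
  have hmem : ∀ x y, polar Q x y ∈ I := fun x y => Ideal.subset_span ⟨(x, y), rfl⟩
  rcases Nat.even_or_odd n with heven | hodd
  · -- even rank: the polar form is perfect
    have hreg := hQ.1 heven
    let i0 : Fin n := ⟨0, by omega⟩
    obtain ⟨x, hx⟩ := hreg.2 (LinearMap.proj i0)
    have h1 : polar Q x (Pi.single i0 1) = 1 := by
      have := LinearMap.congr_fun hx (Pi.single i0 1)
      simpa using this
    rw [Ideal.eq_top_iff_one, ← h1]
    exact hmem _ _
  · -- odd rank: the half-discriminant is a unit
    have hsemi : IsUnit (QuadGrp.halfDisc (Pi.basisFun R (Fin n)) (LinearEquiv.refl R R) Q) :=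
      hQ.2 hodd
    rw [← Ideal.Quotient.subsingleton_iff]
    set c := QuadGrp.coeffs (Pi.basisFun R (Fin n)) (LinearEquiv.refl R R) Q with hc
    set c' : Sym2 (Fin n) → R ⧸ I := Ideal.Quotient.mk I ∘ c with hc'
    have hoff : ∀ i j : Fin n, i ≠ j → c' s(i, j) = 0 := by
      intro i j hij
      simp only [hc', hc, Function.comp_apply, QuadGrp.coeffs_mk, if_neg hij,
        LinearEquiv.refl_apply]
      exact Ideal.Quotient.eq_zero_iff_mem.mpr (hmem _ _)
    have hdiag : ∀ i : Fin n, 2 * c' s(i, i) = 0 := by
      intro i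
      simp only [hc', hc, Function.comp_apply, QuadGrp.coeffs_mk,
        LinearEquiv.refl_apply]
      rw [← map_ofNat (Ideal.Quotient.mk I) 2, ← map_mul]
      apply Ideal.Quotient.eq_zero_iff_mem.mpr
      have := hmem (Pi.basisFun R (Fin n) i) (Pi.basisFun R (Fin n) i)
      rwa [polar_self, two_smul, ← two_mul] at this
    have h1 : Ideal.Quotient.mk I (QuadGrp.halfDisc (Pi.basisFun R (Fin n)) (LinearEquiv.refl R R) Q) =
        eval₂ (Int.castRingHom (R ⧸ I)) c' (QuadGrp.halfDiscUniv n) := by
      rw [QuadGrp.halfDisc, eval₂_comp_left]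
      congr 1
    have h2 : eval₂ (Int.castRingHom (R ⧸ I)) c' (QuadGrp.halfDiscUniv n) = 0 := by
      rw [← eval₂_θ n c' hoff, θ_halfDiscUniv n hodd, eval₂_mul, eval₂_pow, eval₂_prod]
      simp only [eval₂_X]
      let i0 : Fin n := ⟨0, by omega⟩
      rw [← Finset.mul_prod_erase Finset.univ _ (Finset.mem_univ i0)]
      have hn1 : n - 1 = (n - 2) + 1 := by omega
      have h2' : eval₂ (Int.castRingHom (R ⧸ I)) c' (2 : MvPolynomial (Sym2 (Fin n)) ℤ) = 2 := by
        have : (2 : MvPolynomial (Sym2 (Fin n)) ℤ) = C 2 := by simp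
        rw [this, eval₂_C]
        simp
      rw [h2', hn1, pow_succ]
      calc (2 : R ⧸ I) ^ (n - 2) * 2 * (c' s(i0, i0) * ∏ x ∈ Finset.univ.erase i0, c' s(x, x))
          = 2 ^ (n - 2) * (2 * c' s(i0, i0)) * ∏ x ∈ Finset.univ.erase i0, c' s(x, x) := by ring
        _ = 0 := by rw [hdiag, mul_zero, zero_mul]
    have h3 : IsUnit (0 : R ⧸ I) := by
      rw [← h2, ← h1]
      exact hsemi.map _
    exact subsingleton_iff_zero_eq_one.mp (isUnit_zero_iff.mp h3)

end Nondeg

section PureAlgebra

variable {R : Type u} [CommRing R] (n : ℕ)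

/-- **Pure algebra**: the reflection identity over `R` forces an isometry to be a scalar. -/
theorem scalar_of_T4 (hn : 1 ≤ n) (Q : QuadraticForm R (Fin n → R))
    (g : (Fin n → R) ≃ₗ[R] (Fin n → R)) (hg : ∀ v, Q (g v) = Q v)
    (hE : Ideal.span (Set.range fun p : (Fin n → R) × (Fin n → R) => polar Q p.1 p.2) = ⊤)
    (T4 : ∀ (x z : Fin n → R) (j : Fin n), polar Q x z * g x j = polar Q x (g z) * x j) :
    ∃ c : R, c * c = 1 ∧ ∀ v, g v = c • v := by
  have T5 : ∀ (x y z : Fin n → R) (j : Fin n),
      polar Q x z * g y j + polar Q y z * g x j =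
        polar Q x (g z) * y j + polar Q y (g z) * x j := by
    intro x y z j
    have h := T4 (x + y) z j
    simp only [polar_add_left, map_add, Pi.add_apply] at h
    linear_combination h - T4 x z j - T4 y z j
  -- the main identity
  have W : ∀ (y : Fin n → R) (i j : Fin n), y i * g y j - y j * g y i = 0 := by
    intro y i j
    apply eq_zero_of_pow_mul _ hE
    rintro _ ⟨⟨x, z⟩, rfl⟩
    refine ⟨3, ?_⟩
    simp only
    have h0 : polar Q x z * (x i * g x j - x j * g x i) = 0 := by
      linear_combination x i * T4 x z j - x j * T4 x z i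
    have h1 : polar Q x z * (x i * g y j + y i * g x j - x j * g y i - y j * g x i) +
        polar Q y z * (x i * g x j - x j * g x i) = 0 := by
      linear_combination x i * T5 x y z j - x j * T5 x y z i + y i * T4 x z j - y j * T4 x z i
    have h2 : polar Q x z * (y i * g y j - y j * g y i) +
        polar Q y z * (x i * g y j + y i * g x j - x j * g y i - y j * g x i) = 0 := by
      linear_combination y i * T5 x y z j - y j * T5 x y z i + x i * T4 y z j - x j * T4 y z i
    linear_combination (polar Q x z) ^ 2 * h2 - polar Q x z * polar Q y z * h1 +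
      (polar Q y z) ^ 2 * h0
  let i0 : Fin n := ⟨0, by omega⟩
  let e : Fin n → (Fin n → R) := fun c => Pi.single c 1
  have hoff : ∀ c j : Fin n, j ≠ c → g (e c) j = 0 := by
    intro c j hjc
    have := W (e c) c j
    simp only [e, Pi.single_eq_same, Pi.single_eq_of_ne hjc, one_mul, zero_mul, sub_zero] at this
    exact this
  have hdiag : ∀ c d : Fin n, g (e d) d = g (e c) c := by
    intro c d
    by_cases hcd : c = d
    · subst hcd; rfl
    · have := W (e c + e d) c d
      have hdc : d ≠ c := fun h => hcd h.symm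
      simp only [map_add, Pi.add_apply, e, Pi.single_eq_same, Pi.single_eq_of_ne hcd,
        Pi.single_eq_of_ne hdc, add_zero, zero_add, one_mul] at this
      have h1 := hoff c d hdc
      have h2 := hoff d c hcd
      simp only [e] at h1 h2
      rw [h1, h2] at this
      linear_combination this
  set c0 := g (e i0) i0 with hc0
  have hgv : ∀ v, g v = c0 • v := by
    intro v
    funext j
    have := LinearMap.pi_apply_eq_sum_univ g.toLinearMap v
    simp only [LinearEquiv.coe_coe] at this
    rw [this, Finset.sum_apply, Pi.smul_apply, smul_eq_mul]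
    rw [Finset.sum_eq_single j]
    · have h1 : (fun k => if j = k then (1 : R) else 0) = e j := by
        funext k
        simp [e, Pi.single_apply, eq_comm]
      rw [Pi.smul_apply, h1, smul_eq_mul, hdiag i0 j, mul_comm]
    · intro b _ hbj
      have h1 : (fun k => if b = k then (1 : R) else 0) = e b := by
        funext k
        simp [e, Pi.single_apply, eq_comm]
      rw [Pi.smul_apply, h1, hoff b j (Ne.symm hbj), smul_zero]
    · intro h
      exact absurd (Finset.mem_univ j) h
  refine ⟨c0, ?_, hgv⟩
  have : c0 * c0 - 1 = 0 := by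
    apply eq_zero_of_pow_mul _ hE
    rintro _ ⟨⟨x, y⟩, rfl⟩
    refine ⟨1, ?_⟩
    simp only [pow_one]
    have hq : ∀ v, (c0 * c0 - 1) * Q v = 0 := by
      intro v
      have := hg v
      rw [hgv v, QuadraticMap.map_smul, smul_eq_mul] at this
      linear_combination this
    rw [polar]
    linear_combination hq (x + y) - hq x - hq y
  linear_combination this

end PureAlgebra

end Groth.Agent.Lib.OrthCentre51
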