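import Groth.Agent.Lib.OrthCentre51
import Mathlib.LinearAlgebra.Matrix.SchurComplement
import Mathlib.LinearAlgebra.Determinant
import Mathlib.LinearAlgebra.FreeModule.Finite.Basic
import Mathlib.LinearAlgebra.TensorProduct.Basis

/-!
# Centre of the special orthogonal group: tools (helper51)

* `det_reflection`: a reflection has determinant `-1`.
* `two_refl_identity`: what commuting with a product of two reflections says.
* `key2`: extraction of the Lie-algebra identity over `R` via nested power series.
* `scalar_of_minors`: `Λ²g = 1` forces `g` to be a scalar of square one in rank `≥ 3`.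
-/

set_option autoImplicit false
universe u

open scoped TensorProduct
open QuadraticMap

namespace Groth.Agent.Lib.OrthCentre51

section Det

variable {A V : Type*} [CommRing A] [AddCommGroup V] [Module A V] [Module.Free A V]
  [Module.Finite A V]

theorem det_preReflection (x : V) (f : Module.Dual A V) :
    LinearMap.det (Module.preReflection x f) = 1 - f x := by
  classical
  let b := Module.Free.chooseBasis A V
  rw [← LinearMap.det_toMatrix b]
  have h : LinearMap.toMatrix b b (Module.preReflection x f) =
      1 + Matrix.replicateCol Unit (fun i => - b.repr x i) *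
        Matrix.replicateRow Unit (fun j => f (b j)) := by
    ext i j
    rw [LinearMap.toMatrix_apply, Module.preReflection_apply, map_sub, map_smul,
      Finsupp.sub_apply, Finsupp.smul_apply, Module.Basis.repr_self, Matrix.add_apply,
      ← Matrix.vecMulVec_eq, Matrix.vecMulVec_apply, Matrix.one_apply, Finsupp.single_apply]
    simp only [smul_eq_mul]
    by_cases hij : i = j
    · subst hij; simp; ring
    · rw [if_neg hij, if_neg (fun h => hij h.symm)]; ring
  rw [h, Matrix.det_one_add_replicateCol_mul_replicateRow]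
  have h2 : f x = ∑ j, b.repr x j * f (b j) := by
    conv_lhs => rw [← b.sum_repr x]
    rw [map_sum]
    simp [smul_eq_mul]
  rw [h2, dotProduct, sub_eq_add_neg, ← Finset.sum_neg_distrib]
  congr 1
  apply Finset.sum_congr rfl
  intro j _
  ring

theorem det_reflection (𝒬 : QuadraticForm A V) (v : V) (u : Aˣ) (hu : 𝒬 v = u) :
    LinearEquiv.det (reflection 𝒬 v u hu) = -1 := by
  apply Units.ext
  rw [LinearEquiv.coe_det, Units.val_neg, Units.val_one]
  have : (reflection 𝒬 v u hu : V →ₗ[A] V) = Module.preReflection v (reflForm 𝒬 v u) := rfl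
  rw [this, det_preReflection, reflForm_self 𝒬 v u hu]
  norm_num

end Det

section TwoRefl

variable {A V : Type*} [CommRing A] [AddCommGroup V] [Module A V] (𝒬 : QuadraticForm A V)

/-- The unnormalised reflection `z ↦ 𝒬(v) z - B(v, z) v`. -/
def tau (v z : V) : V := 𝒬 v • z - polar 𝒬 v z • v

theorem smul_reflection (v : V) (u : Aˣ) (hu : 𝒬 v = u) (z : V) :
    (u : A) • reflection 𝒬 v u hu z = tau 𝒬 v z := by
  rw [reflection_apply, tau, smul_sub, smul_smul, ← mul_assoc, Units.mul_inv, one_mul, hu]

/-- Commuting with the product of two reflections, without denominators. -/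
theorem two_refl_identity (γ : V ≃ₗ[A] V) (v v' : V) (u u' : Aˣ) (hu : 𝒬 v = u) (hu' : 𝒬 v' = u')
    (hcomm : γ * (reflection 𝒬 v u hu * reflection 𝒬 v' u' hu') =
      (reflection 𝒬 v u hu * reflection 𝒬 v' u' hu') * γ) (z : V) :
    γ (tau 𝒬 v (tau 𝒬 v' z)) = tau 𝒬 v (tau 𝒬 v' (γ z)) := by
  have h1 := LinearEquiv.congr_fun hcomm z
  simp only [LinearEquiv.mul_apply] at h1
  have h2 : ∀ w, tau 𝒬 v (tau 𝒬 v' w) =
      ((u : A) * (u' : A)) • reflection 𝒬 v u hu (reflection 𝒬 v' u' hu' w) := by
    intro w
    rw [← smul_reflection 𝒬 v' u' hu', ← smul_reflection 𝒬 v u hu, map_smul, smul_smul]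
  rw [h2, h2, map_smul, h1]

theorem tau_tau (v v' z : V) :
    tau 𝒬 v (tau 𝒬 v' z) = (𝒬 v * 𝒬 v') • z - (𝒬 v * polar 𝒬 v' z) • v' -
      (𝒬 v' * polar 𝒬 v z - polar 𝒬 v' z * polar 𝒬 v v') • v := by
  simp only [tau, polar_sub_right, polar_smul_right, smul_sub, smul_smul, smul_eq_mul, sub_smul]

end TwoRefl

section Coeff

open PowerSeries

theorem coeff_one_lin {K : Type*} [CommRing K] (k0 k1 k2 : K) :
    PowerSeries.coeff 1 (C k0 + X * C k1 + X ^ 2 * C k2 : PowerSeries K) = k1 := by
  have e1 : PowerSeries.coeff 1 (X * C k1 : PowerSeries K) = k1 := by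
    rw [show (1 : ℕ) = 0 + 1 from rfl, coeff_succ_X_mul, coeff_zero_C]
  have e2 : PowerSeries.coeff 1 (X ^ 2 * C k2 : PowerSeries K) = 0 := by
    rw [coeff_X_pow_mul']; simp
  rw [map_add, map_add, PowerSeries.coeff_C, if_neg one_ne_zero, zero_add, e1, e2, add_zero]

theorem coeff_one_F {K : Type*} [CommRing K] (q' β qx a c p' px : K) :
    PowerSeries.coeff 1 ((C q' + X * C β + X ^ 2 * C qx) * C a * C p' +
      (C q' * (C a + X * C c) - C a * (C (2 * q') + X * C β)) * (C p' + X * C px) :
        PowerSeries K) = q' * (c * p' - a * px) := by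
  have h : ((C q' + X * C β + X ^ 2 * C qx) * C a * C p' +
      (C q' * (C a + X * C c) - C a * (C (2 * q') + X * C β)) * (C p' + X * C px) :
        PowerSeries K) =
      C (q' * a * p' + (q' * a - a * (2 * q')) * p') +
      X * C (β * a * p' + (q' * a - a * (2 * q')) * px + (q' * c - a * β) * p') +
      X ^ 2 * C (qx * a * p' + (q' * c - a * β) * px) := by
    simp only [map_mul, map_add, map_sub]
    ring
  rw [h, coeff_one_lin]
  ring

theorem coeff_one_inner {K : Type*} [CommRing K] (c0 p0 p1 a0 a1 px0 : K) :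
    PowerSeries.coeff 1 (C c0 * (C p0 + X * C p1) - (C a0 + X * C a1) * C px0 : PowerSeries K) =
      c0 * p1 - a1 * px0 := by
  have h : (C c0 * (C p0 + X * C p1) - (C a0 + X * C a1) * C px0 : PowerSeries K) =
      C (c0 * p0 - a0 * px0) + X * C (c0 * p1 - a1 * px0) + X ^ 2 * C 0 := by
    simp only [map_mul, map_sub, map_zero]
    ring
  rw [h, coeff_one_lin]

end Coeff

section Key2

variable {ι : Type} [Fintype ι] {R : Type u} [CommRing R]

/-- **Key extraction, II.** If `g` commutes over every `R`-algebra with all products of two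
reflections, then over `R` it commutes with the Lie algebra elements
`z ↦ B(x,z) y - B(y,z) x`, up to a power of any value `Q v₀`. -/
theorem key2 (Q : QuadraticForm R (ι → R)) (g : (ι → R) ≃ₗ[R] (ι → R))
    (H2 : ∀ (A : Type u) [CommRing A] [Algebra R A] (v v' : A ⊗[R] (ι → R)) (u u' : Aˣ)
        (hu : QuadGrp.baseChangeForm A Q v = u) (hu' : QuadGrp.baseChangeForm A Q v' = u'),
        g.baseChange R A (ι → R) (ι → R) *
            (reflection (QuadGrp.baseChangeForm A Q) v u hu *
              reflection (QuadGrp.baseChangeForm A Q) v' u' hu') =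
          (reflection (QuadGrp.baseChangeForm A Q) v u hu *
              reflection (QuadGrp.baseChangeForm A Q) v' u' hu') *
            g.baseChange R A (ι → R) (ι → R))
    (v₀ x y z : ι → R) (j : ι) :
    ∃ N : ℕ, (Q v₀) ^ N * (polar Q x z * g y j - polar Q y z * g x j -
        (polar Q x (g z) * y j - polar Q y (g z) * x j)) = 0 := by
  set s := Q v₀ with hs
  let Rs := Localization.Away s
  let K := PowerSeries Rs
  let A := PowerSeries K
  let 𝒬 := QuadGrp.baseChangeForm A Q
  let γ := g.baseChange R A (ι → R) (ι → R)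
  let T1 : A := PowerSeries.X
  let T2 : A := PowerSeries.C PowerSeries.X
  let ιm : (ι → R) → A ⊗[R] (ι → R) := fun m => (1 : A) ⊗ₜ[R] m
  let br : R → K := fun r => PowerSeries.C (algebraMap R Rs r)
  have hal : ∀ r : R, algebraMap R A r = PowerSeries.C (br r) := by
    intro r
    rw [PowerSeries.algebraMap_apply, PowerSeries.algebraMap_apply]
  set v' : A ⊗[R] (ι → R) := ιm v₀ + T2 • ιm y with hv'
  set v : A ⊗[R] (ι → R) := v' + T1 • ιm x with hv
  -- the `K`-level scalars
  set q' : K := br (Q v₀) + PowerSeries.X * br (polar Q v₀ y) + PowerSeries.X ^ 2 * br (Q y) with hq'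
  set β : K := br (polar Q v₀ x) + PowerSeries.X * br (polar Q y x) with hβ
  set qx : K := br (Q x) with hqx
  set a : K := br (polar Q v₀ z) + PowerSeries.X * br (polar Q y z) with ha
  set c : K := br (polar Q x z) with hc
  set p' : K := br (g v₀ j) + PowerSeries.X * br (g y j) with hp'
  set px : K := br (g x j) with hpx
  set ag : K := br (polar Q v₀ (g z)) + PowerSeries.X * br (polar Q y (g z)) with hag
  set cg : K := br (polar Q x (g z)) with hcg
  set w' : K := br (v₀ j) + PowerSeries.X * br (y j) with hw'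
  set wx : K := br (x j) with hwx
  have e_Qv' : 𝒬 v' = PowerSeries.C q' := by
    rw [hv', QuadraticMap.map_add 𝒬, QuadraticMap.map_smul, polar_smul_right]
    simp only [ιm, 𝒬, baseChangeForm_one_tmul, polar_baseChangeForm_one_tmul, smul_eq_mul, hal,
      T2, hq', map_add, map_mul, map_pow]
    ring
  have e_β : polar 𝒬 v' (ιm x) = PowerSeries.C β := by
    rw [hv', polar_add_left, polar_smul_left]
    simp only [ιm, 𝒬, polar_baseChangeForm_one_tmul, smul_eq_mul, hal, T2, hβ, map_add, map_mul]
  have e_Qv : 𝒬 v = PowerSeries.C q' + PowerSeries.X * PowerSeries.C β +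
      PowerSeries.X ^ 2 * PowerSeries.C qx := by
    rw [hv, QuadraticMap.map_add 𝒬, QuadraticMap.map_smul, polar_smul_right, e_Qv', e_β]
    simp only [ιm, 𝒬, baseChangeForm_one_tmul, smul_eq_mul, hal, T1, hqx]
    ring
  have e_a : polar 𝒬 v' (ιm z) = PowerSeries.C a := by
    rw [hv', polar_add_left, polar_smul_left]
    simp only [ιm, 𝒬, polar_baseChangeForm_one_tmul, smul_eq_mul, hal, T2, ha, map_add, map_mul]
  have e_pz : polar 𝒬 v (ιm z) = PowerSeries.C a + PowerSeries.X * PowerSeries.C c := by
    rw [hv, polar_add_left, polar_smul_left, e_a]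
    simp only [ιm, 𝒬, polar_baseChangeForm_one_tmul, smul_eq_mul, hal, T1, hc]
  have e_π : polar 𝒬 v v' = PowerSeries.C (2 * q') + PowerSeries.X * PowerSeries.C β := by
    rw [hv, polar_add_left, polar_smul_left, polar_self, e_Qv', polar_comm 𝒬 (ιm x) v', e_β]
    simp only [smul_eq_mul, T1, map_mul, two_smul]
    rw [map_ofNat]
    ring
  have e_ag : polar 𝒬 v' (γ (ιm z)) = PowerSeries.C ag := by
    rw [hv', polar_add_left, polar_smul_left]
    simp only [ιm, γ, 𝒬, LinearEquiv.baseChange_tmul, polar_baseChangeForm_one_tmul, smul_eq_mul,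
      hal, T2, hag, map_add, map_mul]
  have e_pgz : polar 𝒬 v (γ (ιm z)) = PowerSeries.C ag + PowerSeries.X * PowerSeries.C cg := by
    rw [hv, polar_add_left, polar_smul_left, e_ag]
    simp only [ιm, γ, 𝒬, LinearEquiv.baseChange_tmul, polar_baseChangeForm_one_tmul, smul_eq_mul,
      hal, T1, hcg]
  have e_p' : coord A j (γ v') = PowerSeries.C p' := by
    rw [hv', map_add, map_smul, map_add, map_smul]
    simp only [ιm, γ, LinearEquiv.baseChange_tmul, coord_one_tmul, smul_eq_mul, hal, T2, hp',
      map_add, map_mul]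
  have e_pv : coord A j (γ v) = PowerSeries.C p' + PowerSeries.X * PowerSeries.C px := by
    rw [hv, map_add, map_smul, map_add, map_smul, e_p']
    simp only [ιm, γ, LinearEquiv.baseChange_tmul, coord_one_tmul, smul_eq_mul, hal, T1, hpx]
  have e_w' : coord A j v' = PowerSeries.C w' := by
    rw [hv', map_add, map_smul]
    simp only [ιm, coord_one_tmul, smul_eq_mul, hal, T2, hw', map_add, map_mul]
  have e_wv : coord A j v = PowerSeries.C w' + PowerSeries.X * PowerSeries.C wx := by
    rw [hv, map_add, map_smul, e_w']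
    simp only [ιm, coord_one_tmul, smul_eq_mul, hal, T1, hwx]
  -- units
  have hq'unit : IsUnit q' := by
    rw [PowerSeries.isUnit_iff_constantCoeff, hq']
    simp only [map_add, map_mul, map_pow, br, PowerSeries.constantCoeff_C,
      PowerSeries.constantCoeff_X, zero_mul, add_zero, ne_eq, OfNat.ofNat_ne_zero,
      not_false_eq_true, zero_pow]
    exact IsLocalization.Away.algebraMap_isUnit s
  have hu' : IsUnit (𝒬 v') := by
    rw [e_Qv', PowerSeries.isUnit_iff_constantCoeff, PowerSeries.constantCoeff_C]
    exact hq'unit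
  have hu : IsUnit (𝒬 v) := by
    rw [e_Qv, PowerSeries.isUnit_iff_constantCoeff]
    simp only [map_add, map_mul, map_pow, PowerSeries.constantCoeff_C,
      PowerSeries.constantCoeff_X, zero_mul, add_zero, ne_eq, OfNat.ofNat_ne_zero,
      not_false_eq_true, zero_pow]
    exact hq'unit
  obtain ⟨u, hu⟩ := hu
  obtain ⟨u', hu'⟩ := hu'
  have key1 := two_refl_identity 𝒬 γ v v' u u' hu.symm hu'.symm (H2 A v v' u u' hu.symm hu'.symm)
    (ιm z)
  rw [tau_tau, tau_tau] at key1
  have key2 := congrArg (coord A j) key1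
  simp only [map_sub, map_smul, smul_eq_mul] at key2
  rw [e_Qv, e_Qv', e_a, e_pz, e_π, e_ag, e_pgz, e_p', e_pv, e_w', e_wv] at key2
  have key3 : ((PowerSeries.C q' + PowerSeries.X * PowerSeries.C β +
        PowerSeries.X ^ 2 * PowerSeries.C qx) * PowerSeries.C a * PowerSeries.C p' +
      (PowerSeries.C q' * (PowerSeries.C a + PowerSeries.X * PowerSeries.C c) -
        PowerSeries.C a * (PowerSeries.C (2 * q') + PowerSeries.X * PowerSeries.C β)) *
        (PowerSeries.C p' + PowerSeries.X * PowerSeries.C px) : PowerSeries K) =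
      (PowerSeries.C q' + PowerSeries.X * PowerSeries.C β +
        PowerSeries.X ^ 2 * PowerSeries.C qx) * PowerSeries.C ag * PowerSeries.C w' +
      (PowerSeries.C q' * (PowerSeries.C ag + PowerSeries.X * PowerSeries.C cg) -
        PowerSeries.C ag * (PowerSeries.C (2 * q') + PowerSeries.X * PowerSeries.C β)) *
        (PowerSeries.C w' + PowerSeries.X * PowerSeries.C wx) := by
    linear_combination -key2
  have key4 := congrArg (PowerSeries.coeff 1) key3
  rw [coeff_one_F, coeff_one_F] at key4
  have key5 : c * p' - a * px = cg * w' - ag * wx := hq'unit.mul_left_cancel key4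
  have key6 : (PowerSeries.C (algebraMap R Rs (polar Q x z)) *
        (PowerSeries.C (algebraMap R Rs (g v₀ j)) +
          PowerSeries.X * PowerSeries.C (algebraMap R Rs (g y j))) -
      (PowerSeries.C (algebraMap R Rs (polar Q v₀ z)) +
          PowerSeries.X * PowerSeries.C (algebraMap R Rs (polar Q y z))) *
        PowerSeries.C (algebraMap R Rs (g x j)) : PowerSeries Rs) =
      PowerSeries.C (algebraMap R Rs (polar Q x (g z))) *
        (PowerSeries.C (algebraMap R Rs (v₀ j)) +
          PowerSeries.X * PowerSeries.C (algebraMap R Rs (y j))) -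
      (PowerSeries.C (algebraMap R Rs (polar Q v₀ (g z))) +
          PowerSeries.X * PowerSeries.C (algebraMap R Rs (polar Q y (g z)))) *
        PowerSeries.C (algebraMap R Rs (x j)) := key5
  have key7 := congrArg (PowerSeries.coeff 1) key6
  rw [coeff_one_inner, coeff_one_inner, ← map_mul, ← map_mul, ← map_mul, ← map_mul, ← map_sub,
    ← map_sub, ← sub_eq_zero, ← map_sub,
    IsLocalization.map_eq_zero_iff (Submonoid.powers s)] at key7
  obtain ⟨⟨_, N, rfl⟩, hN⟩ := key7
  exact ⟨N, hN⟩

end Key2

section Minors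

variable {R : Type u} [CommRing R] (n : ℕ)

/-- **Pure algebra, II**: an isometry of a regular form of rank `≥ 3` commuting with the Lie
algebra elements `z ↦ B(x,z) y - B(y,z) x` is a scalar of square one. -/
theorem scalar_of_lie (hn : 3 ≤ n) (Q : QuadraticForm R (Fin n → R)) (hreg : QuadGrp.IsRegular Q)
    (g : (Fin n → R) ≃ₗ[R] (Fin n → R)) (hg : ∀ v, Q (g v) = Q v)
    (L : ∀ (x y z : Fin n → R) (j : Fin n),
      polar Q x z * g y j - polar Q y z * g x j =
        polar Q x (g z) * y j - polar Q y (g z) * x j) :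
    ∃ c : R, c * c = 1 ∧ ∀ v, g v = c • v := by
  have hpol : ∀ a b, polar Q (g a) (g b) = polar Q a b := by
    intro a b
    simp only [polar, ← map_add, hg]
  -- the `2 × 2` minors of `g` are those of the identity
  have M : ∀ (x y : Fin n → R) (i j : Fin n),
      g x i * g y j - g y i * g x j = x i * y j - y i * x j := by
    intro x y i j
    obtain ⟨zi, hzi⟩ := hreg.2 (LinearMap.proj i)
    have hz : ∀ w, polar Q w zi = w i := by
      intro w
      rw [polar_comm]
      exact LinearMap.congr_fun hzi w
    have h1 := L x y (g.symm zi) j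
    have h2 : ∀ w, polar Q w (g.symm zi) = g w i := by
      intro w
      rw [← hpol w (g.symm zi), LinearEquiv.apply_symm_apply, hz]
    rw [h2, h2, LinearEquiv.apply_symm_apply, hz, hz] at h1
    exact h1
  let e : Fin n → (Fin n → R) := fun c => Pi.single c 1
  have he : ∀ c k : Fin n, e c k = if k = c then 1 else 0 := fun c k => Pi.single_apply c 1 k
  have hoff : ∀ a i : Fin n, i ≠ a → g (e a) i = 0 := by
    intro a i hia
    have hb : ∃ b : Fin n, b ≠ a ∧ b ≠ i := by
      by_contra hcon
      push Not at hcon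
      have h0 := hcon ⟨0, by omega⟩
      have h1 := hcon ⟨1, by omega⟩
      have h2 := hcon ⟨2, by omega⟩
      simp only [ne_eq, Fin.ext_iff] at h0 h1 h2 hia
      omega
    obtain ⟨b, hba, hbi⟩ := hb
    have m1 := M (e a) (e b) i b
    have m2 := M (e a) (e b) a i
    have m3 := M (e a) (e b) a b
    simp only [he, if_neg hia, if_neg hba, if_neg (Ne.symm hba), if_neg (Ne.symm hbi),
      if_true] at m1 m2 m3
    linear_combination g (e a) a * m1 + g (e a) b * m2 - g (e a) i * m3
  have hprod : ∀ a b : Fin n, a ≠ b → g (e a) a * g (e b) b = 1 := by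
    intro a b hab
    have m3 := M (e a) (e b) a b
    simp only [he, if_neg hab, if_neg (Ne.symm hab), if_true] at m3
    rw [hoff b a hab, hoff a b (Ne.symm hab)] at m3
    linear_combination m3
  have hdiag : ∀ a c : Fin n, g (e c) c = g (e a) a := by
    intro a c
    by_cases hac : a = c
    · subst hac; rfl
    · have hb : ∃ b : Fin n, b ≠ a ∧ b ≠ c := by
        by_contra hcon
        push Not at hcon
        have h0 := hcon ⟨0, by omega⟩
        have h1 := hcon ⟨1, by omega⟩
        have h2 := hcon ⟨2, by omega⟩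
        simp only [ne_eq, Fin.ext_iff] at h0 h1 h2 hac
        omega
      obtain ⟨b, hba, hbc⟩ := hb
      have p1 := hprod a b (Ne.symm hba)
      have p2 := hprod b c hbc
      linear_combination (-(g (e c) c)) * p1 + g (e a) a * p2
  let i0 : Fin n := ⟨0, by omega⟩
  let i1 : Fin n := ⟨1, by omega⟩
  set c0 := g (e i0) i0 with hc0
  refine ⟨c0, ?_, ?_⟩
  · have h01 : i0 ≠ i1 := by simp [i0, i1, Fin.ext_iff]
    have := hprod i0 i1 h01
    rw [hdiag i0 i1] at this
    exact this
  · intro v
    funext j
    have := LinearMap.pi_apply_eq_sum_univ g.toLinearMap v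
    simp only [LinearEquiv.coe_coe] at this
    rw [this, Finset.sum_apply, Pi.smul_apply, smul_eq_mul]
    rw [Finset.sum_eq_single j]
    · have h1 : (fun k => if j = k then (1 : R) else 0) = e j := by
        funext k
        simp [e, Pi.single_apply, eq_comm]
      rw [Pi.smul_apply, h1, smul_eq_mul, hdiag i0 j, mul_comm]
    · intro b _ hbj
      have h1 : (fun k => if b = k then (1 : R) else 0) = e b := by
        funext k
        simp [e, Pi.single_apply, eq_comm]
      rw [Pi.smul_apply, h1, hoff b j (Ne.symm hbj), smul_zero]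
    · intro h
      exact absurd (Finset.mem_univ j) h

end Minors

section Misc

variable {A V : Type*} [CommRing A] [AddCommGroup V] [Module A V] (𝒬 : QuadraticForm A V)

/-- Commuting with a reflection gives the reflection identity. -/
theorem refl_identity' (γ : V ≃ₗ[A] V) (v : V) (u : Aˣ) (hu : 𝒬 v = u)
    (hcomm : γ * reflection 𝒬 v u hu = reflection 𝒬 v u hu * γ) (z : V) :
    polar 𝒬 v z • γ v = polar 𝒬 v (γ z) • v := by
  have h1 := LinearEquiv.congr_fun hcomm z
  rw [LinearEquiv.mul_apply, LinearEquiv.mul_apply, reflection_apply, reflection_apply,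
    map_sub, map_smul, sub_right_inj] at h1
  have h2 := congrArg (fun w => (u : A) • w) h1
  simp only [smul_smul] at h2
  rwa [← mul_assoc, ← mul_assoc, Units.mul_inv, one_mul, one_mul] at h2

/-- Commuting with minus a reflection is the same as commuting with the reflection. -/
theorem comm_of_comm_neg (γ h : V ≃ₗ[A] V)
    (hcomm : γ * (LinearEquiv.neg A * h) = (LinearEquiv.neg A * h) * γ) : γ * h = h * γ := by
  ext z
  have h1 := LinearEquiv.congr_fun hcomm z
  simp only [LinearEquiv.mul_apply, LinearEquiv.neg_apply, map_neg, neg_inj] at h1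
  simpa [LinearEquiv.mul_apply] using h1

end Misc

section DetNeg

variable {R : Type u} [CommRing R] (n : ℕ) (A : Type*) [CommRing A] [Algebra R A]

theorem det_neg_baseChange :
    LinearEquiv.det (LinearEquiv.neg A : (A ⊗[R] (Fin n → R)) ≃ₗ[A] (A ⊗[R] (Fin n → R))) =
      (-1) ^ n := by
  apply Units.ext
  rw [LinearEquiv.coe_det, Units.val_pow_eq_pow_val, Units.val_neg, Units.val_one]
  have h : ((LinearEquiv.neg A : (A ⊗[R] (Fin n → R)) ≃ₗ[A] (A ⊗[R] (Fin n → R))) :
      (A ⊗[R] (Fin n → R)) →ₗ[A] (A ⊗[R] (Fin n → R))) = -LinearMap.id := by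
    ext; simp
  rw [h]
  let b := (Pi.basisFun R (Fin n)).baseChange A
  have h2 : LinearMap.toMatrix b b (-LinearMap.id) = -1 := by
    rw [_root_.map_neg (LinearMap.toMatrix b b), LinearMap.toMatrix_id]
  rw [← LinearMap.det_toMatrix b, h2, Matrix.det_neg, Matrix.det_one, mul_one, Fintype.card_fin]

end DetNeg

end Groth.Agent.Lib.OrthCentre51
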