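import Groth.Agent.Lib.CliffBC16

/-!
# Regular planes in quadratic modules (helper16)

`delta Q e f = B(e,f)² − 4 Q(e) Q(f)`; over a field / local ring a regular form of rank ≥ 2 has `e f` with
`delta` a unit (`exists_delta_ne_zero`, `exists_isUnit_delta`); `isRegular_iff_isUnit_det`, `isRegular_baseChange`;
splitting `splitEquiv/splitIso : (R × R) × (e,f)^⊥ ≃ M` when `delta` is a unit, `isRegular_perp`, `finite_perp`, `projective_perp`.
-/

set_option autoImplicit false
set_option linter.style.haveILetI false
set_option linter.unusedSectionVars false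
set_option linter.unusedSimpArgs false
set_option linter.unusedVariables false

namespace Groth.Agent.Lib.QuadPlane16
open QuadraticMap

universe u v

section defs
variable {R : Type u} [CommRing R] {M : Type v} [AddCommGroup M] [Module R M] (Q : QuadraticForm R M)

/-- `δ(e,f) = B(e,f)² − 4 Q(e) Q(f)`: minus the discriminant of the plane spanned by `e, f`. -/
def delta (e f : M) : R := polar Q e f ^ 2 - 4 * Q e * Q f

end defs

theorem exists_delta_ne_zero {K : Type u} [Field K] {V : Type v} [AddCommGroup V] [Module K V]
    [FiniteDimensional K V] (Q : QuadraticForm K V) (hQ : QuadGrp.IsRegular Q)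
    (hd : 2 ≤ Module.finrank K V) : ∃ e f : V, delta Q e f ≠ 0 := by
  by_contra hcon
  push Not at hcon
  have hinj : Function.Injective (polarBilin Q) := hQ.1
  have hnt : Nontrivial V := Module.nontrivial_of_finrank_pos (R := K) (by omega)
  obtain ⟨x, hx⟩ := exists_ne (0 : V)
  have hx' : polarBilin Q x ≠ 0 := fun h0 => hx (hinj (by rw [h0, map_zero]))
  obtain ⟨y, hy⟩ : ∃ y, polar Q x y ≠ 0 := by
    by_contra hc
    push Not at hc
    exact hx' (LinearMap.ext fun y => by simpa using hc y)
  -- normalise
  have h1 : polar Q x ((polar Q x y)⁻¹ • y) = 1 := by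
    rw [polar_smul_right, smul_eq_mul, inv_mul_cancel₀ hy]
  have h2 := hcon x ((polar Q x y)⁻¹ • y)
  rw [delta, h1] at h2
  have h4 : (4 : K) * Q x * Q ((polar Q x y)⁻¹ • y) = 1 := by linear_combination -h2
  have hQx : Q x ≠ 0 := by
    intro h0
    rw [h0] at h4
    simp at h4
  have h4' : (4 : K) ≠ 0 := by
    intro h0
    rw [h0] at h4
    simp at h4
  -- a nonzero vector orthogonal to x
  obtain ⟨z, hz0, hz⟩ : ∃ z : V, z ≠ 0 ∧ polar Q x z = 0 := by
    have hker : (LinearMap.ker (polarBilin Q x)) ≠ ⊥ := by
      intro hbot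
      have h3 := LinearMap.finrank_range_add_finrank_ker (polarBilin Q x)
      rw [hbot, finrank_bot, add_zero] at h3
      have h5 : Module.finrank K (LinearMap.range (polarBilin Q x)) ≤ 1 := by
        have := Submodule.finrank_le (LinearMap.range (polarBilin Q x))
        simpa using this
      omega
    obtain ⟨z, hzmem, hz0⟩ := Submodule.exists_mem_ne_zero_of_ne_bot hker
    exact ⟨z, hz0, by simpa using hzmem⟩
  have h6 := hcon x z
  rw [delta, hz] at h6
  have hQz : Q z = 0 := by
    have : (4 : K) * Q x * Q z = 0 := by linear_combination -h6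
    rcases mul_eq_zero.1 this with h | h
    · exact absurd h (mul_ne_zero h4' hQx)
    · exact h
  apply hz0
  apply hinj
  rw [map_zero]
  ext y'
  have h7 := hcon z y'
  rw [delta, hQz] at h7
  have : polar Q z y' ^ 2 = 0 := by linear_combination h7
  simpa using pow_eq_zero_iff (n := 2) (by norm_num) |>.1 this

end Groth.Agent.Lib.QuadPlane16

namespace Groth.Agent.Lib.QuadPlane16
open QuadraticMap TensorProduct

universe u v w

section gram
variable {R : Type u} [CommRing R] {M : Type v} [AddCommGroup M] [Module R M] (Q : QuadraticForm R M)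
variable {ι : Type*} [Fintype ι] [DecidableEq ι] (b : Module.Basis ι R M)

/-- Gram matrix of the polar form. -/
noncomputable def gram : Matrix ι ι R := Matrix.of fun i j => polar Q (b j) (b i)

theorem toLin'_gram (y : ι → R) :
    Matrix.toLin' (gram Q b) y = b.dualBasis.equivFun (polarBilin Q (b.equivFun.symm y)) := by
  ext i
  simp only [Matrix.toLin'_apply, Matrix.mulVec, dotProduct, gram, Matrix.of_apply,
    Module.Basis.equivFun_apply, Module.Basis.dualBasis_repr, polarBilin_apply_apply,
    Module.Basis.equivFun_symm_apply]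
  rw [polar_comm, ← polarBilin_apply_apply, map_sum]
  refine Finset.sum_congr rfl fun j _ => ?_
  rw [map_smul, smul_eq_mul, polarBilin_apply_apply, mul_comm, polar_comm]

theorem isRegular_iff_isUnit_gram : QuadGrp.IsRegular Q ↔ IsUnit (gram Q b) := by
  rw [← Matrix.isUnit_toLin'_iff, Module.End.isUnit_iff, QuadGrp.IsRegular]
  have h : ⇑(Matrix.toLin' (gram Q b)) =
      b.dualBasis.equivFun ∘ (polarBilin Q) ∘ b.equivFun.symm := by
    funext y
    exact toLin'_gram Q b y
  rw [h]
  constructor
  · intro hb
    exact b.dualBasis.equivFun.bijective.comp (hb.comp b.equivFun.symm.bijective)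
  · intro hb
    have h1 := (Function.Bijective.of_comp_iff' b.dualBasis.equivFun.bijective _).1 hb
    exact (Function.Bijective.of_comp_iff _ b.equivFun.symm.bijective).1 h1

theorem isRegular_iff_isUnit_det : QuadGrp.IsRegular Q ↔ IsUnit (gram Q b).det := by
  rw [isRegular_iff_isUnit_gram Q b, Matrix.isUnit_iff_isUnit_det]

end gram

section bc
variable {R : Type u} [CommRing R] {M : Type v} [AddCommGroup M] [Module R M] [Module.Free R M]
  [Module.Finite R M] (Q : QuadraticForm R M)
variable (A : Type w) [CommRing A] [Algebra R A]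

theorem gram_baseChange {ι : Type*} [Fintype ι] [DecidableEq ι] (b : Module.Basis ι R M) :
    gram (QuadGrp.baseChangeForm A Q) (b.baseChange A) = (gram Q b).map (algebraMap R A) := by
  ext i j
  simp only [gram, Matrix.of_apply, Matrix.map_apply, Module.Basis.baseChange_apply]
  rw [Groth.Agent.Lib.CliffBC16.polar_baseChangeForm_tmul, mul_one, Algebra.algebraMap_eq_smul_one]

theorem isRegular_baseChange (hQ : QuadGrp.IsRegular Q) :
    QuadGrp.IsRegular (QuadGrp.baseChangeForm A Q) := by
  classical
  let b := Module.Free.chooseBasis R M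
  rw [isRegular_iff_isUnit_det _ (b.baseChange A), gram_baseChange, ← RingHom.mapMatrix_apply,
    ← RingHom.map_det]
  exact ((isRegular_iff_isUnit_det Q b).1 hQ).map _

end bc

end Groth.Agent.Lib.QuadPlane16

namespace Groth.Agent.Lib.QuadPlane16
open QuadraticMap TensorProduct

universe u v w

section bc
variable {R : Type u} [CommRing R] {M : Type v} [AddCommGroup M] [Module R M] [Module.Free R M]
  (Q : QuadraticForm R M)
variable (A : Type w) [CommRing A] [Algebra R A]

theorem delta_baseChange (e f : M) :
    delta (QuadGrp.baseChangeForm A Q) ((1 : A) ⊗ₜ[R] e) ((1 : A) ⊗ₜ[R] f) =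
      algebraMap R A (delta Q e f) := by
  simp only [delta, Groth.Agent.Lib.CliffBC16.polar_baseChangeForm_tmul,
    Groth.Agent.Lib.CliffBC16.baseChangeForm_tmul, mul_one, map_sub, map_mul, map_pow,
    Algebra.smul_def, map_ofNat]

theorem exists_one_tmul_of_surjective (hA : Function.Surjective (algebraMap R A))
    (x : A ⊗[R] M) : ∃ m : M, x = (1 : A) ⊗ₜ[R] m := by
  induction x using TensorProduct.induction_on with
  | zero => exact ⟨0, by simp⟩
  | tmul a m =>
    obtain ⟨r, rfl⟩ := hA a
    refine ⟨r • m, ?_⟩
    rw [TensorProduct.tmul_smul, TensorProduct.smul_tmul', Algebra.smul_def, mul_one]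
  | add x y hx hy =>
    obtain ⟨m, rfl⟩ := hx
    obtain ⟨n, rfl⟩ := hy
    exact ⟨m + n, by rw [TensorProduct.tmul_add]⟩

end bc

theorem exists_isUnit_delta {R : Type u} [CommRing R] [IsLocalRing R] {M : Type v}
    [AddCommGroup M] [Module R M] [Module.Free R M] [Module.Finite R M]
    (Q : QuadraticForm R M) (hQ : QuadGrp.IsRegular Q) (hd : 2 ≤ Module.finrank R M) :
    ∃ e f : M, IsUnit (delta Q e f) := by
  let k := IsLocalRing.ResidueField R
  have hreg : QuadGrp.IsRegular (QuadGrp.baseChangeForm k Q) := isRegular_baseChange Q k hQ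
  have hrank : 2 ≤ Module.finrank k (k ⊗[R] M) := by
    rw [Module.finrank_baseChange]; exact hd
  obtain ⟨e', f', hne⟩ := exists_delta_ne_zero (QuadGrp.baseChangeForm k Q) hreg hrank
  obtain ⟨e, rfl⟩ := exists_one_tmul_of_surjective (M := M) k IsLocalRing.residue_surjective e'
  obtain ⟨f, rfl⟩ := exists_one_tmul_of_surjective (M := M) k IsLocalRing.residue_surjective f'
  refine ⟨e, f, ?_⟩
  rw [delta_baseChange] at hne
  by_contra hnu
  apply hne
  exact (IsLocalRing.residue_eq_zero_iff _).2 ((IsLocalRing.mem_maximalIdeal _).2 hnu)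

end Groth.Agent.Lib.QuadPlane16

namespace Groth.Agent.Lib.QuadPlane16
open QuadraticMap TensorProduct

universe u v w

section split
variable {R : Type u} [CommRing R] {M : Type v} [AddCommGroup M] [Module R M]
  (Q : QuadraticForm R M) (e f : M) (di : R)

/-- The plane map `(s,t) ↦ s e + t f`. -/
def planeMap : R × R →ₗ[R] M :=
  LinearMap.coprod (LinearMap.toSpanSingleton R M e) (LinearMap.toSpanSingleton R M f)

@[simp] theorem planeMap_apply (p : R × R) : planeMap e f p = p.1 • e + p.2 • f := by
  simp [planeMap]

/-- The orthogonal complement of `e, f` for the polar form. -/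
def perp : Submodule R M := LinearMap.ker (polarBilin Q e) ⊓ LinearMap.ker (polarBilin Q f)

theorem mem_perp (x : M) : x ∈ perp Q e f ↔ polar Q e x = 0 ∧ polar Q f x = 0 := by
  simp [perp]

/-- first coordinate -/
def coordA : M →ₗ[R] R :=
  (-di) • ((2 * Q f) • polarBilin Q e - (polar Q e f) • polarBilin Q f)

/-- second coordinate -/
def coordB : M →ₗ[R] R :=
  (-di) • ((2 * Q e) • polarBilin Q f - (polar Q e f) • polarBilin Q e)

theorem coordA_apply (x : M) : coordA Q e f di x =
    -di * (2 * Q f * polar Q e x - polar Q e f * polar Q f x) := by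
  simp [coordA]

theorem coordB_apply (x : M) : coordB Q e f di x =
    -di * (2 * Q e * polar Q f x - polar Q e f * polar Q e x) := by
  simp [coordB]

variable (hdi : delta Q e f * di = 1)
include hdi

theorem polar_e_sub (x : M) :
    polar Q e (x - coordA Q e f di x • e - coordB Q e f di x • f) = 0 := by
  rw [polar_sub_right, polar_sub_right, polar_smul_right, polar_smul_right, polar_self,
    coordA_apply, coordB_apply, smul_eq_mul, smul_eq_mul]
  rw [delta] at hdi
  linear_combination (-polar Q e x) * hdi

theorem polar_f_sub (x : M) :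
    polar Q f (x - coordA Q e f di x • e - coordB Q e f di x • f) = 0 := by
  rw [polar_sub_right, polar_sub_right, polar_smul_right, polar_smul_right, polar_self,
    coordA_apply, coordB_apply, smul_eq_mul, smul_eq_mul, polar_comm Q f e]
  rw [delta] at hdi
  linear_combination (-polar Q f x) * hdi

/-- projection onto the orthogonal complement -/
def projPerp : M →ₗ[R] perp Q e f :=
  LinearMap.codRestrict (perp Q e f)
    (LinearMap.id - (coordA Q e f di).smulRight e - (coordB Q e f di).smulRight f)
    (fun x => by
      rw [mem_perp]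
      simp only [LinearMap.sub_apply, LinearMap.id_apply, LinearMap.smulRight_apply]
      exact ⟨polar_e_sub Q e f di hdi x, polar_f_sub Q e f di hdi x⟩)

theorem projPerp_coe (x : M) : (projPerp Q e f di hdi x : M) =
    x - coordA Q e f di x • e - coordB Q e f di x • f := by
  simp [projPerp]

theorem coordA_plane (p : R × R) (n : perp Q e f) :
    coordA Q e f di (planeMap e f p + n) = p.1 := by
  obtain ⟨hn1, hn2⟩ := (mem_perp Q e f n).1 n.2
  rw [coordA_apply, planeMap_apply, polar_add_right, polar_add_right, polar_add_right,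
    polar_add_right, hn1, hn2, polar_smul_right, polar_smul_right, polar_smul_right,
    polar_smul_right, polar_self, polar_self, polar_comm Q f e, smul_eq_mul, smul_eq_mul,
    smul_eq_mul, smul_eq_mul]
  rw [delta] at hdi
  linear_combination (p.1) * hdi

theorem coordB_plane (p : R × R) (n : perp Q e f) :
    coordB Q e f di (planeMap e f p + n) = p.2 := by
  obtain ⟨hn1, hn2⟩ := (mem_perp Q e f n).1 n.2
  rw [coordB_apply, planeMap_apply, polar_add_right, polar_add_right, polar_add_right,
    polar_add_right, hn1, hn2, polar_smul_right, polar_smul_right, polar_smul_right,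
    polar_smul_right, polar_self, polar_self, polar_comm Q f e, smul_eq_mul, smul_eq_mul,
    smul_eq_mul, smul_eq_mul]
  rw [delta] at hdi
  linear_combination (p.2) * hdi

omit hdi in
theorem lm_prod_apply {M₁ M₂ M₃ : Type*} [AddCommGroup M₁] [Module R M₁] [AddCommGroup M₂]
    [Module R M₂] [AddCommGroup M₃] [Module R M₃] (g₁ : M₁ →ₗ[R] M₂) (g₂ : M₁ →ₗ[R] M₃) (x : M₁) :
    (g₁.prod g₂) x = (g₁ x, g₂ x) := rfl

/-- `M ≃ R² × (e,f)^⊥`. -/
def splitEquiv : ((R × R) × perp Q e f) ≃ₗ[R] M :=
  LinearEquiv.ofLinearMap
    (LinearMap.coprod (planeMap e f) (perp Q e f).subtype)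
    (LinearMap.prod (LinearMap.prod (coordA Q e f di) (coordB Q e f di)) (projPerp Q e f di hdi))
    (by
      apply LinearMap.ext
      intro x
      rw [LinearMap.comp_apply, lm_prod_apply, lm_prod_apply,
        LinearMap.coprod_apply, planeMap_apply, Submodule.subtype_apply, projPerp_coe,
        LinearMap.id_apply]
      abel)
    (by
      apply LinearMap.ext
      rintro ⟨p, n⟩
      have h1 := coordA_plane Q e f di hdi p n
      have h2 := coordB_plane Q e f di hdi p n
      rw [LinearMap.comp_apply, lm_prod_apply, lm_prod_apply,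
        LinearMap.coprod_apply, Submodule.subtype_apply, LinearMap.id_apply, h1, h2]
      refine Prod.ext rfl (Subtype.ext ?_)
      rw [projPerp_coe, h1, h2, planeMap_apply]
      abel)

theorem splitEquiv_apply (p : R × R) (n : perp Q e f) :
    splitEquiv Q e f di hdi (p, n) = p.1 • e + p.2 • f + n := by
  simp [splitEquiv]

omit hdi in
theorem map_plane_add_perp (p : R × R) (n : perp Q e f) :
    Q (planeMap e f p + n) = Q (planeMap e f p) + Q n := by
  obtain ⟨hn1, hn2⟩ := (mem_perp Q e f n).1 n.2
  have h := QuadraticMap.map_add Q (planeMap e f p) (n : M)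
  have h0 : polar Q (planeMap e f p) (n : M) = 0 := by
    rw [planeMap_apply, polar_add_left, polar_smul_left, polar_smul_left, hn1, hn2]
    simp
  rw [h, h0, add_zero]

/-- The splitting as an isometry. -/
def splitIso :
    ((Q.comp (planeMap e f)).prod (Q.comp (perp Q e f).subtype)).IsometryEquiv Q :=
  { splitEquiv Q e f di hdi with
    map_app' := by
      rintro ⟨p, n⟩
      have h := map_plane_add_perp Q e f p n
      simp only [QuadraticMap.prod_apply, QuadraticMap.comp_apply, Submodule.subtype_apply]
      rw [← h]
      rfl }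

end split

end Groth.Agent.Lib.QuadPlane16

namespace Groth.Agent.Lib.QuadPlane16
open QuadraticMap TensorProduct

universe u v w

section split
variable {R : Type u} [CommRing R] {M : Type v} [AddCommGroup M] [Module R M]
  (Q : QuadraticForm R M) (e f : M) (di : R) (hdi : delta Q e f * di = 1)

theorem polar_comp_apply {M' : Type*} [AddCommGroup M'] [Module R M'] (g : M' →ₗ[R] M) (x y : M') :
    polar (Q.comp g) x y = polar Q (g x) (g y) := by
  simp [polar]

include hdi

theorem projPerp_of_mem (n : perp Q e f) : projPerp Q e f di hdi (n : M) = n := by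
  have h := (splitEquiv Q e f di hdi).symm_apply_apply ((0 : R × R), n)
  have h2 : splitEquiv Q e f di hdi ((0 : R × R), n) = (n : M) := by
    rw [splitEquiv_apply]; simp
  rw [h2] at h
  exact congrArg Prod.snd h

theorem exists_decomp (x : M) : ∃ (p : R × R) (n : perp Q e f), x = planeMap e f p + n := by
  obtain ⟨⟨p, n⟩, rfl⟩ := (splitEquiv Q e f di hdi).surjective x
  exact ⟨p, n, by rw [splitEquiv_apply, planeMap_apply]⟩

theorem isRegular_perp (hQ : QuadGrp.IsRegular Q) :
    QuadGrp.IsRegular (Q.comp (perp Q e f).subtype) := by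
  constructor
  · intro x y hxy
    have hz : polarBilin (Q.comp (perp Q e f).subtype) (x - y) = 0 := by
      rw [map_sub, hxy, sub_self]
    have hx0 : ((x - y : perp Q e f) : M) = 0 := by
      apply hQ.1
      rw [map_zero]
      ext m
      obtain ⟨p, n, rfl⟩ := exists_decomp Q e f di hdi m
      obtain ⟨h1, h2⟩ := (mem_perp Q e f _).1 (x - y).2
      have h3 : polar Q ((x - y : perp Q e f) : M) (n : M) = 0 := by
        have := LinearMap.congr_fun hz n
        simpa [polar_comp_apply] using this
      rw [polarBilin_apply_apply, polar_add_right, h3, planeMap_apply, polar_add_right,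
        polar_smul_right, polar_smul_right, polar_comm, h1, polar_comm, h2]
      simp
    have : x - y = 0 := Subtype.ext hx0
    exact sub_eq_zero.1 this
  · intro φ
    obtain ⟨x, hx⟩ := hQ.2 (φ.comp (projPerp Q e f di hdi))
    refine ⟨projPerp Q e f di hdi x, ?_⟩
    ext n
    obtain ⟨h1, h2⟩ := (mem_perp Q e f _).1 n.2
    rw [polarBilin_apply_apply, polar_comp_apply, Submodule.subtype_apply, Submodule.subtype_apply,
      projPerp_coe,
      polar_sub_left, polar_sub_left, polar_smul_left, polar_smul_left, h1, h2, smul_zero,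
      smul_zero, sub_zero, sub_zero, ← polarBilin_apply_apply, hx,
      LinearMap.comp_apply, projPerp_of_mem]

theorem finite_perp [Module.Finite R M] : Module.Finite R (perp Q e f) :=
  Module.Finite.of_surjective (projPerp Q e f di hdi) (fun n => ⟨n, projPerp_of_mem Q e f di hdi n⟩)

theorem projective_perp [Module.Projective R M] : Module.Projective R (perp Q e f) :=
  Module.Projective.of_split (perp Q e f).subtype (projPerp Q e f di hdi) (by
    ext n
    simp [projPerp_of_mem Q e f di hdi n])

omit hdi in
theorem delta_plane :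
    delta (Q.comp (planeMap e f)) ((1 : R), (0 : R)) ((0 : R), (1 : R)) = delta Q e f := by
  simp [delta, polar_comp_apply]

end split

end Groth.Agent.Lib.QuadPlane16
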