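import Groth.Agent.Lib.LinRepAlg16
import Groth.Agent.Lib.QuadPlane16
import Groth.Agent.Lib.OrthCentre51
import Groth.Agent.Lib.OddDecomp16
import Groth.Agent.Lib.CliffOddLG16
import Groth.Agent.Lib.HalfDisc16
import Mathlib.RingTheory.AdjoinRoot

/-!
# Smoothness of the orthogonal group scheme (helper16)

* `baseChangeForm_rTensor`, `polar_baseChangeForm_rTensor`: naturality of `QuadGrp.baseChangeForm` along algebra maps.
* `EO Q b`: equations of `O(q)` in the coordinates of `LinRepAlg16`; `cutOut_orth`.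
* `exists_correction`: for a regular form `Q'` and a quadratic form `δ` with values in a square-zero ideal there is
  `ε` with `Q' ∘ (1 + ε) = Q' − δ`; `exists_lift_orth`: isometries lift along square-zero extensions when the polar form is
  perfect; `smooth_orth`.
* `exists_radical_vector`, `sq_eq_zero_of_lift`, `not_formallySmooth_orth`: in odd rank with `2` not a unit, the scalar
  `1 + t` over `κ[t]/(t²)` (char 2) does not lift to `κ[t]/(t³)`.
* `main_S16986`.
-/

set_option autoImplicit false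
set_option linter.style.haveILetI false
set_option linter.unusedSectionVars false
set_option linter.unusedSimpArgs false
set_option linter.unusedVariables false

namespace Groth.Agent.Lib.OrthLift16
open QuadraticMap TensorProduct
open Groth.Agent.Lib.QuadPlane16

universe u v
variable {C : Type u} [CommRing C] {V : Type v} [AddCommGroup V] [Module C V]
variable {n : ℕ} (bm : Module.Basis (Fin n) C V) (I : Ideal C)

/-- Two quadratic forms agreeing on a basis and having the same polar values on it are equal. -/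
theorem quad_ext (Q₁ Q₂ : QuadraticForm C V) (h1 : ∀ i, Q₁ (bm i) = Q₂ (bm i))
    (h2 : ∀ i j, polar Q₁ (bm i) (bm j) = polar Q₂ (bm i) (bm j)) : Q₁ = Q₂ := by
  rw [← toQuadraticMap_toBilin Q₁ bm, ← toQuadraticMap_toBilin Q₂ bm]
  congr 1
  apply bm.ext
  intro i
  apply bm.ext
  intro j
  rw [toBilin_apply, toBilin_apply, h1, h2]

/-- A bilinear form with values in `I` on a basis has values in `I`. -/
theorem bilin_mem (β : LinearMap.BilinForm C V) (h : ∀ i j, β (bm i) (bm j) ∈ I) (x y : V) :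
    β x y ∈ I := by
  rw [← LinearMap.sum_repr_mul_repr_mul bm bm x y]
  refine Ideal.sum_mem _ fun i _ => Ideal.sum_mem _ fun j _ => ?_
  exact Ideal.mul_mem_left _ _ (Ideal.mul_mem_left _ _ (h i j))

include bm in
/-- A functional with values in `I` lies in `I • ⊤`. -/
theorem dual_mem (f : Module.Dual C V) (h : ∀ x, f x ∈ I) : f ∈ I • (⊤ : Submodule C (Module.Dual C V)) := by
  rw [← bm.sum_dual_apply_smul_coord f]
  exact Submodule.sum_mem _ fun i _ => Submodule.smul_mem_smul (h _) Submodule.mem_top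

theorem map_mem_smul_top {W : Type*} [AddCommGroup W] [Module C W] (e : V →ₗ[C] W) (v : V)
    (hv : v ∈ I • (⊤ : Submodule C V)) : e v ∈ I • (⊤ : Submodule C W) := by
  induction hv using Submodule.smul_induction_on' with
  | smul r hr m _ => rw [map_smul]; exact Submodule.smul_mem_smul hr Submodule.mem_top
  | add x _ y _ hx hy => rw [map_add]; exact Submodule.add_mem _ hx hy

theorem repr_mem (v : V) (hv : v ∈ I • (⊤ : Submodule C V)) (i : Fin n) : bm.repr v i ∈ I := by
  induction hv using Submodule.smul_induction_on' with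
  | smul r hr m _ => rw [map_smul, Finsupp.smul_apply, smul_eq_mul]; exact Ideal.mul_mem_right _ _ hr
  | add x _ y _ hx hy => rw [map_add, Finsupp.add_apply]; exact Ideal.add_mem _ hx hy

variable {I}

theorem polar_mem_left (Q : QuadraticForm C V) (v : V) (hv : v ∈ I • (⊤ : Submodule C V)) (w : V) :
    polar Q v w ∈ I := by
  induction hv using Submodule.smul_induction_on' with
  | smul r hr m _ => rw [polar_smul_left, smul_eq_mul]; exact Ideal.mul_mem_right _ _ hr
  | add x _ y _ hx hy => rw [polar_add_left]; exact Ideal.add_mem _ hx hy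

theorem polar_eq_zero (hI : I ^ 2 = ⊥) (Q : QuadraticForm C V) (v : V) (hv : v ∈ I • (⊤ : Submodule C V))
    (w : V) (hw : w ∈ I • (⊤ : Submodule C V)) : polar Q v w = 0 := by
  induction hw using Submodule.smul_induction_on' with
  | smul r hr m _ =>
    rw [polar_smul_right, smul_eq_mul]
    have : r * polar Q v m ∈ I ^ 2 := by
      rw [pow_two]; exact Ideal.mul_mem_mul hr (polar_mem_left Q v hv m)
    rw [hI] at this
    exact this
  | add x _ y _ hx hy => rw [polar_add_right, hx, hy, add_zero]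

theorem map_eq_zero (hI : I ^ 2 = ⊥) (Q : QuadraticForm C V) (v : V) (hv : v ∈ I • (⊤ : Submodule C V)) :
    Q v = 0 := by
  induction hv using Submodule.smul_induction_on' with
  | smul r hr m _ =>
    rw [QuadraticMap.map_smul, smul_eq_mul]
    have : r * r ∈ I ^ 2 := by rw [pow_two]; exact Ideal.mul_mem_mul hr hr
    rw [hI] at this
    rw [(Ideal.mem_bot.1 this), zero_mul]
  | add x hx y hy hx' hy' =>
    rw [QuadraticMap.map_add Q x y, hx', hy', polar_eq_zero hI Q x hx y hy]
    simp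

end Groth.Agent.Lib.OrthLift16

namespace Groth.Agent.Lib.OrthLift16
open QuadraticMap TensorProduct
open Groth.Agent.Lib.QuadPlane16

universe u v
variable {C : Type u} [CommRing C] {V : Type v} [AddCommGroup V] [Module C V]
variable {n : ℕ} (bm : Module.Basis (Fin n) C V) {I : Ideal C}

include bm in
/-- **Infinitesimal correction**: for a regular form `Q'` and a quadratic form `δ` with values in a square-zero ideal,
there is an endomorphism `ε` with values in `I V` such that `Q' ∘ (1 + ε) = Q' − δ`. -/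
theorem exists_correction (hI : I ^ 2 = ⊥) (Q' : QuadraticForm C V) (hreg : QuadGrp.IsRegular Q')
    (δ : QuadraticForm C V) (hδ1 : ∀ i, δ (bm i) ∈ I) (hδ2 : ∀ i j, polar δ (bm i) (bm j) ∈ I) :
    ∃ ε : V →ₗ[C] V, (∀ z, ε z ∈ I • (⊤ : Submodule C V)) ∧ ∀ x, Q' (x + ε x) = Q' x - δ x := by
  classical
  set β : LinearMap.BilinForm C V := δ.toBilin bm with hβdef
  have hβb : ∀ i j, β (bm i) (bm j) ∈ I := by
    intro i j
    rw [hβdef, toBilin_apply]
    split_ifs
    · exact hδ1 _
    · exact hδ2 _ _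
    · exact Ideal.zero_mem _
  have hβ : ∀ x y, β x y ∈ I := bilin_mem bm I β hβb
  have hββ : ∀ x, β x x = δ x := by
    intro x
    have := congrArg (fun q : QuadraticForm C V => q x) (toQuadraticMap_toBilin δ bm)
    simpa using this
  let e : V ≃ₗ[C] (V →ₗ[C] C) := LinearEquiv.ofBijective (polarBilin Q') hreg
  refine ⟨e.symm.toLinearMap ∘ₗ (-(LinearMap.flip β)), ?_, ?_⟩
  · intro z
    rw [LinearMap.comp_apply]
    apply map_mem_smul_top I e.symm.toLinearMap
    apply dual_mem bm I
    intro x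
    rw [LinearMap.neg_apply, LinearMap.neg_apply, LinearMap.flip_apply]
    exact neg_mem (hβ x z)
  · intro x
    set εx := (e.symm.toLinearMap ∘ₗ (-(LinearMap.flip β))) x with hεx
    have hmem : εx ∈ I • (⊤ : Submodule C V) := by
      rw [hεx, LinearMap.comp_apply]
      apply map_mem_smul_top I e.symm.toLinearMap
      apply dual_mem bm I
      intro y
      rw [LinearMap.neg_apply, LinearMap.neg_apply, LinearMap.flip_apply]
      exact neg_mem (hβ y x)
    have h1 : polar Q' x εx = -(δ x) := by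
      rw [polar_comm, ← polarBilin_apply_apply]
      have : polarBilin Q' εx = e εx := rfl
      rw [this, hεx, LinearMap.comp_apply, LinearEquiv.coe_coe, LinearEquiv.apply_symm_apply,
        LinearMap.neg_apply, LinearMap.neg_apply, LinearMap.flip_apply, hββ]
    rw [QuadraticMap.map_add Q' x εx, map_eq_zero hI Q' εx hmem, h1]
    ring

end Groth.Agent.Lib.OrthLift16

namespace Groth.Agent.Lib.OrthLift16
open QuadraticMap TensorProduct
open Groth.Agent.Lib.QuadPlane16

universe u
variable {R : Type u} [CommRing R] {M : Type u} [AddCommGroup M] [Module R M] [Module.Free R M]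
variable (Q : QuadraticForm R M)
variable {A B : Type u} [CommRing A] [Algebra R A] [CommRing B] [Algebra R B]

theorem bilin_rTensor (β : LinearMap.BilinMap R M R) (φ : A →ₐ[R] B) (w w' : A ⊗[R] M) :
    TensorProduct.AlgebraTensorModule.rid R B B
        ((β.baseChange B) (LinearMap.rTensor M φ.toLinearMap w) (LinearMap.rTensor M φ.toLinearMap w')) =
      φ (TensorProduct.AlgebraTensorModule.rid R A A ((β.baseChange A) w w')) := by
  induction w using TensorProduct.induction_on with
  | zero => simp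
  | add x y hx hy => simp only [map_add, LinearMap.add_apply, hx, hy]
  | tmul a m =>
    induction w' using TensorProduct.induction_on with
    | zero => simp
    | add x y hx hy => simp only [map_add, hx, hy]
    | tmul a' m' =>
      simp only [LinearMap.rTensor_tmul, AlgHom.toLinearMap_apply, LinearMap.BilinMap.baseChange_tmul,
        TensorProduct.AlgebraTensorModule.rid_tmul, map_smul, map_mul]

/-- **Naturality of the base-changed form** along an algebra map. -/
theorem baseChangeForm_rTensor (φ : A →ₐ[R] B) (w : A ⊗[R] M) :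
    QuadGrp.baseChangeForm B Q (LinearMap.rTensor M φ.toLinearMap w) = φ (QuadGrp.baseChangeForm A Q w) := by
  change TensorProduct.AlgebraTensorModule.rid R B B (QuadGrp.baseChange B Q _) =
    φ (TensorProduct.AlgebraTensorModule.rid R A A (QuadGrp.baseChange A Q w))
  rw [QuadGrp.baseChange, QuadGrp.baseChange, LinearMap.BilinMap.toQuadraticMap_apply,
    LinearMap.BilinMap.toQuadraticMap_apply]
  exact bilin_rTensor (QuadGrp.bilinLift Q) φ w w

theorem polar_baseChangeForm_rTensor (φ : A →ₐ[R] B) (w w' : A ⊗[R] M) :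
    polar (QuadGrp.baseChangeForm B Q) (LinearMap.rTensor M φ.toLinearMap w) (LinearMap.rTensor M φ.toLinearMap w') =
      φ (polar (QuadGrp.baseChangeForm A Q) w w') := by
  rw [polar, polar, ← map_add, baseChangeForm_rTensor, baseChangeForm_rTensor, baseChangeForm_rTensor,
    map_sub, map_sub]

end Groth.Agent.Lib.OrthLift16

namespace Groth.Agent.Lib.OrthLift16
open QuadraticMap TensorProduct
open Groth.Agent.Lib.QuadPlane16 Groth.Agent.Lib.LinRepAlg16 Groth.Agent.Lib.OrthCentre51

universe u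
variable {R : Type u} [CommRing R] {M : Type u} [AddCommGroup M] [Module R M] [Module.Free R M]
variable (Q : QuadraticForm R M) {n : ℕ} (b : Module.Basis (Fin n) R M)

/-- The universal endomorphism over the polynomial ring. -/
noncomputable def XU : (Pol R n ⊗[R] M) →ₗ[Pol R n] (Pol R n ⊗[R] M) := ofMat b (Pol R n) (Xm R n)

/-- The equation `Q (X b_j) = Q (b_j)`. -/
noncomputable def eqQ (j : Fin n) : Pol R n :=
  QuadGrp.baseChangeForm (Pol R n) Q (XU b (1 ⊗ₜ[R] b j)) - algebraMap R (Pol R n) (Q (b j))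

/-- The equation `B (X b_i, X b_j) = B (b_i, b_j)`. -/
noncomputable def eqP (i j : Fin n) : Pol R n :=
  polar (QuadGrp.baseChangeForm (Pol R n) Q) (XU b (1 ⊗ₜ[R] b i)) (XU b (1 ⊗ₜ[R] b j)) -
    algebraMap R (Pol R n) (polar Q (b i) (b j))

/-- The equations of the orthogonal group. -/
def EO : Set (Pol R n) :=
  Set.range (eqQ Q b) ∪ Set.range (fun ij : Fin n × Fin n => eqP Q b ij.1 ij.2)

section
variable {A : Type u} [CommRing A] [Algebra R A]

theorem rTensor_XU (X Y : Matrix (Fin n) (Fin n) A) (j : Fin n) :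
    LinearMap.rTensor M (evalPair (R := R) X Y).toLinearMap (XU b (1 ⊗ₜ[R] b j)) = ofMat b A X (1 ⊗ₜ[R] b j) := by
  rw [XU, ofMat_apply_basis, ofMat_apply_basis, map_sum]
  refine Finset.sum_congr rfl fun i _ => ?_
  rw [LinearMap.rTensor_tmul, AlgHom.toLinearMap_apply]
  congr 1
  exact congrFun (congrFun (evalPair_Xm (R := R) X Y) i) j

theorem evalPair_eqQ (X Y : Matrix (Fin n) (Fin n) A) (j : Fin n) :
    evalPair (R := R) X Y (eqQ Q b j) =
      QuadGrp.baseChangeForm A Q (ofMat b A X (1 ⊗ₜ[R] b j)) - algebraMap R A (Q (b j)) := by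
  rw [eqQ, map_sub, ← baseChangeForm_rTensor, rTensor_XU, AlgHom.commutes]

theorem evalPair_eqP (X Y : Matrix (Fin n) (Fin n) A) (i j : Fin n) :
    evalPair (R := R) X Y (eqP Q b i j) =
      polar (QuadGrp.baseChangeForm A Q) (ofMat b A X (1 ⊗ₜ[R] b i)) (ofMat b A X (1 ⊗ₜ[R] b j)) -
        algebraMap R A (polar Q (b i) (b j)) := by
  rw [eqP, map_sub, ← polar_baseChangeForm_rTensor, rTensor_XU, rTensor_XU, AlgHom.commutes]

end

/-- The orthogonal group functor is cut out by `EO`. -/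
theorem cutOut_orth : CutOut b (EO Q b) (fun A _ _ => QuadGrp.orth Q A) := by
  intro A _ _ g
  rw [mem_orth_iff]
  have hg : ofMat b A (cX b A g) = g.toLinearMap := ofMat_mat b A _
  constructor
  · intro h e he
    rcases he with ⟨j, rfl⟩ | ⟨ij, rfl⟩
    · rw [evalPair_eqQ, hg, LinearEquiv.coe_coe, h, baseChangeForm_one_tmul, sub_self]
    · rw [evalPair_eqP, hg, LinearEquiv.coe_coe, polar, ← map_add, h, h, h,
        ← polar, polar_baseChangeForm_one_tmul, sub_self]
  · intro h
    have hq : (QuadGrp.baseChangeForm A Q).comp g.toLinearMap = QuadGrp.baseChangeForm A Q := by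
      apply quad_ext (bA b A)
      · intro j
        have := h _ (Or.inl ⟨j, rfl⟩)
        rw [evalPair_eqQ, hg, sub_eq_zero] at this
        rw [QuadraticMap.comp_apply, Module.Basis.baseChange_apply, this, baseChangeForm_one_tmul]
      · intro i j
        have := h _ (Or.inr ⟨(i, j), rfl⟩)
        rw [evalPair_eqP, hg, sub_eq_zero] at this
        rw [Module.Basis.baseChange_apply, Module.Basis.baseChange_apply, polar_baseChangeForm_one_tmul, ← this]
        simp only [polar, QuadraticMap.comp_apply, map_add]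
    intro w
    have := congrArg (fun q : QuadraticForm A (A ⊗[R] M) => q w) hq
    simpa using this

end Groth.Agent.Lib.OrthLift16

namespace Groth.Agent.Lib.OrthLift16
open QuadraticMap TensorProduct
open Groth.Agent.Lib.QuadPlane16 Groth.Agent.Lib.LinRepAlg16 Groth.Agent.Lib.OrthCentre51

universe u
variable {R : Type u} [CommRing R] {M : Type u} [AddCommGroup M] [Module R M] [Module.Free R M]
  [Module.Finite R M]
variable (Q : QuadraticForm R M) {n : ℕ} (b : Module.Basis (Fin n) R M)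

/-- **Lifting isometries along square-zero extensions** when the polar form is perfect. -/
theorem exists_lift_orth (hQ : QuadGrp.IsRegular Q) (C : Type u) [CommRing C] [Algebra R C] (I : Ideal C)
    (hI : I ^ 2 = ⊥) (g₀ : ((C ⧸ I) ⊗[R] M) ≃ₗ[C ⧸ I] ((C ⧸ I) ⊗[R] M)) (hg₀ : g₀ ∈ QuadGrp.orth Q (C ⧸ I)) :
    ∃ g ∈ QuadGrp.orth Q C, (cX b C g).map (Ideal.Quotient.mk I) = cX b (C ⧸ I) g₀ := by
  classical
  rw [mem_orth_iff] at hg₀
  have hnil : IsNilpotent I := ⟨2, hI⟩
  -- lift the matrix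
  have hsurj : ∀ i j, ∃ c : C, Ideal.Quotient.mk I c = cX b (C ⧸ I) g₀ i j :=
    fun i j => Ideal.Quotient.mk_surjective _
  choose X₁ hX₁ using hsurj
  let X₁m : Matrix (Fin n) (Fin n) C := Matrix.of X₁
  have hX₁m : X₁m.map (Ideal.Quotient.mk I) = cX b (C ⧸ I) g₀ := by
    ext i j; exact hX₁ i j
  let g₁ : (C ⊗[R] M) →ₗ[C] (C ⊗[R] M) := ofMat b C X₁m
  let π : C →ₐ[R] C ⧸ I := Ideal.Quotient.mkₐ R I
  have hπg₁ : ∀ j, LinearMap.rTensor M π.toLinearMap (g₁ (1 ⊗ₜ[R] b j)) = g₀ (1 ⊗ₜ[R] b j) := by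
    intro j
    rw [ofMat_apply_basis, map_sum, apply_basis b (C ⧸ I) g₀ j]
    refine Finset.sum_congr rfl fun i _ => ?_
    rw [LinearMap.rTensor_tmul, AlgHom.toLinearMap_apply]
    congr 1
    exact hX₁ i j
  have hπ1 : ∀ j, LinearMap.rTensor M π.toLinearMap ((1 : C) ⊗ₜ[R] b j) = (1 : C ⧸ I) ⊗ₜ[R] b j := by
    intro j
    rw [LinearMap.rTensor_tmul, AlgHom.toLinearMap_apply, map_one]
  set QC := QuadGrp.baseChangeForm C Q with hQC
  set Q' : QuadraticForm C (C ⊗[R] M) := QC.comp g₁ with hQ'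
  set δ : QuadraticForm C (C ⊗[R] M) := Q' - QC with hδ
  have hmem : ∀ c : C, Ideal.Quotient.mk I c = 0 → c ∈ I := fun c hc => Ideal.Quotient.eq_zero_iff_mem.1 hc
  have hδ1 : ∀ j, δ (bA b C j) ∈ I := by
    intro j
    apply hmem
    rw [hδ, sub_apply, hQ', QuadraticMap.comp_apply, Module.Basis.baseChange_apply, map_sub]
    have e1 := baseChangeForm_rTensor Q π (g₁ (1 ⊗ₜ[R] b j))
    have e2 := baseChangeForm_rTensor Q π ((1 : C) ⊗ₜ[R] b j)
    rw [hπg₁, hg₀] at e1
    rw [hπ1] at e2
    change _ = Ideal.Quotient.mk I _ at e1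
    change _ = Ideal.Quotient.mk I _ at e2
    rw [← e1, ← e2, sub_self]
  have hδ2 : ∀ i j, polar δ (bA b C i) (bA b C j) ∈ I := by
    intro i j
    apply hmem
    have e0 : polar δ (bA b C i) (bA b C j) =
        polar QC (g₁ (1 ⊗ₜ[R] b i)) (g₁ (1 ⊗ₜ[R] b j)) - polar QC ((1 : C) ⊗ₜ[R] b i) (1 ⊗ₜ[R] b j) := by
      rw [Module.Basis.baseChange_apply, Module.Basis.baseChange_apply]
      simp only [hδ, hQ', polar, sub_apply, QuadraticMap.comp_apply, map_add]
      ring
    rw [e0, map_sub]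
    have e1 := polar_baseChangeForm_rTensor Q π (g₁ (1 ⊗ₜ[R] b i)) (g₁ (1 ⊗ₜ[R] b j))
    have e2 := polar_baseChangeForm_rTensor Q π ((1 : C) ⊗ₜ[R] b i) ((1 : C) ⊗ₜ[R] b j)
    rw [hπg₁, hπg₁] at e1
    rw [hπ1, hπ1] at e2
    have e3 : polar (QuadGrp.baseChangeForm (C ⧸ I) Q) (g₀ (1 ⊗ₜ[R] b i)) (g₀ (1 ⊗ₜ[R] b j)) =
        polar (QuadGrp.baseChangeForm (C ⧸ I) Q) ((1 : C ⧸ I) ⊗ₜ[R] b i) (1 ⊗ₜ[R] b j) := by
      simp only [polar, ← map_add, hg₀]
    change _ = Ideal.Quotient.mk I _ at e1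
    change _ = Ideal.Quotient.mk I _ at e2
    rw [← e1, ← e2, e3, sub_self]
  -- Q' is regular
  have hregC : QuadGrp.IsRegular QC := isRegular_baseChange Q C hQ
  have hreg' : QuadGrp.IsRegular Q' := by
    rw [isRegular_iff_isUnit_det Q' (bA b C)]
    rw [isRegular_iff_isUnit_det QC (bA b C)] at hregC
    rw [← IsNilpotent.isUnit_quotient_mk_iff hnil] at hregC ⊢
    have hgr : (gram Q' (bA b C)).map (Ideal.Quotient.mk I) = (gram QC (bA b C)).map (Ideal.Quotient.mk I) := by
      ext i j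
      simp only [gram, Matrix.map_apply, Matrix.of_apply]
      have h0 := hδ2 j i
      have h1 : polar δ (bA b C j) (bA b C i) =
          polar Q' (bA b C j) (bA b C i) - polar QC (bA b C j) (bA b C i) := by
        simp only [hδ, polar, sub_apply]
        ring
      rw [h1] at h0
      exact Ideal.Quotient.eq.2 h0
    rw [RingHom.map_det, RingHom.mapMatrix_apply, hgr, ← RingHom.mapMatrix_apply, ← RingHom.map_det]
    exact hregC
  obtain ⟨ε, hε1, hε2⟩ := exists_correction (bA b C) hI Q' hreg' δ hδ1 hδ2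
  -- the corrected map
  let gl : (C ⊗[R] M) →ₗ[C] (C ⊗[R] M) := g₁ ∘ₗ (LinearMap.id + ε)
  have hgl : ∀ v, QC (gl v) = QC v := by
    intro v
    have := hε2 v
    rw [hδ, sub_apply] at this
    change Q' (v + ε v) = QC v
    rw [this]; ring
  let Xf : Matrix (Fin n) (Fin n) C := mat b C gl
  have hXf : Xf.map (Ideal.Quotient.mk I) = cX b (C ⧸ I) g₀ := by
    have e1 : Xf = X₁m * (1 + mat b C ε) := by
      change mat b C (g₁ ∘ₗ (LinearMap.id + ε)) = _
      rw [mat_comp, mat_ofMat]
      congr 1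
      change LinearMap.toMatrix _ _ (LinearMap.id + ε) = _
      rw [map_add, LinearMap.toMatrix_id]
      rfl
    have e2 : (mat b C ε).map (Ideal.Quotient.mk I) = 0 := by
      ext i j
      rw [Matrix.map_apply, Matrix.zero_apply, mat, LinearMap.toMatrix_apply]
      exact Ideal.Quotient.eq_zero_iff_mem.2 (repr_mem (bA b C) I _ (hε1 _) i)
    rw [e1, Matrix.map_mul, Matrix.map_add _ (map_add _), e2, hX₁m,
      Matrix.map_one _ (map_zero _) (map_one _), add_zero, mul_one]
  have hdet : IsUnit Xf.det := by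
    rw [← IsNilpotent.isUnit_quotient_mk_iff hnil, RingHom.map_det, RingHom.mapMatrix_apply, hXf]
    have := congrArg Matrix.det (cX_mul_cY b (C ⧸ I) g₀)
    rw [Matrix.det_mul, Matrix.det_one] at this
    exact IsUnit.of_mul_eq_one _ this
  refine ⟨ofPair b C Xf Xf⁻¹ (Matrix.mul_nonsing_inv Xf hdet) (Matrix.nonsing_inv_mul Xf hdet), ?_, ?_⟩
  · rw [mem_orth_iff]
    intro v
    have : (ofPair b C Xf Xf⁻¹ (Matrix.mul_nonsing_inv Xf hdet) (Matrix.nonsing_inv_mul Xf hdet)) v = gl v := by
      change ofMat b C (mat b C gl) v = gl v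
      rw [ofMat_mat]
    rw [this]
    exact hgl v
  · rw [cX_ofPair]
    exact hXf

end Groth.Agent.Lib.OrthLift16

namespace Groth.Agent.Lib.OrthLift16
open QuadraticMap TensorProduct
open Groth.Agent.Lib.QuadPlane16 Groth.Agent.Lib.LinRepAlg16 Groth.Agent.Lib.OrthCentre51
open Groth.Agent.Lib.OddDecomp16 Groth.Agent.Lib.CliffOddLG16

universe u
variable {R : Type u} [CommRing R] {M : Type u} [AddCommGroup M] [Module R M] [Module.Free R M]
  [Module.Finite R M]
variable (Q : QuadraticForm R M)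

/-- In odd rank with unit half-discriminant, at a maximal ideal containing `2` there is a vector which is in the
radical of the polar form modulo `𝔪` but has unit value. -/
theorem exists_radical_vector (m : ℕ) (b : Module.Basis (Fin (2 * m + 1)) R M)
    (hQ : QuadGrp.IsSemiregular b (LinearEquiv.refl R R) Q) (𝔪 : Ideal R) [h𝔪 : 𝔪.IsMaximal]
    (h2 : (2 : R) ∈ 𝔪) : ∃ x₀ : M, (∀ y, polar Q x₀ y ∈ 𝔪) ∧ Q x₀ ∉ 𝔪 := by
  classical
  let _ : Field (R ⧸ 𝔪) := Ideal.Quotient.field 𝔪
  have hsr := isSemiregular_baseChange (R ⧸ 𝔪) Q b hQ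
  obtain ⟨b', horth, hunit, -⟩ := exists_orth_basis m (b.baseChange (R ⧸ 𝔪)) (QuadGrp.baseChangeForm (R ⧸ 𝔪) Q) hsr
  have h2' : (2 : R ⧸ 𝔪) = 0 := by
    have : Ideal.Quotient.mk 𝔪 (2 : R) = 0 := Ideal.Quotient.eq_zero_iff_mem.2 h2
    rw [map_ofNat] at this
    exact this
  have hall : ∀ i, polar (QuadGrp.baseChangeForm (R ⧸ 𝔪) Q) (b' 0) (b' i) = 0 := by
    intro i
    refine Fin.cases ?_ (fun j => horth j) i
    rw [polar_self, two_smul, ← two_mul, h2', zero_mul]
  have hrad : ∀ w, polar (QuadGrp.baseChangeForm (R ⧸ 𝔪) Q) (b' 0) w = 0 := by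
    have : polarBilin (QuadGrp.baseChangeForm (R ⧸ 𝔪) Q) (b' 0) = 0 := by
      apply b'.ext
      intro i
      exact hall i
    intro w
    exact congrArg (fun f : (R ⧸ 𝔪) ⊗[R] M →ₗ[R ⧸ 𝔪] (R ⧸ 𝔪) => f w) this
  obtain ⟨x₀, hx₀⟩ := TensorProduct.mk_surjective R M (R ⧸ 𝔪) Ideal.Quotient.mk_surjective (b' 0)
  change (1 : R ⧸ 𝔪) ⊗ₜ[R] x₀ = b' 0 at hx₀
  refine ⟨x₀, ?_, ?_⟩
  · intro y
    have := hrad ((1 : R ⧸ 𝔪) ⊗ₜ[R] y)
    rw [← hx₀, polar_baseChangeForm_one_tmul] at this
    exact Ideal.Quotient.eq_zero_iff_mem.1 this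
  · intro hmem
    rw [← hx₀, baseChangeForm_one_tmul] at hunit
    have : algebraMap R (R ⧸ 𝔪) (Q x₀) = 0 := Ideal.Quotient.eq_zero_iff_mem.2 hmem
    rw [this] at hunit
    exact not_isUnit_zero hunit

end Groth.Agent.Lib.OrthLift16

namespace Groth.Agent.Lib.OrthLift16
open QuadraticMap TensorProduct
open Groth.Agent.Lib.QuadPlane16 Groth.Agent.Lib.LinRepAlg16 Groth.Agent.Lib.OrthCentre51
open Groth.Agent.Lib.OddDecomp16 Groth.Agent.Lib.CliffOddLG16

universe u

section
variable {R : Type u} [CommRing R] {M : Type u} [AddCommGroup M] [Module R M]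
variable {n : ℕ} (b : Module.Basis (Fin n) R M) {C : Type u} [CommRing C] [Algebra R C] (I : Ideal C)

theorem ofMat_mem (X : Matrix (Fin n) (Fin n) C) (hX : ∀ i j, X i j ∈ I) (v : C ⊗[R] M) :
    ofMat b C X v ∈ I • (⊤ : Submodule C (C ⊗[R] M)) := by
  rw [ofMat, Matrix.toLin_apply]
  refine Submodule.sum_mem _ fun j _ => Submodule.smul_mem_smul ?_ Submodule.mem_top
  rw [Matrix.mulVec, dotProduct]
  exact Ideal.sum_mem _ fun k _ => Ideal.mul_mem_right _ _ (hX j k)

theorem mat_smul_id (c : C) : mat b C (c • (LinearMap.id : (C ⊗[R] M) →ₗ[C] (C ⊗[R] M))) = c • 1 := by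
  change LinearMap.toMatrix _ _ (c • LinearMap.id) = _
  rw [map_smul, LinearMap.toMatrix_id]

end

section
variable {R : Type u} [CommRing R] {M : Type u} [AddCommGroup M] [Module R M] [Module.Free R M]
variable (Q : QuadraticForm R M) {C : Type u} [CommRing C] [Algebra R C]

/-- If `B(x₀, ·)` vanishes after base change to `C`, then `1 ⊗ x₀` is in the radical of `Q_C`. -/
theorem polar_one_tmul_eq_zero (x₀ : M) (h : ∀ y, algebraMap R C (polar Q x₀ y) = 0) (w : C ⊗[R] M) :
    polar (QuadGrp.baseChangeForm C Q) ((1 : C) ⊗ₜ[R] x₀) w = 0 := by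
  induction w using TensorProduct.induction_on with
  | zero => simp
  | add x y hx hy => rw [polar_add_right, hx, hy, add_zero]
  | tmul c y =>
    rw [Groth.Agent.Lib.CliffBC16.polar_baseChangeForm_tmul, Algebra.smul_def, h, zero_mul]

end

end Groth.Agent.Lib.OrthLift16

namespace Groth.Agent.Lib.OrthLift16
open QuadraticMap TensorProduct
open Groth.Agent.Lib.QuadPlane16 Groth.Agent.Lib.LinRepAlg16 Groth.Agent.Lib.OrthCentre51
open Groth.Agent.Lib.OddDecomp16 Groth.Agent.Lib.CliffOddLG16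

universe u

variable {R : Type u} [CommRing R] {M : Type u} [AddCommGroup M] [Module R M] [Module.Free R M]
variable (Q : QuadraticForm R M) {C : Type u} [CommRing C] [Algebra R C]

/-- The obstruction computation: an isometry congruent to `1 + t` modulo `(t²)` forces `t² = 0`. -/
theorem sq_eq_zero_of_lift (t : C) (h2 : (2 : C) = 0) (ht3 : t ^ 3 = 0) (x₀ : M)
    (hx₀ : ∀ y, algebraMap R C (polar Q x₀ y) = 0) (hq : IsUnit (algebraMap R C (Q x₀)))
    (g : (C ⊗[R] M) ≃ₗ[C] (C ⊗[R] M)) (hg : g ∈ QuadGrp.orth Q C)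
    (hgt : ∀ v, g v - (1 + t) • v ∈ Ideal.span {t ^ 2} • (⊤ : Submodule C (C ⊗[R] M))) : t ^ 2 = 0 := by
  have hI : (Ideal.span {t ^ 2} : Ideal C) ^ 2 = ⊥ := by
    rw [Ideal.span_singleton_pow, ← pow_mul, show 2 * 2 = 3 + 1 from rfl, pow_succ, ht3, zero_mul]
    exact Ideal.span_singleton_eq_bot.2 rfl
  rw [mem_orth_iff] at hg
  set QC := QuadGrp.baseChangeForm C Q
  set v : C ⊗[R] M := (1 : C) ⊗ₜ[R] x₀
  set w := g v - (1 + t) • v with hw
  have hgv : g v = (1 + t) • v + w := by rw [hw]; abel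
  have h1 := hg v
  rw [hgv, QuadraticMap.map_add QC, map_eq_zero hI QC w (hgt v), polar_smul_left,
    polar_one_tmul_eq_zero Q x₀ hx₀ w, QuadraticMap.map_smul, baseChangeForm_one_tmul] at h1
  have h3 : t ^ 2 * algebraMap R C (Q x₀) = 0 := by
    have h4 : (2 : C) * (t * algebraMap R C (Q x₀)) = 0 := by rw [h2, zero_mul]
    simp only [smul_eq_mul, mul_zero, add_zero] at h1
    linear_combination h1 - h4
  exact (hq.mul_left_eq_zero).1 h3

end Groth.Agent.Lib.OrthLift16

namespace Groth.Agent.Lib.OrthLift16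
open QuadraticMap TensorProduct
open Groth.Agent.Lib.QuadPlane16 Groth.Agent.Lib.LinRepAlg16 Groth.Agent.Lib.OrthCentre51
open Groth.Agent.Lib.OddDecomp16 Groth.Agent.Lib.CliffOddLG16

universe u

/-- The truncated polynomial ring `κ[t]/(t³)`. -/
abbrev Trunc3 (κ : Type u) [CommRing κ] : Type u := AdjoinRoot ((Polynomial.X : Polynomial κ) ^ 3)

namespace Trunc3
variable (κ : Type u) [CommRing κ]

/-- the class of `t` -/
noncomputable def t : Trunc3 κ := AdjoinRoot.root _

/-- the constants -/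
noncomputable def ρ : κ →+* Trunc3 κ := AdjoinRoot.of _

theorem t_pow_three : t κ ^ 3 = 0 := by
  rw [t, ← AdjoinRoot.mk_X, ← map_pow]
  exact AdjoinRoot.mk_self

theorem t_sq_ne_zero [Nontrivial κ] : t κ ^ 2 ≠ 0 := by
  rw [t, ← AdjoinRoot.mk_X, ← map_pow]
  intro h0
  rw [AdjoinRoot.mk_eq_zero, Polynomial.X_pow_dvd_iff] at h0
  have h1 := h0 2 (by norm_num)
  simp at h1

theorem algebraMap_eq {R : Type u} [CommRing R] [Algebra R κ] (r : R) :
    algebraMap R (Trunc3 κ) r = ρ κ (algebraMap R κ r) := by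
  rw [AdjoinRoot.algebraMap_eq']
  rfl

end Trunc3

variable {R : Type u} [CommRing R] {M : Type u} [AddCommGroup M] [Module R M] [Module.Free R M]
  [Module.Finite R M]
variable (Q : QuadraticForm R M)

/-- Abstract form of the obstruction: an `R`-algebra `C` of characteristic 2 with `t³ = 0 ≠ t²`, in which some vector of
`M` becomes a radical vector of unit value, obstructs formal smoothness of the orthogonal group. -/
theorem not_formallySmooth_of_algebra {n : ℕ} (b : Module.Basis (Fin n) R M)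
    (C : Type u) [CommRing C] [Algebra R C] (t : C) (h2C : (2 : C) = 0) (ht3 : t ^ 3 = 0) (ht2 : t ^ 2 ≠ 0)
    (x₀ : M) (hx₀ : ∀ y, algebraMap R C (polar Q x₀ y) = 0) (hq : IsUnit (algebraMap R C (Q x₀))) :
    ¬ Algebra.FormallySmooth R (Bq (EO Q b)) := by
  classical
  intro hfs
  set I : Ideal C := Ideal.span {t ^ 2} with hIdef
  have hI : I ^ 2 = ⊥ := by
    rw [hIdef, Ideal.span_singleton_pow, ← pow_mul, show 2 * 2 = 3 + 1 from rfl, pow_succ t 3, ht3, zero_mul]
    exact Ideal.span_singleton_eq_bot.2 rfl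
  let u : C ⧸ I := Ideal.Quotient.mk I (1 + t)
  have huu : u * u = 1 := by
    change Ideal.Quotient.mk I (1 + t) * Ideal.Quotient.mk I (1 + t) = 1
    rw [← map_mul, ← map_one (Ideal.Quotient.mk I), Ideal.Quotient.mk_eq_mk_iff_sub_mem]
    have : (1 + t) * (1 + t) - 1 = t ^ 2 + 2 * t := by ring
    rw [this, h2C, zero_mul, add_zero]
    exact Ideal.mem_span_singleton_self _
  let g₀ : ((C ⧸ I) ⊗[R] M) ≃ₗ[C ⧸ I] ((C ⧸ I) ⊗[R] M) := LinearEquiv.smulOfUnit ⟨u, u, huu, huu⟩
  have hg₀app : ∀ w, g₀ w = u • w := fun w => rfl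
  have hg₀ : g₀ ∈ QuadGrp.orth Q (C ⧸ I) := by
    rw [mem_orth_iff]
    intro w
    rw [hg₀app, QuadraticMap.map_smul, huu, one_smul]
  obtain ⟨g, hg, hgX⟩ := exists_lift_of_formallySmooth (cutOut_orth Q b) C I hI g₀ hg₀
  have hcX₀ : cX b (C ⧸ I) g₀ = u • 1 := by
    have : g₀.toLinearMap = u • LinearMap.id := by
      refine LinearMap.ext fun w => ?_
      rw [LinearMap.smul_apply, LinearMap.id_apply]
      exact hg₀app w
    rw [cX, this, mat_smul_id]
  have hgt : ∀ v, g v - (1 + t) • v ∈ I • (⊤ : Submodule C (C ⊗[R] M)) := by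
    intro v
    set h : (C ⊗[R] M) →ₗ[C] (C ⊗[R] M) := g.toLinearMap - (1 + t) • LinearMap.id with hh
    have e1 : g v - (1 + t) • v = ofMat b _ (mat b _ h) v := by
      rw [ofMat_mat, hh]; rfl
    rw [e1]
    apply ofMat_mem
    intro i j
    apply Ideal.Quotient.eq_zero_iff_mem.1
    have e2 : mat b _ h = cX b _ g - (1 + t) • 1 := by
      rw [hh]
      have e4 := map_sub (LinearMap.toMatrix (bA b C) (bA b C)) g.toLinearMap ((1 + t) • LinearMap.id)
      have e5 := mat_smul_id b (1 + t)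
      exact e4.trans (congrArg (fun z => cX b C g - z) e5)
    have e3 := congrFun (congrFun hgX i) j
    rw [hcX₀, Matrix.map_apply] at e3
    rw [e2, Matrix.sub_apply, map_sub, e3, Matrix.smul_apply, Matrix.smul_apply, smul_eq_mul, smul_eq_mul,
      map_mul, Matrix.one_apply, Matrix.one_apply]
    split_ifs <;> simp [u]
  exact ht2 (sq_eq_zero_of_lift Q t h2C ht3 x₀ hx₀ hq g hg hgt)

end Groth.Agent.Lib.OrthLift16

namespace Groth.Agent.Lib.OrthLift16
open QuadraticMap TensorProduct
open Groth.Agent.Lib.QuadPlane16 Groth.Agent.Lib.LinRepAlg16 Groth.Agent.Lib.OrthCentre51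
open Groth.Agent.Lib.OddDecomp16 Groth.Agent.Lib.CliffOddLG16

universe u

variable {R : Type u} [CommRing R] {M : Type u} [AddCommGroup M] [Module R M] [Module.Free R M]
  [Module.Finite R M]
variable (Q : QuadraticForm R M)

/-- In odd rank, if `2` is not a unit then the coordinate ring of the orthogonal group is not formally smooth. -/
theorem not_formallySmooth_orth (m : ℕ) (b : Module.Basis (Fin (2 * m + 1)) R M)
    (hQ : QuadGrp.IsSemiregular b (LinearEquiv.refl R R) Q) (h2 : ¬ IsUnit (2 : R)) :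
    ¬ Algebra.FormallySmooth R (Bq (EO Q b)) := by
  classical
  obtain ⟨𝔪, h𝔪, h2m⟩ := exists_max_ideal_of_mem_nonunits (mem_nonunits_iff.2 h2)
  obtain ⟨x₀, hx1, hx2⟩ := exists_radical_vector Q m b hQ 𝔪 h2m
  have hnt : Nontrivial (R ⧸ 𝔪) := Ideal.Quotient.nontrivial_iff.2 h𝔪.ne_top
  have hker : ∀ r ∈ 𝔪, algebraMap R (Trunc3 (R ⧸ 𝔪)) r = 0 := by
    intro r hr
    rw [Trunc3.algebraMap_eq]
    have : algebraMap R (R ⧸ 𝔪) r = 0 := Ideal.Quotient.eq_zero_iff_mem.2 hr
    rw [this, map_zero]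
  have h2C : (2 : Trunc3 (R ⧸ 𝔪)) = 0 := by
    rw [← map_ofNat (algebraMap R (Trunc3 (R ⧸ 𝔪))) 2]
    exact hker 2 h2m
  have hq : IsUnit (algebraMap R (Trunc3 (R ⧸ 𝔪)) (Q x₀)) := by
    rw [Trunc3.algebraMap_eq]
    have : IsUnit (Ideal.Quotient.mk 𝔪 (Q x₀)) := by
      obtain ⟨y, i, hi, hyi⟩ := h𝔪.exists_inv hx2
      apply IsUnit.of_mul_eq_one (Ideal.Quotient.mk 𝔪 y)
      rw [mul_comm, ← map_mul, ← map_one (Ideal.Quotient.mk 𝔪), Ideal.Quotient.mk_eq_mk_iff_sub_mem]
      have : y * Q x₀ - 1 = -i := by rw [← hyi]; ring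
      rw [this]
      exact neg_mem hi
    exact this.map (Trunc3.ρ (R ⧸ 𝔪))
  exact not_formallySmooth_of_algebra Q b (Trunc3 (R ⧸ 𝔪)) (Trunc3.t _) h2C (Trunc3.t_pow_three _)
    (Trunc3.t_sq_ne_zero _) x₀ (fun y => hker _ (hx1 y)) hq

end Groth.Agent.Lib.OrthLift16

namespace Groth.Agent.Lib.OrthLift16
open QuadraticMap TensorProduct CategoryTheory AlgebraicGeometry
open Groth.Agent.Lib.QuadPlane16 Groth.Agent.Lib.LinRepAlg16 Groth.Agent.Lib.OrthCentre51
open Groth.Agent.Lib.OddDecomp16 Groth.Agent.Lib.CliffOddLG16 Groth.Agent.Lib.HalfDisc16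
open Groth.Agent.Lib.AffRep16

universe u

variable {R : Type u} [CommRing R] {M : Type u} [AddCommGroup M] [Module R M] [Module.Free R M]
  [Module.Finite R M]
variable (Q : QuadraticForm R M) {n : ℕ} (b : Module.Basis (Fin n) R M)

theorem finite_EO : (EO Q b).Finite :=
  (Set.finite_range _).union (Set.finite_range _)

/-- The coordinate ring of `O(q)` is smooth when the polar form is perfect. -/
theorem smooth_orth (hQ : QuadGrp.IsRegular Q) : Algebra.Smooth R (Bq (EO Q b)) :=
  { formallySmooth := formallySmooth_of_lift (cutOut_orth Q b)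
      (fun C _ _ I hI g₀ hg₀ => exists_lift_orth Q b hQ C I hI g₀ hg₀)
    finitePresentation := finitePresentation_Bq (finite_EO Q b) }

/-- odd rank, `2` a unit, unit half-discriminant: the polar form is perfect -/
theorem isRegular_of_isUnit_two (hn : Odd n) (h2 : IsUnit (2 : R))
    (hQ : QuadGrp.IsSemiregular b (LinearEquiv.refl R R) Q) : QuadGrp.IsRegular Q := by
  classical
  rw [isRegular_iff_isUnit_det Q b]
  have h1 : (gram Q b).det = (gramFam Q b).det := by
    rw [← Matrix.det_transpose]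
    rfl
  rw [h1, ← two_mul_halfDisc hn b Q]
  exact h2.mul hQ

theorem main_S16986 (R : Type u) [CommRing R] (n : ℕ) (hn : 1 ≤ n)
    (Q : QuadraticForm R (Fin n → R))
    (hQ : QuadGrp.IsNondeg (Pi.basisFun R (Fin n)) (LinearEquiv.refl R R) Q)
    (G : Over (Spec (CommRingCat.of R))) [GrpObj G] (D : QuadGrp.OrthRep Q G) :
    AlgebraicGeometry.Smooth G.hom ↔ (Even n ∨ IsUnit (2 : R)) := by
  obtain ⟨ξ, hξ⟩ := exists_isUniv (cutOut_orth Q (Pi.basisFun R (Fin n))) G D
  rw [smooth_iff hξ]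
  constructor
  · intro hs
    by_contra hne
    push Not at hne
    obtain ⟨hodd, h2⟩ := hne
    rw [Nat.not_even_iff_odd] at hodd
    obtain ⟨m, rfl⟩ := hodd
    exact not_formallySmooth_orth Q m (Pi.basisFun R (Fin (2 * m + 1))) (hQ.2 ⟨m, rfl⟩) h2 hs.formallySmooth
  · intro h
    apply smooth_orth
    by_cases he : Even n
    · exact hQ.1 he
    · rw [Nat.not_even_iff_odd] at he
      rcases h with h | h
      · exact absurd h (Nat.not_even_iff_odd.2 he)
      · exact isRegular_of_isUnit_two Q _ he h (hQ.2 he)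

end Groth.Agent.Lib.OrthLift16
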