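import Mathlib.CategoryTheory.Comma.Over.Pullback
import Mathlib.CategoryTheory.Limits.Shapes.Pullback.IsPullback.Basic
import Mathlib.CategoryTheory.Limits.Shapes.Pullback.Pasting

/-!
Beck–Chevalley isomorphism on over categories: for a pullback square
```
T' --g'--> T
|f'        |f
S' --g---> S
```
the functors `Over.map g ⋙ Over.pullback f` and `Over.pullback f' ⋙ Over.map g'`
from `Over S'` to `Over T` are isomorphic.
-/

set_option autoImplicit false
open CategoryTheory CategoryTheory.Limits

namespace Groth.Agent.Lib.OverBC

variable {C : Type*} [Category* C] [HasPullbacks C] {T S T' S' : C}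
  {f : T ⟶ S} {g : S' ⟶ S} {g' : T' ⟶ T} {f' : T' ⟶ S'}

lemma isPullback_paste (c : IsPullback g' f' f g) (U : Over S') :
    IsPullback (pullback.snd U.hom f' ≫ g') (pullback.fst U.hom f') f (U.hom ≫ g) :=
  (IsPullback.of_hasPullback U.hom f').flip.paste_horiz c

/-- the component of the Beck–Chevalley isomorphism -/
noncomputable def bcIso (c : IsPullback g' f' f g) (U : Over S') :
    pullback U.hom f' ≅ pullback (U.hom ≫ g) f :=
  (isPullback_paste c U).flip.isoPullback

@[reassoc (attr := simp)]
lemma bcIso_hom_fst (c : IsPullback g' f' f g) (U : Over S') :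
    (bcIso c U).hom ≫ pullback.fst (U.hom ≫ g) f = pullback.fst U.hom f' :=
  IsPullback.isoPullback_hom_fst _

@[reassoc (attr := simp)]
lemma bcIso_hom_snd (c : IsPullback g' f' f g) (U : Over S') :
    (bcIso c U).hom ≫ pullback.snd (U.hom ≫ g) f = pullback.snd U.hom f' ≫ g' :=
  IsPullback.isoPullback_hom_snd _

/-- The Beck–Chevalley isomorphism. -/
noncomputable def overBC (c : IsPullback g' f' f g) :
    Over.pullback f' ⋙ Over.map g' ≅ Over.map g ⋙ Over.pullback f :=
  NatIso.ofComponents (fun U => Over.isoMk (bcIso c U) (by simp [Over.pullback]))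
    (fun {U V} φ => by
      ext
      apply pullback.hom_ext
      · simp [Over.pullback]
        rw [pullback.lift_fst]
        erw [pullback.lift_fst]
        simp
      · simp [Over.pullback]
        erw [pullback.lift_snd]
        rw [pullback.lift_snd_assoc, bcIso_hom_snd])

end Groth.Agent.Lib.OverBC
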