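import Groth.Agent.Lib.OverInj
import Groth.Agent.Lib.ExtCompare
import Groth.Agent.Lib.CechDerived

/-!
# Cohomology over an object `U` of a site is the cohomology of the restriction to `Over U`
-/

set_option autoImplicit false
open CategoryTheory CategoryTheory.Limits Opposite Abelian
universe u

namespace Groth.Agent.Lib.OverCoh

open Groth.Agent.Lib.SiteCoh Groth.Agent.Lib.CechDerived

variable {C : Type u} [SmallCategory C] (J : GrothendieckTopology C) (U : C)

/-- the restriction functor `j^*` -/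
noncomputable abbrev restr : Sheaf J AddCommGrpCat.{u} ⥤ Sheaf (J.over U) AddCommGrpCat.{u} :=
  (Over.forget U).sheafPushforwardContinuous AddCommGrpCat.{u} (J.over U) J

instance : (restr J U).Additive where

instance : PreservesLimits (restr J U) := (OverInj.extZeroAdj J U).rightAdjoint_preservesLimits

instance : PreservesColimits (restr J U) :=
  ((Over.forget U).sheafAdjunctionCocontinuous AddCommGrpCat.{u} (J.over U) J).leftAdjoint_preservesColimits

/-- the constant sheaf `ℤ` on `Over U` -/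
noncomputable abbrev constZ : Sheaf (J.over U) AddCommGrpCat.{u} :=
  (constantSheaf (J.over U) AddCommGrpCat.{u}).obj (AddCommGrpCat.of (ULift ℤ))

/-- morphisms out of the constant sheaf `ℤ` on `Over U` are sections over `U` -/
noncomputable def constHomEquiv (G : Sheaf (J.over U) AddCommGrpCat.{u}) :
    (constZ J U ⟶ G) ≃+ G.obj.obj (op (Over.mk (𝟙 U))) :=
  Ext.addEquiv₀.symm.trans (Sheaf.H.equiv₀ G Over.mkIdTerminal)

lemma constHomEquiv_comp {G G' : Sheaf (J.over U) AddCommGrpCat.{u}} (y : constZ J U ⟶ G)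
    (f : G ⟶ G') :
    constHomEquiv J U G' (y ≫ f) = f.hom.app (op (Over.mk (𝟙 U))) (constHomEquiv J U G y) := by
  dsimp only [constHomEquiv]
  rw [AddEquiv.trans_apply, AddEquiv.trans_apply, Sheaf.H.equiv₀_naturality, Sheaf.H.map_apply]
  congr 1
  change Ext.mk₀ (y ≫ f) = (Ext.mk₀ y).comp (Ext.mk₀ f) (add_zero 0)
  rw [Ext.mk₀_comp_mk₀]

/-- the degree zero comparison -/
noncomputable def e₀ (F : Sheaf J AddCommGrpCat.{u}) :
    (freeYoneda J U ⟶ F) ≃+ (constZ J U ⟶ (restr J U).obj F) :=
  (freeYonedaAddEquiv U F).trans (constHomEquiv J U ((restr J U).obj F)).symm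

lemma e₀_apply (F : Sheaf J AddCommGrpCat.{u}) (x : freeYoneda J U ⟶ F) :
    constHomEquiv J U ((restr J U).obj F) (e₀ J U F x) = freeYonedaHomEquiv U F x :=
  (constHomEquiv J U ((restr J U).obj F)).apply_symm_apply _

lemma e₀_comp {F F' : Sheaf J AddCommGrpCat.{u}} (φ : F ⟶ F') (x : freeYoneda J U ⟶ F) :
    e₀ J U F' (x ≫ φ) = e₀ J U F x ≫ (restr J U).map φ := by
  apply (constHomEquiv J U ((restr J U).obj F')).injective
  rw [constHomEquiv_comp]
  refine (e₀_apply J U F' (x ≫ φ)).trans ?_
  rw [freeYonedaHomEquiv_comp]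
  exact congrArg (φ.hom.app (op U)) (e₀_apply J U F x).symm

/-- **`H^n(U, F) ≃ H^n(C/U, F|_U)`** -/
theorem nonempty_HU_addEquiv (F : Sheaf J AddCommGrpCat.{u}) (n : ℕ) :
    Nonempty (CohSite.HU F n U ≃+ Sheaf.H.{u} (F.over U) n) :=
  ExtCompare.nonempty_ext_addEquiv (restr J U) (freeYoneda J U) (constZ J U) (e₀ J U)
    (fun φ x => e₀_comp J U φ x)
    (fun I _ n x => by
      have : Injective ((restr J U).obj I) := OverInj.injective_over J U I
      exact Ext.eq_zero_of_injective x) n F

end Groth.Agent.Lib.OverCoh
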