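import Groth.Agent.Lib.LanExact
import Mathlib.CategoryTheory.Limits.Final
import Mathlib.CategoryTheory.Limits.IsConnected
import Mathlib.CategoryTheory.Comma.Over.Basic
import Mathlib.CategoryTheory.Adjunction.Evaluation

/-!
# Left Kan extension along `Over.forget U` preserves monomorphisms

For presheaves with values in a category `H` in which coproducts indexed by the hom-sets `V ⟶ U`
preserve monomorphisms (e.g. abelian groups), the left Kan extension along
`(Over.forget U).op : (Over U)ᵒᵖ ⥤ Cᵒᵖ` ("extension by zero" on presheaves) preserves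
monomorphisms: its value at `V` is the coproduct over `φ : V ⟶ U` of the values at `φ`.
-/

set_option autoImplicit false
open CategoryTheory CategoryTheory.Limits Opposite
universe v₁ v₃ u₁ u₃

namespace Groth.Agent.Lib.OverLan

variable {C : Type u₁} [Category.{v₁} C] (U : C)

/-- the discrete subcategory of "terminal objects of the components" -/
def incl (V : C) : Discrete (V ⟶ U) ⥤ CostructuredArrow (Over.forget U).op (op V) :=
  Discrete.functor (fun φ => CostructuredArrow.mk (S := (Over.forget U).op) (T := op V)
    (Y := op (Over.mk φ)) (𝟙 (op V)))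

variable {U}

/-- the composite `V ⟶ W ⟶ U` attached to an object of the costructured arrow category -/
def phi0 {V : C} (k : CostructuredArrow (Over.forget U).op (op V)) : V ⟶ U :=
  k.hom.unop ≫ k.left.unop.hom

/-- the canonical morphism to the chosen "terminal object" of the component -/
def toIncl {V : C} (k : CostructuredArrow (Over.forget U).op (op V)) :
    k ⟶ (incl U V).obj ⟨phi0 k⟩ :=
  CostructuredArrow.homMk
    (show k.left ⟶ op (Over.mk (phi0 k)) from
      (Over.homMk (U := Over.mk (phi0 k)) (V := k.left.unop) k.hom.unop rfl).op)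
    (by
      apply Quiver.Hom.unop_inj
      exact Category.id_comp _)

/-- the canonical object of the structured arrow category -/
def pt {V : C} (k : CostructuredArrow (Over.forget U).op (op V)) :
    StructuredArrow k (incl U V) :=
  StructuredArrow.mk (toIncl k)

lemma left_eq {V : C} (k : CostructuredArrow (Over.forget U).op (op V)) (φ : V ⟶ U)
    (m : k ⟶ (incl U V).obj ⟨φ⟩) :
    (show Over.mk φ ⟶ k.left.unop from m.left.unop).left = k.hom.unop := by
  have h := CostructuredArrow.w m
  have h2 := congrArg Quiver.Hom.unop h
  exact (Category.id_comp _).symm.trans h2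

lemma eq_pt {V : C} (k : CostructuredArrow (Over.forget U).op (op V))
    (x : StructuredArrow k (incl U V)) : x = pt k := by
  obtain ⟨⟨⟨⟩⟩, ⟨φ⟩, m⟩ := x
  have hleft := left_eq k φ m
  have hφ : φ = phi0 k := by
    have h3 := Over.w (show Over.mk φ ⟶ k.left.unop from m.left.unop)
    rw [hleft] at h3
    exact h3.symm
  subst hφ
  dsimp only [pt, StructuredArrow.mk]
  congr 1
  apply CostructuredArrow.hom_ext
  apply Quiver.Hom.unop_inj
  apply Over.OverMorphism.ext
  exact hleft

variable (U)

instance final_incl (V : C) : (incl U V).Final where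
  out k :=
    have : Subsingleton (StructuredArrow k (incl U V)) :=
      ⟨fun x y => (eq_pt k x).trans (eq_pt k y).symm⟩
    { toIsPreconnected := inferInstance
      is_nonempty := ⟨pt k⟩ }

section Colim

variable {K : Type*} [Category K] {T : Type*}
  {H : Type u₃} [Category.{v₃} H] [HasColimitsOfShape K H] [HasColimitsOfShape (Discrete T) H]

/-- if coproducts over `T` preserve monomorphisms and `Discrete T ⥤ K` is final, colimits of
shape `K` preserve (pointwise) monomorphisms -/
lemma mono_colimMap_of_final (ι : Discrete T ⥤ K) [ι.Final]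
    [(colim : (Discrete T ⥤ H) ⥤ H).PreservesMonomorphisms]
    {D D' : K ⥤ H} (α : D ⟶ D') [∀ k, Mono (α.app k)] : Mono (colimMap α) := by
  have h0 : Mono (Functor.whiskerLeft ι α) := by
    apply (config := { allowSynthFailures := true }) NatTrans.mono_of_mono_app
    intro t
    exact inferInstanceAs (Mono (α.app (ι.obj t)))
  have h1 : Mono (colimMap (Functor.whiskerLeft ι α)) :=
    inferInstanceAs (Mono ((colim : (Discrete T ⥤ H) ⥤ H).map (Functor.whiskerLeft ι α)))
  have sq : (Functor.Final.colimitIso ι D).hom ≫ colimMap α =
      colimMap (Functor.whiskerLeft ι α) ≫ (Functor.Final.colimitIso ι D').hom := by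
    apply colimit.hom_ext
    intro t
    simp
  have e : colimMap α = (Functor.Final.colimitIso ι D).inv ≫
      colimMap (Functor.whiskerLeft ι α) ≫ (Functor.Final.colimitIso ι D').hom := by
    rw [← sq, Iso.inv_hom_id_assoc]
  rw [e]
  infer_instance

end Colim

section Lan

variable {H : Type u₃} [Category.{v₃} H]
  [∀ X : Cᵒᵖ, HasColimitsOfShape (CostructuredArrow (Over.forget U).op X) H]
  [∀ V : C, HasColimitsOfShape (Discrete (V ⟶ U)) H]
  [∀ V : C, (colim : (Discrete (V ⟶ U) ⥤ H) ⥤ H).PreservesMonomorphisms]

/-- the left Kan extension along `(Over.forget U).op` of a pointwise monomorphism is a pointwise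
monomorphism -/
theorem mono_lan_map_app {P Q : (Over U)ᵒᵖ ⥤ H} (α : P ⟶ Q) [∀ W, Mono (α.app W)] (X : Cᵒᵖ) :
    Mono (((Over.forget U).op.lan.map α).app X) := by
  obtain ⟨V⟩ := X
  have e := LanExact.lanEvalIso (H := H) (Over.forget U).op (op V)
  have hnat := e.hom.naturality α
  have h2 : Mono (colimMap (Functor.whiskerLeft
      (CostructuredArrow.proj (Over.forget U).op (op V)) α)) := by
    have : ∀ k, Mono ((Functor.whiskerLeft
        (CostructuredArrow.proj (Over.forget U).op (op V)) α).app k) := fun k =>
      inferInstanceAs (Mono (α.app _))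
    exact mono_colimMap_of_final (incl U V) _
  have h3 : ((Over.forget U).op.lan.map α).app (op V) =
      e.hom.app P ≫ colimMap (Functor.whiskerLeft
        (CostructuredArrow.proj (Over.forget U).op (op V)) α) ≫ e.inv.app Q := by
    have h4 : ((Over.forget U).op.lan.map α).app (op V) ≫ e.hom.app Q =
        e.hom.app P ≫ colimMap (Functor.whiskerLeft
          (CostructuredArrow.proj (Over.forget U).op (op V)) α) := hnat
    rw [← Category.assoc, ← h4, Category.assoc, Iso.hom_inv_id_app]
    exact (Category.comp_id _).symm
  rw [h3]
  infer_instance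

end Lan

end Groth.Agent.Lib.OverLan
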