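import Mathlib.CategoryTheory.Localization.CalculusOfFractions.Fractions
import Mathlib.CategoryTheory.Comma.Over.Basic

/-!
# Localization of slice categories for a class with right calculus of fractions (helper96)

`W` has right calculus of fractions in `C`, `S : C`.  Then `W_S := W.inverseImage (Over.forget S)` has
right calculus of fractions in `Over S`, and any comparison functor from a localization of `Over S` at
`W_S` to `Over (L.obj S)` (`L` a localization functor for `W`) is an equivalence.
-/

set_option autoImplicit false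
universe v₁ v₂ v₃ u₁ u₂ u₃
open CategoryTheory

namespace Groth.Agent.Lib.OverLocalization96

variable {C : Type u₁} [Category.{v₁} C] (W : MorphismProperty C) (S : C)

instance hasRightCalculusOfFractions_over [W.HasRightCalculusOfFractions] :
    (W.inverseImage (Over.forget S)).HasRightCalculusOfFractions where
  exists_rightFraction := by
    intro A B φ
    obtain ⟨ψ, hψ⟩ := MorphismProperty.HasRightCalculusOfFractions.exists_rightFraction
      (W := W) (MorphismProperty.LeftFraction.mk φ.f.left φ.s.left φ.hs)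
    dsimp at hψ
    have hw : ψ.f ≫ B.hom = ψ.s ≫ A.hom := by
      rw [← Over.w φ.s, ← Category.assoc, ← hψ, Category.assoc, Over.w φ.f]
    refine ⟨MorphismProperty.RightFraction.mk (X' := Over.mk (ψ.s ≫ A.hom))
      (Over.homMk ψ.s rfl) ψ.hs (Over.homMk ψ.f hw), ?_⟩
    ext
    exact hψ
  ext := by
    intro A B B' f₁ f₂ s hs h
    obtain ⟨X', t, ht, hfac⟩ := MorphismProperty.HasRightCalculusOfFractions.ext
      (W := W) f₁.left f₂.left s.left hs (congrArg CommaMorphism.left h)
    refine ⟨Over.mk (t ≫ A.hom), Over.homMk t rfl, ht, ?_⟩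
    ext
    exact hfac

variable {D : Type u₂} [Category.{v₂} D] (L : C ⥤ D)

/-- The right-handed analogue of `Functor.faithful_of_comp_of_hasLeftCalculusOfFractions`. -/
theorem faithful_of_comp_of_hasRightCalculusOfFractions [L.IsLocalization W]
    {E : Type u₃} [Category.{v₃} E] (F : D ⥤ E) [W.HasRightCalculusOfFractions]
    (h : ∀ ⦃X₁ X₂ : C⦄ (f g : X₁ ⟶ X₂), F.map (L.map f) = F.map (L.map g) → L.map f = L.map g) :
    F.Faithful := by
  have : F.op.Faithful :=
    Functor.faithful_of_comp_of_hasLeftCalculusOfFractions L.op W.op F.op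
      (fun X₁ X₂ f g hfg => by
        have := h f.unop g.unop (Quiver.Hom.op_inj hfg)
        exact congrArg Quiver.Hom.op this)
  exact ⟨fun {X Y} f g hfg =>
    Quiver.Hom.op_inj (F.op.map_injective (congrArg Quiver.Hom.op hfg))⟩

variable [W.HasRightCalculusOfFractions] [L.IsLocalization W]
  {E : Type u₃} [Category.{v₃} E] (L' : Over S ⥤ E)
  [L'.IsLocalization (W.inverseImage (Over.forget S))]
  (Φ : E ⥤ Over (L.obj S)) (e : L' ⋙ Φ ≅ Over.post L)

include e in
theorem map_eq (A B : Over S) (u : A ⟶ B) :
    Φ.map (L'.map u) = e.hom.app A ≫ (Over.post L).map u ≫ e.inv.app B := by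
  have := e.hom.naturality u
  rw [← Category.assoc, ← this]
  simp

omit [L'.IsLocalization (W.inverseImage (Over.forget S))] in
include W e in
theorem essSurj : Φ.EssSurj where
  mem_essImage Z := by
    have := Localization.essSurj L W
    let i : L.obj (L.objPreimage Z.left) ≅ Z.left := L.objObjPreimageIso Z.left
    obtain ⟨ρ, hρ⟩ := Localization.exists_rightFraction L W (i.hom ≫ Z.hom)
    let A : Over S := Over.mk ρ.f
    have hw : ((Localization.isoOfHom L W ρ.s ρ.hs).hom ≫ i.hom) ≫ Z.hom = L.map ρ.f := by
      rw [Localization.isoOfHom_hom, Category.assoc, hρ,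
        MorphismProperty.RightFraction.map_s_comp_map]
    let j : (Over.post L).obj A ≅ Z :=
      Over.isoMk (Localization.isoOfHom L W ρ.s ρ.hs ≪≫ i) hw
    exact ⟨L'.obj A, ⟨e.app A ≪≫ j⟩⟩

include W e in
theorem faithful : Φ.Faithful := by
  apply faithful_of_comp_of_hasRightCalculusOfFractions (W.inverseImage (Over.forget S)) L' Φ
  intro A B f g hfg
  rw [map_eq S L L' Φ e, map_eq S L L' Φ e] at hfg
  have h1 : (Over.post L).map f = (Over.post L).map g := by
    have := congrArg (fun φ => e.inv.app A ≫ φ ≫ e.hom.app B) hfg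
    simpa using this
  have h2 : L.map f.left = L.map g.left := congrArg CommaMorphism.left h1
  obtain ⟨X, s, hs, hfac⟩ := (MorphismProperty.map_eq_iff_precomp L W f.left g.left).mp h2
  apply (MorphismProperty.map_eq_iff_precomp L' (W.inverseImage (Over.forget S)) f g).mpr
  refine ⟨Over.mk (s ≫ A.hom), Over.homMk s rfl, hs, ?_⟩
  ext
  exact hfac

include W e in
theorem full : Φ.Full := by
  have := Localization.essSurj L' (W.inverseImage (Over.forget S))
  refine Φ.full_of_comp_essSurj L' (fun A B h => ?_)
  -- transport to `Over.post L`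
  let h' : (Over.post L).obj A ⟶ (Over.post L).obj B := e.inv.app A ≫ h ≫ e.hom.app B
  have hh' : h = e.hom.app A ≫ h' ≫ e.inv.app B := by simp [h']
  let k : L.obj A.left ⟶ L.obj B.left := h'.left
  have hk : k ≫ L.map B.hom = L.map A.hom := Over.w h'
  obtain ⟨ρ, hρ⟩ := Localization.exists_rightFraction L W k
  have h1 : L.map (ρ.f ≫ B.hom) = L.map (ρ.s ≫ A.hom) := by
    rw [L.map_comp, L.map_comp, ← hk, ← Category.assoc, hρ,
      MorphismProperty.RightFraction.map_s_comp_map]
  obtain ⟨X, t, ht, hfac⟩ := (MorphismProperty.map_eq_iff_precomp L W _ _).mp h1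
  let A'' : Over S := Over.mk (t ≫ ρ.s ≫ A.hom)
  let s'' : A'' ⟶ A := Over.homMk (t ≫ ρ.s) (by simp [A''])
  let f'' : A'' ⟶ B := Over.homMk (t ≫ ρ.f) (by simpa [A''] using hfac)
  have hs'' : (W.inverseImage (Over.forget S)) s'' := W.comp_mem _ _ ht ρ.hs
  have hinv'' : IsIso (L'.map s'') := Localization.inverts L' _ _ hs''
  have hkey : (Over.post L).map s'' ≫ h' = (Over.post L).map f'' := by
    ext
    change L.map (t ≫ ρ.s) ≫ k = L.map (t ≫ ρ.f)
    rw [L.map_comp, L.map_comp, Category.assoc, hρ, MorphismProperty.RightFraction.map_s_comp_map]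
  refine ⟨inv (L'.map s'') ≫ L'.map f'', ?_⟩
  rw [Φ.map_comp, Functor.map_inv, IsIso.inv_comp_eq, map_eq S L L' Φ e, map_eq S L L' Φ e, hh',
    ← hkey]
  simp only [Category.assoc, Iso.inv_hom_id_app_assoc]

include W e in
theorem isEquivalence : Φ.IsEquivalence := by
  have := essSurj W S L L' Φ e
  have := faithful W S L L' Φ e
  have := full W S L L' Φ e
  exact { }

end Groth.Agent.Lib.OverLocalization96
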