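import Groth.Agent.Lib.OverLocalization96
import Mathlib.CategoryTheory.ObjectProperty.FullSubcategory

/-!
# Localization of full subcategories of slice categories (helper68)

`W` has right calculus of fractions in `C`, `S : C`, and `P` is a property of objects of `Over S`
stable under precomposition with morphisms in `W`.  Then the class `W_P` of morphisms of the full
subcategory `P.FullSubcategory` of `Over S` whose underlying morphism is in `W` has right calculus
of fractions, and any comparison functor from a localization of `P.FullSubcategory` at `W_P` to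
`Over (L.obj S)` (`L` a localization functor for `W`) is fully faithful.
This generalizes `Groth.Agent.Lib.OverLocalization96` (the case `P = ⊤`).
-/

set_option autoImplicit false
universe v₁ v₂ v₃ u₁ u₂ u₃
open CategoryTheory

namespace Groth.Agent.Lib.OverLocalizationSub68

open Groth.Agent.Lib.OverLocalization96

variable {C : Type u₁} [Category.{v₁} C] (W : MorphismProperty C) (S : C)
  (P : ObjectProperty (Over S))

/-- `P` is stable under precomposition with morphisms in `W`. -/
def IsStableUnderPrecomp : Prop :=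
  ∀ (A : Over S) {X : C} (t : X ⟶ A.left), W t → P A → P (Over.mk (t ≫ A.hom))

/-- The class of morphisms of the full subcategory whose underlying morphism is in `W`. -/
abbrev WSub : MorphismProperty P.FullSubcategory :=
  (W.inverseImage (Over.forget S)).inverseImage P.ι

variable {W S P}

theorem hasRightCalculusOfFractions_sub [W.HasRightCalculusOfFractions]
    (hP : IsStableUnderPrecomp W S P) : (WSub W S P).HasRightCalculusOfFractions where
  exists_rightFraction := by
    intro A B φ
    obtain ⟨ψ, hψ⟩ := MorphismProperty.HasRightCalculusOfFractions.exists_rightFraction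
      (W := W) (MorphismProperty.LeftFraction.mk φ.f.hom.left φ.s.hom.left φ.hs)
    dsimp at hψ
    have hw : ψ.f ≫ B.obj.hom = ψ.s ≫ A.obj.hom := by
      rw [← Over.w φ.s.hom, ← Category.assoc, ← hψ, Category.assoc, Over.w φ.f.hom]
    let A' : P.FullSubcategory := ⟨Over.mk (ψ.s ≫ A.obj.hom), hP A.obj ψ.s ψ.hs A.property⟩
    refine ⟨MorphismProperty.RightFraction.mk (X' := A')
      (ObjectProperty.homMk (Over.homMk ψ.s rfl)) ψ.hs
      (ObjectProperty.homMk (Over.homMk ψ.f hw)), ?_⟩
    apply ObjectProperty.hom_ext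
    ext
    exact hψ
  ext := by
    intro A B B' f₁ f₂ s hs h
    obtain ⟨X', t, ht, hfac⟩ := MorphismProperty.HasRightCalculusOfFractions.ext
      (W := W) f₁.hom.left f₂.hom.left s.hom.left hs
      (congrArg (fun k : A ⟶ B' => k.hom.left) h)
    let A' : P.FullSubcategory := ⟨Over.mk (t ≫ A.obj.hom), hP A.obj t ht A.property⟩
    refine ⟨A', ObjectProperty.homMk (Over.homMk t rfl), ht, ?_⟩
    apply ObjectProperty.hom_ext
    ext
    exact hfac

variable {D : Type u₂} [Category.{v₂} D] (L : C ⥤ D)
variable [W.HasRightCalculusOfFractions] [L.IsLocalization W]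
  {E : Type u₃} [Category.{v₃} E] (L' : P.FullSubcategory ⥤ E)
  [L'.IsLocalization (WSub W S P)]
  (Φ : E ⥤ Over (L.obj S)) (e : L' ⋙ Φ ≅ P.ι ⋙ Over.post L)

include e in
theorem map_eq (A B : P.FullSubcategory) (u : A ⟶ B) :
    Φ.map (L'.map u) = e.hom.app A ≫ (Over.post L).map u.hom ≫ e.inv.app B := by
  have := e.hom.naturality u
  rw [← Category.assoc]
  change _ = (e.hom.app A ≫ (P.ι ⋙ Over.post L).map u) ≫ e.inv.app B
  rw [← this]
  simp

include W e in
theorem faithful (hP : IsStableUnderPrecomp W S P) : Φ.Faithful := by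
  have := hasRightCalculusOfFractions_sub hP
  apply faithful_of_comp_of_hasRightCalculusOfFractions (WSub W S P) L' Φ
  intro A B f g hfg
  rw [map_eq L L' Φ e, map_eq L L' Φ e] at hfg
  have h1 : (Over.post L).map f.hom = (Over.post L).map g.hom := by
    have := congrArg (fun φ => e.inv.app A ≫ φ ≫ e.hom.app B) hfg
    simpa using this
  have h2 : L.map f.hom.left = L.map g.hom.left := congrArg CommaMorphism.left h1
  obtain ⟨X, s, hs, hfac⟩ := (MorphismProperty.map_eq_iff_precomp L W f.hom.left g.hom.left).mp h2
  apply (MorphismProperty.map_eq_iff_precomp L' (WSub W S P) f g).mpr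
  let A' : P.FullSubcategory := ⟨Over.mk (s ≫ A.obj.hom), hP A.obj s hs A.property⟩
  refine ⟨A', ObjectProperty.homMk (Over.homMk s rfl), hs, ?_⟩
  apply ObjectProperty.hom_ext
  ext
  exact hfac

include W e in
theorem full (hP : IsStableUnderPrecomp W S P) : Φ.Full := by
  have := hasRightCalculusOfFractions_sub hP
  have := Localization.essSurj L' (WSub W S P)
  refine Φ.full_of_comp_essSurj L' (fun A B h => ?_)
  -- transport to `Over.post L`
  let h' : (Over.post L).obj A.obj ⟶ (Over.post L).obj B.obj := e.inv.app A ≫ h ≫ e.hom.app B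
  have hh' : h = e.hom.app A ≫ h' ≫ e.inv.app B := by simp [h']
  let k : L.obj A.obj.left ⟶ L.obj B.obj.left := h'.left
  have hk : k ≫ L.map B.obj.hom = L.map A.obj.hom := Over.w h'
  obtain ⟨ρ, hρ⟩ := Localization.exists_rightFraction L W k
  have h1 : L.map (ρ.f ≫ B.obj.hom) = L.map (ρ.s ≫ A.obj.hom) := by
    rw [L.map_comp, L.map_comp, ← hk, ← Category.assoc, hρ,
      MorphismProperty.RightFraction.map_s_comp_map]
  obtain ⟨X, t, ht, hfac⟩ := (MorphismProperty.map_eq_iff_precomp L W _ _).mp h1
  have hts : W (t ≫ ρ.s) := W.comp_mem _ _ ht ρ.hs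
  let A'' : P.FullSubcategory :=
    ⟨Over.mk ((t ≫ ρ.s) ≫ A.obj.hom), hP A.obj (t ≫ ρ.s) hts A.property⟩
  let s'' : A'' ⟶ A := ObjectProperty.homMk (Over.homMk (t ≫ ρ.s) rfl)
  let f'' : A'' ⟶ B := ObjectProperty.homMk (Over.homMk (t ≫ ρ.f) (by
    simpa [A''] using hfac))
  have hs'' : (WSub W S P) s'' := hts
  have hinv'' : IsIso (L'.map s'') := Localization.inverts L' _ _ hs''
  have hkey : (Over.post L).map s''.hom ≫ h' = (Over.post L).map f''.hom := by
    ext
    change L.map (t ≫ ρ.s) ≫ k = L.map (t ≫ ρ.f)
    rw [L.map_comp, L.map_comp, Category.assoc, hρ, MorphismProperty.RightFraction.map_s_comp_map]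
  refine ⟨inv (L'.map s'') ≫ L'.map f'', ?_⟩
  rw [Φ.map_comp, Functor.map_inv, IsIso.inv_comp_eq, map_eq L L' Φ e, map_eq L L' Φ e, hh',
    ← hkey]
  simp only [Category.assoc, Iso.inv_hom_id_app_assoc]

end Groth.Agent.Lib.OverLocalizationSub68
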