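import Groth.Agent.Lib.LanExact
import Groth.Prelude.Def_CohSite
import Mathlib.CategoryTheory.Sites.Over
import Mathlib.CategoryTheory.Sites.Pullback
import Mathlib.CategoryTheory.Sites.Abelian
import Mathlib.CategoryTheory.Sites.Limits
import Mathlib.CategoryTheory.Limits.Final
import Mathlib.Algebra.Category.Grp.AB
import Mathlib.Algebra.Category.Grp.Abelian
import Mathlib.Algebra.Homology.ShortComplex.ExactFunctor
import Mathlib.CategoryTheory.Preadditive.Injective.Basic

/-!
# Extension by zero `j_!` along `Over.map f : Over X ⥤ Over Y` for abelian sheaves (helper65)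

Generalisation of helper11's `Lib/OverShriek` (which treats `Over.forget U : Over U ⥤ C`) to the
relocalisation functor `Over.map f : Over X ⥤ Over Y` of a morphism `f : X ⟶ Y` of a small site.
The restriction functor `Sheaf (J.over Y) Ab ⥤ Sheaf (J.over X) Ab` (push-forward along the
continuous functor `Over.map f`) has an *exact* left adjoint `shriekMap J f`; consequently
restriction preserves injective sheaves.
-/

set_option autoImplicit false
open CategoryTheory CategoryTheory.Limits Opposite
universe w v u

namespace Groth.Agent.Lib.OverMapShriek65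

section Final

variable {C : Type u} [Category.{v} C] {X Y : C} (f : X ⟶ Y)

/-- lifts of the structure map of `V : Over Y` through `f`. -/
def Lifts (V : Over Y) : Type v := {φ : V.left ⟶ X // φ ≫ f = V.hom}

/-- the canonical map `V ⟶ (Over.map f).obj (Over.mk φ)` for a lift `φ`. -/
def toMap (V : Over Y) (φ : Lifts f V) : V ⟶ (Over.map f).obj (Over.mk φ.1) :=
  Over.homMk (U := V) (V := (Over.map f).obj (Over.mk φ.1)) (𝟙 V.left) (by
    simpa using φ.2)

@[simp] theorem toMap_left (V : Over Y) (φ : Lifts f V) : (toMap f V φ).left = 𝟙 V.left := rfl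

/-- The functor from the discrete category of lifts to costructured arrows. -/
def ιV (V : Over Y) : Discrete (Lifts f V) ⥤ CostructuredArrow (Over.map f).op (op V) :=
  Discrete.functor (fun φ => CostructuredArrow.mk (Y := op (Over.mk φ.1)) (toMap f V φ).op)

/-- the lift attached to a costructured arrow -/
def liftOf (V : Over Y) (d : CostructuredArrow (Over.map f).op (op V)) : Lifts f V :=
  ⟨d.hom.unop.left ≫ d.left.unop.hom, by
    have h := Over.w d.hom.unop
    simpa using h⟩

/-- the map over `X` underlying `toLift` -/
def toLiftAux (V : Over Y) (d : CostructuredArrow (Over.map f).op (op V)) :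
    Over.mk (liftOf f V d).1 ⟶ d.left.unop :=
  Over.homMk (U := Over.mk (liftOf f V d).1) (V := d.left.unop) d.hom.unop.left rfl

@[simp] theorem toLiftAux_left (V : Over Y) (d : CostructuredArrow (Over.map f).op (op V)) :
    (toLiftAux f V d).left = d.hom.unop.left := rfl

/-- the canonical map from a costructured arrow to the image of its lift -/
def toLift (V : Over Y) (d : CostructuredArrow (Over.map f).op (op V)) :
    d ⟶ (ιV f V).obj ⟨liftOf f V d⟩ :=
  CostructuredArrow.homMk (toLiftAux f V d).op
    (by
      apply Quiver.Hom.unop_inj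
      apply Over.OverMorphism.ext
      change 𝟙 V.left ≫ d.hom.unop.left = d.hom.unop.left
      simp)

theorem left_eq_of_hom (V : Over Y) (d : CostructuredArrow (Over.map f).op (op V))
    (φ : Lifts f V) (m : d ⟶ (ιV f V).obj ⟨φ⟩) :
    m.left.unop.left = d.hom.unop.left := by
  have h := CostructuredArrow.w m
  have h' := congrArg (fun k => k.unop.left) h
  change 𝟙 V.left ≫ m.left.unop.left = d.hom.unop.left at h'
  exact (Category.id_comp _).symm.trans h'

theorem lift_eq_of_hom (V : Over Y) (d : CostructuredArrow (Over.map f).op (op V))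
    (φ : Lifts f V) (m : d ⟶ (ιV f V).obj ⟨φ⟩) : φ = liftOf f V d := by
  have h1 := left_eq_of_hom f V d φ m
  have h2 : m.left.unop.left ≫ d.left.unop.hom = φ.1 := Over.w m.left.unop
  rw [h1] at h2
  exact Subtype.ext h2.symm

theorem hom_eq_toLift (V : Over Y) (d : CostructuredArrow (Over.map f).op (op V))
    (m : d ⟶ (ιV f V).obj ⟨liftOf f V d⟩) : m = toLift f V d := by
  apply CostructuredArrow.hom_ext
  apply Quiver.Hom.unop_inj
  apply Over.OverMorphism.ext
  exact left_eq_of_hom f V d _ m

instance final_ιV (V : Over Y) : (ιV f V).Final := by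
  constructor
  intro d
  have : Nonempty (StructuredArrow d (ιV f V)) := ⟨StructuredArrow.mk (toLift f V d)⟩
  apply zigzag_isConnected
  suffices ∀ a : StructuredArrow d (ιV f V), Zigzag (StructuredArrow.mk (toLift f V d)) a from
    fun a b => (this a).symm.trans (this b)
  rintro ⟨⟨⟩, ⟨φ⟩, m⟩
  obtain rfl : φ = liftOf f V d := lift_eq_of_hom f V d φ m
  obtain rfl : m = toLift f V d := hom_eq_toLift f V d m
  exact Zigzag.refl _

end Final

section Lan

variable {C : Type u} [SmallCategory C] {X Y : C} (f : X ⟶ Y)

instance hasExact (V : (Over Y)ᵒᵖ) :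
    HasExactColimitsOfShape (CostructuredArrow (Over.map f).op V) AddCommGrpCat.{u} :=
  hasExactColimitsOfShape_of_final _ (ιV f V.unop)

instance lanPres : PreservesFiniteLimits ((Over.map f).op.lan :
    ((Over X)ᵒᵖ ⥤ AddCommGrpCat.{u}) ⥤ ((Over Y)ᵒᵖ ⥤ AddCommGrpCat.{u})) :=
  Groth.Agent.Lib.LanExact.preservesFiniteLimits_lan _

end Lan

section Sheaf

variable {C : Type u} [SmallCategory C] (J : GrothendieckTopology C) {X Y : C} (f : X ⟶ Y)

/-- restriction of abelian sheaves from `C/Y` to `C/X` along `f : X ⟶ Y`. -/
noncomputable abbrev res : Sheaf (J.over Y) AddCommGrpCat.{u} ⥤ Sheaf (J.over X) AddCommGrpCat.{u} :=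
  CohSite.push (J.over Y) (J.over X) (Over.map f)

/-- Extension by zero `j_!` from abelian sheaves on `C/X` to abelian sheaves on `C/Y`. -/
noncomputable def shriekMap :
    Sheaf (J.over X) AddCommGrpCat.{u} ⥤ Sheaf (J.over Y) AddCommGrpCat.{u} :=
  Functor.sheafPullbackConstruction.sheafPullback (Over.map f) AddCommGrpCat.{u}
    (J.over X) (J.over Y)

/-- `j_! ⊣ j^*`. -/
noncomputable def shriekMapAdj : shriekMap J f ⊣ res J f :=
  Functor.sheafPullbackConstruction.sheafAdjunctionContinuous _ _ _ _

instance preservesFiniteLimits_shriekMap : PreservesFiniteLimits (shriekMap J f) := by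
  have h1 : PreservesFiniteLimits ((Over.map f).op.lan ⋙
      presheafToSheaf (J.over Y) AddCommGrpCat.{u}) :=
    comp_preservesFiniteLimits _ _
  unfold shriekMap Functor.sheafPullbackConstruction.sheafPullback
  apply comp_preservesFiniteLimits

instance preservesColimits_shriekMap : PreservesColimitsOfSize.{u, u} (shriekMap J f) :=
  (shriekMapAdj J f).leftAdjoint_preservesColimits

instance preservesFiniteColimits_shriekMap : PreservesFiniteColimits (shriekMap J f) :=
  PreservesColimitsOfSize.preservesFiniteColimits _

instance additive_shriekMap : (shriekMap J f).Additive :=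
  Functor.additive_of_preserves_binary_products _

instance preservesLimits_res : PreservesLimitsOfSize.{u, u} (res J f) :=
  (shriekMapAdj J f).rightAdjoint_preservesLimits

instance preservesFiniteLimits_res : PreservesFiniteLimits (res J f) :=
  PreservesLimitsOfSize.preservesFiniteLimits _

instance preservesColimits_res : PreservesColimitsOfSize.{u, u} (res J f) :=
  ((Over.map f).sheafAdjunctionCocontinuous AddCommGrpCat.{u} (J.over X) (J.over Y)).leftAdjoint_preservesColimits

instance preservesFiniteColimits_res : PreservesFiniteColimits (res J f) :=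
  PreservesColimitsOfSize.preservesFiniteColimits _

/-- restriction to `C/X` preserves injective abelian sheaves. -/
theorem injective_res (I : Sheaf (J.over Y) AddCommGrpCat.{u}) [Injective I] :
    Injective ((res J f).obj I) :=
  Injective.injective_of_adjoint (shriekMapAdj J f) I

end Sheaf

end Groth.Agent.Lib.OverMapShriek65
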