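import Mathlib.CategoryTheory.Limits.Constructions.Over.Products
import Mathlib.CategoryTheory.Limits.Constructions.FiniteProductsOfBinaryProducts
import Mathlib.CategoryTheory.Limits.Preserves.Shapes.BinaryProducts
import Mathlib.CategoryTheory.Limits.Preserves.Shapes.Terminal
import Mathlib.CategoryTheory.Limits.Preserves.Shapes.Pullbacks
import Mathlib.CategoryTheory.Limits.Shapes.Pullback.IsPullback.Basic

/-!
# `Over.post u` preserves finite products when `u` preserves pullbacks
-/

universe v₁ v₂ u₁ u₂

open CategoryTheory Limits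

namespace Groth.Agent.Lib.OverPostProducts

variable {C : Type u₁} [Category.{v₁} C] {D : Type u₂} [Category.{v₂} D] (u : C ⥤ D) {U : C}

lemma preservesLimit_pair (Y Z : Over U) [HasBinaryProduct Y Z]
    [PreservesLimitsOfShape WalkingCospan u] :
    PreservesLimit (pair Y Z) (Over.post (X := U) u) := by
  apply preservesLimit_of_preserves_limit_cone (prodIsProd Y Z)
  apply (isLimitMapConeBinaryFanEquiv (Over.post u) _ _).symm _
  have hP := (Over.isPullback_of_binaryFan_isLimit _ (prodIsProd Y Z)).map u
  refine IsLimit.ofIsoLimit (IsLimit.pullbackConeEquivBinaryFanFunctor hP.isLimit) ?_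
  refine BinaryFan.ext (Over.isoMk (Iso.refl _) ?_) ?_ ?_
  · change 𝟙 _ ≫ u.map (Y ⨯ Z).hom = u.map (prod.fst : Y ⨯ Z ⟶ Y).left ≫ u.map Y.hom
    rw [Category.id_comp, ← u.map_comp, Over.w]
  · ext
    change _ = 𝟙 _ ≫ u.map (prod.fst : Y ⨯ Z ⟶ Y).left
    rw [Category.id_comp]
    rfl
  · ext
    change _ = 𝟙 _ ≫ u.map (prod.snd : Y ⨯ Z ⟶ Z).left
    rw [Category.id_comp]
    rfl

instance preservesLimitsOfShape_pair [HasBinaryProducts (Over U)]
    [PreservesLimitsOfShape WalkingCospan u] :
    PreservesLimitsOfShape (Discrete WalkingPair) (Over.post (X := U) u) where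
  preservesLimit {K} := by
    have := preservesLimit_pair u (K.obj ⟨WalkingPair.left⟩) (K.obj ⟨WalkingPair.right⟩)
    exact preservesLimit_of_iso_diagram _ (diagramIsoPair K).symm

instance preservesTerminal : PreservesLimit (Functor.empty.{0} (Over U)) (Over.post (X := U) u) := by
  apply preservesLimit_of_preserves_limit_cone Over.mkIdTerminal
  apply (isLimitMapConeEmptyConeEquiv _ _).symm _
  have e : (Over.post (X := U) u).obj (Over.mk (𝟙 U)) ≅ Over.mk (𝟙 (u.obj U)) :=
    Over.isoMk (Iso.refl _) (by
      change 𝟙 _ ≫ 𝟙 _ = u.map (𝟙 U)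
      rw [u.map_id, Category.id_comp])
  exact IsTerminal.ofIso Over.mkIdTerminal e.symm

instance preservesLimitsOfShape_pempty :
    PreservesLimitsOfShape (Discrete.{0} PEmpty) (Over.post (X := U) u) :=
  preservesLimitsOfShape_pempty_of_preservesTerminal _

lemma preservesFiniteProducts [HasFiniteProducts (Over U)]
    [PreservesLimitsOfShape WalkingCospan u] :
    PreservesFiniteProducts (Over.post (X := U) u) :=
  Limits.PreservesFiniteProducts.of_preserves_binary_and_terminal _

lemma isIso_piComparison [HasFiniteProducts (Over U)] [HasFiniteProducts (Over (u.obj U))]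
    [PreservesLimitsOfShape WalkingCospan u] {n : ℕ} (f : Fin n → Over U) :
    IsIso (piComparison (Over.post (X := U) u) f) := by
  have := preservesFiniteProducts (U := U) u
  have : PreservesLimit (Discrete.functor f) (Over.post (X := U) u) := inferInstance
  infer_instance

end Groth.Agent.Lib.OverPostProducts
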