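import Groth.Agent.Lib.OverShriek
import Groth.Agent.Lib.SiteCoh
import Groth.Agent.Lib.ExtAdjunction
import Groth.Agent.Lib.RightDerivedExact
import Groth.Prelude.Def_CohSite

/-!
# `j_!` of the constant sheaf, and Ext adjunction for `j_! ⊣ j^*` (helper11)
-/

set_option autoImplicit false
open CategoryTheory CategoryTheory.Limits Opposite Abelian
universe u

namespace Groth.Agent.Lib.OverShriekExt

open Groth.Agent.Lib.OverShriek Groth.Agent.Lib.SiteCoh

variable {C : Type u} [SmallCategory C] (J : GrothendieckTopology C) (U : C)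

/-- sections over `U`, as a functor to types -/
noncomputable def sectionsFunctor : Sheaf J AddCommGrpCat.{u} ⥤ Type u :=
  (sheafSections J AddCommGrpCat.{u}).obj (op U) ⋙ forget AddCommGrpCat.{u}

/-- the constant sheaf `ℤ` on `C/U` -/
noncomputable abbrev constZ : Sheaf (J.over U) AddCommGrpCat.{u} :=
  (constantSheaf (J.over U) AddCommGrpCat.{u}).obj (AddCommGrpCat.of (ULift ℤ))

/-- `j_! ℤ` corepresents sections over `U`. -/
noncomputable def corepShriek :
    (sectionsFunctor J U).CorepresentableBy ((shriek J U).obj (constZ J U)) where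
  homEquiv {G} := ((shriekAdj J U).homEquiv _ G).trans
    (((constantSheafAdj (J.over U) AddCommGrpCat.{u} Over.mkIdTerminal).homEquiv _ _).trans
      (AddCommGrpCat.uliftZMultiplesAddEquiv _).toEquiv)
  homEquiv_comp g f := by
    simp only [Equiv.trans_apply, Adjunction.homEquiv_naturality_right]
    rfl

/-- the free abelian sheaf on `h_U` corepresents sections over `U`. -/
noncomputable def corepFree :
    (sectionsFunctor J U).CorepresentableBy (freeYoneda J U) where
  homEquiv {G} := freeYonedaHomEquiv U G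
  homEquiv_comp g f := freeYonedaHomEquiv_comp U f g

/-- `j_! ℤ ≅ ℤ[h_U]^#`. -/
noncomputable def shriekConstIso : (shriek J U).obj (constZ J U) ≅ freeYoneda J U :=
  (corepShriek J U).uniqueUpToIso (corepFree J U)

/-- Ext groups are invariant under isomorphism in the first variable. -/
noncomputable def extAddEquivOfIso {A : Type*} [Category A] [Abelian A] [HasExt.{u} A]
    {X X' : A} (e : X ≅ X') (Y : A) (n : ℕ) : Ext.{u} X' Y n ≃+ Ext.{u} X Y n :=
  (((extFunctor n).mapIso e.op).app Y).addCommGroupIsoToAddEquiv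

/-- `Ext^n(j_! A, F) ≃ Ext^n(A, j^* F)`. -/
theorem nonempty_ext_shriek (A : Sheaf (J.over U) AddCommGrpCat.{u})
    (F : Sheaf J AddCommGrpCat.{u}) (n : ℕ) :
    Nonempty (Ext.{u} ((shriek J U).obj A) F n ≃+ Ext.{u} A (F.over U) n) :=
  Groth.Agent.Lib.ExtAdjunction.nonempty_extAddEquiv (shriekAdj J U) F
    (fun q => Groth.Agent.Lib.RightDerivedExact.isZero_rightDerived_succ _ q F) A n

/-- `H^n(U, F) ≃ H^n(C/U, F|_U)` (Mathlib TODO in `SheafCohomology.Basic`). -/
theorem nonempty_HU_equiv_H_over (F : Sheaf J AddCommGrpCat.{u}) (n : ℕ) :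
    Nonempty (CohSite.HU F n U ≃+ Sheaf.H.{u} (F.over U) n) := by
  obtain ⟨e⟩ := nonempty_ext_shriek J U (constZ J U) F n
  exact ⟨(extAddEquivOfIso (shriekConstIso J U) F n).trans e⟩

end Groth.Agent.Lib.OverShriekExt
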