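import Groth.Agent.Lib.OverShriekExt
import Groth.Prelude.Def_CohCx
import Mathlib.CategoryTheory.Sites.Adjunction

/-!
# `j_!` commutes with free abelian sheaves; total acyclicity restricts to `C/U` (helper11)
-/

set_option autoImplicit false
open CategoryTheory CategoryTheory.Limits Opposite Abelian
universe u

namespace Groth.Agent.Lib.OverShriekFree

open Groth.Agent.Lib.OverShriek Groth.Agent.Lib.OverShriekExt

variable {C : Type u} [SmallCategory C] (J : GrothendieckTopology C) (U : C)

/-- `j_!` on sheaves of sets. -/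
noncomputable abbrev shriekSet : Sheaf (J.over U) (Type u) ⥤ Sheaf J (Type u) :=
  (Over.forget U).sheafPullback (Type u) (J.over U) J

/-- the free abelian sheaf functor -/
noncomputable abbrev freeSh {D : Type u} [SmallCategory D] (K : GrothendieckTopology D) :
    Sheaf K (Type u) ⥤ Sheaf K AddCommGrpCat.{u} :=
  Sheaf.composeAndSheafify K AddCommGrpCat.free.{u}

/-- first composite adjunction -/
noncomputable def adj₁ : freeSh (J.over U) ⋙ shriek J U ⊣
    J.overPullback AddCommGrpCat.{u} U ⋙ sheafCompose (J.over U) (forget AddCommGrpCat.{u}) :=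
  (Sheaf.adjunction (J.over U) AddCommGrpCat.adj.{u}).comp (shriekAdj J U)

/-- second composite adjunction -/
noncomputable def adj₂ : shriekSet J U ⋙ freeSh J ⊣
    sheafCompose J (forget AddCommGrpCat.{u}) ⋙ J.overPullback (Type u) U :=
  ((Over.forget U).sheafAdjunctionContinuous (Type u) (J.over U) J).comp
    (Sheaf.adjunction J AddCommGrpCat.adj.{u})

/-- the right adjoints agree -/
noncomputable def rightIso :
    J.overPullback AddCommGrpCat.{u} U ⋙ sheafCompose (J.over U) (forget AddCommGrpCat.{u}) ≅
    sheafCompose J (forget AddCommGrpCat.{u}) ⋙ J.overPullback (Type u) U :=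
  Iso.refl _

/-- `j_! ∘ free ≅ free ∘ j_!`. -/
noncomputable def shriekFreeIso : freeSh (J.over U) ⋙ shriek J U ≅ shriekSet J U ⋙ freeSh J :=
  Adjunction.leftAdjointUniq (adj₁ J U) ((adj₂ J U).ofNatIsoRight (rightIso J U).symm)

theorem isTotallyAcyclic_over (F : Sheaf J AddCommGrpCat.{u}) (hF : CohCx.IsTotallyAcyclic F) :
    CohCx.IsTotallyAcyclic (F.over U) := by
  intro K p
  obtain ⟨e⟩ := nonempty_ext_shriek J U ((freeSh (J.over U)).obj K) F (p + 1)
  have e' := extAddEquivOfIso ((shriekFreeIso J U).app K) F (p + 1)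
  have h : Subsingleton (CohCx.HK ((shriekSet J U).obj K) F (p + 1)) := hF _ p
  exact (e.symm.trans e'.symm).toEquiv.subsingleton_congr.mpr h

end Groth.Agent.Lib.OverShriekFree
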