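import Groth.Agent.Lib.H43PnPairing
import Groth.Agent.Lib.H78PlanePoints
import Groth.Agent.Lib.RiemannRoch54
import Groth.Agent.Lib.DegTensor13
import Groth.Agent.Lib.DegTensor54
import Groth.Agent.Lib.ProjSpaceProper
import Groth.Agent.S0002

/-!
# The projective line over a field as a curve of genus zero (lead; campaign K8)

Namespace `Groth.Agent.Lib.P1Basic`.  `𝐏 = CohB1.ProjSpace 1 k`, `𝒪(d) = Twist.twistProjSpace 1 k d`.

* `isProper`, `dim_eq_one`, `isInvertible_twist`, `isCoh_twist`.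
* `finrank_H0_twist_nat` (`h⁰(O(d)) = d + 1`, `d ≥ 0`), `subsingleton_H0_twist_neg`, `subsingleton_H1_twist` (`d ≥ -1`).
* `finrank_H0_structure` (`= 1`), `genus_eq_zero`.
* `deg_twist` (`deg O(d) = d` for all integers `d`).
* `nonempty_iso_twist` : every invertible module is isomorphic to `O(deg L)`.
-/

set_option autoImplicit false
universe u
open CategoryTheory CategoryTheory.Limits AlgebraicGeometry Opposite TopologicalSpace

namespace Groth.Agent.Lib.P1Basic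

open Groth.Agent.Lib.H4Twist Groth.Agent.Lib.OXModTensor Groth.Agent.Lib.H90Invertible

variable (k : Type u) [Field k]

local notation "𝐏" => CohB1.ProjSpace 1 k
local notation "𝒪(" d ")" => Twist.twistProjSpace 1 k d

/-- S0002 in hypothesis form -/
theorem properFinHyp : Groth.Agent.Lib.ProperFinHyp.Hyp.{u} :=
  fun A _ _ X _ _ M hM n => Groth.Agent.S0002.result A X M hM n

instance isProper : IsProper (𝐏 ↘ Spec (CommRingCat.of k)) :=
  Groth.Agent.Lib.ProjSpaceProper.isProper_toSpec 1 k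

theorem dim_eq_one : topologicalKrullDim 𝐏 = 1 := by
  have := Groth.Agent.S10829.result k 1
  simpa using this

theorem isInvertible_twist (d : ℤ) : PicF.IsInvertible 𝒪(d) := isInvertible_twistProjSpace 1 k d

theorem isCoh_twist (d : ℤ) : Coh.IsCoh 𝒪(d) := isCoh_of_isInvertible (isInvertible_twist k d)

/-- `h⁰(P¹, O(d)) = d + 1` for `d ≥ 0` -/
theorem finrank_H0_twist_nat (d : ℕ) : Module.finrank k (Coh.HH 𝐏 𝒪((d : ℤ)) 0) = d + 1 := by
  classical
  rw [(gammaLinearEquiv 1 k d).finrank_eq, Groth.Agent.Lib.H78PlanePoints.finrank_homogeneousSubmodule]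
  simp only [Fintype.card_fin]
  have : 1 + 1 + d - 1 = d + 1 := by omega
  rw [this, Nat.choose_succ_self_right]

theorem subsingleton_H0_twist_neg (d : ℤ) (hd : d < 0) : Subsingleton (Coh.HH 𝐏 𝒪(d) 0) :=
  subsingleton_HH_zero_of_neg 1 k le_rfl d hd

theorem subsingleton_H1_twist (d : ℤ) (hd : -2 < d) : Subsingleton (Coh.HH 𝐏 𝒪(d) 1) :=
  subsingleton_HH_twist 1 k d 1 Nat.one_pos (Or.inr (by push_cast; omega))

theorem nonempty_twistZeroIso : Nonempty (𝒪(0) ≅ Coh.structureModule 𝐏) :=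
  Groth.Agent.Lib.H4Twist.nonempty_twistZeroIso (CohB1.polyGrading 1 k)

/-- `O(a) ⊗ O(b) ≅ O(c)` for `a + b = c` (helper43's `mulIso`, restated on `P¹`) -/
noncomputable def mulIso (a b c : ℤ) (h : a + b = c) : CohB1.tensorMod 𝒪(a) 𝒪(b) ≅ 𝒪(c) :=
  Groth.Agent.Lib.H43PnEfface.mulIso 1 k a b c h

theorem finrank_H0_structure : Module.finrank k (Coh.HH 𝐏 (Coh.structureModule 𝐏) 0) = 1 := by
  obtain ⟨e⟩ := nonempty_twistZeroIso k
  rw [← (Groth.Agent.Lib.CohLES.mapEquivₗ k e 0).finrank_eq]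
  exact finrank_H0_twist_nat k 0

theorem genus_eq_zero : Curv2.genus k 𝐏 = 0 := by
  obtain ⟨e⟩ := nonempty_twistZeroIso k
  unfold Curv2.genus
  rw [← (Groth.Agent.Lib.CohLES.mapEquivₗ k e 1).finrank_eq]
  have := subsingleton_H1_twist k 0 (by omega)
  exact Module.finrank_zero_of_subsingleton

lemma auxE (a b : ℕ) (chi : ℤ) (d : ℕ) (h : chi = (a : ℤ) - b) (ha : a = d + 1) (hb : b = 0) :
    chi = d + 1 := by lia

/-- `χ(O(d)) = d + 1` for `d ≥ 0` -/
theorem euler_twist_nat (d : ℕ) : Curv2.euler k 𝐏 𝒪((d : ℤ)) = d + 1 := by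
  have hq : (𝒪((d : ℤ))).IsQuasicoherent := (isCoh_twist k d).1
  have h := Groth.Agent.Lib.RiemannRoch54.euler_eq_sub k 𝐏 (dim_eq_one k).le 𝒪((d : ℤ))
  have := subsingleton_H1_twist k (d : ℤ) (by omega)
  exact auxE _ _ _ _ h (finrank_H0_twist_nat k d) Module.finrank_zero_of_subsingleton

theorem euler_structure : Curv2.euler k 𝐏 (Coh.structureModule 𝐏) = 1 := by
  obtain ⟨e⟩ := nonempty_twistZeroIso k
  rw [← Groth.Agent.Lib.DegTensor54.euler_congr k e]
  have := euler_twist_nat k 0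
  simpa using this

theorem deg_twist_nat (d : ℕ) : Curv2.deg k 𝐏 𝒪((d : ℤ)) 1 = d := by
  unfold Curv2.deg
  rw [euler_twist_nat, euler_structure]
  push_cast
  ring

/-- `deg O(d) = d` -/
theorem deg_twist (d : ℤ) : Curv2.deg k 𝐏 𝒪(d) 1 = d := by
  have hd1 : topologicalKrullDim 𝐏 ≤ 1 := (dim_eq_one k).le
  have hmul : ∀ a b : ℤ, Curv2.deg k 𝐏 𝒪(a + b) 1 = Curv2.deg k 𝐏 𝒪(a) 1 + Curv2.deg k 𝐏 𝒪(b) 1 := by
    intro a b
    rw [← Groth.Agent.Lib.DegTensor54.deg_congr k (mulIso k a b (a + b) rfl) 1]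
    exact Groth.Agent.Lib.DegTensor54.deg_tensorMod Groth.Agent.Lib.DegTensor13.snapperHyp
      Groth.Agent.Lib.DegTensor13.vanHyp k hd1 (isInvertible_twist k a) (isInvertible_twist k b)
  obtain ⟨n, rfl | rfl⟩ := Int.eq_nat_or_neg d
  · exact deg_twist_nat k n
  · have h := hmul (-(n : ℤ)) (n : ℤ)
    rw [neg_add_cancel] at h
    have h0 := deg_twist_nat k 0
    rw [Nat.cast_zero] at h0
    rw [h0, deg_twist_nat] at h
    linarith

/-- every invertible module on `P¹` is a twisting module -/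
theorem nonempty_iso_twist {L : (𝐏).Modules} (hL : PicF.IsInvertible L) :
    Nonempty (L ≅ 𝒪(Curv2.deg k 𝐏 L 1)) := by
  have hd1 : topologicalKrullDim 𝐏 ≤ 1 := (dim_eq_one k).le
  set d := Curv2.deg k 𝐏 L 1 with hd
  have hM : PicF.IsInvertible (CohB1.tensorMod L 𝒪(-d)) :=
    Groth.Agent.Lib.H78TensorGen.isInvertible_tensorMod hL (isInvertible_twist k (-d))
  have hdeg : Curv2.deg k 𝐏 (CohB1.tensorMod L 𝒪(-d)) 1 = 0 := by
    rw [Groth.Agent.Lib.DegTensor54.deg_tensorMod Groth.Agent.Lib.DegTensor13.snapperHyp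
      Groth.Agent.Lib.DegTensor13.vanHyp k hd1 hL (isInvertible_twist k (-d)), deg_twist, ← hd]
    ring
  obtain ⟨e⟩ := Groth.Agent.Lib.RiemannRoch54.iso_structure_of_genus_zero_of_deg_zero (properFinHyp.{u}) k 𝐏
    (dim_eq_one k) (finrank_H0_structure k) (genus_eq_zero k) hM hdeg
  obtain ⟨e0⟩ := nonempty_twistZeroIso k
  -- `L ≅ L ⊗ O ≅ L ⊗ (O(-d) ⊗ O(d)) ≅ (L ⊗ O(-d)) ⊗ O(d) ≅ O ⊗ O(d) ≅ O(d)`
  have e1 : CohB1.tensorMod 𝒪(-d) 𝒪(d) ≅ Coh.structureModule 𝐏 :=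
    mulIso k (-d) d 0 (by ring) ≪≫ e0
  exact ⟨(rightUnitor L).symm ≪≫ tensorModIso (Iso.refl L) e1.symm ≪≫
    (associator L 𝒪(-d) 𝒪(d)).symm ≪≫ tensorModIso e (Iso.refl _) ≪≫ leftUnitor _⟩

end Groth.Agent.Lib.P1Basic
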