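import Groth.Agent.Lib.ProjSpaceExistH3
import Groth.Agent.Lib.DegPull48c
import Groth.Agent.Lib.P1Basic
import Groth.Agent.Lib.P1Pid57
import Groth.Agent.Lib.P1Curve85
import Groth.Agent.S2422
import Mathlib.AlgebraicGeometry.Morphisms.IsIso

set_option autoImplicit false
set_option linter.style.haveILetI false
universe u
open CategoryTheory CategoryTheory.Limits AlgebraicGeometry Opposite TopologicalSpace

namespace Groth.Agent.Lib.P1Recog54

open Twist MvPolynomial HomogeneousLocalization
open AlgebraicGeometry.Scheme.Modules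
open Groth.Agent.Lib.H90Invertible Groth.Agent.Lib.H4Twist Groth.Agent.Lib
open Groth.Agent.Lib.PullSecH3 Groth.Agent.Lib.ProjSpaceCoordH3 Groth.Agent.Lib.QCohStalk
open Groth.Agent.Lib.ProjSpacePullH3 Groth.Agent.Lib.ProjSpaceUniqH3
open Groth.Agent.Lib.H78TensorGen Groth.Agent.Lib.H78SecCoord Groth.Agent.Lib.H78Atlas
open Groth.Agent.Lib.GenCoverH3 Groth.Agent.Lib.AwayLiftH3 Groth.Agent.Lib.ProjChartH3
open Groth.Agent.Lib.ModIsoGlueH3 Groth.Agent.Lib.ProjSpaceExistH3

section Iso

variable {X Y : Scheme.{u}}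

/-- an affine morphism inducing isomorphisms on all sections is an isomorphism -/
theorem isIso_of_isAffineHom_of_isIso_app (f : X ⟶ Y) [IsAffineHom f] (h : ∀ V : Y.Opens, IsIso (f.app V)) :
    IsIso f := by
  rw [← MorphismProperty.isomorphisms.iff]
  refine HasAffineProperty.of_iSup_eq_top (P := MorphismProperty.isomorphisms Scheme)
    (fun U : Y.affineOpens => U) ?_ (fun U => ?_)
  · exact iSup_affineOpens_eq_top Y
  · refine ⟨?_, ?_⟩
    · exact U.2.preimage f
    · rw [morphismRestrict_appTop]
      have h1 : IsIso (X.presheaf.map (eqToHom (image_morphismRestrict_preimage f U.1 ⊤)).op) := by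
        have : IsIso (eqToHom (image_morphismRestrict_preimage f U.1 ⊤)).op := inferInstance
        exact Functor.map_isIso _ _
      exact @IsIso.comp_isIso _ _ _ _ _ _ _ (h _) h1

end Iso

section Birat

variable {X Y : Scheme.{u}} (f : X ⟶ Y)

/-- residue degree one at a point with field stalk: the stalk map is surjective -/
theorem stalkMap_surjective_of_residueDegree_eq_one (x : X) (hx : IsField (X.presheaf.stalk x))
    (hd : f.residueDegree x = 1) : Function.Surjective (f.stalkMap x).hom := by
  letI := (f.residueFieldMap x).hom.toAlgebra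
  have h1 : Function.Bijective (algebraMap (Y.residueField (f x)) (X.residueField x)) :=
    Algebra.finrank_eq_one_iff_bijective_algebraMap.mp hd
  intro z
  obtain ⟨w', hw'⟩ := h1.2 ((X.residue x).hom z)
  obtain ⟨w, rfl⟩ := IsLocalRing.residue_surjective w'
  refine ⟨w, ?_⟩
  apply (Groth.Agent.Lib.CurveDeg48.residue_bijective_of_isField _ hx).1
  have h2 : (f.residueFieldMap x).hom ((Y.residue (f x)).hom w) =
      (X.residue x).hom ((f.stalkMap x).hom w) :=
    congrArg (fun g => g.hom w) (Scheme.residue_residueFieldMap f x)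
  exact h2.symm.trans hw'

/-- a dominant morphism of integral schemes of generic residue degree one induces a surjection of function fields -/
theorem mem_range_stalkToFunctionField [IsIntegral X] [IsIntegral Y]
    (hd : f.residueDegree (genericPoint X) = 1)
    (hdom : f.base (genericPoint X) ⤳ genericPoint Y) (hξ : f.base (genericPoint X) = genericPoint Y)
    (z : X.functionField) :
    z ∈ Set.range (CohIII.stalkToFunctionField f (genericPoint Y) hdom) := by
  obtain ⟨w, hw⟩ := stalkMap_surjective_of_residueDegree_eq_one f (genericPoint X)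
    (Field.toIsField X.functionField) hd z
  have key : ∀ (y : Y) (_ : f.base (genericPoint X) = y) (h : f.base (genericPoint X) ⤳ y),
      Function.Surjective (Y.presheaf.stalkSpecializes h).hom := by
    intro y hy h
    subst hy
    rw [TopCat.Presheaf.stalkSpecializes_refl]
    exact Function.surjective_id
  obtain ⟨v, hv⟩ := key _ hξ hdom w
  refine ⟨v, ?_⟩
  change (f.stalkMap (genericPoint X)).hom ((Y.presheaf.stalkSpecializes hdom).hom v) = z
  rw [hv, hw]

end Birat

section Pre

variable (n : ℕ) (R : Type u) [CommRing R] {X : Scheme.{u}} (q : X ⟶ Spec (CommRingCat.of R))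
  {L : X.Modules} (s : Fin (n + 1) → Γ(L, ⊤)) (hL : PicF.IsInvertible L) (hs : ProjUP.GeneratedBy L s)
  (r : X ⟶ Proj (CohB1.polyGrading n R))
  (hr : ∀ i, (U s i).ι ≫ r =
      chart (CohB1.polyGrading n R) (X_mem n R i) Nat.one_pos (U s i)
        (awayLift (CohB1.polyGrading n R) (MvPolynomial.X i) (Φ n R q s i) (isUnit_Φ n R q s i)))

include hL hs hr in
/-- the preimage of the standard chart `D_k` is the generating locus of `s_k` (any base ring) -/
theorem preimage_D_eq (k : Fin (n + 1)) : r ⁻¹ᵁ D n R k = U s k := by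
  obtain ⟨φ, hφ⟩ := ProjSpaceExistH3.exists_iso n R q s hL hs r hr
  refine le_antisymm ?_ (ProjSpaceExistH3.le_preimage n R q s r hr k)
  apply le_U
  have hgen : IsGen L (r ⁻¹ᵁ D n R k) (φ.hom.app (r ⁻¹ᵁ D n R k) (ProjSpacePullH3.s n R r k)) :=
    (isGen_s n R r k).of_iso φ
  have h1 : ProjSpacePullH3.s n R r k =
      ((Scheme.Modules.pullback r).obj (twist (CohB1.polyGrading n R) 1)).presheaf.map
        (homOfLE (le_top : r ⁻¹ᵁ D n R k ≤ ⊤)).op
      (ProjUP.pullSec r (twist (CohB1.polyGrading n R) 1) (ProjUP.coord n R k)) :=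
    unitV_res r (twist (CohB1.polyGrading n R) 1) (le_top : D n R k ≤ ⊤) (ProjUP.coord n R k)
  rw [h1, app_res, hφ k] at hgen
  exact hgen

end Pre

section Core

variable (k : Type u) [Field k] (X : Scheme.{u}) [X.Over (Spec (CommRingCat.of k))]
  [IsIntegral X] [IsProper (X ↘ Spec (CommRingCat.of k))] (hdim : topologicalKrullDim X = 1)
  {L : X.Modules} (hL : PicF.IsInvertible L) (s : Fin 2 → Γ(L, ⊤)) (hs : ProjUP.GeneratedBy L s)
  (hdeg : Curv2.deg k X L 1 = 1)

local instance isIntegralProj : IsIntegral (Proj (CohB1.polyGrading 1 k)) :=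
  Groth.Agent.Lib.P1Curve85.isIntegral_projSpace k 1

omit [IsIntegral X] in
/-- the degree of a trivial invertible module vanishes -/
theorem deg_eq_zero_of_iso (e : L ≅ Coh.structureModule X) : Curv2.deg k X L 1 = 0 := by
  unfold Curv2.deg
  rw [Groth.Agent.Lib.DegTensor13.euler_congr k e]
  push_cast
  ring

include hL hs hdeg in
/-- the morphism to `P^1` defined by two generating sections of a degree one invertible module is dominant -/
theorem map_genericPoint_eq (r : X ⟶ Proj (CohB1.polyGrading 1 k))
    (hpre : ∀ i, r ⁻¹ᵁ D 1 k i = U s i) :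
    r.base (genericPoint X) = genericPoint (Proj (CohB1.polyGrading 1 k)) := by
  by_contra hne
  have hcl : IsClosed ({r.base (genericPoint X)} : Set (Proj (CohB1.polyGrading 1 k))) :=
    Groth.Agent.Lib.CurveDeg48.isClosed_singleton_of_ne_genericPoint
      (Groth.Agent.Lib.P1Basic.dim_eq_one k).le _ hne
  have hη : genericPoint X ∈ (⨆ i, U s i : X.Opens) := by
    rw [iSup_U_eq_top s hL hs]
    trivial
  obtain ⟨i, hi⟩ := Opens.mem_iSup.1 hη
  have htop : U s i = ⊤ := by
    rw [eq_top_iff]
    intro x _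
    rw [← hpre i]
    have h1 : r.base (genericPoint X) ⤳ r.base x :=
      (genericPoint_specializes x).map r.continuous
    have h2 : r.base x = r.base (genericPoint X) :=
      Set.mem_singleton_iff.mp (h1.mem_closed hcl (Set.mem_singleton _))
    change r.base x ∈ D 1 k i
    rw [h2]
    have h3 : genericPoint X ∈ r ⁻¹ᵁ D 1 k i := by rw [hpre i]; exact hi
    exact h3
  have hgen : IsGen L ⊤ (s i) := by
    have h := isGen_U s i
    rw [htop] at h
    rwa [rs_self] at h
  obtain ⟨e⟩ := nonempty_iso_structureModule_iff.mpr ⟨s i, hgen⟩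
  rw [deg_eq_zero_of_iso k X e] at hdeg
  exact zero_ne_one hdeg

/-- the projective line is a normal scheme -/
theorem isNormalScheme_projectiveLine : Pi1.IsNormalScheme (CohB1.ProjSpace 1 k) := by
  intro x
  haveI : IsIntegral (CohB1.ProjSpace 1 k) := Groth.Agent.Lib.P1Curve85.isIntegral_projSpace k 1
  haveI : IsDomain ((CohB1.ProjSpace 1 k).presheaf.stalk x) := inferInstance
  haveI : IsPrincipalIdealRing ((CohB1.ProjSpace 1 k).presheaf.stalk x) :=
    Groth.Agent.Lib.P1Pid57.isPrincipalIdealRing_stalk k x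
  exact ⟨inferInstance, inferInstance⟩

include hdim hdeg in
/-- a dominant morphism to the projective line pulling `O(1)` back to a module of degree one is an isomorphism -/
theorem isIso_of_pullback_twist_iso (f : X ⟶ CohB1.ProjSpace 1 k)
    (hcomp : f ≫ CohB1.ProjSpace.toSpec 1 k = X ↘ Spec (CommRingCat.of k))
    (hξ : f.base (genericPoint X) = genericPoint (CohB1.ProjSpace 1 k))
    (φ : (Scheme.Modules.pullback f).obj (Twist.twistProjSpace 1 k 1) ≅ L) : IsIso f := by
  have H : Groth.Agent.Lib.ProperFinHyp.Hyp.{u} := Groth.Agent.Lib.P1Basic.properFinHyp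
  have hPdim := Groth.Agent.Lib.P1Basic.dim_eq_one k
  haveI hfin : IsFinite f :=
    Groth.Agent.Lib.CurveDeg48.isFinite_of_dominant k X (CohB1.ProjSpace 1 k) hdim hPdim f hcomp hξ
  haveI hprop : IsProper f := Groth.Agent.Lib.CurveDeg48.isProper_of_comp_eq k X (CohB1.ProjSpace 1 k) f hcomp
  have hE : FlatMod.IsFinLocFreeOfRank 1 (Twist.twistProjSpace 1 k 1) :=
    (isInvertible_iff_isFinLocFreeOfRank_one _).mp (Groth.Agent.Lib.P1Basic.isInvertible_twist k 1)
  have hdegr := Groth.Agent.Lib.CurveDeg48.deg_pullback_of_dominant H k X (CohB1.ProjSpace 1 k) hdim hPdim f hcomp hξ hE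
  rw [Groth.Agent.Lib.P1Basic.deg_twist k 1, mul_one] at hdegr
  have hdeg' : Curv2.deg k X ((Scheme.Modules.pullback f).obj (Twist.twistProjSpace 1 k 1)) 1 =
      Curv2.deg k X L 1 := by
    have h := Groth.Agent.Lib.DegTensor13.euler_congr k φ
    unfold Curv2.deg
    exact congrArg (fun t => t - ((1 : ℕ) : ℤ) * Curv2.euler k X (Coh.structureModule X)) h
  have h3 : (1 : ℤ) = (f.residueDegree (genericPoint X) : ℤ) := hdeg.symm.trans (hdeg'.symm.trans hdegr)
  have hres : f.residueDegree (genericPoint X) = 1 := by exact_mod_cast h3.symm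
  have hdom : f.base (genericPoint X) ⤳ genericPoint (CohB1.ProjSpace 1 k) := by
    rw [hξ]
  haveI : IsLocallyNoetherian X := LocallyOfFiniteType.isLocallyNoetherian (X ↘ Spec (CommRingCat.of k))
  haveI : IsLocallyNoetherian (CohB1.ProjSpace 1 k) :=
    LocallyOfFiniteType.isLocallyNoetherian ((CohB1.ProjSpace 1 k) ↘ Spec (CommRingCat.of k))
  have happ := Groth.Agent.S2422.result (isNormalScheme_projectiveLine k) f hdom
    (fun z _ => mem_range_stalkToFunctionField f hres hdom hξ z)
  exact isIso_of_isAffineHom_of_isIso_app f happ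

include hdim hL hs hdeg in
/-- **recognition of the projective line**: an integral proper curve with an invertible module of degree one
generated by two global sections is the projective line -/
theorem exists_iso_projectiveLine :
    ∃ e : X ≅ CohB1.ProjSpace 1 k,
      e.hom ≫ CohB1.ProjSpace.toSpec 1 k = X ↘ Spec (CommRingCat.of k) := by
  obtain ⟨r, hr⟩ := ProjSpaceExistH3.exists_hom 1 k (X ↘ Spec (CommRingCat.of k)) s hL hs
  have hcomp : r ≫ CohB1.ProjSpace.toSpec 1 k = X ↘ Spec (CommRingCat.of k) :=
    ProjSpaceExistH3.comp_toSpec 1 k _ s hL hs r hr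
  obtain ⟨φ, -⟩ := ProjSpaceExistH3.exists_iso 1 k _ s hL hs r hr
  have hpre := preimage_D_eq 1 k _ s hL hs r hr
  have hξ := map_genericPoint_eq k X hL s hs hdeg r hpre
  have hiso : @IsIso _ _ X (CohB1.ProjSpace 1 k) r := isIso_of_pullback_twist_iso k X hdim hdeg r hcomp hξ φ
  exact ⟨@asIso _ _ X (CohB1.ProjSpace 1 k) r hiso, hcomp⟩

end Core

end Groth.Agent.Lib.P1Recog54
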