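import Groth.Agent.Lib.CurveGlobGen54
import Groth.Agent.Lib.H90DevHub2
import Groth.Prelude.Def_ProjUP

set_option autoImplicit false
set_option linter.style.haveILetI false
universe u
open CategoryTheory CategoryTheory.Limits AlgebraicGeometry Opposite TopologicalSpace

namespace Groth.Agent.Lib.P1Sections54

open Groth.Agent.Lib.EulerChar54 Groth.Agent.Lib.ProperFinHyp Groth.Agent.Lib.DegCurve54
open Groth.Agent.Lib.InvMap54 Groth.Agent.Lib.H90Invertible Groth.Agent.Lib.CohLES
open Groth.Agent.Lib.H78SecCoord Groth.Agent.Lib.EulerNat54 Groth.Agent.Lib.StructureModule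
open Groth.Agent.Lib.H78GlobGen2 Groth.Agent.Lib.H4Twist Groth.Agent.Lib.H78TensorGen

section Const

variable (k : Type u) [Field k] (X : Scheme.{u}) [X.Over (Spec (CommRingCat.of k))]
  [IsIntegral X] [IsProper (X ↘ (Spec (CommRingCat.of k)))]

/-- if some module has one-dimensional `H^0` then the global functions of an integral proper scheme are the constants -/
theorem finrank_H0_structure_eq_one_of_finrank_H0_eq_one (Q : X.Modules)
    (hQ : Module.finrank k (Coh.HH X Q 0) = 1) :
    Module.finrank k (Coh.HH X (Coh.structureModule X) 0) = 1 := by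
  let _ : Module k (Coh.Γtop X) := Module.compHom _ (Coh.toGlobal (X ↘ Spec (CommRingCat.of k)))
  let e : Coh.HH X (Coh.structureModule X) 0 ≃+ Coh.Γtop X := h0Equiv (Coh.structureModule X)
  have he : ∀ (c : k) (x : Coh.HH X (Coh.structureModule X) 0), e (c • x) = c • e x := by
    intro c x
    rw [smul_over_def]
    exact h0Equiv_smul (Coh.structureModule X) _ x
  let eₗ : Coh.HH X (Coh.structureModule X) 0 ≃ₗ[k] Coh.Γtop X :=
    { e with map_smul' := he }
  rw [eₗ.finrank_eq]
  have hfield : IsField (Coh.Γtop X) := isField_of_universallyClosed k (X ↘ Spec (CommRingCat.of k))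
  have hfinQ : Module.Finite k (Coh.HH X Q 0) := Module.finite_of_finrank_pos (by rw [hQ]; exact Nat.one_pos)
  have hnt : Nontrivial (Coh.HH X Q 0) := Module.nontrivial_of_finrank_pos (R := k) (by rw [hQ]; exact Nat.one_pos)
  obtain ⟨n, hn⟩ := exists_ne (0 : Coh.HH X Q 0)
  let ψ : Coh.Γtop X →ₗ[k] Coh.HH X Q 0 :=
    { toFun := fun a => a • n
      map_add' := fun a b => add_smul a b n
      map_smul' := fun c a => by
        rw [RingHom.id_apply, smul_over_def]
        change (Coh.toGlobal (X ↘ Spec (CommRingCat.of k)) c * a) • n = _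
        rw [mul_smul] }
  have hψ : Function.Injective ψ := by
    rw [injective_iff_map_eq_zero]
    intro a ha
    by_contra hne
    obtain ⟨b, hb⟩ := hfield.mul_inv_cancel hne
    apply hn
    have h1 : b • (a • n) = 0 := by
      change b • ψ a = 0
      rw [ha, smul_zero]
    rw [← mul_smul, hfield.mul_comm, hb, one_smul] at h1
    exact h1
  have hle := LinearMap.finrank_le_finrank_of_injective hψ
  rw [hQ] at hle
  have hfin : Module.Finite k (Coh.Γtop X) := Module.Finite.of_injective ψ hψ
  have hpos : 0 < Module.finrank k (Coh.Γtop X) := by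
    haveI : Nontrivial (Coh.Γtop X) := hfield.nontrivial
    exact Module.finrank_pos
  omega

include k in
/-- an integral proper scheme over a field has nonzero global functions -/
theorem finrank_H0_structure_pos (H : Hyp.{u}) :
    0 < Module.finrank k (Coh.HH X (Coh.structureModule X) 0) := by
  have hOc : Coh.IsCoh (Coh.structureModule X) := isCoh_of_isInvertible (isInvertible_structureModule X)
  have hfin : Module.Finite k (Coh.HH X (Coh.structureModule X) 0) := H k X _ hOc 0
  have hfield : IsField (Coh.Γtop X) := isField_of_universallyClosed k (X ↘ Spec (CommRingCat.of k))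
  have hnt : Nontrivial (Coh.Γtop X) := hfield.nontrivial
  have hnt' : Nontrivial Γ(Coh.structureModule X, ⊤) := hnt
  haveI : Nontrivial (Coh.HH X (Coh.structureModule X) 0) :=
    (h0Equiv (Coh.structureModule X)).toEquiv.nontrivial
  exact Module.finrank_pos

end Const

section Gen

variable {X : Scheme.{u}}

/-- global sections whose tautological map from the free module is an epimorphism generate the module -/
theorem generatedBy_of_epi_ofSections (L : X.Modules) {K : Type u} (ξ : K → Γ(L, ⊤))
    (hepi : Epi (ofSections L ξ)) : ProjUP.GeneratedBy L ξ := by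
  intro x
  let G : SheafOfModules.GeneratingSections L :=
    { I := K, s := L.freeHomEquiv (ofSections L ξ), epi := by rw [Equiv.symm_apply_apply]; exact hepi }
  have hspan := Groth.Agent.Lib.H78GlobGen.span_germ_eq_top' L G x
  have hG : ∀ i : K, (G.s i).val (op ⊤) = ξ i := by
    intro i
    change ((L.freeHomEquiv (ofSections L ξ)) i).val (op ⊤) = ξ i
    rw [ofSections, Equiv.apply_symm_apply]
    rw [ofSection, Equiv.apply_symm_apply]
    exact rs_self L (ξ i)
  have hrange : (Set.range fun i : G.I => L.presheaf.germ ⊤ x trivial ((G.s i).val (op ⊤))) =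
      Set.range fun i => (L.presheaf.germ ⊤ x trivial).hom (ξ i) := by
    congr 1
    funext i
    rw [hG i]
  rw [← hrange]
  exact hspan

end Gen

section Two

lemma auxQ (chiL chiO chiQ : ℤ) (q : ℕ) (hadd : chiL = chiO + chiQ) (hdeg : chiL - ((1 : ℕ) : ℤ) * chiO = 1)
    (hq : chiQ = q) : q = 1 := by lia

variable (H : Hyp.{u}) (k : Type u) [Field k] (X : Scheme.{u}) [X.Over (Spec (CommRingCat.of k))]
  [IsIntegral X] [IsProper (X ↘ (Spec (CommRingCat.of k)))] (hdim : topologicalKrullDim X ≤ 1)
  {L : X.Modules} (hL : PicF.IsInvertible L)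

include H hdim hL in
/-- an invertible module of degree one with at least two independent sections on an integral proper curve over a field
is generated by two global sections; moreover `h^0(O) = 1` -/
theorem exists_generatedBy_of_deg_eq_one (hdeg : Curv2.deg k X L 1 = 1)
    (h2 : 2 ≤ Module.finrank k (Coh.HH X L 0)) :
    Module.finrank k (Coh.HH X (Coh.structureModule X) 0) = 1 ∧
      ∃ s : Fin 2 → Γ(L, ⊤), ProjUP.GeneratedBy L s := by
  have : IsLocallyNoetherian X :=
    LocallyOfFiniteType.isLocallyNoetherian (X ↘ (Spec (CommRingCat.of k)))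
  have hOinv := isInvertible_structureModule X
  have hLc : Coh.IsCoh L := isCoh_of_isInvertible hL
  have hOc : Coh.IsCoh (Coh.structureModule X) := isCoh_of_isInvertible hOinv
  have hOq : (Coh.structureModule X).IsQuasicoherent := hOc.1
  obtain ⟨s0, hs0⟩ := Groth.Agent.Lib.RiemannRoch54.exists_section_ne_zero k X L (by omega)
  have hmono : Mono s0 := mono_of_ne_zero hOinv hL s0 hs0
  have hQc : Coh.IsCoh (cokernel s0) := Groth.Agent.Lib.H90OXModExact.isCoh_cokernel s0 hLc
  have hsupp := isClosed_singleton_of_mem_support_cokernel hOinv hL s0 hdim hs0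
  have hS : (ShortComplex.mk s0 (cokernel.π s0) (cokernel.condition s0)).ShortExact :=
    { exact := ShortComplex.exact_cokernel s0 }
  have hadd := euler_add H k X _ hS hOc hLc hQc
  have hQhigher : ∀ i, 0 < i → Subsingleton (Coh.HH X (cokernel s0) i) := fun i hi =>
    Groth.Agent.S0047.result X _ hQc hsupp i hi
  have hχQ := euler_eq_finrank_zero k X (cokernel s0) hQhigher
  have hq1 : Module.finrank k (Coh.HH X (cokernel s0) 0) = 1 := by
    unfold Curv2.deg at hdeg
    exact auxQ _ _ _ _ hadd hdeg hχQ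
  have h0 := finrank_H0_structure_eq_one_of_finrank_H0_eq_one k X (cokernel s0) hq1
  refine ⟨h0, ?_⟩
  -- a section not coming from `H^0(O)`
  have hfinO : Module.Finite k (Coh.HH X (Coh.structureModule X) 0) := H k X _ hOc 0
  obtain ⟨x1, hx1⟩ : ∃ x : Coh.HH X L 0, map (cokernel.π s0) 0 x ≠ 0 := by
    by_contra hcon
    have hall : ∀ x : Coh.HH X L 0, map (cokernel.π s0) 0 x = 0 := by
      intro x
      by_contra hx
      exact hcon ⟨x, hx⟩
    have hsurj : Function.Surjective (mapₗ k s0 0) := fun x => exact₂ hS 0 x (hall x)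
    have hle := LinearMap.finrank_le_finrank_of_surjective hsurj
    omega
  -- the two sections
  obtain ⟨t, ht0, ht1⟩ : ∃ t : Fin 2 → Γ(L, ⊤), t 0 = sec s0 ∧ t 1 = h0Equiv L x1 :=
    ⟨![sec s0, h0Equiv L x1], rfl, rfl⟩
  obtain ⟨ξ, hξ⟩ : ∃ ξ : ULift.{u} (Fin 2) → Γ(L, ⊤), ξ = fun i => t i.down := ⟨_, rfl⟩
  have hξ0 : ξ ⟨0⟩ = sec s0 := by rw [hξ]; exact ht0
  have hξ1 : ξ ⟨1⟩ = h0Equiv L x1 := by rw [hξ]; exact ht1
  obtain ⟨C, c, hcepi, hs0c, hs1c, hCc, hback⟩ : ∃ (C : X.Modules) (c : L ⟶ C), Epi c ∧ s0 ≫ c = 0 ∧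
      ofSection (h0Equiv L x1) ≫ c = 0 ∧ Coh.IsCoh C ∧ (IsZero C → Epi (ofSections L ξ)) := by
    refine ⟨cokernel (ofSections L ξ), cokernel.π _, inferInstance, ?_, ?_,
      Groth.Agent.Lib.H90OXModExact.isCoh_cokernel _ hLc,
      fun hZ => Preadditive.epi_of_isZero_cokernel _ hZ⟩
    · rw [← ofSection_sec s0, ← hξ0, ← ιF_ofSections L ξ ⟨0⟩, Category.assoc, cokernel.condition, comp_zero]
    · rw [← hξ1, ← ιF_ofSections L ξ ⟨1⟩, Category.assoc, cokernel.condition, comp_zero]
  -- the induced map from the cokernel of `s0`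
  obtain ⟨cbar, hcbar⟩ : ∃ cbar : cokernel s0 ⟶ C, cokernel.π s0 ≫ cbar = c :=
    ⟨cokernel.desc s0 c hs0c, cokernel.π_desc s0 c hs0c⟩
  have hcbarepi : Epi cbar := by
    have : Epi (cokernel.π s0 ≫ cbar) := by rw [hcbar]; exact hcepi
    exact epi_of_epi (cokernel.π s0) cbar
  have hsuppC : ∀ x ∈ CohB1.support C, IsClosed ({x} : Set X) := fun x hx =>
    hsupp x (Groth.Agent.Lib.CurveGlobGen54.support_subset_of_epi cbar hx)
  have hZ : IsZero C := by
    apply isZero_of_isFlasque_of_subsingleton _ (Groth.Agent.S0047.isFlasque_toAb _ hCc hsuppC)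
    refine subsingleton_of_forall_eq 0 fun y => ?_
    -- `H^0(Q) → H^0(C)` is onto
    have hCq : C.IsQuasicoherent := hCc.1
    have hKc : Coh.IsCoh (kernel cbar) := Groth.Agent.Lib.H90OXModExact.isCoh_kernel cbar hQc
    have hSK : (ShortComplex.mk (kernel.ι cbar) cbar (kernel.condition cbar)).ShortExact :=
      ShortComplex.ShortExact.mk' (ShortComplex.exact_of_f_is_kernel _ (kernelIsKernel _))
        inferInstance inferInstance
    have hsuppK : ∀ x ∈ CohB1.support (kernel cbar), IsClosed ({x} : Set X) := fun x hx =>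
      hsupp x (Groth.Agent.Lib.H90DevHub2.support_subset_of_mono (kernel.ι cbar) hx)
    have hK1 : Subsingleton (Coh.HH X (kernel cbar) 1) :=
      Groth.Agent.S0047.result X _ hKc hsuppK 1 Nat.one_pos
    have hK1' : Subsingleton (Coh.HH X (ShortComplex.mk (kernel.ι cbar) cbar (kernel.condition cbar)).X₁ (0 + 1)) :=
      hK1
    obtain ⟨z, hz⟩ := map_g_surjective hSK 0 y
    -- `z` is a multiple of the image of `x1`
    have hfinQ : Module.Finite k (Coh.HH X (cokernel s0) 0) := H k X _ hQc 0
    obtain ⟨a, ha⟩ := (finrank_eq_one_iff_of_nonzero' (map (cokernel.π s0) 0 x1) hx1).mp hq1 z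
    rw [← hz, ← ha]
    change map cbar 0 (a • mapₗ k (cokernel.π s0) 0 x1) = 0
    rw [← LinearMap.map_smul]
    change map cbar 0 (map (cokernel.π s0) 0 (a • x1)) = 0
    rw [← map_comp, hcbar]
    -- the image of `x1` in `H^0(C)` vanishes
    have hx1c : map c 0 x1 = 0 := by
      apply (h0Equiv _).injective
      rw [h0Equiv_map, map_zero]
      have h2 := congrArg sec hs1c
      rw [show sec (ofSection (h0Equiv L x1) ≫ c) = c.app ⊤ (sec (ofSection (h0Equiv L x1))) from rfl,
        sec_ofSection] at h2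
      rw [h2]
      change (0 : Coh.structureModule X ⟶ _).app ⊤ _ = 0
      rw [Scheme.Modules.Hom.zero_app]
      rfl
    change mapₗ k c 0 (a • x1) = 0
    rw [LinearMap.map_smul]
    change a • map c 0 x1 = 0
    rw [hx1c, smul_zero]
  have hepi := hback hZ
  have hgen := generatedBy_of_epi_ofSections L ξ hepi
  refine ⟨t, fun x => ?_⟩
  have h1 := hgen x
  have hrange : (Set.range fun i : ULift.{u} (Fin 2) => (L.presheaf.germ ⊤ x trivial).hom (ξ i)) =
      Set.range fun i : Fin 2 => (L.presheaf.germ ⊤ x trivial).hom (t i) := by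
    ext w
    constructor
    · rintro ⟨i, rfl⟩
      exact ⟨i.down, by rw [hξ]⟩
    · rintro ⟨i, rfl⟩
      exact ⟨⟨i⟩, by rw [hξ]⟩
  rw [← hrange]
  exact h1

end Two

end Groth.Agent.Lib.P1Sections54
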