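import Groth.Agent.Lib.P1Pid57

/-!
# `P^1_k` is smooth over `k` (helper54)

* `polyToD_bijective k j`: the chart map `k[T] → Γ(P^1_k, D₊(X_j))` of `P1Pid57` is bijective
  (a left inverse of its algebraic form is induced by `X_j ↦ 1`, `X_i ↦ T`);
* `smooth_κ k j`: the structure map `k → Γ(P^1_k, D₊(X_j))` is a smooth ring map;
* `smooth_toSpec k`: `Smooth (CohB1.ProjSpace.toSpec 1 k)`;
* `smooth_of_iso`: a `k`-scheme isomorphic over `k` to `P^1_k` is smooth over `k`.
-/

set_option autoImplicit false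
set_option linter.style.haveILetI false
universe u
open CategoryTheory AlgebraicGeometry MvPolynomial HomogeneousLocalization
open Groth.Agent.Lib.ProjSpaceCoordH3 Groth.Agent.Lib.P1Pid57 Groth.Agent.Lib.H4Twist

namespace Groth.Agent.Lib.P1Smooth54

variable (k : Type u) [Field k]

local notation "𝒜" => CohB1.polyGrading 1 k

/-- `k[X₀,X₁] → k[T]`, `X_j ↦ 1`, `X_i ↦ T` for the other index `i`. -/
noncomputable def ev (j : Fin 2) : MvPolynomial (Fin 2) k →+* Polynomial k :=
  (MvPolynomial.aeval (fun i : Fin 2 => if i = j then (1 : Polynomial k) else Polynomial.X)).toRingHom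

theorem ev_X_self (j : Fin 2) : ev k j (X j) = 1 := by
  simp [ev]

theorem ev_X_other (j : Fin 2) : ev k j (X (other j)) = Polynomial.X := by
  have : other j ≠ j := by unfold other; fin_cases j <;> simp
  simp [ev, this]

theorem ev_C (j : Fin 2) (r : k) : ev k j (C r) = Polynomial.C r := by
  simp [ev]

/-- the extension of `ev` to the localization away from `X_j` -/
noncomputable def evLoc (j : Fin 2) :
    Localization.Away (X j : MvPolynomial (Fin 2) k) →+* Polynomial k :=
  IsLocalization.Away.lift (X j : MvPolynomial (Fin 2) k) (g := ev k j)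
    (by rw [ev_X_self]; exact isUnit_one)

theorem evLoc_mk (j : Fin 2) (a : MvPolynomial (Fin 2) k) (m : ℕ) :
    evLoc k j (Localization.mk a ⟨X j ^ m, m, rfl⟩) = ev k j a := by
  unfold evLoc IsLocalization.Away.lift
  rw [Localization.mk_eq_mk', IsLocalization.lift_mk'_spec]
  simp [ev_X_self]

/-- the degree-zero part of the localization maps to `k[T]` -/
noncomputable def evAway (j : Fin 2) : Away 𝒜 (X j) →+* Polynomial k :=
  (evLoc k j).comp (algebraMap (Away 𝒜 (X j)) (Localization.Away (X j : MvPolynomial (Fin 2) k)))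

theorem evAway_mk (j : Fin 2) (m : ℕ) (a : MvPolynomial (Fin 2) k) (ha : a ∈ 𝒜 (m • 1)) :
    evAway k j (Away.mk 𝒜 (X_mem 1 k j) m a ha) = ev k j a := by
  unfold evAway
  rw [RingHom.comp_apply, HomogeneousLocalization.algebraMap_apply, Away.val_mk]
  exact evLoc_mk k j a m

theorem evLoc_algebraMap (j : Fin 2) (a : MvPolynomial (Fin 2) k) :
    evLoc k j (algebraMap _ _ a) = ev k j a := by
  unfold evLoc IsLocalization.Away.lift
  exact IsLocalization.lift_eq _ a

theorem evAway_fromZero (j : Fin 2) (a : 𝒜 0) :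
    evAway k j (fromZeroRingHom 𝒜 _ a) = ev k j a.1 := by
  unfold evAway
  rw [RingHom.comp_apply, HomogeneousLocalization.algebraMap_apply]
  have : (fromZeroRingHom 𝒜 (Submonoid.powers (X j : MvPolynomial (Fin 2) k)) a).val =
      algebraMap _ _ a.1 := by
    simp only [fromZeroRingHom, RingHom.coe_mk, MonoidHom.coe_mk, OneHom.coe_mk, val_mk]
    exact Localization.mk_one_eq_algebraMap _
  rw [this]
  exact evLoc_algebraMap k j a.1

/-- `k[T] → Away`, the algebraic form of `polyToD` -/
noncomputable def θ (j : Fin 2) : Polynomial k →+* Away 𝒜 (X j) :=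
  Polynomial.eval₂RingHom ((algebraMap (𝒜 0) (Away 𝒜 (X j))).comp (algebraMap k (𝒜 0)))
    (Away.mk 𝒜 (X_mem 1 k j) 1 (X (other j)) (X_mem' 1 k (other j)))

theorem polyToD_eq (j : Fin 2) :
    polyToD k j = (Proj.awayToSection 𝒜 (X j)).hom.comp (θ k j) := by
  refine Polynomial.ringHom_ext (fun r => ?_) ?_
  · simp only [polyToD, θ, RingHom.comp_apply, Polynomial.coe_eval₂RingHom, Polynomial.eval₂_C]
    exact (awayToSection_algebraMap 1 k j r).symm
  · simp only [polyToD, θ, RingHom.comp_apply, Polynomial.coe_eval₂RingHom, Polynomial.eval₂_X]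
    rfl

theorem evAway_comp_θ (j : Fin 2) : (evAway k j).comp (θ k j) = RingHom.id _ := by
  refine Polynomial.ringHom_ext (fun r => ?_) ?_
  · simp only [θ, RingHom.comp_apply, Polynomial.coe_eval₂RingHom, Polynomial.eval₂_C,
      RingHom.id_apply]
    rw [HomogeneousLocalization.algebraMap_eq, evAway_fromZero]
    exact ev_C k j r
  · simp only [θ, RingHom.comp_apply, Polynomial.coe_eval₂RingHom, Polynomial.eval₂_X,
      RingHom.id_apply]
    rw [evAway_mk, ev_X_other]

theorem polyToD_injective (j : Fin 2) : Function.Injective (polyToD k j) := by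
  rw [polyToD_eq]
  refine (awayToSection_bijective (X_mem 1 k j) Nat.one_pos).1.comp ?_
  intro a b hab
  have := congrArg (evAway k j) hab
  rwa [← RingHom.comp_apply, ← RingHom.comp_apply, evAway_comp_θ] at this

theorem polyToD_bijective (j : Fin 2) : Function.Bijective (polyToD k j) :=
  ⟨polyToD_injective k j, polyToD_surjective k j⟩

theorem κ_eq (j : Fin 2) : κ 1 k j = (polyToD k j).comp (Polynomial.C) := by
  ext r
  simp [polyToD]

theorem smooth_κ (j : Fin 2) : (κ 1 k j).Smooth := by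
  rw [κ_eq]
  refine RingHom.Smooth.comp ?_ (RingHom.Smooth.of_bijective (polyToD_bijective k j))
  have : Algebra.Smooth k (Polynomial k) := ⟨inferInstance, inferInstance⟩
  exact RingHom.smooth_algebraMap.mpr this

theorem iSup_D_eq_top : ⨆ j : Fin 2, (D 1 k j : (Proj 𝒜).Opens) = ⊤ := by
  rw [eq_top_iff]
  intro x _
  obtain ⟨j, hj⟩ := exists_mem_D 1 k x
  exact TopologicalSpace.Opens.mem_iSup.2 ⟨j, hj⟩

/-- **`P^1_k` is smooth over `k`.** -/
theorem smooth_toSpec : Smooth (CohB1.ProjSpace.toSpec 1 k) := by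
  have hU : ⨆ j : Fin 2, ((⟨D 1 k j, isAffineOpen_D 1 k j⟩ : (Proj 𝒜).affineOpens) :
      (Proj 𝒜).Opens) = ⊤ := iSup_D_eq_top k
  refine (HasRingHomProperty.iff_of_iSup_eq_top (P := @Smooth) (X := Proj 𝒜)
    (f := CohB1.ProjSpace.toSpec 1 k)
    (fun j : Fin 2 => (⟨D 1 k j, isAffineOpen_D 1 k j⟩ : (Proj 𝒜).affineOpens)) hU).mpr ?_
  intro j
  have h1 : ((CohB1.ProjSpace.toSpec 1 k).appLE ⊤ (D 1 k j) le_top).hom =
      (κ 1 k j).comp (Scheme.ΓSpecIso (CommRingCat.of k)).hom.hom := by
    ext r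
    have h2 : (Scheme.ΓSpecIso (CommRingCat.of k)).inv.hom
        ((Scheme.ΓSpecIso (CommRingCat.of k)).hom.hom r) = r := by
      rw [← CommRingCat.comp_apply, Iso.hom_inv_id]
      rfl
    exact (congrArg (fun t => ((Proj 𝒜).presheaf.map (homOfLE (le_top : D 1 k j ≤ ⊤)).op).hom
      ((Scheme.Hom.appTop (X := Proj 𝒜) (CohB1.ProjSpace.toSpec 1 k)).hom t)) h2).symm
  change (Scheme.Hom.appLE (CohB1.ProjSpace.toSpec 1 k) ⊤ (D 1 k j) le_top).hom.Smooth
  rw [h1]
  exact RingHom.Smooth.comp (RingHom.Smooth.of_bijective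
    ((ConcreteCategory.isIso_iff_bijective _).mp inferInstance)) (smooth_κ k j)

/-- a scheme over `k` that is isomorphic over `k` to `P^1_k` is smooth over `k` -/
theorem smooth_of_iso (X : Scheme.{u}) [X.Over (Spec (CommRingCat.of k))]
    (e : X ≅ CohB1.ProjSpace 1 k)
    (he : e.hom ≫ CohB1.ProjSpace.toSpec 1 k = X ↘ Spec (CommRingCat.of k)) :
    Smooth (X ↘ Spec (CommRingCat.of k)) := by
  haveI := smooth_toSpec k
  rw [← he]
  infer_instance

end Groth.Agent.Lib.P1Smooth54
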