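import Groth.Agent.Lib.P1Recog54
import Groth.Agent.Lib.P1Sections54
import Groth.Agent.Lib.P1Smooth54

/-!
# Recognition of `P^1` from genus zero and a degree one invertible module (helper54)

* `exists_iso_of_genus_zero_of_deg_one H k X hdim hg hL hdeg`: an integral proper curve over any field `k`
  with `Curv2.genus k X = 0` carrying an invertible module of degree one is isomorphic to `P^1_k` over `k`;
* `smooth_of_genus_zero_of_deg_one`: such a curve is smooth over `k`.
-/

set_option autoImplicit false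
universe u
open CategoryTheory CategoryTheory.Limits AlgebraicGeometry

namespace Groth.Agent.Lib.P1Recog54

lemma auxRR (a b c g : ℕ) (D : ℤ) (hrr : (a : ℤ) - b = D + c - g) (hD : D = 1) (hg : g = 0)
    (hc : 0 < c) : 2 ≤ a := by lia

theorem exists_iso_of_genus_zero_of_deg_one (H : Groth.Agent.Lib.ProperFinHyp.Hyp.{u})
    (k : Type u) [Field k] (X : Scheme.{u}) [X.Over (Spec (CommRingCat.of k))]
    [IsIntegral X] [IsProper (X ↘ (Spec (CommRingCat.of k)))] (hdim : topologicalKrullDim X = 1)
    (hg : Curv2.genus k X = 0)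
    {L : X.Modules} (hL : PicF.IsInvertible L) (hdeg : Curv2.deg k X L 1 = 1) :
    ∃ e : X ≅ CohB1.ProjSpace 1 k,
      e.hom ≫ CohB1.ProjSpace.toSpec 1 k = X ↘ (Spec (CommRingCat.of k)) := by
  haveI : L.IsQuasicoherent := (Groth.Agent.Lib.H90Invertible.isCoh_of_isInvertible hL).1
  have hrr := Groth.Agent.Lib.RiemannRoch54.riemann_roch k X hdim.le L
  have hpos := Groth.Agent.Lib.P1Sections54.finrank_H0_structure_pos k X H
  have h2 : 2 ≤ Module.finrank k (Coh.HH X L 0) := auxRR _ _ _ _ _ hrr hdeg hg hpos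
  obtain ⟨-, s, hs⟩ :=
    Groth.Agent.Lib.P1Sections54.exists_generatedBy_of_deg_eq_one H k X hdim.le hL hdeg h2
  exact exists_iso_projectiveLine k X hdim hL s hs hdeg

theorem smooth_of_genus_zero_of_deg_one (H : Groth.Agent.Lib.ProperFinHyp.Hyp.{u})
    (k : Type u) [Field k] (X : Scheme.{u}) [X.Over (Spec (CommRingCat.of k))]
    [IsIntegral X] [IsProper (X ↘ (Spec (CommRingCat.of k)))] (hdim : topologicalKrullDim X = 1)
    (hg : Curv2.genus k X = 0)
    {L : X.Modules} (hL : PicF.IsInvertible L) (hdeg : Curv2.deg k X L 1 = 1) :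
    Smooth (X ↘ (Spec (CommRingCat.of k))) := by
  obtain ⟨e, he⟩ := exists_iso_of_genus_zero_of_deg_one H k X hdim hg hL hdeg
  exact Groth.Agent.Lib.P1Smooth54.smooth_of_iso k X e he

end Groth.Agent.Lib.P1Recog54
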