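import Groth.Agent.Lib.P1Basic
import Groth.Agent.Lib.TwistEquiv
import Groth.Agent.Lib.HHSigmaFin
import Groth.Agent.Lib.AntitoneCount

/-!
# Splitting of vector bundles on the projective line: the numerical invariant (lead; campaign K8)

Namespace `Groth.Agent.Lib.P1Uniq`.  `𝐏 = CohB1.ProjSpace 1 k`, `𝒪(d) = Twist.twistProjSpace 1 k d`.

* `finrank_H0_twist` : `h⁰(O(t)) = (t + 1).toNat` for every integer `t`.
* `nonempty_tensor_sigma_iso` : `(∐ O(d i)) ⊗ O(m) ≅ ∐ O(d i + m)`.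
* `sum_toNat_eq_of_iso` : if `∐ O(d i) ≅ ∐ O(d' i)` then `∑ (d i + m).toNat = ∑ (d' i + m).toNat` for all `m`.
* `eq_of_iso` : antitone splitting types of isomorphic sums of twisting modules agree.
-/

set_option autoImplicit false
universe u
open CategoryTheory CategoryTheory.Limits AlgebraicGeometry Opposite TopologicalSpace

namespace Groth.Agent.Lib.P1Uniq

open Groth.Agent.Lib.P1Basic Groth.Agent.Lib.OXModTensor Groth.Agent.Lib.TwistEquiv

variable (k : Type u) [Field k]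

local notation "𝐏" => CohB1.ProjSpace 1 k
local notation "𝒪(" d ")" => Twist.twistProjSpace 1 k d

/-- `h⁰(P¹, O(t)) = max (t + 1) 0` -/
theorem finrank_H0_twist (t : ℤ) : Module.finrank k (Coh.HH 𝐏 𝒪(t) 0) = (t + 1).toNat := by
  obtain ⟨n, rfl | rfl⟩ := Int.eq_nat_or_neg t
  · rw [finrank_H0_twist_nat]
    omega
  · rcases Nat.eq_zero_or_pos n with rfl | hn
    · have := finrank_H0_twist_nat k 0
      simpa using this
    · have := subsingleton_H0_twist_neg k (-(n : ℤ)) (by omega)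
      rw [Module.finrank_zero_of_subsingleton]
      omega

/-- `(∐ O(d i)) ⊗ O(m) ≅ ∐ O(d i + m)` -/
theorem nonempty_tensor_sigma_iso {r : ℕ} (d : Fin r → ℤ) (m : ℤ) :
    Nonempty ((tensorRightFunctor 𝒪(m)).obj (∐ fun i : Fin r => 𝒪(d i)) ≅ ∐ fun i : Fin r => 𝒪(d i + m)) := by
  obtain ⟨e0⟩ := nonempty_twistZeroIso k
  have e' : CohB1.tensorMod 𝒪(m) 𝒪(-m) ≅ Coh.structureModule 𝐏 := mulIso k m (-m) 0 (by ring) ≪≫ e0
  have := isEquivalence_tensorRightFunctor e'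
  exact ⟨PreservesCoproduct.iso (tensorRightFunctor 𝒪(m)) (fun i : Fin r => 𝒪(d i)) ≪≫
    Sigma.mapIso (fun i => mulIso k (d i) m (d i + m) rfl)⟩

/-- the numerical invariant of a splitting type -/
theorem finrank_H0_tensor_sigma {r : ℕ} (d : Fin r → ℤ) (m : ℤ) :
    Module.finrank k (Coh.HH 𝐏 ((tensorRightFunctor 𝒪(m)).obj (∐ fun i : Fin r => 𝒪(d i))) 0) =
      ∑ i, (d i + m + 1).toNat := by
  obtain ⟨e⟩ := nonempty_tensor_sigma_iso k d m
  have hfin : ∀ i, Module.Finite k (Coh.HH 𝐏 𝒪(d i + m) 0) := fun i =>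
    properFinHyp.{u} k 𝐏 _ (isCoh_twist k (d i + m)) 0
  rw [(Groth.Agent.Lib.CohLES.mapEquivₗ k e 0).finrank_eq,
    (Groth.Agent.Lib.HHSigmaFin.finite_and_finrank_sigma k 0 (fun i : Fin r => 𝒪(d i + m)) hfin).2]
  exact Finset.sum_congr rfl fun i _ => finrank_H0_twist k (d i + m)

theorem sum_toNat_eq_of_iso {r : ℕ} (d d' : Fin r → ℤ)
    (e : (∐ fun i : Fin r => 𝒪(d i)) ≅ ∐ fun i : Fin r => 𝒪(d' i)) (m : ℤ) :
    ∑ i, (d i + m).toNat = ∑ i, (d' i + m).toNat := by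
  have h1 := finrank_H0_tensor_sigma k d (m - 1)
  have h2 := finrank_H0_tensor_sigma k d' (m - 1)
  rw [(Groth.Agent.Lib.CohLES.mapEquivₗ k ((tensorRightFunctor 𝒪(m - 1)).mapIso e) 0).finrank_eq, h2] at h1
  have e1 : ∀ x : ℤ, x + (m - 1) + 1 = x + m := fun x => by ring
  simp only [e1] at h1
  exact h1.symm

/-- **uniqueness of the splitting type** -/
theorem eq_of_iso {r : ℕ} (d d' : Fin r → ℤ) (hd : Antitone d) (hd' : Antitone d')
    (e : (∐ fun i : Fin r => 𝒪(d i)) ≅ ∐ fun i : Fin r => 𝒪(d' i)) : d = d' :=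
  Groth.Agent.Lib.AntitoneCount.antitone_eq_of_sum_toNat_eq d d' hd hd'
    (fun m => sum_toNat_eq_of_iso k d d' e m)

end Groth.Agent.Lib.P1Uniq
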