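import Groth.Agent.S2475

/-!
# Cofinite subfields attached to an absolute `p`-basis

For a field `k` of characteristic `p` with a `p`-basis `B` over `k^p`, and a finite subset `α` of
`B`, `cof α = k^p(B \ α)`. Then `k` is finite over `cof α`, the family is decreasing and directed,
and `⋂ cof α = k^p`.
-/

set_option autoImplicit false
universe u

namespace Groth.Agent.Lib.PBasisCofiniteH44

open EGA41

variable (p : ℕ) [hp : Fact p.Prime] (k : Type u) [Field k] [CharP k p]

/-- the subfield of `p`-th powers -/
abbrev kp : Subfield k := (frobenius k p).fieldRange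

omit hp in
variable {k} in
theorem mem_kp_iff [ExpChar k p] (x : k) : x ∈ (frobenius k p).fieldRange ↔ ∃ y, y ^ p = x := by
  rw [RingHom.mem_fieldRange]
  simp [frobenius_def]

variable {k}

theorem mem_pPower_iff (c : k) : c ∈ pPowerSubalgebra p (kp p k) k ↔ ∃ y, y ^ p = c := by
  constructor
  · intro hc
    induction hc using Algebra.adjoin_induction with
    | mem s hs => exact hs
    | algebraMap a => exact (mem_kp_iff p _).1 a.2
    | add s t _ _ hs ht =>
      obtain ⟨y, rfl⟩ := hs
      obtain ⟨z, rfl⟩ := ht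
      exact ⟨y + z, add_pow_char y z p⟩
    | mul s t _ _ hs ht =>
      obtain ⟨y, rfl⟩ := hs
      obtain ⟨z, rfl⟩ := ht
      exact ⟨y * z, mul_pow y z p⟩
  · rintro ⟨y, rfl⟩
    exact Algebra.subset_adjoin ⟨y, rfl⟩

/-- `k^p(B \ α)` -/
def cof (B : Set k) (α : Finset B) : Subfield k :=
  Subfield.closure (Set.range (fun y : k => y ^ p) ∪ Subtype.val '' {b : B | b ∉ α})

omit hp [CharP k p] in
theorem cof_anti (B : Set k) {α β : Finset B} (h : α ⊆ β) : cof p B β ≤ cof p B α := by
  apply Subfield.closure_mono
  apply Set.union_subset_union_right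
  apply Set.image_mono
  intro b hb hbα
  exact hb (h hbα)

omit hp [CharP k p] in
theorem pow_mem_cof (B : Set k) (α : Finset B) (y : k) : y ^ p ∈ cof p B α :=
  Subfield.subset_closure (Or.inl ⟨y, rfl⟩)

omit hp [CharP k p] in
theorem mem_cof_of_notMem (B : Set k) (α : Finset B) (b : B) (hb : b ∉ α) : (b : k) ∈ cof p B α :=
  Subfield.subset_closure (Or.inr ⟨b, hb, rfl⟩)

theorem finite_cof (B : Set k) (hB : IsPBasis p (kp p k) (Subtype.val : B → k)) (α : Finset B) :
    Module.Finite (cof p B α) k := by
  classical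
  let T : Set k := Subtype.val '' (α : Set B)
  have hTfin : Finite T := (α.finite_toSet.image _).to_subtype
  have hint : ∀ x ∈ T, IsIntegral (cof p B α) x := by
    rintro _ ⟨b, -, rfl⟩
    refine ⟨Polynomial.X ^ p - Polynomial.C (⟨(b : k) ^ p, pow_mem_cof p B α b⟩ : cof p B α),
      Polynomial.monic_X_pow_sub_C _ (Fact.out : p.Prime).ne_zero, ?_⟩
    simp only [Polynomial.eval₂_sub, Polynomial.eval₂_pow, Polynomial.eval₂_X, Polynomial.eval₂_C]
    exact sub_self _
  have hfd : FiniteDimensional (cof p B α) (IntermediateField.adjoin (cof p B α) T) :=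
    IntermediateField.finiteDimensional_adjoin hint
  have htop : IntermediateField.adjoin (cof p B α) T = ⊤ := by
    have hgen := (Groth.Agent.S2468.isPGenerating_iff_adjoin p (k := kp p k)
      (Subtype.val : B → k)).1 hB.2
    rw [_root_.eq_top_iff]
    suffices H : ∀ x : k, x ∈ Algebra.adjoin (pPowerSubalgebra p (kp p k) k)
        (Set.range (Subtype.val : B → k)) → x ∈ IntermediateField.adjoin (cof p B α) T by
      intro x _
      exact H x (by rw [hgen]; trivial)
    intro x hx
    induction hx using Algebra.adjoin_induction with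
    | mem s hs =>
      obtain ⟨b, rfl⟩ := hs
      by_cases hb : b ∈ α
      · exact IntermediateField.subset_adjoin _ _ ⟨b, hb, rfl⟩
      · exact IntermediateField.algebraMap_mem _
          (⟨(b : k), mem_cof_of_notMem p B α b hb⟩ : cof p B α)
    | algebraMap c =>
      obtain ⟨y, hy⟩ := (mem_pPower_iff p (c : k)).1 c.2
      have : algebraMap (pPowerSubalgebra p (kp p k) k) k c = y ^ p := hy.symm
      rw [this]
      exact IntermediateField.algebraMap_mem _ (⟨y ^ p, pow_mem_cof p B α y⟩ : cof p B α)
    | add s t _ _ hs ht => exact add_mem hs ht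
    | mul s t _ _ hs ht => exact mul_mem hs ht
  rw [htop] at hfd
  exact Module.Finite.equiv (IntermediateField.topEquiv (F := cof p B α) (E := k)).toLinearEquiv

theorem iInf_cof (B : Set k) (hB : IsPBasis p (kp p k) (Subtype.val : B → k)) (x : k)
    (hx : ∀ α : Finset B, x ∈ cof p B α) : ∃ y, y ^ p = x := by
  classical
  obtain ⟨bΩ, hbΩ⟩ := Groth.Agent.S2466.result p (Subtype.val : B → k) hB
  set α : Finset B := (bΩ.repr (KaehlerDifferential.D (kp p k) k x)).support with hα
  have hpk : (p : k) = 0 := CharP.cast_eq_zero k p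
  -- differentials of elements of `cof α` lie in the span of the `d b`, `b ∉ α`
  have key : ∀ y ∈ cof p B α, KaehlerDifferential.D (kp p k) k y ∈
      Submodule.span k (bΩ '' {b : B | b ∉ α}) := by
    intro y hy
    induction hy using Subfield.closure_induction with
    | mem y hy =>
      rcases hy with ⟨z, rfl⟩ | ⟨b, hb, rfl⟩
      · rw [Derivation.leibniz_pow, ← Nat.cast_smul_eq_nsmul k, hpk, zero_smul]
        exact Submodule.zero_mem _
      · rw [← hbΩ]
        exact Submodule.subset_span ⟨b, hb, rfl⟩
    | one =>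
      rw [Derivation.map_one_eq_zero]
      exact Submodule.zero_mem _
    | add y z _ _ hy hz =>
      rw [map_add]
      exact Submodule.add_mem _ hy hz
    | neg y _ hy =>
      rw [map_neg]
      exact Submodule.neg_mem _ hy
    | inv y _ hy =>
      rw [Derivation.leibniz_inv]
      exact Submodule.smul_mem _ _ hy
    | mul y z _ _ hy hz =>
      rw [Derivation.leibniz]
      exact Submodule.add_mem _ (Submodule.smul_mem _ _ hz) (Submodule.smul_mem _ _ hy)
  have h1 := key x (hx α)
  rw [Module.Basis.mem_span_image] at h1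
  have h2 : α = ∅ := by
    rw [Finset.eq_empty_iff_forall_notMem]
    intro b hb
    exact (h1 (by exact_mod_cast hb) : b ∉ α) hb
  have h3 : KaehlerDifferential.D (kp p k) k x = 0 := by
    rw [hα, Finsupp.support_eq_empty] at h2
    exact (LinearEquiv.map_eq_zero_iff _).1 h2
  have h4 := Groth.Agent.S2475.mem_of_D_eq_zero p x h3
  have hle : IntermediateField.adjoin (kp p k) (Set.range fun y : k => y ^ p) ≤ ⊥ := by
    rw [IntermediateField.adjoin_le_iff]
    rintro _ ⟨y, rfl⟩
    exact IntermediateField.algebraMap_mem _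
      (⟨y ^ p, (mem_kp_iff p _).2 ⟨y, rfl⟩⟩ : kp p k)
  obtain ⟨c, hc⟩ := IntermediateField.mem_bot.1 (hle h4)
  obtain ⟨y, hy⟩ := (mem_kp_iff p _).1 c.2
  exact ⟨y, by rw [hy, ← hc]; rfl⟩

end Groth.Agent.Lib.PBasisCofiniteH44
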