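import Groth.Agent.Lib.PBasisH44

/-!
# helper44: p-independence in fields of characteristic p (EGA 0_IV 21.4)

`k ⊆ K` fields of characteristic `p`, `C = k[K^p]`.
* subalgebras of `K` over `C` are closed under inverses;
* if `t ∉ M` (`M` a `C`-subalgebra) then `1, t, …, t^(p-1)` are linearly independent over `M`;
* `IndepOn x J`: the reduced monomials in the `x j`, `j ∈ J`, are linearly independent over `C`;
  extension lemma, closure criterion, finitary character;
* existence of `p`-bases between a `p`-free set and a `p`-generating set.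
-/

set_option autoImplicit false
universe u

namespace Groth.Agent.Lib.PBasisFieldH44

open EGA41 Groth.Agent.Lib.PBasisH44 Polynomial

section Basic

variable (p : ℕ) [hp : Fact p.Prime] {k K : Type u} [Field k] [Field K] [Algebra k K] [CharP K p]

omit [CharP K p] in
/-- `C`-subalgebras of `K` are closed under inverses. -/
theorem inv_mem (M : Subalgebra (pPowerSubalgebra p k K) K) {s : K} (hs : s ∈ M) : s⁻¹ ∈ M := by
  rcases eq_or_ne s 0 with rfl | hs0
  · simp
  have h1 : (s⁻¹) ^ p ∈ M :=
    M.algebraMap_mem ⟨(s⁻¹) ^ p, pow_mem p (s⁻¹)⟩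
  have haux : ∀ m : ℕ, s⁻¹ = s ^ m * (s⁻¹) ^ (m + 1) := by
    intro m
    rw [pow_succ (s⁻¹), ← mul_assoc, ← mul_pow, mul_inv_cancel₀ hs0, one_pow, one_mul]
  have h2 : s⁻¹ = s ^ (p - 1) * (s⁻¹) ^ p := by
    have := haux (p - 1)
    rwa [Nat.sub_add_cancel hp.out.one_le] at this
  rw [h2]
  exact M.mul_mem (M.pow_mem hs _) h1

/-- the subfield attached to a `C`-subalgebra -/
def toSubfield (M : Subalgebra (pPowerSubalgebra p k K) K) : Subfield K :=
  { M.toSubring with inv_mem' := fun _ hs => inv_mem p M hs }

omit [CharP K p] in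
theorem mem_toSubfield (M : Subalgebra (pPowerSubalgebra p k K) K) (s : K) :
    s ∈ toSubfield p M ↔ s ∈ M := Iff.rfl

/-- if `t ∉ M` then `1, t, …, t^(p-1)` are linearly independent over `M` -/
theorem linearIndependent_pow_of_notMem (M : Subalgebra (pPowerSubalgebra p k K) K) (t : K)
    (ht : t ∉ M) : LinearIndependent M (fun j : Fin p => t ^ (j : ℕ)) := by
  classical
  let F : Subfield K := toSubfield p M
  have htp : t ^ p ∈ F := M.algebraMap_mem ⟨t ^ p, pow_mem p t⟩
  let a : F := ⟨t ^ p, htp⟩
  have ha : ∀ b : F, b ^ p ≠ a := by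
    intro b hb
    have h1 : (b : K) ^ p = t ^ p := congrArg Subtype.val hb
    have h2 : ((b : K) - t) ^ p = 0 := by rw [sub_pow_char, h1, sub_self]
    have h3 : (b : K) = t := sub_eq_zero.1 (pow_eq_zero_iff hp.out.ne_zero |>.1 h2)
    exact ht (h3 ▸ b.2)
  have hirr : Irreducible (X ^ p - C a : F[X]) := X_pow_sub_C_irreducible_of_prime hp.out ha
  have hmonic : (X ^ p - C a : F[X]).Monic := monic_X_pow_sub_C a hp.out.ne_zero
  have heval : aeval t (X ^ p - C a : F[X]) = 0 := by
    simp only [map_sub, map_pow, aeval_X, aeval_C]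
    exact sub_eq_zero.2 rfl
  have hmin : minpoly F t = X ^ p - C a := (minpoly.eq_of_irreducible_of_monic hirr heval hmonic).symm
  have hdeg : (minpoly F t).natDegree = p := by rw [hmin, natDegree_X_pow_sub_C]
  have hF := linearIndependent_pow (K := F) t
  refine Fintype.linearIndependent_iff.2 fun g hg j => ?_
  have hF' := Fintype.linearIndependent_iff.1 hF
    (fun i => (⟨(g (Fin.cast hdeg i) : K), (g (Fin.cast hdeg i)).2⟩ : F)) ?_ (Fin.cast hdeg.symm j)
  · have : (g j : K) = 0 := by
      have := congrArg Subtype.val hF'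
      simpa using this
    exact Subtype.ext this
  · rw [← hg]
    refine Fintype.sum_equiv (finCongr hdeg) _ _ fun i => ?_
    rfl

end Basic


section Gen

variable (p : ℕ) [hp : Fact p.Prime] {A B : Type u} [CommRing A] [CommRing B] [Algebra A B]
  {ι : Type u} (x : ι → B)

/-- reduced exponent vectors supported in `J` -/
def IdxOn {ι : Type u} (J : Set ι) : Type u :=
  {e : ι →₀ ℕ // (↑e.support ⊆ J) ∧ ∀ i, e i < p}

variable (A) in
/-- the reduced monomials in the `x j`, `j ∈ J`, are linearly independent over `A[B^p]` -/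
def IndepOn (J : Set ι) : Prop :=
  LinearIndependent (pPowerSubalgebra p A B) (fun e : IdxOn p J => mon x e.1)

omit hp in
theorem indepOn_univ_iff : IndepOn p A x Set.univ ↔ IsPIndependent p A x := by
  constructor
  · intro h
    exact h.comp (fun e : {e : ι →₀ ℕ // ∀ i, e i < p} => (⟨e.1, Set.subset_univ _, e.2⟩ : IdxOn p Set.univ))
      (fun e e' hee' => Subtype.ext (congrArg (fun t : IdxOn p Set.univ => t.1) hee'))
  · intro h
    exact h.comp (fun e : IdxOn p Set.univ => (⟨e.1, e.2.2⟩ : {e : ι →₀ ℕ // ∀ i, e i < p}))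
      (fun e e' hee' => Subtype.ext (congrArg (fun t : {e : ι →₀ ℕ // ∀ i, e i < p} => t.1) hee'))

omit hp in
theorem IndepOn.mono {J J' : Set ι} (h : IndepOn p A x J) (hJ : J' ⊆ J) : IndepOn p A x J' :=
  h.comp (fun e : IdxOn p J' => (⟨e.1, e.2.1.trans hJ, e.2.2⟩ : IdxOn p J))
    (fun _ _ hee' => Subtype.ext (congrArg (fun t : IdxOn p J => t.1) hee'))

omit hp in
/-- `p`-independence is of finite character -/
theorem indepOn_of_finite {J : Set ι}
    (h : ∀ J' : Set ι, J'.Finite → J' ⊆ J → IndepOn p A x J') : IndepOn p A x J := by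
  classical
  refine linearIndependent_iff_finset_linearIndependent.2 fun s => ?_
  let J' : Set ι := ⋃ e ∈ s, ((e : IdxOn p J).1.support : Set ι)
  have hfin : J'.Finite := s.finite_toSet.biUnion fun e _ => e.1.support.finite_toSet
  have hsub : J' ⊆ J := Set.iUnion₂_subset fun e _ => e.2.1
  exact (h J' hfin hsub).comp
    (fun e : s => (⟨e.1.1, Set.subset_biUnion_of_mem (u := fun e : IdxOn p J => (e.1.support : Set ι))
      e.2, e.1.2.2⟩ : IdxOn p J'))
    (fun e e' hee' => Subtype.ext (Subtype.ext (congrArg (fun t : IdxOn p J' => t.1) hee')))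

omit hp in
theorem mon_mem_closure {J : Set ι} (n : ι →₀ ℕ) (hn : (n.support : Set ι) ⊆ J) :
    mon x n ∈ Submonoid.closure (x '' J) := by
  unfold mon
  exact Submonoid.prod_mem (Submonoid.closure (x '' J)) fun i hi =>
    Submonoid.pow_mem _ (Submonoid.subset_closure
      (Set.mem_image_of_mem x (hn (Finset.mem_coe.2 hi)))) _

omit hp in
theorem exists_mon_of_mem_closure {J : Set ι} {m : B} (hm : m ∈ Submonoid.closure (x '' J)) :
    ∃ n : ι →₀ ℕ, (n.support : Set ι) ⊆ J ∧ m = mon x n := by
  classical
  induction hm using Submonoid.closure_induction with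
  | mem m hm =>
    obtain ⟨j, hj, rfl⟩ := hm
    refine ⟨Finsupp.single j 1, ?_, by rw [mon_single, pow_one]⟩
    intro i hi
    have := Finsupp.support_single_subset hi
    rw [Finset.mem_singleton] at this
    exact this ▸ hj
  | one => exact ⟨0, by simp, (mon_zero x).symm⟩
  | mul a b _ _ ha hb =>
    obtain ⟨n, hn, rfl⟩ := ha
    obtain ⟨n', hn', rfl⟩ := hb
    refine ⟨n + n', ?_, (mon_add x n n').symm⟩
    intro i hi
    rcases Finset.mem_union.1 (Finsupp.support_add hi) with h | h
    · exact hn h
    · exact hn' h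

omit hp in
theorem red_support_subset (n : ι →₀ ℕ) : (red p n).support ⊆ n.support :=
  Finsupp.support_mapRange

omit hp in
/-- every monomial is an `A[B^p]`-multiple of its reduction -/
theorem mon_eq_smul_red (n : ι →₀ ℕ) :
    mon x n = (mon (fun i => (⟨x i ^ p, pow_mem p (x i)⟩ : pPowerSubalgebra p A B)) (quo p n)) •
      mon x (red p n) := by
  rw [Algebra.smul_def, mon_eq_quo_mul_red p x n]
  congr 1
  have := map_mon (algebraMap (pPowerSubalgebra p A B) B)
    (fun i => (⟨x i ^ p, pow_mem p (x i)⟩ : pPowerSubalgebra p A B)) (quo p n)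
  rw [this]
  rfl

/-- the span of the reduced monomials supported in `J` is the subalgebra generated by the `x j` -/
theorem span_eq_adjoin (J : Set ι) :
    Submodule.span (pPowerSubalgebra p A B) (Set.range fun e : IdxOn p J => mon x e.1) =
      Subalgebra.toSubmodule (Algebra.adjoin (pPowerSubalgebra p A B) (x '' J)) := by
  rw [Algebra.adjoin_eq_span]
  apply le_antisymm
  · rw [Submodule.span_le]
    rintro _ ⟨e, rfl⟩
    exact Submodule.subset_span (mon_mem_closure x e.1 e.2.1)
  · rw [Submodule.span_le]
    intro m hm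
    obtain ⟨n, hn, rfl⟩ := exists_mon_of_mem_closure x hm
    rw [mon_eq_smul_red (A := A) p x n]
    refine Submodule.smul_mem _ _ (Submodule.subset_span ?_)
    exact ⟨⟨red p n, fun i hi => hn (red_support_subset p n hi), red_lt p hp.out.pos n⟩, rfl⟩

end Gen


section Field

variable (p : ℕ) [hp : Fact p.Prime] {k K : Type u} [Field k] [Field K] [Algebra k K] [CharP K p]
  {ι : Type u} (x : ι → K)

omit [CharP K p] in
theorem mon_eq_erase_mul [DecidableEq ι] (a : ι) (e : ι →₀ ℕ) :
    mon x e = mon x (e.erase a) * x a ^ e a := by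
  conv_lhs => rw [← Finsupp.single_add_erase a e, mon_add, mon_single, mul_comm]

/-- extension lemma: adjoining an element outside the generated subfield keeps `p`-independence -/
theorem indepOn_insert {J : Set ι} {a : ι} (h : IndepOn p k x J) (haJ : a ∉ J)
    (hxa : x a ∉ Algebra.adjoin (pPowerSubalgebra p k K) (x '' J)) :
    IndepOn p k x (insert a J) := by
  classical
  let M := Algebra.adjoin (pPowerSubalgebra p k K) (x '' J)
  have hmem : ∀ e : IdxOn p J, mon x e.1 ∈ M := fun e => by
    have : mon x e.1 ∈ Subalgebra.toSubmodule M := by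
      rw [← span_eq_adjoin]
      exact Submodule.subset_span ⟨e, rfl⟩
    exact this
  let b : IdxOn p J → M := fun e => ⟨mon x e.1, hmem e⟩
  have hb : LinearIndependent (pPowerSubalgebra p k K) b :=
    LinearIndependent.of_comp (M.val.toLinearMap) h
  have hc := linearIndependent_pow_of_notMem p M (x a) hxa
  have hbc := linearIndependent_smul hb hc
  have hsupp : ∀ e : IdxOn p (insert a J), ((e.1.erase a).support : Set ι) ⊆ J := by
    intro e i hi
    rw [Finsupp.support_erase, Finset.coe_erase] at hi
    rcases e.2.1 hi.1 with h1 | h1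
    · exact absurd h1 hi.2
    · exact h1
  have hlt : ∀ (e : IdxOn p (insert a J)) (i : ι), (e.1.erase a) i < p := by
    intro e i
    by_cases hia : i = a
    · subst hia
      rw [Finsupp.erase_same]
      exact hp.out.pos
    · rw [Finsupp.erase_ne hia]
      exact e.2.2 i
  let φ : IdxOn p (insert a J) → IdxOn p J × Fin p :=
    fun e => (⟨e.1.erase a, hsupp e, hlt e⟩, ⟨e.1 a, e.2.2 a⟩)
  have hφ : Function.Injective φ := by
    intro e e' hee'
    have h1 : e.1.erase a = e'.1.erase a :=
      congrArg (fun t : IdxOn p J × Fin p => t.1.1) hee'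
    have h2 : e.1 a = e'.1 a := congrArg (fun t : IdxOn p J × Fin p => (t.2 : ℕ)) hee'
    apply Subtype.ext
    rw [← Finsupp.single_add_erase a e.1, ← Finsupp.single_add_erase a e'.1, h1, h2]
  have hfam : (fun e : IdxOn p (insert a J) => mon x e.1) =
      (fun q : IdxOn p J × Fin p => b q.1 • x a ^ (q.2 : ℕ)) ∘ φ := by
    funext e
    exact mon_eq_erase_mul x a e.1
  unfold IndepOn
  rw [hfam]
  exact hbc.comp φ hφ

omit [CharP K p] in
/-- in a `p`-independent family no member lies in the subfield generated by the others -/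
theorem IndepOn.notMem_adjoin {J : Set ι} {a : ι} (h : IndepOn p k x J) (haJ : a ∈ J) :
    x a ∉ Algebra.adjoin (pPowerSubalgebra p k K) (x '' (J \ {a})) := by
  classical
  intro hmem
  have hmem' : x a ∈ Submodule.span (pPowerSubalgebra p k K)
      (Set.range fun e : IdxOn p (J \ {a}) => mon x e.1) := by
    rw [span_eq_adjoin]
    exact hmem
  have h1lt : ∀ i, (Finsupp.single a 1 : ι →₀ ℕ) i < p := by
    intro i
    rw [Finsupp.single_apply]
    split_ifs
    · exact hp.out.one_lt
    · exact hp.out.pos
  have hsup : ((Finsupp.single a 1 : ι →₀ ℕ).support : Set ι) ⊆ J := by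
    intro i hi
    have := Finsupp.support_single_subset hi
    rw [Finset.mem_singleton] at this
    exact this ▸ haJ
  let i₀ : IdxOn p J := ⟨Finsupp.single a 1, hsup, h1lt⟩
  let s : Set (IdxOn p J) := {e | e.1 a = 0}
  have hi₀ : i₀ ∉ s := by
    change ¬ ((Finsupp.single a 1 : ι →₀ ℕ) a = 0)
    simp
  have := h.notMem_span_image hi₀
  apply this
  have hx0 : mon x i₀.1 = x a := by
    change mon x (Finsupp.single a 1) = x a
    rw [mon_single, pow_one]
  rw [hx0]
  refine Submodule.span_mono ?_ hmem'
  rintro _ ⟨e', rfl⟩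
  refine ⟨⟨e'.1, e'.2.1.trans Set.sdiff_subset, e'.2.2⟩, ?_, rfl⟩
  change e'.1 a = 0
  rw [← Finsupp.notMem_support_iff]
  intro ha
  exact (e'.2.1 ha).2 rfl

omit [CharP K p] hp in
theorem indepOn_empty : IndepOn p k x ∅ := by
  classical
  have hzero : ∀ e : IdxOn p (∅ : Set ι), e.1 = 0 := by
    intro e
    rw [← Finsupp.support_eq_empty]
    exact Finset.coe_eq_empty.1 (Set.subset_empty_iff.1 e.2.1)
  have hsub : ∀ e e' : IdxOn p (∅ : Set ι), e = e' :=
    fun e e' => Subtype.ext ((hzero e).trans (hzero e').symm)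
  rw [IndepOn, linearIndependent_iff']
  intro s g hsum e he
  have hs : s = {e} := by
    ext e'
    simp [hsub e' e, he]
  rw [hs, Finset.sum_singleton, hzero e, mon_zero, Algebra.smul_def, mul_one] at hsum
  exact Subtype.ext hsum

/-- criterion for `p`-independence -/
theorem indepOn_of_forall_notMem {J : Set ι}
    (h : ∀ a ∈ J, x a ∉ Algebra.adjoin (pPowerSubalgebra p k K) (x '' (J \ {a}))) :
    IndepOn p k x J := by
  classical
  apply indepOn_of_finite
  intro J' hfin hsub
  have h' : ∀ a ∈ J', x a ∉ Algebra.adjoin (pPowerSubalgebra p k K) (x '' (J' \ {a})) :=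
    fun a ha hmem => h a (hsub ha)
      (Algebra.adjoin_mono (Set.image_mono (Set.sdiff_subset_sdiff_left hsub)) hmem)
  clear h hsub
  induction J', hfin using Set.Finite.induction_on with
  | empty => exact indepOn_empty p x
  | @insert a J'' haJ _ ih =>
    refine indepOn_insert p x (ih ?_) haJ ?_
    · intro b hb hmem
      refine h' b (Set.mem_insert_of_mem a hb) (Algebra.adjoin_mono (Set.image_mono ?_) hmem)
      exact Set.sdiff_subset_sdiff_left (Set.subset_insert a J'')
    · have := h' a (Set.mem_insert a J'')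
      rwa [Set.insert_sdiff_self_of_notMem haJ] at this

end Field


section Compare

variable (p : ℕ) [hp : Fact p.Prime] {k K : Type u} [Field k] [Field K] [Algebra k K] [CharP K p]

omit [CharP K p] in
/-- the subfield generated over `k` by `K^p` and a set `T` is the `k[K^p]`-subalgebra generated
by `T` -/
theorem mem_intermediateField_adjoin_iff (T : Set K) (t : K) :
    t ∈ IntermediateField.adjoin k (Set.range (fun y : K => y ^ p) ∪ T) ↔
      t ∈ Algebra.adjoin (pPowerSubalgebra p k K) T := by
  constructor
  · intro ht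
    let M := Algebra.adjoin (pPowerSubalgebra p k K) T
    let F' : IntermediateField k K :=
      { (M.restrictScalars k) with inv_mem' := fun _ hs => inv_mem p M hs }
    have hle : IntermediateField.adjoin k (Set.range (fun y : K => y ^ p) ∪ T) ≤ F' := by
      rw [IntermediateField.adjoin_le_iff]
      rintro s (⟨y, rfl⟩ | hs)
      · exact M.algebraMap_mem ⟨y ^ p, pow_mem p y⟩
      · exact Algebra.subset_adjoin hs
    exact hle ht
  · intro ht
    have hC : ∀ c : K, c ∈ pPowerSubalgebra p k K →
        c ∈ IntermediateField.adjoin k (Set.range (fun y : K => y ^ p) ∪ T) := by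
      intro c hc
      induction hc using Algebra.adjoin_induction with
      | mem s hs => exact IntermediateField.subset_adjoin k _ (Or.inl hs)
      | algebraMap a => exact IntermediateField.algebraMap_mem _ a
      | add s t _ _ hs ht => exact add_mem hs ht
      | mul s t _ _ hs ht => exact mul_mem hs ht
    induction ht using Algebra.adjoin_induction with
    | mem s hs => exact IntermediateField.subset_adjoin k _ (Or.inr hs)
    | algebraMap c => exact hC c.1 c.2
    | add s t _ _ hs ht => exact add_mem hs ht
    | mul s t _ _ hs ht => exact mul_mem hs ht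

end Compare

end Groth.Agent.Lib.PBasisFieldH44
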