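import Groth.Agent.Lib.DRingPCoh21B
import Groth.Agent.S5599
import Groth.Agent.S5603
import Mathlib.Algebra.Homology.DerivedCategory.SingleTriangle
import Mathlib.Algebra.Homology.DerivedCategory.FullyFaithful
import Mathlib.Algebra.Homology.DerivedCategory.TStructure

/-!
# `n`-finite presentation versus pseudo-coherence of `M[0]` (SGA 6 I, punctual case) (helper21)

For an abelian category `C` and a class `P` (quasi-stable under kernels, quasi-liftable):

* `isNPC_single_zero_iff`: `M[0]` is `0`-pseudo-coherent iff `M` is of finite type.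
* `isNPC_single_iff_of_shortExact`: for `0 → N → E → M → 0` with `E ∈ P`: `M[0]` is `k`-pseudo-coherent iff
  `N[0]` is `(k+1)`-pseudo-coherent.
* `FPn P n M`: `M` has an `n`-presentation (recursive form), `isNPC_single_iff_FPn`: `M[0]` is
  `(-n)`-pseudo-coherent iff `FPn P n M`.
-/

set_option autoImplicit false
universe w v u

open CategoryTheory CategoryTheory.Limits

namespace Groth.Agent.Lib.PCohFPn21

variable {C : Type u} [Category.{v} C] [Abelian C] (P : ObjectProperty C)

/-- `n`-finite presentation, recursive form -/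
def FPn : ℕ → C → Prop
  | 0, M => PCoh.IsOfFiniteType P M
  | n + 1, M => ∃ (E : C) (π : E ⟶ M), P E ∧ Epi π ∧ FPn n (kernel π)

variable [HasDerivedCategory.{w} C] [P.IsClosedUnderIsomorphisms] [P.ContainsZero]
  (hsum : ∀ X Y : C, P X → P Y → P (X ⨯ Y))
  (hqs : PCoh.IsQuasiStableUnderKernels P) (hql : PCoh.IsQuasiLiftable P)

/-- the inline form of `n`-pseudo-coherence -/
abbrev NPC (n : ℤ) (F : DerivedCategory C) : Prop :=
  ∃ E : CochainComplex C ℤ, PCoh.IsStrictPC P n E ∧ Nonempty (DerivedCategory.Q.obj E ≅ F)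

omit [P.IsClosedUnderIsomorphisms] [P.ContainsZero] in
lemma npc_of_le {n m : ℤ} (h : n ≤ m) {F : DerivedCategory C} (hF : NPC P n F) : NPC P m F := by
  obtain ⟨E, hE, e⟩ := hF
  exact ⟨E, ⟨hE.1, fun i hi => hE.2 i (by lia)⟩, e⟩

lemma npc_single_of_prop (X : C) (hX : P X) (n : ℤ) :
    NPC P n ((DerivedCategory.singleFunctor C 0).obj X) :=
  ⟨(HomologicalComplex.single C (ComplexShape.up ℤ) 0).obj X,
    Groth.Agent.Lib.DRingPCoh21.isStrictPC_single P X hX 0 n, ⟨Iso.refl _⟩⟩

include hsum hqs hql

theorem isNPC_single_zero_iff (M : C) :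
    NPC P 0 ((DerivedCategory.singleFunctor C 0).obj M) ↔ PCoh.IsOfFiniteType P M := by
  have hac : ∀ i : ℤ, 0 < i → IsZero ((DerivedCategory.homologyFunctor C i).obj
      ((DerivedCategory.singleFunctor C 0).obj M)) := fun i hi =>
    DerivedCategory.isZero_of_isLE ((DerivedCategory.singleFunctor C 0).obj M) 0 i hi
  refine (Groth.Agent.S5603.result P hsum hqs hql 0 _ hac).trans ?_
  have e : (DerivedCategory.homologyFunctor C 0).obj ((DerivedCategory.singleFunctor C 0).obj M) ≅
      M := (DerivedCategory.singleFunctorCompHomologyFunctorIso C 0).app M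
  constructor
  · rintro ⟨E, π, hE, hπ⟩
    exact ⟨E, π ≫ e.hom, hE, inferInstance⟩
  · rintro ⟨E, π, hE, hπ⟩
    exact ⟨E, π ≫ e.inv, hE, inferInstance⟩

theorem isNPC_single_iff_of_shortExact (S : ShortComplex C) (hS : S.ShortExact) (hE : P S.X₂)
    (k : ℤ) :
    NPC P k ((DerivedCategory.singleFunctor C 0).obj S.X₃) ↔
      NPC P (k + 1) ((DerivedCategory.singleFunctor C 0).obj S.X₁) := by
  have h23 := Groth.Agent.S5599.result P hsum hqs hql k hS.singleTriangle
    hS.singleTriangle_distinguished
  constructor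
  · intro h
    exact h23.2.2 (npc_single_of_prop P S.X₂ hE (k + 1)) h
  · intro h
    exact h23.1 h (npc_single_of_prop P S.X₂ hE k)

theorem isNPC_single_iff_FPn (n : ℕ) (M : C) :
    NPC P (-(n : ℤ)) ((DerivedCategory.singleFunctor C 0).obj M) ↔ FPn P n M := by
  induction n generalizing M with
  | zero =>
    have h0 : -((0 : ℕ) : ℤ) = 0 := by simp
    rw [h0]
    exact isNPC_single_zero_iff P hsum hqs hql M
  | succ n ih =>
    have hn : -((n + 1 : ℕ) : ℤ) + 1 = -(n : ℤ) := by push_cast; ring
    constructor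
    · intro h
      have h0 : NPC P 0 ((DerivedCategory.singleFunctor C 0).obj M) :=
        npc_of_le P (by push_cast; lia) h
      obtain ⟨E, π, hE, hπ⟩ := (isNPC_single_zero_iff P hsum hqs hql M).1 h0
      let S : ShortComplex C := ShortComplex.mk (kernel.ι π) π (kernel.condition π)
      have hS : S.ShortExact :=
        { exact := ShortComplex.exact_of_f_is_kernel _ (kernelIsKernel π)
          mono_f := by dsimp [S]; infer_instance
          epi_g := hπ }
      have h1 := (isNPC_single_iff_of_shortExact P hsum hqs hql S hS hE _).1 h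
      rw [hn] at h1
      exact ⟨E, π, hE, hπ, (ih (kernel π)).1 h1⟩
    · rintro ⟨E, π, hE, hπ, hK⟩
      let S : ShortComplex C := ShortComplex.mk (kernel.ι π) π (kernel.condition π)
      have hS : S.ShortExact :=
        { exact := ShortComplex.exact_of_f_is_kernel _ (kernelIsKernel π)
          mono_f := by dsimp [S]; infer_instance
          epi_g := hπ }
      refine (isNPC_single_iff_of_shortExact P hsum hqs hql S hS hE _).2 ?_
      rw [hn]
      exact (ih (kernel π)).2 hK

end Groth.Agent.Lib.PCohFPn21
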