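import Groth.Agent.Lib.PerfectD
import Groth.Agent.Lib.CyclesRetract
import Groth.Agent.Lib.FlatBaseChangeD
import Groth.Agent.Lib.LocalFlex

/-!
# Pseudo-coherent objects of `D(O_X)`: local representation, top cohomology
-/

set_option autoImplicit false
universe u

open CategoryTheory CategoryTheory.Limits AlgebraicGeometry

namespace Groth.Agent.Lib.PseudoCohD

attribute [local instance] HasDerivedCategory.standard

open Groth.Agent.Lib.RestrictExact Groth.Agent.Lib.FinLocFree Groth.Agent.Lib.PerfectLocal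
  Groth.Agent.Lib.PerfectD Groth.Agent.Lib.FlatBaseChangeD

variable {X : Scheme.{u}}

/-- `K` receives, after restriction along the open immersion `j`, a map from a strictly perfect
complex which is an isomorphism on `H^i` for `i > m` and an epimorphism on `H^m`. -/
def PCOn (m : ℤ) (K : DCoh.D X) {Y : Scheme.{u}} (j : Y ⟶ X) [IsOpenImmersion j] : Prop :=
  ∃ (E : CochainComplex Y.Modules ℤ) (α : DerivedCategory.Q.obj E ⟶ (DCoh.restrictD j).obj K),
    DCoh.IsStrictlyPerfect E ∧
    (∀ i : ℤ, m < i → IsIso ((DerivedCategory.homologyFunctor _ i).map α)) ∧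
    Epi ((DerivedCategory.homologyFunctor _ m).map α)

theorem isPseudoCoherentD_iff_pcOn (m : ℤ) (K : DCoh.D X) :
    DCoh.IsPseudoCoherentD m K ↔ ∀ x : X, ∃ V : X.Opens, x ∈ V ∧ PCOn m K V.ι := by
  constructor
  · intro hK x
    obtain ⟨V, hxV, hV⟩ := hK x
    refine ⟨V, hxV, ?_⟩
    let F₀ := DerivedCategory.Q.objPreimage K
    let iF₀ : DerivedCategory.Q.obj F₀ ≅ K := DerivedCategory.Q.objObjPreimageIso K
    obtain ⟨E, α₀, hE, hiso, hepi⟩ := hV F₀ ⟨iF₀⟩
    let β : DerivedCategory.Q.obj ((DCoh.restrictCx V).obj F₀) ≅ (DCoh.restrictD V.ι).obj K :=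
      ((Scheme.Modules.restrictFunctor V.ι).mapDerivedCategoryFactors.app F₀).symm ≪≫
        (DCoh.restrictD V.ι).mapIso iF₀
    refine ⟨E, α₀ ≫ β.hom, hE, fun i hi => ?_, ?_⟩
    · have := hiso i hi
      rw [Functor.map_comp]
      infer_instance
    · rw [Functor.map_comp]
      exact epi_comp _ _
  · intro h x
    obtain ⟨V, hxV, E, α, hE, hiso, hepi⟩ := h x
    refine ⟨V, hxV, fun F ⟨iF⟩ => ?_⟩
    let β : (DCoh.restrictD V.ι).obj K ≅ DerivedCategory.Q.obj ((DCoh.restrictCx V).obj F) :=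
      (DCoh.restrictD V.ι).mapIso iF.symm ≪≫
        (Scheme.Modules.restrictFunctor V.ι).mapDerivedCategoryFactors.app F
    refine ⟨E, α ≫ β.hom, hE, fun i hi => ?_, ?_⟩
    · have := hiso i hi
      rw [Functor.map_comp]
      infer_instance
    · rw [Functor.map_comp]
      exact epi_comp _ _

section Top

variable {V : X.Opens} {E : CochainComplex (V : Scheme.{u}).Modules ℤ} {K : DCoh.D X}
  (α : DerivedCategory.Q.obj E ⟶ (DCoh.restrictD V.ι).obj K)

/-- The map induced by `α` on cohomology sheaves, with the identifications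
`H^i(Q E) = H^i(E)` and `H^i(K|_V) = H^i(K)|_V`. -/
noncomputable def homologyComp (i : ℤ) : E.homology i ⟶ (DCoh.HD K i).restrict V.ι :=
  ((DerivedCategory.homologyFunctorFactors _ i).app E).inv ≫
    (DerivedCategory.homologyFunctor _ i).map α ≫
    ((mapDerivedCategoryHomologyIso (Scheme.Modules.restrictFunctor V.ι) i).app K).hom

instance isIso_homologyComp (i : ℤ) [IsIso ((DerivedCategory.homologyFunctor _ i).map α)] :
    IsIso (homologyComp α i) := by
  unfold homologyComp; infer_instance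

instance epi_homologyComp (i : ℤ) [Epi ((DerivedCategory.homologyFunctor _ i).map α)] :
    Epi (homologyComp α i) := by
  unfold homologyComp
  have : Epi ((DerivedCategory.homologyFunctor _ i).map α ≫
    ((mapDerivedCategoryHomologyIso (Scheme.Modules.restrictFunctor V.ι) i).app K).hom) :=
    epi_comp _ _
  exact epi_comp _ _

theorem isZero_homology_of_isIso (i : ℤ) [IsIso ((DerivedCategory.homologyFunctor _ i).map α)]
    (hz : IsZero (DCoh.HD K i)) : IsZero (E.homology i) :=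
  IsZero.of_iso ((Scheme.Modules.restrictFunctor V.ι).map_isZero hz) (asIso (homologyComp α i))

end Top

open Groth.Agent.Lib.LocalFlex Groth.Agent.Lib.CyclesRetract in
/-- Top cohomology of an `m`-pseudo-coherent object: if `H^i(K) = 0` for `i > m`, then `H^m(K)` is
of finite type. -/
theorem isFT_HD_of_isPseudoCoherentD (m : ℤ) (K : DCoh.D X) (hK : DCoh.IsPseudoCoherentD m K)
    (hz : ∀ i : ℤ, m < i → IsZero (DCoh.HD K i)) : CohB1.IsFT (DCoh.HD K m) := by
  apply isFT_of_forall_exists_epi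
  intro x
  obtain ⟨V, hxV, E, α, hE, hiso, hepi⟩ := (isPseudoCoherentD_iff_pcOn m K).1 hK x
  have hacyc : ∀ i : ℤ, m < i → IsZero (E.homology i) := fun i hi => by
    have := hiso i hi
    exact isZero_homology_of_isIso α i (hz i hi)
  have hZ := isFinLocFree_cycles hE m hacyc
  have : Epi (E.homologyπ m ≫ homologyComp α m) := epi_comp _ _
  obtain ⟨W, hxW, n, q, hq⟩ := exists_epi_of_isFinLocFree hZ (E.homologyπ m ≫ homologyComp α m)
    ⟨x, hxV⟩
  refine ⟨W, W.ι ≫ V.ι, inferInstance, n,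
    q ≫ ((restrictFactorIso W.ι V.ι (W.ι ≫ V.ι) rfl).app (DCoh.HD K m)).hom,
    ⟨⟨⟨x, hxV⟩, hxW⟩, rfl⟩, epi_comp _ _⟩

open Groth.Agent.Lib.LocalFlex Groth.Agent.Lib.CyclesRetract in
/-- If `K` is `m`-pseudo-coherent and `H^i(K) = 0` for `i > m + 1`, then `H^{m+1}(K)` is finitely
presented. -/
theorem isFP_HD_of_isPseudoCoherentD (m : ℤ) (K : DCoh.D X) (hK : DCoh.IsPseudoCoherentD m K)
    (hz : ∀ i : ℤ, m + 1 < i → IsZero (DCoh.HD K i)) : CohB1.IsFP (DCoh.HD K (m + 1)) := by
  apply isFP_of_forall_exists_presentation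
  intro x
  obtain ⟨V, hxV, E, α, hE, hiso, hepi⟩ := (isPseudoCoherentD_iff_pcOn m K).1 hK x
  have hacyc : ∀ i : ℤ, m + 1 < i → IsZero (E.homology i) := fun i hi => by
    have := hiso i (by omega)
    exact isZero_homology_of_isIso α i (hz i hi)
  have hZ := isFinLocFree_cycles hE (m + 1) hacyc
  have := hiso (m + 1) (by omega)
  let e₁ : cokernel (E.toCycles m (m + 1)) ≅ E.homology (m + 1) :=
    (colimit.isColimit _).coconePointUniqueUpToIso (E.homologyIsCokernel m (m + 1) (by simp))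
  obtain ⟨W, hxW, a, b, f, ⟨e⟩⟩ := exists_cokernel_iso_of_isFinLocFree (hE.2 m) hZ
    (E.toCycles m (m + 1)) ⟨x, hxV⟩
  refine ⟨W, W.ι ≫ V.ι, inferInstance, ⟨⟨⟨x, hxV⟩, hxW⟩, rfl⟩, ?_⟩
  exact exists_finite_presentation_of_cokernel_iso f (e ≪≫
    (Scheme.Modules.restrictFunctor W.ι).mapIso (e₁ ≪≫ asIso (homologyComp α (m + 1))) ≪≫
    (restrictFactorIso W.ι V.ι (W.ι ≫ V.ι) rfl).app (DCoh.HD K (m + 1)))

end Groth.Agent.Lib.PseudoCohD
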