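import Groth.Agent.Lib.ClosedPushPC17
import Groth.Agent.Lib.TildeLocFree
import Groth.Agent.Lib.H60TildeExact
import Groth.Agent.Lib.H90OXModTilde
import Groth.Agent.Lib.DRingPCoh21C
import Groth.Agent.Lib.PCohFPn21
import Groth.Agent.Lib.PCohD
import Groth.Agent.Lib.PseudoCohD

/-!
# Pseudo-coherence of `M~[0]` on `Spec R` versus pseudo-coherence of `M[0]` over `R` (helper17)

`isPseudoCoherentD_inD_tilde_iff`: for an `R`-module `M` and an integer `m`, the object `M~[0]` of
`D(O_{Spec R})` is `m`-pseudo-coherent iff `M[0]` is `m`-pseudo-coherent in `D(R)`.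
-/

set_option autoImplicit false
universe u
open CategoryTheory CategoryTheory.Limits AlgebraicGeometry TopologicalSpace Opposite
  Pretriangulated
attribute [local instance] HasDerivedCategory.standard

namespace Groth.Agent.Lib.PCModTilde17

open Groth.Agent.Lib.PseudoCohTriangle Groth.Agent.Lib.PseudoCohSummand
  Groth.Agent.Lib.ClosedPushPC17 Groth.Agent.Lib.PseudoCohD Groth.Agent.Lib.PseudoCohSingle
  Groth.Agent.Lib.H60TildeExact Groth.Agent.Lib.DRingPCoh21

section Sheaf

variable {Y : Scheme.{u}}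

theorem pcMod_of_isFinLocFree {M : Y.Modules} (hM : FlatMod.IsFinLocFree M) : PCMod M := fun m =>
  isPseudoCoherentD_of_iso ((DerivedCategory.singleFunctorIsoCompQ Y.Modules 0).app M).symm
    (isPseudoCoherentD_Q_of_isStrictlyPerfect m (isStrictlyPerfect_single M hM))

/-- `0`-pseudo-coherence of a module in degree `0` is finite type. -/
theorem isPseudoCoherentD_inD_zero_iff (F : Y.Modules) :
    DCoh.IsPseudoCoherentD 0 (DCoh.inD Y F) ↔ CohB1.IsFT F := by
  constructor
  · intro h
    exact isFT_of_iso (HDinDIso F)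
      (isFT_HD_of_isPseudoCoherentD 0 _ h (fun i hi => isZero_HD_inD _ i (by omega)))
  · exact isPseudoCoherentD_zero_of_isFT F

theorem isPseudoCoherentD_inD_of_pos (F : Y.Modules) (m : ℤ) (hm : 0 < m) :
    DCoh.IsPseudoCoherentD m (DCoh.inD Y F) :=
  isPseudoCoherentD_of_isZero_homology m _ fun i hi => isZero_HD_inD _ i (by omega)

/-- A short exact sequence `0 → N → E → M → 0` with `E` pseudo-coherent: `M[0]` is `k`-pseudo-coherent
iff `N[0]` is `(k+1)`-pseudo-coherent. -/
theorem isPseudoCoherentD_inD_iff_of_shortExact (S : ShortComplex Y.Modules) (hS : S.ShortExact)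
    (hE : PCMod S.X₂) (k : ℤ) :
    DCoh.IsPseudoCoherentD k (DCoh.inD Y S.X₃) ↔
      DCoh.IsPseudoCoherentD (k + 1) (DCoh.inD Y S.X₁) := by
  have hT := hS.singleTriangle_distinguished
  constructor
  · intro h
    exact isPseudoCoherentD_obj₁ k _ hT (hE (k + 1)) h
  · intro h
    exact isPseudoCoherentD_obj₃ k _ hT h (hE k)

end Sheaf

section Ring

variable (R : CommRingCat.{u})

theorem ring_of_le {m m' : ℤ} (h : m ≤ m') {K : Dual.D R} (hK : DRing.IsPseudoCoherent R m K) :
    DRing.IsPseudoCoherent R m' K := by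
  rw [isPseudoCoherent_iff] at hK ⊢
  exact Groth.Agent.Lib.PCohFPn21.npc_of_le (FF R) h hK

theorem ring_of_pos (M : ModuleCat.{u} R) (m : ℤ) (hm : 0 < m) :
    DRing.IsPseudoCoherent R m ((DerivedCategory.singleFunctor (ModuleCat.{u} R) 0).obj M) := by
  rw [isPseudoCoherent_iff]
  exact Groth.Agent.Lib.PCohD.isNPC_of_isZero_homology (P := FF R) fun i hi =>
    DerivedCategory.isZero_of_isLE
      ((DerivedCategory.singleFunctor (ModuleCat.{u} R) 0).obj M) 0 i (by omega)

theorem ring_iff_of_shortExact (S : ShortComplex (ModuleCat.{u} R)) (hS : S.ShortExact)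
    (hE : FF R S.X₂) (k : ℤ) :
    DRing.IsPseudoCoherent R k ((DerivedCategory.singleFunctor (ModuleCat.{u} R) 0).obj S.X₃) ↔
      DRing.IsPseudoCoherent R (k + 1)
        ((DerivedCategory.singleFunctor (ModuleCat.{u} R) 0).obj S.X₁) := by
  rw [isPseudoCoherent_iff, isPseudoCoherent_iff]
  exact Groth.Agent.Lib.PCohFPn21.isNPC_single_iff_of_shortExact (FF R) (ff_prod R)
    (fp_quasiStable R) (ff_quasiLiftable R) S hS hE k

/-- A presentation of a finite module by a finite free module. -/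
theorem exists_shortExact_of_finite (M : ModuleCat.{u} R) [Module.Finite R M] :
    ∃ S : ShortComplex (ModuleCat.{u} R), S.ShortExact ∧ FF R S.X₂ ∧ Nonempty (S.X₃ ≅ M) := by
  obtain ⟨n, f, hf⟩ := Module.Finite.exists_fin' R M
  let π : ModuleCat.of R (Fin n → R) ⟶ M := ModuleCat.ofHom f
  haveI : Epi π := (ModuleCat.epi_iff_surjective π).2 hf
  refine ⟨ShortComplex.mk (kernel.ι π) π (kernel.condition π),
    { exact := ShortComplex.exact_of_f_is_kernel _ (kernelIsKernel π) }, ?_, ⟨Iso.refl _⟩⟩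
  exact ⟨inferInstanceAs (Module.Finite R (Fin n → R)),
    inferInstanceAs (Module.Free R (Fin n → R))⟩

theorem pcMod_tilde_of_ff (F : ModuleCat.{u} R) (hF : FF R F) : PCMod (tilde F) := by
  haveI := hF.1
  haveI := hF.2
  exact pcMod_of_isFinLocFree
    ((Groth.Agent.Lib.TildeLocFree.isFinLocFree_tilde_iff F).2 ⟨inferInstance, inferInstance⟩)

/-- The bridge, for `m = -n`. -/
theorem bridge_aux (n : ℕ) : ∀ M : ModuleCat.{u} R,
    DCoh.IsPseudoCoherentD (-(n : ℤ)) (DCoh.inD (Spec R) (tilde M)) ↔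
      DRing.IsPseudoCoherent R (-(n : ℤ))
        ((DerivedCategory.singleFunctor (ModuleCat.{u} R) 0).obj M) := by
  induction n with
  | zero =>
    intro M
    simp only [Nat.cast_zero, neg_zero]
    rw [isPseudoCoherentD_inD_zero_iff, Groth.Agent.Lib.H90OXModTilde.isFT_tilde_iff,
      isPseudoCoherent_single_zero_iff]
  | succ n ih =>
    intro M
    have key : ∀ (hfin : Module.Finite R M),
        (DCoh.IsPseudoCoherentD (-((n + 1 : ℕ) : ℤ)) (DCoh.inD (Spec R) (tilde M)) ↔
          DRing.IsPseudoCoherent R (-((n + 1 : ℕ) : ℤ))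
            ((DerivedCategory.singleFunctor (ModuleCat.{u} R) 0).obj M)) := by
      intro hfin
      obtain ⟨S, hS, hE, ⟨e⟩⟩ := exists_shortExact_of_finite R M
      have hS' : (S.map (tilde.functor R)).ShortExact := hS.map_of_exact (tilde.functor R)
      have h1 := isPseudoCoherentD_inD_iff_of_shortExact (S.map (tilde.functor R)) hS'
        (pcMod_tilde_of_ff R S.X₂ hE) (-((n + 1 : ℕ) : ℤ))
      have h2 := ring_iff_of_shortExact R S hS hE (-((n + 1 : ℕ) : ℤ))
      have e0 : -((n + 1 : ℕ) : ℤ) + 1 = -(n : ℤ) := by push_cast; ring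
      rw [e0] at h1 h2
      have h3 : DCoh.IsPseudoCoherentD (-((n + 1 : ℕ) : ℤ)) (DCoh.inD (Spec R) (tilde M)) ↔
          DCoh.IsPseudoCoherentD (-((n + 1 : ℕ) : ℤ)) (DCoh.inD (Spec R) (tilde S.X₃)) :=
        ⟨fun h => isPseudoCoherentD_of_iso ((DerivedCategory.singleFunctor _ 0).mapIso
            ((tilde.functor R).mapIso e.symm)) h,
          fun h => isPseudoCoherentD_of_iso ((DerivedCategory.singleFunctor _ 0).mapIso
            ((tilde.functor R).mapIso e)) h⟩
      have h4 : DRing.IsPseudoCoherent R (-((n + 1 : ℕ) : ℤ))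
            ((DerivedCategory.singleFunctor (ModuleCat.{u} R) 0).obj M) ↔
          DRing.IsPseudoCoherent R (-((n + 1 : ℕ) : ℤ))
            ((DerivedCategory.singleFunctor (ModuleCat.{u} R) 0).obj S.X₃) := by
        rw [isPseudoCoherent_iff, isPseudoCoherent_iff]
        constructor
        · rintro ⟨E, hE', ⟨i⟩⟩
          exact ⟨E, hE', ⟨i ≪≫ (DerivedCategory.singleFunctor _ 0).mapIso e.symm⟩⟩
        · rintro ⟨E, hE', ⟨i⟩⟩
          exact ⟨E, hE', ⟨i ≪≫ (DerivedCategory.singleFunctor _ 0).mapIso e⟩⟩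
      rw [h3, h4]
      exact h1.trans ((ih S.X₁).trans h2.symm)
    constructor
    · intro h
      have h0 := isPseudoCoherentD_of_le (m := -((n + 1 : ℕ) : ℤ)) (m' := 0) (by omega) h
      rw [isPseudoCoherentD_inD_zero_iff, Groth.Agent.Lib.H90OXModTilde.isFT_tilde_iff] at h0
      exact (key h0).1 h
    · intro h
      have h0 := ring_of_le R (m := -((n + 1 : ℕ) : ℤ)) (m' := 0) (by omega) h
      rw [isPseudoCoherent_single_zero_iff] at h0
      exact (key h0).2 h

/-- **Bridge**: `M~[0]` is `m`-pseudo-coherent on `Spec R` iff `M[0]` is `m`-pseudo-coherent over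
`R`. -/
theorem isPseudoCoherentD_inD_tilde_iff (m : ℤ) (M : ModuleCat.{u} R) :
    DCoh.IsPseudoCoherentD m (DCoh.inD (Spec R) (tilde M)) ↔
      DRing.IsPseudoCoherent R m ((DerivedCategory.singleFunctor (ModuleCat.{u} R) 0).obj M) := by
  by_cases hm : 0 < m
  · exact ⟨fun _ => ring_of_pos R M m hm, fun _ => isPseudoCoherentD_inD_of_pos _ m hm⟩
  · obtain ⟨n, rfl⟩ : ∃ n : ℕ, m = -(n : ℤ) := ⟨(-m).toNat, by omega⟩
    exact bridge_aux R n M

end Ring

end Groth.Agent.Lib.PCModTilde17
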