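import Groth.Agent.Lib.RelPCQCoh17
import Groth.Agent.Lib.ClosedPushPC17
import Groth.Agent.Lib.H90DevFilt

/-!
# Relative pseudo-coherence on a quasi-compact scheme ⇒ cohomology bounded above (helper17)

* `exists_bound_of_isPseudoCoherentD` : an `m`-pseudo-coherent object on a quasi-compact scheme has cohomology
  bounded above.
* `exists_isLE_of_isPseudoCoherentRel` : `E` `n`-pseudo-coherent relative to `f : X ⟶ Y` (chart form), `X`
  quasi-compact ⇒ `E.IsLE b` for some `b`.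
-/

set_option autoImplicit false
universe u
open CategoryTheory CategoryTheory.Limits AlgebraicGeometry TopologicalSpace Opposite
attribute [local instance] HasDerivedCategory.standard

namespace Groth.Agent.Lib.RelPCBounded17

open Groth.Agent.Lib.ClosedPushExact17 Groth.Agent.Lib.ClosedPushQCoh17
  Groth.Agent.Lib.PerfectCoh Groth.Agent.Lib.CohLocal Groth.Agent.Lib.RelPCQCoh17
  Groth.Agent.Lib.PseudoCohD Groth.Agent.Lib.PseudoCohTriangle

variable {X Y : Scheme.{u}}

/-- Local bound: around every point, the cohomology of an `m`-pseudo-coherent object vanishes above some degree. -/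
theorem exists_local_bound_of_isPseudoCoherentD (m : ℤ) (K : DCoh.D X)
    (hK : DCoh.IsPseudoCoherentD m K) (x : X) :
    ∃ (V : X.Opens) (b : ℤ), x ∈ V ∧ ∀ j : ℤ, b < j → IsZero ((DCoh.HD K j).restrict V.ι) := by
  obtain ⟨V, hxV, hV⟩ := (isPseudoCoherentD_iff_pcOn m K).1 hK x
  obtain ⟨P, α, hP, hα⟩ := (pcOn_iff m K V.ι).1 hV
  obtain ⟨⟨a, c, hac⟩, _⟩ := hP
  refine ⟨V, max c m, hxV, fun j hj => ?_⟩
  have := hα.1 j (by omega)
  have h0 : IsZero (DCoh.HD (DerivedCategory.Q.obj P) j) :=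
    (isZero_homology_of_vanishesOutside P hac j (Or.inr (by omega))).of_iso (HDIso P j)
  have h1 : IsZero (DCoh.HD ((DCoh.restrictD V.ι).obj K) j) :=
    h0.of_iso (asIso ((DerivedCategory.homologyFunctor _ j).map α)).symm
  exact h1.of_iso
    ((Groth.Agent.Lib.FlatBaseChangeD.mapDerivedCategoryHomologyIso
      (Scheme.Modules.restrictFunctor V.ι) j).app K).symm

/-- Finitely many local bounds give a global one on a quasi-compact scheme. -/
theorem exists_bound_of_local [CompactSpace X] (M : ℤ → X.Modules)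
    (h : ∀ x : X, ∃ (V : X.Opens) (b : ℤ), x ∈ V ∧ ∀ j : ℤ, b < j → IsZero ((M j).restrict V.ι)) :
    ∃ b : ℤ, ∀ j : ℤ, b < j → IsZero (M j) := by
  choose V b hxV hV using h
  obtain ⟨t, ht⟩ := isCompact_univ.elim_finite_subcover (fun x => (V x : Set X))
    (fun x => (V x).2) (fun x _ => Set.mem_iUnion.2 ⟨x, hxV x⟩)
  obtain ⟨B, hB⟩ := (t.image b).exists_le
  refine ⟨B, fun j hj => isZero_of_forall_restrict (M j) (fun y => ?_)⟩
  obtain ⟨x, hxt, hyx⟩ : ∃ x ∈ t, y ∈ (V x : Set X) := by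
    have := ht.ge (Set.mem_univ y)
    simpa using this
  exact ⟨V x, hyx, hV x j (lt_of_le_of_lt (hB _ (Finset.mem_image_of_mem b hxt)) hj)⟩

/-- An `m`-pseudo-coherent object on a quasi-compact scheme has cohomology bounded above. -/
theorem exists_bound_of_isPseudoCoherentD [CompactSpace X] (m : ℤ) (K : DCoh.D X)
    (hK : DCoh.IsPseudoCoherentD m K) : ∃ b : ℤ, ∀ j : ℤ, b < j → IsZero (DCoh.HD K j) :=
  exists_bound_of_local (fun j => DCoh.HD K j) (exists_local_bound_of_isPseudoCoherentD m K hK)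

/-- `E` is `n`-pseudo-coherent relative to `f` (chart form) and `X` is quasi-compact: the cohomology of `E` is
bounded above. -/
theorem exists_isLE_of_isPseudoCoherentRel [CompactSpace X] (f : X ⟶ Y) (n : ℤ) (E : DCoh.D X)
    (hE : DerSch.IsPseudoCoherentRel f n E) : ∃ b : ℤ, E.IsLE b := by
  obtain ⟨_, 𝒱, h𝒱, h⟩ := hE
  let G : CochainComplex X.Modules ℤ := DerivedCategory.Q.objPreimage E
  let e : DCoh.toD X G ≅ E := DerivedCategory.Q.objObjPreimageIso E
  obtain ⟨b, hb⟩ := exists_bound_of_local (fun j => DCoh.HD E j) (fun x => by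
    have hx : f x ∈ (⊤ : Y.Opens) := trivial
    rw [← h𝒱] at hx
    obtain ⟨V, hV⟩ := Opens.mem_iSup.mp hx
    obtain ⟨hV𝒱, hxV⟩ := Opens.mem_iSup.mp hV
    obtain ⟨𝒰, h𝒰, h'⟩ := h V hV𝒱
    have hx' : x ∈ f ⁻¹ᵁ (V : Y.Opens) := hxV
    rw [← h𝒰] at hx'
    obtain ⟨U, hU⟩ := Opens.mem_iSup.mp hx'
    obtain ⟨hU𝒰, hxU⟩ := Opens.mem_iSup.mp hU
    have hle : (U : X.Opens) ≤ f ⁻¹ᵁ (V : Y.Opens) := by
      rw [← h𝒰]
      exact le_iSup₂ (f := fun (U : X.affineOpens) (_ : U ∈ 𝒰) => (U : X.Opens)) U hU𝒰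
    obtain ⟨k, φ, hchart, hPC⟩ := h' U hU𝒰 hle
    haveI : IsClosedImmersion (DerSch.chartImm (U : X.Opens) φ) :=
      isClosedImmersion_chartImm (U : X.Opens) U.2 φ hchart.1
    have pcm := hPC G ⟨e⟩
    let G' := (DCoh.restrictCx (U : X.Opens)).obj G
    let c := DerSch.chartImm (U : X.Opens) φ
    let P : Scheme.{u} := Spec (CommRingCat.of (MvPolynomial (Fin k) Γ(Y, (V : Y.Opens))))
    obtain ⟨b, hb⟩ := exists_bound_of_isPseudoCoherentD (X := P) n _ pcm
    refine ⟨U, b, hxU, fun j hj => ?_⟩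
    have e0 : DCoh.HD (DCoh.toD P ((DerSch.pushCx c).obj G')) j ≅
        (Scheme.Modules.pushforward c).obj (G'.homology j) :=
      HDIso ((DerSch.pushCx c).obj G') j ≪≫ pushHomologyIso c G' j
    have hz : IsZero (G'.homology j) :=
      Groth.Agent.Lib.H90DevFilt.isZero_of_isZero_pushforward c ((hb j hj).of_iso e0.symm)
    have e1 : DCoh.HD E j ≅ G.homology j :=
      (DerivedCategory.homologyFunctor X.Modules j).mapIso e.symm ≪≫ HDIso G j
    have e2 : G'.homology j ≅ (DCoh.HD E j).restrict (U : X.Opens).ι :=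
      restrictHomologyIso (U : X.Opens) G j ≪≫
        (Scheme.Modules.restrictFunctor (U : X.Opens).ι).mapIso e1.symm
    exact hz.of_iso e2.symm)
  exact ⟨b, (DerivedCategory.isLE_iff E b).2 hb⟩

end Groth.Agent.Lib.RelPCBounded17
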