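import Groth.Agent.Lib.ClosedPushPCIdx17
import Groth.Agent.Lib.H43PCohD
import Groth.Agent.Lib.DLES
import Groth.Agent.Lib.DRingPCoh21B
import Groth.Agent.S5599
import Groth.Agent.Lib.RelPCBounded17

/-!
# Pseudo-coherence of `K~` on `Spec R` versus pseudo-coherence of `K` in `D(R)` (helper17)
-/

set_option autoImplicit false
universe u
open CategoryTheory CategoryTheory.Limits AlgebraicGeometry TopologicalSpace Opposite
  Pretriangulated
attribute [local instance] HasDerivedCategory.standard

namespace Groth.Agent.Lib.PCTildeD17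

open Groth.Agent.Lib.PseudoCohTriangle Groth.Agent.Lib.PseudoCohSummand
  Groth.Agent.Lib.ClosedPushPC17 Groth.Agent.Lib.PseudoCohD Groth.Agent.Lib.PseudoCohSingle
  Groth.Agent.Lib.H60TildeExact Groth.Agent.Lib.DRingPCoh21 Groth.Agent.Lib.PCModTilde17
  Groth.Agent.Lib.FlatBaseChangeD

variable (R : CommRingCat.{u})

/-- Termwise `~` of a complex. -/
noncomputable abbrev tildeCx : CochainComplex (ModuleCat.{u} R) ℤ ⥤
    CochainComplex (Spec R).Modules ℤ :=
  (tilde.functor R).mapHomologicalComplex (ComplexShape.up ℤ)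

theorem isStrictlyPerfect_tildeCx (E : CochainComplex (ModuleCat.{u} R) ℤ) (a b : ℤ)
    (hv : ∀ i : ℤ, i < a ∨ b < i → IsZero (E.X i))
    (hf : ∀ i : ℤ, Module.Finite R (E.X i) ∧ Module.Free R (E.X i)) :
    DCoh.IsStrictlyPerfect ((tildeCx R).obj E) := by
  refine ⟨⟨a, b, fun i hi => (tilde.functor R).map_isZero (hv i hi)⟩, fun i => ?_⟩
  haveI := (hf i).1
  haveI := (hf i).2
  exact (Groth.Agent.Lib.TildeLocFree.isFinLocFree_tilde_iff (E.X i)).2
    ⟨inferInstance, inferInstance⟩

/-- `(⟸)`: the tilde of an `m`-pseudo-coherent object of `D(R)` is `m`-pseudo-coherent. -/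
theorem isPseudoCoherentD_tildeD_of (m : ℤ) (K : DerivedCategory (ModuleCat.{u} R))
    (hK : DRing.IsPseudoCoherent R m K) :
    DCoh.IsPseudoCoherentD m ((tilde.functor R).mapDerivedCategory.obj K) := by
  obtain ⟨E, a, b, α, hv, hf, hiso, hepi⟩ := hK
  have hsp := isStrictlyPerfect_tildeCx R E a b hv hf
  refine isPseudoCoherentD_of_qIsoAbove
    ((tilde.functor R).mapDerivedCategoryFactors.inv.app E ≫
      (tilde.functor R).mapDerivedCategory.map α) ?_
    (isPseudoCoherentD_Q_of_isStrictlyPerfect m hsp)
  refine (QIsoAbove.of_isIso m _).comp ⟨fun i hi => ?_, ?_⟩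
  · haveI := hiso i hi
    exact isIso_homology_map (tilde.functor R) α i
  · haveI := hepi
    exact epi_homology_map (tilde.functor R) α m

/-- Cohomology sheaves of `K~`. -/
noncomputable def HDtildeIso (K : DerivedCategory (ModuleCat.{u} R)) (j : ℤ) :
    DCoh.HD ((tilde.functor R).mapDerivedCategory.obj K) j ≅
      (tilde.functor R).obj ((DerivedCategory.homologyFunctor (ModuleCat.{u} R) j).obj K) :=
  (mapDerivedCategoryHomologyIso (tilde.functor R) j).app K

theorem isZero_HD_tildeD_iff (K : DerivedCategory (ModuleCat.{u} R)) (j : ℤ) :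
    IsZero (DCoh.HD ((tilde.functor R).mapDerivedCategory.obj K) j) ↔
      IsZero ((DerivedCategory.homologyFunctor (ModuleCat.{u} R) j).obj K) := by
  constructor
  · intro h
    exact IsZero.of_full_of_faithful_of_isZero (tilde.functor R) _
      (h.of_iso (HDtildeIso R K j).symm)
  · intro h
    exact ((tilde.functor R).map_isZero h).of_iso (HDtildeIso R K j)

theorem ring_pc_single (P' : ModuleCat.{u} R) (hP' : FF R P') (b m : ℤ) :
    DRing.IsPseudoCoherent R m (DerivedCategory.Q.obj
      ((HomologicalComplex.single (ModuleCat.{u} R) (ComplexShape.up ℤ) b).obj P')) := by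
  rw [isPseudoCoherent_iff]
  exact ⟨_, isStrictPC_single (FF R) P' hP' b m, ⟨Iso.refl _⟩⟩

theorem isZero_homology_Q_single (P' : ModuleCat.{u} R) (b i : ℤ) (hi : i ≠ b) :
    IsZero ((DerivedCategory.homologyFunctor (ModuleCat.{u} R) i).obj (DerivedCategory.Q.obj
      ((HomologicalComplex.single (ModuleCat.{u} R) (ComplexShape.up ℤ) b).obj P'))) :=
  (HomologicalComplex.isZero_single_obj_homology (ComplexShape.up ℤ) b P' i hi).of_iso
    ((DerivedCategory.homologyFunctorFactors (ModuleCat.{u} R) i).app _)

/-- `(⟹)`, by induction on the length of the range of degrees to be handled. -/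
theorem pc_of_tildeD_aux (n : ℕ) : ∀ (K : DerivedCategory (ModuleCat.{u} R)) (m b : ℤ),
    b < m + n →
    (∀ j : ℤ, b < j → IsZero ((DerivedCategory.homologyFunctor (ModuleCat.{u} R) j).obj K)) →
    DCoh.IsPseudoCoherentD m ((tilde.functor R).mapDerivedCategory.obj K) →
    DRing.IsPseudoCoherent R m K := by
  induction n with
  | zero =>
    intro K m b hb hz _
    rw [isPseudoCoherent_iff]
    exact Groth.Agent.Lib.PCohD.isNPC_of_isZero_homology (P := FF R)
      fun i hi => hz i (by omega)
  | succ n ih =>
    intro K m b hb hz hE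
    by_cases hb' : b < m + n
    · exact ih K m b hb' hz hE
    have hEb : DCoh.IsPseudoCoherentD b ((tilde.functor R).mapDerivedCategory.obj K) :=
      isPseudoCoherentD_of_le (by omega) hE
    have hzE : ∀ j : ℤ, b < j →
        IsZero (DCoh.HD ((tilde.functor R).mapDerivedCategory.obj K) j) :=
      fun j hj => (isZero_HD_tildeD_iff R K j).2 (hz j hj)
    have hFT := isFT_HD_of_isPseudoCoherentD b _ hEb hzE
    have hFT' : CohB1.IsFT ((tilde.functor R).obj
        ((DerivedCategory.homologyFunctor (ModuleCat.{u} R) b).obj K)) :=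
      isFT_of_iso (HDtildeIso R K b) hFT
    have hfin : Module.Finite R ((DerivedCategory.homologyFunctor (ModuleCat.{u} R) b).obj K) :=
      (Groth.Agent.Lib.H90OXModTilde.isFT_tilde_iff _).1 hFT'
    obtain ⟨X, ⟨e⟩⟩ : ∃ X : CochainComplex (ModuleCat.{u} R) ℤ,
        Nonempty (DerivedCategory.Q.obj X ≅ K) :=
      ⟨_, ⟨DerivedCategory.Q.objObjPreimageIso K⟩⟩
    let eH : X.homology b ≅ (DerivedCategory.homologyFunctor (ModuleCat.{u} R) b).obj K :=
      ((DerivedCategory.homologyFunctorFactors (ModuleCat.{u} R) b).app X).symm ≪≫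
        (DerivedCategory.homologyFunctor (ModuleCat.{u} R) b).mapIso e
    have hft : PCoh.IsOfFiniteType (FF R) (X.homology b) := by
      rw [isOfFiniteType_iff]
      exact Module.Finite.equiv eH.symm.toLinearEquiv
    obtain ⟨P', j, hP', hj⟩ :=
      Groth.Agent.Lib.H43PCohD.exists_single_epi (FF R) (ff_quasiLiftable R) X b hft
    let φ : DerivedCategory.Q.obj
        ((HomologicalComplex.single (ModuleCat.{u} R) (ComplexShape.up ℤ) b).obj P') ⟶ K :=
      DerivedCategory.Q.map j ≫ e.hom
    have hφ : Epi ((DerivedCategory.homologyFunctor (ModuleCat.{u} R) b).map φ) := by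
      have h1 : Epi ((DerivedCategory.homologyFunctor (ModuleCat.{u} R) b).map
          (DerivedCategory.Q.map j)) := by
        have hnat := (DerivedCategory.homologyFunctorFactors (ModuleCat.{u} R) b).hom.naturality j
        have : (DerivedCategory.homologyFunctor (ModuleCat.{u} R) b).map
            (DerivedCategory.Q.map j) =
            ((DerivedCategory.homologyFunctorFactors (ModuleCat.{u} R) b).app _).hom ≫
              HomologicalComplex.homologyMap j b ≫
              ((DerivedCategory.homologyFunctorFactors (ModuleCat.{u} R) b).app _).inv := by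
          rw [← Category.assoc]
          exact (Iso.eq_comp_inv _).2 hnat
        rw [this]
        haveI : Epi (HomologicalComplex.homologyMap j b) := hj
        have h3 : Epi ((DerivedCategory.homologyFunctorFactors (ModuleCat.{u} R) b).app X).inv :=
          inferInstance
        have h4 : Epi ((DerivedCategory.homologyFunctorFactors (ModuleCat.{u} R) b).app
            ((HomologicalComplex.single (ModuleCat.{u} R) (ComplexShape.up ℤ) b).obj P')).hom :=
          inferInstance
        have h5 := @epi_comp _ _ _ _ _ _ hj _ h3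
        exact @epi_comp _ _ _ _ _ _ h4 _ h5
      rw [Functor.map_comp]
      infer_instance
    obtain ⟨C, β, γ, hT⟩ := distinguished_cocone_triangle φ
    have hzC : ∀ i : ℤ, b ≤ i →
        IsZero ((DerivedCategory.homologyFunctor (ModuleCat.{u} R) i).obj C) := by
      intro i hi
      refine Groth.Agent.Lib.DLES.isZero_homology_obj₃ (Triangle.mk φ β γ) hT i (i + 1) rfl ?_ ?_
      · rcases eq_or_lt_of_le hi with rfl | hlt
        · exact hφ
        · exact Groth.Agent.Lib.DLES.epi_of_isZero_tgt _ (hz i hlt)
      · exact Groth.Agent.Lib.DLES.mono_of_isZero_src _ (isZero_homology_Q_single R P' b (i + 1) (by omega))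
    have hT' := (tilde.functor R).mapDerivedCategory.map_distinguished _ hT
    have h₁ : DCoh.IsPseudoCoherentD (m + 1) ((tilde.functor R).mapDerivedCategory.obj
        (DerivedCategory.Q.obj
          ((HomologicalComplex.single (ModuleCat.{u} R) (ComplexShape.up ℤ) b).obj P'))) :=
      isPseudoCoherentD_tildeD_of R (m + 1) _ (ring_pc_single R P' hP' b (m + 1))
    have hC : DCoh.IsPseudoCoherentD m ((tilde.functor R).mapDerivedCategory.obj C) :=
      isPseudoCoherentD_obj₃ m _ hT' h₁ hE
    have hCr := ih C m (b - 1) (by omega) (fun i hi => hzC i (by omega)) hC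
    have h₁r := ring_pc_single R P' hP' b m
    rw [isPseudoCoherent_iff] at hCr h₁r ⊢
    exact (Groth.Agent.S5599.result (FF R) (ff_prod R) (fp_quasiStable R) (ff_quasiLiftable R) m
      (Triangle.mk φ β γ) hT).2.1 h₁r hCr

/-- **Bridge for complexes**: `K~` is `m`-pseudo-coherent on `Spec R` iff `K` is `m`-pseudo-coherent
in `D(R)`. -/
theorem isPseudoCoherentD_tildeD_iff (m : ℤ) (K : DerivedCategory (ModuleCat.{u} R)) :
    DCoh.IsPseudoCoherentD m ((tilde.functor R).mapDerivedCategory.obj K) ↔
      DRing.IsPseudoCoherent R m K := by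
  refine ⟨fun h => ?_, isPseudoCoherentD_tildeD_of R m K⟩
  obtain ⟨b, hb⟩ := Groth.Agent.Lib.RelPCBounded17.exists_bound_of_isPseudoCoherentD m _ h
  exact pc_of_tildeD_aux R (b - m + 1).toNat K m b (by omega)
    (fun j hj => (isZero_HD_tildeD_iff R K j).1 (hb j hj)) h

end Groth.Agent.Lib.PCTildeD17
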