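import Mathlib.Algebra.Homology.DerivedCategory.Basic
import Mathlib.Algebra.Homology.Embedding.CochainComplex
import Mathlib.CategoryTheory.ObjectProperty.ClosedUnderIsomorphisms
import Mathlib.CategoryTheory.ObjectProperty.ContainsZero

/-!
# Truncating complexes with terms in a class stable under kernels of epimorphisms

Namespace `Groth.Agent.Lib.PCohTrunc` (SGA6 I, punctual case).  `P` is a class of objects of an
abelian category closed under isomorphisms, containing zero, and stable under kernels of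
epimorphisms (`hst`).

* `kernelToCyclesIso`: `ker (F^i ⟶ Z^{i+1}) ≅ Z^i`.
* `prop_cycles`: if `F` has terms in `P`, vanishes above `c` and is exact above `b`, then
  `Z^i(F)` is in `P` for `i ≥ b`.
* `truncLE_props`: then `τ_{≤ b} F` has terms in `P`, vanishes outside `[a, b]` if `F` vanishes
  below `a`, and `τ_{≤ b} F ⟶ F` is a quasi-isomorphism.
-/

set_option autoImplicit false
universe v u

open CategoryTheory CategoryTheory.Limits Category

namespace Groth.Agent.Lib.PCohTrunc

variable {C : Type u} [Category.{v} C] [Abelian C]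

open HomologicalComplex

lemma iCycles_toCycles (F : CochainComplex C ℤ) (i j : ℤ) :
    F.iCycles i ≫ F.toCycles i j = 0 := by
  rw [← cancel_mono (F.iCycles j), assoc, toCycles_i, iCycles_d, zero_comp]

/-- `ker (F^i ⟶ Z^j) ≅ Z^i` for `j = i + 1`. -/
noncomputable def kernelToCyclesIso (F : CochainComplex C ℤ) (i j : ℤ) (hij : i + 1 = j) :
    kernel (F.toCycles i j) ≅ F.cycles i where
  hom := F.liftCycles (kernel.ι _) j (by simp [hij]) (by
    rw [← F.toCycles_i i j, ← assoc, kernel.condition, zero_comp])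
  inv := kernel.lift _ (F.iCycles i) (iCycles_toCycles F i j)
  hom_inv_id := by
    rw [← cancel_mono (kernel.ι _), assoc, kernel.lift_ι, liftCycles_i, id_comp]
  inv_hom_id := by
    rw [← cancel_mono (F.iCycles i), assoc, liftCycles_i, kernel.lift_ι, id_comp]

lemma epi_toCycles_of_exactAt (F : CochainComplex C ℤ) (i j : ℤ) (hij : i + 1 = j)
    (h : F.ExactAt j) : Epi (F.toCycles i j) := by
  rw [exactAt_iff_isZero_homology] at h
  exact Preadditive.epi_of_isZero_cokernel' _ (F.homologyIsCokernel i j (by simp; lia)) h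

variable (P : ObjectProperty C) [P.IsClosedUnderIsomorphisms] [P.ContainsZero]

lemma prop_cycles
    (hst : ∀ (E F : C) (u : E ⟶ F), Epi u → P E → P F → P (kernel u))
    (b c : ℤ) (F : CochainComplex C ℤ) (hP : ∀ i : ℤ, P (F.X i))
    (hvan : ∀ i : ℤ, c < i → IsZero (F.X i)) (hex : ∀ i : ℤ, b < i → F.ExactAt i)
    (i : ℤ) (hi : b ≤ i) : P (F.cycles i) := by
  suffices ∀ (k : ℕ) (i : ℤ), b ≤ i → c < i + k → P (F.cycles i) by
    obtain ⟨k, hk⟩ : ∃ k : ℕ, c < i + k := ⟨(c - i + 1).toNat, by lia⟩
    exact this k i hi hk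
  intro k
  induction k with
  | zero =>
    intro i _ hc
    exact P.prop_of_isZero (IsZero.of_mono (F.iCycles i) (hvan i (by simpa using hc)))
  | succ k ih =>
    intro i hi hc
    have h1 : P (F.cycles (i + 1)) := ih (i + 1) (by lia) (by push_cast at hc; lia)
    have := epi_toCycles_of_exactAt F i (i + 1) rfl (hex _ (by lia))
    exact P.prop_of_iso (kernelToCyclesIso F i (i + 1) rfl) (hst _ _ _ this (hP i) h1)

theorem truncLE_props
    (hst : ∀ (E F : C) (u : E ⟶ F), Epi u → P E → P F → P (kernel u))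
    (a b c : ℤ) (hab : a ≤ b) (F : CochainComplex C ℤ) (hP : ∀ i : ℤ, P (F.X i))
    (hvan : ∀ i : ℤ, i < a ∨ c < i → IsZero (F.X i))
    (hex : ∀ i : ℤ, b < i → F.ExactAt i) :
    (∀ i : ℤ, P ((F.truncLE b).X i)) ∧ (∀ i : ℤ, i < a ∨ b < i → IsZero ((F.truncLE b).X i)) ∧
      QuasiIso (F.ιTruncLE b) := by
  refine ⟨fun i => ?_, fun i hi => ?_, ?_⟩
  · obtain h | rfl | h := lt_trichotomy i b
    · exact P.prop_of_iso (F.truncLEXIso b i h).symm (hP i)
    · exact P.prop_of_iso (F.truncLEXIsoCycles i).symm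
        (prop_cycles P hst i c F hP (fun j hj => hvan j (Or.inr hj)) hex i le_rfl)
    · exact P.prop_of_isZero ((F.truncLE b).isZero_of_isStrictlyLE b i h)
  · obtain hi | hi := hi
    · exact IsZero.of_iso (hvan i (Or.inl hi)) (F.truncLEXIso b i (by lia))
    · exact (F.truncLE b).isZero_of_isStrictlyLE b i hi
  · rw [CochainComplex.quasiIso_ιTruncLE_iff, CochainComplex.isLE_iff]
    exact hex

end Groth.Agent.Lib.PCohTrunc
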