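import Groth.Agent.Lib.PCohPerf
import Groth.Agent.Lib.PCohTrunc
import Groth.Agent.Lib.DLES
import Mathlib.Algebra.Homology.DerivedCategory.TStructure

/-!
# Perfect amplitude relative to a liftable class `C₀` (SGA6 I, punctual case)

Namespace `Groth.Agent.Lib.PCohAmp`.  `PA P a b K`: `K` is isomorphic in `D(C)` to a complex with
terms in `P` vanishing outside `[a, b]` (the inline form of the frozen statements).

* `pa_of_iso`, `pa_mono`, `pa_shift`, `pa_of_shift`, `pa_single`.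
* `pa_cone`: amplitude of the third vertex of a distinguished triangle.
* `pa_trunc`: `PA a c K` and `H^i(K) = 0` for `i > b` give `PA a (min b c) K`.
* `isZero_homology_of_pa`: cohomological bounds.
-/

set_option autoImplicit false
universe w v u

open CategoryTheory CategoryTheory.Limits Category Pretriangulated

namespace Groth.Agent.Lib.PCohAmp

variable {C : Type u} [Category.{v} C] [Abelian C] [HasDerivedCategory.{w} C]
  (P : ObjectProperty C)

open DerivedCategory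

/-- `K` has `P`-perfect amplitude in `[a, b]`. -/
def PA (a b : ℤ) : ObjectProperty (DerivedCategory C) := fun K =>
  ∃ E : CochainComplex C ℤ, (∀ i : ℤ, P (E.X i)) ∧
    (∀ i : ℤ, i < a ∨ b < i → IsZero (E.X i)) ∧ Nonempty (DerivedCategory.Q.obj E ≅ K)

variable {P}

lemma pa_of_iso {a b : ℤ} {K L : DerivedCategory C} (e : K ≅ L) (h : PA P a b K) :
    PA P a b L := by
  obtain ⟨E, h1, h2, ⟨e'⟩⟩ := h
  exact ⟨E, h1, h2, ⟨e' ≪≫ e⟩⟩

lemma pa_mono {a b a' b' : ℤ} (ha : a' ≤ a) (hb : b ≤ b') {K : DerivedCategory C}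
    (h : PA P a b K) : PA P a' b' K := by
  obtain ⟨E, h1, h2, he⟩ := h
  exact ⟨E, h1, fun i hi => h2 i (by lia), he⟩

lemma pa_shift {a b : ℤ} {K : DerivedCategory C} (h : PA P a b K) (n : ℤ) :
    PA P (a - n) (b - n) (K⟦n⟧) := by
  obtain ⟨E, h1, h2, ⟨e⟩⟩ := h
  refine ⟨(shiftFunctor (CochainComplex C ℤ) n).obj E, fun i => h1 (i + n),
    fun i hi => h2 (i + n) (by lia), ⟨?_⟩⟩
  exact ((DerivedCategory.Q (C := C)).commShiftIso n).app E ≪≫
    (shiftFunctor (DerivedCategory C) n).mapIso e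

lemma pa_of_shift {a b : ℤ} {K : DerivedCategory C} (n : ℤ) (h : PA P (a - n) (b - n) (K⟦n⟧)) :
    PA P a b K := by
  have h1 := pa_shift h (-n)
  have e : (K⟦n⟧)⟦-n⟧ ≅ K := (shiftFunctorCompIsoId (DerivedCategory C) n (-n) (by simp)).app K
  exact pa_mono (by lia) (by lia) (pa_of_iso e h1)

lemma pa_single [P.IsClosedUnderIsomorphisms] [P.ContainsZero] (X : C) (hX : P X) (b : ℤ) :
    PA P b b ((singleFunctor C b).obj X) := by
  refine ⟨(HomologicalComplex.single C (ComplexShape.up ℤ) b).obj X, fun i => ?_, fun i hi => ?_,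
    ⟨((singleFunctorIsoCompQ C b).app X).symm⟩⟩
  · by_cases hi : i = b
    · subst hi
      exact P.prop_of_iso (HomologicalComplex.singleObjXSelf (ComplexShape.up ℤ) i X).symm hX
    · exact P.prop_of_isZero (HomologicalComplex.isZero_single_obj_X (ComplexShape.up ℤ) b X i hi)
  · exact HomologicalComplex.isZero_single_obj_X (ComplexShape.up ℤ) b X i (by lia)

lemma isZero_homology_of_pa {a b : ℤ} {K : DerivedCategory C} (h : PA P a b K) (i : ℤ)
    (hi : i < a ∨ b < i) : IsZero ((homologyFunctor C i).obj K) := by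
  obtain ⟨E, -, h2, ⟨e⟩⟩ := h
  have h1 : IsZero (E.homology i) :=
    (HomologicalComplex.exactAt_iff_isZero_homology _ _).mp
      (HomologicalComplex.ExactAt.of_isZero (h2 i hi))
  exact h1.of_iso ((homologyFunctor C i).mapIso e.symm ≪≫ (homologyFunctorFactors C i).app E)

section

variable [P.IsClosedUnderIsomorphisms] (hsum : ∀ X Y : C, P X → P Y → P (X ⨯ Y))
  (hlift : ∀ (E F : C) (u : E ⟶ F), Epi u → P F → IsSplitEpi u)

include hsum hlift

theorem pa_cone {a₁ b₁ a₂ b₂ : ℤ} (T : Triangle (DerivedCategory C))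
    (hT : T ∈ distTriang (DerivedCategory C)) (h₁ : PA P a₁ b₁ T.obj₁) (h₂ : PA P a₂ b₂ T.obj₂) :
    PA P (min (a₁ - 1) a₂) (max (b₁ - 1) b₂) T.obj₃ := by
  obtain ⟨E₁, hP₁, hv₁, ⟨e₁⟩⟩ := h₁
  obtain ⟨E₂, hP₂, hv₂, ⟨e₂⟩⟩ := h₂
  have : E₁.IsKProjective :=
    Groth.Agent.Lib.PCohPerf.isKProjective_of_bddP hlift E₁ ⟨⟨a₁, b₁, hv₁⟩, hP₁⟩
  obtain ⟨φ, hφ⟩ := Groth.Agent.Lib.DSplit.exists_map_eq (e₁.hom ≫ T.mor₁ ≫ e₂.inv)
  refine ⟨CochainComplex.mappingCone φ, fun i => ?_, fun i hi => ?_, ⟨?_⟩⟩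
  · exact P.prop_of_iso ((HomologicalComplex.homotopyCofiber.XIsoBiprod φ i (i + 1) rfl) ≪≫
      biprod.isoProd _ _).symm (hsum _ _ (hP₁ (i + 1)) (hP₂ i))
  · refine IsZero.of_iso ?_ (HomologicalComplex.homotopyCofiber.XIsoBiprod φ i (i + 1) rfl)
    rw [biprod_isZero_iff]
    have := min_le_left (a₁ - 1) a₂
    have := min_le_right (a₁ - 1) a₂
    have := le_max_left (b₁ - 1) b₂
    have := le_max_right (b₁ - 1) b₂
    exact ⟨hv₁ _ (by lia), hv₂ _ (by lia)⟩
  · have hdist := DerivedCategory.mappingCone_triangle_distinguished φ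
    have comm : Q.map φ ≫ e₂.hom = e₁.hom ≫ T.mor₁ := by
      rw [hφ]
      simp
    exact Triangle.π₃.mapIso (isoTriangleOfIso₁₂ _ _ hdist hT e₁ e₂ comm)

end

end Groth.Agent.Lib.PCohAmp
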