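import Groth.Agent.Lib.PCohStupid
import Mathlib.Algebra.Homology.DerivedCategory.ShortExact
import Mathlib.Algebra.Homology.DerivedCategory.TStructure
import Mathlib.Algebra.Homology.Embedding.CochainComplex

/-!
# Stupid truncation `σ_{< n}`, the stupid triangle, and dévissage of bounded complexes

Namespace `Groth.Agent.Lib.PCohDevissage`.

* `sigmaLT E n`, `sigmaLTπ E n : E ⟶ sigmaLT E n`;
* `ses E n` : the short complex `σ_{≥ n} E ⟶ E ⟶ σ_{< n} E`, `ses_shortExact`;
* `tri E n`, `tri_distinguished` : the corresponding distinguished triangle of `D(C)`;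
* `devissage` : a property of objects of `D(C)` stable under isomorphisms and extensions,
  containing the zero objects and the `(L^i)[-i]`, holds for `Q.obj L`, `L` a bounded complex.
-/

set_option autoImplicit false
universe w v u
open CategoryTheory CategoryTheory.Limits CategoryTheory.Pretriangulated
open scoped ZeroObject

namespace Groth.Agent.Lib.PCohDevissage

open Groth.Agent.Lib.PCohStupid

variable {C : Type u} [Category.{v} C] [Abelian C]

section Sigma

variable (E : CochainComplex C ℤ) (n : ℤ)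

/-- the stupid truncation `σ_{< n} E` -/
noncomputable def sigmaLT : CochainComplex C ℤ where
  X i := gate (i < n) (E.X i)
  d i j := gateι (i < n) (E.X i) ≫ E.d i j ≫ gateπ (j < n) (E.X j)
  shape i j hij := by simp [E.shape i j hij]
  d_comp_d' i j k _ _ := by
    simp only [Category.assoc]
    by_cases hj : j < n
    · rw [gateπ_ι_pos_assoc _ _ hj]
      simp
    · rw [gateπ_neg _ _ hj]
      simp

/-- the canonical morphism `E ⟶ σ_{< n} E` -/
noncomputable def sigmaLTπ : E ⟶ sigmaLT E n where
  f i := gateπ (i < n) (E.X i)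
  comm' i j hij := by
    have hij' : i + 1 = j := hij
    by_cases hi : i < n
    · simp [sigmaLT, gateπ_ι_pos_assoc _ _ hi]
    · have hj : ¬ j < n := by lia
      simp [sigmaLT, gateπ_neg _ _ hi, gateπ_neg _ _ hj]

lemma isZero_sigmaLT_X (i : ℤ) (hi : n ≤ i) : IsZero ((sigmaLT E n).X i) :=
  gate_isZero _ _ (by lia)

lemma isIso_gateπ (p : Prop) [Decidable p] (A : C) (h : p) : IsIso (gateπ p A) :=
  ⟨gateι p A, gateπ_ι_pos p A h, gateι_π p A⟩

lemma isIso_sigmaLTπ_f (i : ℤ) (hi : i < n) : IsIso ((sigmaLTπ E n).f i) :=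
  isIso_gateπ _ _ hi

lemma isZero_sigmaLT_X_of_isZero (i : ℤ) (hi : IsZero (E.X i)) : IsZero ((sigmaLT E n).X i) := by
  by_cases h : i < n
  · have := isIso_gateπ (i < n) (E.X i) h
    have e : E.X i ≅ gate (i < n) (E.X i) := asIso (gateπ (i < n) (E.X i))
    exact IsZero.of_iso hi e.symm
  · exact gate_isZero _ _ h

/-- the short complex `σ_{≥ n} E ⟶ E ⟶ σ_{< n} E` -/
noncomputable def ses : ShortComplex (CochainComplex C ℤ) :=
  ShortComplex.mk (sigmaGEι E n) (sigmaLTπ E n) (by
    ext i
    change gateι (n ≤ i) (E.X i) ≫ gateπ (i < n) (E.X i) = 0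
    by_cases hi : n ≤ i
    · rw [gateπ_neg _ _ (by lia), comp_zero]
    · rw [gateι_neg _ _ hi, zero_comp])

lemma ses_shortExact : (ses E n).ShortExact := by
  refine HomologicalComplex.shortExact_of_degreewise_shortExact _ (fun i => ?_)
  refine ShortComplex.Splitting.shortExact
    { r := gateπ (n ≤ i) (E.X i)
      s := gateι (i < n) (E.X i)
      f_r := gateι_π _ _
      s_g := gateι_π _ _
      id := ?_ }
  change gateπ (n ≤ i) (E.X i) ≫ gateι (n ≤ i) (E.X i) +
    gateπ (i < n) (E.X i) ≫ gateι (i < n) (E.X i) = 𝟙 (E.X i)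
  by_cases hi : n ≤ i
  · rw [gateπ_ι_pos _ _ hi, gateπ_neg (i < n) _ (by lia), zero_comp, add_zero]
  · rw [gateπ_neg _ _ hi, zero_comp, zero_add, gateπ_ι_pos _ _ (by lia)]

variable [HasDerivedCategory.{w} C]

/-- the stupid-truncation triangle `σ_{≥ n} E ⟶ E ⟶ σ_{< n} E ⟶` in `D(C)` -/
noncomputable def tri : Triangle (DerivedCategory C) :=
  DerivedCategory.triangleOfSES (ses_shortExact E n)

lemma tri_distinguished : tri E n ∈ distTriang (DerivedCategory C) :=
  DerivedCategory.triangleOfSES_distinguished (ses_shortExact E n)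

lemma tri_obj₁ : (tri E n).obj₁ = DerivedCategory.Q.obj (sigmaGE E n) := rfl
lemma tri_obj₂ : (tri E n).obj₂ = DerivedCategory.Q.obj E := rfl
lemma tri_obj₃ : (tri E n).obj₃ = DerivedCategory.Q.obj (sigmaLT E n) := rfl

end Sigma

section Devissage

lemma isZero_of_isZero_X (L : CochainComplex C ℤ) (h : ∀ i, IsZero (L.X i)) : IsZero L := by
  rw [IsZero.iff_id_eq_zero]
  ext i
  exact (h i).eq_of_src _ _

variable [HasDerivedCategory.{w} C]

/-- a complex concentrated in one degree is a single complex in `D(C)` -/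
lemma exists_iso_singleFunctor (L : CochainComplex C ℤ) (n : ℤ)
    (h : ∀ i : ℤ, i ≠ n → IsZero (L.X i)) :
    Nonempty (DerivedCategory.Q.obj L ≅ (DerivedCategory.singleFunctor C n).obj (L.X n)) := by
  have h1 : L.IsStrictlyGE n := by
    rw [CochainComplex.isStrictlyGE_iff]
    exact fun i hi => h i (by lia)
  have h2 : L.IsStrictlyLE n := by
    rw [CochainComplex.isStrictlyLE_iff]
    exact fun i hi => h i (by lia)
  obtain ⟨M, ⟨e⟩⟩ := L.exists_iso_single n
  have eM : L.X n ≅ M :=
    (HomologicalComplex.eval C (ComplexShape.up ℤ) n).mapIso e ≪≫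
      HomologicalComplex.singleObjXSelf (ComplexShape.up ℤ) n M
  exact ⟨DerivedCategory.Q.mapIso e ≪≫ (DerivedCategory.singleFunctor C n).mapIso eM.symm⟩

/-- dévissage of a bounded complex along its stupid filtration -/
theorem devissage (W : DerivedCategory C → Prop)
    (hiso : ∀ X Y : DerivedCategory C, (X ≅ Y) → W X → W Y)
    (hzero : ∀ X : DerivedCategory C, IsZero X → W X)
    (hext : ∀ T : Triangle (DerivedCategory C), T ∈ distTriang (DerivedCategory C) →
      W T.obj₁ → W T.obj₃ → W T.obj₂)
    (d : ℕ) : ∀ (L : CochainComplex C ℤ) (lo : ℤ),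
      (∀ i : ℤ, i < lo ∨ lo + d ≤ i → IsZero (L.X i)) →
      (∀ i : ℤ, lo ≤ i → i < lo + d → W ((DerivedCategory.singleFunctor C i).obj (L.X i))) →
      W (DerivedCategory.Q.obj L) := by
  induction d with
  | zero =>
    intro L lo hL _
    apply hzero
    apply Functor.map_isZero
    apply isZero_of_isZero_X
    intro i
    by_cases hi : i < lo
    · exact hL i (Or.inl hi)
    · exact hL i (Or.inr (by push_cast; lia))
  | succ d ih =>
    intro L lo hL hW
    refine hext (tri L (lo + 1)) (tri_distinguished L (lo + 1)) ?_ ?_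
    · -- the sub-complex `σ_{≥ lo + 1} L`
      refine ih (sigmaGE L (lo + 1)) (lo + 1) (fun i hi => ?_) (fun i hi1 hi2 => ?_)
      · rcases hi with hi | hi
        · exact isZero_sigmaGE_X L (lo + 1) i hi
        · exact isZero_sigmaGE_X_of_isZero L (lo + 1) i (hL i (Or.inr (by push_cast; lia)))
      · have := isIso_sigmaGEι_f L (lo + 1) i hi1
        exact hiso _ _ ((DerivedCategory.singleFunctor C i).mapIso
          (asIso ((sigmaGEι L (lo + 1)).f i)).symm) (hW i (by lia) (by push_cast; lia))
    · -- the quotient `σ_{< lo + 1} L`, concentrated in degree `lo`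
      obtain ⟨e⟩ := exists_iso_singleFunctor (sigmaLT L (lo + 1)) lo (fun i hi => by
        rcases lt_or_gt_of_ne hi with h | h
        · exact isZero_sigmaLT_X_of_isZero L (lo + 1) i (hL i (Or.inl h))
        · exact isZero_sigmaLT_X L (lo + 1) i (by lia))
      have := isIso_sigmaLTπ_f L (lo + 1) lo (by lia)
      exact hiso _ _ ((DerivedCategory.singleFunctor C lo).mapIso
        (asIso ((sigmaLTπ L (lo + 1)).f lo)) ≪≫ e.symm) (hW lo le_rfl (by push_cast; lia))

end Devissage

end Groth.Agent.Lib.PCohDevissage
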