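import Groth.Agent.S5599
import Groth.Agent.Lib.PCohDevissage

/-!
# Pseudo-coherence (punctual case): bounded strictly perfect approximations, acyclic objects

Namespace `Groth.Agent.Lib.PCohBdd`.  `NPC` is `Groth.Agent.S5599.NPC`.

* `exists_perfect` : a strictly `m`-pseudo-coherent complex `E` acyclic in degrees `> n`
  (`m ≤ n + 1`) receives an `m`-quasi-isomorphism from a complex with terms in `C₀`, zero outside
  `[m, n]`.
* `isZero_homology_mappingCone_of_nIso` : the cone of an `m`-quasi-isomorphism is acyclic in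
  degrees `≥ m`.
* `NPC.mono`, `npc_of_acyclic`, `npc_of_isZero`.
* `homologyIsoOfQ`, `homologyShiftIso`, `isZero_homology_map_of_acyclic`.
-/

set_option autoImplicit false
universe w v u w' v' u'
open CategoryTheory CategoryTheory.Limits CategoryTheory.Pretriangulated
open PCoh

namespace Groth.Agent.Lib.PCohBdd

open Groth.Agent.S5599

section Complexes

variable {C : Type u} [Category.{v} C] [Abelian C]
  (P : ObjectProperty C) [P.IsClosedUnderIsomorphisms] [P.ContainsZero]

/-- one step of the downward induction, with separate bounds for `E` and `G` -/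
theorem step' (hsum : ∀ X Y : C, P X → P Y → P (X ⨯ Y))
    (hqs : PCoh.IsQuasiStableUnderKernels P) (hql : PCoh.IsQuasiLiftable P)
    (m bF b k : ℤ) (hk : m < k) (hkb : k ≤ b + 1) (E : CochainComplex C ℤ)
    (hEb : ∀ i : ℤ, bF < i → IsZero (E.X i)) (hEP : ∀ i : ℤ, m ≤ i → P (E.X i))
    (G : CochainComplex C ℤ) (w : G ⟶ E) (hGP : ∀ i : ℤ, P (G.X i))
    (hGz : ∀ i : ℤ, i < k ∨ b < i → IsZero (G.X i))
    (hwi : ∀ i : ℤ, k < i → IsIso (HomologicalComplex.homologyMap w i))
    (hwe : Epi (HomologicalComplex.homologyMap w k)) :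
    ∃ (G' : CochainComplex C ℤ) (w' : G' ⟶ E), (∀ i : ℤ, P (G'.X i)) ∧
      (∀ i : ℤ, i < k - 1 ∨ b < i → IsZero (G'.X i)) ∧
      (∀ i : ℤ, k - 1 < i → IsIso (HomologicalComplex.homologyMap w' i)) ∧
      Epi (HomologicalComplex.homologyMap w' (k - 1)) := by
  let K := CochainComplex.mappingCone w
  have hK : PCoh.IsStrictPC P (k - 1) K := by
    refine ⟨⟨max b bF, fun i hi => ?_⟩, fun i hi => ?_⟩
    · rw [CochainComplex.mappingCone.isZero_X_iff]
      exact ⟨hGz _ (Or.inr (by lia)), hEb i (by lia)⟩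
    · exact P.prop_of_iso ((HomologicalComplex.homotopyCofiber.XIsoBiprod w i (i + 1) rfl) ≪≫
        biprod.isoProd _ _).symm (hsum _ _ (hGP (i + 1)) (hEP i (by lia)))
  have hKac : ∀ i : ℤ, k - 1 < i → IsZero (K.homology i) := by
    intro i hi
    apply Groth.Agent.Lib.H43ConeMod.isZero_homology_mappingCone
    · have := hwi (i + 1) (by lia)
      infer_instance
    · rcases (show k ≤ i by lia).lt_or_eq with h | h
      · have := hwi i h
        infer_instance
      · subst h
        exact hwe
  have hKft := Groth.Agent.S5602.result P hqs (k - 1) K hK hKac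
  have hk1 : k - 1 + 1 = k := by lia
  obtain ⟨G', v, w', hvw, hvm, hvi, hvc, hw'i, hw'e⟩ :=
    Groth.Agent.S5628.result P hsum hql (k - 1) G E w
      (fun i hi => hwi i (by lia)) (by rw [hk1]; exact hwe) hKft
  refine ⟨G', w', fun i => ?_, fun i hi => ?_, hw'i, hw'e⟩
  · by_cases hi : i = k - 1
    · subst hi
      have hz : IsZero (G.X (k - 1)) := hGz _ (Or.inl (by lia))
      let e : G'.X (k - 1) ≅ cokernel (v.f (k - 1)) :=
        { hom := cokernel.π _
          inv := cokernel.desc _ (𝟙 _) (hz.eq_of_src _ _)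
          hom_inv_id := by rw [cokernel.π_desc]
          inv_hom_id := by
            rw [← cancel_epi (cokernel.π (v.f (k - 1))), cokernel.π_desc_assoc, Category.id_comp]
            exact (Category.comp_id _).symm }
      exact P.prop_of_iso e.symm hvc
    · have := hvi i hi
      exact P.prop_of_iso (asIso (v.f i)) (hGP i)
  · have hne : i ≠ k - 1 := by lia
    have := hvi i hne
    exact IsZero.of_iso (hGz i (by lia)) (asIso (v.f i)).symm

/-- a strictly `m`-pseudo-coherent complex acyclic in degrees `> n` receives an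
`m`-quasi-isomorphism from a strictly perfect complex concentrated in `[m, n]` -/
theorem exists_perfect (hsum : ∀ X Y : C, P X → P Y → P (X ⨯ Y))
    (hqs : PCoh.IsQuasiStableUnderKernels P) (hql : PCoh.IsQuasiLiftable P)
    (m n : ℤ) (hmn : m ≤ n + 1) (E : CochainComplex C ℤ) (hE : PCoh.IsStrictPC P m E)
    (hac : ∀ i : ℤ, n < i → IsZero (E.homology i)) :
    ∃ (G : CochainComplex C ℤ) (w : G ⟶ E), (∀ i : ℤ, P (G.X i)) ∧
      (∀ i : ℤ, i < m ∨ n < i → IsZero (G.X i)) ∧
      (∀ i : ℤ, m < i → IsIso (HomologicalComplex.homologyMap w i)) ∧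
      Epi (HomologicalComplex.homologyMap w m) := by
  obtain ⟨⟨bF, hEb⟩, hEP⟩ := hE
  have key : ∀ (d : ℕ) (k : ℤ), k = n + 1 - d → m ≤ k →
      ∃ (G : CochainComplex C ℤ) (w : G ⟶ E), (∀ i : ℤ, P (G.X i)) ∧
        (∀ i : ℤ, i < k ∨ n < i → IsZero (G.X i)) ∧
        (∀ i : ℤ, k < i → IsIso (HomologicalComplex.homologyMap w i)) ∧
        Epi (HomologicalComplex.homologyMap w k) := by
    intro d
    induction d with
    | zero =>
      intro k hk _
      obtain ⟨Z, hZ⟩ := HasZeroObject.zero (C := CochainComplex C ℤ)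
      have hzX : ∀ i : ℤ, IsZero (Z.X i) := fun i =>
        (HomologicalComplex.eval C (ComplexShape.up ℤ) i).map_isZero hZ
      have hzH : ∀ i : ℤ, IsZero (Z.homology i) := fun i => by
        rw [← HomologicalComplex.exactAt_iff_isZero_homology]
        exact HomologicalComplex.ExactAt.of_isZero (hzX i)
      refine ⟨Z, 0, fun i => P.prop_of_isZero (hzX i), fun i _ => hzX i, fun i hi => ?_, ?_⟩
      · have h2 : IsZero (E.homology i) := hac i (by push_cast at hk; lia)
        exact ⟨0, (hzH i).eq_of_src _ _, h2.eq_of_src _ _⟩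
      · have h2 : IsZero (E.homology k) := hac k (by push_cast at hk; lia)
        exact ⟨fun a c _ => h2.eq_of_src a c⟩
    | succ d ih =>
      intro k hk hnk
      obtain ⟨G, w, hGP, hGz, hwi, hwe⟩ := ih (k + 1) (by push_cast at hk ⊢; lia) (by lia)
      have := step' P hsum hqs hql m bF n (k + 1) (by lia) (by push_cast at hk; lia) E hEb hEP G w hGP hGz hwi hwe
      have hk1 : k + 1 - 1 = k := by lia
      rw [hk1] at this
      exact this
  exact key (n + 1 - m).toNat m (by rw [Int.toNat_of_nonneg (by lia)]; lia) le_rfl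

/-- the cone of an `m`-quasi-isomorphism is acyclic in degrees `≥ m` -/
theorem isZero_homology_mappingCone_of_nIso {G E : CochainComplex C ℤ} (w : G ⟶ E) (m : ℤ)
    (hwi : ∀ i : ℤ, m < i → IsIso (HomologicalComplex.homologyMap w i))
    (hwe : Epi (HomologicalComplex.homologyMap w m)) (i : ℤ) (hi : m ≤ i) :
    IsZero ((CochainComplex.mappingCone w).homology i) := by
  apply Groth.Agent.Lib.H43ConeMod.isZero_homology_mappingCone
  · have := hwi (i + 1) (by lia)
    infer_instance
  · rcases hi.lt_or_eq with h | h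
    · have := hwi i h
      infer_instance
    · subst h
      exact hwe

end Complexes

section Derived

variable {C : Type u} [Category.{v} C] [Abelian C] [HasDerivedCategory.{w} C]
  {P : ObjectProperty C}

lemma NPC.mono {n n' : ℤ} {X : DerivedCategory C} (h : NPC P n X) (hn : n ≤ n') :
    NPC P n' X := by
  obtain ⟨E, ⟨hb, hP⟩, e⟩ := h
  exact ⟨E, ⟨hb, fun i hi => hP i (by lia)⟩, e⟩

/-- `H^i (Q E) ≅ H^i(E)` -/
noncomputable def homologyIsoOfQ (E : CochainComplex C ℤ) (i : ℤ) :
    (DerivedCategory.homologyFunctor C i).obj (DerivedCategory.Q.obj E) ≅ E.homology i :=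
  (DerivedCategory.homologyFunctorFactors C i).app E

/-- `H^i (X[k]) ≅ H^{i+k}(X)` -/
noncomputable def homologyShiftIso (X : DerivedCategory C) (k i j : ℤ) (h : k + i = j) :
    (DerivedCategory.homologyFunctor C i).obj (X⟦k⟧) ≅ (DerivedCategory.homologyFunctor C j).obj X :=
  ((DerivedCategory.homologyFunctor C 0).shiftIso k i j h).app X

variable [P.IsClosedUnderIsomorphisms] [P.ContainsZero]

/-- an object acyclic in degrees `> k` is `(k+1)`-pseudo-coherent -/
lemma npc_of_acyclic (k : ℤ) (X : DerivedCategory C)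
    (h : ∀ i : ℤ, k < i → IsZero ((DerivedCategory.homologyFunctor C i).obj X)) :
    NPC P (k + 1) X := by
  let E₀ : CochainComplex C ℤ := DerivedCategory.Q.objPreimage X
  let e : DerivedCategory.Q.obj E₀ ≅ X := DerivedCategory.Q.objObjPreimageIso X
  have hLE : E₀.IsLE k := by
    rw [CochainComplex.isLE_iff]
    intro i hi
    rw [HomologicalComplex.exactAt_iff_isZero_homology]
    exact IsZero.of_iso (h i hi)
      ((homologyIsoOfQ E₀ i).symm ≪≫ (DerivedCategory.homologyFunctor C i).mapIso e)
  have hq : QuasiIso (E₀.ιTruncLE k) := inferInstance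
  have : IsIso (DerivedCategory.Q.map (E₀.ιTruncLE k)) := by
    rw [DerivedCategory.isIso_Q_map_iff_quasiIso]
    exact hq
  have hz : ∀ i : ℤ, k < i → IsZero ((E₀.truncLE k).X i) :=
    fun i hi => (E₀.truncLE k).isZero_of_isStrictlyLE k i hi
  exact ⟨E₀.truncLE k, ⟨⟨k, hz⟩, fun i hi => P.prop_of_isZero (hz i (by lia))⟩,
    ⟨asIso (DerivedCategory.Q.map (E₀.ιTruncLE k)) ≪≫ e⟩⟩

lemma npc_of_isZero (n : ℤ) (X : DerivedCategory C) (h : IsZero X) : NPC P n X := by
  have := npc_of_acyclic (P := P) (n - 1) X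
    (fun i _ => (DerivedCategory.homologyFunctor C i).map_isZero h)
  rw [show n - 1 + 1 = n by lia] at this
  exact this

end Derived

section Functor

variable {C : Type u} [Category.{v} C] [Abelian C] [HasDerivedCategory.{w} C]
  {C' : Type u'} [Category.{v'} C'] [Abelian C'] [HasDerivedCategory.{w'} C']
  (u : DerivedCategory C ⥤ DerivedCategory C') [u.CommShift ℤ]

/-- a functor commuting with shifts, of cohomological dimension `≤ b` on objects acyclic in
degrees `> 0`, has it on objects acyclic in degrees `> n` -/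
lemma isZero_homology_map_of_acyclic (b : ℤ)
    (hii : ∀ F : DerivedCategory C,
      (∀ i : ℤ, 0 < i → IsZero ((DerivedCategory.homologyFunctor C i).obj F)) →
      ∀ i : ℤ, b < i → IsZero ((DerivedCategory.homologyFunctor C' i).obj (u.obj F)))
    (n : ℤ) (F : DerivedCategory C)
    (hac : ∀ i : ℤ, n < i → IsZero ((DerivedCategory.homologyFunctor C i).obj F))
    (i : ℤ) (hi : n + b < i) :
    IsZero ((DerivedCategory.homologyFunctor C' i).obj (u.obj F)) := by
  have h1 : ∀ j : ℤ, 0 < j → IsZero ((DerivedCategory.homologyFunctor C j).obj (F⟦n⟧)) :=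
    fun j hj => IsZero.of_iso (hac (n + j) (by lia)) (homologyShiftIso F n j (n + j) rfl)
  have h2 := hii (F⟦n⟧) h1 (i - n) (by lia)
  have e1 : (DerivedCategory.homologyFunctor C' (i - n)).obj (u.obj (F⟦n⟧)) ≅
      (DerivedCategory.homologyFunctor C' (i - n)).obj ((u.obj F)⟦n⟧) :=
    (DerivedCategory.homologyFunctor C' (i - n)).mapIso ((u.commShiftIso n).app F)
  exact IsZero.of_iso h2
    ((homologyShiftIso (u.obj F) n (i - n) i (by lia)).symm ≪≫ e1.symm)

end Functor

end Groth.Agent.Lib.PCohBdd
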