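import Groth.Agent.Lib.PCohD2
import Groth.Agent.S5602
import Mathlib.Algebra.Homology.Embedding.ExtendHomology
import Mathlib.Algebra.Homology.DerivedCategory.FullyFaithful

/-!
# Finite type from pseudo-coherence; intermediate classes (SGA6 I, punctual case)

Namespace `Groth.Agent.Lib.PCohD`.

* `isOfFiniteType_of_iso`.
* `isOfFiniteType_of_isNPC_single`: if `X[0]` is `0`-pseudo-coherent then `X` is of finite type.
* `isQuasiLiftable_of_le`, `isQuasiStableUnderKernels_of_le`: for `P ≤ P₁` with every object of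
  `P₁` `P`-pseudo-coherent (`S5606`).
-/

set_option autoImplicit false
universe w v u

open CategoryTheory CategoryTheory.Limits Category Pretriangulated

namespace Groth.Agent.Lib.PCohD

variable {C : Type u} [Category.{v} C] [Abelian C]
  {P : ObjectProperty C}

lemma isOfFiniteType_of_iso {X Y : C} (e : X ≅ Y) (h : PCoh.IsOfFiniteType P X) :
    PCoh.IsOfFiniteType P Y := by
  obtain ⟨E, π, hE, _⟩ := h
  exact ⟨E, π ≫ e.hom, hE, inferInstance⟩

lemma isOfFiniteType_of_le {P₁ : ObjectProperty C} (hle : ∀ X : C, P X → P₁ X) {X : C}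
    (h : PCoh.IsOfFiniteType P X) : PCoh.IsOfFiniteType P₁ X := by
  obtain ⟨E, π, hE, h⟩ := h
  exact ⟨E, π, hle _ hE, h⟩

variable [HasDerivedCategory.{w} C]

open DerivedCategory

theorem isOfFiniteType_of_isNPC_single [P.IsClosedUnderIsomorphisms]
    (hqs : PCoh.IsQuasiStableUnderKernels P) (X : C)
    (h : IsNPC P 0 ((singleFunctor C 0).obj X)) : PCoh.IsOfFiniteType P X := by
  obtain ⟨E, hE, ⟨e⟩⟩ := h
  have iso : ∀ i : ℤ, E.homology i ≅ (homologyFunctor C i).obj ((singleFunctor C 0).obj X) :=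
    fun i => ((homologyFunctorFactors C i).app E).symm ≪≫ (homologyFunctor C i).mapIso e
  have hac : ∀ i : ℤ, 0 < i → IsZero (E.homology i) := fun i hi =>
    (isZero_of_isLE ((singleFunctor C 0).obj X) 0 i hi).of_iso (iso i)
  exact isOfFiniteType_of_iso (iso 0 ≪≫ (singleFunctorCompHomologyFunctorIso C 0).app X)
    (Groth.Agent.S5602.result P hqs 0 E hE hac)

section Intermediate

variable [P.IsClosedUnderIsomorphisms] [P.ContainsZero]
  (hqs : PCoh.IsQuasiStableUnderKernels P) (hql : PCoh.IsQuasiLiftable P)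
  (P₁ : ObjectProperty C) [P₁.IsClosedUnderIsomorphisms] [P₁.ContainsZero]
  (hle : ∀ X : C, P X → P₁ X)
  (hpc : ∀ X : C, P₁ X → PCoh.IsPC P ((DerivedCategory.singleFunctor C 0).obj X))

include hqs hql hle hpc

theorem isQuasiLiftable_of_le : PCoh.IsQuasiLiftable P₁ := by
  intro E F u hu hF
  obtain ⟨P₀, π, hP₀, hπ⟩ := isOfFiniteType_of_isNPC_single hqs F (hpc F hF 0)
  obtain ⟨F', v, hF', hv⟩ := hql _ _ (pullback.snd u π) inferInstance hP₀
  refine ⟨F', v ≫ pullback.fst u π, hle _ hF', ?_⟩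
  rw [assoc, pullback.condition, ← assoc]
  infer_instance

theorem isQuasiStableUnderKernels_of_le (h23 : TwoOfThree P) :
    PCoh.IsQuasiStableUnderKernels P₁ := by
  intro K hK ⟨N, hN⟩ hP₁
  let e := ComplexShape.embeddingUpNat
  let K' : CochainComplex C ℤ := K.extend e
  have hX : ∀ j : ℕ, K'.X (j : ℤ) ≅ K.X j := fun j => K.extendXIso e rfl
  have hneg : ∀ i : ℤ, i < 0 → IsZero (K'.X i) := fun i hi =>
    K.isZero_extend_X e i (fun j hj => by
      have : (j : ℤ) = i := hj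
      lia)
  have hex : ∀ i : ℤ, K'.ExactAt i := by
    intro i
    by_cases hi : 0 ≤ i
    · obtain ⟨j, rfl⟩ := Int.eq_ofNat_of_zero_le hi
      exact (K.extend_exactAt_iff e (j := j) rfl).mpr (hK j)
    · exact HomologicalComplex.ExactAt.of_isZero (hneg i (by lia))
  obtain ⟨K'', T, hT, ⟨e₁⟩, ⟨e₂⟩, ⟨e₃⟩, h0, hiso⟩ :=
    Groth.Agent.Lib.DPeelTop.exists_peel_bottom K' 0 hneg
  -- all terms of `K''` are in `P₁`
  have hK'' : ∀ i : ℤ, P₁ (K''.X i) := by
    intro i
    by_cases hi : 0 < i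
    · obtain ⟨j, rfl⟩ := Int.eq_ofNat_of_zero_le hi.le
      obtain ⟨e'⟩ := hiso _ hi
      exact P₁.prop_of_iso (e' ≪≫ hX j).symm (hP₁ j (by lia))
    · exact P₁.prop_of_isZero (h0 i (by lia))
  have hb : ∀ i : ℤ, (N : ℤ) < i → IsZero (K''.X i) := by
    intro i hi
    obtain ⟨j, rfl⟩ := Int.eq_ofNat_of_zero_le (show 0 ≤ i by lia)
    obtain ⟨e'⟩ := hiso (j : ℤ) (by lia)
    exact (hN j (by lia)).of_iso (e' ≪≫ hX j)
  have h1 : IsNPC P 1 (Q.obj K'') :=
    termwise h23 1 K'' N hb (fun i _ => hpc _ (hK'' i) (1 - i))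
  have h2 : IsNPC P 0 (Q.obj K') := by
    apply isNPC_of_isZero_homology
    intro i _
    exact ((HomologicalComplex.exactAt_iff_isZero_homology _ _).mp (hex i)).of_iso
      ((homologyFunctorFactors C i).app K')
  have h3 : IsNPC P 0 T.obj₃ :=
    cone h23 T hT (isNPC_of_iso e₁.symm h1) (isNPC_of_iso e₂.symm h2)
  exact isOfFiniteType_of_le hle (isOfFiniteType_of_iso (hX 0)
    (isOfFiniteType_of_isNPC_single hqs _ (isNPC_of_iso e₃ h3)))

end Intermediate

end Groth.Agent.Lib.PCohD
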