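import Groth.Agent.S5620
import Groth.Agent.Lib.PCohBdd
import Mathlib.Algebra.Homology.SingleHomology

/-!
# Descent of pseudo-coherence along a t-exact triangulated functor

Namespace `Groth.Agent.Lib.PCohDescent`.  (`NPC` is `Groth.Agent.S5599.NPC`.)

* `npc_singleFunctor` : `E[-n]` is `m`-pseudo-coherent for every `m`, `E ∈ C₀`.
* `exists_single_epi` : if `X` is acyclic in degrees `> n` and `H^n X` is of `C₀`-finite type,
  there is `g : F'[-n] ⟶ X` with `F' ∈ C₀` inducing an epimorphism on `H^n`.
* `isZero_homology_cone` : the cone of such a `g` is acyclic in degrees `≥ n`.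
* `descent` : let `U : D(C) ⥤ D(C')` be triangulated, right t-exact (`H^i X = 0 → H^i (U X) = 0`),
  such that `U (E[0])` is pseudo-coherent for `E ∈ C₀` and `U` detects finite type of the top
  cohomology.  If `X` is bounded above and `U X` is `m`-pseudo-coherent, so is `X`.
-/

set_option autoImplicit false
universe w v u w' v' u'
open CategoryTheory CategoryTheory.Limits CategoryTheory.Pretriangulated
open PCoh

namespace Groth.Agent.Lib.PCohDescent

open Groth.Agent.S5599 Groth.Agent.Lib.PCohBdd Groth.Agent.Lib.PCohStupid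

section Single

variable {C : Type u} [Category.{v} C] [Abelian C] [HasDerivedCategory.{w} C]
  {P : ObjectProperty C} [P.IsClosedUnderIsomorphisms] [P.ContainsZero]

/-- `E[-n]` is `m`-pseudo-coherent for `E ∈ C₀` -/
lemma npc_singleFunctor (E : C) (hE : P E) (n m : ℤ) :
    NPC P m ((DerivedCategory.singleFunctor C n).obj E) := by
  refine ⟨(HomologicalComplex.single C (ComplexShape.up ℤ) n).obj E,
    ⟨⟨n, fun i hi => ?_⟩, fun i _ => ?_⟩, ⟨Iso.refl _⟩⟩
  · exact HomologicalComplex.isZero_single_obj_X _ _ _ _ (by lia)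
  · by_cases hi : i = n
    · subst hi
      exact P.prop_of_iso (HomologicalComplex.singleObjXSelf (ComplexShape.up ℤ) i E).symm hE
    · exact P.prop_of_isZero (HomologicalComplex.isZero_single_obj_X _ _ _ _ hi)

omit [P.IsClosedUnderIsomorphisms] [P.ContainsZero] in
/-- lifting a `C₀`-finite-type presentation of the top cohomology to a morphism of `D(C)` -/
lemma exists_single_epi (hql : PCoh.IsQuasiLiftable P) (n : ℤ) (X : DerivedCategory C)
    (hX : ∀ i : ℤ, n < i → IsZero ((DerivedCategory.homologyFunctor C i).obj X))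
    (hft : PCoh.IsOfFiniteType P ((DerivedCategory.homologyFunctor C n).obj X)) :
    ∃ (F' : C) (g : (DerivedCategory.singleFunctor C n).obj F' ⟶ X), P F' ∧
      Epi ((DerivedCategory.homologyFunctor C n).map g) := by
  obtain ⟨E, π, hE, hπ⟩ := hft
  let X₀ : CochainComplex C ℤ := DerivedCategory.Q.objPreimage X
  let e : DerivedCategory.Q.obj X₀ ≅ X := DerivedCategory.Q.objObjPreimageIso X
  have hLE : X₀.IsLE n := by
    rw [CochainComplex.isLE_iff]
    intro i hi
    rw [HomologicalComplex.exactAt_iff_isZero_homology]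
    exact IsZero.of_iso (hX i hi)
      ((homologyIsoOfQ X₀ i).symm ≪≫ (DerivedCategory.homologyFunctor C i).mapIso e)
  have hq : QuasiIso (X₀.ιTruncLE n) := inferInstance
  have : IsIso (DerivedCategory.Q.map (X₀.ιTruncLE n)) := by
    rw [DerivedCategory.isIso_Q_map_iff_quasiIso]
    exact hq
  let K₀ : CochainComplex C ℤ := X₀.truncLE n
  let e₀ : DerivedCategory.Q.obj K₀ ≅ X := asIso (DerivedCategory.Q.map (X₀.ιTruncLE n)) ≪≫ e
  have hz : IsZero (K₀.X (n + 1)) := K₀.isZero_of_isStrictlyLE n (n + 1) (by lia)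
  let eH : (DerivedCategory.homologyFunctor C n).obj X ≅ K₀.homology n :=
    (DerivedCategory.homologyFunctor C n).mapIso e₀.symm ≪≫ homologyIsoOfQ K₀ n
  let π' : E ⟶ K₀.homology n := π ≫ eH.hom
  have hπ' : Epi π' := epi_comp _ _
  have hfst : Epi (pullback.fst π' (K₀.homologyπ n)) := inferInstance
  obtain ⟨F', v, hF', hv⟩ := hql _ _ (pullback.fst π' (K₀.homologyπ n)) hfst hE
  let φ : F' ⟶ K₀.X n := v ≫ pullback.snd π' (K₀.homologyπ n) ≫ K₀.iCycles n
  let S : CochainComplex C ℤ := (HomologicalComplex.single C (ComplexShape.up ℤ) n).obj F'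
  let g₀ : S ⟶ K₀ := HomologicalComplex.mkHomFromSingle φ (fun j hj => by
    simp [φ])
  have hg₀ : Epi (HomologicalComplex.homologyMap g₀ n) := by
    have h1 := HomologicalComplex.homologyπ_naturality g₀ n
    have h2 : (HomologicalComplex.singleObjCyclesSelfIso (ComplexShape.up ℤ) n F').inv ≫
        HomologicalComplex.cyclesMap g₀ n = v ≫ pullback.snd π' (K₀.homologyπ n) := by
      rw [← cancel_mono (K₀.iCycles n), Category.assoc, HomologicalComplex.cyclesMap_i,
        HomologicalComplex.mkHomFromSingle_f]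
      simp [φ, S]
    have h3 : Epi ((HomologicalComplex.singleObjCyclesSelfIso (ComplexShape.up ℤ) n F').inv ≫
        S.homologyπ n ≫ HomologicalComplex.homologyMap g₀ n) := by
      rw [h1, reassoc_of% h2, ← pullback.condition, ← Category.assoc]
      exact epi_comp _ _
    have h4 : Epi (S.homologyπ n ≫ HomologicalComplex.homologyMap g₀ n) :=
      epi_of_epi (HomologicalComplex.singleObjCyclesSelfIso (ComplexShape.up ℤ) n F').inv _
    exact epi_of_epi (S.homologyπ n) _
  refine ⟨F', DerivedCategory.Q.map g₀ ≫ e₀.hom, hF', ?_⟩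
  rw [Functor.map_comp]
  have h5 : Epi ((DerivedCategory.homologyFunctor C n).map (DerivedCategory.Q.map g₀)) :=
    (epi_homologyFunctor_map_Q_iff g₀ n).2 hg₀
  exact @epi_comp _ _ _ _ _ _ h5 _ inferInstance

/-- the cone of a morphism `F'[-n] ⟶ X` surjective on `H^n`, `X` acyclic in degrees `> n`, is
acyclic in degrees `≥ n` -/
lemma isZero_homology_cone (n : ℤ) (T : Triangle (DerivedCategory C))
    (hT : T ∈ distTriang (DerivedCategory C)) (F' : C)
    (e₁ : T.obj₁ ≅ (DerivedCategory.singleFunctor C n).obj F')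
    (hX : ∀ i : ℤ, n < i → IsZero ((DerivedCategory.homologyFunctor C i).obj T.obj₂))
    (hepi : Epi ((DerivedCategory.homologyFunctor C n).map T.mor₁))
    (i : ℤ) (hi : n ≤ i) : IsZero ((DerivedCategory.homologyFunctor C i).obj T.obj₃) := by
  have hex := (DerivedCategory.homologyFunctor C 0).homologySequence_exact₃ T hT i (i + 1) rfl
  refine hex.isZero_X₂ ?_ ?_
  · -- `H^i(mor₂) = 0`
    change (DerivedCategory.homologyFunctor C i).map T.mor₂ = 0
    rcases hi.lt_or_eq with h | h
    · exact (hX i h).eq_of_src _ _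
    · subst h
      rw [← cancel_epi ((DerivedCategory.homologyFunctor C n).map T.mor₁), ← Functor.map_comp,
        comp_distTriang_mor_zero₁₂ _ hT, Functor.map_zero, comp_zero]
  · -- the connecting map lands in `H^{i+1}(F'[-n]) = 0`
    have hz : IsZero ((DerivedCategory.homologyFunctor C (i + 1)).obj T.obj₁) :=
      IsZero.of_iso (DerivedCategory.isZero_of_isLE _ n (i + 1) (by lia))
        ((DerivedCategory.homologyFunctor C (i + 1)).mapIso e₁)
    exact hz.eq_of_tgt _ _

end Single

section Descent

variable {C : Type u} [Category.{v} C] [Abelian C] [HasDerivedCategory.{w} C]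
  (P : ObjectProperty C) [P.IsClosedUnderIsomorphisms] [P.ContainsZero]
  {C' : Type u'} [Category.{v'} C'] [Abelian C'] [HasDerivedCategory.{w'} C']
  (P' : ObjectProperty C') [P'.IsClosedUnderIsomorphisms] [P'.ContainsZero]
  (U : DerivedCategory C ⥤ DerivedCategory C') [U.CommShift ℤ] [U.IsTriangulated]

/-- descent of `m`-pseudo-coherence along `U` -/
theorem descent (hsum : ∀ X Y : C, P X → P Y → P (X ⨯ Y))
    (hqs : PCoh.IsQuasiStableUnderKernels P) (hql : PCoh.IsQuasiLiftable P)
    (hsum' : ∀ X Y : C', P' X → P' Y → P' (X ⨯ Y))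
    (hqs' : PCoh.IsQuasiStableUnderKernels P') (hql' : PCoh.IsQuasiLiftable P')
    (hexact : ∀ (X : DerivedCategory C) (i : ℤ),
      IsZero ((DerivedCategory.homologyFunctor C i).obj X) →
      IsZero ((DerivedCategory.homologyFunctor C' i).obj (U.obj X)))
    (hPC : ∀ E : C, P E → ∀ a : ℤ,
      NPC P' a (U.obj ((DerivedCategory.singleFunctor C 0).obj E)))
    (hft : ∀ (X : DerivedCategory C) (n : ℤ),
      PCoh.IsOfFiniteType P' ((DerivedCategory.homologyFunctor C' n).obj (U.obj X)) →
      PCoh.IsOfFiniteType P ((DerivedCategory.homologyFunctor C n).obj X))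
    (m : ℤ) (d : ℕ) : ∀ (n : ℤ) (X : DerivedCategory C), n < m + d →
      (∀ i : ℤ, n < i → IsZero ((DerivedCategory.homologyFunctor C i).obj X)) →
      NPC P' m (U.obj X) → NPC P m X := by
  induction d with
  | zero =>
    intro n X hn hX _
    exact Groth.Agent.Lib.PCohBdd.NPC.mono (npc_of_acyclic (P := P) n X hX)
      (by push_cast at hn; lia)
  | succ d ih =>
    intro n X hn hX hU
    by_cases hnd : n < m + d
    · exact ih n X hnd hX hU
    · have hmn : m ≤ n := by lia
      -- `H^n (U X)` is of finite type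
      have hUac : ∀ i : ℤ, n < i →
          IsZero ((DerivedCategory.homologyFunctor C' i).obj (U.obj X)) :=
        fun i hi => hexact X i (hX i hi)
      have hft' : PCoh.IsOfFiniteType P' ((DerivedCategory.homologyFunctor C' n).obj (U.obj X)) := by
        obtain ⟨E', hE', ⟨e'⟩⟩ := hU
        have hE'n : PCoh.IsStrictPC P' n E' := ⟨hE'.1, fun i hi => hE'.2 i (by lia)⟩
        have hE'ac : ∀ i : ℤ, n < i → IsZero (E'.homology i) := fun i hi =>
          IsZero.of_iso (hUac i hi)
            ((homologyIsoOfQ E' i).symm ≪≫ (DerivedCategory.homologyFunctor C' i).mapIso e')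
        obtain ⟨P₀, π₀, hP₀, hπ₀⟩ := Groth.Agent.S5602.result P' hqs' n E' hE'n hE'ac
        exact ⟨P₀, π₀ ≫ ((homologyIsoOfQ E' n).symm ≪≫
          (DerivedCategory.homologyFunctor C' n).mapIso e').hom, hP₀, epi_comp _ _⟩
      obtain ⟨F', g, hF', hg⟩ := exists_single_epi hql n X hX (hft X n hft')
      obtain ⟨L, f, h, hT⟩ := distinguished_cocone_triangle g
      have hLac : ∀ i : ℤ, n - 1 < i → IsZero ((DerivedCategory.homologyFunctor C i).obj L) :=
        fun i hi => isZero_homology_cone n _ hT F' (Iso.refl _) hX hg i (by lia)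
      -- `U L` is `m`-pseudo-coherent
      have hUS : NPC P' (m + 1) (U.obj ((DerivedCategory.singleFunctor C n).obj F')) := by
        have := Groth.Agent.S5620.npc_single P' U (m + 1 - n) F' (hPC F' hF' _) n
        rw [show m + 1 - n + n = m + 1 by lia] at this
        exact this
      have hUL : NPC P' m (U.obj L) :=
        (Groth.Agent.S5599.result P' hsum' hqs' hql' m (U.mapTriangle.obj (Triangle.mk g f h))
          (U.map_distinguished _ hT)).1 hUS hU
      have hL : NPC P m L := ih (n - 1) L (by push_cast at hn; lia) hLac hUL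
      exact (Groth.Agent.S5599.result P hsum hqs hql m (Triangle.mk g f h) hT).2.1
        (npc_singleFunctor F' hF' n m) hL

end Descent

end Groth.Agent.Lib.PCohDescent
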