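import Groth.Prelude.Def_PCoh
import Groth.Prelude.Def_DRing2
import Mathlib.Algebra.Homology.ShortComplex.ModuleCat
import Mathlib.Algebra.Category.ModuleCat.Biproducts
import Mathlib.Algebra.Category.ModuleCat.Projective
import Mathlib.Algebra.Category.ModuleCat.EpiMono
import Mathlib.RingTheory.Finiteness.Prod
import Mathlib.LinearAlgebra.Basis.Prod

/-!
# Finite free modules over a (not necessarily commutative) ring satisfy the `PCoh` hypotheses

Namespace `Groth.Agent.Lib.PCohFFRing`.  This is helper21's `Lib/DRingPCoh21` (first part) with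
`CommRing` replaced by `Ring`; `FF A` here is definitionally the same predicate as
`Groth.Agent.Lib.DRingPCoh21.FF A` when `A` is commutative.
-/

set_option autoImplicit false
universe u

open CategoryTheory CategoryTheory.Limits

namespace Groth.Agent.Lib.PCohFFRing

variable (A : Type u) [Ring A]

/-- finite free modules -/
def FF : ObjectProperty (ModuleCat.{u} A) := fun M => Module.Finite A M ∧ Module.Free A M

/-- finite projective modules -/
def FP : ObjectProperty (ModuleCat.{u} A) := fun M => Module.Finite A M ∧ Module.Projective A M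

instance : (FF A).IsClosedUnderIsomorphisms where
  of_iso {X Y} e h := by
    obtain ⟨h1, h2⟩ := h
    exact ⟨Module.Finite.equiv e.toLinearEquiv, Module.Free.of_equiv e.toLinearEquiv⟩

instance : (FP A).IsClosedUnderIsomorphisms where
  of_iso {X Y} e h := by
    obtain ⟨h1, h2⟩ := h
    exact ⟨Module.Finite.equiv e.toLinearEquiv, Module.Projective.of_equiv e.toLinearEquiv⟩

lemma ff_of_subsingleton (M : ModuleCat.{u} A) [Subsingleton M] : FF A M :=
  ⟨inferInstance, inferInstance⟩

instance : (FF A).ContainsZero where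
  exists_zero := ⟨ModuleCat.of A PUnit, ModuleCat.isZero_of_subsingleton _,
    ff_of_subsingleton A _⟩

instance : (FP A).ContainsZero where
  exists_zero := ⟨ModuleCat.of A PUnit, ModuleCat.isZero_of_subsingleton _,
    ⟨inferInstance, inferInstance⟩⟩

lemma ff_le_fp (M : ModuleCat.{u} A) (h : FF A M) : FP A M := by
  obtain ⟨h1, h2⟩ := h
  exact ⟨h1, Module.Projective.of_free⟩

lemma ff_prod (X Y : ModuleCat.{u} A) (hX : FF A X) (hY : FF A Y) : FF A (X ⨯ Y) := by
  obtain ⟨h1, h2⟩ := hX
  obtain ⟨h3, h4⟩ := hY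
  have : FF A (ModuleCat.of A (X × Y)) := by
    have e1 : Module.Finite A (X × Y) := Module.Finite.prod
    have e2 : Module.Free A (X × Y) := Module.Free.prod A X Y
    exact ⟨e1, e2⟩
  exact (FF A).prop_of_iso ((ModuleCat.biprodIsoProd X Y).symm ≪≫ biprod.isoProd X Y) this

lemma fp_prod (X Y : ModuleCat.{u} A) (hX : FP A X) (hY : FP A Y) : FP A (X ⨯ Y) := by
  obtain ⟨h1, h2⟩ := hX
  obtain ⟨h3, h4⟩ := hY
  have : FP A (ModuleCat.of A (X × Y)) := by
    have e1 : Module.Finite A (X × Y) := Module.Finite.prod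
    have e2 : Module.Projective A (X × Y) := inferInstance
    exact ⟨e1, e2⟩
  exact (FP A).prop_of_iso ((ModuleCat.biprodIsoProd X Y).symm ≪≫ biprod.isoProd X Y) this

lemma ff_quasiLiftable : PCoh.IsQuasiLiftable (FF A) := by
  intro E F u hu hF
  obtain ⟨h1, h2⟩ := hF
  have hp : Module.Projective A F := Module.Projective.of_free
  have : Projective F := ModuleCat.projective_of_categoryTheory_projective F
  refine ⟨F, Projective.factorThru (𝟙 F) u, ⟨h1, h2⟩, ?_⟩
  rw [Projective.factorThru_comp]
  infer_instance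

lemma isOfFiniteType_iff (M : ModuleCat.{u} A) :
    PCoh.IsOfFiniteType (FF A) M ↔ Module.Finite A M := by
  constructor
  · rintro ⟨E, π, ⟨h1, h2⟩, hπ⟩
    exact Module.Finite.of_surjective π.hom ((ModuleCat.epi_iff_surjective π).1 hπ)
  · intro h
    obtain ⟨n, f, hf⟩ := Module.Finite.exists_fin' A M
    refine ⟨ModuleCat.of A (Fin n → A), ModuleCat.ofHom f,
      ⟨inferInstanceAs (Module.Finite A (Fin n → A)),
        inferInstanceAs (Module.Free A (Fin n → A))⟩, ?_⟩
    rw [ModuleCat.epi_iff_surjective]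
    exact hf

section QuasiStable

variable {A}

/-- the kernel of a linear map onto (the kernel being) a projective module is a direct summand -/
lemma fp_ker_of_exact {M N L : Type u} [AddCommGroup M] [Module A M] [AddCommGroup N] [Module A N]
    [AddCommGroup L] [Module A L] (f : M →ₗ[A] N) (g : N →ₗ[A] L) (hfg : Function.Exact f g)
    (hM1 : Module.Finite A M) (hM2 : Module.Projective A M)
    (hK : Module.Projective A (LinearMap.ker g)) :
    Module.Finite A (LinearMap.ker f) ∧ Module.Projective A (LinearMap.ker f) := by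
  have hmem : ∀ x : M, f x ∈ LinearMap.ker g := fun x => by
    rw [LinearMap.mem_ker]
    exact hfg.apply_apply_eq_zero x
  let f' : M →ₗ[A] LinearMap.ker g := LinearMap.codRestrict (LinearMap.ker g) f hmem
  have hf' : Function.Surjective f' := by
    rintro ⟨y, hy⟩
    obtain ⟨x, hx⟩ := (hfg y).1 (LinearMap.mem_ker.1 hy)
    exact ⟨x, Subtype.ext hx⟩
  obtain ⟨s, hs⟩ := Module.projective_lifting_property f' LinearMap.id hf'
  have hs' : ∀ z : LinearMap.ker g, f (s z) = z.1 := fun z => by
    have := LinearMap.congr_fun hs z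
    exact congrArg Subtype.val this
  let q : M →ₗ[A] M := LinearMap.id - s.comp f'
  have hq : ∀ x : M, q x ∈ LinearMap.ker f := fun x => by
    rw [LinearMap.mem_ker]
    change f (x - s (f' x)) = 0
    rw [map_sub, hs' (f' x)]
    exact sub_self _
  let p : M →ₗ[A] LinearMap.ker f := LinearMap.codRestrict (LinearMap.ker f) q hq
  have hp : p.comp (LinearMap.ker f).subtype = LinearMap.id := by
    ext ⟨x, hx⟩
    change x - s (f' x) = x
    have : f' x = 0 := Subtype.ext (LinearMap.mem_ker.1 hx)
    rw [this, map_zero, sub_zero]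
  have hsurj : Function.Surjective p := fun z => ⟨z.1, LinearMap.congr_fun hp z⟩
  exact ⟨Module.Finite.of_surjective p hsurj,
    Module.Projective.of_split (LinearMap.ker f).subtype p hp⟩

lemma exact_of_exactAt (K : CochainComplex (ModuleCat.{u} A) ℕ) (i : ℕ) (h : K.ExactAt (i + 1)) :
    Function.Exact (K.d i (i + 1)).hom (K.d (i + 1) (i + 2)).hom := by
  rw [HomologicalComplex.exactAt_iff' K i (i + 1) (i + 2) (by simp) (by simp)] at h
  exact (ShortComplex.ShortExact.moduleCat_exact_iff_function_exact _).1 h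

lemma fp_ker_d (K : CochainComplex (ModuleCat.{u} A) ℕ) (hex : ∀ i : ℕ, K.ExactAt i) (N : ℕ)
    (hN : ∀ i : ℕ, N < i → IsZero (K.X i)) (hP : ∀ i : ℕ, 1 ≤ i → FP A (K.X i)) :
    ∀ (k i : ℕ), 1 ≤ i → N < i + k →
      Module.Finite A (LinearMap.ker (K.d i (i + 1)).hom) ∧
        Module.Projective A (LinearMap.ker (K.d i (i + 1)).hom) := by
  intro k
  induction k with
  | zero =>
    intro i _ hi
    have : Subsingleton (K.X i) := ModuleCat.subsingleton_of_isZero (hN i (by simpa using hi))
    have : Subsingleton (LinearMap.ker (K.d i (i + 1)).hom) :=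
      ⟨fun a b => Subtype.ext (Subsingleton.elim _ _)⟩
    exact ⟨inferInstance, Module.Projective.of_free⟩
  | succ k ih =>
    intro i hi hik
    obtain ⟨-, h2⟩ := ih (i + 1) (by lia) (by lia)
    obtain ⟨h3, h4⟩ := hP i hi
    exact fp_ker_of_exact _ _ (exact_of_exactAt K i (hex _)) h3 h4 h2

lemma finite_X_zero (K : CochainComplex (ModuleCat.{u} A) ℕ) (hex : ∀ i : ℕ, K.ExactAt i)
    (hbd : ∃ n : ℕ, ∀ i : ℕ, n < i → IsZero (K.X i)) (hP : ∀ i : ℕ, 1 ≤ i → FP A (K.X i)) :
    Module.Finite A (K.X 0) := by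
  obtain ⟨N, hN⟩ := hbd
  obtain ⟨h1, -⟩ := fp_ker_d K hex N hN hP N 1 le_rfl (by lia)
  have hinj : Function.Injective (K.d 0 1).hom := by
    have h0 := hex 0
    rw [HomologicalComplex.exactAt_iff' K 0 0 1 (by simp) (by simp)] at h0
    have hm : Mono (K.d 0 1) := h0.mono_g (K.shape 0 0 (by simp))
    exact (ModuleCat.mono_iff_injective _).1 hm
  have hex1 := exact_of_exactAt K 0 (hex 1)
  -- `K.X 0 ≃ ker (d 1 2)`
  let e : K.X 0 →ₗ[A] LinearMap.ker (K.d 1 2).hom :=
    LinearMap.codRestrict _ (K.d 0 1).hom (fun x => by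
      rw [LinearMap.mem_ker]
      exact hex1.apply_apply_eq_zero x)
  have he1 : Function.Injective e := fun x y hxy => hinj (congrArg Subtype.val hxy)
  have he2 : Function.Surjective e := by
    rintro ⟨y, hy⟩
    obtain ⟨x, hx⟩ := (hex1 y).1 (LinearMap.mem_ker.1 hy)
    exact ⟨x, Subtype.ext hx⟩
  exact Module.Finite.equiv (LinearEquiv.ofBijective e ⟨he1, he2⟩).symm

end QuasiStable

lemma fp_quasiStable : PCoh.IsQuasiStableUnderKernels (FF A) := by
  intro K hex hbd hP
  rw [isOfFiniteType_iff]
  exact finite_X_zero K hex hbd (fun i hi => ff_le_fp A _ (hP i hi))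


end Groth.Agent.Lib.PCohFFRing
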