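import Groth.Agent.Lib.PCohFPn21
import Mathlib.Algebra.Homology.Augment
import Mathlib.Algebra.Homology.ShortComplex.Exact

/-!
# `n`-presentations as chain complexes (helper21)

`HasPres P n F`: there is an `ℕ`-indexed chain complex `K` with `K_0 ≅ F`, exact at `0, …, n`, zero beyond
`n + 1`, with `K_1, …, K_{n+1}` in `P` (the left hand side of `S12102`).
`hasPres_iff_FPn : HasPres P n F ↔ FPn P n F`.
-/

set_option autoImplicit false
universe v u

open CategoryTheory CategoryTheory.Limits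

namespace Groth.Agent.Lib.PCohFPn21

variable {C : Type u} [Category.{v} C] [Abelian C] (P : ObjectProperty C)

/-- the chain complex form of an `n`-presentation -/
def HasPres (n : ℕ) (F : C) : Prop :=
  ∃ K : ChainComplex C ℕ, Nonempty (K.X 0 ≅ F) ∧ (∀ j : ℕ, j ≤ n → K.ExactAt j) ∧
    (∀ j : ℕ, n + 1 < j → IsZero (K.X j)) ∧ (∀ j : ℕ, 1 ≤ j → j ≤ n + 1 → P (K.X j))

lemma exactAt_zero_iff (K : ChainComplex C ℕ) : K.ExactAt 0 ↔ Epi (K.d 1 0) := by
  rw [HomologicalComplex.exactAt_iff' K 1 0 0 (by simp) (by simp)]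
  exact ShortComplex.exact_iff_epi _ (K.shape 0 0 (by simp))

lemma exactAt_succ_iff (K : ChainComplex C ℕ) (j : ℕ) :
    K.ExactAt (j + 1) ↔ (ShortComplex.mk (K.d (j + 2) (j + 1)) (K.d (j + 1) j)
      (K.d_comp_d _ _ _)).Exact :=
  HomologicalComplex.exactAt_iff' K (j + 2) (j + 1) j (by simp) (by simp)

/-- exactness is insensitive to composing the second map with a monomorphism -/
lemma exact_comp_mono_iff {X Y Z Z' : C} (f : X ⟶ Y) (g : Y ⟶ Z) (i : Z ⟶ Z') [Mono i]
    (w : f ≫ g = 0) :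
    (ShortComplex.mk f g w).Exact ↔
      (ShortComplex.mk f (g ≫ i) (by rw [← Category.assoc, w, zero_comp])).Exact := by
  let φ : ShortComplex.mk f g w ⟶
      ShortComplex.mk f (g ≫ i) (by rw [← Category.assoc, w, zero_comp]) :=
    { τ₁ := 𝟙 _
      τ₂ := 𝟙 _
      τ₃ := i }
  have : Epi φ.τ₁ := by dsimp [φ]; infer_instance
  have : IsIso φ.τ₂ := by dsimp [φ]; infer_instance
  have : Mono φ.τ₃ := by dsimp [φ]; infer_instance
  exact ShortComplex.exact_iff_of_epi_of_isIso_of_mono φ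

/-- exactness of `X → Y → Z` at `Y` when `Y → Z` is `e ≫ ι` with `e` an epimorphism onto the kernel -/
lemma exact_of_epi_kernel_lift {X Y Z : C} (f : X ⟶ Y) (g : Y ⟶ Z) (w : f ≫ g = 0)
    (h : Epi (kernel.lift g f w)) : (ShortComplex.mk f g w).Exact := by
  rw [ShortComplex.exact_iff_epi_kernel_lift]
  exact h

section ToFPn

/-- the complex `ker(K_1 → K_0) ← K_2 ← K_3 ← ⋯` -/
noncomputable def shiftCx (K : ChainComplex C ℕ) : ChainComplex C ℕ :=
  ChainComplex.augment (ChainComplex.truncate.obj (ChainComplex.truncate.obj K))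
    (kernel.lift (K.d 1 0) (K.d 2 1) (K.d_comp_d 2 1 0))
    (by
      rw [← cancel_mono (kernel.ι (K.d 1 0)), Category.assoc, kernel.lift_ι, zero_comp]
      exact K.d_comp_d 3 2 1)

lemma shiftCx_d_succ (K : ChainComplex C ℕ) (i j : ℕ) :
    (shiftCx K).d (i + 2) (j + 1) = K.d (i + 3) (j + 2) := rfl

lemma shiftCx_d_one_zero (K : ChainComplex C ℕ) :
    (shiftCx K).d 1 0 = kernel.lift (K.d 1 0) (K.d 2 1) (K.d_comp_d 2 1 0) := rfl

variable {P} in
lemma hasPres_kernel [P.IsClosedUnderIsomorphisms] (n : ℕ) {F : C} (K : ChainComplex C ℕ)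
    (e : K.X 0 ≅ F) (hex : ∀ j : ℕ, j ≤ n + 1 → K.ExactAt j)
    (hz : ∀ j : ℕ, n + 1 + 1 < j → IsZero (K.X j))
    (hP : ∀ j : ℕ, 1 ≤ j → j ≤ n + 1 + 1 → P (K.X j)) :
    HasPres P n (kernel (K.d 1 0 ≫ e.hom)) := by
  refine ⟨shiftCx K, ⟨(kernelCompMono (K.d 1 0) e.hom).symm⟩, fun j hj => ?_, fun j hj => ?_,
    fun j hj1 hj2 => ?_⟩
  · rcases j with _ | j
    · rw [exactAt_zero_iff, shiftCx_d_one_zero]
      exact ((exactAt_succ_iff K 0).1 (hex 1 (by lia))).epi_kernelLift
    · rw [exactAt_succ_iff]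
      rcases j with _ | j
      · have h1 := (exactAt_succ_iff K 1).1 (hex 2 (by lia))
        have hm : Mono (kernel.ι (K.d 1 0)) := inferInstance
        have h2 := (@exact_comp_mono_iff C _ _ _ _ _ _ ((shiftCx K).d 2 1) ((shiftCx K).d 1 0)
          (kernel.ι (K.d 1 0)) hm ((shiftCx K).d_comp_d 2 1 0)).2
        refine h2 ?_
        have h3 : (shiftCx K).d 1 0 ≫ kernel.ι (K.d 1 0) = K.d 2 1 :=
          kernel.lift_ι (K.d 1 0) (K.d 2 1) (K.d_comp_d 2 1 0)
        have h4 : (ShortComplex.mk ((shiftCx K).d 2 1) ((shiftCx K).d 1 0 ≫ kernel.ι (K.d 1 0))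
            (by rw [← Category.assoc, (shiftCx K).d_comp_d, zero_comp])) =
            ShortComplex.mk (K.d 3 2) (K.d 2 1) (K.d_comp_d _ _ _) := by
          congr 1
        rw [h4]
        exact h1
      · exact (exactAt_succ_iff K (j + 2)).1 (hex (j + 3) (by lia))
  · rcases j with _ | j
    · lia
    · exact hz (j + 2) (by lia)
  · rcases j with _ | j
    · lia
    · exact hP (j + 2) (by lia) (by lia)

end ToFPn

section OfFPn

variable {P}

/-- the complex `F ← E ← K'_1 ← K'_2 ← ⋯` -/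
noncomputable def spliceCx {E F : C} (π : E ⟶ F) (K' : ChainComplex C ℕ)
    (e' : K'.X 0 ≅ kernel π) : ChainComplex C ℕ :=
  ChainComplex.augment
    (ChainComplex.augment (ChainComplex.truncate.obj K') (K'.d 1 0 ≫ e'.hom ≫ kernel.ι π)
      (by
        change K'.d 2 1 ≫ K'.d 1 0 ≫ e'.hom ≫ kernel.ι π = 0
        rw [← Category.assoc, K'.d_comp_d, zero_comp]))
    π
    (by
      change (K'.d 1 0 ≫ e'.hom ≫ kernel.ι π) ≫ π = 0
      rw [Category.assoc, Category.assoc, kernel.condition, comp_zero, comp_zero])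

lemma spliceCx_d_one_zero {E F : C} (π : E ⟶ F) (K' : ChainComplex C ℕ)
    (e' : K'.X 0 ≅ kernel π) : (spliceCx π K' e').d 1 0 = π := rfl

lemma spliceCx_d_two_one {E F : C} (π : E ⟶ F) (K' : ChainComplex C ℕ)
    (e' : K'.X 0 ≅ kernel π) :
    (spliceCx π K' e').d 2 1 = K'.d 1 0 ≫ e'.hom ≫ kernel.ι π := rfl

lemma spliceCx_d_succ {E F : C} (π : E ⟶ F) (K' : ChainComplex C ℕ)
    (e' : K'.X 0 ≅ kernel π) (i j : ℕ) :
    (spliceCx π K' e').d (i + 3) (j + 2) = K'.d (i + 2) (j + 1) := rfl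

lemma hasPres_of_kernel (n : ℕ) {E F : C} (π : E ⟶ F) (hE : P E) (hπ : Epi π)
    (h : HasPres P n (kernel π)) : HasPres P (n + 1) F := by
  obtain ⟨K', ⟨e'⟩, hex, hz, hP⟩ := h
  refine ⟨spliceCx π K' e', ⟨Iso.refl _⟩, fun j hj => ?_, fun j hj => ?_, fun j hj1 hj2 => ?_⟩
  · rcases j with _ | j
    · rw [exactAt_zero_iff, spliceCx_d_one_zero]
      exact hπ
    · rw [exactAt_succ_iff]
      rcases j with _ | j
      · -- `K'_1 → E → F`
        have h0 : Epi (K'.d 1 0) := (exactAt_zero_iff K').1 (hex 0 (by lia))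
        refine exact_of_epi_kernel_lift _ _ _ ?_
        have : kernel.lift ((spliceCx π K' e').d 1 0) ((spliceCx π K' e').d 2 1)
            ((spliceCx π K' e').d_comp_d 2 1 0) = K'.d 1 0 ≫ e'.hom := by
          rw [← cancel_mono (kernel.ι _), kernel.lift_ι, spliceCx_d_two_one]
          exact (Category.assoc _ _ _).symm
        rw [this]
        exact @epi_comp C _ _ _ _ (K'.d 1 0) h0 e'.hom inferInstance
      · rcases j with _ | j
        · -- `K'_2 → K'_1 → E`
          have h1 := (exactAt_succ_iff K' 0).1 (hex 1 (by lia))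
          have h2 := (exact_comp_mono_iff (K'.d 2 1) (K'.d 1 0) (e'.hom ≫ kernel.ι π)
            (K'.d_comp_d 2 1 0)).1 h1
          exact h2
        · exact (exactAt_succ_iff K' (j + 1)).1 (hex (j + 2) (by lia))
  · rcases j with _ | _ | j
    · lia
    · lia
    · exact hz (j + 1) (by lia)
  · rcases j with _ | _ | j
    · lia
    · exact hE
    · exact hP (j + 1) (by lia) (by lia)

end OfFPn

theorem hasPres_iff_FPn [P.IsClosedUnderIsomorphisms] [P.ContainsZero] (n : ℕ) (F : C) :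
    HasPres P n F ↔ FPn P n F := by
  induction n generalizing F with
  | zero =>
    constructor
    · rintro ⟨K, ⟨e⟩, hex, hz, hP⟩
      have : Epi (K.d 1 0) := (exactAt_zero_iff K).1 (hex 0 le_rfl)
      exact ⟨K.X 1, K.d 1 0 ≫ e.hom, hP 1 le_rfl le_rfl, inferInstance⟩
    · rintro ⟨E, π, hE, hπ⟩
      -- `F ← E ← 0 ← ⋯`
      refine ⟨ChainComplex.augment ((ChainComplex.single₀ C).obj E) π (zero_comp), ⟨Iso.refl _⟩,
        fun j hj => ?_, fun j hj => ?_, fun j hj1 hj2 => ?_⟩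
      · obtain rfl : j = 0 := by lia
        rw [exactAt_zero_iff]
        exact hπ
      · rcases j with _ | _ | j
        · lia
        · lia
        · exact HomologicalComplex.isZero_single_obj_X (ComplexShape.down ℕ) 0 E (j + 1) (by simp)
      · obtain rfl : j = 1 := by lia
        exact P.prop_of_iso (HomologicalComplex.singleObjXSelf (ComplexShape.down ℕ) 0 E).symm hE
  | succ n ih =>
    constructor
    · rintro ⟨K, ⟨e⟩, hex, hz, hP⟩
      have h0 : Epi (K.d 1 0) := (exactAt_zero_iff K).1 (hex 0 (by lia))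
      exact ⟨K.X 1, K.d 1 0 ≫ e.hom, hP 1 le_rfl (by lia), inferInstance,
        (ih _).1 (hasPres_kernel n K e hex hz hP)⟩
    · rintro ⟨E, π, hE, hπ, hK⟩
      exact hasPres_of_kernel n π hE hπ ((ih _).2 hK)

end Groth.Agent.Lib.PCohFPn21
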