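import Groth.Agent.Lib.PCohHomLocal
import Mathlib.RingTheory.TensorProduct.MvPolynomial
import Mathlib.AlgebraicGeometry.Morphisms.Flat

/-!
# Flat base change of pseudo-coherent ring maps and morphisms

Namespace `Groth.Agent.Lib.PCohHomBaseChange`.

* `pcHom_flat_baseChange` : if `A → B` is pseudo-coherent, `A → A'` is flat and `B' = B ⊗_A A'`
  (`Algebra.IsPushout A B A' B'`), then `A' → B'` is pseudo-coherent.
-/

set_option autoImplicit false
universe u
open CategoryTheory CategoryTheory.Limits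
attribute [local instance] HasDerivedCategory.standard

namespace Groth.Agent.Lib.PCohHomBaseChange

open Groth.Agent.Lib.PCohHomLocal Groth.Agent.Lib.FlatBaseChangeD

section Ring

attribute [local instance] MvPolynomial.algebraMvPolynomial

variable {A B A' B' : Type u} [CommRing A] [CommRing B] [CommRing A'] [CommRing B']
  [Algebra A B] [Algebra A A'] [Algebra A B'] [Algebra B B'] [Algebra A' B']
  [IsScalarTower A B B'] [IsScalarTower A A' B']

/-- flat base change of a pseudo-coherent ring map -/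
theorem pcHom_flat_baseChange [Algebra.IsPushout A B A' B'] [Module.Flat A A']
    (h : MoreMor.IsPseudoCoherentHom A B) : MoreMor.IsPseudoCoherentHom A' B' := by
  obtain ⟨n, φ, hφ, hB⟩ := h
  let φ' : MvPolynomial (Fin n) A' →ₐ[A'] B' :=
    MvPolynomial.aeval (fun i => algebraMap B B' (φ (MvPolynomial.X i)))
  let i1 : Algebra (MvPolynomial (Fin n) A) B := φ.toRingHom.toAlgebra
  let i2 : Algebra (MvPolynomial (Fin n) A') B' := φ'.toRingHom.toAlgebra
  let i3 : Algebra (MvPolynomial (Fin n) A) B' :=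
    ((algebraMap B B').comp φ.toRingHom).toAlgebra
  have t1 : IsScalarTower A (MvPolynomial (Fin n) A) B :=
    IsScalarTower.of_algebraMap_eq (fun r => (φ.commutes r).symm)
  have t2 : IsScalarTower (MvPolynomial (Fin n) A) B B' := IsScalarTower.of_algebraMap_eq' rfl
  have t3 : IsScalarTower A' (MvPolynomial (Fin n) A') B' :=
    IsScalarTower.of_algebraMap_eq (fun r => (φ'.commutes r).symm)
  have t4 : IsScalarTower (MvPolynomial (Fin n) A) (MvPolynomial (Fin n) A') B' := by
    refine IsScalarTower.of_algebraMap_eq' ?_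
    refine MvPolynomial.ringHom_ext (fun r => ?_) (fun i => ?_)
    · show algebraMap B B' (φ (MvPolynomial.C r)) =
        φ' (MvPolynomial.map (algebraMap A A') (MvPolynomial.C r))
      rw [MvPolynomial.map_C]
      have h1 : φ (MvPolynomial.C r) = algebraMap A B r := φ.commutes r
      have h2 : φ' (MvPolynomial.C (algebraMap A A' r)) = algebraMap A' B' (algebraMap A A' r) :=
        φ'.commutes _
      rw [h1, h2, ← IsScalarTower.algebraMap_apply A B B', ← IsScalarTower.algebraMap_apply A A' B']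
    · show algebraMap B B' (φ (MvPolynomial.X i)) =
        φ' (MvPolynomial.map (algebraMap A A') (MvPolynomial.X i))
      rw [MvPolynomial.map_X]
      exact (MvPolynomial.aeval_X (R := A')
        (fun i => algebraMap B B' (φ (MvPolynomial.X i))) i).symm
  have t5 : IsScalarTower A (MvPolynomial (Fin n) A') B' :=
    IsScalarTower.of_algebraMap_eq (fun r => by
      rw [IsScalarTower.algebraMap_apply A A' B',
        IsScalarTower.algebraMap_apply A' (MvPolynomial (Fin n) A') B']
      rfl)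
  have hpo : Algebra.IsPushout (MvPolynomial (Fin n) A) B (MvPolynomial (Fin n) A') B' :=
    (Algebra.IsPushout.comp_iff A (MvPolynomial (Fin n) A) A' (MvPolynomial (Fin n) A')
      (T := B) (T' := B')).1 inferInstance
  have hflat : Module.Flat (MvPolynomial (Fin n) A) (MvPolynomial (Fin n) A') :=
    Module.Flat.isBaseChange A (MvPolynomial (Fin n) A) A' (MvPolynomial (Fin n) A')
      (Algebra.IsPushout.out (R := A) (S := MvPolynomial (Fin n) A) (R' := A')
        (S' := MvPolynomial (Fin n) A'))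
  have hbc : IsBaseChange (MvPolynomial (Fin n) A')
      (IsScalarTower.toAlgHom (MvPolynomial (Fin n) A) B B').toLinearMap := hpo.symm.out
  refine ⟨n, φ', ?_, ?_⟩
  · intro y
    refine hbc.inductionOn y (fun y => ∃ p, φ' p = y) ⟨0, map_zero _⟩ ?_ ?_ ?_
    · intro b
      obtain ⟨p, rfl⟩ := hφ b
      exact ⟨algebraMap (MvPolynomial (Fin n) A) (MvPolynomial (Fin n) A') p,
        (IsScalarTower.algebraMap_apply (MvPolynomial (Fin n) A) (MvPolynomial (Fin n) A') B'
          p).symm⟩
    · rintro s _ ⟨p, rfl⟩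
      exact ⟨s * p, by rw [map_mul]; rfl⟩
    · rintro _ _ ⟨p, rfl⟩ ⟨q, rfl⟩
      exact ⟨p + q, map_add _ _ _⟩
  · have h1 := isPseudoCoherent'_FD (A := MvPolynomial (Fin n) A)
      (B := MvPolynomial (Fin n) A') hB
    obtain ⟨E, b, h1, h2, ⟨i⟩⟩ := h1
    exact ⟨E, b, h1, h2, ⟨i ≪≫ inDIso (B := MvPolynomial (Fin n) A') B ≪≫
      (DerivedCategory.singleFunctor (ModuleCat.{u} (MvPolynomial (Fin n) A')) 0).mapIso
        hbc.equiv.toModuleIso⟩⟩

end Ring


section Cat

/-- flat base change of a pseudo-coherent ring map, for a pushout square of commutative rings -/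
theorem pcHom_of_isPushout {R S R' S' : CommRingCat.{u}} {f : R ⟶ S} {g : R ⟶ R'}
    {inl : S ⟶ S'} {inr : R' ⟶ S'} (h : IsPushout f g inl inr) (hf : PCHom f.hom)
    (hg : g.hom.Flat) : PCHom inr.hom := by
  let i1 : Algebra R S := f.hom.toAlgebra
  let i2 : Algebra R R' := g.hom.toAlgebra
  let i3 : Algebra S S' := inl.hom.toAlgebra
  let i4 : Algebra R' S' := inr.hom.toAlgebra
  let i5 : Algebra R S' := (f ≫ inl).hom.toAlgebra
  have t1 : IsScalarTower R S S' := IsScalarTower.of_algebraMap_eq' rfl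
  have t2 : IsScalarTower R R' S' :=
    IsScalarTower.of_algebraMap_eq' (congr_arg CommRingCat.Hom.hom h.w)
  have hpo : Algebra.IsPushout R S R' S' :=
    (CommRingCat.isPushout_iff_isPushout (R := R) (S := R') (R' := S) (S' := S')).1 h
  have hfl : Module.Flat R R' := hg
  exact pcHom_flat_baseChange (A := R) (B := S) (A' := R') (B' := S') hf

end Cat

section Scheme

open AlgebraicGeometry TopologicalSpace

/-- flat base change of a pseudo-coherent morphism -/
theorem isPseudoCoherentMor_flat_baseChange {X S X' S' : Scheme.{u}} (f : X ⟶ S) (f' : X' ⟶ S')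
    (g' : X' ⟶ X) (g : S' ⟶ S) [Flat g] (hc : IsPullback g' f' f g)
    (hf : MoreMor.IsPseudoCoherentMor f) : MoreMor.IsPseudoCoherentMor f' := by
  rw [isPseudoCoherentMor_iff_exists]
  intro x'
  obtain ⟨US, hUS, hxS, -⟩ := Opens.isBasis_iff_nbhd.mp S.isBasis_affineOpens
    (Opens.mem_top (f (g' x')))
  obtain ⟨UX, hUX, hxX, hUSX⟩ := Opens.isBasis_iff_nbhd.mp X.isBasis_affineOpens
    (show g' x' ∈ f ⁻¹ᵁ US from hxS)
  have hw : g (f' x') = f (g' x') := by
    rw [← Scheme.Hom.comp_apply, ← Scheme.Hom.comp_apply, hc.w]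
  obtain ⟨UT, hUT, hxT, hUST⟩ := Opens.isBasis_iff_nbhd.mp S'.isBasis_affineOpens
    (show f' x' ∈ g ⁻¹ᵁ US from by show g (f' x') ∈ US; rw [hw]; exact hxS)
  have a1 : IsAffine (Scheme.Opens.toScheme US) := hUS
  have a2 : IsAffine (Scheme.Opens.toScheme UT) := hUT
  have a3 : IsAffine (Scheme.Opens.toScheme UX) := hUX
  have hUY : IsAffineOpen (g' ⁻¹ᵁ UX ⊓ f' ⁻¹ᵁ UT) :=
    .of_isIso (Scheme.Hom.isPullback_resLE hc hUST hUSX rfl).isoPullback.hom
  refine ⟨⟨UT, hUT⟩, ⟨g' ⁻¹ᵁ UX ⊓ f' ⁻¹ᵁ UT, hUY⟩, ⟨hxX, hxT⟩, inf_le_right, ?_⟩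
  have hiso := isIso_pushoutSection_of_isAffineOpen hc hUST hUSX rfl hUS hUT hUX
  have hpo := (isIso_pushoutSection_iff hc hUST hUSX rfl).1 hiso
  have hflat : (g.appLE US UT hUST).hom.Flat :=
    HasRingHomProperty.appLE (P := @Flat) g inferInstance ⟨US, hUS⟩ ⟨UT, hUT⟩ hUST
  have hpc : PCHom (f.appLE US UX hUSX).hom := hf UX US hUX hUS hUSX
  exact pcHom_of_isPushout hpo hpc hflat

end Scheme

end Groth.Agent.Lib.PCohHomBaseChange
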