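import Groth.Agent.Lib.PCohHomBaseChange
import Groth.Agent.Lib.DRingFFlat21
import Mathlib.RingTheory.Finiteness.Descent
import Mathlib.RingTheory.RingHom.FaithfullyFlat
import Mathlib.AlgebraicGeometry.Morphisms.Descent
import Mathlib.AlgebraicGeometry.Morphisms.FlatDescent

/-!
# Faithfully flat descent of pseudo-coherent ring maps and morphisms

Namespace `Groth.Agent.Lib.PCohHomDescent`.

* `exists_presentation_baseChange` : a presentation `A[x] → B` base changes to a presentation
  `A'[x] → B'` with `B' = A'[x] ⊗_{A[x]} B`.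
* `pcHom_of_faithfullyFlat_baseChange` : if `A → A'` is faithfully flat and `A' → B ⊗_A A'` is
  pseudo-coherent, then so is `A → B`.
* `pcHom_codescendsAlong_faithfullyFlat`.
-/

set_option autoImplicit false
universe u
open CategoryTheory CategoryTheory.Limits TensorProduct
attribute [local instance] HasDerivedCategory.standard

namespace Groth.Agent.Lib.PCohHomDescent

open Groth.Agent.Lib.PCohHomLocal Groth.Agent.Lib.FlatBaseChangeD Groth.Agent.S5599
  Groth.Agent.Lib.DRingPCoh21 Groth.Agent.Lib.PCohRelative Groth.Agent.Lib.PCohRelative2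
  Groth.Agent.Lib.PCohRelative3

section Ring

attribute [local instance] MvPolynomial.algebraMvPolynomial

variable {A A' : Type u} [CommRing A] [CommRing A'] [Algebra A A']

lemma flat_mvPolynomial (σ : Type) [Module.Flat A A'] :
    Module.Flat (MvPolynomial σ A) (MvPolynomial σ A') :=
  Module.Flat.isBaseChange A (MvPolynomial σ A) A' (MvPolynomial σ A')
    (Algebra.IsPushout.out (R := A) (S := MvPolynomial σ A) (R' := A')
      (S' := MvPolynomial σ A'))

lemma faithfullyFlat_mvPolynomial (σ : Type) [Module.FaithfullyFlat A A'] :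
    Module.FaithfullyFlat (MvPolynomial σ A) (MvPolynomial σ A') :=
  Module.FaithfullyFlat.of_linearEquiv (MvPolynomial σ A) (MvPolynomial σ A ⊗[A] A')
    (IsBaseChange.equiv (Algebra.IsPushout.out (R := A) (S := MvPolynomial σ A) (R' := A')
      (S' := MvPolynomial σ A'))).symm

attribute [local instance] flat_mvPolynomial

variable {B B' : Type u} [CommRing B] [CommRing B']
  [Algebra A B] [Algebra A B'] [Algebra B B'] [Algebra A' B']
  [IsScalarTower A B B'] [IsScalarTower A A' B']

/-- base change of a presentation -/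
lemma exists_presentation_baseChange [Algebra.IsPushout A B A' B'] [Module.Flat A A'] {n : ℕ}
    (φ : MvPolynomial (Fin n) A →ₐ[A] B) (hφ : Function.Surjective φ) :
    ∃ φ' : MvPolynomial (Fin n) A' →ₐ[A'] B', Function.Surjective φ' ∧
      Nonempty ((FD (MvPolynomial (Fin n) A) (MvPolynomial (Fin n) A')).obj
          (letI := φ.toRingHom.toAlgebra; Dual.inD (MvPolynomial (Fin n) A) B) ≅
        (letI := φ'.toRingHom.toAlgebra; Dual.inD (MvPolynomial (Fin n) A') B')) := by
  let φ' : MvPolynomial (Fin n) A' →ₐ[A'] B' :=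
    MvPolynomial.aeval (fun i => algebraMap B B' (φ (MvPolynomial.X i)))
  let i1 : Algebra (MvPolynomial (Fin n) A) B := φ.toRingHom.toAlgebra
  let i2 : Algebra (MvPolynomial (Fin n) A') B' := φ'.toRingHom.toAlgebra
  let i3 : Algebra (MvPolynomial (Fin n) A) B' :=
    ((algebraMap B B').comp φ.toRingHom).toAlgebra
  have t1 : IsScalarTower A (MvPolynomial (Fin n) A) B :=
    IsScalarTower.of_algebraMap_eq (fun r => (φ.commutes r).symm)
  have t2 : IsScalarTower (MvPolynomial (Fin n) A) B B' := IsScalarTower.of_algebraMap_eq' rfl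
  have t3 : IsScalarTower A' (MvPolynomial (Fin n) A') B' :=
    IsScalarTower.of_algebraMap_eq (fun r => (φ'.commutes r).symm)
  have t4 : IsScalarTower (MvPolynomial (Fin n) A) (MvPolynomial (Fin n) A') B' := by
    refine IsScalarTower.of_algebraMap_eq' ?_
    refine MvPolynomial.ringHom_ext (fun r => ?_) (fun i => ?_)
    · show algebraMap B B' (φ (MvPolynomial.C r)) =
        φ' (MvPolynomial.map (algebraMap A A') (MvPolynomial.C r))
      rw [MvPolynomial.map_C]
      have h1 : φ (MvPolynomial.C r) = algebraMap A B r := φ.commutes r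
      have h2 : φ' (MvPolynomial.C (algebraMap A A' r)) = algebraMap A' B' (algebraMap A A' r) :=
        φ'.commutes _
      rw [h1, h2, ← IsScalarTower.algebraMap_apply A B B',
        ← IsScalarTower.algebraMap_apply A A' B']
    · show algebraMap B B' (φ (MvPolynomial.X i)) =
        φ' (MvPolynomial.map (algebraMap A A') (MvPolynomial.X i))
      rw [MvPolynomial.map_X]
      exact (MvPolynomial.aeval_X (R := A')
        (fun i => algebraMap B B' (φ (MvPolynomial.X i))) i).symm
  have t5 : IsScalarTower A (MvPolynomial (Fin n) A') B' :=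
    IsScalarTower.of_algebraMap_eq (fun r => by
      rw [IsScalarTower.algebraMap_apply A A' B',
        IsScalarTower.algebraMap_apply A' (MvPolynomial (Fin n) A') B']
      rfl)
  have hpo : Algebra.IsPushout (MvPolynomial (Fin n) A) B (MvPolynomial (Fin n) A') B' :=
    (Algebra.IsPushout.comp_iff A (MvPolynomial (Fin n) A) A' (MvPolynomial (Fin n) A')
      (T := B) (T' := B')).1 inferInstance
  have hbc : IsBaseChange (MvPolynomial (Fin n) A')
      (IsScalarTower.toAlgHom (MvPolynomial (Fin n) A) B B').toLinearMap := hpo.symm.out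
  refine ⟨φ', ?_, ⟨inDIso (B := MvPolynomial (Fin n) A') B ≪≫
      (DerivedCategory.singleFunctor (ModuleCat.{u} (MvPolynomial (Fin n) A')) 0).mapIso
        hbc.equiv.toModuleIso⟩⟩
  intro y
  refine hbc.inductionOn y (fun y => ∃ p, φ' p = y) ⟨0, map_zero _⟩ ?_ ?_ ?_
  · intro b
    obtain ⟨p, rfl⟩ := hφ b
    exact ⟨algebraMap (MvPolynomial (Fin n) A) (MvPolynomial (Fin n) A') p,
      (IsScalarTower.algebraMap_apply (MvPolynomial (Fin n) A) (MvPolynomial (Fin n) A') B'
        p).symm⟩
  · rintro s _ ⟨p, rfl⟩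
    exact ⟨s * p, by rw [map_mul]; rfl⟩
  · rintro _ _ ⟨p, rfl⟩ ⟨q, rfl⟩
    exact ⟨p + q, map_add _ _ _⟩

/-- faithfully flat descent of pseudo-coherent ring maps -/
theorem pcHom_of_faithfullyFlat_baseChange [Algebra.IsPushout A B A' B']
    [Module.FaithfullyFlat A A'] (h : MoreMor.IsPseudoCoherentHom A' B') :
    MoreMor.IsPseudoCoherentHom A B := by
  have ft : Algebra.FiniteType A B := by
    have h1 : (algebraMap A' B').FiniteType :=
      RingHom.finiteType_algebraMap.2 (@Algebra.FiniteType.of_finitePresentation _ _ _ _ _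
        (Groth.Agent.S7168.finitePresentation_of_isPseudoCoherentHom h))
    have h2 : (algebraMap A A').FaithfullyFlat :=
      RingHom.faithfullyFlat_algebraMap_iff.2 inferInstance
    exact RingHom.finiteType_algebraMap.1
      (RingHom.FiniteType.codescendsAlong_faithfullyFlat h2 h1)
  obtain ⟨n, φ, hφ⟩ := exists_presentation (R := A) (A := B)
  obtain ⟨φ', hφ', ⟨e⟩⟩ := exists_presentation_baseChange (A' := A') (B' := B') φ hφ
  have hff : Module.FaithfullyFlat (MvPolynomial (Fin n) A) (MvPolynomial (Fin n) A') :=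
    faithfullyFlat_mvPolynomial _
  refine ⟨n, φ, hφ, ?_⟩
  refine (isPseudoCoherent'_iff_forall _ _).2 (fun m => ?_)
  apply Groth.Agent.Lib.DRingFFlat21.isPseudoCoherent_of_faithfullyFlat
    (MvPolynomial (Fin n) A) (MvPolynomial (Fin n) A') m
  refine isPseudoCoherent_of_iso m e.symm ?_
  have h1 := (pcHom_iff_relAll.1 h) m
  have h2 := (rel_iff_via φ' hφ' m _).1 h1
  rw [via_iff_npc] at h2
  rw [isPseudoCoherent_iff]
  exact NPC.of_iso h2 (USingleIso φ'.toRingHom _ ≪≫ (inDRestrictIso φ'.toRingHom).symm)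

theorem pcHom_codescendsAlong_faithfullyFlat :
    RingHom.CodescendsAlong @PCHom RingHom.FaithfullyFlat := by
  intro R S R' S' _ _ _ _ _ _ _ _ _ _ _ _ hQ H
  rw [pcHom_algebraMap_iff] at H ⊢
  have : Module.FaithfullyFlat R R' := RingHom.faithfullyFlat_algebraMap_iff.1 hQ
  exact pcHom_of_faithfullyFlat_baseChange (A := R) (A' := R') (B := S) (B' := S') H

end Ring


section Scheme

open AlgebraicGeometry MorphismProperty

section General

variable (P P' : MorphismProperty Scheme.{u})
variable (Q Q' : ∀ {R S : Type u} [CommRing R] [CommRing S], (R →+* S) → Prop)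
variable [P'.IsStableUnderBaseChange] [P'.IsStableUnderComposition]
variable
  (hbc : ∀ {X Y Z T : Scheme.{u}} (f : X ⟶ Z) (g : Y ⟶ Z) (p : T ⟶ X), IsLocalIso p →
    P (pullback.fst f g) → P (pullback.fst (p ≫ f) g))
  (H₁ : (@IsLocalIso ⊓ @Surjective : MorphismProperty Scheme) ≤ P')
  (H₂ : ∀ {R S : CommRingCat.{u}} {f : R ⟶ S}, P' (Spec.map f) → Q' f.hom)

set_option backward.isDefEq.respectTransparency.types false in
include hbc H₁ in
/-- variant of `IsZariskiLocalAtTarget.descendsAlong_inf_quasiCompact` where `P` is only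
assumed stable under base change along local isomorphisms -/
lemma descendsAlong_inf_quasiCompact' [IsZariskiLocalAtTarget P]
    (H : ∀ {R S : CommRingCat.{u}} {Y : Scheme.{u}} (φ : R ⟶ S) (g : Y ⟶ Spec R),
      P' (Spec.map φ) → P (pullback.fst (Spec.map φ) g) → P g) :
    P.DescendsAlong (P' ⊓ @QuasiCompact) := by
  apply IsZariskiLocalAtTarget.descendsAlong
  intro R X Y f g hf h
  wlog hX : ∃ T, X = Spec T generalizing X
  · have _ : CompactSpace X := by simpa [← quasiCompact_iff_compactSpace f] using hf.2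
    obtain ⟨Y, p, hsurj, hP', hY⟩ := X.exists_hom_isAffine_of_isZariskiLocalAtSource @IsLocalIso
    refine this (f := (Y.isoSpec.inv ≫ p) ≫ f) ?_ ?_ ⟨_, rfl⟩
    · rw [Category.assoc, (P' ⊓ @QuasiCompact).cancel_left_of_respectsIso]
      exact ⟨P'.comp_mem _ _ (H₁ _ ⟨hP', hsurj⟩) hf.1, inferInstance⟩
    · exact hbc f g (Y.isoSpec.inv ≫ p)
        ((MorphismProperty.cancel_left_of_respectsIso @IsLocalIso _ _).2 hP') h
  obtain ⟨T, rfl⟩ := hX
  obtain ⟨φ, rfl⟩ := Spec.map_surjective f
  exact H φ g hf.1 h

include hbc H₁ H₂ in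
/-- variant of `HasRingHomProperty.descendsAlong` where `P` is only assumed stable under base
change along local isomorphisms -/
lemma descendsAlong' [HasRingHomProperty P Q] (hQQ' : RingHom.CodescendsAlong Q Q') :
    P.DescendsAlong (P' ⊓ @QuasiCompact) := by
  apply descendsAlong_inf_quasiCompact' _ _ hbc H₁
  introv h hf
  wlog hY : ∃ S, Y = Spec S generalizing Y
  · rw [IsZariskiLocalAtSource.iff_of_openCover (P := P) Y.affineCover]
    intro i
    have heq : pullback.fst (Spec.map φ) (Y.affineCover.f i ≫ g) =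
        pullback.map _ _ _ _ (𝟙 _) (Y.affineCover.f i) (𝟙 _) (by simp) (by simp) ≫
          pullback.fst (Spec.map φ) g := (pullback.lift_fst _ _ _).symm
    exact this _ (heq ▸ AlgebraicGeometry.IsZariskiLocalAtSource.comp hf _) ⟨_, rfl⟩
  obtain ⟨S, rfl⟩ := hY
  apply of_pullback_fst_Spec_of_codescendsAlong _ _ hQQ' H₂ _ h hf
  simp [HasRingHomProperty.Spec_iff (P := P)]

end General

/-- pseudo-coherence is stable under base change along flat morphisms -/
lemma pc_pullback_fst_of_flat {X Y Z T : Scheme.{u}} (f : X ⟶ Z) (g : Y ⟶ Z) (p : T ⟶ X)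
    [Flat p] (h : affineLocally @PCHom (pullback.fst f g)) :
    affineLocally @PCHom (pullback.fst (p ≫ f) g) := by
  rw [← pullbackRightPullbackFstIso_inv_fst f g p,
    (affineLocally @PCHom).cancel_left_of_respectsIso]
  rw [← isPseudoCoherentMor_iff] at h ⊢
  exact Groth.Agent.Lib.PCohHomBaseChange.isPseudoCoherentMor_flat_baseChange
    (pullback.fst f g) (pullback.fst p (pullback.fst f g))
    (pullback.snd p (pullback.fst f g)) p (IsPullback.of_hasPullback _ _).flip h

set_option backward.isDefEq.respectTransparency.types false in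
/-- fpqc descent for pseudo-coherent morphisms -/
theorem pc_descendsAlong_flat :
    (affineLocally @PCHom.{u}).DescendsAlong (@Surjective ⊓ @Flat ⊓ @QuasiCompact) := by
  refine descendsAlong' (affineLocally @PCHom.{u}) (@Surjective ⊓ @Flat) @PCHom.{u}
    RingHom.FaithfullyFlat ?_ ?_ ?_ pcHom_codescendsAlong_faithfullyFlat
  · intro X Y Z T f g p hp h
    have hle : (@IsLocalIso : MorphismProperty Scheme.{u}) ≤ @Flat :=
      IsLocalIso.le_of_isZariskiLocalAtSource @Flat
    have : Flat p := hle _ _ p hp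
    exact pc_pullback_fst_of_flat f g p h
  · rw [inf_comm]
    gcongr
    exact IsLocalIso.le_of_isZariskiLocalAtSource @Flat
  · intro R S f ⟨hf₁, hf₂⟩
    rw [RingHom.FaithfullyFlat.iff_flat_and_comap_surjective]
    refine ⟨?_, (Spec.map f).surjective⟩
    rwa [HasRingHomProperty.Spec_iff (P := @Flat)] at hf₂

/-- `S' → S` flat, surjective, quasi-compact: pseudo-coherence of the base change `f'` of `f`
implies pseudo-coherence of `f` -/
theorem isPseudoCoherentMor_of_flat_surjective_qc_baseChange {X S X' S' : Scheme.{u}}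
    (f : X ⟶ S) (f' : X' ⟶ S') (g' : X' ⟶ X) (g : S' ⟶ S) [Flat g] [Surjective g]
    [QuasiCompact g] (hc : IsPullback g' f' f g) (hf' : MoreMor.IsPseudoCoherentMor f') :
    MoreMor.IsPseudoCoherentMor f := by
  rw [isPseudoCoherentMor_iff] at hf' ⊢
  have := pc_descendsAlong_flat.{u}
  exact MorphismProperty.of_isPullback_of_descendsAlong
    (Q := (@Surjective ⊓ @Flat ⊓ @QuasiCompact : MorphismProperty Scheme.{u})) hc.flip
    ⟨⟨inferInstance, inferInstance⟩, inferInstance⟩ hf'

end Scheme

end Groth.Agent.Lib.PCohHomDescent
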