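import Groth.Agent.Lib.PCohRelative3
import Groth.Agent.S6942

/-!
# Relative pseudo-coherence: modules, Noetherian base

Namespace `Groth.Agent.Lib.PCohRelative4`.
-/

set_option autoImplicit false
universe u
open CategoryTheory CategoryTheory.Limits CategoryTheory.Pretriangulated
attribute [local instance] HasDerivedCategory.standard

namespace Groth.Agent.Lib.PCohRelative4

open Groth.Agent.S5599 Groth.Agent.Lib.PCohBdd Groth.Agent.Lib.DRingPCoh21
  Groth.Agent.Lib.PCohRestrict Groth.Agent.Lib.PCohRelative Groth.Agent.Lib.PCohRelative2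
  Groth.Agent.Lib.PCohRelative3

section Surj

variable {P A : Type u} [CommRing P] [CommRing A] (φ : P →+* A)

lemma finite_restrictScalars_iff (hφ : Function.Surjective φ) (M : ModuleCat.{u} A) :
    Module.Finite P ((ModuleCat.restrictScalars.{u} φ).obj M) ↔ Module.Finite A M := by
  constructor
  · intro h
    exact finite_of_restrictScalars φ M h
  · intro h
    let _ : Algebra P A := φ.toAlgebra
    let _ : Module P M := Module.compHom M φ
    have : IsScalarTower P A M := ⟨fun a b x => by
      change (φ a * b) • x = φ a • (b • x)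
      exact mul_smul _ _ _⟩
    have : Module.Finite P A := Module.Finite.of_surjective (Algebra.linearMap P A) hφ
    have h2 : Module.Finite P M := Module.Finite.trans A M
    exact h2

/-- `H^i` of the restriction is the restriction of `H^i` -/
noncomputable def HDIso (K : Dual.D A) (i : ℤ) :
    (DerivedCategory.homologyFunctor (ModuleCat.{u} P) i).obj ((U φ).obj K) ≅
      (ModuleCat.restrictScalars.{u} φ).obj
        ((DerivedCategory.homologyFunctor (ModuleCat.{u} A) i).obj K) :=
  homologyMapIso (ModuleCat.restrictScalars.{u} φ) K i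

lemma subsingleton_HD_iff (K : Dual.D A) (i : ℤ) :
    Subsingleton (Dual.HD P ((U φ).obj K) i) ↔ Subsingleton (Dual.HD A K i) := by
  have e := (HDIso φ K i).toLinearEquiv.toEquiv
  constructor
  · intro h
    have h1 : Subsingleton ((ModuleCat.restrictScalars.{u} φ).obj
        ((DerivedCategory.homologyFunctor (ModuleCat.{u} A) i).obj K)) := e.symm.subsingleton
    exact h1
  · intro h
    have h1 : Subsingleton ((ModuleCat.restrictScalars.{u} φ).obj
        ((DerivedCategory.homologyFunctor (ModuleCat.{u} A) i).obj K)) := h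
    exact e.subsingleton

lemma finite_HD_iff (hφ : Function.Surjective φ) (K : Dual.D A) (i : ℤ) :
    Module.Finite P (Dual.HD P ((U φ).obj K) i) ↔ Module.Finite A (Dual.HD A K i) := by
  rw [← finite_restrictScalars_iff φ hφ]
  exact ⟨fun h => Module.Finite.equiv (HDIso φ K i).toLinearEquiv,
    fun h => Module.Finite.equiv (HDIso φ K i).toLinearEquiv.symm⟩

end Surj

section Rel

variable {R A : Type u} [CommRing R] [CommRing A] [Algebra R A]

lemma via_module_iff {n : ℕ} (α : MvPolynomial (Fin n) R →ₐ[R] A) (k : ℤ)
    (M : Type u) [AddCommGroup M] [Module A M] :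
    DerCA.IsRelPseudoCoherentVia α k (Dual.inD A M) ↔
      @DRing.IsPseudoCoherentModule (MvPolynomial (Fin n) R) _ k M _
        (Module.compHom M α.toRingHom) := by
  unfold DerCA.IsRelPseudoCoherentVia DRing.IsPseudoCoherentModule
  exact ⟨fun h => isPseudoCoherent_of_iso k (USingleIso α.toRingHom (ModuleCat.of A M)) h,
    fun h => isPseudoCoherent_of_iso k (USingleIso α.toRingHom (ModuleCat.of A M)).symm h⟩

/-- Noetherian base: relative `m`-pseudo-coherence is finiteness of cohomology -/
lemma rel_iff_of_noetherian [IsNoetherianRing R] [Algebra.FiniteType R A] (m : ℤ) (K : Dual.D A) :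
    DerCA.IsRelPseudoCoherent R A m K ↔
      (∃ b : ℤ, ∀ i : ℤ, b < i → Subsingleton (Dual.HD A K i)) ∧
        ∀ i : ℤ, m ≤ i → Module.Finite A (Dual.HD A K i) := by
  obtain ⟨n, α, hα⟩ := exists_presentation (R := R) (A := A)
  rw [rel_iff_via α hα]
  unfold DerCA.IsRelPseudoCoherentVia
  have h42 := (Groth.Agent.S6942.result (MvPolynomial (Fin n) R) m
    ((U (α : MvPolynomial (Fin n) R →+* A)).obj K) PUnit).1
  rw [h42]
  have hα' : Function.Surjective (α : MvPolynomial (Fin n) R →+* A) := hα
  simp only [subsingleton_HD_iff, finite_HD_iff (α : MvPolynomial (Fin n) R →+* A) hα']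

end Rel

end Groth.Agent.Lib.PCohRelative4
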