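import Groth.Agent.Lib.PCohRelPoly
import Groth.Agent.Lib.DRingZariski21
import Groth.Agent.Lib.PCohRelative4
import Mathlib.RingTheory.Localization.Away.AdjoinRoot
import Mathlib.RingTheory.Localization.BaseChange

/-!
# Relative pseudo-coherence and localization

Namespace `Groth.Agent.Lib.PCohRelLoc`.

* `npc_Φ_mk_of_regular` : `S[X]/(q)` is a pseudo-coherent `S[X]`-module for a regular `q`.
* `isRightRegular_q` : `g X - 1` is regular.
* `psi0 g : P[X] →+* P_g`, `npc_away_iff` : `K ∈ D(B)` restricted along `P[X] → P_g → B` is
  `m`-pseudo-coherent over `P[X]` iff it is over `P_g`.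
-/

set_option autoImplicit false
universe u
open CategoryTheory CategoryTheory.Limits CategoryTheory.Pretriangulated
attribute [local instance] HasDerivedCategory.standard

namespace Groth.Agent.Lib.PCohRelLoc

open Groth.Agent.S5599 Groth.Agent.Lib.PCohBdd Groth.Agent.Lib.DRingPCoh21
  Groth.Agent.Lib.PCohRestrict Groth.Agent.Lib.PCohRelative Groth.Agent.Lib.PCohRelative2
  Groth.Agent.Lib.PCohRelative3 Groth.Agent.Lib.PCohRelFinite Groth.Agent.Lib.PCohRelPoly

section Regular

open Polynomial

variable {S : Type u} [CommRing S] {P : S[X]}

lemma ses_shortExact_of_regular (hP : IsRightRegular P) : (ses S P).ShortExact := by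
  refine ModuleCat.shortComplex_shortExact _ ?_ ?_ ?_
  · intro p
    show AdjoinRoot.mk P (show S[X] from p) = 0 ↔ ∃ q : S[X], q * P = (show S[X] from p)
    rw [AdjoinRoot.mk_eq_zero]
    constructor
    · rintro ⟨q, hq⟩
      exact ⟨q, by rw [hq, mul_comm]⟩
    · rintro ⟨q, hq⟩
      exact ⟨q, by rw [← hq, mul_comm]⟩
  · intro p q h
    have h' : (show S[X] from p) * P = (show S[X] from q) * P := h
    exact hP h'
  · intro r
    obtain ⟨p, hp⟩ := AdjoinRoot.mk_surjective (g := P) (show AdjoinRoot P from r)
    exact ⟨p, hp⟩

lemma npc_Φ_mk_of_regular (hP : IsRightRegular P) (a : ℤ) :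
    NPC (FF S[X]) a
      ((Φ (AdjoinRoot.mk P)).obj (ModuleCat.of (AdjoinRoot P) (AdjoinRoot P))) := by
  have hff : FF S[X] (ModuleCat.of S[X] S[X]) :=
    ⟨inferInstanceAs (Module.Finite S[X] S[X]), inferInstanceAs (Module.Free S[X] S[X])⟩
  exact (Groth.Agent.S5599.result (FF S[X]) (ff_prod S[X]) (fp_quasiStable S[X])
    (ff_quasiLiftable S[X]) a (ses_shortExact_of_regular hP).singleTriangle
    (ses_shortExact_of_regular hP).singleTriangle_distinguished).1
    (Groth.Agent.Lib.PCohDescent.npc_singleFunctor _ hff 0 (a + 1))
    (Groth.Agent.Lib.PCohDescent.npc_singleFunctor _ hff 0 a)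

/-- `g X - 1` is a regular element of `S[X]` -/
lemma isRightRegular_q (g : S) : IsRightRegular (C g * X - 1 : S[X]) := by
  intro p₁ p₂ h
  have h' : (p₁ - p₂) * (C g * X - 1) = 0 := by
    rw [sub_mul]; exact sub_eq_zero.2 h
  suffices h0 : p₁ - p₂ = 0 from sub_eq_zero.1 h0
  set p := p₁ - p₂ with hp
  have hc : ∀ k : ℕ, p.coeff k = 0 := by
    intro k
    induction k with
    | zero =>
      have := congrArg (fun r => r.coeff 0) h'
      simp only [mul_sub, mul_one, coeff_sub, coeff_zero] at this
      rw [← mul_assoc, coeff_mul_X_zero, zero_sub, neg_eq_zero] at this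
      exact this
    | succ k ih =>
      have := congrArg (fun r => r.coeff (k + 1)) h'
      simp only [mul_sub, mul_one, coeff_sub, coeff_zero] at this
      rw [← mul_assoc, coeff_mul_X, mul_comm, coeff_C_mul, ih, mul_zero, zero_sub,
        neg_eq_zero] at this
      exact this
  ext k
  simp [hc k]

end Regular

section Away

open Polynomial

variable {P : Type u} [CommRing P] (g : P)

/-- the canonical map `P[X] → P_g`, `X ↦ 1/g`, through `P[X]/(gX - 1)` -/
noncomputable def psi0 : P[X] →+* Localization.Away g :=
  ((Localization.awayEquivAdjoin g).symm : AdjoinRoot (C g * X - 1) →+* Localization.Away g).comp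
    (AdjoinRoot.mk (C g * X - 1))

lemma psi0_C (p : P) : psi0 g (C p) = algebraMap P (Localization.Away g) p := by
  simp only [psi0, RingHom.comp_apply, AdjoinRoot.mk_C]
  rw [← AdjoinRoot.algebraMap_eq]
  exact (Localization.awayEquivAdjoin g).symm.commutes p

lemma psi0_X_mul (g : P) : psi0 g X * algebraMap P (Localization.Away g) g = 1 := by
  rw [← psi0_C, ← map_mul]
  have h0 : AdjoinRoot.mk (C g * X - 1 : P[X]) (X * C g) = 1 := by
    rw [← sub_eq_zero, ← map_one (AdjoinRoot.mk (C g * X - 1 : P[X])), ← map_sub,
      AdjoinRoot.mk_eq_zero, mul_comm]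
  simp only [psi0, RingHom.comp_apply]
  rw [h0, map_one]

lemma psi0_surjective : Function.Surjective (psi0 g) := by
  intro x
  obtain ⟨y, hy⟩ := AdjoinRoot.mk_surjective (g := (C g * X - 1 : P[X]))
    ((Localization.awayEquivAdjoin g) x)
  refine ⟨y, ?_⟩
  simp only [psi0, RingHom.comp_apply, hy]
  exact (Localization.awayEquivAdjoin g).symm_apply_apply x

theorem npc_away_iff {B : Type u} [CommRing B] (φ' : Localization.Away g →+* B) (m : ℤ)
    (Y : DerivedCategory (ModuleCat.{u} B)) :
    NPC (FF P[X]) m ((U (φ'.comp (psi0 g))).obj Y) ↔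
      NPC (FF (Localization.Away g)) m ((U φ').obj Y) := by
  let e : Localization.Away g ≃+* AdjoinRoot (C g * X - 1 : P[X]) :=
    (Localization.awayEquivAdjoin g).toRingEquiv
  let φ'' : AdjoinRoot (C g * X - 1 : P[X]) →+* B := φ'.comp (e.symm : _ →+* _)
  have h1 : φ'.comp (psi0 g) = φ''.comp (AdjoinRoot.mk (C g * X - 1 : P[X])) := rfl
  have h2 : φ' = φ''.comp (e : _ →+* _) := by
    ext x
    simp [φ'', e]
  rw [h1, npc_comp_iff _ φ'' (npc_Φ_mk_of_regular (isRightRegular_q g)) m Y]
  conv_rhs => rw [h2]
  exact (npc_comp_iff _ φ'' (npc_Φ_of_ringEquiv e) m Y).symm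

end Away

section Square

open TensorProduct

variable {P A : Type u} [CommRing P] [CommRing A] [Algebra P A] (g : P)

/-- `P_g → A_g` as an algebra -/
@[instance_reducible]
noncomputable def algLA : Algebra (Localization.Away g) (Localization.Away (algebraMap P A g)) :=
  (Localization.awayMap (algebraMap P A) g).toAlgebra

attribute [local instance] algLA

lemma algebraMap_LA (x : Localization.Away g) :
    algebraMap (Localization.Away g) (Localization.Away (algebraMap P A g)) x =
      Localization.awayMap (algebraMap P A) g x := rfl

instance : IsScalarTower P (Localization.Away g) (Localization.Away (algebraMap P A g)) :=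
  IsScalarTower.of_algebraMap_eq (fun x => by
    rw [algebraMap_LA, Localization.awayMap, IsLocalization.Away.map, IsLocalization.map_eq]
    exact IsScalarTower.algebraMap_apply P A _ x)

instance : Algebra.IsPushout P (Localization.Away g) A (Localization.Away (algebraMap P A g)) := by
  have h : IsLocalization (Algebra.algebraMapSubmonoid A (Submonoid.powers g))
      (Localization.Away (algebraMap P A g)) := by
    have : Algebra.algebraMapSubmonoid A (Submonoid.powers g) =
        Submonoid.powers (algebraMap P A g) := by
      simp [Algebra.algebraMapSubmonoid, Submonoid.map_powers]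
    rw [this]
    infer_instance
  exact (Algebra.isPushout_of_isLocalization (Submonoid.powers g) (Localization.Away g) A
    (Localization.Away (algebraMap P A g))).symm

section Mod

variable (M : Type u) [AddCommGroup M] [Module A M] [Module P M] [IsScalarTower P A M]

/-- `P_g ⊗_P M ≃ A_g ⊗_A M`, linear over `P_g` -/
noncomputable def sqEquiv :
    (Localization.Away g) ⊗[P] M ≃ₗ[Localization.Away g]
      (Localization.Away (algebraMap P A g)) ⊗[A] M :=
  (Algebra.IsPushout.cancelBaseChange P (Localization.Away g) A
    (Localization.Away (algebraMap P A g)) M).symm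

lemma sqEquiv_tmul (s : Localization.Away g) (m : M) :
    sqEquiv g M (s ⊗ₜ m) =
      (algebraMap (Localization.Away g) (Localization.Away (algebraMap P A g)) s) ⊗ₜ m :=
  Algebra.IsPushout.cancelBaseChange_symm_tmul P (Localization.Away g) A
    (Localization.Away (algebraMap P A g)) M s m

end Mod

open Groth.Agent.Lib.FlatBaseChangeD

/-- the `A_g`-linear identification, viewed as `P_g`-linear -/
noncomputable def e3 (M : ModuleCat.{u} A) :
    ((ModuleCat.restrictScalars
      (algebraMap (Localization.Away g) (Localization.Away (algebraMap P A g)))).obj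
      ((ModuleCat.extendScalars (algebraMap A (Localization.Away (algebraMap P A g)))).obj M))
      ≃ₗ[Localization.Away g] (Localization.Away (algebraMap P A g)) ⊗[A] M :=
  { toFun := fun x => objEquiv (A := A) (B := Localization.Away (algebraMap P A g)) M
      (show ((ModuleCat.extendScalars (algebraMap A (Localization.Away (algebraMap P A g)))).obj M)
        from x)
    invFun := fun y => (objEquiv (A := A) (B := Localization.Away (algebraMap P A g)) M).symm y
    map_add' := fun x y => map_add (objEquiv (A := A) (B := Localization.Away (algebraMap P A g)) M)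
      (show ((ModuleCat.extendScalars (algebraMap A (Localization.Away (algebraMap P A g)))).obj M)
        from x) y
    map_smul' := fun c x => by
      have h1 := map_smul (objEquiv (A := A) (B := Localization.Away (algebraMap P A g)) M)
        (algebraMap (Localization.Away g) (Localization.Away (algebraMap P A g)) c)
        (show ((ModuleCat.extendScalars
          (algebraMap A (Localization.Away (algebraMap P A g)))).obj M) from x)
      refine h1.trans ?_
      exact algebraMap_smul (Localization.Away (algebraMap P A g)) c _
    left_inv := fun x =>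
      (objEquiv (A := A) (B := Localization.Away (algebraMap P A g)) M).symm_apply_apply _
    right_inv := fun y =>
      (objEquiv (A := A) (B := Localization.Away (algebraMap P A g)) M).apply_symm_apply y }


/-- `M` as a `P`-module -/
@[instance_reducible]
def modP (M : ModuleCat.{u} A) : Module P M := Module.compHom M (algebraMap P A)

attribute [local instance] modP

instance (M : ModuleCat.{u} A) : IsScalarTower P A M :=
  IsScalarTower.of_algebraMap_smul (fun _ _ => rfl)

/-- the base change square, on modules -/
noncomputable def sqLin (M : ModuleCat.{u} A) :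
    ((ModuleCat.extendScalars (algebraMap P (Localization.Away g))).obj
      ((ModuleCat.restrictScalars (algebraMap P A)).obj M)) ≃ₗ[Localization.Away g]
    ((ModuleCat.restrictScalars
      (algebraMap (Localization.Away g) (Localization.Away (algebraMap P A g)))).obj
      ((ModuleCat.extendScalars (algebraMap A (Localization.Away (algebraMap P A g)))).obj M)) :=
  (objEquiv (A := P) (B := Localization.Away g) ((ModuleCat.restrictScalars (algebraMap P A)).obj M))
    ≪≫ₗ sqEquiv g M ≪≫ₗ (e3 g M).symm

lemma sqLin_tmul (M : ModuleCat.{u} A) (s : Localization.Away g) (m : M) :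
    sqLin g M ((show ((ModuleCat.restrictScalars (algebraMap P (Localization.Away g))).obj
        (ModuleCat.of _ (Localization.Away g))) from s) ⊗ₜ[P]
        (show ((ModuleCat.restrictScalars (algebraMap P A)).obj M) from m)) =
      ((show ((ModuleCat.restrictScalars
        (algebraMap A (Localization.Away (algebraMap P A g)))).obj
        (ModuleCat.of _ (Localization.Away (algebraMap P A g)))) from
        (algebraMap (Localization.Away g) (Localization.Away (algebraMap P A g)) s)) ⊗ₜ[A] m) := by
  show (e3 g M).symm (sqEquiv g M (objEquiv (A := P) (B := Localization.Away g)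
    ((ModuleCat.restrictScalars (algebraMap P A)).obj M) _)) = _
  have h1 : objEquiv (A := P) (B := Localization.Away g)
      ((ModuleCat.restrictScalars (algebraMap P A)).obj M)
      ((show ((ModuleCat.restrictScalars (algebraMap P (Localization.Away g))).obj
        (ModuleCat.of _ (Localization.Away g))) from s) ⊗ₜ[P]
        (show ((ModuleCat.restrictScalars (algebraMap P A)).obj M) from m)) =
      s ⊗ₜ[P] (show ((ModuleCat.restrictScalars (algebraMap P A)).obj M) from m) := rfl
  rw [h1]
  have h2 := sqEquiv_tmul (A := A) g M s m
  have h3 : (e3 g M) ((show ((ModuleCat.restrictScalars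
        (algebraMap A (Localization.Away (algebraMap P A g)))).obj
        (ModuleCat.of _ (Localization.Away (algebraMap P A g)))) from
        (algebraMap (Localization.Away g) (Localization.Away (algebraMap P A g)) s)) ⊗ₜ[A] m) =
      (algebraMap (Localization.Away g) (Localization.Away (algebraMap P A g)) s) ⊗ₜ[A] m := rfl
  rw [← h3] at h2
  exact (LinearEquiv.symm_apply_eq _).2 h2


/-- the base change square as a natural isomorphism -/
noncomputable def sqNatIso :
    ModuleCat.restrictScalars.{u} (algebraMap P A) ⋙
        ModuleCat.extendScalars.{u, u, u} (algebraMap P (Localization.Away g)) ≅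
      ModuleCat.extendScalars.{u, u, u} (algebraMap A (Localization.Away (algebraMap P A g))) ⋙
        ModuleCat.restrictScalars.{u}
          (algebraMap (Localization.Away g) (Localization.Away (algebraMap P A g))) :=
  NatIso.ofComponents (fun M => (sqLin g M).toModuleIso) (by
    intro M N l
    apply ModuleCat.ExtendScalars.hom_ext
    intro m
    have h1 := sqLin_tmul g N 1 (l.hom m)
    have h2 := sqLin_tmul g M 1 m
    have h3 : (ModuleCat.extendScalars.{u, u, u}
        (algebraMap A (Localization.Away (algebraMap P A g)))).map l (sqLin g M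
        ((show ((ModuleCat.restrictScalars (algebraMap P (Localization.Away g))).obj
        (ModuleCat.of _ (Localization.Away g))) from (1 : Localization.Away g)) ⊗ₜ[P]
        (show ((ModuleCat.restrictScalars (algebraMap P A)).obj M) from m))) = _ :=
      congrArg ((ModuleCat.extendScalars.{u, u, u}
        (algebraMap A (Localization.Away (algebraMap P A g)))).map l) h2
    exact h1.trans h3.symm)


/-- the base change square on derived categories, objectwise on complexes -/
noncomputable def sqDIso (K : DRing.Cx A) :
    (FD P (Localization.Away g)).obj ((U (algebraMap P A)).obj (DRing.toD K)) ≅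
      (U (algebraMap (Localization.Away g) (Localization.Away (algebraMap P A g)))).obj
        (DRing.toD (bcCx (Localization.Away (algebraMap P A g)) K)) := by
  let c₁ := Functor.mapHomologicalComplexCompIso (sqNatIso (A := A) g) (ComplexShape.up ℤ)
  let c₂ := Functor.mapHomologicalComplexCompIso
    (Iso.refl (ModuleCat.extendScalars.{u, u, u}
      (algebraMap A (Localization.Away (algebraMap P A g))) ⋙
        ModuleCat.restrictScalars.{u}
          (algebraMap (Localization.Away g) (Localization.Away (algebraMap P A g)))))
    (ComplexShape.up ℤ)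
  exact (FD P (Localization.Away g)).mapIso (UQIso (algebraMap P A) K) ≪≫
    toDIso (A := P) (B := Localization.Away g) _ ≪≫
    DerivedCategory.Q.mapIso ((c₁ ≪≫ c₂.symm).app K) ≪≫
    (UQIso (algebraMap (Localization.Away g) (Localization.Away (algebraMap P A g)))
      (bcCx (Localization.Away (algebraMap P A g)) K)).symm


/-! ### vanishing on `D(h)` for `h` in the kernel -/

lemma subsingleton_tensor_of_smul_eq_zero {P : Type u} [CommRing P] (h : P) (N : Type u)
    [AddCommGroup N] [Module P N] (hN : ∀ n : N, h • n = 0) :
    Subsingleton (Localization.Away h ⊗[P] N) := by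
  refine ⟨fun x y => ?_⟩
  suffices h0 : ∀ z : Localization.Away h ⊗[P] N, z = 0 by rw [h0 x, h0 y]
  intro z
  induction z using TensorProduct.induction_on with
  | zero => rfl
  | tmul s n =>
    have h1 : s = h • (s * IsLocalization.Away.invSelf h) := by
      rw [Algebra.smul_def, mul_comm s, ← mul_assoc, IsLocalization.Away.mul_invSelf, one_mul]
    rw [h1, TensorProduct.smul_tmul, hN, TensorProduct.tmul_zero]
  | add x y hx hy => rw [hx, hy, add_zero]

open Groth.Agent.Lib.DRingZariski21 Groth.Agent.Lib.PCohRelative4 in
lemma isPseudoCoherent_FD_of_kills (h : P) (hh : algebraMap P A h = 0) (m : ℤ) (Y : Dual.D A) :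
    DRing.IsPseudoCoherent (Localization.Away h) m
      ((FD P (Localization.Away h)).obj ((U (algebraMap P A)).obj Y)) := by
  rw [isPseudoCoherent_iff]
  have hz : ∀ j : ℤ, IsZero ((DerivedCategory.homologyFunctor
      (ModuleCat.{u} (Localization.Away h)) j).obj
      ((FD P (Localization.Away h)).obj ((U (algebraMap P A)).obj Y))) := by
    intro j
    refine IsZero.of_iso ?_ (homologyFDIso (Localization.Away h) ((U (algebraMap P A)).obj Y) j)
    let N := (DerivedCategory.homologyFunctor (ModuleCat.{u} P) j).obj ((U (algebraMap P A)).obj Y)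
    have hN : ∀ n : N, h • n = 0 := by
      intro n
      let e := (HDIso (algebraMap P A) Y j).toLinearEquiv
      apply e.injective
      rw [map_smul, map_zero]
      show (algebraMap P A h) • (show (DerivedCategory.homologyFunctor (ModuleCat.{u} A) j).obj Y
        from e n) = 0
      rw [hh, zero_smul]
    have h1 := subsingleton_tensor_of_smul_eq_zero h N hN
    have h2 : Subsingleton ((F P (Localization.Away h)).obj N) :=
      (objEquiv (A := P) (B := Localization.Away h) N).toEquiv.subsingleton
    exact ModuleCat.isZero_of_subsingleton _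
  have := npc_of_acyclic (P := FF (Localization.Away h)) (m - 1) _ (fun i _ => hz i)
  rw [show m - 1 + 1 = m by lia] at this
  exact this

end Square


section RelAway

attribute [local instance] algLA

open TensorProduct Groth.Agent.Lib.FlatBaseChangeD

variable {R : Type u} [CommRing R] {σ : Type} [Finite σ] {A : Type u} [CommRing A] [Algebra R A]
  [Algebra (MvPolynomial σ R) A] [IsScalarTower R (MvPolynomial σ R) A]

omit [Finite σ] in
lemma algebraMap_eq_via :
    algebraMap (MvPolynomial σ R) A =
      via (R := R) (fun j => algebraMap (MvPolynomial σ R) A (MvPolynomial.X j)) := by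
  refine MvPolynomial.ringHom_ext (fun r => ?_) (fun i => ?_)
  · rw [via_C, ← MvPolynomial.algebraMap_eq, ← IsScalarTower.algebraMap_apply]
  · rw [via_X]

variable (hsurj : Function.Surjective (algebraMap (MvPolynomial σ R) A))
  [Algebra.FiniteType R A] (g : MvPolynomial σ R)

include hsurj

lemma rel_iff_isPseudoCoherent_U (m : ℤ) (Y : Dual.D A) :
    DerCA.IsRelPseudoCoherent R A m Y ↔
      DRing.IsPseudoCoherent (MvPolynomial σ R) m
        ((U (algebraMap (MvPolynomial σ R) A)).obj Y) := by
  have hs : Function.Surjective
      (via (R := R) (fun j => algebraMap (MvPolynomial σ R) A (MvPolynomial.X j))) := by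
    rw [← algebraMap_eq_via]; exact hsurj
  rw [rel_iff_relNPC _ hs m Y, isPseudoCoherent_iff]
  unfold RelNPC
  rw [← algebraMap_eq_via]
  rfl

theorem rel_away_iff_npc (m : ℤ)
    (Y : Dual.D (Localization.Away (algebraMap (MvPolynomial σ R) A g))) :
    DerCA.IsRelPseudoCoherent R (Localization.Away (algebraMap (MvPolynomial σ R) A g)) m Y ↔
      NPC (FF (Localization.Away g)) m
        ((U (algebraMap (Localization.Away g)
          (Localization.Away (algebraMap (MvPolynomial σ R) A g)))).obj Y) := by
  let b : Option σ → Localization.Away (algebraMap (MvPolynomial σ R) A g) := fun o =>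
    o.elim (IsLocalization.Away.invSelf (algebraMap (MvPolynomial σ R) A g))
      (fun j => algebraMap A _ (algebraMap (MvPolynomial σ R) A (MvPolynomial.X j)))
  let ψ : Polynomial (MvPolynomial σ R) →+*
      Localization.Away (algebraMap (MvPolynomial σ R) A g) :=
    (algebraMap (Localization.Away g)
      (Localization.Away (algebraMap (MvPolynomial σ R) A g))).comp (psi0 g)
  let ρ : MvPolynomial (Option σ) R ≃+* Polynomial (MvPolynomial σ R) :=
    (MvPolynomial.optionEquivLeft R σ).toRingEquiv
  have hP : ∀ p : MvPolynomial σ R,
      algebraMap (Localization.Away g) (Localization.Away (algebraMap (MvPolynomial σ R) A g))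
        (algebraMap (MvPolynomial σ R) (Localization.Away g) p) =
      algebraMap A _ (algebraMap (MvPolynomial σ R) A p) := by
    intro p
    rw [← IsScalarTower.algebraMap_apply, ← IsScalarTower.algebraMap_apply]
  have hvia : via (R := R) b = ψ.comp (ρ : _ →+* _) := by
    refine MvPolynomial.ringHom_ext (fun r => ?_) (fun i => ?_)
    · show _ = ψ (MvPolynomial.optionEquivLeft R σ (MvPolynomial.C r))
      rw [via_C, MvPolynomial.optionEquivLeft_C]
      show _ = algebraMap (Localization.Away g) _ (psi0 g (Polynomial.C (MvPolynomial.C r)))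
      rw [psi0_C, hP, ← MvPolynomial.algebraMap_eq, ← IsScalarTower.algebraMap_apply R,
        ← IsScalarTower.algebraMap_apply R]
    · cases i with
      | none =>
        show _ = ψ (MvPolynomial.optionEquivLeft R σ (MvPolynomial.X none))
        rw [via_X, MvPolynomial.optionEquivLeft_X_none]
        show IsLocalization.Away.invSelf (algebraMap (MvPolynomial σ R) A g) =
          algebraMap (Localization.Away g) _ (psi0 g Polynomial.X)
        have h1 : algebraMap (Localization.Away g)
            (Localization.Away (algebraMap (MvPolynomial σ R) A g)) (psi0 g Polynomial.X) *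
            algebraMap A _ (algebraMap (MvPolynomial σ R) A g) = 1 := by
          rw [← hP, ← map_mul, psi0_X_mul, map_one]
        have h2 := IsLocalization.Away.mul_invSelf
          (S := Localization.Away (algebraMap (MvPolynomial σ R) A g))
          (algebraMap (MvPolynomial σ R) A g)
        calc IsLocalization.Away.invSelf (algebraMap (MvPolynomial σ R) A g)
            = (algebraMap (Localization.Away g) _ (psi0 g Polynomial.X) *
              algebraMap A _ (algebraMap (MvPolynomial σ R) A g)) *
              IsLocalization.Away.invSelf (algebraMap (MvPolynomial σ R) A g) := by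
              rw [h1, one_mul]
          _ = _ := by rw [mul_assoc, h2, mul_one]
      | some j =>
        show _ = ψ (MvPolynomial.optionEquivLeft R σ (MvPolynomial.X (some j)))
        rw [via_X, MvPolynomial.optionEquivLeft_X_some]
        show _ = algebraMap (Localization.Away g) _ (psi0 g (Polynomial.C (MvPolynomial.X j)))
        rw [psi0_C, hP]
        rfl
  have hsurjb : Function.Surjective (via (R := R) b) := by
    rw [hvia]
    have h1 : Function.Surjective (algebraMap (Localization.Away g)
        (Localization.Away (algebraMap (MvPolynomial σ R) A g))) := by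
      show Function.Surjective (Localization.awayMap (algebraMap (MvPolynomial σ R) A) g)
      rw [Localization.awayMap_surjective_iff]
      intro a
      obtain ⟨p, hp⟩ := hsurj a
      exact ⟨p, 0, by rw [hp, pow_zero, one_mul]⟩
    intro y
    obtain ⟨y1, rfl⟩ := h1 y
    obtain ⟨y2, rfl⟩ := psi0_surjective g y1
    obtain ⟨y3, rfl⟩ := ρ.surjective y2
    exact ⟨y3, rfl⟩
  rw [rel_iff_relNPC b hsurjb m Y]
  unfold RelNPC
  rw [hvia, npc_comp_iff _ ψ (npc_Φ_of_ringEquiv ρ) m Y]
  exact npc_away_iff g _ m Y

theorem rel_away_iff (K : DRing.Cx A) (m : ℤ) :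
    DerCA.IsRelPseudoCoherent R (Localization.Away (algebraMap (MvPolynomial σ R) A g)) m
        (DRing.toD (bcCx (Localization.Away (algebraMap (MvPolynomial σ R) A g)) K)) ↔
      DRing.IsPseudoCoherent (Localization.Away g) m
        ((FD (MvPolynomial σ R) (Localization.Away g)).obj
          ((U (algebraMap (MvPolynomial σ R) A)).obj (DRing.toD K))) := by
  rw [rel_away_iff_npc hsurj g, isPseudoCoherent_iff]
  exact ⟨fun h => NPC.of_iso h (sqDIso g K).symm, fun h => NPC.of_iso h (sqDIso g K)⟩


/-- one direction, for a single element -/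
theorem rel_away_of_rel (K : DRing.Cx A) (m : ℤ)
    (h : DerCA.IsRelPseudoCoherent R A m (DRing.toD K)) :
    DerCA.IsRelPseudoCoherent R (Localization.Away (algebraMap (MvPolynomial σ R) A g)) m
      (DRing.toD (bcCx (Localization.Away (algebraMap (MvPolynomial σ R) A g)) K)) := by
  rw [rel_away_iff hsurj g]
  exact isPseudoCoherent_FD ((rel_iff_isPseudoCoherent_U hsurj m _).1 h)

/-- Zariski descent -/
theorem rel_of_forall_away {r : ℕ} (gs : Fin r → MvPolynomial σ R)
    (hspan : Ideal.span (Set.range fun i => algebraMap (MvPolynomial σ R) A (gs i)) = ⊤)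
    (K : DRing.Cx A) (m : ℤ)
    (h : ∀ i, DerCA.IsRelPseudoCoherent R
      (Localization.Away (algebraMap (MvPolynomial σ R) A (gs i))) m
      (DRing.toD (bcCx (Localization.Away (algebraMap (MvPolynomial σ R) A (gs i))) K))) :
    DerCA.IsRelPseudoCoherent R A m (DRing.toD K) := by
  rw [rel_iff_isPseudoCoherent_U hsurj]
  -- a partition of unity
  have h1 : (1 : A) ∈ Ideal.span (Set.range fun i => algebraMap (MvPolynomial σ R) A (gs i)) := by
    rw [hspan]; trivial
  rw [Ideal.mem_span_range_iff_exists_fun] at h1
  obtain ⟨c, hc⟩ := h1
  choose c' hc' using fun i => hsurj (c i)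
  let h0 : MvPolynomial σ R := 1 - ∑ i, c' i * gs i
  have hh0 : algebraMap (MvPolynomial σ R) A h0 = 0 := by
    simp only [h0, map_sub, map_one, map_sum, map_mul, hc']
    rw [hc, sub_self]
  let G : Fin (r + 1) → MvPolynomial σ R := Fin.cons h0 gs
  have hG : Ideal.span (Set.range G) = ⊤ := by
    rw [Ideal.eq_top_iff_one]
    have e1 : (1 : MvPolynomial σ R) = h0 + ∑ i, c' i * gs i := by simp [h0]
    rw [e1]
    refine Ideal.add_mem _ (Ideal.subset_span ⟨0, rfl⟩) (Ideal.sum_mem _ (fun i _ => ?_))
    exact Ideal.mul_mem_left _ _ (Ideal.subset_span ⟨i.succ, by simp [G]⟩)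
  have key : ∀ x : MvPolynomial σ R, (x = h0 ∨ ∃ i, x = gs i) →
      DRing.IsPseudoCoherent (Localization.Away x) m
        ((FD (MvPolynomial σ R) (Localization.Away x)).obj
          ((U (algebraMap (MvPolynomial σ R) A)).obj (DRing.toD K))) := by
    rintro x (rfl | ⟨i, rfl⟩)
    · exact isPseudoCoherent_FD_of_kills _ hh0 m _
    · exact (rel_away_iff hsurj (gs i) K m).1 (h i)
  refine Groth.Agent.Lib.DRingZariski21.isPseudoCoherent_of_forall_away G hG m _ (fun j => ?_)
  refine key (G j) ?_
  refine Fin.cases ?_ (fun i => ?_) j
  · exact Or.inl (by simp [G])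
  · exact Or.inr ⟨i, by simp [G]⟩

end RelAway

end Groth.Agent.Lib.PCohRelLoc
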