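import Groth.Agent.Lib.PCohRelative2
import Groth.Agent.S6935
import Groth.Agent.S6938
import Groth.Agent.S6939

/-!
# Relative pseudo-coherence: transport of modules, complexes and cohomology along restriction

Namespace `Groth.Agent.Lib.PCohRelative3`.
-/

set_option autoImplicit false
universe u
open CategoryTheory CategoryTheory.Limits CategoryTheory.Pretriangulated
attribute [local instance] HasDerivedCategory.standard

namespace Groth.Agent.Lib.PCohRelative3

open Groth.Agent.S5599 Groth.Agent.Lib.PCohBdd Groth.Agent.Lib.DRingPCoh21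
  Groth.Agent.Lib.PCohRestrict Groth.Agent.Lib.PCohRelative Groth.Agent.Lib.PCohRelative2

section Transport

variable {P A : Type u} [CommRing P] [CommRing A] (φ : P →+* A)

lemma isPseudoCoherent_of_iso (m : ℤ) {K L : Dual.D A} (e : K ≅ L)
    (h : DRing.IsPseudoCoherent A m K) : DRing.IsPseudoCoherent A m L := by
  rw [isPseudoCoherent_iff] at h ⊢
  exact NPC.of_iso h e

/-- `(U φ)(M[0]) ≅ (M restricted)[0]` -/
noncomputable def USingleIso (M : ModuleCat.{u} A) :
    (U φ).obj ((DerivedCategory.singleFunctor (ModuleCat.{u} A) 0).obj M) ≅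
      (DerivedCategory.singleFunctor (ModuleCat.{u} P) 0).obj
        ((ModuleCat.restrictScalars.{u} φ).obj M) :=
  ((ModuleCat.restrictScalars.{u} φ).mapDerivedCategorySingleFunctor 0).app M

/-- `(U φ)(Q K) ≅ Q (K restricted)` -/
noncomputable def UQIso (K : CochainComplex (ModuleCat.{u} A) ℤ) :
    (U φ).obj (DerivedCategory.Q.obj K) ≅
      DerivedCategory.Q.obj
        (((ModuleCat.restrictScalars.{u} φ).mapHomologicalComplex (ComplexShape.up ℤ)).obj K) :=
  (ModuleCat.restrictScalars.{u} φ).mapDerivedCategoryFactors.app K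

/-- termwise criterion along a restriction -/
lemma termwise (m : ℤ) (K : DRing.Cx A) (b : ℤ) (hb : DRing.VanishesAbove K b)
    (h : ∀ i : ℤ, DRing.IsPseudoCoherent P (m - i) ((U φ).obj (Dual.inD A (K.X i)))) :
    DRing.IsPseudoCoherent P m ((U φ).obj (DRing.toD K)) := by
  let K' : DRing.Cx P :=
    ((ModuleCat.restrictScalars.{u} φ).mapHomologicalComplex (ComplexShape.up ℤ)).obj K
  have hb' : DRing.VanishesAbove K' b := fun i hi =>
    (ModuleCat.restrictScalars.{u} φ).map_isZero (hb i hi)
  refine isPseudoCoherent_of_iso m (UQIso φ K).symm ?_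
  refine (Groth.Agent.S6938.result P m K' b hb').1 (fun i => ?_)
  exact isPseudoCoherent_of_iso (m - i) (USingleIso φ (K.X i)) (h i)

/-- cohomological criterion along a restriction -/
lemma homology (m : ℤ) (K : Dual.D A)
    (hb : ∃ b : ℤ, ∀ i : ℤ, b < i → Subsingleton (Dual.HD A K i))
    (h : ∀ i : ℤ, DRing.IsPseudoCoherent P (m - i) ((U φ).obj (Dual.inD A (Dual.HD A K i)))) :
    DRing.IsPseudoCoherent P m ((U φ).obj K) := by
  have e : ∀ i : ℤ, (DerivedCategory.homologyFunctor (ModuleCat.{u} P) i).obj ((U φ).obj K) ≅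
      (ModuleCat.restrictScalars.{u} φ).obj
        ((DerivedCategory.homologyFunctor (ModuleCat.{u} A) i).obj K) :=
    fun i => homologyMapIso (ModuleCat.restrictScalars.{u} φ) K i
  refine (Groth.Agent.S6939.result P m ((U φ).obj K) ?_).1 (fun i => ?_)
  · obtain ⟨b, hb⟩ := hb
    refine ⟨b, fun i hi => ?_⟩
    have h1 : Subsingleton ((ModuleCat.restrictScalars.{u} φ).obj
        ((DerivedCategory.homologyFunctor (ModuleCat.{u} A) i).obj K)) := hb i hi
    exact (e i).toLinearEquiv.toEquiv.subsingleton
  · exact isPseudoCoherent_of_iso (m - i)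
      (USingleIso φ _ ≪≫ (DerivedCategory.singleFunctor (ModuleCat.{u} P) 0).mapIso (e i).symm)
      (h i)

end Transport

end Groth.Agent.Lib.PCohRelative3
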