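import Groth.Agent.Lib.PCohRelLoc2
import Groth.Agent.S7071
import Groth.Agent.S7168
import Groth.Agent.S6987
import Mathlib.RingTheory.RingHom.FiniteType
import Mathlib.AlgebraicGeometry.Morphisms.RingHomProperties

/-!
# Pseudo-coherent ring maps form a local property of ring homomorphisms

Namespace `Groth.Agent.Lib.PCohHomLocal`.

* `PCHom φ` : the ring hom `φ` is pseudo-coherent (`MoreMor.IsPseudoCoherentHom` for `φ.toAlgebra`).
* `pcHom_iff_relAll` : `IsPseudoCoherentHom A B ↔ IsRelPseudoCoherentModuleAll A B B`.
* `pcHom_of_algEquiv`, `pcHom_away`, `pcHom_comp`, `pcHom_cancel`, `pcHom_of_span_target`.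
* `pcHom_isLocal : RingHom.PropertyIsLocal PCHom`.
-/

set_option autoImplicit false
universe u
open CategoryTheory CategoryTheory.Limits
attribute [local instance] HasDerivedCategory.standard

namespace Groth.Agent.Lib.PCohHomLocal

open Groth.Agent.S5599 Groth.Agent.Lib.PCohBdd Groth.Agent.Lib.DRingPCoh21
  Groth.Agent.Lib.PCohRestrict Groth.Agent.Lib.PCohRelative Groth.Agent.Lib.PCohRelative2
  Groth.Agent.Lib.PCohRelative3

/-- the ring hom `φ` is pseudo-coherent -/
def PCHom {R S : Type u} [CommRing R] [CommRing S] (φ : R →+* S) : Prop :=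
  letI := φ.toAlgebra
  MoreMor.IsPseudoCoherentHom R S

section Basic

variable {A B : Type u} [CommRing A] [CommRing B] [Algebra A B]

lemma pcHom_algebraMap_iff : PCHom (algebraMap A B) ↔ MoreMor.IsPseudoCoherentHom A B := by
  unfold PCHom
  rw [toAlgebra_algebraMap]

/-- the module `B` with scalars restricted along a presentation, as a single complex -/
noncomputable def inDRestrictIso {P : Type u} [CommRing P] (φ : P →+* B) :
    (letI := φ.toAlgebra; Dual.inD P B) ≅
      (DerivedCategory.singleFunctor (ModuleCat.{u} P) 0).obj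
        ((ModuleCat.restrictScalars φ).obj (ModuleCat.of B B)) :=
  letI := φ.toAlgebra
  (DerivedCategory.singleFunctor (ModuleCat.{u} P) 0).mapIso
    (Groth.Agent.Lib.FlatBaseChangeD.restrictEquiv (A := P) (B := B)).symm.toModuleIso

lemma pcHom_iff_relAll :
    MoreMor.IsPseudoCoherentHom A B ↔ DerCA.IsRelPseudoCoherentModuleAll A B B := by
  constructor
  · rintro ⟨n, φ, hφ, hB⟩ m
    refine ⟨n, φ, hφ, ?_⟩
    rw [via_iff_npc]
    let _ : Algebra (MvPolynomial (Fin n) A) B := φ.toRingHom.toAlgebra
    have h1 : DRing.IsPseudoCoherent (MvPolynomial (Fin n) A) m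
        (Dual.inD (MvPolynomial (Fin n) A) B) :=
      (isPseudoCoherent'_iff_forall _ _).1 hB m
    rw [isPseudoCoherent_iff] at h1
    refine NPC.of_iso h1 (inDRestrictIso φ.toRingHom ≪≫ (USingleIso φ.toRingHom _).symm)
  · intro h
    obtain ⟨n, α, hα, -⟩ := h 0
    refine ⟨n, α, hα, ?_⟩
    let _ : Algebra (MvPolynomial (Fin n) A) B := α.toRingHom.toAlgebra
    refine (isPseudoCoherent'_iff_forall _ _).2 (fun m => ?_)
    have h1 := (rel_iff_via α hα m _).1 (h m)
    rw [via_iff_npc] at h1
    rw [isPseudoCoherent_iff]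
    exact NPC.of_iso h1 (USingleIso α.toRingHom _ ≪≫ (inDRestrictIso α.toRingHom).symm)


/-- invariance under isomorphisms of the target algebra -/
lemma pcHom_of_algEquiv {B' : Type u} [CommRing B'] [Algebra A B'] (e : B ≃ₐ[A] B')
    (h : MoreMor.IsPseudoCoherentHom A B) : MoreMor.IsPseudoCoherentHom A B' := by
  obtain ⟨n, φ, hφ, hB⟩ := h
  refine ⟨n, (e : B →ₐ[A] B').comp φ, ?_, ?_⟩
  · intro y
    obtain ⟨x, rfl⟩ := e.surjective y
    obtain ⟨p, rfl⟩ := hφ x
    exact ⟨p, rfl⟩
  · let i1 : Algebra (MvPolynomial (Fin n) A) B := φ.toRingHom.toAlgebra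
    let i2 : Algebra (MvPolynomial (Fin n) A) B' := ((e : B →ₐ[A] B').comp φ).toRingHom.toAlgebra
    let l : B ≃ₗ[MvPolynomial (Fin n) A] B' :=
      { toFun := e
        map_add' := map_add e
        map_smul' := fun p b => by
          show e (φ p * b) = e (φ p) * e b
          exact map_mul e _ _
        invFun := e.symm
        left_inv := e.left_inv
        right_inv := e.right_inv }
    obtain ⟨E, b, h1, h2, ⟨i⟩⟩ := hB
    exact ⟨E, b, h1, h2, ⟨i ≪≫
      (DerivedCategory.singleFunctor (ModuleCat.{u} (MvPolynomial (Fin n) A)) 0).mapIso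
        l.toModuleIso⟩⟩

/-- localisations away from an element are pseudo-coherent -/
lemma pcHom_away (r : A) [IsLocalization.Away r B] : MoreMor.IsPseudoCoherentHom A B :=
  pcHom_of_algEquiv (IsLocalization.algEquiv (Submonoid.powers r) (Localization.Away r) B)
    (pcHom_iff_relAll.2 (Groth.Agent.Lib.PCohRelLoc2.relPC_away_self A r))

variable {C : Type u} [CommRing C] [Algebra A C] [Algebra B C] [IsScalarTower A B C]

/-- composition of pseudo-coherent ring maps -/
lemma pcHom_comp (h1 : MoreMor.IsPseudoCoherentHom A B) (h2 : MoreMor.IsPseudoCoherentHom B C) :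
    MoreMor.IsPseudoCoherentHom A C := by
  have f1 : Algebra.FiniteType A B :=
    @Algebra.FiniteType.of_finitePresentation A B _ _ _
      (Groth.Agent.S7168.finitePresentation_of_isPseudoCoherentHom h1)
  have f2 : Algebra.FiniteType B C :=
    @Algebra.FiniteType.of_finitePresentation B C _ _ _
      (Groth.Agent.S7168.finitePresentation_of_isPseudoCoherentHom h2)
  have f3 : Algebra.FiniteType A C := Algebra.FiniteType.trans f1 f2
  rw [pcHom_iff_relAll] at h1 h2 ⊢
  intro m
  exact (Groth.Agent.Lib.PCohRelPoly.rel_iff_of_intermediate h1 _ m).1 (h2 m)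

/-- cancellation -/
lemma pcHom_cancel (h1 : MoreMor.IsPseudoCoherentHom A B) (h2 : MoreMor.IsPseudoCoherentHom A C) :
    MoreMor.IsPseudoCoherentHom B C := by
  have f1 : Algebra.FiniteType A B :=
    @Algebra.FiniteType.of_finitePresentation A B _ _ _
      (Groth.Agent.S7168.finitePresentation_of_isPseudoCoherentHom h1)
  have f3 : Algebra.FiniteType A C :=
    @Algebra.FiniteType.of_finitePresentation A C _ _ _
      (Groth.Agent.S7168.finitePresentation_of_isPseudoCoherentHom h2)
  have f2 : Algebra.FiniteType B C := Algebra.FiniteType.of_restrictScalars_finiteType A B C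
  rw [pcHom_iff_relAll] at h1 h2 ⊢
  intro m
  exact (Groth.Agent.Lib.PCohRelPoly.rel_iff_of_intermediate h1 _ m).2 (h2 m)

end Basic


section Descent

open Groth.Agent.Lib.FlatBaseChangeD

variable {A B : Type u} [CommRing A] [CommRing B] [Algebra A B]

/-- relative pseudo-coherence is invariant under isomorphisms -/
lemma rel_of_iso {K L : Dual.D B} (e : K ≅ L) (m : ℤ)
    (h : DerCA.IsRelPseudoCoherent A B m K) : DerCA.IsRelPseudoCoherent A B m L := by
  obtain ⟨n, α, hα, h⟩ := h
  exact ⟨n, α, hα, isPseudoCoherent_of_iso m ((DRing.restrictD _).mapIso e) h⟩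

/-- the complex `B[0]` -/
noncomputable abbrev sCx (B : Type u) [CommRing B] : DRing.Cx B :=
  (HomologicalComplex.single (ModuleCat.{u} B) (ComplexShape.up ℤ) 0).obj (ModuleCat.of B B)

noncomputable def toDsCxIso (B : Type u) [CommRing B] : DRing.toD (sCx B) ≅ Dual.inD B B :=
  ((DerivedCategory.singleFunctorIsoCompQ (ModuleCat.{u} B) 0).app (ModuleCat.of B B)).symm

/-- `B' ⊗ B[0] ≅ B'[0]` in `D(B')` -/
noncomputable def bcsCxIso (B' : Type u) [CommRing B'] [Algebra B B'] [Module.Flat B B'] :
    DRing.toD (bcCx B' (sCx B)) ≅ Dual.inD B' B' :=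
  (toDIso (B := B') (sCx B)).symm ≪≫ (FD B B').mapIso (toDsCxIso B) ≪≫ inDIso (B := B') B ≪≫
    (DerivedCategory.singleFunctor (ModuleCat.{u} B') 0).mapIso
      (TensorProduct.AlgebraTensorModule.rid B B' B').toModuleIso

/-- pseudo-coherence of a ring map is local on the target -/
lemma pcHom_of_span_target (s : Finset B) (hs : Ideal.span (s : Set B) = ⊤)
    (h : ∀ r : s, MoreMor.IsPseudoCoherentHom A (Localization.Away (r : B))) :
    MoreMor.IsPseudoCoherentHom A B := by
  have ft : Algebra.FiniteType A B := by
    rw [← RingHom.finiteType_algebraMap]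
    refine RingHom.finiteType_ofLocalizationSpanTarget (algebraMap A B) (s : Set B) hs
      (fun r => ?_)
    rw [← IsScalarTower.algebraMap_eq, RingHom.finiteType_algebraMap]
    exact @Algebra.FiniteType.of_finitePresentation _ _ _ _ _
      (Groth.Agent.S7168.finitePresentation_of_isPseudoCoherentHom (h r))
  rw [pcHom_iff_relAll]
  intro m
  let f : Fin s.card → B := fun i => (s.equivFin.symm i : B)
  have hf : Ideal.span (Set.range f) = ⊤ := by
    have : Set.range f = (s : Set B) := by
      ext x
      constructor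
      · rintro ⟨i, rfl⟩
        exact (s.equivFin.symm i).2
      · intro hx
        exact ⟨s.equivFin ⟨x, hx⟩, by simp [f]⟩
    rw [this, hs]
  refine rel_of_iso (toDsCxIso B) m ((Groth.Agent.S6987.result (sCx B) m f hf).2 (fun i => ?_))
  have hi := (pcHom_iff_relAll.1 (h (s.equivFin.symm i))) m
  exact rel_of_iso (bcsCxIso (Localization.Away (f i))).symm m hi

end Descent


section Local

lemma pcHom_holdsForLocalizationAway : RingHom.HoldsForLocalizationAway @PCHom := by
  intro R S _ _ _ r _
  rw [pcHom_algebraMap_iff]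
  exact pcHom_away r

lemma pcHom_stableUnderComposition : RingHom.StableUnderComposition @PCHom := by
  intro R S T _ _ _ f g hf hg
  let _ := f.toAlgebra
  let _ := g.toAlgebra
  let _ := (g.comp f).toAlgebra
  have : IsScalarTower R S T := IsScalarTower.of_algebraMap_eq' rfl
  exact pcHom_comp hf hg

/-- cancellation for pseudo-coherent ring homs -/
lemma pcHom_of_comp {R S T : Type u} [CommRing R] [CommRing S] [CommRing T]
    (f : R →+* S) (g : S →+* T) (hf : PCHom f) (hgf : PCHom (g.comp f)) : PCHom g := by
  let _ := f.toAlgebra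
  let _ := g.toAlgebra
  let _ := (g.comp f).toAlgebra
  have : IsScalarTower R S T := IsScalarTower.of_algebraMap_eq' rfl
  exact pcHom_cancel hf hgf

lemma pcHom_localizationAwayPreserves : RingHom.LocalizationAwayPreserves @PCHom := by
  intro R S _ _ f r R' S' _ _ _ _ _ _ hf
  have h1 : PCHom (algebraMap R R') := pcHom_holdsForLocalizationAway R' r
  have h2 : PCHom (algebraMap S S') := pcHom_holdsForLocalizationAway S' (f r)
  have h3 : PCHom ((algebraMap S S').comp f) := pcHom_stableUnderComposition _ _ hf h2
  have e : (IsLocalization.Away.map R' S' f r).comp (algebraMap R R') =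
      (algebraMap S S').comp f := IsLocalization.map_comp _
  rw [← e] at h3
  exact pcHom_of_comp _ _ h1 h3

lemma pcHom_ofLocalizationSpanTarget : RingHom.OfLocalizationSpanTarget @PCHom := by
  rw [RingHom.ofLocalizationSpanTarget_iff_finite]
  intro R S _ _ f s hs h
  let _ := f.toAlgebra
  show MoreMor.IsPseudoCoherentHom R S
  refine pcHom_of_span_target s hs (fun r => ?_)
  have h1 := h r
  have e : (algebraMap S (Localization.Away (r : S))).comp f =
      algebraMap R (Localization.Away (r : S)) :=
    (IsScalarTower.algebraMap_eq R S (Localization.Away (r : S))).symm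
  rw [e, pcHom_algebraMap_iff] at h1
  exact h1

lemma pcHom_stableUnderCompositionWithLocalizationAway :
    RingHom.StableUnderCompositionWithLocalizationAway @PCHom :=
  pcHom_stableUnderComposition.stableUnderCompositionWithLocalizationAway
    pcHom_holdsForLocalizationAway

/-- pseudo-coherence is a local property of ring homomorphisms -/
theorem pcHom_isLocal : RingHom.PropertyIsLocal @PCHom where
  localizationAwayPreserves := pcHom_localizationAwayPreserves
  ofLocalizationSpanTarget := pcHom_ofLocalizationSpanTarget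
  ofLocalizationSpan := pcHom_ofLocalizationSpanTarget.ofLocalizationSpan
    pcHom_stableUnderCompositionWithLocalizationAway.1
  StableUnderCompositionWithLocalizationAwayTarget :=
    pcHom_stableUnderCompositionWithLocalizationAway.2

end Local


section FiniteCase

variable {A B : Type u} [CommRing A] [CommRing B] [Algebra A B]

/-- the identity is pseudo-coherent -/
lemma pcHom_self (A : Type u) [CommRing A] : MoreMor.IsPseudoCoherentHom A A := by
  have : IsLocalization.Away (1 : A) A :=
    IsLocalization.away_of_isUnit_of_bijective _ isUnit_one Function.bijective_id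
  exact pcHom_away (1 : A)

/-- for a finite ring map, pseudo-coherence of the map means pseudo-coherence of the module -/
lemma pcHom_iff_module_of_finite [Module.Finite A B] :
    MoreMor.IsPseudoCoherentHom A B ↔ DRing.IsPseudoCoherentModule' A B := by
  have ft : Algebra.FiniteType A B := inferInstance
  rw [pcHom_iff_relAll]
  unfold DerCA.IsRelPseudoCoherentModuleAll DerCA.IsRelPseudoCoherentAll
    DRing.IsPseudoCoherentModule'
  rw [isPseudoCoherent'_iff_forall]
  refine forall_congr' (fun m => ?_)
  rw [Groth.Agent.Lib.PCohRelFinite.rel_iff_restrict_of_finite (R := A) (A := A) (B := B) _ m,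
    Groth.Agent.S7071.result A A (pcHom_self A) m]
  have e : (DRing.restrictD (algebraMap A B)).obj (Dual.inD B B) ≅ Dual.inD A B :=
    USingleIso (algebraMap A B) (ModuleCat.of B B) ≪≫
      (DerivedCategory.singleFunctor (ModuleCat.{u} A) 0).mapIso
        (Groth.Agent.Lib.FlatBaseChangeD.restrictEquiv (A := A) (B := B)).toModuleIso
  exact ⟨isPseudoCoherent_of_iso m e, isPseudoCoherent_of_iso m e.symm⟩

end FiniteCase

section Scheme

open AlgebraicGeometry

instance : HasRingHomProperty (affineLocally @PCHom) @PCHom where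
  isLocal_ringHomProperty := pcHom_isLocal
  eq_affineLocally' := rfl

/-- `MoreMor.IsPseudoCoherentMor` is the morphism property attached to `PCHom` -/
lemma isPseudoCoherentMor_iff {X Y : Scheme.{u}} (f : X ⟶ Y) :
    MoreMor.IsPseudoCoherentMor f ↔ affineLocally @PCHom f := by
  rw [HasRingHomProperty.iff_appLE (P := affineLocally @PCHom)]
  constructor
  · intro h V U e
    exact h U.1 V.1 U.2 V.2 e
  · intro h U V hU hV e
    exact h ⟨V, hV⟩ ⟨U, hU⟩ e

/-- pseudo-coherence can be checked locally around points of the source -/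
lemma isPseudoCoherentMor_iff_exists {X Y : Scheme.{u}} (f : X ⟶ Y) :
    MoreMor.IsPseudoCoherentMor f ↔
      ∀ x : X, ∃ (U : Y.affineOpens) (V : X.affineOpens) (_ : x ∈ V.1) (e : V.1 ≤ f ⁻¹ᵁ U.1),
        PCHom (f.appLE U V e).hom := by
  rw [isPseudoCoherentMor_iff]
  exact HasRingHomProperty.iff_exists_appLE (P := affineLocally @PCHom)
    pcHom_stableUnderCompositionWithLocalizationAway.1

lemma isPseudoCoherentMor_comp {X Y Z : Scheme.{u}} (f : X ⟶ Y) (g : Y ⟶ Z)
    (hf : MoreMor.IsPseudoCoherentMor f) (hg : MoreMor.IsPseudoCoherentMor g) :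
    MoreMor.IsPseudoCoherentMor (f ≫ g) := by
  rw [isPseudoCoherentMor_iff] at hf hg ⊢
  exact (HasRingHomProperty.stableUnderComposition (P := affineLocally @PCHom)
    pcHom_stableUnderComposition).comp_mem f g hf hg

end Scheme

end Groth.Agent.Lib.PCohHomLocal
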