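import Groth.Prelude.Def_PCoh
import Groth.Agent.Lib.H43ConeMod
import Groth.Agent.Lib.EvConstColim21
import Groth.Agent.S5597
import Groth.Agent.S5602
import Mathlib.Algebra.Homology.Single
import Mathlib.Algebra.Homology.DerivedCategory.Fractions
import Mathlib.Algebra.Homology.DerivedCategory.HomologySequence

/-!
# SGA 6 I (punctual case): infinite descending modification (helper21)

* `exists_step`: the modification lemma (S5628) with control of all terms of the new complex
  (`T^i ⊞ E^i`, so they stay in `P`).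
* `isOfFiniteType_homology_mappingCone` (FT): for `u : E ⟶ F` an `(n+1)`-quasi-isomorphism with `E`
  strictly `(n+1)`-pseudo-coherent and `Q(F)` `n`-pseudo-coherent, `H^n(cone u)` is of finite type.
* `exists_resolution` (= S12101): an `n`-quasi-isomorphism `u : E ⟶ F` from a strictly pseudo-coherent
  complex into a complex with pseudo-coherent image in `D(C)` factors as `E ⟶ E' ⟶ F` with `E'`
  strictly pseudo-coherent, `E' ⟶ F` a quasi-isomorphism and `E ⟶ E'` a degreewise monomorphism which is an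
  isomorphism in degrees `≥ n`.
-/

set_option autoImplicit false
universe w v u

open CategoryTheory CategoryTheory.Limits HomologicalComplex CochainComplex

namespace Groth.Agent.Lib.PCohLimit21

variable {C : Type u} [Category.{v} C] [Abelian C] (P : ObjectProperty C)

lemma isZero_biprod {X Y : C} (hX : IsZero X) (hY : IsZero Y) : IsZero (X ⊞ Y) := by
  rw [IsZero.iff_id_eq_zero]
  apply biprod.hom_ext
  · exact hX.eq_of_tgt _ _
  · exact hY.eq_of_tgt _ _

lemma prop_biprod [P.IsClosedUnderIsomorphisms] (hsum : ∀ X Y : C, P X → P Y → P (X ⨯ Y))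
    {X Y : C} (hX : P X) (hY : P Y) : P (X ⊞ Y) :=
  P.prop_of_iso (biprod.isoProd X Y).symm (hsum X Y hX hY)

omit [Abelian C] in
lemma isOfFiniteType_of_iso {X Y : C} (e : X ≅ Y) (h : PCoh.IsOfFiniteType P X) :
    PCoh.IsOfFiniteType P Y := by
  obtain ⟨E, π, hE, hπ⟩ := h
  exact ⟨E, π ≫ e.hom, hE, inferInstance⟩

/-- The modification lemma with control of the terms. -/
theorem exists_step [P.IsClosedUnderIsomorphisms] [P.ContainsZero]
    (hsum : ∀ X Y : C, P X → P Y → P (X ⨯ Y)) (hql : PCoh.IsQuasiLiftable P)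
    (n : ℤ) (E F : CochainComplex C ℤ) (u : E ⟶ F) (hE : PCoh.IsStrictPCAll P E)
    (hiso : ∀ i : ℤ, n + 1 < i → IsIso (HomologicalComplex.homologyMap u i))
    (hepi : Epi (HomologicalComplex.homologyMap u (n + 1)))
    (hcone : PCoh.IsOfFiniteType P ((CochainComplex.mappingCone u).homology n)) :
    ∃ (E' : CochainComplex C ℤ) (v : E ⟶ E') (u' : E' ⟶ F), v ≫ u' = u ∧ (∀ i : ℤ, Mono (v.f i)) ∧
      (∀ i : ℤ, i ≠ n → IsIso (v.f i)) ∧ PCoh.IsStrictPCAll P E' ∧
      (∀ i : ℤ, n < i → IsIso (HomologicalComplex.homologyMap u' i)) ∧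
      Epi (HomologicalComplex.homologyMap u' n) := by
  obtain ⟨P₀, π₀, hP₀, hπ₀⟩ := hcone
  let Cn := CochainComplex.mappingCone u
  let p := Cn.homologyπ n
  have hfst : Epi (pullback.fst π₀ p) := inferInstance
  obtain ⟨P', g, hP', hg⟩ := hql _ _ (pullback.fst π₀ p) hfst hP₀
  let z₀ : P' ⟶ Cn.cycles n := g ≫ pullback.snd π₀ p
  have hz₀ : Epi (z₀ ≫ p) := by
    have : z₀ ≫ p = (g ≫ pullback.fst π₀ p) ≫ π₀ := by
      dsimp only [z₀]
      rw [Category.assoc, Category.assoc, pullback.condition]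
    rw [this]
    infer_instance
  let T : CochainComplex C ℤ := (HomologicalComplex.single C (ComplexShape.up ℤ) n).obj P'
  let j : T ⟶ Cn := HomologicalComplex.mkHomFromSingle (z₀ ≫ Cn.iCycles n) (fun k _ => by
    rw [Category.assoc, HomologicalComplex.iCycles_d, comp_zero])
  have hjn : j.f n = (HomologicalComplex.singleObjXSelf (ComplexShape.up ℤ) n P').hom ≫
      z₀ ≫ Cn.iCycles n := HomologicalComplex.mkHomFromSingle_f _ _
  have hTz : ∀ i : ℤ, i ≠ n → IsZero (T.X i) := fun i hi =>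
    HomologicalComplex.isZero_single_obj_X (ComplexShape.up ℤ) n P' i hi
  have hTP : ∀ i : ℤ, P (T.X i) := by
    intro i
    by_cases hi : i = n
    · subst hi
      exact P.prop_of_iso (HomologicalComplex.singleObjXSelf (ComplexShape.up ℤ) i P').symm hP'
    · exact P.prop_of_isZero (hTz i hi)
  -- the cone is acyclic above n
  have hCz : ∀ i : ℤ, n < i → IsZero (Cn.homology i) := by
    intro i hi
    have h1 : Mono (HomologicalComplex.homologyMap u (i + 1)) := by
      have := hiso (i + 1) (by lia)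
      infer_instance
    have h2 : Epi (HomologicalComplex.homologyMap u i) := by
      rcases (show n + 1 ≤ i from hi).lt_or_eq with h | h
      · have := hiso i h
        infer_instance
      · rw [← h]; exact hepi
    exact Groth.Agent.Lib.H43ConeMod.isZero_homology_mappingCone u i h1 h2
  have hEj : ∀ i : ℤ, n ≤ i → Epi (HomologicalComplex.homologyMap j i) := by
    intro i hi
    rcases hi.lt_or_eq with h | h
    · exact ⟨fun a b _ => (hCz i h).eq_of_src a b⟩
    · subst h
      rw [HomologicalComplex.epi_homologyMap_iff_up_to_refinements _ (n - 1) n (n + 1)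
        (by simp) (by simp)]
      intro A y₂ hy₂
      obtain ⟨A₁, π₁, hπ₁, s, hs⟩ := surjective_up_to_refinements_of_epi (z₀ ≫ p)
        (Cn.liftCycles y₂ (n + 1) (by simp) hy₂ ≫ p)
      have hs' : (π₁ ≫ Cn.liftCycles y₂ (n + 1) (by simp) hy₂) ≫ Cn.homologyπ n =
          (s ≫ z₀) ≫ Cn.homologyπ n := by
        rw [Category.assoc, Category.assoc]; exact hs
      rw [Cn.comp_homologyπ_eq_iff_up_to_refinements (n - 1) n (by simp)] at hs'
      obtain ⟨A₂, π₂, hπ₂, x₁, hx₁⟩ := hs'
      have hx₁' := hx₁ =≫ Cn.iCycles n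
      simp only [Category.assoc, HomologicalComplex.liftCycles_i, Preadditive.add_comp,
        HomologicalComplex.toCycles_i] at hx₁'
      refine ⟨A₂, π₂ ≫ π₁, inferInstance,
        π₂ ≫ s ≫ (HomologicalComplex.singleObjXSelf (ComplexShape.up ℤ) n P').inv, ?_, x₁, ?_⟩
      · simp [T]
      · rw [Category.assoc, hx₁', hjn]
        simp
  have hMj : ∀ i : ℤ, n < i → Mono (HomologicalComplex.homologyMap j i) := by
    intro i hi
    rw [HomologicalComplex.mono_homologyMap_iff_up_to_refinements _ (i - 1) i (i + 1)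
      (by simp) (by simp)]
    intro A x₂ _ _ _
    exact ⟨A, 𝟙 A, inferInstance, 0, (hTz i (by lia)).eq_of_tgt _ _⟩
  refine ⟨H43ConeMod.Emod u j, H43ConeMod.vmap u j, H43ConeMod.umap u j,
    H43ConeMod.vmap_umap u j, fun _ => inferInstance,
    fun i hi => H43ConeMod.isIso_vmap_f u j i (hTz i hi), ⟨?_, fun i => ?_⟩, fun i hi => ?_,
    H43ConeMod.epi_homologyMap_umap u j n (hEj n le_rfl)⟩
  · obtain ⟨b, hb⟩ := hE.1
    refine ⟨max b n, fun i hi => ?_⟩
    exact isZero_biprod (hTz i (by lia)) (hb i (by lia))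
  · exact prop_biprod P hsum (hTP i) (hE.2 i)
  · have h1 : Epi (HomologicalComplex.homologyMap (H43ConeMod.umap u j) i) :=
      H43ConeMod.epi_homologyMap_umap u j i (hEj i hi.le)
    have h2 : Mono (HomologicalComplex.homologyMap (H43ConeMod.umap u j) i) :=
      H43ConeMod.mono_homologyMap_umap u j i (hEj (i - 1) (by lia)) (hMj i hi)
    exact isIso_of_mono_of_epi _

section Derived

variable [HasDerivedCategory.{w} C]

/-- comparison of the homology of a complex with the homology of its image in `D(C)` -/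
noncomputable def homologyIsoOfQIso {K L : CochainComplex C ℤ}
    (e : DerivedCategory.Q.obj K ≅ DerivedCategory.Q.obj L) (i : ℤ) :
    K.homology i ≅ L.homology i :=
  ((DerivedCategory.homologyFunctorFactors C i).app K).symm ≪≫
    (DerivedCategory.homologyFunctor C i).mapIso e ≪≫
    (DerivedCategory.homologyFunctorFactors C i).app L

omit [HasDerivedCategory C] in
/-- the mapping cone of a morphism from a strictly `(n+1)`-pseudo-coherent complex to a strictly
`n`-pseudo-coherent complex is strictly `n`-pseudo-coherent -/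
lemma isStrictPC_mappingCone [P.IsClosedUnderIsomorphisms]
    (hsum : ∀ X Y : C, P X → P Y → P (X ⨯ Y)) (n : ℤ) {E L : CochainComplex C ℤ} (w : E ⟶ L)
    (hE : PCoh.IsStrictPC P (n + 1) E) (hL : PCoh.IsStrictPC P n L) :
    PCoh.IsStrictPC P n (mappingCone w) := by
  obtain ⟨⟨b₁, hb₁⟩, hE₂⟩ := hE
  obtain ⟨⟨b₂, hb₂⟩, hL₂⟩ := hL
  have e : ∀ i : ℤ, (mappingCone w).X i ≅ E.X (i + 1) ⊞ L.X i := fun i =>
    homotopyCofiber.XIsoBiprod w i (i + 1) (by simp)
  refine ⟨⟨max b₁ b₂, fun i hi => ?_⟩, fun i hi => ?_⟩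
  · exact IsZero.of_iso (isZero_biprod (hb₁ _ (by lia)) (hb₂ _ (by lia))) (e i)
  · exact P.prop_of_iso (e i).symm (prop_biprod P hsum (hE₂ _ (by lia)) (hL₂ _ hi))

/-- (FT) -/
theorem isOfFiniteType_homology_mappingCone [P.IsClosedUnderIsomorphisms] [P.ContainsZero]
    (hsum : ∀ X Y : C, P X → P Y → P (X ⨯ Y))
    (hqs : PCoh.IsQuasiStableUnderKernels P) (hql : PCoh.IsQuasiLiftable P)
    (n : ℤ) (E F : CochainComplex C ℤ) (u : E ⟶ F)
    (hE : PCoh.IsStrictPC P (n + 1) E)
    (hF : ∃ L : CochainComplex C ℤ, PCoh.IsStrictPC P n L ∧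
      Nonempty (DerivedCategory.Q.obj L ≅ DerivedCategory.Q.obj F))
    (hiso : ∀ i : ℤ, n + 1 < i → IsIso (HomologicalComplex.homologyMap u i))
    (hepi : Epi (HomologicalComplex.homologyMap u (n + 1))) :
    PCoh.IsOfFiniteType P ((CochainComplex.mappingCone u).homology n) := by
  obtain ⟨L, hL, ⟨e⟩⟩ := hF
  obtain ⟨E₁, s, hs, f, hf⟩ := DerivedCategory.right_fac (DerivedCategory.Q.map u ≫ e.inv)
  have hs' : QuasiIso s := (DerivedCategory.isIso_Q_map_iff_quasiIso C s).1 hs
  obtain ⟨E₂, t, hE₂, ht⟩ := Groth.Agent.S5597.result P hsum hqs hql (n + 1) E₁ E hE s hs'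
  let w : E₂ ⟶ L := t ≫ f
  have hcone : PCoh.IsStrictPC P n (mappingCone w) := isStrictPC_mappingCone P hsum n w hE₂ hL
  have hts : IsIso (DerivedCategory.Q.map (t ≫ s)) := by
    rw [DerivedCategory.isIso_Q_map_iff_quasiIso]
    infer_instance
  have hcomm : DerivedCategory.Q.map w ≫ e.hom =
      DerivedCategory.Q.map (t ≫ s) ≫ DerivedCategory.Q.map u := by
    have h1 : DerivedCategory.Q.map s ≫ DerivedCategory.Q.map u ≫ e.inv =
        DerivedCategory.Q.map f := by
      rw [hf, IsIso.hom_inv_id_assoc]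
    dsimp only [w]
    rw [Functor.map_comp, Functor.map_comp, Category.assoc, ← h1]
    simp
  obtain ⟨c, hc1, hc2⟩ := Pretriangulated.complete_distinguished_triangle_morphism _ _
    (DerivedCategory.mappingCone_triangle_distinguished w)
    (DerivedCategory.mappingCone_triangle_distinguished u)
    (DerivedCategory.Q.map (t ≫ s)) e.hom hcomm
  let φ : DerivedCategory.Q.mapTriangle.obj (mappingCone.triangle w) ⟶
      DerivedCategory.Q.mapTriangle.obj (mappingCone.triangle u) :=
    { hom₁ := DerivedCategory.Q.map (t ≫ s)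
      hom₂ := e.hom
      hom₃ := c
      comm₁ := hcomm
      comm₂ := hc1
      comm₃ := hc2 }
  have hc : IsIso c := Pretriangulated.isIso₃_of_isIso₁₂ φ
    (DerivedCategory.mappingCone_triangle_distinguished w)
    (DerivedCategory.mappingCone_triangle_distinguished u) hts (inferInstanceAs (IsIso e.hom))
  let ec : DerivedCategory.Q.obj (mappingCone w) ≅ DerivedCategory.Q.obj (mappingCone u) :=
    @asIso _ _ _ _ c hc
  have hCz : ∀ i : ℤ, n < i → IsZero ((mappingCone u).homology i) := by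
    intro i hi
    have h1 : Mono (HomologicalComplex.homologyMap u (i + 1)) := by
      have := hiso (i + 1) (by lia)
      infer_instance
    have h2 : Epi (HomologicalComplex.homologyMap u i) := by
      rcases (show n + 1 ≤ i from hi).lt_or_eq with h | h
      · have := hiso i h
        infer_instance
      · rw [← h]; exact hepi
    exact Groth.Agent.Lib.H43ConeMod.isZero_homology_mappingCone u i h1 h2
  have hft := Groth.Agent.S5602.result P hqs n (mappingCone w) hcone
    (fun i hi => IsZero.of_iso (hCz i hi) (homologyIsoOfQIso ec i))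
  exact isOfFiniteType_of_iso P (homologyIsoOfQIso ec n) hft

end Derived

section Limit

variable [HasDerivedCategory.{w} C] [P.IsClosedUnderIsomorphisms] [P.ContainsZero]

/-- state of the descending induction: a strictly pseudo-coherent complex with an
`(n - k)`-quasi-isomorphism to `F` -/
structure St (F : CochainComplex C ℤ) (n : ℤ) (k : ℕ) where
  X : CochainComplex C ℤ
  u : X ⟶ F
  pc : PCoh.IsStrictPCAll P X
  hiso : ∀ j : ℤ, n - (k : ℤ) < j → IsIso (HomologicalComplex.homologyMap u j)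
  hepi : Epi (HomologicalComplex.homologyMap u (n - (k : ℤ)))

variable (hsum : ∀ X Y : C, P X → P Y → P (X ⨯ Y))
  (hqs : PCoh.IsQuasiStableUnderKernels P) (hql : PCoh.IsQuasiLiftable P)
  (F : CochainComplex C ℤ) (hF : PCoh.IsPC P (DerivedCategory.Q.obj F)) (n : ℤ)

include hsum hqs hql hF in
theorem exists_next (k : ℕ) (s : St P F n k) :
    ∃ (s' : St P F n (k + 1)) (v : s.X ⟶ s'.X), v ≫ s'.u = s.u ∧ (∀ j : ℤ, Mono (v.f j)) ∧
      (∀ j : ℤ, j ≠ n - (k : ℤ) - 1 → IsIso (v.f j)) := by
  obtain ⟨m, hm⟩ : ∃ m : ℤ, m = n - (k : ℤ) - 1 := ⟨_, rfl⟩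
  have hm1 : n - (k : ℤ) = m + 1 := by lia
  have hiso : ∀ i : ℤ, m + 1 < i → IsIso (HomologicalComplex.homologyMap s.u i) :=
    fun i hi => s.hiso i (by lia)
  have hepi : Epi (HomologicalComplex.homologyMap s.u (m + 1)) := by
    have := s.hepi
    rwa [hm1] at this
  have hft := isOfFiniteType_homology_mappingCone P hsum hqs hql m s.X F s.u
    ⟨s.pc.1, fun i _ => s.pc.2 i⟩ (hF m) hiso hepi
  obtain ⟨E', v, u', hvu, hmono, hisoV, hpc, hiso', hepi'⟩ :=
    exists_step P hsum hql m s.X F s.u s.pc hiso hepi hft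
  have hm2 : n - ((k + 1 : ℕ) : ℤ) = m := by push_cast; lia
  refine ⟨⟨E', u', hpc, fun j hj => hiso' j (by rw [hm2] at hj; exact hj), ?_⟩, v, hvu, hmono,
    fun j hj => hisoV j (by rw [hm]; exact hj)⟩
  rw [hm2]
  exact hepi'

/-- the sequence of states -/
noncomputable def seq (s₀ : St P F n 0) : ∀ k : ℕ, St P F n k
  | 0 => s₀
  | k + 1 => (exists_next P hsum hqs hql F hF n k (seq s₀ k)).choose

/-- the transition maps -/
noncomputable def seqMap (s₀ : St P F n 0) (k : ℕ) :
    (seq P hsum hqs hql F hF n s₀ k).X ⟶ (seq P hsum hqs hql F hF n s₀ (k + 1)).X :=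
  (exists_next P hsum hqs hql F hF n k (seq P hsum hqs hql F hF n s₀ k)).choose_spec.choose

lemma seqMap_spec (s₀ : St P F n 0) (k : ℕ) :
    seqMap P hsum hqs hql F hF n s₀ k ≫ (seq P hsum hqs hql F hF n s₀ (k + 1)).u =
        (seq P hsum hqs hql F hF n s₀ k).u ∧
      (∀ j : ℤ, Mono ((seqMap P hsum hqs hql F hF n s₀ k).f j)) ∧
      (∀ j : ℤ, j ≠ n - (k : ℤ) - 1 → IsIso ((seqMap P hsum hqs hql F hF n s₀ k).f j)) :=
  (exists_next P hsum hqs hql F hF n k (seq P hsum hqs hql F hF n s₀ k)).choose_spec.choose_spec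

include hsum hqs hql hF in
/-- S12101 -/
theorem exists_resolution (E : CochainComplex C ℤ) (hE : PCoh.IsStrictPCAll P E) (u : E ⟶ F)
    (hiso : ∀ j : ℤ, n < j → IsIso (HomologicalComplex.homologyMap u j))
    (hepi : Epi (HomologicalComplex.homologyMap u n)) :
    ∃ (E' : CochainComplex C ℤ) (v : E ⟶ E') (u' : E' ⟶ F), v ≫ u' = u ∧ PCoh.IsStrictPCAll P E' ∧
      QuasiIso u' ∧ (∀ j : ℤ, Mono (v.f j)) ∧ (∀ j : ℤ, n ≤ j → IsIso (v.f j)) := by
  let s₀ : St P F n 0 :=
    { X := E
      u := u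
      pc := hE
      hiso := fun j hj => hiso j (by simpa using hj)
      hepi := by
        have h0 : n - ((0 : ℕ) : ℤ) = n := by simp
        rw [h0]
        exact hepi }
  let X : ℕ → CochainComplex C ℤ := fun k => (seq P hsum hqs hql F hF n s₀ k).X
  let φ : ∀ k, X k ⟶ X (k + 1) := fun k => seqMap P hsum hqs hql F hF n s₀ k
  let N : ℤ → ℕ := fun j => (n - j).toNat
  have hN : ∀ (j : ℤ) (k : ℕ), N j ≤ k → IsIso ((φ k).f j) := by
    intro j k hk
    refine (seqMap_spec P hsum hqs hql F hF n s₀ k).2.2 j ?_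
    have : n - j ≤ (k : ℤ) := by
      have := Int.toNat_le.1 hk
      exact this
    lia
  obtain ⟨Y, ι, hι, hιiso, hdesc, -⟩ := EvConstColim21.exists_colimit X φ N hN
  obtain ⟨u', hu'⟩ := hdesc F (fun k => (seq P hsum hqs hql F hF n s₀ k).u)
    (fun k => (seqMap_spec P hsum hqs hql F hF n s₀ k).1)
  have hN0 : ∀ j : ℤ, n ≤ j → N j = 0 := by
    intro j hj
    dsimp only [N]
    rw [Int.toNat_eq_zero]
    lia
  refine ⟨Y, ι 0, u', hu' 0, ⟨?_, fun j => ?_⟩, ⟨fun j => ?_⟩, fun j => ?_, fun j hj => ?_⟩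
  · obtain ⟨b, hb⟩ := hE.1
    refine ⟨max b n, fun j hj => ?_⟩
    have h0 : N j = 0 := hN0 j (by lia)
    have := hιiso j 0 (by rw [h0])
    exact IsZero.of_iso (hb j (by lia)) (asIso ((ι 0).f j)).symm
  · have := hιiso j (N j) le_rfl
    exact P.prop_of_iso (asIso ((ι (N j)).f j)) ((seq P hsum hqs hql F hF n s₀ (N j)).pc.2 j)
  · rw [quasiIsoAt_iff_isIso_homologyMap]
    obtain ⟨k, hk1, hk2, hk3, hk4⟩ : ∃ k : ℕ, N ((ComplexShape.up ℤ).prev j) ≤ k ∧ N j ≤ k ∧
        N ((ComplexShape.up ℤ).next j) ≤ k ∧ n - (k : ℤ) < j := by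
      refine ⟨max (max (N ((ComplexShape.up ℤ).prev j)) (N j))
        (max (N ((ComplexShape.up ℤ).next j)) (n - j + 1).toNat), by lia, by lia, by lia, ?_⟩
      have : n - j + 1 ≤ ((n - j + 1).toNat : ℤ) := Int.self_le_toNat _
      push_cast
      lia
    have h1 : IsIso (HomologicalComplex.homologyMap (ι k) j) :=
      EvConstColim21.isIso_homologyMap_of_isIso (ι k) j (hιiso _ k hk1) (hιiso _ k hk2)
        (hιiso _ k hk3)
    have h2 : IsIso (HomologicalComplex.homologyMap (seq P hsum hqs hql F hF n s₀ k).u j) :=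
      (seq P hsum hqs hql F hF n s₀ k).hiso j hk4
    have h3 : HomologicalComplex.homologyMap (ι k) j ≫ HomologicalComplex.homologyMap u' j =
        HomologicalComplex.homologyMap (seq P hsum hqs hql F hF n s₀ k).u j := by
      rw [← HomologicalComplex.homologyMap_comp, hu' k]
    exact IsIso.of_isIso_fac_left h3
  · exact EvConstColim21.mono_f_of_mono X φ Y ι hι j (N j) (hιiso j (N j) le_rfl)
      (fun k => (seqMap_spec P hsum hqs hql F hF n s₀ k).2.1 j) 0 (Nat.zero_le _)
  · exact hιiso j 0 (by rw [hN0 j hj])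

end Limit

end Groth.Agent.Lib.PCohLimit21
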