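import Groth.Agent.Lib.PCohRelative2
import Mathlib.RingTheory.AdjoinRoot
import Mathlib.RingTheory.IntegralClosure.IsIntegralClosure.Basic

/-!
# Relative pseudo-coherence and finite ring maps

Namespace `Groth.Agent.Lib.PCohRelFinite`.

* `one_var` : for `ψ : S[X] →+* B` killing a monic polynomial, `K ∈ D(B)` is `m`-pseudo-coherent
  over `S[X]` iff it is over `S`.
* `relNPC_option_integral`, `relNPC_sum_integral` : adding integral elements to a family does not
  change `RelNPC`.
* `rel_iff_restrict_of_finite` : Stacks 15.81 (finite maps).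
-/

set_option autoImplicit false
universe u
open CategoryTheory CategoryTheory.Limits CategoryTheory.Pretriangulated
attribute [local instance] HasDerivedCategory.standard

namespace Groth.Agent.Lib.PCohRelFinite

open Groth.Agent.S5599 Groth.Agent.Lib.PCohBdd Groth.Agent.Lib.DRingPCoh21
  Groth.Agent.Lib.PCohRestrict Groth.Agent.Lib.PCohRelative Groth.Agent.Lib.PCohRelative2

section OneVar

open Polynomial

variable (S : Type u) [CommRing S] (P : S[X])

/-- `S[X]/(P)` as an `S[X]`-module -/
noncomputable abbrev CP : ModuleCat.{u} S[X] :=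
  (ModuleCat.restrictScalars (AdjoinRoot.mk P)).obj (ModuleCat.of (AdjoinRoot P) (AdjoinRoot P))

/-- multiplication by `P` on `S[X]` -/
noncomputable def mulP : S[X] →ₗ[S[X]] S[X] := LinearMap.toSpanSingleton S[X] S[X] P

/-- the quotient map, as an `S[X]`-linear map -/
noncomputable def mkP : S[X] →ₗ[S[X]] CP S P where
  toFun p := (show AdjoinRoot P from AdjoinRoot.mk P p)
  map_add' p q := show AdjoinRoot.mk P (p + q) = AdjoinRoot.mk P p + AdjoinRoot.mk P q from
    map_add _ p q
  map_smul' q p := show AdjoinRoot.mk P (q * p) = AdjoinRoot.mk P q * AdjoinRoot.mk P p from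
    map_mul _ q p

/-- the short complex `S[X] ⟶ S[X] ⟶ S[X]/(P)` -/
noncomputable def ses : ShortComplex (ModuleCat.{u} S[X]) :=
  ShortComplex.mk (ModuleCat.ofHom (mulP S P)) (ModuleCat.ofHom (mkP S P)) (by
    ext
    show AdjoinRoot.mk P (1 * P) = 0
    simp)

variable {S P}

lemma ses_shortExact (hP : P.Monic) : (ses S P).ShortExact := by
  refine ModuleCat.shortComplex_shortExact _ ?_ ?_ ?_
  · intro p
    show AdjoinRoot.mk P (show S[X] from p) = 0 ↔ ∃ q : S[X], q * P = (show S[X] from p)
    rw [AdjoinRoot.mk_eq_zero]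
    constructor
    · rintro ⟨q, hq⟩
      exact ⟨q, by rw [hq, mul_comm]⟩
    · rintro ⟨q, hq⟩
      exact ⟨q, by rw [← hq, mul_comm]⟩
  · intro p q h
    have h' : (show S[X] from p) * P = (show S[X] from q) * P := h
    exact hP.isRegular.right h'
  · intro r
    obtain ⟨p, hp⟩ := AdjoinRoot.mk_surjective (g := P) (show AdjoinRoot P from r)
    exact ⟨p, hp⟩

lemma npc_Φ_mk (hP : P.Monic) (a : ℤ) :
    NPC (FF S[X]) a
      ((Φ (AdjoinRoot.mk P)).obj (ModuleCat.of (AdjoinRoot P) (AdjoinRoot P))) := by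
  have hff : FF S[X] (ModuleCat.of S[X] S[X]) :=
    ⟨inferInstanceAs (Module.Finite S[X] S[X]), inferInstanceAs (Module.Free S[X] S[X])⟩
  exact (Groth.Agent.S5599.result (FF S[X]) (ff_prod S[X]) (fp_quasiStable S[X])
    (ff_quasiLiftable S[X]) a (ses_shortExact hP).singleTriangle
    (ses_shortExact hP).singleTriangle_distinguished).1
    (Groth.Agent.Lib.PCohDescent.npc_singleFunctor _ hff 0 (a + 1))
    (Groth.Agent.Lib.PCohDescent.npc_singleFunctor _ hff 0 a)

lemma npc_Φ_of (hP : P.Monic) (a : ℤ) :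
    NPC (FF S) a
      ((Φ (AdjoinRoot.of P)).obj (ModuleCat.of (AdjoinRoot P) (AdjoinRoot P))) := by
  refine Groth.Agent.Lib.PCohDescent.npc_singleFunctor _ ?_ 0 a
  have e : ((ModuleCat.restrictScalars (AdjoinRoot.of P)).obj
      (ModuleCat.of (AdjoinRoot P) (AdjoinRoot P))) ≃ₗ[S] AdjoinRoot P :=
    Groth.Agent.Lib.FlatBaseChangeD.restrictEquiv (A := S) (B := AdjoinRoot P)
  have h1 := hP.finite_adjoinRoot
  have h2 := hP.free_adjoinRoot
  exact ⟨Module.Finite.equiv e.symm, Module.Free.of_equiv e.symm⟩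

theorem one_var {B : Type u} [CommRing B] (ψ : S[X] →+* B) (hP : P.Monic) (hψ : ψ P = 0)
    (m : ℤ) (K : DerivedCategory (ModuleCat.{u} B)) :
    NPC (FF S[X]) m ((U ψ).obj K) ↔ NPC (FF S) m ((U (ψ.comp (C : S →+* S[X]))).obj K) := by
  have h0 : P.eval₂ (ψ.comp C) (ψ X) = 0 := by
    rw [← Polynomial.hom_eval₂, Polynomial.eval₂_C_X, hψ]
  let ψ' : AdjoinRoot P →+* B := AdjoinRoot.lift (ψ.comp C) (ψ X) h0
  have h1 : ψ = ψ'.comp (AdjoinRoot.mk P) := by
    refine Polynomial.ringHom_ext (fun a => ?_) ?_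
    · simp [ψ']
    · simp [ψ']
  have h2 : ψ.comp (C : S →+* S[X]) = ψ'.comp (AdjoinRoot.of P) := by
    ext a
    simp [ψ']
  rw [h2]
  conv_lhs => rw [h1]
  rw [npc_comp_iff (AdjoinRoot.mk P) ψ' (npc_Φ_mk hP) m K,
    npc_comp_iff (AdjoinRoot.of P) ψ' (npc_Φ_of hP) m K]

end OneVar

section Rel

variable {R A : Type u} [CommRing R] [CommRing A] [Algebra R A]

theorem relNPC_option_integral {σ : Type} (a : σ → A) (c : A)
    (hc : (via (R := R) a).IsIntegralElem c) (m : ℤ)
    (K : DerivedCategory (ModuleCat.{u} A)) :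
    RelNPC (R := R) (fun o : Option σ => o.elim c a) m K ↔ RelNPC (R := R) a m K := by
  obtain ⟨P, hP, hPc⟩ := hc
  let ψ : Polynomial (MvPolynomial σ R) →+* A := Polynomial.eval₂RingHom (via (R := R) a) c
  have h1 : via (R := R) (fun o : Option σ => o.elim c a) =
      ψ.comp ((MvPolynomial.optionEquivLeft R σ).toRingEquiv : _ →+* _) := by
    refine MvPolynomial.ringHom_ext (fun r => ?_) (fun i => ?_)
    · simp [ψ]
    · cases i with
      | none => simp [ψ]
      | some i => simp [ψ]
  have h2 : ψ.comp (Polynomial.C : MvPolynomial σ R →+* _) = via (R := R) a := by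
    ext x <;> simp [ψ]
  unfold RelNPC
  rw [h1, npc_comp_iff _ _ (npc_Φ_of_ringEquiv (MvPolynomial.optionEquivLeft R σ).toRingEquiv) m K,
    one_var ψ hP (by simpa [ψ] using hPc) m K, h2]

lemma via_sum_inl_comp {σ τ : Type} (a : σ → A) (b : τ → A) :
    (via (R := R) (Sum.elim a b)).comp
      ((MvPolynomial.rename Sum.inl : MvPolynomial σ R →ₐ[R] MvPolynomial (σ ⊕ τ) R) :
        MvPolynomial σ R →+* MvPolynomial (σ ⊕ τ) R) = via (R := R) a := by
  ext x
  · simp
  · simp

theorem relNPC_sum_integral {σ : Type} (a : σ → A) (ha : (via (R := R) a).IsIntegral) (m : ℤ)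
    (K : DerivedCategory (ModuleCat.{u} A)) (τ : Type) [Finite τ] (b : τ → A) :
    RelNPC (R := R) a m K ↔ RelNPC (R := R) (Sum.elim a b) m K := by
  revert b
  refine Finite.induction_empty_option
    (P := fun τ : Type => ∀ b : τ → A,
      RelNPC (R := R) a m K ↔ RelNPC (R := R) (Sum.elim a b) m K) ?_ ?_ ?_ τ
  · intro τ τ' e h b'
    rw [h (b' ∘ e)]
    have : Sum.elim a (b' ∘ e) = (Sum.elim a b') ∘ (Equiv.sumCongr (Equiv.refl σ) e) := by
      funext x
      cases x <;> rfl
    rw [this]
    exact relNPC_rename _ _ m K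
  · intro b
    have : a = (Sum.elim a b) ∘ (Equiv.sumEmpty σ PEmpty).symm := by
      funext x
      rfl
    conv_lhs => rw [this]
    exact relNPC_rename _ _ m K
  · intro τ _ h b
    rw [h (b ∘ some)]
    obtain ⟨P, hP, hPc⟩ := ha (b none)
    have hc : (via (R := R) (Sum.elim a (b ∘ some))).IsIntegralElem (b none) := by
      refine ⟨P.map ((MvPolynomial.rename Sum.inl :
        MvPolynomial σ R →ₐ[R] MvPolynomial (σ ⊕ τ) R) :
          MvPolynomial σ R →+* MvPolynomial (σ ⊕ τ) R), hP.map _, ?_⟩
      rw [Polynomial.eval₂_map, via_sum_inl_comp]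
      exact hPc
    rw [← relNPC_option_integral (Sum.elim a (b ∘ some)) (b none) hc m K]
    let E : σ ⊕ Option τ ≃ Option (σ ⊕ τ) :=
      { toFun := fun x => Sum.elim (fun i => some (Sum.inl i))
          (fun o => o.elim none (fun j => some (Sum.inr j))) x
        invFun := fun o => o.elim (Sum.inr none) (Sum.elim Sum.inl (fun j => Sum.inr (some j)))
        left_inv := by
          rintro (i | (_ | j)) <;> rfl
        right_inv := by
          rintro (_ | (i | j)) <;> rfl }
    have : Sum.elim a b = (fun o : Option (σ ⊕ τ) => o.elim (b none) (Sum.elim a (b ∘ some))) ∘ E := by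
      funext x
      rcases x with i | (_ | j) <;> rfl
    rw [this]
    exact (relNPC_rename _ _ m K).symm

end Rel

section Finite

variable {R A B : Type u} [CommRing R] [CommRing A] [CommRing B]
  [Algebra R A] [Algebra A B] [Algebra R B] [IsScalarTower R A B]

lemma via_algebraMap_comp {σ : Type} (a : σ → A) :
    via (R := R) (fun i => algebraMap A B (a i)) = (algebraMap A B).comp (via (R := R) a) := by
  refine MvPolynomial.ringHom_ext (fun r => ?_) (fun i => ?_)
  · simp [← IsScalarTower.algebraMap_apply]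
  · simp

/-- `RelNPC` of a restriction -/
lemma relNPC_restrict_iff {σ : Type} (a : σ → A) (m : ℤ) (K : DerivedCategory (ModuleCat.{u} B)) :
    RelNPC (R := R) a m ((U (algebraMap A B)).obj K) ↔
      RelNPC (R := R) (fun i => algebraMap A B (a i)) m K := by
  unfold RelNPC
  rw [via_algebraMap_comp]
  exact ⟨fun h => h.of_iso (UCompIso _ _ K).symm, fun h => h.of_iso (UCompIso _ _ K)⟩

/-- Stacks 15.81: relative pseudo-coherence along a finite map -/
theorem rel_iff_restrict_of_finite [Algebra.FiniteType R A] [Algebra.FiniteType R B]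
    [Module.Finite A B] (K : Dual.D B) (m : ℤ) :
    DerCA.IsRelPseudoCoherent R B m K ↔
      DerCA.IsRelPseudoCoherent R A m ((DRing.restrictD (algebraMap A B)).obj K) := by
  obtain ⟨n, α, hα⟩ := exists_presentation (R := R) (A := A)
  obtain ⟨k, β, hβ⟩ := exists_presentation (R := R) (A := B)
  rw [rel_iff_via α hα, rel_iff_via β hβ, isRelPseudoCoherentVia_iff_relNPC,
    isRelPseudoCoherentVia_iff_relNPC]
  have hα' : Function.Surjective (via (R := R) (fun i => α (MvPolynomial.X i))) := by
    rw [← algHom_eq_via α]; exact hα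
  have hβ' : Function.Surjective (via (R := R) (fun i => β (MvPolynomial.X i))) := by
    rw [← algHom_eq_via β]; exact hβ
  rw [relNPC_restrict_iff]
  have hint : (via (R := R) (fun i => algebraMap A B (α (MvPolynomial.X i)))).IsIntegral := by
    rw [via_algebraMap_comp]
    refine RingHom.IsIntegral.trans _ _ (RingHom.isIntegral_of_surjective _ hα') ?_
    exact RingHom.Finite.to_isIntegral (RingHom.finite_algebraMap.2 inferInstance)
  rw [relNPC_sum_integral _ hint m K (Fin k) (fun j => β (MvPolynomial.X j)),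
    relNPC_sum _ hβ' m K (Fin n) (fun i => algebraMap A B (α (MvPolynomial.X i)))]
  have : Sum.elim (fun j => β (MvPolynomial.X j))
      (fun i => algebraMap A B (α (MvPolynomial.X i))) =
      (Sum.elim (fun i => algebraMap A B (α (MvPolynomial.X i)))
        (fun j => β (MvPolynomial.X j))) ∘ (Equiv.sumComm (Fin k) (Fin n)) := by
    funext x
    cases x <;> rfl
  rw [this]
  exact relNPC_rename _ _ m K

end Finite

end Groth.Agent.Lib.PCohRelFinite
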