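import Groth.Agent.Lib.PCohRelLoc

/-!
# Relative pseudo-coherence and localization, II

Namespace `Groth.Agent.Lib.PCohRelLoc2`.

* `npc_Φ_psi0` : `P_g` is a pseudo-coherent `P[X]`-module.
* `relPC_away_self` : `R_f` is pseudo-coherent relative to `R`.
* `rel_away_of_rel_of_finiteType` : relative pseudo-coherence passes to a principal localization.
* `rel_away_of_rel_away_base` : Stacks 15.81 (base `R_f`, target `A_g`).
-/

set_option autoImplicit false
universe u
open CategoryTheory CategoryTheory.Limits CategoryTheory.Pretriangulated
attribute [local instance] HasDerivedCategory.standard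

namespace Groth.Agent.Lib.PCohRelLoc2

open Groth.Agent.S5599 Groth.Agent.Lib.PCohBdd Groth.Agent.Lib.DRingPCoh21
  Groth.Agent.Lib.PCohRestrict Groth.Agent.Lib.PCohRelative Groth.Agent.Lib.PCohRelative2
  Groth.Agent.Lib.PCohRelative3 Groth.Agent.Lib.PCohRelFinite Groth.Agent.Lib.PCohRelPoly
  Groth.Agent.Lib.PCohRelLoc Groth.Agent.Lib.FlatBaseChangeD

section Away

open Polynomial

variable {P : Type u} [CommRing P] (g : P)

lemma awayEquivAdjoin_psi0 (p : P[X]) :
    Localization.awayEquivAdjoin g (psi0 g p) = AdjoinRoot.mk (C g * X - 1) p := by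
  simp [psi0]

/-- `P_g` is a pseudo-coherent `P[X]`-module -/
lemma npc_Φ_psi0 (a : ℤ) :
    NPC (FF P[X]) a
      ((Φ (psi0 g)).obj (ModuleCat.of (Localization.Away g) (Localization.Away g))) := by
  let e' : ((ModuleCat.restrictScalars (psi0 g)).obj
      (ModuleCat.of (Localization.Away g) (Localization.Away g))) ≃ₗ[P[X]]
      ((ModuleCat.restrictScalars (AdjoinRoot.mk (C g * X - 1 : P[X]))).obj
        (ModuleCat.of (AdjoinRoot (C g * X - 1 : P[X])) (AdjoinRoot (C g * X - 1 : P[X])))) :=
    { toFun := fun x => (show AdjoinRoot (C g * X - 1 : P[X]) from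
        Localization.awayEquivAdjoin g (show Localization.Away g from x))
      invFun := fun y => (show Localization.Away g from
        (Localization.awayEquivAdjoin g).symm (show AdjoinRoot (C g * X - 1 : P[X]) from y))
      map_add' := fun x y => map_add (Localization.awayEquivAdjoin g)
        (show Localization.Away g from x) (show Localization.Away g from y)
      map_smul' := fun p x => by
        show Localization.awayEquivAdjoin g (psi0 g p * (show Localization.Away g from x)) =
          AdjoinRoot.mk (C g * X - 1 : P[X]) p *
            Localization.awayEquivAdjoin g (show Localization.Away g from x)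
        rw [map_mul, awayEquivAdjoin_psi0]
      left_inv := fun x => (Localization.awayEquivAdjoin g).symm_apply_apply _
      right_inv := fun y => (Localization.awayEquivAdjoin g).apply_symm_apply _ }
  exact NPC.of_iso (npc_Φ_mk_of_regular (isRightRegular_q g) a)
    ((DerivedCategory.singleFunctor (ModuleCat.{u} P[X]) 0).mapIso e'.symm.toModuleIso)

lemma psi0_X_eq : psi0 g X = IsLocalization.Away.invSelf g := by
  have h1 := psi0_X_mul g
  have h2 := IsLocalization.Away.mul_invSelf (S := Localization.Away g) g
  calc psi0 g X = psi0 g X * (algebraMap P (Localization.Away g) g *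
      IsLocalization.Away.invSelf g) := by rw [h2, mul_one]
    _ = _ := by rw [← mul_assoc, h1, one_mul]

end Away

section Self

variable (R : Type u) [CommRing R] (f : R)

/-- `R_f` is pseudo-coherent relative to `R` -/
theorem relPC_away_self :
    DerCA.IsRelPseudoCoherentModuleAll R (Localization.Away f) (Localization.Away f) := by
  intro k
  let b : Unit → Localization.Away f := fun _ => IsLocalization.Away.invSelf f
  let ρ : MvPolynomial Unit R ≃+* Polynomial R := (MvPolynomial.uniqueAlgEquiv R Unit).toRingEquiv
  have hvia : via (R := R) b = (psi0 f).comp (ρ : _ →+* _) := by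
    refine MvPolynomial.ringHom_ext (fun r => ?_) (fun i => ?_)
    · show _ = psi0 f (MvPolynomial.uniqueAlgEquiv R Unit (MvPolynomial.C r))
      rw [via_C, MvPolynomial.uniqueAlgEquiv_apply, MvPolynomial.eval₂_C, psi0_C]
    · show _ = psi0 f (MvPolynomial.uniqueAlgEquiv R Unit (MvPolynomial.X i))
      rw [via_X, MvPolynomial.uniqueAlgEquiv_apply, MvPolynomial.eval₂_X, psi0_X_eq]
  have hsurjb : Function.Surjective (via (R := R) b) := by
    rw [hvia]
    intro y
    obtain ⟨y2, rfl⟩ := psi0_surjective f y
    obtain ⟨y3, rfl⟩ := ρ.surjective y2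
    exact ⟨y3, rfl⟩
  rw [rel_iff_relNPC b hsurjb k _]
  unfold RelNPC
  rw [hvia, npc_comp_iff _ (psi0 f) (npc_Φ_of_ringEquiv ρ) k _]
  exact NPC.of_iso (npc_Φ_psi0 f k)
    (USingleIso (psi0 f) (ModuleCat.of (Localization.Away f) (Localization.Away f))).symm

end Self

section Single

variable {R A : Type u} [CommRing R] [CommRing A] [Algebra R A] [Algebra.FiniteType R A]

/-- relative pseudo-coherence passes to a principal localization -/
theorem rel_away_of_rel_of_finiteType (g : A) (K : DRing.Cx A) (m : ℤ)
    (h : DerCA.IsRelPseudoCoherent R A m (DRing.toD K)) :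
    DerCA.IsRelPseudoCoherent R (Localization.Away g) m
      (DRing.toD (bcCx (Localization.Away g) K)) := by
  obtain ⟨n, α, hα⟩ := exists_presentation (R := R) (A := A)
  let _ : Algebra (MvPolynomial (Fin n) R) A := α.toRingHom.toAlgebra
  have : IsScalarTower R (MvPolynomial (Fin n) R) A :=
    IsScalarTower.of_algebraMap_eq (fun r => (α.commutes r).symm)
  have hsurj : Function.Surjective (algebraMap (MvPolynomial (Fin n) R) A) := hα
  obtain ⟨p, rfl⟩ := hsurj g
  exact rel_away_of_rel hsurj p K m h

end Single

section Base

variable {R A : Type u} [CommRing R] [CommRing A] (f : R) [Algebra R A]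
  [Algebra (Localization.Away f) A] [IsScalarTower R (Localization.Away f) A]
  [Algebra.FiniteType (Localization.Away f) A]

/-- Stacks 15.81: from `R_f` to `R`, and from `A` to `A_g` -/
theorem rel_away_of_rel_away_base (g : A) (K : DRing.Cx A) (m : ℤ)
    (h : DerCA.IsRelPseudoCoherent (Localization.Away f) A m (DRing.toD K)) :
    DerCA.IsRelPseudoCoherent R (Localization.Away g) m
      (DRing.toD (bcCx (Localization.Away g) K)) := by
  have ft : Algebra.FiniteType R A :=
    Algebra.FiniteType.trans (inferInstance : Algebra.FiniteType R (Localization.Away f))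
      inferInstance
  have h1 := (rel_iff_of_intermediate (R := R) (A := Localization.Away f) (B := A)
    (relPC_away_self R f) (DRing.toD K) m).1 h
  exact rel_away_of_rel_of_finiteType g K m h1

end Base

end Groth.Agent.Lib.PCohRelLoc2
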