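import Groth.Agent.Lib.PCohRelFinite
import Groth.Agent.Lib.PCohRelative3
import Mathlib.RingTheory.TensorProduct.MvPolynomial

/-!
# Relative pseudo-coherence: change of the base ring

Namespace `Groth.Agent.Lib.PCohRelPoly`.

* `npc_Φ_mvPolynomial` : if `A` is a pseudo-coherent `S`-module then `A[τ]` is a pseudo-coherent
  `S[τ]`-module (flat base change).
* `rel_iff_relNPC` : relative pseudo-coherence tested on a generating family.
* `rel_iff_of_intermediate` : Stacks 15.81, `R → A → B` with `A` pseudo-coherent relative to `R`.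
-/

set_option autoImplicit false
universe u
open CategoryTheory CategoryTheory.Limits CategoryTheory.Pretriangulated
attribute [local instance] HasDerivedCategory.standard

namespace Groth.Agent.Lib.PCohRelPoly

open Groth.Agent.S5599 Groth.Agent.Lib.PCohBdd Groth.Agent.Lib.DRingPCoh21
  Groth.Agent.Lib.PCohRestrict Groth.Agent.Lib.PCohRelative Groth.Agent.Lib.PCohRelative2
  Groth.Agent.Lib.PCohRelative3 Groth.Agent.Lib.PCohRelFinite

section Poly

attribute [local instance] MvPolynomial.algebraMvPolynomial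

open Groth.Agent.Lib.FlatBaseChangeD in
lemma npc_Φ_mvPolynomial' {S A : Type u} [CommRing S] [CommRing A] [Algebra S A] (τ : Type)
    (hA : ∀ a : ℤ, NPC (FF S) a ((Φ (algebraMap S A)).obj (ModuleCat.of A A))) (a : ℤ) :
    NPC (FF (MvPolynomial τ S)) a
      ((Φ (algebraMap (MvPolynomial τ S) (MvPolynomial τ A))).obj
        (ModuleCat.of (MvPolynomial τ A) (MvPolynomial τ A))) := by
  have h1 : DRing.IsPseudoCoherent S a ((Φ (algebraMap S A)).obj (ModuleCat.of A A)) :=
    (isPseudoCoherent_iff S a _).2 (hA a)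
  have h2 := isPseudoCoherent_FD (B := MvPolynomial τ S) h1
  rw [isPseudoCoherent_iff] at h2
  refine NPC.of_iso h2 ?_
  refine ((F S (MvPolynomial τ S)).mapDerivedCategorySingleFunctor 0).app _ ≪≫
    (DerivedCategory.singleFunctor (ModuleCat.{u} (MvPolynomial τ S)) 0).mapIso ?_
  refine (F S (MvPolynomial τ S)).mapIso (restrictEquiv (A := S) (B := A)).toModuleIso ≪≫
    objIso (A := S) (B := MvPolynomial τ S) A ≪≫ ?_ ≪≫
    (restrictEquiv (A := MvPolynomial τ S) (B := MvPolynomial τ A)).symm.toModuleIso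
  exact (Algebra.IsPushout.out (R := S) (S := MvPolynomial τ S) (R' := A)
    (S' := MvPolynomial τ A)).equiv.toModuleIso

lemma npc_Φ_mvPolynomial {S A : Type u} [CommRing S] [CommRing A] (φ : S →+* A) (τ : Type)
    (hA : ∀ a : ℤ, NPC (FF S) a ((Φ φ).obj (ModuleCat.of A A))) (a : ℤ) :
    NPC (FF (MvPolynomial τ S)) a
      ((Φ (MvPolynomial.map (σ := τ) φ)).obj
        (ModuleCat.of (MvPolynomial τ A) (MvPolynomial τ A))) := by
  let _ : Algebra S A := φ.toAlgebra
  exact npc_Φ_mvPolynomial' (S := S) (A := A) τ hA a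

end Poly

section Rel

variable {R A : Type u} [CommRing R] [CommRing A] [Algebra R A]

lemma rel_iff_relNPC [Algebra.FiniteType R A] {σ : Type} [Finite σ] (b : σ → A)
    (hb : Function.Surjective (via (R := R) b)) (m : ℤ) (K : Dual.D A) :
    DerCA.IsRelPseudoCoherent R A m K ↔ RelNPC (R := R) b m K := by
  obtain ⟨n, α, hα⟩ := exists_presentation (R := R) (A := A)
  rw [rel_iff_via α hα, isRelPseudoCoherentVia_iff_relNPC]
  exact relNPC_indep _ _ (by rw [← algHom_eq_via]; exact hα) hb m K

end Rel

section Intermediate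

variable {R A B : Type u} [CommRing R] [CommRing A] [CommRing B]
  [Algebra R A] [Algebra A B] [Algebra R B] [IsScalarTower R A B]

/-- Stacks 15.81: `R → A → B`, `A` pseudo-coherent relative to `R` -/
theorem rel_iff_of_intermediate [Algebra.FiniteType R A] [Algebra.FiniteType R B]
    [Algebra.FiniteType A B] (hA : DerCA.IsRelPseudoCoherentModuleAll R A A)
    (K : Dual.D B) (m : ℤ) :
    DerCA.IsRelPseudoCoherent A B m K ↔ DerCA.IsRelPseudoCoherent R B m K := by
  obtain ⟨n, α, hα⟩ := exists_presentation (R := R) (A := A)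
  obtain ⟨k, γ, hγ⟩ := exists_presentation (R := A) (A := B)
  let φ : MvPolynomial (Fin n) R →+* A := (α : MvPolynomial (Fin n) R →+* A)
  have hφ : Function.Surjective φ := hα
  -- `A` is a pseudo-coherent `R[x]`-module
  have hA' : ∀ a : ℤ, NPC (FF (MvPolynomial (Fin n) R)) a ((Φ φ).obj (ModuleCat.of A A)) := by
    intro a
    have h1 := (rel_iff_via α hα a _).1 (hA a)
    rw [via_iff_npc] at h1
    exact h1.of_iso (USingleIso φ (ModuleCat.of A A))
  have hθ := npc_Φ_mvPolynomial φ (Fin k) hA'
  let ρ : MvPolynomial (Fin k ⊕ Fin n) R ≃+* MvPolynomial (Fin k) (MvPolynomial (Fin n) R) :=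
    (MvPolynomial.sumAlgEquiv R (Fin k) (Fin n)).toRingEquiv
  let γ' : MvPolynomial (Fin k) A →+* B := (γ : MvPolynomial (Fin k) A →+* B)
  have hγ' : Function.Surjective γ' := hγ
  -- the presentation of `B` over `R`
  have hcomp : ((γ'.comp (MvPolynomial.map (σ := Fin k) φ)).comp (ρ : _ →+* _)) =
      via (R := R) (Sum.elim (fun j => γ (MvPolynomial.X j))
        (fun i => algebraMap A B (α (MvPolynomial.X i)))) := by
    refine MvPolynomial.ringHom_ext (fun r => ?_) (fun i => ?_)
    · show γ (MvPolynomial.map φ (MvPolynomial.sumAlgEquiv R (Fin k) (Fin n)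
        (MvPolynomial.C r))) = _
      rw [MvPolynomial.sumAlgEquiv_C_inl, MvPolynomial.map_C, via_C]
      have h1 : φ (MvPolynomial.C r) = algebraMap R A r := by
        show α (MvPolynomial.C r) = _
        rw [← MvPolynomial.algebraMap_eq, AlgHom.commutes]
      rw [h1, ← MvPolynomial.algebraMap_eq, AlgHom.commutes, ← IsScalarTower.algebraMap_apply]
    · cases i with
      | inl j =>
        show γ (MvPolynomial.map φ (MvPolynomial.sumAlgEquiv R (Fin k) (Fin n)
          (MvPolynomial.X (Sum.inl j)))) = _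
        rw [MvPolynomial.sumAlgEquiv_X_inl, MvPolynomial.map_X, via_X]
        rfl
      | inr i =>
        show γ (MvPolynomial.map φ (MvPolynomial.sumAlgEquiv R (Fin k) (Fin n)
          (MvPolynomial.X (Sum.inr i)))) = _
        rw [MvPolynomial.sumAlgEquiv_X_inr, MvPolynomial.map_C, via_X,
          ← MvPolynomial.algebraMap_eq, AlgHom.commutes]
        rfl
  have hsurj : Function.Surjective (via (R := R) (Sum.elim (fun j => γ (MvPolynomial.X j))
      (fun i => algebraMap A B (α (MvPolynomial.X i))))) := by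
    rw [← hcomp]
    exact (hγ'.comp (MvPolynomial.map_surjective φ hφ)).comp ρ.surjective
  rw [rel_iff_relNPC _ hsurj m K, rel_iff_via γ hγ, via_iff_npc]
  unfold RelNPC
  rw [← hcomp, npc_comp_iff _ _ (npc_Φ_of_ringEquiv ρ) m K]
  exact (npc_comp_iff _ γ' hθ m K).symm

end Intermediate

end Groth.Agent.Lib.PCohRelPoly
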