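import Groth.Agent.Lib.PCohRestrict
import Groth.Prelude.Def_DerCA
import Mathlib.Algebra.Homology.DerivedCategory.SingleTriangle
import Mathlib.Algebra.Polynomial.Div
import Mathlib.Algebra.MvPolynomial.Equiv
import Mathlib.Algebra.MvPolynomial.Rename

/-!
# Relative pseudo-coherence: independence of the presentation (Stacks 15.81)

Namespace `Groth.Agent.Lib.PCohRelative`.  `FF`, `NPC`, `U`, `Φ` as in `Lib/PCohRestrict`.

* `UCompIso` : restriction of scalars along a composite, on derived categories (object level).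
* `npc_comp_iff` : if `B` is pseudo-coherent over `A` (via `φ`) then for `ψ : B →+* C`,
  `K ∈ D(C)` restricted to `A` is `m`-pseudo-coherent iff restricted to `B` it is.
* `npc_Φ_of_ringEquiv`, `npc_Φ_eval` : `B` is pseudo-coherent over `A` for a ring isomorphism, and
  for an evaluation `S[X] → S`.
* `RelNPC a m K` for a family `a : σ → A` (relative to `R`), `relNPC_rename`, `relNPC_option`,
  `relNPC_sum`, and `relNPC_indep` : independence of the generating family.
-/

set_option autoImplicit false
universe u
open CategoryTheory CategoryTheory.Limits CategoryTheory.Pretriangulated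
attribute [local instance] HasDerivedCategory.standard

namespace Groth.Agent.Lib.PCohRelative

open Groth.Agent.S5599 Groth.Agent.Lib.PCohBdd Groth.Agent.Lib.DRingPCoh21
  Groth.Agent.Lib.PCohRestrict

section Comp

variable {A B C : Type u} [CommRing A] [CommRing B] [CommRing C] (φ : A →+* B) (ψ : B →+* C)

/-- restriction of scalars along a composite, on derived categories -/
noncomputable def UCompIso (K : DerivedCategory (ModuleCat.{u} C)) :
    (U (ψ.comp φ)).obj K ≅ (U φ).obj ((U ψ).obj K) := by
  let K₀ : CochainComplex (ModuleCat.{u} C) ℤ := DerivedCategory.Q.objPreimage K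
  let e : DerivedCategory.Q.obj K₀ ≅ K := DerivedCategory.Q.objObjPreimageIso K
  let G₁ := ModuleCat.restrictScalars.{u} ψ
  let G₂ := ModuleCat.restrictScalars.{u} φ
  let G₃ := ModuleCat.restrictScalars.{u} (ψ.comp φ)
  let e' : G₁ ⋙ G₂ ≅ G₃ := (ModuleCat.restrictScalarsComp'.{u} φ ψ (ψ.comp φ) rfl).symm
  let c := Functor.mapHomologicalComplexCompIso e' (ComplexShape.up ℤ)
  exact (U (ψ.comp φ)).mapIso e.symm ≪≫ G₃.mapDerivedCategoryFactors.app K₀ ≪≫
    DerivedCategory.Q.mapIso (c.symm.app K₀) ≪≫
    (G₂.mapDerivedCategoryFactors.app ((G₁.mapHomologicalComplex _).obj K₀)).symm ≪≫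
    (U φ).mapIso (G₁.mapDerivedCategoryFactors.app K₀).symm ≪≫
    (U φ).mapIso ((U ψ).mapIso e)

theorem npc_comp_iff (hB : ∀ a : ℤ, NPC (FF A) a ((Φ φ).obj (ModuleCat.of B B)))
    (m : ℤ) (K : DerivedCategory (ModuleCat.{u} C)) :
    NPC (FF A) m ((U (ψ.comp φ)).obj K) ↔ NPC (FF B) m ((U ψ).obj K) := by
  rw [npc_restrict_iff φ hB m ((U ψ).obj K)]
  exact ⟨fun h => h.of_iso (UCompIso φ ψ K), fun h => h.of_iso (UCompIso φ ψ K).symm⟩

end Comp

section Equiv

variable {A B : Type u} [CommRing A] [CommRing B]

/-- a ring isomorphism makes the target a finite free module of rank one -/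
lemma npc_Φ_of_ringEquiv (σ : A ≃+* B) (a : ℤ) :
    NPC (FF A) a ((Φ (σ : A →+* B)).obj (ModuleCat.of B B)) := by
  refine Groth.Agent.Lib.PCohDescent.npc_singleFunctor _ ?_ 0 a
  let e : A ≃ₗ[A] ((ModuleCat.restrictScalars.{u} (σ : A →+* B)).obj (ModuleCat.of B B)) :=
    { toFun := fun x => (show B from σ x)
      invFun := fun y => σ.symm (show B from y)
      map_add' := fun x y => show σ (x + y) = σ x + σ y from map_add σ x y
      map_smul' := fun r x => show σ (r * x) = σ r * σ x from map_mul σ r x
      left_inv := fun x => σ.symm_apply_apply x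
      right_inv := fun y => σ.apply_symm_apply y }
  exact ⟨Module.Finite.equiv e, Module.Free.of_equiv e⟩

end Equiv

section Eval

open Polynomial

variable (S : Type u) [CommRing S] (s : S)

/-- `S` as an `S[X]`-module through `X ↦ s` -/
noncomputable abbrev Ss : ModuleCat.{u} S[X] :=
  (ModuleCat.restrictScalars (Polynomial.evalRingHom s)).obj (ModuleCat.of S S)

/-- multiplication by `X - s` on `S[X]` -/
noncomputable def mulXs : S[X] →ₗ[S[X]] S[X] := LinearMap.toSpanSingleton S[X] S[X] (X - C s)

/-- evaluation at `s`, as an `S[X]`-linear map `S[X] ⟶ Ss` -/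
noncomputable def evs : S[X] →ₗ[S[X]] Ss S s where
  toFun p := (show S from p.eval s)
  map_add' p q := show ((p + q).eval s : S) = p.eval s + q.eval s from Polynomial.eval_add
  map_smul' q p := show ((q * p).eval s : S) = q.eval s * p.eval s from Polynomial.eval_mul

/-- the Koszul short complex `S[X] ⟶ S[X] ⟶ S` -/
noncomputable def koszul : ShortComplex (ModuleCat.{u} S[X]) :=
  ShortComplex.mk (ModuleCat.ofHom (mulXs S s)) (ModuleCat.ofHom (evs S s)) (by
    ext
    show ((1 * (X - C s) : S[X]).eval s : S) = 0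
    simp)

lemma koszul_shortExact : (koszul S s).ShortExact := by
  refine ModuleCat.shortComplex_shortExact _ ?_ ?_ ?_
  · intro p
    show (show S[X] from p).eval s = (0 : S) ↔ ∃ q : S[X], q * (X - C s) = (show S[X] from p)
    constructor
    · intro h
      have : X - C s ∣ (show S[X] from p) := by
        rw [Polynomial.dvd_iff_isRoot]
        exact h
      obtain ⟨q, hq⟩ := this
      exact ⟨q, by rw [hq, mul_comm]⟩
    · rintro ⟨q, hq⟩
      rw [← hq]
      simp
  · intro p q h
    have h' : (show S[X] from p) * (X - C s) = (show S[X] from q) * (X - C s) := h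
    exact (Polynomial.monic_X_sub_C s).isRegular.right h'
  · intro r
    exact ⟨Polynomial.C (show S from r), show (Polynomial.C (show S from r)).eval s = _ by simp⟩

lemma npc_Φ_eval (a : ℤ) :
    NPC (FF S[X]) a ((Φ (Polynomial.evalRingHom s)).obj (ModuleCat.of S S)) := by
  have hff : FF S[X] (ModuleCat.of S[X] S[X]) :=
    ⟨inferInstanceAs (Module.Finite S[X] S[X]), inferInstanceAs (Module.Free S[X] S[X])⟩
  exact (Groth.Agent.S5599.result (FF S[X]) (ff_prod S[X]) (fp_quasiStable S[X])
    (ff_quasiLiftable S[X]) a (koszul_shortExact S s).singleTriangle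
    (koszul_shortExact S s).singleTriangle_distinguished).1
    (Groth.Agent.Lib.PCohDescent.npc_singleFunctor _ hff 0 (a + 1))
    (Groth.Agent.Lib.PCohDescent.npc_singleFunctor _ hff 0 a)

end Eval

section Rel

variable {R A : Type u} [CommRing R] [CommRing A] [Algebra R A]

/-- the ring map `R[σ] → A` determined by a family of elements of `A` -/
noncomputable def via {σ : Type} (a : σ → A) : MvPolynomial σ R →+* A :=
  ((MvPolynomial.aeval a : MvPolynomial σ R →ₐ[R] A) : MvPolynomial σ R →+* A)

@[simp] lemma via_X {σ : Type} (a : σ → A) (i : σ) : via (R := R) a (MvPolynomial.X i) = a i := by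
  simp [via]

@[simp] lemma via_C {σ : Type} (a : σ → A) (r : R) :
    via (R := R) a (MvPolynomial.C r) = algebraMap R A r := by
  simp [via]

/-- `K ∈ D(A)` restricted along `R[σ] → A` is `m`-pseudo-coherent -/
def RelNPC {σ : Type} (a : σ → A) (m : ℤ) (K : DerivedCategory (ModuleCat.{u} A)) : Prop :=
  NPC (FF (MvPolynomial σ R)) m ((U (via (R := R) a)).obj K)

lemma via_rename {σ τ : Type} (e : σ ≃ τ) (b : τ → A) :
    via (R := R) (b ∘ e) =
      (via (R := R) b).comp ((MvPolynomial.renameEquiv R e).toRingEquiv : _ →+* _) := by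
  refine MvPolynomial.ringHom_ext (fun r => ?_) (fun i => ?_)
  · simp
  · simp

theorem relNPC_rename {σ τ : Type} (e : σ ≃ τ) (b : τ → A) (m : ℤ)
    (K : DerivedCategory (ModuleCat.{u} A)) :
    RelNPC (R := R) (b ∘ e) m K ↔ RelNPC (R := R) b m K := by
  unfold RelNPC
  rw [via_rename e b]
  exact npc_comp_iff _ _ (npc_Φ_of_ringEquiv (MvPolynomial.renameEquiv R e).toRingEquiv) m K

lemma via_option {σ : Type} (a : σ → A) (c : A) (s : MvPolynomial σ R)
    (hs : via (R := R) a s = c) :
    via (R := R) (fun o : Option σ => o.elim c a) =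
      ((via (R := R) a).comp (Polynomial.evalRingHom s)).comp
        ((MvPolynomial.optionEquivLeft R σ).toRingEquiv : _ →+* _) := by
  refine MvPolynomial.ringHom_ext (fun r => ?_) (fun i => ?_)
  · simp
  · cases i with
    | none => simp [hs]
    | some i => simp

theorem relNPC_option {σ : Type} (a : σ → A) (c : A) (s : MvPolynomial σ R)
    (hs : via (R := R) a s = c) (m : ℤ) (K : DerivedCategory (ModuleCat.{u} A)) :
    RelNPC (R := R) (fun o : Option σ => o.elim c a) m K ↔ RelNPC (R := R) a m K := by
  unfold RelNPC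
  rw [via_option a c s hs]
  rw [npc_comp_iff _ _ (npc_Φ_of_ringEquiv (MvPolynomial.optionEquivLeft R σ).toRingEquiv) m K]
  exact npc_comp_iff _ _ (npc_Φ_eval (MvPolynomial σ R) s) m K

lemma via_sum_inl {σ τ : Type} (a : σ → A) (b : τ → A) (p : MvPolynomial σ R) :
    via (R := R) (Sum.elim a b) (MvPolynomial.rename Sum.inl p) = via (R := R) a p := by
  simp [via, MvPolynomial.aeval_rename, Function.comp_def]

theorem relNPC_sum {σ : Type} (a : σ → A) (ha : Function.Surjective (via (R := R) a)) (m : ℤ)
    (K : DerivedCategory (ModuleCat.{u} A)) (τ : Type) [Finite τ] (b : τ → A) :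
    RelNPC (R := R) a m K ↔ RelNPC (R := R) (Sum.elim a b) m K := by
  revert b
  refine Finite.induction_empty_option
    (P := fun τ : Type => ∀ b : τ → A,
      RelNPC (R := R) a m K ↔ RelNPC (R := R) (Sum.elim a b) m K) ?_ ?_ ?_ τ
  · intro τ τ' e h b'
    rw [h (b' ∘ e)]
    have : Sum.elim a (b' ∘ e) = (Sum.elim a b') ∘ (Equiv.sumCongr (Equiv.refl σ) e) := by
      funext x
      cases x <;> rfl
    rw [this]
    exact relNPC_rename _ _ m K
  · intro b
    have : a = (Sum.elim a b) ∘ (Equiv.sumEmpty σ PEmpty).symm := by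
      funext x
      rfl
    conv_lhs => rw [this]
    exact relNPC_rename _ _ m K
  · intro τ _ h b
    rw [h (b ∘ some)]
    obtain ⟨s₀, hs₀⟩ := ha (b none)
    have hs : via (R := R) (Sum.elim a (b ∘ some)) (MvPolynomial.rename Sum.inl s₀) = b none := by
      rw [via_sum_inl, hs₀]
    rw [← relNPC_option (Sum.elim a (b ∘ some)) (b none) _ hs m K]
    let E : σ ⊕ Option τ ≃ Option (σ ⊕ τ) :=
      { toFun := fun x => Sum.elim (fun i => some (Sum.inl i))
          (fun o => o.elim none (fun j => some (Sum.inr j))) x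
        invFun := fun o => o.elim (Sum.inr none) (Sum.elim Sum.inl (fun j => Sum.inr (some j)))
        left_inv := by
          rintro (i | (_ | j)) <;> rfl
        right_inv := by
          rintro (_ | (i | j)) <;> rfl }
    have : Sum.elim a b = (fun o : Option (σ ⊕ τ) => o.elim (b none) (Sum.elim a (b ∘ some))) ∘ E := by
      funext x
      rcases x with i | (_ | j) <;> rfl
    rw [this]
    exact (relNPC_rename _ _ m K).symm

/-- independence of the finite generating family -/
theorem relNPC_indep {σ τ : Type} [Finite σ] [Finite τ] (a : σ → A) (b : τ → A)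
    (ha : Function.Surjective (via (R := R) a)) (hb : Function.Surjective (via (R := R) b))
    (m : ℤ) (K : DerivedCategory (ModuleCat.{u} A)) :
    RelNPC (R := R) a m K ↔ RelNPC (R := R) b m K := by
  rw [relNPC_sum a ha m K τ b, relNPC_sum b hb m K σ a]
  have : Sum.elim b a = (Sum.elim a b) ∘ (Equiv.sumComm τ σ) := by
    funext x
    cases x <;> rfl
  rw [this]
  exact (relNPC_rename _ _ m K).symm

/-- an `R`-algebra map out of a polynomial ring is `via` of the images of the variables -/
lemma algHom_eq_via {σ : Type} (α : MvPolynomial σ R →ₐ[R] A) :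
    (α : MvPolynomial σ R →+* A) = via (R := R) (fun i => α (MvPolynomial.X i)) := by
  refine MvPolynomial.ringHom_ext (fun r => ?_) (fun i => ?_)
  · simp [← MvPolynomial.algebraMap_eq]
  · simp

/-- Stacks 15.81: relative pseudo-coherence is independent of the presentation -/
theorem isRelPseudoCoherentVia_iff {n k : ℕ} (α : MvPolynomial (Fin n) R →ₐ[R] A)
    (hα : Function.Surjective α) (β : MvPolynomial (Fin k) R →ₐ[R] A)
    (hβ : Function.Surjective β) (K : Dual.D A) (m : ℤ) :
    DerCA.IsRelPseudoCoherentVia α m K ↔ DerCA.IsRelPseudoCoherentVia β m K := by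
  unfold DerCA.IsRelPseudoCoherentVia
  rw [isPseudoCoherent_iff, isPseudoCoherent_iff]
  have h1 := algHom_eq_via α
  have h2 := algHom_eq_via β
  have ha : Function.Surjective (via (R := R) (fun i => α (MvPolynomial.X i))) := by
    rw [← h1]; exact hα
  have hb : Function.Surjective (via (R := R) (fun i => β (MvPolynomial.X i))) := by
    rw [← h2]; exact hβ
  have := relNPC_indep _ _ ha hb m K
  unfold RelNPC at this
  rw [← h1, ← h2] at this
  exact this

lemma isRelPseudoCoherentVia_iff_relNPC {n : ℕ} (α : MvPolynomial (Fin n) R →ₐ[R] A)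
    (K : Dual.D A) (m : ℤ) :
    DerCA.IsRelPseudoCoherentVia α m K ↔
      RelNPC (R := R) (fun i => α (MvPolynomial.X i)) m K := by
  unfold DerCA.IsRelPseudoCoherentVia RelNPC
  rw [isPseudoCoherent_iff, ← algHom_eq_via α]
  rfl

end Rel

end Groth.Agent.Lib.PCohRelative
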