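import Groth.Agent.Lib.PCohRelative
import Mathlib.RingTheory.FiniteType
import Groth.Agent.S5605

/-!
# Relative pseudo-coherence: working with a fixed presentation

Namespace `Groth.Agent.Lib.PCohRelative2`.

* `exists_presentation` : a finite type algebra has a surjection from some `R[x_1..x_n]`.
* `rel_iff_via`, `relAll_iff_via` : `DerCA.IsRelPseudoCoherent R A m K` may be tested on any given
  presentation.
* `via_iff_npc` : bridge to `NPC (FF R[x]) m ((U α).obj K)`.
-/

set_option autoImplicit false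
universe u
open CategoryTheory CategoryTheory.Limits CategoryTheory.Pretriangulated
attribute [local instance] HasDerivedCategory.standard

namespace Groth.Agent.Lib.PCohRelative2

open Groth.Agent.S5599 Groth.Agent.Lib.PCohBdd Groth.Agent.Lib.DRingPCoh21
  Groth.Agent.Lib.PCohRestrict Groth.Agent.Lib.PCohRelative

variable {R A : Type u} [CommRing R] [CommRing A] [Algebra R A]

lemma exists_presentation [Algebra.FiniteType R A] :
    ∃ (n : ℕ) (α : MvPolynomial (Fin n) R →ₐ[R] A), Function.Surjective α :=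
  Algebra.FiniteType.iff_quotient_mvPolynomial''.1 inferInstance

lemma rel_iff_via {n : ℕ} (α : MvPolynomial (Fin n) R →ₐ[R] A) (hα : Function.Surjective α)
    (m : ℤ) (K : Dual.D A) :
    DerCA.IsRelPseudoCoherent R A m K ↔ DerCA.IsRelPseudoCoherentVia α m K := by
  constructor
  · rintro ⟨k, β, hβ, h⟩
    exact (isRelPseudoCoherentVia_iff β hβ α hα K m).1 h
  · intro h
    exact ⟨n, α, hα, h⟩

lemma relAll_iff_via {n : ℕ} (α : MvPolynomial (Fin n) R →ₐ[R] A) (hα : Function.Surjective α)
    (K : Dual.D A) :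
    DerCA.IsRelPseudoCoherentAll R A K ↔ ∀ m : ℤ, DerCA.IsRelPseudoCoherentVia α m K :=
  forall_congr' fun m => rel_iff_via α hα m K

lemma via_iff_npc {n : ℕ} (α : MvPolynomial (Fin n) R →ₐ[R] A) (m : ℤ) (K : Dual.D A) :
    DerCA.IsRelPseudoCoherentVia α m K ↔
      NPC (FF (MvPolynomial (Fin n) R)) m
        ((U (α : MvPolynomial (Fin n) R →+* A)).obj K) := by
  unfold DerCA.IsRelPseudoCoherentVia
  rw [isPseudoCoherent_iff]
  rfl

/-- 2-of-3 for a fixed presentation -/
lemma via_triangle {n : ℕ} (α : MvPolynomial (Fin n) R →ₐ[R] A) (m : ℤ)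
    (T : Triangle (Dual.D A)) (hT : T ∈ distinguishedTriangles) :
    (DerCA.IsRelPseudoCoherentVia α (m + 1) T.obj₁ → DerCA.IsRelPseudoCoherentVia α m T.obj₂ →
        DerCA.IsRelPseudoCoherentVia α m T.obj₃) ∧
      (DerCA.IsRelPseudoCoherentVia α m T.obj₁ → DerCA.IsRelPseudoCoherentVia α m T.obj₃ →
        DerCA.IsRelPseudoCoherentVia α m T.obj₂) ∧
      (DerCA.IsRelPseudoCoherentVia α (m + 1) T.obj₂ → DerCA.IsRelPseudoCoherentVia α m T.obj₃ →
        DerCA.IsRelPseudoCoherentVia α (m + 1) T.obj₁) := by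
  simp only [via_iff_npc]
  exact Groth.Agent.S5599.result (FF (MvPolynomial (Fin n) R)) (ff_prod _) (fp_quasiStable _)
    (ff_quasiLiftable _) m
    ((U (α : MvPolynomial (Fin n) R →+* A)).mapTriangle.obj T)
    ((U (α : MvPolynomial (Fin n) R →+* A)).map_distinguished T hT)

/-- summands, for a fixed presentation -/
lemma via_biprod {n : ℕ} (α : MvPolynomial (Fin n) R →ₐ[R] A) (m : ℤ)
    (K L : Dual.D A) [HasBinaryBiproduct K L] :
    DerCA.IsRelPseudoCoherentVia α m (K ⊞ L) →
      DerCA.IsRelPseudoCoherentVia α m K ∧ DerCA.IsRelPseudoCoherentVia α m L := by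
  simp only [via_iff_npc]
  intro h
  have hpres : PreservesBinaryBiproducts (U (α : MvPolynomial (Fin n) R →+* A)) :=
    preservesBinaryBiproducts_of_preservesBiproducts _
  exact (Groth.Agent.S5605.result (FF (MvPolynomial (Fin n) R)) (ff_prod _) (fp_quasiStable _)
    (ff_quasiLiftable _) m ((U (α : MvPolynomial (Fin n) R →+* A)).obj K)
    ((U (α : MvPolynomial (Fin n) R →+* A)).obj L)).1
    (h.of_iso ((U (α : MvPolynomial (Fin n) R →+* A)).mapBiprod K L))

end Groth.Agent.Lib.PCohRelative2
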