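import Groth.Agent.Lib.PCohDescent
import Groth.Agent.Lib.DRingPCoh21
import Groth.Agent.Lib.FlatBaseChangeD
import Groth.Prelude.Def_DDual2

/-!
# Pseudo-coherence and restriction of scalars (Stacks 064Z)

Namespace `Groth.Agent.Lib.PCohRestrict`.  `FF A` is `Groth.Agent.Lib.DRingPCoh21.FF A`
(finite free modules), `NPC` is `Groth.Agent.S5599.NPC`.

* `isZero_homology_map` : an exact functor is t-exact on derived categories.
* `finite_of_restrictScalars` : `Module.Finite A (restrictScalars φ M) → Module.Finite B M`.
* `NPC.biprod`.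
* `npc_restrict_single` : if `B` is a pseudo-coherent `A`-module then `E[0]` restricted to `A` is
  pseudo-coherent for every finite free `B`-module `E`.
* `npc_restrict_iff` : `K ∈ D(B)` is `m`-pseudo-coherent iff its restriction to `A` is.
-/

set_option autoImplicit false
universe u
open CategoryTheory CategoryTheory.Limits CategoryTheory.Pretriangulated
attribute [local instance] HasDerivedCategory.standard

namespace Groth.Agent.Lib.PCohRestrict

open Groth.Agent.S5599 Groth.Agent.Lib.PCohBdd Groth.Agent.Lib.DRingPCoh21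

section General

variable {C₁ C₂ : Type (u+1)} [Category.{u} C₁] [Category.{u} C₂] [Abelian C₁] [Abelian C₂]
  (G : C₁ ⥤ C₂) [G.Additive] [PreservesFiniteLimits G] [PreservesFiniteColimits G]

/-- `H^i (G X) ≅ G (H^i X)` -/
noncomputable def homologyMapIso (X : DerivedCategory C₁) (i : ℤ) :
    (DerivedCategory.homologyFunctor C₂ i).obj (G.mapDerivedCategory.obj X) ≅
      G.obj ((DerivedCategory.homologyFunctor C₁ i).obj X) :=
  (Groth.Agent.Lib.FlatBaseChangeD.mapDerivedCategoryHomologyIso G i).app X

lemma isZero_homology_map (X : DerivedCategory C₁) (i : ℤ)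
    (h : IsZero ((DerivedCategory.homologyFunctor C₁ i).obj X)) :
    IsZero ((DerivedCategory.homologyFunctor C₂ i).obj (G.mapDerivedCategory.obj X)) :=
  IsZero.of_iso (G.map_isZero h) (homologyMapIso G X i)

end General

section Biprod

variable {C : Type (u+1)} [Category.{u} C] [Abelian C]
  (P : ObjectProperty C) [P.IsClosedUnderIsomorphisms] [P.ContainsZero]

lemma npc_biprod (hsum : ∀ X Y : C, P X → P Y → P (X ⨯ Y))
    (hqs : PCoh.IsQuasiStableUnderKernels P) (hql : PCoh.IsQuasiLiftable P)
    (n : ℤ) (X Y : DerivedCategory C) (hX : NPC P n X) (hY : NPC P n Y) : NPC P n (X ⊞ Y) :=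
  (Groth.Agent.S5599.result P hsum hqs hql n (binaryBiproductTriangle X Y)
    (binaryBiproductTriangle_distinguished X Y)).2.1 hX hY

end Biprod

section Rings

variable {A B : Type u} [CommRing A] [CommRing B] (φ : A →+* B)

lemma finite_of_restrictScalars (M : ModuleCat.{u} B)
    (h : Module.Finite A ((ModuleCat.restrictScalars φ).obj M)) : Module.Finite B M := by
  let _ : Algebra A B := φ.toAlgebra
  let _ : Module A M := Module.compHom M φ
  have : IsScalarTower A B M := ⟨fun a b m => by
    change (φ a * b) • m = φ a • (b • m)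
    exact mul_smul _ _ _⟩
  have : Module.Finite A M := h
  exact Module.Finite.of_restrictScalars_finite A B M

/-- the functor `M ↦ (M restricted to A)[0]` -/
noncomputable abbrev Φ : ModuleCat.{u} B ⥤ DerivedCategory (ModuleCat.{u} A) :=
  ModuleCat.restrictScalars φ ⋙ DerivedCategory.singleFunctor (ModuleCat.{u} A) 0

instance : (Φ φ).Additive := by
  unfold Φ
  infer_instance

/-- if `B` restricted to `A` is pseudo-coherent, so is every finite free `B`-module -/
lemma npc_Φ (hB : ∀ a : ℤ, NPC (FF A) a ((Φ φ).obj (ModuleCat.of B B)))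
    (E : ModuleCat.{u} B) (hE : FF B E) (a : ℤ) : NPC (FF A) a ((Φ φ).obj E) := by
  -- the property is stable under isomorphisms, zero objects and binary products
  have hiso : ∀ M N : ModuleCat.{u} B, (M ≅ N) → NPC (FF A) a ((Φ φ).obj M) →
      NPC (FF A) a ((Φ φ).obj N) := fun M N e h => h.of_iso ((Φ φ).mapIso e)
  have hzero : ∀ M : ModuleCat.{u} B, IsZero M → NPC (FF A) a ((Φ φ).obj M) :=
    fun M hM => npc_of_isZero a _ ((Φ φ).map_isZero hM)
  have hpres : PreservesBinaryBiproducts (Φ φ) :=
    preservesBinaryBiproducts_of_preservesBiproducts _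
  have hprod : ∀ M N : ModuleCat.{u} B, NPC (FF A) a ((Φ φ).obj M) →
      NPC (FF A) a ((Φ φ).obj N) → NPC (FF A) a ((Φ φ).obj (M ⊞ N)) := fun M N hM hN =>
    (npc_biprod (FF A) (ff_prod A) (fp_quasiStable A) (ff_quasiLiftable A) a _ _ hM hN).of_iso
      ((Φ φ).mapBiprod M N).symm
  -- all finite powers of `B`
  have hpow : ∀ (ι : Type u) [Finite ι], NPC (FF A) a ((Φ φ).obj (ModuleCat.of B (ι → B))) := by
    intro ι _
    refine Finite.induction_empty_option
      (P := fun ι => NPC (FF A) a ((Φ φ).obj (ModuleCat.of B (ι → B)))) ?_ ?_ ?_ ι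
    · intro α β e h
      exact hiso _ _ (LinearEquiv.funCongrLeft B B e.symm).toModuleIso h
    · exact hzero _ (ModuleCat.isZero_of_subsingleton _)
    · intro α _ h
      refine hiso _ _ ?_ (hprod _ _ (hB a) h)
      exact ModuleCat.biprodIsoProd _ _ ≪≫
        (LinearEquiv.piOptionEquivProd B (M := fun _ : Option α => B)).symm.toModuleIso
  obtain ⟨h1, h2⟩ := hE
  rcases subsingleton_or_nontrivial B with hsub | hnt
  · have : Subsingleton E := Module.subsingleton B E
    exact hzero E (ModuleCat.isZero_of_subsingleton _)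
  · let b := Module.Free.chooseBasis B E
    have : Finite (Module.Free.ChooseBasisIndex B E) := Module.Finite.finite_basis b
    have : Fintype (Module.Free.ChooseBasisIndex B E) := Fintype.ofFinite _
    exact hiso _ _ (b.equivFun.symm.toModuleIso) (hpow _)

end Rings

section Main

variable {A B : Type u} [CommRing A] [CommRing B] (φ : A →+* B)

/-- restriction of scalars on derived categories -/
noncomputable abbrev U : DerivedCategory (ModuleCat.{u} B) ⥤ DerivedCategory (ModuleCat.{u} A) :=
  (ModuleCat.restrictScalars.{u} φ).mapDerivedCategory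

lemma isZero_of_isZero_restrictScalars (M : ModuleCat.{u} B)
    (h : IsZero ((ModuleCat.restrictScalars φ).obj M)) : IsZero M := by
  have h1 : Subsingleton ((ModuleCat.restrictScalars φ).obj M) :=
    ModuleCat.subsingleton_of_isZero h
  have h2 : Subsingleton M := h1
  exact ModuleCat.isZero_of_subsingleton M

lemma npc_U_single (hB : ∀ a : ℤ, NPC (FF A) a ((Φ φ).obj (ModuleCat.of B B)))
    (E : ModuleCat.{u} B) (hE : FF B E) (a : ℤ) :
    NPC (FF A) a ((U φ).obj ((DerivedCategory.singleFunctor (ModuleCat.{u} B) 0).obj E)) :=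
  (npc_Φ φ hB E hE a).of_iso
    (((ModuleCat.restrictScalars.{u} φ).mapDerivedCategorySingleFunctor 0).app E).symm

lemma hft_U (X : DerivedCategory (ModuleCat.{u} B)) (n : ℤ)
    (h : PCoh.IsOfFiniteType (FF A)
      ((DerivedCategory.homologyFunctor (ModuleCat.{u} A) n).obj ((U φ).obj X))) :
    PCoh.IsOfFiniteType (FF B) ((DerivedCategory.homologyFunctor (ModuleCat.{u} B) n).obj X) := by
  rw [isOfFiniteType_iff] at h ⊢
  apply finite_of_restrictScalars φ
  exact Module.Finite.equiv (homologyMapIso (ModuleCat.restrictScalars.{u} φ) X n).toLinearEquiv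

/-- Stacks 064Z: `K ∈ D(B)` is `m`-pseudo-coherent iff its restriction to `A` is, provided `B` is
a pseudo-coherent `A`-module -/
theorem npc_restrict_iff (hB : ∀ a : ℤ, NPC (FF A) a ((Φ φ).obj (ModuleCat.of B B)))
    (m : ℤ) (K : DerivedCategory (ModuleCat.{u} B)) :
    NPC (FF B) m K ↔ NPC (FF A) m ((U φ).obj K) := by
  constructor
  · intro hK
    obtain ⟨E, ⟨⟨bE, hbE⟩, hP⟩, ⟨e⟩⟩ := id hK
    have hac : ∀ i : ℤ, bE < i →
        IsZero ((DerivedCategory.homologyFunctor (ModuleCat.{u} B) i).obj K) := by
      intro i hi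
      have h1 : IsZero (E.homology i) := by
        rw [← HomologicalComplex.exactAt_iff_isZero_homology]
        exact HomologicalComplex.ExactAt.of_isZero (hbE i hi)
      exact IsZero.of_iso h1 ((DerivedCategory.homologyFunctor _ i).mapIso e.symm ≪≫
        homologyIsoOfQ E i)
    have := (Groth.Agent.S5620.result (FF B) (ff_prod B) (fp_quasiStable B) (ff_quasiLiftable B)
      (FF A) (ff_prod A) (fp_quasiStable A) (ff_quasiLiftable A) (U φ) (m - bE) 0
      (fun E hE => npc_U_single φ hB E hE (m - bE))
      (fun F hF i hi => isZero_homology_map _ F i (hF i hi)) m bE K hK hac).1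
    rw [show max (m + 0) (bE + (m - bE)) = m by
      rw [add_zero, show bE + (m - bE) = m by lia, max_self]] at this
    exact this
  · intro hU
    obtain ⟨E', ⟨⟨b', hb'⟩, hP'⟩, ⟨e'⟩⟩ := id hU
    have hac : ∀ i : ℤ, b' < i →
        IsZero ((DerivedCategory.homologyFunctor (ModuleCat.{u} B) i).obj K) := by
      intro i hi
      have h1 : IsZero (E'.homology i) := by
        rw [← HomologicalComplex.exactAt_iff_isZero_homology]
        exact HomologicalComplex.ExactAt.of_isZero (hb' i hi)
      have h2 : IsZero ((DerivedCategory.homologyFunctor (ModuleCat.{u} A) i).obj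
          ((U φ).obj K)) :=
        IsZero.of_iso h1 ((DerivedCategory.homologyFunctor _ i).mapIso e'.symm ≪≫
          homologyIsoOfQ E' i)
      exact isZero_of_isZero_restrictScalars φ _
        (IsZero.of_iso h2 (homologyMapIso (ModuleCat.restrictScalars.{u} φ) K i).symm)
    exact Groth.Agent.Lib.PCohDescent.descent (FF B) (FF A) (U φ)
      (ff_prod B) (fp_quasiStable B) (ff_quasiLiftable B)
      (ff_prod A) (fp_quasiStable A) (ff_quasiLiftable A)
      (fun X i h => isZero_homology_map _ X i h)
      (fun E hE a => npc_U_single φ hB E hE a) (hft_U φ) m (b' + 1 - m).toNat b' K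
      (by lia) hac hU

end Main

end Groth.Agent.Lib.PCohRestrict
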