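import Mathlib

/-!
# p-groups acting on regular local rings of characteristic p (for S15792)

* `exists_fixed_ne_zero`: a finite `p`-group acting linearly on a nonzero vector space in char `p`
  fixes a nonzero vector (orbit-span is a finite `p`-group set).
* `exists_spanning`: for a representation of a finite `p`-group on a space of dimension `≤ n` in
  char `p` there are `b : Fin n → V` with `ρ (τ i) (b i)` spanning for every `τ : Fin n → G`.
* `cotRep`: the representation on the cotangent space `m/m²` of a local ring induced by a group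
  action that is trivial on the residue field.
* `main`: existence of an admissible regular system of parameters.
-/

namespace Groth.Agent.Lib.PGroupCotangent

open Module

section Fixed

variable {p : ℕ} [Fact p.Prime] {κ : Type*} [Field κ] [CharP κ p]
  {G : Type*} [Group G] [Finite G] {M : Type*} [AddCommGroup M] [Module κ M]

/-- A finite `p`-group acting linearly on a nonzero vector space in characteristic `p` fixes a
nonzero vector. -/
theorem exists_fixed_ne_zero (hG : IsPGroup p G) (ρ : Representation κ G M) [Nontrivial M] :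
    ∃ m : M, m ≠ 0 ∧ ∀ σ : G, ρ σ m = m := by
  classical
  obtain ⟨m₀, hm₀⟩ := exists_ne (0 : M)
  have hpM : ∀ x : M, p • x = 0 := by
    intro x
    rw [← Nat.cast_smul_eq_nsmul κ, CharP.cast_eq_zero, zero_smul]
  let S : AddSubgroup M := AddSubgroup.closure (Set.range fun σ : G => ρ σ m₀)
  have hm₀S : m₀ ∈ S := AddSubgroup.subset_closure ⟨1, by simp⟩
  have hstab : ∀ σ : G, ∀ x ∈ S, ρ σ x ∈ S := by
    intro σ x hx
    induction hx using AddSubgroup.closure_induction with
    | mem y hy =>
      obtain ⟨τ, rfl⟩ := hy
      refine AddSubgroup.subset_closure ⟨σ * τ, ?_⟩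
      simp [map_mul]
    | zero => simpa using S.zero_mem
    | add y z _ _ hy hz => rw [map_add]; exact S.add_mem hy hz
    | neg y _ hy => rw [map_neg]; exact S.neg_mem hy
  haveI : AddGroup.FG S := AddGroup.closure_finite_fg _
  haveI : Finite S := by
    apply AddCommGroup.finite_of_fg_isAddTorsion
    intro x
    rw [isOfFinAddOrder_iff_nsmul_eq_zero]
    exact ⟨p, (Fact.out : p.Prime).pos, Subtype.ext (by simpa using hpM x.1)⟩
  have hcard : p ∣ Nat.card S := by
    have h1 : addOrderOf (⟨m₀, hm₀S⟩ : S) = p := by
      apply addOrderOf_eq_prime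
      · exact Subtype.ext (by simpa using hpM m₀)
      · intro h
        exact hm₀ (congrArg Subtype.val h)
    rw [← h1]
    exact addOrderOf_dvd_natCard _
  letI act : MulAction G S :=
    { smul := fun σ x => ⟨ρ σ x.1, hstab σ x.1 x.2⟩
      one_smul := fun x => Subtype.ext (by change ρ 1 x.1 = x.1; simp)
      mul_smul := fun σ τ x => Subtype.ext (by change ρ (σ * τ) x.1 = ρ σ (ρ τ x.1); simp [map_mul]) }
  have h0 : (0 : S) ∈ MulAction.fixedPoints G S := by
    intro σ
    exact Subtype.ext (by change ρ σ (0 : M) = 0; simp)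
  obtain ⟨b, hb, hne⟩ := hG.exists_fixed_point_of_prime_dvd_card_of_fixed_point S hcard h0
  refine ⟨b.1, fun h => hne (Subtype.ext h.symm), fun σ => ?_⟩
  exact congrArg Subtype.val (hb σ)

end Fixed

section Span

universe u
variable {p : ℕ} [Fact p.Prime] {κ : Type*} [Field κ] [CharP κ p]
  {G : Type*} [Group G] [Finite G]

theorem exists_spanning (hG : IsPGroup p G) : ∀ (n : ℕ) (V : Type u) [AddCommGroup V] [Module κ V]
    [FiniteDimensional κ V] (ρ : Representation κ G V), finrank κ V ≤ n →
    ∃ b : Fin n → V, ∀ τ : Fin n → G,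
      Submodule.span κ (Set.range fun i => ρ (τ i) (b i)) = ⊤ := by
  intro n
  induction n with
  | zero =>
    intro V _ _ _ ρ hn
    have h0 : finrank κ V = 0 := Nat.le_zero.mp hn
    haveI : Subsingleton V := Module.finrank_zero_iff.mp h0
    exact ⟨fun _ => 0, fun τ => Subsingleton.elim _ _⟩
  | succ n ih =>
    intro V _ _ _ ρ hn
    by_cases hV : Subsingleton V
    · exact ⟨fun _ => 0, fun τ => Subsingleton.elim _ _⟩
    rw [not_subsingleton_iff_nontrivial] at hV
    obtain ⟨φ, hφ0, hφ⟩ := exists_fixed_ne_zero hG ρ.dual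
    have hφ' : ∀ (σ : G) (v : V), φ (ρ σ v) = φ v := by
      intro σ v
      have := congrArg (fun ψ : Module.Dual κ V => ψ v) (hφ σ⁻¹)
      simpa [Representation.dual_apply, Module.Dual.transpose_apply] using this
    obtain ⟨v, hv⟩ : ∃ v, φ v ≠ 0 := by
      by_contra h
      exact hφ0 (LinearMap.ext fun x => by_contra fun hx => h ⟨x, hx⟩)
    have hstab : ∀ g : G, LinearMap.ker φ ≤ (LinearMap.ker φ).comap (ρ g) := by
      intro g x hx
      rw [Submodule.mem_comap, LinearMap.mem_ker, hφ']
      exact hx
    have hlt : finrank κ (LinearMap.ker φ) ≤ n := by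
      have : LinearMap.ker φ ≠ ⊤ := by
        intro h
        apply hv
        have : v ∈ LinearMap.ker φ := by rw [h]; trivial
        exact this
      have := Submodule.finrank_lt this
      omega
    obtain ⟨b', hb'⟩ := ih (LinearMap.ker φ) (ρ.subrepresentation _ hstab) hlt
    refine ⟨Fin.cons v (fun i => (b' i : V)), fun τ => ?_⟩
    set T := Submodule.span κ (Set.range fun i => ρ (τ i) ((Fin.cons v (fun i => (b' i : V)) : Fin (n+1) → V) i))
      with hT
    have hw : ρ (τ 0) v ∈ T := Submodule.subset_span ⟨0, by simp⟩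
    have hH : LinearMap.ker φ ≤ T := by
      intro h hh
      have h1 : (⟨h, hh⟩ : LinearMap.ker φ) ∈
          Submodule.span κ (Set.range fun i => (ρ.subrepresentation _ hstab) (τ i.succ) (b' i)) := by
        rw [hb' (fun i => τ i.succ)]; trivial
      have h2 := Submodule.mem_map_of_mem (f := (LinearMap.ker φ).subtype) h1
      rw [Submodule.map_span] at h2
      refine Submodule.span_mono ?_ h2
      rintro _ ⟨_, ⟨i, rfl⟩, rfl⟩
      exact ⟨i.succ, by simp [Representation.subrepresentation]⟩
    rw [eq_top_iff]
    intro x _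
    have hφw : φ (ρ (τ 0) v) ≠ 0 := by rw [hφ']; exact hv
    have hx : x = (x - (φ x / φ (ρ (τ 0) v)) • ρ (τ 0) v) + (φ x / φ (ρ (τ 0) v)) • ρ (τ 0) v := by
      abel
    rw [hx]
    refine T.add_mem (hH ?_) (T.smul_mem _ hw)
    rw [LinearMap.mem_ker, map_sub, map_smul, smul_eq_mul, div_mul_cancel₀ _ hφw, sub_self]

end Span

section Cot

open IsLocalRing

variable {A : Type*} [CommRing A] [IsLocalRing A] {G : Type*} [Group G] [MulSemiringAction G A]

theorem smul_mem_maximalIdeal (σ : G) {x : A} (hx : x ∈ maximalIdeal A) :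
    σ • x ∈ maximalIdeal A := by
  rw [mem_maximalIdeal, mem_nonunits_iff] at hx ⊢
  intro h
  apply hx
  have := h.map (MulSemiringAction.toRingHom G A σ⁻¹)
  simpa using this

/-- The additive action on the cotangent space. -/
noncomputable def cotActZ (σ : G) : CotangentSpace A →ₗ[ℤ] CotangentSpace A :=
  Ideal.mapCotangent (R := ℤ) (maximalIdeal A) (maximalIdeal A)
    (MulSemiringAction.toRingHom G A σ).toIntAlgHom
    (fun _ hx => smul_mem_maximalIdeal σ hx)

theorem cotActZ_toCotangent (σ : G) (x : maximalIdeal A) :
    cotActZ σ ((maximalIdeal A).toCotangent x) =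
      (maximalIdeal A).toCotangent ⟨σ • (x : A), smul_mem_maximalIdeal σ x.2⟩ := rfl

variable (hres : ∀ (σ : G) (a : A), σ • a - a ∈ maximalIdeal A)

include hres in
theorem cotActZ_smul (σ : G) (c : ResidueField A) (v : CotangentSpace A) :
    cotActZ σ (c • v) = c • cotActZ σ v := by
  obtain ⟨a, rfl⟩ := IsLocalRing.residue_surjective c
  obtain ⟨x, rfl⟩ := Ideal.toCotangent_surjective _ v
  have h1 : ∀ (a : A) (w : CotangentSpace A), (residue A a) • w = a • w := fun a w => by
    rw [← IsLocalRing.ResidueField.algebraMap_eq, algebraMap_smul]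
  rw [h1, ← map_smul, cotActZ_toCotangent, cotActZ_toCotangent]
  have h2 : residue A a = residue A (σ • a) := by
    rw [eq_comm, ← sub_eq_zero, ← map_sub, residue_eq_zero_iff]
    exact hres σ a
  rw [h2, h1, ← map_smul]
  congr 1
  apply Subtype.ext
  simp [smul_mul']

/-- The linear action on the cotangent space. -/
noncomputable def cotAct (σ : G) : CotangentSpace A →ₗ[ResidueField A] CotangentSpace A where
  toFun := cotActZ σ
  map_add' := map_add _
  map_smul' := cotActZ_smul hres σ

theorem cotAct_toCotangent (σ : G) (x : maximalIdeal A) :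
    cotAct hres σ ((maximalIdeal A).toCotangent x) =
      (maximalIdeal A).toCotangent ⟨σ • (x : A), smul_mem_maximalIdeal σ x.2⟩ := rfl

/-- The representation on the cotangent space. -/
noncomputable def cotRep : Representation (ResidueField A) G (CotangentSpace A) where
  toFun := cotAct hres
  map_one' := by
    apply LinearMap.ext
    intro v
    obtain ⟨x, rfl⟩ := Ideal.toCotangent_surjective _ v
    rw [cotAct_toCotangent]
    simp
  map_mul' := by
    intro σ τ
    apply LinearMap.ext
    intro v
    obtain ⟨x, rfl⟩ := Ideal.toCotangent_surjective _ v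
    rw [Module.End.mul_apply, cotAct_toCotangent, cotAct_toCotangent, cotAct_toCotangent]
    simp [mul_smul]

end Cot

section Main

open IsLocalRing

universe u v

theorem charP_residueField (p : ℕ) [Fact p.Prime] (A : Type*) [CommRing A] [IsLocalRing A]
    [CharP A p] : CharP (ResidueField A) p := by
  obtain ⟨q, hq⟩ := CharP.exists (ResidueField A)
  have h0 : ((p : ℕ) : ResidueField A) = 0 := by
    have h1 : ((p : ℕ) : A) = 0 := CharP.cast_eq_zero A p
    have h2 := congrArg (residue A) h1
    rwa [map_natCast, map_zero] at h2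
  have hdvd : q ∣ p := (CharP.cast_eq_zero_iff (ResidueField A) q p).mp h0
  rcases (Nat.dvd_prime (Fact.out : p.Prime)).mp hdvd with h | h
  · exact absurd h (CharP.char_ne_one (ResidueField A) q)
  · exact h ▸ hq

theorem main (p : ℕ) [Fact p.Prime] (A : Type u) [CommRing A] [IsRegularLocalRing A] [CharP A p]
    (G : Type v) [Group G] [Finite G] [MulSemiringAction G A] (hG : IsPGroup p G)
    (hres : ∀ (σ : G) (a : A), σ • a - a ∈ IsLocalRing.maximalIdeal A)
    (n : ℕ) (hn : ringKrullDim A = n) :
    ∃ u : Fin n → A, ∀ τ : Fin n → G,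
      Ideal.span (Set.range fun i => τ i • u i) = IsLocalRing.maximalIdeal A := by
  haveI := charP_residueField p A
  have hfin : Module.finrank (ResidueField A) (CotangentSpace A) = n := by
    have h := (IsRegularLocalRing.iff_finrank_cotangentSpace A).mp inferInstance
    rw [hn] at h
    exact_mod_cast h
  obtain ⟨b, hb⟩ := exists_spanning (p := p) hG n (CotangentSpace A) (cotRep hres) hfin.le
  choose x hx using fun i => Ideal.toCotangent_surjective _ (b i)
  refine ⟨fun i => (x i : A), fun τ => ?_⟩
  have h1 := hb τ
  have h2 : (Set.range fun i => (cotRep hres) (τ i) (b i)) = (maximalIdeal A).toCotangent ''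
      (Set.range fun i => (⟨τ i • (x i : A), smul_mem_maximalIdeal (τ i) (x i).2⟩ :
        maximalIdeal A)) := by
    rw [← Set.range_comp]
    congr 1
    funext i
    rw [← hx i]
    rfl
  rw [h2, CotangentSpace.span_image_eq_top_iff] at h1
  have h3 := congrArg (Submodule.map (maximalIdeal A).subtype) h1
  rw [Submodule.map_span, Submodule.map_top, Submodule.range_subtype, ← Set.range_comp] at h3
  exact h3

end Main

end Groth.Agent.Lib.PGroupCotangent
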