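import Mathlib
import Groth.Agent.S13773

/-!
# Existence of `p`-mappings via matrices of the adjoint representation (helper58)

For a Lie algebra `L` over a ring of characteristic `p`, free with a finite basis `bs`, a
`p`-mapping exists iff for every basis vector the `p`-th power of the matrix of `ad (bs j)` is a
linear combination of the matrices of the `ad (bs i)` (Jacobson's theorem, S13773).
-/

set_option autoImplicit false
set_option linter.unusedSectionVars false
set_option linter.unusedVariables false

namespace Groth.Agent.Lib.PLieMat58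

variable {R : Type*} [CommRing R] {p : ℕ} [Fact p.Prime] [CharP R p]
  {L : Type*} [LieRing L] [LieAlgebra R L] {ι : Type*} [Fintype ι] [DecidableEq ι]
  (bs : Module.Basis ι R L)

/-- The matrix of `ad v` in the basis `bs`. -/
noncomputable def adM (v : L) : Matrix ι ι R := LinearMap.toMatrix bs bs (LieAlgebra.ad R L v)

theorem adM_apply (v : L) (i j : ι) : adM bs v i j = bs.repr ⁅v, bs j⁆ i := by
  unfold adM
  rw [LinearMap.toMatrix_apply]
  rfl

theorem adM_sum (w : ι → R) : adM bs (∑ i, w i • bs i) = ∑ i, w i • adM bs (bs i) := by
  unfold adM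
  simp [map_sum, map_smul]

theorem nonempty_pmap_iff :
    Nonempty (PLie.PMap R p L) ↔
      ∀ j, ∃ w : ι → R, (adM bs (bs j)) ^ p = ∑ i, w i • adM bs (bs i) := by
  constructor
  · rintro ⟨φ⟩ j
    refine ⟨fun i => bs.repr (φ (bs j)) i, ?_⟩
    rw [← adM_sum, bs.sum_repr]
    unfold adM
    rw [LinearMap.toMatrix_pow]
    congr 1
    exact (φ.ad_map (bs j)).symm
  · intro h
    choose w hw using h
    have hy : ∀ j : ι, LieAlgebra.ad R L (bs j) ^ p =
        LieAlgebra.ad R L ((fun j => ∑ i, w j i • bs i) j) := by
      intro j
      apply (LinearMap.toMatrix bs bs).injective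
      have := hw j
      rw [← adM_sum] at this
      unfold adM at this
      rw [LinearMap.toMatrix_pow] at this
      exact this
    obtain ⟨φ, _, _⟩ := Groth.Agent.S13773.result R p L bs (fun j => ∑ i, w j i • bs i) hy
    exact ⟨φ⟩

end Groth.Agent.Lib.PLieMat58
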