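/-
helper11: flatness for presheaves of modules over a presheaf of commutative rings (sectionwise tensor product).
-/
import Groth.Agent.Lib.AbTensorFlat
import Groth.Agent.Lib.ModShriek
import Mathlib.Algebra.Category.ModuleCat.Presheaf.Monoidal
import Mathlib.Algebra.Category.ModuleCat.Presheaf.Abelian
import Mathlib.Algebra.Category.ModuleCat.Presheaf.EpiMono
import Mathlib.Algebra.Category.ModuleCat.Presheaf.Free
import Mathlib.RingTheory.Flat.Basic

universe u
open CategoryTheory Opposite Limits MonoidalCategory

namespace Groth.Agent.Lib.PModFlat

variable {C : Type u} [SmallCategory C] (O : Cᵒᵖ ⥤ CommRingCat.{u})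

/-- presheaves of modules over `O` -/
abbrev PM : Type (u + 1) := PresheafOfModules.{u} (O ⋙ forget₂ CommRingCat.{u} RingCat.{u})

variable {O}

instance (F : PM O) : PreservesFiniteColimits (tensorRight F) := ⟨fun K _ _ => inferInstance⟩

instance (F : PM O) : PreservesFiniteColimits (tensorLeft F) := ⟨fun K _ _ => inferInstance⟩

instance (F : PM O) : (tensorRight F).PreservesZeroMorphisms := by
  have : PreservesColimitsOfShape (Discrete PEmpty.{1}) (tensorRight F) := inferInstance
  have : PreservesColimit (Functor.empty.{0} _) (tensorRight F) := inferInstance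
  exact Functor.preservesZeroMorphisms_of_preserves_initial_object

instance (F : PM O) : (tensorLeft F).PreservesZeroMorphisms := by
  have : PreservesColimitsOfShape (Discrete PEmpty.{1}) (tensorLeft F) := inferInstance
  have : PreservesColimit (Functor.empty.{0} _) (tensorLeft F) := inferInstance
  exact Functor.preservesZeroMorphisms_of_preserves_initial_object

attribute [local instance] preservesBinaryBiproducts_of_preservesBinaryCoproducts in
instance (F : PM O) : (tensorRight F).Additive := Functor.additive_of_preservesBinaryBiproducts _

attribute [local instance] preservesBinaryBiproducts_of_preservesBinaryCoproducts in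
instance (F : PM O) : (tensorLeft F).Additive := Functor.additive_of_preservesBinaryBiproducts _

/-- tensoring with a sectionwise flat presheaf preserves monomorphisms -/
lemma preservesMono_tensorRight_of_flat_sections (F : PM O)
    (hF : ∀ X : Cᵒᵖ, Module.Flat (O.obj X) (F.obj X)) : (tensorRight F).PreservesMonomorphisms := by
  refine ⟨fun {Q Q'} g hg => ?_⟩
  apply PresheafOfModules.mono_of_injective
  intro U
  have hg' : Function.Injective (g.app U).hom := PresheafOfModules.injective_of_mono g U
  have hfl : Module.Flat ((O ⋙ forget₂ CommRingCat.{u} RingCat.{u}).obj U) (F.obj U) := hF U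
  exact Module.Flat.rTensor_preserves_injective_linearMap (M := F.obj U) (g.app U).hom hg'

/-- S9110 -/
theorem exact_tensorRight_of_flat_sections (F : PM O)
    (hF : ∀ X : Cᵒᵖ, Module.Flat (O.obj X) (F.obj X)) :
    PreservesFiniteLimits (tensorRight F) ∧ PreservesFiniteColimits (tensorRight F) := by
  have := preservesMono_tensorRight_of_flat_sections F hF
  exact ⟨Groth.Agent.Lib.ModShriek.preservesFiniteLimits_of_preservesMonomorphisms _, inferInstance⟩

open Groth.Agent.Lib.AbTensorFlat

instance (X : PM O) : ((curriedTensor (PM O)).obj X).Additive :=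
  inferInstanceAs (tensorLeft X).Additive

instance (X : PM O) : PreservesFiniteColimits ((curriedTensor (PM O)).obj X) :=
  inferInstanceAs (PreservesFiniteColimits (tensorLeft X))

instance (Y : PM O) : ((curriedTensor (PM O)).flip.obj Y).Additive :=
  inferInstanceAs (tensorRight Y).Additive

instance (Y : PM O) : PreservesFiniteColimits ((curriedTensor (PM O)).flip.obj Y) :=
  inferInstanceAs (PreservesFiniteColimits (tensorRight Y))

/-- the canonical free cover of a presheaf of modules -/
noncomputable def freeCover (G : PM O) :
    (PresheafOfModules.free (O ⋙ forget₂ CommRingCat.{u} RingCat.{u})).obj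
      (G.presheaf ⋙ forget AddCommGrpCat.{u}) ⟶ G :=
  PresheafOfModules.freeObjDesc (𝟙 _)

instance (G : PM O) : Epi (freeCover G) := by
  apply PresheafOfModules.epi_of_surjective
  intro X x
  refine ⟨ModuleCat.freeMk x, ?_⟩
  exact ModuleCat.freeDesc_apply _ _

theorem enoughFlats : EnoughFlats (curriedTensor (PM O)) := fun G => by
  refine ⟨_, freeCover G, inferInstance, ?_⟩
  apply preservesMono_tensorRight_of_flat_sections
  intro X
  change Module.Flat (O.obj X) ((G.presheaf ⋙ forget AddCommGrpCat.{u}).obj X →₀ (O.obj X))
  infer_instance

/-- S9111 -/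
theorem shortExact_map_tensorRight (S : ShortComplex (PM O)) (hS : S.ShortExact)
    (hF : PreservesFiniteLimits (tensorRight S.X₃) ∧ PreservesFiniteColimits (tensorRight S.X₃))
    (G : PM O) : (S.map (tensorRight G)).ShortExact := by
  have h1 : (tensorRight S.X₃).PreservesMonomorphisms := by
    have := hF.1
    have : PreservesLimitsOfShape WalkingCospan (tensorRight S.X₃) := inferInstance
    exact preservesMonomorphisms_of_preservesLimitsOfShape _
  have h2 : (tensorLeft S.X₃).PreservesMonomorphisms :=
    Functor.PreservesMonomorphisms.of_iso (BraidedCategory.tensorLeftIsoTensorRight S.X₃).symm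
  exact shortExact_map_flip (T := curriedTensor (PM O)) enoughFlats S hS h2 G

end Groth.Agent.Lib.PModFlat
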