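import Mathlib
import Groth.Agent.Lib.RegularLocal
import Groth.Agent.Lib.H59EssFinPres
import Groth.Agent.Lib.RegularFlatLocal

/-!
# helper89: toolkit for adjoining `p`-th roots to local rings of characteristic `p` (part 1)

* embedding dimension (`spanFinrank` of the maximal ideal) under surjections and quotients by one element;
* a ring in which every `p`-th power comes from a local ring is local;
* derivation criterion for linear independence of differentials `1 ⊗ d h_i` in `K ⊗_A Ω_{A/ℤ}`.
-/

set_option autoImplicit false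
universe u

namespace Groth.Agent.Lib.PRootCot

open IsLocalRing TensorProduct

section Edim

variable {R R' : Type*} [CommRing R] [IsLocalRing R] [IsNoetherianRing R] [CommRing R'] [IsLocalRing R']

/-- embedding dimension does not increase along surjections. -/
theorem spanFinrank_le_of_surjective (φ : R →+* R') (hφ : Function.Surjective φ) :
    (maximalIdeal R').spanFinrank ≤ (maximalIdeal R).spanFinrank := by
  rw [← IsLocalRing.map_maximalIdeal_of_surjective φ hφ]
  exact Ideal.spanFinrank_map_le_of_fg _ (Ideal.fg_of_isNoetherianRing _)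

theorem spanFinrank_eq_of_ringEquiv (e : R ≃+* R') :
    (maximalIdeal R').spanFinrank = (maximalIdeal R).spanFinrank := by
  have : IsNoetherianRing R' := isNoetherianRing_of_ringEquiv R e
  exact le_antisymm (spanFinrank_le_of_surjective e.toRingHom e.surjective)
    (spanFinrank_le_of_surjective e.symm.toRingHom e.symm.surjective)

/-- Quotient by one element of the maximal ideal: the embedding dimension drops by one exactly when the
element is not in the square of the maximal ideal. -/
theorem spanFinrank_quotient_span_singleton {x : R} (hx : x ∈ maximalIdeal R)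
    [IsLocalRing (R ⧸ Ideal.span {x})] :
    (x ∈ maximalIdeal R ^ 2 →
      (maximalIdeal (R ⧸ Ideal.span {x})).spanFinrank = (maximalIdeal R).spanFinrank) ∧
    (x ∉ maximalIdeal R ^ 2 →
      (maximalIdeal (R ⧸ Ideal.span {x})).spanFinrank + 1 = (maximalIdeal R).spanFinrank) := by
  have hmap : (maximalIdeal R).map (Ideal.Quotient.mk (Ideal.span {x})) =
      maximalIdeal (R ⧸ Ideal.span {x}) :=
    IsLocalRing.map_maximalIdeal_of_surjective _ Ideal.Quotient.mk_surjective
  constructor
  · intro h2
    refine Groth.Agent.Lib.H59EssFinPres.spanFinrank_maximalIdeal_eq_of_surjective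
      (Ideal.Quotient.mk (Ideal.span {x})) Ideal.Quotient.mk_surjective ?_
    rw [Ideal.mk_ker, Ideal.span_singleton_le_iff_mem]
    exact h2
  · intro h2
    have h1 := Groth.Agent.Lib.RegularLocal.spanFinrank_map_mk_add_one_le hx h2
    have h3 := Groth.Agent.Lib.RegularLocal.spanFinrank_le_map_mk_add_one (maximalIdeal R) x hx
      (Ideal.fg_of_isNoetherianRing _)
    rw [hmap] at h1 h3
    omega

end Edim

section Local

variable (p : ℕ) [hp : Fact p.Prime] {A B : Type*} [CommRing A] [CommRing B] [Algebra A B]

/-- If `B` is generated over `A` by elements whose `p`-th powers come from `A` and `p = 0` in `B`,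
every `p`-th power of `B` comes from `A`. -/
theorem forall_exists_pow_eq (hpB : (p : B) = 0) (s : Set B) (hs : Algebra.adjoin A s = ⊤)
    (h : ∀ x ∈ s, ∃ a : A, x ^ p = algebraMap A B a) (x : B) :
    ∃ a : A, x ^ p = algebraMap A B a := by
  rcases subsingleton_or_nontrivial B with hB | hB
  · exact ⟨0, Subsingleton.elim _ _⟩
  have : CharP B p := (CharP.charP_iff_prime_eq_zero hp.out).mpr hpB
  have hx : x ∈ Algebra.adjoin A s := by rw [hs]; trivial
  induction hx using Algebra.adjoin_induction with
  | mem x hx => exact h x hx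
  | algebraMap r => exact ⟨r ^ p, by rw [map_pow]⟩
  | add x y _ _ hx hy =>
    obtain ⟨a, ha⟩ := hx
    obtain ⟨b, hb⟩ := hy
    exact ⟨a + b, by rw [add_pow_char, ha, hb, map_add]⟩
  | mul x y _ _ hx hy =>
    obtain ⟨a, ha⟩ := hx
    obtain ⟨b, hb⟩ := hy
    exact ⟨a * b, by rw [mul_pow, ha, hb, map_mul]⟩

variable [IsLocalRing A] [Nontrivial B]

/-- A nontrivial ring of characteristic `p` all of whose `p`-th powers come from a local ring is local. -/
theorem isLocalRing_of_pow_mem (hpB : (p : B) = 0)
    (h : ∀ x : B, ∃ a : A, x ^ p = algebraMap A B a) : IsLocalRing B := by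
  have : CharP B p := (CharP.charP_iff_prime_eq_zero hp.out).mpr hpB
  refine IsLocalRing.of_isUnit_or_isUnit_one_sub_self fun x => ?_
  obtain ⟨a, ha⟩ := h x
  rcases IsLocalRing.isUnit_or_isUnit_one_sub_self a with hu | hu
  · left
    have h1 : IsUnit (x ^ p) := by rw [ha]; exact hu.map _
    exact (isUnit_pow_iff hp.out.ne_zero).mp h1
  · right
    have h1 : IsUnit ((1 - x) ^ p) := by
      rw [sub_pow_char, one_pow, ha, ← map_one (algebraMap A B), ← map_sub]
      exact hu.map _
    exact (isUnit_pow_iff hp.out.ne_zero).mp h1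

theorem isLocalHom_of_pow_mem (h : ∀ x : B, ∃ a : A, x ^ p = algebraMap A B a) :
    IsLocalHom (algebraMap A B) := by
  refine ⟨fun a ha => ?_⟩
  by_contra hna
  obtain ⟨y, hy⟩ := ha.exists_right_inv
  obtain ⟨b, hb⟩ := h y
  -- `a ^ p * b - 1` is a unit of `A` mapping to `0`
  have hmem : a ^ p * b ∈ maximalIdeal A :=
    Ideal.mul_mem_right _ _ (Ideal.pow_mem_of_mem _ ((mem_maximalIdeal a).mpr hna) p hp.out.pos)
  have hu : IsUnit (1 - a ^ p * b) := by
    rcases IsLocalRing.isUnit_or_isUnit_one_sub_self (a ^ p * b) with h1 | h1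
    · exact absurd h1 ((mem_maximalIdeal _).mp hmem)
    · exact h1
  have h0 : algebraMap A B (1 - a ^ p * b) = 0 := by
    rw [map_sub, map_one, map_mul, map_pow, ← hb, ← mul_pow, hy, one_pow, sub_self]
  have := hu.map (algebraMap A B)
  rw [h0] at this
  exact not_isUnit_zero this

omit [Nontrivial B] in
theorem exists_mem_maximalIdeal_pow_eq [IsLocalRing B]
    (h : ∀ x : B, ∃ a : A, x ^ p = algebraMap A B a) {x : B} (hx : x ∈ maximalIdeal B) :
    ∃ a ∈ maximalIdeal A, x ^ p = algebraMap A B a := by
  obtain ⟨a, ha⟩ := h x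
  refine ⟨a, ?_, ha⟩
  rw [mem_maximalIdeal, mem_nonunits_iff]
  intro hu
  have h1 : IsUnit (x ^ p) := by rw [ha]; exact hu.map _
  exact ((mem_maximalIdeal x).mp hx) ((isUnit_pow_iff hp.out.ne_zero).mp h1)

end Local


section DerCrit

variable {A : Type*} [CommRing A] [IsLocalRing A]

/-- the differentials `1 ⊗ d h_i` are linearly independent in `K ⊗_A Ω_{A/ℤ}`. -/
def LiAt (A : Type*) [CommRing A] [IsLocalRing A] {n : ℕ} (h : Fin n → A) : Prop :=
  LinearIndependent (ResidueField A)
    (fun i => (1 : ResidueField A) ⊗ₜ[A] KaehlerDifferential.D ℤ A (h i))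

/-- the differential `1 ⊗ d a` is nonzero in `K ⊗_A Ω_{A/ℤ}`. -/
def NzAt (A : Type*) [CommRing A] [IsLocalRing A] (a : A) : Prop :=
  (1 : ResidueField A) ⊗ₜ[A] KaehlerDifferential.D ℤ A a ≠ 0

/-- the functional on `K ⊗ Ω_{A/ℤ}` attached to a derivation with values in a `K`-module. -/
noncomputable def derFunctional {L : Type*} [AddCommGroup L] [Module A L]
    [Module (ResidueField A) L] [IsScalarTower A (ResidueField A) L] (D : Derivation ℤ A L) :
    ResidueField A ⊗[A] Ω[A⁄ℤ] →ₗ[ResidueField A] L :=
  LinearMap.liftBaseChange (ResidueField A) D.liftKaehlerDifferential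

theorem derFunctional_tmul {L : Type*} [AddCommGroup L] [Module A L]
    [Module (ResidueField A) L] [IsScalarTower A (ResidueField A) L] (D : Derivation ℤ A L)
    (k : ResidueField A) (a : A) :
    derFunctional D (k ⊗ₜ[A] KaehlerDifferential.D ℤ A a) = k • D a := by
  rw [derFunctional, LinearMap.liftBaseChange_tmul, Derivation.liftKaehlerDifferential_comp_D]

/-- a derivation which does not vanish at `a` shows `1 ⊗ da ≠ 0`. -/
theorem tmul_D_ne_zero_of_derivation {L : Type*} [AddCommGroup L] [Module A L]
    [Module (ResidueField A) L] [IsScalarTower A (ResidueField A) L] (D : Derivation ℤ A L)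
    (a : A) (h : D a ≠ 0) : (1 : ResidueField A) ⊗ₜ[A] KaehlerDifferential.D ℤ A a ≠ 0 := by
  intro h0
  apply h
  have := derFunctional_tmul D 1 a
  rw [h0, map_zero, one_smul] at this
  exact this.symm

/-- derivations with values in an extension field `L` of `K` which are dual to `h` show that the
`1 ⊗ d h_i` are linearly independent. -/
theorem linearIndependent_of_derivations {n : ℕ} (h : Fin n → A) {L : Type*} [Field L]
    [Algebra (ResidueField A) L] [Module A L] [IsScalarTower A (ResidueField A) L]
    (Dv : Fin n → Derivation ℤ A L) (hD : ∀ i j, Dv j (h i) = if i = j then 1 else 0) :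
    LinearIndependent (ResidueField A)
      (fun i => (1 : ResidueField A) ⊗ₜ[A] KaehlerDifferential.D ℤ A (h i)) := by
  rw [Fintype.linearIndependent_iff]
  intro g hg j
  have h1 := congrArg (derFunctional (Dv j)) hg
  rw [map_zero, map_sum] at h1
  simp only [map_smul, derFunctional_tmul, hD, one_smul] at h1
  rw [Finset.sum_eq_single j] at h1
  · rw [if_pos rfl, Algebra.smul_def, mul_one] at h1
    exact (map_eq_zero_iff _ (algebraMap (ResidueField A) L).injective).mp h1
  · intro i _ hij
    rw [if_neg hij, smul_zero]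
  · intro hj
    exact absurd (Finset.mem_univ j) hj

/-- triangular version, for a family obtained by consing a nonzero vector. -/
theorem linearIndependent_cons_of_derivations {n : ℕ} (f₀ : A) (g : Fin n → A)
    (h0 : (1 : ResidueField A) ⊗ₜ[A] KaehlerDifferential.D ℤ A f₀ ≠ 0)
    {L : Type*} [Field L]
    [Algebra (ResidueField A) L] [Module A L] [IsScalarTower A (ResidueField A) L]
    (Dv : Fin n → Derivation ℤ A L) (hD0 : ∀ j, Dv j f₀ = 0)
    (hD : ∀ i j, Dv j (g i) = if i = j then 1 else 0) :
    LinearIndependent (ResidueField A)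
      (fun i => (1 : ResidueField A) ⊗ₜ[A]
        KaehlerDifferential.D ℤ A ((Fin.cons f₀ g : Fin (n + 1) → A) i)) := by
  have hfam : (fun i => (1 : ResidueField A) ⊗ₜ[A]
        KaehlerDifferential.D ℤ A ((Fin.cons f₀ g : Fin (n + 1) → A) i)) =
      Fin.cons ((1 : ResidueField A) ⊗ₜ[A] KaehlerDifferential.D ℤ A f₀)
        (fun i => (1 : ResidueField A) ⊗ₜ[A] KaehlerDifferential.D ℤ A (g i)) := by
    funext i
    refine Fin.cases ?_ (fun i => ?_) i
    · simp
    · simp
  rw [hfam, linearIndependent_finCons]
  refine ⟨linearIndependent_of_derivations g Dv hD, ?_⟩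
  intro hmem
  rw [Submodule.mem_span_range_iff_exists_fun] at hmem
  obtain ⟨c, hc⟩ := hmem
  have hcz : ∀ j, c j = 0 := by
    intro j
    have h1 := congrArg (derFunctional (Dv j)) hc
    rw [map_sum] at h1
    simp only [map_smul, derFunctional_tmul, hD, hD0, one_smul] at h1
    rw [Finset.sum_eq_single j] at h1
    · rw [if_pos rfl, Algebra.smul_def, mul_one] at h1
      exact (map_eq_zero_iff _ (algebraMap (ResidueField A) L).injective).mp h1
    · intro i _ hij
      rw [if_neg hij, smul_zero]
    · intro hj
      exact absurd (Finset.mem_univ j) hj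
  apply h0
  rw [← hc]
  simp [hcz]

/-- linearly independent differentials admit dual derivations into the residue field. -/
theorem exists_derivations_of_linearIndependent {n : ℕ} (h : Fin n → A)
    (hli : LinearIndependent (ResidueField A)
      (fun i => (1 : ResidueField A) ⊗ₜ[A] KaehlerDifferential.D ℤ A (h i))) :
    ∃ Dv : Fin n → Derivation ℤ A (ResidueField A), ∀ i j, Dv j (h i) = if i = j then 1 else 0 := by
  classical
  let b := Module.Basis.span hli
  have hext : ∀ j, ∃ φ : ResidueField A ⊗[A] Ω[A⁄ℤ] →ₗ[ResidueField A] ResidueField A,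
      ∀ i, φ ((1 : ResidueField A) ⊗ₜ[A] KaehlerDifferential.D ℤ A (h i)) =
        if i = j then 1 else 0 := by
    intro j
    obtain ⟨φ, hφ⟩ := LinearMap.exists_extend (b.coord j)
    refine ⟨φ, fun i => ?_⟩
    have h1 : φ ((b i : _) : ResidueField A ⊗[A] Ω[A⁄ℤ]) = b.coord j (b i) := by
      rw [← hφ]; rfl
    have h2 : ((b i : _) : ResidueField A ⊗[A] Ω[A⁄ℤ]) =
        (1 : ResidueField A) ⊗ₜ[A] KaehlerDifferential.D ℤ A (h i) := by
      rw [Module.Basis.span_apply]
    rw [← h2, h1, Module.Basis.coord_apply, Module.Basis.repr_self, Finsupp.single_apply]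
  choose φ hφ using hext
  refine ⟨fun j => ((φ j).restrictScalars A ∘ₗ
    (TensorProduct.mk A (ResidueField A) Ω[A⁄ℤ] 1)).compDer (KaehlerDifferential.D ℤ A), ?_⟩
  intro i j
  exact hφ j i

end DerCrit

end Groth.Agent.Lib.PRootCot
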