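import Mathlib
import Groth.Agent.Lib.PRootCot1

/-!
# helper89: adjoining one `p`-th root to a Noetherian local ring of characteristic `p` (part 2)

`B = A[T]/(T^p - f)` is a Noetherian local ring, and its embedding dimension is computed:
* if the residue of `f` is not a `p`-th power, `edim B = edim A`;
* if `f = g^p + μ` with `μ ∈ 𝔪`, `edim B = edim A + 1` when `μ ∈ 𝔪²`, and `edim B = edim A` otherwise.
-/

set_option autoImplicit false
universe u

namespace Groth.Agent.Lib.PRootCot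

open IsLocalRing TensorProduct Polynomial

/-- quotients of local rings by proper ideals are local. -/
theorem isLocalRing_quotient {R : Type*} [CommRing R] [IsLocalRing R] (I : Ideal R) (hI : I ≠ ⊤) :
    IsLocalRing (R ⧸ I) := by
  have : Nontrivial (R ⧸ I) := Ideal.Quotient.nontrivial_iff.mpr hI
  exact IsLocalRing.of_surjective' (Ideal.Quotient.mk I) Ideal.Quotient.mk_surjective

section Step

variable (p : ℕ) [hp : Fact p.Prime] {A : Type u} [CommRing A]

/-- the polynomial `X^p - f`. -/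
noncomputable abbrev pol (f : A) : A[X] := X ^ p - C f

theorem pol_monic (f : A) : (pol p f).Monic := monic_X_pow_sub_C f hp.out.ne_zero

omit hp in
/-- `root ^ p = f` in `A[T]/(T^p - f)`. -/
theorem root_pow (f : A) : AdjoinRoot.root (pol p f) ^ p = AdjoinRoot.of (pol p f) f := by
  have h := AdjoinRoot.mk_self (f := pol p f)
  rw [pol, map_sub, map_pow, AdjoinRoot.mk_X, AdjoinRoot.mk_C, sub_eq_zero] at h
  exact h

omit hp in
theorem natCast_eq_zero (hpA : (p : A) = 0) (f : A) : (p : AdjoinRoot (pol p f)) = 0 := by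
  rw [← map_natCast (AdjoinRoot.of (pol p f)), hpA, map_zero]

theorem exists_pow_eq (hpA : (p : A) = 0) (f : A) (x : AdjoinRoot (pol p f)) :
    ∃ a : A, x ^ p = algebraMap A (AdjoinRoot (pol p f)) a := by
  refine forall_exists_pow_eq p (natCast_eq_zero p hpA f) {AdjoinRoot.root (pol p f)}
    AdjoinRoot.adjoinRoot_eq_top ?_ x
  intro y hy
  rw [Set.mem_singleton_iff] at hy
  exact ⟨f, by rw [hy, root_pow, AdjoinRoot.algebraMap_eq]⟩

instance isNoetherianRing_adjoinRoot [IsNoetherianRing A] (f : A) :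
    IsNoetherianRing (AdjoinRoot (pol p f)) :=
  inferInstanceAs (IsNoetherianRing (A[X] ⧸ Ideal.span {pol p f}))

theorem nontrivial_adjoinRoot [Nontrivial A] (f : A) : Nontrivial (AdjoinRoot (pol p f)) := by
  let b := (AdjoinRoot.powerBasis' (pol_monic p f)).basis
  have hdim : 0 < (AdjoinRoot.powerBasis' (pol_monic p f)).dim := by
    rw [AdjoinRoot.powerBasis'_dim, natDegree_X_pow_sub_C]
    exact hp.out.pos
  exact ⟨⟨b ⟨0, hdim⟩, 0, b.ne_zero _⟩⟩

variable [IsLocalRing A]

theorem isLocalRing_adjoinRoot (hpA : (p : A) = 0) (f : A) : IsLocalRing (AdjoinRoot (pol p f)) := by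
  have := nontrivial_adjoinRoot p f
  exact isLocalRing_of_pow_mem p (natCast_eq_zero p hpA f) (exists_pow_eq p hpA f)

theorem isLocalHom_adjoinRoot (hpA : (p : A) = 0) (f : A) :
    IsLocalHom (algebraMap A (AdjoinRoot (pol p f))) := by
  have := nontrivial_adjoinRoot p f
  exact isLocalHom_of_pow_mem p (exists_pow_eq p hpA f)

end Step


section CaseA

variable (p : ℕ) [hp : Fact p.Prime] {A : Type u} [CommRing A] [IsLocalRing A]

/-- if the residue of `f` is not a `p`-th power, `𝔪_A B` is the maximal ideal of `B = A[T]/(T^p - f)`. -/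
theorem map_maximalIdeal_eq_of_not_pow (f : A)
    (ha : ∀ b : ResidueField A, b ^ p ≠ residue A f) [IsLocalRing (AdjoinRoot (pol p f))] :
    (maximalIdeal A).map (algebraMap A (AdjoinRoot (pol p f))) =
      maximalIdeal (AdjoinRoot (pol p f)) := by
  have hirr : Irreducible (X ^ p - C (residue A f) : (ResidueField A)[X]) :=
    X_pow_sub_C_irreducible_of_prime hp.out ha
  have hmax : (Ideal.span {(X ^ p - C (residue A f) : (ResidueField A)[X])}).IsMaximal :=
    PrincipalIdealRing.isMaximal_of_irreducible hirr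
  let e := AdjoinRoot.quotEquivQuotMap (pol p f) (maximalIdeal A)
  have hpolmap : (pol p f).map (Ideal.Quotient.mk (maximalIdeal A)) =
      (X ^ p - C (residue A f) : (ResidueField A)[X]) := by
    simp only [pol, Polynomial.map_sub, Polynomial.map_pow, Polynomial.map_X, Polynomial.map_C]
    rfl
  have hfield : IsField ((A ⧸ maximalIdeal A)[X] ⧸
      Ideal.span {(pol p f).map (Ideal.Quotient.mk (maximalIdeal A))}) := by
    rw [hpolmap]
    exact (Ideal.Quotient.maximal_ideal_iff_isField_quotient _).mp hmax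
  have hfield' := e.toRingEquiv.toMulEquiv.isField hfield
  have hm := Ideal.Quotient.maximal_of_isField _ hfield'
  rw [AdjoinRoot.algebraMap_eq]
  exact (IsLocalRing.eq_maximalIdeal hm)

theorem spanFinrank_adjoinRoot_of_not_pow [IsNoetherianRing A] (hpA : (p : A) = 0) (f : A)
    (ha : ∀ b : ResidueField A, b ^ p ≠ residue A f) [IsLocalRing (AdjoinRoot (pol p f))] :
    (maximalIdeal (AdjoinRoot (pol p f))).spanFinrank = (maximalIdeal A).spanFinrank := by
  have := isLocalHom_adjoinRoot p hpA f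
  have := (pol_monic p f).free_adjoinRoot
  have : Module.Flat A (AdjoinRoot (pol p f)) := inferInstance
  exact Groth.Agent.Lib.RegularFlatLocal.spanFinrank_maximalIdeal_eq
    (map_maximalIdeal_eq_of_not_pow p f ha)

end CaseA


section CaseB

variable (p : ℕ) [hp : Fact p.Prime] {A : Type u} [CommRing A] (g μ : A)

/-- `u = root - g` in `A[T]/(T^p - (g^p + μ))`. -/
noncomputable def uu : AdjoinRoot (pol p (g ^ p + μ)) :=
  AdjoinRoot.root (pol p (g ^ p + μ)) - AdjoinRoot.of (pol p (g ^ p + μ)) g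

theorem uu_pow [Nontrivial A] (hpA : (p : A) = 0) :
    uu p g μ ^ p = AdjoinRoot.of (pol p (g ^ p + μ)) μ := by
  have := nontrivial_adjoinRoot p (g ^ p + μ)
  have : CharP (AdjoinRoot (pol p (g ^ p + μ))) p :=
    (CharP.charP_iff_prime_eq_zero hp.out).mpr (natCast_eq_zero p hpA _)
  rw [uu, sub_pow_char, root_pow, ← map_pow, ← map_sub, add_sub_cancel_left]

/-- `A/(μ) → B/(u)`. -/
noncomputable def phi [Nontrivial A] (hpA : (p : A) = 0) :
    A ⧸ Ideal.span {μ} →+* AdjoinRoot (pol p (g ^ p + μ)) ⧸ Ideal.span {uu p g μ} :=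
  Ideal.Quotient.lift _ ((Ideal.Quotient.mk _).comp (AdjoinRoot.of (pol p (g ^ p + μ)))) (by
    intro a ha
    obtain ⟨c, rfl⟩ := Ideal.mem_span_singleton'.mp ha
    rw [RingHom.comp_apply, map_mul, ← uu_pow p g μ hpA, Ideal.Quotient.eq_zero_iff_mem]
    exact Ideal.mul_mem_left _ _ (Ideal.pow_mem_of_mem _ (Ideal.mem_span_singleton_self _) p
      hp.out.pos))

theorem phi_mk [Nontrivial A] (hpA : (p : A) = 0) (a : A) :
    phi p g μ hpA (Ideal.Quotient.mk _ a) =
      Ideal.Quotient.mk _ (AdjoinRoot.of (pol p (g ^ p + μ)) a) := rfl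

theorem phi_surjective [Nontrivial A] (hpA : (p : A) = 0) :
    Function.Surjective (phi p g μ hpA) := by
  intro b
  obtain ⟨b, rfl⟩ := Ideal.Quotient.mk_surjective b
  induction b using AdjoinRoot.induction_on with
  | ih q =>
    refine ⟨Ideal.Quotient.mk _ (q.eval g), ?_⟩
    rw [phi_mk, Ideal.Quotient.eq, Ideal.mem_span_singleton]
    obtain ⟨r, hr⟩ := Polynomial.X_sub_C_dvd_sub_C_eval (a := g) (p := q)
    refine ⟨- AdjoinRoot.mk _ r, ?_⟩
    have h1 := congrArg (AdjoinRoot.mk (pol p (g ^ p + μ))) hr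
    rw [map_sub, map_mul, map_sub, AdjoinRoot.mk_X, AdjoinRoot.mk_C, AdjoinRoot.mk_C] at h1
    rw [uu, mul_neg, ← h1]
    ring

omit hp in
theorem psi_eval : (pol p (g ^ p + μ)).eval₂ (Ideal.Quotient.mk (Ideal.span {μ}))
    (Ideal.Quotient.mk (Ideal.span {μ}) g) = 0 := by
  rw [pol, eval₂_sub, eval₂_pow, eval₂_X, eval₂_C, ← map_pow, ← map_sub, sub_add_cancel_left,
    map_neg, neg_eq_zero, Ideal.Quotient.eq_zero_iff_mem]
  exact Ideal.mem_span_singleton_self _

/-- `B/(u) → A/(μ)`. -/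
noncomputable def psi :
    AdjoinRoot (pol p (g ^ p + μ)) ⧸ Ideal.span {uu p g μ} →+* A ⧸ Ideal.span {μ} :=
  Ideal.Quotient.lift _ (AdjoinRoot.lift (Ideal.Quotient.mk (Ideal.span {μ}))
    (Ideal.Quotient.mk (Ideal.span {μ}) g) (psi_eval p g μ)) (by
    intro a ha
    obtain ⟨c, rfl⟩ := Ideal.mem_span_singleton'.mp ha
    have h1 : AdjoinRoot.lift (Ideal.Quotient.mk (Ideal.span {μ}))
        (Ideal.Quotient.mk (Ideal.span {μ}) g) (psi_eval p g μ) (uu p g μ) = 0 := by
      rw [uu, map_sub, AdjoinRoot.lift_root, AdjoinRoot.lift_of, sub_self]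
    rw [map_mul, h1, mul_zero])

omit hp in
theorem psi_mk_of (a : A) :
    psi p g μ (Ideal.Quotient.mk _ (AdjoinRoot.of (pol p (g ^ p + μ)) a)) =
      Ideal.Quotient.mk _ a := by
  rw [psi, Ideal.Quotient.lift_mk, AdjoinRoot.lift_of]

omit hp in
theorem psi_surjective : Function.Surjective (psi p g μ) := by
  intro b
  obtain ⟨a, rfl⟩ := Ideal.Quotient.mk_surjective b
  exact ⟨_, psi_mk_of p g μ a⟩

variable [IsLocalRing A]

/-- the map `B → K[ε]`, `root ↦ ḡ + ε`. -/
noncomputable def theta (hpA : (p : A) = 0) (hμ : μ ∈ maximalIdeal A) :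
    AdjoinRoot (pol p (g ^ p + μ)) →+* TrivSqZeroExt (ResidueField A) (ResidueField A) :=
  AdjoinRoot.lift ((TrivSqZeroExt.inlHom (ResidueField A) (ResidueField A)).comp (residue A))
    (TrivSqZeroExt.inl (residue A g) + TrivSqZeroExt.inr 1) (by
      have hpK : (p : ResidueField A) = 0 := by
        rw [← map_natCast (residue A), hpA, map_zero]
      have hμ0 : residue A μ = 0 := (residue_eq_zero_iff μ).mpr hμ
      rw [pol, eval₂_sub, eval₂_pow, eval₂_X, eval₂_C, sub_eq_zero]
      ext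
      · simp [hμ0]
      · rw [TrivSqZeroExt.snd_pow]
        simp [hpK])

omit hp in
theorem theta_uu (hpA : (p : A) = 0) (hμ : μ ∈ maximalIdeal A) :
    theta p g μ hpA hμ (uu p g μ) = TrivSqZeroExt.inr 1 := by
  rw [uu, map_sub, theta, AdjoinRoot.lift_root, AdjoinRoot.lift_of]
  simp

omit hp in
theorem theta_of (hpA : (p : A) = 0) (hμ : μ ∈ maximalIdeal A) (a : A) :
    theta p g μ hpA hμ (AdjoinRoot.of _ a) = TrivSqZeroExt.inl (residue A a) := by
  rw [theta, AdjoinRoot.lift_of]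
  rfl

variable [IsLocalRing (AdjoinRoot (pol p (g ^ p + μ)))]

theorem fst_theta_eq_zero (hpA : (p : A) = 0) (hμ : μ ∈ maximalIdeal A)
    {y : AdjoinRoot (pol p (g ^ p + μ))} (hy : y ∈ maximalIdeal (AdjoinRoot (pol p (g ^ p + μ)))) :
    (theta p g μ hpA hμ y).fst = 0 := by
  obtain ⟨a, ha, hya⟩ := exists_mem_maximalIdeal_pow_eq p (exists_pow_eq p hpA (g ^ p + μ)) hy
  have h1 := congrArg (theta p g μ hpA hμ) hya
  rw [map_pow, AdjoinRoot.algebraMap_eq, theta_of, (residue_eq_zero_iff a).mpr ha] at h1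
  have h2 := congrArg TrivSqZeroExt.fst h1
  rw [TrivSqZeroExt.fst_pow, TrivSqZeroExt.fst_inl] at h2
  exact pow_eq_zero_iff hp.out.ne_zero |>.mp h2

theorem uu_mem (hpA : (p : A) = 0) (hμ : μ ∈ maximalIdeal A) :
    uu p g μ ∈ maximalIdeal (AdjoinRoot (pol p (g ^ p + μ))) := by
  rw [mem_maximalIdeal, mem_nonunits_iff]
  intro hu
  have h1 : IsUnit (uu p g μ ^ p) := hu.pow p
  rw [uu_pow p g μ hpA, ← AdjoinRoot.algebraMap_eq] at h1
  have := isLocalHom_adjoinRoot p hpA (g ^ p + μ)
  exact ((mem_maximalIdeal μ).mp hμ) (isUnit_of_map_unit _ _ h1)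

theorem uu_notMem_sq (hpA : (p : A) = 0) (hμ : μ ∈ maximalIdeal A) :
    uu p g μ ∉ maximalIdeal (AdjoinRoot (pol p (g ^ p + μ))) ^ 2 := by
  intro hmem
  have hle : maximalIdeal (AdjoinRoot (pol p (g ^ p + μ))) ^ 2 ≤
      RingHom.ker (theta p g μ hpA hμ) := by
    rw [pow_two, Ideal.mul_le]
    intro r hr s hs
    rw [RingHom.mem_ker, map_mul]
    have h1 := fst_theta_eq_zero p g μ hpA hμ hr
    have h2 := fst_theta_eq_zero p g μ hpA hμ hs
    ext
    · rw [TrivSqZeroExt.fst_mul, h1, zero_mul, TrivSqZeroExt.fst_zero]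
    · rw [TrivSqZeroExt.snd_mul, h1, h2]
      simp
  have h0 := hle hmem
  rw [RingHom.mem_ker, theta_uu] at h0
  have h1 := congrArg TrivSqZeroExt.snd h0
  rw [TrivSqZeroExt.snd_inr, TrivSqZeroExt.snd_zero] at h1
  exact one_ne_zero h1

/-- embedding dimension of `A[T]/(T^p - (g^p + μ))`, `μ ∈ 𝔪`. -/
theorem spanFinrank_adjoinRoot_of_pow [IsNoetherianRing A] (hpA : (p : A) = 0)
    (hμ : μ ∈ maximalIdeal A) :
    (μ ∈ maximalIdeal A ^ 2 → (maximalIdeal (AdjoinRoot (pol p (g ^ p + μ)))).spanFinrank =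
      (maximalIdeal A).spanFinrank + 1) ∧
    (μ ∉ maximalIdeal A ^ 2 → (maximalIdeal (AdjoinRoot (pol p (g ^ p + μ)))).spanFinrank =
      (maximalIdeal A).spanFinrank) := by
  have hJ : Ideal.span {μ} ≠ (⊤ : Ideal A) := by
    intro h
    have : (1 : A) ∈ Ideal.span {μ} := by rw [h]; trivial
    have h1 : (1 : A) ∈ maximalIdeal A :=
      ((Ideal.span_singleton_le_iff_mem (maximalIdeal A)).mpr hμ) this
    exact (Ideal.ne_top_iff_one _).mp (maximalIdeal.isMaximal A).ne_top h1
  have hI : Ideal.span {uu p g μ} ≠ (⊤ : Ideal (AdjoinRoot (pol p (g ^ p + μ)))) := by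
    intro h
    have : (1 : AdjoinRoot (pol p (g ^ p + μ))) ∈ Ideal.span {uu p g μ} := by rw [h]; trivial
    have h1 : (1 : AdjoinRoot (pol p (g ^ p + μ))) ∈ maximalIdeal _ :=
      ((Ideal.span_singleton_le_iff_mem (maximalIdeal _)).mpr (uu_mem p g μ hpA hμ)) this
    exact (Ideal.ne_top_iff_one _).mp (maximalIdeal.isMaximal _).ne_top h1
  have := isLocalRing_quotient _ hJ
  have := isLocalRing_quotient _ hI
  have hB := spanFinrank_quotient_span_singleton (uu_mem p g μ hpA hμ)
  have hA := spanFinrank_quotient_span_singleton hμ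
  have h1 := spanFinrank_le_of_surjective (phi p g μ hpA) (phi_surjective p g μ hpA)
  have h2 := spanFinrank_le_of_surjective (psi p g μ) (psi_surjective p g μ)
  have h3 := hB.2 (uu_notMem_sq p g μ hpA hμ)
  constructor
  · intro hm
    have := hA.1 hm
    omega
  · intro hm
    have := hA.2 hm
    omega

end CaseB

end Groth.Agent.Lib.PRootCot
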