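import Mathlib
import Groth.Agent.Lib.PRootCot2
import Groth.Agent.Lib.PBasisField3H44
import Groth.Agent.S2468
import Groth.Agent.S4521
import Groth.Agent.S4594

/-!
# helper89: adjoining `p`-th roots, differentials (part 3)

* `mem_sq_of_tmul_D_eq_zero`: for a local ring `A` of characteristic `p` and `μ ∈ 𝔪`,
  `1 ⊗ dμ = 0` in `K ⊗_A Ω_{A/ℤ}` forces `μ ∈ 𝔪²` (every field of characteristic `p` is formally
  smooth over the prime field);
* `tmul_D_ne_zero_of_not_pow`: if the residue of `f` is not a `p`-th power then `1 ⊗ df ≠ 0`.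
-/

set_option autoImplicit false
universe u

namespace Groth.Agent.Lib.PRootCot

open IsLocalRing TensorProduct KaehlerDifferential

section PrimeField

variable (p : ℕ) [hp : Fact p.Prime]

/-- the prime field in universe `u`. -/
abbrev PF : Type u := ULift.{u} (ZMod p)

/-- the canonical algebra structure over the prime field on a ring of characteristic `p`. -/
noncomputable abbrev pfAlgebra (R : Type*) [CommRing R] [CharP R p] : Algebra (PF.{u} p) R :=
  ((ZMod.castHom (dvd_refl p) R).comp
    (ULift.ringEquiv : ULift.{u} (ZMod p) ≃+* ZMod p).toRingHom).toAlgebra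

theorem pf_ringHom_ext {R : Type*} [CommRing R] (φ ψ : PF.{u} p →+* R) : φ = ψ := by
  have h : φ.comp (ULift.ringEquiv : ULift.{u} (ZMod p) ≃+* ZMod p).symm.toRingHom =
      ψ.comp (ULift.ringEquiv : ULift.{u} (ZMod p) ≃+* ZMod p).symm.toRingHom :=
    Subsingleton.elim _ _
  ext x
  have := RingHom.congr_fun h (ULift.ringEquiv x)
  simpa using this

end PrimeField


section F1

variable (p : ℕ) [hp : Fact p.Prime]

theorem charP_of_natCast_eq_zero (R : Type*) [CommRing R] [Nontrivial R] (h : (p : R) = 0) :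
    CharP R p :=
  (CharP.charP_iff_prime_eq_zero hp.out).mpr h

variable {A : Type u} [CommRing A] [IsLocalRing A]

omit hp in
theorem natCast_residueField_eq_zero (hpA : (p : A) = 0) : (p : ResidueField A) = 0 := by
  rw [← map_natCast (residue A), hpA, map_zero]

/-- In a local ring of characteristic `p`, an element `μ` of the maximal ideal with `1 ⊗ dμ = 0`
in `K ⊗_A Ω_{A/ℤ}` lies in `𝔪²`. -/
theorem mem_sq_of_tmul_D_eq_zero (hpA : (p : A) = 0) {μ : A}
    (h : (1 : ResidueField A) ⊗ₜ[A] D ℤ A μ = 0) : μ ∈ maximalIdeal A → μ ∈ maximalIdeal A ^ 2 := by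
  intro hμ
  have hpK := natCast_residueField_eq_zero p hpA
  have : CharP (ResidueField A) p := charP_of_natCast_eq_zero p _ hpK
  have hne : maximalIdeal A ^ 2 ≠ ⊤ := fun h1 => (maximalIdeal.isMaximal A).ne_top (by
    have h2 := Ideal.pow_le_self (I := maximalIdeal A) two_ne_zero
    rw [h1] at h2
    exact top_le_iff.mp h2)
  have : Nontrivial (A ⧸ maximalIdeal A ^ 2) := Ideal.Quotient.nontrivial_iff.mpr hne
  have hpQ : (p : A ⧸ maximalIdeal A ^ 2) = 0 := by
    rw [← map_natCast (Ideal.Quotient.mk (maximalIdeal A ^ 2)), hpA, map_zero]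
  have : CharP (A ⧸ maximalIdeal A ^ 2) p := charP_of_natCast_eq_zero p _ hpQ
  let a1 : Algebra (PF.{u} p) (ResidueField A) := pfAlgebra p _
  let a2 : Algebra (PF.{u} p) (A ⧸ maximalIdeal A ^ 2) := pfAlgebra p _
  have hfs : Algebra.FormallySmooth (PF.{u} p) (ResidueField A) :=
    Groth.Agent.Lib.PBasisField3H44.formallySmooth_of_perfectRing p (PF.{u} p) (ResidueField A)
  let π : (A ⧸ maximalIdeal A ^ 2) →+* ResidueField A :=
    Ideal.Quotient.lift _ (residue A)
      (fun a ha => (residue_eq_zero_iff a).mpr (Ideal.pow_le_self two_ne_zero ha))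
  let a3 : Algebra (A ⧸ maximalIdeal A ^ 2) (ResidueField A) := π.toAlgebra
  have t1 : IsScalarTower A (A ⧸ maximalIdeal A ^ 2) (ResidueField A) :=
    IsScalarTower.of_algebraMap_eq (fun x => rfl)
  have t2 : IsScalarTower (PF.{u} p) (A ⧸ maximalIdeal A ^ 2) (ResidueField A) :=
    IsScalarTower.of_algebraMap_eq' (pf_ringHom_ext p _ _)
  have hs : Function.Surjective (algebraMap (A ⧸ maximalIdeal A ^ 2) (ResidueField A)) := by
    intro c
    obtain ⟨a, rfl⟩ := residue_surjective c
    exact ⟨Ideal.Quotient.mk _ a, rfl⟩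
  have hker : RingHom.ker (algebraMap (A ⧸ maximalIdeal A ^ 2) (ResidueField A)) ≤
      (maximalIdeal A).map (Ideal.Quotient.mk (maximalIdeal A ^ 2)) := by
    intro b hb
    obtain ⟨a, rfl⟩ := Ideal.Quotient.mk_surjective b
    have h1 : residue A a = 0 := hb
    exact Ideal.mem_map_of_mem _ ((residue_eq_zero_iff a).mp h1)
  have hsq : RingHom.ker (algebraMap (A ⧸ maximalIdeal A ^ 2) (ResidueField A)) ^ 2 = ⊥ := by
    rw [eq_bot_iff]
    refine (Ideal.pow_right_mono hker 2).trans ?_
    rw [← Ideal.map_pow, Ideal.map_quotient_self]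
  have hinj := Groth.Agent.S4594.kerToTensor_injective (R₀ := PF.{u} p) hs hsq
  have h1 := Groth.Agent.S4594.tmul_D_eq_zero (Λ := ℤ) (Λ₀ := PF.{u} p)
    (B := A ⧸ maximalIdeal A ^ 2) (C := ResidueField A) μ h
  have hxk : Ideal.Quotient.mk (maximalIdeal A ^ 2) μ ∈
      RingHom.ker (algebraMap (A ⧸ maximalIdeal A ^ 2) (ResidueField A)) := by
    rw [RingHom.mem_ker]
    exact (residue_eq_zero_iff μ).mpr hμ
  have h2 : kerToTensor (PF.{u} p) (A ⧸ maximalIdeal A ^ 2) (ResidueField A)
      ⟨Ideal.Quotient.mk _ μ, hxk⟩ = 0 := h1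
  have h3 := hinj (h2.trans (map_zero _).symm)
  have h4 : Ideal.Quotient.mk (maximalIdeal A ^ 2) μ = 0 := congrArg Subtype.val h3
  exact Ideal.Quotient.eq_zero_iff_mem.mp h4

omit hp in
/-- the easy converse: `1 ⊗ dμ = 0` for `μ ∈ 𝔪²`. -/
theorem tmul_D_eq_zero_of_mem_sq {μ : A} (hμ : μ ∈ maximalIdeal A ^ 2) :
    (1 : ResidueField A) ⊗ₜ[A] D ℤ A μ = 0 := by
  rw [pow_two] at hμ
  refine Submodule.mul_induction_on hμ ?_ ?_
  · intro x hx y hy
    rw [Derivation.leibniz, TensorProduct.tmul_add, ← TensorProduct.smul_tmul,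
      ← TensorProduct.smul_tmul, Algebra.smul_def, Algebra.smul_def, mul_one, mul_one]
    have hx0 : algebraMap A (ResidueField A) x = 0 := (residue_eq_zero_iff x).mpr hx
    have hy0 : algebraMap A (ResidueField A) y = 0 := (residue_eq_zero_iff y).mpr hy
    rw [hx0, hy0, TensorProduct.zero_tmul, TensorProduct.zero_tmul, add_zero]
  · intro x y hx hy
    rw [map_add, TensorProduct.tmul_add, hx, hy, add_zero]

omit hp [IsLocalRing A] in
/-- `d(g^p) = 0` in characteristic `p`. -/
theorem D_pow_eq_zero (hpA : (p : A) = 0) (g : A) : D ℤ A (g ^ p) = 0 := by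
  rw [Derivation.leibniz_pow, ← Nat.cast_smul_eq_nsmul A, hpA, zero_smul]

end F1


section F2

variable (p : ℕ) [hp : Fact p.Prime] {A : Type u} [CommRing A] [IsLocalRing A]

/-- if the residue of `f` is not a `p`-th power, some derivation `A → K` does not vanish at `f`. -/
theorem exists_derivation_ne_zero_of_not_pow (hpA : (p : A) = 0) (f : A)
    (ha : ∀ b : ResidueField A, b ^ p ≠ residue A f) :
    ∃ D₀ : Derivation ℤ A (ResidueField A), D₀ f ≠ 0 := by
  have hpK := natCast_residueField_eq_zero p hpA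
  have : CharP (ResidueField A) p := charP_of_natCast_eq_zero p _ hpK
  let a1 : Algebra (PF.{u} p) (ResidueField A) := pfAlgebra p _
  let x : PUnit.{u + 1} → ResidueField A := fun _ => residue A f
  have hind : EGA41.IsPIndependent p (PF.{u} p) x := by
    rw [Groth.Agent.S4521.result p x]
    intro a hmem
    let L : IntermediateField (PF.{u} p) (ResidueField A) :=
      Subfield.toIntermediateField (frobenius (ResidueField A) p).fieldRange (by
        intro z
        refine ⟨algebraMap (PF.{u} p) (ResidueField A) z, ?_⟩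
        rw [frobenius_def, ← map_pow]
        congr 1
        apply ULift.ext
        exact ZMod.pow_card z.down)
    have hle : IntermediateField.adjoin (PF.{u} p)
        (Set.range (fun y : ResidueField A => y ^ p) ∪ x '' {b | b ≠ a}) ≤ L := by
      rw [IntermediateField.adjoin_le_iff]
      rintro y (⟨z, rfl⟩ | ⟨b, hb, rfl⟩)
      · exact ⟨z, rfl⟩
      · exact absurd (Subsingleton.elim b a) hb
    obtain ⟨b, hb⟩ := hle hmem
    exact ha b hb
  have hli := (Groth.Agent.S2468.result p x).1.mp hind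
  have h1 : D (PF.{u} p) (ResidueField A) (residue A f) ≠ 0 := hli.ne_zero PUnit.unit
  obtain ⟨lam, hlam⟩ : ∃ lam : Ω[ResidueField A⁄PF.{u} p] →ₗ[ResidueField A] ResidueField A,
      lam (D (PF.{u} p) (ResidueField A) (residue A f)) ≠ 0 := by
    by_contra hcon
    push Not at hcon
    exact h1 ((Module.forall_dual_apply_eq_zero_iff (ResidueField A) _).mp hcon)
  let δ : Derivation (PF.{u} p) (ResidueField A) (ResidueField A) :=
    lam.compDer (D (PF.{u} p) (ResidueField A))
  have hδ : δ (residue A f) ≠ 0 := hlam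
  let D₀ : Derivation ℤ A (ResidueField A) :=
    Derivation.mk' (((δ : ResidueField A →ₗ[PF.{u} p] ResidueField A).toAddMonoidHom.comp
      (residue A).toAddMonoidHom).toIntLinearMap) (by
      intro a b
      change δ (residue A (a * b)) = a • δ (residue A b) + b • δ (residue A a)
      rw [map_mul, Derivation.leibniz, Algebra.smul_def, Algebra.smul_def]
      rfl)
  exact ⟨D₀, hδ⟩

/-- if the residue of `f` is not a `p`-th power then `1 ⊗ df ≠ 0`. -/
theorem tmul_D_ne_zero_of_not_pow (hpA : (p : A) = 0) (f : A)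
    (ha : ∀ b : ResidueField A, b ^ p ≠ residue A f) :
    (1 : ResidueField A) ⊗ₜ[A] D ℤ A f ≠ 0 := by
  obtain ⟨D₀, hD₀⟩ := exists_derivation_ne_zero_of_not_pow p hpA f ha
  exact tmul_D_ne_zero_of_derivation D₀ f hD₀

end F2

end Groth.Agent.Lib.PRootCot
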