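import Mathlib
import Groth.Agent.Lib.PRootCot3

/-!
# helper89: adjoining `p`-th roots, one step (part 4)

* `exists_derivation_extension`: a derivation `D : A → N` with `D f = 0` extends to `A[T]/(T^p - f)`;
* `transfer`: linear independence of `1 ⊗ d(f₀), 1 ⊗ d(g_i)` over `A` versus `1 ⊗ d(g_i)` over
  `A[T]/(T^p - f₀)`;
* `step`: `edim A ≤ edim A[T]/(T^p-f)` with equality iff `1 ⊗ df ≠ 0`.
-/

set_option autoImplicit false
universe u

namespace Groth.Agent.Lib.PRootCot

open IsLocalRing TensorProduct KaehlerDifferential TrivSqZeroExt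

section Ext

variable (p : ℕ) {A : Type*} [CommRing A] (f : A) {N : Type*} [AddCommGroup N] [Module A N]
  [Module (AdjoinRoot (pol p f)) N] [IsScalarTower A (AdjoinRoot (pol p f)) N]

theorem exists_derivation_extension_aux [Module (AdjoinRoot (pol p f))ᵐᵒᵖ N]
    [IsCentralScalar (AdjoinRoot (pol p f)) N] (D₀ : Derivation ℤ A N) (hD : D₀ f = 0) :
    ∃ D' : AdjoinRoot (pol p f) →+ N, (∀ s t, D' (s * t) = s • D' t + t • D' s) ∧
      ∀ a, D' (AdjoinRoot.of (pol p f) a) = D₀ a := by
  let g : A →+* TrivSqZeroExt (AdjoinRoot (pol p f)) N :=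
    { toFun := fun c => inl (AdjoinRoot.of (pol p f) c) + inr (D₀ c)
      map_one' := by simp
      map_mul' := by
        intro c c'
        ext
        · simp
        · simp only [snd_add, snd_inl, snd_inr, zero_add, snd_mul, fst_add, fst_inl, fst_inr,
            add_zero, Derivation.leibniz, op_smul_eq_smul, ← AdjoinRoot.algebraMap_eq,
            algebraMap_smul]
      map_zero' := by simp
      map_add' := by
        intro c c'
        ext
        · simp
        · simp }
  have hz : (pol p f).eval₂ g (inl (AdjoinRoot.root (pol p f))) = 0 := by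
    change Polynomial.eval₂ g _ (Polynomial.X ^ p - Polynomial.C f) = 0
    rw [Polynomial.eval₂_sub, Polynomial.eval₂_pow, Polynomial.eval₂_X, Polynomial.eval₂_C,
      sub_eq_zero]
    change _ = inl (AdjoinRoot.of (pol p f) f) + inr (D₀ f)
    rw [hD, inr_zero, add_zero, ← root_pow, inl_pow]
  let v := AdjoinRoot.lift g (inl (AdjoinRoot.root (pol p f))) hz
  have hfst : (fstHom ℤ (AdjoinRoot (pol p f)) N : TrivSqZeroExt (AdjoinRoot (pol p f)) N →+*
      AdjoinRoot (pol p f)).comp v = RingHom.id _ := by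
    refine Ideal.Quotient.ringHom_ext (Polynomial.ringHom_ext ?_ ?_)
    · intro a
      change (v (AdjoinRoot.mk (pol p f) (Polynomial.C a))).fst = AdjoinRoot.mk (pol p f) (Polynomial.C a)
      rw [AdjoinRoot.mk_C, AdjoinRoot.lift_of]
      simp [g]
    · change (v (AdjoinRoot.mk (pol p f) Polynomial.X)).fst = AdjoinRoot.mk (pol p f) Polynomial.X
      rw [AdjoinRoot.mk_X, AdjoinRoot.lift_root]
      simp
  have hfst' : ∀ s, (v s).fst = s := fun s => RingHom.congr_fun hfst s
  let D'₀ : AdjoinRoot (pol p f) →+ N :=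
    { toFun := fun s => (v s).snd
      map_zero' := by simp
      map_add' := by intro s t; simp }
  refine ⟨D'₀, ?_, ?_⟩
  · intro s t
    change (v (s * t)).snd = s • (v t).snd + t • (v s).snd
    rw [map_mul, snd_mul, hfst', hfst', op_smul_eq_smul]
  · intro a
    change (v (AdjoinRoot.of (pol p f) a)).snd = D₀ a
    rw [AdjoinRoot.lift_of]
    simp [g]

/-- a derivation killing `f` extends to `A[T]/(T^p - f)` (with value `0` at the root). -/
theorem exists_derivation_extension (D₀ : Derivation ℤ A N) (hD : D₀ f = 0) :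
    ∃ D' : AdjoinRoot (pol p f) →+ N, (∀ s t, D' (s * t) = s • D' t + t • D' s) ∧
      ∀ a, D' (AdjoinRoot.of (pol p f) a) = D₀ a := by
  let _ : Module (AdjoinRoot (pol p f))ᵐᵒᵖ N :=
    Module.compHom N ((RingHom.id (AdjoinRoot (pol p f))).fromOpposite fun a b => mul_comm a b)
  have : IsCentralScalar (AdjoinRoot (pol p f)) N := ⟨fun b l => rfl⟩
  exact exists_derivation_extension_aux p f D₀ hD

end Ext


section Transfer

variable (p : ℕ) [hp : Fact p.Prime] {A : Type u} [CommRing A] [IsLocalRing A]

omit hp in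
/-- linear independence of `1 ⊗ df₀, 1 ⊗ dg_i` over `A` versus `1 ⊗ dg_i` over `A[T]/(T^p - f₀)`. -/
theorem transfer (hpA : (p : A) = 0) (f₀ : A) {r : ℕ} (g : Fin r → A)
    [IsLocalRing (AdjoinRoot (pol p f₀))] [IsLocalHom (algebraMap A (AdjoinRoot (pol p f₀)))] :
    LiAt A (Fin.cons f₀ g : Fin (r + 1) → A) ↔
      (NzAt A f₀ ∧ LiAt (AdjoinRoot (pol p f₀)) (fun i => AdjoinRoot.of (pol p f₀) (g i))) := by
  unfold LiAt NzAt
  constructor
  · intro hli
    obtain ⟨Dv, hDv⟩ := exists_derivations_of_linearIndependent _ hli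
    refine ⟨?_, ?_⟩
    · have h := hli.ne_zero 0
      simpa using h
    · let ι : ResidueField A →ₗ[A] ResidueField (AdjoinRoot (pol p f₀)) :=
        (IsScalarTower.toAlgHom A (ResidueField A) (ResidueField (AdjoinRoot (pol p f₀)))).toLinearMap
      let D1 : Fin r → Derivation ℤ A (ResidueField (AdjoinRoot (pol p f₀))) :=
        fun j => ι.compDer (Dv j.succ)
      have h1 : ∀ j, D1 j f₀ = 0 := by
        intro j
        change ι (Dv j.succ f₀) = 0
        have h2 := hDv 0 j.succ
        rw [Fin.cons_zero, if_neg (Fin.succ_ne_zero j).symm] at h2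
        rw [h2, map_zero]
      have h3 : ∀ i j, D1 j (g i) = if i = j then 1 else 0 := by
        intro i j
        change ι (Dv j.succ (g i)) = _
        have h2 := hDv i.succ j.succ
        rw [Fin.cons_succ] at h2
        rw [h2]
        by_cases hij : i = j
        · rw [if_pos hij, if_pos (by rw [hij])]
          exact map_one (IsScalarTower.toAlgHom A (ResidueField A)
            (ResidueField (AdjoinRoot (pol p f₀))))
        · rw [if_neg hij, if_neg (fun h => hij (Fin.succ_injective _ h)), map_zero]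
      choose D2 hD2l hD2 using fun j => exists_derivation_extension p f₀ (D1 j) (h1 j)
      refine linearIndependent_of_derivations (A := AdjoinRoot (pol p f₀))
        (fun i => AdjoinRoot.of (pol p f₀) (g i))
        (L := ResidueField (AdjoinRoot (pol p f₀)))
        (fun j => Derivation.mk' (D2 j).toIntLinearMap (hD2l j)) ?_
      intro i j
      change D2 j (AdjoinRoot.of (pol p f₀) (g i)) = _
      rw [hD2, h3]
  · rintro ⟨h0, hli⟩
    obtain ⟨Dv, hDv⟩ := exists_derivations_of_linearIndependent
      (A := AdjoinRoot (pol p f₀)) (fun i => AdjoinRoot.of (pol p f₀) (g i)) hli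
    let D1 : Fin r → Derivation ℤ A (ResidueField (AdjoinRoot (pol p f₀))) :=
      fun j => (Dv j).compAlgebraMap A
    have hpK : (p : ResidueField (AdjoinRoot (pol p f₀))) = 0 :=
      natCast_residueField_eq_zero p (natCast_eq_zero p hpA f₀)
    have h1 : ∀ j, D1 j f₀ = 0 := by
      intro j
      change Dv j (algebraMap A (AdjoinRoot (pol p f₀)) f₀) = 0
      rw [AdjoinRoot.algebraMap_eq, ← root_pow, Derivation.leibniz_pow,
        ← Nat.cast_smul_eq_nsmul (ResidueField (AdjoinRoot (pol p f₀))), hpK, zero_smul]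
    have h2 : ∀ i j, D1 j (g i) = if i = j then 1 else 0 := by
      intro i j
      change Dv j (algebraMap A (AdjoinRoot (pol p f₀)) (g i)) = _
      rw [AdjoinRoot.algebraMap_eq]
      exact hDv i j
    exact linearIndependent_cons_of_derivations f₀ g h0
      (L := ResidueField (AdjoinRoot (pol p f₀))) D1 h1 h2

/-- one step: the embedding dimension does not drop, and stays the same exactly when `1 ⊗ df ≠ 0`. -/
theorem step [IsNoetherianRing A] (hpA : (p : A) = 0) (f : A) [IsLocalRing (AdjoinRoot (pol p f))] :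
    (maximalIdeal A).spanFinrank ≤ (maximalIdeal (AdjoinRoot (pol p f))).spanFinrank ∧
      ((maximalIdeal (AdjoinRoot (pol p f))).spanFinrank = (maximalIdeal A).spanFinrank ↔
        NzAt A f) := by
  unfold NzAt
  by_cases ha : ∀ b : ResidueField A, b ^ p ≠ residue A f
  · have h1 := spanFinrank_adjoinRoot_of_not_pow p hpA f ha
    have h2 := tmul_D_ne_zero_of_not_pow p hpA f ha
    exact ⟨h1.ge, ⟨fun _ => h2, fun _ => h1⟩⟩
  · push Not at ha
    obtain ⟨b, hb⟩ := ha
    obtain ⟨g, rfl⟩ := residue_surjective b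
    obtain ⟨μ, hμdef⟩ : ∃ μ, f = g ^ p + μ := ⟨f - g ^ p, by ring⟩
    subst hμdef
    have hμ : μ ∈ maximalIdeal A := by
      rw [← residue_eq_zero_iff]
      rw [map_add, map_pow] at hb
      exact (add_eq_left (a := residue A g ^ p)).mp hb.symm
    have key := spanFinrank_adjoinRoot_of_pow p g μ hpA hμ
    have hD : (1 : ResidueField A) ⊗ₜ[A] D ℤ A (g ^ p + μ) =
        (1 : ResidueField A) ⊗ₜ[A] D ℤ A μ := by
      rw [map_add, D_pow_eq_zero p hpA, zero_add]
    rw [hD]
    by_cases hm : μ ∈ maximalIdeal A ^ 2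
    · have h1 := key.1 hm
      have h2 := tmul_D_eq_zero_of_mem_sq hm
      refine ⟨by omega, ⟨fun h => by omega, fun h => absurd h2 h⟩⟩
    · have h1 := key.2 hm
      refine ⟨h1.ge, ⟨fun _ h0 => hm (mem_sq_of_tmul_D_eq_zero p hpA h0 hμ), fun _ => h1⟩⟩

end Transfer

end Groth.Agent.Lib.PRootCot
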