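import Mathlib
import Groth.Agent.Lib.PRootCot4

/-!
# helper89: adjoining finitely many `p`-th roots (part 5)

`IsPRootAlg p f B t`: `B` is the universal `A`-algebra with elements `t i` such that `t i ^ p = f i`.
Main theorem `main`: for a Noetherian local ring `A` of characteristic `p`, such a `B` is Noetherian
local, `edim A ≤ edim B`, with equality iff the `1 ⊗ d f_i` are linearly independent in
`K ⊗_A Ω_{A/ℤ}`.
-/

set_option autoImplicit false
universe u

namespace Groth.Agent.Lib.PRootCot

open IsLocalRing TensorProduct KaehlerDifferential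

/-- `B` is the universal `A`-algebra generated by `p`-th roots `t i` of the `f i`. -/
structure IsPRootAlg (p : ℕ) {A : Type u} [CommRing A] {r : ℕ} (f : Fin r → A) (B : Type u)
    [CommRing B] [Algebra A B] (t : Fin r → B) : Prop where
  pow_eq : ∀ i, t i ^ p = algebraMap A B (f i)
  adjoin_eq_top : Algebra.adjoin A (Set.range t) = ⊤
  exists_lift : ∀ (C : Type u) [CommRing C] (φ : A →+* C) (c : Fin r → C),
    (∀ i, c i ^ p = φ (f i)) → ∃ ψ : B →+* C, ψ.comp (algebraMap A B) = φ ∧ ∀ i, ψ (t i) = c i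

section Base

variable (p : ℕ) {A : Type u} [CommRing A] (f : Fin 0 → A) (B : Type u) [CommRing B] [Algebra A B]
  (t : Fin 0 → B)

theorem IsPRootAlg.bijective_zero (hB : IsPRootAlg p f B t) :
    Function.Bijective (algebraMap A B) := by
  constructor
  · obtain ⟨ψ, hψ, -⟩ := hB.exists_lift A (RingHom.id A) Fin.elim0 (fun i => Fin.elim0 i)
    intro x y hxy
    have := congrArg ψ hxy
    rwa [← RingHom.comp_apply, ← RingHom.comp_apply, hψ] at this
  · rw [Algebra.surjective_algebraMap_iff, ← hB.adjoin_eq_top, Set.range_eq_empty,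
      Algebra.adjoin_empty]

end Base

section Succ

variable (p : ℕ) {A : Type u} [CommRing A] {r : ℕ} (f : Fin (r + 1) → A) (B : Type u) [CommRing B]
  [Algebra A B] (t : Fin (r + 1) → B)

theorem IsPRootAlg.eval₂_zero (hB : IsPRootAlg p f B t) :
    (pol p (f 0)).eval₂ (algebraMap A B) (t 0) = 0 := by
  change Polynomial.eval₂ _ _ (Polynomial.X ^ p - Polynomial.C (f 0)) = 0
  rw [Polynomial.eval₂_sub, Polynomial.eval₂_pow, Polynomial.eval₂_X, Polynomial.eval₂_C,
    hB.pow_eq 0, sub_self]

/-- the map `A[T]/(T^p - f 0) → B`. -/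
noncomputable def IsPRootAlg.alpha (hB : IsPRootAlg p f B t) : AdjoinRoot (pol p (f 0)) →+* B :=
  AdjoinRoot.lift (algebraMap A B) (t 0) (hB.eval₂_zero p f B t)

theorem IsPRootAlg.succ (hB : IsPRootAlg p f B t) [Algebra (AdjoinRoot (pol p (f 0))) B]
    (halg : algebraMap (AdjoinRoot (pol p (f 0))) B = hB.alpha p f B t) :
    IsPRootAlg p (fun i : Fin r => AdjoinRoot.of (pol p (f 0)) (f i.succ)) B
      (fun i : Fin r => t i.succ) := by
  have hof : ∀ a, algebraMap (AdjoinRoot (pol p (f 0))) B (AdjoinRoot.of (pol p (f 0)) a) =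
      algebraMap A B a := by
    intro a
    rw [halg, IsPRootAlg.alpha, AdjoinRoot.lift_of]
  have hroot : algebraMap (AdjoinRoot (pol p (f 0))) B (AdjoinRoot.root (pol p (f 0))) = t 0 := by
    rw [halg, IsPRootAlg.alpha, AdjoinRoot.lift_root]
  refine ⟨?_, ?_, ?_⟩
  · intro i
    rw [hof]
    exact hB.pow_eq i.succ
  · rw [eq_top_iff]
    rintro x -
    have hx : x ∈ Algebra.adjoin A (Set.range t) := by rw [hB.adjoin_eq_top]; trivial
    induction hx using Algebra.adjoin_induction with
    | mem y hy =>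
      obtain ⟨i, rfl⟩ := hy
      refine Fin.cases ?_ (fun j => ?_) i
      · rw [← hroot]
        exact Subalgebra.algebraMap_mem _ _
      · exact Algebra.subset_adjoin ⟨j, rfl⟩
    | algebraMap a =>
      rw [← hof]
      exact Subalgebra.algebraMap_mem _ _
    | add y z _ _ hy hz => exact Subalgebra.add_mem _ hy hz
    | mul y z _ _ hy hz => exact Subalgebra.mul_mem _ hy hz
  · intro C _ φ c hc
    obtain ⟨ψ, hψ, hψt⟩ := hB.exists_lift C (φ.comp (AdjoinRoot.of (pol p (f 0))))
      (Fin.cons (φ (AdjoinRoot.root (pol p (f 0)))) c) (by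
        intro i
        refine Fin.cases ?_ (fun j => ?_) i
        · rw [Fin.cons_zero, ← map_pow, root_pow, RingHom.comp_apply]
        · rw [Fin.cons_succ, RingHom.comp_apply]
          exact hc j)
    refine ⟨ψ, ?_, ?_⟩
    · refine Ideal.Quotient.ringHom_ext (Polynomial.ringHom_ext ?_ ?_)
      · intro a
        change ψ (algebraMap (AdjoinRoot (pol p (f 0))) B (AdjoinRoot.mk (pol p (f 0)) (Polynomial.C a))) =
          φ (AdjoinRoot.mk (pol p (f 0)) (Polynomial.C a))
        rw [AdjoinRoot.mk_C, hof]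
        exact RingHom.congr_fun hψ a
      · change ψ (algebraMap (AdjoinRoot (pol p (f 0))) B (AdjoinRoot.mk (pol p (f 0)) Polynomial.X)) =
          φ (AdjoinRoot.mk (pol p (f 0)) Polynomial.X)
        rw [AdjoinRoot.mk_X, hroot, hψt 0, Fin.cons_zero]
    · intro i
      rw [hψt i.succ, Fin.cons_succ]

end Succ


section Main

variable (p : ℕ) [hp : Fact p.Prime]

/-- Adjoining `p`-th roots of `f_1, …, f_r` to a Noetherian local ring `A` of characteristic `p`
gives a Noetherian local ring `B` with `edim A ≤ edim B`, and equality holds iff the `1 ⊗ d f_i`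
are linearly independent in `K ⊗_A Ω_{A/ℤ}`. -/
theorem main : ∀ (r : ℕ) (A : Type u) [CommRing A] [IsLocalRing A] [IsNoetherianRing A]
    (_ : (p : A) = 0) (f : Fin r → A) (B : Type u) [CommRing B] [Algebra A B] (t : Fin r → B)
    (_ : IsPRootAlg p f B t),
    ∃ (_ : IsLocalRing B) (_ : IsNoetherianRing B),
      (maximalIdeal A).spanFinrank ≤ (maximalIdeal B).spanFinrank ∧
      ((maximalIdeal B).spanFinrank = (maximalIdeal A).spanFinrank ↔ LiAt A f) := by
  intro r
  induction r with
  | zero =>
    intro A _ _ _ hpA f B _ _ t hB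
    let e : A ≃+* B := RingEquiv.ofBijective (algebraMap A B) (hB.bijective_zero p f B t)
    have hl : IsLocalRing B := e.isLocalRing
    have hn : IsNoetherianRing B := isNoetherianRing_of_ringEquiv A e
    refine ⟨hl, hn, (spanFinrank_eq_of_ringEquiv e).ge, ?_⟩
    constructor
    · intro _
      unfold LiAt
      exact linearIndependent_empty_type
    · intro _
      exact spanFinrank_eq_of_ringEquiv e
  | succ r ih =>
    intro A _ _ _ hpA f B _ _ t hB
    have hl1 : IsLocalRing (AdjoinRoot (pol p (f 0))) := isLocalRing_adjoinRoot p hpA (f 0)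
    have hlh : IsLocalHom (algebraMap A (AdjoinRoot (pol p (f 0)))) :=
      isLocalHom_adjoinRoot p hpA (f 0)
    have hp1 := natCast_eq_zero p hpA (f 0)
    let alg : Algebra (AdjoinRoot (pol p (f 0))) B := (hB.alpha p f B t).toAlgebra
    have hB' := hB.succ p f B t rfl
    obtain ⟨hlB, hnB, hle, hiff⟩ := ih (AdjoinRoot (pol p (f 0))) hp1 _ B _ hB'
    obtain ⟨hle1, hiff1⟩ := step p hpA (f 0)
    have htr := transfer p hpA (f 0) (fun i => f i.succ)
    have hfe : (Fin.cons (f 0) (fun i => f i.succ) : Fin (r + 1) → A) = f := Fin.cons_self_tail f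
    rw [hfe] at htr
    refine ⟨hlB, hnB, hle1.trans hle, ?_⟩
    rw [htr, ← hiff1, ← hiff]
    constructor
    · intro h
      omega
    · rintro ⟨h1, h2⟩
      omega

end Main


section MvPoly

variable (p : ℕ) {A : Type u} [CommRing A] {r : ℕ} (f : Fin r → A)

/-- `A[T_1, …, T_r]/(T_i^p - f_i)` is the universal algebra with `p`-th roots of the `f_i`. -/
theorem isPRootAlg_mvPolynomial :
    IsPRootAlg p f (MvPolynomial (Fin r) A ⧸
        Ideal.span (Set.range fun i => MvPolynomial.X i ^ p - MvPolynomial.C (f i)))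
      (fun i => Ideal.Quotient.mk _ (MvPolynomial.X i)) := by
  refine ⟨?_, ?_, ?_⟩
  · intro i
    change _ = Ideal.Quotient.mk _ (MvPolynomial.C (f i))
    rw [← map_pow, Ideal.Quotient.eq]
    exact Ideal.subset_span ⟨i, rfl⟩
  · have h1 := MvPolynomial.adjoin_range_X (R := A) (σ := Fin r)
    have h2 := congrArg (Subalgebra.map (Ideal.Quotient.mkₐ A
      (Ideal.span (Set.range fun i => MvPolynomial.X i ^ p - MvPolynomial.C (f i))))) h1
    rw [AlgHom.map_adjoin, Algebra.map_top, ← Set.range_comp,
      (AlgHom.range_eq_top _).mpr (Ideal.Quotient.mkₐ_surjective A _)] at h2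
    exact h2
  · intro C _ φ c hc
    have hker : ∀ a ∈ Ideal.span (Set.range fun i => MvPolynomial.X i ^ p - MvPolynomial.C (f i)),
        MvPolynomial.eval₂Hom φ c a = 0 := by
      intro a ha
      have hle : Ideal.span (Set.range fun i => MvPolynomial.X i ^ p - MvPolynomial.C (f i)) ≤
          RingHom.ker (MvPolynomial.eval₂Hom φ c) := by
        rw [Ideal.span_le]
        intro x hx
        obtain ⟨i, rfl⟩ := hx
        change MvPolynomial.eval₂Hom φ c (MvPolynomial.X i ^ p - MvPolynomial.C (f i)) = 0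
        rw [map_sub, map_pow, MvPolynomial.eval₂Hom_X', MvPolynomial.eval₂Hom_C, hc, sub_self]
      exact hle ha
    refine ⟨Ideal.Quotient.lift _ (MvPolynomial.eval₂Hom φ c) hker, ?_, ?_⟩
    · ext a
      exact (Ideal.Quotient.lift_mk _ (MvPolynomial.eval₂Hom φ c) hker).trans
        (MvPolynomial.eval₂Hom_C φ c a)
    · intro i
      exact (Ideal.Quotient.lift_mk _ (MvPolynomial.eval₂Hom φ c) hker).trans
        (MvPolynomial.eval₂Hom_X' φ c i)

end MvPoly

end Groth.Agent.Lib.PRootCot
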