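import Mathlib
import Groth.Agent.Lib.PRootCot5

/-!
# helper89: differentials of `A` and of `A/𝔪²` (part 6)

* `exists_derivation_quotient`: a derivation `A → N` killing an ideal `I` descends to `A/I`;
* `liAt_quotient_sq`: the `1 ⊗ d f_i` are linearly independent in `K ⊗_A Ω_{A/ℤ}` iff their images are
  linearly independent for `A/𝔪²`.
-/

set_option autoImplicit false
universe u

namespace Groth.Agent.Lib.PRootCot

open IsLocalRing TensorProduct KaehlerDifferential TrivSqZeroExt

section Quot

variable {A : Type*} [CommRing A] (I : Ideal A) {N : Type*} [AddCommGroup N] [Module A N]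
  [Module (A ⧸ I) N] [IsScalarTower A (A ⧸ I) N]

theorem exists_derivation_quotient_aux [Module (A ⧸ I)ᵐᵒᵖ N] [IsCentralScalar (A ⧸ I) N]
    (D₀ : Derivation ℤ A N) (hD : ∀ a ∈ I, D₀ a = 0) :
    ∃ D' : (A ⧸ I) →+ N, (∀ s t, D' (s * t) = s • D' t + t • D' s) ∧
      ∀ a, D' (Ideal.Quotient.mk I a) = D₀ a := by
  let g : A →+* TrivSqZeroExt (A ⧸ I) N :=
    { toFun := fun c => inl (Ideal.Quotient.mk I c) + inr (D₀ c)
      map_one' := by simp
      map_mul' := by
        intro c c'
        ext
        · simp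
        · simp only [snd_add, snd_inl, snd_inr, zero_add, snd_mul, fst_add, fst_inl, fst_inr,
            add_zero, Derivation.leibniz, op_smul_eq_smul, ← Ideal.Quotient.algebraMap_eq,
            algebraMap_smul]
      map_zero' := by simp
      map_add' := by
        intro c c'
        ext
        · simp
        · simp }
  have hg : ∀ a ∈ I, g a = 0 := by
    intro a ha
    change inl (Ideal.Quotient.mk I a) + inr (D₀ a) = 0
    rw [hD a ha, Ideal.Quotient.eq_zero_iff_mem.mpr ha, inl_zero, inr_zero, add_zero]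
  let v := Ideal.Quotient.lift I g hg
  have hfst' : ∀ s, (v s).fst = s := by
    intro s
    obtain ⟨a, rfl⟩ := Ideal.Quotient.mk_surjective s
    change (g a).fst = _
    simp [g]
  let D'₀ : (A ⧸ I) →+ N :=
    { toFun := fun s => (v s).snd
      map_zero' := by simp
      map_add' := by intro s t; simp }
  refine ⟨D'₀, ?_, ?_⟩
  · intro s t
    change (v (s * t)).snd = s • (v t).snd + t • (v s).snd
    rw [map_mul, snd_mul, hfst', hfst', op_smul_eq_smul]
  · intro a
    change (g a).snd = D₀ a
    simp [g]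

/-- a derivation killing `I` descends to `A/I`. -/
theorem exists_derivation_quotient (D₀ : Derivation ℤ A N) (hD : ∀ a ∈ I, D₀ a = 0) :
    ∃ D' : (A ⧸ I) →+ N, (∀ s t, D' (s * t) = s • D' t + t • D' s) ∧
      ∀ a, D' (Ideal.Quotient.mk I a) = D₀ a := by
  let _ : Module (A ⧸ I)ᵐᵒᵖ N :=
    Module.compHom N ((RingHom.id (A ⧸ I)).fromOpposite fun a b => mul_comm a b)
  have : IsCentralScalar (A ⧸ I) N := ⟨fun b l => rfl⟩
  exact exists_derivation_quotient_aux I D₀ hD

end Quot

section Bridge

variable {A : Type u} [CommRing A] [IsLocalRing A]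

/-- any derivation `A → K` kills `𝔪²`. -/
theorem derivation_eq_zero_of_mem_sq (D₀ : Derivation ℤ A (ResidueField A)) {a : A}
    (ha : a ∈ maximalIdeal A ^ 2) : D₀ a = 0 := by
  rw [pow_two] at ha
  refine Submodule.mul_induction_on ha ?_ ?_
  · intro x hx y hy
    rw [Derivation.leibniz, Algebra.smul_def, Algebra.smul_def]
    have hx0 : algebraMap A (ResidueField A) x = 0 := (residue_eq_zero_iff x).mpr hx
    have hy0 : algebraMap A (ResidueField A) y = 0 := (residue_eq_zero_iff y).mpr hy
    rw [hx0, hy0, zero_mul, zero_mul, add_zero]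
  · intro x y hx hy
    rw [map_add, hx, hy, add_zero]

variable [IsLocalRing (A ⧸ maximalIdeal A ^ 2)]

theorem liAt_quotient_sq {r : ℕ} (f : Fin r → A) :
    LiAt (A ⧸ maximalIdeal A ^ 2) (fun i => Ideal.Quotient.mk (maximalIdeal A ^ 2) (f i)) ↔
      LiAt A f := by
  have hloc : IsLocalHom (algebraMap A (A ⧸ maximalIdeal A ^ 2)) :=
    IsLocalHom.of_surjective _ Ideal.Quotient.mk_surjective
  unfold LiAt
  constructor
  · intro h
    obtain ⟨Dv, hDv⟩ := exists_derivations_of_linearIndependent
      (A := A ⧸ maximalIdeal A ^ 2) _ h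
    let D1 : Fin r → Derivation ℤ A (ResidueField (A ⧸ maximalIdeal A ^ 2)) :=
      fun j => (Dv j).compAlgebraMap A
    exact linearIndependent_of_derivations f (L := ResidueField (A ⧸ maximalIdeal A ^ 2)) D1
      (fun i j => hDv i j)
  · intro h
    obtain ⟨Dv, hDv⟩ := exists_derivations_of_linearIndependent f h
    let ι : ResidueField A →ₗ[A] ResidueField (A ⧸ maximalIdeal A ^ 2) :=
      (IsScalarTower.toAlgHom A (ResidueField A)
        (ResidueField (A ⧸ maximalIdeal A ^ 2))).toLinearMap
    let D1 : Fin r → Derivation ℤ A (ResidueField (A ⧸ maximalIdeal A ^ 2)) :=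
      fun j => ι.compDer (Dv j)
    have h1 : ∀ j, ∀ a ∈ maximalIdeal A ^ 2, D1 j a = 0 := by
      intro j a ha
      change ι (Dv j a) = 0
      rw [derivation_eq_zero_of_mem_sq (Dv j) ha, map_zero]
    choose D2 hD2l hD2 using fun j => exists_derivation_quotient (maximalIdeal A ^ 2) (D1 j) (h1 j)
    refine linearIndependent_of_derivations (A := A ⧸ maximalIdeal A ^ 2)
      (fun i => Ideal.Quotient.mk (maximalIdeal A ^ 2) (f i))
      (L := ResidueField (A ⧸ maximalIdeal A ^ 2))
      (fun j => Derivation.mk' (D2 j).toIntLinearMap (hD2l j)) ?_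
    intro i j
    change D2 j (Ideal.Quotient.mk (maximalIdeal A ^ 2) (f i)) = _
    rw [hD2]
    change ι (Dv j (f i)) = _
    rw [hDv]
    by_cases hij : i = j
    · rw [if_pos hij, if_pos hij]
      exact map_one (IsScalarTower.toAlgHom A (ResidueField A)
        (ResidueField (A ⧸ maximalIdeal A ^ 2)))
    · rw [if_neg hij, if_neg hij, map_zero]

end Bridge

end Groth.Agent.Lib.PRootCot
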