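import Mathlib
import Groth.Agent.Lib.PRootCot6
import Groth.Agent.Lib.H94Eisen
import Groth.Agent.Lib.H87Serre2

/-!
# helper89: regularity of `A[T_i]/(T_i^p + p(…) - f_i)` over a regular local ring (part 7)
-/

set_option autoImplicit false
universe u

namespace Groth.Agent.Lib.PRootCot

open IsLocalRing TensorProduct KaehlerDifferential

/-- a ring surjecting onto a local ring with kernel contained in all maximal ideals is local. -/
theorem isLocalRing_of_surjective_of_ker_le {R S : Type*} [CommRing R] [Nontrivial R] [CommRing S]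
    [IsLocalRing S] (ρ : R →+* S) (hρ : Function.Surjective ρ)
    (hker : ∀ M : Ideal R, M.IsMaximal → RingHom.ker ρ ≤ M) : IsLocalRing R := by
  have key : ∀ M : Ideal R, M.IsMaximal → M = (maximalIdeal S).comap ρ := by
    intro M hM
    have hcm : (M.map ρ).comap ρ = M := by
      rw [Ideal.comap_map_of_surjective ρ hρ, ← RingHom.ker_eq_comap_bot]
      exact sup_eq_left.mpr (hker M hM)
    rcases Ideal.map_eq_top_or_isMaximal_of_surjective ρ hρ hM with h | h
    · rw [h, Ideal.comap_top] at hcm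
      exact absurd hcm.symm hM.ne_top
    · rw [← IsLocalRing.eq_maximalIdeal h, hcm]
  obtain ⟨M0, hM0⟩ := Ideal.exists_maximal R
  refine IsLocalRing.of_unique_max_ideal ⟨M0, hM0, fun M hM => ?_⟩
  rw [key M hM, key M0 hM0]

section Poly

open Polynomial

variable (p : ℕ) {A : Type u} [CommRing A] {r : ℕ} (c : Fin r → Fin p → A) (f : Fin r → A)

/-- the multivariate polynomials `T_i^p + p Σ_j c_{ij} T_i^{p-j} - f_i`. -/
noncomputable def Fmv (i : Fin r) : MvPolynomial (Fin r) A :=
  MvPolynomial.X i ^ p + (p : MvPolynomial (Fin r) A) * (Finset.univ.sum fun j : Fin p =>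
    if (j : ℕ) = 0 then 0 else MvPolynomial.C (c i j) * MvPolynomial.X i ^ (p - (j : ℕ))) -
      MvPolynomial.C (f i)

/-- the lower order part of the univariate polynomial. -/
noncomputable def Glow (i : Fin r) : A[X] :=
  (p : A[X]) * (Finset.univ.sum fun j : Fin p =>
    if (j : ℕ) = 0 then 0 else C (c i j) * X ^ (p - (j : ℕ))) - C (f i)

/-- the univariate polynomials `T^p + p Σ_j c_{ij} T^{p-j} - f_i`. -/
noncomputable def Guv (i : Fin r) : A[X] := X ^ p + Glow p c f i

theorem aeval_Guv (i : Fin r) :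
    Polynomial.aeval (MvPolynomial.X i : MvPolynomial (Fin r) A) (Guv p c f i) = Fmv p c f i := by
  simp only [Guv, Glow, Fmv, map_add, map_sub, map_mul, map_pow, map_sum, map_natCast,
    Polynomial.aeval_X, Polynomial.aeval_C, MvPolynomial.algebraMap_eq, apply_ite, map_zero]
  ring

theorem degree_Glow_lt [Nontrivial A] (hp : 0 < p) (i : Fin r) : (Glow p c f i).degree < p := by
  rw [Polynomial.degree_lt_iff_coeff_zero]
  intro m hm
  have hm0 : m ≠ 0 := by omega
  rw [Glow, Polynomial.coeff_sub, Polynomial.coeff_C, if_neg hm0, sub_zero,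
    ← map_natCast (C : A →+* A[X]), Polynomial.coeff_C_mul, Polynomial.finsetSum_coeff]
  rw [Finset.sum_eq_zero, mul_zero]
  intro j _
  split_ifs with hj
  · simp
  · rw [Polynomial.coeff_C_mul, Polynomial.coeff_X_pow, if_neg (by omega), mul_zero]

theorem Guv_monic [Nontrivial A] (hp : 0 < p) (i : Fin r) : (Guv p c f i).Monic :=
  Polynomial.monic_X_pow_add (degree_Glow_lt p c f hp i)

theorem Guv_natDegree [Nontrivial A] (hp : 0 < p) (i : Fin r) : (Guv p c f i).natDegree = p := by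
  rw [Guv, Polynomial.natDegree_add_eq_left_of_degree_lt, Polynomial.natDegree_X_pow]
  rw [Polynomial.degree_X_pow]
  exact degree_Glow_lt p c f hp i

theorem span_Fmv_eq :
    Ideal.span (Set.range (Fmv p c f)) = Groth.Agent.S4610.Iof (Guv p c f) := by
  unfold Groth.Agent.S4610.Iof
  congr 2
  funext i
  exact (aeval_Guv p c f i).symm

end Poly


section Rho

variable (p : ℕ) {A : Type u} [CommRing A] [IsLocalRing A] {r : ℕ} (c : Fin r → Fin p → A)
  (f : Fin r → A)

/-- the quotient `A[T]/(F_i)`. -/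
abbrev Bq : Type u := MvPolynomial (Fin r) A ⧸ Ideal.span (Set.range (Fmv p c f))

/-- the quotient `(A/𝔪²)[T]/(T_i^p - f_i)`. -/
abbrev Bq' : Type u := MvPolynomial (Fin r) (A ⧸ maximalIdeal A ^ 2) ⧸
  Ideal.span (Set.range fun i : Fin r => MvPolynomial.X i ^ p -
    MvPolynomial.C (Ideal.Quotient.mk (maximalIdeal A ^ 2) (f i)))

theorem map_Fmv (hp2 : (p : A) ∈ maximalIdeal A ^ 2) (i : Fin r) :
    MvPolynomial.map (Ideal.Quotient.mk (maximalIdeal A ^ 2)) (Fmv p c f i) =
      MvPolynomial.X i ^ p - MvPolynomial.C (Ideal.Quotient.mk (maximalIdeal A ^ 2) (f i)) := by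
  have h0 : ((p : ℕ) : MvPolynomial (Fin r) (A ⧸ maximalIdeal A ^ 2)) = 0 := by
    rw [← map_natCast (MvPolynomial.C (σ := Fin r) (R := A ⧸ maximalIdeal A ^ 2)),
      ← map_natCast (Ideal.Quotient.mk (maximalIdeal A ^ 2)),
      Ideal.Quotient.eq_zero_iff_mem.mpr hp2, map_zero]
  rw [Fmv, map_sub, map_add, map_mul, map_natCast, map_pow, MvPolynomial.map_X, MvPolynomial.map_C,
    h0, zero_mul, add_zero]

theorem rho_aux (hp2 : (p : A) ∈ maximalIdeal A ^ 2) :
    ∀ a ∈ Ideal.span (Set.range (Fmv p c f)),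
      ((Ideal.Quotient.mk (Ideal.span (Set.range fun i : Fin r => MvPolynomial.X i ^ p -
        MvPolynomial.C (Ideal.Quotient.mk (maximalIdeal A ^ 2) (f i))))).comp
        (MvPolynomial.map (Ideal.Quotient.mk (maximalIdeal A ^ 2)))) a = 0 := by
  intro a ha
  have hle : Ideal.span (Set.range (Fmv p c f)) ≤ RingHom.ker
      ((Ideal.Quotient.mk (Ideal.span (Set.range fun i : Fin r => MvPolynomial.X i ^ p -
        MvPolynomial.C (Ideal.Quotient.mk (maximalIdeal A ^ 2) (f i))))).comp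
        (MvPolynomial.map (Ideal.Quotient.mk (maximalIdeal A ^ 2)))) := by
    rw [Ideal.span_le]
    intro x hx
    obtain ⟨i, rfl⟩ := hx
    rw [SetLike.mem_coe, RingHom.mem_ker, RingHom.comp_apply, map_Fmv p c f hp2,
      Ideal.Quotient.eq_zero_iff_mem]
    exact Ideal.subset_span ⟨i, rfl⟩
  exact hle ha

/-- the reduction map `A[T]/(F_i) → (A/𝔪²)[T]/(T_i^p - f_i)`. -/
noncomputable def rho (hp2 : (p : A) ∈ maximalIdeal A ^ 2) : Bq p c f →+* Bq' p f :=
  Ideal.Quotient.lift _ _ (rho_aux p c f hp2)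

theorem rho_mk (hp2 : (p : A) ∈ maximalIdeal A ^ 2) (q : MvPolynomial (Fin r) A) :
    rho p c f hp2 (Ideal.Quotient.mk _ q) =
      Ideal.Quotient.mk _ (MvPolynomial.map (Ideal.Quotient.mk (maximalIdeal A ^ 2)) q) := rfl

theorem rho_surjective (hp2 : (p : A) ∈ maximalIdeal A ^ 2) :
    Function.Surjective (rho p c f hp2) := by
  intro y
  obtain ⟨q', rfl⟩ := Ideal.Quotient.mk_surjective y
  obtain ⟨q, rfl⟩ := MvPolynomial.map_surjective _ Ideal.Quotient.mk_surjective q'
  exact ⟨Ideal.Quotient.mk _ q, rfl⟩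

theorem ker_rho_le (hp2 : (p : A) ∈ maximalIdeal A ^ 2) :
    RingHom.ker (rho p c f hp2) ≤ (maximalIdeal A ^ 2).map (algebraMap A (Bq p c f)) := by
  intro x hx
  obtain ⟨q, rfl⟩ := Ideal.Quotient.mk_surjective x
  rw [RingHom.mem_ker, rho_mk, Ideal.Quotient.eq_zero_iff_mem] at hx
  set φ := MvPolynomial.map (σ := Fin r) (Ideal.Quotient.mk (maximalIdeal A ^ 2)) with hφ
  have hφs : Function.Surjective φ := MvPolynomial.map_surjective _ Ideal.Quotient.mk_surjective
  have himg : Ideal.span (Set.range fun i : Fin r => MvPolynomial.X i ^ p -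
      MvPolynomial.C (Ideal.Quotient.mk (maximalIdeal A ^ 2) (f i))) =
      (Ideal.span (Set.range (Fmv p c f))).map φ := by
    rw [Ideal.map_span, ← Set.range_comp]
    congr 2
    funext i
    exact (map_Fmv p c f hp2 i).symm
  rw [himg, ← Ideal.mem_comap, Ideal.comap_map_of_surjective φ hφs, ← RingHom.ker_eq_comap_bot,
    hφ, MvPolynomial.ker_map, Ideal.mk_ker] at hx
  obtain ⟨a, ha, k, hk, hak⟩ := Submodule.mem_sup.mp hx
  have h1 : Ideal.Quotient.mk (Ideal.span (Set.range (Fmv p c f))) q =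
      Ideal.Quotient.mk (Ideal.span (Set.range (Fmv p c f))) k := by
    rw [← hak, map_add, Ideal.Quotient.eq_zero_iff_mem.mpr ha, zero_add]
  rw [h1]
  have h2 : (maximalIdeal A ^ 2).map (algebraMap A (Bq p c f)) =
      ((maximalIdeal A ^ 2).map (MvPolynomial.C (σ := Fin r))).map
        (Ideal.Quotient.mk (Ideal.span (Set.range (Fmv p c f)))) := by
    rw [Ideal.map_map]
    rfl
  rw [h2]
  exact Ideal.mem_map_of_mem _ hk

end Rho


section Main7

variable (p : ℕ) [hp : Fact p.Prime] {A : Type u} [CommRing A] [IsRegularLocalRing A] {r : ℕ}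
  (c : Fin r → Fin p → A) (f : Fin r → A)

omit hp in
/-- facts about `A[T]/(F_i)` from helper94's library, transported along an equality of ideals. -/
theorem eisen_facts (G : Fin r → Polynomial A) (hmon : ∀ i, (G i).Monic)
    (hdeg : ∀ i, 1 ≤ (G i).natDegree) (J : Ideal (MvPolynomial (Fin r) A))
    (hJ : J = Groth.Agent.S4610.Iof G) :
    Nontrivial (MvPolynomial (Fin r) A ⧸ J) ∧
      ringKrullDim (MvPolynomial (Fin r) A ⧸ J) = ringKrullDim A ∧
      ∀ M : Ideal (MvPolynomial (Fin r) A ⧸ J), M.IsMaximal →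
        M.comap (algebraMap A (MvPolynomial (Fin r) A ⧸ J)) = maximalIdeal A := by
  subst hJ
  refine ⟨Groth.Agent.Lib.H94Eisen.nontrivial G hmon hdeg,
    Groth.Agent.Lib.H94Eisen.ringKrullDim_eq G hmon hdeg, fun M hM => ?_⟩
  exact Groth.Agent.Lib.H94Eisen.comap_eq_maximalIdeal G hmon hdeg M

/-- Let `A` be a regular local ring with `p ∈ 𝔪²`. Then `B = A[T_i]/(T_i^p + p Σ_j c_{ij} T_i^{p-j} - f_i)`
is local, and it is regular iff the `1 ⊗ d f_i` are linearly independent in `K ⊗_A Ω_{A/ℤ}`. -/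
theorem regular_pRoot (hp2 : (p : A) ∈ maximalIdeal A ^ 2) :
    IsLocalRing (Bq p c f) ∧ (IsRegularRing (Bq p c f) ↔ LiAt A f) := by
  have hne : maximalIdeal A ^ 2 ≠ ⊤ := fun h1 => (maximalIdeal.isMaximal A).ne_top (by
    have h2 := Ideal.pow_le_self (I := maximalIdeal A) two_ne_zero
    rw [h1] at h2
    exact top_le_iff.mp h2)
  have hlQ : IsLocalRing (A ⧸ maximalIdeal A ^ 2) := isLocalRing_quotient _ hne
  have hpQ : (p : A ⧸ maximalIdeal A ^ 2) = 0 := by
    rw [← map_natCast (Ideal.Quotient.mk (maximalIdeal A ^ 2))]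
    exact Ideal.Quotient.eq_zero_iff_mem.mpr hp2
  obtain ⟨hlB', hnB', hle', hiff'⟩ := main p r (A ⧸ maximalIdeal A ^ 2) hpQ
    (fun i => Ideal.Quotient.mk (maximalIdeal A ^ 2) (f i)) (Bq' p f) _
    (isPRootAlg_mvPolynomial p _)
  have hmon := fun i => Guv_monic p c f hp.out.pos i
  have hdeg : ∀ i, 1 ≤ (Guv p c f i).natDegree := fun i => by
    rw [Guv_natDegree p c f hp.out.pos i]
    exact hp.out.one_le
  obtain ⟨hnt, hdim, hcomap⟩ := eisen_facts (Guv p c f) hmon hdeg _ (span_Fmv_eq p c f)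
  have hmapM : ∀ M : Ideal (Bq p c f), M.IsMaximal →
      (maximalIdeal A).map (algebraMap A (Bq p c f)) ≤ M := by
    intro M hM
    rw [Ideal.map_le_iff_le_comap, hcomap M hM]
  have hlB : IsLocalRing (Bq p c f) := by
    refine @isLocalRing_of_surjective_of_ker_le (Bq p c f) (Bq' p f) _ hnt _ hlB'
      (rho p c f hp2) (rho_surjective p c f hp2) ?_
    intro M hM
    refine (ker_rho_le p c f hp2).trans (le_trans ?_ (hmapM M hM))
    exact Ideal.map_mono (Ideal.pow_le_self two_ne_zero)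
  refine ⟨hlB, ?_⟩
  have hkerB : RingHom.ker (rho p c f hp2) ≤ maximalIdeal (Bq p c f) ^ 2 := by
    refine (ker_rho_le p c f hp2).trans ?_
    rw [Ideal.map_pow]
    exact Ideal.pow_right_mono (hmapM _ (maximalIdeal.isMaximal _)) 2
  have he1 : (maximalIdeal (Bq' p f)).spanFinrank = (maximalIdeal (Bq p c f)).spanFinrank :=
    Groth.Agent.Lib.H59EssFinPres.spanFinrank_maximalIdeal_eq_of_surjective
      (rho p c f hp2) (rho_surjective p c f hp2) hkerB
  have he2 : (maximalIdeal (A ⧸ maximalIdeal A ^ 2)).spanFinrank = (maximalIdeal A).spanFinrank :=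
    Groth.Agent.Lib.H59EssFinPres.spanFinrank_maximalIdeal_eq_of_surjective
      (Ideal.Quotient.mk (maximalIdeal A ^ 2)) Ideal.Quotient.mk_surjective (by rw [Ideal.mk_ker])
  have hreg : (((maximalIdeal A).spanFinrank : ℕ) : WithBot ℕ∞) = ringKrullDim A :=
    IsRegularLocalRing.spanFinrank_maximalIdeal
  have h1 : IsRegularRing (Bq p c f) ↔ IsRegularLocalRing (Bq p c f) :=
    ⟨fun h => IsRegularLocalRing.of_isRegularRing_of_isLocalRing _,
      fun h => Groth.Agent.Lib.H87Serre2.isRegularRing_of_isRegularLocalRing⟩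
  rw [h1, isRegularLocalRing_iff, hdim, ← hreg, ← liAt_quotient_sq f, ← hiff', he1, he2]
  exact_mod_cast Iff.rfl

end Main7

end Groth.Agent.Lib.PRootCot
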