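import Mathlib
import Groth.Prelude.Def_Found
import Groth.Agent.S6299
import Groth.Agent.Lib.CompleteNagata98

/-!
# Power series over Japanese rings

* `isN2_powerSeries_of_normal`: `B` Noetherian normal N-2 domain ⇒ `B⟦X⟧` is N-2 (Tate).
* `isN2_mvPowerSeries_of_normal`: the same for `MvPowerSeries (Fin n) B`.
-/

set_option autoImplicit false
set_option linter.style.haveILetI false
universe u

namespace Groth.Agent.Lib.PSJapanese75

open PowerSeries Groth.Agent.Lib

/-- Power series over a Noetherian normal N-2 domain are N-2 (Tate). -/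
theorem isN2_powerSeries_of_normal (B : Type u) [CommRing B] [IsDomain B] [IsNoetherianRing B]
    [IsIntegrallyClosed B] (h : CAlg.IsN2 B) : CAlg.IsN2 B⟦X⟧ := by
  obtain ⟨h1, h2⟩ := Groth.Agent.S6299.result B
  haveI := h1
  haveI := h2
  haveI : (Ideal.span ({(X : B⟦X⟧)} : Set B⟦X⟧)).IsPrime := PowerSeries.span_X_isPrime
  haveI := CompleteNagata98.isAdicComplete_span_X B
  have h3 : CAlg.IsN2 (B⟦X⟧ ⧸ Ideal.span ({(X : B⟦X⟧)} : Set B⟦X⟧)) :=
    H87FieldN2.isN2_of_ringEquiv (PSRegular33.quotXEquiv B).symm h
  exact Groth.Agent.S0569.result B⟦X⟧ X h3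

/-- Multivariate power series over a Noetherian normal N-2 domain are Noetherian, normal and N-2. -/
theorem mvPowerSeries_of_normal (A : Type u) [CommRing A] [IsDomain A] [IsNoetherianRing A]
    [IsIntegrallyClosed A] (h : CAlg.IsN2 A) (n : ℕ) :
    ∃ (_ : IsDomain (MvPowerSeries (Fin n) A)), IsNoetherianRing (MvPowerSeries (Fin n) A) ∧
      IsIntegrallyClosed (MvPowerSeries (Fin n) A) ∧ CAlg.IsN2 (MvPowerSeries (Fin n) A) := by
  induction n with
  | zero =>
    let e : A ≃+* MvPowerSeries (Fin 0) A := (MvPowerSeries.isEmptyEquiv (Fin 0) A).toRingEquiv.symm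
    haveI : IsDomain (MvPowerSeries (Fin 0) A) := e.symm.injective.isDomain e.symm.toRingHom
    refine ⟨inferInstance, isNoetherianRing_of_ringEquiv A e, IsIntegrallyClosed.of_equiv e,
      H87FieldN2.isN2_of_ringEquiv e h⟩
  | succ n ih =>
    obtain ⟨hd, hN, hI, h2⟩ := ih
    haveI := hd
    haveI := hN
    haveI := hI
    obtain ⟨h1', h2'⟩ := Groth.Agent.S6299.result (MvPowerSeries (Fin n) A)
    haveI := h1'
    haveI := h2'
    have h3 := isN2_powerSeries_of_normal (MvPowerSeries (Fin n) A) h2
    let e : PowerSeries (MvPowerSeries (Fin n) A) ≃+* MvPowerSeries (Fin (n + 1)) A :=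
      (MvPowerSeries.finSuccEquiv A n).toRingEquiv.symm
    haveI : IsDomain (MvPowerSeries (Fin (n + 1)) A) := e.symm.injective.isDomain e.symm.toRingHom
    exact ⟨inferInstance, isNoetherianRing_of_ringEquiv _ e, IsIntegrallyClosed.of_equiv e,
      H87FieldN2.isN2_of_ringEquiv e h3⟩

/-- N-2 descends along a finite extension of domains with a common denominator (so that the
fraction fields agree). -/
theorem isN2_of_finite_of_denominator {A A' : Type u} [CommRing A] [IsDomain A] [CommRing A']
    [IsDomain A'] [Algebra A A'] (hinj : Function.Injective (algebraMap A A'))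
    [Module.Finite A A'] (d : A) (hd : d ≠ 0)
    (hden : ∀ f' : A', ∃ a : A, algebraMap A A' a = algebraMap A A' d * f')
    (h : CAlg.IsN2 A') : CAlg.IsN2 A := by
  intro L _ _ _ _ hfin
  -- the comparison of fraction fields
  have hinj' : Function.Injective ((algebraMap A' (FractionRing A')).comp (algebraMap A A')) :=
    (IsFractionRing.injective A' (FractionRing A')).comp hinj
  let j : FractionRing A →+* FractionRing A' := IsFractionRing.lift hinj'
  have hj : ∀ a : A, j (algebraMap A (FractionRing A) a)
      = algebraMap A' (FractionRing A') (algebraMap A A' a) := fun a => IsFractionRing.lift_algebraMap hinj' a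
  have hd' : algebraMap A' (FractionRing A') (algebraMap A A' d) ≠ 0 := by
    intro h0
    have h1 : ((algebraMap A' (FractionRing A')).comp (algebraMap A A')) d
        = ((algebraMap A' (FractionRing A')).comp (algebraMap A A')) 0 := by
      rw [RingHom.comp_apply, h0, map_zero]
    exact hd (hinj' h1)
  have hjA' : ∀ f' : A', ∃ y : FractionRing A, j y = algebraMap A' (FractionRing A') f' := by
    intro f'
    obtain ⟨a, ha⟩ := hden f'
    refine ⟨algebraMap A (FractionRing A) a / algebraMap A (FractionRing A) d, ?_⟩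
    rw [map_div₀, hj, hj, ha, map_mul, mul_div_cancel_left₀ _ hd']
  have hjsurj : Function.Surjective j := by
    intro z
    obtain ⟨a', b', hb', rfl⟩ := IsFractionRing.div_surjective (A := A') z
    obtain ⟨ya, hya⟩ := hjA' a'
    obtain ⟨yb, hyb⟩ := hjA' b'
    exact ⟨ya / yb, by rw [map_div₀, hya, hyb]⟩
  let je : FractionRing A ≃+* FractionRing A' := RingEquiv.ofBijective j ⟨j.injective, hjsurj⟩
  have hje : ∀ y, je y = j y := fun _ => rfl
  -- `L` as an algebra over `A'` and its fraction field
  letI : Algebra (FractionRing A') L :=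
    ((algebraMap (FractionRing A) L).comp (je.symm : FractionRing A' →+* FractionRing A)).toAlgebra
  letI : Algebra A' L :=
    ((algebraMap (FractionRing A') L).comp (algebraMap A' (FractionRing A'))).toAlgebra
  haveI : IsScalarTower A' (FractionRing A') L := IsScalarTower.of_algebraMap_eq (fun _ => rfl)
  haveI : IsScalarTower A A' L := IsScalarTower.of_algebraMap_eq (fun a => by
    show algebraMap A L a = algebraMap (FractionRing A) L
      (je.symm (algebraMap A' (FractionRing A') (algebraMap A A' a)))
    rw [← hj, ← hje, RingEquiv.symm_apply_apply, ← IsScalarTower.algebraMap_apply])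
  haveI : FiniteDimensional (FractionRing A') L := by
    refine H87Japanese.finite_of_range_le (K := FractionRing A) (K' := FractionRing A') ?_ hfin
    intro c
    refine ⟨je c, ?_⟩
    show algebraMap (FractionRing A) L (je.symm (je c)) = _
    rw [RingEquiv.symm_apply_apply]
  have hfin' : Module.Finite A' (integralClosure A' L) := h L inferInstance
  haveI : Algebra.IsIntegral A A' := Algebra.IsIntegral.of_finite A A'
  have hfinA : Module.Finite A (integralClosure A' L) := Module.Finite.trans A' _
  let e : (integralClosure A' L) →ₗ[A] (integralClosure A L) :=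
    { toFun := fun x => ⟨x.1, isIntegral_trans x.1 x.2⟩
      map_add' := fun _ _ => rfl
      map_smul' := fun _ _ => rfl }
  refine Module.Finite.of_surjective e ?_
  rintro ⟨x, hx⟩
  exact ⟨⟨x, IsIntegral.tower_top hx⟩, rfl⟩

section PS

variable {R R' : Type*} [CommRing R] [CommRing R'] [Algebra R R']

/-- power series over a finite algebra are finite over the power series -/
theorem finite_powerSeries [Module.Finite R R'] : Module.Finite R⟦X⟧ R'⟦X⟧ := by
  classical
  obtain ⟨s, hs⟩ := (inferInstance : Module.Finite R R').fg_top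
  refine ⟨⟨s.image (C (R := R')), ?_⟩⟩
  rw [eq_top_iff]
  intro f _
  have hc : ∀ n : ℕ, ∃ c : R' → R, coeff n f = ∑ g ∈ s, c g • g := by
    intro n
    have : coeff n f ∈ Submodule.span R (s : Set R') := by rw [hs]; trivial
    obtain ⟨c, hc⟩ := (Submodule.mem_span_finset').mp this
    refine ⟨fun g => if hg : g ∈ s then c ⟨g, hg⟩ else 0, ?_⟩
    rw [← hc, ← Finset.sum_attach s]
    refine Finset.sum_congr rfl (fun g _ => ?_)
    show c g • (g : R') = (if hg : (g : R') ∈ s then c ⟨g, hg⟩ else 0) • (g : R')
    rw [dif_pos g.2]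
  choose c hc using hc
  have hf : f = ∑ g ∈ s, (PowerSeries.mk (fun n => c n g) : R⟦X⟧) • (C g : R'⟦X⟧) := by
    ext n
    rw [hc n, map_sum]
    refine Finset.sum_congr rfl (fun g _ => ?_)
    rw [Algebra.smul_def (PowerSeries.mk fun n => c n g) (C g : R'⟦X⟧),
      PowerSeries.algebraMap_apply'', coeff_mul_C, coeff_map, coeff_mk, Algebra.smul_def]
  rw [hf]
  refine Submodule.sum_mem _ (fun g hg => Submodule.smul_mem _ _ (Submodule.subset_span ?_))
  rw [Finset.coe_image]
  exact ⟨g, hg, rfl⟩

/-- a common denominator for power series -/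
theorem exists_denominator_powerSeries (d : R)
    (hden : ∀ r' : R', ∃ r : R, algebraMap R R' r = algebraMap R R' d * r') (f' : R'⟦X⟧) :
    ∃ a : R⟦X⟧, algebraMap R⟦X⟧ R'⟦X⟧ a = algebraMap R⟦X⟧ R'⟦X⟧ (C d) * f' := by
  choose r hr using hden
  refine ⟨PowerSeries.mk (fun n => r (coeff n f')), ?_⟩
  ext n
  rw [PowerSeries.algebraMap_apply'', PowerSeries.algebraMap_apply'', coeff_map, coeff_mk, map_C,
    coeff_C_mul, hr]

end PS

/-- a finite subalgebra of the fraction field has a common denominator -/
theorem exists_denominator_of_finite (R : Type*) [CommRing R] [IsDomain R] (K : Type*) [Field K]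
    [Algebra R K] [IsFractionRing R K] (R' : Subalgebra R K) [Module.Finite R R'] :
    ∃ d : R, d ≠ 0 ∧ ∀ r' : R', ∃ r : R, algebraMap R R' r = algebraMap R R' d * r' := by
  classical
  obtain ⟨s, hs⟩ := (inferInstance : Module.Finite R R').fg_top
  obtain ⟨b, hb⟩ := IsLocalization.exist_integer_multiples_of_finset (nonZeroDivisors R)
    (s.image (Subtype.val : R' → K))
  refine ⟨b, nonZeroDivisors.ne_zero b.2, fun r' => ?_⟩
  have key : ∃ r : R, algebraMap R K r = (b : R) • (r' : K) := by
    have hr' : r' ∈ Submodule.span R (s : Set R') := by rw [hs]; trivial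
    induction hr' using Submodule.span_induction with
    | mem g hg =>
      obtain ⟨t, ht⟩ := hb g.1 (Finset.mem_image_of_mem _ hg)
      exact ⟨t, ht⟩
    | zero => exact ⟨0, by simp⟩
    | add x y _ _ hx hy =>
      obtain ⟨rx, hrx⟩ := hx
      obtain ⟨ry, hry⟩ := hy
      exact ⟨rx + ry, by rw [map_add, hrx, hry]; simp [smul_add]⟩
    | smul c x _ hx =>
      obtain ⟨rx, hrx⟩ := hx
      refine ⟨c * rx, ?_⟩
      rw [map_mul, hrx]
      have hcx : ((c • x : R') : K) = algebraMap R K c * (x : K) := by
        rw [Algebra.smul_def]; rfl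
      rw [hcx, Algebra.smul_def, Algebra.smul_def]
      ring
  obtain ⟨r, hr⟩ := key
  refine ⟨r, Subtype.ext ?_⟩
  show algebraMap R K r = algebraMap R K b * (r' : K)
  rw [hr, Algebra.smul_def]

/-- If `R` is a Noetherian N-2 domain then so is `R⟦X⟧` (Stacks 0332). -/
theorem isN2_powerSeries (R : Type u) [CommRing R] [IsDomain R] [IsNoetherianRing R]
    (h : CAlg.IsN2 R) : CAlg.IsN2 R⟦X⟧ := by
  have hfin : Module.Finite R (integralClosure R (FractionRing R)) :=
    h (FractionRing R) inferInstance
  generalize hR' : integralClosure R (FractionRing R) = R' at hfin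
  haveI : IsNoetherianRing R' := IsNoetherianRing.of_finite R R'
  haveI : IsIntegrallyClosed R' := by
    rw [← hR']
    exact integralClosure.isIntegrallyClosedOfFiniteExtension (FractionRing R)
  have hinj : Function.Injective (algebraMap R R') := by
    intro a b hab
    exact IsFractionRing.injective R (FractionRing R) (congrArg Subtype.val hab)
  have hN2' : CAlg.IsN2 R' := Groth.Agent.S2114.result hinj h
  have h4 : CAlg.IsN2 R'⟦X⟧ := isN2_powerSeries_of_normal R' hN2'
  haveI : Module.Finite R⟦X⟧ R'⟦X⟧ := finite_powerSeries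
  obtain ⟨d, hd, hden⟩ := exists_denominator_of_finite R (FractionRing R) R'
  have hinjPS : Function.Injective (algebraMap R⟦X⟧ R'⟦X⟧) := PowerSeries.map_injective _ hinj
  refine isN2_of_finite_of_denominator hinjPS (C d) ?_ (exists_denominator_powerSeries d hden) h4
  intro h0
  apply hd
  have := congrArg (coeff 0) h0
  simpa using this

end Groth.Agent.Lib.PSJapanese75
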