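-- Helper library: low order coefficients (3-jets) of products, inverses, rescalings of power series.
import Mathlib.RingTheory.PowerSeries.Inverse
import Mathlib.RingTheory.PowerSeries.Exp
import Mathlib.NumberTheory.Bernoulli
import Mathlib.Tactic.LinearCombination
import Mathlib.Tactic.FieldSimp

set_option autoImplicit false

namespace Groth.Agent.Lib.PSJet

open PowerSeries

variable {K : Type*} [Field K]

lemma coeff_mul_0 (f g : K⟦X⟧) : coeff 0 (f * g) = coeff 0 f * coeff 0 g := by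
  simp [coeff_mul]

lemma coeff_mul_1 (f g : K⟦X⟧) :
    coeff 1 (f * g) = coeff 0 f * coeff 1 g + coeff 1 f * coeff 0 g := by
  rw [coeff_mul, Finset.Nat.sum_antidiagonal_eq_sum_range_succ_mk]
  simp [Finset.sum_range_succ]

lemma coeff_mul_2 (f g : K⟦X⟧) :
    coeff 2 (f * g) = coeff 0 f * coeff 2 g + coeff 1 f * coeff 1 g + coeff 2 f * coeff 0 g := by
  rw [coeff_mul, Finset.Nat.sum_antidiagonal_eq_sum_range_succ_mk]
  simp [Finset.sum_range_succ]

lemma coeff_mul_3 (f g : K⟦X⟧) :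
    coeff 3 (f * g) = coeff 0 f * coeff 3 g + coeff 1 f * coeff 2 g + coeff 2 f * coeff 1 g
      + coeff 3 f * coeff 0 g := by
  rw [coeff_mul, Finset.Nat.sum_antidiagonal_eq_sum_range_succ_mk]
  simp [Finset.sum_range_succ]

section Inv

variable (f : K⟦X⟧) (h0 : coeff 0 f = 1)
include h0

lemma coeff_inv_0 : coeff 0 f⁻¹ = 1 := by
  have h := PowerSeries.constantCoeff_inv f
  rw [← coeff_zero_eq_constantCoeff_apply, ← coeff_zero_eq_constantCoeff_apply, h0, inv_one] at h
  exact h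

lemma mul_inv_eq_one : f * f⁻¹ = 1 := by
  apply PowerSeries.mul_inv_cancel
  rw [← coeff_zero_eq_constantCoeff_apply, h0]
  exact one_ne_zero

lemma coeff_inv_1 : coeff 1 f⁻¹ = - coeff 1 f := by
  have h := congrArg (coeff 1) (mul_inv_eq_one f h0)
  rw [coeff_mul_1, h0, coeff_inv_0 f h0, coeff_one] at h
  simp at h
  linear_combination h

lemma coeff_inv_2 : coeff 2 f⁻¹ = (coeff 1 f) ^ 2 - coeff 2 f := by
  have h := congrArg (coeff 2) (mul_inv_eq_one f h0)
  rw [coeff_mul_2, h0, coeff_inv_0 f h0, coeff_inv_1 f h0, coeff_one] at h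
  simp at h
  linear_combination h

lemma coeff_inv_3 :
    coeff 3 f⁻¹ = - (coeff 1 f) ^ 3 + 2 * coeff 1 f * coeff 2 f - coeff 3 f := by
  have h := congrArg (coeff 3) (mul_inv_eq_one f h0)
  rw [coeff_mul_3, h0, coeff_inv_0 f h0, coeff_inv_1 f h0, coeff_inv_2 f h0, coeff_one] at h
  simp at h
  linear_combination h

end Inv

lemma coeff_bernoulli'_0 : coeff 0 (bernoulli'PowerSeries ℚ) = 1 := by
  simp [bernoulli'PowerSeries]

lemma coeff_bernoulli'_1 : coeff 1 (bernoulli'PowerSeries ℚ) = 1 / 2 := by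
  simp [bernoulli'PowerSeries]

lemma coeff_bernoulli'_2 : coeff 2 (bernoulli'PowerSeries ℚ) = 1 / 12 := by
  simp [bernoulli'PowerSeries, bernoulli'_two, Nat.factorial]
  norm_num

lemma coeff_bernoulli'_3 : coeff 3 (bernoulli'PowerSeries ℚ) = 0 := by
  simp [bernoulli'PowerSeries, bernoulli'_three]

lemma coeff_exp_0 : coeff 0 (PowerSeries.exp ℚ) = 1 := by simp [coeff_exp]
lemma coeff_exp_1 : coeff 1 (PowerSeries.exp ℚ) = 1 := by simp [coeff_exp]
lemma coeff_exp_2 : coeff 2 (PowerSeries.exp ℚ) = 1 / 2 := by simp [coeff_exp, Nat.factorial]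
lemma coeff_exp_3 : coeff 3 (PowerSeries.exp ℚ) = 1 / 6 := by
  simp [coeff_exp, Nat.factorial]

end Groth.Agent.Lib.PSJet
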