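import Groth.Agent.Lib.PairHenselizationIntegral
import Mathlib.RingTheory.Idempotents
import Mathlib.Algebra.Group.Pi.Units
import Mathlib.RingTheory.Ideal.Quotient.Operations

/-!
# Chinese remainder theorem for henselizations of pairs

For pairwise comaximal ideals `I i` of `A`, the product of henselizations of the pairs `(A, I i)`
is a henselization of `(A, ⨅ i, I i)`.
-/

set_option autoImplicit false
universe u

namespace Groth.Agent.Lib.PairHenselizationCRT

open Polynomial

section Pi

variable {ι : Type*} (R : ι → Type*) [∀ i, CommRing (R i)] (K : ∀ i, Ideal (R i))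

/-- A product of henselian pairs is a henselian pair. -/
theorem henselianRing_pi [h : ∀ i, HenselianRing (R i) (K i)] :
    HenselianRing (∀ i, R i) (Ideal.pi K) := by
  refine { jac := ?_, is_henselian := ?_ }
  · intro x hx
    rw [Ideal.mem_jacobson_bot]
    intro y
    rw [Pi.isUnit_iff]
    intro i
    have hxi : x i ∈ K i := (Ideal.mem_pi _ _).1 hx i
    have := (Ideal.mem_jacobson_bot.1 ((h i).jac hxi)) (y i)
    exact this
  · intro f hf a₀ h₁ h₂
    have hroot : ∀ i, ∃ a : R i, (f.map (Pi.evalRingHom R i)).IsRoot a ∧ a - a₀ i ∈ K i := by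
      intro i
      apply (h i).is_henselian (f.map (Pi.evalRingHom R i)) (hf.map _) (a₀ i)
      · rw [Polynomial.eval_map, ← Pi.evalRingHom_apply R i a₀, Polynomial.eval₂_hom]
        exact (Ideal.mem_pi _ _).1 h₁ i
      · -- unit
        obtain ⟨v', hv'⟩ := isUnit_iff_exists_inv.1 h₂
        obtain ⟨v, rfl⟩ := Ideal.Quotient.mk_surjective v'
        have h3 : f.derivative.eval a₀ * v - 1 ∈ Ideal.pi K := by
          rw [← Ideal.Quotient.eq_zero_iff_mem, map_sub, map_mul, hv', map_one, sub_self]
        have h4 := (Ideal.mem_pi _ _).1 h3 i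
        refine IsUnit.of_mul_eq_one (Ideal.Quotient.mk (K i) (v i)) ?_
        rw [← map_mul, ← sub_eq_zero, ← map_one (Ideal.Quotient.mk (K i)), ← map_sub,
          Ideal.Quotient.eq_zero_iff_mem]
        have h5 : ((f.map (Pi.evalRingHom R i)).derivative).eval (a₀ i) =
            (f.derivative.eval a₀) i := by
          rw [Polynomial.derivative_map, Polynomial.eval_map, ← Pi.evalRingHom_apply R i a₀,
            Polynomial.eval₂_hom]
          rfl
        rw [h5]
        exact h4
    choose a ha1 ha2 using hroot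
    refine ⟨a, ?_, ?_⟩
    · rw [Polynomial.IsRoot]
      funext i
      have := ha1 i
      rw [Polynomial.IsRoot, Polynomial.eval_map] at this
      have h6 : (f.eval a) i = f.eval₂ (Pi.evalRingHom R i) (a i) := by
        rw [← Pi.evalRingHom_apply R i a, Polynomial.eval₂_hom]
        rfl
      rw [h6, this]
      rfl
    · rw [Ideal.mem_pi]
      intro i
      exact ha2 i

end Pi


section Idem

variable {C : Type*} [CommRing C] (K : Ideal C) [hC : HenselianRing C K]

/-- Idempotents lift along a henselian pair. -/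
theorem exists_idempotent_lift (b : C) (hb : b * b - b ∈ K) :
    ∃ e : C, IsIdempotentElem e ∧ e - b ∈ K := by
  rcases subsingleton_or_nontrivial C with hsub | hnt
  · exact ⟨b, Subsingleton.elim _ _, by rw [sub_self]; exact K.zero_mem⟩
  have hmonic : (X ^ 2 - X : C[X]).Monic := by
    apply Polynomial.monic_X_pow_sub
    rw [Polynomial.degree_X]
    norm_num
  have hder : (X ^ 2 - X : C[X]).derivative = 2 * X - 1 := by
    simp
    ring
  obtain ⟨e, he1, he2⟩ := hC.is_henselian (X ^ 2 - X) hmonic b
    (by simpa [sq] using hb)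
    (by
      rw [hder]
      simp only [Polynomial.eval_sub, Polynomial.eval_mul, Polynomial.eval_ofNat,
        Polynomial.eval_X, Polynomial.eval_one]
      refine IsUnit.of_mul_eq_one (Ideal.Quotient.mk K (2 * b - 1)) ?_
      rw [← map_mul, ← sub_eq_zero, ← map_one (Ideal.Quotient.mk K), ← map_sub,
        Ideal.Quotient.eq_zero_iff_mem]
      have : (2 * b - 1) * (2 * b - 1) - 1 = 4 * (b * b - b) := by ring
      rw [this]
      exact K.mul_mem_left _ hb)
  refine ⟨e, ?_, he2⟩
  have : e ^ 2 - e = 0 := by simpa using he1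
  change e * e = e
  linear_combination this

theorem idempotent_eq_of_sub_mem {e e' : C} (he : IsIdempotentElem e) (he' : IsIdempotentElem e')
    (h : e - e' ∈ K) : e = e' :=
  Groth.Agent.Lib.HenselIdem.idempotent_eq_of_sub_mem hC.jac he he' h

end Idem


section CRT

variable {A : Type u} [CommRing A] {n : ℕ} (I : Fin n → Ideal A)

/-- Representatives of the CRT idempotents. -/
theorem exists_crt_elts (hI : Pairwise fun i j => I i ⊔ I j = ⊤) :
    ∃ ε : Fin n → A, ∀ i, ε i - 1 ∈ I i ∧ ∀ j, j ≠ i → ε i ∈ I j := by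
  have hI' : Pairwise (Function.onFun IsCoprime I) := fun i j hij =>
    Ideal.isCoprime_iff_sup_eq.2 (hI hij)
  have key : ∀ i, ∃ r : A, ∀ j, r - (Pi.single i (1 : A) : Fin n → A) j ∈ I j := fun i =>
    Ideal.exists_forall_sub_mem_ideal hI' _
  choose ε hε using key
  refine ⟨ε, fun i => ⟨?_, fun j hj => ?_⟩⟩
  · have := hε i i
    rwa [Pi.single_eq_same] at this
  · have := hε i j
    rwa [Pi.single_eq_of_ne hj, sub_zero] at this

variable {I}

theorem crt_mul_mem {ε : Fin n → A} (hε : ∀ i, ε i - 1 ∈ I i ∧ ∀ j, j ≠ i → ε i ∈ I j)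
    {i : Fin n} {a : A} (ha : a ∈ I i) : a * ε i ∈ ⨅ j, I j := by
  rw [Ideal.mem_iInf]
  intro j
  by_cases hj : j = i
  · subst hj; exact Ideal.mul_mem_right _ _ ha
  · exact Ideal.mul_mem_left _ _ ((hε i).2 j hj)

theorem crt_sq_sub_mem {ε : Fin n → A} (hε : ∀ i, ε i - 1 ∈ I i ∧ ∀ j, j ≠ i → ε i ∈ I j)
    (i : Fin n) : ε i * ε i - ε i ∈ ⨅ j, I j := by
  have : ε i * ε i - ε i = (ε i - 1) * ε i := by ring
  rw [this]
  exact crt_mul_mem hε (hε i).1

theorem crt_mul_mem_of_ne {ε : Fin n → A} (hε : ∀ i, ε i - 1 ∈ I i ∧ ∀ j, j ≠ i → ε i ∈ I j)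
    {i j : Fin n} (hij : i ≠ j) : ε i * ε j ∈ ⨅ l, I l := by
  rw [Ideal.mem_iInf]
  intro l
  by_cases hl : l = i
  · subst hl
    exact Ideal.mul_mem_left _ _ ((hε j).2 l hij)
  · exact Ideal.mul_mem_right _ _ ((hε i).2 l hl)

theorem crt_sum_sub_mem {ε : Fin n → A} (hε : ∀ i, ε i - 1 ∈ I i ∧ ∀ j, j ≠ i → ε i ∈ I j) :
    ∑ i, ε i - 1 ∈ ⨅ l, I l := by
  classical
  rw [Ideal.mem_iInf]
  intro l
  rw [← Finset.add_sum_erase Finset.univ ε (Finset.mem_univ l)]
  have h1 : ε l + ∑ x ∈ Finset.univ.erase l, ε x - 1 =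
      (ε l - 1) + ∑ x ∈ Finset.univ.erase l, ε x := by ring
  rw [h1]
  refine Ideal.add_mem _ (hε l).1 (Ideal.sum_mem _ fun x hx => ?_)
  exact (hε x).2 l (Finset.ne_of_mem_erase hx).symm


variable (I) in
/-- The extension of `⨅ I i` to the product of the `Bi i` is the product of the extensions of the
`I i`, provided `I i · Bi i` is contained in the Jacobson radical. -/
theorem map_iInf_eq_pi (hI : Pairwise fun i j => I i ⊔ I j = ⊤)
    (Bi : Fin n → Type u) [∀ i, CommRing (Bi i)] [∀ i, Algebra A (Bi i)]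
    (hjac : ∀ i, (I i).map (algebraMap A (Bi i)) ≤ Ideal.jacobson ⊥) :
    (⨅ i, I i).map (algebraMap A (∀ i, Bi i)) =
      Ideal.pi (fun i => (I i).map (algebraMap A (Bi i))) := by
  classical
  obtain ⟨ε, hε⟩ := exists_crt_elts I hI
  apply le_antisymm
  · rw [Ideal.map_le_iff_le_comap]
    intro a ha
    rw [Ideal.mem_comap, Ideal.mem_pi]
    intro i
    exact Ideal.mem_map_of_mem _ ((Ideal.mem_iInf.1 ha) i)
  · intro x hx
    rw [Ideal.mem_pi] at hx
    rw [← Finset.univ_sum_single x]
    refine Ideal.sum_mem _ fun i _ => ?_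
    -- `Pi.single i y ∈ J Π` for `y ∈ I i · Bi i`
    have hunit : IsUnit (algebraMap A (Bi i) (ε i)) := by
      have h1 : algebraMap A (Bi i) (ε i) - 1 ∈ (I i).map (algebraMap A (Bi i)) := by
        have := Ideal.mem_map_of_mem (algebraMap A (Bi i)) (hε i).1
        rwa [map_sub, map_one] at this
      have h2 := Ideal.mem_jacobson_bot.1 (hjac i h1) 1
      rwa [mul_one, sub_add_cancel] at h2
    obtain ⟨v, hv⟩ := hunit.exists_right_inv
    have key : ∀ y ∈ (I i).map (algebraMap A (Bi i)),
        (Pi.single i y : ∀ i, Bi i) ∈ (⨅ i, I i).map (algebraMap A (∀ i, Bi i)) := by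
      intro y hy
      refine Submodule.span_induction (p := fun y _ => (Pi.single i y : ∀ i, Bi i) ∈
        (⨅ i, I i).map (algebraMap A (∀ i, Bi i))) ?_ ?_ ?_ ?_ hy
      · rintro _ ⟨a, ha, rfl⟩
        have h3 : (Pi.single i (algebraMap A (Bi i) a) : ∀ i, Bi i) =
            algebraMap A (∀ i, Bi i) (a * ε i) * Pi.single i v := by
          funext j
          by_cases hj : j = i
          · subst hj
            rw [Pi.mul_apply, Pi.single_eq_same, Pi.single_eq_same, Pi.algebraMap_apply, map_mul,
              mul_assoc, hv, mul_one]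
          · rw [Pi.mul_apply, Pi.single_eq_of_ne hj, Pi.single_eq_of_ne hj, mul_zero]
        rw [h3]
        exact Ideal.mul_mem_right _ _ (Ideal.mem_map_of_mem _ (crt_mul_mem hε ha))
      · rw [Pi.single_zero]; exact Ideal.zero_mem _
      · intro y z _ _ hy hz
        rw [Pi.single_add]; exact Ideal.add_mem _ hy hz
      · intro c y _ hy
        have h4 : (Pi.single i (c • y) : ∀ i, Bi i) = Pi.single i c * Pi.single i y := by
          rw [smul_eq_mul, Pi.single_mul]
        rw [h4]
        exact Ideal.mul_mem_left _ _ hy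
    exact key _ (hx i)


variable (I) in
/-- **CRT for henselizations**: the product of henselizations of `(A, I i)` is a henselization of
`(A, ⨅ i, I i)` when the `I i` are pairwise comaximal. -/
theorem isPairHenselization_pi (hI : Pairwise fun i j => I i ⊔ I j = ⊤)
    (Bi : Fin n → Type u) [∀ i, CommRing (Bi i)] [∀ i, Algebra A (Bi i)]
    (hBi : ∀ i, Hens2.IsPairHenselization A (I i) (Bi i)) :
    Hens2.IsPairHenselization A (⨅ i, I i) (∀ i, Bi i) := by
  classical
  have hh : ∀ i, HenselianRing (Bi i) ((I i).map (algebraMap A (Bi i))) := fun i => (hBi i).1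
  have hideal := map_iInf_eq_pi I hI Bi (fun i => (hh i).jac)
  obtain ⟨ε, hε⟩ := exists_crt_elts I hI
  refine ⟨?_, ?_⟩
  · rw [hideal]
    exact henselianRing_pi Bi _
  intro C _ K f hC hf
  have hfJ : ∀ a ∈ ⨅ i, I i, f a ∈ K := fun a ha => hf (Ideal.mem_map_of_mem f ha)
  -- idempotents of `C`
  have hex : ∀ i, ∃ e : C, IsIdempotentElem e ∧ e - f (ε i) ∈ K := fun i =>
    exists_idempotent_lift K (f (ε i)) (by
      rw [← map_mul, ← map_sub]; exact hfJ _ (crt_sq_sub_mem hε i))
  choose e he1 he2 using hex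
  have horth : ∀ i j, i ≠ j → e i * e j = 0 := by
    intro i j hij
    apply idempotent_eq_of_sub_mem K ((he1 i).mul (he1 j)) IsIdempotentElem.zero
    rw [sub_zero]
    have : e i * e j = (e i - f (ε i)) * e j + f (ε i) * (e j - f (ε j)) + f (ε i * ε j) := by
      rw [map_mul]; ring
    rw [this]
    exact K.add_mem (K.add_mem (K.mul_mem_right _ (he2 i)) (K.mul_mem_left _ (he2 j)))
      (hfJ _ (crt_mul_mem_of_ne hε hij))
  have hoi : OrthogonalIdempotents e := ⟨he1, fun i j hij => horth i j hij⟩
  have hsum : ∑ i, e i = 1 := by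
    apply idempotent_eq_of_sub_mem K hoi.isIdempotentElem_sum IsIdempotentElem.one
    have : ∑ i, e i - 1 = ∑ i, (e i - f (ε i)) + f (∑ i, ε i - 1) := by
      rw [map_sub, map_one, map_sum, Finset.sum_sub_distrib]; ring
    rw [this]
    exact K.add_mem (K.sum_mem fun i _ => he2 i) (hfJ _ (crt_sum_sub_mem hε))
  have hcoi : CompleteOrthogonalIdempotents e := ⟨hoi, hsum⟩
  -- the factors of `C`
  let Ci : Fin n → Type u := fun i => C ⧸ Ideal.span {1 - e i}
  let π : ∀ i, C →+* Ci i := fun i => Ideal.Quotient.mk _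
  have hπe : ∀ i, π i (e i) = 1 := by
    intro i
    have h0 : π i (1 - e i) = 0 :=
      Ideal.Quotient.eq_zero_iff_mem.2 (Ideal.mem_span_singleton_self _)
    have h1 : π i (e i) = π i 1 - π i (1 - e i) := by
      rw [← map_sub]; congr 1; ring
    rw [h1, h0, sub_zero, map_one]
  let ψ : C ≃+* (∀ i, Ci i) := RingEquiv.ofBijective (RingHom.pi π) hcoi.bijective_pi
  have hψ : ∀ c i, ψ c i = π i c := fun _ _ => rfl
  have : ∀ i, Algebra.IsIntegral C (Ci i) := fun i =>
    Algebra.isIntegral_of_surjective Ideal.Quotient.mk_surjective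
  have hCi : ∀ i, HenselianRing (Ci i) (K.map (π i)) := fun i =>
    Groth.Agent.Lib.HenselIdem.henselianRing_of_isIntegral (A := C) (B := Ci i) K
  have hfi : ∀ i, (I i).map ((π i).comp f) ≤ K.map (π i) := by
    intro i
    rw [Ideal.map_le_iff_le_comap]
    intro a ha
    rw [Ideal.mem_comap]
    change π i (f a) ∈ _
    have h1 : π i (f a) = π i (f a * e i) := by rw [map_mul, hπe, mul_one]
    rw [h1]
    apply Ideal.mem_map_of_mem
    have : f a * e i = f a * (e i - f (ε i)) + f (a * ε i) := by rw [map_mul]; ring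
    rw [this]
    exact K.add_mem (K.mul_mem_left _ (he2 i)) (hfJ _ (crt_mul_mem hε ha))
  have hgi : ∀ i, ∃! g : Bi i →+* Ci i, g.comp (algebraMap A (Bi i)) = (π i).comp f := fun i =>
    (hBi i).2 (Ci i) _ ((π i).comp f) (hCi i) (hfi i)
  choose g hg hguniq using hgi
  have hg' : ∀ i a, g i (algebraMap A (Bi i) a) = π i (f a) := fun i a =>
    congrArg (fun k : A →+* Ci i => k a) (hg i)
  let G : (∀ i, Bi i) →+* C :=
    (ψ.symm : (∀ i, Ci i) →+* C).comp (RingHom.pi fun i => (g i).comp (Pi.evalRingHom Bi i))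
  have hG : ∀ x i, π i (G x) = g i (x i) := by
    intro x i
    rw [← hψ]
    change ψ (ψ.symm _) i = _
    rw [RingEquiv.apply_symm_apply]
    rfl
  refine ⟨G, ?_, ?_⟩
  · refine RingHom.ext fun a => ?_
    apply ψ.injective
    funext i
    change ψ (G (algebraMap A (∀ i, Bi i) a)) i = ψ (f a) i
    rw [hψ, hψ, hG, Pi.algebraMap_apply, hg']
  · intro G' hG'
    have hG'a : ∀ a, G' (algebraMap A (∀ i, Bi i) a) = f a := fun a =>
      congrArg (fun k : A →+* C => k a) hG'
    -- `G'` sends the standard idempotents to the `e i`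
    have hη : ∀ i, G' (Pi.single i 1) = e i := by
      intro i
      have hidem : IsIdempotentElem (G' (Pi.single i 1)) := by
        change _ * _ = _
        rw [← map_mul, ← Pi.single_mul, mul_one]
      apply idempotent_eq_of_sub_mem K hidem (he1 i)
      have h1 : (Pi.single i 1 : ∀ i, Bi i) - algebraMap A (∀ i, Bi i) (ε i) ∈
          (⨅ i, I i).map (algebraMap A (∀ i, Bi i)) := by
        rw [hideal, Ideal.mem_pi]
        intro j
        rw [Pi.sub_apply, Pi.algebraMap_apply]
        by_cases hj : j = i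
        · subst hj
          rw [Pi.single_eq_same, ← neg_sub, ← map_one (algebraMap A (Bi j)), ← map_sub]
          exact Ideal.neg_mem_iff _ |>.2 (Ideal.mem_map_of_mem _ (hε j).1)
        · rw [Pi.single_eq_of_ne hj, zero_sub]
          exact Ideal.neg_mem_iff _ |>.2 (Ideal.mem_map_of_mem _ ((hε i).2 j hj))
      have h2 : G' ((Pi.single i 1 : ∀ i, Bi i) - algebraMap A (∀ i, Bi i) (ε i)) ∈ K := by
        have := Ideal.mem_map_of_mem G' h1
        rw [Ideal.map_map, hG'] at this
        exact hf this
      rw [map_sub, hG'a] at h2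
      have : G' (Pi.single i 1) - e i = (G' (Pi.single i 1) - f (ε i)) - (e i - f (ε i)) := by
        ring
      rw [this]
      exact K.sub_mem h2 (he2 i)
    -- the components of `G'`
    let gi' : ∀ i, Bi i →+* Ci i := fun i =>
      { toFun := fun y => π i (G' (Pi.single i y))
        map_one' := by rw [hη, hπe]
        map_mul' := fun y z => by rw [Pi.single_mul, map_mul, map_mul]
        map_zero' := by rw [Pi.single_zero, map_zero, map_zero]
        map_add' := fun y z => by rw [Pi.single_add, map_add, map_add] }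
    have hgi' : ∀ i, gi' i = g i := by
      intro i
      apply hguniq
      refine RingHom.ext fun a => ?_
      change π i (G' (Pi.single i (algebraMap A (Bi i) a))) = π i (f a)
      have : (Pi.single i (algebraMap A (Bi i) a) : ∀ i, Bi i) =
          algebraMap A (∀ i, Bi i) a * Pi.single i 1 := by
        funext j
        by_cases hj : j = i
        · subst hj
          rw [Pi.mul_apply, Pi.single_eq_same, Pi.single_eq_same, mul_one, Pi.algebraMap_apply]
        · rw [Pi.mul_apply, Pi.single_eq_of_ne hj, Pi.single_eq_of_ne hj, mul_zero]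
      rw [this, map_mul, map_mul, hG'a, hη, hπe, mul_one]
    refine RingHom.ext fun x => ?_
    apply ψ.injective
    funext i
    rw [hψ, hψ, hG, ← hgi' i]
    change π i (G' x) = π i (G' (Pi.single i (x i)))
    have h3 : (Pi.single i (x i) : ∀ i, Bi i) = x * Pi.single i 1 := by
      funext j
      by_cases hj : j = i
      · subst hj
        rw [Pi.mul_apply, Pi.single_eq_same, Pi.single_eq_same, mul_one]
      · rw [Pi.mul_apply, Pi.single_eq_of_ne hj, Pi.single_eq_of_ne hj, mul_zero]
    rw [h3, map_mul, map_mul, hη, hπe, mul_one]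

end CRT

end Groth.Agent.Lib.PairHenselizationCRT
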