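import Groth.Agent.Lib.MonicRelFree
import Groth.Agent.Lib.HenselPair
import Mathlib.RingTheory.Henselian
import Mathlib.Algebra.Polynomial.Identities
import Mathlib.RingTheory.Localization.Basic
import Mathlib.RingTheory.Localization.Ideal
import Mathlib.RingTheory.Polynomial.Basic
import Mathlib.RingTheory.Flat.Localization

/-!
# One step of the henselization of a pair (helper22)

For a ring `A` and an ideal `I`, `PStep A I` is the localization of
`A[X_p : p] / (F_p (X_p))`, where `p = (F_p, a_p)` runs over all Hensel data for the pair `(A, I)`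
(`F_p` monic, `F_p (a_p) ∈ I`, `F_p' (a_p)` a unit modulo `I`), at the multiplicative set of elements
that become units in `A / I` under `X_p ↦ a_p`.

Main facts: every Hensel datum acquires a root `root p` in `PStep A I` with
`root p - a_p ∈ I · PStep A I`; elements of `A` that are units modulo `I` become units; `PStep A I`
is flat over `A`; and there is a unique map `lift` to any henselian pair `(C, J)` under `(A, I)`.
-/

namespace Groth.Agent.Lib.PairStep

open Polynomial Groth.Agent.Lib

universe u

section Uniq

variable {C : Type*} [CommRing C] {J : Ideal C}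

/-- Uniqueness of Hensel roots for an ideal inside the Jacobson radical. -/
theorem root_unique (hJ : J ≤ Ideal.jacobson ⊥) (F : C[X]) {b b' : C} (hb : F.IsRoot b)
    (hb' : F.IsRoot b') (hu : IsUnit (Ideal.Quotient.mk J (F.derivative.eval b)))
    (hbb' : b' - b ∈ J) : b' = b := by
  obtain ⟨c, hc⟩ := F.binomExpansion b (b' - b)
  rw [add_sub_cancel, hb'.eq_zero, hb.eq_zero, zero_add] at hc
  have h1 : (b' - b) * (F.derivative.eval b + c * (b' - b)) = 0 := by
    linear_combination -hc
  have h2 : IsUnit (F.derivative.eval b + c * (b' - b)) := by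
    apply HenselPair.isUnit_of_isUnit_mk hJ
    have : Ideal.Quotient.mk J (F.derivative.eval b + c * (b' - b)) =
        Ideal.Quotient.mk J (F.derivative.eval b) := by
      rw [map_add, map_mul, Ideal.Quotient.eq_zero_iff_mem.mpr hbb', mul_zero, add_zero]
    rw [this]
    exact hu
  have h3 : b' - b = 0 := by
    rcases h2 with ⟨v, hv⟩
    rw [← hv] at h1
    exact (Units.mul_left_eq_zero v).mp h1
  exact sub_eq_zero.mp h3

end Uniq

variable (A : Type u) [CommRing A] (I : Ideal A)

/-- Hensel data for the pair `(A, I)`. -/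
def PData : Type u :=
  { p : A[X] × A // p.1.Monic ∧ p.1.eval p.2 ∈ I ∧
    IsUnit (Ideal.Quotient.mk I (p.1.derivative.eval p.2)) }

variable {A I} in
/-- The polynomial of a datum. -/
def PData.poly (p : PData A I) : A[X] := p.1.1

variable {A I} in
/-- The approximate root of a datum. -/
def PData.pt (p : PData A I) : A := p.1.2

variable {A I} in
theorem PData.monic (p : PData A I) : p.poly.Monic := p.2.1

variable {A I} in
theorem PData.eval_mem (p : PData A I) : p.poly.eval p.pt ∈ I := p.2.2.1

variable {A I} in
theorem PData.isUnit_derivative (p : PData A I) :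
    IsUnit (Ideal.Quotient.mk I (p.poly.derivative.eval p.pt)) := p.2.2.2

/-- The ideal of relations `F_p (X_p) = 0`. -/
noncomputable def relIdeal : Ideal (MvPolynomial (PData A I) A) :=
  MonicRelFree.relI (fun p : PData A I => p.poly)

/-- The ring obtained by adjoining formal roots. -/
abbrev PPre : Type u := MvPolynomial (PData A I) A ⧸ relIdeal A I

/-- Evaluation of the polynomial ring in `A / I`. -/
noncomputable def evalPoly : MvPolynomial (PData A I) A →+* A ⧸ I :=
  MvPolynomial.eval₂Hom (Ideal.Quotient.mk I) (fun p => Ideal.Quotient.mk I p.pt)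

theorem evalPoly_aeval_X (p : PData A I) (F : A[X]) :
    evalPoly A I (Polynomial.aeval (MvPolynomial.X p : MvPolynomial (PData A I) A) F) =
      Ideal.Quotient.mk I (F.eval p.pt) := by
  rw [Polynomial.aeval_def, Polynomial.hom_eval₂]
  have h1 : (evalPoly A I).comp (algebraMap A (MvPolynomial (PData A I) A)) =
      Ideal.Quotient.mk I := by
    ext a
    simp [evalPoly, MvPolynomial.algebraMap_eq]
  have h2 : evalPoly A I (MvPolynomial.X p) = Ideal.Quotient.mk I p.pt := by
    simp [evalPoly]
  rw [h1, h2, Polynomial.eval₂_at_apply]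

theorem relIdeal_le_ker : relIdeal A I ≤ RingHom.ker (evalPoly A I) := by
  rw [relIdeal, MonicRelFree.relI, Ideal.span_le]
  rintro _ ⟨p, rfl⟩
  rw [SetLike.mem_coe, RingHom.mem_ker, evalPoly_aeval_X]
  exact Ideal.Quotient.eq_zero_iff_mem.mpr p.eval_mem

/-- Evaluation of `PPre A I` in `A / I`. -/
noncomputable def evalQ : PPre A I →+* A ⧸ I :=
  Ideal.Quotient.lift (relIdeal A I) (evalPoly A I) (fun _ ha => relIdeal_le_ker A I ha)

theorem evalQ_algebraMap (a : A) :
    evalQ A I (algebraMap A (PPre A I) a) = Ideal.Quotient.mk I a := by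
  show evalQ A I (Ideal.Quotient.mk _ (algebraMap A (MvPolynomial (PData A I) A) a)) = _
  rw [evalQ, Ideal.Quotient.lift_mk]
  simp [evalPoly, MvPolynomial.algebraMap_eq]

theorem evalQ_mk_X (p : PData A I) :
    evalQ A I (Ideal.Quotient.mk _ (MvPolynomial.X p)) = Ideal.Quotient.mk I p.pt := by
  rw [evalQ, Ideal.Quotient.lift_mk]
  simp [evalPoly]

/-- The elements of `PPre A I` that are units modulo `I` (under `X_p ↦ a_p`). -/
noncomputable def unitsMod : Submonoid (PPre A I) := (IsUnit.submonoid (A ⧸ I)).comap (evalQ A I)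

theorem mem_unitsMod_iff (x : PPre A I) : x ∈ unitsMod A I ↔ IsUnit (evalQ A I x) := Iff.rfl

/-- One step of the henselization of a pair. -/
def PStep : Type u := Localization (unitsMod A I)

noncomputable instance : CommRing (PStep A I) :=
  inferInstanceAs (CommRing (Localization (unitsMod A I)))

noncomputable instance : Algebra (PPre A I) (PStep A I) :=
  inferInstanceAs (Algebra (PPre A I) (Localization (unitsMod A I)))

instance : IsLocalization (unitsMod A I) (PStep A I) :=
  inferInstanceAs (IsLocalization (unitsMod A I) (Localization (unitsMod A I)))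

noncomputable instance : Algebra A (PStep A I) :=
  inferInstanceAs (Algebra A (Localization (unitsMod A I)))

instance : IsScalarTower A (PPre A I) (PStep A I) :=
  inferInstanceAs (IsScalarTower A (PPre A I) (Localization (unitsMod A I)))

theorem algebraMap_pStep_apply (a : A) :
    algebraMap A (PStep A I) a = algebraMap (PPre A I) (PStep A I) (algebraMap A (PPre A I) a) :=
  IsScalarTower.algebraMap_apply A (PPre A I) (PStep A I) a

theorem isUnit_algebraMapPre {x : PPre A I} (hx : IsUnit (evalQ A I x)) :
    IsUnit (algebraMap (PPre A I) (PStep A I) x) :=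
  IsLocalization.map_units (PStep A I) (⟨x, hx⟩ : unitsMod A I)

/-- Elements of `A` which are units modulo `I` become units in `PStep A I`. -/
theorem isUnit_algebraMap {a : A} (ha : IsUnit (Ideal.Quotient.mk I a)) :
    IsUnit (algebraMap A (PStep A I) a) := by
  rw [algebraMap_pStep_apply]
  apply isUnit_algebraMapPre
  rwa [evalQ_algebraMap]

theorem aeval_mk_X (p : PData A I) :
    Polynomial.aeval (Ideal.Quotient.mk (relIdeal A I) (MvPolynomial.X p)) p.poly = 0 := by
  have h1 : Polynomial.aeval (MvPolynomial.X p : MvPolynomial (PData A I) A) p.poly ∈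
      relIdeal A I := Ideal.subset_span ⟨p, rfl⟩
  have h2 := Ideal.Quotient.eq_zero_iff_mem.mpr h1
  have h3 : Polynomial.aeval (Ideal.Quotient.mk (relIdeal A I) (MvPolynomial.X p)) p.poly =
      Ideal.Quotient.mk (relIdeal A I)
        (Polynomial.aeval (MvPolynomial.X p : MvPolynomial (PData A I) A) p.poly) :=
    (Polynomial.aeval_algHom_apply (Ideal.Quotient.mkₐ A (relIdeal A I)) _ _)
  rw [h3, h2]

/-- The adjoined root of a datum. -/
noncomputable def root (p : PData A I) : PStep A I :=
  algebraMap (PPre A I) (PStep A I) (Ideal.Quotient.mk _ (MvPolynomial.X p))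

theorem aeval_root (p : PData A I) : Polynomial.aeval (root A I p) p.poly = 0 := by
  have h := Polynomial.aeval_algHom_apply (IsScalarTower.toAlgHom A (PPre A I) (PStep A I))
    (Ideal.Quotient.mk (relIdeal A I) (MvPolynomial.X p)) p.poly
  rw [aeval_mk_X, map_zero] at h
  exact h

theorem isRoot_root (p : PData A I) :
    (p.poly.map (algebraMap A (PStep A I))).IsRoot (root A I p) := by
  rw [IsRoot.def, Polynomial.eval_map_algebraMap]
  exact aeval_root A I p

/-- The adjoined root differs from the approximate root by an element of `I · PStep A I`. -/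
theorem root_sub_mem_map (p : PData A I) :
    root A I p - algebraMap A (PStep A I) p.pt ∈ I.map (algebraMap A (PStep A I)) := by
  set F := p.poly.map (algebraMap A (PPre A I)) with hF
  set a := algebraMap A (PPre A I) p.pt with ha
  set x : PPre A I := Ideal.Quotient.mk _ (MvPolynomial.X p) with hx
  set y := x - a with hy
  obtain ⟨c, hc⟩ := F.binomExpansion a y
  have hroot : F.eval (a + y) = 0 := by
    have : a + y = x := by rw [hy]; ring
    rw [this, hF, Polynomial.eval_map_algebraMap]
    exact aeval_mk_X A I p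
  have hFa : F.eval a = algebraMap A (PPre A I) (p.poly.eval p.pt) := by
    rw [hF, ha, Polynomial.eval_map, Polynomial.eval₂_at_apply]
  have hF'a : F.derivative.eval a = algebraMap A (PPre A I) (p.poly.derivative.eval p.pt) := by
    rw [hF, ha, Polynomial.derivative_map, Polynomial.eval_map, Polynomial.eval₂_at_apply]
  have hyQ : evalQ A I y = 0 := by
    rw [hy, map_sub, hx, evalQ_mk_X, ha, evalQ_algebraMap, sub_self]
  have hunit : IsUnit (algebraMap (PPre A I) (PStep A I) (F.derivative.eval a + c * y)) := by
    apply isUnit_algebraMapPre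
    rw [map_add, map_mul, hyQ, mul_zero, add_zero, hF'a, evalQ_algebraMap]
    exact p.isUnit_derivative
  obtain ⟨v, hv⟩ := hunit
  have h3 : y * (F.derivative.eval a + c * y) = -F.eval a := by
    have : F.eval a + F.derivative.eval a * y + c * y ^ 2 = 0 := by rw [← hc, hroot]
    linear_combination this
  have h4 : algebraMap (PPre A I) (PStep A I) y =
      -algebraMap (PPre A I) (PStep A I) (F.eval a) * (↑v⁻¹ : PStep A I) := by
    have := congrArg (algebraMap (PPre A I) (PStep A I)) h3
    rw [map_mul, ← hv, map_neg] at this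
    rw [← this, mul_assoc, Units.mul_inv, mul_one]
  have h5 : root A I p - algebraMap A (PStep A I) p.pt =
      algebraMap (PPre A I) (PStep A I) y := by
    rw [hy, map_sub, algebraMap_pStep_apply]
    rfl
  rw [h5, h4, hFa, ← algebraMap_pStep_apply]
  apply Ideal.mul_mem_right
  exact neg_mem (Ideal.mem_map_of_mem _ p.eval_mem)

section Flat

theorem flat_pPre : Module.Flat A (PPre A I) := by
  by_cases h : ∀ p : PData A I, 0 < p.poly.natDegree
  · exact MonicRelFree.flat_quotient (fun p : PData A I => p.poly) (fun p => p.monic) h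
  · push Not at h
    obtain ⟨p, hp⟩ := h
    have h0 : p.poly.natDegree = 0 := by omega
    have h1 : p.poly = 1 := p.monic.natDegree_eq_zero.mp h0
    have h2 : (1 : PPre A I) = 0 := by
      have := aeval_mk_X A I p
      rwa [h1, map_one] at this
    have : Subsingleton (PPre A I) := subsingleton_of_zero_eq_one h2.symm
    infer_instance

instance flat_pStep : Module.Flat A (PStep A I) :=
  have := flat_pPre A I
  have : Module.Flat (PPre A I) (PStep A I) := IsLocalization.flat (PStep A I) (unitsMod A I)
  Module.Flat.trans A (PPre A I) (PStep A I)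

end Flat


section Lift

variable {A I}
variable {C : Type*} [CommRing C] (J : Ideal C) [hC : HenselianRing C J] (φ : A →+* C)
  (hφ : I.map φ ≤ J)

omit hC in
include hφ in
theorem le_comap : I ≤ J.comap φ := Ideal.map_le_iff_le_comap.mp hφ

omit hC in
/-- The induced map `A / I → C / J`. -/
noncomputable def quotMap : A ⧸ I →+* C ⧸ J := Ideal.quotientMap J φ (le_comap J φ hφ)

omit hC in
theorem quotMap_mk (a : A) : quotMap J φ hφ (Ideal.Quotient.mk I a) = Ideal.Quotient.mk J (φ a) :=
  Ideal.quotientMap_mk

omit hC in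
include hφ in
theorem isUnit_mk_of_isUnit_mk {a : A} (ha : IsUnit (Ideal.Quotient.mk I a)) :
    IsUnit (Ideal.Quotient.mk J (φ a)) := by
  rw [← quotMap_mk J φ hφ]
  exact ha.map _

include hφ in
theorem exists_rootIn (p : PData A I) :
    ∃ b : C, (p.poly.map φ).IsRoot b ∧ b - φ p.pt ∈ J := by
  apply HenselianRing.is_henselian (p.poly.map φ) (p.monic.map φ) (φ p.pt)
  · rw [Polynomial.eval_map, Polynomial.eval₂_at_apply]
    exact le_comap J φ hφ p.eval_mem
  · rw [Polynomial.derivative_map, Polynomial.eval_map, Polynomial.eval₂_at_apply]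
    exact isUnit_mk_of_isUnit_mk J φ hφ p.isUnit_derivative

/-- The chosen root in `C`. -/
noncomputable def rootIn (p : PData A I) : C := (exists_rootIn J φ hφ p).choose

theorem rootIn_isRoot (p : PData A I) : (p.poly.map φ).IsRoot (rootIn J φ hφ p) :=
  (exists_rootIn J φ hφ p).choose_spec.1

theorem rootIn_sub_mem (p : PData A I) : rootIn J φ hφ p - φ p.pt ∈ J :=
  (exists_rootIn J φ hφ p).choose_spec.2

theorem isUnit_mk_derivative_rootIn (p : PData A I) :
    IsUnit (Ideal.Quotient.mk J ((p.poly.map φ).derivative.eval (rootIn J φ hφ p))) := by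
  have h0 : IsUnit (Ideal.Quotient.mk J ((p.poly.map φ).derivative.eval (φ p.pt))) := by
    rw [Polynomial.derivative_map, Polynomial.eval_map, Polynomial.eval₂_at_apply]
    exact isUnit_mk_of_isUnit_mk J φ hφ p.isUnit_derivative
  obtain ⟨z, hz⟩ := (p.poly.map φ).derivative.evalSubFactor (rootIn J φ hφ p) (φ p.pt)
  have h1 : Ideal.Quotient.mk J ((p.poly.map φ).derivative.eval (rootIn J φ hφ p)) =
      Ideal.Quotient.mk J ((p.poly.map φ).derivative.eval (φ p.pt)) := by
    rw [← sub_eq_zero, ← map_sub, hz, Ideal.Quotient.eq_zero_iff_mem]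
    exact Ideal.mul_mem_left _ z (rootIn_sub_mem J φ hφ p)
  rw [h1]
  exact h0

/-- The map from the polynomial ring to `C`. -/
noncomputable def liftPoly : MvPolynomial (PData A I) A →+* C :=
  MvPolynomial.eval₂Hom φ (rootIn J φ hφ)

theorem relIdeal_le_ker_liftPoly : relIdeal A I ≤ RingHom.ker (liftPoly J φ hφ) := by
  rw [relIdeal, MonicRelFree.relI, Ideal.span_le]
  rintro _ ⟨p, rfl⟩
  show liftPoly J φ hφ
    (Polynomial.aeval (MvPolynomial.X p : MvPolynomial (PData A I) A) p.poly) = 0
  rw [Polynomial.aeval_def, Polynomial.hom_eval₂]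
  have h1 : (liftPoly J φ hφ).comp (algebraMap A (MvPolynomial (PData A I) A)) = φ := by
    ext a
    simp [liftPoly, MvPolynomial.algebraMap_eq]
  have h2 : liftPoly J φ hφ (MvPolynomial.X p) = rootIn J φ hφ p := by
    simp [liftPoly]
  rw [h1, h2, ← Polynomial.eval_map]
  exact rootIn_isRoot J φ hφ p

/-- The map from `PPre A I` to `C`. -/
noncomputable def liftPre : PPre A I →+* C :=
  Ideal.Quotient.lift (relIdeal A I) (liftPoly J φ hφ)
    (fun _ ha => relIdeal_le_ker_liftPoly J φ hφ ha)

theorem liftPre_algebraMap (a : A) : liftPre J φ hφ (algebraMap A (PPre A I) a) = φ a := by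
  show liftPre J φ hφ (Ideal.Quotient.mk _ (algebraMap A (MvPolynomial (PData A I) A) a)) = _
  rw [liftPre, Ideal.Quotient.lift_mk]
  simp [liftPoly, MvPolynomial.algebraMap_eq]

theorem liftPre_mk_X (p : PData A I) :
    liftPre J φ hφ (Ideal.Quotient.mk _ (MvPolynomial.X p)) = rootIn J φ hφ p := by
  rw [liftPre, Ideal.Quotient.lift_mk]
  simp [liftPoly]

theorem mk_comp_liftPre :
    (Ideal.Quotient.mk J).comp (liftPre J φ hφ) = (quotMap J φ hφ).comp (evalQ A I) := by
  apply Ideal.Quotient.ringHom_ext
  apply MvPolynomial.ringHom_ext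
  · intro a
    show Ideal.Quotient.mk J (liftPre J φ hφ (Ideal.Quotient.mk _ (MvPolynomial.C a))) =
      quotMap J φ hφ (evalQ A I (Ideal.Quotient.mk _ (MvPolynomial.C a)))
    have h1 : (Ideal.Quotient.mk (relIdeal A I) (MvPolynomial.C a)) =
      algebraMap A (PPre A I) a := rfl
    rw [h1, liftPre_algebraMap, evalQ_algebraMap, quotMap_mk]
  · intro p
    show Ideal.Quotient.mk J (liftPre J φ hφ (Ideal.Quotient.mk _ (MvPolynomial.X p))) =
      quotMap J φ hφ (evalQ A I (Ideal.Quotient.mk _ (MvPolynomial.X p)))
    rw [liftPre_mk_X, evalQ_mk_X, quotMap_mk, ← sub_eq_zero, ← map_sub,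
      Ideal.Quotient.eq_zero_iff_mem]
    exact rootIn_sub_mem J φ hφ p

theorem isUnit_liftPre (s : unitsMod A I) : IsUnit (liftPre J φ hφ s) := by
  apply HenselPair.isUnit_of_isUnit_mk hC.jac
  have h := congrArg (fun k => k (s : PPre A I)) (mk_comp_liftPre J φ hφ)
  simp only [RingHom.comp_apply] at h
  rw [h]
  exact (s.2 : IsUnit (evalQ A I s)).map _

/-- The canonical map `PStep A I → C`. -/
noncomputable def lift : PStep A I →+* C :=
  IsLocalization.lift (M := unitsMod A I) (isUnit_liftPre J φ hφ)

theorem lift_algebraMapPre (x : PPre A I) :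
    lift J φ hφ (algebraMap (PPre A I) (PStep A I) x) = liftPre J φ hφ x :=
  IsLocalization.lift_eq _ x

theorem lift_comp_algebraMap : (lift J φ hφ).comp (algebraMap A (PStep A I)) = φ := by
  ext a
  rw [RingHom.comp_apply, algebraMap_pStep_apply, lift_algebraMapPre, liftPre_algebraMap]

theorem lift_root (p : PData A I) : lift J φ hφ (root A I p) = rootIn J φ hφ p := by
  rw [root, lift_algebraMapPre, liftPre_mk_X]

theorem map_lift_le : (I.map (algebraMap A (PStep A I))).map (lift J φ hφ) ≤ J := by
  rw [Ideal.map_map, lift_comp_algebraMap]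
  exact hφ

/-- Uniqueness of the lift. -/
theorem lift_unique (ψ : PStep A I →+* C) (hψ : ψ.comp (algebraMap A (PStep A I)) = φ) :
    ψ = lift J φ hφ := by
  have hψa : ∀ a, ψ (algebraMap A (PStep A I) a) = φ a := fun a => congrArg (fun k => k a) hψ
  apply IsLocalization.ringHom_ext (unitsMod A I)
  apply Ideal.Quotient.ringHom_ext
  apply MvPolynomial.ringHom_ext
  · intro a
    show ψ (algebraMap (PPre A I) (PStep A I) (algebraMap A (PPre A I) a)) =
      lift J φ hφ (algebraMap (PPre A I) (PStep A I) (algebraMap A (PPre A I) a))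
    rw [← algebraMap_pStep_apply, hψa, algebraMap_pStep_apply, lift_algebraMapPre,
      liftPre_algebraMap]
  · intro p
    show ψ (root A I p) = lift J φ hφ (root A I p)
    rw [lift_root]
    apply root_unique hC.jac (p.poly.map φ) (rootIn_isRoot J φ hφ p) ?_
      (isUnit_mk_derivative_rootIn J φ hφ p) ?_
    · have h := isRoot_root A I p
      rw [IsRoot.def] at h ⊢
      have h2 := congrArg ψ h
      rw [map_zero, Polynomial.eval_map, Polynomial.hom_eval₂, hψ] at h2
      rw [Polynomial.eval_map]
      exact h2
    · have h1 : ψ (root A I p) - rootIn J φ hφ p =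
          ψ (root A I p - algebraMap A (PStep A I) p.pt) - (rootIn J φ hφ p - φ p.pt) := by
        rw [map_sub, hψa]; ring
      rw [h1]
      refine Ideal.sub_mem _ ?_ (rootIn_sub_mem J φ hφ p)
      have h2 : (I.map (algebraMap A (PStep A I))).map ψ ≤ J := by
        rw [Ideal.map_map, hψ]
        exact hφ
      exact h2 (Ideal.mem_map_of_mem ψ (root_sub_mem_map A I p))

end Lift

end Groth.Agent.Lib.PairStep
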