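import Groth.Prelude.Def_StabCat
import Groth.Prelude.Def_W4swparbununimodPar
import Mathlib.Analysis.Polynomial.Basic
import Mathlib.Topology.Algebra.Order.Archimedean
import Mathlib.Topology.Instances.Real.Lemmas

/-!
# Asymptotic comparison of real polynomials through their top coefficients (helper97)

* `eventually_pos_of_leadingCoeff_pos` : a real polynomial with positive leading coefficient is eventually positive on `ℕ`.
* `asymp_cross` : for real polynomials `A`, `B` whose coefficients in degrees `≥ d` are those of rational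
  polynomials `q`, `p` of degree `≤ d` (`d ≥ 1`), the eventual comparison of `A(m)·α_d(p)` with `B(m)·α_d(q)` is governed by
  the coefficients of degree `d - 1`.
* `abel` : summation by parts for `Fin`-indexed sums.
-/

set_option autoImplicit false
open Polynomial Filter

namespace Groth.Agent.Lib.ParAsymp97

theorem eventually_pos_of_leadingCoeff_pos {R : ℝ[X]} (h : 0 < R.leadingCoeff) :
    ∃ M : ℕ, ∀ m : ℕ, M ≤ m → 0 < R.eval (m : ℝ) := by
  rcases Nat.eq_zero_or_pos R.natDegree with he | he
  · have hR : R = C (R.coeff 0) := eq_C_of_natDegree_le_zero (by omega)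
    have h0 : 0 < R.coeff 0 := by
      unfold leadingCoeff at h; rwa [he] at h
    refine ⟨0, fun m _ => ?_⟩
    rw [hR, eval_C]
    exact h0
  · have hpos : 0 < R.degree := natDegree_pos_iff_degree_pos.mp he
    have ht := R.tendsto_atTop_of_leadingCoeff_nonneg hpos h.le
    have ht' : Tendsto (fun m : ℕ => R.eval (m : ℝ)) atTop atTop :=
      ht.comp tendsto_natCast_atTop_atTop
    have hev := ht'.eventually (eventually_gt_atTop (0 : ℝ))
    obtain ⟨M, hM⟩ := hev.exists_forall_of_atTop
    exact ⟨M, fun m hm => hM m hm⟩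

/-- a real polynomial of degree `≤ e` with positive coefficient of degree `e` is eventually positive -/
theorem eventually_pos_of_coeff_pos {R : ℝ[X]} {e : ℕ} (hdeg : R.natDegree ≤ e) (h : 0 < R.coeff e) :
    ∃ M : ℕ, ∀ m : ℕ, M ≤ m → 0 < R.eval (m : ℝ) := by
  have hnd : R.natDegree = e := le_antisymm hdeg (le_natDegree_of_ne_zero h.ne')
  apply eventually_pos_of_leadingCoeff_pos
  rw [leadingCoeff, hnd]
  exact h

theorem asymp_cross {d : ℕ} (hd : 1 ≤ d) {A B : ℝ[X]} {p q : ℚ[X]} (hp : p.natDegree ≤ d)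
    (hq : q.natDegree ≤ d) (hA : ∀ n, d ≤ n → A.coeff n = ((q.coeff n : ℚ) : ℝ))
    (hB : ∀ n, d ≤ n → B.coeff n = ((p.coeff n : ℚ) : ℝ)) :
    ((∃ M : ℕ, ∀ m : ℕ, M ≤ m →
        A.eval (m : ℝ) * (StabCat.alpha d p : ℝ) ≤ B.eval (m : ℝ) * (StabCat.alpha d q : ℝ)) →
      A.coeff (d - 1) * (StabCat.alpha d p : ℝ) ≤ B.coeff (d - 1) * (StabCat.alpha d q : ℝ)) ∧
    (A.coeff (d - 1) * (StabCat.alpha d p : ℝ) < B.coeff (d - 1) * (StabCat.alpha d q : ℝ) →
      ∃ M : ℕ, ∀ m : ℕ, M ≤ m →
        A.eval (m : ℝ) * (StabCat.alpha d p : ℝ) < B.eval (m : ℝ) * (StabCat.alpha d q : ℝ)) := by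
  set a : ℝ := (StabCat.alpha d p : ℝ) with ha
  set b : ℝ := (StabCat.alpha d q : ℝ) with hb
  set D : ℝ[X] := B * C b - A * C a with hD
  have hDc : ∀ n, D.coeff n = B.coeff n * b - A.coeff n * a := fun n => by
    rw [hD, coeff_sub, coeff_mul_C, coeff_mul_C]
  have hDe : ∀ x : ℝ, D.eval x = B.eval x * b - A.eval x * a := fun x => by
    rw [hD, eval_sub, eval_mul, eval_mul, eval_C, eval_C]
  have hdeg : D.natDegree ≤ d - 1 := by
    rw [natDegree_le_iff_coeff_eq_zero]
    intro n hn
    have hn' : d ≤ n := by omega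
    rw [hDc, hA n hn', hB n hn']
    rcases Nat.lt_or_ge d n with h | h
    · rw [coeff_eq_zero_of_natDegree_lt (lt_of_le_of_lt hp h),
        coeff_eq_zero_of_natDegree_lt (lt_of_le_of_lt hq h)]
      simp
    · have : n = d := le_antisymm h hn'
      subst this
      rw [ha, hb]
      unfold StabCat.alpha
      push_cast
      ring
  constructor
  · rintro ⟨M, hM⟩
    by_contra hlt
    rw [not_le] at hlt
    have hneg : 0 < (-D).coeff (d - 1) := by
      rw [coeff_neg, hDc]; linarith
    have hdeg' : (-D).natDegree ≤ d - 1 := by rwa [natDegree_neg]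
    obtain ⟨M', hM'⟩ := eventually_pos_of_coeff_pos hdeg' hneg
    have h1 := hM (max M M') (le_max_left _ _)
    have h2 := hM' (max M M') (le_max_right _ _)
    rw [eval_neg, hDe] at h2
    linarith
  · intro hlt
    have hpos : 0 < D.coeff (d - 1) := by
      rw [hDc]; linarith
    obtain ⟨M, hM⟩ := eventually_pos_of_coeff_pos hdeg hpos
    refine ⟨M, fun m hm => ?_⟩
    have := hM m hm
    rw [hDe] at this
    linarith

/-- summation by parts -/
theorem abel {l : ℕ} (wX h : Fin (l + 2) → ℝ) (h0 : h 0 = 0) (hw : wX (Fin.last (l + 1)) = 1) :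
    (∑ j : Fin (l + 1), wX j.castSucc * (h j.succ - h j.castSucc)) - h (Fin.last (l + 1)) =
      -∑ j : Fin (l + 1), (wX j.succ - wX j.castSucc) * h j.succ := by
  have h1 : ∑ j : Fin (l + 1), ((fun j => wX j * h j) j.succ - (fun j => wX j * h j) j.castSucc) =
      (fun j => wX j * h j) (Fin.last (l + 1)) - (fun j => wX j * h j) 0 := by
    rw [Finset.sum_sub_distrib]
    have e1 := Fin.sum_univ_succ (fun j => wX j * h j)
    have e2 := Fin.sum_univ_castSucc (fun j => wX j * h j)
    linarith
  simp only [h0, hw, mul_zero, sub_zero, one_mul] at h1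
  have h2 : ∑ j : Fin (l + 1), (wX j.succ * h j.succ - wX j.castSucc * h j.castSucc) =
      (∑ j : Fin (l + 1), wX j.castSucc * (h j.succ - h j.castSucc)) +
        ∑ j : Fin (l + 1), (wX j.succ - wX j.castSucc) * h j.succ := by
    rw [← Finset.sum_add_distrib]
    exact Finset.sum_congr rfl fun j _ => by ring
  linarith

end Groth.Agent.Lib.ParAsymp97
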