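import Groth.Agent.Lib.ParSS97
import Mathlib.Order.WellFounded
import Mathlib.CategoryTheory.Abelian.Basic

/-!
# Generic lemmas on weighted filtrations for parabolic homomorphisms (helper97)

* `str_mk_of_range_eq` : two weighted filtrations with the same set of weights have the same length and the same weights.
* `poly_eq_of_eventually_eq`, `rpoly_eq_of_eventually_eq` : polynomials agreeing at all large naturals are equal.
* `parPoly_sandwich` : if `PX j ≤ PX' j` eventually for all `j` and `Par(PX') ≤ Par(PX)` eventually, then `PX j = PX' j`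
  for `j ≥ 1`, and for `j = 0` when `w₀ > 0`.
* `at_eq_of_eq` : equal pieces, bottoms and weights give equal real filtrations.
* `imageSubobject_le_pullback`, `exists_mono_pullback_of_fac`.
-/

set_option autoImplicit false
set_option maxHeartbeats 400000
universe v u
open CategoryTheory CategoryTheory.Limits Polynomial

namespace Groth.Agent.Lib.ParHom97

open Groth.Agent.Lib

section Weights

variable {C : Type u} [Category.{v} C]

theorem str_mk_of_range_eq {E F : C} (𝓔 : ParSh.Str E) (𝓕 : ParSh.Str F)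
    (hw : Set.range 𝓕.wt = Set.range 𝓔.wt) :
    ∃ (pF : Fin (𝓔.l + 1) → Subobject F) (bF : Subobject F) (h1 : pF 0 = ⊤) (h2 : Antitone pF)
      (h3 : ∀ j, bF ≤ pF j),
      𝓕 = ⟨𝓔.l, pF, bF, 𝓔.wt, h1, h2, h3, 𝓔.wt_strictMono, 𝓔.wt_nonneg, 𝓔.wt_lt_one⟩ := by
  obtain ⟨lF, pF, bF, wF, h1, h2, h3, h4, h5, h6⟩ := 𝓕
  change Set.range wF = Set.range 𝓔.wt at hw
  have hcard : lF + 1 = 𝓔.l + 1 := by
    have e1 : (Finset.univ.image wF).card = lF + 1 := by
      rw [Finset.card_image_of_injective _ h4.injective, Finset.card_univ, Fintype.card_fin]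
    have e2 : (Finset.univ.image 𝓔.wt).card = 𝓔.l + 1 := by
      rw [Finset.card_image_of_injective _ 𝓔.wt_strictMono.injective, Finset.card_univ, Fintype.card_fin]
    have e3 : Finset.univ.image wF = Finset.univ.image 𝓔.wt := by
      apply Finset.coe_injective
      simp only [Finset.coe_image, Finset.coe_univ, Set.image_univ]
      exact hw
    rw [← e1, ← e2, e3]
  have hl : lF = 𝓔.l := by omega
  subst hl
  have hwF : wF = 𝓔.wt := (StrictMono.range_inj h4 𝓔.wt_strictMono).1 hw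
  subst hwF
  exact ⟨pF, bF, h1, h2, h3, rfl⟩

end Weights

theorem poly_eq_of_eventually_eq {A B : ℚ[X]}
    (h : ∃ M : ℕ, ∀ m : ℕ, M ≤ m → A.eval (m : ℚ) = B.eval (m : ℚ)) : A = B := by
  obtain ⟨M, hM⟩ := h
  refine Polynomial.eq_of_infinite_eval_eq A B ?_
  refine Set.infinite_of_injective_forall_mem (f := fun m : ℕ => ((m + M : ℕ) : ℚ))
    (fun a b hab => by
      have hab' : ((a + M : ℕ) : ℚ) = ((b + M : ℕ) : ℚ) := hab
      have : (a + M : ℕ) = b + M := by exact_mod_cast hab'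
      omega) ?_
  intro m
  exact hM (m + M) (Nat.le_add_left _ _)

theorem rpoly_eq_of_eventually_eq {A B : ℝ[X]}
    (h : ∃ M : ℕ, ∀ m : ℕ, M ≤ m → A.eval (m : ℝ) = B.eval (m : ℝ)) : A = B := by
  obtain ⟨M, hM⟩ := h
  refine Polynomial.eq_of_infinite_eval_eq A B ?_
  refine Set.infinite_of_injective_forall_mem (f := fun m : ℕ => ((m + M : ℕ) : ℝ))
    (fun a b hab => by
      have hab' : ((a + M : ℕ) : ℝ) = ((b + M : ℕ) : ℝ) := hab
      have : (a + M : ℕ) = b + M := by exact_mod_cast hab'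
      omega) ?_
  intro m
  exact hM (m + M) (Nat.le_add_left _ _)

section Sandwich

variable {C : Type*} [Category C] {G : C} (𝓐 : ParSh.Str G)

theorem parPoly_sandwich (PX PX' : Fin (𝓐.l + 2) → ℚ[X])
    (hle : ∀ j, ∃ M : ℕ, ∀ m : ℕ, M ≤ m → (PX j).eval (m : ℚ) ≤ (PX' j).eval (m : ℚ))
    (hge : ∃ M : ℕ, ∀ m : ℕ, M ≤ m →
      (W4swparbununimod.parPoly 𝓐 PX').eval (m : ℝ) ≤ (W4swparbununimod.parPoly 𝓐 PX).eval (m : ℝ)) :
    (∀ j : Fin (𝓐.l + 1), PX j.succ = PX' j.succ) ∧ (0 < 𝓐.wt 0 → PX 0 = PX' 0) := by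
  obtain ⟨M1, hM1⟩ := ParSS97.exists_forall_fin _ hle
  obtain ⟨M2, hM2⟩ := hge
  -- for `m` large all the terms of the difference vanish
  have key : ∀ m : ℕ, max M1 M2 ≤ m →
      𝓐.wt 0 * ((((PX' 0).eval (m : ℚ) : ℚ) : ℝ) - (((PX 0).eval (m : ℚ) : ℚ) : ℝ)) = 0 ∧
      ∀ j : Fin (𝓐.l + 1), (𝓐.wtX j.succ - 𝓐.wtX j.castSucc) *
        ((((PX' j.succ).eval (m : ℚ) : ℚ) : ℝ) - (((PX j.succ).eval (m : ℚ) : ℚ) : ℝ)) = 0 := by
    intro m hm
    have h1 := hM1 m ((le_max_left _ _).trans hm)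
    have h2 := hM2 m ((le_max_right _ _).trans hm)
    rw [ParSS97.eval_parPoly_comb, ParSS97.eval_parPoly_comb] at h2
    have h0 : 0 ≤ 𝓐.wt 0 * ((((PX' 0).eval (m : ℚ) : ℚ) : ℝ) - (((PX 0).eval (m : ℚ) : ℚ) : ℝ)) :=
      mul_nonneg 𝓐.wt_nonneg (sub_nonneg.2 (by exact_mod_cast h1 0))
    have hj : ∀ j : Fin (𝓐.l + 1), 0 ≤ (𝓐.wtX j.succ - 𝓐.wtX j.castSucc) *
        ((((PX' j.succ).eval (m : ℚ) : ℚ) : ℝ) - (((PX j.succ).eval (m : ℚ) : ℚ) : ℝ)) := fun j =>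
      mul_nonneg (ParSS97.wtX_step_pos 𝓐 j).le (sub_nonneg.2 (by exact_mod_cast h1 j.succ))
    have hs : 𝓐.wt 0 * ((((PX' 0).eval (m : ℚ) : ℚ) : ℝ) - (((PX 0).eval (m : ℚ) : ℚ) : ℝ)) +
        ∑ j : Fin (𝓐.l + 1), (𝓐.wtX j.succ - 𝓐.wtX j.castSucc) *
          ((((PX' j.succ).eval (m : ℚ) : ℚ) : ℝ) - (((PX j.succ).eval (m : ℚ) : ℚ) : ℝ)) ≤ 0 := by
      have e : ∑ j : Fin (𝓐.l + 1), (𝓐.wtX j.succ - 𝓐.wtX j.castSucc) *
          ((((PX' j.succ).eval (m : ℚ) : ℚ) : ℝ) - (((PX j.succ).eval (m : ℚ) : ℚ) : ℝ)) =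
          ∑ j : Fin (𝓐.l + 1), (𝓐.wtX j.succ - 𝓐.wtX j.castSucc) * (((PX' j.succ).eval (m : ℚ) : ℚ) : ℝ) -
          ∑ j : Fin (𝓐.l + 1), (𝓐.wtX j.succ - 𝓐.wtX j.castSucc) * (((PX j.succ).eval (m : ℚ) : ℚ) : ℝ) := by
        rw [← Finset.sum_sub_distrib]
        exact Finset.sum_congr rfl fun j _ => by ring
      rw [e]
      linarith
    have hsum0 : 0 ≤ ∑ j : Fin (𝓐.l + 1), (𝓐.wtX j.succ - 𝓐.wtX j.castSucc) *
        ((((PX' j.succ).eval (m : ℚ) : ℚ) : ℝ) - (((PX j.succ).eval (m : ℚ) : ℚ) : ℝ)) :=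
      Finset.sum_nonneg fun j _ => hj j
    refine ⟨by linarith, fun j => ?_⟩
    have hsum : ∑ j : Fin (𝓐.l + 1), (𝓐.wtX j.succ - 𝓐.wtX j.castSucc) *
        ((((PX' j.succ).eval (m : ℚ) : ℚ) : ℝ) - (((PX j.succ).eval (m : ℚ) : ℚ) : ℝ)) = 0 := by
      linarith
    exact (Finset.sum_eq_zero_iff_of_nonneg fun j _ => hj j).1 hsum j (Finset.mem_univ j)
  constructor
  · intro j
    apply poly_eq_of_eventually_eq
    refine ⟨max M1 M2, fun m hm => ?_⟩
    have := (key m hm).2 j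
    rcases mul_eq_zero.1 this with h | h
    · exact absurd h (ParSS97.wtX_step_pos 𝓐 j).ne'
    · have h' : (((PX' j.succ).eval (m : ℚ) : ℚ) : ℝ) = (((PX j.succ).eval (m : ℚ) : ℚ) : ℝ) := by linarith
      exact_mod_cast h'.symm
  · intro hw0
    apply poly_eq_of_eventually_eq
    refine ⟨max M1 M2, fun m hm => ?_⟩
    have := (key m hm).1
    rcases mul_eq_zero.1 this with h | h
    · exact absurd h hw0.ne'
    · have h' : (((PX' 0).eval (m : ℚ) : ℚ) : ℝ) = (((PX 0).eval (m : ℚ) : ℚ) : ℝ) := by linarith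
      exact_mod_cast h'.symm

/-- all-zero Hilbert polynomials give the zero parabolic polynomial value -/
theorem eval_parPoly_zero (PX : Fin (𝓐.l + 2) → ℚ[X]) (h : ∀ j, PX j = 0) (m : ℕ) :
    (W4swparbununimod.parPoly 𝓐 PX).eval (m : ℝ) = 0 := by
  rw [ParSS97.eval_parPoly]
  simp [h]

/-- additivity in the family of polynomials -/
theorem eval_parPoly_sub (PX PX' : Fin (𝓐.l + 2) → ℚ[X]) (m : ℕ) :
    (W4swparbununimod.parPoly 𝓐 (fun j => PX j - PX' j)).eval (m : ℝ) =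
      (W4swparbununimod.parPoly 𝓐 PX).eval (m : ℝ) - (W4swparbununimod.parPoly 𝓐 PX').eval (m : ℝ) := by
  rw [ParSS97.eval_parPoly, ParSS97.eval_parPoly, ParSS97.eval_parPoly]
  simp only [eval_sub, Rat.cast_sub]
  have : ∀ j : Fin (𝓐.l + 1), 𝓐.wt j *
      ((((PX j.castSucc).eval (m : ℚ) : ℚ) : ℝ) - (((PX' j.castSucc).eval (m : ℚ) : ℚ) : ℝ) -
        ((((PX j.succ).eval (m : ℚ) : ℚ) : ℝ) - (((PX' j.succ).eval (m : ℚ) : ℚ) : ℝ))) =
      𝓐.wt j * ((((PX j.castSucc).eval (m : ℚ) : ℚ) : ℝ) - (((PX j.succ).eval (m : ℚ) : ℚ) : ℝ)) -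
      𝓐.wt j * ((((PX' j.castSucc).eval (m : ℚ) : ℚ) : ℝ) - (((PX' j.succ).eval (m : ℚ) : ℚ) : ℝ)) :=
    fun j => by ring
  rw [Finset.sum_congr rfl fun j _ => this j, Finset.sum_sub_distrib]
  ring

end Sandwich

section Abelian

variable {C : Type u} [Category.{v} C] [Abelian C]

/-- equal weights, pieces and bottoms give equal real-indexed filtrations -/
theorem at_eq_of_eq {V : C} (𝓐 𝓑 : ParSh.Str V) (hl : 𝓐.l = 𝓑.l)
    (hwt : ∀ (j : Fin (𝓐.l + 1)) (j' : Fin (𝓑.l + 1)), (j : ℕ) = (j' : ℕ) → 𝓐.wt j = 𝓑.wt j')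
    (hp : ∀ (j : Fin (𝓐.l + 1)) (j' : Fin (𝓑.l + 1)), (j : ℕ) = (j' : ℕ) → 𝓐.piece j = 𝓑.piece j')
    (hb : 𝓐.bot = 𝓑.bot) (a : ℝ) : 𝓐.at a = 𝓑.at a := by
  apply le_antisymm
  · refine 𝓐.at_le (fun j hj => ?_) (hb ▸ 𝓑.bot_le_at a)
    have hj' : (j : ℕ) < 𝓑.l + 1 := by have := j.2; omega
    rw [hp j ⟨j, hj'⟩ rfl]
    exact 𝓑.piece_le_at _ (by rw [← hwt j ⟨j, hj'⟩ rfl]; exact hj)
  · refine 𝓑.at_le (fun j hj => ?_) (hb ▸ 𝓐.bot_le_at a)
    have hj' : (j : ℕ) < 𝓐.l + 1 := by have := j.2; omega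
    rw [← hp ⟨j, hj'⟩ j rfl]
    exact 𝓐.piece_le_at _ (by rw [hwt ⟨j, hj'⟩ j rfl]; exact hj)

/-- the image of `h` lies in the preimage of `P` under `u` as soon as `h ≫ u` factors through `P` -/
theorem imageSubobject_le_pullback {A V F : C} (h : A ⟶ V) (u : V ⟶ F) (P : Subobject F)
    (hfac : P.Factors (h ≫ u)) : imageSubobject h ≤ (Subobject.pullback u).obj P := by
  have sq := Subobject.isPullback u P
  refine imageSubobject_le h (sq.lift (P.factorThru (h ≫ u) hfac) h (by simp)) ?_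
  exact sq.lift_snd _ _ _

theorem exists_mono_pullback_of_fac {W W' E : C} (f : W ⟶ W') [Mono f] (a' : W' ⟶ E) (u : W ⟶ E)
    (hfac : f ≫ a' = u) (P : Subobject E) :
    ∃ g : ((Subobject.pullback u).obj P : C) ⟶ ((Subobject.pullback a').obj P : C), Mono g := by
  subst hfac
  rw [Subobject.pullback_comp]
  refine ⟨Subobject.pullbackπ f _, ?_⟩
  have sq := Subobject.isPullback f ((Subobject.pullback a').obj P)
  have : Mono (Subobject.pullbackπ f ((Subobject.pullback a').obj P) ≫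
      ((Subobject.pullback a').obj P).arrow) := by
    rw [sq.w]; exact mono_comp _ _
  exact mono_of_mono _ ((Subobject.pullback a').obj P).arrow

/-- subobjects of a zero object are all equal -/
theorem subobject_eq_of_isZero {V : C} (hV : IsZero V) (A B : Subobject V) : A = B := by
  have h : ∀ A B : Subobject V, A ≤ B := fun A B =>
    Subobject.le_of_comm 0 (hV.eq_of_tgt _ _)
  exact le_antisymm (h A B) (h B A)

end Abelian

end Groth.Agent.Lib.ParHom97
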