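import Groth.Agent.Lib.ParSS97
import Groth.Agent.Lib.StabGeom48c

/-!
# The first modified parabolic polynomial is bounded by the parabolic polynomial of the induced filtration (helper97)

* `eval_le_of_isSemistable` : for a coherent submodule `S` of a semistable `B` of dimension `e`,
  `P_S(m) ≤ (α_e(P_S)/α_e(P_B)) · P_B(m)` for large `m` (trivial cases included).
* `isCoh_induced_pieceX`, `isHilbPoly_induced_pieceX` (pieces of the induced filtration: coherent, Hilbert polynomial `Q - QH j`).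
* `parPolyOne_le_parPoly` : if all flag quotients `E / E_j` (`1 ≤ j ≤ l+1`) are semistable of dimension `d - 1`, then
  `par-P₁(W ⊂ E)(m) ≤ Par_W(m)` for large `m`.
* `exists_mono_pullback_comp` : `W ∩ E_j ⟶ W' ∩ E_j` is a monomorphism for `W ⊆ W'`.
-/

set_option autoImplicit false
set_option maxHeartbeats 400000
universe u
open CategoryTheory CategoryTheory.Limits AlgebraicGeometry Polynomial

namespace Groth.Agent.Lib.ParSS97

open Groth.Agent.Lib Groth.Agent.Lib.HilbPoly48 Groth.Agent.Lib.StabGeom48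

section Abelian

variable {C : Type*} [Category C] [Abelian C]

theorem exists_mono_pullback_comp {W W' E : C} (f : W ⟶ W') [Mono f] (a' : W' ⟶ E) (P : Subobject E) :
    ∃ g : ((Subobject.pullback (f ≫ a')).obj P : C) ⟶ ((Subobject.pullback a').obj P : C), Mono g := by
  rw [Subobject.pullback_comp]
  refine ⟨Subobject.pullbackπ f _, ?_⟩
  have sq := Subobject.isPullback f ((Subobject.pullback a').obj P)
  have : Mono (Subobject.pullbackπ f ((Subobject.pullback a').obj P) ≫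
      ((Subobject.pullback a').obj P).arrow) := by
    rw [sq.w]; exact mono_comp _ _
  exact mono_of_mono _ ((Subobject.pullback a').obj P).arrow

end Abelian

variable (H : ProperFinHyp.Hyp.{u})
variable (k : Type u) [Field k] (X : Scheme.{u}) [X.Over (Spec (CommRingCat.of k))]
  [IsProper (X ↘ Spec (CommRingCat.of k))]

include H in
theorem eval_le_of_isSemistable {L : X.Modules} (hL : CohB1.IsAmple L) {e : ℕ} {B S : X.Modules}
    (hB : ShStab.IsSemistable k X L B e) (g : S ⟶ B) [Mono g] (hS : Coh.IsCoh S) {pS pB : ℚ[X]}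
    (hpS : ShStab.IsHilbPoly k X L S pS) (hpB : ShStab.IsHilbPoly k X L B pB) :
    ∃ M : ℕ, ∀ m : ℕ, M ≤ m →
      pS.eval (m : ℚ) ≤ (StabCat.alpha e pS / StabCat.alpha e pB) * pB.eval (m : ℚ) := by
  obtain ⟨hBc, hB0, hBp, hss⟩ := hB
  have aB : 0 < StabCat.alpha e pB := alpha_pos_of_isPure H k X hL hBp (𝟙 B) hBc hB0 hpB
  by_cases hS0 : IsZero S
  · have : pS = 0 := isHilbPoly_unique hpS (isHilbPoly_zero k X L hS0)
    subst this
    exact ⟨0, fun m _ => by simp [alpha_zero]⟩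
  by_cases hiso : IsIso g
  · have : pS = pB := isHilbPoly_unique (isHilbPoly_congr (asIso g) hpS) hpB
    subst this
    refine ⟨0, fun m _ => ?_⟩
    rw [div_self aB.ne', one_mul]
  · obtain ⟨N, hN⟩ := hss S g inferInstance hS hS0 hiso pS pB hpS hpB
    refine ⟨N, fun m hm => ?_⟩
    have h1 := hN m hm
    rw [eval_smul, eval_smul, smul_eq_mul, smul_eq_mul] at h1
    rw [div_mul_eq_mul_div, le_div_iff₀ aB]
    linarith

section Induced

variable {L : X.Modules} (hL : CohB1.IsAmple L) {E : X.Modules} (hE : Coh.IsCoh E) (𝓔 : ParSh.Str E)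
  (hcoh : ∀ j, Coh.IsCoh ((𝓔.pieceX j : Subobject E) : X.Modules))
  {W : X.Modules} (ι : W ⟶ E) [Mono ι] (hW : Coh.IsCoh W)

omit [X.Over (Spec (CommRingCat.of k))] [IsProper (X ↘ Spec (CommRingCat.of k))] in
include hE hcoh hW in
theorem isCoh_induced_pieceX [IsLocallyNoetherian X] (j : Fin (𝓔.l + 2)) :
    Coh.IsCoh (((𝓔.induced ι).pieceX j : Subobject W) : X.Modules) := by
  haveI : W.IsQuasicoherent := hW.1
  have hcokι : Coh.IsCoh (cokernel ι) := H90OXModExact.isCoh_cokernel ι hE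
  rw [ParHilb48.induced_pieceX]
  exact ParHilb48.isCoh_pullback_piece ι (cokernel.π ι) (cokernel.condition ι)
    (H90DevTwo.shortExact_cokernel ι) hcokι _ (hcoh j)

include H hL hE hcoh hW in
theorem isHilbPoly_induced_pieceX {Q : ℚ[X]} (hQ : ShStab.IsHilbPoly k X L W Q)
    {QH : Fin (𝓔.l + 2) → ℚ[X]}
    (hQH : ∀ j, ShStab.IsHilbPoly k X L (cokernel ((𝓔.induced ι).pieceX j).arrow) (QH j))
    (j : Fin (𝓔.l + 2)) :
    ShStab.IsHilbPoly k X L (((𝓔.induced ι).pieceX j : Subobject W) : X.Modules) (Q - QH j) := by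
  haveI := ParHilb48.isLocallyNoetherian k X
  have hWj := isCoh_induced_pieceX X hE 𝓔 hcoh ι hW j
  haveI : (((𝓔.induced ι).pieceX j : Subobject W) : X.Modules).IsQuasicoherent := hWj.1
  have hc : Coh.IsCoh (cokernel ((𝓔.induced ι).pieceX j).arrow) :=
    H90OXModExact.isCoh_cokernel _ hW
  exact isHilbPoly_sub_right H k X hL.1 _ (SubobjSES48.shortExact_cokernel ((𝓔.induced ι).pieceX j))
    hWj hW hc hQ (hQH j)

include H hL hE hcoh hW in
/-- `par-P₁(W ⊂ E)(m) ≤ Par_W(m)` for large `m` when the flag quotients are semistable of dimension `d - 1` -/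
theorem parPolyOne_le_parPoly {d : ℕ} {Hq : Fin (𝓔.l + 2) → ℚ[X]}
    (hH : ∀ j, ShStab.IsHilbPoly k X L (cokernel (𝓔.pieceX j).arrow) (Hq j))
    (hq : ∀ j : Fin (𝓔.l + 1), ShStab.IsSemistable k X L (cokernel (𝓔.pieceX j.succ).arrow) (d - 1))
    {Q : ℚ[X]} (hQ : ShStab.IsHilbPoly k X L W Q) {QH : Fin (𝓔.l + 2) → ℚ[X]}
    (hQH : ∀ j, ShStab.IsHilbPoly k X L (cokernel ((𝓔.induced ι).pieceX j).arrow) (QH j)) :
    ∃ M : ℕ, ∀ m : ℕ, M ≤ m →
      (W4swparbununimod.parPolyOne 𝓔 d Q QH Hq).eval (m : ℝ) ≤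
        (W4swparbununimod.parPoly (𝓔.induced ι) (fun j => Q - QH j)).eval (m : ℝ) := by
  have hQH0 : QH 0 = 0 := ParPoly97.hilbPoly_cokernel_pieceX_zero k X (𝓔.induced ι) (hQH 0)
  -- flag comparison
  have hflag : ∀ j : Fin (𝓔.l + 1), ∃ M : ℕ, ∀ m : ℕ, M ≤ m →
      (QH j.succ).eval (m : ℚ) ≤
        (StabCat.alpha (d - 1) (QH j.succ) / StabCat.alpha (d - 1) (Hq j.succ)) *
          (Hq j.succ).eval (m : ℚ) := by
    intro j
    haveI := ParHilb48.isLocallyNoetherian k X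
    have hWj := isCoh_induced_pieceX X hE 𝓔 hcoh ι hW j.succ
    haveI : (((𝓔.induced ι).pieceX j.succ : Subobject W) : X.Modules).IsQuasicoherent := hWj.1
    have hc : Coh.IsCoh (cokernel ((𝓔.induced ι).pieceX j.succ).arrow) :=
      H90OXModExact.isCoh_cokernel _ hW
    have hex : ∃ g : cokernel ((𝓔.induced ι).pieceX j.succ).arrow ⟶ cokernel (𝓔.pieceX j.succ).arrow,
        Mono g := by
      rw [ParHilb48.induced_pieceX]
      obtain ⟨g, hg, -⟩ := ParSupp97.exists_mono_cokernel_pullback ι (𝓔.pieceX j.succ)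
      exact ⟨g, hg⟩
    obtain ⟨g, hg⟩ := hex
    haveI := hg
    exact eval_le_of_isSemistable H k X hL (hq j) g hc (hQH j.succ) (hH j.succ)
  obtain ⟨M, hM⟩ := exists_forall_fin _ hflag
  refine ⟨M, fun m hm => ?_⟩
  rw [eval_parPolyOne, eval_parPoly_quot]
  have e0 : (((fun j => Q - QH j) (0 : Fin ((𝓔.induced ι).l + 2))).eval (m : ℚ) : ℚ) = Q.eval (m : ℚ) := by
    change (Q - QH 0).eval (m : ℚ) = _
    rw [hQH0, sub_zero]
  rw [e0]
  apply sub_le_sub_left
  refine Finset.sum_le_sum fun j _ => ?_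
  have h1 := hM m hm j
  have h2 : ((((fun j => Q - QH j) j.succ).eval (m : ℚ) : ℚ) : ℝ) =
      ((Q.eval (m : ℚ) : ℚ) : ℝ) - (((QH j.succ).eval (m : ℚ) : ℚ) : ℝ) := by
    change (((Q - QH j.succ).eval (m : ℚ) : ℚ) : ℝ) = _
    rw [eval_sub]; push_cast; ring
  rw [h2]
  have h3 : (((QH j.succ).eval (m : ℚ) : ℚ) : ℝ) ≤
      ((StabCat.alpha (d - 1) (QH j.succ) / StabCat.alpha (d - 1) (Hq j.succ) : ℚ) : ℝ) *
        (((Hq j.succ).eval (m : ℚ) : ℚ) : ℝ) := by
    exact_mod_cast h1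
  have hc := wtX_step_pos 𝓔 j
  change ((𝓔.wtX j.succ - 𝓔.wtX j.castSucc)) *
      (((Q.eval (m : ℚ) : ℚ) : ℝ) - (((Q.eval (m : ℚ) : ℚ) : ℝ) - (((QH j.succ).eval (m : ℚ) : ℚ) : ℝ))) ≤ _
  rw [mul_assoc]
  apply mul_le_mul_of_nonneg_left _ hc.le
  rw [sub_sub_cancel]
  exact h3

end Induced

end Groth.Agent.Lib.ParSS97
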