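import Groth.Agent.Lib.StabGeom48c
import Groth.Agent.Lib.MaxSub48

/-!
# Geometric toolkit for (semi)stability, part d (helper48): saturated subsheaves and quotients

* `exists_saturated_sub` : the saturation `F'` of a coherent `F ⊆ E` (`E/F'` pure of dimension `d`,
  `α_d(F') = α_d(F)`, `P_F ≤ P_{F'}`).
* `tfae_semistable` (S15197), `tfae_stable` (S15198).
-/

set_option autoImplicit false
set_option linter.style.haveILetI false
universe u
open CategoryTheory CategoryTheory.Limits AlgebraicGeometry TopologicalSpace Polynomial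

namespace Groth.Agent.Lib.StabGeom48

open Groth.Agent.Lib Groth.Agent.Lib.HilbPoly48 Groth.Agent.Lib.H90DevHub2 Groth.Agent.Lib.TopPart48

section General

variable {X : Scheme.{u}}

theorem isPure_of_iso {R R' : X.Modules} {d : ℕ} (e : R ≅ R') (h : ShStab.IsPure X R d) :
    ShStab.IsPure X R' d := fun F ι hι hF hF0 =>
  haveI := hι
  h F (ι ≫ e.inv) (mono_comp _ _) hF hF0

end General

section Proper

variable (H : ProperFinHyp.Hyp.{u})
variable (k : Type u) [Field k] (X : Scheme.{u}) [X.Over (Spec (CommRingCat.of k))]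
  [IsProper (X ↘ Spec (CommRingCat.of k))]

include H in
/-- The saturation of a coherent submodule. -/
theorem exists_saturated_sub {L : X.Modules} (hL : CohB1.IsAmple L) {d : ℕ} {E : X.Modules}
    (hEc : Coh.IsCoh E) (hdim : topologicalKrullDim (CohB1.support E) ≤ (d : WithBot ℕ∞))
    {F : X.Modules} (ι : F ⟶ E) [Mono ι] (hF : Coh.IsCoh F) {pF pE : ℚ[X]}
    (hpF : ShStab.IsHilbPoly k X L F pF) (hpE : ShStab.IsHilbPoly k X L E pE) :
    ∃ (F' : X.Modules) (a' : F' ⟶ E) (pF' : ℚ[X]), Mono a' ∧ Coh.IsCoh F' ∧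
      ShStab.IsPure X (cokernel a') d ∧ ShStab.IsHilbPoly k X L F' pF' ∧
      StabCat.alpha d pF' = StabCat.alpha d pF ∧ StabCat.PolyLE pF pF' ∧ ∃ f : F ⟶ F', f ≫ a' = ι := by
  haveI := EulerLE48.isNoetherian k X
  haveI : F.IsQuasicoherent := hF.1
  have hQc : Coh.IsCoh (cokernel ι) := H90OXModExact.isCoh_cokernel ι hEc
  have hQd : topologicalKrullDim (CohB1.support (cokernel ι)) ≤ (d : WithBot ℕ∞) :=
    (DimDrop.topologicalKrullDim_mono (support_subset_of_epi (cokernel.π ι))).trans hdim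
  obtain ⟨T, t, ht, hTc, hTd, hpure⟩ := MaxSub48.exists_saturation hQc d hQd
  haveI := ht
  haveI : T.IsQuasicoherent := hTc.1
  have hRc : Coh.IsCoh (cokernel t) := H90OXModExact.isCoh_cokernel t hQc
  let ρ : E ⟶ cokernel t := cokernel.π ι ≫ cokernel.π t
  haveI : Epi ρ := epi_comp _ _
  have hF'c : Coh.IsCoh (kernel ρ) := isCoh_kernel ρ hEc hRc
  have hS' : (ShortComplex.mk (kernel.ι ρ) ρ (kernel.condition ρ)).ShortExact :=
    { exact := ShortComplex.exact_kernel ρ }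
  let e : cokernel (kernel.ι ρ) ≅ cokernel t :=
    IsColimit.coconePointUniqueUpToIso (cokernelIsCokernel (kernel.ι ρ))
      (Abelian.epiIsCokernelOfKernel (KernelFork.ofι (kernel.ι ρ) (kernel.condition ρ))
        (kernelIsKernel ρ))
  -- polynomials
  have hpQ := isHilbPoly_sub_left H k X hL.1 _ (H90DevTwo.shortExact_cokernel ι) hF hEc hQc hpF hpE
  obtain ⟨pT, -, hpT⟩ := exists_isHilbPoly k X H hL.1 hTc d hTd.le
  have hpR := isHilbPoly_sub_left H k X hL.1 _ (H90DevTwo.shortExact_cokernel t) hTc hQc hRc hpT hpQ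
  have hpF' := isHilbPoly_sub_right H k X hL.1 _ hS' hF'c hEc hRc hpE hpR
  have haT := alpha_eq_zero_of_dim_lt k X H hL.1 hTc d hTd hpT
  refine ⟨kernel ρ, kernel.ι ρ, pE - (pE - pF - pT), inferInstance, hF'c, isPure_of_iso e.symm hpure,
    hpF', ?_, ?_, kernel.lift ρ ι (by simp [ρ]), kernel.lift_ι _ _ _⟩
  · rw [alpha_sub, alpha_sub, alpha_sub, haT]; ring
  · obtain ⟨N, hN⟩ := polyLE_zero k X hL hTc hpT
    refine ⟨N, fun m hm => ?_⟩
    have := hN m hm
    rw [eval_zero] at this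
    rw [eval_sub, eval_sub, eval_sub]
    linarith

include H in
/-- Semistability may be tested on saturated subsheaves. -/
theorem isSS_of_saturated {L : X.Modules} (hL : CohB1.IsAmple L) {d : ℕ} {E : X.Modules}
    (hEc : Coh.IsCoh E) (hE0 : ¬ IsZero E) (hEp : ShStab.IsPure X E d)
    (h : ∀ (F : X.Modules) (ι : F ⟶ E), Mono ι → Coh.IsCoh F → ¬ IsZero F → ¬ IsIso ι →
        ShStab.IsPure X (cokernel ι) d →
        ∀ (pF pE : ℚ[X]), ShStab.IsHilbPoly k X L F pF → ShStab.IsHilbPoly k X L E pE →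
          StabCat.RedLE d pF pE) :
    StabCat.IsSS Coh.IsCoh (ShStab.IsHilbPoly k X L) d E := by
  intro F ι hι hF hF0 hiso pF pE hpF hpE
  haveI := hι
  have hdim := dim_of_isPure hEp hEc hE0
  obtain ⟨F', a', pF', ha', hF'c, hpure, hpF', hα, hle, f, hf⟩ :=
    exists_saturated_sub H k X hL hEc hdim.le ι hF hpF hpE
  haveI := ha'
  haveI : Mono f := mono_of_mono_fac hf
  have hF'0 : ¬ IsZero F' := fun hz => hF0 (IsZero.of_mono f hz)
  have haE : 0 < StabCat.alpha d pE := alpha_pos_of_isPure H k X hL hEp (𝟙 E) hEc hE0 hpE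
  rw [redLE_iff]
  obtain ⟨N1, h1⟩ := hle
  by_cases hiso' : IsIso a'
  · haveI := hiso'
    have : pE = pF' := isHilbPoly_unique hpE (isHilbPoly_congr (asIso a') hpF')
    subst this
    refine ⟨N1, fun m hm => ?_⟩
    rw [← hα]
    exact mul_le_mul_of_nonneg_left (h1 m hm) haE.le
  · have h2 := h F' a' ha' hF'c hF'0 hiso' hpure pF' pE hpF' hpE
    rw [redLE_iff] at h2
    obtain ⟨N2, h2⟩ := h2
    refine ⟨max N1 N2, fun m hm => ?_⟩
    have e1 := h1 m ((le_max_left _ _).trans hm)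
    have e2 := h2 m ((le_max_right _ _).trans hm)
    rw [hα] at e2
    exact (mul_le_mul_of_nonneg_left e1 haE.le).trans e2

include H in
/-- Stability may be tested on saturated subsheaves. -/
theorem isSt_of_saturated {L : X.Modules} (hL : CohB1.IsAmple L) {d : ℕ} {E : X.Modules}
    (hEc : Coh.IsCoh E) (hE0 : ¬ IsZero E) (hEp : ShStab.IsPure X E d)
    (h : ∀ (F : X.Modules) (ι : F ⟶ E), Mono ι → Coh.IsCoh F → ¬ IsZero F → ¬ IsIso ι →
        ShStab.IsPure X (cokernel ι) d →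
        ∀ (pF pE : ℚ[X]), ShStab.IsHilbPoly k X L F pF → ShStab.IsHilbPoly k X L E pE →
          StabCat.RedLT d pF pE) :
    StabCat.IsSt Coh.IsCoh (ShStab.IsHilbPoly k X L) d E := by
  intro F ι hι hF hF0 hiso pF pE hpF hpE
  haveI := hι
  have hdim := dim_of_isPure hEp hEc hE0
  obtain ⟨F', a', pF', ha', hF'c, hpure, hpF', hα, hle, f, hf⟩ :=
    exists_saturated_sub H k X hL hEc hdim.le ι hF hpF hpE
  haveI := ha'
  haveI : Mono f := mono_of_mono_fac hf
  have hF'0 : ¬ IsZero F' := fun hz => hF0 (IsZero.of_mono f hz)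
  have haE : 0 < StabCat.alpha d pE := alpha_pos_of_isPure H k X hL hEp (𝟙 E) hEc hE0 hpE
  rw [redLT_iff]
  obtain ⟨N1, h1⟩ := hle
  by_cases hiso' : IsIso a'
  · haveI := hiso'
    have : pE = pF' := isHilbPoly_unique hpE (isHilbPoly_congr (asIso a') hpF')
    subst this
    haveI : F.IsQuasicoherent := hF.1
    have hC : Coh.IsCoh (cokernel ι) := H90OXModExact.isCoh_cokernel ι hEc
    have hPC := isHilbPoly_sub_left H k X hL.1 _ (H90DevTwo.shortExact_cokernel ι) hF hEc hC hpF hpE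
    have hC0 : ¬ IsZero (cokernel ι) := by
      intro hz
      haveI : Epi ι := Preadditive.epi_of_isZero_cokernel ι hz
      exact hiso (isIso_of_mono_of_epi ι)
    obtain ⟨N, hN⟩ := polyLT_zero H k X hL hC hC0 hPC
    refine ⟨N, fun m hm => ?_⟩
    rw [← hα]
    have := hN m hm
    rw [eval_zero, eval_sub] at this
    exact mul_lt_mul_of_pos_left (by linarith) haE
  · have h2 := h F' a' ha' hF'c hF'0 hiso' hpure pF' pE hpF' hpE
    rw [redLT_iff] at h2
    obtain ⟨N2, h2⟩ := h2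
    refine ⟨max N1 N2, fun m hm => ?_⟩
    have e1 := h1 m ((le_max_left _ _).trans hm)
    have e2 := h2 m ((le_max_right _ _).trans hm)
    rw [hα] at e2
    exact lt_of_le_of_lt (mul_le_mul_of_nonneg_left e1 haE.le) e2

include H in
/-- (i) ⇒ (iii). -/
theorem quotient_of_isSS {L : X.Modules} (hL : CohB1.IsAmple L) {d : ℕ} {E : X.Modules}
    (hEc : Coh.IsCoh E) (hss : StabCat.IsSS Coh.IsCoh (ShStab.IsHilbPoly k X L) d E)
    {G : X.Modules} (π : E ⟶ G) [Epi π] (hG : Coh.IsCoh G) (hiso : ¬ IsIso π) {pE pG : ℚ[X]}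
    (hpE : ShStab.IsHilbPoly k X L E pE) (hpG : ShStab.IsHilbPoly k X L G pG)
    (haG : 0 < StabCat.alpha d pG) : StabCat.RedLE d pE pG := by
  haveI := ParHilb48.isLocallyNoetherian k X
  have hK : Coh.IsCoh (kernel π) := isCoh_kernel π hEc hG
  have hS : (ShortComplex.mk (kernel.ι π) π (kernel.condition π)).ShortExact :=
    { exact := ShortComplex.exact_kernel π }
  have hpK := isHilbPoly_sub_right H k X hL.1 _ hS hK hEc hG hpE hpG
  have hK0 : ¬ IsZero (kernel π) := by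
    intro hz
    haveI : Mono π := Preadditive.mono_of_isZero_kernel π hz
    exact hiso (isIso_of_mono_of_epi π)
  have hKiso : ¬ IsIso (kernel.ι π) := by
    intro h
    have h0 := eq_zero_of_isIso_kernel_ι π h
    have hz : IsZero G := IsZero.of_epi_eq_zero π h0
    rw [isHilbPoly_unique hpG (isHilbPoly_zero k X L hz), alpha_zero] at haG
    exact lt_irrefl _ haG
  have h1 := hss _ (kernel.ι π) inferInstance hK hK0 hKiso _ _ hpK hpE
  rw [redLE_iff] at h1 ⊢
  obtain ⟨N, hN⟩ := h1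
  refine ⟨N, fun m hm => ?_⟩
  have := hN m hm
  rw [alpha_sub, eval_sub] at this
  linarith

include H in
/-- (iv) ⇒ (ii). -/
theorem sub_of_quotient_isSS {L : X.Modules} (hL : CohB1.IsAmple L) {d : ℕ} {E : X.Modules}
    (hEc : Coh.IsCoh E)
    (h4 : ∀ (G : X.Modules) (π : E ⟶ G), Epi π → Coh.IsCoh G → ¬ IsZero G → ¬ IsIso π →
        ShStab.IsPure X G d →
        ∀ (pE pG : ℚ[X]), ShStab.IsHilbPoly k X L E pE → ShStab.IsHilbPoly k X L G pG →
          StabCat.RedLE d pE pG)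
    {F : X.Modules} (ι : F ⟶ E) [Mono ι] (hF : Coh.IsCoh F) (hF0 : ¬ IsZero F) (hiso : ¬ IsIso ι)
    (hpure : ShStab.IsPure X (cokernel ι) d) {pF pE : ℚ[X]}
    (hpF : ShStab.IsHilbPoly k X L F pF) (hpE : ShStab.IsHilbPoly k X L E pE) :
    StabCat.RedLE d pF pE := by
  haveI : F.IsQuasicoherent := hF.1
  have hC : Coh.IsCoh (cokernel ι) := H90OXModExact.isCoh_cokernel ι hEc
  have hPC := isHilbPoly_sub_left H k X hL.1 _ (H90DevTwo.shortExact_cokernel ι) hF hEc hC hpF hpE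
  have hC0 : ¬ IsZero (cokernel ι) := by
    intro hz
    haveI : Epi ι := Preadditive.epi_of_isZero_cokernel ι hz
    exact hiso (isIso_of_mono_of_epi ι)
  have hπiso : ¬ IsIso (cokernel.π ι) := by
    intro h
    haveI := h
    have h0 : ι = 0 := by
      rw [← cancel_mono (cokernel.π ι), cokernel.condition, Limits.zero_comp]
    exact hF0 (IsZero.of_mono_eq_zero ι h0)
  have h1 := h4 _ (cokernel.π ι) inferInstance hC hC0 hπiso hpure _ _ hpE hPC
  rw [redLE_iff] at h1 ⊢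
  obtain ⟨N, hN⟩ := h1
  refine ⟨N, fun m hm => ?_⟩
  have := hN m hm
  rw [alpha_sub, eval_sub] at this
  linarith

include H in
/-- (i) ⇒ (iii). -/
theorem quotient_of_isSt {L : X.Modules} (hL : CohB1.IsAmple L) {d : ℕ} {E : X.Modules}
    (hEc : Coh.IsCoh E) (hss : StabCat.IsSt Coh.IsCoh (ShStab.IsHilbPoly k X L) d E)
    {G : X.Modules} (π : E ⟶ G) [Epi π] (hG : Coh.IsCoh G) (hiso : ¬ IsIso π) {pE pG : ℚ[X]}
    (hpE : ShStab.IsHilbPoly k X L E pE) (hpG : ShStab.IsHilbPoly k X L G pG)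
    (haG : 0 < StabCat.alpha d pG) : StabCat.RedLT d pE pG := by
  haveI := ParHilb48.isLocallyNoetherian k X
  have hK : Coh.IsCoh (kernel π) := isCoh_kernel π hEc hG
  have hS : (ShortComplex.mk (kernel.ι π) π (kernel.condition π)).ShortExact :=
    { exact := ShortComplex.exact_kernel π }
  have hpK := isHilbPoly_sub_right H k X hL.1 _ hS hK hEc hG hpE hpG
  have hK0 : ¬ IsZero (kernel π) := by
    intro hz
    haveI : Mono π := Preadditive.mono_of_isZero_kernel π hz
    exact hiso (isIso_of_mono_of_epi π)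
  have hKiso : ¬ IsIso (kernel.ι π) := by
    intro h
    have h0 := eq_zero_of_isIso_kernel_ι π h
    have hz : IsZero G := IsZero.of_epi_eq_zero π h0
    rw [isHilbPoly_unique hpG (isHilbPoly_zero k X L hz), alpha_zero] at haG
    exact lt_irrefl _ haG
  have h1 := hss _ (kernel.ι π) inferInstance hK hK0 hKiso _ _ hpK hpE
  rw [redLT_iff] at h1 ⊢
  obtain ⟨N, hN⟩ := h1
  refine ⟨N, fun m hm => ?_⟩
  have := hN m hm
  rw [alpha_sub, eval_sub] at this
  linarith

include H in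
/-- (iv) ⇒ (ii). -/
theorem sub_of_quotient_isSt {L : X.Modules} (hL : CohB1.IsAmple L) {d : ℕ} {E : X.Modules}
    (hEc : Coh.IsCoh E)
    (h4 : ∀ (G : X.Modules) (π : E ⟶ G), Epi π → Coh.IsCoh G → ¬ IsZero G → ¬ IsIso π →
        ShStab.IsPure X G d →
        ∀ (pE pG : ℚ[X]), ShStab.IsHilbPoly k X L E pE → ShStab.IsHilbPoly k X L G pG →
          StabCat.RedLT d pE pG)
    {F : X.Modules} (ι : F ⟶ E) [Mono ι] (hF : Coh.IsCoh F) (hF0 : ¬ IsZero F) (hiso : ¬ IsIso ι)
    (hpure : ShStab.IsPure X (cokernel ι) d) {pF pE : ℚ[X]}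
    (hpF : ShStab.IsHilbPoly k X L F pF) (hpE : ShStab.IsHilbPoly k X L E pE) :
    StabCat.RedLT d pF pE := by
  haveI : F.IsQuasicoherent := hF.1
  have hC : Coh.IsCoh (cokernel ι) := H90OXModExact.isCoh_cokernel ι hEc
  have hPC := isHilbPoly_sub_left H k X hL.1 _ (H90DevTwo.shortExact_cokernel ι) hF hEc hC hpF hpE
  have hC0 : ¬ IsZero (cokernel ι) := by
    intro hz
    haveI : Epi ι := Preadditive.epi_of_isZero_cokernel ι hz
    exact hiso (isIso_of_mono_of_epi ι)
  have hπiso : ¬ IsIso (cokernel.π ι) := by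
    intro h
    haveI := h
    have h0 : ι = 0 := by
      rw [← cancel_mono (cokernel.π ι), cokernel.condition, Limits.zero_comp]
    exact hF0 (IsZero.of_mono_eq_zero ι h0)
  have h1 := h4 _ (cokernel.π ι) inferInstance hC hC0 hπiso hpure _ _ hpE hPC
  rw [redLT_iff] at h1 ⊢
  obtain ⟨N, hN⟩ := h1
  refine ⟨N, fun m hm => ?_⟩
  have := hN m hm
  rw [alpha_sub, eval_sub] at this
  linarith

include H in
/-- **S15197.** -/
theorem tfae_semistable {L : X.Modules} (hL : CohB1.IsAmple L) (d : ℕ) {E : X.Modules}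
    (hE : Coh.IsCoh E) (h0 : ¬ IsZero E) (hp : ShStab.IsPure X E d) :
    [ShStab.IsSemistable k X L E d,
      ∀ (F : X.Modules) (ι : F ⟶ E), Mono ι → Coh.IsCoh F → ¬ IsZero F → ¬ IsIso ι →
        ShStab.IsPure X (cokernel ι) d →
        ∀ (pF pE : ℚ[X]), ShStab.IsHilbPoly k X L F pF → ShStab.IsHilbPoly k X L E pE → StabCat.RedLE d pF pE,
      ∀ (G : X.Modules) (π : E ⟶ G), Epi π → Coh.IsCoh G → ¬ IsIso π →
        ∀ (pE pG : ℚ[X]), ShStab.IsHilbPoly k X L E pE → ShStab.IsHilbPoly k X L G pG → 0 < StabCat.alpha d pG →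
          StabCat.RedLE d pE pG,
      ∀ (G : X.Modules) (π : E ⟶ G), Epi π → Coh.IsCoh G → ¬ IsZero G → ¬ IsIso π →
        ShStab.IsPure X G d →
        ∀ (pE pG : ℚ[X]), ShStab.IsHilbPoly k X L E pE → ShStab.IsHilbPoly k X L G pG → StabCat.RedLE d pE pG].TFAE := by
  tfae_have 1 → 3 := by
    intro h G π hπ hG hiso pE pG hpE hpG haG
    haveI := hπ
    exact quotient_of_isSS H k X hL hE h.2.2.2 π hG hiso hpE hpG haG
  tfae_have 3 → 4 := by
    intro h G π hπ hG hG0 hiso hGp pE pG hpE hpG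
    exact h G π hπ hG hiso pE pG hpE hpG (alpha_pos_of_isPure H k X hL hGp (𝟙 G) hG hG0 hpG)
  tfae_have 4 → 2 := by
    intro h F ι hι hF hF0 hiso hpure pF pE hpF hpE
    haveI := hι
    exact sub_of_quotient_isSS H k X hL hE h ι hF hF0 hiso hpure hpF hpE
  tfae_have 2 → 1 := by
    intro h
    exact ⟨hE, h0, hp, isSS_of_saturated H k X hL hE h0 hp h⟩
  tfae_finish

include H in
/-- **S15198.** -/
theorem tfae_stable {L : X.Modules} (hL : CohB1.IsAmple L) (d : ℕ) {E : X.Modules}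
    (hE : Coh.IsCoh E) (h0 : ¬ IsZero E) (hp : ShStab.IsPure X E d) :
    [ShStab.IsStable k X L E d,
      ∀ (F : X.Modules) (ι : F ⟶ E), Mono ι → Coh.IsCoh F → ¬ IsZero F → ¬ IsIso ι →
        ShStab.IsPure X (cokernel ι) d →
        ∀ (pF pE : ℚ[X]), ShStab.IsHilbPoly k X L F pF → ShStab.IsHilbPoly k X L E pE → StabCat.RedLT d pF pE,
      ∀ (G : X.Modules) (π : E ⟶ G), Epi π → Coh.IsCoh G → ¬ IsIso π →
        ∀ (pE pG : ℚ[X]), ShStab.IsHilbPoly k X L E pE → ShStab.IsHilbPoly k X L G pG → 0 < StabCat.alpha d pG →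
          StabCat.RedLT d pE pG,
      ∀ (G : X.Modules) (π : E ⟶ G), Epi π → Coh.IsCoh G → ¬ IsZero G → ¬ IsIso π →
        ShStab.IsPure X G d →
        ∀ (pE pG : ℚ[X]), ShStab.IsHilbPoly k X L E pE → ShStab.IsHilbPoly k X L G pG → StabCat.RedLT d pE pG].TFAE := by
  tfae_have 1 → 3 := by
    intro h G π hπ hG hiso pE pG hpE hpG haG
    haveI := hπ
    exact quotient_of_isSt H k X hL hE h.2.2.2 π hG hiso hpE hpG haG
  tfae_have 3 → 4 := by
    intro h G π hπ hG hG0 hiso hGp pE pG hpE hpG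
    exact h G π hπ hG hiso pE pG hpE hpG (alpha_pos_of_isPure H k X hL hGp (𝟙 G) hG hG0 hpG)
  tfae_have 4 → 2 := by
    intro h F ι hι hF hF0 hiso hpure pF pE hpF hpE
    haveI := hι
    exact sub_of_quotient_isSt H k X hL hE h ι hF hF0 hiso hpure hpF hpE
  tfae_have 2 → 1 := by
    intro h
    exact ⟨hE, h0, hp, isSt_of_saturated H k X hL hE h0 hp h⟩
  tfae_finish

end Proper

end Groth.Agent.Lib.StabGeom48
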