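import Groth.Agent.Lib.ParHom97a
import Groth.Agent.Lib.ParSS97b
import Groth.Agent.Lib.StabGeom48d

/-!
# Geometric lemmas for parabolic homomorphisms between semistable parabolic sheaves (helper97)

* `mkLike` : a weighted filtration with the length and weights of another one.
* `factors_pieceX`, `coinduced_le_induced` : a parabolic homomorphism `f = q ≫ u` maps pieces into pieces; the quotient
  filtration on the image is below the sub filtration.
* `shortExact_of_fac` : `0 → K → E → V → 0` from `0 → K → E → F` exact and `f = q ≫ u`.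
* `isIso_of_mono_of_hilbPoly_eq`, `subobject_eq_of_hilbPoly_eq`.
* `isHilbPoly_coinduced_pieceX`, `isHilbPoly_pieceX_zero`.
* `ss_extend`, `chain_eq`.
-/

set_option autoImplicit false
set_option maxHeartbeats 400000
set_option linter.style.haveILetI false
universe v u
open CategoryTheory CategoryTheory.Limits AlgebraicGeometry Polynomial

namespace Groth.Agent.Lib.ParHom97

open Groth.Agent.Lib Groth.Agent.Lib.HilbPoly48 Groth.Agent.Lib.StabGeom48

section Generic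

variable {C : Type u} [Category.{v} C]

/-- a weighted filtration on `F` with the length and the weights of `𝓔` -/
abbrev mkLike {E F : C} (𝓔 : ParSh.Str E) (pF : Fin (𝓔.l + 1) → Subobject F) (bF : Subobject F)
    (h1 : pF 0 = ⊤) (h2 : Antitone pF) (h3 : ∀ j, bF ≤ pF j) : ParSh.Str F :=
  ⟨𝓔.l, pF, bF, 𝓔.wt, h1, h2, h3, 𝓔.wt_strictMono, 𝓔.wt_nonneg, 𝓔.wt_lt_one⟩

theorem exists_mkLike {E F : C} (𝓔 : ParSh.Str E) (𝓕 : ParSh.Str F)
    (hw : Set.range 𝓕.wt = Set.range 𝓔.wt) :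
    ∃ (pF : Fin (𝓔.l + 1) → Subobject F) (bF : Subobject F) (h1 : pF 0 = ⊤) (h2 : Antitone pF)
      (h3 : ∀ j, bF ≤ pF j), 𝓕 = mkLike 𝓔 pF bF h1 h2 h3 :=
  str_mk_of_range_eq 𝓔 𝓕 hw

end Generic

section Abelian

variable {C : Type u} [Category.{v} C] [Abelian C]

theorem wt_lt_one' {E : C} (𝓔 : ParSh.Str E) (j : Fin (𝓔.l + 1)) : 𝓔.wt j < 1 :=
  lt_of_le_of_lt (𝓔.wt_strictMono.monotone (Fin.le_last j)) 𝓔.wt_lt_one

theorem factors_pieceX {E F : C} (𝓔 : ParSh.Str E) (pF : Fin (𝓔.l + 1) → Subobject F) (bF : Subobject F)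
    (h1 : pF 0 = ⊤) (h2 : Antitone pF) (h3 : ∀ j, bF ≤ pF j) (f : E ⟶ F)
    (hf : ParSh.IsParHom 𝓔 (mkLike 𝓔 pF bF h1 h2 h3) f) (jj : Fin (𝓔.l + 2)) :
    ((mkLike 𝓔 pF bF h1 h2 h3).pieceX jj).Factors ((𝓔.pieceX jj).arrow ≫ f) := by
  refine Fin.lastCases ?_ (fun j' => ?_) jj
  · have h := hf 1 zero_le_one le_rfl
    rw [𝓔.at_eq_bot (wt_lt_one' 𝓔),
      (mkLike 𝓔 pF bF h1 h2 h3).at_eq_bot (wt_lt_one' 𝓔)] at h
    rw [𝓔.pieceX_last]
    exact ((mkLike 𝓔 pF bF h1 h2 h3).pieceX_last).symm ▸ h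
  · have h := hf (𝓔.wt j') (ParPoly97.wt_nonneg' 𝓔 j') (ParPoly97.wt_le_one 𝓔 j')
    rw [𝓔.at_eq_piece j' le_rfl (fun j'' hj'' => 𝓔.wt_strictMono hj''),
      (mkLike 𝓔 pF bF h1 h2 h3).at_eq_piece j' le_rfl (fun j'' hj'' => 𝓔.wt_strictMono hj'')] at h
    rw [𝓔.pieceX_castSucc]
    exact ((mkLike 𝓔 pF bF h1 h2 h3).pieceX_castSucc j').symm ▸ h

theorem shortExact_of_fac {K E V F : C} (j : K ⟶ E) [Mono j] (f : E ⟶ F) (w : j ≫ f = 0)
    (hex : (ShortComplex.mk j f w).Exact) (q : E ⟶ V) [Epi q] (u : V ⟶ F) [Mono u] (hqu : q ≫ u = f) :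
    ∃ w' : j ≫ q = 0, (ShortComplex.mk j q w').ShortExact := by
  have w' : j ≫ q = 0 := by
    rw [← cancel_mono u, Category.assoc, hqu, w, Limits.zero_comp]
  refine ⟨w', ?_⟩
  let φ : ShortComplex.mk j q w' ⟶ ShortComplex.mk j f w :=
    { τ₁ := 𝟙 _, τ₂ := 𝟙 _, τ₃ := u
      comm₁₂ := by simp
      comm₂₃ := by simp [hqu] }
  haveI : Epi φ.τ₁ := by change Epi (𝟙 K); infer_instance
  haveI : IsIso φ.τ₂ := by change IsIso (𝟙 E); infer_instance
  haveI : Mono φ.τ₃ := by change Mono u; infer_instance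
  have hex' : (ShortComplex.mk j q w').Exact := (ShortComplex.exact_iff_of_epi_of_isIso_of_mono φ).2 hex
  exact ShortComplex.ShortExact.mk' hex' (by change Mono j; infer_instance) (by change Epi q; infer_instance)

end Abelian

theorem chain_eq {e kq vq vs v' ff aE aF aK aV : ℝ} (haE : 0 < aE) (haF : 0 < aF)
    (ha : kq * aE ≤ e * aK) (hb1 : e = kq + vq) (hb2 : aE = aK + aV) (hc : vq ≤ vs) (hd : vs ≤ v')
    (he : v' * aF ≤ ff * aV) (hred : e * aF = ff * aE) :
    kq * aE = e * aK ∧ vs ≤ vq ∧ v' ≤ vs := by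
  have hcpos : 0 < aE * aF := mul_pos haE haF
  have h1 : e * aV ≤ vq * aE := by
    have hk : kq = e - vq := by linarith
    have hK : aK = aE - aV := by linarith
    rw [hk, hK] at ha
    nlinarith [ha]
  have s1 : e * aV * aF ≤ vq * (aE * aF) := by nlinarith [mul_le_mul_of_nonneg_right h1 haF.le]
  have s2 : vq * (aE * aF) ≤ vs * (aE * aF) := mul_le_mul_of_nonneg_right hc hcpos.le
  have s3 : vs * (aE * aF) ≤ v' * (aE * aF) := mul_le_mul_of_nonneg_right hd hcpos.le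
  have s4 : v' * (aE * aF) ≤ e * aV * aF := by
    have t1 : v' * aF * aE ≤ ff * aV * aE := mul_le_mul_of_nonneg_right he haE.le
    have t2 : ff * aV * aE = e * aF * aV := by rw [hred]; ring
    nlinarith [t1, t2]
  have e12 : vq * (aE * aF) = e * aV * aF := by linarith
  have hvsq : vs * (aE * aF) ≤ vq * (aE * aF) := by linarith
  have hv's : v' * (aE * aF) ≤ vs * (aE * aF) := by linarith
  refine ⟨?_, le_of_mul_le_mul_right hvsq hcpos, le_of_mul_le_mul_right hv's hcpos⟩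
  have h2 : vq * aE = e * aV := by
    have : (vq * aE) * aF = (e * aV) * aF := by linarith
    exact mul_right_cancel₀ haF.ne' this
  have hk : kq = e - vq := by linarith
  have hK : aK = aE - aV := by linarith
  rw [hk, hK]
  linarith

section Proper

variable (H : ProperFinHyp.Hyp.{u})
variable (k : Type u) [Field k] (X : Scheme.{u}) [X.Over (Spec (CommRingCat.of k))]
  [IsProper (X ↘ Spec (CommRingCat.of k))]

include H in
theorem isIso_of_mono_of_hilbPoly_eq {L : X.Modules} (hL : CohB1.IsAmple L) {S T : X.Modules}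
    (g : S ⟶ T) [Mono g] (hS : Coh.IsCoh S) (hT : Coh.IsCoh T) {p : ℚ[X]}
    (hpS : ShStab.IsHilbPoly k X L S p) (hpT : ShStab.IsHilbPoly k X L T p) : IsIso g := by
  haveI : S.IsQuasicoherent := hS.1
  have hC : Coh.IsCoh (cokernel g) := H90OXModExact.isCoh_cokernel g hT
  have hPC := isHilbPoly_sub_left H k X hL.1 _ (H90DevTwo.shortExact_cokernel g) hS hT hC hpS hpT
  rw [sub_self] at hPC
  have hz : IsZero (cokernel g) := by
    by_contra h0
    obtain ⟨N, hN⟩ := polyLT_zero H k X hL hC h0 hPC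
    have := hN N le_rfl
    simp at this
  haveI : Epi g := Preadditive.epi_of_isZero_cokernel g hz
  exact isIso_of_mono_of_epi g

include H in
theorem subobject_eq_of_hilbPoly_eq {L : X.Modules} (hL : CohB1.IsAmple L) {V : X.Modules}
    {A B : Subobject V} (hAB : A ≤ B) (hA : Coh.IsCoh (A : X.Modules)) (hB : Coh.IsCoh (B : X.Modules))
    {p : ℚ[X]} (hpA : ShStab.IsHilbPoly k X L (A : X.Modules) p)
    (hpB : ShStab.IsHilbPoly k X L (B : X.Modules) p) : A = B := by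
  haveI := isIso_of_mono_of_hilbPoly_eq H k X hL (Subobject.ofLE A B hAB) hA hB hpA hpB
  refine le_antisymm hAB (Subobject.le_of_comm (inv (Subobject.ofLE A B hAB)) ?_)
  rw [IsIso.inv_comp_eq, Subobject.ofLE_arrow]

omit [IsProper (X ↘ Spec (CommRingCat.of k))] in
theorem isHilbPoly_pieceX_zero {L G : X.Modules} (𝓖 : ParSh.Str G) {p : ℚ[X]}
    (hp : ShStab.IsHilbPoly k X L G p) :
    ShStab.IsHilbPoly k X L ((𝓖.pieceX 0 : Subobject G) : X.Modules) p := by
  rw [ParPoly97.pieceX_zero]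
  haveI : IsIso (⊤ : Subobject G).arrow := inferInstance
  exact isHilbPoly_congr (asIso (⊤ : Subobject G).arrow).symm hp

include H in
theorem isHilbPoly_coinduced_pieceX {L : X.Modules} (hL : CohB1.IsAmple L) {K E V : X.Modules}
    (j : K ⟶ E) (q : E ⟶ V) [Epi q] (w' : j ≫ q = 0) (hS : (ShortComplex.mk j q w').ShortExact)
    (hV : Coh.IsCoh V) (𝓔 : ParSh.Str E)
    (hcoh : ∀ jj, Coh.IsCoh ((𝓔.pieceX jj : Subobject E) : X.Modules))
    {PX QKX : Fin (𝓔.l + 2) → ℚ[X]}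
    (hPX : ∀ jj, ShStab.IsHilbPoly k X L ((𝓔.pieceX jj : Subobject E) : X.Modules) (PX jj))
    (hQKX : ∀ jj, ShStab.IsHilbPoly k X L (((𝓔.induced j).pieceX jj : Subobject K) : X.Modules) (QKX jj))
    (jj : Fin (𝓔.l + 2)) :
    Coh.IsCoh (((𝓔.coinduced q).pieceX jj : Subobject V) : X.Modules) ∧
    ShStab.IsHilbPoly k X L (((𝓔.coinduced q).pieceX jj : Subobject V) : X.Modules) (PX jj - QKX jj) := by
  haveI := ParHilb48.isLocallyNoetherian k X
  rw [ParHilb48.coinduced_pieceX]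
  have hS' := SubobjSES48.shortExact_piece j q w' hS (𝓔.pieceX jj)
  have hc3 := ParHilb48.isCoh_image_piece q hV _ (hcoh jj)
  have hc1 := ParHilb48.isCoh_pullback_piece j q w' hS hV _ (hcoh jj)
  have hq1 := hQKX jj
  rw [ParHilb48.induced_pieceX] at hq1
  exact ⟨hc3, isHilbPoly_sub_left H k X hL.1 _ hS' hc1 (hcoh jj) hc3 hq1 (hPX jj)⟩

omit [IsProper (X ↘ Spec (CommRingCat.of k))] in
/-- a semistability test on nonzero submodules extends to the zero submodule -/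
theorem ss_extend {L G : X.Modules} (𝓖 : ParSh.Str G) (PG : ℝ[X]) (aG : ℝ) (d : ℕ)
    (hss : ∀ (W : X.Modules) (ι : W ⟶ G), Mono ι → Coh.IsCoh W → ¬ IsZero W → ShStab.IsPure X (cokernel ι) d →
        ∀ (Q : ℚ[X]) (QX : Fin (𝓖.l + 2) → ℚ[X]), ShStab.IsHilbPoly k X L W Q →
          (∀ j, ShStab.IsHilbPoly k X L (((𝓖.induced ι).pieceX j : Subobject W) : X.Modules) (QX j)) →
          ∃ M : ℕ, ∀ m : ℕ, M ≤ m →
            (W4swparbununimod.parPoly (𝓖.induced ι) QX).eval (m : ℝ) * aG ≤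
              PG.eval (m : ℝ) * (StabCat.alpha d Q : ℝ))
    (W : X.Modules) (ι : W ⟶ G) (hι : Mono ι) (hW : Coh.IsCoh W) (hp : ShStab.IsPure X (cokernel ι) d)
    (Q : ℚ[X]) (QX : Fin (𝓖.l + 2) → ℚ[X]) (hQ : ShStab.IsHilbPoly k X L W Q)
    (hQX : ∀ j, ShStab.IsHilbPoly k X L (((𝓖.induced ι).pieceX j : Subobject W) : X.Modules) (QX j)) :
    ∃ M : ℕ, ∀ m : ℕ, M ≤ m →
      (W4swparbununimod.parPoly (𝓖.induced ι) QX).eval (m : ℝ) * aG ≤
        PG.eval (m : ℝ) * (StabCat.alpha d Q : ℝ) := by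
  by_cases hW0 : IsZero W
  · have hQ0 : Q = 0 := isHilbPoly_unique hQ (isHilbPoly_zero k X L hW0)
    have hQX0 : ∀ j, QX j = 0 := fun j =>
      isHilbPoly_unique (hQX j) (isHilbPoly_zero k X L (IsZero.of_mono ((𝓖.induced ι).pieceX j).arrow hW0))
    refine ⟨0, fun m _ => ?_⟩
    rw [eval_parPoly_zero (𝓖.induced ι) QX hQX0, hQ0, alpha_zero]
    simp
  · exact hss W ι hι hW hW0 hp Q QX hQ hQX

end Proper

end Groth.Agent.Lib.ParHom97
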