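import Groth.Agent.Lib.ParHom97b

/-!
# Kernel and image of a parabolic homomorphism between semistable parabolic sheaves (helper97)

`core` : S18529 for a filtration `𝓕` of the shape `mkLike 𝓔 …`; `main` : S18529 (hypothesis form).
-/

set_option autoImplicit false
set_option maxHeartbeats 1600000
set_option linter.style.haveILetI false
universe u
open CategoryTheory CategoryTheory.Limits AlgebraicGeometry Polynomial

namespace Groth.Agent.Lib.ParHom97

open Groth.Agent.Lib Groth.Agent.Lib.HilbPoly48 Groth.Agent.Lib.StabGeom48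

variable (H : ProperFinHyp.Hyp.{u})
variable (k : Type u) [Field k] (X : Scheme.{u}) [X.Over (Spec (CommRingCat.of k))]
  [IsProper (X ↘ Spec (CommRingCat.of k))]

include H in
theorem core {L : X.Modules} (hL : CohB1.IsAmple L) (d : ℕ)
    {E F : X.Modules} (hE : Coh.IsCoh E) (hF : Coh.IsCoh F) (hE0 : ¬ IsZero E) (hF0 : ¬ IsZero F)
    (hEp : ShStab.IsPure X E d) (hFp : ShStab.IsPure X F d)
    (𝓔 : ParSh.Str E) (𝓕 : ParSh.Str F)
    (pF : Fin (𝓔.l + 1) → Subobject F) (bF : Subobject F) (h1 : pF 0 = ⊤) (h2 : Antitone pF)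
    (h3 : ∀ j, bF ≤ pF j) (h𝓕 : 𝓕 = mkLike 𝓔 pF bF h1 h2 h3)
    (hcE : ∀ j, Coh.IsCoh ((𝓔.pieceX j : Subobject E) : X.Modules))
    (hcF : ∀ j, Coh.IsCoh ((𝓕.pieceX j : Subobject F) : X.Modules))
    (hw0 : 0 < 𝓔.wt 0)
    (P R : ℚ[X]) (hP : ShStab.IsHilbPoly k X L E P) (hR : ShStab.IsHilbPoly k X L F R)
    (PX : Fin (𝓔.l + 2) → ℚ[X]) (hPX : ∀ j, ShStab.IsHilbPoly k X L ((𝓔.pieceX j : Subobject E) : X.Modules) (PX j))
    (RX : Fin (𝓕.l + 2) → ℚ[X]) (hRX : ∀ j, ShStab.IsHilbPoly k X L ((𝓕.pieceX j : Subobject F) : X.Modules) (RX j))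
    (hssE : (∀ (W : X.Modules) (ι : W ⟶ E), Mono ι → Coh.IsCoh W → ¬ IsZero W → ShStab.IsPure X (cokernel ι) d →
        ∀ (Q : ℚ[X]) (QX : Fin (𝓔.l + 2) → ℚ[X]), ShStab.IsHilbPoly k X L W Q →
          (∀ j, ShStab.IsHilbPoly k X L (((𝓔.induced ι).pieceX j : Subobject W) : X.Modules) (QX j)) →
          ∃ M : ℕ, ∀ m : ℕ, M ≤ m →
            (W4swparbununimod.parPoly (𝓔.induced ι) QX).eval (m : ℝ) * (StabCat.alpha d P : ℝ) ≤
              (W4swparbununimod.parPoly 𝓔 PX).eval (m : ℝ) * (StabCat.alpha d Q : ℝ)))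
    (hssF : (∀ (W : X.Modules) (ι : W ⟶ F), Mono ι → Coh.IsCoh W → ¬ IsZero W → ShStab.IsPure X (cokernel ι) d →
        ∀ (Q : ℚ[X]) (QX : Fin (𝓕.l + 2) → ℚ[X]), ShStab.IsHilbPoly k X L W Q →
          (∀ j, ShStab.IsHilbPoly k X L (((𝓕.induced ι).pieceX j : Subobject W) : X.Modules) (QX j)) →
          ∃ M : ℕ, ∀ m : ℕ, M ≤ m →
            (W4swparbununimod.parPoly (𝓕.induced ι) QX).eval (m : ℝ) * (StabCat.alpha d R : ℝ) ≤
              (W4swparbununimod.parPoly 𝓕 RX).eval (m : ℝ) * (StabCat.alpha d Q : ℝ)))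
    (hred : W4swparbununimod.parPoly 𝓔 PX * Polynomial.C (StabCat.alpha d R : ℝ) =
      W4swparbununimod.parPoly 𝓕 RX * Polynomial.C (StabCat.alpha d P : ℝ))
    (f : E ⟶ F) (hf : ParSh.IsParHom 𝓔 𝓕 f)
    {K V : X.Modules} (j : K ⟶ E) [Mono j] (w : j ≫ f = 0) (hex : (ShortComplex.mk j f w).Exact)
    (q : E ⟶ V) [Epi q] (u : V ⟶ F) [Mono u] (hqu : q ≫ u = f)
    (QK : ℚ[X]) (QKX : Fin (𝓔.l + 2) → ℚ[X]) (hQK : ShStab.IsHilbPoly k X L K QK)
    (hQKX : ∀ j', ShStab.IsHilbPoly k X L (((𝓔.induced j).pieceX j' : Subobject K) : X.Modules) (QKX j')) :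
    W4swparbununimod.parPoly (𝓔.induced j) QKX * Polynomial.C (StabCat.alpha d P : ℝ) =
        W4swparbununimod.parPoly 𝓔 PX * Polynomial.C (StabCat.alpha d QK : ℝ) ∧
    ShStab.IsPure X (cokernel u) d ∧
    (∀ a : ℝ, (𝓔.coinduced q).at a = (𝓕.induced u).at a) := by
  subst h𝓕
  haveI := ParHilb48.isLocallyNoetherian k X
  haveI : E.IsQuasicoherent := hE.1
  haveI : F.IsQuasicoherent := hF.1
  obtain ⟨w', hS⟩ := shortExact_of_fac j f w hex q u hqu
  -- coherence of `K` and `V`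
  have hK : Coh.IsCoh K := by
    have e := IsLimit.conePointUniqueUpToIso hex.fIsKernel (kernelIsKernel f)
    exact H90CohRestrict.isCoh_of_iso e.symm (StabGeom48.isCoh_kernel f hE hF)
  haveI : K.IsQuasicoherent := hK.1
  have eV : cokernel j ≅ V :=
    IsColimit.coconePointUniqueUpToIso (cokernelIsCokernel j) hS.gIsCokernel
  have hV : Coh.IsCoh V := H90CohRestrict.isCoh_of_iso eV (H90OXModExact.isCoh_cokernel j hE)
  have hdimE := dim_of_isPure hEp hE hE0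
  have hdimF := dim_of_isPure hFp hF hF0
  have aE : 0 < (StabCat.alpha d P : ℝ) := by
    exact_mod_cast alpha_pos_of_isPure H k X hL hEp (𝟙 E) hE hE0 hP
  have aF : 0 < (StabCat.alpha d R : ℝ) := by
    exact_mod_cast alpha_pos_of_isPure H k X hL hFp (𝟙 F) hF hF0 hR
  -- purity of `V` and saturation of `K`
  have hVp : ShStab.IsPure X V d := fun S ι hι hS hS0 =>
    haveI := hι
    hFp S (ι ≫ u) (mono_comp _ _) hS hS0
  have hKsat : ShStab.IsPure X (cokernel j) d := isPure_of_iso eV.symm hVp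
  -- Hilbert polynomials
  have hpV : ShStab.IsHilbPoly k X L V (P - QK) :=
    isHilbPoly_sub_left H k X hL.1 _ hS hK hE hV hQK hP
  have hVq := isHilbPoly_coinduced_pieceX H k X hL j q w' hS hV 𝓔 hcE hPX hQKX
  have hVsc : ∀ jj, Coh.IsCoh ((((mkLike 𝓔 pF bF h1 h2 h3).induced u).pieceX jj : Subobject V) : X.Modules) :=
    fun jj => ParSS97.isCoh_induced_pieceX X hF (mkLike 𝓔 pF bF h1 h2 h3) hcF u hV jj
  have hex1 : ∀ jj, ∃ p : ℚ[X], ShStab.IsHilbPoly k X L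
      ((((mkLike 𝓔 pF bF h1 h2 h3).induced u).pieceX jj : Subobject V) : X.Modules) p := fun jj => by
    obtain ⟨p, -, hp⟩ := exists_isHilbPoly_of_mono H k X hL.1
      ((((mkLike 𝓔 pF bF h1 h2 h3).induced u).pieceX jj).arrow ≫ u) (hVsc jj) hdimF.le
    exact ⟨p, hp⟩
  choose PVs hPVs using hex1
  -- the saturation of `V` in `F`
  obtain ⟨V', a', pV', ha'mono, hV', hV'pure, hpV', halpha, -, f0, hf0⟩ :=
    exists_saturated_sub H k X hL hF hdimF.le u hV hpV hR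
  haveI := ha'mono
  haveI : Mono f0 := mono_of_mono_fac hf0
  have hV'c : ∀ jj, Coh.IsCoh ((((mkLike 𝓔 pF bF h1 h2 h3).induced a').pieceX jj : Subobject V') : X.Modules) :=
    fun jj => ParSS97.isCoh_induced_pieceX X hF (mkLike 𝓔 pF bF h1 h2 h3) hcF a' hV' jj
  have hex2 : ∀ jj, ∃ p : ℚ[X], ShStab.IsHilbPoly k X L
      ((((mkLike 𝓔 pF bF h1 h2 h3).induced a').pieceX jj : Subobject V') : X.Modules) p := fun jj => by
    obtain ⟨p, -, hp⟩ := exists_isHilbPoly_of_mono H k X hL.1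
      ((((mkLike 𝓔 pF bF h1 h2 h3).induced a').pieceX jj).arrow ≫ a') (hV'c jj) hdimF.le
    exact ⟨p, hp⟩
  choose PV' hPV' using hex2
  -- comparison of the pieces
  have hle_c : ∀ jj, (𝓔.coinduced q).pieceX jj ≤ ((mkLike 𝓔 pF bF h1 h2 h3).induced u).pieceX jj := by
    intro jj
    rw [ParHilb48.coinduced_pieceX, ParHilb48.induced_pieceX]
    apply imageSubobject_le_pullback
    rw [Category.assoc, hqu]
    exact factors_pieceX 𝓔 pF bF h1 h2 h3 f hf jj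
  have hc_piece : ∀ jj : Fin (𝓔.l + 2), ∃ M : ℕ, ∀ m : ℕ, M ≤ m →
      (PX jj - QKX jj).eval (m : ℚ) ≤ (PVs jj).eval (m : ℚ) := fun jj =>
    polyLE_of_mono H k X hL (Subobject.ofLE _ _ (hle_c jj)) (hVq jj).1 (hVsc jj) (hVq jj).2 (hPVs jj)
  have hd_piece : ∀ jj : Fin (𝓔.l + 2), ∃ M : ℕ, ∀ m : ℕ, M ≤ m →
      (PVs jj).eval (m : ℚ) ≤ (PV' jj).eval (m : ℚ) := by
    intro jj
    have hex3 : ∃ g : ((((mkLike 𝓔 pF bF h1 h2 h3).induced u).pieceX jj : Subobject V) : X.Modules) ⟶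
        ((((mkLike 𝓔 pF bF h1 h2 h3).induced a').pieceX jj : Subobject V') : X.Modules), Mono g := by
      rw [ParHilb48.induced_pieceX, ParHilb48.induced_pieceX]
      exact exists_mono_pullback_of_fac f0 a' u hf0 _
    obtain ⟨g, hg⟩ := hex3
    haveI := hg
    exact polyLE_of_mono H k X hL g (hVsc jj) (hV'c jj) (hPVs jj) (hPV' jj)
  -- the eventual inequalities
  obtain ⟨Ma, hMa⟩ := ss_extend k X 𝓔 (W4swparbununimod.parPoly 𝓔 PX) (StabCat.alpha d P : ℝ) d hssE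
    K j inferInstance hK hKsat QK QKX hQK hQKX
  obtain ⟨Me, hMe⟩ := ss_extend k X (mkLike 𝓔 pF bF h1 h2 h3)
    (W4swparbununimod.parPoly (mkLike 𝓔 pF bF h1 h2 h3) RX) (StabCat.alpha d R : ℝ) d hssF
    V' a' ha'mono hV' hV'pure pV' PV' hpV' hPV'
  obtain ⟨Mc, hMc⟩ := ParSS97.exists_forall_fin _ hc_piece
  obtain ⟨Md, hMd⟩ := ParSS97.exists_forall_fin _ hd_piece
  have hpar1 : W4swparbununimod.parPoly ((mkLike 𝓔 pF bF h1 h2 h3).induced u) PVs =
      W4swparbununimod.parPoly (𝓔.coinduced q) PVs := rfl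
  have hpar2 : W4swparbununimod.parPoly ((mkLike 𝓔 pF bF h1 h2 h3).induced a') PV' =
      W4swparbununimod.parPoly ((mkLike 𝓔 pF bF h1 h2 h3).induced u) PV' := rfl
  have hpar3 : W4swparbununimod.parPoly (𝓔.coinduced q) PX = W4swparbununimod.parPoly 𝓔 PX := rfl
  have hpar4 : W4swparbununimod.parPoly (𝓔.coinduced q) QKX =
      W4swparbununimod.parPoly (𝓔.induced j) QKX := rfl
  have chain : ∀ m : ℕ, max (max Ma Me) (max Mc Md) ≤ m →
      (W4swparbununimod.parPoly (𝓔.induced j) QKX).eval (m : ℝ) * (StabCat.alpha d P : ℝ) =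
        (W4swparbununimod.parPoly 𝓔 PX).eval (m : ℝ) * (StabCat.alpha d QK : ℝ) ∧
      (W4swparbununimod.parPoly (𝓔.coinduced q) PVs).eval (m : ℝ) ≤
        (W4swparbununimod.parPoly (𝓔.coinduced q) (fun jj => PX jj - QKX jj)).eval (m : ℝ) ∧
      (W4swparbununimod.parPoly ((mkLike 𝓔 pF bF h1 h2 h3).induced u) PV').eval (m : ℝ) ≤
        (W4swparbununimod.parPoly ((mkLike 𝓔 pF bF h1 h2 h3).induced u) PVs).eval (m : ℝ) := by
    intro m hm
    have hma := hMa m (((le_max_left _ _).trans (le_max_left _ _)).trans hm)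
    have hme := hMe m (((le_max_right _ _).trans (le_max_left _ _)).trans hm)
    have hmc := hMc m (((le_max_left _ _).trans (le_max_right _ _)).trans hm)
    have hmd := hMd m (((le_max_right _ _).trans (le_max_right _ _)).trans hm)
    have hb1 : (W4swparbununimod.parPoly 𝓔 PX).eval (m : ℝ) =
        (W4swparbununimod.parPoly (𝓔.induced j) QKX).eval (m : ℝ) +
          (W4swparbununimod.parPoly (𝓔.coinduced q) (fun jj => PX jj - QKX jj)).eval (m : ℝ) := by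
      rw [eval_parPoly_sub (𝓔.coinduced q) PX QKX m, hpar3, hpar4]
      ring
    have hb2 : (StabCat.alpha d P : ℝ) = (StabCat.alpha d QK : ℝ) + (StabCat.alpha d (P - QK) : ℝ) := by
      rw [alpha_sub]; push_cast; ring
    have hc := ParSS97.eval_parPoly_mono (𝓔.coinduced q) (fun jj => PX jj - QKX jj) PVs m hmc
    have hd' := ParSS97.eval_parPoly_mono ((mkLike 𝓔 pF bF h1 h2 h3).induced u) PVs PV' m hmd
    have he : (W4swparbununimod.parPoly ((mkLike 𝓔 pF bF h1 h2 h3).induced u) PV').eval (m : ℝ) *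
        (StabCat.alpha d R : ℝ) ≤
        (W4swparbununimod.parPoly (mkLike 𝓔 pF bF h1 h2 h3) RX).eval (m : ℝ) *
          (StabCat.alpha d (P - QK) : ℝ) := by
      rw [← halpha, ← hpar2]
      exact hme
    have hredm : (W4swparbununimod.parPoly 𝓔 PX).eval (m : ℝ) * (StabCat.alpha d R : ℝ) =
        (W4swparbununimod.parPoly (mkLike 𝓔 pF bF h1 h2 h3) RX).eval (m : ℝ) * (StabCat.alpha d P : ℝ) := by
      have := congrArg (Polynomial.eval (m : ℝ)) hred
      rwa [eval_mul, eval_C, eval_mul, eval_C] at this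
    rw [hpar1] at hd'
    have := chain_eq aE aF hma hb1 hb2 hc hd' he hredm
    refine ⟨this.1, this.2.1, ?_⟩
    rw [hpar1]
    exact this.2.2
  refine ⟨?_, ?_, ?_⟩
  · -- (1)
    apply rpoly_eq_of_eventually_eq
    refine ⟨max (max Ma Me) (max Mc Md), fun m hm => ?_⟩
    rw [eval_mul, eval_C, eval_mul, eval_C]
    exact (chain m hm).1
  · -- (2)
    have hsw := parPoly_sandwich ((mkLike 𝓔 pF bF h1 h2 h3).induced u) PVs PV' hd_piece
      ⟨max (max Ma Me) (max Mc Md), fun m hm => (chain m hm).2.2⟩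
    have h0 : PVs 0 = PV' 0 := hsw.2 hw0
    have e1 : PVs 0 = P - QK :=
      isHilbPoly_unique (hPVs 0) (isHilbPoly_pieceX_zero k X _ hpV)
    have e2 : PV' 0 = pV' :=
      isHilbPoly_unique (hPV' 0) (isHilbPoly_pieceX_zero k X _ hpV')
    have e3 : pV' = P - QK := by rw [← e2, ← h0, e1]
    haveI : IsIso f0 := isIso_of_mono_of_hilbPoly_eq H k X hL f0 hV hV' hpV (e3 ▸ hpV')
    have eC : cokernel u ≅ cokernel a' :=
      cokernel.mapIso u a' (asIso f0) (Iso.refl F) (by simp [hf0])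
    exact isPure_of_iso eC.symm hV'pure
  · -- (3)
    have hsw := parPoly_sandwich (𝓔.coinduced q) (fun jj => PX jj - QKX jj) PVs hc_piece
      ⟨max (max Ma Me) (max Mc Md), fun m hm => (chain m hm).2.1⟩
    have hpieces : ∀ jj : Fin (𝓔.l + 2),
        (𝓔.coinduced q).pieceX jj = ((mkLike 𝓔 pF bF h1 h2 h3).induced u).pieceX jj := by
      intro jj
      refine Fin.cases ?_ (fun j' => ?_) jj
      · exact (ParPoly97.pieceX_zero (𝓔.coinduced q)).trans
          (ParPoly97.pieceX_zero ((mkLike 𝓔 pF bF h1 h2 h3).induced u)).symm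
      · have heq : PX j'.succ - QKX j'.succ = PVs j'.succ := hsw.1 j'
        exact subobject_eq_of_hilbPoly_eq H k X hL (hle_c j'.succ) (hVq j'.succ).1 (hVsc j'.succ)
          (heq ▸ (hVq j'.succ).2) (hPVs j'.succ)
    intro a
    refine at_eq_of_eq (𝓔.coinduced q) ((mkLike 𝓔 pF bF h1 h2 h3).induced u) rfl ?_ ?_ ?_ a
    · intro j1 j2 h12
      have : j1 = j2 := Fin.ext h12
      subst this
      rfl
    · intro j1 j2 h12
      have : j1 = j2 := Fin.ext h12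
      subst this
      have := hpieces j1.castSucc
      rw [(𝓔.coinduced q).pieceX_castSucc] at this
      exact this.trans (((mkLike 𝓔 pF bF h1 h2 h3).induced u).pieceX_castSucc j1)
    · have := hpieces (Fin.last ((𝓔.coinduced q).l + 1))
      rw [(𝓔.coinduced q).pieceX_last] at this
      exact this.trans (((mkLike 𝓔 pF bF h1 h2 h3).induced u).pieceX_last)

include H in
/-- S18529 (hypothesis form) -/
theorem main {L : X.Modules} (hL : CohB1.IsAmple L) (d : ℕ)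
    {E F : X.Modules} (hE : Coh.IsCoh E) (hF : Coh.IsCoh F) (hE0 : ¬ IsZero E) (hF0 : ¬ IsZero F)
    (hEp : ShStab.IsPure X E d) (hFp : ShStab.IsPure X F d)
    (𝓔 : ParSh.Str E) (𝓕 : ParSh.Str F)
    (hcE : ∀ j, Coh.IsCoh ((𝓔.pieceX j : Subobject E) : X.Modules))
    (hcF : ∀ j, Coh.IsCoh ((𝓕.pieceX j : Subobject F) : X.Modules))
    (hw : Set.range 𝓕.wt = Set.range 𝓔.wt) (hw0 : 0 < 𝓔.wt 0)
    (P R : ℚ[X]) (hP : ShStab.IsHilbPoly k X L E P) (hR : ShStab.IsHilbPoly k X L F R)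
    (PX : Fin (𝓔.l + 2) → ℚ[X]) (hPX : ∀ j, ShStab.IsHilbPoly k X L ((𝓔.pieceX j : Subobject E) : X.Modules) (PX j))
    (RX : Fin (𝓕.l + 2) → ℚ[X]) (hRX : ∀ j, ShStab.IsHilbPoly k X L ((𝓕.pieceX j : Subobject F) : X.Modules) (RX j))
    (hssE : (∀ (W : X.Modules) (ι : W ⟶ E), Mono ι → Coh.IsCoh W → ¬ IsZero W → ShStab.IsPure X (cokernel ι) d →
        ∀ (Q : ℚ[X]) (QX : Fin (𝓔.l + 2) → ℚ[X]), ShStab.IsHilbPoly k X L W Q →
          (∀ j, ShStab.IsHilbPoly k X L (((𝓔.induced ι).pieceX j : Subobject W) : X.Modules) (QX j)) →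
          ∃ M : ℕ, ∀ m : ℕ, M ≤ m →
            (W4swparbununimod.parPoly (𝓔.induced ι) QX).eval (m : ℝ) * (StabCat.alpha d P : ℝ) ≤
              (W4swparbununimod.parPoly 𝓔 PX).eval (m : ℝ) * (StabCat.alpha d Q : ℝ)))
    (hssF : (∀ (W : X.Modules) (ι : W ⟶ F), Mono ι → Coh.IsCoh W → ¬ IsZero W → ShStab.IsPure X (cokernel ι) d →
        ∀ (Q : ℚ[X]) (QX : Fin (𝓕.l + 2) → ℚ[X]), ShStab.IsHilbPoly k X L W Q →
          (∀ j, ShStab.IsHilbPoly k X L (((𝓕.induced ι).pieceX j : Subobject W) : X.Modules) (QX j)) →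
          ∃ M : ℕ, ∀ m : ℕ, M ≤ m →
            (W4swparbununimod.parPoly (𝓕.induced ι) QX).eval (m : ℝ) * (StabCat.alpha d R : ℝ) ≤
              (W4swparbununimod.parPoly 𝓕 RX).eval (m : ℝ) * (StabCat.alpha d Q : ℝ)))
    (hred : W4swparbununimod.parPoly 𝓔 PX * Polynomial.C (StabCat.alpha d R : ℝ) =
      W4swparbununimod.parPoly 𝓕 RX * Polynomial.C (StabCat.alpha d P : ℝ))
    (f : E ⟶ F) (hf : ParSh.IsParHom 𝓔 𝓕 f)
    {K V : X.Modules} (j : K ⟶ E) [Mono j] (w : j ≫ f = 0) (hex : (ShortComplex.mk j f w).Exact)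
    (q : E ⟶ V) [Epi q] (u : V ⟶ F) [Mono u] (hqu : q ≫ u = f) :
    (∀ (QK : ℚ[X]) (QKX : Fin (𝓔.l + 2) → ℚ[X]), ShStab.IsHilbPoly k X L K QK →
        (∀ j', ShStab.IsHilbPoly k X L (((𝓔.induced j).pieceX j' : Subobject K) : X.Modules) (QKX j')) →
        W4swparbununimod.parPoly (𝓔.induced j) QKX * Polynomial.C (StabCat.alpha d P : ℝ) =
          W4swparbununimod.parPoly 𝓔 PX * Polynomial.C (StabCat.alpha d QK : ℝ)) ∧
    ShStab.IsPure X (cokernel u) d ∧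
    (∀ a : ℝ, 0 ≤ a → a ≤ 1 → (𝓔.coinduced q).at a = (𝓕.induced u).at a) := by
  obtain ⟨pF, bF, h1, h2, h3, h𝓕⟩ := exists_mkLike 𝓔 𝓕 hw
  have hcore := fun QK QKX hQK hQKX => core H k X hL d hE hF hE0 hF0 hEp hFp 𝓔 𝓕 pF bF h1 h2 h3 h𝓕 hcE hcF
    hw0 P R hP hR PX hPX RX hRX hssE hssF hred f hf j w hex q u hqu QK QKX hQK hQKX
  haveI := ParHilb48.isLocallyNoetherian k X
  haveI : E.IsQuasicoherent := hE.1
  haveI : F.IsQuasicoherent := hF.1
  have hK : Coh.IsCoh K := by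
    have e := IsLimit.conePointUniqueUpToIso hex.fIsKernel (kernelIsKernel f)
    exact H90CohRestrict.isCoh_of_iso e.symm (StabGeom48.isCoh_kernel f hE hF)
  have hdimE := dim_of_isPure hEp hE hE0
  obtain ⟨QK0, -, hQK0⟩ := exists_isHilbPoly_of_mono H k X hL.1 j hK hdimE.le
  have hex1 : ∀ jj, ∃ p : ℚ[X], ShStab.IsHilbPoly k X L
      (((𝓔.induced j).pieceX jj : Subobject K) : X.Modules) p := fun jj => by
    obtain ⟨p, -, hp⟩ := exists_isHilbPoly_of_mono H k X hL.1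
      (((𝓔.induced j).pieceX jj).arrow ≫ j) (ParSS97.isCoh_induced_pieceX X hE 𝓔 hcE j hK jj) hdimE.le
    exact ⟨p, hp⟩
  choose QKX0 hQKX0 using hex1
  have h0 := hcore QK0 QKX0 hQK0 hQKX0
  exact ⟨fun QK QKX hQK hQKX => (hcore QK QKX hQK hQKX).1, h0.2.1, fun a _ _ => h0.2.2 a⟩

end Groth.Agent.Lib.ParHom97
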