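import Groth.Agent.Lib.ParSS97
import Mathlib.Analysis.Polynomial.Basic
import Mathlib.Topology.Algebra.Order.Archimedean
import Mathlib.Topology.Instances.Real.Lemmas

/-!
# Limits of quotients of Hilbert polynomials (helper97)

* `tendsto_div_of_natDegree_le` : for real polynomials `p`, `h` of degree `≤ e` with `h.coeff e ≠ 0`,
  `p(x)/h(x) → p.coeff e / h.coeff e`.
* `tendsto_ratio_nat`, `tendsto_div_pow_nat` : the rational versions along `ℕ`.
* `lim_cross` : the limit comparison behind `par-P₂ ⇒ par-P₁` (S18532).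
-/

set_option autoImplicit false
set_option maxHeartbeats 400000
open Polynomial Filter Topology

namespace Groth.Agent.Lib.ParLim97

theorem tendsto_div_of_natDegree_le (p h : ℝ[X]) (e : ℕ) (hp : p.natDegree ≤ e) (hh : h.natDegree ≤ e)
    (hne : h.coeff e ≠ 0) :
    Tendsto (fun x : ℝ => p.eval x / h.eval x) atTop (𝓝 (p.coeff e / h.coeff e)) := by
  have hhe : h.natDegree = e := le_antisymm hh (le_natDegree_of_ne_zero hne)
  have hh0 : h ≠ 0 := fun h0 => hne (by rw [h0, coeff_zero])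
  have hhl : h.leadingCoeff = h.coeff e := by rw [leadingCoeff, hhe]
  by_cases hpe : p.coeff e = 0
  · rw [hpe, zero_div]
    apply div_tendsto_atTop_zero_of_degree_lt
    by_cases hp0 : p = 0
    · rw [hp0, degree_zero]; exact bot_lt_iff_ne_bot.2 fun hb => hh0 (degree_eq_bot.1 hb)
    · rw [← natDegree_lt_natDegree_iff hp0, hhe]
      refine lt_of_le_of_ne hp fun heq => ?_
      apply hp0
      rw [← leadingCoeff_eq_zero, leadingCoeff, heq]
      exact hpe
  · have hpn : p.natDegree = e := le_antisymm hp (le_natDegree_of_ne_zero hpe)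
    have hp0 : p ≠ 0 := fun h0 => hpe (by rw [h0, coeff_zero])
    have hdeg : p.degree = h.degree := by
      rw [degree_eq_natDegree hp0, degree_eq_natDegree hh0, hpn, hhe]
    have := div_tendsto_atTop_leadingCoeff_div_of_degree_eq p h hdeg
    rwa [hhl, leadingCoeff, hpn] at this

theorem natDegree_rpoly_le (p : ℚ[X]) : (W4swparbununimod.rpoly p).natDegree ≤ p.natDegree :=
  natDegree_map_le

theorem coeff_rpoly (p : ℚ[X]) (n : ℕ) : (W4swparbununimod.rpoly p).coeff n = ((p.coeff n : ℚ) : ℝ) := by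
  unfold W4swparbununimod.rpoly
  rw [coeff_map]
  rfl

/-- `K(n)/H(n) → coeff_e K / coeff_e H` along the natural numbers -/
theorem tendsto_ratio_nat {e : ℕ} {kq hq : ℚ[X]} (hk : kq.natDegree ≤ e) (hh : hq.natDegree ≤ e)
    (hne : hq.coeff e ≠ 0) :
    Tendsto (fun n : ℕ => ((kq.eval (n : ℚ) / hq.eval (n : ℚ) : ℚ) : ℝ)) atTop
      (𝓝 ((kq.coeff e / hq.coeff e : ℚ) : ℝ)) := by
  have hne' : (W4swparbununimod.rpoly hq).coeff e ≠ 0 := by
    rw [coeff_rpoly]; exact_mod_cast hne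
  have h1 := tendsto_div_of_natDegree_le (W4swparbununimod.rpoly kq) (W4swparbununimod.rpoly hq) e
    ((natDegree_rpoly_le kq).trans hk) ((natDegree_rpoly_le hq).trans hh) hne'
  have h2 := h1.comp tendsto_natCast_atTop_atTop
  rw [coeff_rpoly, coeff_rpoly] at h2
  have e1 : (fun n : ℕ => ((kq.eval (n : ℚ) / hq.eval (n : ℚ) : ℚ) : ℝ)) =
      ((fun x : ℝ => (W4swparbununimod.rpoly kq).eval x / (W4swparbununimod.rpoly hq).eval x) ∘
        (Nat.cast : ℕ → ℝ)) := by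
    funext n
    simp only [Function.comp_apply]
    rw [ParSS97.eval_rpoly, ParSS97.eval_rpoly]
    push_cast
    rfl
  rw [e1]
  have e2 : ((kq.coeff e / hq.coeff e : ℚ) : ℝ) = ((kq.coeff e : ℚ) : ℝ) / ((hq.coeff e : ℚ) : ℝ) := by
    push_cast; rfl
  rw [e2]
  exact h2

/-- `P(n)/n^d → coeff_d P` along the natural numbers -/
theorem tendsto_div_pow_nat {d : ℕ} {p : ℚ[X]} (hp : p.natDegree ≤ d) :
    Tendsto (fun n : ℕ => ((p.eval (n : ℚ) : ℚ) : ℝ) / (n : ℝ) ^ d) atTop (𝓝 ((p.coeff d : ℚ) : ℝ)) := by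
  have h1 := tendsto_div_of_natDegree_le (W4swparbununimod.rpoly p) ((Polynomial.X : ℝ[X]) ^ d) d
    ((natDegree_rpoly_le p).trans hp) (by rw [natDegree_X_pow]) (by rw [coeff_X_pow]; simp)
  have h2 := h1.comp tendsto_natCast_atTop_atTop
  rw [coeff_rpoly, coeff_X_pow, if_pos rfl, div_one] at h2
  have e1 : (fun n : ℕ => ((p.eval (n : ℚ) : ℚ) : ℝ) / (n : ℝ) ^ d) =
      ((fun x : ℝ => (W4swparbununimod.rpoly p).eval x / ((Polynomial.X : ℝ[X]) ^ d).eval x) ∘
        (Nat.cast : ℕ → ℝ)) := by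
    funext n
    simp only [Function.comp_apply]
    rw [ParSS97.eval_rpoly, eval_pow, eval_X]
  rw [e1]
  exact h2

/-- the limit comparison: `G(n) = Qm - Σ c_j (K_j(n)/H_j(n)) Hm_j`, `A₁ = Qm - Σ c_j (α(K_j)/α(H_j)) Hm_j` -/
theorem lim_cross {d l : ℕ} (hd : 1 ≤ d) {p q : ℚ[X]} (hp : p.natDegree ≤ d) (hq : q.natDegree ≤ d)
    (c Hm : Fin l → ℝ) (kq hq' : Fin l → ℚ[X]) (hk : ∀ j, (kq j).natDegree ≤ d - 1)
    (hh : ∀ j, (hq' j).natDegree ≤ d - 1) (hne : ∀ j, StabCat.alpha (d - 1) (hq' j) ≠ 0) (Qm B : ℝ) :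
    ((∃ N : ℕ, ∀ n : ℕ, N ≤ n →
        (Qm - ∑ j : Fin l, c j * ((((kq j).eval (n : ℚ) / (hq' j).eval (n : ℚ) : ℚ) : ℝ) * Hm j)) *
          ((p.eval (n : ℚ) : ℚ) : ℝ) ≤ B * ((q.eval (n : ℚ) : ℚ) : ℝ)) →
      (Qm - ∑ j : Fin l, (c j *
          ((StabCat.alpha (d - 1) (kq j) / StabCat.alpha (d - 1) (hq' j) : ℚ) : ℝ)) * Hm j) *
        (StabCat.alpha d p : ℝ) ≤ B * (StabCat.alpha d q : ℝ)) ∧
    ((Qm - ∑ j : Fin l, (c j *
          ((StabCat.alpha (d - 1) (kq j) / StabCat.alpha (d - 1) (hq' j) : ℚ) : ℝ)) * Hm j) *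
        (StabCat.alpha d p : ℝ) < B * (StabCat.alpha d q : ℝ) →
      ∃ N : ℕ, ∀ n : ℕ, N ≤ n →
        (Qm - ∑ j : Fin l, c j * ((((kq j).eval (n : ℚ) / (hq' j).eval (n : ℚ) : ℚ) : ℝ) * Hm j)) *
          ((p.eval (n : ℚ) : ℚ) : ℝ) < B * ((q.eval (n : ℚ) : ℚ) : ℝ)) := by
  have hf : ((d - 1).factorial : ℚ) ≠ 0 := by exact_mod_cast (d - 1).factorial_ne_zero
  have hne' : ∀ j, (hq' j).coeff (d - 1) ≠ 0 := fun j h0 => hne j (by unfold StabCat.alpha; rw [h0, mul_zero])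
  have hratio : ∀ j, (StabCat.alpha (d - 1) (kq j) / StabCat.alpha (d - 1) (hq' j) : ℚ) =
      (kq j).coeff (d - 1) / (hq' j).coeff (d - 1) := fun j => by
    unfold StabCat.alpha
    have := hne' j
    field_simp
  set G : ℕ → ℝ := fun n =>
    Qm - ∑ j : Fin l, c j * ((((kq j).eval (n : ℚ) / (hq' j).eval (n : ℚ) : ℚ) : ℝ) * Hm j) with hG
  set A1 : ℝ := Qm - ∑ j : Fin l, (c j *
      ((StabCat.alpha (d - 1) (kq j) / StabCat.alpha (d - 1) (hq' j) : ℚ) : ℝ)) * Hm j with hA1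
  have hGt : Tendsto G atTop (𝓝 A1) := by
    refine tendsto_const_nhds.sub (tendsto_finsetSum _ fun j _ => ?_)
    have := ((tendsto_ratio_nat (hk j) (hh j) (hne' j)).mul_const (Hm j)).const_mul (c j)
    rw [← hratio j] at this
    convert this using 2
    ring
  have hPt := tendsto_div_pow_nat hp
  have hQt := tendsto_div_pow_nat hq
  have hL : Tendsto (fun n : ℕ => G n * (((p.eval (n : ℚ) : ℚ) : ℝ) / (n : ℝ) ^ d)) atTop
      (𝓝 (A1 * ((p.coeff d : ℚ) : ℝ))) := hGt.mul hPt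
  have hR : Tendsto (fun n : ℕ => B * (((q.eval (n : ℚ) : ℚ) : ℝ) / (n : ℝ) ^ d)) atTop
      (𝓝 (B * ((q.coeff d : ℚ) : ℝ))) := hQt.const_mul B
  have hfd : (0 : ℝ) < (d.factorial : ℝ) := by exact_mod_cast d.factorial_pos
  have hap : (StabCat.alpha d p : ℝ) = (d.factorial : ℝ) * ((p.coeff d : ℚ) : ℝ) := by
    unfold StabCat.alpha; push_cast; ring
  have haq : (StabCat.alpha d q : ℝ) = (d.factorial : ℝ) * ((q.coeff d : ℚ) : ℝ) := by
    unfold StabCat.alpha; push_cast; ring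
  have hpos : ∀ n : ℕ, 1 ≤ n → (0 : ℝ) < (n : ℝ) ^ d := fun n hn =>
    pow_pos (by exact_mod_cast hn) d
  constructor
  · rintro ⟨N, hN⟩
    have hev : ∀ᶠ n : ℕ in atTop, G n * (((p.eval (n : ℚ) : ℚ) : ℝ) / (n : ℝ) ^ d) ≤
        B * (((q.eval (n : ℚ) : ℚ) : ℝ) / (n : ℝ) ^ d) := by
      filter_upwards [eventually_ge_atTop (max N 1)] with n hn
      have h1 := hN n ((le_max_left _ _).trans hn)
      have h2 := hpos n ((le_max_right _ _).trans hn)
      rw [← mul_div_assoc, ← mul_div_assoc]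
      exact div_le_div_of_nonneg_right h1 h2.le
    have hle := le_of_tendsto_of_tendsto hL hR hev
    rw [hap, haq]
    nlinarith [hle, hfd]
  · intro hlt
    have hlt' : A1 * ((p.coeff d : ℚ) : ℝ) < B * ((q.coeff d : ℚ) : ℝ) := by
      rw [hap, haq] at hlt
      have : (d.factorial : ℝ) * (A1 * ((p.coeff d : ℚ) : ℝ)) < (d.factorial : ℝ) * (B * ((q.coeff d : ℚ) : ℝ)) := by
        linarith
      exact lt_of_mul_lt_mul_left this hfd.le
    have hev := hL.eventually_lt hR hlt'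
    obtain ⟨N, hN⟩ := hev.exists_forall_of_atTop
    refine ⟨max N 1, fun n hn => ?_⟩
    have h1 := hN n ((le_max_left _ _).trans hn)
    have h2 := hpos n ((le_max_right _ _).trans hn)
    rw [← mul_div_assoc, ← mul_div_assoc] at h1
    exact (div_lt_div_iff_of_pos_right h2).mp h1

end Groth.Agent.Lib.ParLim97
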