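import Groth.Agent.Lib.StabGeom48e
import Groth.Agent.Lib.H90OXModExt
import Groth.Agent.Lib.IdealMod

/-!
# Geometric toolkit for (semi)stability, part f (helper48): extensions of slope-semistable sheaves

* `isCoh_of_shortExact`, `dim_le_of_subset_union`, `support_eq_of_iso`;
* `isMuSemistable_of_shortExact` (S18967).
-/

set_option autoImplicit false
set_option linter.style.haveILetI false
universe u
open CategoryTheory CategoryTheory.Limits AlgebraicGeometry TopologicalSpace Polynomial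

namespace Groth.Agent.Lib.StabGeom48

open Groth.Agent.Lib Groth.Agent.Lib.HilbPoly48 Groth.Agent.Lib.H90DevHub2 Groth.Agent.Lib.TopPart48
  Groth.Agent.Lib.PosPoly48 Groth.Agent.Lib.H90OXModSections

section General

variable {X : Scheme.{u}}

/-- Extensions of coherent modules are coherent. -/
theorem isCoh_of_shortExact {S : ShortComplex X.Modules} (hS : S.ShortExact)
    (h₁ : Coh.IsCoh S.X₁) (h₃ : Coh.IsCoh S.X₃) : Coh.IsCoh S.X₂ := by
  haveI : S.X₁.IsQuasicoherent := h₁.1
  haveI : S.X₃.IsQuasicoherent := h₃.1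
  haveI : S.X₂.IsQuasicoherent := Groth.Agent.Lib.H90OXModExt.isQuasicoherent_of_shortExact hS
  rw [Groth.Agent.Lib.H90OXModAffineFT.isCoh_iff_forall_affine]
  refine ⟨inferInstance, fun U => ?_⟩
  haveI := Groth.Agent.Lib.CohFinite.finite_sections_of_isCoh S.X₁ h₁ U.2
  haveI := Groth.Agent.Lib.CohFinite.finite_sections_of_isCoh S.X₃ h₃ U.2
  haveI := hS.mono_f
  refine Module.Finite.of_exact (f := appLin S.f U.1) (g := appLin S.g U.1) ?_
    (Groth.Agent.Lib.H90OXModExt.surjective_appLin_of_shortExact hS U.2)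
  intro y
  constructor
  · intro hy
    exact (Groth.Agent.Lib.IdealMod.sections_exact hS.exact U.1).2 y hy
  · rintro ⟨t, rfl⟩
    exact Groth.Agent.Lib.H90OXModExt.appLin_comp_eq_zero U.1 t

theorem le_of_lt_succ' {x : WithBot ℕ∞} {n : ℕ} (h : x < ((n + 1 : ℕ) : WithBot ℕ∞)) :
    x ≤ (n : WithBot ℕ∞) := by
  induction x using WithBot.recBotCoe with
  | bot => exact bot_le
  | coe x =>
    induction x using ENat.recTopCoe with
    | top =>
      exfalso
      have : ((⊤ : ℕ∞) : WithBot ℕ∞) < (((n + 1 : ℕ) : ℕ∞) : WithBot ℕ∞) := h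
      rw [WithBot.coe_lt_coe] at this
      exact absurd this (by simp)
    | coe x =>
      have h1 : (((x : ℕ) : ℕ∞) : WithBot ℕ∞) < (((n + 1 : ℕ) : ℕ∞) : WithBot ℕ∞) := h
      rw [WithBot.coe_lt_coe, Nat.cast_lt] at h1
      have h2 : x ≤ n := by omega
      change (((x : ℕ) : ℕ∞) : WithBot ℕ∞) ≤ (((n : ℕ) : ℕ∞) : WithBot ℕ∞)
      rw [WithBot.coe_le_coe, Nat.cast_le]
      exact h2

theorem lt_succ_of_le' {x : WithBot ℕ∞} {n : ℕ} (h : x ≤ (n : WithBot ℕ∞)) :
    x < ((n + 1 : ℕ) : WithBot ℕ∞) :=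
  lt_of_le_of_lt h (by exact_mod_cast Nat.lt_succ_self n)

/-- The dimension of a subset of a union of two closed sets of dimension `≤ n` is `≤ n`. -/
theorem dim_le_of_subset_union {S A B : Set X} (hA : IsClosed A) (hB : IsClosed B) (h : S ⊆ A ∪ B)
    {n : ℕ} (hdA : topologicalKrullDim A ≤ (n : WithBot ℕ∞))
    (hdB : topologicalKrullDim B ≤ (n : WithBot ℕ∞)) : topologicalKrullDim S ≤ (n : WithBot ℕ∞) :=
  le_of_lt_succ' (DimChain48.dim_lt_of_subset_union hA hB h (lt_succ_of_le' hdA) (lt_succ_of_le' hdB))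

theorem support_eq_of_iso {A B : X.Modules} (e : A ≅ B) : CohB1.support A = CohB1.support B :=
  Set.Subset.antisymm (support_subset_of_mono e.hom) (support_subset_of_mono e.inv)

theorem succ_ne_self' (n : ℕ) : ((n : ℕ) : WithBot ℕ∞) + 1 ≠ (n : WithBot ℕ∞) := by
  intro h
  have h' : ((n + 1 : ℕ) : WithBot ℕ∞) = ((n : ℕ) : WithBot ℕ∞) := by
    rw [← h]; push_cast; rfl
  have : n + 1 = n := by exact_mod_cast h'
  omega

end General

section Proper

variable (H : ProperFinHyp.Hyp.{u})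
variable (k : Type u) [Field k] (X : Scheme.{u}) [X.Over (Spec (CommRingCat.of k))]
  [IsProper (X ↘ Spec (CommRingCat.of k))]

include H in
/-- `α_{n-1}(P_K) ≤ μ · α_n(P_K)` for a coherent submodule `K` of a pure slope-semistable `F` of slope `μ`. -/
theorem beta_le_of_isMuSS {L : X.Modules} (hL : CohB1.IsAmple L) {n : ℕ} {F : X.Modules}
    (hFc : Coh.IsCoh F) (hFd : topologicalKrullDim (CohB1.support F) ≤ (n : WithBot ℕ∞))
    (hFt : ShStab.IsPure X F n)
    (hss : StabCat.IsMuSS Coh.IsCoh (ShStab.IsHilbPoly k X L) n F) {K : X.Modules} (u : K ⟶ F) [Mono u]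
    (hK : Coh.IsCoh K) {pK pF : ℚ[X]} (hpK : ShStab.IsHilbPoly k X L K pK)
    (hpF : ShStab.IsHilbPoly k X L F pF) :
    StabCat.alpha (n - 1) pK ≤ StabCat.hatSlope n pF * StabCat.alpha n pK := by
  by_cases hz : IsZero K
  · rw [isHilbPoly_unique hpK (isHilbPoly_zero k X L hz), alpha_zero, alpha_zero, mul_zero]
  · have haK : 0 < StabCat.alpha n pK := alpha_pos_of_isPure H k X hL hFt u hK hz hpK
    have h1 := hatSlope_le_of_isMuSS H k X hL hFc hFd hss u hK hpK hpF haK
    have h2 : StabCat.hatSlope n pK = StabCat.alpha (n - 1) pK / StabCat.alpha n pK := rfl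
    rw [h2, div_le_iff₀ haK] at h1
    exact h1

include H in
/-- **S18967.** -/
theorem isMuSemistable_of_shortExact {L : X.Modules} (hL : CohB1.IsAmple L) (n : ℕ)
    (T : ShortComplex X.Modules) (hT : T.ShortExact)
    (hFt : ShStab.IsPure X T.X₁ n) (hGt : ShStab.IsPure X T.X₃ n)
    (hF : ShStab.IsMuSemistable k X L T.X₁ n) (hG : ShStab.IsMuSemistable k X L T.X₃ n)
    {pF pG : ℚ[X]} (hpF : ShStab.IsHilbPoly k X L T.X₁ pF) (hpG : ShStab.IsHilbPoly k X L T.X₃ pG)
    (hμ : StabCat.hatSlope n pF = StabCat.hatSlope n pG) :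
    ShStab.IsMuSemistable k X L T.X₂ n ∧
      ∀ pH : ℚ[X], ShStab.IsHilbPoly k X L T.X₂ pH → StabCat.hatSlope n pH = StabCat.hatSlope n pF := by
  haveI := ParHilb48.isLocallyNoetherian k X
  obtain ⟨hFc, hF0, hFd, -, hFss⟩ := hF
  obtain ⟨hGc, hG0, hGd, -, hGss⟩ := hG
  haveI := hT.mono_f
  haveI := hT.epi_g
  have hHc : Coh.IsCoh T.X₂ := isCoh_of_shortExact hT hFc hGc
  have hH0 : ¬ IsZero T.X₂ := fun hz => hF0 (IsZero.of_mono T.f hz)
  haveI : T.X₁.IsQuasicoherent := hFc.1
  -- the support of the middle term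
  let e : cokernel T.f ≅ T.X₃ :=
    IsColimit.coconePointUniqueUpToIso (cokernelIsCokernel T.f) hT.gIsCokernel
  have hCc : Coh.IsCoh (cokernel T.f) := H90OXModExact.isCoh_cokernel T.f hHc
  have hsub : CohB1.support T.X₂ ⊆ CohB1.support T.X₁ ∪ CohB1.support (cokernel T.f) :=
    support_subset_union X T.f
  have hCd : topologicalKrullDim (CohB1.support (cokernel T.f)) ≤ (n : WithBot ℕ∞) := by
    rw [support_eq_of_iso e]; exact hGd.le
  have hHle : topologicalKrullDim (CohB1.support T.X₂) ≤ (n : WithBot ℕ∞) :=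
    dim_le_of_subset_union (ModStalk.isClosed_support_of_isFT _ hFc.2)
      (ModStalk.isClosed_support_of_isFT _ hCc.2) hsub hFd.le hCd
  have hHd : topologicalKrullDim (CohB1.support T.X₂) = (n : WithBot ℕ∞) :=
    le_antisymm hHle (hFd ▸ DimDrop.topologicalKrullDim_mono (support_subset_of_mono T.f))
  -- Hilbert polynomials
  have hpH := isHilbPoly_add H k X hL.1 T hT hFc hHc hGc hpF hpG
  have haF : 0 < StabCat.alpha n pF := alpha_pos H k X hL hFc n hFd hpF
  have haG : 0 < StabCat.alpha n pG := alpha_pos H k X hL hGc n hGd hpG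
  have hbF : StabCat.alpha (n - 1) pF = StabCat.hatSlope n pF * StabCat.alpha n pF := by
    unfold StabCat.hatSlope; field_simp
  have hbG : StabCat.alpha (n - 1) pG = StabCat.hatSlope n pF * StabCat.alpha n pG := by
    rw [hμ]; unfold StabCat.hatSlope; field_simp
  have hslope : StabCat.hatSlope n (pF + pG) = StabCat.hatSlope n pF := by
    have h1 : StabCat.hatSlope n (pF + pG) =
        StabCat.alpha (n - 1) (pF + pG) / StabCat.alpha n (pF + pG) := rfl
    rw [h1, alpha_add, alpha_add, hbF, hbG, ← mul_add, mul_div_assoc, div_self (by linarith), mul_one]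
  refine ⟨⟨hHc, hH0, hHd, ?_, ?_⟩, fun pH hpH' => by rw [isHilbPoly_unique hpH' hpH, hslope]⟩
  · -- no submodule of dimension `n - 1`
    intro W w hw hW hdW
    haveI := hw
    have hW0 : ¬ IsZero W := by
      intro hz
      rw [MaxSub48.dim_support_of_isZero hz] at hdW
      simp at hdW
    let ψ : W ⟶ T.X₃ := w ≫ T.g
    have hK : Coh.IsCoh (kernel ψ) := isCoh_kernel ψ hW hGc
    have hzero : (kernel.ι ψ ≫ w) ≫ T.g = 0 := by
      rw [Category.assoc]; exact kernel.condition ψ
    obtain ⟨u, hu⟩ := KernelFork.IsLimit.lift' hT.fIsKernel (kernel.ι ψ ≫ w) hzero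
    have hu' : u ≫ T.f = kernel.ι ψ ≫ w := hu
    haveI : Mono u := mono_of_mono_fac hu'
    have hKz : IsZero (kernel ψ) := by
      by_contra hKz
      have h1 := hFt (kernel ψ) u inferInstance hK hKz
      have h2 := DimDrop.topologicalKrullDim_mono (support_subset_of_mono (kernel.ι ψ))
      rw [h1] at h2
      have h3 : ((n : ℕ) : WithBot ℕ∞) + 1 ≤ (n : WithBot ℕ∞) :=
        le_trans (by gcongr) hdW.le
      have h4 : ((n + 1 : ℕ) : WithBot ℕ∞) ≤ ((n : ℕ) : WithBot ℕ∞) := by
        refine le_trans (le_of_eq ?_) h3; push_cast; rfl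
      have : n + 1 ≤ n := by exact_mod_cast h4
      omega
    haveI : Mono ψ := Preadditive.mono_of_isZero_kernel ψ hKz
    have h1 := hGt W ψ inferInstance hW hW0
    rw [h1] at hdW
    exact succ_ne_self' n hdW
  · -- the slope inequality
    intro W w hw hW pW pH hpW hpH' h1 h2
    haveI := hw
    rw [isHilbPoly_unique hpH' hpH, hslope]
    let ψ : W ⟶ T.X₃ := w ≫ T.g
    have hWd : topologicalKrullDim (CohB1.support W) ≤ (n : WithBot ℕ∞) :=
      (DimDrop.topologicalKrullDim_mono (support_subset_of_mono w)).trans hHle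
    obtain ⟨pK, pI, hK, hI, hpK, hpI, hsum⟩ := exists_decomp H k X hL.1 hW hGc ψ hWd hpW
    have hzero : (kernel.ι ψ ≫ w) ≫ T.g = 0 := by
      rw [Category.assoc]; exact kernel.condition ψ
    obtain ⟨u, hu⟩ := KernelFork.IsLimit.lift' hT.fIsKernel (kernel.ι ψ ≫ w) hzero
    have hu' : u ≫ T.f = kernel.ι ψ ≫ w := hu
    haveI : Mono u := mono_of_mono_fac hu'
    have e1 := beta_le_of_isMuSS H k X hL hFc hFd.le hFt hFss u hK hpK hpF
    have e2 := beta_le_of_isMuSS H k X hL hGc hGd.le hGt hGss (Abelian.factorThruCoimage ψ) hI hpI hpG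
    rw [← hμ] at e2
    have h3 : StabCat.hatSlope n pW = StabCat.alpha (n - 1) pW / StabCat.alpha n pW := rfl
    rw [h3, div_le_iff₀ h1, hsum, alpha_add, alpha_add]
    linarith

end Proper

end Groth.Agent.Lib.StabGeom48
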