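import Groth.Agent.Lib.ParSupp97
import Groth.Agent.Lib.ParHilb48
import Groth.Agent.Lib.HilbPos48c
import Groth.Agent.Lib.StabGeom48f
import Groth.Prelude.Def_W4swparbununimodPar

/-!
# Coefficients of parabolic Hilbert polynomials (helper97)

* `coeff_eq_of_support` / `coeff_pred_le_of_support` / `coeff_pred_mono_of_support` : for coherent subobjects `A ≤ B`
  of a coherent `G` with `Supp (G / A)` inside a set of dimension `< d`, the Hilbert polynomials of `A`, `B`, `G`
  agree in degrees `≥ d` and their coefficients of degree `d - 1` are monotone.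
* `coeff_parPoly` : coefficient formula for `W4swparbununimod.parPoly`.
* `parSum_bounds` : the elementary weighted-sum estimate.
-/

set_option autoImplicit false
set_option maxHeartbeats 400000
universe u
open CategoryTheory CategoryTheory.Limits AlgebraicGeometry Polynomial

namespace Groth.Agent.Lib.ParPoly97

open Groth.Agent.Lib Groth.Agent.Lib.HilbPoly48

section General

variable (H : ProperFinHyp.Hyp.{u})
variable (k : Type u) [Field k] (X : Scheme.{u}) [X.Over (Spec (CommRingCat.of k))]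
  [IsProper (X ↘ Spec (CommRingCat.of k))]

include H in
theorem coeff_eq_zero_of_support_subset {L : X.Modules} (hL : CohB1.IsAmple L) {S : Set X} {d : ℕ}
    (hS : topologicalKrullDim S < (d : WithBot ℕ∞)) {C : X.Modules} (hC : Coh.IsCoh C)
    (hs : CohB1.support C ⊆ S) {Hq : ℚ[X]} (hH : ShStab.IsHilbPoly k X L C Hq) {n : ℕ} (hn : d ≤ n) :
    Hq.coeff n = 0 :=
  coeff_eq_zero_of_dim_lt H k X hL.1 hC n
    (lt_of_le_of_lt (DimDrop.topologicalKrullDim_mono hs)
      (lt_of_lt_of_le hS (by exact_mod_cast hn))) hH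

include H in
theorem coeff_pred_nonneg_of_support_subset {L : X.Modules} (hL : CohB1.IsAmple L) {S : Set X} {d : ℕ}
    (hd : 1 ≤ d) (hS : topologicalKrullDim S < (d : WithBot ℕ∞)) {C : X.Modules} (hC : Coh.IsCoh C)
    (hs : CohB1.support C ⊆ S) {Hq : ℚ[X]} (hH : ShStab.IsHilbPoly k X L C Hq) :
    0 ≤ Hq.coeff (d - 1) := by
  refine coeff_nonneg H k X hL hC (d - 1) ?_ hH
  apply StabGeom48.le_of_lt_succ'
  rw [Nat.sub_add_cancel hd]
  exact lt_of_le_of_lt (DimDrop.topologicalKrullDim_mono hs) hS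

variable {L : X.Modules} (hL : CohB1.IsAmple L) {G : X.Modules} (hG : Coh.IsCoh G)

include H hL hG in
/-- the Hilbert polynomial of `G / A` -/
theorem isHilbPoly_cokernel_arrow (A : Subobject G) (hA : Coh.IsCoh (A : X.Modules)) {PA PG : ℚ[X]}
    (hPA : ShStab.IsHilbPoly k X L (A : X.Modules) PA) (hPG : ShStab.IsHilbPoly k X L G PG) :
    Coh.IsCoh (cokernel A.arrow) ∧ ShStab.IsHilbPoly k X L (cokernel A.arrow) (PG - PA) := by
  haveI : (A : X.Modules).IsQuasicoherent := hA.1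
  have hc : Coh.IsCoh (cokernel A.arrow) := H90OXModExact.isCoh_cokernel A.arrow hG
  exact ⟨hc, isHilbPoly_sub_left H k X hL.1 _ (SubobjSES48.shortExact_cokernel A) hA hG hc hPA hPG⟩

variable {S : Set X} {d : ℕ} (hS : topologicalKrullDim S < (d : WithBot ℕ∞))

include H hL hG hS in
theorem coeff_eq_of_support (A : Subobject G) (hA : Coh.IsCoh (A : X.Modules))
    (hsA : CohB1.support (cokernel A.arrow) ⊆ S) {PA PG : ℚ[X]}
    (hPA : ShStab.IsHilbPoly k X L (A : X.Modules) PA) (hPG : ShStab.IsHilbPoly k X L G PG)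
    {n : ℕ} (hn : d ≤ n) : PA.coeff n = PG.coeff n := by
  obtain ⟨hc, hq⟩ := isHilbPoly_cokernel_arrow H k X hL hG A hA hPA hPG
  have h0 := coeff_eq_zero_of_support_subset H k X hL hS hc hsA hq hn
  rw [coeff_sub] at h0
  linarith

include H hL hG hS in
theorem coeff_pred_le_of_support (hd : 1 ≤ d) (A : Subobject G) (hA : Coh.IsCoh (A : X.Modules))
    (hsA : CohB1.support (cokernel A.arrow) ⊆ S) {PA PG : ℚ[X]}
    (hPA : ShStab.IsHilbPoly k X L (A : X.Modules) PA) (hPG : ShStab.IsHilbPoly k X L G PG) :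
    PA.coeff (d - 1) ≤ PG.coeff (d - 1) := by
  obtain ⟨hc, hq⟩ := isHilbPoly_cokernel_arrow H k X hL hG A hA hPA hPG
  have h0 := coeff_pred_nonneg_of_support_subset H k X hL hd hS hc hsA hq
  rw [coeff_sub] at h0
  linarith

include H hL hG hS in
theorem coeff_pred_mono_of_support (hd : 1 ≤ d) {A B : Subobject G} (hAB : A ≤ B)
    (hA : Coh.IsCoh (A : X.Modules)) (hB : Coh.IsCoh (B : X.Modules))
    (hsA : CohB1.support (cokernel A.arrow) ⊆ S) {PA PB PG : ℚ[X]}
    (hPA : ShStab.IsHilbPoly k X L (A : X.Modules) PA) (hPB : ShStab.IsHilbPoly k X L (B : X.Modules) PB)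
    (hPG : ShStab.IsHilbPoly k X L G PG) :
    PA.coeff (d - 1) ≤ PB.coeff (d - 1) := by
  haveI := ParHilb48.isLocallyNoetherian k X
  obtain ⟨hcA, hqA⟩ := isHilbPoly_cokernel_arrow H k X hL hG A hA hPA hPG
  obtain ⟨hcB, hqB⟩ := isHilbPoly_cokernel_arrow H k X hL hG B hB hPB hPG
  obtain ⟨g, hg, -⟩ := ParSupp97.exists_epi_cokernel_of_le hAB
  haveI := hg
  haveI : (cokernel B.arrow).IsQuasicoherent := hcB.1
  have hK : Coh.IsCoh (kernel g) := H90OXModExact.isCoh_kernel g hcA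
  have hSES : (ShortComplex.mk (kernel.ι g) g (kernel.condition g)).ShortExact :=
    { exact := ShortComplex.exact_kernel g }
  have hPK := isHilbPoly_sub_right H k X hL.1 _ hSES hK hcA hcB hqA hqB
  have hsK : CohB1.support (kernel g) ⊆ S :=
    (H90DevHub2.support_subset_of_mono (kernel.ι g)).trans hsA
  have h0 := coeff_pred_nonneg_of_support_subset H k X hL hd hS hK hsK hPK
  rw [coeff_sub, coeff_sub, coeff_sub] at h0
  linarith

end General

section Str

variable {C : Type*} [Category C] {E : C} (𝓔 : ParSh.Str E)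

theorem pieceX_succ_le_castSucc (j : Fin (𝓔.l + 1)) : 𝓔.pieceX j.succ ≤ 𝓔.pieceX j.castSucc := by
  refine Fin.lastCases ?_ (fun j' => ?_) j
  · rw [𝓔.pieceX_succ_last]; exact 𝓔.bot_le_pieceX _
  · rw [𝓔.pieceX_succ_castSucc, 𝓔.pieceX_castSucc]
    exact 𝓔.piece_anti (Fin.castSucc_lt_succ (i := j')).le

theorem wt_nonneg' (j : Fin (𝓔.l + 1)) : 0 ≤ 𝓔.wt j :=
  𝓔.wt_nonneg.trans (𝓔.wt_strictMono.monotone (Fin.zero_le j))

theorem wt_le_one (j : Fin (𝓔.l + 1)) : 𝓔.wt j ≤ 1 :=
  (𝓔.wt_strictMono.monotone (Fin.le_last j)).trans 𝓔.wt_lt_one.le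

theorem coeff_parPoly (PX : Fin (𝓔.l + 2) → ℚ[X]) (n : ℕ) :
    (W4swparbununimod.parPoly 𝓔 PX).coeff n =
      (((PX (Fin.last (𝓔.l + 1))).coeff n : ℚ) : ℝ) +
        ∑ j : Fin (𝓔.l + 1), 𝓔.wt j *
          ((((PX j.castSucc).coeff n : ℚ) : ℝ) - (((PX j.succ).coeff n : ℚ) : ℝ)) := by
  unfold W4swparbununimod.parPoly W4swparbununimod.rpoly
  rw [coeff_add, finsetSum_coeff, coeff_map]
  congr 1
  refine Finset.sum_congr rfl fun j _ => ?_
  rw [coeff_C_mul, coeff_sub, coeff_map, coeff_map]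
  rfl

end Str

/-- the weighted sum `c_{l+1} + Σ w_j (c_j - c_{j+1})` lies between `c_{l+1}` and `c_0` -/
theorem parSum_bounds {l : ℕ} (w : Fin (l + 1) → ℝ) (hw0 : ∀ j, 0 ≤ w j) (hw1 : ∀ j, w j ≤ 1)
    (c : Fin (l + 2) → ℝ) (hc : ∀ j : Fin (l + 1), c j.succ ≤ c j.castSucc) :
    c (Fin.last (l + 1)) ≤ c (Fin.last (l + 1)) + ∑ j : Fin (l + 1), w j * (c j.castSucc - c j.succ) ∧
      c (Fin.last (l + 1)) + ∑ j : Fin (l + 1), w j * (c j.castSucc - c j.succ) ≤ c 0 := by
  constructor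
  · have : 0 ≤ ∑ j : Fin (l + 1), w j * (c j.castSucc - c j.succ) :=
      Finset.sum_nonneg fun j _ => mul_nonneg (hw0 j) (sub_nonneg.2 (hc j))
    linarith
  · have h1 : ∑ j : Fin (l + 1), w j * (c j.castSucc - c j.succ) ≤
        ∑ j : Fin (l + 1), (c j.castSucc - c j.succ) :=
      Finset.sum_le_sum fun j _ => by
        have := sub_nonneg.2 (hc j)
        nlinarith [hw1 j]
    have h2 := ParHilb48.tele c
    have h3 : ∑ j : Fin (l + 1), (c j.castSucc - c j.succ) = c 0 - c (Fin.last (l + 1)) := by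
      have : ∑ j : Fin (l + 1), (c j.castSucc - c j.succ) = -∑ j : Fin (l + 1), (c j.succ - c j.castSucc) := by
        rw [← Finset.sum_neg_distrib]
        exact Finset.sum_congr rfl fun j _ => by ring
      rw [this, h2]; ring
    linarith

end Groth.Agent.Lib.ParPoly97
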