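import Groth.Agent.Lib.ParPoly97
import Groth.Agent.Lib.ParAsymp97

/-!
# Coefficients of the first modified parabolic Hilbert polynomial (helper97)

* `coeff_parPolyOne` : coefficient formula for `W4swparbununimod.parPolyOne`.
* `coeff_parPoly_of_quot` : the coefficients of `parPoly` through the Hilbert polynomials of the quotients `G / G_j`
  (summation by parts).
* `isHilbPoly_cokernel_pieceX_zero` : `G / G_0 = 0`.
-/

set_option autoImplicit false
set_option maxHeartbeats 400000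
universe u
open CategoryTheory CategoryTheory.Limits AlgebraicGeometry Polynomial

namespace Groth.Agent.Lib.ParPoly97

open Groth.Agent.Lib Groth.Agent.Lib.HilbPoly48

section Str

variable {C : Type*} [Category C] {E : C} (𝓔 : ParSh.Str E)

theorem coeff_parPolyOne (d : ℕ) (Q : ℚ[X]) (QH Hq : Fin (𝓔.l + 2) → ℚ[X]) (n : ℕ) :
    (W4swparbununimod.parPolyOne 𝓔 d Q QH Hq).coeff n =
      ((Q.coeff n : ℚ) : ℝ) -
        ∑ j : Fin (𝓔.l + 1), ((𝓔.wtX j.succ - 𝓔.wtX j.castSucc) *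
          ((StabCat.alpha (d - 1) (QH j.succ) / StabCat.alpha (d - 1) (Hq j.succ) : ℚ) : ℝ)) *
            (((Hq j.succ).coeff n : ℚ) : ℝ) := by
  unfold W4swparbununimod.parPolyOne W4swparbununimod.rpoly
  rw [coeff_sub, finsetSum_coeff, coeff_map]
  congr 1
  refine Finset.sum_congr rfl fun j _ => ?_
  rw [coeff_C_mul, coeff_map]
  rfl

theorem pieceX_zero : 𝓔.pieceX 0 = ⊤ := by
  have : (0 : Fin (𝓔.l + 2)) = (0 : Fin (𝓔.l + 1)).castSucc := rfl
  rw [this, 𝓔.pieceX_castSucc, 𝓔.piece_zero]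

/-- coefficients of `parPoly` when `PX j = Q - h j` coefficientwise, `h 0 = 0` -/
theorem coeff_parPoly_of_quot (PX : Fin (𝓔.l + 2) → ℚ[X]) (n : ℕ) (q : ℝ) (h : Fin (𝓔.l + 2) → ℝ)
    (h0 : h 0 = 0) (hPX : ∀ j, (((PX j).coeff n : ℚ) : ℝ) = q - h j) :
    (W4swparbununimod.parPoly 𝓔 PX).coeff n =
      q - ∑ j : Fin (𝓔.l + 1), (𝓔.wtX j.succ - 𝓔.wtX j.castSucc) * h j.succ := by
  rw [coeff_parPoly]
  have hab := ParAsymp97.abel 𝓔.wtX h h0 𝓔.wtX_last
  simp only [𝓔.wtX_castSucc] at hab ⊢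
  simp only [hPX]
  have h1 : ∑ j : Fin (𝓔.l + 1), 𝓔.wt j * (q - h j.castSucc - (q - h j.succ)) =
      ∑ j : Fin (𝓔.l + 1), 𝓔.wt j * (h j.succ - h j.castSucc) :=
    Finset.sum_congr rfl fun j _ => by ring
  rw [h1]
  linarith

end Str

section Geom

variable (k : Type u) [Field k] (X : Scheme.{u}) [X.Over (Spec (CommRingCat.of k))]

/-- `G / G_0 = 0` has Hilbert polynomial `0` -/
theorem hilbPoly_cokernel_pieceX_zero {L G : X.Modules} (𝓖 : ParSh.Str G) {Hq : ℚ[X]}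
    (hH : ShStab.IsHilbPoly k X L (cokernel (𝓖.pieceX 0).arrow) Hq) : Hq = 0 := by
  have hz : IsZero (cokernel (𝓖.pieceX 0).arrow) := by
    rw [pieceX_zero]
    exact isZero_cokernel_of_epi _
  exact isHilbPoly_unique hH (isHilbPoly_zero k X L hz)

end Geom

end Groth.Agent.Lib.ParPoly97
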