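import Groth.Agent.Lib.ParPoly97b

/-!
# Evaluation of parabolic Hilbert polynomials (helper97)

* `eval_parPoly` / `eval_parPoly_comb` / `eval_parPoly_quot` : the value of `W4swparbununimod.parPoly` at a natural number,
  as the defining weighted sum, as a NONNEGATIVE combination `w₀ g₀ + Σ (w_{j+1} - w_j) g_{j+1}` and through the quotients.
* `eval_parPolyOne`.
* `exists_forall_fin` : finitely many eventual properties hold eventually together.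
-/

set_option autoImplicit false
set_option maxHeartbeats 400000
universe u
open CategoryTheory CategoryTheory.Limits Polynomial

namespace Groth.Agent.Lib.ParSS97

open Groth.Agent.Lib

theorem eval_rpoly (P : ℚ[X]) (m : ℕ) :
    (W4swparbununimod.rpoly P).eval (m : ℝ) = ((P.eval (m : ℚ) : ℚ) : ℝ) := by
  unfold W4swparbununimod.rpoly
  rw [Polynomial.eval_natCast_map]
  rfl

section Str

variable {C : Type*} [Category C] {E : C} (𝓔 : ParSh.Str E)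

theorem eval_parPoly (PX : Fin (𝓔.l + 2) → ℚ[X]) (m : ℕ) :
    (W4swparbununimod.parPoly 𝓔 PX).eval (m : ℝ) =
      (((PX (Fin.last (𝓔.l + 1))).eval (m : ℚ) : ℚ) : ℝ) +
        ∑ j : Fin (𝓔.l + 1), 𝓔.wt j *
          ((((PX j.castSucc).eval (m : ℚ) : ℚ) : ℝ) - (((PX j.succ).eval (m : ℚ) : ℚ) : ℝ)) := by
  unfold W4swparbununimod.parPoly
  rw [eval_add, eval_finsetSum, eval_rpoly]
  congr 1
  refine Finset.sum_congr rfl fun j _ => ?_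
  rw [eval_mul, eval_C, eval_sub, eval_rpoly, eval_rpoly]

theorem eval_parPolyOne (d : ℕ) (Q : ℚ[X]) (QH Hq : Fin (𝓔.l + 2) → ℚ[X]) (m : ℕ) :
    (W4swparbununimod.parPolyOne 𝓔 d Q QH Hq).eval (m : ℝ) =
      ((Q.eval (m : ℚ) : ℚ) : ℝ) -
        ∑ j : Fin (𝓔.l + 1), ((𝓔.wtX j.succ - 𝓔.wtX j.castSucc) *
          ((StabCat.alpha (d - 1) (QH j.succ) / StabCat.alpha (d - 1) (Hq j.succ) : ℚ) : ℝ)) *
            (((Hq j.succ).eval (m : ℚ) : ℚ) : ℝ) := by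
  unfold W4swparbununimod.parPolyOne
  rw [eval_sub, eval_finsetSum, eval_rpoly]
  congr 1
  refine Finset.sum_congr rfl fun j _ => ?_
  rw [eval_mul, eval_C, eval_rpoly]

theorem wtX_zero : 𝓔.wtX 0 = 𝓔.wt 0 := by
  have : (0 : Fin (𝓔.l + 2)) = (0 : Fin (𝓔.l + 1)).castSucc := rfl
  rw [this, 𝓔.wtX_castSucc]

theorem wtX_step_pos (j : Fin (𝓔.l + 1)) : 0 < 𝓔.wtX j.succ - 𝓔.wtX j.castSucc := by
  rw [𝓔.wtX_castSucc, sub_pos]
  refine Fin.lastCases ?_ (fun j' => ?_) j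
  · rw [Fin.succ_last, 𝓔.wtX_last]; exact 𝓔.wt_lt_one
  · rw [Fin.succ_castSucc, 𝓔.wtX_castSucc]
    exact 𝓔.wt_strictMono Fin.castSucc_lt_succ

theorem sum_wtX_step : ∑ j : Fin (𝓔.l + 1), (𝓔.wtX j.succ - 𝓔.wtX j.castSucc) = 1 - 𝓔.wt 0 := by
  rw [ParHilb48.tele 𝓔.wtX, 𝓔.wtX_last, wtX_zero]

/-- through the quotients: `Par(m) = g₀ - Σ (w_{j+1} - w_j) (g₀ - g_{j+1})` -/
theorem eval_parPoly_quot (PX : Fin (𝓔.l + 2) → ℚ[X]) (m : ℕ) :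
    (W4swparbununimod.parPoly 𝓔 PX).eval (m : ℝ) =
      (((PX 0).eval (m : ℚ) : ℚ) : ℝ) -
        ∑ j : Fin (𝓔.l + 1), (𝓔.wtX j.succ - 𝓔.wtX j.castSucc) *
          ((((PX 0).eval (m : ℚ) : ℚ) : ℝ) - (((PX j.succ).eval (m : ℚ) : ℚ) : ℝ)) := by
  rw [eval_parPoly]
  set g : Fin (𝓔.l + 2) → ℝ := fun j => (((PX j).eval (m : ℚ) : ℚ) : ℝ) with hg
  have hab := ParAsymp97.abel 𝓔.wtX (fun j => g 0 - g j) (sub_self _) 𝓔.wtX_last
  simp only [𝓔.wtX_castSucc] at hab ⊢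
  have h1 : ∑ j : Fin (𝓔.l + 1), 𝓔.wt j * (g j.castSucc - g j.succ) =
      ∑ j : Fin (𝓔.l + 1), 𝓔.wt j * (g 0 - g j.succ - (g 0 - g j.castSucc)) :=
    Finset.sum_congr rfl fun j _ => by ring
  change g (Fin.last (𝓔.l + 1)) + ∑ j : Fin (𝓔.l + 1), 𝓔.wt j * (g j.castSucc - g j.succ) =
    g 0 - ∑ j : Fin (𝓔.l + 1), (𝓔.wtX j.succ - 𝓔.wt j) * (g 0 - g j.succ)
  rw [h1]
  linarith

/-- as a nonnegative combination: `Par(m) = w₀ g₀ + Σ (w_{j+1} - w_j) g_{j+1}` -/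
theorem eval_parPoly_comb (PX : Fin (𝓔.l + 2) → ℚ[X]) (m : ℕ) :
    (W4swparbununimod.parPoly 𝓔 PX).eval (m : ℝ) =
      𝓔.wt 0 * (((PX 0).eval (m : ℚ) : ℚ) : ℝ) +
        ∑ j : Fin (𝓔.l + 1), (𝓔.wtX j.succ - 𝓔.wtX j.castSucc) *
          (((PX j.succ).eval (m : ℚ) : ℚ) : ℝ) := by
  rw [eval_parPoly_quot]
  have h1 : ∑ j : Fin (𝓔.l + 1), (𝓔.wtX j.succ - 𝓔.wtX j.castSucc) *
      ((((PX 0).eval (m : ℚ) : ℚ) : ℝ) - (((PX j.succ).eval (m : ℚ) : ℚ) : ℝ)) =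
      (∑ j : Fin (𝓔.l + 1), (𝓔.wtX j.succ - 𝓔.wtX j.castSucc)) * (((PX 0).eval (m : ℚ) : ℚ) : ℝ) -
        ∑ j : Fin (𝓔.l + 1), (𝓔.wtX j.succ - 𝓔.wtX j.castSucc) * (((PX j.succ).eval (m : ℚ) : ℚ) : ℝ) := by
    rw [Finset.sum_mul, ← Finset.sum_sub_distrib]
    exact Finset.sum_congr rfl fun j _ => by ring
  rw [h1, sum_wtX_step]
  ring

/-- monotonicity of the parabolic polynomial in the Hilbert polynomials of the pieces -/
theorem eval_parPoly_mono (PX PX' : Fin (𝓔.l + 2) → ℚ[X]) (m : ℕ)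
    (h : ∀ j, (PX j).eval (m : ℚ) ≤ (PX' j).eval (m : ℚ)) :
    (W4swparbununimod.parPoly 𝓔 PX).eval (m : ℝ) ≤ (W4swparbununimod.parPoly 𝓔 PX').eval (m : ℝ) := by
  rw [eval_parPoly_comb, eval_parPoly_comb]
  refine add_le_add (mul_le_mul_of_nonneg_left (by exact_mod_cast h 0) 𝓔.wt_nonneg)
    (Finset.sum_le_sum fun j _ =>
      mul_le_mul_of_nonneg_left (by exact_mod_cast h j.succ) (wtX_step_pos 𝓔 j).le)

end Str

theorem exists_forall_fin {n : ℕ} (p : Fin n → ℕ → Prop) (h : ∀ j, ∃ M : ℕ, ∀ m, M ≤ m → p j m) :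
    ∃ M : ℕ, ∀ m, M ≤ m → ∀ j, p j m := by
  choose M hM using h
  refine ⟨Finset.univ.sup M, fun m hm j => hM j m ((Finset.le_sup (Finset.mem_univ j)).trans hm)⟩

end Groth.Agent.Lib.ParSS97
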