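import Mathlib.Algebra.MvPolynomial.Expand
import Mathlib.Algebra.MvPolynomial.Derivation
import Mathlib.Algebra.MvPolynomial.CommRing
import Mathlib.RingTheory.Adjoin.Basic
import Mathlib.RingTheory.Ideal.Span
import Mathlib.Algebra.CharP.Defs
import Mathlib.Data.Fin.VecNotation
import Mathlib.Tactic.LinearCombination
import Mathlib.Tactic.Ring
import Mathlib.Tactic.FinCases

/-!
# Parity decomposition of `R[x,y]` over `R[x²,y²]`

Every `p : R[x,y]` is uniquely `sq a0 + sq a1 * x + sq a2 * y + sq a3 * (x*y)` with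
`sq = expand 2`.
-/

set_option autoImplicit false

namespace Groth.Agent.Lib.Parity2

open MvPolynomial

variable {R : Type*} [CommRing R]

/-- The substitution `x ↦ x², y ↦ y²`. -/
noncomputable abbrev sq : MvPolynomial (Fin 2) R →ₐ[R] MvPolynomial (Fin 2) R := expand 2

/-- `E a0 a1 a2 a3 = sq a0 + sq a1 * x + sq a2 * y + sq a3 * (x * y)`. -/
noncomputable def E (a0 a1 a2 a3 : MvPolynomial (Fin 2) R) : MvPolynomial (Fin 2) R :=
  sq a0 + sq a1 * X 0 + sq a2 * X 1 + sq a3 * (X 0 * X 1)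

lemma sq_X0 : sq (X 0 : MvPolynomial (Fin 2) R) = X 0 ^ 2 := expand_X _ _
lemma sq_X1 : sq (X 1 : MvPolynomial (Fin 2) R) = X 1 ^ 2 := expand_X _ _

lemma E_add (a0 a1 a2 a3 b0 b1 b2 b3 : MvPolynomial (Fin 2) R) :
    E a0 a1 a2 a3 + E b0 b1 b2 b3 = E (a0 + b0) (a1 + b1) (a2 + b2) (a3 + b3) := by
  simp only [E, map_add]; ring

lemma E_zero : E (0 : MvPolynomial (Fin 2) R) 0 0 0 = 0 := by
  simp [E]

/-- Product formula. -/
lemma E_mul (a0 a1 a2 a3 b0 b1 b2 b3 : MvPolynomial (Fin 2) R) :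
    E a0 a1 a2 a3 * E b0 b1 b2 b3 =
      E (a0 * b0 + X 0 * (a1 * b1) + X 1 * (a2 * b2) + X 0 * X 1 * (a3 * b3))
        (a0 * b1 + a1 * b0 + X 1 * (a2 * b3 + a3 * b2))
        (a0 * b2 + a2 * b0 + X 0 * (a1 * b3 + a3 * b1))
        (a0 * b3 + a3 * b0 + a1 * b2 + a2 * b1) := by
  simp only [E, map_add, map_mul, sq_X0, sq_X1]; ring

lemma exists_E (p : MvPolynomial (Fin 2) R) : ∃ a0 a1 a2 a3, p = E a0 a1 a2 a3 := by
  induction p using MvPolynomial.induction_on with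
  | C r => exact ⟨C r, 0, 0, 0, by simp [E]⟩
  | add p q hp hq =>
    obtain ⟨a0, a1, a2, a3, rfl⟩ := hp
    obtain ⟨b0, b1, b2, b3, rfl⟩ := hq
    exact ⟨_, _, _, _, E_add _ _ _ _ _ _ _ _⟩
  | mul_X p i hp =>
    obtain ⟨a0, a1, a2, a3, rfl⟩ := hp
    fin_cases i
    · refine ⟨X 0 * a1, a0, X 0 * a3, a2, ?_⟩
      simp only [E, map_mul, sq_X0, Fin.zero_eta]; ring
    · refine ⟨X 1 * a2, X 1 * a3, a0, a1, ?_⟩
      simp only [E, map_mul, sq_X1, Fin.mk_one]; ring


lemma coeff_sq_mul_monomial (a : MvPolynomial (Fin 2) R) (ε ε₀ m : Fin 2 →₀ ℕ)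
    (hε : ∀ i, ε i ≤ 1) (hε₀ : ∀ i, ε₀ i ≤ 1) :
    coeff (2 • m + ε₀) (sq a * monomial ε 1) = if ε = ε₀ then coeff m a else 0 := by
  classical
  split_ifs with h
  · subst h
    rw [coeff_mul_monomial, mul_one, coeff_expand_smul 2 (by norm_num)]
  · rw [coeff_mul_monomial']
    split_ifs with hle
    · rw [mul_one]
      obtain ⟨i, hi⟩ : ∃ i, ε i ≠ ε₀ i := by
        by_contra hcon
        push Not at hcon
        exact h (Finsupp.ext hcon)
      apply coeff_expand_of_not_dvd (i := i)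
      have h1 := hε i
      have h2 := hε₀ i
      have h3 := hle i
      simp only [Finsupp.coe_tsub, Finsupp.coe_add, Finsupp.coe_smul, Pi.sub_apply, Pi.add_apply,
        Pi.smul_apply, smul_eq_mul] at h3 ⊢
      omega
    · rfl

lemma E_eq_monomials (a0 a1 a2 a3 : MvPolynomial (Fin 2) R) :
    E a0 a1 a2 a3 = sq a0 * monomial 0 1 + sq a1 * monomial (Finsupp.single 0 1) 1 +
      sq a2 * monomial (Finsupp.single 1 1) 1 +
      sq a3 * monomial (Finsupp.single 0 1 + Finsupp.single 1 1) 1 := by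
  have h0 : (monomial (0 : Fin 2 →₀ ℕ) (1 : R)) = 1 := rfl
  have h3 : (monomial (Finsupp.single (0 : Fin 2) 1 + Finsupp.single 1 1) (1 : R)) = X 0 * X 1 := by
    simp [X, monomial_mul]
  rw [h0, h3, mul_one]
  rfl

lemma le_one_zero : ∀ i : Fin 2, (0 : Fin 2 →₀ ℕ) i ≤ 1 := by intro i; simp
lemma le_one_e0 : ∀ i : Fin 2, (Finsupp.single (0 : Fin 2) 1 : Fin 2 →₀ ℕ) i ≤ 1 := by
  intro i; fin_cases i <;> simp
lemma le_one_e1 : ∀ i : Fin 2, (Finsupp.single (1 : Fin 2) 1 : Fin 2 →₀ ℕ) i ≤ 1 := by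
  intro i; fin_cases i <;> simp
lemma le_one_e01 : ∀ i : Fin 2,
    (Finsupp.single (0 : Fin 2) 1 + Finsupp.single 1 1 : Fin 2 →₀ ℕ) i ≤ 1 := by
  intro i; fin_cases i <;> simp

lemma e0_ne_zero : (Finsupp.single (0 : Fin 2) 1 : Fin 2 →₀ ℕ) ≠ 0 := by simp
lemma e1_ne_zero : (Finsupp.single (1 : Fin 2) 1 : Fin 2 →₀ ℕ) ≠ 0 := by simp
lemma e01_ne_zero : (Finsupp.single (0 : Fin 2) 1 + Finsupp.single 1 1 : Fin 2 →₀ ℕ) ≠ 0 := by
  intro h; have := DFunLike.congr_fun h 0; simp at this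
lemma e0_ne_e1 : (Finsupp.single (0 : Fin 2) 1 : Fin 2 →₀ ℕ) ≠ Finsupp.single 1 1 := by
  intro h; have := DFunLike.congr_fun h 0; simp at this
lemma e0_ne_e01 : (Finsupp.single (0 : Fin 2) 1 : Fin 2 →₀ ℕ) ≠
    Finsupp.single 0 1 + Finsupp.single 1 1 := by
  intro h; have := DFunLike.congr_fun h 1; simp at this
lemma e1_ne_e01 : (Finsupp.single (1 : Fin 2) 1 : Fin 2 →₀ ℕ) ≠
    Finsupp.single 0 1 + Finsupp.single 1 1 := by
  intro h; have := DFunLike.congr_fun h 0; simp at this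

/-- Uniqueness of the parity decomposition. -/
theorem E_eq_zero {a0 a1 a2 a3 : MvPolynomial (Fin 2) R} (h : E a0 a1 a2 a3 = 0) :
    a0 = 0 ∧ a1 = 0 ∧ a2 = 0 ∧ a3 = 0 := by
  rw [E_eq_monomials] at h
  refine ⟨?_, ?_, ?_, ?_⟩
  · ext m
    have := congrArg (coeff (2 • m + 0)) h
    rw [coeff_add, coeff_add, coeff_add,
      coeff_sq_mul_monomial _ _ _ _ le_one_zero le_one_zero,
      coeff_sq_mul_monomial _ _ _ _ le_one_e0 le_one_zero,
      coeff_sq_mul_monomial _ _ _ _ le_one_e1 le_one_zero,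
      coeff_sq_mul_monomial _ _ _ _ le_one_e01 le_one_zero,
      if_pos rfl, if_neg e0_ne_zero, if_neg e1_ne_zero, if_neg e01_ne_zero] at this
    simpa using this
  · ext m
    have := congrArg (coeff (2 • m + Finsupp.single 0 1)) h
    rw [coeff_add, coeff_add, coeff_add,
      coeff_sq_mul_monomial _ _ _ _ le_one_zero le_one_e0,
      coeff_sq_mul_monomial _ _ _ _ le_one_e0 le_one_e0,
      coeff_sq_mul_monomial _ _ _ _ le_one_e1 le_one_e0,
      coeff_sq_mul_monomial _ _ _ _ le_one_e01 le_one_e0,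
      if_pos rfl, if_neg e0_ne_zero.symm, if_neg e0_ne_e1.symm, if_neg e0_ne_e01.symm] at this
    simpa using this
  · ext m
    have := congrArg (coeff (2 • m + Finsupp.single 1 1)) h
    rw [coeff_add, coeff_add, coeff_add,
      coeff_sq_mul_monomial _ _ _ _ le_one_zero le_one_e1,
      coeff_sq_mul_monomial _ _ _ _ le_one_e0 le_one_e1,
      coeff_sq_mul_monomial _ _ _ _ le_one_e1 le_one_e1,
      coeff_sq_mul_monomial _ _ _ _ le_one_e01 le_one_e1,
      if_pos rfl, if_neg e1_ne_zero.symm, if_neg e0_ne_e1, if_neg e1_ne_e01.symm] at this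
    simpa using this
  · ext m
    have := congrArg (coeff (2 • m + (Finsupp.single 0 1 + Finsupp.single 1 1))) h
    rw [coeff_add, coeff_add, coeff_add,
      coeff_sq_mul_monomial _ _ _ _ le_one_zero le_one_e01,
      coeff_sq_mul_monomial _ _ _ _ le_one_e0 le_one_e01,
      coeff_sq_mul_monomial _ _ _ _ le_one_e1 le_one_e01,
      coeff_sq_mul_monomial _ _ _ _ le_one_e01 le_one_e01,
      if_pos rfl, if_neg e01_ne_zero.symm, if_neg e0_ne_e01, if_neg e1_ne_e01] at this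
    simpa using this


theorem E_inj {a0 a1 a2 a3 b0 b1 b2 b3 : MvPolynomial (Fin 2) R}
    (h : E a0 a1 a2 a3 = E b0 b1 b2 b3) : a0 = b0 ∧ a1 = b1 ∧ a2 = b2 ∧ a3 = b3 := by
  have h' : E (a0 - b0) (a1 - b1) (a2 - b2) (a3 - b3) = 0 := by
    have : E (a0 - b0) (a1 - b1) (a2 - b2) (a3 - b3) = E a0 a1 a2 a3 - E b0 b1 b2 b3 := by
      simp only [E, map_sub]; ring
    rw [this, h, sub_self]
  obtain ⟨h0, h1, h2, h3⟩ := E_eq_zero h'
  exact ⟨sub_eq_zero.mp h0, sub_eq_zero.mp h1, sub_eq_zero.mp h2, sub_eq_zero.mp h3⟩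

section charTwo

variable [CharP R 2]

lemma two_eq_zero (σ : Type*) : (2 : MvPolynomial σ R) = 0 := by
  have h : (2 : R) = 0 := by exact_mod_cast CharP.cast_eq_zero R 2
  calc (2 : MvPolynomial σ R) = C (2 : R) := (map_ofNat C 2).symm
    _ = 0 := by rw [h, map_zero]

lemma add_self_eq_zero' {σ : Type*} (a : MvPolynomial σ R) : a + a = 0 := by
  have := two_eq_zero (R := R) σ
  linear_combination a * this

lemma neg_eq' {σ : Type*} (a : MvPolynomial σ R) : -a = a := by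
  have := two_eq_zero (R := R) σ
  linear_combination (-a) * this

/-- A derivation kills `sq a` in characteristic 2. -/
lemma D_sq (D : Derivation R (MvPolynomial (Fin 2) R) (MvPolynomial (Fin 2) R))
    (a : MvPolynomial (Fin 2) R) : D (sq a) = 0 := by
  induction a using MvPolynomial.induction_on with
  | C r =>
    rw [expand_C]
    exact D.map_algebraMap r
  | add p q hp hq => rw [map_add, map_add, hp, hq, add_zero]
  | mul_X p i hp =>
    rw [map_mul, expand_X, Derivation.leibniz, hp, smul_zero, add_zero, Derivation.leibniz_pow]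
    have := two_eq_zero (R := R) (Fin 2)
    simp only [smul_eq_mul, nsmul_eq_mul, Nat.cast_ofNat]
    rw [this]
    ring

/-- The derivation in terms of the parity decomposition. -/
lemma D_E (D : Derivation R (MvPolynomial (Fin 2) R) (MvPolynomial (Fin 2) R))
    (c0 c1 d0 d1 : MvPolynomial (Fin 2) R)
    (hx : D (X 0) = sq c0 + sq c1 * X 0) (hy : D (X 1) = sq d0 + sq d1 * X 1)
    (a0 a1 a2 a3 : MvPolynomial (Fin 2) R) :
    D (E a0 a1 a2 a3) =
      E (a1 * c0 + a2 * d0) (a1 * c1 + a3 * d0) (a2 * d1 + a3 * c0) (a3 * (c1 + d1)) := by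
  simp only [E, map_add, Derivation.leibniz, D_sq, smul_zero, add_zero, zero_add, smul_eq_mul,
    hx, hy, map_mul]
  ring

end charTwo


section kernel

/-- The embedding `R[x,y] → R[a,b,c]`, `x ↦ a`, `y ↦ b`. -/
noncomputable def emb : MvPolynomial (Fin 2) R →ₐ[R] MvPolynomial (Fin 3) R :=
  aeval ![X 0, X 1]

@[simp] lemma emb_X0 : emb (X 0 : MvPolynomial (Fin 2) R) = X 0 := by simp [emb]
@[simp] lemma emb_X1 : emb (X 1 : MvPolynomial (Fin 2) R) = X 1 := by simp [emb]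
@[simp] lemma emb_C (r : R) : emb (C r : MvPolynomial (Fin 2) R) = C r := by simp [emb]

variable (g3 : MvPolynomial (Fin 2) R)

/-- The map `a ↦ x², b ↦ y², c ↦ g3`. -/
noncomputable def Phi : MvPolynomial (Fin 3) R →ₐ[R] MvPolynomial (Fin 2) R :=
  aeval ![X 0 ^ 2, X 1 ^ 2, g3]

lemma Phi_emb (a : MvPolynomial (Fin 2) R) : Phi g3 (emb a) = sq a := by
  have : (Phi g3).comp emb = sq := by
    apply MvPolynomial.algHom_ext
    intro i
    fin_cases i <;> simp [Phi, emb]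
  exact DFunLike.congr_fun this a

lemma Phi_X2 : Phi g3 (X 2) = g3 := by simp [Phi]

/-- Division with remainder by `c² + G'(a,b)`. -/
lemma exists_div (G' : MvPolynomial (Fin 2) R) (f : MvPolynomial (Fin 3) R) :
    ∃ q r0 r1, f = q * (X 2 ^ 2 + emb G') + emb r0 + emb r1 * X 2 := by
  induction f using MvPolynomial.induction_on with
  | C r => exact ⟨0, C r, 0, by simp⟩
  | add p q hp hq =>
    obtain ⟨q1, r0, r1, rfl⟩ := hp
    obtain ⟨q2, s0, s1, rfl⟩ := hq
    exact ⟨q1 + q2, r0 + s0, r1 + s1, by simp only [map_add]; ring⟩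
  | mul_X p i hp =>
    obtain ⟨q1, r0, r1, rfl⟩ := hp
    fin_cases i
    · exact ⟨q1 * X 0, r0 * X 0, r1 * X 0, by simp only [map_mul, emb_X0, Fin.zero_eta]; ring⟩
    · exact ⟨q1 * X 1, r0 * X 1, r1 * X 1, by simp only [map_mul, emb_X1, Fin.mk_one]; ring⟩
    · exact ⟨q1 * X 2 + emb r1, -(r1 * G'), r0, by
        simp only [map_mul, map_neg, Fin.reduceFinMk]; ring⟩

/-- Kernel of `Phi`. -/
theorem ker_Phi (b1 b2 b3 G' : MvPolynomial (Fin 2) R) (hg : g3 = E 0 b1 b2 b3)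
    (hb3 : ∀ r, r * b3 = 0 → r = 0)
    (hF : Phi g3 (X 2 ^ 2 + emb G') = 0) :
    RingHom.ker (Phi g3) = Ideal.span {X 2 ^ 2 + emb G'} := by
  apply le_antisymm
  · intro f hf
    rw [RingHom.mem_ker] at hf
    obtain ⟨q, r0, r1, rfl⟩ := exists_div G' f
    rw [map_add, map_add, map_mul, hF, mul_zero, zero_add, map_mul, Phi_emb, Phi_emb, Phi_X2,
      hg] at hf
    have h1 : sq r0 + sq r1 * E 0 b1 b2 b3 = E r0 (r1 * b1) (r1 * b2) (r1 * b3) := by
      simp only [E, map_mul, map_zero]; ring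
    rw [h1] at hf
    obtain ⟨h0, -, -, h3⟩ := E_eq_zero hf
    have hr1 := hb3 r1 h3
    rw [h0, hr1, map_zero, zero_mul, add_zero, add_zero]
    exact Ideal.mul_mem_left _ _ (Ideal.subset_span rfl)
  · rw [Ideal.span_le]
    intro y hy
    rw [Set.mem_singleton_iff] at hy
    rw [hy, SetLike.mem_coe, RingHom.mem_ker]
    exact hF

end kernel


section adjoin

lemma sq_mem_adjoin (S : Set (MvPolynomial (Fin 2) R)) (h0 : X 0 ^ 2 ∈ S) (h1 : X 1 ^ 2 ∈ S)
    (b : MvPolynomial (Fin 2) R) : sq b ∈ Algebra.adjoin R S := by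
  induction b using MvPolynomial.induction_on with
  | C r =>
    rw [expand_C]
    exact Subalgebra.algebraMap_mem _ r
  | add p q hp hq =>
    rw [map_add]
    exact Subalgebra.add_mem _ hp hq
  | mul_X p i hp =>
    rw [map_mul, expand_X]
    refine Subalgebra.mul_mem _ hp ?_
    fin_cases i
    · exact Algebra.subset_adjoin h0
    · exact Algebra.subset_adjoin h1

/-- Elements of `R[x², x³, y², y³]` have a decomposition with divisibility properties. -/
lemma cusp_of_mem_adjoin (a : MvPolynomial (Fin 2) R)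
    (ha : a ∈ Algebra.adjoin R
      ({X 0 ^ 2, X 0 ^ 3, X 1 ^ 2, X 1 ^ 3} : Set (MvPolynomial (Fin 2) R))) :
    ∃ a0 a1 a2 a3, a = E a0 (X 0 * a1) (X 1 * a2) (X 0 * X 1 * a3) := by
  induction ha using Algebra.adjoin_induction with
  | mem x hx =>
    simp only [Set.mem_insert_iff, Set.mem_singleton_iff] at hx
    rcases hx with rfl | rfl | rfl | rfl
    · exact ⟨X 0, 0, 0, 0, by simp [E]⟩
    · refine ⟨0, 1, 0, 0, ?_⟩
      simp only [E, map_mul, map_zero, map_one, sq_X0, mul_zero]; ring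
    · exact ⟨X 1, 0, 0, 0, by simp [E]⟩
    · refine ⟨0, 0, 1, 0, ?_⟩
      simp only [E, map_mul, map_zero, map_one, sq_X1, mul_zero]; ring
  | algebraMap r =>
    exact ⟨C r, 0, 0, 0, by simp [E, MvPolynomial.algebraMap_eq]⟩
  | add x y _ _ hx hy =>
    obtain ⟨a0, a1, a2, a3, rfl⟩ := hx
    obtain ⟨b0, b1, b2, b3, rfl⟩ := hy
    refine ⟨a0 + b0, a1 + b1, a2 + b2, a3 + b3, ?_⟩
    rw [E_add]
    congr 1 <;> ring
  | mul x y _ _ hx hy =>
    obtain ⟨a0, a1, a2, a3, rfl⟩ := hx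
    obtain ⟨b0, b1, b2, b3, rfl⟩ := hy
    refine ⟨a0 * b0 + X 0 * (X 0 * a1 * (X 0 * b1)) + X 1 * (X 1 * a2 * (X 1 * b2)) +
        X 0 * X 1 * (X 0 * X 1 * a3 * (X 0 * X 1 * b3)),
      a0 * b1 + a1 * b0 + X 1 ^ 3 * (a2 * b3 + a3 * b2),
      a0 * b2 + a2 * b0 + X 0 ^ 3 * (a1 * b3 + a3 * b1),
      a0 * b3 + a3 * b0 + a1 * b2 + a2 * b1, ?_⟩
    rw [E_mul]
    congr 1 <;> ring

end adjoin

end Groth.Agent.Lib.Parity2
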