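import Groth.Agent.Lib.PdTor88
import Groth.Agent.Lib.FibreFree88

/-!
# Projective dimension and fibres (helper88)

`A → B` flat of finite presentation, `M` a finitely presented `B`-module flat over `A`: then
`pd_B M = sup_p pd_{B ⊗ κ(p)} ((B ⊗ κ(p)) ⊗_B M)` (EGA IV 11.3.? / S5930).
-/

set_option autoImplicit false
set_option maxHeartbeats 400000
set_option linter.style.haveILetI false

open CategoryTheory Limits

namespace Groth.Agent.Lib.PdFibre88

open Groth.Agent.Lib.FinFreeRes Groth.Agent.Lib.FinFreeResFP88 Groth.Agent.Lib.PdTor88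
  Groth.Agent.Lib.KerFP88 Function TensorProduct

universe u

section Shift

variable {C : Type*} [Category C] [Abelian C]

/-- Generic dimension shifting along a chain of short exact sequences with projective middle
terms. -/
theorem hasProjectiveDimensionLT_shift (Zs Xs : ℕ → C) (i : ∀ n, Zs (n + 1) ⟶ Xs n)
    (p : ∀ n, Xs n ⟶ Zs n) (w : ∀ n, i n ≫ p n = 0)
    (hS : ∀ n, (ShortComplex.mk (i n) (p n) (w n)).ShortExact) (hP : ∀ n, Projective (Xs n)) :
    ∀ (n k : ℕ), HasProjectiveDimensionLT (Zs n) (k + 1) ↔
      HasProjectiveDimensionLT (Zs 0) (k + 1 + n)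
  | 0, k => Iff.rfl
  | n + 1, k => by
    have h1 := (hS n).hasProjectiveDimensionLT_X₃_iff k (hP n)
    change HasProjectiveDimensionLT (Zs n) (k + 2) ↔
      HasProjectiveDimensionLT (Zs (n + 1)) (k + 1) at h1
    rw [← h1, hasProjectiveDimensionLT_shift Zs Xs i p w hS hP n (k + 1)]
    have : k + 1 + 1 + n = k + 1 + (n + 1) := by omega
    rw [this]

end Shift

section BC

attribute [local instance] Algebra.TensorProduct.rightAlgebra

variable (A : Type u) {B : Type u} [CommRing A] [CommRing B] [Algebra A B]
  (T : Type u) [CommRing T] [Algebra A T]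

/-- Base change of a `B`-module to `B ⊗[A] T`, as an object of the module category. -/
noncomputable abbrev bc (Z : ModuleCat.{u} B) : ModuleCat.{u} (B ⊗[A] T) :=
  ModuleCat.of (B ⊗[A] T) ((B ⊗[A] T) ⊗[B] Z)

/-- Base change of a morphism. -/
noncomputable abbrev bcMap {Z Z' : ModuleCat.{u} B} (f : Z ⟶ Z') : bc A T Z ⟶ bc A T Z' :=
  ModuleCat.ofHom (f.hom.baseChange (B ⊗[A] T))

variable [Algebra.FinitePresentation A B] [Module.Flat A B]

theorem bc_shortExact (M : ModuleCat.{u} B) (hM : Good A M) (n : ℕ) :
    (ShortComplex.mk (bcMap A T (ι M n)) (bcMap A T (ε M n)) (by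
      apply ModuleCat.hom_ext
      apply LinearMap.ext
      intro x
      change ((ε M n).hom.baseChange (B ⊗[A] T)) (((ι M n).hom.baseChange (B ⊗[A] T)) x) = 0
      rw [← LinearMap.comp_apply, ← LinearMap.baseChange_comp]
      have : (ε M n).hom ∘ₗ (ι M n).hom = 0 := by
        rw [← ModuleCat.hom_comp, ι_ε]
        rfl
      rw [this, LinearMap.baseChange_zero]
      rfl)).ShortExact := by
  have hg := good_syz A M hM n
  letI : Module A (syz M n) := Module.compHom _ (algebraMap A B)
  haveI : IsScalarTower A B (syz M n) := IsScalarTower.of_algebraMap_smul fun _ _ => rfl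
  haveI : Module.Flat A (syz M n) := hg.2 inferInstance inferInstance
  letI : Module A (X M n) := Module.compHom _ (algebraMap A B)
  haveI : IsScalarTower A B (X M n) := IsScalarTower.of_algebraMap_smul fun _ _ => rfl
  refine ModuleCat.shortComplex_shortExact _ ?_ ?_ ?_
  · have hex : Function.Exact (ι M n).hom (ε M n).hom := by
      intro x
      constructor
      · intro hx
        obtain ⟨z, hz⟩ := exists_ι_eq M n x hx
        exact ⟨z, hz⟩
      · rintro ⟨z, rfl⟩
        have := ι_ε M n
        exact congrArg (fun f : syz M (n + 1) ⟶ syz M n => f.hom z) this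
    exact lTensor_exact (B ⊗[A] T) hex (ε_surjective M n)
  · exact injective_baseChange_ker (A' := A) T (S' := B) (B := B ⊗[A] T) (ε M n).hom
      (ε_surjective M n)
  · exact LinearMap.lTensor_surjective (B ⊗[A] T) (ε_surjective M n)

theorem bc_projective (M : ModuleCat.{u} B) (n : ℕ) : Projective (bc A T (X M n)) := by
  haveI : Module.Free B (X M n) := free_X M n
  haveI : Module.Free (B ⊗[A] T) ((B ⊗[A] T) ⊗[B] X M n) := inferInstance
  haveI : Module.Projective (B ⊗[A] T) ((B ⊗[A] T) ⊗[B] X M n) := Module.Projective.of_free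
  exact (bc A T (X M n)).projective_of_categoryTheory_projective

theorem bc_shift (M : ModuleCat.{u} B) (hM : Good A M) (n k : ℕ) :
    HasProjectiveDimensionLT (bc A T (syz M n)) (k + 1) ↔
      HasProjectiveDimensionLT (bc A T M) (k + 1 + n) :=
  hasProjectiveDimensionLT_shift (fun n => bc A T (syz M n)) (fun n => bc A T (X M n))
    (fun n => bcMap A T (ι M n)) (fun n => bcMap A T (ε M n)) _
    (fun n => bc_shortExact A T M hM n) (fun n => bc_projective A T M n) n k

end BC

section Main

variable (A : Type u) {B : Type u} [CommRing A] [CommRing B] [Algebra A B]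
  [Algebra.FinitePresentation A B] [Module.Flat A B]

/-- Projectivity of a good module can be tested on the fibres. -/
theorem projective_iff_fibres (Z : ModuleCat.{u} B) (hZ : Good A Z) :
    HasProjectiveDimensionLT Z (0 + 1) ↔ ∀ p : PrimeSpectrum A,
      HasProjectiveDimensionLT (bc A p.asIdeal.ResidueField Z) (0 + 1) := by
  haveI := hZ.1
  letI : Module A Z := Module.compHom _ (algebraMap A B)
  haveI : IsScalarTower A B Z := IsScalarTower.of_algebraMap_smul fun _ _ => rfl
  haveI : Module.Flat A Z := hZ.2 inferInstance inferInstance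
  constructor
  · intro h p
    haveI : Projective Z := projective_iff_hasProjectiveDimensionLT_one.mpr h
    haveI : Module.Projective B Z := (IsProjective.iff_projective Z).mpr inferInstance
    haveI : Module.Projective (B ⊗[A] p.asIdeal.ResidueField)
        ((B ⊗[A] p.asIdeal.ResidueField) ⊗[B] Z) := inferInstance
    haveI : Projective (bc A p.asIdeal.ResidueField Z) :=
      (bc A p.asIdeal.ResidueField Z).projective_of_categoryTheory_projective
    exact projective_iff_hasProjectiveDimensionLT_one.mp inferInstance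
  · intro h
    have hflat : Module.Flat B Z := by
      apply Groth.Agent.Lib.FibreFree88.flat_of_fibre_flat (A := A)
      intro p hp
      have h1 := h ⟨p, hp⟩
      haveI : Projective (bc A p.ResidueField Z) :=
        projective_iff_hasProjectiveDimensionLT_one.mpr h1
      have hpr : Module.Projective (B ⊗[A] p.ResidueField) ((B ⊗[A] p.ResidueField) ⊗[B] Z) :=
        (IsProjective.iff_projective (bc A p.ResidueField Z)).mpr inferInstance
      exact @Module.Flat.of_projective _ _ _ _ _ hpr
    haveI : Module.Projective B Z := Module.Flat.projective_of_finitePresentation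
    haveI : Projective Z := Z.projective_of_categoryTheory_projective
    exact projective_iff_hasProjectiveDimensionLT_one.mp inferInstance

omit [Algebra.FinitePresentation A B] [Module.Flat A B] in
/-- A finite module all of whose fibres vanish is zero. -/
theorem subsingleton_of_fibres (M : Type u) [AddCommGroup M] [Module B M] [Module.Finite B M]
    (h : ∀ p : PrimeSpectrum A,
      Subsingleton ((B ⊗[A] p.asIdeal.ResidueField) ⊗[B] M)) : Subsingleton M := by
  classical
  by_contra hne
  rw [not_subsingleton_iff_nontrivial] at hne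
  have hann : Module.annihilator B M ≠ ⊤ := by
    intro htop
    have h1 : (1 : B) ∈ Module.annihilator B M := by rw [htop]; trivial
    rw [Module.mem_annihilator] at h1
    obtain ⟨x, y, hxy⟩ := hne
    exact hxy (by rw [← one_smul B x, ← one_smul B y, h1 x, h1 y])
  obtain ⟨q, hq, hle⟩ := Ideal.exists_le_maximal _ hann
  haveI : q.IsMaximal := hq
  letI : Field (B ⧸ q) := Ideal.Quotient.field q
  let p : Ideal A := q.comap (algebraMap A B)
  haveI : p.IsPrime := Ideal.comap_isPrime _ _
  have hf₁ : p ≤ RingHom.ker (Algebra.ofId A (B ⧸ q) : A →ₐ[A] B ⧸ q) := by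
    intro a ha
    rw [RingHom.mem_ker]
    change algebraMap A (B ⧸ q) a = 0
    rw [IsScalarTower.algebraMap_apply A B (B ⧸ q), Ideal.Quotient.algebraMap_eq,
      Ideal.Quotient.eq_zero_iff_mem]
    exact ha
  have hf₂ : p.primeCompl ≤ (IsUnit.submonoid (B ⧸ q)).comap
      (Algebra.ofId A (B ⧸ q) : A →ₐ[A] B ⧸ q) := by
    intro a ha
    rw [Submonoid.mem_comap]
    change IsUnit (algebraMap A (B ⧸ q) a)
    rw [isUnit_iff_ne_zero, IsScalarTower.algebraMap_apply A B (B ⧸ q),
      Ideal.Quotient.algebraMap_eq, Ne, Ideal.Quotient.eq_zero_iff_mem]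
    exact ha
  let φ : (B ⊗[A] p.ResidueField) →ₐ[B] (B ⧸ q) :=
    Algebra.TensorProduct.lift (Algebra.ofId B (B ⧸ q))
      (Ideal.ResidueField.liftₐ p (Algebra.ofId A (B ⧸ q)) hf₁ hf₂) (fun _ _ => Commute.all _ _)
  letI : Algebra (B ⊗[A] p.ResidueField) (B ⧸ q) := φ.toRingHom.toAlgebra
  haveI : IsScalarTower B (B ⊗[A] p.ResidueField) (B ⧸ q) :=
    IsScalarTower.of_algebraMap_eq (fun x => (φ.commutes x).symm)
  haveI := h ⟨p, inferInstance⟩
  haveI h2 : Subsingleton ((B ⧸ q) ⊗[B ⊗[A] p.ResidueField] ((B ⊗[A] p.ResidueField) ⊗[B] M)) :=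
    inferInstance
  have h3 : Subsingleton ((B ⧸ q) ⊗[B] M) :=
    (AlgebraTensorModule.cancelBaseChange B (B ⊗[A] p.ResidueField) (B ⧸ q) (B ⧸ q)
      M).symm.toEquiv.subsingleton
  have h4 : Subsingleton (M ⧸ (q • ⊤ : Submodule B M)) :=
    (TensorProduct.quotTensorEquivQuotSMul M q).symm.toEquiv.subsingleton
  have h5 : (⊤ : Submodule B M) ≤ q • ⊤ := by
    rw [Submodule.Quotient.subsingleton_iff.mp h4]
  obtain ⟨r, hr1, hr0⟩ := Submodule.exists_sub_one_mem_and_smul_eq_zero_of_fg_of_le_smul q
    (⊤ : Submodule B M) Module.Finite.fg_top h5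
  have hr : r ∈ Module.annihilator B M := by
    rw [Module.mem_annihilator]
    exact fun m => hr0 m trivial
  have hrq : r ∈ q := hle hr
  have : (1 : B) ∈ q := by
    have := q.sub_mem hrq hr1
    simpa using this
  exact hq.ne_top ((Ideal.eq_top_iff_one q).mpr this)

/-- Comparison of `HasProjectiveDimensionLT` with the fibres. -/
theorem hasProjectiveDimensionLT_iff_fibres (M : ModuleCat.{u} B) (hM : Good A M) : ∀ j : ℕ,
    HasProjectiveDimensionLT M j ↔ ∀ p : PrimeSpectrum A,
      HasProjectiveDimensionLT (bc A p.asIdeal.ResidueField M) j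
  | 0 => by
    haveI := hM.1
    simp only [hasProjectiveDimensionLT_zero_iff_isZero, ModuleCat.isZero_iff_subsingleton]
    constructor
    · intro h p
      infer_instance
    · intro h
      exact subsingleton_of_fibres A M h
  | k + 1 => by
    have hidx : 0 + 1 + k = k + 1 := by omega
    have h1 := hasProjectiveDimensionLT_syz_iff M k 0
    have h2 := projective_iff_fibres A (syz M k) (good_syz A M hM k)
    rw [hidx] at h1
    rw [← h1, h2]
    refine forall_congr' fun p => ?_
    have h3 := bc_shift A p.asIdeal.ResidueField M hM k 0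
    rw [hidx] at h3
    exact h3

/-- **Projective dimension is the supremum of the projective dimensions of the fibres.** -/
theorem projectiveDimension_eq_iSup (M : Type u) [AddCommGroup M] [Module B M] [Module A M]
    [IsScalarTower A B M] [Module.FinitePresentation B M] [Module.Flat A M] :
    projectiveDimension (ModuleCat.of B M) =
      ⨆ p : PrimeSpectrum A, projectiveDimension
        (ModuleCat.of (B ⊗[A] p.asIdeal.ResidueField) ((B ⊗[A] p.asIdeal.ResidueField) ⊗[B] M)) := by
  have hM : Good A (ModuleCat.of B M) := good_of A M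
  have key := hasProjectiveDimensionLT_iff_fibres A (ModuleCat.of B M) hM
  apply le_antisymm
  · apply Groth.Agent.Lib.FibModPd.withBot_enat_le_of_forall_lt
    intro j hj
    rw [projectiveDimension_lt_iff, key j]
    intro p
    rw [← projectiveDimension_lt_iff]
    exact lt_of_le_of_lt (le_iSup (fun p : PrimeSpectrum A => projectiveDimension
      (ModuleCat.of (B ⊗[A] p.asIdeal.ResidueField)
        ((B ⊗[A] p.asIdeal.ResidueField) ⊗[B] M))) p) hj
  · apply iSup_le
    intro p
    apply Groth.Agent.Lib.FibModPd.withBot_enat_le_of_forall_lt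
    intro j hj
    rw [projectiveDimension_lt_iff] at hj ⊢
    exact (key j).mp hj p

end Main

end Groth.Agent.Lib.PdFibre88
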