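import Mathlib
import Groth.Prelude.Def_CycAlg
import Groth.Agent.Lib.PerHex
set_option maxHeartbeats 400000
set_option autoImplicit false
set_option linter.style.haveILetI false
universe u v

namespace Groth.Agent.Lib.PerHex2
open Groth.Agent.Lib.PerHex

variable {R : Type u} [CommRing R]

section fin
variable {M N : Type v} [AddCommGroup M] [Module R M] [AddCommGroup N] [Module R N]

/-- when `φ ∘ ψ = 0`: `length (ker φ) = length (range ψ) + length (perH φ ψ)`. -/
theorem length_ker_eq (φ : M →ₗ[R] N) (ψ : N →ₗ[R] M) (h : φ ∘ₗ ψ = 0) :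
    Module.length R (LinearMap.ker φ) =
      Module.length R (LinearMap.range ψ) + Module.length R (CycAlg.perH φ ψ) := by
  have hle : LinearMap.range ψ ≤ LinearMap.ker φ := by
    rintro _ ⟨n, rfl⟩
    exact LinearMap.congr_fun h n
  rw [Module.length_eq_add_of_exact
    ((LinearMap.range ψ).submoduleOf (LinearMap.ker φ)).subtype
    ((LinearMap.range ψ).submoduleOf (LinearMap.ker φ)).mkQ
    (Submodule.subtype_injective _) (Submodule.mkQ_surjective _)
    (LinearMap.exact_subtype_mkQ _)]
  congr 1
  exact (Submodule.submoduleOfEquivOfLe hle).length_eq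

theorem length_perH_le (φ : M →ₗ[R] N) (ψ : N →ₗ[R] M) :
    Module.length R (CycAlg.perH φ ψ) ≤ Module.length R M :=
  (Module.length_le_of_surjective _ (Submodule.mkQ_surjective _)).trans
    (Module.length_le_of_injective _ (Submodule.subtype_injective _))

theorem finCoh_of_length_lt_top (φ : M →ₗ[R] M) (ψ : M →ₗ[R] M)
    (hM : Module.length R M < ⊤) : CycAlg.FinCoh R φ ψ :=
  ⟨(length_perH_le φ ψ).trans_lt hM, (length_perH_le ψ φ).trans_lt hM⟩

theorem herbrand_eq_zero_of_length_lt_top (φ : M →ₗ[R] M) (ψ : M →ₗ[R] M)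
    (h : CycAlg.IsPeriodic φ ψ) (hM : Module.length R M < ⊤) : CycAlg.herbrand R φ ψ = 0 := by
  have e1 := length_ker_eq φ ψ h.1
  have e2 := length_ker_eq ψ φ h.2
  have k1 : Module.length R M = Module.length R (LinearMap.ker φ) + Module.length R (LinearMap.range φ) :=
    Module.length_eq_add_of_exact (LinearMap.ker φ).subtype φ.rangeRestrict
      (Submodule.subtype_injective _) φ.surjective_rangeRestrict (by
        rw [LinearMap.exact_iff]; ext y; simp [LinearMap.mem_ker])
  have k2 : Module.length R M = Module.length R (LinearMap.ker ψ) + Module.length R (LinearMap.range ψ) :=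
    Module.length_eq_add_of_exact (LinearMap.ker ψ).subtype ψ.rangeRestrict
      (Submodule.subtype_injective _) ψ.surjective_rangeRestrict (by
        rw [LinearMap.exact_iff]; ext y; simp [LinearMap.mem_ker])
  have f1 : Module.length R (LinearMap.ker φ) < ⊤ :=
    (Module.length_le_of_injective _ (Submodule.subtype_injective _)).trans_lt hM
  have f2 : Module.length R (LinearMap.ker ψ) < ⊤ :=
    (Module.length_le_of_injective _ (Submodule.subtype_injective _)).trans_lt hM
  have f3 : Module.length R (LinearMap.range φ) < ⊤ :=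
    (Module.length_le_of_injective _ (Submodule.subtype_injective _)).trans_lt hM
  have f4 : Module.length R (LinearMap.range ψ) < ⊤ :=
    (Module.length_le_of_injective _ (Submodule.subtype_injective _)).trans_lt hM
  have f5 := (length_perH_le φ ψ).trans_lt hM
  have f6 := (length_perH_le ψ φ).trans_lt hM
  unfold CycAlg.herbrand
  generalize Module.length R (CycAlg.perH φ ψ) = a at *
  generalize Module.length R (CycAlg.perH ψ φ) = b at *
  generalize Module.length R (LinearMap.ker φ) = kφ at *
  generalize Module.length R (LinearMap.ker ψ) = kψ at *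
  generalize Module.length R (LinearMap.range φ) = rφ at *
  generalize Module.length R (LinearMap.range ψ) = rψ at *
  generalize Module.length R M = m at *
  lift a to ℕ using f5.ne
  lift b to ℕ using f6.ne
  lift kφ to ℕ using f1.ne
  lift kψ to ℕ using f2.ne
  lift rφ to ℕ using f3.ne
  lift rψ to ℕ using f4.ne
  lift m to ℕ using hM.ne
  simp only [ENat.toNat_natCast]
  have e1' : kφ = rψ + a := by exact_mod_cast e1
  have e2' : kψ = rφ + b := by exact_mod_cast e2
  have k1' : m = kφ + rφ := by exact_mod_cast k1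
  have k2' : m = kψ + rψ := by exact_mod_cast k2
  omega

end fin

section mor
variable {M M' : Type v} [AddCommGroup M] [Module R M] [AddCommGroup M'] [Module R M']

theorem herbrand_eq_of_ker_coker (φ ψ : M →ₗ[R] M) (φ' ψ' : M' →ₗ[R] M') (h : CycAlg.IsPeriodic φ ψ) (h' : CycAlg.IsPeriodic φ' ψ') (f : M →ₗ[R] M') (cφ : φ' ∘ₗ f = f ∘ₗ φ) (cψ : ψ' ∘ₗ f = f ∘ₗ ψ) (hfin : CycAlg.FinCoh R φ ψ) (hfin' : CycAlg.FinCoh R φ' ψ') (hker : Module.length R (LinearMap.ker f) < ⊤) (hcoker : Module.length R (M' ⧸ LinearMap.range f) < ⊤) : CycAlg.herbrand R φ ψ = CycAlg.herbrand R φ' ψ' := by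
  -- restrictions to the kernel
  have hKφ : ∀ x ∈ LinearMap.ker f, φ x ∈ LinearMap.ker f := by
    intro x hx
    rw [LinearMap.mem_ker] at hx ⊢
    have := LinearMap.congr_fun cφ x
    simp only [LinearMap.comp_apply] at this
    rw [← this, hx, map_zero]
  have hKψ : ∀ x ∈ LinearMap.ker f, ψ x ∈ LinearMap.ker f := by
    intro x hx
    rw [LinearMap.mem_ker] at hx ⊢
    have := LinearMap.congr_fun cψ x
    simp only [LinearMap.comp_apply] at this
    rw [← this, hx, map_zero]
  have hIφ : ∀ y ∈ LinearMap.range f, φ' y ∈ LinearMap.range f := by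
    rintro _ ⟨x, rfl⟩
    exact ⟨φ x, (LinearMap.congr_fun cφ x).symm⟩
  have hIψ : ∀ y ∈ LinearMap.range f, ψ' y ∈ LinearMap.range f := by
    rintro _ ⟨x, rfl⟩
    exact ⟨ψ x, (LinearMap.congr_fun cψ x).symm⟩
  let φK := φ.restrict hKφ
  let ψK := ψ.restrict hKψ
  let φI := φ'.restrict hIφ
  let ψI := ψ'.restrict hIψ
  let φC := Submodule.mapQ (LinearMap.range f) (LinearMap.range f) φ' (fun y hy => hIφ y hy)
  let ψC := Submodule.mapQ (LinearMap.range f) (LinearMap.range f) ψ' (fun y hy => hIψ y hy)
  have pK : CycAlg.IsPeriodic φK ψK := by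
    constructor
    · ext x; exact LinearMap.congr_fun h.1 x.1
    · ext x; exact LinearMap.congr_fun h.2 x.1
  have pI : CycAlg.IsPeriodic φI ψI := by
    constructor
    · ext x; exact LinearMap.congr_fun h'.1 x.1
    · ext x; exact LinearMap.congr_fun h'.2 x.1
  have pC : CycAlg.IsPeriodic φC ψC := by
    constructor
    · ext x
      simp only [φC, ψC, LinearMap.comp_apply, Submodule.mkQ_apply, Submodule.mapQ_apply,
        LinearMap.zero_apply]
      have := LinearMap.congr_fun h'.1 x
      simp only [LinearMap.comp_apply, LinearMap.zero_apply] at this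
      rw [this]; rfl
    · ext x
      simp only [φC, ψC, LinearMap.comp_apply, Submodule.mkQ_apply, Submodule.mapQ_apply,
        LinearMap.zero_apply]
      have := LinearMap.congr_fun h'.2 x
      simp only [LinearMap.comp_apply, LinearMap.zero_apply] at this
      rw [this]; rfl
  -- first SES: ker f → M → range f
  have A := herbrand_additive φK ψK φ ψ φI ψI pK h pI (LinearMap.ker f).subtype
    (LinearMap.ker f).subtype f.rangeRestrict f.rangeRestrict
    (by ext x; rfl) (by ext x; rfl)
    (by ext x; exact LinearMap.congr_fun cφ x) (by ext x; exact LinearMap.congr_fun cψ x)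
    (Submodule.subtype_injective _) (Submodule.subtype_injective _)
    f.surjective_rangeRestrict f.surjective_rangeRestrict
    (by rw [Submodule.range_subtype, LinearMap.ker_rangeRestrict])
    (by rw [Submodule.range_subtype, LinearMap.ker_rangeRestrict])
    (Or.inl ⟨finCoh_of_length_lt_top φK ψK hker, hfin⟩)
  obtain ⟨-, -, fI, eA⟩ := A
  have B := herbrand_additive φI ψI φ' ψ' φC ψC pI h' pC (LinearMap.range f).subtype
    (LinearMap.range f).subtype (LinearMap.range f).mkQ (LinearMap.range f).mkQ
    (by ext x; rfl) (by ext x; rfl)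
    (by ext x; rfl) (by ext x; rfl)
    (Submodule.subtype_injective _) (Submodule.subtype_injective _)
    (Submodule.mkQ_surjective _) (Submodule.mkQ_surjective _)
    (by rw [Submodule.range_subtype, Submodule.ker_mkQ])
    (by rw [Submodule.range_subtype, Submodule.ker_mkQ])
    (Or.inl ⟨fI, hfin'⟩)
  obtain ⟨-, -, -, eB⟩ := B
  rw [eA, eB, herbrand_eq_zero_of_length_lt_top φK ψK pK hker,
    herbrand_eq_zero_of_length_lt_top φC ψC pC hcoker]
  ring
end mor

end Groth.Agent.Lib.PerHex2
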