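import Groth.Agent.Lib.TorAmpShift21
import Groth.Agent.Lib.FlatAmp3
import Groth.Prelude.Def_DDual2

/-!
# Tor amplitude under restriction of scalars (helper21)

`A → B` with `B` of tor dimension `≤ d` over `A`.

* `lTensor_exact_of_baseChange_exact`: for `N` flat over `B`, exactness of `B ⊗_A X → B ⊗_A Y → B ⊗_A Z` implies exactness
  of `N ⊗_A X → N ⊗_A Y → N ⊗_A Z`.
* `hasTorDimLE_of_flat`: a flat `B`-module has tor dimension `≤ d` over `A`.
* `hasTorAmplitudeIn_restrictD`: tor amplitude `[a, b]` over `B` gives tor amplitude `[a - d, b]` over `A`.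
-/

set_option autoImplicit false
universe u

open CategoryTheory CategoryTheory.Limits TensorProduct

attribute [local instance] HasDerivedCategory.standard

namespace Groth.Agent.Lib.TorAmpRestrict21

open Groth.Agent.Lib.PCohAmp Groth.Agent.Lib.DRingPerfAmp Groth.Agent.Lib.FlatAmp
  Groth.Agent.Lib.TorShift21

section Module

variable {R : Type*} [CommRing R] (A : Type*) [CommRing A] [Algebra R A]
variable {N : Type*} [AddCommGroup N] [Module R N] [Module A N] [IsScalarTower R A N]

open Groth.Agent.Lib.FlatCrit in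
theorem lTensor_exact_of_baseChange_exact [Module.Flat A N] {X Y Z : Type*} [AddCommGroup X]
    [Module R X] [AddCommGroup Y] [Module R Y] [AddCommGroup Z] [Module R Z] (f : X →ₗ[R] Y)
    (g : Y →ₗ[R] Z) (h : Function.Exact (f.lTensor A) (g.lTensor A)) :
    Function.Exact (f.lTensor N) (g.lTensor N) := by
  have h' : Function.Exact (f.baseChange A) (g.baseChange A) := h
  have h2 : Function.Exact ((f.baseChange A).lTensor N) ((g.baseChange A).lTensor N) :=
    Module.Flat.lTensor_exact N h'
  intro y
  obtain ⟨y', rfl⟩ := (AlgebraTensorModule.cancelBaseChange R A A N Y).surjective y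
  rw [lTensor_cancelBaseChange_apply]
  constructor
  · intro hy
    have hy' : ((g.baseChange A).lTensor N) y' = 0 :=
      (AlgebraTensorModule.cancelBaseChange R A A N Z).injective (hy.trans (map_zero _).symm)
    obtain ⟨x', hx'⟩ := (h2 y').1 hy'
    exact ⟨AlgebraTensorModule.cancelBaseChange R A A N X x', by
      rw [lTensor_cancelBaseChange_apply, hx']⟩
  · rintro ⟨x, hx⟩
    obtain ⟨x', rfl⟩ := (AlgebraTensorModule.cancelBaseChange R A A N X).surjective x
    rw [lTensor_cancelBaseChange_apply] at hx
    have hx' := (AlgebraTensorModule.cancelBaseChange R A A N Y).injective hx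
    have : ((g.baseChange A).lTensor N) y' = 0 := (h2 y').2 ⟨x', hx'⟩
    rw [this, map_zero]

end Module

variable {A B : Type u} [CommRing A] [CommRing B] [Algebra A B]

/-- exactness of `X ⊗ P` at a positive degree, in terms of linear maps -/
lemma isZero_homology_succ_iff (X : ModuleCat.{u} A) (P : ChainComplex (ModuleCat.{u} A) ℕ) (q : ℕ) :
    IsZero ((lt X P).homology (q + 1)) ↔
      Function.Exact ((P.d (q + 2) (q + 1)).hom.lTensor X) ((P.d (q + 1) q).hom.lTensor X) := by
  rw [← HomologicalComplex.exactAt_iff_isZero_homology,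
    HomologicalComplex.exactAt_iff' _ (q + 2) (q + 1) q (by simp) (by simp),
    ShortComplex.ShortExact.moduleCat_exact_iff_function_exact]
  rfl

/-- a flat `B`-module has tor dimension over `A` at most that of `B` -/
theorem hasTorDimLE_of_flat (d : ℕ) (hB : DRing.HasTorDimLE A d B) (N : ModuleCat.{u} B)
    [Module.Flat B N] :
    DRing.HasTorDimLE A d ((ModuleCat.restrictScalars.{u} (algebraMap A B)).obj N) := by
  intro N' _ _ p hp
  obtain ⟨q, rfl⟩ : ∃ q, p = q + 1 := ⟨p - 1, by lia⟩
  let P := projectiveResolution (ModuleCat.of A N')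
  have h1 := (subsingleton_tor_iff A B N' P (q + 1)).1 (hB N' (q + 1) hp)
  rw [subsingleton_tor_iff A _ N' P (q + 1)]
  rw [isZero_homology_succ_iff] at h1
  change IsZero ((lt ((ModuleCat.restrictScalars.{u} (algebraMap A B)).obj N) P.complex).homology
    (q + 1))
  rw [isZero_homology_succ_iff]
  letI : Module A N := Module.compHom N (algebraMap A B)
  haveI : IsScalarTower A B N := IsScalarTower.of_algebraMap_smul fun r x => rfl
  exact lTensor_exact_of_baseChange_exact (R := A) B (N := N) _ _ h1

/-- **Tor amplitude and restriction of scalars**: if `B` has tor dimension `≤ d` over `A` and `K ∈ D(B)` has tor amplitude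
in `[a, b]`, then `K|_A` has tor amplitude in `[a - d, b]`. -/
theorem hasTorAmplitudeIn_restrictD (d : ℕ)
    (hB : DRing.HasTorAmplitudeIn A (-(d : ℤ)) 0 (Dual.inD A B)) (K : Dual.D B) (a b : ℤ)
    (hK : DRing.HasTorAmplitudeIn B a b K) :
    DRing.HasTorAmplitudeIn A (a - d) b ((DRing.restrictD (algebraMap A B)).obj K) := by
  have hB' : DRing.HasTorDimLE A d B := (Groth.Agent.Lib.TorAmpShift21.hasTorDimLE_iff A B d).2 hB
  obtain ⟨F, h1, h2, ⟨e⟩⟩ := hK
  have e' : (DRing.restrictD (algebraMap A B)).obj K ≅
      DerivedCategory.Q.obj ((DRing.restrictCx (algebraMap A B)).obj F) :=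
    (DRing.restrictD (algebraMap A B)).mapIso e.symm ≪≫
      ((ModuleCat.restrictScalars.{u} (algebraMap A B)).mapDerivedCategoryFactors).app F
  rw [hasTorAmplitudeIn_iff_pa]
  refine pa_of_iso e'.symm ?_
  refine pa_fl_of_terms A (a - d) b _ a b (fun i hi => ?_) (fun i => ?_)
  · exact (ModuleCat.restrictScalars.{u} (algebraMap A B)).map_isZero (h1 i hi)
  · by_cases hi : i < a ∨ b < i
    · exact pa_of_isZero A _ _ ((DerivedCategory.singleFunctor (ModuleCat.{u} A) 0).map_isZero
        ((ModuleCat.restrictScalars.{u} (algebraMap A B)).map_isZero (h1 i hi)))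
    · have : Module.Flat B (F.X i) := h2 i
      have h3 := hasTorDimLE_of_flat d hB' (F.X i)
      have h4 := (hasTorAmplitudeIn_iff_pa A _ _ _).1
        ((Groth.Agent.Lib.TorAmpShift21.hasTorDimLE_iff A _ d).1 h3)
      exact pa_mono (by lia) (by lia) h4

end Groth.Agent.Lib.TorAmpRestrict21
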