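/-
helper81: stalkwise relative tor amplitude (DerSch.HasTorAmplitude): composition (SGA6 III 3.x, case of schemes).
-/
import Groth.Agent.Lib.TorAmpRestrict21
import Groth.Agent.Lib.TorAmpBasic21
import Groth.Agent.Lib.FreeModStalk
import Groth.Prelude.Def_DerSch

set_option autoImplicit false
universe u
open CategoryTheory CategoryTheory.Limits AlgebraicGeometry
attribute [local instance] HasDerivedCategory.standard

namespace Groth.Agent.Lib.TorAmpStalk81

open Groth.Agent.Lib.TorAmpBasic21

section Ring

variable {A B : Type u} [CommRing A] [CommRing B]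

/-- ring-hom form of helper21 `hasTorAmplitudeIn_restrictD`: the module `B` is given as any `B`-module `U` iso to `B`,
restricted along `φ`, as a single complex. -/
theorem hasTorAmplitudeIn_restrictD_hom (φ : A →+* B) (d : ℕ) (U : ModuleCat.{u} B)
    (eU : U ≅ ModuleCat.of B B)
    (hB : DRing.HasTorAmplitudeIn A (-(d : ℤ)) 0
      (DRing.toD ((HomologicalComplex.single (ModuleCat.{u} A) (ComplexShape.up ℤ) 0).obj
        ((ModuleCat.restrictScalars.{u} φ).obj U))))
    (K : Dual.D B) (a b : ℤ) (hK : DRing.HasTorAmplitudeIn B a b K) :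
    DRing.HasTorAmplitudeIn A (a - d) b ((DRing.restrictD φ).obj K) := by
  let _ : Algebra A B := φ.toAlgebra
  have e1 : (ModuleCat.restrictScalars.{u} φ).obj (ModuleCat.of B B) ≅ ModuleCat.of A B :=
    (AddEquiv.toLinearEquiv (M := ↑((ModuleCat.restrictScalars.{u} φ).obj (ModuleCat.of B B)))
      (M₂ := ↑(ModuleCat.of A B)) (by exact AddEquiv.refl B) (fun r x => rfl)).toModuleIso
  have e2 : DRing.toD ((HomologicalComplex.single (ModuleCat.{u} A) (ComplexShape.up ℤ) 0).obj
        ((ModuleCat.restrictScalars.{u} φ).obj U)) ≅ Dual.inD A B :=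
    ((DerivedCategory.singleFunctorIsoCompQ (ModuleCat.{u} A) 0).app _).symm ≪≫
      (DerivedCategory.singleFunctor (ModuleCat.{u} A) 0).mapIso
        ((ModuleCat.restrictScalars.{u} φ).mapIso eU ≪≫ e1)
  exact Groth.Agent.Lib.TorAmpRestrict21.hasTorAmplitudeIn_restrictD d
    (hasTorAmplitudeIn_of_iso A e2 hB) K a b hK

end Ring

section Sch

variable {X Y Z : Scheme.{u}}

/-- the stalk complex over the composite is the restriction of scalars of the stalk complex over `f` -/
noncomputable def stalkCxOverCompIso (f : X ⟶ Y) (g : Y ⟶ Z) (x : X) (F : CochainComplex X.Modules ℤ) :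
    (DerSch.stalkCxOver (f ≫ g) x).obj F ≅
      (DRing.restrictCx (g.stalkMap (f.base x)).hom).obj ((DerSch.stalkCxOver f x).obj F) :=
  HomologicalComplex.Hom.isoOfComponents
    (fun i => ModuleCat.restrictScalarsComp'App (g.stalkMap (f.base x)).hom (f.stalkMap x).hom
      ((f ≫ g).stalkMap x).hom (by rw [Scheme.Hom.stalkMap_comp]; rfl)
      ((DerSch.stalkFunctor X x).obj (F.X i)))
    (by
      intro i j _
      ext m
      rfl)

/-- the stalk complex of `O_Y[0]` over `g` is `O_{Y,y}` restricted along the stalk map, in degree 0 -/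
noncomputable def stalkCxOverUnitIso (g : Y ⟶ Z) (y : Y) :
    (DerSch.stalkCxOver g y).obj (DerSch.unitCx Y) ≅
      (HomologicalComplex.single (ModuleCat.{u} (Z.presheaf.stalk (g.base y))) (ComplexShape.up ℤ) 0).obj
        ((ModuleCat.restrictScalars.{u} (g.stalkMap y).hom).obj
          ((DerSch.stalkFunctor Y y).obj (Coh.structureModule Y))) :=
  (HomologicalComplex.singleMapHomologicalComplex (DerSch.stalkOver g y) (ComplexShape.up ℤ) 0).app
    (Coh.structureModule Y)

theorem hasTorAmplitude_comp (f : X ⟶ Y) (g : Y ⟶ Z) (n : ℕ) (hg : DerSch.HasTorDimLE g n)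
    (F : CochainComplex X.Modules ℤ) (a b : ℤ) (hF : DerSch.HasTorAmplitude f a b F) :
    DerSch.HasTorAmplitude (f ≫ g) (a - n) b F := by
  intro x
  have hB := hasTorAmplitudeIn_of_iso _
    ((DerivedCategory.Q (C := ModuleCat.{u} (Z.presheaf.stalk (g.base (f.base x))))).mapIso
      (stalkCxOverUnitIso g (f.base x))) (hg (f.base x))
  have key := hasTorAmplitudeIn_restrictD_hom (g.stalkMap (f.base x)).hom n
    ((DerSch.stalkFunctor Y (f.base x)).obj (Coh.structureModule Y))
    (Groth.Agent.Lib.FreeModStalk.unitStalkEquiv (f.base x)).symm.toModuleIso hB _ a b (hF x)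
  refine hasTorAmplitudeIn_of_iso _ ?_ key
  exact ((ModuleCat.restrictScalars.{u} (g.stalkMap (f.base x)).hom).mapDerivedCategoryFactors).app _ ≪≫
    (DerivedCategory.Q (C := ModuleCat.{u} (Z.presheaf.stalk (g.base (f.base x))))).mapIso
      (stalkCxOverCompIso f g x F).symm

end Sch

end Groth.Agent.Lib.TorAmpStalk81
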