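import Groth.Agent.Lib.RelPCClosed17
import Groth.Agent.Lib.TorAmpStalk81
import Groth.Agent.Lib.FlatFPPerfect
import Groth.Agent.Lib.FreeModStalk

/-!
# Perfect dimension `≤ 0` is flat and locally of finite presentation (helper17)
-/

set_option autoImplicit false
universe u
open CategoryTheory CategoryTheory.Limits AlgebraicGeometry TopologicalSpace Opposite
attribute [local instance] HasDerivedCategory.standard

namespace Groth.Agent.Lib.PerfDimZero17

open Groth.Agent.Lib.RelPCMorphism17 Groth.Agent.Lib.RelPCClosed17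

section Ring

variable {A : Type u} [CommRing A]

/-- A module in degree `0` has tor amplitude in `[0, 0]` iff it is flat. -/
theorem hasTorAmplitudeIn_single_zero_iff (M : ModuleCat.{u} A) :
    DRing.HasTorAmplitudeIn A 0 0 (DRing.toD
      ((HomologicalComplex.single (ModuleCat.{u} A) (ComplexShape.up ℤ) 0).obj M)) ↔
      Module.Flat A M := by
  constructor
  · rintro ⟨E, hv, hf, ⟨e⟩⟩
    have e0 : E.homology 0 ≅
        ((HomologicalComplex.single (ModuleCat.{u} A) (ComplexShape.up ℤ) 0).obj M).homology 0 :=
      ((DerivedCategory.homologyFunctorFactors (ModuleCat.{u} A) 0).app E).symm ≪≫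
        (DerivedCategory.homologyFunctor (ModuleCat.{u} A) 0).mapIso e ≪≫
        (DerivedCategory.homologyFunctorFactors (ModuleCat.{u} A) 0).app _
    have e1 : ((HomologicalComplex.single (ModuleCat.{u} A) (ComplexShape.up ℤ) 0).obj M).homology 0
        ≅ M := HomologicalComplex.singleObjHomologySelfIso (ComplexShape.up ℤ) 0 M
    have hz1 : IsZero (E.X ((ComplexShape.up ℤ).prev 0)) := by
      have hp : (ComplexShape.up ℤ).prev 0 = -1 := by simp
      rw [hp]
      exact hv (-1) (Or.inl (by omega))
    have hz2 : IsZero (E.X ((ComplexShape.up ℤ).next 0)) := by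
      have hp : (ComplexShape.up ℤ).next 0 = 1 := by simp
      rw [hp]
      exact hv 1 (Or.inr (by omega))
    have hf0 : (E.sc 0).f = 0 := hz1.eq_of_src _ _
    have hg0 : (E.sc 0).g = 0 := hz2.eq_of_tgt _ _
    have e2 : E.homology 0 ≅ E.X 0 :=
      (ShortComplex.HomologyData.ofZeros (E.sc 0) hf0 hg0).left.homologyIso
    haveI := hf 0
    exact Module.Flat.of_linearEquiv (e2.symm ≪≫ e0 ≪≫ e1).symm.toLinearEquiv
  · intro hM
    refine ⟨_, fun i hi => HomologicalComplex.isZero_single_obj_X _ _ _ _ (by omega), fun i => ?_,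
      ⟨Iso.refl _⟩⟩
    by_cases hi : i = 0
    · subst hi
      exact Module.Flat.of_linearEquiv
        (HomologicalComplex.singleObjXSelf (ComplexShape.up ℤ) 0 M).toLinearEquiv
    · haveI : Subsingleton (((HomologicalComplex.single (ModuleCat.{u} A) (ComplexShape.up ℤ) 0).obj
          M).X i) :=
        ModuleCat.subsingleton_of_isZero (HomologicalComplex.isZero_single_obj_X _ _ _ _ hi)
      infer_instance

end Ring

section Scheme

variable {X Y : Scheme.{u}} (f : X ⟶ Y)

/-- The stalk of the structure module, over the local ring of the base, is flat iff the stalk map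
is flat. -/
theorem flat_stalkOver_unit_iff (x : X) :
    Module.Flat (Y.presheaf.stalk (f.base x))
      ((ModuleCat.restrictScalars.{u} (f.stalkMap x).hom).obj
        ((DerSch.stalkFunctor X x).obj (Coh.structureModule X))) ↔ (f.stalkMap x).hom.Flat := by
  letI : Algebra (Y.presheaf.stalk (f.base x)) (X.presheaf.stalk x) :=
    (f.stalkMap x).hom.toAlgebra
  let e : X.presheaf.stalk x ≃ₗ[Y.presheaf.stalk (f.base x)]
      ((ModuleCat.restrictScalars.{u} (f.stalkMap x).hom).obj
        ((DerSch.stalkFunctor X x).obj (Coh.structureModule X))) :=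
    { toFun := fun b => Groth.Agent.Lib.FreeModStalk.unitStalkEquiv x b
      invFun := fun m => (Groth.Agent.Lib.FreeModStalk.unitStalkEquiv x).symm m
      map_add' := fun b b' => map_add _ b b'
      map_smul' := fun a b => by
        change Groth.Agent.Lib.FreeModStalk.unitStalkEquiv x (a • b) =
          (f.stalkMap x).hom a • Groth.Agent.Lib.FreeModStalk.unitStalkEquiv x b
        rw [Algebra.smul_def, ← smul_eq_mul, map_smul]
        rfl
      left_inv := fun b => (Groth.Agent.Lib.FreeModStalk.unitStalkEquiv x).symm_apply_apply b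
      right_inv := fun m => (Groth.Agent.Lib.FreeModStalk.unitStalkEquiv x).apply_symm_apply m }
  exact (Module.Flat.equiv_iff e).symm

/-- The structure sheaf has tor amplitude in `[0, 0]` relative to `f` at `x` iff the stalk map of
`f` at `x` is flat. -/
theorem hasTorAmplitudeAt_unit_zero_iff (x : X) :
    DerSch.HasTorAmplitudeAt f 0 0 (DerSch.unitCx X) x ↔ (f.stalkMap x).hom.Flat := by
  rw [← flat_stalkOver_unit_iff, ← hasTorAmplitudeIn_single_zero_iff]
  unfold DerSch.HasTorAmplitudeAt
  constructor
  · exact Groth.Agent.Lib.FlatBaseChangeD.hasTorAmplitudeIn_of_iso _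
      (DerivedCategory.Q.mapIso (Groth.Agent.Lib.TorAmpStalk81.stalkCxOverUnitIso f x))
  · exact Groth.Agent.Lib.FlatBaseChangeD.hasTorAmplitudeIn_of_iso _
      (DerivedCategory.Q.mapIso (Groth.Agent.Lib.TorAmpStalk81.stalkCxOverUnitIso f x).symm)

/-- A morphism locally of finite type has perfect dimension `≤ 0` iff it is flat and locally of
finite presentation. -/
theorem hasPerfDimLE_zero_iff [LocallyOfFiniteType f] :
    DerSch.HasPerfDimLE f 0 ↔ (Flat f ∧ LocallyOfFinitePresentation f) := by
  have h0 : (-((0 : ℕ) : ℤ)) = 0 := by simp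
  unfold DerSch.HasPerfDimLE DerSch.HasPerfAmplitudeRel DerSch.HasTorAmplitude
  rw [h0]
  constructor
  · rintro ⟨hpc, htor⟩
    refine ⟨?_, (isNPseudoCoherent_neg_one_iff f).1 (hpc (-1))⟩
    rw [Flat.iff_flat_stalkMap]
    exact fun x => (hasTorAmplitudeAt_unit_zero_iff f x).1 (htor x)
  · rintro ⟨hfl, hfp⟩
    refine ⟨fun n => isNPseudoCoherent_of_isPseudoCoherentMor f
      (Groth.Agent.Lib.FlatFPPerfect.isPseudoCoherentMor_of_flat_of_locallyOfFinitePresentation f)
      n, fun x => ?_⟩
    exact (hasTorAmplitudeAt_unit_zero_iff f x).2 (((Flat.iff_flat_stalkMap f).1 hfl) x)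

end Scheme

end Groth.Agent.Lib.PerfDimZero17
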