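import Groth.Agent.Lib.DRingPerfAmp
import Groth.Agent.Lib.DRingPCoh21C
import Groth.Agent.Lib.H78ProjRes
import Mathlib.Algebra.Homology.DerivedCategory.SingleTriangle

/-!
# Perfect modules and finite projective resolutions (helper21)

* `isPerfect_iff_pa`: `DRing.IsPerfect R K ↔ ∃ a b, PA (FP R) a b K`.
* `exists_resolution_of_pa`: if `M[0]` has finite projective amplitude in `[-d, 0]` then `M` has a projective resolution
  of length `≤ d` with finitely generated terms.
* `isPerfectModule_iff`: `M` is perfect iff it has a finite resolution by finite projective modules.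
-/

set_option autoImplicit false
universe u

open CategoryTheory CategoryTheory.Limits

attribute [local instance] HasDerivedCategory.standard

namespace Groth.Agent.Lib.PerfModule21

open Groth.Agent.Lib.PCohAmp Groth.Agent.Lib.DRingPerfAmp Groth.Agent.Lib.DRingPCoh21

variable (R : Type u) [CommRing R]

lemma isPerfect_iff_pa (K : Dual.D R) :
    DRing.IsPerfect R K ↔ ∃ a b : ℤ, PA (FP R) a b K := by
  constructor
  · rintro ⟨E, a, b, h1, h2, h3⟩
    exact ⟨a, b, E, h2, h1, h3⟩
  · rintro ⟨a, b, E, h1, h2, h3⟩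
    exact ⟨E, a, b, h2, h1, h3⟩

/-- `PA P 0 0 (M[0])` implies `P M` -/
lemma prop_of_pa_single_zero {C : Type*} [Category C] [Abelian C] [HasDerivedCategory C]
    (P : ObjectProperty C) [P.IsClosedUnderIsomorphisms] (M : C)
    (h : PA P 0 0 ((DerivedCategory.singleFunctor C 0).obj M)) : P M := by
  obtain ⟨E, h1, h2, ⟨e⟩⟩ := h
  obtain ⟨e1⟩ := nonempty_homology_iso_of_concentrated E 0 h2
  have e2 : (DerivedCategory.homologyFunctor C 0).obj ((DerivedCategory.singleFunctor C 0).obj M) ≅ M :=
    (DerivedCategory.singleFunctorCompHomologyFunctorIso C 0).app M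
  have e3 : E.X 0 ≅ M := e1.symm ≪≫ (DerivedCategory.homologyFunctor C 0).mapIso e ≪≫ e2
  exact P.prop_of_iso e3 (h1 0)

/-- a module with `M[0]` of finite projective amplitude is finitely generated -/
lemma finite_of_pa {a b : ℤ} (M : ModuleCat.{u} R)
    (h : PA (FP R) a b ((DerivedCategory.singleFunctor (ModuleCat.{u} R) 0).obj M)) :
    Module.Finite R M := by
  rw [← isPseudoCoherent_single_zero_iff, ← isStrictPC_fp_iff]
  obtain ⟨E, h1, h2, h3⟩ := h
  exact ⟨E, ⟨⟨b, fun i hi => h2 i (Or.inr hi)⟩, fun i _ => h1 i⟩, h3⟩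

theorem exists_resolution_of_pa (d : ℕ) : ∀ (M : ModuleCat.{u} R),
    PA (FP R) (-(d : ℤ)) 0 ((DerivedCategory.singleFunctor (ModuleCat.{u} R) 0).obj M) →
      ∃ P : ProjectiveResolution M, (∀ i : ℕ, d < i → IsZero (P.complex.X i)) ∧
        ∀ i : ℕ, Module.Finite R (P.complex.X i) := by
  induction d with
  | zero =>
    intro M h
    have h0 : -((0 : ℕ) : ℤ) = 0 := by simp
    rw [h0] at h
    obtain ⟨h1, h2⟩ := prop_of_pa_single_zero (FP R) M h
    have : Projective M := (IsProjective.iff_projective (R := R) (P := M)).1 h2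
    refine ⟨ProjectiveResolution.self M, fun i hi => ?_, fun i => ?_⟩
    · exact HomologicalComplex.isZero_single_obj_X (ComplexShape.down ℕ) 0 M i (by lia)
    · rcases i with _ | i
      · exact Module.Finite.equiv
          (HomologicalComplex.singleObjXSelf (ComplexShape.down ℕ) 0 M).symm.toLinearEquiv
      · have hz : IsZero ((ProjectiveResolution.self M).complex.X (i + 1)) :=
          HomologicalComplex.isZero_single_obj_X (ComplexShape.down ℕ) 0 M (i + 1) (by lia)
        have : Subsingleton ((ProjectiveResolution.self M).complex.X (i + 1)) :=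
          ModuleCat.subsingleton_of_isZero hz
        infer_instance
  | succ d ih =>
    intro M h
    have hfin : Module.Finite R M := finite_of_pa R M h
    obtain ⟨n, f, hf⟩ := Module.Finite.exists_fin' R M
    let F : ModuleCat.{u} R := ModuleCat.of R (Fin n → R)
    let p : F ⟶ M := ModuleCat.ofHom f
    have hp : Epi p := (ModuleCat.epi_iff_surjective _).2 hf
    let S : ShortComplex (ModuleCat.{u} R) := ShortComplex.mk (kernel.ι p) p (kernel.condition p)
    have hS : S.ShortExact :=
      { exact := ShortComplex.exact_of_f_is_kernel _ (kernelIsKernel p)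
        mono_f := by dsimp [S]; infer_instance
        epi_g := hp }
    have hF : FP R F := ⟨inferInstanceAs (Module.Finite R (Fin n → R)),
      inferInstanceAs (Module.Projective R (Fin n → R))⟩
    have hT := Pretriangulated.rot_of_distTriang _ hS.singleTriangle_distinguished
    have h1 := pa_cone (P := FP R) (fp_prod R) (fp_lift R) _ hT
      (pa_single (P := FP R) F hF 0) h
    have hd : -((d + 1 : ℕ) : ℤ) = -(d : ℤ) - 1 := by push_cast; ring
    have h2 : PA (FP R) (-(d : ℤ) - 1) (1 - 1)
        (((DerivedCategory.singleFunctor (ModuleCat.{u} R) 0).obj (kernel p))⟦(1 : ℤ)⟧) := by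
      refine pa_mono ?_ ?_ h1
      · rw [hd]
        exact le_min (by lia) le_rfl
      · exact max_le (by lia) (by lia)
    have h3 : PA (FP R) (-(d : ℤ)) 1
        ((DerivedCategory.singleFunctor (ModuleCat.{u} R) 0).obj (kernel p)) := pa_of_shift 1 h2
    have hz : ∀ i : ℤ, 0 < i → IsZero ((DerivedCategory.homologyFunctor (ModuleCat.{u} R) i).obj
        ((DerivedCategory.singleFunctor (ModuleCat.{u} R) 0).obj (kernel p))) := fun i hi =>
      DerivedCategory.isZero_of_isLE
        ((DerivedCategory.singleFunctor (ModuleCat.{u} R) 0).obj (kernel p)) 0 i hi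
    have h4 := pa_trunc (fp_kernel R) (show -(d : ℤ) ≤ 0 by lia) h3 hz
    have h5 : PA (FP R) (-(d : ℤ)) 0
        ((DerivedCategory.singleFunctor (ModuleCat.{u} R) 0).obj (kernel p)) :=
      pa_mono le_rfl (min_le_left _ _) h4
    obtain ⟨Q, hQ1, hQ2⟩ := ih (kernel p) h5
    have : Projective F := (IsProjective.iff_projective (R := R) (P := F)).1 hF.2
    refine ⟨Groth.Agent.Lib.H78ProjRes.splice (kernel.ι p) Q p (kernel.condition p) hS,
      fun i hi => ?_, fun i => ?_⟩
    · obtain ⟨j, rfl⟩ : ∃ j, i = j + 1 := ⟨i - 1, by lia⟩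
      exact hQ1 j (by lia)
    · rcases i with _ | i
      · exact hF.1
      · exact hQ2 i

/-- a finite resolution by finite projective modules exhibits `M[0]` as perfect -/
theorem pa_of_resolution (M : ModuleCat.{u} R) (d : ℕ) (P : ProjectiveResolution M)
    (hP : ∀ i : ℕ, d < i → IsZero (P.complex.X i)) (hfin : ∀ i : ℕ, Module.Finite R (P.complex.X i)) :
    PA (FP R) (-(d : ℤ)) 0 ((DerivedCategory.singleFunctor (ModuleCat.{u} R) 0).obj M) := by
  refine ⟨P.cochainComplex, fun i => ?_, fun i hi => ?_, ?_⟩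
  · by_cases hi : i ≤ 0
    · obtain ⟨k, rfl⟩ := Int.exists_eq_neg_ofNat hi
      refine (FP R).prop_of_iso (P.cochainComplexXIso (-k) k rfl).symm ⟨hfin k, ?_⟩
      exact (IsProjective.iff_projective (R := R) (P := (P.complex.X k))).2 (P.projective k)
    · exact (FP R).prop_of_isZero (CochainComplex.isZero_of_isStrictlyLE _ 0 i (by lia))
  · rcases hi with hi | hi
    · obtain ⟨k, rfl⟩ := Int.exists_eq_neg_ofNat (show i ≤ 0 by lia)
      exact (hP k (by lia)).of_iso (P.cochainComplexXIso (-k) k rfl)
    · exact CochainComplex.isZero_of_isStrictlyLE _ 0 i hi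
  · have h : IsIso (DerivedCategory.Q.map P.π') := by
      rw [DerivedCategory.isIso_Q_map_iff_quasiIso]
      infer_instance
    exact ⟨@asIso _ _ _ _ (DerivedCategory.Q.map P.π') h ≪≫
      ((DerivedCategory.singleFunctorIsoCompQ (ModuleCat.{u} R) 0).app _).symm⟩

theorem isPerfectModule_iff (M : Type u) [AddCommGroup M] [Module R M] :
    DRing.IsPerfectModule R M ↔
      ∃ (P : ProjectiveResolution (ModuleCat.of R M)) (d : ℕ),
        (∀ i : ℕ, d < i → IsZero (P.complex.X i)) ∧ ∀ i : ℕ, Module.Finite R (P.complex.X i) := by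
  constructor
  · intro h
    obtain ⟨a, b, hab⟩ := (isPerfect_iff_pa R _).1 h
    have h1 : PA (FP R) (min a 0) (max b 0) (Dual.inD R M) :=
      pa_mono (min_le_left _ _) (le_max_left _ _) hab
    have hz : ∀ i : ℤ, 0 < i → IsZero ((DerivedCategory.homologyFunctor (ModuleCat.{u} R) i).obj
        (Dual.inD R M)) := fun i hi =>
      DerivedCategory.isZero_of_isLE (Dual.inD R M) 0 i hi
    have h2 := pa_trunc (fp_kernel R) (min_le_right a 0) h1 hz
    obtain ⟨d, hd⟩ : ∃ d : ℕ, -(d : ℤ) = min a 0 := ⟨(-(min a 0)).toNat, by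
      have := min_le_right a 0
      lia⟩
    have h3 : PA (FP R) (-(d : ℤ)) 0 (Dual.inD R M) := by
      rw [hd]
      exact pa_mono le_rfl (min_le_left _ _) h2
    obtain ⟨P, hP1, hP2⟩ := exists_resolution_of_pa R d (ModuleCat.of R M) h3
    exact ⟨P, d, hP1, hP2⟩
  · rintro ⟨P, d, hP1, hP2⟩
    exact (isPerfect_iff_pa R _).2 ⟨_, _, pa_of_resolution R (ModuleCat.of R M) d P hP1 hP2⟩

end Groth.Agent.Lib.PerfModule21
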