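import Groth.Agent.Lib.H87PdSpread
import Groth.Agent.Lib.H87GlDim2
import Groth.Agent.Lib.FinFreeResD
import Groth.Agent.Lib.TorAmpBasic21
import Groth.Agent.Lib.PerfModule21
import Groth.Agent.S6954
import Mathlib.RingTheory.LocalProperties.ProjectiveDimension

/-!
# Finite modules over regular rings are perfect (helper21)

`R` Noetherian with `R_p` regular local for every prime `p` (no bound on the dimension).

* `exists_hasProjectiveDimensionLE`: every finite `R`-module has finite projective dimension (quasi-compactness of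
  `Spec R` + spreading out of projective dimension, helper87's `H87PdSpread`).
* `isPerfectModule_iff_finite`: `M` perfect iff `M` finite.
-/

set_option autoImplicit false
universe u

open CategoryTheory CategoryTheory.Limits

attribute [local instance] HasDerivedCategory.standard

namespace Groth.Agent.Lib.RegularPerf21

variable (R : Type u) [CommRing R] [IsNoetherianRing R]
  (hreg : ∀ p : PrimeSpectrum R, IsRegularLocalRing (Localization.AtPrime p.asIdeal))

include hreg in
theorem exists_hasProjectiveDimensionLE (M : Type u) [AddCommGroup M] [Module R M]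
    [Module.Finite R M] : ∃ n : ℕ, HasProjectiveDimensionLE (ModuleCat.of R M) n := by
  have h1 : ∀ p : PrimeSpectrum R, ∃ (s : R) (i : ℕ), s ∉ p.asIdeal ∧ HasProjectiveDimensionLT
      (ModuleCat.of (Localization.Away s) (LocalizedModule (Submonoid.powers s) M)) i := by
    intro p
    have := hreg p
    have hd : ringKrullDim (Localization.AtPrime p.asIdeal) =
        ((IsLocalRing.maximalIdeal (Localization.AtPrime p.asIdeal)).spanFinrank : ℕ) :=
      (IsRegularLocalRing.spanFinrank_maximalIdeal).symm
    have h := Groth.Agent.Lib.H87GlDim2.hasProjectiveDimensionLT_of_isRegularLocalRing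
      (A := Localization.AtPrime p.asIdeal) _ hd
      (ModuleCat.of (Localization.AtPrime p.asIdeal) (LocalizedModule p.asIdeal.primeCompl M))
    obtain ⟨s, hs, h'⟩ :=
      Groth.Agent.Lib.H87PdSpread.exists_away_hasProjectiveDimensionLT M p.asIdeal _ h
    exact ⟨s, _, hs, h'⟩
  choose s i hs hi using h1
  -- finite subcover
  have hcov : (Set.univ : Set (PrimeSpectrum R)) ⊆
      ⋃ p : PrimeSpectrum R, (PrimeSpectrum.basicOpen (s p) : Set (PrimeSpectrum R)) := by
    intro p _
    exact Set.mem_iUnion.2 ⟨p, hs p⟩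
  obtain ⟨t, ht⟩ := isCompact_univ.elim_finite_subcover
    (fun p : PrimeSpectrum R => (PrimeSpectrum.basicOpen (s p) : Set (PrimeSpectrum R)))
    (fun p => (PrimeSpectrum.basicOpen (s p)).isOpen) hcov
  refine ⟨t.sup i, ?_⟩
  rw [ModuleCat.hasProjectiveDimensionLE_iff_forall_maximalSpectrum]
  intro m
  have hm : (⟨m.asIdeal, m.isMaximal.isPrime⟩ : PrimeSpectrum R) ∈
      ⋃ p ∈ t, (PrimeSpectrum.basicOpen (s p) : Set (PrimeSpectrum R)) := ht (Set.mem_univ _)
  obtain ⟨p, hp, hpm⟩ : ∃ p ∈ t, s p ∉ m.asIdeal := by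
    simp only [Set.mem_iUnion] at hm
    obtain ⟨p, hp, hpm⟩ := hm
    exact ⟨p, hp, hpm⟩
  have : m.asIdeal.IsPrime := m.isMaximal.isPrime
  have h2 := Groth.Agent.Lib.H87PdSpread.hasProjectiveDimensionLT_atPrime_of_away M m.asIdeal hpm
    (i p) (hi p)
  have hle : i p ≤ t.sup i + 1 := (Finset.le_sup (f := i) hp).trans (Nat.le_succ _)
  have h3 : HasProjectiveDimensionLT (ModuleCat.of (Localization.AtPrime m.asIdeal)
      (LocalizedModule m.asIdeal.primeCompl M)) (t.sup i + 1) :=
    hasProjectiveDimensionLT_of_ge _ (i p) _ hle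
  exact hasProjectiveDimensionLT_of_iso
    (Groth.Agent.Lib.H87PdSpread.locIso m.asIdeal.primeCompl M).symm _

include hreg in
theorem isPerfectModule_of_finite (M : Type u) [AddCommGroup M] [Module R M] [Module.Finite R M] :
    DRing.IsPerfectModule R M := by
  obtain ⟨n, hn⟩ := exists_hasProjectiveDimensionLE R hreg M
  obtain ⟨P, hP⟩ := Groth.Agent.Lib.H78ProjRes.exists_of_hasProjectiveDimensionLE n _ hn
  refine (Groth.Agent.S6954.result R _).2 ⟨Groth.Agent.Lib.FinFreeRes.isPseudoCoherentModule' R M,
    -(n : ℤ), 0, ?_⟩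
  exact Groth.Agent.Lib.TorAmpBasic21.hasTorAmplitudeIn_inD_of_projectiveResolution R M n P hP

include hreg in
theorem isPerfectModule_iff_finite (M : Type u) [AddCommGroup M] [Module R M] :
    DRing.IsPerfectModule R M ↔ Module.Finite R M := by
  constructor
  · intro h
    obtain ⟨a, b, hab⟩ := (Groth.Agent.Lib.PerfModule21.isPerfect_iff_pa R _).1 h
    exact Groth.Agent.Lib.PerfModule21.finite_of_pa R (ModuleCat.of R M) hab
  · intro h
    exact isPerfectModule_of_finite R hreg M

end Groth.Agent.Lib.RegularPerf21
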