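import Groth.Agent.Lib.PerfHomLocal
import Groth.Agent.Lib.RegularPerf21
import Groth.Agent.S6954
import Mathlib.RingTheory.RegularLocalRing.Polynomial

/-!
# Perfect ring maps through a presentation over which the target is a perfect module

Namespace `Groth.Agent.Lib.PerfHomPresentation`.

* `hasFiniteTorDim_of_hasTorAmplitudeIn` : `M[0]` of tor amplitude `[a, b]` gives finite tor
  dimension of `M`.
* `isPerfectHom_of_perfect_presentation` : if `A[x_1..x_n] → B` is surjective and `B` is a perfect
  `A[x]`-module, then `A → B` is perfect.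
* `isPerfectHom_of_finiteType_of_isRegularRing`.
-/

set_option autoImplicit false
universe u
open CategoryTheory CategoryTheory.Limits TensorProduct
attribute [local instance] HasDerivedCategory.standard

namespace Groth.Agent.Lib.PerfHomPresentation

open Groth.Agent.Lib.TorDimHom Groth.Agent.Lib.FlatBaseChangeD Groth.Agent.Lib.TorAmpShift21
  Groth.Agent.Lib.PCohRelative3 Groth.Agent.Lib.PCohAmp Groth.Agent.Lib.DRingPerfAmp
  Groth.Agent.Lib.FlatAmp

section

variable {A : Type u} [CommRing A]

/-- a module whose `M[0]` has tor amplitude in some `[a, b]` has finite tor dimension -/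
lemma hasFiniteTorDim_of_hasTorAmplitudeIn (M : Type u) [AddCommGroup M] [Module A M] (a b : ℤ)
    (h : DRing.HasTorAmplitudeIn A a b (Dual.inD A M)) : DRing.HasFiniteTorDim A M := by
  rw [hasTorAmplitudeIn_iff_pa] at h
  have h1 : PA (FL A) (min a 0) b (Dual.inD A M) := pa_mono (min_le_left _ _) le_rfl h
  have hz : ∀ i : ℤ, 0 < i → IsZero ((DerivedCategory.homologyFunctor (ModuleCat.{u} A) i).obj
      (Dual.inD A M)) := fun i hi =>
    DerivedCategory.isZero_of_isLE
      ((DerivedCategory.singleFunctor (ModuleCat.{u} A) 0).obj (ModuleCat.of A M)) 0 i hi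
  have h2 := pa_trunc (fl_kernel A) (min_le_right a 0) h1 hz
  have h3 : PA (FL A) (min a 0) 0 (Dual.inD A M) := pa_mono le_rfl (min_le_left _ _) h2
  refine ⟨(-(min a 0)).toNat, ?_⟩
  rw [hasTorDimLE_iff, hasTorAmplitudeIn_iff_pa]
  have : (-(((-(min a 0)).toNat : ℕ) : ℤ)) = min a 0 := by
    rw [Int.toNat_of_nonneg (by have := min_le_right a 0; lia)]
    ring
  rw [this]
  exact h3

variable {B : Type u} [CommRing B] [Algebra A B]

/-- if `B` is a perfect module over a polynomial ring surjecting onto it, `A → B` is perfect -/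
theorem isPerfectHom_of_perfect_presentation {n : ℕ} (φ : MvPolynomial (Fin n) A →ₐ[A] B)
    (hφ : Function.Surjective φ)
    (h : letI := φ.toRingHom.toAlgebra
      DRing.IsPerfectModule (MvPolynomial (Fin n) A) B) : MoreMor.IsPerfectHom A B := by
  let i1 : Algebra (MvPolynomial (Fin n) A) B := φ.toRingHom.toAlgebra
  have t1 : IsScalarTower A (MvPolynomial (Fin n) A) B :=
    IsScalarTower.of_algebraMap_eq (fun r => (φ.commutes r).symm)
  obtain ⟨hpc, a, b, hab⟩ := (Groth.Agent.S6954.result (MvPolynomial (Fin n) A) _).1 h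
  refine ⟨⟨n, φ, hφ, hpc⟩, ?_⟩
  have hP : DRing.HasTorAmplitudeIn A (-((0 : ℕ) : ℤ)) 0 (Dual.inD A (MvPolynomial (Fin n) A)) :=
    (hasTorDimLE_iff A (MvPolynomial (Fin n) A) 0).1 (hasTorDimLE_of_flat _ 0)
  have h1 := Groth.Agent.Lib.TorAmpRestrict21.hasTorAmplitudeIn_restrictD 0 hP
    (Dual.inD (MvPolynomial (Fin n) A) B) a b hab
  let l : ((ModuleCat.restrictScalars (algebraMap A (MvPolynomial (Fin n) A))).obj
      (ModuleCat.of (MvPolynomial (Fin n) A) B)) ≃ₗ[A] B :=
    { toFun := fun x => x
      invFun := fun x => x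
      map_add' := fun _ _ => rfl
      map_smul' := fun a x => by
        show (algebraMap A (MvPolynomial (Fin n) A) a) • (show B from x) = a • (show B from x)
        rw [algebraMap_smul]
      left_inv := fun _ => rfl
      right_inv := fun _ => rfl }
  have e1 : (DRing.restrictD (algebraMap A (MvPolynomial (Fin n) A))).obj
      (Dual.inD (MvPolynomial (Fin n) A) B) ≅ Dual.inD A B :=
    USingleIso (algebraMap A (MvPolynomial (Fin n) A))
      (ModuleCat.of (MvPolynomial (Fin n) A) B) ≪≫
      (DerivedCategory.singleFunctor (ModuleCat.{u} A) 0).mapIso l.toModuleIso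
  exact hasFiniteTorDim_of_hasTorAmplitudeIn B _ _ (hasTorAmplitudeIn_of_iso A e1 h1)

/-- a finite type algebra over a regular ring is perfect -/
theorem isPerfectHom_of_finiteType_of_isRegularRing [IsRegularRing A] [Algebra.FiniteType A B] :
    MoreMor.IsPerfectHom A B := by
  obtain ⟨n, φ, hφ⟩ := Groth.Agent.Lib.PCohRelative2.exists_presentation (R := A) (A := B)
  refine isPerfectHom_of_perfect_presentation φ hφ ?_
  let i1 : Algebra (MvPolynomial (Fin n) A) B := φ.toRingHom.toAlgebra
  have hfin : Module.Finite (MvPolynomial (Fin n) A) B :=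
    Module.Finite.of_surjective (Algebra.linearMap (MvPolynomial (Fin n) A) B) hφ
  have hreg : IsRegularRing (MvPolynomial (Fin n) A) := inferInstance
  exact Groth.Agent.Lib.RegularPerf21.isPerfectModule_of_finite (MvPolynomial (Fin n) A)
    (fun p => IsRegularRing.isRegularLocalRing_localization p.asIdeal) B

end

end Groth.Agent.Lib.PerfHomPresentation
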