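import Groth.Agent.Lib.SuppD66
import Groth.Agent.Lib.PerfectD
import Groth.Agent.Lib.CyclesRetract

/-!
# `Rj_*` of a perfect object supported on a closed subset which stays closed (helper66)
-/

set_option autoImplicit false
universe u

open CategoryTheory CategoryTheory.Limits AlgebraicGeometry Pretriangulated
open AlgebraicGeometry.Scheme AlgebraicGeometry.Scheme.Modules

attribute [local instance] HasDerivedCategory.standard

namespace Groth.Agent.Lib.PerfSupp66

open Groth.Agent.Lib.SuppD66 Groth.Agent.Lib.PerfectD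
open ZeroObject

variable {X : Scheme.{u}}

/-- the cohomology sheaves of `j_! F` are supported on `T` if those of `F` are -/
theorem support_HD_extZeroD_subset (U : X.Opens) [PreservesFiniteLimits (CxOX.extZero U.ι)]
    (T : Set X) (hT : IsClosed T) (F : DCoh.D (U : Scheme.{u}))
    (hF : ∀ i : ℤ, (fun x : (U : Scheme.{u}) => U.ι.base x) '' CohB1.support (DCoh.HD F i) ⊆ T)
    (i : ℤ) : CohB1.support (DCoh.HD ((CxOX.extZeroD U.ι).obj F) i) ⊆ T := by
  let V : X.Opens := ⟨Tᶜ, hT.isOpen_compl⟩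
  have hz : IsZero ((Scheme.Modules.restrictFunctor V.ι).obj
      ((CxOX.extZero U.ι).obj (DCoh.HD F i))) := by
    apply isZero_restrict_extZero
    intro y hy
    by_contra hne
    exact hy (hF i ⟨y, hne, rfl⟩)
  have hz' : IsZero ((Scheme.Modules.restrictFunctor V.ι).obj
      (DCoh.HD ((CxOX.extZeroD U.ι).obj F) i)) :=
    hz.of_iso ((Scheme.Modules.restrictFunctor V.ι).mapIso
      ((Groth.Agent.Lib.FlatBaseChangeD.mapDerivedCategoryHomologyIso (CxOX.extZero U.ι) i).app F))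
  have := (Groth.Agent.Lib.H90QCohLocalization.isZero_restrict_iff _ V).1 hz'
  intro x hx
  exact not_not.1 (this hx)

/-- an object of `D(O_X)` vanishing on `V` is represented on `V` by the zero complex -/
theorem repOn_of_isZero (K : DCoh.D X) (V : X.Opens)
    (h : IsZero ((DCoh.restrictD V.ι).obj K)) : RepOn K V.ι := by
  refine ⟨0, ⟨⟨0, 0, fun i _ => ?_⟩, fun i => ?_⟩, ⟨?_⟩⟩
  · exact (HomologicalComplex.eval _ _ i).map_isZero (isZero_zero _)
  · exact Groth.Agent.Lib.CyclesRetract.isFinLocFree_of_isZero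
      ((HomologicalComplex.eval _ _ i).map_isZero (isZero_zero _))
  · exact h.iso (DerivedCategory.Q.map_isZero (isZero_zero _))

theorem isPerfect_Rpush_of_supp (U : X.Opens) [DCoh.HasRpush U.ι]
    (E : DCoh.D (U : Scheme.{u})) (hE : DCoh.IsPerfect E) (T : Set (U : Scheme.{u}))
    (hjT : IsClosed ((fun x : (U : Scheme.{u}) => U.ι.base x) '' T))
    (hsupp : ∀ i : ℤ, CohB1.support (DCoh.HD E i) ⊆ T) :
    DCoh.IsPerfect ((DCoh.Rpush U.ι).obj E) := by
  set TX : Set X := (fun x : (U : Scheme.{u}) => U.ι.base x) '' T with hTX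
  have hTXU : TX ⊆ (U : Set X) := by
    rintro _ ⟨y, _, rfl⟩
    exact y.2
  have hF : ∀ i : ℤ, (fun x : (U : Scheme.{u}) => U.ι.base x) '' CohB1.support (DCoh.HD E i) ⊆ TX :=
    fun i => Set.image_mono (hsupp i)
  obtain ⟨e⟩ := nonempty_extZeroD_iso_Rpush U TX hjT hTXU E hF
  obtain ⟨e₂⟩ := nonempty_restrictD_extZeroD_iso U E
  -- restriction to `U` gives back `E`
  let eU : (DCoh.restrictD U.ι).obj ((DCoh.Rpush U.ι).obj E) ≅ E :=
    (DCoh.restrictD U.ι).mapIso e.symm ≪≫ e₂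
  apply isPerfect_of_forall_repOn
  intro x
  by_cases hx : x ∈ U
  · obtain ⟨V', hxV', P, hP, ⟨a⟩⟩ := (isPerfect_iff_repOn E).1 hE ⟨x, hx⟩
    refine ⟨(V' : Scheme.{u}), V'.ι ≫ U.ι, inferInstance, ⟨⟨⟨x, hx⟩, hxV'⟩, rfl⟩, P, hP, ⟨?_⟩⟩
    exact ((restrictDCompIso V'.ι U.ι (V'.ι ≫ U.ι) rfl).app _).symm ≪≫
      (DCoh.restrictD V'.ι).mapIso eU ≪≫ a
  · let V : X.Opens := ⟨TXᶜ, hjT.isOpen_compl⟩
    have hxV : x ∈ V := fun hxT => hx (hTXU hxT)
    refine ⟨(V : Scheme.{u}), V.ι, inferInstance, ?_, ?_⟩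
    · rw [Scheme.Opens.range_ι]; exact hxV
    · apply repOn_of_isZero
      have h1 : IsZero ((DCoh.restrictD V.ι).obj ((CxOX.extZeroD U.ι).obj E)) :=
        isZero_restrictD V _ (fun i y hy hyV =>
          hyV (support_HD_extZeroD_subset U TX hjT E hF i hy))
      exact h1.of_iso ((DCoh.restrictD V.ι).mapIso e.symm)

end Groth.Agent.Lib.PerfSupp66
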