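import Groth.Agent.Lib.PerfectCoh

/-!
# Perfect objects on a quasi-compact scheme are bounded

The boundedness half of `PerfectCoh.isCohD_and_bounded_of_isPerfect` only uses quasi-compactness.
-/

set_option autoImplicit false
universe u

open CategoryTheory CategoryTheory.Limits AlgebraicGeometry TopologicalSpace Opposite
attribute [local instance] HasDerivedCategory.standard

namespace Groth.Agent.Lib.PerfectBdd11

open Groth.Agent.Lib.PerfectCoh

variable {X : Scheme.{u}}

/-- **Perfect objects on a quasi-compact scheme are bounded.** -/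
theorem bounded_of_isPerfect [CompactSpace ↥X] (E : DCoh.D X) (hE : DCoh.IsPerfect E) :
    ∃ a b : ℤ, E.IsGE a ∧ E.IsLE b := by
  let F : CochainComplex X.Modules ℤ := DerivedCategory.Q.objPreimage E
  let e : DCoh.toD X F ≅ E := DerivedCategory.Q.objObjPreimageIso E
  have key : ∀ x : X, ∃ (V : X.Opens) (P : CochainComplex (V : Scheme.{u}).Modules ℤ) (a b : ℤ),
      x ∈ V ∧ DCoh.IsStrictlyPerfect P ∧ DCoh.VanishesOutside P a b ∧
      ∀ i, Nonempty ((DCoh.HD E i).restrict V.ι ≅ P.homology i) := by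
    intro x
    obtain ⟨V, hxV, hV⟩ := hE x
    obtain ⟨P, hP, ⟨e'⟩⟩ := hV F ⟨e⟩
    obtain ⟨a, b, hab⟩ := hP.1
    exact ⟨V, P, a, b, hxV, hP, hab, fun i => nonempty_restrict_HD_iso e V P e' i⟩
  choose V P a b hxV hP hab hiso using key
  obtain ⟨t, ht⟩ := CompactSpace.elim_nhds_subcover (fun x => (V x : Set X))
    (fun x => (V x).isOpen.mem_nhds (hxV x))
  obtain ⟨B, hB⟩ := (t.image b).exists_le
  obtain ⟨A, hA⟩ := (t.image fun x => -a x).exists_le
  have hcov : ∀ y : X, ∃ x ∈ t, y ∈ V x := by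
    intro y
    have : y ∈ ⋃ x ∈ t, (V x : Set X) := ht ▸ Set.mem_univ y
    simpa using this
  refine ⟨-A, B, ?_, ?_⟩
  · rw [DerivedCategory.isGE_iff]
    intro i hi
    refine isZero_of_forall_restrict _ fun y => ?_
    obtain ⟨x, hxt, hyx⟩ := hcov y
    obtain ⟨ei⟩ := hiso x i
    have hAx : -a x ≤ A := hA _ (Finset.mem_image_of_mem _ hxt)
    exact ⟨V x, hyx, (isZero_homology_of_vanishesOutside (P x) (hab x) i
      (Or.inl (by omega))).of_iso ei⟩
  · rw [DerivedCategory.isLE_iff]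
    intro i hi
    refine isZero_of_forall_restrict _ fun y => ?_
    obtain ⟨x, hxt, hyx⟩ := hcov y
    obtain ⟨ei⟩ := hiso x i
    have hBx : b x ≤ B := hB _ (Finset.mem_image_of_mem _ hxt)
    exact ⟨V x, hyx, (isZero_homology_of_vanishesOutside (P x) (hab x) i
      (Or.inr (by omega))).of_iso ei⟩

/-- Maps from `P⟦-i⟧` with `P ∈ D^{≤ b}` into `E` and into `τ_{≤ a} E` agree for `b + i ≤ a`. -/
theorem hom_truncLE_zero_iff (P E : DCoh.D X) (b a i : ℤ) [P.IsLE b] (hi : b + i ≤ a) :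
    (∀ φ : P⟦-i⟧ ⟶ E, φ = 0) ↔
      (∀ φ : P⟦-i⟧ ⟶ ((DerivedCategory.TStructure.t :
        CategoryTheory.Triangulated.TStructure (DCoh.D X)).truncLE a).obj E, φ = 0) := by
  have h1 : DerivedCategory.TStructure.t.IsLE (P⟦-i⟧) (b + i) :=
    DerivedCategory.TStructure.t.isLE_shift P b (-i) (b + i) (by omega)
  have h2 : DerivedCategory.TStructure.t.IsLE (P⟦-i⟧) a :=
    DerivedCategory.TStructure.t.isLE_of_le _ (b + i) a hi
  constructor
  · intro h φ
    apply DerivedCategory.TStructure.t.to_truncLE_obj_ext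
    rw [h (φ ≫ (DerivedCategory.TStructure.t.truncLEι a).app E), zero_comp]
  · intro h φ
    have h3 := DerivedCategory.TStructure.t.liftTruncLE_ι φ a
    rw [← h3, h (DerivedCategory.TStructure.t.liftTruncLE φ a), zero_comp]

end Groth.Agent.Lib.PerfectBdd11
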