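import Groth.Agent.Lib.PerfectD
import Groth.Agent.Lib.TildeLocFree
import Groth.Agent.Lib.H60TildeExact
import Groth.Agent.Lib.PCohHomLocal
import Groth.Agent.Lib.TorAmpShift21
import Groth.Agent.Lib.LCIPerfect
import Groth.Agent.S6954
import Groth.Agent.Lib.H72PullbackQCoh
import Groth.Agent.Lib.AssPush
import Groth.Agent.Lib.H90OXModPush
import Groth.Agent.Lib.StructureModule
import Groth.Prelude.Def_MoreMor

/-!
# Perfect closed immersions: `i_* O_Z` is a perfect object (helper17)

* `isPerfectModule_of_isPerfectHom` : a finite perfect ring map `A → B` makes `B` a perfect `A`-module.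
* `exists_isStrictlyPerfect_tilde` : for a perfect `R`-module `M`, `M~[0]` is represented on `Spec R` by a
  strictly perfect complex.
* `pushSectionsEquiv` : `Γ(Z, i⁻¹V) ≃ₗ[Γ(X, V)] Γ(i_* O_Z, V)`.
* `repOn_of_isPerfectModule_sections` : a quasi-coherent module with perfect module of sections over the affine
  open `V` is represented by a strictly perfect complex on `Spec Γ(X, V)`.
* `isPerfect_push_structureModule` : `i_* O_Z` is perfect for a perfect closed immersion `i`.
-/

set_option autoImplicit false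
universe u

open CategoryTheory CategoryTheory.Limits AlgebraicGeometry

attribute [local instance] HasDerivedCategory.standard

namespace Groth.Agent.Lib.PerfectClosedImm17

section Ring

variable {A B : Type u} [CommRing A] [CommRing B] [Algebra A B]

/-- a finite perfect ring map makes the target a perfect module over the source -/
theorem isPerfectModule_of_isPerfectHom [Module.Finite A B] (h : MoreMor.IsPerfectHom A B) :
    DRing.IsPerfectModule A B := by
  obtain ⟨hpc, d, hd⟩ := h
  have h1 : DRing.IsPseudoCoherentModule' A B :=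
    Groth.Agent.Lib.PCohHomLocal.pcHom_iff_module_of_finite.1 hpc
  have h2 : DRing.HasTorAmplitudeIn A (-(d : ℤ)) 0 (Dual.inD A B) :=
    (Groth.Agent.Lib.TorAmpShift21.hasTorDimLE_iff A B d).1 hd
  exact (Groth.Agent.S6954.result A (Dual.inD A B)).2 ⟨h1, -(d : ℤ), 0, h2⟩

end Ring

section Tilde

open Groth.Agent.Lib.H60TildeExact

variable (R : CommRingCat.{u})

/-- For a perfect `R`-module `M`, the object `M~[0]` of `D(O_{Spec R})` is represented by a strictly
perfect complex. -/
theorem exists_isStrictlyPerfect_tilde (M : ModuleCat.{u} R)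
    (hM : DRing.IsPerfect R ((DerivedCategory.singleFunctor (ModuleCat.{u} R) 0).obj M)) :
    ∃ E : CochainComplex (Spec R).Modules ℤ, DCoh.IsStrictlyPerfect E ∧
      Nonempty (DCoh.inD (Spec R) (tilde M) ≅ DerivedCategory.Q.obj E) := by
  obtain ⟨E₀, a, b, hab, hfp, ⟨e⟩⟩ := hM
  refine ⟨((tilde.functor R).mapHomologicalComplex (ComplexShape.up ℤ)).obj E₀, ⟨⟨a, b, ?_⟩, ?_⟩, ⟨?_⟩⟩
  · intro i hi
    exact (tilde.functor R).map_isZero (hab i hi)
  · intro i
    exact (Groth.Agent.Lib.TildeLocFree.isFinLocFree_tilde_iff (E₀.X i)).2 (hfp i)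
  · exact (((tilde.functor R).mapDerivedCategorySingleFunctor 0).app M).symm ≪≫
      (tilde.functor R).mapDerivedCategory.mapIso e.symm ≪≫
      (tilde.functor R).mapDerivedCategoryFactors.app E₀

end Tilde

section Scheme

open Groth.Agent.Lib.PerfectD

variable {Z X : Scheme.{u}} (i : Z ⟶ X)

/-- sections of `i_* O_Z` over `V`, as a `Γ(X, V)`-module, are `Γ(Z, i⁻¹V)` with the algebra structure given by `i` -/
noncomputable def pushSectionsEquiv (V : X.Opens) (hUV : i ⁻¹ᵁ V ≤ i ⁻¹ᵁ V) :
    letI := (i.appLE V (i ⁻¹ᵁ V) hUV).hom.toAlgebra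
    Γ(Z, i ⁻¹ᵁ V) ≃ₗ[Γ(X, V)] Γ((Scheme.Modules.pushforward i).obj (Coh.structureModule Z), V) :=
  letI := (i.appLE V (i ⁻¹ᵁ V) hUV).hom.toAlgebra
  { toFun := fun x => x
    invFun := fun x => x
    map_add' := fun _ _ => rfl
    map_smul' := fun r x => by
      have h1 : i.appLE V (i ⁻¹ᵁ V) hUV = i.app V := Scheme.Hom.appLE_eq_app _
      change (i.appLE V (i ⁻¹ᵁ V) hUV) r * x = _
      rw [h1]
      rfl
    left_inv := fun _ => rfl
    right_inv := fun _ => rfl }

/-- A quasi-coherent module whose sections over the affine open `V` form a perfect module is represented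
on `Spec Γ(X, V)` by a strictly perfect complex. -/
theorem repOn_of_isPerfectModule_sections (M : X.Modules) [M.IsQuasicoherent] {V : X.Opens}
    (hV : IsAffineOpen V) (h : DRing.IsPerfectModule Γ(X, V) Γ(M, V)) :
    RepOn (DCoh.inD X M) hV.fromSpec := by
  have h1 : DRing.IsPerfectModule Γ(X, V) (Groth.Agent.Lib.H72PullbackAffine.gammaV M hV) :=
    Groth.Agent.Lib.LCIPerfect.isPerfectModule_of_linearEquiv
      (Groth.Agent.Lib.H90OXModAffine.sectionsEquiv M hV) h
  obtain ⟨E, hE, ⟨e⟩⟩ := exists_isStrictlyPerfect_tilde Γ(X, V)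
    (Groth.Agent.Lib.H72PullbackAffine.gammaV M hV) h1
  refine ⟨E, hE, ⟨?_⟩⟩
  exact ((Scheme.Modules.restrictFunctor hV.fromSpec).mapDerivedCategorySingleFunctor 0).app M ≪≫
    (DerivedCategory.singleFunctor _ 0).mapIso
      (Groth.Agent.Lib.H72PullbackAffine.restrictIsoTilde M hV) ≪≫ e

theorem repOn_push_structureModule [IsClosedImmersion i] {V : X.Opens} (hV : IsAffineOpen V)
    (hUV : i ⁻¹ᵁ V ≤ i ⁻¹ᵁ V)
    (h : letI := (i.appLE V (i ⁻¹ᵁ V) hUV).hom.toAlgebra
      MoreMor.IsPerfectHom Γ(X, V) Γ(Z, i ⁻¹ᵁ V)) :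
    RepOn (DCoh.inD X ((Scheme.Modules.pushforward i).obj (Coh.structureModule Z))) hV.fromSpec := by
  letI := (i.appLE V (i ⁻¹ᵁ V) hUV).hom.toAlgebra
  haveI : (Coh.structureModule Z).IsQuasicoherent :=
    Groth.Agent.Lib.StructureModule.isQuasicoherent_structureModule Z
  haveI : ((Scheme.Modules.pushforward i).obj (Coh.structureModule Z)).IsQuasicoherent :=
    Groth.Agent.Lib.H90OXModPush.isQuasicoherent_pushforward i _
  have hfin : Module.Finite Γ(X, V) Γ(Z, i ⁻¹ᵁ V) := by
    have h1 : i.appLE V (i ⁻¹ᵁ V) hUV = i.app V := Scheme.Hom.appLE_eq_app _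
    have hs : Function.Surjective (algebraMap Γ(X, V) Γ(Z, i ⁻¹ᵁ V)) := by
      change Function.Surjective (i.appLE V (i ⁻¹ᵁ V) hUV).hom
      rw [h1]
      exact i.app_surjective V hV
    exact Module.Finite.of_surjective (Algebra.linearMap Γ(X, V) Γ(Z, i ⁻¹ᵁ V)) hs
  exact repOn_of_isPerfectModule_sections _ hV
    (Groth.Agent.Lib.LCIPerfect.isPerfectModule_of_linearEquiv (pushSectionsEquiv i V hUV)
      (isPerfectModule_of_isPerfectHom h))

/-- For a perfect closed immersion `i`, `i_* O_Z` is a perfect object of `D(O_X)`. -/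
theorem isPerfect_push_structureModule [IsClosedImmersion i] (hi : MoreMor.IsPerfectMor i) :
    DCoh.IsPerfect (DCoh.inD X ((Scheme.Modules.pushforward i).obj (Coh.structureModule Z))) := by
  apply isPerfect_of_forall_repOn
  intro x
  obtain ⟨_, ⟨V, hV : IsAffineOpen V, rfl⟩, hxV, -⟩ :=
    X.isBasis_affineOpens.exists_subset_of_mem_open (Set.mem_univ x) isOpen_univ
  refine ⟨_, hV.fromSpec, inferInstance, ?_, ?_⟩
  · rw [hV.range_fromSpec]
    exact hxV
  · exact repOn_push_structureModule i hV le_rfl (hi (i ⁻¹ᵁ V) V (hV.preimage i) hV le_rfl)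

end Scheme

end Groth.Agent.Lib.PerfectClosedImm17
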