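import Groth.Agent.Lib.PerfectHomologyFree
import Groth.Agent.Lib.PseudoCohD

/-!
# The locus where the cohomology sheaves of a perfect object are finite free
-/

set_option autoImplicit false
universe u

open CategoryTheory CategoryTheory.Limits AlgebraicGeometry

namespace Groth.Agent.Lib.PerfectFreeLocus

attribute [local instance] HasDerivedCategory.standard

open Groth.Agent.Lib.PerfectLocal Groth.Agent.Lib.FinLocFree Groth.Agent.Lib.LocFreeCrit
  Groth.Agent.Lib.RestrictExact Groth.Agent.Lib.LocalFlex Groth.Agent.Lib.KernelLocFree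
  Groth.Agent.Lib.PerfectD Groth.Agent.Lib.FlatBaseChangeD Groth.Agent.Lib.ModStalkLin

variable {X : Scheme.{u}}

/-- Stalks of a module which is finite locally free on a neighbourhood of `x`. -/
theorem free_finite_stalk_of_isFinLocFree_restrict (M : X.Modules) (W : X.Opens) (x : X)
    (hx : x ∈ W) (h : FlatMod.IsFinLocFree (M.restrict W.ι)) :
    Module.Free (X.presheaf.stalk x) (M.presheaf.stalk x) ∧
      Module.Finite (X.presheaf.stalk x) (M.presheaf.stalk x) := by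
  have h1 := Groth.Agent.Lib.LocFreeFP.free_stalk_of_isFinLocFree h ⟨x, hx⟩
  have h2 : Module.Free (X.presheaf.stalk x) (M.presheaf.stalk x) :=
    (Groth.Agent.Lib.RestrictStalk.free_restrict_iff W.ι M ⟨x, hx⟩).mp h1
  refine ⟨h2, ?_⟩
  haveI : (M.restrict W.ι).IsFiniteType :=
    Groth.Agent.Lib.H90Invertible.isFiniteType_of_isFinLocFree h
  have h3 := Groth.Agent.Lib.CohFinite.finite_stalk_of_isFiniteType (M.restrict W.ι) ⟨x, hx⟩
  obtain ⟨n, v, hv⟩ := Module.Finite.exists_fin (R := (W : Scheme.{u}).presheaf.stalk ⟨x, hx⟩)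
    (M := (M.restrict W.ι).presheaf.stalk ⟨x, hx⟩)
  have hv' := (Groth.Agent.Lib.RestrictStalk.span_restrict_eq_top_iff W.ι M ⟨x, hx⟩ v).mp hv
  rw [Module.finite_def, Submodule.fg_def]
  exact ⟨_, Set.finite_range _, hv'⟩

/-- Near a point where all cohomology sheaves of a perfect object have free stalks, they are all
finite locally free. -/
theorem exists_open_forall_isFinLocFree_HD (E : DCoh.D X) (hE : DCoh.IsPerfect E) (x : X)
    (hfree : ∀ i : ℤ, Module.Free (X.presheaf.stalk x) ((DCoh.HD E i).presheaf.stalk x)) :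
    ∃ W : X.Opens, x ∈ W ∧ ∀ i : ℤ, FlatMod.IsFinLocFree ((DCoh.HD E i).restrict W.ι) := by
  obtain ⟨V, hxV, P, hP, ⟨a⟩⟩ := (isPerfect_iff_repOn E).1 hE x
  let eH : ∀ i : ℤ, P.homology i ≅ (DCoh.HD E i).restrict V.ι := fun i =>
    ((DerivedCategory.homologyFunctorFactors _ i).app P).symm ≪≫
      (DerivedCategory.homologyFunctor _ i).mapIso a.symm ≪≫
      (mapDerivedCategoryHomologyIso (Scheme.Modules.restrictFunctor V.ι) i).app E
  have hfreeP : ∀ i : ℤ, Module.Free ((V : Scheme.{u}).presheaf.stalk ⟨x, hxV⟩)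
      ((P.homology i).presheaf.stalk ⟨x, hxV⟩) := fun i => by
    have h1 : Module.Free ((V : Scheme.{u}).presheaf.stalk ⟨x, hxV⟩)
        (((DCoh.HD E i).restrict V.ι).presheaf.stalk ⟨x, hxV⟩) :=
      (Groth.Agent.Lib.RestrictStalk.free_restrict_iff V.ι (DCoh.HD E i) ⟨x, hxV⟩).mpr (hfree i)
    exact Module.Free.of_equiv (stalkLinEquiv (eH i) ⟨x, hxV⟩).symm
  obtain ⟨W', hy, hW'⟩ :=
    Groth.Agent.Lib.PerfectHomologyFree.exists_open_forall_isFinLocFree_homology P hP ⟨x, hxV⟩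
      hfreeP
  refine ⟨(W'.ι ≫ V.ι).opensRange, ⟨⟨⟨x, hxV⟩, hy⟩, rfl⟩, fun i => ?_⟩
  have h1 : FlatMod.IsFinLocFree ((DCoh.HD E i).restrict (W'.ι ≫ V.ι)) :=
    isFinLocFree_of_iso ((Scheme.Modules.restrictFunctor W'.ι).mapIso (eH i) ≪≫
      (restrictFactorIso W'.ι V.ι (W'.ι ≫ V.ι) rfl).app (DCoh.HD E i)) (hW' i)
  exact isFinLocFree_of_iso (restrictRangeIso (W'.ι ≫ V.ι) (DCoh.HD E i))
    (isFinLocFree_restrict (rangeLift (W'.ι ≫ V.ι)) h1)

open Groth.Agent.Lib.FreeModSch in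
/-- The locus where all cohomology sheaves of a perfect object are finite free is open; the
cohomology sheaves are finite locally free on it, and it is the largest such open. -/
theorem exists_free_locus (E : DCoh.D X) (hE : DCoh.IsPerfect E) :
    ∃ U : X.Opens,
      (U : Set X) = {x : X | ∀ i : ℤ,
        Module.Free (X.presheaf.stalk x) ((DCoh.HD E i).presheaf.stalk x) ∧
        Module.Finite (X.presheaf.stalk x) ((DCoh.HD E i).presheaf.stalk x)} ∧
      (∀ i : ℤ, FlatMod.IsFinLocFree ((DCoh.HD E i).restrict U.ι)) ∧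
      ∀ W : X.Opens, (∀ i : ℤ, FlatMod.IsFinLocFree ((DCoh.HD E i).restrict W.ι)) → W ≤ U := by
  let S : Set X := {x : X | ∀ i : ℤ,
    Module.Free (X.presheaf.stalk x) ((DCoh.HD E i).presheaf.stalk x) ∧
    Module.Finite (X.presheaf.stalk x) ((DCoh.HD E i).presheaf.stalk x)}
  have hmax : ∀ W : X.Opens, (∀ i : ℤ, FlatMod.IsFinLocFree ((DCoh.HD E i).restrict W.ι)) →
      (W : Set X) ⊆ S := fun W hW x hx i =>
    free_finite_stalk_of_isFinLocFree_restrict _ W x hx (hW i)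
  have hloc : ∀ x ∈ S, ∃ W : X.Opens, x ∈ W ∧
      ∀ i : ℤ, FlatMod.IsFinLocFree ((DCoh.HD E i).restrict W.ι) := fun x hx =>
    exists_open_forall_isFinLocFree_HD E hE x (fun i => (hx i).1)
  have hopen : IsOpen S := isOpen_iff_forall_mem_open.2 fun x hx => by
    obtain ⟨W, hxW, hW⟩ := hloc x hx
    exact ⟨W, hmax W hW, W.2, hxW⟩
  refine ⟨⟨S, hopen⟩, rfl, fun i => ?_, fun W hW => hmax W hW⟩
  apply isFinLocFree_of_forall_restrict
  intro u
  obtain ⟨W, hxW, hW⟩ := hloc u.1 u.2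
  have hle : W ≤ (⟨S, hopen⟩ : X.Opens) := hmax W hW
  refine ⟨W, X.homOfLE hle, inferInstance, ⟨⟨u.1, hxW⟩, ?_⟩, ?_⟩
  · apply Subtype.ext
    exact Scheme.homOfLE_apply hle ⟨u.1, hxW⟩
  · exact isFinLocFree_of_iso ((restrictRestrictIso hle).app (DCoh.HD E i)).symm (hW i)

end Groth.Agent.Lib.PerfectFreeLocus
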