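import Groth.Agent.Lib.KernelLocFree

/-!
# Cohomology sheaves of a strictly perfect complex with free stalks at a point are locally free
  near that point
-/

set_option autoImplicit false
universe u

open CategoryTheory CategoryTheory.Limits AlgebraicGeometry

namespace Groth.Agent.Lib.PerfectHomologyFree

open Groth.Agent.Lib.PerfectLocal Groth.Agent.Lib.FinLocFree Groth.Agent.Lib.LocFreeCrit
  Groth.Agent.Lib.RestrictExact Groth.Agent.Lib.LocalFlex Groth.Agent.Lib.KernelLocFree
  Groth.Agent.Lib.CyclesRetract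

variable {Y : Scheme.{u}} (P : CochainComplex Y.Modules ℤ)

/-- The invariant of the descending induction: near `y`, `Z^i(P)` and all `H^j(P)`, `j > i`, are
finite locally free. -/
def Inv (y : Y) (i : ℤ) : Prop :=
  ∃ W : Y.Opens, y ∈ W ∧ FlatMod.IsFinLocFree ((P.cycles i).restrict W.ι) ∧
    ∀ j : ℤ, i < j → FlatMod.IsFinLocFree ((P.homology j).restrict W.ι)

lemma isFinLocFree_restrict_of_isZero {M : Y.Modules} (h : IsZero M) (W : Y.Opens) :
    FlatMod.IsFinLocFree (M.restrict W.ι) :=
  isFinLocFree_of_isZero ((Scheme.Modules.restrictFunctor W.ι).map_isZero h)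

lemma inv_of_isZero (y : Y) (i : ℤ) (h : ∀ j : ℤ, i ≤ j → IsZero (P.X j)) : Inv P y i := by
  refine ⟨⊤, trivial, isFinLocFree_restrict_of_isZero ?_ _, fun j hj =>
    isFinLocFree_restrict_of_isZero
      (ShortComplex.isZero_homology_of_isZero_X₂ _ (h j (by omega))) _⟩
  exact IsZero.of_mono (P.iCycles i) (h i le_rfl)

lemma inv_step (hP : ∀ j : ℤ, FlatMod.IsFinLocFree (P.X j)) (y : Y)
    (hfree : ∀ j : ℤ, Module.Free (Y.presheaf.stalk y) ((P.homology j).presheaf.stalk y))
    (i : ℤ) (h : Inv P y i) : Inv P y (i - 1) := by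
  obtain ⟨W, hy, hZ, hH⟩ := h
  let f : P.X (i - 1) ⟶ P.cycles i := P.toCycles (i - 1) i
  let e₁ : cokernel f ≅ P.homology i :=
    (colimit.isColimit _).coconePointUniqueUpToIso (P.homologyIsCokernel (i - 1) i (by simp))
  have hFP : CohB1.IsFP ((P.homology i).restrict W.ι) :=
    (SheafOfModules.isFinitePresentation (W : Scheme.{u}).ringCatSheaf).prop_of_iso
      ((Scheme.Modules.restrictFunctor W.ι).mapIso e₁)
      (isFP_restrict_cokernel f W (isFinLocFree_restrict W.ι (hP (i - 1))) hZ)
  obtain ⟨W', hle, hy', hH'⟩ := exists_isFinLocFree_restrict_of_isFP_of_free (P.homology i) W y hy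
    hFP (hfree i)
  have hZ' := isFinLocFree_restrict_of_le hle hZ
  have hB : FlatMod.IsFinLocFree ((kernel (P.homologyπ i)).restrict W'.ι) :=
    isFinLocFree_restrict_kernel_of_epi (P.homologyπ i) W' hZ' hH'
  have hfπ : f ≫ P.homologyπ i = 0 := P.toCycles_comp_homologyπ (i - 1) i
  let g : P.X (i - 1) ⟶ kernel (P.homologyπ i) := kernel.lift (P.homologyπ i) f hfπ
  have hg : Epi g := by
    have hex : (ShortComplex.mk f (P.homologyπ i) hfπ).Exact :=
      ShortComplex.exact_of_g_is_cokernel _ (P.homologyIsCokernel (i - 1) i (by simp))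
    exact hex.epi_kernelLift
  have hK : FlatMod.IsFinLocFree ((kernel g).restrict W'.ι) :=
    isFinLocFree_restrict_kernel_of_epi g W' (isFinLocFree_restrict W'.ι (hP (i - 1))) hB
  let m : kernel (P.homologyπ i) ⟶ P.X i := kernel.ι (P.homologyπ i) ≫ P.iCycles i
  have hgm : g ≫ m = P.d (i - 1) i := by
    simp only [g, m, f, kernel.lift_ι_assoc, HomologicalComplex.toCycles_i]
  let e₂ : kernel g ≅ P.cycles (i - 1) :=
    (kernelCompMono g m).symm ≪≫ kernelIsoOfEq hgm ≪≫
      (limit.isLimit _).conePointUniqueUpToIso (P.cyclesIsKernel (i - 1) i (by simp))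
  refine ⟨W', hy', isFinLocFree_of_iso ((Scheme.Modules.restrictFunctor W'.ι).mapIso e₂) hK,
    fun j hj => ?_⟩
  by_cases hji : j = i
  · subst hji
    exact hH'
  · exact isFinLocFree_restrict_of_le hle (hH j (by omega))

/-- If all cohomology sheaves of a strictly perfect complex have free stalks at `y`, they are all
finite locally free on a common neighbourhood of `y`. -/
theorem exists_open_forall_isFinLocFree_homology (hP : DCoh.IsStrictlyPerfect P) (y : Y)
    (hfree : ∀ j : ℤ, Module.Free (Y.presheaf.stalk y) ((P.homology j).presheaf.stalk y)) :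
    ∃ W : Y.Opens, y ∈ W ∧ ∀ j : ℤ, FlatMod.IsFinLocFree ((P.homology j).restrict W.ι) := by
  obtain ⟨⟨a, b, hab⟩, hfin⟩ := hP
  have key : ∀ n : ℕ, Inv P y (b + 1 - (n : ℤ)) := by
    intro n
    induction n with
    | zero =>
      exact inv_of_isZero P y _ (fun j hj => hab j (Or.inr (by push_cast at hj; omega)))
    | succ n ih =>
      have e : b + 1 - ((n + 1 : ℕ) : ℤ) = b + 1 - (n : ℤ) - 1 := by push_cast; ring
      rw [e]
      exact inv_step P hfin y hfree _ ih
  obtain ⟨W, hy, -, hH⟩ := key (b + 2 - a).toNat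
  refine ⟨W, hy, fun j => ?_⟩
  by_cases hj : b + 1 - ((b + 2 - a).toNat : ℤ) < j
  · exact hH j hj
  · have hja : j < a := by
      have := Int.self_le_toNat (b + 2 - a)
      omega
    exact isFinLocFree_restrict_of_isZero
      (ShortComplex.isZero_homology_of_isZero_X₂ _ (hab j (Or.inl hja))) _

end Groth.Agent.Lib.PerfectHomologyFree
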