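import Groth.Agent.Lib.PerfectFlatAmp

/-!
# Perfect ⇔ pseudo-coherent and locally of finite tor dimension
-/

set_option autoImplicit false
universe u

open CategoryTheory CategoryTheory.Limits AlgebraicGeometry

namespace Groth.Agent.Lib.PerfectIffPC

attribute [local instance] HasDerivedCategory.standard

open Groth.Agent.Lib.RestrictExact Groth.Agent.Lib.FinLocFree Groth.Agent.Lib.PerfectLocal
  Groth.Agent.Lib.PerfectD Groth.Agent.Lib.FlatBaseChangeD Groth.Agent.Lib.PseudoCohD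
  Groth.Agent.Lib.PseudoCohTriangle Groth.Agent.Lib.FlatModClosure
  Groth.Agent.Lib.PerfectFlatAmp

variable {X : Scheme.{u}}

theorem pcOn_of_repOn (m : ℤ) {K : DCoh.D X} {Y : Scheme.{u}} {j : Y ⟶ X} [IsOpenImmersion j]
    (h : RepOn K j) : PCOn m K j := by
  obtain ⟨P, hP, ⟨a⟩⟩ := h
  exact (pcOn_iff _ _ _).2 ⟨P, a.inv, hP, QIsoAbove.of_iso m a.symm⟩

theorem isPseudoCoherentD_of_isPerfect (m : ℤ) {K : DCoh.D X} (hK : DCoh.IsPerfect K) :
    DCoh.IsPseudoCoherentD m K := by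
  rw [isPseudoCoherentD_iff_pcOn]
  intro x
  obtain ⟨V, hxV, hV⟩ := (isPerfect_iff_repOn K).1 hK x
  exact ⟨V, hxV, pcOn_of_repOn m hV⟩

theorem locHasFiniteTorDim_of_isPerfect {K : DCoh.D X} (hK : DCoh.IsPerfect K) :
    DCoh.LocHasFiniteTorDim K := by
  intro x
  obtain ⟨V, hxV, P, hP, ⟨a⟩⟩ := (isPerfect_iff_repOn K).1 hK x
  obtain ⟨⟨a', b, hab⟩, hfree⟩ := hP
  refine ⟨V, a', b, hxV, fun F' ⟨iF⟩ => ⟨P, hab, fun i => isFlat_of_isFinLocFree (hfree i), ⟨?_⟩⟩⟩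
  exact a.symm ≪≫ (DCoh.restrictD V.ι).mapIso iF.symm ≪≫
    (Scheme.Modules.restrictFunctor V.ι).mapDerivedCategoryFactors.app F'

theorem isPerfect_of_pc_of_locHasFiniteTorDim {K : DCoh.D X}
    (h1 : ∀ m : ℤ, DCoh.IsPseudoCoherentD m K) (h2 : DCoh.LocHasFiniteTorDim K) :
    DCoh.IsPerfect K := by
  apply isPerfect_of_forall_repOn
  intro x
  obtain ⟨V, a, b, hxV, hV⟩ := h2 x
  let F' := DerivedCategory.Q.objPreimage K
  let iF' : DerivedCategory.Q.obj F' ≅ K := DerivedCategory.Q.objObjPreimageIso K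
  obtain ⟨F, hvan, hflat, ⟨iso⟩⟩ := hV F' ⟨iF'⟩
  obtain ⟨V', hxV', hV'⟩ := (isPseudoCoherentD_iff_pcOn _ _).1 (h1 (a - 1)) x
  let j : ((V ⊓ V' : X.Opens) : Scheme.{u}) ⟶ V := X.homOfLE inf_le_left
  have hj : j ≫ V.ι = (V ⊓ V').ι := X.homOfLE_ι _
  refine repOn_of_flat_of_pcOn K (V := V ⊓ V') ⟨hxV, hxV'⟩ a b ((resCx j).obj F)
    (fun i hi => (Scheme.Modules.restrictFunctor j).map_isZero (hvan i hi))
    (fun i => isFlat_restrict j (hflat i)) ?_ (pcOn_inf hV' inf_le_right)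
  exact ((Scheme.Modules.restrictFunctor j).mapDerivedCategoryFactors.app F).symm ≪≫
    (DCoh.restrictD j).mapIso (iso ≪≫
      ((Scheme.Modules.restrictFunctor V.ι).mapDerivedCategoryFactors.app F').symm ≪≫
      (DCoh.restrictD V.ι).mapIso iF') ≪≫ (restrictDCompIso j V.ι _ hj).app K

theorem isPerfect_iff_pc_and_locHasFiniteTorDim (K : DCoh.D X) :
    DCoh.IsPerfect K ↔ (∀ m : ℤ, DCoh.IsPseudoCoherentD m K) ∧ DCoh.LocHasFiniteTorDim K :=
  ⟨fun h => ⟨fun m => isPseudoCoherentD_of_isPerfect m h, locHasFiniteTorDim_of_isPerfect h⟩,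
    fun h => isPerfect_of_pc_of_locHasFiniteTorDim h.1 h.2⟩

end Groth.Agent.Lib.PerfectIffPC
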