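import Groth.Agent.Lib.PerfectIffPC

/-!
# Direct summands of perfect objects of `D(O_X)` are perfect
-/

set_option autoImplicit false
universe u

open CategoryTheory CategoryTheory.Limits AlgebraicGeometry
open scoped ZeroObject

namespace Groth.Agent.Lib.PerfectSummand

attribute [local instance] HasDerivedCategory.standard

open Groth.Agent.Lib.RestrictExact Groth.Agent.Lib.FinLocFree Groth.Agent.Lib.PerfectLocal
  Groth.Agent.Lib.PerfectD Groth.Agent.Lib.FlatBaseChangeD Groth.Agent.Lib.PseudoCohD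
  Groth.Agent.Lib.PseudoCohTriangle Groth.Agent.Lib.FlatModClosure
  Groth.Agent.Lib.PerfectFlatAmp Groth.Agent.Lib.PseudoCohSummand Groth.Agent.Lib.PerfectIffPC

section Trunc

variable {Y : Scheme.{u}}

/-- Lemma A: `τ_{≥ a} P` is strictly perfect as soon as `coker (P^{a-1} ⟶ P^a)` is flat. -/
theorem isStrictlyPerfect_truncGE {P : CochainComplex Y.Modules ℤ}
    (hP : DCoh.IsStrictlyPerfect P) (a : ℤ) (hflat : FlatMod.IsFlat (P.opcycles a)) :
    DCoh.IsStrictlyPerfect (P.truncGE a) := by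
  obtain ⟨⟨a', b, hab⟩, hfree⟩ := hP
  let eco : cokernel (P.d (a - 1) a) ≅ P.opcycles a :=
    (colimit.isColimit _).coconePointUniqueUpToIso (P.opcyclesIsCokernel (a - 1) a (by simp))
  have hfp : CohB1.IsFP (cokernel (P.d (a - 1) a)) :=
    Groth.Agent.Lib.LocalFlex.isFP_cokernel_of_isFinLocFree (hfree _) (hfree _) _
  have hlf : FlatMod.IsFinLocFree ((P.truncGE a).X a) :=
    isFinLocFree_of_iso (P.truncGEXIsoOpcycles a ≪≫ eco.symm).symm
      (Groth.Agent.Lib.LocFreeFP.isFinLocFree_of_isFP_of_flat _ hfp (isFlat_of_iso eco.symm hflat))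
  refine ⟨⟨a, max a b, fun i hi => ?_⟩, fun i => ?_⟩
  · rcases hi with hi | hi
    · exact (P.truncGE a).isZero_of_isStrictlyGE a i hi
    · exact IsZero.of_iso (hab i (Or.inr (lt_of_le_of_lt (le_max_right a b) hi)))
        (P.truncGEXIso a i (lt_of_le_of_lt (le_max_left a b) hi))
  · rcases lt_trichotomy i a with hi | rfl | hi
    · exact Groth.Agent.Lib.CyclesRetract.isFinLocFree_of_isZero
        ((P.truncGE a).isZero_of_isStrictlyGE a i hi)
    · exact hlf
    · exact isFinLocFree_of_iso (P.truncGEXIso a i hi).symm (hfree i)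

/-- Lemma B: a chain map which is a quasi-isomorphism in degrees `≥ a` to a complex which is
acyclic in degrees `< a` induces an isomorphism from `τ_{≥ a}` of the source in `D`. -/
theorem nonempty_iso_Q_truncGE {P F : CochainComplex Y.Modules ℤ} (g₀ : P ⟶ F) (a : ℤ)
    (hg₀ : ∀ i : ℤ, a ≤ i → QuasiIsoAt g₀ i) (hF : ∀ i : ℤ, i < a → IsZero (F.homology i)) :
    Nonempty (DerivedCategory.Q.obj (P.truncGE a) ≅ DerivedCategory.Q.obj F) := by
  have hq : QuasiIso (CochainComplex.truncGEMap g₀ a) :=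
    (CochainComplex.quasiIso_truncGEMap_iff g₀ a).2 hg₀
  have hFge : F.IsGE a := by
    rw [CochainComplex.isGE_iff]
    intro i hi
    rw [HomologicalComplex.exactAt_iff_isZero_homology]
    exact hF i hi
  have hπ : QuasiIso (F.πTruncGE a) := (F.quasiIso_πTruncGE_iff a).2 hFge
  exact ⟨asIso (DerivedCategory.Q.map (CochainComplex.truncGEMap g₀ a)) ≪≫
    (asIso (DerivedCategory.Q.map (F.πTruncGE a))).symm⟩

end Trunc

section Biprod

variable {Y : Scheme.{u}}

/-- Additive functors preserve binary biproducts (as a local instance). -/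
theorem preservesBinaryBiproduct_of_additive {C D : Type*} [Category C] [Category D]
    [Preadditive C] [Preadditive D] (F : C ⥤ D) [F.Additive] (A B : C) :
    PreservesBinaryBiproduct A B F :=
  preservesBinaryBiproduct_of_preservesBiproduct F A B

attribute [local instance] preservesBinaryBiproduct_of_additive

theorem map_biprod_map {C D : Type*} [Category C] [Category D] [Preadditive C] [Preadditive D]
    (F : C ⥤ D) [F.Additive] [HasBinaryBiproducts C] [HasBinaryBiproducts D]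
    {A A' B B' : C} (f : A ⟶ A') (g : B ⟶ B') :
    F.map (biprod.map f g) =
      (F.mapBiprod A B).hom ≫ biprod.map (F.map f) (F.map g) ≫ (F.mapBiprod A' B').inv := by
  rw [← Iso.inv_comp_eq, Functor.mapBiprod_inv, Functor.mapBiprod_inv]
  ext <;> simp [← Functor.map_comp]

theorem QIsoAbove.biprod_map {m : ℤ} {A A' B B' : DCoh.D Y} {f : A ⟶ A'} {g : B ⟶ B'}
    (hf : QIsoAbove m f) (hg : QIsoAbove m g) : QIsoAbove m (biprod.map f g) := by
  refine ⟨fun i hi => ?_, ?_⟩
  · have := hf.1 i hi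
    have := hg.1 i hi
    rw [map_biprod_map]
    have : IsIso (biprod.map ((DerivedCategory.homologyFunctor Y.Modules i).map f)
        ((DerivedCategory.homologyFunctor Y.Modules i).map g)) :=
      (biprod.mapIso (asIso ((DerivedCategory.homologyFunctor Y.Modules i).map f))
        (asIso ((DerivedCategory.homologyFunctor Y.Modules i).map g))).isIso_hom
    infer_instance
  · have := hf.2
    have := hg.2
    rw [map_biprod_map]
    have : Epi (biprod.map ((DerivedCategory.homologyFunctor Y.Modules m).map f)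
        ((DerivedCategory.homologyFunctor Y.Modules m).map g) ≫
        ((DerivedCategory.homologyFunctor Y.Modules m).mapBiprod A' B').inv) := epi_comp _ _
    exact epi_comp _ _

end Biprod

section Data

attribute [local instance] preservesBinaryBiproduct_of_additive

/-- A strictly perfect complex `R` (vanishing in degrees `< a`) representing `K₀ ⊞ L₀`, together
with an `(a-1)`-pseudo-coherence datum `P ⟶ K₀`. -/
structure SummandData (a : ℤ) (Y : Scheme.{u}) where
  K₀ : DCoh.D Y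
  L₀ : DCoh.D Y
  R : CochainComplex Y.Modules ℤ
  P : CochainComplex Y.Modules ℤ
  hR : DCoh.IsStrictlyPerfect R
  hRa : ∀ i : ℤ, i < a → IsZero (R.X i)
  hP : DCoh.IsStrictlyPerfect P
  e : K₀ ⊞ L₀ ≅ DerivedCategory.Q.obj R
  α : DerivedCategory.Q.obj P ⟶ K₀
  hα : QIsoAbove (a - 1) α

variable {a : ℤ} {Y : Scheme.{u}}

/-- Restriction of the data along an open immersion. -/
noncomputable def SummandData.restrict (D : SummandData a Y) {Z : Scheme.{u}} (j : Z ⟶ Y)
    [IsOpenImmersion j] : SummandData a Z where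
  K₀ := (DCoh.restrictD j).obj D.K₀
  L₀ := (DCoh.restrictD j).obj D.L₀
  R := (resCx j).obj D.R
  P := (resCx j).obj D.P
  hR := isStrictlyPerfect_resCx j D.hR
  hRa := fun i hi => (Scheme.Modules.restrictFunctor j).map_isZero (D.hRa i hi)
  hP := isStrictlyPerfect_resCx j D.hP
  e := ((DCoh.restrictD j).mapBiprod D.K₀ D.L₀).symm ≪≫ (DCoh.restrictD j).mapIso D.e ≪≫
    (Scheme.Modules.restrictFunctor j).mapDerivedCategoryFactors.app D.R
  α := (Scheme.Modules.restrictFunctor j).mapDerivedCategoryFactors.inv.app D.P ≫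
    (DCoh.restrictD j).map D.α
  hα := (QIsoAbove.of_iso _
    ((Scheme.Modules.restrictFunctor j).mapDerivedCategoryFactors.symm.app D.P)).comp
      (D.hα.restrict j)

theorem isStrictlyPerfect_biprod {P P' : CochainComplex Y.Modules ℤ}
    (hP : DCoh.IsStrictlyPerfect P) (hP' : DCoh.IsStrictlyPerfect P') :
    DCoh.IsStrictlyPerfect (P ⊞ P') := by
  obtain ⟨⟨a₁, b₁, hab₁⟩, hfree₁⟩ := hP
  obtain ⟨⟨a₂, b₂, hab₂⟩, hfree₂⟩ := hP'
  let e : ∀ i : ℤ, (P ⊞ P').X i ≅ P.X i ⊞ P'.X i := fun i =>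
    (HomologicalComplex.eval _ _ i).mapBiprod P P'
  refine ⟨⟨min a₁ a₂, max b₁ b₂, fun i hi => ?_⟩, fun i => ?_⟩
  · refine IsZero.of_iso ?_ (e i)
    rw [biprod_isZero_iff]
    refine ⟨hab₁ i ?_, hab₂ i ?_⟩
    · rcases hi with hi | hi
      · exact Or.inl (lt_of_lt_of_le hi (min_le_left _ _))
      · exact Or.inr (lt_of_le_of_lt (le_max_left _ _) hi)
    · rcases hi with hi | hi
      · exact Or.inl (lt_of_lt_of_le hi (min_le_right _ _))
      · exact Or.inr (lt_of_le_of_lt (le_max_right _ _) hi)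
  · exact isFinLocFree_of_iso (e i).symm
      (Groth.Agent.Lib.FinLocFree2.isFinLocFree_biprod (hfree₁ i) (hfree₂ i))

open Groth.Agent.Lib.PCohStupid in
/-- Lemma F': with a pseudo-coherence datum for `L₀` as well, `coker (P^{a-1} ⟶ P^a)` is flat
near every point. -/
theorem SummandData.exists_isFlat_opcycles (D : SummandData a Y)
    (P' : CochainComplex Y.Modules ℤ) (hP' : DCoh.IsStrictlyPerfect P')
    (α' : DerivedCategory.Q.obj P' ⟶ D.L₀) (hα' : QIsoAbove (a - 1) α') (y : Y) :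
    ∃ W : Y.Opens, y ∈ W ∧ FlatMod.IsFlat (((resCx W.ι).obj D.P).opcycles a) := by
  have hPP := isStrictlyPerfect_biprod D.hP hP'
  let θ : DerivedCategory.Q.obj (D.P ⊞ P') ⟶ DerivedCategory.Q.obj D.R :=
    (DerivedCategory.Q.mapBiprod D.P P').hom ≫ biprod.map D.α α' ≫ D.e.hom
  have hθ : QIsoAbove (a - 1) θ :=
    (QIsoAbove.of_iso _ (DerivedCategory.Q.mapBiprod D.P P')).comp
      ((QIsoAbove.biprod_map D.hα hα').comp (QIsoAbove.of_iso _ D.e))
  obtain ⟨W, hyW, hW⟩ := Groth.Agent.S0944.result (F := D.R) hPP θ y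
  obtain ⟨β, hβ⟩ := hW
  have hQβ : DerivedCategory.Q.map β =
      (Scheme.Modules.restrictFunctor W.ι).mapDerivedCategoryFactors.inv.app (D.P ⊞ P') ≫
        (DCoh.restrictD W.ι).map θ ≫
        (Scheme.Modules.restrictFunctor W.ι).mapDerivedCategoryFactors.hom.app D.R := by
    rw [hβ, Category.assoc, Category.assoc, Iso.inv_hom_id_app, Iso.inv_hom_id_app_assoc]
    erw [Category.comp_id]
  have hq : QIsoAbove (a - 1) (DerivedCategory.Q.map β) := by
    rw [hQβ]
    exact (QIsoAbove.of_iso _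
      ((Scheme.Modules.restrictFunctor W.ι).mapDerivedCategoryFactors.symm.app (D.P ⊞ P'))).comp
      ((hθ.restrict W.ι).comp (QIsoAbove.of_iso _
        ((Scheme.Modules.restrictFunctor W.ι).mapDerivedCategoryFactors.app D.R)))
  have hβq : ∀ i : ℤ, a ≤ i → QuasiIsoAt β i := fun i hi => by
    rw [quasiIsoAt_iff_isIso_homologyMap]
    exact (isIso_homologyFunctor_map_Q_iff β i).1 (hq.1 i (by omega))
  obtain ⟨⟨a₀, c, hab⟩, hfreeR⟩ := D.hR
  obtain ⟨hperf, -⟩ := truncGE_strictlyPerfect (isStrictlyPerfect_resCx W.ι hPP) a c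
    (fun i hi => (Scheme.Modules.restrictFunctor W.ι).map_isZero (by
      rcases hi with hi | hi
      · exact D.hRa i hi
      · exact hab i (Or.inr hi)))
    (fun i => isFlat_restrict W.ι (isFlat_of_isFinLocFree (hfreeR i))) β hβq
  have hflatPP : FlatMod.IsFlat (((resCx W.ι).obj (D.P ⊞ P')).opcycles a) :=
    isFlat_of_iso (((resCx W.ι).obj (D.P ⊞ P')).truncGEXIsoOpcycles a)
      (isFlat_of_isFinLocFree (hperf.2 a))
  refine ⟨W, hyW, isFlat_of_retract
    (HomologicalComplex.opcyclesMap ((resCx W.ι).map (biprod.inl : D.P ⟶ D.P ⊞ P')) a)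
    (HomologicalComplex.opcyclesMap ((resCx W.ι).map (biprod.fst : D.P ⊞ P' ⟶ D.P)) a) ?_ hflatPP⟩
  rw [← HomologicalComplex.opcyclesMap_comp, ← Functor.map_comp, biprod.inl_fst,
    CategoryTheory.Functor.map_id, HomologicalComplex.opcyclesMap_id]

/-- Restriction of complexes commutes with `opcycles`. -/
noncomputable def restrictOpcyclesIso {Z : Scheme.{u}} (j : Z ⟶ Y) [IsOpenImmersion j]
    (F : CochainComplex Y.Modules ℤ) (i : ℤ) :
    ((resCx j).obj F).opcycles i ≅ (F.opcycles i).restrict j :=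
  (F.sc i).mapOpcyclesIso (Scheme.Modules.restrictFunctor j)

/-- Lemma F: `coker (P^{a-1} ⟶ P^a)` is flat when `L₀` is `(a-1)`-pseudo-coherent. -/
theorem SummandData.isFlat_opcycles (D : SummandData a Y)
    (hL : DCoh.IsPseudoCoherentD (a - 1) D.L₀) : FlatMod.IsFlat (D.P.opcycles a) := by
  intro y
  obtain ⟨V, hyV, hV⟩ := (isPseudoCoherentD_iff_pcOn _ _).1 hL y
  obtain ⟨P', α', hP', hα'⟩ := (pcOn_iff _ _ _).1 hV
  obtain ⟨W, hyW, hW⟩ := (D.restrict V.ι).exists_isFlat_opcycles P' hP' α' hα' ⟨y, hyV⟩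
  have h1 : FlatMod.IsFlat ((((resCx V.ι).obj D.P).opcycles a).restrict W.ι) :=
    isFlat_of_iso (restrictOpcyclesIso W.ι ((resCx V.ι).obj D.P) a) hW
  have h2 : Module.Flat ((V : Scheme.{u}).presheaf.stalk ⟨y, hyV⟩)
      ((((resCx V.ι).obj D.P).opcycles a).presheaf.stalk ⟨y, hyV⟩) :=
    (Groth.Agent.Lib.RestrictStalk.flat_restrict_iff W.ι _ ⟨⟨y, hyV⟩, hyW⟩).1
      (h1 ⟨⟨y, hyV⟩, hyW⟩)
  have h3 : FlatMod.IsFlatAt ((D.P.opcycles a).restrict V.ι) ⟨y, hyV⟩ :=
    Module.Flat.of_linearEquiv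
      (Groth.Agent.Lib.ModStalkLin.stalkLinEquiv (restrictOpcyclesIso V.ι D.P a) ⟨y, hyV⟩).symm
  exact (Groth.Agent.Lib.RestrictStalk.flat_restrict_iff V.ι _ ⟨y, hyV⟩).1 h3

open Groth.Agent.Lib.PCohStupid in
/-- Lemma G: `K₀` is locally represented by a strictly perfect complex. -/
theorem SummandData.exists_repOn (D : SummandData a Y)
    (hL : DCoh.IsPseudoCoherentD (a - 1) D.L₀) (y : Y) :
    ∃ W : Y.Opens, y ∈ W ∧ RepOn D.K₀ W.ι := by
  let F := DerivedCategory.Q.objPreimage D.K₀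
  let iF : DerivedCategory.Q.obj F ≅ D.K₀ := DerivedCategory.Q.objObjPreimageIso D.K₀
  obtain ⟨W, hyW, hW⟩ := Groth.Agent.S0944.result (F := F) D.hP (D.α ≫ iF.inv) y
  obtain ⟨β, hβ⟩ := hW
  have hQβ : DerivedCategory.Q.map β =
      (Scheme.Modules.restrictFunctor W.ι).mapDerivedCategoryFactors.inv.app D.P ≫
        (DCoh.restrictD W.ι).map (D.α ≫ iF.inv) ≫
        (Scheme.Modules.restrictFunctor W.ι).mapDerivedCategoryFactors.hom.app F := by
    rw [hβ, Category.assoc, Category.assoc, Iso.inv_hom_id_app, Iso.inv_hom_id_app_assoc]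
    erw [Category.comp_id]
  have hq : QIsoAbove (a - 1) (DerivedCategory.Q.map β) := by
    rw [hQβ]
    exact (QIsoAbove.of_iso _
      ((Scheme.Modules.restrictFunctor W.ι).mapDerivedCategoryFactors.symm.app D.P)).comp
      (((D.hα.comp (QIsoAbove.of_iso _ iF.symm)).restrict W.ι).comp (QIsoAbove.of_iso _
        ((Scheme.Modules.restrictFunctor W.ι).mapDerivedCategoryFactors.app F)))
  have hβq : ∀ i : ℤ, a ≤ i → QuasiIsoAt β i := fun i hi => by
    rw [quasiIsoAt_iff_isIso_homologyMap]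
    exact (isIso_homologyFunctor_map_Q_iff β i).1 (hq.1 i (by omega))
  have hzK : ∀ i : ℤ, i < a → IsZero ((DerivedCategory.homologyFunctor _ i).obj D.K₀) :=
    fun i hi => by
      apply isZero_homology_fst (L := D.L₀) i
      refine IsZero.of_iso ?_ ((DerivedCategory.homologyFunctor _ i).mapIso D.e ≪≫
        (DerivedCategory.homologyFunctorFactors _ i).app D.R)
      exact Groth.Agent.Lib.PseudoCohSingle.isZero_homology_of_isZero_X D.R i (D.hRa i hi)
  have hzF : ∀ i : ℤ, i < a → IsZero (((resCx W.ι).obj F).homology i) := fun i hi => by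
    refine IsZero.of_iso (isZero_homology_restrictD D.K₀ W i (hzK i hi))
      (((DerivedCategory.homologyFunctorFactors _ i).app ((resCx W.ι).obj F)).symm ≪≫
        (DerivedCategory.homologyFunctor _ i).mapIso
          (((Scheme.Modules.restrictFunctor W.ι).mapDerivedCategoryFactors.app F).symm ≪≫
            (DCoh.restrictD W.ι).mapIso iF))
  obtain ⟨iso⟩ := nonempty_iso_Q_truncGE β a hβq hzF
  have hflat : FlatMod.IsFlat (((resCx W.ι).obj D.P).opcycles a) :=
    (D.restrict W.ι).isFlat_opcycles (isPseudoCoherentD_restrict hL W)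
  have hperf := isStrictlyPerfect_truncGE (isStrictlyPerfect_resCx W.ι D.hP) a hflat
  exact ⟨W, hyW, _, hperf, ⟨(DCoh.restrictD W.ι).mapIso iF.symm ≪≫
    (Scheme.Modules.restrictFunctor W.ι).mapDerivedCategoryFactors.app F ≪≫ iso.symm⟩⟩

end Data

section Main

attribute [local instance] preservesBinaryBiproduct_of_additive

variable {X : Scheme.{u}}

theorem isPerfect_fst {K L : DCoh.D X} [HasBinaryBiproduct K L]
    (h : DCoh.IsPerfect (K ⊞ L)) : DCoh.IsPerfect K := by
  apply isPerfect_of_forall_repOn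
  intro x
  obtain ⟨V₀, hxV₀, R₀, hR₀, ⟨r₀⟩⟩ := (isPerfect_iff_repOn _).1 h x
  have hR₀' := hR₀
  obtain ⟨⟨a, c, hac⟩, -⟩ := hR₀'
  have hpc : ∀ m : ℤ, DCoh.IsPseudoCoherentD m (K ⊞ L) := fun m =>
    isPseudoCoherentD_of_isPerfect m h
  have hK : DCoh.IsPseudoCoherentD (a - 1) K := isPseudoCoherentD_fst (hpc _)
  have hL : DCoh.IsPseudoCoherentD (a - 1) L := isPseudoCoherentD_snd (hpc _)
  obtain ⟨V₁, hxV₁, hV₁⟩ := (isPseudoCoherentD_iff_pcOn _ _).1 hK x
  let V : X.Opens := V₀ ⊓ V₁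
  let j : (V : Scheme.{u}) ⟶ V₀ := X.homOfLE inf_le_left
  have hj : j ≫ V₀.ι = V.ι := X.homOfLE_ι _
  obtain ⟨P, α, hP, hα⟩ := (pcOn_iff _ _ _).1 (pcOn_inf hV₁ (inf_le_right : V ≤ V₁))
  let D : SummandData a (V : Scheme.{u}) :=
    { K₀ := (DCoh.restrictD V.ι).obj K
      L₀ := (DCoh.restrictD V.ι).obj L
      R := (resCx j).obj R₀
      P := P
      hR := isStrictlyPerfect_resCx j hR₀
      hRa := fun i hi => (Scheme.Modules.restrictFunctor j).map_isZero (hac i (Or.inl hi))
      hP := hP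
      e := ((DCoh.restrictD V.ι).mapBiprod K L).symm ≪≫
        ((restrictDCompIso j V₀.ι _ hj).app (K ⊞ L)).symm ≪≫ (DCoh.restrictD j).mapIso r₀ ≪≫
        (Scheme.Modules.restrictFunctor j).mapDerivedCategoryFactors.app R₀
      α := α
      hα := hα }
  obtain ⟨W, hxW, E, hE, ⟨e⟩⟩ := D.exists_repOn (isPseudoCoherentD_restrict hL V) ⟨x, hxV₀, hxV₁⟩
  exact ⟨W, W.ι ≫ V.ι, inferInstance, ⟨⟨⟨x, hxV₀, hxV₁⟩, hxW⟩, rfl⟩, E, hE,
    ⟨((restrictDCompIso W.ι V.ι _ rfl).app K).symm ≪≫ e⟩⟩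

theorem isPerfect_snd {K L : DCoh.D X} [HasBinaryBiproduct K L]
    (h : DCoh.IsPerfect (K ⊞ L)) : DCoh.IsPerfect L :=
  isPerfect_fst (K := L) (L := K) (isPerfect_of_iso (biprod.braiding K L) h)

end Main

end Groth.Agent.Lib.PerfectSummand
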