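import Groth.Agent.Lib.PseudoCohNoeth
import Groth.Agent.Lib.PerfectSummand
import Groth.Agent.Lib.H87GlDim2
import Groth.Agent.Lib.ModStalkLin

/-!
# Bounded coherent complexes on regular schemes are perfect (Stacks 0FDC)
-/

set_option autoImplicit false
universe u

open CategoryTheory CategoryTheory.Limits AlgebraicGeometry TopologicalSpace Opposite
attribute [local instance] HasDerivedCategory.standard

namespace Groth.Agent.Lib.PerfectRegular

section Abstract

variable {C : Type*} [Category C] [Abelian C]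

/-- If `H^j(K) = 0` then `0 ⟶ K.opcycles j ⟶ K.X (j+1) ⟶ K.opcycles (j+1) ⟶ 0` is exact. -/
theorem shortExact_opcycles (K : CochainComplex C ℤ) (j : ℤ) (h : IsZero (K.homology j)) :
    (ShortComplex.mk (K.fromOpcycles j (j + 1)) (K.pOpcycles (j + 1)) (by
      rw [← cancel_epi (K.pOpcycles j), K.p_fromOpcycles_assoc, K.d_pOpcycles,
        comp_zero])).ShortExact := by
  have hmono : Mono (K.fromOpcycles j (j + 1)) :=
    Preadditive.mono_of_isZero_kernel' _ (K.homologyIsKernel j (j + 1) (by simp)) h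
  refine { exact := ?_, mono_f := hmono, epi_g := inferInstanceAs (Epi (K.pOpcycles (j + 1))) }
  let φ : ShortComplex.mk (K.d j (j + 1)) (K.pOpcycles (j + 1)) (K.d_pOpcycles j (j + 1)) ⟶
      ShortComplex.mk (K.fromOpcycles j (j + 1)) (K.pOpcycles (j + 1)) (by
        rw [← cancel_epi (K.pOpcycles j), K.p_fromOpcycles_assoc, K.d_pOpcycles, comp_zero]) :=
    { τ₁ := K.pOpcycles j, τ₂ := 𝟙 _, τ₃ := 𝟙 _, comm₁₂ := by simp, comm₂₃ := by simp }
  haveI : Epi φ.τ₁ := inferInstanceAs (Epi (K.pOpcycles j))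
  haveI : IsIso φ.τ₂ := inferInstanceAs (IsIso (𝟙 _))
  haveI : Mono φ.τ₃ := inferInstanceAs (Mono (𝟙 _))
  exact (ShortComplex.exact_iff_of_epi_of_isIso_of_mono φ).1
    (ShortComplex.exact_of_g_is_cokernel _ (K.opcyclesIsCokernel j (j + 1) (by simp)))

end Abstract

section Stalk

open Groth.Agent.Lib.ModStalkLin Groth.Agent.Lib.ModStalkCoker

variable {Y : Scheme.{u}}

/-- The stalk of `M` at `y` has projective dimension `< n` over the local ring. -/
def PdLT (y : Y) (M : Y.Modules) (n : ℕ) : Prop :=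
  HasProjectiveDimensionLT (ModuleCat.of (Y.presheaf.stalk y) (M.presheaf.stalk y)) n

theorem pdLT_X₁ {S : ShortComplex Y.Modules} (hS : S.ShortExact) (y : Y) (n : ℕ)
    (h₂ : PdLT y S.X₂ n) (h₃ : PdLT y S.X₃ (n + 1)) : PdLT y S.X₁ n := by
  obtain ⟨hinj, hex, hsurj⟩ := stalkLin_exact hS y
  let T : ShortComplex (ModuleCat.{u} (Y.presheaf.stalk y)) :=
    ShortComplex.moduleCatMk (stalkLin S.f y) (stalkLin S.g y) (by
      ext m
      exact stalkLin_comp_eq_zero S.f S.g S.zero y m)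
  have hT : T.ShortExact := ModuleCat.shortComplex_shortExact T hex hinj hsurj
  exact hT.hasProjectiveDimensionLT_X₁ n h₂ h₃

theorem pdLT_of_isFinLocFree (y : Y) {M : Y.Modules} (hM : FlatMod.IsFinLocFree M) (n : ℕ)
    (hn : 1 ≤ n) : PdLT y M n := by
  haveI : Module.Free (Y.presheaf.stalk y) (M.presheaf.stalk y) :=
    Groth.Agent.Lib.LocFreeFP.free_stalk_of_isFinLocFree hM y
  haveI : Projective (ModuleCat.of (Y.presheaf.stalk y) (M.presheaf.stalk y)) :=
    (IsProjective.iff_projective (R := Y.presheaf.stalk y) (M.presheaf.stalk y)).1 inferInstance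
  exact hasProjectiveDimensionLT_of_ge _ 1 n hn

/-- Syzygy shifting along a complex of finite locally free modules: if the stalk ring at `y` is
regular of dimension `d` and `P` is exact in degrees `[a - d, a)`, then the stalk of
`P.opcycles (a - d)` is projective. -/
theorem projective_stalk_opcycles (y : Y) [IsRegularLocalRing (Y.presheaf.stalk y)] (d : ℕ)
    (hd : ringKrullDim (Y.presheaf.stalk y) = d) (P : CochainComplex Y.Modules ℤ)
    (hP : ∀ i, FlatMod.IsFinLocFree (P.X i)) (a : ℤ)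
    (hz : ∀ j : ℤ, a - d ≤ j → j < a → IsZero (P.homology j)) :
    Module.Projective (Y.presheaf.stalk y) ((P.opcycles (a - d)).presheaf.stalk y) := by
  have key : ∀ k : ℕ, k ≤ d → PdLT y (P.opcycles (a - k)) (d + 1 - k) := by
    intro k
    induction k with
    | zero =>
      intro _
      have h0 : a - ((0 : ℕ) : ℤ) = a := by simp
      rw [h0]
      exact Groth.Agent.Lib.H87GlDim2.hasProjectiveDimensionLT_of_isRegularLocalRing d hd
        (ModuleCat.of (Y.presheaf.stalk y) ((P.opcycles a).presheaf.stalk y))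
    | succ k ih =>
      intro hk
      have h1 := ih (by omega)
      have hS := shortExact_opcycles P (a - (k + 1 : ℕ)) (hz _ (by push_cast; omega)
        (by push_cast; omega))
      have e : a - ((k + 1 : ℕ) : ℤ) + 1 = a - (k : ℤ) := by push_cast; ring
      rw [e] at hS
      have h2 : PdLT y (P.X (a - (k : ℤ))) (d + 1 - (k + 1)) :=
        pdLT_of_isFinLocFree y (hP _) _ (by omega)
      have h3 : PdLT y (P.opcycles (a - (k : ℤ))) (d + 1 - (k + 1) + 1) := by
        have : d + 1 - (k + 1) + 1 = d + 1 - k := by omega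
        rw [this]
        exact h1
      exact pdLT_X₁ hS y _ h2 h3
  have h := key d le_rfl
  have h' : HasProjectiveDimensionLT
      (ModuleCat.of (Y.presheaf.stalk y) ((P.opcycles (a - d)).presheaf.stalk y)) 1 := by
    have : d + 1 - d = 1 := by omega
    rw [this] at h
    exact h
  haveI := h'
  exact (IsProjective.iff_projective (R := Y.presheaf.stalk y)
    ((P.opcycles (a - d)).presheaf.stalk y)).2 inferInstance

end Stalk

section Derived

open Groth.Agent.Lib.PerfectD Groth.Agent.Lib.PseudoCohD Groth.Agent.Lib.PseudoCohTriangle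
  Groth.Agent.Lib.PerfectSummand Groth.Agent.Lib.PerfectFlatAmp Groth.Agent.Lib.FlatModClosure
  Groth.Agent.Lib.PCohStupid Groth.Agent.Lib.FlatBaseChangeD

variable {Y : Scheme.{u}}

/-- If `L` has no cohomology below `a'`, receives a map from a strictly perfect complex `P` which
is an isomorphism on `H^i` for `i ≥ a'` and an epimorphism on `H^{a'-1}`, and
`coker (P^{a'-1} ⟶ P^{a'})` is flat, then `L` is perfect. -/
theorem isPerfect_of_qIsoAbove_of_isFlat_opcycles (L : DCoh.D Y) (a' : ℤ)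
    (hL : ∀ i : ℤ, i < a' → IsZero (DCoh.HD L i))
    (P : CochainComplex Y.Modules ℤ) (hP : DCoh.IsStrictlyPerfect P)
    (α : DerivedCategory.Q.obj P ⟶ L) (hα : QIsoAbove (a' - 1) α)
    (hflat : FlatMod.IsFlat (P.opcycles a')) : DCoh.IsPerfect L := by
  rw [isPerfect_iff_repOn]
  intro y
  let F := DerivedCategory.Q.objPreimage L
  let iF : DerivedCategory.Q.obj F ≅ L := DerivedCategory.Q.objObjPreimageIso L
  obtain ⟨W, hyW, hW⟩ := Groth.Agent.S0944.result (F := F) hP (α ≫ iF.inv) y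
  obtain ⟨β, hβ⟩ := hW
  have hQβ : DerivedCategory.Q.map β =
      (Scheme.Modules.restrictFunctor W.ι).mapDerivedCategoryFactors.inv.app P ≫
        (DCoh.restrictD W.ι).map (α ≫ iF.inv) ≫
        (Scheme.Modules.restrictFunctor W.ι).mapDerivedCategoryFactors.hom.app F := by
    rw [hβ, Category.assoc, Category.assoc, Iso.inv_hom_id_app, Iso.inv_hom_id_app_assoc]
    erw [Category.comp_id]
  have hq : QIsoAbove (a' - 1) (DerivedCategory.Q.map β) := by
    rw [hQβ]
    exact (QIsoAbove.of_iso _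
      ((Scheme.Modules.restrictFunctor W.ι).mapDerivedCategoryFactors.symm.app P)).comp
      (((hα.comp (QIsoAbove.of_iso _ iF.symm)).restrict W.ι).comp (QIsoAbove.of_iso _
        ((Scheme.Modules.restrictFunctor W.ι).mapDerivedCategoryFactors.app F)))
  have hβq : ∀ i : ℤ, a' ≤ i → QuasiIsoAt β i := fun i hi => by
    rw [quasiIsoAt_iff_isIso_homologyMap]
    exact (isIso_homologyFunctor_map_Q_iff β i).1 (hq.1 i (by omega))
  have hflatW : FlatMod.IsFlat (((resCx W.ι).obj P).opcycles a') :=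
    isFlat_of_iso (restrictOpcyclesIso W.ι P a').symm (isFlat_restrict W.ι hflat)
  have hsp := isStrictlyPerfect_truncGE (isStrictlyPerfect_resCx W.ι hP) a' hflatW
  have hF : ∀ i : ℤ, i < a' → IsZero (((resCx W.ι).obj F).homology i) := fun i hi => by
    have h1 : IsZero (F.homology i) :=
      IsZero.of_iso (hL i hi) ((Groth.Agent.Lib.PerfectCoh.HDIso F i).symm ≪≫
        (DerivedCategory.homologyFunctor Y.Modules i).mapIso iF)
    exact IsZero.of_iso ((Scheme.Modules.restrictFunctor W.ι).map_isZero h1)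
      (Groth.Agent.Lib.CohLocal.restrictHomologyIso W F i)
  obtain ⟨e⟩ := nonempty_iso_Q_truncGE β a' hβq hF
  exact ⟨W, hyW, _, hsp, ⟨(DCoh.restrictD W.ι).mapIso iF.symm ≪≫
    (Scheme.Modules.restrictFunctor W.ι).mapDerivedCategoryFactors.app F ≪≫ e.symm⟩⟩

theorem exists_ringKrullDim_eq (A : Type u) [CommRing A] [IsNoetherianRing A] [IsLocalRing A] :
    ∃ d : ℕ, ringKrullDim A = (d : WithBot ℕ∞) := by
  have h1 : ringKrullDim A < ⊤ := ringKrullDim_lt_top
  have h0 : 0 ≤ ringKrullDim A := ringKrullDim_nonneg_of_nontrivial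
  have hbot : ringKrullDim A ≠ ⊥ := fun h => by rw [h] at h0; exact absurd h0 (by decide)
  obtain ⟨x, hx⟩ := WithBot.ne_bot_iff_exists.mp hbot
  have hxtop : x ≠ ⊤ := by
    rintro rfl
    rw [← hx] at h1
    exact lt_irrefl _ h1
  obtain ⟨d, rfl⟩ := ENat.ne_top_iff_exists.mp hxtop
  exact ⟨d, hx.symm⟩

open Groth.Agent.Lib.LocFreeCrit in
/-- **Stacks 0FDC**: on a locally Noetherian scheme with regular local rings, an object of
`D(O_X)` with bounded coherent cohomology is perfect. -/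
theorem isPerfect_of_isCohD_of_regular {X : Scheme.{u}} [IsLocallyNoetherian X]
    (hreg : ∀ x : X, IsRegularLocalRing (X.presheaf.stalk x)) (K : DCoh.D X) (a b : ℤ)
    (ha : ∀ i : ℤ, i < a → IsZero (DCoh.HD K i)) (hb : ∀ i : ℤ, b < i → IsZero (DCoh.HD K i))
    (hK : DCoh.IsCohD K) : DCoh.IsPerfect K := by
  apply isPerfect_of_forall_repOn
  intro x
  haveI := hreg x
  obtain ⟨d, hd⟩ := exists_ringKrullDim_eq (X.presheaf.stalk x)
  have hpc : DCoh.IsPseudoCoherentD (a - d - 1) K :=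
    Groth.Agent.Lib.PseudoCohNoeth.isPseudoCoherentD_of_isCoh_HD K b _ hb (fun i _ => hK i)
  obtain ⟨V, hxV, hV⟩ := (isPseudoCoherentD_iff_pcOn _ _).1 hpc x
  obtain ⟨P, α, hP, hα⟩ := (pcOn_iff _ _ _).1 hV
  let y : (V : Scheme.{u}) := ⟨x, hxV⟩
  let eR : X.presheaf.stalk x ≃+* (V : Scheme.{u}).presheaf.stalk y :=
    (asIso (V.ι.stalkMap y)).commRingCatIsoToRingEquiv
  haveI : IsRegularLocalRing ((V : Scheme.{u}).presheaf.stalk y) :=
    IsRegularLocalRing.of_ringEquiv eR
  have hdV : ringKrullDim ((V : Scheme.{u}).presheaf.stalk y) = d := by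
    rw [← ringKrullDim_eq_of_ringEquiv eR, hd]
  have hzP : ∀ j : ℤ, a - d ≤ j → j < a → IsZero (P.homology j) := fun j h1 h2 => by
    haveI := hα.1 j (by omega)
    exact isZero_homology_of_isIso α j (ha j h2)
  have hproj := projective_stalk_opcycles y d hdV P hP.2 a hzP
  let eco : cokernel (P.d (a - d - 1) (a - d)) ≅ P.opcycles (a - d) :=
    (colimit.isColimit _).coconePointUniqueUpToIso
      (P.opcyclesIsCokernel (a - d - 1) (a - d) (by simp))
  have hfp : CohB1.IsFP (cokernel (P.d (a - d - 1) (a - d))) :=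
    Groth.Agent.Lib.LocalFlex.isFP_cokernel_of_isFinLocFree (hP.2 _) (hP.2 _) _
  have hflat : Module.Flat ((V : Scheme.{u}).presheaf.stalk y)
      ((cokernel (P.d (a - d - 1) (a - d))).presheaf.stalk y) :=
    Module.Flat.of_linearEquiv (Groth.Agent.Lib.ModStalkLin.stalkLinEquiv eco y)
  obtain ⟨n, hn⟩ := Groth.Agent.Lib.LocFreeFP.exists_locFreeAt_of_isFP_of_flat _ hfp y hflat
  obtain ⟨U, hyU, ⟨e⟩⟩ := hn.exists_restrict_iso
  have hflatU : FlatMod.IsFlat (((resCx U.ι).obj P).opcycles (a - d)) :=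
    isFlat_of_iso ((restrictOpcyclesIso U.ι P (a - d)) ≪≫
      (Scheme.Modules.restrictFunctor U.ι).mapIso eco.symm ≪≫ e).symm
      (isFlat_of_isFinLocFree (Groth.Agent.Lib.PerfectLocal.isFinLocFree_freeMod _ n))
  let αU : DerivedCategory.Q.obj ((resCx U.ι).obj P) ⟶
      (DCoh.restrictD U.ι).obj ((DCoh.restrictD V.ι).obj K) :=
    (Scheme.Modules.restrictFunctor U.ι).mapDerivedCategoryFactors.inv.app P ≫
      (DCoh.restrictD U.ι).map α
  have hαU : QIsoAbove (a - d - 1) αU :=
    (QIsoAbove.of_iso _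
      ((Scheme.Modules.restrictFunctor U.ι).mapDerivedCategoryFactors.symm.app P)).comp
      (hα.restrict U.ι)
  have hLz : ∀ i : ℤ, i < a - d →
      IsZero (DCoh.HD ((DCoh.restrictD U.ι).obj ((DCoh.restrictD V.ι).obj K)) i) := fun i hi =>
    Groth.Agent.Lib.PseudoCohSummand.isZero_homology_restrictD _ U i
      (Groth.Agent.Lib.PseudoCohSummand.isZero_homology_restrictD K V i (ha i (by omega)))
  have hperf : DCoh.IsPerfect ((DCoh.restrictD U.ι).obj ((DCoh.restrictD V.ι).obj K)) :=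
    isPerfect_of_qIsoAbove_of_isFlat_opcycles _ (a - d) hLz _ (isStrictlyPerfect_resCx U.ι hP)
      αU hαU hflatU
  obtain ⟨W, hW, E, hE, ⟨eE⟩⟩ := (isPerfect_iff_repOn _).1 hperf ⟨y, hyU⟩
  refine ⟨W, W.ι ≫ U.ι ≫ V.ι, inferInstance, ⟨⟨⟨y, hyU⟩, hW⟩, rfl⟩, E, hE, ⟨?_⟩⟩
  exact ((restrictDCompIso W.ι (U.ι ≫ V.ι) _ rfl).app K).symm ≪≫
    (DCoh.restrictD W.ι).mapIso ((restrictDCompIso U.ι V.ι _ rfl).app K).symm ≪≫ eE

end Derived

end Groth.Agent.Lib.PerfectRegular
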