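import Groth.Agent.Lib.LTensorQCoh35
import Groth.Agent.Lib.LpullPerfect35
import Groth.Agent.Lib.OXModTensorColim
import Groth.Agent.Lib.LocalFlex
import Groth.Agent.Lib.H78BiprodFree

/-!
# The derived tensor product of perfect objects is perfect (helper35)
-/

set_option autoImplicit false
set_option linter.unusedSectionVars false
universe u
open CategoryTheory Limits AlgebraicGeometry
attribute [local instance] HasDerivedCategory.standard

namespace Groth.Agent.Lib.PerfectTensor35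

open Groth.Agent.Lib.FinLocFree Groth.Agent.Lib.OXModTensor Groth.Agent.Lib.OXModRestrict

variable {X : Scheme.{u}}

/-- the `n`-th power `G^n` of a module -/
noncomputable abbrev pw (n : ℕ) (G : X.Modules) : X.Modules := ∐ fun _ : Fin n => G

/-- `F ⊗ O^n ≅ F^n` (after helper48) -/
noncomputable def tensorFreeIso (F : X.Modules) (n : ℕ) :
    CohB1.tensorMod F (FlatMod.freeMod X n) ≅ pw n F :=
  PreservesCoproduct.iso (tensorLeftFunctor F) (fun _ : Fin n => Coh.structureModule X) ≪≫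
    Sigma.mapIso (fun _ => rightUnitor F)

/-- `(F^n)|_U ≅ (F|_U)^n` -/
noncomputable def restrictPwIso {U : Scheme.{u}} (f : U ⟶ X) [IsOpenImmersion f] (F : X.Modules) (n : ℕ) :
    (Scheme.Modules.restrictFunctor f).obj (pw n F) ≅ pw n ((Scheme.Modules.restrictFunctor f).obj F) :=
  PreservesCoproduct.iso (Scheme.Modules.restrictFunctor f) (fun _ : Fin n => F)

/-- if `E|_U ≅ O_U^n` then `(F ⊗ E)|_U ≅ (F^n)|_U` -/
noncomputable def restrictTensorFreeIso {U : Scheme.{u}} (f : U ⟶ X) [IsOpenImmersion f]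
    (F E : X.Modules) (n : ℕ) (e : E.restrict f ≅ FlatMod.freeMod U n) :
    (Scheme.Modules.restrictFunctor f).obj (CohB1.tensorMod F E) ≅
      (Scheme.Modules.restrictFunctor f).obj (pw n F) :=
  restrictTensorIso f F E ≪≫ tensorModIso (Iso.refl _) e ≪≫ tensorFreeIso _ n ≪≫
    (restrictPwIso f F n).symm

/-- finite powers of a finite locally free module are finite locally free -/
theorem isFinLocFree_pw {F : X.Modules} (hF : FlatMod.IsFinLocFree F) (n : ℕ) :
    FlatMod.IsFinLocFree (pw n F) :=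
  isFinLocFree_of_iso (biproduct.isoCoproduct (fun _ : Fin n => F))
    (Groth.Agent.Lib.H78BiprodFree.isFinLocFree_biproduct (fun _ : Fin n => F) (fun _ => hF))

/-- the tensor product of finite locally free modules is finite locally free -/
theorem isFinLocFree_tensorMod {F E : X.Modules} (hF : FlatMod.IsFinLocFree F)
    (hE : FlatMod.IsFinLocFree E) : FlatMod.IsFinLocFree (CohB1.tensorMod F E) := by
  apply Groth.Agent.Lib.LocalFlex.isFinLocFree_of_forall_restrict
  intro x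
  obtain ⟨U, n, hxU, ⟨e⟩⟩ := hE x
  refine ⟨U, U.ι, inferInstance, by simpa using hxU, ?_⟩
  exact isFinLocFree_of_iso (restrictTensorFreeIso U.ι F E n e).symm
    (isFinLocFree_restrict U.ι (isFinLocFree_pw hF n))


/-- a finite biproduct of finite locally free modules is finite locally free -/
theorem isFinLocFree_biproduct_fintype {J : Type} [Fintype J] (N : J → X.Modules)
    (h : ∀ j, FlatMod.IsFinLocFree (N j)) : FlatMod.IsFinLocFree (⨁ N) := by
  let ε : Fin (Fintype.card J) ≃ J := (Fintype.equivFin J).symm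
  exact isFinLocFree_of_iso (biproduct.reindex ε N)
    (Groth.Agent.Lib.H78BiprodFree.isFinLocFree_biproduct (N ∘ ε) (fun j => h _))

/-- a coproduct all of whose summands are zero is zero -/
theorem isZero_of_isColimit_cofan {ι : Type} (T : ι → X.Modules) (c : Cofan T) (hc : IsColimit c)
    (hz : ∀ i, IsZero (T i)) : IsZero c.pt := by
  rw [IsZero.iff_id_eq_zero]
  refine Cofan.IsColimit.hom_ext hc _ _ (fun i => (hz i).eq_of_src _ _)

/-- a coproduct with finitely many nonzero summands, all finite locally free, is finite locally free -/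
theorem isFinLocFree_of_isColimit_cofan {ι : Type} [DecidableEq ι] (T : ι → X.Modules) (c : Cofan T)
    (hc : IsColimit c) (S : Finset ι) (hz : ∀ i, i ∉ S → IsZero (T i))
    (hS : ∀ i, i ∈ S → FlatMod.IsFinLocFree (T i)) : FlatMod.IsFinLocFree c.pt := by
  let N : S → X.Modules := fun s => T s.1
  let φ : c.pt ⟶ ⨁ N := Cofan.IsColimit.desc hc
    (fun i => if h : i ∈ S then biproduct.ι N ⟨i, h⟩ else 0)
  let ψ : ⨁ N ⟶ c.pt := biproduct.desc (fun s => c.inj s.1)
  have h1 : φ ≫ ψ = 𝟙 _ := by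
    refine Cofan.IsColimit.hom_ext hc _ _ (fun i => ?_)
    rw [Cofan.IsColimit.fac_assoc, Category.comp_id]
    by_cases h : i ∈ S
    · rw [dif_pos h, biproduct.ι_desc]
    · exact (hz i h).eq_of_src _ _
  have h2 : ψ ≫ φ = 𝟙 _ := by
    refine biproduct.hom_ext' _ _ (fun s => ?_)
    rw [biproduct.ι_desc_assoc, Cofan.IsColimit.fac, Category.comp_id, dif_pos s.2]
  exact isFinLocFree_of_iso (Iso.mk ψ φ h2 h1)
    (isFinLocFree_biproduct_fintype N (fun s => hS s.1 s.2))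


lemma isZero_tensorBi_left {M : X.Modules} (hM : IsZero M) (N : X.Modules) :
    IsZero ((DCoh.tensorBi.obj M).obj N) :=
  (Functor.isZero_iff _).1 ((DCoh.tensorBi (X := X)).map_isZero hM) N

lemma isZero_tensorBi_right (M : X.Modules) {N : X.Modules} (hN : IsZero N) :
    IsZero ((DCoh.tensorBi.obj M).obj N) :=
  (DCoh.tensorBi.obj M).map_isZero hN

/-- the tensor product of strictly perfect complexes is strictly perfect -/
theorem isStrictlyPerfect_tensorCx {E₁ E₂ : CochainComplex X.Modules ℤ}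
    (h₁ : DCoh.IsStrictlyPerfect E₁) (h₂ : DCoh.IsStrictlyPerfect E₂) :
    DCoh.IsStrictlyPerfect ((DCoh.tensorCx.obj E₁).obj E₂) := by
  obtain ⟨⟨a₁, b₁, v₁⟩, f₁⟩ := h₁
  obtain ⟨⟨a₂, b₂, v₂⟩, f₂⟩ := h₂
  let B := (((DCoh.tensorBi (X := X)).mapBifunctorHomologicalComplex
    (ComplexShape.up ℤ) (ComplexShape.up ℤ)).obj E₁).obj E₂
  have hc := fun n : ℤ => B.toGradedObject.isColimitCofanMapObj
    (ComplexShape.π (ComplexShape.up ℤ) (ComplexShape.up ℤ) (ComplexShape.up ℤ)) n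
  have hπ : ∀ (n : ℤ) (i : (ComplexShape.π (ComplexShape.up ℤ) (ComplexShape.up ℤ)
      (ComplexShape.up ℤ)) ⁻¹' {n}), i.1.1 + i.1.2 = n := fun n i => i.2
  refine ⟨⟨a₁ + a₂, b₁ + b₂, fun n hn => ?_⟩, fun n => ?_⟩
  · refine isZero_of_isColimit_cofan _ _ (hc n) (fun i => ?_)
    obtain ⟨⟨p, q⟩, hpq⟩ := i
    have hpq' : p + q = n := hpq
    change IsZero ((DCoh.tensorBi.obj (E₁.X p)).obj (E₂.X q))
    by_cases hp : p < a₁ ∨ b₁ < p
    · exact isZero_tensorBi_left (v₁ _ hp) _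
    · refine isZero_tensorBi_right _ (v₂ _ ?_)
      omega
  · classical
    let g : ℤ → (ComplexShape.π (ComplexShape.up ℤ) (ComplexShape.up ℤ) (ComplexShape.up ℤ)) ⁻¹' {n} :=
      fun p => ⟨(p, n - p), by
        change p + (n - p) = n
        omega⟩
    refine isFinLocFree_of_isColimit_cofan _ _ (hc n) ((Finset.Icc a₁ b₁).image g) (fun i hi => ?_)
      (fun i _ => isFinLocFree_tensorMod (f₁ _) (f₂ _))
    obtain ⟨⟨p, q⟩, hpq⟩ := i
    have hpq' : p + q = n := hpq
    change IsZero ((DCoh.tensorBi.obj (E₁.X p)).obj (E₂.X q))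
    refine isZero_tensorBi_left (v₁ _ ?_) _
    by_contra hcon
    apply hi
    rw [Finset.mem_image]
    refine ⟨p, Finset.mem_Icc.2 (by omega), ?_⟩
    apply Subtype.ext
    apply Prod.ext
    · rfl
    · change n - p = q
      omega


open Groth.Agent.Lib.PerfectD Groth.Agent.Lib.LTensorQCoh35 Groth.Agent.Lib.RestrictTensorNat35
  Groth.Agent.Lib.LpullKFlat35 Groth.Agent.Lib.LpullHyp35 in
/-- **S0962**: if `K` is perfect and `L` is a K-flat complex with perfect image in `D(O_X)`, then `K ⊗^L L`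
is perfect. -/
theorem isPerfect_lTensor (L : CochainComplex X.Modules ℤ) (hL : DCoh.IsKFlat L)
    (hLp : DCoh.IsPerfect (DerivedCategory.Q.obj L)) [DCoh.HasLTensorCx L] (K : DCoh.D X)
    (hK : DCoh.IsPerfect K) : DCoh.IsPerfect ((DCoh.LTensorCx L).obj K) := by
  rw [isPerfect_iff_repOn] at hK hLp ⊢
  intro x
  obtain ⟨V₁, hx₁, r₁⟩ := hK x
  obtain ⟨V₂, hx₂, r₂⟩ := hLp x
  obtain ⟨E₁, hE₁, ⟨a₁⟩⟩ := r₁.inf (inf_le_left : V₁ ⊓ V₂ ≤ V₁)
  obtain ⟨E₂, hE₂, ⟨a₂⟩⟩ := r₂.inf (inf_le_right : V₁ ⊓ V₂ ≤ V₂)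
  refine ⟨V₁ ⊓ V₂, ⟨hx₁, hx₂⟩, (DCoh.tensorCx.obj E₁).obj E₂,
    isStrictlyPerfect_tensorCx hE₁ hE₂, ?_⟩
  let j := (V₁ ⊓ V₂).ι
  let K₀ := DerivedCategory.Q.objPreimage K
  let eK : DCoh.toD X K₀ ≅ K := DerivedCategory.Q.objObjPreimageIso K
  have hL' : ModSite.IsKFlat (O := X.sheaf) L := hL
  have iL : ModSite.HasLTensorCx (O := X.sheaf) L := ‹DCoh.HasLTensorCx L›
  let L' : Groth.Agent.Lib.ModSiteKFlatBdd66.Cx X.sheaf := L
  have hq : QuasiIso (𝟙 L') := inferInstance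
  obtain ⟨b1⟩ := nonempty_lTensor_obj_iso (O := X.sheaf) (𝟙 L') hL' K₀
  have hLres : ModSite.IsKFlat (O := ((V₁ ⊓ V₂ : X.Opens) : Scheme.{u}).sheaf)
      ((RestrictTensorNat35.resCx j).obj L) :=
    Groth.Agent.Lib.ModSiteKFlatBdd66.isKFlat_of_iso
      (((NatIso.mapHomologicalComplex (Scheme.Modules.restrictFunctorIsoPullback j)
        (ComplexShape.up ℤ)).app _).symm) (kflatHyp j _ hL')
  let c1 : DCoh.toD _ ((RestrictTensorNat35.resCx j).obj K₀) ≅ DCoh.toD _ E₁ :=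
    ((Scheme.Modules.restrictFunctor j).mapDerivedCategoryFactors.app K₀).symm ≪≫
      (DCoh.restrictD j).mapIso eK ≪≫ a₁
  let c2 : DCoh.toD _ ((RestrictTensorNat35.resCx j).obj L) ≅ DCoh.toD _ E₂ :=
    ((Scheme.Modules.restrictFunctor j).mapDerivedCategoryFactors.app L).symm ≪≫ a₂
  obtain ⟨d1⟩ := nonempty_tensor_iso_left
    (O := ((V₁ ⊓ V₂ : X.Opens) : Scheme.{u}).sheaf) hLres c1
  obtain ⟨d2⟩ := nonempty_tensor_iso_right (O := ((V₁ ⊓ V₂ : X.Opens) : Scheme.{u}).sheaf)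
    (Groth.Agent.Lib.LpullKFlat35.isKFlat_of_isStrictlyPerfect hE₁) c2
  exact ⟨(DCoh.restrictD j).mapIso ((DCoh.LTensorCx L).mapIso eK.symm ≪≫ b1) ≪≫
    (Scheme.Modules.restrictFunctor j).mapDerivedCategoryFactors.app _ ≪≫
    DerivedCategory.Q.mapIso (restrictTensorCxIso j K₀ L) ≪≫ d1 ≪≫ d2⟩

end Groth.Agent.Lib.PerfectTensor35
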