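import Groth.Agent.Lib.PerfectRegular
import Groth.Agent.Lib.TorShift21
import Groth.Agent.Lib.PerfectIffPC

/-!
# Pseudo-coherent = perfect when all local rings have finite weak dimension (SGA 6 I 5.8.1)
-/

set_option autoImplicit false
universe u

open CategoryTheory CategoryTheory.Limits AlgebraicGeometry TopologicalSpace Opposite
attribute [local instance] HasDerivedCategory.standard

namespace Groth.Agent.Lib.PerfectTorDim

section Uniform

variable (R : Type u) [CommRing R]

/-- Tor dimension passes to retracts. -/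
theorem hasTorDimLE_of_retract {M S : Type u} [AddCommGroup M] [Module R M] [AddCommGroup S]
    [Module R S] (i : M →ₗ[R] S) (r : S →ₗ[R] M) (hri : r.comp i = LinearMap.id) (n : ℕ)
    (h : DRing.HasTorDimLE R n S) : DRing.HasTorDimLE R n M := by
  intro N _ _ p hp
  have hS := h N p hp
  let fi : ModuleCat.of R M ⟶ ModuleCat.of R S := ModuleCat.ofHom i
  let fr : ModuleCat.of R S ⟶ ModuleCat.of R M := ModuleCat.ofHom r
  have hfr : fi ≫ fr = 𝟙 _ := by
    ext x
    exact LinearMap.congr_fun hri x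
  let a := ((CategoryTheory.Tor (ModuleCat.{u} R) p).map fi).app (ModuleCat.of R N)
  let b := ((CategoryTheory.Tor (ModuleCat.{u} R) p).map fr).app (ModuleCat.of R N)
  have hab : a ≫ b = 𝟙 _ := by
    dsimp only [a, b]
    rw [← NatTrans.comp_app, ← Functor.map_comp, hfr, CategoryTheory.Functor.map_id]
    rfl
  refine ⟨fun x y => ?_⟩
  have hx : b.hom (a.hom x) = x := by
    have := congr($(hab).hom x)
    exact this
  have hy : b.hom (a.hom y) = y := by
    have := congr($(hab).hom y)
    exact this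
  rw [← hx, ← hy]
  congr 1
  exact hS.elim _ _

/-- If every module has finite tor dimension, the tor dimensions are uniformly bounded. -/
theorem exists_uniform_torDim
    (h : ∀ (M : Type u) [AddCommGroup M] [Module R M], DRing.HasFiniteTorDim R M) :
    ∃ t : ℕ, ∀ (M : Type u) [AddCommGroup M] [Module R M], DRing.HasTorDimLE R t M := by
  by_contra hcon
  have hne : ∀ t : ℕ, ∃ (M : Type u) (_ : AddCommGroup M) (_ : Module R M),
      ¬ DRing.HasTorDimLE R t M := by
    intro t
    by_contra ht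
    apply hcon
    refine ⟨t, fun M _ _ => ?_⟩
    by_contra hM
    exact ht ⟨M, inferInstance, inferInstance, hM⟩
  choose M i1 i2 hM using hne
  letI : ∀ t, AddCommGroup (M t) := i1
  letI : ∀ t, Module R (M t) := i2
  obtain ⟨n, hn⟩ := h (Π₀ t, M t)
  refine hM n (hasTorDimLE_of_retract R (DFinsupp.lsingle n) (DFinsupp.lapply n) ?_ n hn)
  ext x
  simp

end Uniform

section Stalk

open Groth.Agent.Lib.ModStalkLin Groth.Agent.Lib.ModStalkCoker

variable {Y : Scheme.{u}} {y : Y} {R : Type u} [CommRing R] (e : R ≃+* Y.presheaf.stalk y)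

/-- The stalk of `N` at `y`, viewed as a module over a ring `R` isomorphic to the local ring. -/
def Sk (_ : R ≃+* Y.presheaf.stalk y) (N : Y.Modules) : Type u := N.presheaf.stalk y

noncomputable instance (N : Y.Modules) : AddCommGroup (Sk e N) :=
  inferInstanceAs (AddCommGroup (N.presheaf.stalk y))

noncomputable instance (N : Y.Modules) : Module R (Sk e N) :=
  Module.compHom (N.presheaf.stalk y) (e : R →+* Y.presheaf.stalk y)

/-- The map induced on stalks, `R`-linearly. -/
noncomputable def skLin {N N' : Y.Modules} (φ : N ⟶ N') : Sk e N →ₗ[R] Sk e N' where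
  toFun := stalkLin φ y
  map_add' := (stalkLin φ y).map_add
  map_smul' r m := (stalkLin φ y).map_smul (e r) m

theorem flat_sk_of_isFinLocFree {N : Y.Modules} (hN : FlatMod.IsFinLocFree N) :
    Module.Flat R (Sk e N) := by
  haveI : Module.Free (Y.presheaf.stalk y) (N.presheaf.stalk y) :=
    Groth.Agent.Lib.LocFreeFP.free_stalk_of_isFinLocFree hN y
  refine Groth.Agent.Lib.RestrictStalk.flat_of_semilinear_addEquiv e.symm
    (AddEquiv.refl (N.presheaf.stalk y)) (N := Sk e N) ?_
  intro r m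
  change r • m = (e (e.symm r)) • m
  rw [RingEquiv.apply_symm_apply]

theorem hasTorDimLE_sk_X₁ {S : ShortComplex Y.Modules} (hS : S.ShortExact) (d : ℕ)
    (h₂ : Module.Flat R (Sk e S.X₂)) (h₃ : DRing.HasTorDimLE R (d + 1) (Sk e S.X₃)) :
    DRing.HasTorDimLE R d (Sk e S.X₁) := by
  obtain ⟨hinj, hex, hsurj⟩ := stalkLin_exact hS y
  exact (Groth.Agent.Lib.TorShift21.hasTorDimLE_succ_iff R (skLin e S.f) (skLin e S.g)
    hinj hex hsurj d).1 h₃

include e in
/-- Syzygy shifting: if all `R`-modules have tor dimension `≤ t` and the complex `P` of finite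
locally free modules is exact in degrees `[a - t, a)`, then the stalk of `P.opcycles (a - t)` is
flat. -/
theorem flat_stalk_opcycles (t : ℕ)
    (ht : ∀ (M : Type u) [AddCommGroup M] [Module R M], DRing.HasTorDimLE R t M)
    (P : CochainComplex Y.Modules ℤ) (hP : ∀ i, FlatMod.IsFinLocFree (P.X i)) (a : ℤ)
    (hz : ∀ j : ℤ, a - t ≤ j → j < a → IsZero (P.homology j)) :
    Module.Flat (Y.presheaf.stalk y) ((P.opcycles (a - t)).presheaf.stalk y) := by
  have key : ∀ k : ℕ, k ≤ t → DRing.HasTorDimLE R (t - k) (Sk e (P.opcycles (a - k))) := by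
    intro k
    induction k with
    | zero =>
      intro _
      exact ht _
    | succ k ih =>
      intro hk
      have h1 := ih (by omega)
      have hS := Groth.Agent.Lib.PerfectRegular.shortExact_opcycles P (a - (k + 1 : ℕ))
        (hz _ (by push_cast; omega) (by push_cast; omega))
      have e' : a - ((k + 1 : ℕ) : ℤ) + 1 = a - (k : ℤ) := by push_cast; ring
      rw [e'] at hS
      have h3 : DRing.HasTorDimLE R (t - (k + 1) + 1) (Sk e (P.opcycles (a - (k : ℤ)))) := by
        have : t - (k + 1) + 1 = t - k := by omega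
        rw [this]
        exact h1
      exact hasTorDimLE_sk_X₁ e hS _ (flat_sk_of_isFinLocFree e (hP _)) h3
  have h0 : DRing.HasTorDimLE R 0 (Sk e (P.opcycles (a - t))) := by
    have h := key t le_rfl
    rwa [Nat.sub_self] at h
  haveI : Module.Flat R (Sk e (P.opcycles (a - t))) :=
    (Groth.Agent.Lib.TorShift21.hasTorDimLE_zero_iff R _).1 h0
  exact Groth.Agent.Lib.RestrictStalk.flat_of_semilinear_addEquiv e
    (AddEquiv.refl ((P.opcycles (a - t)).presheaf.stalk y)) (M := Sk e (P.opcycles (a - t)))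
    (fun _ _ => rfl)

end Stalk

section Derived

open Groth.Agent.Lib.PerfectD Groth.Agent.Lib.PseudoCohD Groth.Agent.Lib.PseudoCohTriangle
  Groth.Agent.Lib.PerfectSummand Groth.Agent.Lib.PerfectFlatAmp Groth.Agent.Lib.FlatModClosure
  Groth.Agent.Lib.PCohStupid Groth.Agent.Lib.FlatBaseChangeD Groth.Agent.Lib.PerfectRegular
  Groth.Agent.Lib.LocFreeCrit

variable {X : Scheme.{u}}

/-- If `K` has no cohomology below `a'`, and on `V ∋ x` receives a map from a strictly perfect
complex `P` which is an isomorphism on `H^i` for `i ≥ a'` and an epimorphism on `H^{a'-1}`, and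
the stalk at `x` of `coker (P^{a'-1} ⟶ P^{a'})` is flat, then `K` is represented by a strictly
perfect complex near `x`. -/
theorem repOn_of_flat_stalk_opcycles (K : DCoh.D X) (a' : ℤ)
    (ha : ∀ i : ℤ, i < a' → IsZero (DCoh.HD K i)) {V : X.Opens} {x : X} (hxV : x ∈ V)
    (P : CochainComplex (V : Scheme.{u}).Modules ℤ) (hP : DCoh.IsStrictlyPerfect P)
    (α : DerivedCategory.Q.obj P ⟶ (DCoh.restrictD V.ι).obj K) (hα : QIsoAbove (a' - 1) α)
    (hflat : Module.Flat ((V : Scheme.{u}).presheaf.stalk ⟨x, hxV⟩)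
      ((P.opcycles a').presheaf.stalk ⟨x, hxV⟩)) :
    ∃ (Y : Scheme.{u}) (k : Y ⟶ X) (_ : IsOpenImmersion k), x ∈ Set.range k ∧ RepOn K k := by
  let y : (V : Scheme.{u}) := ⟨x, hxV⟩
  let eco : cokernel (P.d (a' - 1) a') ≅ P.opcycles a' :=
    (colimit.isColimit _).coconePointUniqueUpToIso
      (P.opcyclesIsCokernel (a' - 1) a' (by simp))
  have hfp : CohB1.IsFP (cokernel (P.d (a' - 1) a')) :=
    Groth.Agent.Lib.LocalFlex.isFP_cokernel_of_isFinLocFree (hP.2 _) (hP.2 _) _
  have hflat' : Module.Flat ((V : Scheme.{u}).presheaf.stalk y)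
      ((cokernel (P.d (a' - 1) a')).presheaf.stalk y) :=
    Module.Flat.of_linearEquiv (Groth.Agent.Lib.ModStalkLin.stalkLinEquiv eco y)
  obtain ⟨n, hn⟩ := Groth.Agent.Lib.LocFreeFP.exists_locFreeAt_of_isFP_of_flat _ hfp y hflat'
  obtain ⟨U, hyU, ⟨e⟩⟩ := hn.exists_restrict_iso
  have hflatU : FlatMod.IsFlat (((resCx U.ι).obj P).opcycles a') :=
    isFlat_of_iso ((restrictOpcyclesIso U.ι P a') ≪≫
      (Scheme.Modules.restrictFunctor U.ι).mapIso eco.symm ≪≫ e).symm
      (isFlat_of_isFinLocFree (Groth.Agent.Lib.PerfectLocal.isFinLocFree_freeMod _ n))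
  let αU : DerivedCategory.Q.obj ((resCx U.ι).obj P) ⟶
      (DCoh.restrictD U.ι).obj ((DCoh.restrictD V.ι).obj K) :=
    (Scheme.Modules.restrictFunctor U.ι).mapDerivedCategoryFactors.inv.app P ≫
      (DCoh.restrictD U.ι).map α
  have hαU : QIsoAbove (a' - 1) αU :=
    (QIsoAbove.of_iso _
      ((Scheme.Modules.restrictFunctor U.ι).mapDerivedCategoryFactors.symm.app P)).comp
      (hα.restrict U.ι)
  have hLz : ∀ i : ℤ, i < a' →
      IsZero (DCoh.HD ((DCoh.restrictD U.ι).obj ((DCoh.restrictD V.ι).obj K)) i) := fun i hi =>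
    Groth.Agent.Lib.PseudoCohSummand.isZero_homology_restrictD _ U i
      (Groth.Agent.Lib.PseudoCohSummand.isZero_homology_restrictD K V i (ha i hi))
  have hperf : DCoh.IsPerfect ((DCoh.restrictD U.ι).obj ((DCoh.restrictD V.ι).obj K)) :=
    isPerfect_of_qIsoAbove_of_isFlat_opcycles _ a' hLz _ (isStrictlyPerfect_resCx U.ι hP)
      αU hαU hflatU
  obtain ⟨W, hW, E, hE, ⟨eE⟩⟩ := (isPerfect_iff_repOn _).1 hperf ⟨y, hyU⟩
  refine ⟨W, W.ι ≫ U.ι ≫ V.ι, inferInstance, ⟨⟨⟨y, hyU⟩, hW⟩, rfl⟩, E, hE, ⟨?_⟩⟩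
  exact ((restrictDCompIso W.ι (U.ι ≫ V.ι) _ rfl).app K).symm ≪≫
    (DCoh.restrictD W.ι).mapIso ((restrictDCompIso U.ι V.ι _ rfl).app K).symm ≪≫ eE

/-- **SGA 6 I 5.8.1 for schemes**: if every module over every local ring of `X` has finite tor
dimension, a bounded below pseudo-coherent object of `D(O_X)` is perfect. -/
theorem isPerfect_of_pc_of_finiteTorDim
    (hX : ∀ (x : X) (M : Type u) [AddCommGroup M] [Module (X.presheaf.stalk x) M],
      DRing.HasFiniteTorDim (X.presheaf.stalk x) M)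
    (K : DCoh.D X) (a : ℤ) (ha : ∀ i : ℤ, i < a → IsZero (DCoh.HD K i))
    (hpc : ∀ m : ℤ, DCoh.IsPseudoCoherentD m K) : DCoh.IsPerfect K := by
  apply isPerfect_of_forall_repOn
  intro x
  obtain ⟨t, ht⟩ := exists_uniform_torDim (X.presheaf.stalk x) (hX x)
  obtain ⟨V, hxV, hV⟩ := (isPseudoCoherentD_iff_pcOn _ _).1 (hpc (a - t - 1)) x
  obtain ⟨P, α, hP, hα⟩ := (pcOn_iff _ _ _).1 hV
  let y : (V : Scheme.{u}) := ⟨x, hxV⟩
  let eR : X.presheaf.stalk x ≃+* (V : Scheme.{u}).presheaf.stalk y :=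
    (asIso (V.ι.stalkMap y)).commRingCatIsoToRingEquiv
  have hzP : ∀ j : ℤ, a - t ≤ j → j < a → IsZero (P.homology j) := fun j h1 h2 => by
    haveI := hα.1 j (by omega)
    exact isZero_homology_of_isIso α j (ha j h2)
  have hflat := flat_stalk_opcycles eR t ht P hP.2 a hzP
  exact repOn_of_flat_stalk_opcycles K (a - t) (fun i hi => ha i (by omega)) hxV P hP α hα hflat

end Derived

end Groth.Agent.Lib.PerfectTorDim
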