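import Groth.Agent.Lib.CoeffSpace
import Groth.Agent.Lib.ComodBurnside
import Mathlib.LinearAlgebra.Matrix.Trace
import Mathlib.LinearAlgebra.Eigenspace.Triangularizable

/-!
# Matrix coefficients of comodules on coordinate spaces (helper38)

For a comodule structure `c` on `Fin d → k` over a coalgebra `C`:
* `mc c i j : C`, the matrix coefficients (`ρ e_j = Σ_i e_i ⊗ a_ij`), `chr c = Σ a_ii` the character;
* `coact_single`, `comul_mc`, `counit_mc`;
* `cf_eq_span_mc`: the coefficient space is spanned by the matrix coefficients;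
* `transportComod`: transport of a comodule structure along a linear equivalence;
* over an algebraically closed field, for `c` simple: `exists_dual_mc` (Burnside: functionals dual to the matrix
  coefficients), `linearIndependent_mc`, and `eq_smul_chr_of_cocomm` (cocommutative elements of the coefficient
  space are multiples of the character).
-/

set_option autoImplicit false
set_option linter.unusedSectionVars false
universe u v w w'
open TensorProduct

noncomputable section

namespace Groth.Agent.Lib.PeterWeyl38
open Groth.Agent.Lib.Comod Groth.Agent.Lib.CoeffSpace Groth.Agent.Lib.ComodSimple18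

section Transport
variable {k : Type u} {C : Type v} [Field k] [AddCommGroup C] [Module k C] [Coalgebra k C]
  {V : Type w} [AddCommGroup V] [Module k V] {W : Type w'} [AddCommGroup W] [Module k W]

/-- Transport of a comodule structure along a linear equivalence. -/
@[reducible] def transportComod (e : V ≃ₗ[k] W) (c : HopfRep.Comod k C V) : HopfRep.Comod k C W where
  coact := (e : V →ₗ[k] W).rTensor C ∘ₗ c.coact ∘ₗ (e.symm : W →ₗ[k] V)
  coassoc := by
    apply LinearMap.ext
    intro w
    have h := LinearMap.congr_fun c.coassoc (e.symm w)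
    simp only [LinearMap.coe_comp, LinearEquiv.coe_coe, Function.comp_apply] at h ⊢
    have key : ∀ t : V ⊗[k] C, (TensorProduct.assoc k W C C)
        (((e : V →ₗ[k] W).rTensor C ∘ₗ c.coact ∘ₗ (e.symm : W →ₗ[k] V)).rTensor C
          ((e : V →ₗ[k] W).rTensor C t)) =
        (e : V →ₗ[k] W).rTensor (C ⊗[k] C) ((TensorProduct.assoc k V C C) (c.coact.rTensor C t)) := by
      intro t
      induction t using TensorProduct.induction_on with
      | zero => simp
      | add x y hx hy => simp only [map_add, hx, hy]
      | tmul v a =>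
        simp only [LinearMap.rTensor_tmul, LinearMap.coe_comp, LinearEquiv.coe_coe, Function.comp_apply,
          LinearEquiv.symm_apply_apply]
        generalize c.coact v = s
        induction s using TensorProduct.induction_on with
        | zero => simp
        | add x y hx hy => simp only [map_add, TensorProduct.add_tmul, hx, hy]
        | tmul v' a' => simp
    rw [key, h]
    generalize c.coact (e.symm w) = s
    induction s using TensorProduct.induction_on with
    | zero => simp
    | add x y hx hy => simp only [map_add, hx, hy]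
    | tmul v' a' => simp
  counit_comp := by
    apply LinearMap.ext
    intro w
    have h := LinearMap.congr_fun c.counit_comp (e.symm w)
    simp only [LinearMap.coe_comp, LinearEquiv.coe_coe, Function.comp_apply, LinearMap.flip_apply,
      TensorProduct.mk_apply] at h ⊢
    have key : ∀ t : V ⊗[k] C, (CoalgebraStruct.counit (R := k) (A := C)).lTensor W
        ((e : V →ₗ[k] W).rTensor C t) =
        (e : V →ₗ[k] W).rTensor k ((CoalgebraStruct.counit (R := k) (A := C)).lTensor V t) := by
      intro t
      induction t using TensorProduct.induction_on with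
      | zero => simp
      | add x y hx hy => simp only [map_add, hx, hy]
      | tmul v a => simp
    rw [key, h]
    simp

theorem isComodHom_transportComod (e : V ≃ₗ[k] W) (c : HopfRep.Comod k C V) :
    @Hoch.IsComodHom k _ C _ _ _ V _ _ c W _ _ (transportComod e c) (e : V →ₗ[k] W) := by
  apply LinearMap.ext
  intro v
  change ((e : V →ₗ[k] W).rTensor C ∘ₗ c.coact ∘ₗ (e.symm : W →ₗ[k] V)) (e v) = _
  simp

end Transport

section Coord
variable {k : Type u} {C : Type v} [Field k] [AddCommGroup C] [Module k C] [Coalgebra k C] {d : ℕ}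

/-- The matrix coefficients of a comodule structure on `Fin d → k`: `ρ e_j = Σ_i e_i ⊗ a_ij`. -/
def mc (c : HopfRep.Comod k C (Fin d → k)) (i j : Fin d) : C :=
  TensorProduct.lid k C (LinearMap.rTensor C (LinearMap.proj i) (c.coact (Pi.single j 1)))

/-- The character of a comodule structure on `Fin d → k`. -/
def chr (c : HopfRep.Comod k C (Fin d → k)) : C := ∑ i, mc c i i

theorem mc_eq_cfm (c : HopfRep.Comod k C (Fin d → k)) (i j : Fin d) :
    mc c i j = @cfm k C _ _ _ _ (Fin d → k) _ _ c (LinearMap.proj i) (Pi.single j 1) := rfl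

/-- Expansion of a tensor in `(Fin d → k) ⊗ X` along the standard basis. -/
theorem eq_sum_single_tmul {X : Type*} [AddCommGroup X] [Module k X] (t : (Fin d → k) ⊗[k] X) :
    t = ∑ i, (Pi.single i (1 : k) : Fin d → k) ⊗ₜ[k]
      TensorProduct.lid k X (LinearMap.rTensor X (LinearMap.proj i) t) := by
  induction t using TensorProduct.induction_on with
  | zero => simp
  | add x y hx hy =>
    simp only [map_add, TensorProduct.tmul_add, Finset.sum_add_distrib]
    rw [← hx, ← hy]
  | tmul v x =>
    simp only [LinearMap.rTensor_tmul, LinearMap.proj_apply, TensorProduct.lid_tmul]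
    conv_lhs => rw [pi_eq_sum_univ v, TensorProduct.sum_tmul]
    refine Finset.sum_congr rfl fun i _ => ?_
    rw [TensorProduct.smul_tmul]
    congr 1
    ext j
    simp [Pi.single_apply, eq_comm]

theorem coact_single (c : HopfRep.Comod k C (Fin d → k)) (j : Fin d) :
    c.coact (Pi.single j 1) = ∑ i, (Pi.single i (1 : k) : Fin d → k) ⊗ₜ[k] mc c i j :=
  eq_sum_single_tmul _

theorem counit_mc (c : HopfRep.Comod k C (Fin d → k)) (i j : Fin d) :
    CoalgebraStruct.counit (R := k) (A := C) (mc c i j) = if i = j then 1 else 0 := by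
  rw [mc_eq_cfm, @counit_cfm k C _ _ _ _ (Fin d → k) _ _ c]
  simp [Pi.single_apply]

theorem comul_mc (c : HopfRep.Comod k C (Fin d → k)) (i j : Fin d) :
    CoalgebraStruct.comul (R := k) (A := C) (mc c i j) = ∑ l, mc c i l ⊗ₜ[k] mc c l j := by
  have h := LinearMap.congr_fun (@isComodHom_cfm k C _ _ _ _ (Fin d → k) _ _ c (LinearMap.proj i))
    (Pi.single j 1)
  simp only [LinearMap.coe_comp, Function.comp_apply] at h
  change CoalgebraStruct.comul (R := k) (A := C) (mc c i j) = _ at h
  rw [h, coact_single, map_sum]
  refine Finset.sum_congr rfl fun l _ => ?_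
  rw [LinearMap.rTensor_tmul]
  rfl

/-- `cfm ψ v` in terms of matrix coefficients. -/
theorem cfm_eq_sum_mc (c : HopfRep.Comod k C (Fin d → k)) (ψ : (Fin d → k) →ₗ[k] k) (v : Fin d → k) :
    @cfm k C _ _ _ _ (Fin d → k) _ _ c ψ v = ∑ i, ∑ j, (ψ (Pi.single i 1) * v j) • mc c i j := by
  have hv : v = ∑ j, v j • (Pi.single j (1 : k) : Fin d → k) := by
    ext l
    simp [Finset.sum_apply, Pi.single_apply]
  conv_lhs => rw [hv]
  rw [map_sum, Finset.sum_comm]
  refine Finset.sum_congr rfl fun j _ => ?_
  rw [map_smul, @cfm_apply k C _ _ _ _ (Fin d → k) _ _ c, coact_single, map_sum, Finset.smul_sum]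
  refine Finset.sum_congr rfl fun i _ => ?_
  rw [lcontr_tmul, smul_smul, mul_comm]

/-- The coefficient space is spanned by the matrix coefficients. -/
theorem cf_eq_span_mc (c : HopfRep.Comod k C (Fin d → k)) :
    @cf k C _ _ _ _ (Fin d → k) _ _ c = Submodule.span k (Set.range fun p : Fin d × Fin d => mc c p.1 p.2) := by
  apply le_antisymm
  · refine iSup_le fun ψ => ?_
    rintro _ ⟨v, rfl⟩
    rw [cfm_eq_sum_mc]
    exact Submodule.sum_mem _ fun i _ => Submodule.sum_mem _ fun j _ =>
      Submodule.smul_mem _ _ (Submodule.subset_span ⟨(i, j), rfl⟩)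
  · rw [Submodule.span_le]
    rintro _ ⟨p, rfl⟩
    exact @cfm_mem_cf k C _ _ _ _ (Fin d → k) _ _ c _ _

/-- The matrix of the action of a functional. -/
theorem act_single (c : HopfRep.Comod k C (Fin d → k)) (φ : C →ₗ[k] k) (j : Fin d) :
    @Comod.act k C _ _ _ _ (Fin d → k) _ _ c φ (Pi.single j 1) =
      ∑ i, φ (mc c i j) • (Pi.single i (1 : k) : Fin d → k) := by
  rw [@Comod.act_apply k C _ _ _ _ (Fin d → k) _ _ c, coact_single, map_sum]
  refine Finset.sum_congr rfl fun i _ => ?_
  rw [contr_tmul]

theorem act_single_apply (c : HopfRep.Comod k C (Fin d → k)) (φ : C →ₗ[k] k) (i j : Fin d) :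
    @Comod.act k C _ _ _ _ (Fin d → k) _ _ c φ (Pi.single j 1) i = φ (mc c i j) := by
  rw [act_single]
  simp [Finset.sum_apply, Pi.single_apply]

end Coord

section Simple
variable {k : Type u} {C : Type v} [Field k] [IsAlgClosed k] [AddCommGroup C] [Module k C] [Coalgebra k C]

/-- Schur's lemma over an algebraically closed field: endomorphisms of a simple comodule are scalars. -/
theorem exists_smul_id_of_isComodHom {V : Type w} [AddCommGroup V] [Module k V] [HopfRep.Comod k C V]
    (hV : HopfRep.IsSimpleComod k C V) (α : V →ₗ[k] V) (hα : Hoch.IsComodHom C α) :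
    ∃ a : k, α = a • LinearMap.id := by
  have := finite_of_isSimpleComod hV
  have := hV.1
  obtain ⟨a, ha⟩ := Module.End.exists_eigenvalue α
  refine ⟨a, ?_⟩
  obtain ⟨v, hv⟩ := ha.exists_hasEigenvector
  have hβ : Hoch.IsComodHom C (α - a • LinearMap.id) :=
    isComodHom_sub hα (isComodHom_smul a isComodHom_id)
  by_contra hne
  have hne' : α - a • LinearMap.id ≠ 0 := fun h0 => hne (sub_eq_zero.1 h0)
  have hinj := injective_of_simple hV hβ hne'
  have h0 : (α - a • (LinearMap.id : V →ₗ[k] V)) v = 0 := by
    rw [LinearMap.sub_apply, LinearMap.smul_apply, LinearMap.id_apply, hv.apply_eq_smul, sub_self]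
  exact hv.2 (hinj (by rw [h0, map_zero]))

variable {d : ℕ}

/-- Burnside: for a simple comodule structure on `Fin d → k` there are functionals on the coalgebra dual to the
matrix coefficients. -/
theorem exists_dual_mc (c : HopfRep.Comod k C (Fin d → k))
    (hc : @HopfRep.IsSimpleComod k C _ _ _ _ (Fin d → k) _ _ c) (p q : Fin d) :
    ∃ φ : C →ₗ[k] k, ∀ i j, φ (mc c i j) = if i = p ∧ j = q then 1 else 0 := by
  let X : (Fin d → k) →ₗ[k] (Fin d → k) :=
    (LinearMap.single k (fun _ : Fin d => k) p) ∘ₗ (LinearMap.proj q)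
  obtain ⟨φ, hφ⟩ := @exists_act_eq_of_isSimpleComod k C _ _ _ _ (Fin d → k) _ _ c hc
    (fun α hα => @exists_smul_id_of_isComodHom k C _ _ _ _ _ (Fin d → k) _ _ c hc α hα) X
  refine ⟨φ, fun i j => ?_⟩
  rw [← act_single_apply c φ i j, ← hφ]
  simp only [X, LinearMap.coe_comp, Function.comp_apply, LinearMap.proj_apply, LinearMap.single_apply,
    Pi.single_apply]
  by_cases h1 : i = p
  · by_cases h2 : j = q
    · subst h1 h2; simp
    · have h2' : ¬ q = j := fun h => h2 h.symm
      simp [h1, h2, h2']
  · simp [h1]

theorem linearIndependent_mc (c : HopfRep.Comod k C (Fin d → k))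
    (hc : @HopfRep.IsSimpleComod k C _ _ _ _ (Fin d → k) _ _ c) :
    LinearIndependent k (fun p : Fin d × Fin d => mc c p.1 p.2) := by
  rw [Fintype.linearIndependent_iff]
  intro g hg p
  obtain ⟨φ, hφ⟩ := exists_dual_mc c hc p.1 p.2
  have h := congrArg φ hg
  rw [map_sum, map_zero] at h
  rw [← h]
  symm
  rw [Finset.sum_eq_single p]
  · rw [map_smul, hφ, if_pos ⟨rfl, rfl⟩, smul_eq_mul, mul_one]
  · intro b _ hb
    rw [map_smul, hφ, if_neg, smul_zero]
    rintro ⟨h1, h2⟩
    exact hb (Prod.ext h1 h2)
  · intro h0
    exact absurd (Finset.mem_univ p) h0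

/-- Cocommutative elements of the coefficient space of a simple comodule are multiples of the character. -/
theorem eq_smul_chr_of_cocomm (c : HopfRep.Comod k C (Fin d → k))
    (hc : @HopfRep.IsSimpleComod k C _ _ _ _ (Fin d → k) _ _ c) {f : C}
    (hf : f ∈ @cf k C _ _ _ _ (Fin d → k) _ _ c)
    (hcc : TensorProduct.comm k C C (CoalgebraStruct.comul (R := k) f) = CoalgebraStruct.comul (R := k) f) :
    ∃ a : k, f = a • chr c := by
  classical
  rw [cf_eq_span_mc, Submodule.mem_span_range_iff_exists_fun] at hf
  obtain ⟨g, rfl⟩ := hf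
  -- evaluate both sides of cocommutativity on `φ_pq ⊗ φ_rs`
  have hΔ : CoalgebraStruct.comul (R := k) (A := C) (∑ p : Fin d × Fin d, g p • mc c p.1 p.2) =
      ∑ p : Fin d × Fin d, ∑ l, g p • (mc c p.1 l ⊗ₜ[k] mc c l p.2) := by
    rw [map_sum]
    refine Finset.sum_congr rfl fun p _ => ?_
    rw [map_smul, comul_mc, Finset.smul_sum]
  have key : ∀ p q s : Fin d, g (p, s) = if p = s then g (q, q) else 0 := by
    intro p q s
    obtain ⟨φ₁, hφ₁⟩ := exists_dual_mc c hc p q
    obtain ⟨φ₂, hφ₂⟩ := exists_dual_mc c hc q s
    have h := congrArg (fun t => TensorProduct.lid k k (TensorProduct.map φ₁ φ₂ t)) hcc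
    rw [hΔ] at h
    simp only [map_sum, map_smul, TensorProduct.comm_tmul, TensorProduct.map_tmul, TensorProduct.lid_tmul,
      hφ₁, hφ₂, smul_eq_mul] at h
    -- right side: Σ g(i,j) [i=p][l=q][l=q][j=s] = g(p,s)
    have hR : (∑ x : Fin d × Fin d, ∑ l : Fin d, g x *
        ((if x.1 = p ∧ l = q then (1 : k) else 0) * if l = q ∧ x.2 = s then 1 else 0)) = g (p, s) := by
      rw [Finset.sum_eq_single (p, s)]
      · rw [Finset.sum_eq_single q]
        · simp
        · intro l _ hl
          simp [hl]
        · intro h0; exact absurd (Finset.mem_univ q) h0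
      · intro x _ hx
        apply Finset.sum_eq_zero
        intro l _
        by_cases h1 : x.1 = p ∧ l = q
        · by_cases h2 : l = q ∧ x.2 = s
          · exact absurd (Prod.ext h1.1 h2.2) hx
          · simp [h2]
        · simp [h1]
      · intro h0; exact absurd (Finset.mem_univ (p, s)) h0
    -- left side: Σ g(i,j) φ₁(a_lj) φ₂(a_il) = Σ g(i,j) [l=p][j=q][i=q][l=s] = [p=s] g(q,q)
    have hL : (∑ x : Fin d × Fin d, ∑ l : Fin d, g x *
        ((if l = p ∧ x.2 = q then (1 : k) else 0) * if x.1 = q ∧ l = s then 1 else 0)) =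
        if p = s then g (q, q) else 0 := by
      rw [Finset.sum_eq_single (q, q)]
      · by_cases hps : p = s
        · subst hps
          rw [Finset.sum_eq_single p]
          · simp
          · intro l _ hl
            simp [hl]
          · intro h0; exact absurd (Finset.mem_univ p) h0
        · rw [if_neg hps]
          apply Finset.sum_eq_zero
          intro l _
          by_cases h1 : l = p
          · have : ¬ l = s := fun h2 => hps (h1.symm.trans h2)
            simp [this]
          · simp [h1]
      · intro x _ hx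
        apply Finset.sum_eq_zero
        intro l _
        by_cases h1 : l = p ∧ x.2 = q
        · by_cases h2 : x.1 = q ∧ l = s
          · exact absurd (Prod.ext h2.1 h1.2) hx
          · simp [h2]
        · simp [h1]
      · intro h0; exact absurd (Finset.mem_univ (q, q)) h0
    rw [hR, hL] at h
    exact h.symm
  rcases Nat.eq_zero_or_pos d with hd | hd
  · subst hd
    exact ⟨0, by simp [chr]⟩
  · let q0 : Fin d := ⟨0, hd⟩
    refine ⟨g (q0, q0), ?_⟩
    rw [chr, Finset.smul_sum, Fintype.sum_prod_type]
    refine Finset.sum_congr rfl fun p _ => ?_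
    rw [Finset.sum_eq_single p]
    · rw [key p q0 p, if_pos rfl]
    · intro s _ hs
      rw [key p q0 s, if_neg (Ne.symm hs), zero_smul]
    · intro h0; exact absurd (Finset.mem_univ p) h0

end Simple

end Groth.Agent.Lib.PeterWeyl38
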