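import Groth.Agent.Lib.PeterWeyl38a
import Groth.Agent.Lib.ComodFlag
import Mathlib.LinearAlgebra.Projection
import Mathlib.LinearAlgebra.DFinsupp

/-!
# Peter–Weyl for cocommutative elements (helper38)

Over an algebraically closed field `k`, for a coalgebra `C` all of whose finite-dimensional comodules are
semisimple:
* `iSup_simpleSubcoalg_eq_top`: `C` is the sum of its simple subcoalgebras;
* `exists_coord_of_isSimpleSubcoalg`: every simple subcoalgebra is the coefficient space of a simple comodule
  structure on some `Fin d → k`;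
* `mem_span_chr_of_cocomm`: every cocommutative element of `C` is a linear combination of characters of simple
  comodule structures on coordinate spaces;
* `linearIndependent_chr`: characters of pairwise non-isomorphic simple comodules are linearly independent
  (characteristic zero).
-/

set_option autoImplicit false
set_option linter.unusedSectionVars false
universe u v w w'
open TensorProduct

noncomputable section

namespace Groth.Agent.Lib.PeterWeyl38
open Groth.Agent.Lib.Comod Groth.Agent.Lib.CoeffSpace Groth.Agent.Lib.ComodSimple18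

section Equiv
variable {k : Type u} {C : Type v} [Field k] [AddCommGroup C] [Module k C] [Coalgebra k C]
  {V : Type w} [AddCommGroup V] [Module k V] [HopfRep.Comod k C V]
  {W : Type w'} [AddCommGroup W] [Module k W] [HopfRep.Comod k C W]

theorem isSimpleComod_of_equiv (e : V ≃ₗ[k] W) (he : Hoch.IsComodHom C (e : V →ₗ[k] W))
    (hV : HopfRep.IsSimpleComod k C V) : HopfRep.IsSimpleComod k C W := by
  have := hV.1
  refine ⟨e.symm.toEquiv.nontrivial, fun U hU => ?_⟩
  have hmap : (U.comap (e : V →ₗ[k] W)).map (e : V →ₗ[k] W) = U :=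
    Submodule.map_comap_eq_of_surjective e.surjective U
  rcases hV.2 _ (isSubcomod_comap he hU) with h | h
  · left
    rw [← hmap, h, Submodule.map_bot]
  · right
    rw [← hmap, h, Submodule.map_top, LinearMap.range_eq_top]
    exact e.surjective

end Equiv

section Decomp
variable {k : Type u} {C : Type v} [Field k] [AddCommGroup C] [Module k C] [Coalgebra k C]

/-- A cosemisimple coalgebra is the sum of its simple subcoalgebras. -/
theorem iSup_simpleSubcoalg_eq_top
    (hss : ∀ (V : Type v) [AddCommGroup V] [Module k V] [HopfRep.Comod k C V],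
      Module.Finite k V → HopfRep.IsSemisimpleComod k C V) :
    (⨆ D : {D : Submodule k C // IsSimpleSubcoalg D}, (D.1 : Submodule k C)) = ⊤ := by
  rw [eq_top_iff]
  intro x _
  obtain ⟨W, hfin, hxW, hW⟩ := exists_finite_subcomod_mem (k := k) (C := C) (V := C) x
  let cW : HopfRep.Comod k C W := ComodSub.Comod.restr (HopfRep.Comod.regular k C) W hW
  have hWss : HopfRep.IsSemisimpleComod k C W := hss W hfin
  have htop := iSup_simpleSub_eq_top cW hWss
  have hx : (⟨x, hxW⟩ : W) ∈ (⊤ : Submodule k W) := Submodule.mem_top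
  rw [← htop] at hx
  have hmap : x ∈ (⨆ E : {E : Submodule k W // IsSimpleSub cW E}, (E.1 : Submodule k W)).map W.subtype :=
    ⟨⟨x, hxW⟩, hx, rfl⟩
  rw [Submodule.map_iSup] at hmap
  have hle_all : (⨆ E : {E : Submodule k W // IsSimpleSub cW E}, (E.1 : Submodule k W).map W.subtype) ≤
      ⨆ D : {D : Submodule k C // IsSimpleSubcoalg D}, (D.1 : Submodule k C) := ?_
  · exact hle_all hmap
  refine iSup_le fun E => ?_
  obtain ⟨E, hE⟩ := E
  let cE : HopfRep.Comod k C E := ComodSub.Comod.restr cW E hE.1
  have hsimple : HopfRep.IsSimpleComod k C E :=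
    isSimpleComod_restr_of_minimal cW E hE.1 hE.2.1 hE.2.2
  have hf : Hoch.IsComodHom C (W.subtype ∘ₗ E.subtype) :=
    isComodHom_comp' (ComodSub.isComodHom_subtype cW E hE.1)
      (ComodSub.isComodHom_subtype (HopfRep.Comod.regular k C) W hW)
  have hle : E.map W.subtype ≤ cf k C E := by
    have := range_le_cf hf
    rwa [LinearMap.range_comp, Submodule.range_subtype] at this
  exact hle.trans (le_iSup (fun D : {D : Submodule k C // IsSimpleSubcoalg D} => (D.1 : Submodule k C))
    ⟨cf k C E, isSimpleSubcoalg_cf hsimple⟩)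

/-- Every simple subcoalgebra is the coefficient space of a simple comodule structure on a coordinate space. -/
theorem exists_coord_of_isSimpleSubcoalg {D : Submodule k C} (hD : IsSimpleSubcoalg D) :
    ∃ (d : ℕ) (c : HopfRep.Comod k C (Fin d → k)),
      @HopfRep.IsSimpleComod k C _ _ _ _ (Fin d → k) _ _ c ∧ @cf k C _ _ _ _ (Fin d → k) _ _ c = D := by
  obtain ⟨E, hED, hE⟩ := exists_simpleSub_le (HopfRep.Comod.regular k C) D
    (isSubcomod_of_isSubcoalg hD.2.1) hD.1
  let cE : HopfRep.Comod k C E := ComodSub.Comod.restr (HopfRep.Comod.regular k C) E hE.1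
  have hsimple : HopfRep.IsSimpleComod k C E :=
    isSimpleComod_restr_of_minimal (HopfRep.Comod.regular k C) E hE.1 hE.2.1 hE.2.2
  have hcf : cf k C E = D := cf_restr_eq_of_isSimpleSubcoalg hD hE.1 hE.2.1 hED
  have hfin : Module.Finite k E := finite_of_isSimpleComod hsimple
  let e : E ≃ₗ[k] (Fin (Module.finrank k E) → k) := (Module.finBasis k E).equivFun
  refine ⟨Module.finrank k E, transportComod e cE, ?_, ?_⟩
  · exact @isSimpleComod_of_equiv k C _ _ _ _ E _ _ cE _ _ _ (transportComod e cE) e
      (isComodHom_transportComod e cE) hsimple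
  · rw [← hcf]
    exact (@cf_eq_of_equiv k C _ _ _ _ E _ _ cE _ _ _ (transportComod e cE) e
      (isComodHom_transportComod e cE)).symm

end Decomp

section Main
variable {k : Type u} {C : Type v} [Field k] [IsAlgClosed k] [AddCommGroup C] [Module k C] [Coalgebra k C]

/-- **Peter–Weyl for class functions**: in a cosemisimple coalgebra over an algebraically closed field every
cocommutative element is a linear combination of characters. -/
theorem mem_span_chr_of_cocomm
    (hss : ∀ (V : Type v) [AddCommGroup V] [Module k V] [HopfRep.Comod k C V],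
      Module.Finite k V → HopfRep.IsSemisimpleComod k C V) {f : C}
    (hf : TensorProduct.comm k C C (CoalgebraStruct.comul (R := k) f) = CoalgebraStruct.comul (R := k) f) :
    f ∈ Submodule.span k (Set.range fun p : (Σ d : ℕ, HopfRep.Comod k C (Fin d → k)) => chr p.2) := by
  classical
  set S := Submodule.span k (Set.range fun p : (Σ d : ℕ, HopfRep.Comod k C (Fin d → k)) => chr p.2) with hS
  let Dv : {D : Submodule k C // IsSimpleSubcoalg D} → Submodule k C := Subtype.val
  have hind : iSupIndep Dv := iSupIndep_of_isSimpleSubcoalg Dv (fun D => D.2) Subtype.val_injective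
  have htop : (⨆ D, Dv D) = ⊤ := iSup_simpleSubcoalg_eq_top hss
  have hcompl : ∀ D, IsCompl (Dv D) (⨆ (j) (_ : j ≠ D), Dv j) := fun D =>
    ⟨hind D, by rw [codisjoint_iff, ← iSup_split_single, htop]⟩
  let π : {D : Submodule k C // IsSimpleSubcoalg D} → (C →ₗ[k] C) := fun D =>
    (Dv D).subtype ∘ₗ Submodule.projectionOnto _ _ (hcompl D)
  have hπ_self : ∀ D, ∀ x ∈ Dv D, π D x = x := by
    intro D x hx
    change ((Submodule.projectionOnto _ _ (hcompl D) x : Dv D) : C) = x
    have := Submodule.projectionOnto_apply_left (hcompl D) ⟨x, hx⟩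
    rw [this]
  have hπ_other : ∀ D D', D' ≠ D → ∀ x ∈ Dv D', π D x = 0 := by
    intro D D' hne x hx
    have hx' : x ∈ ⨆ (j) (_ : j ≠ D), Dv j :=
      (le_iSup₂ (f := fun j (_ : j ≠ D) => Dv j) D' hne) hx
    change ((Submodule.projectionOnto _ _ (hcompl D) x : Dv D) : C) = 0
    rw [(Submodule.projectionOnto_apply_eq_zero_iff (hcompl D)).2 hx']
    rfl
  have hπ_sub_self : ∀ D, π D ∘ₗ (Dv D).subtype = (Dv D).subtype := fun D =>
    LinearMap.ext fun x => hπ_self D x x.2
  have hπ_sub_other : ∀ D D', D' ≠ D → π D ∘ₗ (Dv D').subtype = 0 := fun D D' hne =>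
    LinearMap.ext fun x => hπ_other D D' hne x x.2
  -- the projections are compatible with the comultiplication
  have hcomul : ∀ D x, CoalgebraStruct.comul (R := k) (π D x) =
      TensorProduct.map (π D) (π D) (CoalgebraStruct.comul (R := k) x) := by
    intro D x
    have hx : x ∈ ⨆ D', Dv D' := htop ▸ Submodule.mem_top
    refine Submodule.iSup_induction Dv (motive := fun x => CoalgebraStruct.comul (R := k) (π D x) =
      TensorProduct.map (π D) (π D) (CoalgebraStruct.comul (R := k) x)) hx ?_ ?_ ?_
    · intro D' y hy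
      obtain ⟨z, hz⟩ := D'.2.2.1 y hy
      by_cases hDD : D' = D
      · subst hDD
        rw [hπ_self D' y hy, ← hz, ← LinearMap.comp_apply, ← TensorProduct.map_comp, hπ_sub_self]
      · rw [hπ_other D D' hDD y hy, map_zero, ← hz, ← LinearMap.comp_apply, ← TensorProduct.map_comp,
          hπ_sub_other D D' hDD, TensorProduct.map_zero_left, LinearMap.zero_apply]
    · simp
    · intro y z hy hz
      simp only [map_add, hy, hz]
  -- each component is cocommutative, hence a multiple of a character
  have hcomp : ∀ D, π D f ∈ S := by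
    intro D
    have hcc : TensorProduct.comm k C C (CoalgebraStruct.comul (R := k) (π D f)) =
        CoalgebraStruct.comul (R := k) (π D f) := by
      have key : ∀ t : C ⊗[k] C, TensorProduct.comm k C C (TensorProduct.map (π D) (π D) t) =
          TensorProduct.map (π D) (π D) (TensorProduct.comm k C C t) := by
        intro t
        induction t using TensorProduct.induction_on with
        | zero => simp
        | add x y hx hy => simp only [map_add, hx, hy]
        | tmul x y => simp
      rw [hcomul, key, hf]
    obtain ⟨d, c, hc, hcf⟩ := exists_coord_of_isSimpleSubcoalg D.2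
    have hmem : π D f ∈ @cf k C _ _ _ _ (Fin d → k) _ _ c := by
      rw [hcf]
      exact ((Submodule.projectionOnto _ _ (hcompl D) f : Dv D)).2
    obtain ⟨a, ha⟩ := eq_smul_chr_of_cocomm c hc hmem hcc
    rw [ha]
    exact Submodule.smul_mem _ _ (Submodule.subset_span ⟨⟨d, c⟩, rfl⟩)
  -- decompose `f`
  have hfmem : f ∈ ⨆ D, Dv D := htop ▸ Submodule.mem_top
  obtain ⟨g, hg⟩ := (Submodule.mem_iSup_iff_exists_dfinsupp' Dv f).1 hfmem
  have hπg : ∀ D, π D f = (g D : C) := by
    intro D
    rw [← hg, DFinsupp.sum, map_sum]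
    by_cases hD : D ∈ g.support
    · rw [Finset.sum_eq_single D]
      · exact hπ_self D _ (g D).2
      · intro D' _ hne
        exact hπ_other D D' hne _ (g D').2
      · intro h0; exact absurd hD h0
    · rw [Finset.sum_eq_zero]
      · rw [DFinsupp.notMem_support_iff] at hD
        rw [hD]; rfl
      · intro D' hD'
        have hne : D' ≠ D := by rintro rfl; exact hD hD'
        exact hπ_other D D' hne _ (g D').2
  rw [← hg, DFinsupp.sum]
  exact Submodule.sum_mem _ fun D _ => by rw [← hπg]; exact hcomp D

end Main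

section Indep
variable {k : Type u} {C : Type v} [Field k] [CharZero k] [AddCommGroup C] [Module k C] [Coalgebra k C]

theorem chr_mem_cf {d : ℕ} (c : HopfRep.Comod k C (Fin d → k)) :
    chr c ∈ @cf k C _ _ _ _ (Fin d → k) _ _ c :=
  Submodule.sum_mem _ fun _ _ => @cfm_mem_cf k C _ _ _ _ (Fin d → k) _ _ c _ _

theorem counit_chr {d : ℕ} (c : HopfRep.Comod k C (Fin d → k)) :
    CoalgebraStruct.counit (R := k) (A := C) (chr c) = (d : k) := by
  rw [chr, map_sum]
  simp [counit_mc]

/-- Characters of pairwise non-isomorphic simple comodules are linearly independent. -/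
theorem linearIndependent_chr {n : ℕ} (d : Fin n → ℕ) (c : (i : Fin n) → HopfRep.Comod k C (Fin (d i) → k))
    (hc : ∀ i, @HopfRep.IsSimpleComod k C _ _ _ _ (Fin (d i) → k) _ _ (c i))
    (hne : ∀ i j, i ≠ j → ∀ P : (Fin (d i) → k) ≃ₗ[k] (Fin (d j) → k),
      LinearMap.rTensor C P.toLinearMap ∘ₗ (c i).coact ≠ (c j).coact ∘ₗ P.toLinearMap) :
    LinearIndependent k (fun i : Fin n => chr (c i)) := by
  let D : Fin n → Submodule k C := fun i => @cf k C _ _ _ _ (Fin (d i) → k) _ _ (c i)
  have hD : ∀ i, IsSimpleSubcoalg (D i) := fun i =>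
    @isSimpleSubcoalg_cf k C _ _ _ _ (Fin (d i) → k) _ _ (c i) (hc i)
  have hinj : Function.Injective D := by
    intro i j hij
    by_contra hne'
    obtain ⟨e, he⟩ := @exists_iso_of_cf_le k C _ _ _ _ (Fin (d i) → k) _ _ (c i) (Fin (d j) → k) _ _ (c j)
      (hc i) (hc j) (le_of_eq hij.symm)
    exact hne i j hne' e he.symm
  have hind := iSupIndep_of_isSimpleSubcoalg D hD hinj
  refine hind.linearIndependent D (fun i => chr_mem_cf (c i)) (fun i h0 => ?_)
  have h1 := counit_chr (c i)
  rw [h0, map_zero] at h1
  have hd : d i = 0 := by exact_mod_cast h1.symm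
  have hnt := (hc i).1
  obtain ⟨x, y, hxy⟩ := hnt
  apply hxy
  ext t
  exact (Fin.cast hd t).elim0

end Indep

end Groth.Agent.Lib.PeterWeyl38
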