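import Groth.Agent.Lib.PeterWeyl38b
import Mathlib.RingTheory.HopfAlgebra.Convolution
import Mathlib.RingTheory.Bialgebra.Convolution

/-!
# Characters are class functions (helper38)

For a comodule structure `c` on `Fin d → k` over a commutative Hopf algebra `A` and a commutative `k`-algebra `K`:
the matrix representation `matRep c : WithConv (A →ₐ[k] K) →* Matrix (Fin d) (Fin d) K` and
`conj_chr : (x * g * x⁻¹) (chr c) = g (chr c)`.
-/

set_option autoImplicit false
set_option linter.unusedSectionVars false
universe u v w
open TensorProduct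

noncomputable section

namespace Groth.Agent.Lib.PeterWeyl38

section Mat
variable {k : Type u} [Field k] {A : Type v} [CommRing A] [HopfAlgebra k A]
  {K : Type w} [CommRing K] [Algebra k K] {d : ℕ}

/-- The matrix of a `K`-point in a representation on `Fin d → k`. -/
def matOf (c : HopfRep.Comod k A (Fin d → k)) (y : WithConv (A →ₐ[k] K)) : Matrix (Fin d) (Fin d) K :=
  Matrix.of fun i j => y.ofConv (mc c i j)

theorem matOf_one (c : HopfRep.Comod k A (Fin d → k)) : matOf c (1 : WithConv (A →ₐ[k] K)) = 1 := by
  ext i j
  change (1 : WithConv (A →ₐ[k] K)) (mc c i j) = _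
  rw [AlgHom.convOne_apply, counit_mc, Matrix.one_apply]
  split_ifs <;> simp

theorem matOf_mul (c : HopfRep.Comod k A (Fin d → k)) (y z : WithConv (A →ₐ[k] K)) :
    matOf c (y * z) = matOf c y * matOf c z := by
  ext i j
  change (y * z) (mc c i j) = _
  rw [AlgHom.convMul_apply, comul_mc, map_sum, Matrix.mul_apply]
  refine Finset.sum_congr rfl fun l _ => ?_
  rw [Algebra.TensorProduct.lift_tmul]
  rfl

theorem trace_matOf (c : HopfRep.Comod k A (Fin d → k)) (y : WithConv (A →ₐ[k] K)) :
    (matOf c y).trace = y.ofConv (chr c) := by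
  rw [Matrix.trace, chr, map_sum]
  rfl

/-- The inverse of a `K`-point. -/
def invK (x : WithConv (A →ₐ[k] K)) : WithConv (A →ₐ[k] K) :=
  WithConv.toConv (x.ofConv.comp (HopfAlgebra.antipodeAlgHom k A))

theorem invK_mul (x : WithConv (A →ₐ[k] K)) : invK x * x = 1 := by
  apply WithConv.ofConv_injective
  apply AlgHom.toLinearMap_injective
  apply WithConv.toConv_injective
  rw [AlgHom.toLinearMap_convMul, AlgHom.toLinearMap_convOne]
  have h := LinearMap.algHom_comp_convMul_distrib x.ofConv
    (WithConv.toConv (HopfAlgebra.antipode k (A := A))) (WithConv.toConv LinearMap.id)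
  rw [LinearMap.antipode_mul_id] at h
  apply WithConv.ofConv_injective
  refine Eq.trans ?_ (h.symm.trans ?_)
  · rfl
  · apply LinearMap.ext
    intro a
    simp [LinearMap.convOne_def, Algebra.algebraMap_eq_smul_one]

theorem mul_invK (x : WithConv (A →ₐ[k] K)) : x * invK x = 1 := by
  apply WithConv.ofConv_injective
  apply AlgHom.toLinearMap_injective
  apply WithConv.toConv_injective
  rw [AlgHom.toLinearMap_convMul, AlgHom.toLinearMap_convOne]
  have h := LinearMap.algHom_comp_convMul_distrib x.ofConv
    (WithConv.toConv LinearMap.id) (WithConv.toConv (HopfAlgebra.antipode k (A := A)))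
  rw [LinearMap.id_mul_antipode] at h
  apply WithConv.ofConv_injective
  refine Eq.trans ?_ (h.symm.trans ?_)
  · rfl
  · apply LinearMap.ext
    intro a
    simp [LinearMap.convOne_def, Algebra.algebraMap_eq_smul_one]

/-- Characters are class functions. -/
theorem conj_chr (c : HopfRep.Comod k A (Fin d → k)) (x g : WithConv (A →ₐ[k] K)) :
    (x * g * invK x).ofConv (chr c) = g.ofConv (chr c) := by
  rw [← trace_matOf, ← trace_matOf, matOf_mul, Matrix.trace_mul_comm, ← matOf_mul, ← mul_assoc,
    invK_mul, one_mul]

end Mat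

end Groth.Agent.Lib.PeterWeyl38
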