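import Groth.Prelude.Def_GmPts
import Mathlib.CategoryTheory.Monoidal.Cartesian.Over
import Mathlib.CategoryTheory.Monoidal.Cartesian.Grp

/-!
# Points of `k`-schemes with values in affine `k`-schemes (helper38)

Generic layer used for "universal point" arguments over `S = Spec k`:

* `algK T : k →+* Γ(T.left, ⊤)`: the `k`-algebra structure on the global functions of a `k`-scheme `T : Over (Spec k)`;
* `specOver k B : Over (Spec k)`: the affine `k`-scheme of a `k`-algebra `B`;
* `homOf T ψ hψ : T ⟶ specOver k B` for a ring map `ψ : B →+* Γ(T.left, ⊤)` compatible with the `k`-structures, with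
  `homOf_appTop : (homOf T ψ hψ).left.appTop ((ΓSpecIso B).inv b) = ψ b`.
-/

universe u

open CategoryTheory CategoryTheory.Limits AlgebraicGeometry Opposite MonoidalCategory CartesianMonoidalCategory MonObj

noncomputable section

namespace Groth.Agent.Lib.UnivPt38

variable {k : Type u} [CommRing k]

/-- The `k`-algebra structure on the global functions of a scheme over `Spec k`. -/
def algK (T : Over (Spec (CommRingCat.of k))) : k →+* Γ(T.left, ⊤) :=
  ((Scheme.ΓSpecIso (CommRingCat.of k)).inv ≫ T.hom.appTop).hom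

theorem algK_comp {T T' : Over (Spec (CommRingCat.of k))} (g : T' ⟶ T) (a : k) :
    g.left.appTop (algK T a) = algK T' a := by
  have h : g.left ≫ T.hom = T'.hom := Over.w g
  change g.left.appTop (T.hom.appTop ((Scheme.ΓSpecIso (CommRingCat.of k)).inv a)) =
    T'.hom.appTop ((Scheme.ΓSpecIso (CommRingCat.of k)).inv a)
  rw [← h, GmPts.appTop_comp_apply]

variable (k) in
/-- The affine `k`-scheme of a `k`-algebra. -/
def specOver (B : Type u) [CommRing B] [Algebra k B] : Over (Spec (CommRingCat.of k)) :=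
  Over.mk (Spec.map (CommRingCat.ofHom (algebraMap k B)))

variable {B : Type u} [CommRing B] [Algebra k B]

theorem specMap_appTop_ΓSpecIso_inv {B C : CommRingCat.{u}} (φ : B ⟶ C) (c : B) :
    (Spec.map φ).appTop ((Scheme.ΓSpecIso B).inv c) = (Scheme.ΓSpecIso C).inv (φ c) := by
  have h := congrArg (fun ψ => (ConcreteCategory.hom ψ) c) (Scheme.ΓSpecIso_inv_naturality φ)
  exact h.symm

theorem algK_specOver (a : k) :
    algK (specOver k B) a = (Scheme.ΓSpecIso (CommRingCat.of B)).inv (algebraMap k B a) :=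
  specMap_appTop_ΓSpecIso_inv (CommRingCat.ofHom (algebraMap k B)) a

theorem homOf_w (T : Over (Spec (CommRingCat.of k))) (ψ : B →+* Γ(T.left, ⊤))
    (hψ : ∀ a, ψ (algebraMap k B a) = algK T a) :
    (T.left.toSpecΓ ≫ Spec.map (CommRingCat.ofHom ψ)) ≫ (specOver k B).hom = T.hom := by
  have h1 : CommRingCat.ofHom (algebraMap k B) ≫ CommRingCat.ofHom ψ =
      (Scheme.ΓSpecIso (CommRingCat.of k)).inv ≫ T.hom.appTop := by
    ext a
    exact hψ a
  change (T.left.toSpecΓ ≫ Spec.map (CommRingCat.ofHom ψ)) ≫ Spec.map (CommRingCat.ofHom (algebraMap k B)) = T.hom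
  rw [Category.assoc, ← Spec.map_comp, h1, Spec.map_comp, ← Category.assoc, ← Scheme.toSpecΓ_naturality,
    Category.assoc, toSpecΓ_SpecMap_ΓSpecIso_inv, Category.comp_id]

/-- The morphism of `k`-schemes `T ⟶ Spec B` attached to a `k`-algebra map `B → Γ(T)`. -/
def homOf (T : Over (Spec (CommRingCat.of k))) (ψ : B →+* Γ(T.left, ⊤))
    (hψ : ∀ a, ψ (algebraMap k B a) = algK T a) : T ⟶ specOver k B :=
  Over.homMk (T.left.toSpecΓ ≫ Spec.map (CommRingCat.ofHom ψ)) (homOf_w T ψ hψ)

theorem homOf_appTop (T : Over (Spec (CommRingCat.of k))) (ψ : B →+* Γ(T.left, ⊤))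
    (hψ : ∀ a, ψ (algebraMap k B a) = algK T a) (b : B) :
    (homOf T ψ hψ).left.appTop ((Scheme.ΓSpecIso (CommRingCat.of B)).inv b) = ψ b := by
  change (T.left.toSpecΓ ≫ Spec.map (CommRingCat.ofHom ψ)).appTop ((Scheme.ΓSpecIso (CommRingCat.of B)).inv b) = ψ b
  rw [GmPts.appTop_comp_apply, specMap_appTop_ΓSpecIso_inv, Scheme.toSpecΓ_appTop]
  exact congrArg (fun φ => (ConcreteCategory.hom φ) (ψ b)) (Scheme.ΓSpecIso Γ(T.left, ⊤)).inv_hom_id

/-- The ring isomorphism `Γ(Spec B) ≃ B`. -/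
def gammaEquiv (B : Type u) [CommRing B] : Γ(Spec (CommRingCat.of B), ⊤) ≃+* B :=
  (Scheme.ΓSpecIso (CommRingCat.of B)).commRingCatIsoToRingEquiv

theorem gammaEquiv_apply (B : Type u) [CommRing B] (x : Γ(Spec (CommRingCat.of B), ⊤)) :
    gammaEquiv B x = (Scheme.ΓSpecIso (CommRingCat.of B)).hom x := rfl

theorem gammaEquiv_symm_apply (B : Type u) [CommRing B] (b : B) :
    (gammaEquiv B).symm b = (Scheme.ΓSpecIso (CommRingCat.of B)).inv b := rfl


/-! ### Coordinates on the functor of points -/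

/-- A coordinate function on the functor of points of a `k`-scheme `G`: a natural injection of `G(T)` into
the global functions of `T`. -/
structure FnCoord (G : Over (Spec (CommRingCat.of k))) where
  fn : ∀ {T : Over (Spec (CommRingCat.of k))}, (T ⟶ G) → Γ(T.left, ⊤)
  fn_comp : ∀ {T T' : Over (Spec (CommRingCat.of k))} (g : T' ⟶ T) (x : T ⟶ G),
    fn (g ≫ x) = g.left.appTop (fn x)
  fn_inj : ∀ {T : Over (Spec (CommRingCat.of k))} (x y : T ⟶ G), fn x = fn y → x = y

variable {G : Over (Spec (CommRingCat.of k))} (c : FnCoord G)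

theorem fn_homOf_comp (W : specOver k B ⟶ G) (T : Over (Spec (CommRingCat.of k))) (ψ : B →+* Γ(T.left, ⊤))
    (hψ : ∀ a, ψ (algebraMap k B a) = algK T a) :
    c.fn (homOf T ψ hψ ≫ W) = ψ (gammaEquiv B (c.fn W)) := by
  rw [c.fn_comp]
  have h : c.fn W = (Scheme.ΓSpecIso (CommRingCat.of B)).inv (gammaEquiv B (c.fn W)) :=
    ((gammaEquiv B).symm_apply_apply (c.fn W)).symm
  conv_lhs => rw [h]
  exact homOf_appTop T ψ hψ _

theorem homOf_comp_eq (P : specOver k B ⟶ G) (T : Over (Spec (CommRingCat.of k))) (ψ : B →+* Γ(T.left, ⊤))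
    (hψ : ∀ a, ψ (algebraMap k B a) = algK T a) (a : T ⟶ G)
    (h : ψ (gammaEquiv B (c.fn P)) = c.fn a) : homOf T ψ hψ ≫ P = a :=
  c.fn_inj _ _ ((fn_homOf_comp c P T ψ hψ).trans h)

/-- The constant `u₀ ∈ k` which is the coordinate of the unit section. -/
def unitConst [MonObj G] : k := (Scheme.ΓSpecIso (CommRingCat.of k)).hom (c.fn η[G])

theorem fn_one [MonObj G] (T : Over (Spec (CommRingCat.of k))) :
    c.fn (1 : T ⟶ G) = algK T (unitConst c) := by
  have h1 : (1 : T ⟶ G) = toUnit T ≫ η[G] := rfl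
  rw [h1, c.fn_comp]
  have h2 : (Scheme.ΓSpecIso (CommRingCat.of k)).inv (unitConst c) = c.fn η[G] :=
    congrArg (fun φ => (ConcreteCategory.hom φ) (c.fn η[G])) (Scheme.ΓSpecIso (CommRingCat.of k)).hom_inv_id
  change T.hom.appTop (c.fn η[G]) = T.hom.appTop ((Scheme.ΓSpecIso (CommRingCat.of k)).inv (unitConst c))
  rw [h2]

end Groth.Agent.Lib.UnivPt38
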