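import Groth.Agent.Lib.PeterWeyl38c
import Groth.Agent.Lib.UnivPt38
import Groth.Prelude.Def_CoactBr

/-!
# Points of `Spec A` with values in arbitrary `k`-schemes, via the affinization (helper38)

For `T : Over (Spec k)` and a commutative Hopf algebra `A`:
* `evPt x : A →ₐ[k] Γ(T)` for a point `x : T ⟶ sp k A`;
* `can T : T ⟶ sp k Γ(T)` and `eq_can_pt : x = can T ≫ pt (evPt x)`;
* `conj_appTop`: `(x * g * x⁻¹)^* a = (ex * eg * invK ex) a` in `Γ(T)`;
* the universal-point computations on `A ⊗ A`.
-/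

set_option autoImplicit false
universe u
open CategoryTheory CategoryTheory.Limits AlgebraicGeometry Opposite MonoidalCategory CartesianMonoidalCategory MonObj
open TensorProduct

noncomputable section

namespace Groth.Agent.Lib.PeterWeyl38
open Groth.Agent.Lib.UnivPt38

section Pts
variable {k : Type u} [Field k] (T : Over (Spec (CommRingCat.of k)))

/-- The `k`-algebra structure on the global functions of a `k`-scheme. -/
@[reducible] def algΓ : Algebra k Γ(T.left, ⊤) := (algK T).toAlgebra

attribute [local instance] algΓ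

/-- The canonical morphism to the affinization, over `Spec k`. -/
def can : T ⟶ CoactBr.sp k Γ(T.left, ⊤) :=
  homOf (B := Γ(T.left, ⊤)) T (RingHom.id _) (fun _ => rfl)

theorem can_appTop (b : Γ(T.left, ⊤)) :
    (can T).left.appTop ((Scheme.ΓSpecIso (CommRingCat.of Γ(T.left, ⊤))).inv b) = b :=
  homOf_appTop (B := Γ(T.left, ⊤)) T (RingHom.id _) (fun _ => rfl) b

variable {T} {A : Type u} [CommRing A] [Algebra k A]

/-- The algebra map `A → Γ(T)` of a `T`-valued point of `Spec A`. -/
def evPt (x : T ⟶ CoactBr.sp k A) : A →ₐ[k] Γ(T.left, ⊤) where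
  toRingHom := ((Scheme.ΓSpecIso (CommRingCat.of A)).inv ≫ x.left.appTop).hom
  commutes' := by
    intro a
    change x.left.appTop ((Scheme.ΓSpecIso (CommRingCat.of A)).inv (algebraMap k A a)) = algK T a
    have h := algK_comp x a
    rw [← h]
    congr 1
    exact (algK_specOver (k := k) (B := A) a).symm

theorem evPt_apply (x : T ⟶ CoactBr.sp k A) (a : A) :
    evPt x a = x.left.appTop ((Scheme.ΓSpecIso (CommRingCat.of A)).inv a) := rfl

theorem appTop_comp_specMap {X : Scheme.{u}} {K A : CommRingCat.{u}} (f : X ⟶ Spec K) (φ : A ⟶ K) (a : A) :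
    (f ≫ Spec.map φ).appTop ((Scheme.ΓSpecIso A).inv a) = f.appTop ((Scheme.ΓSpecIso K).inv (φ a)) := by
  rw [GmPts.appTop_comp_apply, specMap_appTop_ΓSpecIso_inv]

theorem appTop_can_pt (φ : A →ₐ[k] Γ(T.left, ⊤)) (a : A) :
    (can T ≫ CoactBr.pt φ).left.appTop ((Scheme.ΓSpecIso (CommRingCat.of A)).inv a) = φ a :=
  (appTop_comp_specMap (X := T.left) (K := CommRingCat.of Γ(T.left, ⊤)) (A := CommRingCat.of A)
    (can T).left (CommRingCat.ofHom φ.toRingHom) a).trans (can_appTop T (φ a))

theorem evPt_can_pt (φ : A →ₐ[k] Γ(T.left, ⊤)) : evPt (can T ≫ CoactBr.pt φ) = φ :=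
  AlgHom.ext fun a => appTop_can_pt φ a

theorem eq_toSpecΓ_comp {X : Scheme.{u}} {R : CommRingCat.{u}} (y : X ⟶ Spec R) :
    y = X.toSpecΓ ≫ Spec.map ((Scheme.ΓSpecIso R).inv ≫ y.appTop) := by
  rw [Spec.map_comp, ← Category.assoc, ← Scheme.toSpecΓ_naturality, Category.assoc,
    toSpecΓ_SpecMap_ΓSpecIso_inv, Category.comp_id]

/-- Every point factors through the affinization. -/
theorem eq_can_pt (x : T ⟶ CoactBr.sp k A) : x = can T ≫ CoactBr.pt (evPt x) := by
  apply Over.OverMorphism.ext
  have h1 := eq_toSpecΓ_comp (X := T.left) (R := CommRingCat.of A) x.left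
  refine h1.trans ?_
  change _ = (T.left.toSpecΓ ≫ Spec.map (CommRingCat.ofHom (RingHom.id _))) ≫
    Spec.map (CommRingCat.ofHom (evPt x).toRingHom)
  rw [Category.assoc, ← Spec.map_comp]
  rfl

end Pts

section Grp
variable {k : Type u} [Field k] {A : Type u} [CommRing A] [HopfAlgebra k A]

theorem pt_eq_mapMulEquiv {K : Type u} [CommRing K] [Algebra k K] (y : WithConv (A →ₐ[k] K)) :
    CoactBr.pt y.ofConv = Spec.mapMulEquiv y := rfl

theorem pt_conv_mul {K : Type u} [CommRing K] [Algebra k K] (y z : WithConv (A →ₐ[k] K)) :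
    CoactBr.pt (y * z).ofConv = CoactBr.pt y.ofConv * CoactBr.pt z.ofConv := by
  rw [pt_eq_mapMulEquiv, pt_eq_mapMulEquiv, pt_eq_mapMulEquiv, map_mul]

theorem pt_invK {K : Type u} [CommRing K] [Algebra k K] (y : WithConv (A →ₐ[k] K)) :
    CoactBr.pt (invK y).ofConv = (CoactBr.pt y.ofConv)⁻¹ :=
  (CoactBr.pt_inv y.ofConv).symm

/-- The conjugate `x g x⁻¹` of points with values in an affine scheme. -/
theorem pt_conj {K : Type u} [CommRing K] [Algebra k K] (x g : WithConv (A →ₐ[k] K)) :
    CoactBr.pt x.ofConv * CoactBr.pt g.ofConv * (CoactBr.pt x.ofConv)⁻¹ =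
      CoactBr.pt (x * g * invK x).ofConv := by
  rw [pt_conv_mul, pt_conv_mul, pt_invK]

variable {T : Over (Spec (CommRingCat.of k))}
attribute [local instance] algΓ

/-- The pullback of a function along a conjugate of points with values in an arbitrary `k`-scheme. -/
theorem conj_appTop (x g : T ⟶ CoactBr.sp k A) (a : A) :
    (x * g * x⁻¹).left.appTop ((Scheme.ΓSpecIso (CommRingCat.of A)).inv a) =
      (WithConv.toConv (evPt x) * WithConv.toConv (evPt g) * invK (WithConv.toConv (evPt x))).ofConv a := by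
  have hx := eq_can_pt x
  have hg := eq_can_pt g
  have h : x * g * x⁻¹ = can T ≫ CoactBr.pt
      (WithConv.toConv (evPt x) * WithConv.toConv (evPt g) * invK (WithConv.toConv (evPt x))).ofConv := by
    rw [← pt_conj, MonObj.comp_mul, MonObj.comp_mul, GrpObj.comp_inv]
    exact congrArg₂ (· * ·) (congrArg₂ (· * ·) hx hg) (congrArg (·⁻¹) hx)
  rw [h]
  exact appTop_can_pt _ a

/-- Characters are class functions, for points with values in arbitrary `k`-schemes. -/
theorem conj_appTop_chr {d : ℕ} (c : HopfRep.Comod k A (Fin d → k)) (x g : T ⟶ CoactBr.sp k A) :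
    (x * g * x⁻¹).left.appTop ((Scheme.ΓSpecIso (CommRingCat.of A)).inv (chr c)) =
      g.left.appTop ((Scheme.ΓSpecIso (CommRingCat.of A)).inv (chr c)) := by
  rw [conj_appTop, conj_chr]
  rfl

end Grp

section Univ
variable {k : Type u} [Field k] {A : Type u} [CommRing A] [HopfAlgebra k A]

/-- A class function (for points with values in `Spec (A ⊗ A)`) is cocommutative. -/
theorem cocomm_of_classFunction (f : A)
    (h : ∀ (x g : CoactBr.sp k (A ⊗[k] A) ⟶ CoactBr.sp k A),
      (x * g * x⁻¹).left.appTop ((Scheme.ΓSpecIso (CommRingCat.of A)).inv f) =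
        g.left.appTop ((Scheme.ΓSpecIso (CommRingCat.of A)).inv f)) :
    TensorProduct.comm k A A (CoalgebraStruct.comul (R := k) f) = CoalgebraStruct.comul (R := k) f := by
  let ιL : WithConv (A →ₐ[k] A ⊗[k] A) := WithConv.toConv Algebra.TensorProduct.includeLeft
  let ιR : WithConv (A →ₐ[k] A ⊗[k] A) := WithConv.toConv Algebra.TensorProduct.includeRight
  have h1 := h (CoactBr.pt ιL.ofConv) (CoactBr.pt (ιR * ιL).ofConv)
  rw [pt_conj] at h1
  have h2 : ιL * (ιR * ιL) * invK ιL = ιL * ιR := by
    rw [_root_.mul_assoc, _root_.mul_assoc, mul_invK, _root_.mul_one]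
  rw [h2] at h1
  have key : ∀ φ : WithConv (A →ₐ[k] A ⊗[k] A),
      (CoactBr.pt φ.ofConv).left.appTop ((Scheme.ΓSpecIso (CommRingCat.of A)).inv f) =
        (Scheme.ΓSpecIso (CommRingCat.of (A ⊗[k] A))).inv (φ.ofConv f) := fun φ =>
    Groth.Agent.Lib.UnivPt38.specMap_appTop_ΓSpecIso_inv (CommRingCat.ofHom φ.ofConv.toRingHom) f
  rw [key, key] at h1
  have hinj : Function.Injective (Scheme.ΓSpecIso (CommRingCat.of (A ⊗[k] A))).inv :=
    (ConcreteCategory.bijective_of_isIso (Scheme.ΓSpecIso (CommRingCat.of (A ⊗[k] A))).inv).1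
  have h3 := hinj h1
  have e1 : (ιL * ιR).ofConv f = CoalgebraStruct.comul (R := k) f := by
    change (ιL * ιR) f = _
    rw [AlgHom.convMul_apply]
    generalize CoalgebraStruct.comul (R := k) f = t
    induction t using TensorProduct.induction_on with
    | zero => simp
    | add x y hx hy => simp only [map_add, hx, hy]
    | tmul x y => simp [ιL, ιR]
  have e2 : (ιR * ιL).ofConv f = TensorProduct.comm k A A (CoalgebraStruct.comul (R := k) f) := by
    change (ιR * ιL) f = _
    rw [AlgHom.convMul_apply]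
    generalize CoalgebraStruct.comul (R := k) f = t
    induction t using TensorProduct.induction_on with
    | zero => simp
    | add x y hx hy => simp only [map_add, hx, hy]
    | tmul x y => simp [ιL, ιR, mul_comm]
  rw [← e2, ← e1]
  exact h3.symm

end Univ

end Groth.Agent.Lib.PeterWeyl38
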