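import Groth.Prelude.Def_W4c3degenlocivbPfaff
import Mathlib

/-!
# Pfaffian (`W4c3degenlocivb.pf`) basics (helper75)

* `pf_map`: `pf` commutes with ring homomorphisms;
* `pf_isHomogeneous`: Pfaffian of a `2m × 2m` matrix of linear forms is homogeneous of degree `m`;
* `tri`, `pf_tri`: Pfaffian of a tridiagonal alternating matrix;
* `tri_submatrix_succAbove`: deleting an index from a tridiagonal matrix.
-/

set_option autoImplicit false

open W4c3degenlocivb

namespace Groth.Agent.Lib.Pfaff75

variable {R S : Type*} [CommRing R] [CommRing S]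

theorem pf_zero (T : Matrix (Fin 0) (Fin 0) R) : pf 0 T = 1 := by
  rw [pf]

theorem pf_one (T : Matrix (Fin 1) (Fin 1) R) : pf 1 T = 0 := by
  rw [pf]

theorem pf_add_two (n : ℕ) (T : Matrix (Fin (n + 2)) (Fin (n + 2)) R) :
    pf (n + 2) T = ∑ j : Fin (n + 1),
      (-1) ^ ((j : ℕ) + 1) * T (Fin.last (n + 1)) (Fin.castSucc j) *
        pf n (T.submatrix (Fin.castSucc ∘ j.succAbove) (Fin.castSucc ∘ j.succAbove)) := by
  rw [pf]

theorem pf_map (f : R →+* S) : ∀ (n : ℕ) (T : Matrix (Fin n) (Fin n) R),
    pf n (T.map f) = f (pf n T) := by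
  intro n
  induction n using Nat.twoStepInduction with
  | zero => intro T; simp [pf_zero]
  | one => intro T; simp [pf_one]
  | more n ih _ =>
    intro T
    rw [pf_add_two, pf_add_two, map_sum]
    refine Finset.sum_congr rfl fun j _ => ?_
    rw [map_mul, map_mul, map_pow, map_neg, map_one, ← ih]
    rfl


/-- Pfaffian of a `2m × 2m` matrix of linear forms is homogeneous of degree `m`. -/
theorem pf_isHomogeneous {σ : Type*} : ∀ (m : ℕ)
    (T : Matrix (Fin (2 * m)) (Fin (2 * m)) (MvPolynomial σ R))
    (_ : ∀ a b, (T a b).IsHomogeneous 1), (pf (2 * m) T).IsHomogeneous m := by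
  intro m
  induction m with
  | zero =>
    intro T _
    change (pf 0 T).IsHomogeneous 0
    rw [pf_zero]
    exact MvPolynomial.isHomogeneous_one _ _
  | succ m ih =>
    intro T hT
    change (pf (2 * m + 2) T).IsHomogeneous (m + 1)
    rw [pf_add_two]
    apply MvPolynomial.IsHomogeneous.sum
    intro j _
    have h1 : ((-1 : MvPolynomial σ R) ^ ((j : ℕ) + 1)).IsHomogeneous 0 := by
      have : ((-1 : MvPolynomial σ R) ^ ((j : ℕ) + 1)) = MvPolynomial.C ((-1) ^ ((j : ℕ) + 1)) := by
        simp
      rw [this]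
      exact MvPolynomial.isHomogeneous_C _ _
    have h2 := hT (Fin.last (2 * m + 1)) (Fin.castSucc j)
    have h3 := ih (T.submatrix (Fin.castSucc ∘ j.succAbove) (Fin.castSucc ∘ j.succAbove))
      (fun a b => hT _ _)
    have := (h1.mul h2).mul h3
    simpa [add_comm] using this

/-- tridiagonal alternating matrix with superdiagonal `lam 0, lam 1, …` -/
def tri (lam : ℕ → R) (n : ℕ) : Matrix (Fin n) (Fin n) R :=
  Matrix.of fun a b => if (b : ℕ) = a + 1 then lam a else if (a : ℕ) = b + 1 then - lam b else 0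

theorem tri_apply (lam : ℕ → R) (n : ℕ) (a b : Fin n) :
    tri lam n a b = if (b : ℕ) = a + 1 then lam a else if (a : ℕ) = b + 1 then - lam b else 0 := rfl

theorem pf_tri (lam : ℕ → R) : ∀ m : ℕ,
    pf (2 * m) (tri lam (2 * m)) = ∏ j ∈ Finset.range m, lam (2 * j) := by
  intro m
  induction m with
  | zero =>
    change pf 0 _ = _
    rw [pf_zero]; simp
  | succ m ih =>
    change pf (2 * m + 2) (tri lam (2 * m + 2)) = _
    rw [pf_add_two, Finset.sum_eq_single (Fin.last (2 * m))]
    · rw [Finset.prod_range_succ, ← ih]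
      have hsub : (tri lam (2 * m + 2)).submatrix
          (Fin.castSucc ∘ (Fin.last (2 * m)).succAbove) (Fin.castSucc ∘ (Fin.last (2 * m)).succAbove)
          = tri lam (2 * m) := by
        ext a b
        simp [tri_apply, Fin.succAbove_last]
      rw [hsub, tri_apply]
      have h1 : ¬ ((Fin.castSucc (Fin.last (2 * m)) : Fin (2 * m + 2)) : ℕ)
          = ((Fin.last (2 * m + 1) : Fin (2 * m + 2)) : ℕ) + 1 := by
        simp; omega
      have h2 : ((Fin.last (2 * m + 1) : Fin (2 * m + 2)) : ℕ)
          = ((Fin.castSucc (Fin.last (2 * m)) : Fin (2 * m + 2)) : ℕ) + 1 := by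
        simp
      rw [if_neg h1, if_pos h2]
      have h3 : ((Fin.last (2 * m) : Fin (2 * m + 1)) : ℕ) = 2 * m := by simp
      have h4 : ((Fin.castSucc (Fin.last (2 * m)) : Fin (2 * m + 2)) : ℕ) = 2 * m := by simp
      rw [h3, h4, pow_succ, pow_mul]
      ring
    · intro j _ hj
      have hjlt : (j : ℕ) < 2 * m := by
        have := j.isLt
        have hne : (j : ℕ) ≠ 2 * m := fun h => hj (Fin.ext (by simpa using h))
        omega
      rw [tri_apply]
      have h1 : ¬ ((Fin.castSucc j : Fin (2 * m + 2)) : ℕ)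
          = ((Fin.last (2 * m + 1) : Fin (2 * m + 2)) : ℕ) + 1 := by
        simp; omega
      have h2 : ¬ ((Fin.last (2 * m + 1) : Fin (2 * m + 2)) : ℕ)
          = ((Fin.castSucc j : Fin (2 * m + 2)) : ℕ) + 1 := by
        simp; omega
      rw [if_neg h1, if_neg h2]
      simp
    · intro h; exact absurd (Finset.mem_univ _) h

/-- superdiagonal after deleting index `i` -/
def lamDel (lam : ℕ → R) (i : ℕ) : ℕ → R :=
  fun a => if a + 1 < i then lam a else if a + 1 = i then 0 else lam (a + 1)

theorem tri_submatrix_succAbove (lam : ℕ → R) (n : ℕ) (i : Fin (n + 1)) :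
    (tri lam (n + 1)).submatrix i.succAbove i.succAbove = tri (lamDel lam i) n := by
  ext a b
  have ha : ((i.succAbove a : Fin (n + 1)) : ℕ) = if (a : ℕ) < i then (a : ℕ) else a + 1 := by
    rw [Fin.succAbove]
    split_ifs with h1 h2 h2
    · simp
    · exact absurd (by simpa [Fin.lt_def] using h1) h2
    · exact absurd (by simpa [Fin.lt_def] using h2) h1
    · simp
  have hb : ((i.succAbove b : Fin (n + 1)) : ℕ) = if (b : ℕ) < i then (b : ℕ) else b + 1 := by
    rw [Fin.succAbove]
    split_ifs with h1 h2 h2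
    · simp
    · exact absurd (by simpa [Fin.lt_def] using h1) h2
    · exact absurd (by simpa [Fin.lt_def] using h2) h1
    · simp
  rw [Matrix.submatrix_apply, tri_apply, tri_apply, ha, hb]
  unfold lamDel
  split_ifs <;> first | rfl | (exfalso; omega) | simp

end Groth.Agent.Lib.Pfaff75
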