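import Groth.Agent.Lib.PhRefine68
import Mathlib.AlgebraicGeometry.PullbackCarrier

/-!
# ph coverings: the key refinement lemma (helper68)

* `isStandardPh_pullback₁`: base change of a standard ph covering to an affine scheme (helper12's
  proof of S7478, repeated here to keep the library self-contained).
* `exists_standardPh_refinesOver`: if `E` is a ph covering of `T` and `g : T' ⟶ T` with `T'`
  affine, some standard ph covering of `T'` refines the base change of `E` (the analogue for ph of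
  helper12's `HTopBasic.exists_standardV_refinesOver`; uses Stacks 0DBG from `Lib/PhRefine68`).
* `isPhCover_pullback₁`, `isPhCover_bind`.
-/

set_option autoImplicit false
universe w w' u
open CategoryTheory CategoryTheory.Limits AlgebraicGeometry TopologicalSpace HTop

namespace Groth.Agent.Lib.PhCover68

open Groth.Agent.Lib.PhRefine68

/-- The base change of a standard ph covering along a morphism from an affine scheme is a standard
ph covering (helper12, S7478). -/
theorem isStandardPh_pullback₁ {T T' : Scheme.{u}} [IsAffine T'] (g : T' ⟶ T)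
    (E : PreZeroHypercover.{w} T) (hE : IsStandardPh E) : IsStandardPh (E.pullback₁ g) := by
  have hT : IsAffine T := hE.isAffine
  have hfin : Finite E.I₀ := hE.finite_index
  have haff : ∀ j, IsAffine (E.X j) := hE.isAffine_obj
  obtain ⟨U, f, ι, hprop, hsurj, hopen, hfac, hcov⟩ := hE.exists_proper
  let ι' : ∀ j : E.I₀, pullback g (E.f j) ⟶ pullback g f := fun j =>
    pullback.map g (E.f j) g f (𝟙 _) (ι j) (𝟙 _) (by simp) (by simp [hfac j])
  have h1 : ∀ j : E.I₀, IsOpenImmersion (ι' j) := fun j => by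
    have := hopen j
    change IsOpenImmersion (pullback.map g (E.f j) g f (𝟙 _) (ι j) (𝟙 _) _ _)
    infer_instance
  have h2 : ∀ j : E.I₀, ι' j ≫ pullback.fst g f = pullback.fst g (E.f j) := fun j => by
    change pullback.map g (E.f j) g f (𝟙 _) (ι j) (𝟙 _) _ _ ≫ pullback.fst g f = pullback.fst _ _
    rw [pullback.lift_fst, Category.comp_id]
  have h3 : ∀ x : ↑(pullback g f), ∃ j : E.I₀, x ∈ Set.range (ι' j).base := fun x => by
    obtain ⟨j, hj⟩ := hcov (pullback.snd g f x)
    refine ⟨j, ?_⟩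
    change x ∈ Set.range ⇑(pullback.map g (E.f j) g f (𝟙 _) (ι j) (𝟙 _) _ _)
    rw [Scheme.Pullback.range_map]
    refine ⟨?_, hj⟩
    simp
  refine ⟨inferInstance, hfin, fun j => ?_, ?_⟩
  · change IsAffine (pullback g (E.f j))
    infer_instance
  · exact ⟨pullback g f, pullback.fst g f, ι', inferInstance, inferInstance, h1, h2, h3⟩

/-- Key refinement lemma: if `E` is a ph covering of `T` and `g : T' ⟶ T` with `T'` affine, there
is a standard ph covering of `T'` (indexed in universe 0) refining the base change of `E`. -/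
theorem exists_standardPh_refinesOver {T T' : Scheme.{u}} [IsAffine T'] (g : T' ⟶ T)
    (E : PreZeroHypercover.{w} T) (hE : IsPhCover E) :
    ∃ F : PreZeroHypercover.{0} T', IsStandardPh F ∧ RefinesOver g F E := by
  classical
  -- affine opens `V l ⊆ T'` mapping into affine opens `U l ⊆ T`
  obtain ⟨m, V, pt, hV, hVcov, hP⟩ := exists_fin_affine_family (V := T')
    (fun v A => ∃ U : T.Opens, IsAffineOpen U ∧ A ≤ g ⁻¹ᵁ U) (fun v => by
      obtain ⟨U, hU, hx, -⟩ :=
        exists_isAffineOpen_mem_and_subset (X := T) (x := g v) (U := ⊤) trivial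
      obtain ⟨A, hA, hvA, hle⟩ :=
        exists_isAffineOpen_mem_and_subset (X := T') (x := v) (U := g ⁻¹ᵁ U) hx
      exact ⟨A, hA, hvA, U, hU, hle⟩)
  choose U hU hVU using hP
  -- standard ph coverings of the `U l`
  have h3 : ∀ l : Fin m, ∃ F : PreZeroHypercover.{0} ((U l : T.Opens) : Scheme.{u}),
      IsStandardPh F ∧ RefinesOver (U l).ι F E := fun l => hE.2 ⟨U l, hU l⟩
  choose F hFstd hFref using h3
  let gl : ∀ l : Fin m, ((V l : T'.Opens) : Scheme.{u}) ⟶ ((U l : T.Opens) : Scheme.{u}) :=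
    fun l => g.resLE (U l) (V l) (hVU l)
  have hgl : ∀ l, gl l ≫ (U l).ι = (V l).ι ≫ g := fun l => Scheme.Hom.resLE_comp_ι _ _
  let 𝒱 : PreZeroHypercover.{0} T' :=
    { I₀ := Fin m, X := fun l => ((V l : T'.Opens) : Scheme.{u}), f := fun l => (V l).ι }
  have h𝒱 : IsStandardPh 𝒱 := isStandardPh_of_opens V hV hVcov
  let H : ∀ l : 𝒱.I₀, PreZeroHypercover.{0} (𝒱.X l) := fun l => (F l).pullback₁ (gl l)
  have hH : ∀ l, IsStandardPh (H l) := fun l => by
    have : IsAffine ((V l : T'.Opens) : Scheme.{u}) := hV l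
    exact isStandardPh_pullback₁ (gl l) (F l) (hFstd l)
  obtain ⟨F', hF', ⟨φ⟩⟩ := exists_refine_bind 𝒱 h𝒱 H hH
  have hφ : ∀ a : F'.I₀, ∃ (l : Fin m) (j : (F l).I₀)
      (b : F'.X a ⟶ pullback (gl l) ((F l).f j)),
      b ≫ pullback.fst (gl l) ((F l).f j) ≫ (V l).ι = F'.f a :=
    fun a => ⟨(φ.s₀ a).1, (φ.s₀ a).2, φ.h₀ a, φ.w₀ a⟩
  refine ⟨F', hF', fun a => ?_⟩
  obtain ⟨l, j, b, hb⟩ := hφ a
  obtain ⟨i, h', hh'⟩ := hFref l j
  refine ⟨i, b ≫ pullback.snd (gl l) ((F l).f j) ≫ h', ?_⟩
  rw [Category.assoc, Category.assoc, hh', ← hb, ← Category.assoc (pullback.snd _ _),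
    ← pullback.condition, Category.assoc, hgl, Category.assoc, Category.assoc]

/-- ph coverings are stable under base change. -/
theorem isPhCover_pullback₁ {T T' : Scheme.{u}} (g : T' ⟶ T) (E : PreZeroHypercover.{w} T)
    (hE : IsPhCover E) : IsPhCover (E.pullback₁ g) := by
  refine ⟨fun i => ?_, fun U' => ?_⟩
  · have := hE.1 i
    change LocallyOfFiniteType (pullback.fst g (E.f i))
    infer_instance
  · have hU' : IsAffine ((U' : T'.Opens) : Scheme.{u}) := U'.2
    obtain ⟨F, hF, href⟩ := exists_standardPh_refinesOver ((U' : T'.Opens).ι ≫ g) E hE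
    refine ⟨F, hF, ?_⟩
    intro j
    obtain ⟨i, h, hh⟩ := href j
    refine ⟨i, (pullback.lift (F.f j ≫ (U' : T'.Opens).ι) h
      (by rw [hh, Category.assoc]) : F.X j ⟶ pullback g (E.f i)), ?_⟩
    exact pullback.lift_fst _ _ _

/-- A composite of ph coverings is a ph covering. -/
theorem isPhCover_bind {T : Scheme.{u}} (E : PreZeroHypercover.{w} T) (hE : IsPhCover E)
    (F : ∀ i, PreZeroHypercover.{w'} (E.X i)) (hF : ∀ i, IsPhCover (F i)) :
    IsPhCover (E.bind F) := by
  refine ⟨fun ij => ?_, fun U => ?_⟩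
  · have := hE.1 ij.1
    have := (hF ij.1).1 ij.2
    change LocallyOfFiniteType ((F ij.1).f ij.2 ≫ E.f ij.1)
    infer_instance
  · obtain ⟨G, hG, href⟩ := hE.2 U
    choose idx h hh using href
    have h1 : ∀ j : G.I₀, ∃ H : PreZeroHypercover.{0} (G.X j),
        IsStandardPh H ∧ RefinesOver (h j) H (F (idx j)) := fun j => by
      have : IsAffine (G.X j) := hG.isAffine_obj j
      exact exists_standardPh_refinesOver (h j) (F (idx j)) (hF (idx j))
    choose H hH hHref using h1
    obtain ⟨F', hF', ⟨φ⟩⟩ := exists_refine_bind G hG H hH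
    have hφ : ∀ a : F'.I₀, ∃ (j : G.I₀) (l : (H j).I₀) (b : F'.X a ⟶ (H j).X l),
        b ≫ (H j).f l ≫ G.f j = F'.f a :=
      fun a => ⟨(φ.s₀ a).1, (φ.s₀ a).2, φ.h₀ a, φ.w₀ a⟩
    refine ⟨F', hF', fun a => ?_⟩
    obtain ⟨j, l, b, hb⟩ := hφ a
    obtain ⟨i', h', hh'⟩ := hHref j l
    refine ⟨⟨idx j, i'⟩, b ≫ h', ?_⟩
    change (b ≫ h') ≫ (F (idx j)).f i' ≫ E.f (idx j) = F'.f a ≫ (U : T.Opens).ι
    rw [Category.assoc, ← Category.assoc h', hh', Category.assoc, hh j, ← hb, Category.assoc,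
      Category.assoc]

end Groth.Agent.Lib.PhCover68
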