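import Groth.Agent.Lib.FinExt
import Mathlib

/-!
# Refinements by finite surjective morphisms plus Zariski coverings (helper33)

For a family `E` of morphisms to `T` and a morphism `c : X ⟶ T`, `Good E c` says that there is a
finite surjective `p : P ⟶ X` such that `P` is covered by opens on which `p ≫ c` factors through a
member of `E`.  We show this is local on quasi-compact quasi-separated `X` (`good_of_local`), using
the extension of finite morphisms from quasi-compact opens (helper34's `FinExt`).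
-/

set_option autoImplicit false
universe w u

open CategoryTheory AlgebraicGeometry Limits

namespace Groth.Agent.Lib.PhRefine33

variable {T : Scheme.{u}} (E : PreZeroHypercover.{w} T)

/-- `c` is refined by a finite surjective morphism followed by a Zariski covering, subordinate to
`E`. -/
def Good {X : Scheme.{u}} (c : X ⟶ T) : Prop :=
  ∃ (P : Scheme.{u}) (p : P ⟶ X), IsFinite p ∧ Surjective p ∧
    ∀ y : P, ∃ (W : P.Opens) (i : E.I₀) (h : (W : Scheme.{u}) ⟶ E.X i), y ∈ W ∧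
      h ≫ E.f i = W.ι ≫ p ≫ c

/-- As `Good`, but factorizations are only required over the subset `O` of `X`. -/
def GoodOver {X : Scheme.{u}} (c : X ⟶ T) (O : Set X) : Prop :=
  ∃ (P : Scheme.{u}) (p : P ⟶ X), IsFinite p ∧ Surjective p ∧
    ∀ y : P, p y ∈ O → ∃ (W : P.Opens) (i : E.I₀) (h : (W : Scheme.{u}) ⟶ E.X i), y ∈ W ∧
      h ≫ E.f i = W.ι ≫ p ≫ c

variable {E}

theorem Good.of_factor {X : Scheme.{u}} {c : X ⟶ T} (i : E.I₀) (h : X ⟶ E.X i)
    (hh : h ≫ E.f i = c) : Good E c := by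
  refine ⟨X, 𝟙 X, inferInstance, inferInstance, fun y => ⟨⊤, i, (⊤ : X.Opens).ι ≫ h, trivial, ?_⟩⟩
  rw [Category.assoc, hh, Category.id_comp]

theorem Good.of_finite {X Y : Scheme.{u}} {c : X ⟶ T} (q : Y ⟶ X) [IsFinite q] [Surjective q]
    (h : Good E (q ≫ c)) : Good E c := by
  obtain ⟨P, p, hp, hps, hloc⟩ := h
  refine ⟨P, p ≫ q, inferInstance, inferInstance, fun y => ?_⟩
  obtain ⟨W, i, h, hy, hh⟩ := hloc y
  exact ⟨W, i, h, hy, by rw [hh, Category.assoc]⟩

theorem Good.precomp {X X' : Scheme.{u}} {c : X ⟶ T} (b : X' ⟶ X) (h : Good E c) :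
    Good E (b ≫ c) := by
  obtain ⟨P, p, hp, hps, hloc⟩ := h
  refine ⟨pullback p b, pullback.snd p b, inferInstance, inferInstance, fun y => ?_⟩
  obtain ⟨W, i, h, hy, hh⟩ := hloc (pullback.fst p b y)
  refine ⟨pullback.fst p b ⁻¹ᵁ W, i, (pullback.fst p b ∣_ W) ≫ h, hy, ?_⟩
  rw [Category.assoc, hh, morphismRestrict_ι_assoc, pullback.condition_assoc]

theorem goodOver_empty {X : Scheme.{u}} (c : X ⟶ T) : GoodOver E c ∅ :=
  ⟨X, 𝟙 X, inferInstance, inferInstance, fun _ hy => hy.elim⟩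

theorem GoodOver.good {X : Scheme.{u}} {c : X ⟶ T} {O : Set X} (h : GoodOver E c O)
    (hO : O = Set.univ) : Good E c := by
  obtain ⟨P, p, hp, hps, hloc⟩ := h
  exact ⟨P, p, hp, hps, fun y => hloc y (hO ▸ Set.mem_univ _)⟩

theorem GoodOver.union {X : Scheme.{u}} {c : X ⟶ T} {O₁ O₂ : Set X} (h₁ : GoodOver E c O₁)
    (h₂ : GoodOver E c O₂) : GoodOver E c (O₁ ∪ O₂) := by
  obtain ⟨P₁, p₁, hp₁, hps₁, hloc₁⟩ := h₁
  obtain ⟨P₂, p₂, hp₂, hps₂, hloc₂⟩ := h₂
  refine ⟨pullback p₁ p₂, pullback.fst p₁ p₂ ≫ p₁, inferInstance, inferInstance, fun y hy => ?_⟩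
  rcases hy with hy | hy
  · rw [Scheme.Hom.comp_apply] at hy
    obtain ⟨W, i, h, hyW, hh⟩ := hloc₁ _ hy
    refine ⟨pullback.fst p₁ p₂ ⁻¹ᵁ W, i, (pullback.fst p₁ p₂ ∣_ W) ≫ h, hyW, ?_⟩
    rw [Category.assoc, hh, morphismRestrict_ι_assoc, Category.assoc]
  · rw [pullback.condition, Scheme.Hom.comp_apply] at hy
    obtain ⟨W, i, h, hyW, hh⟩ := hloc₂ _ hy
    refine ⟨pullback.snd p₁ p₂ ⁻¹ᵁ W, i, (pullback.snd p₁ p₂ ∣_ W) ≫ h, hyW, ?_⟩
    rw [Category.assoc, hh, morphismRestrict_ι_assoc, Category.assoc,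
      pullback.condition_assoc]

theorem exists_of_isPullback {P X Y Z : Scheme.{u}} {fst : P ⟶ X} {snd : P ⟶ Y} {f : X ⟶ Z}
    {g : Y ⟶ Z} (h : IsPullback fst snd f g) (x : X) (y : Y) (hxy : f x = g y) :
    ∃ p : P, fst p = x ∧ snd p = y := by
  obtain ⟨z, hz1, hz2⟩ := Scheme.Pullback.exists_preimage_pullback x y hxy
  refine ⟨h.isoPullback.inv z, ?_, ?_⟩
  · rw [← Scheme.Hom.comp_apply, h.isoPullback_inv_fst, hz1]
  · rw [← Scheme.Hom.comp_apply, h.isoPullback_inv_snd, hz2]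

/-- Extension from a quasi-compact open. -/
theorem GoodOver.of_good_open {X : Scheme.{u}} [CompactSpace X] [QuasiSeparatedSpace X]
    {c : X ⟶ T} (V : X.Opens) (hV : IsCompact (V : Set X)) (h : Good E (V.ι ≫ c)) :
    GoodOver E c (V : Set X) := by
  obtain ⟨P₀, p₀, hp₀, hps₀, hloc₀⟩ := h
  obtain ⟨P, p, k, hps, hp, hpb⟩ := FinExt.exists_finite_surjective_extension V hV p₀
  have hk : IsOpenImmersion k := MorphismProperty.of_isPullback (P := @IsOpenImmersion) hpb.flip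
    inferInstance
  refine ⟨P, p, hp, hps, fun y hy => ?_⟩
  obtain ⟨y₀, hy₀, -⟩ := exists_of_isPullback hpb y ⟨p y, hy⟩ rfl
  obtain ⟨W₀, i, h₀, hyW₀, hh₀⟩ := hloc₀ y₀
  refine ⟨k ''ᵁ W₀, i, (k.isoImage W₀).inv ≫ h₀, ⟨y₀, hyW₀, hy₀⟩, ?_⟩
  rw [Category.assoc, hh₀, ← Category.assoc p₀, ← hpb.w, Category.assoc,
    Scheme.Hom.isoImage_inv_ι_assoc]

/-- `Good` is local on a quasi-compact quasi-separated source. -/
theorem good_of_local {X : Scheme.{u}} [CompactSpace X] [QuasiSeparatedSpace X] (c : X ⟶ T)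
    (h : ∀ x : X, ∃ V : X.Opens, x ∈ V ∧ Good E (V.ι ≫ c)) : Good E c := by
  classical
  have h' : ∀ x : X, ∃ V : X.Opens, IsAffineOpen V ∧ x ∈ V ∧ Good E (V.ι ≫ c) := by
    intro x
    obtain ⟨V, hxV, hV⟩ := h x
    obtain ⟨V', hV', hxV', hle⟩ := exists_isAffineOpen_mem_and_subset hxV
    refine ⟨V', hV', hxV', ?_⟩
    have := hV.precomp (X.homOfLE hle)
    rwa [Scheme.homOfLE_ι_assoc] at this
  choose V hVaff hxV hVgood using h'
  obtain ⟨t, ht⟩ := isCompact_univ.elim_finite_subcover (fun x => (V x : Set X))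
    (fun x => (V x).isOpen) (fun x _ => Set.mem_iUnion.mpr ⟨x, hxV x⟩)
  have key : ∀ t : Finset X, GoodOver E c (⋃ x ∈ t, (V x : Set X)) := by
    intro t
    induction t using Finset.induction_on with
    | empty => simpa using goodOver_empty (E := E) c
    | insert a t _ ih =>
      rw [Finset.set_biUnion_insert]
      exact (GoodOver.of_good_open (V a) (hVaff a).isCompact (hVgood a)).union ih
  exact (key t).good (Set.eq_univ_of_univ_subset ht)

/-- If `T` is covered by open immersions `j` with `Good E j`, then every morphism from a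
quasi-compact quasi-separated scheme is good. -/
theorem good_of_cover (hT : ∀ s : T, ∃ (Y : Scheme.{u}) (j : Y ⟶ T), IsOpenImmersion j ∧
    s ∈ Set.range ⇑j ∧ Good E j) {X : Scheme.{u}} [CompactSpace X] [QuasiSeparatedSpace X]
    (c : X ⟶ T) : Good E c := by
  apply good_of_local
  intro x
  obtain ⟨Y, j, hj, hs, hgood⟩ := hT (c x)
  refine ⟨c ⁻¹ᵁ j.opensRange, hs, ?_⟩
  have hle : Set.range ⇑((c ⁻¹ᵁ j.opensRange).ι ≫ c) ⊆ Set.range ⇑j := by
    rintro _ ⟨z, rfl⟩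
    rw [Scheme.Hom.comp_apply]
    exact z.2
  have := hgood.precomp (IsOpenImmersion.lift j ((c ⁻¹ᵁ j.opensRange).ι ≫ c) hle)
  rwa [IsOpenImmersion.lift_fac] at this

end Groth.Agent.Lib.PhRefine33
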