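import Mathlib
import Groth.Agent.Lib.SrcLocalRing

/-!
# Finite free splitting algebras of monic polynomials, and roots vs. standard étale algebras

* `exists_splitting_algebra`: for a monic `f : R[X]` there is a finite free `R`-algebra `T`
  (with `R → T` injective) over which `f` is a product of linear factors.
* `exists_root_lift`: if `P` is a standard étale pair over `R`, `T` an `R`-algebra over which `P.f`
  splits with roots `l`, then for primes `𝔓` of `T` and `q` of `P.Ring` over the same prime of `R`
  there are a root `a ∈ l` and a prime `𝔓'` of `T[1/g(a)]` over `𝔓` whose pull back along the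
  `R`-algebra map `P.Ring → T[1/g(a)]`, `X ↦ a` is `q`.
-/

universe u

open Polynomial TensorProduct

namespace Groth.Agent.Lib.SplitAlg61

theorem of_injective_of_monic {R : Type*} [CommRing R] [Nontrivial R] {f : R[X]} (hf : f.Monic)
    (hd : 0 < f.natDegree) : Function.Injective (AdjoinRoot.of f) := by
  rw [injective_iff_map_eq_zero]
  intro r hr
  by_contra hne
  have h1 : AdjoinRoot.mk f (C r) = 0 := hr
  rw [AdjoinRoot.mk_eq_zero] at h1
  have hC : (C r : R[X]) ≠ 0 := by simpa using hne
  exact hf.not_dvd_of_natDegree_lt hC (by simpa using hd) h1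

theorem exists_splitting_algebra (n : ℕ) : ∀ (R : Type u) [CommRing R] (f : R[X]), f.Monic →
    f.natDegree = n →
    ∃ (T : Type u) (_ : CommRing T) (_ : Algebra R T), Module.Free R T ∧ Module.Finite R T ∧
      Function.Injective (algebraMap R T) ∧
      ∃ l : List T, f.map (algebraMap R T) = (l.map (fun a => X - C a)).prod := by
  induction n with
  | zero =>
    intro R _ f hf hn
    refine ⟨R, inferInstance, inferInstance, inferInstance, inferInstance, fun _ _ h => h, [], ?_⟩
    have : f = 1 := hf.natDegree_eq_zero.mp hn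
    simp [this]
  | succ n ih =>
    intro R _ f hf hn
    rcases subsingleton_or_nontrivial R with hR | hR
    · refine ⟨R, inferInstance, inferInstance, inferInstance, inferInstance, fun _ _ h => h, [], ?_⟩
      exact Subsingleton.elim _ _
    · have hinj : Function.Injective (algebraMap R (AdjoinRoot f)) :=
        of_injective_of_monic hf (by omega)
      have : Nontrivial (AdjoinRoot f) := hinj.nontrivial
      have hfree : Module.Free R (AdjoinRoot f) := hf.free_adjoinRoot
      have hfin : Module.Finite R (AdjoinRoot f) := hf.finite_adjoinRoot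
      set r := AdjoinRoot.root f with hr
      set f₁ := f.map (algebraMap R (AdjoinRoot f)) with hf₁
      have hroot : IsRoot f₁ r := AdjoinRoot.isRoot_root f
      have hmul : (X - C r) * (f₁ /ₘ (X - C r)) = f₁ := mul_divByMonic_eq_iff_isRoot.mpr hroot
      have hf₁m : f₁.Monic := hf.map _
      have hqm : (f₁ /ₘ (X - C r)).Monic :=
        Monic.of_mul_monic_left (monic_X_sub_C r) (by rw [hmul]; exact hf₁m)
      have hqd : (f₁ /ₘ (X - C r)).natDegree = n := by
        rw [natDegree_divByMonic _ (monic_X_sub_C r), natDegree_X_sub_C, hf₁, hf.natDegree_map, hn]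
        rfl
      obtain ⟨T, _, _, hTfree, hTfin, hTinj, l, hl⟩ := ih (AdjoinRoot f) _ hqm hqd
      let _ : Algebra R T := ((algebraMap (AdjoinRoot f) T).comp (algebraMap R (AdjoinRoot f))).toAlgebra
      have : IsScalarTower R (AdjoinRoot f) T := IsScalarTower.of_algebraMap_eq (fun _ => rfl)
      refine ⟨T, inferInstance, inferInstance, Module.Free.trans (S := AdjoinRoot f), Module.Finite.trans (AdjoinRoot f) T,
        hTinj.comp hinj, algebraMap (AdjoinRoot f) T r :: l, ?_⟩
      have h1 : f.map (algebraMap R T) = f₁.map (algebraMap (AdjoinRoot f) T) := by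
        rw [hf₁, Polynomial.map_map]; rfl
      rw [h1, ← hmul, Polynomial.map_mul, hl]
      simp

theorem exists_root_lift {R T : Type u} [CommRing R] [CommRing T] [Algebra R T]
    (P : StandardEtalePair R) (l : List T)
    (hl : P.f.map (algebraMap R T) = (l.map (fun a => X - C a)).prod)
    (𝔓 : PrimeSpectrum T) (q : PrimeSpectrum P.Ring)
    (h : 𝔓.comap (algebraMap R T) = q.comap (algebraMap R P.Ring)) :
    ∃ a ∈ l, ∃ (hmap : P.HasMap (algebraMap T (Localization.Away (aeval a P.g)) a))
      (𝔓' : PrimeSpectrum (Localization.Away (aeval a P.g))),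
      𝔓'.comap (algebraMap T (Localization.Away (aeval a P.g))) = 𝔓 ∧
        𝔓'.comap (P.lift _ hmap).toRingHom = q := by
  obtain ⟨Q, hQ1, hQ2⟩ := Groth.Agent.Lib.SrcLocalRing.exists_prime_tensorProduct (R := R) 𝔓 q h
  have hQp : Q.asIdeal.IsPrime := Q.isPrime
  let D := (T ⊗[R] P.Ring) ⧸ Q.asIdeal
  let σ : T →ₐ[R] D := (Ideal.Quotient.mkₐ R Q.asIdeal).comp Algebra.TensorProduct.includeLeft
  let τ : P.Ring →ₐ[R] D := (Ideal.Quotient.mkₐ R Q.asIdeal).comp Algebra.TensorProduct.includeRight
  have hσker : ∀ x : T, σ x = 0 ↔ x ∈ 𝔓.asIdeal := by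
    intro x
    rw [← hQ1]
    change Ideal.Quotient.mk Q.asIdeal (x ⊗ₜ 1) = 0 ↔ _
    rw [Ideal.Quotient.eq_zero_iff_mem]
    rfl
  have hτker : ∀ x : P.Ring, τ x = 0 ↔ x ∈ q.asIdeal := by
    intro x
    rw [← hQ2]
    change Ideal.Quotient.mk Q.asIdeal (1 ⊗ₜ x) = 0 ↔ _
    rw [Ideal.Quotient.eq_zero_iff_mem]
    rfl
  -- the image of `X` is one of the roots
  have h0 : aeval (τ P.X) P.f = 0 := by
    rw [aeval_algHom_apply, P.hasMap_X.1, map_zero]
  have h1 : (P.f.map (algebraMap R D)) = (l.map (fun a => X - C (σ a))).prod := by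
    have : algebraMap R D = (σ : T →+* D).comp (algebraMap R T) := by
      ext x; exact (σ.commutes x).symm
    rw [this, ← Polynomial.map_map, hl, Polynomial.map_list_prod, List.map_map]
    congr 1
    apply List.map_congr_left
    intro a _
    simp
  have h2 : ((l.map (fun a => X - C (σ a))).prod).eval (τ P.X) = 0 := by
    rw [← h1, eval_map_algebraMap, h0]
  rw [eval_list_prod, List.prod_eq_zero_iff, List.map_map] at h2
  obtain ⟨a, hal, ha⟩ := List.mem_map.mp h2
  have ha' : τ P.X = σ a := by
    simpa [sub_eq_zero] using ha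
  refine ⟨a, hal, ?_⟩
  -- `g(a)` becomes a unit in `D`
  have hunit : IsUnit (σ (aeval a P.g)) := by
    rw [← aeval_algHom_apply, ← ha', aeval_algHom_apply]
    exact P.hasMap_X.2.map τ
  have hmap : P.HasMap (algebraMap T (Localization.Away (aeval a P.g)) a) := by
    constructor
    · have : aeval a P.f = 0 := by
        rw [← eval_map_algebraMap, hl, eval_list_prod]
        apply List.prod_eq_zero
        rw [List.map_map]
        exact List.mem_map.mpr ⟨a, hal, by simp⟩
      rw [aeval_algebraMap_apply, this, map_zero]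
    · rw [aeval_algebraMap_apply]
      exact IsLocalization.Away.algebraMap_isUnit (aeval a P.g)
  refine ⟨hmap, ?_⟩
  let γ₀ : Localization.Away (aeval a P.g) →+* D :=
    IsLocalization.Away.lift (aeval a P.g) (g := (σ : T →+* D)) hunit
  have hγ₀ : ∀ x : T, γ₀ (algebraMap T _ x) = σ x := fun x =>
    IsLocalization.Away.lift_eq (aeval a P.g) (g := (σ : T →+* D)) hunit x
  let γ : Localization.Away (aeval a P.g) →ₐ[R] D :=
    { γ₀ with
      commutes' := fun x => by
        change γ₀ (algebraMap R (Localization.Away (aeval a P.g)) x) = _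
        rw [IsScalarTower.algebraMap_apply R T (Localization.Away (aeval a P.g)), hγ₀]
        exact σ.commutes x }
  have hγτ : γ.comp (P.lift _ hmap) = τ := by
    apply StandardEtalePair.hom_ext
    rw [AlgHom.comp_apply, P.lift_X, ha']
    exact hγ₀ a
  have hprime : (RingHom.ker (γ : Localization.Away (aeval a P.g) →+* D)).IsPrime :=
    RingHom.ker_isPrime _
  refine ⟨⟨RingHom.ker (γ : Localization.Away (aeval a P.g) →+* D), hprime⟩, ?_, ?_⟩
  · ext x
    change γ (algebraMap T _ x) = 0 ↔ _
    rw [← hσker]
    exact (hγ₀ x) ▸ Iff.rfl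
  · ext x
    change γ ((P.lift _ hmap) x) = 0 ↔ _
    rw [← hτker, ← hγτ]
    rfl

end Groth.Agent.Lib.SplitAlg61
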