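import Mathlib
import Groth.Agent.Lib.SplitAlg61

/-!
# Étale neighbourhoods are dominated by finite free covers (ring level), Stacks 02LH
-/

universe u

open Polynomial TensorProduct

namespace Groth.Agent.Lib.SplitAlg61

/-- Ring level form of Stacks 02LH. -/
theorem exists_cover_ring (R A : Type u) [CommRing R] [CommRing A] [Algebra R A]
    [Algebra.Etale R A] (pA : PrimeSpectrum A) :
    ∃ (T : Type u) (_ : CommRing T) (_ : Algebra R T), Module.Free R T ∧ Module.Finite R T ∧
      Function.Injective (algebraMap R T) ∧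
      ∀ 𝔓 : PrimeSpectrum T, 𝔓.comap (algebraMap R T) = pA.comap (algebraMap R A) →
        ∃ (b : T) (ψ : A →ₐ[R] Localization.Away b) (𝔓' : PrimeSpectrum (Localization.Away b)),
          𝔓'.comap (algebraMap T (Localization.Away b)) = 𝔓 ∧ 𝔓'.comap ψ.toRingHom = pA := by
  have hpA : pA.asIdeal.IsPrime := pA.isPrime
  have : Algebra.FormallyEtale A (Localization.AtPrime pA.asIdeal) :=
    Algebra.FormallyEtale.of_isLocalization pA.asIdeal.primeCompl
  have : Algebra.IsEtaleAt R pA.asIdeal :=
    Algebra.FormallyEtale.comp R A (Localization.AtPrime pA.asIdeal)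
  obtain ⟨a, haQ, hst⟩ := Algebra.IsEtaleAt.exists_isStandardEtale (R := R) pA.asIdeal
  obtain ⟨Pres⟩ := hst.nonempty_standardEtalePresentation
  obtain ⟨T, _, _, hTfree, hTfin, hTinj, l, hl⟩ :=
    exists_splitting_algebra _ R Pres.P.f Pres.P.monic_f rfl
  refine ⟨T, inferInstance, inferInstance, hTfree, hTfin, hTinj, ?_⟩
  intro 𝔓 h𝔓
  -- the prime of `A_a` over `pA`
  have hmem : pA ∈ Set.range (PrimeSpectrum.comap (algebraMap A (Localization.Away a))) := by
    rw [PrimeSpectrum.localization_away_comap_range (Localization.Away a) a]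
    exact haQ
  obtain ⟨pA', hpA'⟩ := hmem
  let q : PrimeSpectrum Pres.P.Ring := pA'.comap (Pres.equivRing.symm : Pres.P.Ring →+* Localization.Away a)
  have hq : 𝔓.comap (algebraMap R T) = q.comap (algebraMap R Pres.P.Ring) := by
    rw [h𝔓, ← hpA']
    change _ = (pA'.comap _).comap _
    rw [← PrimeSpectrum.comap_comp_apply, ← PrimeSpectrum.comap_comp_apply]
    congr 1
    ext x
    simp only [RingHom.comp_apply]
    rw [← IsScalarTower.algebraMap_apply R A (Localization.Away a)]
    exact (Pres.equivRing.symm.commutes x).symm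
  obtain ⟨r, -, hmap, 𝔓', h1, h2⟩ := exists_root_lift Pres.P l hl 𝔓 q hq
  let ψ : A →ₐ[R] Localization.Away (aeval r Pres.P.g) :=
    ((Pres.P.lift _ hmap).comp Pres.equivRing.toAlgHom).comp
      (IsScalarTower.toAlgHom R A (Localization.Away a))
  refine ⟨aeval r Pres.P.g, ψ, 𝔓', h1, ?_⟩
  rw [← hpA']
  have e1 : 𝔓'.comap ψ.toRingHom =
      ((𝔓'.comap (Pres.P.lift _ hmap).toRingHom).comap
        (Pres.equivRing : Localization.Away a →+* Pres.P.Ring)).comap
          (algebraMap A (Localization.Away a)) := by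
    rw [← PrimeSpectrum.comap_comp_apply, ← PrimeSpectrum.comap_comp_apply]
    rfl
  rw [e1, h2]
  congr 1
  change (pA'.comap _).comap _ = pA'
  rw [← PrimeSpectrum.comap_comp_apply]
  have : ((Pres.equivRing.symm : Pres.P.Ring →+* Localization.Away a).comp
      (Pres.equivRing : Localization.Away a →+* Pres.P.Ring)) = RingHom.id _ := by
    ext x; simp
  rw [this]
  rfl

end Groth.Agent.Lib.SplitAlg61
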