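import Groth.Agent.Lib.PhRefine33
import Groth.Agent.S7198
import Mathlib

/-!
# fppf coverings are refined by finite surjective + Zariski (helper33)
-/

set_option autoImplicit false
universe w u

open CategoryTheory AlgebraicGeometry Limits

namespace Groth.Agent.Lib.PhRefine33

variable {T : Scheme.{u}} {E : PreZeroHypercover.{w} T}

theorem surjective_morphismRestrict {X Y : Scheme.{u}} (f : X ⟶ Y) [Surjective f] (U : Y.Opens) :
    Surjective (f ∣_ U) := by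
  constructor
  rintro ⟨y, hy⟩
  obtain ⟨t, rfl⟩ := f.surjective y
  refine ⟨⟨t, hy⟩, ?_⟩
  apply U.ι.isOpenEmbedding.injective
  rw [← Scheme.Hom.comp_apply, morphismRestrict_ι]
  rfl

theorem exists_good_nbhd (hflat : ∀ i, Flat (E.f i))
    (hfp : ∀ i, LocallyOfFinitePresentation (E.f i))
    (hsurj : ∀ t : T, ∃ (i : E.I₀) (x : E.X i), E.f i x = t) (s : T) :
    ∃ (Y : Scheme.{u}) (j : Y ⟶ T), IsOpenImmersion j ∧ s ∈ Set.range ⇑j ∧ Good E j := by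
  obtain ⟨U, W, π, hsU, ⟨hπf, hπfl, hπfp⟩, hπs, hloc⟩ :=
    Groth.Agent.S7198.result E hflat hfp hsurj s
  have hA : ∀ w : W, ∃ W' : W.Opens, w ∈ W' ∧ Good E (W'.ι ≫ π ≫ U.ι) := by
    intro w
    obtain ⟨W', T', ρ, i, r, hw, ⟨hρf, -, -⟩, hρs, hr⟩ := hloc w
    exact ⟨W', hw, Good.of_finite ρ (Good.of_factor i r hr)⟩
  obtain ⟨Uα, hUα, hsUα, -⟩ := exists_isAffineOpen_mem_and_subset (X := (U : Scheme.{u}))
    (x := ⟨s, hsU⟩) (U := ⊤) trivial
  have hWα : IsAffineOpen (π ⁻¹ᵁ Uα) := hUα.preimage π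
  have hWα' : IsAffine ((π ⁻¹ᵁ Uα : W.Opens) : Scheme.{u}) := hWα
  have hB : Good E ((π ⁻¹ᵁ Uα).ι ≫ π ≫ U.ι) := by
    apply good_of_local
    intro x
    obtain ⟨W', hw, hgood⟩ := hA ((π ⁻¹ᵁ Uα).ι x)
    refine ⟨(π ⁻¹ᵁ Uα).ι ⁻¹ᵁ W', hw, ?_⟩
    have := hgood.precomp ((π ⁻¹ᵁ Uα).ι.resLE W' _ le_rfl)
    rwa [Scheme.Hom.resLE_comp_ι_assoc] at this
  refine ⟨(Uα : Scheme.{u}), Uα.ι ≫ U.ι, inferInstance, ⟨⟨⟨s, hsU⟩, hsUα⟩, rfl⟩, ?_⟩
  have hs' : Surjective (π ∣_ Uα) := surjective_morphismRestrict π Uα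
  apply Good.of_finite (π ∣_ Uα)
  rw [morphismRestrict_ι_assoc]
  exact hB

/-- **fppf coverings are refined by finite surjective morphisms plus Zariski coverings** on
quasi-compact quasi-separated schemes. -/
theorem good_of_fppf (hflat : ∀ i, Flat (E.f i))
    (hfp : ∀ i, LocallyOfFinitePresentation (E.f i))
    (hsurj : ∀ t : T, ∃ (i : E.I₀) (x : E.X i), E.f i x = t)
    {X : Scheme.{u}} [CompactSpace X] [QuasiSeparatedSpace X] (c : X ⟶ T) : Good E c :=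
  good_of_cover (exists_good_nbhd hflat hfp hsurj) c

end Groth.Agent.Lib.PhRefine33
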