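import Groth.Agent.Lib.ChowAll68
import Groth.Prelude.Def_HTop

/-!
# Refining composites of standard ph coverings (helper68)

Stacks 0DBG: over an affine base, a composite of standard ph coverings is refined by a standard
ph covering.  The proper surjective `W_j → U_j` over the members `U_j` of the affine open cover of
the proper `U → T` are extended over all of `U` using Chow's lemma (`Lib/ChowAll68.chow_general`)
and the scheme-theoretic closure in `P^n_U`; the fibre product over `U` of the extensions does the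
job.

* `mem_range_toImage`: a point of the closure lying over an open over which the immersed scheme is
  proper is a point of the immersed scheme.
* `LocFactors a O p`: near every point of the source of `p` over `O`, `p` factors through a member
  of the family `a`.
* `exists_extension`: the extension of one `W_j → U_j`.
* `exists_refine_bind`: Stacks 0DBG (2).
* `exists_refine_openCover`: Stacks 0DBG (1).
* `exists_standardPh_refinesOver`: the key refinement lemma for ph coverings.
-/

set_option autoImplicit false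
universe w w' u
open CategoryTheory CategoryTheory.Limits AlgebraicGeometry TopologicalSpace CohB1

namespace Groth.Agent.Lib.PhRefine68

/-- A point of the scheme-theoretic closure of an immersed `W ⟶ P` lying over an open `O` of the
base over which `W` is proper lies in `W`. -/
theorem mem_range_toImage {W P U : Scheme.{u}} (i : W ⟶ P) [IsImmersion i] [QuasiCompact i]
    (q : P ⟶ U) [IsSeparated q] (O : U.Opens) (ρ : W ⟶ O.toScheme) [IsProper ρ]
    (hρ : ρ ≫ O.ι = i ≫ q) (x : i.image) (hx : q (i.imageι x) ∈ O) :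
    x ∈ Set.range i.toImage := by
  let c : i.image ⟶ U := i.imageι ≫ q
  let T : i.image.Opens := c ⁻¹ᵁ O
  have hc : i.toImage ≫ c = ρ ≫ O.ι := by
    rw [hρ, ← Category.assoc, Scheme.Hom.toImage_imageι]
  have hsub : Set.range i.toImage ⊆ Set.range T.ι := by
    rw [Scheme.Opens.range_ι]
    rintro _ ⟨w, rfl⟩
    change c (i.toImage w) ∈ O
    rw [← Scheme.Hom.comp_apply, hc, Scheme.Hom.comp_apply]
    exact (ρ w).2
  let θ : W ⟶ T.toScheme := IsOpenImmersion.lift T.ι i.toImage hsub
  have hθ : θ ≫ T.ι = i.toImage := IsOpenImmersion.lift_fac _ _ _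
  have hθρ : θ ≫ (c ∣_ O) = ρ := by
    rw [← cancel_mono O.ι, Category.assoc, morphismRestrict_ι, ← Category.assoc, hθ, hc]
  have h1 : IsProper (θ ≫ (c ∣_ O)) := by rw [hθρ]; infer_instance
  have hprop : IsProper θ := IsProper.of_comp θ (c ∣_ O)
  have hdom : IsDominant θ := by
    refine ⟨T.ι.isOpenEmbedding.isInducing.dense_iff.mpr (fun y => ?_)⟩
    rw [← Set.range_comp]
    have h2 : (T.ι : T.toScheme → i.image) ∘ (θ : W → T.toScheme) = (i.toImage : W → i.image) := by
      funext w
      rw [Function.comp_apply, ← Scheme.Hom.comp_apply, hθ]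
    rw [h2, i.toImage.denseRange.closure_eq]
    trivial
  have hsurj := surjective_of_isDominant_of_isClosed_range θ θ.isClosedMap.isClosed_range
  obtain ⟨w, hw⟩ := hsurj.surj ⟨x, hx⟩
  refine ⟨w, ?_⟩
  rw [← hθ, Scheme.Hom.comp_apply, hw]
  rfl

/-- Near every point of the source of `p` lying over `O`, the morphism `p` factors through some
member of the family `a`. -/
def LocFactors {U : Scheme.{u}} {K : Type w} {A : K → Scheme.{u}} (a : ∀ k, A k ⟶ U) (O : Set U)
    {V : Scheme.{u}} (p : V ⟶ U) : Prop :=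
  ∀ v : V, p v ∈ O → ∃ (Y : Scheme.{u}) (o : Y ⟶ V), IsOpenImmersion o ∧ v ∈ Set.range o ∧
    ∃ (k : K) (b : Y ⟶ A k), b ≫ a k = o ≫ p

theorem LocFactors.precomp {U : Scheme.{u}} {K : Type w} {A : K → Scheme.{u}} {a : ∀ k, A k ⟶ U}
    {O : Set U} {V V' : Scheme.{u}} {p : V ⟶ U} (h : LocFactors a O p) (q : V' ⟶ V) :
    LocFactors a O (q ≫ p) := by
  intro v' hv'
  rw [Scheme.Hom.comp_apply] at hv'
  obtain ⟨Y, o, ho, hv, k, b, hb⟩ := h (q v') hv'
  refine ⟨pullback o q, pullback.snd o q, inferInstance, ?_, k, pullback.fst o q ≫ b, ?_⟩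
  · rw [Scheme.Pullback.range_snd]
    exact hv
  · rw [Category.assoc, hb, ← Category.assoc, pullback.condition, Category.assoc]

/-- Extension of a proper surjective `W ⟶ X` over an affine open `X ⊆ U` to a proper surjective
morphism over all of `U` (after a proper surjective modification of `W`), keeping track of an open
cover of `W`. -/
theorem exists_extension {U X W : Scheme.{u}} [CompactSpace U] [QuasiSeparatedSpace U]
    [CompactSpace X] (ι : X ⟶ U) [IsOpenImmersion ι] (g : W ⟶ X) [IsProper g] [Surjective g]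
    {K : Type w} {A : K → Scheme.{u}} (κ : ∀ k, A k ⟶ W) [∀ k, IsOpenImmersion (κ k)]
    (hκ : ∀ x : W, ∃ k, x ∈ Set.range (κ k)) :
    ∃ (V : Scheme.{u}) (c : V ⟶ U), IsProper c ∧ Surjective c ∧
      LocFactors (fun k => κ k ≫ g ≫ ι) (Set.range ι) c := by
  have hW : CompactSpace W := QuasiCompact.compactSpace_of_compactSpace g
  obtain ⟨n, W', π, i, hi, hiπ, hπ, hπs⟩ := Groth.Agent.Lib.ChowAll68.chow_general (g ≫ ι)
  have hW' : CompactSpace W' := QuasiCompact.compactSpace_of_compactSpace π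
  have hprop : IsProper (ProjSpaceOver.toBase n U) :=
    Groth.Agent.Lib.ProjSpaceProper.isProper_toBase n U
  have hqc : QuasiCompact i := by
    have : QuasiCompact (i ≫ ProjSpaceOver.toBase n U) := by rw [hiπ]; infer_instance
    exact QuasiCompact.of_comp i (ProjSpaceOver.toBase n U)
  let O : U.Opens := ι.opensRange
  let ρ : W' ⟶ O.toScheme := π ≫ g ≫ ι.isoOpensRange.hom
  have hρ : ρ ≫ O.ι = i ≫ ProjSpaceOver.toBase n U := by
    rw [hiπ]
    simp only [ρ, O, Category.assoc, Scheme.Hom.isoOpensRange_hom_ι]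
  -- the two pieces
  let c₁ : i.image ⟶ U := i.imageι ≫ ProjSpaceOver.toBase n U
  let Zc : Closeds U := ⟨(O : Set U)ᶜ, O.isOpen.isClosed_compl⟩
  let I : U.IdealSheafData := Scheme.IdealSheafData.vanishingIdeal Zc
  have hrange : Set.range I.subschemeι = (O : Set U)ᶜ := by
    rw [I.range_subschemeι]
    simp [I, Zc]
  have hc₁ : i.toImage ≫ c₁ = π ≫ g ≫ ι := by
    rw [← hiπ, ← Category.assoc, Scheme.Hom.toImage_imageι]
  have hpc := Groth.Agent.Lib.ChowAll68.isProper_coprodDesc c₁ I.subschemeι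
  refine ⟨i.image ⨿ I.subscheme, coprod.desc c₁ I.subschemeι, hpc, ⟨fun u => ?_⟩, ?_⟩
  · by_cases hu : u ∈ O
    · obtain ⟨x, rfl⟩ := hu
      obtain ⟨w, rfl⟩ := g.surjective x
      obtain ⟨w', rfl⟩ := π.surjective w
      refine ⟨(coprod.inl : i.image ⟶ i.image ⨿ I.subscheme) (i.toImage w'), ?_⟩
      rw [← Scheme.Hom.comp_apply, coprod.inl_desc, ← Scheme.Hom.comp_apply, hc₁]
      simp only [Scheme.Hom.comp_apply]
    · have hu' : u ∈ Set.range I.subschemeι := by rw [hrange]; exact hu
      obtain ⟨z, rfl⟩ := hu'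
      refine ⟨(coprod.inr : I.subscheme ⟶ i.image ⨿ I.subscheme) z, ?_⟩
      rw [← Scheme.Hom.comp_apply, coprod.inr_desc]
  · intro v hv
    have hcov : v ∈ Set.range (coprod.inl : i.image ⟶ i.image ⨿ I.subscheme) ∨
        v ∈ Set.range (coprod.inr : I.subscheme ⟶ i.image ⨿ I.subscheme) := by
      have h1 := (isCompl_opensRange_inl_inr i.image I.subscheme).codisjoint.eq_top
      have h2 : v ∈ ((coprod.inl : i.image ⟶ i.image ⨿ I.subscheme).opensRange ⊔
          (coprod.inr : I.subscheme ⟶ i.image ⨿ I.subscheme).opensRange) := by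
        rw [h1]; trivial
      exact h2
    rcases hcov with ⟨x, rfl⟩ | ⟨z, rfl⟩
    · rw [← Scheme.Hom.comp_apply, coprod.inl_desc] at hv
      have hx : ProjSpaceOver.toBase n U (i.imageι x) ∈ O := by
        rw [← Scheme.Hom.comp_apply]; exact hv
      obtain ⟨w', rfl⟩ := mem_range_toImage i (ProjSpaceOver.toBase n U) O ρ hρ x hx
      obtain ⟨k, hk⟩ := hκ (π w')
      let Y : W'.Opens := π ⁻¹ᵁ (κ k).opensRange
      have hsub : Set.range (Y.ι ≫ π) ⊆ Set.range (κ k) := by
        rintro _ ⟨y, rfl⟩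
        rw [Scheme.Hom.comp_apply]
        exact y.2
      refine ⟨Y.toScheme, Y.ι ≫ i.toImage ≫ (coprod.inl : i.image ⟶ i.image ⨿ I.subscheme),
        inferInstance, ⟨⟨w', hk⟩, ?_⟩, k, IsOpenImmersion.lift (κ k) (Y.ι ≫ π) hsub, ?_⟩
      · simp only [Scheme.Hom.comp_apply]
        rfl
      · rw [← Category.assoc, IsOpenImmersion.lift_fac, Category.assoc, Category.assoc,
          Category.assoc, coprod.inl_desc, hc₁]
    · rw [← Scheme.Hom.comp_apply, coprod.inr_desc] at hv
      have hz : I.subschemeι z ∈ (O : Set U)ᶜ := by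
        rw [← hrange]; exact Set.mem_range_self z
      exact absurd hv hz

/-- Finitely many proper surjective morphisms with local factorizations over opens `O j` are
dominated by one proper surjective morphism having all these local factorizations. -/
theorem exists_common {U : Scheme.{u}} {J : Type w'} {K : J → Type w}
    {A : ∀ j, K j → Scheme.{u}} (a : ∀ j k, A j k ⟶ U) (O : J → Set U)
    (h : ∀ j, ∃ (V : Scheme.{u}) (c : V ⟶ U), IsProper c ∧ Surjective c ∧
      LocFactors (a j) (O j) c) (s : Finset J) :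
    ∃ (V : Scheme.{u}) (p : V ⟶ U), IsProper p ∧ Surjective p ∧
      ∀ j ∈ s, LocFactors (a j) (O j) p := by
  classical
  induction s using Finset.induction_on with
  | empty => exact ⟨U, 𝟙 U, inferInstance, inferInstance, fun j hj => absurd hj (by simp)⟩
  | insert j s _ ih =>
    obtain ⟨V, p, hp, hps, hloc⟩ := ih
    obtain ⟨Vj, c, hc, hcs, hcloc⟩ := h j
    refine ⟨pullback p c, pullback.fst p c ≫ p, inferInstance, inferInstance, ?_⟩
    intro j' hj'
    rcases Finset.mem_insert.mp hj' with rfl | hj'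
    · rw [pullback.condition]
      exact hcloc.precomp _
    · exact (hloc j' hj').precomp _

/-- **Stacks 0DBG (2)**: over an affine base, a composite of standard ph coverings is refined by a
standard ph covering. -/
theorem exists_refine_bind {T : Scheme.{u}} (E : PreZeroHypercover.{w} T)
    (hE : HTop.IsStandardPh E) (F : ∀ j, PreZeroHypercover.{w'} (E.X j))
    (hF : ∀ j, HTop.IsStandardPh (F j)) :
    ∃ F' : PreZeroHypercover.{0} T, HTop.IsStandardPh F' ∧ Nonempty (F'.Hom (E.bind F)) := by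
  classical
  have hT : IsAffine T := hE.isAffine
  have hfin : Finite E.I₀ := hE.finite_index
  have hEaff : ∀ j, IsAffine (E.X j) := hE.isAffine_obj
  obtain ⟨U, f, ι, hf, hfs, hι, hιf, hcov⟩ := hE.exists_proper
  have hUc : CompactSpace U := QuasiCompact.compactSpace_of_compactSpace f
  have hUqs : QuasiSeparatedSpace U := quasiSeparatedSpace_of_quasiSeparated f
  -- the extensions
  have hext : ∀ j, ∃ (V : Scheme.{u}) (c : V ⟶ U), IsProper c ∧ Surjective c ∧
      LocFactors (fun k : (F j).I₀ => (F j).f k ≫ ι j) (Set.range (ι j)) c := by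
    intro j
    obtain ⟨W, g, κ, hg, hgs, hκ, hκg, hWcov⟩ := (hF j).exists_proper
    have := hι j
    obtain ⟨V, c, hc, hcs, hloc⟩ := exists_extension (ι j) g κ hWcov
    refine ⟨V, c, hc, hcs, ?_⟩
    intro v hv
    obtain ⟨Y, o, ho, hvo, k, b, hb⟩ := hloc v hv
    refine ⟨Y, o, ho, hvo, k, b, ?_⟩
    rw [← hb]
    change b ≫ (F j).f k ≫ ι j = b ≫ κ k ≫ g ≫ ι j
    rw [← hκg k, Category.assoc]
  have := Fintype.ofFinite E.I₀
  obtain ⟨V, p, hp, hps, hloc⟩ := exists_common (fun j (k : (F j).I₀) => (F j).f k ≫ ι j)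
    (fun j => Set.range (ι j)) hext Finset.univ
  -- local data at every point of `V`
  have hpt : ∀ v : V, ∃ (jk : Σ j, (F j).I₀) (A : V.Opens) (b : A.toScheme ⟶ (F jk.1).X jk.2),
      IsAffineOpen A ∧ v ∈ A ∧ b ≫ (F jk.1).f jk.2 ≫ ι jk.1 = A.ι ≫ p := by
    intro v
    obtain ⟨j, hj⟩ := hcov (p v)
    obtain ⟨Y, o, ho, hvo, k, b, hb⟩ := hloc j (Finset.mem_univ j) v hj
    obtain ⟨A, hA, hvA, hAo⟩ :=
      exists_isAffineOpen_mem_and_subset (X := V) (x := v) (U := o.opensRange) hvo
    have hsub : Set.range A.ι ⊆ Set.range o := by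
      rw [Scheme.Opens.range_ι]; exact hAo
    refine ⟨⟨j, k⟩, A, IsOpenImmersion.lift o A.ι hsub ≫ b, hA, hvA, ?_⟩
    rw [Category.assoc, hb, ← Category.assoc, IsOpenImmersion.lift_fac]
  choose jk A b hA hvA hb using hpt
  have hVc : CompactSpace V := QuasiCompact.compactSpace_of_compactSpace (p ≫ f)
  obtain ⟨t, ht⟩ := isCompact_univ.elim_finite_subcover (fun v => (A v : Set V))
    (fun v => (A v).2) (fun v _ => Set.mem_iUnion.mpr ⟨v, hvA v⟩)
  let e : Fin t.card ≃ ↥t := t.equivFin.symm
  let pt : Fin t.card → V := fun l => (e l).1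
  let F' : PreZeroHypercover.{0} T :=
    { I₀ := Fin t.card
      X := fun l => ((A (pt l) : V.Opens) : Scheme.{u})
      f := fun l => (A (pt l)).ι ≫ p ≫ f }
  refine ⟨F', ⟨hT, inferInstanceAs (Finite (Fin t.card)), fun l => hA (pt l), ?_⟩, ⟨?_⟩⟩
  · refine ⟨V, p ≫ f, fun l => (A (pt l)).ι, inferInstance, inferInstance,
      fun l => inferInstanceAs (IsOpenImmersion (A (pt l)).ι), fun l => rfl, fun x => ?_⟩
    have hx := ht (Set.mem_univ x)
    simp only [Set.mem_iUnion] at hx
    obtain ⟨v, hvt, hxv⟩ := hx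
    refine ⟨e.symm ⟨v, hvt⟩, ?_⟩
    change x ∈ Set.range (A (pt (e.symm ⟨v, hvt⟩))).ι
    rw [Scheme.Opens.range_ι]
    simp only [pt, Equiv.apply_symm_apply]
    exact hxv
  · refine ⟨fun l => jk (pt l), fun l => b (pt l), fun l => ?_⟩
    change b (pt l) ≫ (F (jk (pt l)).1).f (jk (pt l)).2 ≫ E.f (jk (pt l)).1 = (A (pt l)).ι ≫ p ≫ f
    rw [← hιf, ← Category.assoc ((F (jk (pt l)).1).f (jk (pt l)).2), ← Category.assoc (b (pt l)),
      hb, Category.assoc]

/-- Finitely many of a pointwise choice of affine open neighbourhoods cover a quasi-compact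
scheme. -/
theorem exists_fin_affine_family {V : Scheme.{u}} [CompactSpace V] (P : V → V.Opens → Prop)
    (h : ∀ v, ∃ A, IsAffineOpen A ∧ v ∈ A ∧ P v A) :
    ∃ (m : ℕ) (A : Fin m → V.Opens) (pt : Fin m → V), (∀ l, IsAffineOpen (A l)) ∧
      (∀ x, ∃ l, x ∈ A l) ∧ ∀ l, P (pt l) (A l) := by
  classical
  choose A hA hvA hP using h
  obtain ⟨t, ht⟩ := isCompact_univ.elim_finite_subcover (fun v => (A v : Set V))
    (fun v => (A v).2) (fun v _ => Set.mem_iUnion.mpr ⟨v, hvA v⟩)
  let e : Fin t.card ≃ ↥t := t.equivFin.symm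
  refine ⟨t.card, fun l => A (e l).1, fun l => (e l).1, fun l => hA _, fun x => ?_, fun l => hP _⟩
  have hx := ht (Set.mem_univ x)
  simp only [Set.mem_iUnion] at hx
  obtain ⟨v, hvt, hxv⟩ := hx
  refine ⟨e.symm ⟨v, hvt⟩, ?_⟩
  simp only [Equiv.apply_symm_apply]
  exact hxv

/-- A finite family of affine opens covering an affine scheme is a standard ph covering. -/
theorem isStandardPh_of_opens {T : Scheme.{u}} [IsAffine T] {m : ℕ} (A : Fin m → T.Opens)
    (hA : ∀ l, IsAffineOpen (A l)) (hcov : ∀ x, ∃ l, x ∈ A l) :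
    HTop.IsStandardPh
      ({ I₀ := Fin m, X := fun l => ((A l : T.Opens) : Scheme.{u}), f := fun l => (A l).ι } :
        PreZeroHypercover.{0} T) := by
  refine ⟨inferInstance, inferInstanceAs (Finite (Fin m)), fun l => hA l, ?_⟩
  refine ⟨T, 𝟙 T, fun l => (A l).ι, inferInstance, inferInstance,
    fun l => inferInstanceAs (IsOpenImmersion (A l).ι), fun l => Category.comp_id _, fun x => ?_⟩
  obtain ⟨l, hl⟩ := hcov x
  refine ⟨l, ?_⟩
  change x ∈ Set.range (A l).ι
  rw [Scheme.Opens.range_ι]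
  exact hl

/-- **Stacks 0DBG (1)**: every open covering of an affine scheme is refined by a standard ph
covering. -/
theorem exists_refine_openCover {T : Scheme.{u}} [IsAffine T] (𝒰 : T.OpenCover) :
    ∃ F : PreZeroHypercover.{0} T, HTop.IsStandardPh F ∧
      Nonempty (F.Hom 𝒰.toPreZeroHypercover) := by
  obtain ⟨m, A, pt, hA, hcov, hP⟩ := exists_fin_affine_family (V := T)
    (fun v A => (A : Set T) ⊆ Set.range (𝒰.f (𝒰.idx v))) (fun v => by
      obtain ⟨A, hA, hvA, hAo⟩ := exists_isAffineOpen_mem_and_subset (X := T) (x := v)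
        (U := (𝒰.f (𝒰.idx v)).opensRange) (𝒰.covers v)
      exact ⟨A, hA, hvA, hAo⟩)
  refine ⟨_, isStandardPh_of_opens A hA hcov, ⟨⟨fun l => 𝒰.idx (pt l), fun l =>
    IsOpenImmersion.lift (𝒰.f (𝒰.idx (pt l))) (A l).ι (by
      rw [Scheme.Opens.range_ι]; exact hP l), fun l => ?_⟩⟩⟩
  exact IsOpenImmersion.lift_fac _ _ _

end Groth.Agent.Lib.PhRefine68
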