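/-
Ph sheaves: a Zariski sheaf satisfying the sheaf condition for proper surjective singletons is a ph
sheaf (helper52).  `zpCoverage` = coverage generated by Zariski coverings and proper surjective
singletons; `generate_mem_of_isPhCover`: every ph covering generates a covering sieve for it.
-/
import Mathlib
import Groth.Prelude.Def_HTop

set_option autoImplicit false
universe w u
open CategoryTheory CategoryTheory.Limits AlgebraicGeometry

namespace Groth.Agent.Lib.PhSheafH52

open HTop

/-- the coverage of proper surjective singletons -/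
def properCoverage : Coverage Scheme.{u} where
  coverings X := {R | ∃ (V : Scheme.{u}) (f : V ⟶ X), IsProper f ∧ Surjective f ∧
    R = Presieve.singleton f}
  pullback X Y f S hS := by
    obtain ⟨V, g, hg1, hg2, rfl⟩ := hS
    refine ⟨Presieve.singleton (pullback.fst f g), ⟨_, _, inferInstance, inferInstance, rfl⟩, ?_⟩
    rintro Z k ⟨⟩
    exact ⟨V, pullback.snd f g, g, ⟨⟩, pullback.condition.symm⟩

/-- the coverage generated by Zariski coverings and proper surjective singletons -/
noncomputable def zpCoverage : Coverage Scheme.{u} :=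
  (Scheme.precoverage @IsOpenImmersion).toCoverage ⊔ properCoverage

theorem isSheaf_zpCoverage (F : Scheme.{u}ᵒᵖ ⥤ Type w)
    (h₁ : Presieve.IsSheaf Scheme.zariskiTopology F)
    (h₂ : ∀ (U V : Scheme.{u}) (f : V ⟶ U), IsProper f → Surjective f →
      Presieve.IsSheafFor F (Presieve.singleton f)) :
    Presieve.IsSheaf zpCoverage.toGrothendieck F := by
  rw [zpCoverage, Presieve.isSheaf_sup]
  refine ⟨?_, ?_⟩
  · rw [Precoverage.toGrothendieck_toCoverage]
    exact h₁
  · rw [Presieve.isSheaf_coverage]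
    rintro X R ⟨V, f, hf1, hf2, rfl⟩
    exact h₂ _ _ f hf1 hf2

theorem zariski_mem {X : Scheme.{u}} {ι : Type*} (Y : ι → Scheme.{u}) (f : ∀ i, Y i ⟶ X)
    (hf : ∀ i, IsOpenImmersion (f i)) (hs : ∀ x : X, ∃ i, x ∈ Set.range (f i)) :
    Sieve.generate (Presieve.ofArrows Y f) ∈ zpCoverage.toGrothendieck X := by
  apply Coverage.mem_toGrothendieck_sieves_of_superset (R := Presieve.ofArrows Y f)
  · exact Sieve.le_generate _
  · left
    show Presieve.ofArrows Y f ∈ Scheme.precoverage @IsOpenImmersion X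
    rw [Scheme.ofArrows_mem_precoverage_iff]
    exact ⟨hs, hf⟩

theorem proper_mem {X V : Scheme.{u}} (f : V ⟶ X) [IsProper f] [Surjective f] :
    Sieve.generate (Presieve.singleton f) ∈ zpCoverage.toGrothendieck X := by
  apply Coverage.mem_toGrothendieck_sieves_of_superset (R := Presieve.singleton f)
  · exact Sieve.le_generate _
  · right
    exact ⟨V, f, inferInstance, inferInstance, rfl⟩

theorem generate_mem_of_isStandardPh {U : Scheme.{u}} (Fc : PreZeroHypercover.{0} U)
    (h : IsStandardPh Fc) :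
    Sieve.generate Fc.presieve₀ ∈ zpCoverage.toGrothendieck U := by
  obtain ⟨V, g, ι, hg1, hg2, hι, hιg, hcov⟩ := h.exists_proper
  haveI := hg1
  haveI := hg2
  refine GrothendieckTopology.transitive _ (proper_mem g) _ ?_
  intro Y k hk
  obtain ⟨W, a, b, ⟨⟩, rfl⟩ := hk
  rw [Sieve.pullback_comp]
  apply GrothendieckTopology.pullback_stable
  refine GrothendieckTopology.superset_covering _ ?_ (zariski_mem Fc.X ι hι hcov)
  rw [Sieve.generate_le_iff]
  rintro Z _ ⟨j⟩
  show Sieve.generate Fc.presieve₀ (ι j ≫ g)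
  rw [hιg j]
  exact ⟨_, 𝟙 _, Fc.f j, ⟨j⟩, Category.id_comp _⟩

theorem generate_mem_of_isPhCover {X : Scheme.{u}} (E : PreZeroHypercover.{w} X)
    (hE : IsPhCover E) :
    Sieve.generate E.presieve₀ ∈ zpCoverage.toGrothendieck X := by
  have hZ := zariski_mem (X := X) (fun U : X.affineOpens => ((U : X.Opens) : Scheme.{u}))
    (fun U => (U : X.Opens).ι) (fun _ => inferInstance) (fun x => by
      obtain ⟨_, ⟨U, hU, rfl⟩, hxU, -⟩ :=
        X.isBasis_affineOpens.exists_subset_of_mem_open (Set.mem_univ x) isOpen_univ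
      exact ⟨⟨U, hU⟩, by rw [Scheme.Opens.range_ι]; exact hxU⟩)
  refine GrothendieckTopology.transitive _ hZ _ ?_
  intro Y k hk
  obtain ⟨W, a, b, ⟨U⟩, rfl⟩ := hk
  rw [Sieve.pullback_comp]
  apply GrothendieckTopology.pullback_stable
  obtain ⟨Fc, hFc, href⟩ := hE.2 U
  refine GrothendieckTopology.superset_covering _ ?_ (generate_mem_of_isStandardPh Fc hFc)
  rw [Sieve.generate_le_iff]
  rintro Z _ ⟨j⟩
  obtain ⟨i, h, hh⟩ := href j
  show Sieve.generate E.presieve₀ (Fc.f j ≫ (U : X.Opens).ι)
  rw [← hh]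
  exact ⟨_, h, E.f i, ⟨i⟩, rfl⟩

/-- Zariski sheaf + sheaf condition for proper surjective singletons ⇒ ph sheaf -/
theorem isPhSheaf_of_zariski_of_proper (F : Scheme.{u}ᵒᵖ ⥤ Type w)
    (h₁ : Presieve.IsSheaf Scheme.zariskiTopology F)
    (h₂ : ∀ (U V : Scheme.{u}) (f : V ⟶ U), IsProper f → Surjective f →
      Presieve.IsSheafFor F (Presieve.singleton f)) : HTop.IsPhSheaf F := by
  intro X R hR
  obtain ⟨E, rfl⟩ := R.exists_eq_preZeroHypercover
  rw [presieve₀_mem_phPrecoverage_iff] at hR
  rw [Presieve.isSheafFor_iff_generate]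
  exact isSheaf_zpCoverage F h₁ h₂ _ (generate_mem_of_isPhCover E hR)

end Groth.Agent.Lib.PhSheafH52
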