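import Mathlib

/-!
# A finite product of local rings maps onto the product of its localizations at maximal ideals
-/

set_option autoImplicit false
universe u

namespace Groth.Agent.Lib.PiLocalization22

section Pi

variable {ι : Type*} [Fintype ι] [DecidableEq ι] {C : ι → Type*} [∀ j, CommRing (C j)]
  [∀ j, IsLocalRing (C j)]

/-- The maximal ideals of a finite product of local rings. -/
theorem exists_index (n : MaximalSpectrum (∀ j, C j)) :
    ∃ j, ∀ x : ∀ j, C j, x ∈ n.asIdeal ↔ ¬ IsUnit (x j) := by
  have hmax := n.isMaximal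
  -- some standard idempotent is not in `n`
  have h1 : ∃ j, (Pi.single j 1 : ∀ j, C j) ∉ n.asIdeal := by
    by_contra hcon
    push Not at hcon
    have : (1 : ∀ j, C j) ∈ n.asIdeal := by
      rw [← Finset.univ_sum_single (1 : ∀ j, C j)]
      exact Ideal.sum_mem _ fun j _ => hcon j
    exact hmax.ne_top ((Ideal.eq_top_iff_one _).2 this)
  obtain ⟨j, hj⟩ := h1
  refine ⟨j, ?_⟩
  have hforward : ∀ x : ∀ j, C j, x ∈ n.asIdeal → ¬ IsUnit (x j) := by
    intro x hx hu
    obtain ⟨v, hv⟩ := hu.exists_left_inv
    apply hj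
    have : (Pi.single j 1 : ∀ j, C j) = Pi.single j v * x := by
      funext k
      by_cases hk : k = j
      · subst hk
        simp [hv]
      · simp [Pi.single_eq_of_ne hk]
    rw [this]
    exact Ideal.mul_mem_left _ _ hx
  let n' : Ideal (∀ j, C j) := (IsLocalRing.maximalIdeal (C j)).comap (Pi.evalRingHom C j)
  have hle : n.asIdeal ≤ n' := by
    intro x hx
    change x j ∈ IsLocalRing.maximalIdeal (C j)
    exact (IsLocalRing.mem_maximalIdeal _).2 (hforward x hx)
  have hn' : n' ≠ ⊤ := by
    intro h
    have : (1 : ∀ j, C j) ∈ n' := h ▸ Submodule.mem_top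
    have h2 : (1 : C j) ∈ IsLocalRing.maximalIdeal (C j) := this
    exact (IsLocalRing.mem_maximalIdeal _).1 h2 isUnit_one
  have heq : n.asIdeal = n' := hmax.eq_of_le hn' hle
  intro x
  refine ⟨hforward x, fun hx => ?_⟩
  rw [heq]
  exact (IsLocalRing.mem_maximalIdeal _).2 hx

theorem toPiLocalization_surjective :
    Function.Surjective (MaximalSpectrum.toPiLocalization (∀ j, C j)) := by
  classical
  intro y
  choose jn hjn using exists_index (C := C)
  have hinj : Function.Injective jn := by
    intro n n' h
    apply MaximalSpectrum.ext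
    ext x
    rw [hjn n x, hjn n' x, h]
  have hrep : ∀ n : MaximalSpectrum (∀ j, C j), ∃ (a : ∀ j, C j) (s : n.asIdeal.primeCompl),
      y n = IsLocalization.mk' (Localization.AtPrime n.asIdeal) a s := by
    intro n
    obtain ⟨a, s, h⟩ := IsLocalization.exists_mk'_eq n.asIdeal.primeCompl (y n)
    exact ⟨a, s, h.symm⟩
  choose a s hy using hrep
  have hsunit : ∀ n, IsUnit ((s n : ∀ j, C j) (jn n)) := by
    intro n
    by_contra h
    exact (s n).2 ((hjn n _).2 h)
  let x : ∀ j, C j := fun j =>
    if h : ∃ n, jn n = j then a h.choose j * Ring.inverse ((s h.choose : ∀ j, C j) j) else 0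
  have hx : ∀ n, x (jn n) = a n (jn n) * Ring.inverse ((s n : ∀ j, C j) (jn n)) := by
    intro n
    have h : ∃ n', jn n' = jn n := ⟨n, rfl⟩
    have hc : h.choose = n := hinj h.choose_spec
    simp only [x, dif_pos h]
    rw [hc]
  refine ⟨x, funext fun n => ?_⟩
  rw [hy n, MaximalSpectrum.toPiLocalization_apply_apply, IsLocalization.eq_mk'_iff_mul_eq,
    ← map_mul, IsLocalization.eq_iff_exists n.asIdeal.primeCompl]
  have hc : (Pi.single (jn n) 1 : ∀ j, C j) ∈ n.asIdeal.primeCompl := by
    intro h
    have := (hjn n _).1 h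
    rw [Pi.single_eq_same] at this
    exact this isUnit_one
  refine ⟨⟨_, hc⟩, ?_⟩
  funext k
  by_cases hk : k = jn n
  · subst hk
    simp only [Pi.mul_apply, Pi.single_eq_same, one_mul]
    rw [hx n, mul_assoc, Ring.inverse_mul_cancel _ (hsunit n), mul_one]
  · simp [Pi.single_eq_of_ne hk]

end Pi

/-- A ring isomorphic to a finite product of local rings maps bijectively onto the product of its
localizations at maximal ideals. -/
theorem toPiLocalization_bijective_of_ringEquiv {B : Type*} [CommRing B] {ι : Type*} [Fintype ι]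
    {C : ι → Type*} [∀ j, CommRing (C j)] [∀ j, IsLocalRing (C j)] (φ : B ≃+* (∀ j, C j)) :
    Function.Bijective (MaximalSpectrum.toPiLocalization B) := by
  classical
  refine ⟨MaximalSpectrum.toPiLocalization_injective B, ?_⟩
  have hφ : Function.Bijective (φ : B →+* (∀ j, C j)) := φ.bijective
  have hnat := MaximalSpectrum.mapPiLocalization_naturality (φ : B →+* (∀ j, C j)) hφ
  have hbij := MaximalSpectrum.mapPiLocalization_bijective (φ : B →+* (∀ j, C j)) hφ
  have h1 : Function.Surjective ((MaximalSpectrum.mapPiLocalization (φ : B →+* (∀ j, C j)) hφ).comp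
      (MaximalSpectrum.toPiLocalization B : B →+* _)) := by
    rw [hnat]
    exact (toPiLocalization_surjective (C := C)).comp φ.surjective
  intro z
  obtain ⟨b, hb⟩ := h1 (MaximalSpectrum.mapPiLocalization (φ : B →+* (∀ j, C j)) hφ z)
  exact ⟨b, hbij.1 hb⟩

end Groth.Agent.Lib.PiLocalization22
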