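import Mathlib

/-!
# `A/(∏ f_i) → ∏ A/(f_i)` for pairwise relatively prime `f_i` (helper99)

In a commutative ring whose multiplicative monoid is a `DecompositionMonoid` (e.g. a UFD), for
pairwise relatively prime `f_i` the canonical map `A/(∏ f_i) → ∏ A/(f_i)` is injective and its
cokernel has length `∑_{i<j} length A/(f_i, f_j)`.
-/

set_option autoImplicit false
universe u

namespace Groth.Agent.Lib.PiQuotLen99

open Function

section colen

variable {A : Type*} [CommRing A]
variable {M N P Q : Type*} [AddCommGroup M] [Module A M] [AddCommGroup N] [Module A N]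
  [AddCommGroup P] [Module A P] [AddCommGroup Q] [Module A Q]

/-- The length of the cokernel. -/
noncomputable def colen (φ : M →ₗ[A] N) : ℕ∞ := Module.length A (N ⧸ LinearMap.range φ)

lemma colen_eq_of_surjective_of_ker (φ : M →ₗ[A] N) (δ : N →ₗ[A] Q) (hδ : Surjective δ)
    (hk : LinearMap.ker δ = LinearMap.range φ) : colen φ = Module.length A Q := by
  unfold colen
  rw [← hk]
  exact (δ.quotKerEquivOfSurjective hδ).length_eq

lemma colen_comp (φ : M →ₗ[A] N) (ψ : N →ₗ[A] P) (hψ : Injective ψ) :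
    colen (ψ ∘ₗ φ) = colen φ + colen ψ := by
  unfold colen
  have h1 : LinearMap.range φ ≤ (LinearMap.range (ψ ∘ₗ φ)).comap ψ := by
    rintro _ ⟨m, rfl⟩
    exact ⟨m, rfl⟩
  have h2 : LinearMap.range (ψ ∘ₗ φ) ≤ (LinearMap.range ψ).comap LinearMap.id := by
    rintro _ ⟨m, rfl⟩
    exact ⟨φ m, rfl⟩
  let f := Submodule.mapQ (LinearMap.range φ) (LinearMap.range (ψ ∘ₗ φ)) ψ h1
  let g := Submodule.mapQ (LinearMap.range (ψ ∘ₗ φ)) (LinearMap.range ψ) LinearMap.id h2
  refine Module.length_eq_add_of_exact f g ?_ ?_ ?_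
  · rw [injective_iff_map_eq_zero]
    intro x hx
    obtain ⟨n, rfl⟩ := Submodule.Quotient.mk_surjective _ x
    change Submodule.Quotient.mk (ψ n) = 0 at hx
    rw [Submodule.Quotient.mk_eq_zero] at hx
    obtain ⟨m, hm⟩ := hx
    rw [Submodule.Quotient.mk_eq_zero]
    exact ⟨m, hψ hm⟩
  · intro y
    obtain ⟨p, rfl⟩ := Submodule.Quotient.mk_surjective _ y
    exact ⟨Submodule.Quotient.mk p, rfl⟩
  · intro y
    obtain ⟨p, rfl⟩ := Submodule.Quotient.mk_surjective _ y
    constructor
    · intro hy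
      change Submodule.Quotient.mk p = 0 at hy
      rw [Submodule.Quotient.mk_eq_zero] at hy
      obtain ⟨n, rfl⟩ := hy
      exact ⟨Submodule.Quotient.mk n, rfl⟩
    · rintro ⟨x, hx⟩
      obtain ⟨n, rfl⟩ := Submodule.Quotient.mk_surjective _ x
      rw [← hx]
      change Submodule.Quotient.mk (ψ n) = 0
      rw [Submodule.Quotient.mk_eq_zero]
      exact ⟨n, rfl⟩

lemma colen_equiv (e : M ≃ₗ[A] N) : colen (e : M →ₗ[A] N) = 0 := by
  unfold colen
  rw [Module.length_eq_zero_iff]
  rw [LinearEquiv.range]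
  infer_instance

lemma colen_id_prodMap (φ : M →ₗ[A] N) :
    colen (LinearMap.prodMap (LinearMap.id : Q →ₗ[A] Q) φ) = colen φ := by
  refine colen_eq_of_surjective_of_ker _
    ((LinearMap.range φ).mkQ ∘ₗ LinearMap.snd A Q N) ?_ ?_
  · intro y
    obtain ⟨n, rfl⟩ := Submodule.Quotient.mk_surjective _ y
    exact ⟨(0, n), rfl⟩
  · ext ⟨q, n⟩
    simp only [LinearMap.mem_ker, LinearMap.coe_comp, comp_apply, LinearMap.snd_apply,
      Submodule.mkQ_apply, Submodule.Quotient.mk_eq_zero, LinearMap.mem_range,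
      LinearMap.prodMap_apply, LinearMap.id_coe, id_eq, Prod.mk.injEq, Prod.exists]
    constructor
    · rintro ⟨m, hm⟩
      exact ⟨q, m, rfl, hm⟩
    · rintro ⟨_, m, _, hm⟩
      exact ⟨m, hm⟩

end colen


section ring

variable {A : Type u} [CommRing A]

/-- The quotient map `A/(c) → A/(h)` for `h ∣ c`. -/
noncomputable def qmap (c h : A) (hc : h ∣ c) :
    (A ⧸ Ideal.span {c}) →ₗ[A] (A ⧸ Ideal.span {h}) :=
  Submodule.mapQ (Ideal.span {c}) (Ideal.span {h}) LinearMap.id
    (Ideal.span_singleton_le_span_singleton.mpr hc)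

@[simp] lemma qmap_mk (c h : A) (hc : h ∣ c) (a : A) :
    qmap c h hc (Submodule.Quotient.mk a) = Submodule.Quotient.mk a := rfl

/-- `A/(c) → A/(h) × A/(g)`. -/
noncomputable def psi (c h g : A) (hc : h ∣ c) (gc : g ∣ c) :
    (A ⧸ Ideal.span {c}) →ₗ[A] (A ⧸ Ideal.span {h}) × (A ⧸ Ideal.span {g}) :=
  LinearMap.prod (qmap c h hc) (qmap c g gc)

lemma psi_injective (c h g : A) (hc : h ∣ c) (gc : g ∣ c)
    (hdvd : ∀ z, h ∣ z → g ∣ z → c ∣ z) : Injective (psi c h g hc gc) := by
  rw [injective_iff_map_eq_zero]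
  intro x hx
  obtain ⟨a, rfl⟩ := Submodule.Quotient.mk_surjective _ x
  have h1 : (Submodule.Quotient.mk a : A ⧸ Ideal.span {h}) = 0 := congrArg Prod.fst hx
  have h2 : (Submodule.Quotient.mk a : A ⧸ Ideal.span {g}) = 0 := congrArg Prod.snd hx
  rw [Submodule.Quotient.mk_eq_zero, Ideal.mem_span_singleton] at h1 h2 ⊢
  exact hdvd a h1 h2

/-- The difference map `A/(h) × A/(g) → A/(h, g)`. -/
noncomputable def delta (h g : A) :
    (A ⧸ Ideal.span {h}) × (A ⧸ Ideal.span {g}) →ₗ[A] (A ⧸ Ideal.span ({h, g} : Set A)) :=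
  LinearMap.coprod
    (Submodule.mapQ (Ideal.span {h}) (Ideal.span ({h, g} : Set A)) LinearMap.id
      (Ideal.span_mono (by simp)))
    (-(Submodule.mapQ (Ideal.span {g}) (Ideal.span ({h, g} : Set A)) LinearMap.id
      (Ideal.span_mono (by simp))))

lemma delta_mk (h g : A) (a b : A) :
    delta h g (Submodule.Quotient.mk a, Submodule.Quotient.mk b) =
      Submodule.Quotient.mk (a - b) := by
  simp [delta, sub_eq_add_neg]

lemma colen_psi (c h g : A) (hc : h ∣ c) (gc : g ∣ c) :
    colen (psi c h g hc gc) = Module.length A (A ⧸ Ideal.span ({h, g} : Set A)) := by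
  refine colen_eq_of_surjective_of_ker _ (delta h g) ?_ ?_
  · intro y
    obtain ⟨a, rfl⟩ := Submodule.Quotient.mk_surjective _ y
    refine ⟨(Submodule.Quotient.mk a, Submodule.Quotient.mk 0), ?_⟩
    rw [delta_mk, sub_zero]
  · ext ⟨x, y⟩
    obtain ⟨a, rfl⟩ := Submodule.Quotient.mk_surjective _ x
    obtain ⟨b, rfl⟩ := Submodule.Quotient.mk_surjective _ y
    rw [LinearMap.mem_ker, delta_mk, Submodule.Quotient.mk_eq_zero, Ideal.mem_span_pair]
    constructor
    · rintro ⟨u, v, huv⟩
      refine ⟨Submodule.Quotient.mk (a - u * h), ?_⟩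
      change (qmap c h hc (Submodule.Quotient.mk (a - u * h)),
        qmap c g gc (Submodule.Quotient.mk (a - u * h))) = _
      rw [qmap_mk, qmap_mk]
      refine Prod.ext ?_ ?_
      · change (Submodule.Quotient.mk (a - u * h) : A ⧸ Ideal.span {h}) = Submodule.Quotient.mk a
        rw [Submodule.Quotient.eq, Ideal.mem_span_singleton]
        exact ⟨-u, by ring⟩
      · change (Submodule.Quotient.mk (a - u * h) : A ⧸ Ideal.span {g}) = Submodule.Quotient.mk b
        rw [Submodule.Quotient.eq, Ideal.mem_span_singleton]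
        exact ⟨v, by linear_combination -huv⟩
    · rintro ⟨z, hz⟩
      obtain ⟨w, rfl⟩ := Submodule.Quotient.mk_surjective _ z
      have h1 : (Submodule.Quotient.mk w : A ⧸ Ideal.span {h}) = Submodule.Quotient.mk a :=
        congrArg Prod.fst hz
      have h2 : (Submodule.Quotient.mk w : A ⧸ Ideal.span {g}) = Submodule.Quotient.mk b :=
        congrArg Prod.snd hz
      rw [Submodule.Quotient.eq, Ideal.mem_span_singleton] at h1 h2
      obtain ⟨u, hu⟩ := h1
      obtain ⟨v, hv⟩ := h2
      exact ⟨-u, v, by linear_combination hu - hv⟩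


variable [DecompositionMonoid A]

lemma length_pair_mul (h g1 g2 : A) (hrel : IsRelPrime h g1) :
    Module.length A (A ⧸ Ideal.span ({h, g1 * g2} : Set A)) =
      Module.length A (A ⧸ Ideal.span ({h, g2} : Set A)) +
        Module.length A (A ⧸ Ideal.span ({h, g1} : Set A)) := by
  have le1 : Ideal.span ({h, g2} : Set A) ≤
      Submodule.comap (LinearMap.lsmul A A g1) (Ideal.span ({h, g1 * g2} : Set A)) := by
    intro x hx
    rw [Ideal.mem_span_pair] at hx
    obtain ⟨u, v, rfl⟩ := hx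
    change g1 • (u * h + v * g2) ∈ Ideal.span ({h, g1 * g2} : Set A)
    rw [Ideal.mem_span_pair]
    exact ⟨g1 * u, v, by simp only [smul_eq_mul]; ring⟩
  have le2 : Ideal.span ({h, g1 * g2} : Set A) ≤
      Submodule.comap (LinearMap.id : A →ₗ[A] A) (Ideal.span ({h, g1} : Set A)) := by
    intro x hx
    rw [Ideal.mem_span_pair] at hx
    obtain ⟨u, v, rfl⟩ := hx
    change u * h + v * (g1 * g2) ∈ Ideal.span ({h, g1} : Set A)
    rw [Ideal.mem_span_pair]
    exact ⟨u, v * g2, by ring⟩
  let f := Submodule.mapQ _ _ (LinearMap.lsmul A A g1) le1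
  let g := Submodule.mapQ _ _ (LinearMap.id : A →ₗ[A] A) le2
  refine Module.length_eq_add_of_exact f g ?_ ?_ ?_
  · rw [injective_iff_map_eq_zero]
    intro x hx
    obtain ⟨a, rfl⟩ := Submodule.Quotient.mk_surjective _ x
    change Submodule.Quotient.mk (g1 • a) = 0 at hx
    rw [Submodule.Quotient.mk_eq_zero, Ideal.mem_span_pair] at hx
    obtain ⟨u, v, huv⟩ := hx
    rw [Submodule.Quotient.mk_eq_zero, Ideal.mem_span_pair]
    have hdvd : h ∣ g1 * (a - v * g2) := ⟨u, by simp only [smul_eq_mul] at huv; linear_combination -huv⟩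
    obtain ⟨w, hw⟩ := hrel.dvd_of_dvd_mul_left hdvd
    exact ⟨w, v, by linear_combination -hw⟩
  · intro y
    obtain ⟨a, rfl⟩ := Submodule.Quotient.mk_surjective _ y
    exact ⟨Submodule.Quotient.mk a, rfl⟩
  · intro y
    obtain ⟨a, rfl⟩ := Submodule.Quotient.mk_surjective _ y
    constructor
    · intro hy
      change Submodule.Quotient.mk a = 0 at hy
      rw [Submodule.Quotient.mk_eq_zero, Ideal.mem_span_pair] at hy
      obtain ⟨u, v, rfl⟩ := hy
      refine ⟨Submodule.Quotient.mk v, ?_⟩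
      change Submodule.Quotient.mk (g1 • v) = Submodule.Quotient.mk (u * h + v * g1)
      rw [Submodule.Quotient.eq, Ideal.mem_span_pair]
      exact ⟨-u, 0, by simp only [smul_eq_mul]; ring⟩
    · rintro ⟨x, hx⟩
      obtain ⟨b, rfl⟩ := Submodule.Quotient.mk_surjective _ x
      rw [← hx]
      change Submodule.Quotient.mk (g1 • b) = 0
      rw [Submodule.Quotient.mk_eq_zero, Ideal.mem_span_pair]
      exact ⟨0, b, by simp only [smul_eq_mul]; ring⟩

lemma length_pair_prod {ι : Type*} (h : A) (g : ι → A) (s : Finset ι)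
    (hrel : ∀ j ∈ s, IsRelPrime h (g j)) :
    Module.length A (A ⧸ Ideal.span ({h, ∏ j ∈ s, g j} : Set A)) =
      ∑ j ∈ s, Module.length A (A ⧸ Ideal.span ({h, g j} : Set A)) := by
  classical
  induction s using Finset.induction_on with
  | empty =>
    rw [Finset.prod_empty, Finset.sum_empty, Module.length_eq_zero_iff]
    have : Ideal.span ({h, 1} : Set A) = ⊤ :=
      Ideal.eq_top_of_isUnit_mem _ (Ideal.subset_span (by simp)) isUnit_one
    rw [this]
    infer_instance
  | insert j s hj ih =>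
    rw [Finset.prod_insert hj, Finset.sum_insert hj,
      length_pair_mul h (g j) _ (hrel j (Finset.mem_insert_self j s)),
      ih (fun k hk => hrel k (Finset.mem_insert_of_mem hk)), add_comm]


omit [DecompositionMonoid A] in
lemma sum_lt_succ {M : Type*} [AddCommMonoid M] {n : ℕ} (F : Fin (n+1) → Fin (n+1) → M) :
    ∑ p ∈ (Finset.univ : Finset (Fin (n+1) × Fin (n+1))) with p.1 < p.2, F p.1 p.2 =
      ∑ j : Fin n, F 0 j.succ +
        ∑ p ∈ (Finset.univ : Finset (Fin n × Fin n)) with p.1 < p.2, F p.1.succ p.2.succ := by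
  rw [Finset.sum_filter, Finset.sum_filter, Fintype.sum_prod_type, Fintype.sum_prod_type]
  rw [Fin.sum_univ_succ]
  congr 1
  · rw [Fin.sum_univ_succ]
    simp
  · apply Finset.sum_congr rfl
    intro i _
    rw [Fin.sum_univ_succ]
    simp [Fin.succ_lt_succ_iff]

/-- The canonical map `A/(∏ f_i) → ∏ A/(f_i)`. -/
noncomputable def phi {n : ℕ} (f : Fin n → A) :
    (A ⧸ Ideal.span {∏ i, f i}) →ₗ[A] ((i : Fin n) → A ⧸ Ideal.span {f i}) :=
  LinearMap.pi (fun i => Submodule.mapQ (Ideal.span {∏ i, f i}) (Ideal.span {f i}) LinearMap.id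
    (Ideal.span_singleton_le_span_singleton.mpr (Finset.dvd_prod_of_mem f (Finset.mem_univ i))))

omit [DecompositionMonoid A] in
lemma phi_mk {n : ℕ} (f : Fin n → A) (a : A) (i : Fin n) :
    phi f (Submodule.Quotient.mk a) i = Submodule.Quotient.mk a := rfl

theorem main : ∀ (n : ℕ) (f : Fin n → A), (∀ i j, i ≠ j → IsRelPrime (f i) (f j)) →
    Injective (phi f) ∧ colen (phi f) =
      ∑ p ∈ (Finset.univ : Finset (Fin n × Fin n)) with p.1 < p.2,
        Module.length A (A ⧸ Ideal.span ({f p.1, f p.2} : Set A)) := by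
  intro n
  induction n with
  | zero =>
    intro f _
    have htop : Ideal.span {∏ i, f i} = (⊤ : Ideal A) := by simp
    have hsub : Subsingleton (A ⧸ Ideal.span {∏ i, f i}) :=
      Ideal.Quotient.subsingleton_iff.mpr htop
    refine ⟨Function.injective_of_subsingleton _, ?_⟩
    unfold colen
    rw [Finset.sum_eq_zero (fun p _ => p.1.elim0), Module.length_eq_zero_iff]
    infer_instance
  | succ n ih =>
    intro f hrel
    have hrel' : ∀ i j : Fin n, i ≠ j → IsRelPrime (f i.succ) (f j.succ) :=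
      fun i j hij => hrel _ _ (fun h => hij (Fin.succ_injective _ h))
    obtain ⟨ihinj, ihlen⟩ := ih (fun j => f j.succ) hrel'
    have hcg : ∏ i, f i = f 0 * ∏ j : Fin n, f j.succ := Fin.prod_univ_succ f
    have hc : f 0 ∣ ∏ i, f i := ⟨_, hcg⟩
    have gc : (∏ j : Fin n, f j.succ) ∣ ∏ i, f i := ⟨f 0, by rw [hcg, mul_comm]⟩
    have hrelhg : IsRelPrime (f 0) (∏ j : Fin n, f j.succ) :=
      IsRelPrime.prod_right (fun j _ => hrel 0 j.succ (Fin.succ_ne_zero j).symm)
    have hdvd : ∀ z, f 0 ∣ z → (∏ j : Fin n, f j.succ) ∣ z → (∏ i, f i) ∣ z := by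
      intro z h1 h2
      rw [hcg]
      exact hrelhg.mul_dvd h1 h2
    let Ψ := psi (∏ i, f i) (f 0) (∏ j : Fin n, f j.succ) hc gc
    let Θ := LinearMap.prodMap (LinearMap.id : (A ⧸ Ideal.span {f 0}) →ₗ[A] _)
      (phi (fun j : Fin n => f j.succ))
    let E := Fin.consLinearEquiv A (fun i : Fin (n + 1) => A ⧸ Ideal.span {f i})
    have hΨ : Injective Ψ := psi_injective _ _ _ hc gc hdvd
    have hΘ : Injective Θ := by
      intro x y hxy
      simp only [Θ, LinearMap.prodMap_apply, LinearMap.id_coe, id_eq, Prod.mk.injEq] at hxy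
      exact Prod.ext hxy.1 (ihinj hxy.2)
    have hEΘ : Injective (E.toLinearMap ∘ₗ Θ) := by
      rw [LinearMap.coe_comp, LinearEquiv.coe_coe]
      exact E.injective.comp hΘ
    have key : phi f = (E.toLinearMap ∘ₗ Θ) ∘ₗ Ψ := by
      apply LinearMap.ext
      intro x
      obtain ⟨a, rfl⟩ := Submodule.Quotient.mk_surjective _ x
      funext i
      refine Fin.cases ?_ (fun j => ?_) i
      · rfl
      · rfl
    refine ⟨?_, ?_⟩
    · rw [key]
      exact hEΘ.comp hΨ
    · rw [key, colen_comp Ψ _ hEΘ, colen_comp Θ E.toLinearMap E.injective, colen_equiv, add_zero,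
        colen_psi, colen_id_prodMap, ihlen,
        sum_lt_succ (fun i j => Module.length A (A ⧸ Ideal.span ({f i, f j} : Set A)))]
      congr 1
      exact length_pair_prod (f 0) (fun j : Fin n => f j.succ) Finset.univ
        (fun j _ => hrel 0 j.succ (Fin.succ_ne_zero j).symm)

end ring

end Groth.Agent.Lib.PiQuotLen99
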