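import Mathlib

/-!
# Finite tensor powers commute with directed colimits (`Groth.Agent.Lib.PiTensorDirLim`)

`N` is an "abstract directed colimit" of modules `M i` along `t i j`, with structure maps `φ i`
(compatible, jointly surjective, and with kernel killed at a later stage). Then for a finite index type
`κ`, the tensor power `⨂[A] _ : κ, N` is the directed colimit of `⨂[A] _ : κ, M i`:

* `exists_map_eq`: every tensor comes from some stage;
* `exists_map_eq_zero`: a tensor at stage `i` dying in the colimit dies at some later stage.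
-/

open scoped TensorProduct
open PiTensorProduct

set_option linter.unusedSectionVars false

namespace Groth.Agent.Lib.PiTensorDirLim

universe uA uι uκ uM uN

section

variable {A : Type uA} [CommRing A] {ι : Type uι} [Preorder ι] [IsDirected ι (fun i j => i ≤ j)] [Nonempty ι]
  {κ : Type uκ} [Finite κ]
  {M : ι → Type uM} [∀ i, AddCommGroup (M i)] [∀ i, Module A (M i)]
  {N : Type uN} [AddCommGroup N] [Module A N]
  (t : ∀ i j : ι, i ≤ j → (M i →ₗ[A] M j)) (φ : ∀ i, M i →ₗ[A] N)

include t in
omit [Finite κ] in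
theorem exists_lift_family
    (hcomp : ∀ (i j : ι) (h : i ≤ j), (φ j).comp (t i j h) = φ i)
    (hsurj : ∀ b : N, ∃ (i : ι) (x : M i), φ i x = b) {κ' : Type*} [Finite κ'] (b : κ' → N) :
    ∃ (i : ι) (x : κ' → M i), ∀ k, φ i (x k) = b k := by
  choose ik xk hk using fun k => hsurj (b k)
  obtain ⟨i, hi⟩ := Finite.exists_le ik
  refine ⟨i, fun k => t (ik k) i (hi k) (xk k), fun k => ?_⟩
  have := LinearMap.congr_fun (hcomp (ik k) i (hi k)) (xk k)
  simp only [LinearMap.comp_apply] at this
  rw [this, hk]

include φ in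
theorem exists_eq_family
    (hzero : ∀ (i : ι) (x : M i), φ i x = 0 → ∃ (j : ι) (h : i ≤ j), t i j h x = 0)
    (htrans : ∀ (i j k : ι) (hij : i ≤ j) (hjk : j ≤ k),
      (t j k hjk).comp (t i j hij) = t i k (hij.trans hjk))
    (i : ι) (x x' : κ → M i) (h : ∀ k, φ i (x k) = φ i (x' k)) :
    ∃ (j : ι) (hij : i ≤ j), ∀ k, t i j hij (x k) = t i j hij (x' k) := by
  have h1 : ∀ k, ∃ (j : ι) (hij : i ≤ j), t i j hij (x k - x' k) = 0 := fun k =>
    hzero i (x k - x' k) (by rw [map_sub, h k, sub_self])
  choose jk hjk hk using h1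
  obtain ⟨j, hj⟩ := Finite.exists_le jk
  obtain ⟨j', hj'1, hj'2⟩ := exists_ge_ge i j
  refine ⟨j', hj'1, fun k => ?_⟩
  have h2 : t i j' hj'1 (x k - x' k) = 0 := by
    have := LinearMap.congr_fun (htrans i (jk k) j' (hjk k) ((hj k).trans hj'2)) (x k - x' k)
    simp only [LinearMap.comp_apply] at this
    rw [← this, hk k, map_zero]
  rw [map_sub, sub_eq_zero] at h2
  exact h2

end

section

variable {A : Type uA} [CommRing A] {ι : Type uι} [Preorder ι] [IsDirected ι (fun i j => i ≤ j)] [Nonempty ι]
  {κ : Type uκ} [Finite κ]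
  {M : ι → Type uM} [∀ i, AddCommGroup (M i)] [∀ i, Module A (M i)]
  {N : Type uN} [AddCommGroup N] [Module A N]

/-- The hypotheses making `N` a directed colimit of the `M i`. -/
structure IsColim (t : ∀ i j : ι, i ≤ j → (M i →ₗ[A] M j)) (φ : ∀ i, M i →ₗ[A] N) : Prop where
  hcomp : ∀ (i j : ι) (h : i ≤ j), (φ j).comp (t i j h) = φ i
  hsurj : ∀ b : N, ∃ (i : ι) (x : M i), φ i x = b
  hzero : ∀ (i : ι) (x : M i), φ i x = 0 → ∃ (j : ι) (h : i ≤ j), t i j h x = 0
  hid : ∀ (i : ι) (h : i ≤ i), t i i h = LinearMap.id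
  htrans : ∀ (i j k : ι) (hij : i ≤ j) (hjk : j ≤ k),
      (t j k hjk).comp (t i j hij) = t i k (hij.trans hjk)

variable {t : ∀ i j : ι, i ≤ j → (M i →ₗ[A] M j)} {φ : ∀ i, M i →ₗ[A] N}

namespace IsColim

variable (H : IsColim t φ)
include H

theorem φ_t (i j : ι) (h : i ≤ j) (x : M i) : φ j (t i j h x) = φ i x := by
  have := LinearMap.congr_fun (H.hcomp i j h) x
  simpa using this

theorem t_t (i j k : ι) (hij : i ≤ j) (hjk : j ≤ k) (x : M i) :
    t j k hjk (t i j hij x) = t i k (hij.trans hjk) x := by
  have := LinearMap.congr_fun (H.htrans i j k hij hjk) x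
  simpa using this

theorem map_map_t (i j k : ι) (hij : i ≤ j) (hjk : j ≤ k) (y : ⨂[A] _ : κ, M i) :
    PiTensorProduct.map (fun _ => t j k hjk) (PiTensorProduct.map (fun _ => t i j hij) y) =
      PiTensorProduct.map (fun _ => t i k (hij.trans hjk)) y := by
  have := PiTensorProduct.map_comp (R := A) (fun _ : κ => t j k hjk) (fun _ : κ => t i j hij)
  rw [← LinearMap.comp_apply, ← this]
  congr 2
  funext _
  exact H.htrans i j k hij hjk

theorem map_φ_map_t (i j : ι) (hij : i ≤ j) (y : ⨂[A] _ : κ, M i) :
    PiTensorProduct.map (fun _ => φ j) (PiTensorProduct.map (fun _ => t i j hij) y) =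
      PiTensorProduct.map (fun _ => φ i) y := by
  have := PiTensorProduct.map_comp (R := A) (fun _ : κ => φ j) (fun _ : κ => t i j hij)
  rw [← LinearMap.comp_apply, ← this]
  congr 2
  funext _
  exact H.hcomp i j hij

theorem map_t_self (i : ι) (h : i ≤ i) (y : ⨂[A] _ : κ, M i) :
    PiTensorProduct.map (fun _ => t i i h) y = y := by
  have : (fun _ : κ => t i i h) = fun _ => LinearMap.id := by
    funext _; exact H.hid i h
  rw [this, PiTensorProduct.map_id]; rfl

end IsColim


section Main

open Classical in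
/-- The directed colimit of the tensor powers. -/
abbrev D (κ : Type uκ) (t : ∀ i j : ι, i ≤ j → (M i →ₗ[A] M j)) : Type _ :=
  Module.DirectLimit (fun i => ⨂[A] _ : κ, M i)
    (fun i j h => PiTensorProduct.map (fun _ : κ => t i j h))

variable (H : IsColim t φ)
include H

theorem directedSystem :
    DirectedSystem (fun i => ⨂[A] _ : κ, M i)
      (fun i j h => ⇑(PiTensorProduct.map (R := A) (fun _ : κ => t i j h))) where
  map_self i x := H.map_t_self i le_rfl x
  map_map k j i hij hjk x := H.map_map_t i j k hij hjk x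

open Classical in
/-- well-definedness: two lifts of the same family give the same element of the colimit. -/
theorem of_tprod_eq (i i' : ι) (x : κ → M i) (x' : κ → M i')
    (h : ∀ k, φ i (x k) = φ i' (x' k)) :
    Module.DirectLimit.of A ι (fun i => ⨂[A] _ : κ, M i)
        (fun i j h => PiTensorProduct.map (fun _ : κ => t i j h)) i (tprod A x) =
      Module.DirectLimit.of A ι (fun i => ⨂[A] _ : κ, M i)
        (fun i j h => PiTensorProduct.map (fun _ : κ => t i j h)) i' (tprod A x') := by
  obtain ⟨j0, h1, h2⟩ := exists_ge_ge i i'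
  have h3 : ∀ k, φ j0 (t i j0 h1 (x k)) = φ j0 (t i' j0 h2 (x' k)) := fun k => by
    rw [H.φ_t, H.φ_t, h k]
  obtain ⟨j, hj, hjk⟩ := exists_eq_family t φ H.hzero H.htrans j0 _ _ h3
  have e1 : Module.DirectLimit.of A ι (fun i => ⨂[A] _ : κ, M i)
        (fun i j h => PiTensorProduct.map (fun _ : κ => t i j h)) i (tprod A x) =
      Module.DirectLimit.of A ι (fun i => ⨂[A] _ : κ, M i)
        (fun i j h => PiTensorProduct.map (fun _ : κ => t i j h)) j
          (tprod A fun k => t i j (h1.trans hj) (x k)) := by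
    rw [← Module.DirectLimit.of_f (hij := h1.trans hj), PiTensorProduct.map_tprod]
  have e2 : Module.DirectLimit.of A ι (fun i => ⨂[A] _ : κ, M i)
        (fun i j h => PiTensorProduct.map (fun _ : κ => t i j h)) i' (tprod A x') =
      Module.DirectLimit.of A ι (fun i => ⨂[A] _ : κ, M i)
        (fun i j h => PiTensorProduct.map (fun _ : κ => t i j h)) j
          (tprod A fun k => t i' j (h2.trans hj) (x' k)) := by
    rw [← Module.DirectLimit.of_f (hij := h2.trans hj), PiTensorProduct.map_tprod]
  rw [e1, e2]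
  congr 2
  funext k
  rw [← H.t_t i j0 j h1 hj, ← H.t_t i' j0 j h2 hj]
  exact hjk k

theorem IsColim.exists_lift {κ' : Type*} [Finite κ'] (b : κ' → N) :
    ∃ (i : ι) (x : κ' → M i), ∀ k, φ i (x k) = b k :=
  exists_lift_family t φ H.hcomp H.hsurj b

omit H in
open Classical in
/-- the underlying function of the multilinear map `N^κ → colim ⨂ M i`. -/
noncomputable def mfun (H : IsColim t φ) (b : κ → N) : D (A := A) κ t :=
  Module.DirectLimit.of A ι (fun i => ⨂[A] _ : κ, M i)
    (fun i j h => PiTensorProduct.map (fun _ : κ => t i j h)) (H.exists_lift b).choose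
      (tprod A (H.exists_lift b).choose_spec.choose)

open Classical in
theorem mfun_eq (b : κ → N) (i : ι) (x : κ → M i) (h : ∀ k, φ i (x k) = b k) :
    mfun H b = Module.DirectLimit.of A ι (fun i => ⨂[A] _ : κ, M i)
      (fun i j h => PiTensorProduct.map (fun _ : κ => t i j h)) i (tprod A x) := by
  unfold mfun
  apply of_tprod_eq H
  intro k
  rw [(H.exists_lift b).choose_spec.choose_spec k, h k]

omit H in
open Classical in
/-- the multilinear map `N^κ → colim ⨂ M i`. -/
noncomputable def m (H : IsColim t φ) : MultilinearMap A (fun _ : κ => N) (D (A := A) κ t) where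
  toFun := mfun H
  map_update_add' := by
    intro _ b k c c'
    obtain ⟨i, z, hz⟩ := H.exists_lift (κ' := κ ⊕ Fin 2) (Sum.elim b ![c, c'])
    have hx : ∀ k', φ i (z (Sum.inl k')) = b k' := fun k' => hz (Sum.inl k')
    have hy : φ i (z (Sum.inr 0)) = c := hz (Sum.inr 0)
    have hy' : φ i (z (Sum.inr 1)) = c' := hz (Sum.inr 1)
    rw [mfun_eq H _ i (Function.update (fun k' => z (Sum.inl k')) k (z (Sum.inr 0) + z (Sum.inr 1))),
      mfun_eq H _ i (Function.update (fun k' => z (Sum.inl k')) k (z (Sum.inr 0))),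
      mfun_eq H _ i (Function.update (fun k' => z (Sum.inl k')) k (z (Sum.inr 1))),
      MultilinearMap.map_update_add, map_add]
    · intro k'
      by_cases hk : k' = k
      · subst hk; simp [hy']
      · simp [Function.update_of_ne hk, hx]
    · intro k'
      by_cases hk : k' = k
      · subst hk; simp [hy]
      · simp [Function.update_of_ne hk, hx]
    · intro k'
      by_cases hk : k' = k
      · subst hk; simp [hy, hy']
      · simp [Function.update_of_ne hk, hx]
  map_update_smul' := by
    intro _ b k a c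
    obtain ⟨i, z, hz⟩ := H.exists_lift (κ' := κ ⊕ Fin 1) (Sum.elim b ![c])
    have hx : ∀ k', φ i (z (Sum.inl k')) = b k' := fun k' => hz (Sum.inl k')
    have hy : φ i (z (Sum.inr 0)) = c := hz (Sum.inr 0)
    rw [mfun_eq H _ i (Function.update (fun k' => z (Sum.inl k')) k (a • z (Sum.inr 0))),
      mfun_eq H _ i (Function.update (fun k' => z (Sum.inl k')) k (z (Sum.inr 0))),
      MultilinearMap.map_update_smul, map_smul]
    · intro k'
      by_cases hk : k' = k
      · subst hk; simp [hy]
      · simp [Function.update_of_ne hk, hx]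
    · intro k'
      by_cases hk : k' = k
      · subst hk; simp [hy]
      · simp [Function.update_of_ne hk, hx]

omit H in
open Classical in
/-- the natural map from the colimit of tensor powers to the tensor power of the colimit. -/
noncomputable def Psi (H : IsColim t φ) : D (A := A) κ t →ₗ[A] ⨂[A] _ : κ, N :=
  Module.DirectLimit.lift A ι (fun i => ⨂[A] _ : κ, M i)
    (fun i j h => PiTensorProduct.map (fun _ : κ => t i j h))
    (fun i => PiTensorProduct.map (fun _ : κ => φ i))
    (fun i j hij x => H.map_φ_map_t i j hij x)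

omit H in
/-- the inverse map. -/
noncomputable def Theta (H : IsColim t φ) : (⨂[A] _ : κ, N) →ₗ[A] D (A := A) κ t :=
  PiTensorProduct.lift (m H)

open Classical in
theorem Theta_Psi_of (i : ι) (y : ⨂[A] _ : κ, M i) :
    Theta H (Psi H (Module.DirectLimit.of A ι (fun i => ⨂[A] _ : κ, M i)
      (fun i j h => PiTensorProduct.map (fun _ : κ => t i j h)) i y)) =
    Module.DirectLimit.of A ι (fun i => ⨂[A] _ : κ, M i)
      (fun i j h => PiTensorProduct.map (fun _ : κ => t i j h)) i y := by
  induction y using PiTensorProduct.induction_on with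
  | smul_tprod a x =>
    rw [map_smul, map_smul, map_smul]
    congr 1
    unfold Psi Theta
    rw [Module.DirectLimit.lift_of, PiTensorProduct.map_tprod, PiTensorProduct.lift.tprod]
    exact mfun_eq H _ i x (fun k => rfl)
  | add x y hx hy => rw [map_add, map_add, map_add, hx, hy]

open Classical in
/-- injectivity part: a tensor dying in the colimit dies at a later stage. -/
theorem exists_map_eq_zero (i : ι) (y : ⨂[A] _ : κ, M i)
    (hy : PiTensorProduct.map (fun _ : κ => φ i) y = 0) :
    ∃ (j : ι) (h : i ≤ j), PiTensorProduct.map (fun _ : κ => t i j h) y = 0 := by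
  have h1 : Psi H (Module.DirectLimit.of A ι (fun i => ⨂[A] _ : κ, M i)
      (fun i j h => PiTensorProduct.map (fun _ : κ => t i j h)) i y) = 0 := by
    unfold Psi
    rw [Module.DirectLimit.lift_of, hy]
  have h2 := Theta_Psi_of H i y
  rw [h1, map_zero] at h2
  haveI := directedSystem (κ := κ) H
  exact Module.DirectLimit.of.zero_exact h2.symm

/-- surjectivity part: every tensor comes from some stage. -/
theorem exists_map_eq (z : ⨂[A] _ : κ, N) :
    ∃ (i : ι) (y : ⨂[A] _ : κ, M i), PiTensorProduct.map (fun _ : κ => φ i) y = z := by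
  induction z using PiTensorProduct.induction_on with
  | smul_tprod a b =>
    obtain ⟨i, x, hx⟩ := H.exists_lift b
    refine ⟨i, a • tprod A x, ?_⟩
    rw [map_smul, PiTensorProduct.map_tprod]
    congr 2
    funext k
    exact hx k
  | add z1 z2 h1 h2 =>
    obtain ⟨i1, y1, hy1⟩ := h1
    obtain ⟨i2, y2, hy2⟩ := h2
    obtain ⟨j, hj1, hj2⟩ := exists_ge_ge i1 i2
    refine ⟨j, PiTensorProduct.map (fun _ : κ => t i1 j hj1) y1 +
      PiTensorProduct.map (fun _ : κ => t i2 j hj2) y2, ?_⟩
    rw [map_add, H.map_φ_map_t, H.map_φ_map_t, hy1, hy2]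

end Main

end

end Groth.Agent.Lib.PiTensorDirLim
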