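import Mathlib

/-!
# Swapping two factors of a tensor power (helper99)

The swap of the factors `i`, `j` of `⨂[k] _ : ι, A` as an algebra endomorphism `rhoA`; it acts
trivially modulo the diagonal ideal `diagIdeal i j` and by `(-1)^s` on `I^s / I^(s+1)`.
-/

set_option autoImplicit false
universe u v w

namespace Groth.Agent.Lib.PiTensorSwap

open PiTensorProduct
open scoped TensorProduct

variable {k : Type u} [CommRing k] {A : Type v} [CommRing A] [Algebra k A]
variable {ι : Type w}

/-- Reindexing the factors of a tensor power, as a linear endomorphism. -/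
noncomputable def rho (e : ι ≃ ι) : (⨂[k] _ : ι, A) →ₗ[k] (⨂[k] _ : ι, A) :=
  (PiTensorProduct.reindex k (fun _ : ι => A) e).toLinearMap

lemma rho_apply (e : ι ≃ ι) (x : ⨂[k] _ : ι, A) :
    rho e x = PiTensorProduct.reindex k (fun _ : ι => A) e x := rfl

lemma rho_tprod (e : ι ≃ ι) (f : ι → A) :
    rho (k := k) e (tprod k f) = tprod k (fun i => f (e.symm i)) :=
  PiTensorProduct.reindex_tprod e f

lemma rho_one (e : ι ≃ ι) : rho (k := k) (A := A) e 1 = 1 := by
  rw [PiTensorProduct.one_def, rho_tprod]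
  rfl

lemma rho_mul (e : ι ≃ ι) (x y : ⨂[k] _ : ι, A) :
    rho e (x * y) = rho e x * rho e y := by
  induction x using PiTensorProduct.induction_on with
  | smul_tprod r f =>
    induction y using PiTensorProduct.induction_on with
    | smul_tprod r' g =>
      rw [smul_mul_smul_comm, tprod_mul_tprod, map_smul, map_smul, map_smul, rho_tprod, rho_tprod,
        rho_tprod, smul_mul_smul_comm, tprod_mul_tprod]
      rfl
    | add y y' hy hy' => rw [mul_add, map_add, map_add, mul_add, hy, hy']
  | add x x' hx hx' => rw [add_mul, map_add, map_add, add_mul, hx, hx']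

/-- Reindexing as an algebra endomorphism. -/
noncomputable def rhoA (e : ι ≃ ι) : (⨂[k] _ : ι, A) →ₐ[k] (⨂[k] _ : ι, A) :=
  AlgHom.ofLinearMap (rho e) (rho_one e) (rho_mul e)

lemma rhoA_apply (e : ι ≃ ι) (x : ⨂[k] _ : ι, A) :
    rhoA e x = PiTensorProduct.reindex k (fun _ : ι => A) e x := rfl

lemma rhoA_single [DecidableEq ι] (e : ι ≃ ι) (l : ι) (a : A) :
    rhoA e (singleAlgHom (R := k) (A := fun _ : ι => A) l a) =
      singleAlgHom (R := k) (A := fun _ : ι => A) (e l) a := by
  rw [rhoA_apply, singleAlgHom_apply, singleAlgHom_apply, PiTensorProduct.reindex_tprod]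
  congr 1
  funext i
  simp only [MonoidHom.mulSingle_apply, Pi.mulSingle_apply]
  by_cases h : i = e l
  · rw [if_pos h, if_pos (by rw [h, Equiv.symm_apply_apply])]
  · rw [if_neg h, if_neg (fun h' => h (by rw [← h', Equiv.apply_symm_apply]))]

section Diag

variable [Finite ι] [DecidableEq ι] (i j : ι)

/-- The generators `a_i - a_j` of the ideal of the `(i,j)` diagonal. -/
noncomputable def delta (a : A) : ⨂[k] _ : ι, A :=
  singleAlgHom (R := k) (A := fun _ : ι => A) i a - singleAlgHom (R := k) (A := fun _ : ι => A) j a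

/-- The ideal of the `(i,j)` diagonal. -/
noncomputable def diagIdeal : Ideal (⨂[k] _ : ι, A) :=
  Ideal.span (Set.range (delta (k := k) (A := A) i j))

omit [Finite ι] in
lemma delta_mem (a : A) : delta (k := k) i j a ∈ diagIdeal (k := k) (A := A) i j :=
  Ideal.subset_span ⟨a, rfl⟩

omit [Finite ι] in
lemma rhoA_delta (a : A) :
    rhoA (Equiv.swap i j) (delta (k := k) i j a) = -delta (k := k) i j a := by
  rw [delta, map_sub, rhoA_single, rhoA_single, Equiv.swap_apply_left, Equiv.swap_apply_right,
    neg_sub]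

/-- The swap acts trivially modulo the diagonal ideal. -/
lemma mk_comp_rhoA :
    (Ideal.Quotient.mkₐ k (diagIdeal (k := k) (A := A) i j)).comp (rhoA (Equiv.swap i j)) =
      Ideal.Quotient.mkₐ k (diagIdeal (k := k) (A := A) i j) := by
  apply PiTensorProduct.algHom_ext
  intro l
  ext a
  simp only [AlgHom.comp_apply, rhoA_single]
  rw [Ideal.Quotient.mkₐ_eq_mk, Ideal.Quotient.eq]
  by_cases hl : l = i
  · subst hl
    rw [Equiv.swap_apply_left]
    have := delta_mem (k := k) l j a
    rw [← neg_mem_iff, delta, neg_sub] at this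
    exact this
  · by_cases hl' : l = j
    · subst hl'
      rw [Equiv.swap_apply_right]
      exact delta_mem (k := k) i l a
    · rw [Equiv.swap_apply_of_ne_of_ne hl hl', sub_self]
      exact zero_mem _

lemma rhoA_sub_mem (r : ⨂[k] _ : ι, A) :
    rhoA (Equiv.swap i j) r - r ∈ diagIdeal (k := k) (A := A) i j := by
  rw [← Ideal.Quotient.eq]
  exact DFunLike.congr_fun (mk_comp_rhoA (k := k) (A := A) i j) r

lemma rhoA_add_mem_sq {g : ⨂[k] _ : ι, A} (hg : g ∈ diagIdeal (k := k) (A := A) i j) :
    rhoA (Equiv.swap i j) g + g ∈ diagIdeal (k := k) (A := A) i j ^ 2 := by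
  have hg' : g ∈ Submodule.span (⨂[k] _ : ι, A) (Set.range (delta (k := k) (A := A) i j)) := hg
  clear hg
  induction hg' using Submodule.span_induction with
  | mem g hg =>
    obtain ⟨a, rfl⟩ := hg
    rw [rhoA_delta, neg_add_cancel]
    exact zero_mem _
  | zero => rw [map_zero, add_zero]; exact zero_mem _
  | add x y hx' hy' hx hy =>
    have := add_mem hx hy
    rw [map_add]
    convert this using 1
    ring
  | smul r g hg' h =>
    rw [smul_eq_mul, map_mul]
    have h1 : rhoA (Equiv.swap i j) r * rhoA (Equiv.swap i j) g + r * g =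
        rhoA (Equiv.swap i j) r * (rhoA (Equiv.swap i j) g + g) -
          (rhoA (Equiv.swap i j) r - r) * g := by ring
    rw [h1]
    refine sub_mem (Ideal.mul_mem_left _ _ h) ?_
    rw [pow_two]
    exact Ideal.mul_mem_mul (rhoA_sub_mem i j r) hg'

lemma rhoA_mem {g : ⨂[k] _ : ι, A} (hg : g ∈ diagIdeal (k := k) (A := A) i j) :
    rhoA (Equiv.swap i j) g ∈ diagIdeal (k := k) (A := A) i j := by
  have := rhoA_add_mem_sq i j hg
  have h2 : rhoA (Equiv.swap i j) g = (rhoA (Equiv.swap i j) g + g) - g := by ring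
  rw [h2]
  exact sub_mem (Ideal.pow_le_self two_ne_zero this) hg

/-- The swap acts by `(-1)^s` on `I^s / I^(s+1)`. -/
lemma rhoA_sub_pow_mem (s : ℕ) : ∀ y ∈ diagIdeal (k := k) (A := A) i j ^ s,
    rhoA (Equiv.swap i j) y - (-1) ^ s * y ∈ diagIdeal (k := k) (A := A) i j ^ (s + 1) := by
  induction s with
  | zero =>
    intro y _
    rw [pow_zero, one_mul, zero_add, pow_one]
    exact rhoA_sub_mem i j y
  | succ s ih =>
    intro y hy
    rw [pow_succ'] at hy
    refine Submodule.mul_induction_on hy ?_ ?_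
    · intro g hg y' hy'
      have h1 : rhoA (Equiv.swap i j) (g * y') - (-1) ^ (s + 1) * (g * y') =
          rhoA (Equiv.swap i j) g * (rhoA (Equiv.swap i j) y' - (-1) ^ s * y') +
            (-1) ^ s * ((rhoA (Equiv.swap i j) g + g) * y') := by
        rw [map_mul]; ring
      rw [h1]
      refine add_mem ?_ (Ideal.mul_mem_left _ _ ?_)
      · rw [pow_succ' _ (s + 1)]
        exact Ideal.mul_mem_mul (rhoA_mem i j hg) (ih y' hy')
      · have : diagIdeal (k := k) (A := A) i j ^ (s + 1 + 1) =
            diagIdeal (k := k) (A := A) i j ^ 2 * diagIdeal (k := k) (A := A) i j ^ s := by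
          rw [← pow_add]; congr 1; omega
        rw [this]
        exact Ideal.mul_mem_mul (rhoA_add_mem_sq i j hg) hy'
    · intro x y hx hy
      have : rhoA (Equiv.swap i j) (x + y) - (-1) ^ (s + 1) * (x + y) =
          (rhoA (Equiv.swap i j) x - (-1) ^ (s + 1) * x) +
            (rhoA (Equiv.swap i j) y - (-1) ^ (s + 1) * y) := by
        rw [map_add]; ring
      rw [this]
      exact add_mem hx hy

/-- A swap-invariant element of an odd power of the diagonal ideal lies in the next power, when `2`
is invertible. -/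
theorem mem_pow_even_of_invariant (h2 : IsUnit (2 : ⨂[k] _ : ι, A)) (m : ℕ) (hm : 1 ≤ m)
    (x : ⨂[k] _ : ι, A) (hx : rhoA (Equiv.swap i j) x = x)
    (hmem : x ∈ diagIdeal (k := k) (A := A) i j ^ (2 * m - 1)) :
    x ∈ diagIdeal (k := k) (A := A) i j ^ (2 * m) := by
  have h := rhoA_sub_pow_mem i j (2 * m - 1) x hmem
  have hodd : Odd (2 * m - 1) := ⟨m - 1, by omega⟩
  rw [hx, hodd.neg_one_pow, show 2 * m - 1 + 1 = 2 * m by omega] at h
  have h' : 2 * x ∈ diagIdeal (k := k) (A := A) i j ^ (2 * m) := by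
    convert h using 1; ring
  obtain ⟨u, hu⟩ := h2
  have : x = ↑u⁻¹ * (2 * x) := by
    rw [← mul_assoc, ← hu, Units.inv_mul, one_mul]
  rw [this]
  exact Ideal.mul_mem_left _ _ h'

end Diag

end Groth.Agent.Lib.PiTensorSwap
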