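import Mathlib

/-!
# The largest finite étale subalgebra `π₀` of a subalgebra of a finitely generated algebra
over a field (helper41)
-/

set_option autoImplicit false
set_option linter.unusedSectionVars false
universe u

open TensorProduct

namespace Groth.Agent.Lib.PiZero41

section Etale

variable {k : Type u} [Field k]

/-- A surjective image of a finite étale algebra over a field is étale. -/
theorem etale_of_surjective {E F : Type u} [CommRing E] [CommRing F] [Algebra k E] [Algebra k F]
    [Module.Finite k E] [Algebra.Etale k E] (f : E →ₐ[k] F) (hf : Function.Surjective f) :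
    Module.Finite k F ∧ Algebra.Etale k F := by
  have hfin : Module.Finite k F := Module.Finite.of_surjective f.toLinearMap hf
  have hunr : Algebra.FormallyUnramified k F := Algebra.FormallyUnramified.of_surjective f hf
  have het : Algebra.FormallyEtale k F := Algebra.FormallyEtale.of_formallyUnramified_of_field k F
  have hfp : Algebra.FinitePresentation k F :=
    (Algebra.FinitePresentation.of_finiteType).1 inferInstance
  exact ⟨hfin, { }⟩

variable {B : Type u} [CommRing B] [Algebra k B]

/-- The range of an algebra map from a finite étale algebra is finite étale. -/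
theorem etale_range {E : Type u} [CommRing E] [Algebra k E]
    [Module.Finite k E] [Algebra.Etale k E] (f : E →ₐ[k] B) :
    Module.Finite k f.range ∧ Algebra.Etale k f.range :=
  etale_of_surjective f.rangeRestrict f.rangeRestrict_surjective

/-- The compositum of two finite étale subalgebras is finite étale. -/
theorem etale_sup (E₁ E₂ : Subalgebra k B) [Module.Finite k E₁] [Algebra.Etale k E₁]
    [Module.Finite k E₂] [Algebra.Etale k E₂] :
    Module.Finite k (E₁ ⊔ E₂ : Subalgebra k B) ∧ Algebra.Etale k (E₁ ⊔ E₂ : Subalgebra k B) := by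
  have h1 : Algebra.Etale k (E₁ ⊗[k] E₂) := Algebra.Etale.comp k E₁ (E₁ ⊗[k] E₂)
  have h := etale_range (Algebra.TensorProduct.productMap E₁.val E₂.val)
  rw [Algebra.TensorProduct.productMap_range, Subalgebra.range_val, Subalgebra.range_val] at h
  exact h

end Etale

section Bound

/-- Nonzero orthogonal idempotents are at most as many as the minimal primes. -/
theorem card_le_minimalPrimes {C : Type*} [CommRing C] {ι : Type*} [Finite ι] (e : ι → C)
    (hne : ∀ i, e i ≠ 0) (hid : ∀ i, IsIdempotentElem (e i))
    (horth : ∀ i j, i ≠ j → e i * e j = 0)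
    (hfin : (minimalPrimes C).Finite) : Nat.card ι ≤ Nat.card (minimalPrimes C) := by
  have key : ∀ i, ∃ P ∈ minimalPrimes C, e i ∉ P := by
    intro i
    by_contra hcon
    push Not at hcon
    have h1 : e i ∈ sInf (minimalPrimes C) := by
      rw [Submodule.mem_sInf]
      exact fun P hP => hcon P hP
    have h2 : sInf (minimalPrimes C) = (⊥ : Ideal C).radical := Ideal.sInf_minimalPrimes
    rw [h2] at h1
    obtain ⟨n, hn⟩ := h1
    rw [Ideal.mem_bot] at hn
    have h3 : e i ^ (n + 1) = e i := (hid i).pow_succ_eq n
    rw [pow_succ, hn, zero_mul] at h3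
    exact hne i h3.symm
  choose φ hφ hφ' using key
  have hinj : Function.Injective (fun i => (⟨φ i, hφ i⟩ : minimalPrimes C)) := by
    intro i j hij
    by_contra hne'
    have hij' : φ i = φ j := congrArg Subtype.val hij
    have hprime : (φ i).IsPrime := (hφ i).1.1
    have h0 : e i * e j ∈ φ i := by rw [horth i j hne']; exact (φ i).zero_mem
    rcases hprime.mem_or_mem h0 with h | h
    · exact hφ' i h
    · rw [hij'] at h; exact hφ' j h
  have := hfin.to_subtype
  exact Nat.card_le_card_of_injective _ hinj

variable {k : Type u} [Field k] {B : Type u} [CommRing B] [Algebra k B] [Algebra.FiniteType k B]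

theorem finite_minimalPrimes_baseChange :
    (minimalPrimes (AlgebraicClosure k ⊗[k] B)).Finite := by
  have h1 : Algebra.FiniteType (AlgebraicClosure k) (AlgebraicClosure k ⊗[k] B) := inferInstance
  have h2 : IsNoetherianRing (AlgebraicClosure k ⊗[k] B) :=
    Algebra.FiniteType.isNoetherianRing (AlgebraicClosure k) _
  exact minimalPrimes.finite_of_isNoetherianRing _

/-- The dimension of a finite étale subalgebra of a finitely generated algebra is bounded. -/
theorem finrank_le (E : Subalgebra k B) [Module.Finite k E] [Algebra.Etale k E] :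
    Module.finrank k E ≤ Nat.card (minimalPrimes (AlgebraicClosure k ⊗[k] B)) := by
  let K := AlgebraicClosure k
  let E' := K ⊗[k] E
  have het : Algebra.Etale K E' := inferInstance
  have hfin : Module.Finite K E' := inferInstance
  have hart : IsArtinianRing E' := IsArtinianRing.of_finite K E'
  let ee : E' ≃ₐ[K] (PrimeSpectrum E' → K) := Algebra.FormallyEtale.equivPiOfIsSepClosed K E'
  have hfinP : Finite (PrimeSpectrum E') := inferInstance
  have := Fintype.ofFinite (PrimeSpectrum E')
  have hrk : Module.finrank k E = Nat.card (PrimeSpectrum E') := by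
    rw [← Module.finrank_baseChange (R := K) (S := k) (M' := E), ee.toLinearEquiv.finrank_eq,
      Module.finrank_fintype_fun_eq_card, Nat.card_eq_fintype_card]
  rw [hrk]
  let ι' : E' →ₐ[K] K ⊗[k] B := Algebra.TensorProduct.map (AlgHom.id K K) E.val
  have hι' : Function.Injective ι' := by
    have h := Module.Flat.lTensor_preserves_injective_linearMap (M := K) E.val.toLinearMap
      Subtype.val_injective
    intro a b hab
    apply h
    exact hab
  classical
  refine card_le_minimalPrimes (fun x => ι' (ee.symm (Pi.single x 1))) ?_ ?_ ?_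
    finite_minimalPrimes_baseChange
  · intro x h0
    have h1 : ee.symm (Pi.single x 1) = 0 := hι' (by rw [h0, map_zero])
    have h2 : (Pi.single x (1 : K) : PrimeSpectrum E' → K) = 0 := by
      have := congrArg ee h1
      rwa [AlgEquiv.apply_symm_apply, map_zero] at this
    have h3 := congrFun h2 x
    simp at h3
  · intro x
    show _ * _ = _
    rw [← map_mul, ← map_mul, ← Pi.single_mul, one_mul]
  · intro x y hxy
    show _ * _ = _
    rw [← map_mul, ← map_mul]
    have : (Pi.single x (1 : K) : PrimeSpectrum E' → K) * Pi.single y 1 = 0 := by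
      funext z
      by_cases hz : z = x
      · subst hz
        simp [Pi.single_eq_of_ne hxy]
      · simp [Pi.single_eq_of_ne hz]
    rw [this, map_zero, map_zero]

end Bound

section Top

/-- If `F` is a clopen set containing `p` which is contained in every clopen set containing `p`,
then `F` is the connected component of `p`. -/
theorem connectedComponent_eq_of_isClopen_of_forall {X : Type*} [TopologicalSpace X] (p : X)
    (F : Set X) (hF : IsClopen F) (hp : p ∈ F) (hmin : ∀ Z : Set X, IsClopen Z → p ∈ Z → F ⊆ Z) :
    connectedComponent p = F := by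
  apply Set.Subset.antisymm
  · exact hF.connectedComponent_subset hp
  · apply IsPreconnected.subset_connectedComponent _ hp
    rw [isPreconnected_iff_subset_of_fully_disjoint_closed hF.isClosed]
    intro u v hu hv huv hdisj
    have hFu : IsClopen (F ∩ u) := by
      refine ⟨hF.isClosed.inter hu, ?_⟩
      have : F ∩ u = F ∩ vᶜ := by
        ext x
        constructor
        · rintro ⟨hxF, hxu⟩
          exact ⟨hxF, fun hxv => Set.disjoint_left.1 hdisj hxu hxv⟩
        · rintro ⟨hxF, hxv⟩
          rcases huv hxF with h | h
          · exact ⟨hxF, h⟩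
          · exact absurd h hxv
      rw [this]
      exact hF.isOpen.inter hv.isOpen_compl
    have hFv : IsClopen (F ∩ v) := by
      refine ⟨hF.isClosed.inter hv, ?_⟩
      have : F ∩ v = F ∩ uᶜ := by
        ext x
        constructor
        · rintro ⟨hxF, hxv⟩
          exact ⟨hxF, fun hxu => Set.disjoint_left.1 hdisj hxu hxv⟩
        · rintro ⟨hxF, hxu⟩
          rcases huv hxF with h | h
          · exact absurd h hxu
          · exact ⟨hxF, h⟩
      rw [this]
      exact hF.isOpen.inter hu.isOpen_compl
    rcases huv hp with h | h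
    · left
      exact fun x hx => (hmin _ hFu ⟨hp, h⟩ hx).2
    · right
      exact fun x hx => (hmin _ hFv ⟨hp, h⟩ hx).2

end Top

section Main

variable {k : Type u} [Field k] {B : Type u} [CommRing B] [Algebra k B]

/-- The algebra map `k × k → B` attached to an idempotent. -/
noncomputable def idemHom (e : B) (he : IsIdempotentElem e) : (Fin 2 → k) →ₐ[k] B :=
  AlgHom.ofLinearMap
    ((LinearMap.proj (R := k) (φ := fun _ : Fin 2 => k) 0).smulRight e +
      (LinearMap.proj (R := k) (φ := fun _ : Fin 2 => k) 1).smulRight (1 - e))
    (by simp)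
    (by
      intro f g
      have h : e * e = e := he
      simp only [LinearMap.add_apply, LinearMap.smulRight_apply, LinearMap.proj_apply,
        Pi.mul_apply, Algebra.smul_def, map_mul]
      linear_combination (-(algebraMap k B (f 0) * algebraMap k B (g 0)
        - algebraMap k B (f 0) * algebraMap k B (g 1) - algebraMap k B (f 1) * algebraMap k B (g 0)
        + algebraMap k B (f 1) * algebraMap k B (g 1))) * h)

theorem idemHom_apply (e : B) (he : IsIdempotentElem e) (f : Fin 2 → k) :
    idemHom (k := k) e he f = f 0 • e + f 1 • (1 - e) := rfl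

variable [Algebra.FiniteType k B] (A : Subalgebra k B)

theorem exists_largest : ∃ E : Subalgebra k B, E ≤ A ∧ Module.Finite k E ∧ Algebra.Etale k E ∧
    ∀ E' : Subalgebra k B, E' ≤ A → Module.Finite k E' → Algebra.Etale k E' → E' ≤ E := by
  classical
  let N := Nat.card (minimalPrimes (AlgebraicClosure k ⊗[k] B))
  let P : ℕ → Prop := fun n => ∃ E : Subalgebra k B, E ≤ A ∧ Module.Finite k E ∧
    Algebra.Etale k E ∧ Module.finrank k E = n
  have hbot : ∃ n, n ≤ N ∧ P n := by
    have h := etale_range (Algebra.ofId k B)
    obtain ⟨h1, h2⟩ := h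
    refine ⟨_, finrank_le (Algebra.ofId k B).range, (Algebra.ofId k B).range, ?_, h1, h2, rfl⟩
    rw [Algebra.range_ofId]
    exact bot_le
  obtain ⟨n₀, hn₀, hP₀⟩ := hbot
  have hm : P (Nat.findGreatest P N) := Nat.findGreatest_spec hn₀ hP₀
  obtain ⟨E, hEA, hEfin, hEet, hErk⟩ := hm
  refine ⟨E, hEA, hEfin, hEet, ?_⟩
  intro E' hE'A hE'fin hE'et
  obtain ⟨h1, h2⟩ := etale_sup E E'
  have hle : Module.finrank k (E ⊔ E' : Subalgebra k B) ≤ Nat.findGreatest P N :=
    Nat.le_findGreatest (finrank_le _) ⟨E ⊔ E', sup_le hEA hE'A, h1, h2, rfl⟩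
  rw [← hErk] at hle
  have hsub : Subalgebra.toSubmodule E ≤ Subalgebra.toSubmodule (E ⊔ E') := by
    intro x hx
    exact (le_sup_left : E ≤ E ⊔ E') hx
  have heq : Subalgebra.toSubmodule E = Subalgebra.toSubmodule (E ⊔ E') :=
    Submodule.eq_of_le_of_finrank_le hsub hle
  have heq' : E = E ⊔ E' := Subalgebra.toSubmodule_injective heq
  rw [heq']
  exact le_sup_right

theorem idempotent_mem (E : Subalgebra k B)
    (hmax : ∀ E' : Subalgebra k B, E' ≤ A → Module.Finite k E' → Algebra.Etale k E' → E' ≤ E)
    (e : B) (he : IsIdempotentElem e) (heA : e ∈ A) : e ∈ E := by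
  obtain ⟨h1, h2⟩ := etale_range (idemHom (k := k) e he)
  have hle : (idemHom (k := k) e he).range ≤ A := by
    rintro _ ⟨f, rfl⟩
    show idemHom (k := k) e he f ∈ A
    rw [idemHom_apply]
    exact A.add_mem (A.smul_mem heA _) (A.smul_mem (A.sub_mem A.one_mem heA) _)
  refine hmax _ hle h1 h2 ⟨![1, 0], ?_⟩
  show idemHom (k := k) e he ![1, 0] = e
  rw [idemHom_apply]
  simp

end Main

section Main2

variable {k : Type u} [Field k] {B : Type u} [CommRing B] [Algebra k B]
  [Algebra.FiniteType k B] (A : Subalgebra k B)

theorem main : ∃ (E : Subalgebra k B) (hE : E ≤ A), Module.Finite k E ∧ Algebra.Etale k E ∧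
    (∀ E' : Subalgebra k B, E' ≤ A → Module.Finite k E' → Algebra.Etale k E' → E' ≤ E) ∧
    Function.Surjective (PrimeSpectrum.comap (Subalgebra.inclusion hE).toRingHom) ∧
    ∀ p q : PrimeSpectrum A, PrimeSpectrum.comap (Subalgebra.inclusion hE).toRingHom p =
        PrimeSpectrum.comap (Subalgebra.inclusion hE).toRingHom q ↔
      connectedComponent p = connectedComponent q := by
  obtain ⟨E, hE, hfin, het, hmax⟩ := exists_largest (k := k) A
  refine ⟨E, hE, hfin, het, hmax, ?_, ?_⟩
  · -- surjectivity
    have hart : IsArtinianRing E := IsArtinianRing.of_finite k E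
    intro P
    have hinj : Function.Injective (Subalgebra.inclusion hE).toRingHom :=
      Subalgebra.inclusion_injective hE
    have hmin : P.asIdeal ∈ minimalPrimes E := Ideal.mem_minimalPrimes_of_krullDimLE_zero _
    obtain ⟨Q, hQ, hQP⟩ := Ideal.exists_comap_eq_of_mem_minimalPrimes_of_injective hinj _ hmin
    exact ⟨⟨Q, hQ⟩, PrimeSpectrum.ext hQP⟩
  · have hart : IsArtinianRing E := IsArtinianRing.of_finite k E
    intro p q
    set c := PrimeSpectrum.comap (Subalgebra.inclusion hE).toRingHom with hc
    have hcont : Continuous c := PrimeSpectrum.continuous_comap _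
    have hcomp : connectedComponent p = c ⁻¹' {c p} := by
      apply connectedComponent_eq_of_isClopen_of_forall
      · exact (isClopen_discrete {c p}).preimage hcont
      · rfl
      · intro Z hZ hpZ x hx
        rw [PrimeSpectrum.isClopen_iff] at hZ
        obtain ⟨e', he', rfl⟩ := hZ
        have he'B : IsIdempotentElem (e' : B) := by
          have := congrArg Subtype.val he'.eq
          exact this
        have hmem : (e' : B) ∈ E := idempotent_mem A E hmax _ he'B e'.2
        have hincl : (Subalgebra.inclusion hE).toRingHom ⟨(e' : B), hmem⟩ = e' := Subtype.ext rfl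
        have hx' : c x = c p := hx
        rw [SetLike.mem_coe, PrimeSpectrum.mem_basicOpen] at hpZ ⊢
        intro hxe
        apply hpZ
        have h1 : (⟨(e' : B), hmem⟩ : E) ∈ (c x).asIdeal := by
          rw [hc, PrimeSpectrum.comap_asIdeal, Ideal.mem_comap, hincl]
          exact hxe
        rw [hx', hc, PrimeSpectrum.comap_asIdeal, Ideal.mem_comap, hincl] at h1
        exact h1
    constructor
    · intro h
      rw [eq_comm, connectedComponent_eq_iff_mem, hcomp]
      exact h.symm
    · intro h
      have hq : q ∈ connectedComponent p := by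
        rw [h]; exact mem_connectedComponent
      rw [hcomp] at hq
      exact (hq : c q = c p).symm

end Main2

end Groth.Agent.Lib.PiZero41
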