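import Mathlib

set_option autoImplicit false

namespace Groth.Agent.Lib.PicAct70
open CategoryTheory MonoidalCategory

universe v u

variable {D : Type u} [Category.{v} D] [MonoidalCategory D]

/-- the action of an endomorphism of the unit on an object -/
def act (Z : D) (a : 𝟙_ D ⟶ 𝟙_ D) : Z ⟶ Z := (λ_ Z).inv ≫ (a ▷ Z) ≫ (λ_ Z).hom

theorem act_id (Z : D) : act Z (𝟙 (𝟙_ D)) = 𝟙 Z := by simp [act]

theorem act_comp (Z : D) (a b : 𝟙_ D ⟶ 𝟙_ D) : act Z (a ≫ b) = act Z a ≫ act Z b := by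
  simp [act]

theorem act_naturality {Z W : D} (f : Z ⟶ W) (a : 𝟙_ D ⟶ 𝟙_ D) :
    act Z a ≫ f = f ≫ act W a := by
  simp only [act, Category.assoc]
  rw [← leftUnitor_naturality, ← whisker_exchange_assoc, ← leftUnitor_inv_naturality_assoc]

theorem act_whiskerRight (Z W : D) (a : 𝟙_ D ⟶ 𝟙_ D) :
    act Z a ▷ W = act (Z ⊗ W) a := by
  simp only [act]
  monoidal

theorem whiskerLeft_act (Z W : D) (b : 𝟙_ D ⟶ 𝟙_ D) :
    Z ◁ act W b = ((ρ_ Z).inv ≫ (Z ◁ b) ≫ (ρ_ Z).hom) ▷ W := by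
  simp only [act]
  monoidal

theorem act_injective (Z : D) [(tensorRight Z).Faithful] : Function.Injective (act Z) := by
  intro a b hab
  have h1 : a ▷ Z = b ▷ Z := by
    have := congrArg (fun e => (λ_ Z).hom ≫ e ≫ (λ_ Z).inv) hab
    simpa [act] using this
  exact (tensorRight Z).map_injective h1

theorem act_surjective (Z : D) [(tensorRight Z).Full] : Function.Surjective (act Z) := by
  intro e
  obtain ⟨a, ha⟩ := (tensorRight Z).map_surjective ((λ_ Z).hom ≫ e ≫ (λ_ Z).inv)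
  refine ⟨a, ?_⟩
  have ha' : a ▷ Z = (λ_ Z).hom ≫ e ≫ (λ_ Z).inv := ha
  simp [act, ha']

section braided
variable [BraidedCategory D]

theorem rightAct_eq (Z : D) (b : 𝟙_ D ⟶ 𝟙_ D) :
    (ρ_ Z).inv ≫ (Z ◁ b) ≫ (ρ_ Z).hom = act Z b := by
  have h1 := BraidedCategory.braiding_naturality_left b Z
  have h2 := braiding_rightUnitor (C := D) Z
  have h3 : (ρ_ Z).inv = (λ_ Z).inv ≫ (β_ (𝟙_ D) Z).hom := by
    rw [Iso.eq_inv_comp, ← h2, Category.assoc, Iso.hom_inv_id, Category.comp_id]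
  rw [h3]
  simp only [act, Category.assoc]
  rw [← h2, reassoc_of% h1]

theorem act_tensorHom (Z W : D) (a b : 𝟙_ D ⟶ 𝟙_ D) :
    act Z a ⊗ₘ act W b = act (Z ⊗ W) (a ≫ b) := by
  rw [MonoidalCategory.tensorHom_def, act_whiskerRight, whiskerLeft_act, rightAct_eq, act_whiskerRight, act_comp]

theorem act_tensorHom' (Z W : D) (a b : 𝟙_ D ⟶ 𝟙_ D) :
    act Z a ⊗ₘ act W b = act (Z ⊗ W) (b ≫ a) := by
  rw [MonoidalCategory.tensorHom_def', act_whiskerRight, whiskerLeft_act, rightAct_eq, act_whiskerRight, act_comp]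

end braided

end Groth.Agent.Lib.PicAct70

namespace Groth.Agent.Lib.PicAct70
open CategoryTheory MonoidalCategory Functor.LaxMonoidal

universe v v' u u'

variable {C : Type u} [Category.{v} C] [MonoidalCategory C]
  {D : Type u'} [Category.{v'} D] [MonoidalCategory D] [BraidedCategory D]
  (F G : C ⥤ D) [F.LaxMonoidal] [G.LaxMonoidal] (θ₀ : F ⟶ G) [NatTrans.IsMonoidal θ₀]

theorem tensor_step (X Y : C) (a b : 𝟙_ D ⟶ 𝟙_ D) :
    ((θ₀.app X ≫ act (G.obj X) a) ⊗ₘ (θ₀.app Y ≫ act (G.obj Y) b)) ≫ μ G X Y =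
      μ F X Y ≫ θ₀.app (X ⊗ Y) ≫ act (G.obj (X ⊗ Y)) (b ≫ a) := by
  rw [← tensorHom_comp_tensorHom, act_tensorHom', Category.assoc, act_naturality,
    ← Category.assoc, ← NatTrans.IsMonoidal.tensor, Category.assoc]

variable [IsGroupoid C] [IsGroupoid D]

theorem part2 (hD : ∀ X : D, (tensorLeft X).IsEquivalence ∧ (tensorRight X).IsEquivalence)
    (χ : Skeleton C →* End (𝟙_ D)) :
    ∃ θ : F ⟶ G, NatTrans.IsMonoidal θ ∧ ∀ X : C,
        θ.app X = θ₀.app X ≫ (λ_ (G.obj X)).inv ≫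
          ((χ (toSkeleton X) : 𝟙_ D ⟶ 𝟙_ D) ▷ G.obj X) ≫ (λ_ (G.obj X)).hom := by
  let θ : F ⟶ G :=
    { app := fun X => θ₀.app X ≫ act (G.obj X) (χ (toSkeleton X))
      naturality := by
        intro X Y f
        have _ : IsIso f := IsGroupoid.all_isIso f
        have h : toSkeleton X = toSkeleton Y := congr_toSkeleton_of_iso (asIso f)
        rw [Category.assoc, act_naturality, θ₀.naturality_assoc, h] }
  refine ⟨θ, ⟨?_, ?_⟩, fun X => rfl⟩
  · change ε F ≫ θ₀.app (𝟙_ C) ≫ act (G.obj (𝟙_ C)) (χ (toSkeleton (𝟙_ C))) = ε G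
    rw [← Skeleton.one_eq, map_one, End.one_def, act_id, Category.comp_id,
      NatTrans.IsMonoidal.unit]
  · intro X Y
    change μ F X Y ≫ θ₀.app (X ⊗ Y) ≫ act (G.obj (X ⊗ Y)) (χ (toSkeleton (X ⊗ Y))) =
      ((θ₀.app X ≫ act (G.obj X) (χ (toSkeleton X))) ⊗ₘ
        (θ₀.app Y ≫ act (G.obj Y) (χ (toSkeleton Y)))) ≫ μ G X Y
    rw [tensor_step, Skeleton.toSkeleton_tensorObj, map_mul, End.mul_def]

theorem part1 (hD : ∀ X : D, (tensorLeft X).IsEquivalence ∧ (tensorRight X).IsEquivalence)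
    (θ : F ⟶ G) (hθ : NatTrans.IsMonoidal θ) :
    ∃! χ : Skeleton C →* End (𝟙_ D), ∀ X : C,
        θ.app X = θ₀.app X ≫ (λ_ (G.obj X)).inv ≫
          ((χ (toSkeleton X) : 𝟙_ D ⟶ 𝟙_ D) ▷ G.obj X) ≫ (λ_ (G.obj X)).hom := by
  have isoD : ∀ {X Y : D} (f : X ⟶ Y), IsIso f := fun f => IsGroupoid.all_isIso f
  have hinj : ∀ Z : D, Function.Injective (act Z) := fun Z => by
    have := (hD Z).2
    exact act_injective Z
  have hsurj : ∀ Z : D, Function.Surjective (act Z) := fun Z => by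
    have := (hD Z).2
    exact act_surjective Z
  -- the pointwise class
  have hex : ∀ X : C, ∃ a : 𝟙_ D ⟶ 𝟙_ D, θ.app X = θ₀.app X ≫ act (G.obj X) a := by
    intro X
    have _ := isoD (θ₀.app X)
    obtain ⟨a, ha⟩ := hsurj (G.obj X) (inv (θ₀.app X) ≫ θ.app X)
    exact ⟨a, by rw [ha, IsIso.hom_inv_id_assoc]⟩
  choose φ hφ using hex
  -- cancellation
  have hcancel : ∀ (X : C) (a b : 𝟙_ D ⟶ 𝟙_ D),
      θ₀.app X ≫ act (G.obj X) a = θ₀.app X ≫ act (G.obj X) b → a = b := by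
    intro X a b hab
    have _ := isoD (θ₀.app X)
    exact hinj _ ((cancel_epi (θ₀.app X)).1 hab)
  -- invariance under isomorphism
  have hiso : ∀ {X Y : C} (e : X ≅ Y), φ X = φ Y := by
    intro X Y e
    have _ := isoD (G.map e.hom)
    have h1 := θ.naturality e.hom
    rw [hφ X, hφ Y, Category.assoc, act_naturality, θ₀.naturality_assoc] at h1
    have _ := isoD (θ₀.app X)
    have h2 := (cancel_epi (G.map e.hom)).1 ((cancel_epi (θ₀.app X)).1 h1)
    exact (hinj _ h2).symm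
  have hone : φ (𝟙_ C) = 𝟙 (𝟙_ D) := by
    have h1 := hθ.unit
    rw [hφ, ← NatTrans.IsMonoidal.unit (τ := θ₀)] at h1
    have _ := isoD (ε F)
    have h2 := (cancel_epi (ε F)).1 h1
    apply hcancel (𝟙_ C)
    rw [h2, act_id, Category.comp_id]
  have hmul : ∀ X Y : C, φ (X ⊗ Y) = φ Y ≫ φ X := by
    intro X Y
    have h1 := hθ.tensor X Y
    rw [hφ X, hφ Y, hφ (X ⊗ Y), tensor_step] at h1
    have _ := isoD (μ F X Y)
    have h2 := (cancel_epi (μ F X Y)).1 h1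
    exact hcancel _ _ _ h2
  let χ : Skeleton C →* End (𝟙_ D) :=
    { toFun := fun s => φ ((fromSkeleton C).obj s)
      map_one' := by
        rw [Skeleton.one_eq, hiso (fromSkeletonToSkeletonIso (𝟙_ C)), hone, End.one_def]
      map_mul' := by
        intro s t
        rw [Skeleton.mul_eq, End.mul_def]
        rw [hiso (fromSkeletonToSkeletonIso _), hmul]
        rfl }
  have hχ : ∀ X : C, χ (toSkeleton X) = φ X := fun X => hiso (fromSkeletonToSkeletonIso X)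
  refine ⟨χ, fun X => ?_, ?_⟩
  · rw [hχ X]; exact hφ X
  · intro χ' hχ'
    ext s
    obtain ⟨X, rfl⟩ : ∃ X : C, toSkeleton X = s := ⟨_, toSkeleton_fromSkeleton_obj s⟩
    rw [hχ X]
    apply hcancel X
    rw [← hφ X]
    exact (hχ' X).symm

end Groth.Agent.Lib.PicAct70
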