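/-
helper42: Milnor square from pinching data (R → B surjective, R → A, ker ⊓ ker = ⊥, I·A = image of I): `isFibreSquare`,
and consequences `flat_of_pinch`, `finite_of_pinch`, `finitePresentation_of_pinch` (via helper9 S14952-S14954).
-/
import Groth.Agent.S14952
import Groth.Agent.S14953
import Groth.Agent.S14954
import Mathlib.RingTheory.Ideal.Quotient.Operations

set_option autoImplicit false
set_option linter.style.haveILetI false
universe u
open TensorProduct

namespace Groth.Agent.Lib.PinchSquare

section Algebra
variable {R A B : Type u} [CommRing R] [CommRing A] [CommRing B] [Algebra R A] [Algebra R B]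

/-- The fourth ring of the Milnor square attached to pinching data. -/
abbrev C (R A B : Type u) [CommRing R] [CommRing A] [CommRing B] [Algebra R A] [Algebra R B] : Type u :=
  A ⧸ Ideal.map (algebraMap R A) (RingHom.ker (algebraMap R B))

theorem ker_le (R A B : Type u) [CommRing R] [CommRing A] [CommRing B] [Algebra R A] [Algebra R B] :
    RingHom.ker (algebraMap R B) ≤ RingHom.ker (algebraMap R (C R A B)) := by
  intro r hr
  rw [RingHom.mem_ker, IsScalarTower.algebraMap_apply R A (C R A B), Ideal.Quotient.algebraMap_eq,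
    Ideal.Quotient.eq_zero_iff_mem]
  exact Ideal.mem_map_of_mem _ hr

/-- The ring map `B → C`. -/
noncomputable def toC (hB : Function.Surjective (algebraMap R B)) : B →+* C R A B :=
  RingHom.liftOfSurjective (algebraMap R B) hB ⟨algebraMap R (C R A B), ker_le R A B⟩

theorem toC_algebraMap (hB : Function.Surjective (algebraMap R B)) (r : R) :
    toC (A := A) hB (algebraMap R B r) = algebraMap R (C R A B) r :=
  RingHom.liftOfRightInverse_comp_apply _ _ _ _ r

theorem isFibreSquare (hB : Function.Surjective (algebraMap R B))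
    (h0 : RingHom.ker (algebraMap R A) ⊓ RingHom.ker (algebraMap R B) = ⊥)
    (h1 : ∀ a ∈ Ideal.map (algebraMap R A) (RingHom.ker (algebraMap R B)),
      ∃ i ∈ RingHom.ker (algebraMap R B), algebraMap R A i = a) :
    letI : Algebra B (C R A B) := (toC (A := A) hB).toAlgebra
    haveI : IsScalarTower R B (C R A B) := .of_algebraMap_eq fun r => (toC_algebraMap hB r).symm
    EtMil.IsFibreSquare R B A (C R A B) := by
  letI : Algebra B (C R A B) := (toC (A := A) hB).toAlgebra
  haveI : IsScalarTower R B (C R A B) := .of_algebraMap_eq fun r => (toC_algebraMap hB r).symm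
  refine ⟨Ideal.Quotient.mk_surjective, fun b a hba => ?_⟩
  obtain ⟨r0, rfl⟩ := hB b
  have e1 : algebraMap A (C R A B) (algebraMap R A r0) = algebraMap A (C R A B) a := by
    rw [← hba, ← IsScalarTower.algebraMap_apply, ← IsScalarTower.algebraMap_apply]
  have e2 : a - algebraMap R A r0 ∈ Ideal.map (algebraMap R A) (RingHom.ker (algebraMap R B)) := by
    rw [← Ideal.Quotient.eq_zero_iff_mem, map_sub, sub_eq_zero]
    exact e1.symm
  obtain ⟨i, hi, hia⟩ := h1 _ e2
  refine ⟨r0 + i, ⟨?_, ?_⟩, ?_⟩
  · rw [map_add, (RingHom.mem_ker).mp hi, add_zero]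
  · rw [map_add, hia]; ring
  · rintro r' ⟨hr1, hr2⟩
    have h3 : r' - (r0 + i) ∈ RingHom.ker (algebraMap R A) ⊓ RingHom.ker (algebraMap R B) := by
      refine ⟨?_, ?_⟩
      · change r' - (r0 + i) ∈ RingHom.ker (algebraMap R A)
        rw [RingHom.mem_ker, map_sub, hr2, map_add, hia]; ring
      · change r' - (r0 + i) ∈ RingHom.ker (algebraMap R B)
        rw [RingHom.mem_ker, map_sub, hr1, map_add, (RingHom.mem_ker).mp hi, add_zero, sub_self]
    rw [h0, Ideal.mem_bot, sub_eq_zero] at h3
    exact h3

variable (M : Type u) [AddCommGroup M] [Module R M]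

theorem flat_of_pinch (hB : Function.Surjective (algebraMap R B))
    (h0 : RingHom.ker (algebraMap R A) ⊓ RingHom.ker (algebraMap R B) = ⊥)
    (h1 : ∀ a ∈ Ideal.map (algebraMap R A) (RingHom.ker (algebraMap R B)),
      ∃ i ∈ RingHom.ker (algebraMap R B), algebraMap R A i = a)
    [Module.Flat B (B ⊗[R] M)] [Module.Flat A (A ⊗[R] M)] : Module.Flat R M := by
  letI : Algebra B (C R A B) := (toC (A := A) hB).toAlgebra
  haveI : IsScalarTower R B (C R A B) := .of_algebraMap_eq fun r => (toC_algebraMap hB r).symm
  exact Groth.Agent.S14952.result R B A (C R A B) (isFibreSquare hB h0 h1) M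

theorem finite_of_pinch (hB : Function.Surjective (algebraMap R B))
    (h0 : RingHom.ker (algebraMap R A) ⊓ RingHom.ker (algebraMap R B) = ⊥)
    (h1 : ∀ a ∈ Ideal.map (algebraMap R A) (RingHom.ker (algebraMap R B)),
      ∃ i ∈ RingHom.ker (algebraMap R B), algebraMap R A i = a)
    [Module.Finite B (B ⊗[R] M)] [Module.Finite A (A ⊗[R] M)] : Module.Finite R M := by
  letI : Algebra B (C R A B) := (toC (A := A) hB).toAlgebra
  haveI : IsScalarTower R B (C R A B) := .of_algebraMap_eq fun r => (toC_algebraMap hB r).symm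
  exact Groth.Agent.S14953.result R B A (C R A B) (isFibreSquare hB h0 h1) M

theorem finitePresentation_of_pinch (hB : Function.Surjective (algebraMap R B))
    (h0 : RingHom.ker (algebraMap R A) ⊓ RingHom.ker (algebraMap R B) = ⊥)
    (h1 : ∀ a ∈ Ideal.map (algebraMap R A) (RingHom.ker (algebraMap R B)),
      ∃ i ∈ RingHom.ker (algebraMap R B), algebraMap R A i = a)
    [Module.Flat B (B ⊗[R] M)] [Module.FinitePresentation B (B ⊗[R] M)]
    [Module.Flat A (A ⊗[R] M)] [Module.FinitePresentation A (A ⊗[R] M)] :
    Module.FinitePresentation R M := by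
  letI : Algebra B (C R A B) := (toC (A := A) hB).toAlgebra
  haveI : IsScalarTower R B (C R A B) := .of_algebraMap_eq fun r => (toC_algebraMap hB r).symm
  exact Groth.Agent.S14954.result R B A (C R A B) (isFibreSquare hB h0 h1) M

end Algebra
end Groth.Agent.Lib.PinchSquare
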