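/-
helper42: scheme-level pinching (Ferrand): for f affine, u closed immersion with the pinching conditions on affine
opens and G quasi-coherent on Y: `isFiniteType_iff_pinch`, `isFlat_iff_pinch`, `isFinLocFree_iff_pinch`.
Also `isFlat_pullback` (pullback of a flat qcoh module is flat), `pinch_affine` (packaging on an affine open).
-/
import Groth.Agent.Lib.PinchZero
import Groth.Agent.Lib.PinchSquare
import Groth.Agent.Lib.QCohFlat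
import Groth.Agent.Lib.H90OXModFP
import Groth.Agent.Lib.H90OXModAffineFT
import Groth.Agent.Lib.LocFreeFP
import Groth.Agent.Lib.H90InvertiblePullback
import Groth.Agent.Lib.H90InvertibleFP

set_option autoImplicit false
set_option linter.style.haveILetI false
universe u
open TensorProduct

namespace Groth.Agent.Lib.PinchGeom

open AlgebraicGeometry CategoryTheory CategoryTheory.Limits TopologicalSpace Opposite
open Groth.Agent.Lib.PinchZero Groth.Agent.Lib.PinchSquare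

variable {X Y Y' : Scheme.{u}}

/-- The pullback of a flat quasi-coherent module is flat. -/
theorem isFlat_pullback (h : X ⟶ Y) (G : Y.Modules) [G.IsQuasicoherent] (hG : FlatMod.IsFlat G) :
    FlatMod.IsFlat ((Scheme.Modules.pullback h).obj G) := by
  intro x
  letI : Algebra (Y.presheaf.stalk (h x)) (X.presheaf.stalk x) := (h.stalkMap x).hom.toAlgebra
  letI : Module (Y.presheaf.stalk (h x))
      (((Scheme.Modules.pullback h).obj G).presheaf.stalk x) :=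
    Module.compHom _ (h.stalkMap x).hom
  haveI : IsScalarTower (Y.presheaf.stalk (h x)) (X.presheaf.stalk x)
      (((Scheme.Modules.pullback h).obj G).presheaf.stalk x) :=
    .of_algebraMap_smul fun _ _ => rfl
  obtain ⟨τ, hτ⟩ := Groth.Agent.Lib.H72PullbackStalk.exists_isBaseChange_stalk_pullback h G x
  haveI : Module.Flat (Y.presheaf.stalk (h x)) (G.presheaf.stalk (h x)) := hG (h x)
  exact Module.Flat.isBaseChange (Y.presheaf.stalk (h x)) (X.presheaf.stalk x)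
    (G.presheaf.stalk (h x)) _ hτ

/-- Packaging of the pinching data over an affine open `V` of `Y`. -/
theorem pinch_affine (f : X ⟶ Y) (u : Y' ⟶ Y) [IsAffineHom f] [IsClosedImmersion u]
    (hM : ∀ V ∈ Y.affineOpens,
      RingHom.ker (f.app V).hom ⊓ RingHom.ker (u.app V).hom = ⊥ ∧
      ∀ a ∈ Ideal.map (f.app V).hom (RingHom.ker (u.app V).hom),
        ∃ i ∈ RingHom.ker (u.app V).hom, (f.app V).hom i = a)
    (G : Y.Modules) [G.IsQuasicoherent] (V : Y.affineOpens) (P : Prop)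
    (H : ∀ [Algebra Γ(Y, V.1) Γ(X, f ⁻¹ᵁ V.1)] [Algebra Γ(Y, V.1) Γ(Y', u ⁻¹ᵁ V.1)],
      Function.Surjective (algebraMap Γ(Y, V.1) Γ(Y', u ⁻¹ᵁ V.1)) →
      RingHom.ker (algebraMap Γ(Y, V.1) Γ(X, f ⁻¹ᵁ V.1)) ⊓
        RingHom.ker (algebraMap Γ(Y, V.1) Γ(Y', u ⁻¹ᵁ V.1)) = ⊥ →
      (∀ a ∈ Ideal.map (algebraMap Γ(Y, V.1) Γ(X, f ⁻¹ᵁ V.1))
          (RingHom.ker (algebraMap Γ(Y, V.1) Γ(Y', u ⁻¹ᵁ V.1))),
        ∃ i ∈ RingHom.ker (algebraMap Γ(Y, V.1) Γ(Y', u ⁻¹ᵁ V.1)),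
          algebraMap Γ(Y, V.1) Γ(X, f ⁻¹ᵁ V.1) i = a) →
      (Γ(X, f ⁻¹ᵁ V.1) ⊗[Γ(Y, V.1)] Γ(G, V.1) ≃ₗ[Γ(X, f ⁻¹ᵁ V.1)]
        Γ((Scheme.Modules.pullback f).obj G, f ⁻¹ᵁ V.1)) →
      (Γ(Y', u ⁻¹ᵁ V.1) ⊗[Γ(Y, V.1)] Γ(G, V.1) ≃ₗ[Γ(Y', u ⁻¹ᵁ V.1)]
        Γ((Scheme.Modules.pullback u).obj G, u ⁻¹ᵁ V.1)) → P) : P := by
  have hV : IsAffineOpen V.1 := V.2
  have hfV : IsAffineOpen (f ⁻¹ᵁ V.1) := hV.preimage f
  have huV : IsAffineOpen (u ⁻¹ᵁ V.1) := hV.preimage u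
  have hfle : f ⁻¹ᵁ V.1 ≤ f ⁻¹ᵁ V.1 := le_rfl
  have hule : u ⁻¹ᵁ V.1 ≤ u ⁻¹ᵁ V.1 := le_rfl
  have ef : f.appLE V.1 (f ⁻¹ᵁ V.1) hfle = f.app V.1 := Scheme.Hom.appLE_eq_app _
  have eu : u.appLE V.1 (u ⁻¹ᵁ V.1) hule = u.app V.1 := Scheme.Hom.appLE_eq_app _
  letI algA : Algebra Γ(Y, V.1) Γ(X, f ⁻¹ᵁ V.1) := (f.appLE V.1 (f ⁻¹ᵁ V.1) hfle).hom.toAlgebra
  letI algB : Algebra Γ(Y, V.1) Γ(Y', u ⁻¹ᵁ V.1) := (u.appLE V.1 (u ⁻¹ᵁ V.1) hule).hom.toAlgebra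
  letI : Module Γ(Y, V.1) Γ((Scheme.Modules.pullback f).obj G, f ⁻¹ᵁ V.1) :=
      Module.compHom _ (f.appLE V.1 (f ⁻¹ᵁ V.1) hfle).hom
  haveI : IsScalarTower Γ(Y, V.1) Γ(X, f ⁻¹ᵁ V.1) Γ((Scheme.Modules.pullback f).obj G, f ⁻¹ᵁ V.1) :=
      .of_algebraMap_smul fun _ _ => rfl
  letI : Module Γ(Y, V.1) Γ((Scheme.Modules.pullback u).obj G, u ⁻¹ᵁ V.1) :=
      Module.compHom _ (u.appLE V.1 (u ⁻¹ᵁ V.1) hule).hom
  haveI : IsScalarTower Γ(Y, V.1) Γ(Y', u ⁻¹ᵁ V.1) Γ((Scheme.Modules.pullback u).obj G, u ⁻¹ᵁ V.1) :=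
      .of_algebraMap_smul fun _ _ => rfl
  obtain ⟨θf, hθf⟩ := Groth.Agent.Lib.H72PullbackStalk.exists_isBaseChange_sections f G hfV hV hfle
  obtain ⟨θu, hθu⟩ := Groth.Agent.Lib.H72PullbackStalk.exists_isBaseChange_sections u G huV hV hule
  have hAeq : algebraMap Γ(Y, V.1) Γ(X, f ⁻¹ᵁ V.1) = (f.app V.1).hom := by
    rw [← ef]; rfl
  have hBeq : algebraMap Γ(Y, V.1) Γ(Y', u ⁻¹ᵁ V.1) = (u.app V.1).hom := by
    rw [← eu]; rfl
  obtain ⟨hM0, hM1⟩ := hM V.1 V.2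
  refine @H algA algB ?_ ?_ ?_ hθf.equiv hθu.equiv
  · rw [hBeq]
    exact u.app_surjective V.1 hV
  · rw [hAeq, hBeq]
    exact hM0
  · rw [hAeq, hBeq]
    exact hM1

section Main

variable (f : X ⟶ Y) (u : Y' ⟶ Y) [IsAffineHom f] [IsClosedImmersion u]
    (hM : ∀ V ∈ Y.affineOpens,
      RingHom.ker (f.app V).hom ⊓ RingHom.ker (u.app V).hom = ⊥ ∧
      ∀ a ∈ Ideal.map (f.app V).hom (RingHom.ker (u.app V).hom),
        ∃ i ∈ RingHom.ker (u.app V).hom, (f.app V).hom i = a)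
    (G : Y.Modules) [G.IsQuasicoherent]

include hM

theorem isFiniteType_iff_pinch :
    SheafOfModules.IsFiniteType G ↔
      SheafOfModules.IsFiniteType ((Scheme.Modules.pullback u).obj G) ∧
        SheafOfModules.IsFiniteType ((Scheme.Modules.pullback f).obj G) := by
  constructor
  · intro h
    haveI : G.IsFiniteType := h
    exact ⟨Groth.Agent.Lib.SupportTensor.isFiniteType_pullback u G,
      Groth.Agent.Lib.SupportTensor.isFiniteType_pullback f G⟩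
  · rintro ⟨hu, hf⟩
    haveI : ((Scheme.Modules.pullback u).obj G).IsFiniteType := hu
    haveI : ((Scheme.Modules.pullback f).obj G).IsFiniteType := hf
    rw [Groth.Agent.Lib.H90OXModAffineFT.isFiniteType_iff_forall_affine]
    intro V
    have hV : IsAffineOpen V.1 := V.2
    apply pinch_affine f u hM G V
    intro algA algB hB h0 h1 eA eB
    haveI : Module.Finite Γ(X, f ⁻¹ᵁ V.1) Γ((Scheme.Modules.pullback f).obj G, f ⁻¹ᵁ V.1) :=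
      Groth.Agent.Lib.CohFinite.finite_sections_of_isAffineOpen _ (hV.preimage f)
    haveI : Module.Finite Γ(Y', u ⁻¹ᵁ V.1) Γ((Scheme.Modules.pullback u).obj G, u ⁻¹ᵁ V.1) :=
      Groth.Agent.Lib.CohFinite.finite_sections_of_isAffineOpen _ (hV.preimage u)
    haveI : Module.Finite Γ(X, f ⁻¹ᵁ V.1) (Γ(X, f ⁻¹ᵁ V.1) ⊗[Γ(Y, V.1)] Γ(G, V.1)) :=
      Module.Finite.equiv eA.symm
    haveI : Module.Finite Γ(Y', u ⁻¹ᵁ V.1) (Γ(Y', u ⁻¹ᵁ V.1) ⊗[Γ(Y, V.1)] Γ(G, V.1)) :=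
      Module.Finite.equiv eB.symm
    exact finite_of_pinch (A := Γ(X, f ⁻¹ᵁ V.1)) (B := Γ(Y', u ⁻¹ᵁ V.1)) Γ(G, V.1) hB h0 h1

theorem flat_sections_of_pinch (hu : FlatMod.IsFlat ((Scheme.Modules.pullback u).obj G))
    (hf : FlatMod.IsFlat ((Scheme.Modules.pullback f).obj G)) (V : Y.affineOpens) :
    Module.Flat Γ(Y, V.1) Γ(G, V.1) := by
  have hV : IsAffineOpen V.1 := V.2
  apply pinch_affine f u hM G V
  intro algA algB hB h0 h1 eA eB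
  haveI : Module.Flat Γ(X, f ⁻¹ᵁ V.1) Γ((Scheme.Modules.pullback f).obj G, f ⁻¹ᵁ V.1) :=
    (Groth.Agent.Lib.QCohFlat.isFlat_iff_forall_affine _).mp hf ⟨f ⁻¹ᵁ V.1, hV.preimage f⟩
  haveI : Module.Flat Γ(Y', u ⁻¹ᵁ V.1) Γ((Scheme.Modules.pullback u).obj G, u ⁻¹ᵁ V.1) :=
    (Groth.Agent.Lib.QCohFlat.isFlat_iff_forall_affine _).mp hu ⟨u ⁻¹ᵁ V.1, hV.preimage u⟩
  haveI : Module.Flat Γ(X, f ⁻¹ᵁ V.1) (Γ(X, f ⁻¹ᵁ V.1) ⊗[Γ(Y, V.1)] Γ(G, V.1)) :=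
    Module.Flat.of_linearEquiv eA
  haveI : Module.Flat Γ(Y', u ⁻¹ᵁ V.1) (Γ(Y', u ⁻¹ᵁ V.1) ⊗[Γ(Y, V.1)] Γ(G, V.1)) :=
    Module.Flat.of_linearEquiv eB
  exact flat_of_pinch (A := Γ(X, f ⁻¹ᵁ V.1)) (B := Γ(Y', u ⁻¹ᵁ V.1)) Γ(G, V.1) hB h0 h1

theorem isFlat_iff_pinch :
    FlatMod.IsFlat G ↔
      FlatMod.IsFlat ((Scheme.Modules.pullback u).obj G) ∧
        FlatMod.IsFlat ((Scheme.Modules.pullback f).obj G) := by
  constructor
  · intro h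
    exact ⟨isFlat_pullback u G h, isFlat_pullback f G h⟩
  · rintro ⟨hu, hf⟩
    rw [Groth.Agent.Lib.QCohFlat.isFlat_iff_forall_affine]
    exact flat_sections_of_pinch f u hM G hu hf

theorem isFinLocFree_iff_pinch :
    FlatMod.IsFinLocFree G ↔
      FlatMod.IsFinLocFree ((Scheme.Modules.pullback u).obj G) ∧
        FlatMod.IsFinLocFree ((Scheme.Modules.pullback f).obj G) := by
  constructor
  · intro h
    exact ⟨Groth.Agent.Lib.H90Invertible.isFinLocFree_pullback u h,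
      Groth.Agent.Lib.H90Invertible.isFinLocFree_pullback f h⟩
  · rintro ⟨hu, hf⟩
    have hu_flat : FlatMod.IsFlat ((Scheme.Modules.pullback u).obj G) := fun x =>
      haveI := Groth.Agent.Lib.LocFreeFP.free_stalk_of_isFinLocFree hu x
      inferInstanceAs (Module.Flat _ _)
    have hf_flat : FlatMod.IsFlat ((Scheme.Modules.pullback f).obj G) := fun x =>
      haveI := Groth.Agent.Lib.LocFreeFP.free_stalk_of_isFinLocFree hf x
      inferInstanceAs (Module.Flat _ _)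
    have hu_fp := Groth.Agent.Lib.H90Invertible.isFinitePresentation_of_isFinLocFree hu
    have hf_fp := Groth.Agent.Lib.H90Invertible.isFinitePresentation_of_isFinLocFree hf
    have hflat : FlatMod.IsFlat G := (isFlat_iff_pinch f u hM G).mpr ⟨hu_flat, hf_flat⟩
    refine Groth.Agent.Lib.LocFreeFP.isFinLocFree_of_isFP_of_flat G ?_ hflat
    rw [Groth.Agent.Lib.H90OXModFP.isFP_iff_forall_affine]
    refine ⟨inferInstance, fun V => ?_⟩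
    have hV : IsAffineOpen V.1 := V.2
    apply pinch_affine f u hM G V
    intro algA algB hB h0 h1 eA eB
    haveI : Module.Flat Γ(X, f ⁻¹ᵁ V.1) Γ((Scheme.Modules.pullback f).obj G, f ⁻¹ᵁ V.1) :=
      (Groth.Agent.Lib.QCohFlat.isFlat_iff_forall_affine _).mp hf_flat ⟨f ⁻¹ᵁ V.1, hV.preimage f⟩
    haveI : Module.Flat Γ(Y', u ⁻¹ᵁ V.1) Γ((Scheme.Modules.pullback u).obj G, u ⁻¹ᵁ V.1) :=
      (Groth.Agent.Lib.QCohFlat.isFlat_iff_forall_affine _).mp hu_flat ⟨u ⁻¹ᵁ V.1, hV.preimage u⟩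
    haveI : Module.FinitePresentation Γ(X, f ⁻¹ᵁ V.1)
        Γ((Scheme.Modules.pullback f).obj G, f ⁻¹ᵁ V.1) :=
      (Groth.Agent.Lib.H90OXModFP.isFinitePresentation_iff_forall_affine _).mp hf_fp
        ⟨f ⁻¹ᵁ V.1, hV.preimage f⟩
    haveI : Module.FinitePresentation Γ(Y', u ⁻¹ᵁ V.1)
        Γ((Scheme.Modules.pullback u).obj G, u ⁻¹ᵁ V.1) :=
      (Groth.Agent.Lib.H90OXModFP.isFinitePresentation_iff_forall_affine _).mp hu_fp
        ⟨u ⁻¹ᵁ V.1, hV.preimage u⟩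
    haveI : Module.Flat Γ(X, f ⁻¹ᵁ V.1) (Γ(X, f ⁻¹ᵁ V.1) ⊗[Γ(Y, V.1)] Γ(G, V.1)) :=
      Module.Flat.of_linearEquiv eA
    haveI : Module.Flat Γ(Y', u ⁻¹ᵁ V.1) (Γ(Y', u ⁻¹ᵁ V.1) ⊗[Γ(Y, V.1)] Γ(G, V.1)) :=
      Module.Flat.of_linearEquiv eB
    haveI : Module.FinitePresentation Γ(X, f ⁻¹ᵁ V.1)
        (Γ(X, f ⁻¹ᵁ V.1) ⊗[Γ(Y, V.1)] Γ(G, V.1)) :=
      Module.FinitePresentation.of_equiv eA.symm
    haveI : Module.FinitePresentation Γ(Y', u ⁻¹ᵁ V.1)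
        (Γ(Y', u ⁻¹ᵁ V.1) ⊗[Γ(Y, V.1)] Γ(G, V.1)) :=
      Module.FinitePresentation.of_equiv eB.symm
    exact finitePresentation_of_pinch (A := Γ(X, f ⁻¹ᵁ V.1)) (B := Γ(Y', u ⁻¹ᵁ V.1)) Γ(G, V.1)
      hB h0 h1

end Main
end Groth.Agent.Lib.PinchGeom
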