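import Groth.Agent.Lib.BitabSFT
import Groth.Agent.Lib.PlFFT

/-!
# First fundamental theorem for `GL_n` acting on pairs of matrices

The invariants of `GL_n(K)` in the coordinate ring of `M_{m,n} × M_{n,q}` are the polynomials in the entries
of the product matrix.
-/

set_option autoImplicit false
set_option linter.unusedSectionVars false
set_option linter.unusedSimpArgs false
universe u
open Finset MvPolynomial W4bk4grassmannian

noncomputable section

namespace Groth.Agent.Lib.FFTGL
open Groth.Agent.Lib.PlSMT Groth.Agent.Lib.CellMinors Groth.Agent.Lib.PlQuadric Groth.Agent.Lib.Bitab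

section Basic
variable (K : Type u) [CommRing K] (n m q : ℕ)

/-- The point `(U, W)` of `M_{m,n} × M_{n,q}`. -/
def pt (U₀ : Matrix (Fin m) (Fin n) K) (W₀ : Matrix (Fin n) (Fin q) K) :
    (Fin m × Fin n) ⊕ (Fin n × Fin q) → K :=
  Sum.elim (fun p => U₀ p.1 p.2) (fun p => W₀ p.1 p.2)

lemma eval_glTranslate (A : GL (Fin n) K) (U₀ : Matrix (Fin m) (Fin n) K)
    (W₀ : Matrix (Fin n) (Fin q) K) (f : PairRing K n m q) :
    MvPolynomial.eval (pt K n m q U₀ W₀) (glTranslate K n m q A f) =
      MvPolynomial.eval (pt K n m q (U₀ * ((A⁻¹ : GL (Fin n) K) : Matrix (Fin n) (Fin n) K))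
        ((A : Matrix (Fin n) (Fin n) K) * W₀)) f := by
  have h : ((MvPolynomial.aeval (pt K n m q U₀ W₀) : PairRing K n m q →ₐ[K] K).comp
      (glTranslate K n m q A)) =
      MvPolynomial.aeval (pt K n m q (U₀ * ((A⁻¹ : GL (Fin n) K) : Matrix (Fin n) (Fin n) K))
        ((A : Matrix (Fin n) (Fin n) K) * W₀)) := by
    apply MvPolynomial.algHom_ext
    intro p
    rcases p with p | p
    · simp [glTranslate, pt, Matrix.mul_apply]
    · simp [glTranslate, pt, Matrix.mul_apply]
  have := congrArg (fun φ : PairRing K n m q →ₐ[K] K => φ f) h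
  simpa [MvPolynomial.aeval_eq_eval] using this

lemma eval_pt_pairingMap (U₀ : Matrix (Fin m) (Fin n) K) (W₀ : Matrix (Fin n) (Fin q) K)
    (Φ : MvPolynomial (Fin m × Fin q) K) :
    MvPolynomial.eval (pt K n m q U₀ W₀) (pairingMap K n m q Φ) =
      MvPolynomial.eval (fun p : Fin m × Fin q => (U₀ * W₀) p.1 p.2) Φ :=
  eval_pairingMap K n m q U₀ W₀ Φ

/-- The entries of the product matrix are invariant. -/
lemma glTranslate_pairingMap (A : GL (Fin n) K) (G : MvPolynomial (Fin m × Fin q) K) :
    glTranslate K n m q A (pairingMap K n m q G) = pairingMap K n m q G := by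
  have h : (glTranslate K n m q A).comp (pairingMap K n m q) = pairingMap K n m q := by
    apply MvPolynomial.algHom_ext
    intro p
    set Um : Matrix (Fin m) (Fin n) (PairRing K n m q) := Matrix.of fun i k => X (Sum.inl (i, k))
      with hUm
    set Wm : Matrix (Fin n) (Fin q) (PairRing K n m q) := Matrix.of fun k j => X (Sum.inr (k, j))
      with hWm
    set Ai : Matrix (Fin n) (Fin n) (PairRing K n m q) :=
      (((A⁻¹ : GL (Fin n) K) : Matrix (Fin n) (Fin n) K)).map C with hAi
    set Ac : Matrix (Fin n) (Fin n) (PairRing K n m q) :=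
      ((A : Matrix (Fin n) (Fin n) K)).map C with hAc
    have hinv : Ai * Ac = 1 := by
      rw [hAi, hAc, ← Matrix.map_mul, ← Units.val_mul, inv_mul_cancel]
      ext i j
      simp [Matrix.one_apply]
    have h1 : pairingMap K n m q (X p) = (Um * Wm) p.1 p.2 := by
      simp [pairingMap, Matrix.mul_apply, hUm, hWm]
    have h2 : glTranslate K n m q A ((Um * Wm) p.1 p.2) = ((Um * Ai) * (Ac * Wm)) p.1 p.2 := by
      simp [glTranslate, Matrix.mul_apply, hUm, hWm, hAi, hAc]
    rw [AlgHom.comp_apply, h1, h2, Matrix.mul_assoc, ← Matrix.mul_assoc Ai, hinv, Matrix.one_mul]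
  exact congrArg (fun φ : MvPolynomial (Fin m × Fin q) K →ₐ[K] PairRing K n m q => φ G) h

end Basic


section Igusa
variable (K : Type u) [Field K] (n m q : ℕ) (hnm : n ≤ m) (hnq : n ≤ q)

/-- The top-left `n × n` minor of the generic `m × q` matrix. -/
def DeltaPol : MvPolynomial (Fin m × Fin q) K :=
  ((genMatrix K m q).submatrix (Fin.castLE hnm) (Fin.castLE hnq)).det

/-- The Cramer numerators: the top-left minor with row `k` replaced by row `i`. -/
def CPol (i : Fin m) (k : Fin n) : MvPolynomial (Fin m × Fin q) K :=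
  ((genMatrix K m q).submatrix (Function.update (Fin.castLE hnm) k i) (Fin.castLE hnq)).det

lemma eval_det_genMatrix {k : ℕ} (P₀ : Matrix (Fin m) (Fin q) K) (f : Fin k → Fin m)
    (g : Fin k → Fin q) :
    MvPolynomial.eval (fun p : Fin m × Fin q => P₀ p.1 p.2) (((genMatrix K m q).submatrix f g).det) =
      (P₀.submatrix f g).det := by
  rw [RingHom.map_det]
  congr 1
  ext s c
  simp [genMatrix]

lemma det_tl (U₀ : Matrix (Fin m) (Fin n) K) (W₀ : Matrix (Fin n) (Fin q) K) :
    ((U₀ * W₀).submatrix (Fin.castLE hnm) (Fin.castLE hnq)).det =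
      (U₀.submatrix (Fin.castLE hnm) id).det * (W₀.submatrix id (Fin.castLE hnq)).det := by
  rw [← Matrix.det_mul]
  congr 1

/-- Cramer: `U U_top⁻¹` in terms of the minors of `U W`. -/
lemma mul_inv_top_apply (U₀ : Matrix (Fin m) (Fin n) K) (W₀ : Matrix (Fin n) (Fin q) K)
    (_hU : (U₀.submatrix (Fin.castLE hnm) id).det ≠ 0)
    (hW : (W₀.submatrix id (Fin.castLE hnq)).det ≠ 0) (i : Fin m) (k : Fin n) :
    (U₀ * (U₀.submatrix (Fin.castLE hnm) id)⁻¹) i k =
      ((U₀ * W₀).submatrix (Function.update (Fin.castLE hnm) k i) (Fin.castLE hnq)).det *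
        (((U₀ * W₀).submatrix (Fin.castLE hnm) (Fin.castLE hnq)).det)⁻¹ := by
  set Ut := U₀.submatrix (Fin.castLE hnm) id with hUt
  set Wl := W₀.submatrix id (Fin.castLE hnq) with hWl
  set Pl : Matrix (Fin m) (Fin n) K := U₀ * Wl with hPl
  have hPtl : (U₀ * W₀).submatrix (Fin.castLE hnm) (Fin.castLE hnq) = Ut * Wl := rfl
  have hPtl' : Pl.submatrix (Fin.castLE hnm) id = Ut * Wl := rfl
  have h1 : U₀ * Ut⁻¹ = Pl * (Ut * Wl)⁻¹ := by
    rw [Matrix.mul_inv_rev, hPl, Matrix.mul_assoc, ← Matrix.mul_assoc Wl,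
      Matrix.mul_nonsing_inv _ (isUnit_iff_ne_zero.2 hW), Matrix.one_mul]
  rw [h1, hPtl, Matrix.inv_def, Ring.inverse_eq_inv', Matrix.mul_smul, Matrix.smul_apply, smul_eq_mul,
    ← hPtl', PlFFT.mul_adjugate_submatrix_apply, mul_comm]
  rfl

/-- Cramer's rule clears denominators. -/
theorem igusa_aux (h : PairRing K n m q) :
    ∃ (N : ℕ) (G : MvPolynomial (Fin m × Fin q) K),
      ∀ (U₀ : Matrix (Fin m) (Fin n) K) (W₀ : Matrix (Fin n) (Fin q) K),
        (U₀.submatrix (Fin.castLE hnm) id).det ≠ 0 → (W₀.submatrix id (Fin.castLE hnq)).det ≠ 0 →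
        ((U₀ * W₀).submatrix (Fin.castLE hnm) (Fin.castLE hnq)).det ^ N *
          MvPolynomial.eval (pt K n m q (U₀ * (U₀.submatrix (Fin.castLE hnm) id)⁻¹)
            (U₀.submatrix (Fin.castLE hnm) id * W₀)) h =
          MvPolynomial.eval (fun p : Fin m × Fin q => (U₀ * W₀) p.1 p.2) G := by
  induction h using MvPolynomial.induction_on with
  | C c =>
    refine ⟨0, C c, fun U₀ W₀ _ _ => ?_⟩
    simp
  | add h₁ h₂ ih₁ ih₂ =>
    obtain ⟨N₁, G₁, e₁⟩ := ih₁
    obtain ⟨N₂, G₂, e₂⟩ := ih₂
    refine ⟨N₁ + N₂, DeltaPol K n m q hnm hnq ^ N₂ * G₁ + DeltaPol K n m q hnm hnq ^ N₁ * G₂,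
      fun U₀ W₀ hU hW => ?_⟩
    rw [map_add, map_add, map_mul, map_mul, map_pow, map_pow, DeltaPol, eval_det_genMatrix,
      ← e₁ U₀ W₀ hU hW, ← e₂ U₀ W₀ hU hW]
    ring
  | mul_X h p ih =>
    obtain ⟨N, G, e⟩ := ih
    rcases p with ⟨i, k⟩ | ⟨k, j⟩
    · refine ⟨N + 1, G * CPol K n m q hnm hnq i k, fun U₀ W₀ hU hW => ?_⟩
      have hD : ((U₀ * W₀).submatrix (Fin.castLE hnm) (Fin.castLE hnq)).det ≠ 0 := by
        rw [det_tl]; exact mul_ne_zero hU hW
      rw [map_mul, eval_X, map_mul, ← e U₀ W₀ hU hW, CPol, eval_det_genMatrix]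
      show _ * (_ * (U₀ * (U₀.submatrix (Fin.castLE hnm) id)⁻¹) i k) = _
      rw [mul_inv_top_apply K n m q hnm hnq U₀ W₀ hU hW]
      field_simp
      ring
    · refine ⟨N, G * X (Fin.castLE hnm k, j), fun U₀ W₀ hU hW => ?_⟩
      rw [map_mul, eval_X, map_mul, ← e U₀ W₀ hU hW, eval_X]
      show _ * (_ * (U₀.submatrix (Fin.castLE hnm) id * W₀) k j) = _
      have : (U₀.submatrix (Fin.castLE hnm) id * W₀) k j = (U₀ * W₀) (Fin.castLE hnm k) j := by
        simp [Matrix.mul_apply]
      rw [this]
      ring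


lemma eval_pt_pairingMap_Delta (U₀ : Matrix (Fin m) (Fin n) K) (W₀ : Matrix (Fin n) (Fin q) K) :
    MvPolynomial.eval (pt K n m q U₀ W₀) (pairingMap K n m q (DeltaPol K n m q hnm hnq)) =
      (U₀.submatrix (Fin.castLE hnm) id).det * (W₀.submatrix id (Fin.castLE hnq)).det := by
  rw [eval_pt_pairingMap, DeltaPol, eval_det_genMatrix, det_tl]

lemma pairingMap_Delta_ne_zero : pairingMap K n m q (DeltaPol K n m q hnm hnq) ≠ 0 := by
  intro h
  have h1 := eval_pt_pairingMap_Delta K n m q hnm hnq
    (Matrix.of fun (i : Fin m) (k : Fin n) => if i.val = k.val then (1 : K) else 0)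
    (Matrix.of fun (k : Fin n) (j : Fin q) => if k.val = j.val then (1 : K) else 0)
  rw [h, map_zero] at h1
  have h2 : (Matrix.of fun (i : Fin m) (k : Fin n) => if i.val = k.val then (1 : K) else 0).submatrix
      (Fin.castLE hnm) id = 1 := by
    ext s c
    simp [Matrix.one_apply, Fin.ext_iff]
  have h3 : (Matrix.of fun (k : Fin n) (j : Fin q) => if k.val = j.val then (1 : K) else 0).submatrix
      id (Fin.castLE hnq) = 1 := by
    ext s c
    simp [Matrix.one_apply, Fin.ext_iff]
  rw [h2, h3, Matrix.det_one, mul_one] at h1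
  exact zero_ne_one h1

variable [Infinite K]

/-- An invariant becomes a polynomial in the product matrix after multiplication by a power of the
top-left minor. -/
theorem pow_mul_mem (f : PairRing K n m q)
    (hf : ∀ A : GL (Fin n) K, glTranslate K n m q A f = f) :
    ∃ (N : ℕ) (G : MvPolynomial (Fin m × Fin q) K),
      pairingMap K n m q (DeltaPol K n m q hnm hnq) ^ N * f = pairingMap K n m q G := by
  obtain ⟨N, G, e⟩ := igusa_aux K n m q hnm hnq f
  refine ⟨N, G, ?_⟩
  set E := pairingMap K n m q (DeltaPol K n m q hnm hnq) with hE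
  have key : E * (E ^ N * f - pairingMap K n m q G) = 0 := by
    apply MvPolynomial.funext
    intro x
    set U₀ : Matrix (Fin m) (Fin n) K := Matrix.of fun i k => x (Sum.inl (i, k)) with hU₀
    set W₀ : Matrix (Fin n) (Fin q) K := Matrix.of fun k j => x (Sum.inr (k, j)) with hW₀
    have hx : x = pt K n m q U₀ W₀ := by
      funext p
      rcases p with p | p <;> rfl
    rw [hx, map_mul, map_sub, map_mul, map_pow, map_zero, hE,
      eval_pt_pairingMap_Delta K n m q hnm hnq U₀ W₀]
    by_cases hU : (U₀.submatrix (Fin.castLE hnm) id).det = 0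
    · rw [hU, zero_mul, zero_mul]
    by_cases hW : (W₀.submatrix id (Fin.castLE hnq)).det = 0
    · rw [hW, mul_zero, zero_mul]
    have h1 := e U₀ W₀ hU hW
    have h2 := eval_glTranslate K n m q
      (Matrix.GeneralLinearGroup.mkOfDetNeZero (U₀.submatrix (Fin.castLE hnm) id) hU) U₀ W₀ f
    rw [hf, Matrix.coe_units_inv] at h2
    have h3 : ((Matrix.GeneralLinearGroup.mkOfDetNeZero (U₀.submatrix (Fin.castLE hnm) id) hU :
        GL (Fin n) K) : Matrix (Fin n) (Fin n) K) = U₀.submatrix (Fin.castLE hnm) id := rfl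
    rw [h3] at h2
    rw [h2, ← det_tl, h1, eval_pt_pairingMap, sub_self, mul_zero]
  rcases mul_eq_zero.1 key with h | h
  · exact absurd h (pairingMap_Delta_ne_zero K n m q hnm hnq)
  · exact sub_eq_zero.1 h

end Igusa


section CoreDiv
variable (K : Type u) [Field K] [Infinite K] (m n t : ℕ) (hn : 0 < n) (ht : 1 ≤ t)
  (htm : t ≤ m + 1) (htn : t ≤ n + 1)

include hn ht htm htn in
/-- Independence on the opposite Schubert divisor: a combination of standard bitableaux not involving the
least minor `M₀` (the one with `ψ M₀ = w_t`) which vanishes at every matrix of rank `< t` where `M₀` vanishes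
has zero coefficients. -/
theorem indep_core_div (s : Finset (BT m n t)) (g : BT m n t → K) (M₀ : MinorIdx m n)
    (hM₀ : psi M₀ = wt t htm htn) (hs : ∀ c ∈ s, ∀ i, c.2.1 i ≠ M₀)
    (hH : ∀ z : Fin m × Fin n → K,
      (∀ (f : Fin t → Fin m) (g' : Fin t → Fin n),
        MvPolynomial.eval z (((genMatrix K m n).submatrix f g').det) = 0) →
      MvPolynomial.eval z (minorOf K M₀) = 0 →
      MvPolynomial.eval z (∑ c ∈ s, g c • ∏ i, minorOf K (c.2.1 i)) = 0) :
    ∀ c ∈ s, g c = 0 := by
  classical
  intro c₀ hc₀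
  set ι := wbot (Nat.le_add_right n m) with hι
  set w := wt t htm htn with hw
  set D := s.sup (fun c => c.1) with hD
  have hDle : ∀ c ∈ s, c.1 ≤ D := fun c hc => Finset.le_sup (f := fun c : BT m n t => c.1) hc
  set F : PlRing K n (n + m) := ∑ c ∈ s, (g c * epsOf K m n t c) •
    (X ι ^ (D - c.1) * chainMon K (thetaSeq m n t c)) with hF
  have hFmon : F = ∑ c ∈ s, monomial (ehOf m n t D c) (g c * epsOf K m n t c) := by
    rw [hF]
    refine Finset.sum_congr rfl fun c _ => ?_
    rw [monomial_ehOf, smul_monomial, smul_eq_mul, mul_one]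
  -- the divisor `w'` through the monomial of `c₀`
  obtain ⟨w', hw'le, hw'not, hw'c₀⟩ : ∃ w' : Idx n (n + m), w' ≤ w ∧ ¬ w ≤ w' ∧
      ∀ i, thetaSeq m n t c₀ i ≤ w' := by
    by_cases hk : 0 < c₀.1
    · refine ⟨thetaSeq m n t c₀ ⟨0, hk⟩, thetaSeq_le_wt m n t ht htm htn c₀ _, ?_,
        fun i => thetaSeq_antitone m n t c₀ (show (⟨0, hk⟩ : Fin c₀.1) ≤ i from Nat.zero_le _)⟩
      intro hle
      have heq : thetaSeq m n t c₀ ⟨0, hk⟩ = w :=
        le_antisymm (thetaSeq_le_wt m n t ht htm htn c₀ _) hle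
      exact hs c₀ hc₀ _ (psi_injective (heq.trans hM₀.symm))
    · refine ⟨ι, wbot_le _ _, ?_, fun i => absurd (lt_of_le_of_lt (Nat.zero_le _) i.isLt) hk⟩
      intro hle
      have heq : w = ι := le_antisymm hle (wbot_le _ _)
      exact psi_ne_wbot M₀ (hM₀.trans heq)
  have hXF : X ι * F ∈ schubertVanishing K n (n + m) w' := by
    unfold schubertVanishing
    rw [Ideal.mem_iInf]
    intro A
    rw [Ideal.mem_iInf]
    intro hA'
    have hA : ∀ φ : Idx n (n + m), ¬ φ ≤ w → (A.submatrix φ.1 id).det = 0 :=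
      fun φ hφ => hA' φ (fun h => hφ (le_trans h hw'le))
    have hAw : (A.submatrix w.1 id).det = 0 := hA' w hw'not
    rw [RingHom.mem_ker]
    show evalMinors K n (n + m) A (X ι * F) = 0
    rw [map_mul]
    have hXι : evalMinors K n (n + m) A (X ι) = (A.submatrix ι.1 id).det := by
      rw [evalMinors, aeval_X]
    by_cases hδ : (A.submatrix ι.1 id).det = 0
    · rw [hXι, hδ, zero_mul]
    · have hterm : ∀ c ∈ s, evalMinors K n (n + m) A
          ((g c * epsOf K m n t c) • (X ι ^ (D - c.1) * chainMon K (thetaSeq m n t c))) =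
          (A.submatrix ι.1 id).det ^ D * MvPolynomial.eval (zOf K m n (normA K m n A))
            (g c • ∏ i, minorOf K (c.2.1 i)) := by
        intro c hc
        have h1 : evalMinors K n (n + m) A (chainMon K (thetaSeq m n t c)) =
            (A.submatrix ι.1 id).det ^ c.1 *
              evalMinors K n (n + m) (normA K m n A) (chainMon K (thetaSeq m n t c)) := by
          unfold chainMon
          rw [map_prod, map_prod]
          have : ∀ i : Fin c.1, evalMinors K n (n + m) A (X (thetaSeq m n t c i)) =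
              (A.submatrix ι.1 id).det * evalMinors K n (n + m) (normA K m n A)
                (X (thetaSeq m n t c i)) := by
            intro i
            rw [evalMinors, aeval_X, evalMinors, aeval_X]
            exact det_submatrix_eq K m n A hδ _
          rw [Finset.prod_congr rfl fun i _ => this i, Finset.prod_mul_distrib,
            Finset.prod_const, Finset.card_univ, Fintype.card_fin]
        rw [map_smul, map_mul, map_pow, hXι, h1,
          evalMinors_eq_eval_Psi K m n _ (normA_top K m n A hδ), Psi_chainMon_thetaSeq,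
          smul_eq_mul, Algebra.smul_def, Algebra.smul_def, map_mul, map_mul,
          MvPolynomial.algebraMap_eq, eval_C, eval_C]
        have hpow : (A.submatrix ι.1 id).det ^ D =
            (A.submatrix ι.1 id).det ^ (D - c.1) * (A.submatrix ι.1 id).det ^ c.1 := by
          rw [← pow_add, Nat.sub_add_cancel (hDle c hc)]
        have heps := epsOf_mul_self K m n t c
        rw [hpow]
        calc g c * epsOf K m n t c * ((A.submatrix ι.1 id).det ^ (D - c.1) *
              ((A.submatrix ι.1 id).det ^ c.1 * (epsOf K m n t c *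
                (MvPolynomial.eval (zOf K m n (normA K m n A))) (∏ i, minorOf K (c.2.1 i))))) =
            (epsOf K m n t c * epsOf K m n t c) * ((A.submatrix ι.1 id).det ^ (D - c.1) *
              (A.submatrix ι.1 id).det ^ c.1 * (g c *
                (MvPolynomial.eval (zOf K m n (normA K m n A))) (∏ i, minorOf K (c.2.1 i)))) := by
              ring
          _ = _ := by rw [heps, one_mul]
      have hvan : ∀ (f : Fin t → Fin m) (g' : Fin t → Fin n),
          MvPolynomial.eval (zOf K m n (normA K m n A))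
            (((genMatrix K m n).submatrix f g').det) = 0 := by
        intro f g'
        apply eval_minorIdeal_eq_zero K m n t ht htm htn A hA hδ
        unfold CAlgX.minorIdeal
        exact Ideal.subset_span ⟨(f, g'), rfl⟩
      have hM₀van : MvPolynomial.eval (zOf K m n (normA K m n A)) (minorOf K M₀) = 0 := by
        rw [← Psi_coord_rowsOf, ← evalMinors_eq_eval_Psi K m n _ (normA_top K m n A hδ),
          coord_of_card K (card_image_rowsOf M₀), map_mul]
        have h2 : evalMinors K n (n + m) (normA K m n A) (X (psi M₀)) = 0 := by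
          rw [evalMinors, aeval_X]
          have h3 := det_submatrix_eq K m n A hδ (psi M₀).1
          rw [hM₀, hAw] at h3
          rcases mul_eq_zero.1 h3.symm with h4 | h4
          · exact absurd h4 hδ
          · rw [hM₀]; exact h4
        have h5 : evalMinors K n (n + m) (normA K m n A)
            (X (sortIdx n (n + m) (rowsOf M₀) (card_image_rowsOf M₀))) = 0 := h2
        rw [h5, mul_zero]
      rw [hF, map_sum, Finset.sum_congr rfl hterm, ← Finset.mul_sum, ← map_sum,
        hH _ hvan hM₀van, mul_zero, mul_zero]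
  have hdom := isDomain_schB K hn w'
  have hprime : (schubertVanishing K n (n + m) w').IsPrime :=
    (Ideal.Quotient.isDomain_iff_prime _).1 hdom
  have hXι : (X ι : PlRing K n (n + m)) ∉ schubertVanishing K n (n + m) w' := by
    intro h
    have h0 := eq_zero_of_mem_schubert_of_std K hn w' (X ι) h (by
      intro e he
      rw [MvPolynomial.support_X, Finset.mem_singleton] at he
      rw [he]
      exact isStdOn_single w' ⟨ι, wbot_le _ _⟩)
    exact MvPolynomial.X_ne_zero ι h0
  have hFmem : F ∈ schubertVanishing K n (n + m) w' := (hprime.mem_or_mem hXF).resolve_left hXι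
  have hch : ∀ e ∈ F.support, IsChain (· ≤ ·) (e.support : Set (Idx n (n + m))) := by
    intro e he
    rw [hFmon] at he
    have h1 := MvPolynomial.support_sum he
    rw [Finset.mem_biUnion] at h1
    obtain ⟨c, -, hl⟩ := h1
    have := MvPolynomial.support_monomial_subset hl
    rw [Finset.mem_singleton] at this
    rw [this]
    exact (isStdOn_ehOf m n t ht htm htn D c).1
  have hbelow : ∀ θ ∈ (ehOf m n t D c₀).support, θ ≤ w' := by
    intro θ hθ
    have := Finsupp.support_add hθ
    rw [Finset.mem_union] at this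
    rcases this with h | h
    · have h2 := Finsupp.support_single_subset h
      rw [Finset.mem_singleton] at h2
      rw [h2]
      exact wbot_le _ _
    · rw [mem_support_expo] at h
      obtain ⟨k, rfl⟩ := h
      exact hw'c₀ k
  have hcz := coeff_eq_zero_of_mem_schubert K hn w' F hFmem hch (ehOf m n t D c₀) hbelow
  have hcoeff : coeff (ehOf m n t D c₀) F = g c₀ * epsOf K m n t c₀ := by
    rw [hFmon, MvPolynomial.coeff_sum]
    simp only [MvPolynomial.coeff_monomial]
    rw [Finset.sum_eq_single c₀]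
    · rw [if_pos rfl]
    · intro c hc hne
      rw [if_neg]
      intro h
      exact hne (ehOf_injective m n t D c c₀ h)
    · intro h; exact absurd hc₀ h
  rw [hcz] at hcoeff
  have : g c₀ * (epsOf K m n t c₀ * epsOf K m n t c₀) = 0 := by
    rw [← mul_assoc, ← hcoeff, zero_mul]
  rwa [epsOf_mul_self, mul_one] at this

end CoreDiv


section Main
variable (K : Type u) [Field K] [Infinite K] (n' m q : ℕ) (hnm : n' + 1 ≤ m) (hnq : n' + 1 ≤ q)

/-- The index of the top-left minor of size `n' + 1`. -/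
def M0 : MinorIdx m q :=
  ⟨n', ⟨Fin.castLE hnm, fun _ _ h => h⟩, ⟨Fin.castLE hnq, fun _ _ h => h⟩⟩

lemma minorOf_M0 : minorOf K (M0 n' m q hnm hnq) = DeltaPol K (n' + 1) m q hnm hnq := rfl

lemma psi_M0 : psi (M0 n' m q hnm hnq) =
    Bitab.wt (n' + 2) (by omega : n' + 2 ≤ m + 1) (by omega : n' + 2 ≤ q + 1) := by
  apply le_antisymm
  · rw [le_wt_iff (n' + 2) (by omega), hiT_psi]
    show n' + 1 ≤ n' + 2 - 1
    omega
  · unfold Bitab.wt
    rw [dif_pos (by omega : 2 ≤ n' + 2), psi_le_iff]
    refine ⟨by show n' + 2 - 2 ≤ n'; omega, fun j j' hjj => ⟨?_, ?_⟩⟩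
    · rw [Fin.le_def]
      show j'.val ≤ j.val
      omega
    · rw [Fin.le_def]
      show j'.val ≤ j.val
      omega

open Groth.Agent.Lib.RankFactor in
/-- The range of the product comorphism is closed under division by the top-left minor. -/
theorem div_mem (G : MvPolynomial (Fin m × Fin q) K) (h : PairRing K (n' + 1) m q)
    (hG : pairingMap K (n' + 1) m q G =
      pairingMap K (n' + 1) m q (DeltaPol K (n' + 1) m q hnm hnq) * h) :
    h ∈ (pairingMap K (n' + 1) m q).range := by
  classical
  have hq : 0 < q := by omega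
  have ht : 1 ≤ n' + 2 := by omega
  have htm : n' + 2 ≤ m + 1 := by omega
  have htq : n' + 2 ≤ q + 1 := by omega
  set M₀ := M0 n' m q hnm hnq with hM₀def
  have hM₀ : psi M₀ = Bitab.wt (n' + 2) htm htq := psi_M0 n' m q hnm hnq
  have hker := ker_pairingMap K m (n' + 1) q
  have hspan := span_bitab K m q (n' + 2) ht htm htq
  have hmem : Ideal.Quotient.mk (CAlgX.minorIdeal (genMatrix K m q) (n' + 2)) G ∈
      Submodule.span K (Set.range (bvec K m q (n' + 2))) := by rw [hspan]; trivial
  obtain ⟨l, hl⟩ := Finsupp.mem_span_range_iff_exists_finsupp.1 hmem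
  set s₁ := l.support.filter (fun c => ∃ i, c.2.1 i = M₀) with hs₁
  set s₂ := l.support.filter (fun c => ¬ ∃ i, c.2.1 i = M₀) with hs₂
  have hdvd : ∀ c : BT m q (n' + 2), (∃ i, c.2.1 i = M₀) →
      ∃ r : MvPolynomial (Fin m × Fin q) K, ∏ i, minorOf K (c.2.1 i) = minorOf K M₀ * r := by
    rintro c ⟨i, hi⟩
    rw [← hi]
    exact Finset.dvd_prod_of_mem (fun i => minorOf K (c.2.1 i)) (Finset.mem_univ i)
  set r : BT m q (n' + 2) → MvPolynomial (Fin m × Fin q) K := fun c =>
    if hc : ∃ i, c.2.1 i = M₀ then Classical.choose (hdvd c hc) else 0 with hr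
  have hrspec : ∀ c ∈ s₁, ∏ i, minorOf K (c.2.1 i) = minorOf K M₀ * r c := by
    intro c hc
    have hc' : ∃ i, c.2.1 i = M₀ := (Finset.mem_filter.1 hc).2
    rw [hr]
    simp only [dif_pos hc']
    exact Classical.choose_spec (hdvd c hc')
  set R₁ : MvPolynomial (Fin m × Fin q) K := ∑ c ∈ s₁, l c • r c with hR₁
  set Φ₂ : MvPolynomial (Fin m × Fin q) K := ∑ c ∈ s₂, l c • ∏ i, minorOf K (c.2.1 i) with hΦ₂
  have hsum : ∑ c ∈ l.support, l c • ∏ i, minorOf K (c.2.1 i) = minorOf K M₀ * R₁ + Φ₂ := by
    rw [← Finset.sum_filter_add_sum_filter_not l.support (fun c => ∃ i, c.2.1 i = M₀), hR₁,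
      Finset.mul_sum]
    congr 1
    refine Finset.sum_congr rfl fun c hc => ?_
    rw [hrspec c hc, mul_smul_comm]
  have hGmem : G - (minorOf K M₀ * R₁ + Φ₂) ∈ CAlgX.minorIdeal (genMatrix K m q) (n' + 2) := by
    rw [← Ideal.Quotient.eq, ← hl, ← hsum, map_sum]
    unfold Finsupp.sum
    refine Finset.sum_congr rfl fun c _ => ?_
    show l c • bvec K m q (n' + 2) c = _
    unfold bvec
    rw [Algebra.smul_def, Algebra.smul_def, map_mul]
    rfl
  have hpG : pairingMap K (n' + 1) m q G =
      pairingMap K (n' + 1) m q (minorOf K M₀ * R₁ + Φ₂) := by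
    have : G - (minorOf K M₀ * R₁ + Φ₂) ∈ RingHom.ker (pairingMap K (n' + 1) m q).toRingHom := by
      rw [hker]; exact hGmem
    rw [RingHom.mem_ker] at this
    have h2 : pairingMap K (n' + 1) m q (G - (minorOf K M₀ * R₁ + Φ₂)) = 0 := this
    rwa [map_sub, sub_eq_zero] at h2
  set E := pairingMap K (n' + 1) m q (DeltaPol K (n' + 1) m q hnm hnq) with hE
  have hΦ₂eq : pairingMap K (n' + 1) m q Φ₂ = E * (h - pairingMap K (n' + 1) m q R₁) := by
    rw [hG, map_add, map_mul, hM₀def, minorOf_M0] at hpG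
    rw [mul_sub, hpG]
    ring
  have hH : ∀ z : Fin m × Fin q → K,
      (∀ (f : Fin (n' + 2) → Fin m) (g' : Fin (n' + 2) → Fin q),
        MvPolynomial.eval z (((genMatrix K m q).submatrix f g').det) = 0) →
      MvPolynomial.eval z (minorOf K M₀) = 0 →
      MvPolynomial.eval z (∑ c ∈ s₂, l c • ∏ i, minorOf K (c.2.1 i)) = 0 := by
    intro z hz hzM
    set Z₀ : Matrix (Fin m) (Fin q) K := Matrix.of fun i j => z (i, j) with hZ₀
    have hzeq : z = fun p : Fin m × Fin q => Z₀ p.1 p.2 := by
      funext p; rfl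
    have h3 : MinorsVanish (n' + 1) Z₀ := minorsVanish_of_fin (n' + 1) Z₀ (fun f g' => by
      rw [← eval_det_genMatrix K m q Z₀ f g', ← hzeq]
      exact hz f g')
    obtain ⟨U₀, W₀, hUW⟩ := exists_factor (n' + 1) Z₀ h3
    have hz' : z = fun p : Fin m × Fin q => (U₀ * W₀) p.1 p.2 := by
      rw [← hUW]; exact hzeq
    have h4 : MvPolynomial.eval (pt K (n' + 1) m q U₀ W₀) E = 0 := by
      rw [hE, eval_pt_pairingMap, ← hz', ← minorOf_M0]
      exact hzM
    show MvPolynomial.eval z Φ₂ = 0
    rw [hz', ← eval_pt_pairingMap, hΦ₂eq, map_mul, h4, zero_mul]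
  have hzero := indep_core_div K m q (n' + 2) hq ht htm htq s₂ (fun c => l c) M₀ hM₀
    (fun c hc i hi => (Finset.mem_filter.1 hc).2 ⟨i, hi⟩) hH
  have hΦ₂0 : Φ₂ = 0 := by
    rw [hΦ₂]
    refine Finset.sum_eq_zero fun c hc => ?_
    rw [hzero c hc, zero_smul]
  rw [hΦ₂0, map_zero] at hΦ₂eq
  rcases mul_eq_zero.1 hΦ₂eq.symm with h5 | h5
  · exact absurd h5 (pairingMap_Delta_ne_zero K (n' + 1) m q hnm hnq)
  · exact ⟨R₁, (sub_eq_zero.1 h5).symm⟩

include hnm hnq in
/-- First fundamental theorem for `GL_n`, `1 ≤ n ≤ min m q`. -/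
theorem fft_main (f : PairRing K (n' + 1) m q)
    (hf : ∀ A : GL (Fin (n' + 1)) K, glTranslate K (n' + 1) m q A f = f) :
    f ∈ (pairingMap K (n' + 1) m q).range := by
  obtain ⟨N, G, hN⟩ := pow_mul_mem K (n' + 1) m q hnm hnq f hf
  induction N generalizing G with
  | zero =>
    rw [pow_zero, one_mul] at hN
    exact ⟨G, hN.symm⟩
  | succ N ih =>
    have h1 : pairingMap K (n' + 1) m q G =
        pairingMap K (n' + 1) m q (DeltaPol K (n' + 1) m q hnm hnq) *
          (pairingMap K (n' + 1) m q (DeltaPol K (n' + 1) m q hnm hnq) ^ N * f) := by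
      rw [← hN, pow_succ]; ring
    obtain ⟨G', hG'⟩ := div_mem K n' m q hnm hnq G _ h1
    exact ih G' hG'.symm

end Main


section Padding
variable (K : Type u) [CommRing K] (n m q m' q' : ℕ) (hm : m ≤ m') (hq : q ≤ q')

/-- Extension of polynomial functions to bigger matrices (ignoring the extra rows and columns). -/
def extP : PairRing K n m q →ₐ[K] PairRing K n m' q' :=
  MvPolynomial.rename (Sum.map (Prod.map (Fin.castLE hm) id) (Prod.map id (Fin.castLE hq)))

/-- Restriction to the matrices whose extra rows and columns vanish. -/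
def resP : PairRing K n m' q' →ₐ[K] PairRing K n m q :=
  MvPolynomial.aeval (Sum.elim
    (fun p : Fin m' × Fin n => if h : p.1.val < m then X (Sum.inl (⟨p.1.val, h⟩, p.2)) else 0)
    (fun p : Fin n × Fin q' => if h : p.2.val < q then X (Sum.inr (p.1, ⟨p.2.val, h⟩)) else 0))

/-- Restriction on the target of the product map. -/
def resY : MvPolynomial (Fin m' × Fin q') K →ₐ[K] MvPolynomial (Fin m × Fin q) K :=
  MvPolynomial.aeval (fun p : Fin m' × Fin q' =>
    if h : p.1.val < m ∧ p.2.val < q then X (⟨p.1.val, h.1⟩, ⟨p.2.val, h.2⟩) else 0)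

lemma resP_extP (f : PairRing K n m q) : resP K n m q m' q' (extP K n m q m' q' hm hq f) = f := by
  have h : (resP K n m q m' q').comp (extP K n m q m' q' hm hq) = AlgHom.id K _ := by
    apply MvPolynomial.algHom_ext
    intro p
    rcases p with ⟨i, k⟩ | ⟨k, j⟩
    · simp [resP, extP]
    · simp [resP, extP]
  exact congrArg (fun φ : PairRing K n m q →ₐ[K] PairRing K n m q => φ f) h

lemma extP_glTranslate (A : GL (Fin n) K) (f : PairRing K n m q) :
    extP K n m q m' q' hm hq (glTranslate K n m q A f) =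
      glTranslate K n m' q' A (extP K n m q m' q' hm hq f) := by
  have h : (extP K n m q m' q' hm hq).comp (glTranslate K n m q A) =
      (glTranslate K n m' q' A).comp (extP K n m q m' q' hm hq) := by
    apply MvPolynomial.algHom_ext
    intro p
    rcases p with ⟨i, k⟩ | ⟨k, j⟩
    · simp [extP, glTranslate]
    · simp [extP, glTranslate]
  exact congrArg (fun φ : PairRing K n m q →ₐ[K] PairRing K n m' q' => φ f) h

lemma resP_pairingMap (G : MvPolynomial (Fin m' × Fin q') K) :
    resP K n m q m' q' (pairingMap K n m' q' G) = pairingMap K n m q (resY K m q m' q' G) := by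
  have h : (resP K n m q m' q').comp (pairingMap K n m' q') =
      (pairingMap K n m q).comp (resY K m q m' q') := by
    apply MvPolynomial.algHom_ext
    intro p
    obtain ⟨i, j⟩ := p
    simp only [AlgHom.comp_apply, pairingMap, aeval_X, resP, resY, map_sum, map_mul, Sum.elim_inl,
      Sum.elim_inr]
    by_cases hi : i.val < m
    · by_cases hj : j.val < q
      · simp [hi, hj]
      · simp [hi, hj]
    · simp [hi]
  exact congrArg (fun φ : MvPolynomial (Fin m' × Fin q') K →ₐ[K] PairRing K n m q => φ G) h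

end Padding

section Final
variable (K : Type u) [Field K] [Infinite K] (n m q : ℕ)

/-- First fundamental theorem for `GL_n` acting on pairs of matrices. -/
theorem fft_gl (f : PairRing K n m q) :
    (∀ A : GL (Fin n) K, glTranslate K n m q A f = f) ↔ f ∈ (pairingMap K n m q).range := by
  constructor
  · intro hf
    rcases Nat.eq_zero_or_pos n with hn | hn
    · subst hn
      refine ⟨C (coeff 0 f), ?_⟩
      have : IsEmpty ((Fin m × Fin 0) ⊕ (Fin 0 × Fin q)) :=
        ⟨fun p => by rcases p with p | p; exact p.2.elim0; exact p.1.elim0⟩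
      conv_rhs => rw [MvPolynomial.eq_C_of_isEmpty f]
      show pairingMap K 0 m q (C (coeff 0 f)) = _
      rw [pairingMap, MvPolynomial.aeval_C]
      rfl
    · obtain ⟨n', rfl⟩ : ∃ n', n = n' + 1 := ⟨n - 1, by omega⟩
      have hm : m ≤ max m (n' + 1) := le_max_left _ _
      have hq : q ≤ max q (n' + 1) := le_max_left _ _
      have hinv : ∀ A : GL (Fin (n' + 1)) K,
          glTranslate K (n' + 1) (max m (n' + 1)) (max q (n' + 1)) A
            (extP K (n' + 1) m q _ _ hm hq f) = extP K (n' + 1) m q _ _ hm hq f := by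
        intro A
        rw [← extP_glTranslate, hf]
      obtain ⟨G, hG⟩ := fft_main K n' (max m (n' + 1)) (max q (n' + 1)) (le_max_right _ _)
        (le_max_right _ _) _ hinv
      refine ⟨resY K m q _ _ G, ?_⟩
      have hG' : pairingMap K (n' + 1) (max m (n' + 1)) (max q (n' + 1)) G =
          extP K (n' + 1) m q _ _ hm hq f := hG
      show pairingMap K (n' + 1) m q (resY K m q _ _ G) = f
      rw [← resP_pairingMap, hG', resP_extP]
  · rintro ⟨G, rfl⟩ A
    exact glTranslate_pairingMap K n m q A G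

end Final

end Groth.Agent.Lib.FFTGL
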