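import Groth.Prelude.Def_W4bk4grassmannianPl
import Mathlib

/-!
# Standard monomial theory for the Plücker algebra, part 1: straightening

Basic facts on `sortIdx`, `coord`, `movingRows`, `shuffleTerm` of `Def_W4bk4grassmannianPl`, and the
straightening step: at a pivot `(i, j, r)` the product `X i * X j` is, modulo the shuffle relation, a
combination of products `X i' * X j'` with `i < i'`.  Consequence: standard monomials span the quotient
of the Plücker polynomial ring by the shuffle relations (over any commutative ring).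
-/

set_option autoImplicit false
set_option linter.unusedSectionVars false
set_option linter.unusedSimpArgs false
universe u
open Finset MvPolynomial W4bk4grassmannian

namespace Groth.Agent.Lib.PlSMT

variable {d n : ℕ}

/-! ### Sorting -/

lemma injective_of_card_image {a : Fin d → Fin n} (h : (Finset.univ.image a).card = d) :
    Function.Injective a := by
  have h' : (Finset.univ.image a).card = (Finset.univ : Finset (Fin d)).card := by simpa using h
  have := Finset.card_image_iff.mp h'
  exact fun x y hxy => this (Finset.mem_coe.2 (Finset.mem_univ x)) (Finset.mem_coe.2 (Finset.mem_univ y)) hxy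

lemma card_image_of_injective' {a : Fin d → Fin n} (h : Function.Injective a) :
    (Finset.univ.image a).card = d := by
  rw [Finset.card_image_of_injective _ h]; simp

lemma sortIdx_apply (a : Fin d → Fin n) (h : (Finset.univ.image a).card = d) (t : Fin d) :
    (sortIdx d n a h).1 t = (Finset.univ.image a).orderEmbOfFin h t := rfl

lemma sortIdx_mem (a : Fin d → Fin n) (h : (Finset.univ.image a).card = d) (t : Fin d) :
    (sortIdx d n a h).1 t ∈ Finset.univ.image a := Finset.orderEmbOfFin_mem _ h t

lemma range_sortIdx (a : Fin d → Fin n) (h : (Finset.univ.image a).card = d) :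
    Set.range (sortIdx d n a h).1 = Set.range a := by
  have := Finset.range_orderEmbOfFin (Finset.univ.image a) h
  rw [show (sortIdx d n a h).1 = ⇑((Finset.univ.image a).orderEmbOfFin h) from rfl, this]
  simp

lemma image_sortIdx (a : Fin d → Fin n) (h : (Finset.univ.image a).card = d) :
    Finset.univ.image (sortIdx d n a h).1 = Finset.univ.image a :=
  Finset.image_orderEmbOfFin_univ _ h

lemma sortIdx_of_strictMono (θ : Idx d n) (h : (Finset.univ.image θ.1).card = d) :
    sortIdx d n θ.1 h = θ := by
  apply Subtype.ext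
  exact (Finset.orderEmbOfFin_unique h (fun x => by simp) θ.2).symm

lemma card_image_idx (θ : Idx d n) : (Finset.univ.image θ.1).card = d :=
  card_image_of_injective' θ.2.injective

/-- Sorting is monotone for the pointwise order. -/
lemma sortIdx_le_sortIdx {a b : Fin d → Fin n} (ha : (Finset.univ.image a).card = d)
    (hb : (Finset.univ.image b).card = d) (hab : ∀ t, a t ≤ b t) :
    sortIdx d n a ha ≤ sortIdx d n b hb := by
  intro k
  show (Finset.univ.image a).orderEmbOfFin ha k ≤ (Finset.univ.image b).orderEmbOfFin hb k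
  set oa := (Finset.univ.image a).orderEmbOfFin ha with hoa
  set ob := (Finset.univ.image b).orderEmbOfFin hb with hob
  by_contra hlt
  rw [not_le] at hlt
  have inja := injective_of_card_image ha
  have injb := injective_of_card_image hb
  set T : Finset (Fin d) := Finset.univ.filter fun t => b t ≤ ob k with hT
  have h1 : T.image a ⊆ (Finset.Iio k).image oa := by
    intro y hy
    obtain ⟨t, ht, rfl⟩ := Finset.mem_image.1 hy
    have hmem : a t ∈ Set.range oa := by
      rw [hoa, Finset.range_orderEmbOfFin]; simp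
    obtain ⟨k', hk'⟩ := hmem
    refine Finset.mem_image.2 ⟨k', ?_, hk'⟩
    rw [Finset.mem_Iio]
    have : oa k' < oa k := by
      rw [hk']; exact lt_of_le_of_lt (hab t) (lt_of_le_of_lt (Finset.mem_filter.1 ht).2 hlt)
    exact oa.lt_iff_lt.1 this
  have h2 : (Finset.Iic k).image ob ⊆ T.image b := by
    intro y hy
    obtain ⟨k', hk', rfl⟩ := Finset.mem_image.1 hy
    obtain ⟨t, -, ht⟩ := Finset.mem_image.1 (Finset.orderEmbOfFin_mem _ hb k')
    refine Finset.mem_image.2 ⟨t, Finset.mem_filter.2 ⟨Finset.mem_univ _, ?_⟩, ht⟩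
    rw [ht]; exact ob.monotone (Finset.mem_Iic.1 hk')
  have c1 := Finset.card_le_card h1
  have c2 := Finset.card_le_card h2
  rw [Finset.card_image_of_injective _ inja, Finset.card_image_of_injective _ oa.injective,
    Fin.card_Iio] at c1
  rw [Finset.card_image_of_injective _ injb, Finset.card_image_of_injective _ ob.injective,
    Fin.card_Iic] at c2
  omega

/-- The sum of the entries. -/
def esum (a : Fin d → Fin n) : ℕ := ∑ t, (a t).val

lemma esum_sortIdx (a : Fin d → Fin n) (h : (Finset.univ.image a).card = d) :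
    esum (sortIdx d n a h).1 = esum a := by
  unfold esum
  have e1 : ∑ t, ((sortIdx d n a h).1 t).val =
      ∑ y ∈ Finset.univ.image (sortIdx d n a h).1, (Fin.val y : ℕ) := by
    refine (Finset.sum_image (f := fun y : Fin n => (y.val : ℕ)) ?_).symm
    intro x _ y _ hxy; exact (sortIdx d n a h).2.injective hxy
  have e2 : ∑ t, (a t).val = ∑ y ∈ Finset.univ.image a, (Fin.val y : ℕ) := by
    refine (Finset.sum_image (f := fun y : Fin n => (y.val : ℕ)) ?_).symm
    intro x _ y _ hxy; exact injective_of_card_image h hxy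
  rw [e1, e2, image_sortIdx]

lemma esum_lt_of_le_of_ne {a b : Fin d → Fin n} (hab : ∀ t, a t ≤ b t) (hne : a ≠ b) :
    esum a < esum b := by
  unfold esum
  obtain ⟨t, ht⟩ := Function.ne_iff.1 hne
  refine Finset.sum_lt_sum (f := fun t => (a t).val) (g := fun t => (b t).val) (fun t _ => hab t) ?_
  exact ⟨t, Finset.mem_univ _, lt_of_le_of_ne (hab t) (fun h => ht (Fin.ext h))⟩

lemma sortIdx_gt_of_le_of_ne {i : Idx d n} {a : Fin d → Fin n} (ha : (Finset.univ.image a).card = d)
    (hia : ∀ t, i.1 t ≤ a t) (hne : i.1 ≠ a) : i < sortIdx d n a ha := by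
  have hle : i ≤ sortIdx d n a ha := by
    have := sortIdx_le_sortIdx (card_image_idx i) ha hia
    rwa [sortIdx_of_strictMono] at this
  refine lt_of_le_of_ne hle ?_
  intro heq
  have h1 := esum_sortIdx a ha
  have h2 := esum_lt_of_le_of_ne hia hne
  rw [← heq] at h1
  omega

/-! ### Signed coordinates -/

variable (K : Type u) [CommRing K]

lemma coord_of_card {a : Fin d → Fin n} (h : (Finset.univ.image a).card = d) :
    coord K d n a = (-1 : PlRing K d n) ^ invCount d n a * X (sortIdx d n a h) := dif_pos h

lemma coord_of_not_card {a : Fin d → Fin n} (h : ¬ (Finset.univ.image a).card = d) :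
    coord K d n a = 0 := dif_neg h

lemma invCount_strictMono (θ : Idx d n) : invCount d n θ.1 = 0 := by
  unfold invCount
  rw [Finset.card_eq_zero, Finset.filter_eq_empty_iff]
  rintro p - ⟨h1, h2⟩
  exact absurd (θ.2 h1) (not_lt.2 h2.le)

lemma coord_idx (θ : Idx d n) : coord K d n θ.1 = X θ := by
  rw [coord_of_card K (card_image_idx θ), invCount_strictMono, sortIdx_of_strictMono]; simp

/-- `coord` is zero or a signed variable. -/
lemma coord_cases (a : Fin d → Fin n) :
    coord K d n a = 0 ∨ ∃ (h : (Finset.univ.image a).card = d),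
      coord K d n a = (-1 : PlRing K d n) ^ invCount d n a * X (sortIdx d n a h) := by
  by_cases h : (Finset.univ.image a).card = d
  · exact Or.inr ⟨h, coord_of_card K h⟩
  · exact Or.inl (coord_of_not_card K h)

lemma neg_one_pow_mul (e : ℕ) (f : PlRing K d n) :
    (-1 : PlRing K d n) ^ e * f = ((-1 : K) ^ e) • f := by
  rw [MvPolynomial.smul_eq_C_mul, map_pow, map_neg, map_one]

/-! ### Moving rows -/

variable {K}

lemma movingRows_of_le (i j : Idx d n) (r : Fin d) (k : Fin (d + 1)) (h : k.val ≤ r.val) :
    movingRows i j r k = i.1 ⟨k.val, lt_of_le_of_lt h r.isLt⟩ := dif_pos h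

lemma movingRows_of_gt (i j : Idx d n) (r : Fin d) (k : Fin (d + 1)) (h : r.val < k.val) :
    movingRows i j r k = j.1 ⟨k.val - 1, by have := k.isLt; omega⟩ := dif_neg (not_le.2 h)

lemma movingRows_strictMono (i j : Idx d n) (r : Fin d) (hr : i.1 r < j.1 r) :
    StrictMono (movingRows i j r) := by
  intro k k' hkk'
  have hkk : k.val < k'.val := hkk'
  by_cases h1 : k'.val ≤ r.val
  · rw [movingRows_of_le _ _ _ _ h1, movingRows_of_le _ _ _ _ (by omega)]
    exact i.2 (by rw [Fin.lt_def]; exact hkk)
  · rw [not_le] at h1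
    rw [movingRows_of_gt _ _ _ _ h1]
    by_cases h2 : k.val ≤ r.val
    · rw [movingRows_of_le _ _ _ _ h2]
      calc i.1 ⟨k.val, _⟩ ≤ i.1 r := i.2.monotone (by rw [Fin.le_def]; exact h2)
        _ < j.1 r := hr
        _ ≤ j.1 ⟨k'.val - 1, _⟩ := j.2.monotone (by rw [Fin.le_def]; simp only; omega)
    · rw [not_le] at h2
      rw [movingRows_of_gt _ _ _ _ h2]
      exact j.2 (by rw [Fin.lt_def]; simp only; omega)

/-- The identity shuffle: the positions `0, …, r`. -/
def idSet (r : Fin d) : Finset (Fin (d + 1)) := Finset.univ.filter fun k => k.val ≤ r.val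

lemma idSet_eq_image (r : Fin d) :
    idSet r = Finset.univ.image (Fin.castLE (show r.val + 1 ≤ d + 1 by omega)) := by
  ext k
  simp only [idSet, Finset.mem_filter, Finset.mem_univ, true_and, Finset.mem_image]
  constructor
  · intro h; exact ⟨⟨k.val, by omega⟩, by ext; simp⟩
  · rintro ⟨t, rfl⟩; simp only [Fin.val_castLE]; omega

lemma card_idSet (r : Fin d) : (idSet r).card = r.val + 1 := by
  rw [idSet_eq_image, Finset.card_image_of_injective _ (Fin.castLE_injective _)]; simp

lemma orderEmbOfFin_idSet (r : Fin d) (h : (idSet r).card = r.val + 1) (t : Fin (r.val + 1)) :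
    (idSet r).orderEmbOfFin h t = Fin.castLE (show r.val + 1 ≤ d + 1 by omega) t := by
  have := Finset.orderEmbOfFin_unique h (f := Fin.castLE (show r.val + 1 ≤ d + 1 by omega))
    (fun x => by rw [idSet_eq_image]; exact Finset.mem_image_of_mem _ (Finset.mem_univ _))
    (Fin.strictMono_castLE _)
  exact (congrFun this t).symm

lemma le_orderEmbOfFin (A : Finset (Fin (d + 1))) {m : ℕ} (hA : A.card = m) (t : Fin m) :
    t.val ≤ (A.orderEmbOfFin hA t).val := by
  obtain ⟨t, ht⟩ := t
  induction t with
  | zero => exact Nat.zero_le _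
  | succ t ih =>
    have h1 := ih (by omega)
    have h2 : A.orderEmbOfFin hA ⟨t, by omega⟩ < A.orderEmbOfFin hA ⟨t + 1, ht⟩ :=
      (A.orderEmbOfFin hA).strictMono (by rw [Fin.lt_def]; simp)
    rw [Fin.lt_def] at h2
    simp only at h1 ⊢
    omega

lemma shuffleI_of_le (i j : Idx d n) (r : Fin d) (A : Finset (Fin (d + 1))) (hA : A.card = r.val + 1)
    (t : Fin d) (h : t.val ≤ r.val) :
    shuffleI i j r A hA t = movingRows i j r (A.orderEmbOfFin hA ⟨t.val, by omega⟩) := dif_pos h

lemma shuffleI_of_gt (i j : Idx d n) (r : Fin d) (A : Finset (Fin (d + 1))) (hA : A.card = r.val + 1)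
    (t : Fin d) (h : r.val < t.val) : shuffleI i j r A hA t = i.1 t := dif_neg (not_le.2 h)

lemma shuffleJ_of_lt (i j : Idx d n) (r : Fin d) (A : Finset (Fin (d + 1))) (hA : A.card = r.val + 1)
    (t : Fin d) (h : t.val < r.val) : shuffleJ i j r A hA t = j.1 t := dif_pos h

lemma shuffleJ_of_ge (i j : Idx d n) (r : Fin d) (A : Finset (Fin (d + 1))) (hA : A.card = r.val + 1)
    (hC : Aᶜ.card = d - r.val) (t : Fin d) (h : r.val ≤ t.val) :
    shuffleJ i j r A hA t =
      movingRows i j r (Aᶜ.orderEmbOfFin hC ⟨t.val - r.val, by have := t.isLt; omega⟩) :=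
  dif_neg (not_lt.2 h)

lemma le_shuffleI (i j : Idx d n) (r : Fin d) (hr : i.1 r < j.1 r) (A : Finset (Fin (d + 1)))
    (hA : A.card = r.val + 1) (t : Fin d) : i.1 t ≤ shuffleI i j r A hA t := by
  by_cases h : t.val ≤ r.val
  · rw [shuffleI_of_le _ _ _ _ _ _ h]
    have h1 : (⟨t.val, by omega⟩ : Fin (d + 1)) ≤ A.orderEmbOfFin hA ⟨t.val, by omega⟩ := by
      rw [Fin.le_def]; exact le_orderEmbOfFin A hA ⟨t.val, by omega⟩
    have h2 := (movingRows_strictMono i j r hr).monotone h1
    rwa [movingRows_of_le _ _ _ _ (by exact h)] at h2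
  · rw [shuffleI_of_gt _ _ _ _ _ _ (not_le.1 h)]

lemma shuffleI_idSet (i j : Idx d n) (r : Fin d) (hA : (idSet r).card = r.val + 1) :
    shuffleI i j r (idSet r) hA = i.1 := by
  funext t
  by_cases h : t.val ≤ r.val
  · rw [shuffleI_of_le _ _ _ _ _ _ h, orderEmbOfFin_idSet, movingRows_of_le _ _ _ _ (by simpa using h)]
    rfl
  · rw [shuffleI_of_gt _ _ _ _ _ _ (not_le.1 h)]

lemma eq_idSet_of_shuffleI_eq (i j : Idx d n) (r : Fin d) (hr : i.1 r < j.1 r)
    (A : Finset (Fin (d + 1))) (hA : A.card = r.val + 1) (h : shuffleI i j r A hA = i.1) :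
    A = idSet r := by
  have key : ∀ t : Fin (r.val + 1), A.orderEmbOfFin hA t =
      Fin.castLE (show r.val + 1 ≤ d + 1 by omega) t := by
    intro t
    have ht : (⟨t.val, by omega⟩ : Fin d).val ≤ r.val := by have := t.isLt; simp only; omega
    have h1 := congrFun h ⟨t.val, by have := t.isLt; omega⟩
    rw [shuffleI_of_le _ _ _ _ _ _ ht] at h1
    have h2 : movingRows i j r (Fin.castLE (show r.val + 1 ≤ d + 1 by omega) t) =
        i.1 ⟨t.val, by have := t.isLt; omega⟩ :=
      movingRows_of_le _ _ _ _ (by have := t.isLt; simp only [Fin.val_castLE]; omega)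
    exact (movingRows_strictMono i j r hr).injective (h1.trans h2.symm)
  rw [idSet_eq_image, ← Finset.image_orderEmbOfFin_univ A hA]
  exact Finset.image_congr (fun t _ => key t)

/-! ### The straightening step -/

variable (K)

/-- The target span of the straightening step. -/
noncomputable def upSpan (i : Idx d n) : Submodule K (PlRing K d n) :=
  Submodule.span K {f | ∃ i' j' : Idx d n, i < i' ∧ f = X i' * X j'}

lemma shuffleTerm_mem_upSpan (i j : Idx d n) (r : Fin d) (hr : i.1 r < j.1 r)
    (A : Finset (Fin (d + 1))) (hne : A ≠ idSet r) : shuffleTerm K i j r A ∈ upSpan K i := by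
  unfold shuffleTerm
  split_ifs with hA
  · rcases coord_cases K (shuffleI i j r A hA) with h0 | ⟨hI, hcI⟩
    · rw [h0]; simp
    rcases coord_cases K (shuffleJ i j r A hA) with h0 | ⟨hJ, hcJ⟩
    · rw [h0]; simp
    rw [hcI, hcJ]
    have hlt : i < sortIdx d n (shuffleI i j r A hA) hI :=
      sortIdx_gt_of_le_of_ne hI (le_shuffleI i j r hr A hA)
        (fun h => hne (eq_idSet_of_shuffleI_eq i j r hr A hA h.symm))
    have : (-1 : PlRing K d n) ^ shuffleSign r A *
        ((-1 : PlRing K d n) ^ invCount d n (shuffleI i j r A hA) *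
          X (sortIdx d n (shuffleI i j r A hA) hI)) *
        ((-1 : PlRing K d n) ^ invCount d n (shuffleJ i j r A hA) *
          X (sortIdx d n (shuffleJ i j r A hA) hJ)) =
        (-1 : PlRing K d n) ^ (shuffleSign r A + invCount d n (shuffleI i j r A hA) +
          invCount d n (shuffleJ i j r A hA)) *
          (X (sortIdx d n (shuffleI i j r A hA) hI) * X (sortIdx d n (shuffleJ i j r A hA) hJ)) := by
      rw [pow_add, pow_add]; ring
    rw [this, neg_one_pow_mul]
    exact Submodule.smul_mem _ _ (Submodule.subset_span ⟨_, _, hlt, rfl⟩)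
  · exact Submodule.zero_mem _

lemma shuffleJ_idSet (i j : Idx d n) (r : Fin d) (hA : (idSet r).card = r.val + 1) :
    shuffleJ i j r (idSet r) hA = j.1 := by
  have hC : (idSet r)ᶜ.card = d - r.val := by
    rw [Finset.card_compl, hA, Fintype.card_fin]; omega
  have hmem : ∀ x : Fin (d - r.val),
      (⟨x.val + r.val + 1, by have := x.isLt; have := r.isLt; omega⟩ : Fin (d + 1)) ∈ (idSet r)ᶜ := by
    intro x
    simp only [idSet, Finset.compl_filter, Finset.mem_filter, Finset.mem_univ, true_and]
    omega
  have hmono : StrictMono (fun x : Fin (d - r.val) =>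
      (⟨x.val + r.val + 1, by have := x.isLt; have := r.isLt; omega⟩ : Fin (d + 1))) := by
    intro x y hxy
    rw [Fin.lt_def] at hxy ⊢
    simp only; omega
  have huniq := Finset.orderEmbOfFin_unique hC hmem hmono
  funext t
  by_cases h : t.val < r.val
  · rw [shuffleJ_of_lt _ _ _ _ _ _ h]
  · rw [not_lt] at h
    rw [shuffleJ_of_ge _ _ _ _ _ hC _ h, ← huniq]
    rw [movingRows_of_gt _ _ _ _ (by simp only; omega)]
    exact congrArg j.1 (Fin.ext (by simp only; omega))

lemma shuffleTerm_idSet (i j : Idx d n) (r : Fin d) :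
    shuffleTerm K i j r (idSet r) = (-1 : PlRing K d n) ^ shuffleSign r (idSet r) * (X i * X j) := by
  unfold shuffleTerm
  rw [dif_pos (card_idSet r), shuffleI_idSet, shuffleJ_idSet, coord_idx, coord_idx, mul_assoc]

/-- The straightening step: at a pivot, `X i * X j` is congruent modulo the shuffle relation to a combination
of products `X i' * X j'` with `i < i'`. -/
lemma straighten (i j : Idx d n) (r : Fin d) (hr : i.1 r < j.1 r) :
    ∃ g ∈ upSpan K i, X i * X j - g ∈ Ideal.span ({shuffleRel K i j r} : Set (PlRing K d n)) := by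
  set e := shuffleSign r (idSet r) with he
  set w := ∑ A ∈ (Finset.univ : Finset (Finset (Fin (d + 1)))).erase (idSet r), shuffleTerm K i j r A
    with hw
  have hwmem : w ∈ upSpan K i :=
    Submodule.sum_mem _ (fun A hA => shuffleTerm_mem_upSpan K i j r hr A (Finset.ne_of_mem_erase hA))
  have hrel : shuffleRel K i j r = (-1 : PlRing K d n) ^ e * (X i * X j) + w := by
    unfold shuffleRel
    rw [← Finset.add_sum_erase _ _ (Finset.mem_univ (idSet r)), shuffleTerm_idSet]
  refine ⟨-((-1 : PlRing K d n) ^ e * w), ?_, ?_⟩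
  · rw [neg_one_pow_mul]
    exact Submodule.neg_mem _ (Submodule.smul_mem _ _ hwmem)
  · have hsq : ((-1 : PlRing K d n) ^ e) * ((-1 : PlRing K d n) ^ e) = 1 := by
      rw [← pow_add, ← two_mul, pow_mul]; simp
    have : X i * X j - -((-1 : PlRing K d n) ^ e * w) = (-1 : PlRing K d n) ^ e * shuffleRel K i j r := by
      rw [hrel, mul_add, ← mul_assoc, hsq]; ring
    rw [this]
    exact Ideal.mul_mem_left _ _ (Ideal.subset_span rfl)

/-- For `¬ j ≤ i` there is a pivot. -/
lemma exists_pivot {i j : Idx d n} (h : ¬ j ≤ i) : ∃ r : Fin d, IsPivot i j r := by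
  have hex : ∃ t : Fin d, i.1 t < j.1 t := by
    by_contra hcon
    exact h (fun t => not_lt.1 (fun hlt => hcon ⟨t, hlt⟩))
  classical
  set S : Finset (Fin d) := Finset.univ.filter fun t => i.1 t < j.1 t with hS
  have hne : S.Nonempty := by
    obtain ⟨t, ht⟩ := hex
    exact ⟨t, Finset.mem_filter.2 ⟨Finset.mem_univ _, ht⟩⟩
  refine ⟨S.min' hne, ?_, (Finset.mem_filter.1 (S.min'_mem hne)).2⟩
  intro t ht
  by_contra hcon
  rw [not_le] at hcon
  have : t ∈ S := Finset.mem_filter.2 ⟨Finset.mem_univ _, hcon⟩
  exact absurd (S.min'_le t this) (not_le.2 ht)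

/-! ### Standard monomials span -/

lemma chainMon_cons {m : ℕ} (i : Idx d n) (c : Fin m → Idx d n) :
    chainMon K (Fin.cons i c : Fin (m + 1) → Idx d n) = X i * chainMon K c := by
  unfold chainMon
  rw [Fin.prod_univ_succ]
  simp

lemma chainMon_zero (c : Fin 0 → Idx d n) : chainMon K c = 1 := by
  unfold chainMon
  simp

lemma antitone_cons {m : ℕ} {i : Idx d n} {c : Fin (m + 1) → Idx d n} (hc : Antitone c) (h : c 0 ≤ i) :
    Antitone (Fin.cons i c : Fin (m + 2) → Idx d n) := by
  intro a b hab
  induction a using Fin.cases with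
  | zero =>
    induction b using Fin.cases with
    | zero => exact le_rfl
    | succ b => simp only [Fin.cons_succ, Fin.cons_zero]; exact le_trans (hc (Fin.zero_le b)) h
  | succ a =>
    induction b using Fin.cases with
    | zero => exact absurd hab (by simp [Fin.le_def])
    | succ b => simp only [Fin.cons_succ]; exact hc (Fin.succ_le_succ_iff.1 hab)

/-- Span of the classes of the standard monomials of degree `m` in the quotient by `I`. -/
noncomputable def stdSpan (I : Ideal (PlRing K d n)) (m : ℕ) : Submodule K (PlRing K d n ⧸ I) :=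
  Submodule.span K (Set.range fun c : {c : Fin m → Idx d n // Antitone c} =>
    Ideal.Quotient.mk I (chainMon K c.1))

lemma shuffleRel_mem_plIdealTop {i j : Idx d n} {r : Fin d} (h : IsPivot i j r) :
    shuffleRel K i j r ∈ plIdealTop (d := d) (n := n) K :=
  Ideal.subset_span ⟨i, j, r, h, rfl⟩

lemma mul_stdSpan_of_all (I : Ideal (PlRing K d n)) (hI : plIdealTop (d := d) (n := n) K ≤ I) (m : ℕ)
    (hA : ∀ c : Fin m → Idx d n, Ideal.Quotient.mk I (chainMon K c) ∈ stdSpan K I m) (i : Idx d n) :
    ∀ y ∈ stdSpan K I m, Ideal.Quotient.mk I (X i) * y ∈ stdSpan K I (m + 1) := by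
  induction i using WellFoundedGT.induction with
  | _ i IH =>
  intro y hy
  have hle : stdSpan K I m ≤
      (stdSpan K I (m + 1)).comap (LinearMap.mulLeft K (Ideal.Quotient.mk I (X i))) := by
    apply Submodule.span_le.2
    rintro _ ⟨⟨c, hc⟩, rfl⟩
    show Ideal.Quotient.mk I (X i) * Ideal.Quotient.mk I (chainMon K c) ∈ stdSpan K I (m + 1)
    cases m with
    | zero =>
      rw [chainMon_zero, map_one, mul_one]
      refine Submodule.subset_span ⟨⟨fun _ => i, fun _ _ _ => le_rfl⟩, ?_⟩
      simp [chainMon]
    | succ m =>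
      by_cases hji : c 0 ≤ i
      · rw [← map_mul, ← chainMon_cons]
        exact Submodule.subset_span ⟨⟨Fin.cons i c, antitone_cons hc hji⟩, rfl⟩
      · obtain ⟨r, hr⟩ := exists_pivot hji
        obtain ⟨g, hg, hgI⟩ := straighten K i (c 0) r hr.2
        have hgI' : X i * X (c 0) - g ∈ I := by
          refine hI ?_
          have : Ideal.span ({shuffleRel K i (c 0) r} : Set (PlRing K d n)) ≤
              plIdealTop (d := d) (n := n) K := by
            rw [Ideal.span_le, Set.singleton_subset_iff]
            exact shuffleRel_mem_plIdealTop K hr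
          exact this hgI
        have hcc : chainMon K c = X (c 0) * chainMon K (Fin.tail c) := by
          rw [← chainMon_cons, Fin.cons_self_tail]
        have e1 : Ideal.Quotient.mk I (X i) * Ideal.Quotient.mk I (chainMon K c) =
            Ideal.Quotient.mk I g * Ideal.Quotient.mk I (chainMon K (Fin.tail c)) := by
          rw [hcc, ← map_mul, ← map_mul, ← mul_assoc]
          have : Ideal.Quotient.mk I (X i * X (c 0)) = Ideal.Quotient.mk I g :=
            Ideal.Quotient.eq.2 hgI'
          rw [map_mul (Ideal.Quotient.mk I) (X i * X (c 0)), this, ← map_mul]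
        rw [e1]
        set L : PlRing K d n →ₗ[K] (PlRing K d n ⧸ I) :=
          (LinearMap.mulRight K (Ideal.Quotient.mk I (chainMon K (Fin.tail c)))).comp
            (Ideal.Quotient.mkₐ K I).toLinearMap with hL
        have hLle : upSpan K i ≤ (stdSpan K I (m + 1 + 1)).comap L := by
          apply Submodule.span_le.2
          rintro _ ⟨i', j', hlt, rfl⟩
          show Ideal.Quotient.mk I (X i' * X j') * Ideal.Quotient.mk I (chainMon K (Fin.tail c)) ∈
            stdSpan K I (m + 1 + 1)
          rw [map_mul, mul_assoc, ← map_mul (Ideal.Quotient.mk I) (X j'), ← chainMon_cons]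
          exact IH i' hlt _ (hA _)
        exact hLle hg
  exact hle hy

lemma mk_chainMon_mem_stdSpan (I : Ideal (PlRing K d n)) (hI : plIdealTop (d := d) (n := n) K ≤ I) :
    ∀ (m : ℕ) (c : Fin m → Idx d n), Ideal.Quotient.mk I (chainMon K c) ∈ stdSpan K I m := by
  intro m
  induction m with
  | zero =>
    intro c
    exact Submodule.subset_span ⟨⟨c, fun a => a.elim0⟩, rfl⟩
  | succ m ih =>
    intro c
    rw [← Fin.cons_self_tail c, chainMon_cons, map_mul]
    exact mul_stdSpan_of_all K I hI m ih (c 0) _ (ih (Fin.tail c))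

/-- Standard monomials span the quotient of the Plücker polynomial ring by any ideal containing the shuffle
relations at pivots. -/
theorem span_std_eq_top (I : Ideal (PlRing K d n)) (hI : plIdealTop (d := d) (n := n) K ≤ I) :
    Submodule.span K (Set.range fun c : (Σ m : ℕ, {c : Fin m → Idx d n // Antitone c}) =>
      Ideal.Quotient.mk I (chainMon K c.2.1)) = ⊤ := by
  set V := Submodule.span K (Set.range fun c : (Σ m : ℕ, {c : Fin m → Idx d n // Antitone c}) =>
      Ideal.Quotient.mk I (chainMon K c.2.1)) with hV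
  have hstd : ∀ m, stdSpan K I m ≤ V := by
    intro m
    apply Submodule.span_le.2
    rintro _ ⟨c, rfl⟩
    exact Submodule.subset_span ⟨⟨m, c⟩, rfl⟩
  have hmul : ∀ i : Idx d n, V ≤ V.comap (LinearMap.mulLeft K (Ideal.Quotient.mk I (X i))) := by
    intro i
    apply Submodule.span_le.2
    rintro _ ⟨⟨m, c⟩, rfl⟩
    show Ideal.Quotient.mk I (X i) * Ideal.Quotient.mk I (chainMon K c.1) ∈ V
    exact hstd (m + 1) (mul_stdSpan_of_all K I hI m (mk_chainMon_mem_stdSpan K I hI m) i _
      (Submodule.subset_span ⟨c, rfl⟩))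
  rw [eq_top_iff]
  rintro y -
  obtain ⟨f, rfl⟩ := Ideal.Quotient.mk_surjective y
  induction f using MvPolynomial.induction_on with
  | C a =>
    have : Ideal.Quotient.mk I (C a) = a • Ideal.Quotient.mk I (1 : PlRing K d n) := by
      show Ideal.Quotient.mkₐ K I (C a) = a • Ideal.Quotient.mkₐ K I (1 : PlRing K d n)
      rw [← map_smul, MvPolynomial.smul_eq_C_mul, mul_one]
    rw [this]
    refine Submodule.smul_mem _ _ (Submodule.subset_span ⟨⟨0, ⟨Fin.elim0, fun a => a.elim0⟩⟩, ?_⟩)
    simp [chainMon]
  | add p q hp hq => rw [map_add]; exact Submodule.add_mem _ hp hq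
  | mul_X p i hp =>
    rw [mul_comm, map_mul]
    exact hmul i hp

end Groth.Agent.Lib.PlSMT
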