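import Groth.Agent.Lib.PlSMT9

/-!
# Standard monomial theory, part 10: row weights and the shape of the straightening relations

Every minor of the generic echelon matrix is homogeneous for each weight constant along the rows, so a
standard representation of a row-homogeneous polynomial consists of monomials of the same row weight.
Combined with the restriction to Schubert varieties and the diagonal leading terms this gives the shape of the
straightening relation of a skew pair.
-/

set_option autoImplicit false
set_option linter.unusedSectionVars false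
set_option linter.unusedSimpArgs false
universe u
open Finset MvPolynomial W4bk4grassmannian Groth.Agent.Lib.ReesBasis

noncomputable section

namespace Groth.Agent.Lib.PlSMT

variable {d n : ℕ}

/-! ### Row weights -/

/-- The weight of a Plücker coordinate for a weight `g` on the rows. -/
def gw (g : Fin n → ℕ) (θ : Idx d n) : ℕ := ∑ t : Fin d, g (θ.1 t)

/-- The row weight of a monomial. -/
def GW (g : Fin n → ℕ) (e : Idx d n →₀ ℕ) : ℕ := e.sum fun θ k => k * gw g θ

lemma GW_add (g : Fin n → ℕ) (e e' : Idx d n →₀ ℕ) : GW g (e + e') = GW g e + GW g e' := by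
  unfold GW
  exact Finsupp.sum_add_index' (fun _ => by simp) (fun _ _ _ => by ring)

lemma GW_single (g : Fin n → ℕ) (θ : Idx d n) (k : ℕ) : GW g (Finsupp.single θ k) = k * gw g θ := by
  unfold GW
  rw [Finsupp.sum_single_index]
  rw [zero_mul]

variable (K : Type u) [CommRing K]

/-- The substitution `x_{a,t} ↦ x_{a,t} z ^ g a`. -/
def PhiR (g : Fin n → ℕ) :
    MvPolynomial (Fin n × Fin d) K →ₐ[K] Polynomial (MvPolynomial (Fin n × Fin d) K) :=
  MvPolynomial.aeval fun p => Polynomial.C (X p) * Polynomial.X ^ g p.1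

lemma PhiR_entry (g : Fin n → ℕ) (w : Idx d n) (a : Fin n) (t : Fin d) :
    PhiR K g (genEch K w a t) = Polynomial.C (genEch K w a t) * Polynomial.X ^ g a := by
  rw [genEch, Matrix.of_apply]
  split_ifs with h
  · rw [PhiR, aeval_X]
  · rw [map_zero, map_zero, zero_mul]

lemma PhiR_minor (g : Fin n → ℕ) (w θ : Idx d n) :
    PhiR K g (((genEch K w).submatrix θ.1 id).det) =
      Polynomial.C (((genEch K w).submatrix θ.1 id).det) * Polynomial.X ^ gw g θ := by
  classical
  rw [Matrix.det_apply, map_sum, map_sum, Finset.sum_mul]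
  refine Finset.sum_congr rfl fun σ _ => ?_
  rw [Units.smul_def, map_zsmul, map_zsmul, smul_mul_assoc, map_prod, map_prod]
  congr 1
  have h1 : ∀ t : Fin d, PhiR K g (((genEch K w).submatrix θ.1 id) (σ t) t) =
      Polynomial.C (((genEch K w).submatrix θ.1 id) (σ t) t) * Polynomial.X ^ g (θ.1 (σ t)) :=
    fun t => PhiR_entry K g w _ t
  rw [Finset.prod_congr rfl fun t _ => h1 t, Finset.prod_mul_distrib, Finset.prod_pow_eq_pow_sum]
  congr 2
  unfold gw
  exact Equiv.sum_comp σ fun t => g (θ.1 t)

lemma PhiR_monomial (g : Fin n → ℕ) (w : Idx d n) (e : Idx d n →₀ ℕ) :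
    PhiR K g (evalG K w (monomial e 1)) =
      Polynomial.C (evalG K w (monomial e 1)) * Polynomial.X ^ GW g e := by
  induction e using Finsupp.induction_linear with
  | zero =>
    rw [show (monomial (0 : Idx d n →₀ ℕ) (1 : K)) = 1 from rfl, map_one, map_one, map_one]
    simp [GW]
  | add e e' ihe ihe' =>
    have : monomial (e + e') (1 : K) = monomial e 1 * monomial e' 1 := by
      rw [monomial_mul, one_mul]
    rw [this, map_mul, map_mul, ihe, ihe', GW_add, pow_add, map_mul]
    ring
  | single θ k =>
    rw [← X_pow_eq_monomial, map_pow, map_pow, evalG_X, PhiR_minor, GW_single, map_pow]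
    ring

/-- A standard representation of a row-homogeneous polynomial has the same row weight. -/
theorem GW_eq_of_homogeneous [IsDomain K] (hd : 0 < d) (g : Fin n → ℕ) (w : Idx d n)
    (f G : PlRing K d n) (hG : ∀ e ∈ G.support, IsStdOn w e)
    (hfG : evalG K w f = evalG K w G) (N₀ : ℕ)
    (hf : PhiR K g (evalG K w f) = Polynomial.C (evalG K w f) * Polynomial.X ^ N₀) :
    ∀ e ∈ G.support, GW g e = N₀ := by
  classical
  intro e₁ he₁
  by_contra hne
  set k := GW g e₁ with hk
  set Gk : PlRing K d n := ∑ e ∈ G.support.filter (fun e => GW g e = k), monomial e (coeff e G)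
    with hGk
  have hexp : PhiR K g (evalG K w G) =
      ∑ e ∈ G.support, coeff e G • (Polynomial.C (evalG K w (monomial e 1)) *
        Polynomial.X ^ GW g e) := by
    conv_lhs => rw [G.as_sum]
    rw [map_sum, map_sum]
    refine Finset.sum_congr rfl fun e _ => ?_
    have : monomial e (coeff e G) = coeff e G • monomial e (1 : K) := by
      rw [smul_monomial, smul_eq_mul, mul_one]
    rw [this, map_smul, map_smul, PhiR_monomial]
  have hcoeff : (PhiR K g (evalG K w G)).coeff k = evalG K w Gk := by
    rw [hexp, Polynomial.finsetSum_coeff, hGk, map_sum, Finset.sum_filter]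
    refine Finset.sum_congr rfl fun e _ => ?_
    rw [Polynomial.coeff_smul, Polynomial.coeff_C_mul_X_pow]
    split_ifs with h1 h2 h2
    · have : monomial e (coeff e G) = coeff e G • monomial e (1 : K) := by
        rw [smul_monomial, smul_eq_mul, mul_one]
      rw [this, map_smul]
    · exact absurd h1.symm h2
    · exact absurd h2.symm h1
    · rw [smul_zero]
  have hzero : evalG K w Gk = 0 := by
    rw [← hcoeff, ← hfG, hf, Polynomial.coeff_C_mul_X_pow, if_neg hne]
  have hGk0 : Gk = 0 := by
    apply eq_zero_of_evalG_eq_zero K hd (Gk.support.sup Finsupp.degree) w Gk _ hzero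
    intro e he
    refine ⟨?_, Finset.le_sup (f := Finsupp.degree) he⟩
    have h1 := MvPolynomial.support_sum he
    rw [Finset.mem_biUnion] at h1
    obtain ⟨e', he', hl⟩ := h1
    have := MvPolynomial.support_monomial_subset hl
    rw [Finset.mem_singleton] at this
    rw [this]
    exact hG e' (Finset.mem_filter.1 he').1
  have hc : coeff e₁ Gk = coeff e₁ G := by
    rw [hGk, coeff_sum, Finset.sum_eq_single e₁]
    · rw [coeff_monomial, if_pos rfl]
    · intro e _ hee
      rw [coeff_monomial, if_neg hee]
    · intro h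
      have hmem : e₁ ∈ G.support.filter (fun e => GW g e = k) := Finset.mem_filter.2 ⟨he₁, rfl⟩
      exact absurd hmem h
  rw [hGk0, coeff_zero] at hc
  exact (MvPolynomial.mem_support_iff.1 he₁) hc.symm

/-! ### Counting functions -/

/-- The indicator of `{a ≤ v}`. -/
def gle (v : Fin n) : Fin n → ℕ := fun a => if a ≤ v then 1 else 0

lemma gw_gle (v : Fin n) (θ : Idx d n) :
    gw (gle v) θ = (Finset.univ.filter fun t : Fin d => θ.1 t ≤ v).card := by
  unfold gw gle
  rw [Finset.sum_boole]
  rfl

lemma gw_gle_anti {θ θ' : Idx d n} (h : θ ≤ θ') (v : Fin n) : gw (gle v) θ' ≤ gw (gle v) θ := by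
  rw [gw_gle, gw_gle]
  apply Finset.card_le_card
  intro t ht
  rw [Finset.mem_filter] at ht ⊢
  exact ⟨ht.1, le_trans (h t) ht.2⟩

lemma le_of_gw_gle_le {θ θ' : Idx d n} (h : ∀ v, gw (gle v) θ' ≤ gw (gle v) θ) : θ ≤ θ' := by
  intro t
  by_contra hlt
  rw [not_le] at hlt
  have h1 := h (θ'.1 t)
  rw [gw_gle, gw_gle] at h1
  have h2 : (Finset.Iic t).card ≤ (Finset.univ.filter fun s : Fin d => θ'.1 s ≤ θ'.1 t).card := by
    apply Finset.card_le_card
    intro s hs
    rw [Finset.mem_Iic] at hs
    exact Finset.mem_filter.2 ⟨Finset.mem_univ _, θ'.2.monotone hs⟩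
  have h3 : (Finset.univ.filter fun s : Fin d => θ.1 s ≤ θ'.1 t).card ≤ (Finset.Iio t).card := by
    apply Finset.card_le_card
    intro s hs
    rw [Finset.mem_filter] at hs
    rw [Finset.mem_Iio]
    exact θ.2.lt_iff_lt.1 (lt_of_le_of_lt hs.2 hlt)
  rw [Fin.card_Iic] at h2
  rw [Fin.card_Iio] at h3
  omega

lemma gw_sup_add_inf (g : Fin n → ℕ) (a b : Idx d n) :
    gw g (W4bk4grassmannian.sup a b) + gw g (W4bk4grassmannian.inf a b) = gw g a + gw g b := by
  unfold gw
  rw [← Finset.sum_add_distrib, ← Finset.sum_add_distrib]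
  refine Finset.sum_congr rfl fun t _ => ?_
  show g (max (a.1 t) (b.1 t)) + g (min (a.1 t) (b.1 t)) = _
  rcases le_total (a.1 t) (b.1 t) with h | h
  · rw [max_eq_right h, min_eq_left h, add_comm]
  · rw [max_eq_left h, min_eq_right h]

/-! ### The largest index -/

/-- The largest element of `I(d,n)`. -/
def wtop (hdn : d ≤ n) : Idx d n :=
  ⟨fun t => ⟨n - d + t.val, by have := t.isLt; omega⟩, fun a b h => by
    have h' : a.val < b.val := h
    show (⟨n - d + a.val, _⟩ : Fin n) < ⟨n - d + b.val, _⟩
    rw [Fin.lt_def]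
    show n - d + a.val < n - d + b.val
    omega⟩

lemma strictMono_add_le (θ : Idx d n) :
    ∀ (k : ℕ) (t s : Fin d), s.val = t.val + k → (θ.1 t).val + k ≤ (θ.1 s).val := by
  intro k
  induction k with
  | zero =>
    intro t s hs
    have : s = t := Fin.ext hs
    rw [this]; omega
  | succ k ih =>
    intro t s hs
    have hs' : t.val + k < d := by have := s.isLt; omega
    have h1 := ih t ⟨t.val + k, hs'⟩ rfl
    have h2 : (⟨t.val + k, hs'⟩ : Fin d) < s := by
      rw [Fin.lt_def]; show t.val + k < s.val; omega
    have h3 : (θ.1 ⟨t.val + k, hs'⟩).val < (θ.1 s).val := θ.2 h2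
    omega

lemma le_wtop (hdn : d ≤ n) (θ : Idx d n) : θ ≤ wtop hdn := by
  intro t
  have hd : 0 < d := lt_of_le_of_lt (Nat.zero_le _) t.isLt
  have h1 := strictMono_add_le θ (d - 1 - t.val) t ⟨d - 1, by omega⟩ (by
    have := t.isLt
    show d - 1 = t.val + (d - 1 - t.val)
    omega)
  have h2 := (θ.1 ⟨d - 1, by omega⟩).isLt
  show θ.1 t ≤ (⟨n - d + t.val, _⟩ : Fin n)
  rw [Fin.le_def]
  show (θ.1 t).val ≤ n - d + t.val
  have := t.isLt
  omega

/-! ### The shape of the straightening relation of a skew pair -/

lemma vanishing_le_schubert (w : Idx d n) : vanishing K d n ≤ schubertVanishing K d n w := by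
  unfold vanishing schubertVanishing
  exact le_iInf fun A => le_iInf fun _ => iInf_le _ A

lemma support_pair_le {w x y : Idx d n} (hx : x ≤ w) (hy : y ≤ w) :
    ∀ θ ∈ (Finsupp.single x 1 + Finsupp.single y 1 : Idx d n →₀ ℕ).support, θ ≤ w := by
  classical
  intro θ hθ
  have h1 := Finsupp.support_add hθ
  rw [Finset.mem_union] at h1
  rcases h1 with h1 | h1
  · have := Finsupp.support_single_subset h1
    rw [Finset.mem_singleton] at this
    rw [this]; exact hx
  · have := Finsupp.support_single_subset h1
    rw [Finset.mem_singleton] at this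
    rw [this]; exact hy

theorem straightening_shape (F : Type u) [Field F] [Infinite F] (hd : 0 < d) (hdn : d ≤ n)
    (τ φ : Idx d n) (h₁ : ¬ τ ≤ φ) (h₂ : ¬ φ ≤ τ) :
    ∃ g ∈ Submodule.span F {f : PlRing F d n | ∃ α β : Idx d n,
        β ≤ α ∧ W4bk4grassmannian.sup τ φ < α ∧ β < W4bk4grassmannian.inf τ φ ∧
          f = X α * X β},
      X τ * X φ - X (W4bk4grassmannian.sup τ φ) * X (W4bk4grassmannian.inf τ φ) - g ∈
        vanishing F d n := by
  classical
  set sp := W4bk4grassmannian.sup τ φ with hsp
  set nf := W4bk4grassmannian.inf τ φ with hnf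
  set f' : PlRing F d n := X τ * X φ - X sp * X nf with hf'
  obtain ⟨G, hG, hfG⟩ := exists_std_rep F (vanishing F d n) (plIdealTop_le_vanishing F)
    (fun _ => True) (fun θ h => absurd trivial h) f'
  refine ⟨G, ?_, hfG⟩
  set wt := wtop hdn with hwt
  have hGstd : ∀ e ∈ G.support, IsStdOn wt e :=
    fun e he => ⟨(hG e he).1, fun θ _ => le_wtop hdn θ⟩
  have hev : ∀ w : Idx d n, evalG F w f' = evalG F w G := by
    intro w
    have := evalG_eq_zero_of_mem F w (f' - G) (vanishing_le_schubert F w hfG)
    rwa [map_sub, sub_eq_zero] at this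
  set e₁ : Idx d n →₀ ℕ := Finsupp.single τ 1 + Finsupp.single φ 1 with he₁
  set e₂ : Idx d n →₀ ℕ := Finsupp.single sp 1 + Finsupp.single nf 1 with he₂
  have hf'mon : f' = monomial e₁ 1 - monomial e₂ 1 := by
    rw [hf', X_mul_X, X_mul_X]
  -- the diagonal weight
  have hFW : ∀ e ∈ G.support, FWt e < fwt τ + fwt φ := by
    apply FWt_lt_of_coeff_eq_zero F hd wt G hGstd
    rw [← hev wt, hf'mon]
    have hLF1 := LF_monomial_std F wt e₁ (support_pair_le (le_wtop hdn τ) (le_wtop hdn φ))
    have hLF2 := LF_monomial_std F wt e₂ (support_pair_le (le_wtop hdn sp) (le_wtop hdn nf))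
    rw [he₁, Ev_add, Ev_single, Ev_single, one_smul, one_smul, FWt_add, FWt_single, FWt_single,
      one_mul, one_mul] at hLF1
    rw [he₂, Ev_add, Ev_single, Ev_single, one_smul, one_smul, FWt_add, FWt_single, FWt_single,
      one_mul, one_mul, hsp, hnf, rowv_sup_add_inf, fwt_sup_add_inf] at hLF2
    have hLF := hLF1.sub hLF2
    rw [sub_self, ← map_sub, ← map_sub] at hLF
    exact hLF.coeff_eq_zero
  -- the row weights
  have hGW : ∀ (g : Fin n → ℕ), ∀ e ∈ G.support, GW g e = gw g τ + gw g φ := by
    intro g
    apply GW_eq_of_homogeneous F hd g wt f' G hGstd (hev wt)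
    rw [hf'mon, map_sub, map_sub, PhiR_monomial, PhiR_monomial, he₁, he₂, GW_add, GW_add, GW_single,
      GW_single, GW_single, GW_single, one_mul, one_mul, one_mul, one_mul, hsp, hnf,
      gw_sup_add_inf, map_sub, sub_mul]
  -- the restriction to Schubert varieties
  have htop : ∀ e ∈ G.support, ∀ α : Idx d n, (∀ θ ∈ e.support, θ ≤ α) → τ ≤ α ∧ φ ≤ α := by
    intro e he α hα
    have hmem : ∀ x : Idx d n, (x = τ ∨ x = φ) → ¬ x ≤ α → False := by
      intro x hx hxα
      have hxsp : ¬ sp ≤ α := by
        intro h
        apply hxα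
        rcases hx with rfl | rfl
        · exact fun t => le_trans (le_max_left _ _) (h t)
        · exact fun t => le_trans (le_max_right _ _) (h t)
      have h1 : monomial e₁ (1 : F) ∈ schubertVanishing F d n α := by
        apply monomial_mem_schubert F e₁ 1 x _ hxα
        rw [he₁, Finsupp.mem_support_iff, Finsupp.add_apply]
        rcases hx with rfl | rfl
        · rw [Finsupp.single_eq_same]; omega
        · rw [Finsupp.single_eq_same]; omega
      have h2 : monomial e₂ (1 : F) ∈ schubertVanishing F d n α := by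
        apply monomial_mem_schubert F e₂ 1 sp _ hxsp
        rw [he₂, Finsupp.mem_support_iff, Finsupp.add_apply, Finsupp.single_eq_same]
        omega
      have h3 : f' ∈ schubertVanishing F d n α := by
        rw [hf'mon]; exact Ideal.sub_mem _ h1 h2
      have h4 : G ∈ schubertVanishing F d n α := by
        have := Ideal.sub_mem _ h3 (vanishing_le_schubert F α hfG)
        rwa [sub_sub_cancel] at this
      have h5 := coeff_eq_zero_of_mem_schubert F hd α G h4 (fun e' he' => (hG e' he').1) e hα
      exact (MvPolynomial.mem_support_iff.1 he) h5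
    constructor
    · by_contra h; exact hmem τ (Or.inl rfl) h
    · by_contra h; exact hmem φ (Or.inr rfl) h
  -- every monomial of `G` is of the required shape
  have hshape : ∀ e ∈ G.support, ∃ α β : Idx d n, β ≤ α ∧ sp < α ∧ β < nf ∧
      monomial e (1 : F) = X α * X β := by
    intro e he
    -- degree two
    have hdeg : e.degree = 2 := by
      have h1 := hGW (fun _ => 1) e he
      have hgw1 : ∀ θ : Idx d n, gw (fun _ => 1) θ = d := by
        intro θ; unfold gw; simp
      rw [hgw1, hgw1] at h1
      have h2 : GW (fun _ => 1) e = e.degree * d := by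
        unfold GW
        rw [Finsupp.degree_apply, Finsupp.sum, Finset.sum_mul]
        refine Finset.sum_congr rfl fun θ _ => ?_
        rw [hgw1]
      rw [h2] at h1
      have h3 : e.degree * d = 2 * d := by omega
      exact Nat.eq_of_mul_eq_mul_right hd h3
    have hne : e ≠ 0 := by
      rintro rfl
      simp at hdeg
    obtain ⟨α, hα, hαtop⟩ := exists_top (hG e he).1 hne
    have hsplit : ∀ {e₀ : Idx d n →₀ ℕ} {m : Idx d n}, m ∈ e₀.support →
        Finsupp.single m 1 + (e₀ - Finsupp.single m 1) = e₀ := by
      intro e₀ m hm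
      have h1 : 1 ≤ e₀ m := Nat.one_le_iff_ne_zero.2 (Finsupp.mem_support_iff.1 hm)
      refine Finsupp.ext fun θ => ?_
      by_cases hθ : θ = m
      · subst hθ
        simp only [Finsupp.coe_add, Pi.add_apply, Finsupp.single_eq_same, Finsupp.coe_tsub,
          Pi.sub_apply]
        omega
      · simp only [Finsupp.coe_add, Pi.add_apply, Finsupp.coe_tsub, Pi.sub_apply,
          Finsupp.single_eq_of_ne hθ]
        omega
    set e' := e - Finsupp.single α 1 with he'
    have hdeg' : e'.degree = 1 := by
      have h3 : e.degree = (Finsupp.single α 1).degree + e'.degree := by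
        rw [← map_add, hsplit hα]
      rw [Finsupp.degree_single] at h3
      omega
    have hne' : e' ≠ 0 := by
      intro h; rw [h] at hdeg'; simp at hdeg'
    obtain ⟨β, hβ⟩ := Finsupp.support_nonempty_iff.2 hne'
    have hdeg'' : (e' - Finsupp.single β 1).degree = 0 := by
      have h3 : e'.degree = (Finsupp.single β 1).degree + (e' - Finsupp.single β 1).degree := by
        rw [← map_add, hsplit hβ]
      rw [Finsupp.degree_single] at h3
      omega
    have he'β : e' = Finsupp.single β 1 := by
      have h0 := (Finsupp.degree_eq_zero_iff _).1 hdeg''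
      have := hsplit hβ
      rw [h0, add_zero] at this
      exact this.symm
    have heαβ : e = Finsupp.single α 1 + Finsupp.single β 1 := by
      rw [← he'β]; exact (hsplit hα).symm
    have hβe : β ∈ e.support := by
      rw [Finsupp.mem_support_iff] at hβ ⊢
      intro h0
      apply hβ
      rw [he', Finsupp.tsub_apply, h0, Nat.zero_sub]
    have hβα : β ≤ α := hαtop β hβe
    obtain ⟨hτα, hφα⟩ := htop e he α hαtop
    have hspα : sp ≤ α := fun t => max_le (hτα t) (hφα t)
    -- counting
    have hcount : ∀ v : Fin n, gw (gle v) α + gw (gle v) β = gw (gle v) sp + gw (gle v) nf := by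
      intro v
      have h1 := hGW (gle v) e he
      rw [heαβ, GW_add, GW_single, GW_single, one_mul, one_mul] at h1
      rw [h1, hsp, hnf, gw_sup_add_inf]
    have hβnf : β ≤ nf := by
      apply le_of_gw_gle_le
      intro v
      have h1 := hcount v
      have h2 := gw_gle_anti hspα v
      omega
    have hFlt := hFW e he
    have hFe : FWt e = fwt α + fwt β := by
      rw [heαβ, FWt_add, FWt_single, FWt_single, one_mul, one_mul]
    have hFsp : fwt sp + fwt nf = fwt τ + fwt φ := by rw [hsp, hnf, fwt_sup_add_inf]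
    have hne1 : ¬ (α = sp ∧ β = nf) := by
      rintro ⟨rfl, rfl⟩
      omega
    have hαsp : sp ≠ α := by
      intro h
      apply hne1
      refine ⟨h.symm, le_antisymm hβnf ?_⟩
      apply le_of_gw_gle_le
      intro v
      have h1 := hcount v
      rw [← h] at h1
      omega
    have hβnf' : β ≠ nf := by
      intro h
      apply hαsp
      refine le_antisymm hspα ?_
      apply le_of_gw_gle_le
      intro v
      have h1 := hcount v
      rw [h] at h1
      omega
    refine ⟨α, β, hβα, lt_of_le_of_ne hspα hαsp, lt_of_le_of_ne hβnf hβnf', ?_⟩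
    rw [heαβ, X_mul_X]
  rw [G.as_sum]
  refine Submodule.sum_mem _ fun e he => ?_
  have : monomial e (coeff e G) = coeff e G • monomial e (1 : F) := by
    rw [smul_monomial, smul_eq_mul, mul_one]
  rw [this]
  obtain ⟨α, β, h1, h2, h3, h4⟩ := hshape e he
  exact Submodule.smul_mem _ _ (Submodule.subset_span ⟨α, β, h1, h2, h3, h4⟩)

end Groth.Agent.Lib.PlSMT
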