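import Groth.Agent.Lib.PlSMT1

/-!
# Standard monomial theory, part 2: `coord` evaluated at minors

For a matrix `M` with `n` rows and `d` columns over a commutative `K`-algebra, evaluating the signed
coordinate `coord a` at the minors of `M` gives the minor on the rows `a` (in the given order).
-/

set_option autoImplicit false
set_option linter.unusedSectionVars false
set_option linter.unusedSimpArgs false
universe u v
open Finset MvPolynomial W4bk4grassmannian

namespace Groth.Agent.Lib.PlSMT

variable {d n : ℕ}

/-- The permutation sorting an injective tuple: `a = sortIdx a ∘ sortPerm a`. -/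
noncomputable def sortPerm (a : Fin d → Fin n) (h : (Finset.univ.image a).card = d) :
    Equiv.Perm (Fin d) :=
  (Equiv.ofBijective (fun t : Fin d => (⟨a t, Finset.mem_image_of_mem a (Finset.mem_univ t)⟩ :
      {x // x ∈ Finset.univ.image a}))
    ⟨fun x y hxy => injective_of_card_image h (Subtype.ext_iff.1 hxy),
      fun ⟨x, hx⟩ => by
        obtain ⟨t, -, rfl⟩ := Finset.mem_image.1 hx
        exact ⟨t, rfl⟩⟩).trans
    ((Finset.univ.image a).orderIsoOfFin h).symm.toEquiv

lemma sortIdx_sortPerm (a : Fin d → Fin n) (h : (Finset.univ.image a).card = d) (t : Fin d) :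
    (sortIdx d n a h).1 (sortPerm a h t) = a t := by
  show (Finset.univ.image a).orderEmbOfFin h (sortPerm a h t) = a t
  rw [← Finset.coe_orderIsoOfFin_apply]
  simp [sortPerm] <;> rfl

lemma sign_sortPerm (a : Fin d → Fin n) (h : (Finset.univ.image a).card = d) :
    ((Equiv.Perm.sign (sortPerm a h) : ℤˣ) : ℤ) = (-1) ^ invCount d n a := by
  have inj := injective_of_card_image h
  rw [Equiv.Perm.sign_eq_prod_prod_Ioi]
  have hlt : ∀ i j : Fin d, (sortPerm a h i < sortPerm a h j ↔ a i < a j) := by
    intro i j
    rw [← sortIdx_sortPerm a h i, ← sortIdx_sortPerm a h j]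
    exact ((sortIdx d n a h).2.lt_iff_lt).symm
  simp only [hlt]
  push_cast
  have e1 : ∀ i : Fin d, ∏ j ∈ Finset.Ioi i, ((if a i < a j then (1 : ℤˣ) else -1 : ℤˣ) : ℤ) =
      ∏ j : Fin d, (if i < j ∧ a j < a i then (-1 : ℤ) else 1) := by
    intro i
    have : Finset.Ioi i = Finset.univ.filter fun j => i < j := by ext j; simp
    rw [this, Finset.prod_filter]
    refine Finset.prod_congr rfl fun j _ => ?_
    by_cases hij : i < j
    · have hne : a i ≠ a j := fun h' => (ne_of_lt hij) (inj h')
      by_cases haij : a i < a j
      · simp [hij, haij, not_lt.2 haij.le]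
      · have : a j < a i := lt_of_le_of_ne (not_lt.1 haij) (Ne.symm hne)
        simp [hij, haij, this]
    · simp [hij]
  rw [Finset.prod_congr rfl fun i _ => e1 i, ← Finset.prod_product', Finset.univ_product_univ,
    Finset.prod_ite, Finset.prod_const_one, mul_one, Finset.prod_const]
  rfl

variable (K : Type u) [CommRing K] {B : Type v} [CommRing B] [Algebra K B]

/-- Evaluating `coord a` at the minors of `M` gives the minor on the rows `a`. -/
theorem aeval_coord (M : Matrix (Fin n) (Fin d) B) (a : Fin d → Fin n) :
    MvPolynomial.aeval (fun θ : Idx d n => (M.submatrix θ.1 id).det) (coord K d n a) =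
      (M.submatrix a id).det := by
  by_cases h : (Finset.univ.image a).card = d
  · rw [coord_of_card K h, map_mul, map_pow, map_neg, map_one, aeval_X]
    have e : M.submatrix a id = (M.submatrix (sortIdx d n a h).1 id).submatrix (sortPerm a h) id := by
      ext s c
      simp only [Matrix.submatrix_apply, id]
      rw [sortIdx_sortPerm]
    rw [e, Matrix.det_permute, sign_sortPerm]
    push_cast
    rfl
  · rw [coord_of_not_card K h, map_zero]
    have hninj : ¬ Function.Injective a := fun hi => h (card_image_of_injective' hi)
    rw [Function.Injective] at hninj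
    push Not at hninj
    obtain ⟨s, s', hss, hne⟩ := hninj
    exact (Matrix.det_zero_of_row_eq hne (by
      ext c
      simp only [Matrix.submatrix_apply, id]
      rw [hss])).symm

theorem evalMinors_coord (A : Matrix (Fin n) (Fin d) K) (a : Fin d → Fin n) :
    evalMinors K d n A (coord K d n a) = (A.submatrix a id).det :=
  aeval_coord K A a

end Groth.Agent.Lib.PlSMT
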