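import Groth.Agent.Lib.PlSMT2

/-!
# Standard monomial theory, part 3: the shuffle relations hold for the minors of a matrix
-/

set_option autoImplicit false
set_option linter.unusedSectionVars false
set_option linter.unusedSimpArgs false
universe u v
open Finset MvPolynomial W4bk4grassmannian

namespace Groth.Agent.Lib.PlSMT

section Generic

variable {R M N : Type*} [CommRing R] [AddCommGroup M] [Module R M] [AddCommGroup N] [Module R N]

lemma exists_perm_apply_eq {α : Type*} [DecidableEq α] {a b p q : α} (hab : a ≠ b) (hpq : p ≠ q) :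
    ∃ σ : Equiv.Perm α, σ a = p ∧ σ b = q := by
  set σ₁ := Equiv.swap a p with hσ₁
  set x := σ₁ b with hx
  have hxp : x ≠ p := by
    intro h
    have : σ₁ b = σ₁ a := by rw [← hx, h, hσ₁, Equiv.swap_apply_left]
    exact hab (σ₁.injective this).symm
  refine ⟨Equiv.swap x q * σ₁, ?_, ?_⟩
  · rw [Equiv.Perm.mul_apply, hσ₁, Equiv.swap_apply_left]
    exact Equiv.swap_apply_of_ne_of_ne (Ne.symm hxp) hpq
  · rw [Equiv.Perm.mul_apply, ← hx, Equiv.swap_apply_left]

/-- A multilinear map vanishing on tuples with two equal adjacent entries flips sign under adjacent swaps. -/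
lemma multilinear_swap_adjacent {m : ℕ} (F : MultilinearMap R (fun _ : Fin (m + 1) => M) N)
    (hadj : ∀ (v : Fin (m + 1) → M) (k : Fin m), v k.castSucc = v k.succ → F v = 0)
    (v : Fin (m + 1) → M) (k : Fin m) :
    F (v ∘ Equiv.swap k.castSucc k.succ) = - F v := by
  set a := k.castSucc with ha
  set b := k.succ with hb
  have hab : a ≠ b := by
    rw [ha, hb]; exact (Fin.castSucc_lt_succ (i := k)).ne
  set x := v a with hx
  set y := v b with hy
  have h0 : F (Function.update (Function.update v a (x + y)) b (x + y)) = 0 := by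
    apply hadj _ k
    rw [← ha, ← hb, Function.update_self, Function.update_of_ne hab, Function.update_self]
  rw [F.map_update_add, Function.update_comm hab, Function.update_comm hab,
    F.map_update_add, F.map_update_add] at h0
  have t1 : F (Function.update (Function.update v b x) a x) = 0 := by
    apply hadj _ k
    rw [← ha, ← hb, Function.update_self, Function.update_of_ne (Ne.symm hab), Function.update_self]
  have t4 : F (Function.update (Function.update v b y) a y) = 0 := by
    apply hadj _ k
    rw [← ha, ← hb, Function.update_self, Function.update_of_ne (Ne.symm hab), Function.update_self]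
  have t3 : Function.update (Function.update v b y) a x = v := by
    rw [hy, Function.update_eq_self, hx, Function.update_eq_self]
  have t2 : Function.update (Function.update v b x) a y = v ∘ Equiv.swap a b := by
    funext z
    by_cases hza : z = a
    · subst hza
      rw [Function.update_self, Function.comp_apply, Equiv.swap_apply_left]
    · rw [Function.update_of_ne hza]
      by_cases hzb : z = b
      · subst hzb
        rw [Function.update_self, Function.comp_apply, Equiv.swap_apply_right]
      · rw [Function.update_of_ne hzb, Function.comp_apply, Equiv.swap_apply_of_ne_of_ne hza hzb]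
  rw [t1, t4, t3, t2] at h0
  rw [zero_add, add_zero] at h0
  exact eq_neg_of_add_eq_zero_left h0

lemma multilinear_perm_adjacent {m : ℕ} (F : MultilinearMap R (fun _ : Fin (m + 1) => M) N)
    (hadj : ∀ (v : Fin (m + 1) → M) (k : Fin m), v k.castSucc = v k.succ → F v = 0)
    (σ : Equiv.Perm (Fin (m + 1))) :
    ∀ v : Fin (m + 1) → M, F (v ∘ σ) = F v ∨ F (v ∘ σ) = - F v := by
  have hmem : σ ∈ Submonoid.closure
      (Set.range fun i : Fin m => Equiv.swap i.castSucc i.succ) := by
    rw [Equiv.Perm.mclosure_swap_castSucc_succ]; trivial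
  induction hmem using Submonoid.closure_induction with
  | mem σ hσ =>
    obtain ⟨k, rfl⟩ := hσ
    intro v
    exact Or.inr (multilinear_swap_adjacent F hadj v k)
  | one => intro v; exact Or.inl rfl
  | mul σ τ _ _ hσ hτ =>
    intro v
    have e : v ∘ ⇑(σ * τ) = (v ∘ σ) ∘ τ := by
      funext z; simp [Equiv.Perm.mul_apply]
    rw [e]
    rcases hτ (v ∘ σ) with h1 | h1 <;> rcases hσ v with h2 | h2 <;> rw [h1, h2]
    · exact Or.inl rfl
    · exact Or.inr rfl
    · exact Or.inr rfl
    · exact Or.inl (neg_neg _)

/-- A multilinear map vanishing on tuples with two equal adjacent entries vanishes on all tuples with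
a repetition. -/
theorem multilinear_eq_zero_of_adjacent {m : ℕ} (F : MultilinearMap R (fun _ : Fin (m + 1) => M) N)
    (hadj : ∀ (v : Fin (m + 1) → M) (k : Fin m), v k.castSucc = v k.succ → F v = 0)
    (v : Fin (m + 1) → M) (hv : ¬ Function.Injective v) : F v = 0 := by
  rw [Function.Injective] at hv
  push Not at hv
  obtain ⟨p, q, hpq, hne⟩ := hv
  have hm : 0 < m := by
    rcases Nat.eq_zero_or_pos m with h | h
    · subst h
      exact absurd (Fin.ext (by have := p.isLt; have := q.isLt; omega)) hne
    · exact h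
  set k₀ : Fin m := ⟨0, hm⟩ with hk₀
  have hab : k₀.castSucc ≠ k₀.succ := (Fin.castSucc_lt_succ (i := k₀)).ne
  obtain ⟨σ, hσa, hσb⟩ := exists_perm_apply_eq hab hne
  have h0 : F (v ∘ σ) = 0 := by
    apply hadj _ k₀
    rw [Function.comp_apply, Function.comp_apply, hσa, hσb, hpq]
  rcases multilinear_perm_adjacent F hadj σ v with h | h
  · rw [← h, h0]
  · rw [h0] at h
    exact neg_eq_zero.1 h.symm

/-- A multilinear map in `d + 1` variables on `Fin d → R`, vanishing on adjacent repetitions, is zero. -/
theorem multilinear_eq_zero_of_adjacent_of_card {d : ℕ}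
    (F : MultilinearMap R (fun _ : Fin (d + 1) => (Fin d → R)) N)
    (hadj : ∀ (v : Fin (d + 1) → (Fin d → R)) (k : Fin d), v k.castSucc = v k.succ → F v = 0) :
    F = 0 := by
  classical
  apply Module.Basis.ext_multilinear (fun _ => Pi.basisFun R (Fin d))
  intro g
  rw [zero_apply]
  apply multilinear_eq_zero_of_adjacent F hadj
  intro hinj
  have hg : Function.Injective g := by
    intro x y hxy
    apply hinj
    show (Pi.basisFun R (Fin d)) (g x) = (Pi.basisFun R (Fin d)) (g y)
    rw [hxy]
  have := Fintype.card_le_of_injective g hg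
  simp at this

end Generic

section Shuffle

variable {B : Type*} [CommRing B] {d : ℕ}

/-- The determinant of the matrix whose rows are `x` at the positions `e` and `U` elsewhere, as a multilinear
map in `x`. -/
noncomputable def detExtend {k : ℕ} (e : Fin k → Fin d) (he : Function.Injective e)
    (U : Fin d → (Fin d → B)) : MultilinearMap B (fun _ : Fin k => (Fin d → B)) B where
  toFun x := (Matrix.of (Function.extend e x U)).det
  map_update_add' := by
    intro _ x s y z
    have key : ∀ w : Fin d → B, Matrix.of (Function.extend e (Function.update x s w) U) =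
        Matrix.updateRow (Matrix.of (Function.extend e x U)) (e s) w := by
      intro w
      ext t c
      by_cases ht : t = e s
      · subst ht
        rw [Matrix.of_apply, he.extend_apply, Function.update_self, Matrix.updateRow_self]
      · rw [Matrix.updateRow_ne ht, Matrix.of_apply, Matrix.of_apply]
        by_cases hex : ∃ s', e s' = t
        · obtain ⟨s', rfl⟩ := hex
          rw [he.extend_apply, he.extend_apply, Function.update_of_ne]
          rintro rfl
          exact ht rfl
        · rw [Function.extend_apply' _ _ _ hex, Function.extend_apply' _ _ _ hex]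
    rw [key, key, key, Matrix.det_updateRow_add]
  map_update_smul' := by
    intro _ x s a z
    have key : ∀ w : Fin d → B, Matrix.of (Function.extend e (Function.update x s w) U) =
        Matrix.updateRow (Matrix.of (Function.extend e x U)) (e s) w := by
      intro w
      ext t c
      by_cases ht : t = e s
      · subst ht
        rw [Matrix.of_apply, he.extend_apply, Function.update_self, Matrix.updateRow_self]
      · rw [Matrix.updateRow_ne ht, Matrix.of_apply, Matrix.of_apply]
        by_cases hex : ∃ s', e s' = t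
        · obtain ⟨s', rfl⟩ := hex
          rw [he.extend_apply, he.extend_apply, Function.update_of_ne]
          rintro rfl
          exact ht rfl
        · rw [Function.extend_apply' _ _ _ hex, Function.extend_apply' _ _ _ hex]
    rw [key, key, Matrix.det_updateRow_smul, smul_eq_mul]

lemma detExtend_apply {k : ℕ} (e : Fin k → Fin d) (he : Function.Injective e)
    (U : Fin d → (Fin d → B)) (x : Fin k → (Fin d → B)) :
    detExtend e he U x = (Matrix.of (Function.extend e x U)).det := rfl

lemma detExtend_eq_zero {k : ℕ} (e : Fin k → Fin d) (he : Function.Injective e)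
    (U : Fin d → (Fin d → B)) (x : Fin k → (Fin d → B)) {s s' : Fin k} (hss : s ≠ s')
    (hx : x s = x s') : detExtend e he U x = 0 := by
  rw [detExtend_apply]
  apply Matrix.det_zero_of_row_eq (he.ne hss)
  show Function.extend e x U (e s) = Function.extend e x U (e s')
  rw [he.extend_apply, he.extend_apply, hx]

/-- The product of two multilinear maps in complementary sets of variables. -/
noncomputable def pairTerm {m k₁ k₂ : ℕ} (f₁ : Fin k₁ → Fin m) (f₂ : Fin k₂ → Fin m)
    (hf₁ : Function.Injective f₁) (hf₂ : Function.Injective f₂)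
    (hcov : ∀ k, (∃ s, f₁ s = k) ∨ (∃ s, f₂ s = k)) (hdisj : ∀ s s', f₁ s ≠ f₂ s')
    (D₁ : MultilinearMap B (fun _ : Fin k₁ => (Fin d → B)) B)
    (D₂ : MultilinearMap B (fun _ : Fin k₂ => (Fin d → B)) B) :
    MultilinearMap B (fun _ : Fin m => (Fin d → B)) B where
  toFun v := D₁ (v ∘ f₁) * D₂ (v ∘ f₂)
  map_update_add' := by
    intro _ v k y z
    rcases hcov k with ⟨s, rfl⟩ | ⟨s, rfl⟩
    · simp only [Function.update_comp_eq_of_injective _ hf₁,
        Function.update_comp_eq_of_forall_ne _ _ (fun s' => (hdisj s s').symm)]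
      rw [D₁.map_update_add]; ring
    · simp only [Function.update_comp_eq_of_injective _ hf₂,
        Function.update_comp_eq_of_forall_ne _ _ (fun s' => (hdisj s' s))]
      rw [D₂.map_update_add]; ring
  map_update_smul' := by
    intro _ v k a z
    rcases hcov k with ⟨s, rfl⟩ | ⟨s, rfl⟩
    · simp only [Function.update_comp_eq_of_injective _ hf₁,
        Function.update_comp_eq_of_forall_ne _ _ (fun s' => (hdisj s s').symm)]
      rw [D₁.map_update_smul, smul_eq_mul, smul_eq_mul]; ring
    · simp only [Function.update_comp_eq_of_injective _ hf₂,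
        Function.update_comp_eq_of_forall_ne _ _ (fun s' => (hdisj s' s))]
      rw [D₂.map_update_smul, smul_eq_mul, smul_eq_mul]; ring

/-! ### Adjacent swaps and sorted enumerations -/

lemma orderEmbOfFin_image {α : Type*} [LinearOrder α] (A : Finset α) {k : ℕ} (hA : A.card = k)
    (σ : α → α) (hσ : StrictMonoOn σ (A : Set α)) (h' : (A.image σ).card = k) (t : Fin k) :
    (A.image σ).orderEmbOfFin h' t = σ (A.orderEmbOfFin hA t) := by
  have := Finset.orderEmbOfFin_unique h' (f := fun t => σ (A.orderEmbOfFin hA t))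
    (fun x => Finset.mem_image_of_mem _ (Finset.orderEmbOfFin_mem A hA x))
    (fun x y hxy => hσ (Finset.mem_coe.2 (Finset.orderEmbOfFin_mem A hA x))
      (Finset.mem_coe.2 (Finset.orderEmbOfFin_mem A hA y)) ((A.orderEmbOfFin hA).strictMono hxy))
  exact (congrFun this t).symm

lemma swap_adjacent_apply {m : ℕ} (k : Fin m) (x : Fin (m + 1)) :
    ((Equiv.swap k.castSucc k.succ x).val = if x.val = k.val then k.val + 1
      else if x.val = k.val + 1 then k.val else x.val) := by
  rw [Equiv.swap_apply_def]
  by_cases h1 : x = k.castSucc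
  · rw [if_pos h1, if_pos (by rw [h1]; rfl)]; rfl
  · have h1' : ¬ x.val = k.val := fun h => h1 (Fin.ext h)
    rw [if_neg h1, if_neg h1']
    by_cases h2 : x = k.succ
    · rw [if_pos h2, if_pos (by rw [h2]; rfl)]; rfl
    · have h2' : ¬ x.val = k.val + 1 := fun h => h2 (Fin.ext h)
      rw [if_neg h2, if_neg h2']

lemma strictMonoOn_swap_adjacent {m : ℕ} (k : Fin m) (S : Set (Fin (m + 1)))
    (hS : ¬ (k.castSucc ∈ S ∧ k.succ ∈ S)) :
    StrictMonoOn (Equiv.swap k.castSucc k.succ) S := by
  intro x hx y hy hxy
  rw [Fin.lt_def] at hxy ⊢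
  rw [swap_adjacent_apply, swap_adjacent_apply]
  have hnot : ¬ (x.val = k.val ∧ y.val = k.val + 1) := by
    rintro ⟨h1, h2⟩
    apply hS
    have e1 : x = k.castSucc := Fin.ext h1
    have e2 : y = k.succ := Fin.ext h2
    rw [← e1, ← e2]; exact ⟨hx, hy⟩
  split_ifs <;> omega

lemma compl_image_swap {α : Type*} [Fintype α] [DecidableEq α] (a b : α) (A : Finset α) :
    (A.image (Equiv.swap a b))ᶜ = Aᶜ.image (Equiv.swap a b) := by
  ext x
  simp only [Finset.mem_compl, Finset.mem_image]
  constructor
  · intro h
    refine ⟨Equiv.swap a b x, ?_, Equiv.swap_apply_self a b x⟩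
    intro hx
    exact h ⟨_, hx, Equiv.swap_apply_self a b x⟩
  · rintro ⟨y, hy, rfl⟩ ⟨z, hz, hzy⟩
    exact hy ((Equiv.swap a b).injective hzy ▸ hz)

lemma image_image_swap {α : Type*} [DecidableEq α] (a b : α) (A : Finset α) :
    (A.image (Equiv.swap a b)).image (Equiv.swap a b) = A := by
  rw [Finset.image_image]
  have : (⇑(Equiv.swap a b) ∘ ⇑(Equiv.swap a b)) = id := by
    funext x; simp
  rw [this, Finset.image_id]

lemma card_image_swap {α : Type*} [DecidableEq α] (a b : α) (A : Finset α) :
    (A.image (Equiv.swap a b)).card = A.card :=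
  Finset.card_image_of_injective _ (Equiv.swap a b).injective

/-- Sum of the values of a set of positions. -/
def vsum {m : ℕ} (A : Finset (Fin m)) : ℕ := A.sum fun a => a.val

lemma vsum_image_swap_of_mem {m : ℕ} (k : Fin m) (A : Finset (Fin (m + 1)))
    (ha : k.castSucc ∈ A) (hb : k.succ ∉ A) :
    vsum (A.image (Equiv.swap k.castSucc k.succ)) = vsum A + 1 := by
  unfold vsum
  rw [Finset.sum_image (fun x _ y _ h => (Equiv.swap k.castSucc k.succ).injective h)]
  rw [← Finset.add_sum_erase _ _ ha, ← Finset.add_sum_erase A _ ha]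
  have h1 : (Equiv.swap k.castSucc k.succ k.castSucc).val = k.castSucc.val + 1 := by
    rw [Equiv.swap_apply_left]; rfl
  have h2 : ∀ x ∈ A.erase k.castSucc, (Equiv.swap k.castSucc k.succ x).val = x.val := by
    intro x hx
    have hx1 : x ≠ k.castSucc := Finset.ne_of_mem_erase hx
    have hx2 : x ≠ k.succ := fun h => hb (h ▸ Finset.mem_of_mem_erase hx)
    rw [Equiv.swap_apply_of_ne_of_ne hx1 hx2]
  rw [h1, Finset.sum_congr rfl h2]
  ring

lemma vsum_image_swap_of_mem' {m : ℕ} (k : Fin m) (A : Finset (Fin (m + 1)))
    (ha : k.castSucc ∉ A) (hb : k.succ ∈ A) :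
    vsum (A.image (Equiv.swap k.castSucc k.succ)) + 1 = vsum A := by
  have ha' : k.castSucc ∈ A.image (Equiv.swap k.castSucc k.succ) :=
    Finset.mem_image.2 ⟨k.succ, hb, Equiv.swap_apply_right _ _⟩
  have hb' : k.succ ∉ A.image (Equiv.swap k.castSucc k.succ) := by
    intro h
    obtain ⟨x, hx, hxe⟩ := Finset.mem_image.1 h
    have : x = k.castSucc := by
      have := congrArg (Equiv.swap k.castSucc k.succ) hxe
      rwa [Equiv.swap_apply_self, Equiv.swap_apply_right] at this
    exact ha (this ▸ hx)
  have := vsum_image_swap_of_mem k _ ha' hb'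
  rw [image_image_swap] at this
  omega

/-! ### The shuffle sum as a multilinear map -/

/-- Positions `0, …, r` of a `d`-tuple. -/
def eI (r : Fin d) : Fin (r.val + 1) → Fin d :=
  fun s => ⟨s.val, by have := s.isLt; have := r.isLt; omega⟩

/-- Positions `r, …, d - 1` of a `d`-tuple. -/
def eJ (r : Fin d) : Fin (d - r.val) → Fin d :=
  fun u => ⟨u.val + r.val, by have := u.isLt; omega⟩

lemma eI_injective (r : Fin d) : Function.Injective (eI r) := by
  intro x y h
  have := congrArg Fin.val h
  exact Fin.ext this

lemma eJ_injective (r : Fin d) : Function.Injective (eJ r) := by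
  intro x y h
  have := congrArg Fin.val h
  simp only [eJ] at this
  exact Fin.ext (by omega)

lemma card_compl_of_card (r : Fin d) {A : Finset (Fin (d + 1))} (hA : A.card = r.val + 1) :
    Aᶜ.card = d - r.val := by
  rw [Finset.card_compl, hA, Fintype.card_fin]; omega

lemma orderEmbOfFin_congr {α : Type*} [LinearOrder α] {s s' : Finset α} (hs : s = s') {k : ℕ}
    (h : s.card = k) (h' : s'.card = k) : s.orderEmbOfFin h = s'.orderEmbOfFin h' := by
  subst hs; rfl

variable (r : Fin d) (U U' : Fin d → (Fin d → B))

/-- One term of the shuffle sum (without sign). -/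
noncomputable def shTerm (A : Finset (Fin (d + 1))) (hA : A.card = r.val + 1) :
    MultilinearMap B (fun _ : Fin (d + 1) => (Fin d → B)) B :=
  pairTerm (A.orderEmbOfFin hA) (Aᶜ.orderEmbOfFin (card_compl_of_card r hA))
    (A.orderEmbOfFin hA).injective (Aᶜ.orderEmbOfFin (card_compl_of_card r hA)).injective
    (fun k => by
      by_cases hk : k ∈ A
      · left
        have : k ∈ Set.range (A.orderEmbOfFin hA) := by
          rw [Finset.range_orderEmbOfFin]; exact hk
        exact this
      · right
        have : k ∈ Set.range (Aᶜ.orderEmbOfFin (card_compl_of_card r hA)) := by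
          rw [Finset.range_orderEmbOfFin]; exact Finset.mem_compl.2 hk
        exact this)
    (fun s s' h => by
      have h1 := Finset.orderEmbOfFin_mem A hA s
      have h2 := Finset.orderEmbOfFin_mem Aᶜ (card_compl_of_card r hA) s'
      rw [← h] at h2
      exact (Finset.mem_compl.1 h2) h1)
    (detExtend (eI r) (eI_injective r) U) (detExtend (eJ r) (eJ_injective r) U')

lemma shTerm_apply (A : Finset (Fin (d + 1))) (hA : A.card = r.val + 1)
    (v : Fin (d + 1) → (Fin d → B)) :
    shTerm r U U' A hA v = detExtend (eI r) (eI_injective r) U (v ∘ A.orderEmbOfFin hA) *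
      detExtend (eJ r) (eJ_injective r) U' (v ∘ Aᶜ.orderEmbOfFin (card_compl_of_card r hA)) := rfl

/-- The signed term of the shuffle sum, as a function of the subset `A`. -/
noncomputable def shVal (v : Fin (d + 1) → (Fin d → B)) (A : Finset (Fin (d + 1))) : B :=
  if hA : A.card = r.val + 1 then (-1 : B) ^ shuffleSign r A * shTerm r U U' A hA v else 0

/-- The shuffle sum. -/
noncomputable def shSum : MultilinearMap B (fun _ : Fin (d + 1) => (Fin d → B)) B :=
  ∑ A : Finset (Fin (d + 1)),
    if hA : A.card = r.val + 1 then ((-1 : B) ^ shuffleSign r A) • shTerm r U U' A hA else 0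

lemma shSum_apply (v : Fin (d + 1) → (Fin d → B)) :
    shSum r U U' v = ∑ A : Finset (Fin (d + 1)), shVal r U U' v A := by
  unfold shSum shVal
  rw [_root_.sum_apply]
  refine Finset.sum_congr rfl fun A _ => ?_
  split_ifs with hA
  · rw [smul_apply, smul_eq_mul]
  · rfl

lemma vsum_ge (A : Finset (Fin (d + 1))) (hA : A.card = r.val + 1) :
    r.val * (r.val + 1) / 2 ≤ vsum A := by
  have h1 : vsum A = ∑ t : Fin (r.val + 1), (A.orderEmbOfFin hA t).val := by
    unfold vsum
    conv_lhs => rw [← Finset.image_orderEmbOfFin_univ A hA]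
    rw [Finset.sum_image (fun x _ y _ h => (A.orderEmbOfFin hA).injective h)]
  have h2 : ∑ t : Fin (r.val + 1), t.val ≤ ∑ t : Fin (r.val + 1), (A.orderEmbOfFin hA t).val :=
    Finset.sum_le_sum fun t _ => le_orderEmbOfFin A hA t
  have h3 : ∑ t : Fin (r.val + 1), t.val = r.val * (r.val + 1) / 2 := by
    rw [Fin.sum_univ_eq_sum_range (fun i => i) (r.val + 1), Finset.sum_range_id]
    simp [Nat.mul_comm]
  rw [h1, ← h3]; exact h2

lemma neg_one_pow_shuffleSign (A : Finset (Fin (d + 1))) (hA : A.card = r.val + 1) :
    (-1 : B) ^ shuffleSign r A = (-1 : B) ^ vsum A * (-1 : B) ^ (r.val * (r.val + 1) / 2) := by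
  have h := vsum_ge r A hA
  have e : shuffleSign r A = vsum A - r.val * (r.val + 1) / 2 := rfl
  rw [e]
  have hsq : (-1 : B) ^ (r.val * (r.val + 1) / 2) * (-1 : B) ^ (r.val * (r.val + 1) / 2) = 1 := by
    rw [← pow_add, ← two_mul, pow_mul]; simp
  calc (-1 : B) ^ (vsum A - r.val * (r.val + 1) / 2)
      = (-1 : B) ^ (vsum A - r.val * (r.val + 1) / 2) *
          ((-1 : B) ^ (r.val * (r.val + 1) / 2) * (-1 : B) ^ (r.val * (r.val + 1) / 2)) := by
        rw [hsq, mul_one]
    _ = (-1 : B) ^ (vsum A - r.val * (r.val + 1) / 2 + r.val * (r.val + 1) / 2) *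
          (-1 : B) ^ (r.val * (r.val + 1) / 2) := by rw [pow_add]; ring
    _ = _ := by rw [Nat.sub_add_cancel h]

lemma shVal_eq_zero_of_both (v : Fin (d + 1) → (Fin d → B)) (k : Fin d)
    (hv : v k.castSucc = v k.succ) (A : Finset (Fin (d + 1)))
    (ha : k.castSucc ∈ A) (hb : k.succ ∈ A) : shVal r U U' v A = 0 := by
  unfold shVal
  split_ifs with hA
  · have h1 : k.castSucc ∈ Set.range (A.orderEmbOfFin hA) := by
      rw [Finset.range_orderEmbOfFin]; exact ha
    have h2 : k.succ ∈ Set.range (A.orderEmbOfFin hA) := by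
      rw [Finset.range_orderEmbOfFin]; exact hb
    obtain ⟨s, hs⟩ := h1
    obtain ⟨s', hs'⟩ := h2
    have hne : s ≠ s' := by
      rintro rfl
      exact (Fin.castSucc_lt_succ (i := k)).ne (hs.symm.trans hs')
    rw [shTerm_apply, detExtend_eq_zero (eI r) (eI_injective r) U _ hne
      (by rw [Function.comp_apply, Function.comp_apply, hs, hs', hv])]
    ring
  · rfl

lemma shVal_eq_zero_of_neither (v : Fin (d + 1) → (Fin d → B)) (k : Fin d)
    (hv : v k.castSucc = v k.succ) (A : Finset (Fin (d + 1)))
    (ha : k.castSucc ∉ A) (hb : k.succ ∉ A) : shVal r U U' v A = 0 := by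
  unfold shVal
  split_ifs with hA
  · have h1 : k.castSucc ∈ Set.range (Aᶜ.orderEmbOfFin (card_compl_of_card r hA)) := by
      rw [Finset.range_orderEmbOfFin]; exact Finset.mem_coe.2 (Finset.mem_compl.2 ha)
    have h2 : k.succ ∈ Set.range (Aᶜ.orderEmbOfFin (card_compl_of_card r hA)) := by
      rw [Finset.range_orderEmbOfFin]; exact Finset.mem_coe.2 (Finset.mem_compl.2 hb)
    obtain ⟨s, hs⟩ := h1
    obtain ⟨s', hs'⟩ := h2
    have hne : s ≠ s' := by
      rintro rfl
      exact (Fin.castSucc_lt_succ (i := k)).ne (hs.symm.trans hs')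
    rw [shTerm_apply, detExtend_eq_zero (eJ r) (eJ_injective r) U' _ hne
      (by rw [Function.comp_apply, Function.comp_apply, hs, hs', hv])]
    ring
  · rfl

lemma shVal_image_swap (v : Fin (d + 1) → (Fin d → B)) (k : Fin d)
    (hv : v k.castSucc = v k.succ) (A : Finset (Fin (d + 1)))
    (hone : (k.castSucc ∈ A ∧ k.succ ∉ A) ∨ (k.castSucc ∉ A ∧ k.succ ∈ A)) :
    shVal r U U' v (A.image (Equiv.swap k.castSucc k.succ)) = - shVal r U U' v A := by
  set σ := Equiv.swap k.castSucc k.succ with hσ
  have hvσ : ∀ x, v (σ x) = v x := by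
    intro x
    rw [hσ, Equiv.swap_apply_def]
    split_ifs with h1 h2
    · rw [h1, hv]
    · rw [h2, hv]
    · rfl
  unfold shVal
  by_cases hA : A.card = r.val + 1
  · have hA' : (A.image σ).card = r.val + 1 := by rw [hσ, card_image_swap]; exact hA
    rw [dif_pos hA, dif_pos hA', shTerm_apply, shTerm_apply]
    have hS1 : ¬ (k.castSucc ∈ (A : Set (Fin (d + 1))) ∧ k.succ ∈ (A : Set (Fin (d + 1)))) := by
      rintro ⟨h1, h2⟩
      rcases hone with ⟨-, h⟩ | ⟨h, -⟩
      · exact h h2
      · exact h h1
    have hS2 : ¬ (k.castSucc ∈ ((Aᶜ : Finset _) : Set (Fin (d + 1))) ∧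
        k.succ ∈ ((Aᶜ : Finset _) : Set (Fin (d + 1)))) := by
      rintro ⟨h1, h2⟩
      rw [Finset.mem_coe, Finset.mem_compl] at h1 h2
      rcases hone with ⟨h, -⟩ | ⟨-, h⟩
      · exact h1 h
      · exact h2 h
    have e1 : v ∘ (A.image σ).orderEmbOfFin hA' = v ∘ A.orderEmbOfFin hA := by
      funext t
      rw [Function.comp_apply, Function.comp_apply,
        orderEmbOfFin_image A hA σ (strictMonoOn_swap_adjacent k _ hS1) hA' t, hvσ]
    have hcs : (A.image σ)ᶜ = Aᶜ.image σ := compl_image_swap _ _ A
    have hC'' : (Aᶜ.image σ).card = d - r.val := by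
      rw [← hcs]; exact card_compl_of_card r hA'
    have e2 : v ∘ (A.image σ)ᶜ.orderEmbOfFin (card_compl_of_card r hA') =
        v ∘ Aᶜ.orderEmbOfFin (card_compl_of_card r hA) := by
      funext t
      rw [Function.comp_apply, Function.comp_apply,
        orderEmbOfFin_congr hcs (card_compl_of_card r hA') hC'',
        orderEmbOfFin_image Aᶜ (card_compl_of_card r hA) σ
          (strictMonoOn_swap_adjacent k _ hS2) hC'' t, hvσ]
    rw [e1, e2, neg_one_pow_shuffleSign r _ hA', neg_one_pow_shuffleSign r _ hA]
    have hsign : (-1 : B) ^ vsum (A.image σ) = - (-1 : B) ^ vsum A := by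
      rcases hone with ⟨h1, h2⟩ | ⟨h1, h2⟩
      · rw [hσ, vsum_image_swap_of_mem k A h1 h2, pow_succ]; ring
      · have := vsum_image_swap_of_mem' k A h1 h2
        rw [← this, pow_succ]; ring
    rw [hsign]; ring
  · have hA' : ¬ (A.image σ).card = r.val + 1 := by rw [hσ, card_image_swap]; exact hA
    rw [dif_neg hA, dif_neg hA', neg_zero]

/-- The shuffle sum vanishes on tuples with two equal adjacent entries. -/
lemma shSum_adjacent (v : Fin (d + 1) → (Fin d → B)) (k : Fin d)
    (hv : v k.castSucc = v k.succ) : shSum r U U' v = 0 := by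
  rw [shSum_apply]
  set σ := Equiv.swap k.castSucc k.succ with hσ
  have hcases : ∀ A : Finset (Fin (d + 1)),
      ((k.castSucc ∈ A ∧ k.succ ∉ A) ∨ (k.castSucc ∉ A ∧ k.succ ∈ A)) ∨ shVal r U U' v A = 0 := by
    intro A
    by_cases ha : k.castSucc ∈ A <;> by_cases hb : k.succ ∈ A
    · exact Or.inr (shVal_eq_zero_of_both r U U' v k hv A ha hb)
    · exact Or.inl (Or.inl ⟨ha, hb⟩)
    · exact Or.inl (Or.inr ⟨ha, hb⟩)
    · exact Or.inr (shVal_eq_zero_of_neither r U U' v k hv A ha hb)
  have hmem_iff : ∀ (A : Finset (Fin (d + 1))) (x : Fin (d + 1)), x ∈ A.image σ ↔ σ x ∈ A := by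
    intro A x
    constructor
    · intro h
      obtain ⟨y, hy, rfl⟩ := Finset.mem_image.1 h
      rw [hσ, Equiv.swap_apply_self]; exact hy
    · intro h
      exact Finset.mem_image.2 ⟨σ x, h, by rw [hσ, Equiv.swap_apply_self]⟩
  apply Finset.sum_involution (fun A _ => A.image σ)
  · intro A _
    rcases hcases A with hone | h0
    · rw [shVal_image_swap r U U' v k hv A hone]; ring
    · rw [h0, zero_add]
      rcases hcases (A.image σ) with hone' | h0'
      · have := shVal_image_swap r U U' v k hv _ hone'
        rw [← hσ, image_image_swap] at this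
        rw [h0] at this
        exact neg_eq_zero.1 this.symm
      · exact h0'
  · intro A _ hne heq
    rcases hcases A with hone | h0
    · rcases hone with ⟨h1, h2⟩ | ⟨h1, h2⟩
      · apply h2
        rw [← heq, hmem_iff, hσ, Equiv.swap_apply_right]; exact h1
      · apply h1
        rw [← heq, hmem_iff, hσ, Equiv.swap_apply_left]; exact h2
    · exact hne h0
  · intro A _; exact image_image_swap _ _ A
  · intro A _; exact Finset.mem_univ _

/-- **The shuffle identity**: the shuffle sum vanishes identically. -/
theorem shSum_eq_zero : shSum r U U' = 0 :=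
  multilinear_eq_zero_of_adjacent_of_card _ (shSum_adjacent r U U')

end Shuffle

section Apply

variable (K : Type u) [CommRing K] {B : Type v} [CommRing B] [Algebra K B] {d n : ℕ}

lemma submatrix_shuffleI (M : Matrix (Fin n) (Fin d) B) (i j : Idx d n) (r : Fin d)
    (A : Finset (Fin (d + 1))) (hA : A.card = r.val + 1) :
    M.submatrix (shuffleI i j r A hA) id =
      Matrix.of (Function.extend (eI r) ((fun k => M (movingRows i j r k)) ∘ A.orderEmbOfFin hA)
        (fun s => M (i.1 s))) := by
  ext s c
  rw [Matrix.submatrix_apply, Matrix.of_apply, id]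
  by_cases h : s.val ≤ r.val
  · have hs : s = eI r ⟨s.val, by omega⟩ := rfl
    rw [shuffleI_of_le _ _ _ _ _ _ h]
    conv_rhs => rw [hs, (eI_injective r).extend_apply]
    rfl
  · rw [shuffleI_of_gt _ _ _ _ _ _ (not_le.1 h), Function.extend_apply']
    rintro ⟨u, hu⟩
    apply h
    rw [← hu]
    have := u.isLt
    simp only [eI]
    omega

lemma submatrix_shuffleJ (M : Matrix (Fin n) (Fin d) B) (i j : Idx d n) (r : Fin d)
    (A : Finset (Fin (d + 1))) (hA : A.card = r.val + 1) :
    M.submatrix (shuffleJ i j r A hA) id =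
      Matrix.of (Function.extend (eJ r)
        ((fun k => M (movingRows i j r k)) ∘ Aᶜ.orderEmbOfFin (card_compl_of_card r hA))
        (fun s => M (j.1 s))) := by
  ext s c
  rw [Matrix.submatrix_apply, Matrix.of_apply, id]
  by_cases h : s.val < r.val
  · rw [shuffleJ_of_lt _ _ _ _ _ _ h, Function.extend_apply']
    rintro ⟨u, hu⟩
    have := congrArg Fin.val hu
    simp only [eJ] at this
    omega
  · rw [not_lt] at h
    have hs : s = eJ r ⟨s.val - r.val, by have := s.isLt; omega⟩ := by
      apply Fin.ext
      simp only [eJ]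
      omega
    rw [shuffleJ_of_ge _ _ _ _ _ (card_compl_of_card r hA) _ h]
    conv_rhs => rw [hs, (eJ_injective r).extend_apply]
    rfl

/-- The shuffle relations vanish at the minors of any matrix. -/
theorem aeval_shuffleRel (M : Matrix (Fin n) (Fin d) B) (i j : Idx d n) (r : Fin d) :
    MvPolynomial.aeval (fun θ : Idx d n => (M.submatrix θ.1 id).det) (shuffleRel K i j r) = 0 := by
  unfold shuffleRel
  rw [map_sum]
  have hz := shSum_eq_zero r (fun s => M (i.1 s)) (fun s => M (j.1 s))
  have hz' := congrArg (fun F => F (fun k => M (movingRows i j r k))) hz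
  simp only [zero_apply] at hz'
  rw [shSum_apply] at hz'
  rw [← hz']
  refine Finset.sum_congr rfl fun A _ => ?_
  unfold shuffleTerm shVal
  split_ifs with hA
  · rw [map_mul, map_mul, map_pow, map_neg, map_one, aeval_coord, aeval_coord, shTerm_apply,
      detExtend_apply, detExtend_apply, submatrix_shuffleI, submatrix_shuffleJ, mul_assoc]
  · rw [map_zero]

theorem evalMinors_shuffleRel (A : Matrix (Fin n) (Fin d) K) (i j : Idx d n) (r : Fin d) :
    evalMinors K d n A (shuffleRel K i j r) = 0 :=
  aeval_shuffleRel K A i j r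

theorem plIdealTop_le_ker (A : Matrix (Fin n) (Fin d) K) :
    plIdealTop (d := d) (n := n) K ≤ RingHom.ker (evalMinors K d n A).toRingHom := by
  unfold plIdealTop
  rw [Ideal.span_le]
  rintro f ⟨i, j, r, -, rfl⟩
  exact evalMinors_shuffleRel K A i j r

theorem plIdealTop_le_vanishing : plIdealTop (d := d) (n := n) K ≤ vanishing K d n := by
  unfold vanishing
  exact le_iInf fun A => plIdealTop_le_ker K A

theorem plIdealTop_le_schubertVanishing (τ : Idx d n) :
    plIdealTop (d := d) (n := n) K ≤ schubertVanishing K d n τ := by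
  unfold schubertVanishing
  exact le_iInf fun A => le_iInf fun _ => plIdealTop_le_ker K A

end Apply

end Groth.Agent.Lib.PlSMT
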