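import Groth.Agent.Lib.PlSMT3

/-!
# Standard monomial theory, part 4: linear independence of standard monomials

The generic echelon matrix `genEch w` (entry `(a, t)` a variable when `a ≤ w t`, zero otherwise) has vanishing
minors on the rows `φ ≰ w`, and its minor on the rows `w` is nonzero.  By induction (removing the top
element of the chains) a polynomial in the Plücker coordinates supported on standard monomials below `w`
that vanishes at the minors of `genEch w` is zero.
-/

set_option autoImplicit false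
set_option linter.unusedSectionVars false
set_option linter.unusedSimpArgs false
universe u v
open Finset MvPolynomial W4bk4grassmannian

namespace Groth.Agent.Lib.PlSMT

variable {d n : ℕ}

/-- A square matrix with a zero block of rows `≥ t` and columns `≤ t` has determinant zero. -/
lemma det_eq_zero_of_block {R : Type*} [CommRing R] (M : Matrix (Fin d) (Fin d) R) (t : Fin d)
    (h : ∀ s c : Fin d, t ≤ s → c ≤ t → M s c = 0) : M.det = 0 := by
  rw [Matrix.det_apply]
  refine Finset.sum_eq_zero fun σ _ => ?_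
  have hex : ∃ c : Fin d, c ≤ t ∧ t ≤ σ c := by
    by_contra hcon
    push Not at hcon
    have hmaps : ∀ c ∈ Finset.Iic t, σ c ∈ Finset.Iio t := by
      intro c hc
      exact Finset.mem_Iio.2 (hcon c (Finset.mem_Iic.1 hc))
    have := Finset.card_le_card_of_injOn σ hmaps (σ.injective.injOn)
    rw [Fin.card_Iic, Fin.card_Iio] at this
    omega
  obtain ⟨c, hc1, hc2⟩ := hex
  have hprod : ∏ i, M (σ i) i = 0 := Finset.prod_eq_zero (Finset.mem_univ c) (h _ _ hc2 hc1)
  rw [hprod, smul_zero]

variable (K : Type u) [CommRing K]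

/-- The generic echelon matrix of `w`: column `t` has variables in the rows `≤ w t` and zeros below. -/
noncomputable def genEch (w : Idx d n) : Matrix (Fin n) (Fin d) (MvPolynomial (Fin n × Fin d) K) :=
  Matrix.of fun a t => if a ≤ w.1 t then X (a, t) else 0

/-- Evaluation of Plücker polynomials at the minors of the generic echelon matrix. -/
noncomputable def evalG (w : Idx d n) : PlRing K d n →ₐ[K] MvPolynomial (Fin n × Fin d) K :=
  MvPolynomial.aeval fun θ : Idx d n => ((genEch K w).submatrix θ.1 id).det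

lemma evalG_X (w θ : Idx d n) : evalG K w (X θ) = ((genEch K w).submatrix θ.1 id).det := by
  unfold evalG; rw [aeval_X]

lemma minor_genEch_eq_zero (w φ : Idx d n) (h : ¬ φ ≤ w) :
    ((genEch K w).submatrix φ.1 id).det = 0 := by
  have hex : ∃ t : Fin d, w.1 t < φ.1 t := by
    by_contra hcon
    exact h (fun t => not_lt.1 (fun hlt => hcon ⟨t, hlt⟩))
  obtain ⟨t, ht⟩ := hex
  apply det_eq_zero_of_block _ t
  intro s c hs hc
  rw [Matrix.submatrix_apply, id, genEch, Matrix.of_apply, if_neg]
  rw [not_le]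
  calc w.1 c ≤ w.1 t := w.2.monotone hc
    _ < φ.1 t := ht
    _ ≤ φ.1 s := φ.2.monotone hs

lemma minor_genEch_self_ne_zero [Nontrivial K] (τ : Idx d n) :
    ((genEch K τ).submatrix τ.1 id).det ≠ 0 := by
  intro h0
  set x₀ : Fin n × Fin d → K := fun p => if p.1 = τ.1 p.2 then 1 else 0 with hx₀
  have h1 := congrArg (MvPolynomial.eval x₀) h0
  rw [RingHom.map_det, map_zero] at h1
  have : (MvPolynomial.eval x₀).mapMatrix ((genEch K τ).submatrix τ.1 id) = 1 := by
    refine Matrix.ext fun s c => ?_
    rw [RingHom.mapMatrix_apply, Matrix.map_apply, Matrix.submatrix_apply, id, genEch, Matrix.of_apply]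
    by_cases hsc : s = c
    · subst hsc
      rw [if_pos le_rfl, eval_X, hx₀, Matrix.one_apply_eq]
      simp
    · rw [Matrix.one_apply_ne hsc]
      split_ifs with hle
      · rw [eval_X, hx₀]
        simp only
        rw [if_neg]
        exact fun h => hsc (τ.2.injective h)
      · rw [map_zero]
  rw [this, Matrix.det_one] at h1
  exact one_ne_zero h1

/-- Specialisation of the generic echelon matrix of `w` to that of `τ`. -/
noncomputable def spec (τ : Idx d n) :
    MvPolynomial (Fin n × Fin d) K →ₐ[K] MvPolynomial (Fin n × Fin d) K :=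
  MvPolynomial.aeval fun p : Fin n × Fin d => if p.1 ≤ τ.1 p.2 then X p else 0

lemma spec_comp_evalG {τ w : Idx d n} (h : τ ≤ w) : (spec K τ).comp (evalG K w) = evalG K τ := by
  apply MvPolynomial.algHom_ext
  intro θ
  rw [AlgHom.comp_apply, evalG_X, evalG_X]
  show (spec K τ).toRingHom _ = _
  rw [RingHom.map_det]
  congr 1
  refine Matrix.ext fun s c => ?_
  rw [RingHom.mapMatrix_apply, Matrix.map_apply, Matrix.submatrix_apply, Matrix.submatrix_apply, id,
    genEch, genEch, Matrix.of_apply, Matrix.of_apply]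
  show (spec K τ) _ = _
  by_cases h1 : θ.1 s ≤ τ.1 c
  · rw [if_pos h1, if_pos (le_trans h1 (h c)), spec, aeval_X, if_pos h1]
  · rw [if_neg h1]
    split_ifs with h2
    · rw [spec, aeval_X, if_neg h1]
    · rw [map_zero]

/-- A monomial is standard on `X(w)`: its support is a chain below `w`. -/
def IsStdOn (w : Idx d n) (e : Idx d n →₀ ℕ) : Prop :=
  IsChain (· ≤ ·) (e.support : Set (Idx d n)) ∧ ∀ θ ∈ e.support, θ ≤ w

lemma exists_top {e : Idx d n →₀ ℕ} (hc : IsChain (· ≤ ·) (e.support : Set (Idx d n))) (he : e ≠ 0) :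
    ∃ m ∈ e.support, ∀ x ∈ e.support, x ≤ m := by
  have hne : e.support.Nonempty := Finsupp.support_nonempty_iff.2 he
  obtain ⟨m, hm⟩ := e.support.exists_maximal hne
  refine ⟨m, hm.1, fun x hx => ?_⟩
  rcases eq_or_ne x m with rfl | hxm
  · exact le_rfl
  · rcases hc (Finset.mem_coe.2 hx) (Finset.mem_coe.2 hm.1) hxm with h | h
    · exact h
    · exact hm.2 hx h

lemma evalG_monomial_eq_zero (τ : Idx d n) (e : Idx d n →₀ ℕ) (c : K) (x : Idx d n)
    (hx : x ∈ e.support) (hxτ : ¬ x ≤ τ) : evalG K τ (monomial e c) = 0 := by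
  unfold evalG
  rw [aeval_monomial]
  have : (e.prod fun θ k => ((genEch K τ).submatrix θ.1 id).det ^ k) = 0 := by
    unfold Finsupp.prod
    apply Finset.prod_eq_zero hx
    show ((genEch K τ).submatrix x.1 id).det ^ (e x) = 0
    rw [minor_genEch_eq_zero K τ x hxτ, zero_pow (Finsupp.mem_support_iff.1 hx)]
  rw [this, mul_zero]

lemma coeff_zero_of_evalG_eq_zero (hd : 0 < d) (w : Idx d n) (f : PlRing K d n)
    (h0 : evalG K w f = 0) : coeff 0 f = 0 := by
  have key : (MvPolynomial.aeval (0 : Fin n × Fin d → K)).comp (evalG K w) =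
      MvPolynomial.aeval (0 : Idx d n → K) := by
    apply MvPolynomial.algHom_ext
    intro θ
    rw [AlgHom.comp_apply, evalG_X, aeval_X, Pi.zero_apply]
    show (MvPolynomial.aeval (0 : Fin n × Fin d → K)).toRingHom _ = 0
    rw [RingHom.map_det]
    have : (MvPolynomial.aeval (0 : Fin n × Fin d → K)).toRingHom.mapMatrix
        ((genEch K w).submatrix θ.1 id) = 0 := by
      refine Matrix.ext fun s c => ?_
      rw [RingHom.mapMatrix_apply, Matrix.map_apply, Matrix.submatrix_apply, genEch, Matrix.of_apply,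
        Matrix.zero_apply]
      split_ifs
      · show (MvPolynomial.aeval (0 : Fin n × Fin d → K)) (X _) = 0
        rw [aeval_X]; rfl
      · exact map_zero _
    rw [this]
    have : Nonempty (Fin d) := ⟨⟨0, hd⟩⟩
    exact Matrix.det_zero
  have h1 := congrArg (fun φ => φ f) key
  simp only [AlgHom.comp_apply] at h1
  rw [h0, map_zero, MvPolynomial.aeval_zero] at h1
  rw [← MvPolynomial.constantCoeff_eq]
  exact h1.symm

/-- **Independence**: a Plücker polynomial supported on standard monomials below `w` which vanishes at the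
minors of the generic echelon matrix of `w` is zero. -/
theorem eq_zero_of_evalG_eq_zero [IsDomain K] (hd : 0 < d) :
    ∀ (N : ℕ) (w : Idx d n) (f : PlRing K d n),
      (∀ e ∈ f.support, IsStdOn w e ∧ e.degree ≤ N) → evalG K w f = 0 → f = 0 := by
  classical
  intro N
  induction N using Nat.strong_induction_on with
  | _ N IH =>
  intro w f hf h0
  by_contra hf0
  have h00 := coeff_zero_of_evalG_eq_zero K hd w f h0
  have hne0 : ∀ e ∈ f.support, e ≠ 0 := by
    rintro e he rfl
    exact (MvPolynomial.mem_support_iff.1 he) h00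
  -- the set of tops
  set T : Finset (Idx d n) := f.support.biUnion fun e =>
    e.support.filter fun m => ∀ x ∈ e.support, x ≤ m with hT
  have hTne : T.Nonempty := by
    obtain ⟨e₁, he₁⟩ := MvPolynomial.support_nonempty.2 hf0  -- nonempty support
    obtain ⟨m, hm, hmtop⟩ := exists_top (hf e₁ he₁).1.1 (hne0 e₁ he₁)
    exact ⟨m, Finset.mem_biUnion.2 ⟨e₁, he₁, Finset.mem_filter.2 ⟨hm, hmtop⟩⟩⟩
  obtain ⟨τ, hτ⟩ := T.exists_minimal hTne
  obtain ⟨e₀, he₀, hτe₀⟩ := Finset.mem_biUnion.1 hτ.1
  rw [Finset.mem_filter] at hτe₀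
  have hτw : τ ≤ w := (hf e₀ he₀).1.2 τ hτe₀.1
  have hN : N ≠ 0 := by
    rintro rfl
    have := (hf e₀ he₀).2
    have h2 : e₀.degree = 0 := Nat.le_zero.1 this
    exact hne0 e₀ he₀ ((Finsupp.degree_eq_zero_iff e₀).1 h2)
  obtain ⟨N', rfl⟩ := Nat.exists_eq_succ_of_ne_zero hN
  -- specialise to τ
  have h0τ : evalG K τ f = 0 := by
    rw [← spec_comp_evalG K hτw, AlgHom.comp_apply, h0, map_zero]
  -- the part of f below τ
  set S₁ : Finset (Idx d n →₀ ℕ) := f.support.filter fun e => ∀ x ∈ e.support, x ≤ τ with hS₁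
  have hS₁τ : ∀ e ∈ S₁, τ ∈ e.support := by
    intro e he
    rw [hS₁, Finset.mem_filter] at he
    obtain ⟨m, hm, hmtop⟩ := exists_top (hf e he.1).1.1 (hne0 e he.1)
    have hmT : m ∈ T := Finset.mem_biUnion.2 ⟨e, he.1, Finset.mem_filter.2 ⟨hm, hmtop⟩⟩
    have hmτ : m ≤ τ := he.2 m hm
    have : m = τ := le_antisymm hmτ (hτ.2 hmT hmτ)
    rw [← this]; exact hm
  set q : PlRing K d n := ∑ e ∈ S₁, monomial (e - Finsupp.single τ 1) (coeff e f) with hq
  have hf₁ : X τ * q = ∑ e ∈ S₁, monomial e (coeff e f) := by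
    rw [hq, Finset.mul_sum]
    refine Finset.sum_congr rfl fun e he => ?_
    rw [MvPolynomial.X, MvPolynomial.monomial_mul, one_mul]
    have h1 : 1 ≤ e τ := Nat.one_le_iff_ne_zero.2 (Finsupp.mem_support_iff.1 (hS₁τ e he))
    have hsum : Finsupp.single τ 1 + (e - Finsupp.single τ 1) = e := by
      refine Finsupp.ext fun θ => ?_
      by_cases hθ : θ = τ
      · subst hθ
        simp only [Finsupp.coe_add, Pi.add_apply, Finsupp.single_eq_same, Finsupp.coe_tsub,
          Pi.sub_apply]
        omega
      · simp only [Finsupp.coe_add, Pi.add_apply, Finsupp.coe_tsub, Pi.sub_apply,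
          Finsupp.single_eq_of_ne hθ]
        omega
    rw [hsum]
  have hsplit : evalG K τ f = evalG K τ (X τ * q) := by
    rw [hf₁]
    conv_lhs => rw [f.as_sum]
    rw [map_sum, map_sum]
    rw [← Finset.sum_filter_add_sum_filter_not f.support (fun e => ∀ x ∈ e.support, x ≤ τ)]
    rw [← hS₁]
    have : ∑ e ∈ f.support.filter (fun e => ¬ ∀ x ∈ e.support, x ≤ τ),
        evalG K τ (monomial e (coeff e f)) = 0 := by
      refine Finset.sum_eq_zero fun e he => ?_
      rw [Finset.mem_filter] at he
      obtain ⟨-, hnot⟩ := he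
      push Not at hnot
      obtain ⟨x, hx, hxτ⟩ := hnot
      exact evalG_monomial_eq_zero K τ e _ x hx hxτ
    rw [this, add_zero]
  have hq0 : evalG K τ q = 0 := by
    rw [hsplit, map_mul, evalG_X] at h0τ
    rcases mul_eq_zero.1 h0τ with h | h
    · exact absurd h (minor_genEch_self_ne_zero K τ)
    · exact h
  have hqstd : ∀ e' ∈ q.support, IsStdOn τ e' ∧ e'.degree ≤ N' := by
    intro e' he'
    have hsub := MvPolynomial.support_sum (s := S₁)
      (f := fun e => monomial (e - Finsupp.single τ 1) (coeff e f)) he'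
    rw [Finset.mem_biUnion] at hsub
    obtain ⟨e, he, hee'⟩ := hsub
    have := MvPolynomial.support_monomial_subset hee'
    rw [Finset.mem_singleton] at this
    subst this
    have heS := he
    rw [hS₁, Finset.mem_filter] at he
    have hsupp : (e - Finsupp.single τ 1).support ⊆ e.support := by
      intro θ hθ
      rw [Finsupp.mem_support_iff] at hθ ⊢
      intro h
      apply hθ
      simp only [Finsupp.coe_tsub, Pi.sub_apply, h]
      omega
    refine ⟨⟨(hf e he.1).1.1.mono (Finset.coe_subset.2 hsupp), fun θ hθ => he.2 θ (hsupp hθ)⟩, ?_⟩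
    have h1 : 1 ≤ e τ := Nat.one_le_iff_ne_zero.2 (Finsupp.mem_support_iff.1 (hS₁τ e heS))
    have hdeg : (e - Finsupp.single τ 1).degree + 1 = e.degree := by
      have : e = (e - Finsupp.single τ 1) + Finsupp.single τ 1 := by
        refine Finsupp.ext fun θ => ?_
        by_cases hθ : θ = τ
        · subst hθ
          simp only [Finsupp.coe_add, Pi.add_apply, Finsupp.single_eq_same, Finsupp.coe_tsub,
            Pi.sub_apply]
          omega
        · simp only [Finsupp.coe_add, Pi.add_apply, Finsupp.coe_tsub, Pi.sub_apply,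
            Finsupp.single_eq_of_ne hθ]
          omega
      conv_rhs => rw [this, map_add, Finsupp.degree_single]
    have := (hf e he.1).2
    omega
  have hq_zero : q = 0 := IH N' (Nat.lt_succ_self N') τ q hqstd hq0
  -- contradiction: the coefficient of e₀
  have he₀S : e₀ ∈ S₁ := by
    rw [hS₁, Finset.mem_filter]; exact ⟨he₀, hτe₀.2⟩
  have hcoeff : coeff e₀ (∑ e ∈ S₁, monomial e (coeff e f)) = coeff e₀ f := by
    rw [MvPolynomial.coeff_sum]
    simp only [MvPolynomial.coeff_monomial]
    rw [Finset.sum_ite_eq' S₁ e₀, if_pos he₀S]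
  rw [← hf₁, hq_zero, mul_zero, MvPolynomial.coeff_zero] at hcoeff
  exact (MvPolynomial.mem_support_iff.1 he₀) hcoeff.symm

end Groth.Agent.Lib.PlSMT
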