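import Groth.Agent.Lib.PlSMT5

/-!
# Standard monomial theory, part 6: weighted straightening

The shuffles preserve the multiset of rows; in particular the sum of all entries.  With the weight
`ω θ = (d n)² - (Σ θ)²` every non-standard monomial is, modulo the shuffle relations, a combination of
standard monomials of strictly smaller weight.
-/

set_option autoImplicit false
set_option linter.unusedSectionVars false
set_option linter.unusedSimpArgs false
universe u v
open Finset MvPolynomial W4bk4grassmannian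

namespace Groth.Agent.Lib.PlSMT

variable {d n : ℕ}

/-! ### Shuffles preserve the sum of the entries -/

lemma shuffleI_eq_extend (i j : Idx d n) (r : Fin d) (A : Finset (Fin (d + 1)))
    (hA : A.card = r.val + 1) :
    shuffleI i j r A hA =
      Function.extend (eI r) (movingRows i j r ∘ A.orderEmbOfFin hA) i.1 := by
  funext s
  by_cases h : s.val ≤ r.val
  · have hs : s = eI r ⟨s.val, by omega⟩ := rfl
    rw [shuffleI_of_le _ _ _ _ _ _ h]
    conv_rhs => rw [hs, (eI_injective r).extend_apply]
    rfl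
  · rw [shuffleI_of_gt _ _ _ _ _ _ (not_le.1 h), Function.extend_apply']
    rintro ⟨u, hu⟩
    apply h
    rw [← hu]
    have := u.isLt
    simp only [eI]
    omega

lemma shuffleJ_eq_extend (i j : Idx d n) (r : Fin d) (A : Finset (Fin (d + 1)))
    (hA : A.card = r.val + 1) :
    shuffleJ i j r A hA =
      Function.extend (eJ r)
        (movingRows i j r ∘ Aᶜ.orderEmbOfFin (card_compl_of_card r hA)) j.1 := by
  funext s
  by_cases h : s.val < r.val
  · rw [shuffleJ_of_lt _ _ _ _ _ _ h, Function.extend_apply']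
    rintro ⟨u, hu⟩
    have := congrArg Fin.val hu
    simp only [eJ] at this
    omega
  · rw [not_lt] at h
    have hs : s = eJ r ⟨s.val - r.val, by have := s.isLt; omega⟩ := by
      apply Fin.ext
      simp only [eJ]
      omega
    rw [shuffleJ_of_ge _ _ _ _ _ (card_compl_of_card r hA) _ h]
    conv_rhs => rw [hs, (eJ_injective r).extend_apply]
    rfl

lemma sum_extend {α : Type*} {k : ℕ} (e : Fin k → Fin d) (he : Function.Injective e)
    (x : Fin k → α) (U : Fin d → α) (f : α → ℕ) :
    ∑ t, f (Function.extend e x U t) =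
      ∑ s, f (x s) + ∑ t ∈ Finset.univ.filter (fun t => ¬ ∃ s, e s = t), f (U t) := by
  classical
  rw [← Finset.sum_filter_add_sum_filter_not Finset.univ (fun t => ∃ s, e s = t)]
  congr 1
  · have : Finset.univ.filter (fun t => ∃ s, e s = t) = Finset.univ.image e := by
      ext t; simp
    rw [this, Finset.sum_image (fun a _ b _ h => he h)]
    refine Finset.sum_congr rfl fun s _ => ?_
    rw [he.extend_apply]
  · refine Finset.sum_congr rfl fun t ht => ?_
    rw [Function.extend_apply' _ _ _ (Finset.mem_filter.1 ht).2]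

lemma sum_comp_orderEmbOfFin {m k : ℕ} (A : Finset (Fin m)) (hA : A.card = k) (g : Fin m → ℕ) :
    ∑ s, g (A.orderEmbOfFin hA s) = ∑ a ∈ A, g a := by
  conv_rhs => rw [← Finset.image_orderEmbOfFin_univ A hA]
  rw [Finset.sum_image (fun a _ b _ h => (A.orderEmbOfFin hA).injective h)]

lemma esum_shuffle_aux (i j : Idx d n) (r : Fin d) (A : Finset (Fin (d + 1)))
    (hA : A.card = r.val + 1) :
    esum (shuffleI i j r A hA) + esum (shuffleJ i j r A hA) =
      (∑ k, (movingRows i j r k).val) +
        (∑ t ∈ Finset.univ.filter (fun t => ¬ ∃ s, eI r s = t), (i.1 t).val) +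
        (∑ t ∈ Finset.univ.filter (fun t => ¬ ∃ s, eJ r s = t), (j.1 t).val) := by
  unfold esum
  rw [shuffleI_eq_extend, shuffleJ_eq_extend,
    sum_extend (eI r) (eI_injective r) _ _ Fin.val, sum_extend (eJ r) (eJ_injective r) _ _ Fin.val]
  have h1 := sum_comp_orderEmbOfFin A hA (fun k => (movingRows i j r k).val)
  have h2 := sum_comp_orderEmbOfFin Aᶜ (card_compl_of_card r hA) (fun k => (movingRows i j r k).val)
  have h3 := Finset.sum_add_sum_compl A (fun k => (movingRows i j r k).val)
  simp only [Function.comp_apply] at h1 h2 ⊢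
  rw [h1, h2, ← h3]
  ring

/-- The shuffles preserve the total sum of the entries. -/
lemma esum_shuffle (i j : Idx d n) (r : Fin d) (A : Finset (Fin (d + 1)))
    (hA : A.card = r.val + 1) :
    esum (shuffleI i j r A hA) + esum (shuffleJ i j r A hA) = esum i.1 + esum j.1 := by
  have h1 := esum_shuffle_aux i j r A hA
  have h2 := esum_shuffle_aux i j r (idSet r) (card_idSet r)
  rw [shuffleI_idSet, shuffleJ_idSet] at h2
  rw [h1, h2]

/-! ### The refined straightening step -/

variable (K : Type u) [CommRing K]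

/-- The refined target span of the straightening step. -/
noncomputable def upSpan' (i j : Idx d n) : Submodule K (PlRing K d n) :=
  Submodule.span K {f | ∃ i' j' : Idx d n, i < i' ∧
    esum i'.1 + esum j'.1 = esum i.1 + esum j.1 ∧ f = X i' * X j'}

lemma shuffleTerm_mem_upSpan' (i j : Idx d n) (r : Fin d) (hr : i.1 r < j.1 r)
    (A : Finset (Fin (d + 1))) (hne : A ≠ idSet r) : shuffleTerm K i j r A ∈ upSpan' K i j := by
  unfold shuffleTerm
  split_ifs with hA
  · rcases coord_cases K (shuffleI i j r A hA) with h0 | ⟨hI, hcI⟩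
    · rw [h0]; simp
    rcases coord_cases K (shuffleJ i j r A hA) with h0 | ⟨hJ, hcJ⟩
    · rw [h0]; simp
    rw [hcI, hcJ]
    have hlt : i < sortIdx d n (shuffleI i j r A hA) hI :=
      sortIdx_gt_of_le_of_ne hI (le_shuffleI i j r hr A hA)
        (fun h => hne (eq_idSet_of_shuffleI_eq i j r hr A hA h.symm))
    have hes : esum (sortIdx d n (shuffleI i j r A hA) hI).1 +
        esum (sortIdx d n (shuffleJ i j r A hA) hJ).1 = esum i.1 + esum j.1 := by
      rw [esum_sortIdx, esum_sortIdx, esum_shuffle]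
    have : (-1 : PlRing K d n) ^ shuffleSign r A *
        ((-1 : PlRing K d n) ^ invCount d n (shuffleI i j r A hA) *
          X (sortIdx d n (shuffleI i j r A hA) hI)) *
        ((-1 : PlRing K d n) ^ invCount d n (shuffleJ i j r A hA) *
          X (sortIdx d n (shuffleJ i j r A hA) hJ)) =
        (-1 : PlRing K d n) ^ (shuffleSign r A + invCount d n (shuffleI i j r A hA) +
          invCount d n (shuffleJ i j r A hA)) *
          (X (sortIdx d n (shuffleI i j r A hA) hI) * X (sortIdx d n (shuffleJ i j r A hA) hJ)) := by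
      rw [pow_add, pow_add]; ring
    rw [this, neg_one_pow_mul]
    exact Submodule.smul_mem _ _ (Submodule.subset_span ⟨_, _, hlt, hes, rfl⟩)
  · exact Submodule.zero_mem _

/-- The refined straightening step. -/
lemma straighten' (i j : Idx d n) (r : Fin d) (hr : i.1 r < j.1 r) :
    ∃ g ∈ upSpan' K i j, X i * X j - g ∈ Ideal.span ({shuffleRel K i j r} : Set (PlRing K d n)) := by
  set e := shuffleSign r (idSet r) with he
  set w := ∑ A ∈ (Finset.univ : Finset (Finset (Fin (d + 1)))).erase (idSet r), shuffleTerm K i j r A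
    with hw
  have hwmem : w ∈ upSpan' K i j :=
    Submodule.sum_mem _ (fun A hA => shuffleTerm_mem_upSpan' K i j r hr A (Finset.ne_of_mem_erase hA))
  have hrel : shuffleRel K i j r = (-1 : PlRing K d n) ^ e * (X i * X j) + w := by
    unfold shuffleRel
    rw [← Finset.add_sum_erase _ _ (Finset.mem_univ (idSet r)), shuffleTerm_idSet]
  refine ⟨-((-1 : PlRing K d n) ^ e * w), ?_, ?_⟩
  · rw [neg_one_pow_mul]
    exact Submodule.neg_mem _ (Submodule.smul_mem _ _ hwmem)
  · have hsq : ((-1 : PlRing K d n) ^ e) * ((-1 : PlRing K d n) ^ e) = 1 := by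
      rw [← pow_add, ← two_mul, pow_mul]; simp
    have : X i * X j - -((-1 : PlRing K d n) ^ e * w) = (-1 : PlRing K d n) ^ e * shuffleRel K i j r := by
      rw [hrel, mul_add, ← mul_assoc, hsq]; ring
    rw [this]
    exact Ideal.mul_mem_left _ _ (Ideal.subset_span rfl)

/-! ### Weights -/

/-- The rank: the sum of the entries. -/
def rho (θ : Idx d n) : ℕ := esum θ.1

lemma rho_le (θ : Idx d n) : rho θ ≤ d * n := by
  unfold rho esum
  calc ∑ t, (θ.1 t).val ≤ ∑ _t : Fin d, n := Finset.sum_le_sum fun t _ => (θ.1 t).isLt.le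
    _ = d * n := by simp

lemma rho_lt_of_lt {i i' : Idx d n} (h : i < i') : rho i < rho i' := by
  unfold rho
  apply esum_lt_of_le_of_ne (fun t => h.le t)
  intro heq
  exact h.ne (Subtype.ext heq)

/-- The weight of a Plücker coordinate. -/
def wt (θ : Idx d n) : ℕ := (d * n) ^ 2 - (rho θ) ^ 2

lemma wt_add_lt {i i' j j' : Idx d n} (h1 : i < i') (h2 : rho i' + rho j' = rho i + rho j)
    (h3 : rho j ≤ rho i) : wt i' + wt j' < wt i + wt j := by
  unfold wt
  have ha := rho_le i
  have hb := rho_le j
  have ha' := rho_le i'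
  have hb' := rho_le j'
  have hlt := rho_lt_of_lt h1
  set a := rho i
  set b := rho j
  set a' := rho i'
  set b' := rho j'
  set D := d * n
  have k1 : a ^ 2 ≤ D ^ 2 := Nat.pow_le_pow_left ha 2
  have k2 : b ^ 2 ≤ D ^ 2 := Nat.pow_le_pow_left hb 2
  have k3 : a' ^ 2 ≤ D ^ 2 := Nat.pow_le_pow_left ha' 2
  have k4 : b' ^ 2 ≤ D ^ 2 := Nat.pow_le_pow_left hb' 2
  have key : a ^ 2 + b ^ 2 < a' ^ 2 + b' ^ 2 := by nlinarith
  omega

/-- The weight of a monomial. -/
noncomputable def Wt (e : Idx d n →₀ ℕ) : ℕ := e.sum fun θ k => k * wt θ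

lemma Wt_add (e e' : Idx d n →₀ ℕ) : Wt (e + e') = Wt e + Wt e' := by
  unfold Wt
  exact Finsupp.sum_add_index' (fun _ => by simp) (fun _ _ _ => by ring)

lemma Wt_single (θ : Idx d n) : Wt (Finsupp.single θ 1) = wt θ := by
  unfold Wt
  rw [Finsupp.sum_single_index] <;> simp

@[simp] lemma Wt_zero : Wt (0 : Idx d n →₀ ℕ) = 0 := by
  unfold Wt; simp

/-- Span of the classes of the standard monomials of weight `< N`. -/
noncomputable def Vlt (I : Ideal (PlRing K d n)) (N : ℕ) : Submodule K (PlRing K d n ⧸ I) :=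
  Submodule.span K {y | ∃ e' : Idx d n →₀ ℕ, IsChain (· ≤ ·) (e'.support : Set (Idx d n)) ∧
    Wt e' < N ∧ y = Ideal.Quotient.mk I (monomial e' 1)}

lemma Vlt_mono (I : Ideal (PlRing K d n)) {N N' : ℕ} (h : N ≤ N') : Vlt K I N ≤ Vlt K I N' := by
  apply Submodule.span_mono
  rintro y ⟨e', h1, h2, rfl⟩
  exact ⟨e', h1, lt_of_lt_of_le h2 h, rfl⟩

/-- **Weighted straightening**: a non-standard monomial is, modulo the shuffle relations, a combination of
standard monomials of strictly smaller weight. -/
theorem wstraighten (I : Ideal (PlRing K d n)) (hI : plIdealTop (d := d) (n := n) K ≤ I) :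
    ∀ (N : ℕ) (e : Idx d n →₀ ℕ), Wt e = N → ¬ IsChain (· ≤ ·) (e.support : Set (Idx d n)) →
      Ideal.Quotient.mk I (monomial e 1) ∈ Vlt K I (Wt e) := by
  classical
  intro N
  induction N using Nat.strong_induction_on with
  | _ N IH =>
  intro e heN hnc
  -- an incomparable pair, oriented
  have hex : ∃ i j : Idx d n, i ∈ e.support ∧ j ∈ e.support ∧ ¬ j ≤ i ∧ ¬ i ≤ j ∧ rho j ≤ rho i := by
    unfold IsChain Set.Pairwise at hnc
    push Not at hnc
    obtain ⟨a, ha, b, hb, -, hnot⟩ := hnc
    rcases le_total (rho b) (rho a) with h | h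
    · exact ⟨a, b, ha, hb, hnot.2, hnot.1, h⟩
    · exact ⟨b, a, hb, ha, hnot.1, hnot.2, h⟩
  obtain ⟨i, j, hi, hj, hji, hij, hrho⟩ := hex
  have hne : i ≠ j := by rintro rfl; exact hji le_rfl
  obtain ⟨r, hr⟩ := exists_pivot hji
  obtain ⟨g, hg, hgI⟩ := straighten' K i j r hr.2
  have hgI' : X i * X j - g ∈ I := by
    refine hI ?_
    have : Ideal.span ({shuffleRel K i j r} : Set (PlRing K d n)) ≤
        plIdealTop (d := d) (n := n) K := by
      rw [Ideal.span_le, Set.singleton_subset_iff]
      exact shuffleRel_mem_plIdealTop K hr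
    exact this hgI
  set e₀ : Idx d n →₀ ℕ := e - Finsupp.single i 1 - Finsupp.single j 1 with he₀
  have hi1 : 1 ≤ e i := Nat.one_le_iff_ne_zero.2 (Finsupp.mem_support_iff.1 hi)
  have hj1 : 1 ≤ e j := Nat.one_le_iff_ne_zero.2 (Finsupp.mem_support_iff.1 hj)
  have hsum : Finsupp.single i 1 + Finsupp.single j 1 + e₀ = e := by
    refine Finsupp.ext fun θ => ?_
    simp only [he₀, Finsupp.coe_add, Pi.add_apply, Finsupp.coe_tsub, Pi.sub_apply]
    by_cases h1 : θ = i
    · subst h1
      rw [Finsupp.single_eq_same, Finsupp.single_eq_of_ne hne]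
      omega
    · by_cases h2 : θ = j
      · subst h2
        rw [Finsupp.single_eq_same, Finsupp.single_eq_of_ne (Ne.symm hne)]
        omega
      · rw [Finsupp.single_eq_of_ne h1, Finsupp.single_eq_of_ne h2]
        omega
  have hmon : monomial e (1 : K) = X i * X j * monomial e₀ 1 := by
    rw [MvPolynomial.X, MvPolynomial.X, MvPolynomial.monomial_mul, MvPolynomial.monomial_mul,
      one_mul, one_mul, hsum]
  have e1 : Ideal.Quotient.mk I (monomial e 1) =
      Ideal.Quotient.mk I g * Ideal.Quotient.mk I (monomial e₀ 1) := by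
    rw [hmon, map_mul, Ideal.Quotient.eq.2 hgI']
  rw [e1]
  set L : PlRing K d n →ₗ[K] (PlRing K d n ⧸ I) :=
    (LinearMap.mulRight K (Ideal.Quotient.mk I (monomial e₀ 1))).comp
      (Ideal.Quotient.mkₐ K I).toLinearMap with hL
  have hLle : upSpan' K i j ≤ (Vlt K I (Wt e)).comap L := by
    apply Submodule.span_le.2
    rintro _ ⟨i', j', hlt, hes, rfl⟩
    show Ideal.Quotient.mk I (X i' * X j') * Ideal.Quotient.mk I (monomial e₀ 1) ∈ Vlt K I (Wt e)
    set e' : Idx d n →₀ ℕ := Finsupp.single i' 1 + Finsupp.single j' 1 + e₀ with he'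
    have hmon' : X i' * X j' * monomial e₀ (1 : K) = monomial e' 1 := by
      rw [MvPolynomial.X, MvPolynomial.X, MvPolynomial.monomial_mul, MvPolynomial.monomial_mul,
        one_mul, one_mul]
    rw [← map_mul, hmon']
    have hWlt : Wt e' < Wt e := by
      rw [← hsum, he', Wt_add, Wt_add, Wt_add, Wt_add, Wt_single, Wt_single, Wt_single, Wt_single]
      have := wt_add_lt hlt hes hrho
      omega
    by_cases hch : IsChain (· ≤ ·) (e'.support : Set (Idx d n))
    · exact Submodule.subset_span ⟨e', hch, hWlt, rfl⟩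
    · exact Vlt_mono K I hWlt.le (IH (Wt e') (heN ▸ hWlt) e' rfl hch)
  exact hLle hg

end Groth.Agent.Lib.PlSMT
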