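import Mathlib

/-!
# Rees algebra of a filtration given by a weighted basis

`B` a commutative `K`-algebra with a `K`-basis `b : Λ → B` and weights `δ : Λ → ℕ`; `fil s` is the span of the
basis vectors of weight `≤ s`.  If `1 ∈ fil 0` and `b l * b l' ∈ fil (δ l + δ l')` then
`rees = {p ∈ B[t] | coeff s p ∈ fil s}` is a `K[t]`-algebra, free with basis `C (b l) * X ^ δ l`, its fibre at
`t = c ≠ 0` is `B`, and the classes of the basis vectors form a `K`-basis of the fibre at `t = 0`.
-/

set_option autoImplicit false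
set_option linter.unusedSectionVars false
set_option linter.unusedSimpArgs false
universe u v w
open Polynomial

noncomputable section

namespace Groth.Agent.Lib.ReesBasis

variable {K : Type u} [Field K] {B : Type v} [CommRing B] [Algebra K B] {Λ : Type w}
  (b : Module.Basis Λ K B) (δ : Λ → ℕ)

/-- The filtration: span of the basis vectors of weight `≤ s`. -/
def fil (s : ℕ) : Submodule K B := Submodule.span K (b '' {l | δ l ≤ s})

/-- Span of the basis vectors of weight `< s`. -/
def filLt (s : ℕ) : Submodule K B := Submodule.span K (b '' {l | δ l < s})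

lemma fil_mono {s s' : ℕ} (h : s ≤ s') : fil b δ s ≤ fil b δ s' :=
  Submodule.span_mono (Set.image_mono fun _ hl => le_trans hl h)

lemma filLt_le_fil (s : ℕ) : filLt b δ s ≤ fil b δ s :=
  Submodule.span_mono (Set.image_mono fun l hl => show δ l ≤ s from le_of_lt hl)

lemma filLt_succ (s : ℕ) : filLt b δ (s + 1) = fil b δ s := by
  unfold filLt fil
  congr 2
  ext l
  exact Nat.lt_succ_iff

lemma filLt_zero : filLt b δ 0 = ⊥ := by
  unfold filLt
  have : {l | δ l < 0} = (∅ : Set Λ) := by ext l; simp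
  rw [this, Set.image_empty, Submodule.span_empty]

lemma basis_mem_fil (l : Λ) : b l ∈ fil b δ (δ l) :=
  Submodule.subset_span ⟨l, (le_rfl : δ l ≤ δ l), rfl⟩

lemma mem_fil_iff (x : B) (s : ℕ) : x ∈ fil b δ s ↔ ∀ l ∈ (b.repr x).support, δ l ≤ s := by
  unfold fil
  rw [Module.Basis.mem_span_image]
  rfl

lemma mem_filLt_iff (x : B) (s : ℕ) : x ∈ filLt b δ s ↔ ∀ l ∈ (b.repr x).support, δ l < s := by
  unfold filLt
  rw [Module.Basis.mem_span_image]
  rfl

/-- The filtration is multiplicative. -/
structure IsMulFil : Prop where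
  one_mem : (1 : B) ∈ fil b δ 0
  mul_mem : ∀ l l', b l * b l' ∈ fil b δ (δ l + δ l')

variable {b δ}

lemma IsMulFil.mul_mem_fil (h : IsMulFil b δ) {s s' : ℕ} {x y : B} (hx : x ∈ fil b δ s)
    (hy : y ∈ fil b δ s') : x * y ∈ fil b δ (s + s') := by
  have hle : fil b δ s * fil b δ s' ≤ fil b δ (s + s') := by
    unfold fil
    rw [Submodule.span_mul_span, Submodule.span_le]
    rintro _ ⟨_, ⟨l, hl, rfl⟩, _, ⟨l', hl', rfl⟩, rfl⟩
    exact fil_mono b δ (Nat.add_le_add hl hl') (h.mul_mem l l')
  exact hle (Submodule.mul_mem_mul hx hy)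

/-- The Rees algebra of the filtration. -/
def rees (h : IsMulFil b δ) : Subalgebra K (Polynomial B) where
  carrier := {p | ∀ s, p.coeff s ∈ fil b δ s}
  mul_mem' := by
    intro p q hp hq s
    rw [Polynomial.coeff_mul]
    refine Submodule.sum_mem _ fun x hx => ?_
    have := h.mul_mem_fil (hp x.1) (hq x.2)
    rwa [Finset.HasAntidiagonal.mem_antidiagonal.1 hx] at this
  add_mem' := by
    intro p q hp hq s
    rw [Polynomial.coeff_add]
    exact Submodule.add_mem _ (hp s) (hq s)
  algebraMap_mem' := by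
    intro k s
    rw [Polynomial.algebraMap_apply, Polynomial.coeff_C]
    split_ifs with hs
    · subst hs
      rw [Algebra.algebraMap_eq_smul_one]
      exact Submodule.smul_mem _ _ h.one_mem
    · exact Submodule.zero_mem _

variable (h : IsMulFil b δ)

lemma mem_rees_iff (p : Polynomial B) : p ∈ rees h ↔ ∀ s, p.coeff s ∈ fil b δ s := Iff.rfl

/-- The structure map `K[t] → rees`. -/
def toRees : Polynomial K →+* rees h :=
  (Polynomial.mapRingHom (algebraMap K B)).codRestrict (rees h) (fun p s => by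
    rw [Polynomial.coe_mapRingHom, Polynomial.coeff_map, Algebra.algebraMap_eq_smul_one]
    exact fil_mono b δ (Nat.zero_le s) (Submodule.smul_mem _ _ h.one_mem))

lemma coe_toRees (p : Polynomial K) : ((toRees h p : rees h) : Polynomial B) = p.map (algebraMap K B) :=
  rfl

/-- The `K[t]`-algebra structure of the Rees algebra. -/
@[reducible] def reesAlgebra : Algebra (Polynomial K) (rees h) := (toRees h).toAlgebra

lemma rees_isScalarTower :
    @IsScalarTower K (Polynomial K) (rees h) _ (reesAlgebra h).toSMul _ := by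
  let _ := reesAlgebra h
  refine IsScalarTower.of_algebraMap_eq (fun k => ?_)
  apply Subtype.ext
  show (algebraMap K (Polynomial B)) k = ((toRees h (algebraMap K (Polynomial K) k) : rees h) : Polynomial B)
  rw [coe_toRees, Polynomial.algebraMap_apply, Polynomial.algebraMap_apply, Algebra.algebraMap_self,
    RingHom.id_apply, Polynomial.map_C]

/-- The element `C x * X ^ s` of the Rees algebra, for `x ∈ fil s`, as a `K`-linear map. -/
def mkCX (s : ℕ) : fil b δ s →ₗ[K] rees h where
  toFun x := ⟨Polynomial.C (x : B) * Polynomial.X ^ s, fun s' => by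
    rw [Polynomial.coeff_C_mul_X_pow]
    split_ifs with hs
    · rw [hs]; exact x.2
    · exact Submodule.zero_mem _⟩
  map_add' x y := by
    apply Subtype.ext
    show Polynomial.C ((x : B) + (y : B)) * Polynomial.X ^ s = _
    rw [map_add, add_mul]; rfl
  map_smul' k x := by
    apply Subtype.ext
    show Polynomial.C (k • (x : B)) * Polynomial.X ^ s = k • (Polynomial.C (x : B) * Polynomial.X ^ s)
    rw [← smul_mul_assoc, Polynomial.smul_C]

lemma coe_mkCX (s : ℕ) (x : fil b δ s) :
    ((mkCX h s x : rees h) : Polynomial B) = Polynomial.C (x : B) * Polynomial.X ^ s := rfl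

/-- The basis vectors `C (b l) * X ^ δ l`. -/
def uvec (l : Λ) : rees h := mkCX h (δ l) ⟨b l, basis_mem_fil b δ l⟩

lemma coe_uvec (l : Λ) : ((uvec h l : rees h) : Polynomial B) = Polynomial.C (b l) * Polynomial.X ^ δ l :=
  rfl

lemma coe_smul_rees (p : Polynomial K) (r : rees h) :
    ((@HSMul.hSMul _ _ _ (@instHSMul _ _ (reesAlgebra h).toSMul) p r : rees h) : Polynomial B) =
      p.map (algebraMap K B) * (r : Polynomial B) := rfl


/-! ### Freeness over `K[t]` -/

lemma coeff_map_mul_CX (p : Polynomial K) (l : Λ) (n : ℕ) :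
    ((p.map (algebraMap K B)) * (Polynomial.C (b l) * Polynomial.X ^ δ l)).coeff n =
      if δ l ≤ n then p.coeff (n - δ l) • b l else 0 := by
  rw [← mul_assoc, Polynomial.coeff_mul_X_pow']
  split_ifs with hn
  · rw [Polynomial.coeff_mul_C, Polynomial.coeff_map, Algebra.smul_def]
  · rfl

lemma linearIndependent_uvec :
    @LinearIndependent Λ (Polynomial K) (rees h) (uvec h) _ _ (reesAlgebra h).toModule := by
  letI := reesAlgebra h
  rw [linearIndependent_iff']
  intro s g hg i hi
  have hg' : ∑ l ∈ s, (g l).map (algebraMap K B) * (Polynomial.C (b l) * Polynomial.X ^ δ l) = 0 := by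
    have := congrArg (fun r : rees h => (r : Polynomial B)) hg
    simp only [AddSubmonoidClass.coe_finsetSum, ZeroMemClass.coe_zero] at this
    exact this
  ext m
  rw [Polynomial.coeff_zero]
  have h1 := congrArg (fun q => Polynomial.coeff q (δ i + m)) hg'
  simp only [Polynomial.finsetSum_coeff, coeff_map_mul_CX, Polynomial.coeff_zero] at h1
  have h2 : ∑ l ∈ s, (if δ l ≤ δ i + m then (g l).coeff (δ i + m - δ l) else 0) • b l = 0 := by
    rw [← h1]
    refine Finset.sum_congr rfl fun l _ => ?_
    split_ifs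
    · rfl
    · rw [zero_smul]
  have h3 := linearIndependent_iff'.1 b.linearIndependent s _ h2 i hi
  simpa using h3

lemma mkCX_zero' (s : ℕ) : mkCX h s ⟨0, Submodule.zero_mem _⟩ = 0 := by
  apply Subtype.ext
  show Polynomial.C (0 : B) * Polynomial.X ^ s = 0
  rw [map_zero, zero_mul]

lemma mkCX_add' (s : ℕ) (x y : B) (hx : x ∈ fil b δ s) (hy : y ∈ fil b δ s) :
    mkCX h s ⟨x + y, Submodule.add_mem _ hx hy⟩ = mkCX h s ⟨x, hx⟩ + mkCX h s ⟨y, hy⟩ := by
  apply Subtype.ext
  show Polynomial.C (x + y) * Polynomial.X ^ s =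
    Polynomial.C x * Polynomial.X ^ s + Polynomial.C y * Polynomial.X ^ s
  rw [map_add, add_mul]

lemma mkCX_smul' (s : ℕ) (k : K) (x : B) (hx : x ∈ fil b δ s) :
    mkCX h s ⟨k • x, Submodule.smul_mem _ k hx⟩ = k • mkCX h s ⟨x, hx⟩ := by
  apply Subtype.ext
  show Polynomial.C (k • x) * Polynomial.X ^ s = k • (Polynomial.C x * Polynomial.X ^ s)
  rw [← smul_mul_assoc, Polynomial.smul_C]

lemma smul_eq_C_smul (k : K) (r : rees h) :
    k • r = @HSMul.hSMul _ _ _ (@instHSMul _ _ (reesAlgebra h).toSMul) (Polynomial.C k : Polynomial K) r := by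
  apply Subtype.ext
  rw [coe_smul_rees, Polynomial.map_C]
  show k • (r : Polynomial B) = _
  rw [Algebra.smul_def, Polynomial.algebraMap_apply]

lemma mkCX_basis (s : ℕ) (l : Λ) (hl : δ l ≤ s) :
    mkCX h s ⟨b l, Submodule.subset_span ⟨l, hl, rfl⟩⟩ =
      @HSMul.hSMul _ _ _ (@instHSMul _ _ (reesAlgebra h).toSMul)
        (Polynomial.X ^ (s - δ l) : Polynomial K) (uvec h l) := by
  apply Subtype.ext
  rw [coe_smul_rees, coe_mkCX, coe_uvec, Polynomial.map_pow, Polynomial.map_X]
  show Polynomial.C (b l) * Polynomial.X ^ s = _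
  have hs : s = (s - δ l) + δ l := by omega
  conv_lhs => rw [hs, pow_add]
  ring

lemma mkCX_mem_span (s : ℕ) (x : B) (hx : x ∈ fil b δ s) :
    mkCX h s ⟨x, hx⟩ ∈
      @Submodule.span (Polynomial K) (rees h) _ _ (reesAlgebra h).toModule (Set.range (uvec h)) := by
  letI := reesAlgebra h
  refine Submodule.span_induction
    (p := fun x hx => mkCX h s ⟨x, hx⟩ ∈ Submodule.span (Polynomial K) (Set.range (uvec h)))
    ?_ ?_ ?_ ?_ hx
  · rintro _ ⟨l, hl, rfl⟩
    rw [mkCX_basis h s l hl]
    exact Submodule.smul_mem _ _ (Submodule.subset_span ⟨l, rfl⟩)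
  · rw [mkCX_zero']
    exact Submodule.zero_mem _
  · intro x y hx hy ihx ihy
    rw [mkCX_add' h s x y hx hy]
    exact Submodule.add_mem _ ihx ihy
  · intro k x hx ihx
    rw [mkCX_smul' h s k x hx, smul_eq_C_smul]
    exact Submodule.smul_mem _ _ ihx

lemma eq_sum_mkCX (r : rees h) :
    r = ∑ s ∈ Finset.range ((r : Polynomial B).natDegree + 1),
      mkCX h s ⟨(r : Polynomial B).coeff s, r.2 s⟩ := by
  apply Subtype.ext
  rw [AddSubmonoidClass.coe_finsetSum]
  simp only [coe_mkCX]
  exact Polynomial.as_sum_range_C_mul_X_pow _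

lemma span_uvec_eq_top :
    @Submodule.span (Polynomial K) (rees h) _ _ (reesAlgebra h).toModule (Set.range (uvec h)) = ⊤ := by
  letI := reesAlgebra h
  rw [eq_top_iff]
  rintro r -
  rw [eq_sum_mkCX h r]
  exact Submodule.sum_mem _ fun s _ => mkCX_mem_span h s _ _

lemma rees_free : @Module.Free (Polynomial K) (rees h) _ _ (reesAlgebra h).toModule := by
  letI := reesAlgebra h
  exact Module.Free.of_basis (Module.Basis.mk (linearIndependent_uvec h) (span_uvec_eq_top h).ge)

/-! ### The fibre at `t = c ≠ 0` -/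

/-- Evaluation at `t = c`. -/
def evalc (c : K) : rees h →ₐ[K] B :=
  ((Polynomial.aeval (R := B) (algebraMap K B c)).restrictScalars K).comp (rees h).val

lemma evalc_apply (c : K) (r : rees h) :
    evalc h c r = (r : Polynomial B).eval (algebraMap K B c) := by
  show Polynomial.aeval (R := B) (algebraMap K B c) (r : Polynomial B) = _
  rw [Polynomial.coe_aeval_eq_eval]

lemma evalc_uvec (c : K) (l : Λ) : evalc h c (uvec h l) = c ^ δ l • b l := by
  rw [evalc_apply, coe_uvec, Polynomial.eval_mul, Polynomial.eval_C, Polynomial.eval_pow,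
    Polynomial.eval_X, ← map_pow, Algebra.smul_def, mul_comm]

lemma evalc_surjective {c : K} (hc : c ≠ 0) : Function.Surjective (evalc h c) := by
  have hr : LinearMap.range (evalc h c).toLinearMap = ⊤ := by
    rw [eq_top_iff, ← b.span_eq, Submodule.span_le]
    rintro _ ⟨l, rfl⟩
    refine ⟨(c ^ δ l)⁻¹ • uvec h l, ?_⟩
    show evalc h c ((c ^ δ l)⁻¹ • uvec h l) = b l
    rw [map_smul, evalc_uvec, smul_smul, inv_mul_cancel₀ (pow_ne_zero _ hc), one_smul]
  exact LinearMap.range_eq_top.1 hr

lemma ker_evalc {c : K} (hc : c ≠ 0) :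
    RingHom.ker (evalc h c) = Ideal.span {toRees h (Polynomial.X - Polynomial.C c)} := by
  apply le_antisymm
  · intro p hp
    rw [RingHom.mem_ker, evalc_apply] at hp
    set a := algebraMap K B c with ha
    set q := (p : Polynomial B) /ₘ (Polynomial.X - Polynomial.C a) with hq
    have hpq : (Polynomial.X - Polynomial.C a) * q = (p : Polynomial B) :=
      (Polynomial.mul_divByMonic_eq_iff_isRoot).2 hp
    have hsm : ∀ y : B, a * y = c • y := fun y => by rw [Algebra.smul_def]
    have hqmem : ∀ s, q.coeff s ∈ fil b δ s := by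
      intro s
      induction s with
      | zero =>
        have h0 : (p : Polynomial B).coeff 0 = - (c • q.coeff 0) := by
          rw [← hpq, sub_mul, Polynomial.coeff_sub, Polynomial.coeff_X_mul_zero,
            Polynomial.coeff_C_mul, zero_sub, hsm]
        have h1 : c • q.coeff 0 ∈ fil b δ 0 := by
          have : c • q.coeff 0 = - (p : Polynomial B).coeff 0 := by rw [h0, neg_neg]
          rw [this]
          exact Submodule.neg_mem _ (p.2 0)
        exact (Submodule.smul_mem_iff _ hc).1 h1
      | succ s ih =>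
        have h0 : (p : Polynomial B).coeff (s + 1) = q.coeff s - c • q.coeff (s + 1) := by
          rw [← hpq, sub_mul, Polynomial.coeff_sub, Polynomial.coeff_X_mul,
            Polynomial.coeff_C_mul, hsm]
        have h1 : c • q.coeff (s + 1) ∈ fil b δ (s + 1) := by
          have : c • q.coeff (s + 1) = q.coeff s - (p : Polynomial B).coeff (s + 1) := by
            rw [h0]; ring
          rw [this]
          exact Submodule.sub_mem _ (fil_mono b δ (Nat.le_succ s) ih) (p.2 (s + 1))
        exact (Submodule.smul_mem_iff _ hc).1 h1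
    rw [Ideal.mem_span_singleton']
    refine ⟨⟨q, hqmem⟩, ?_⟩
    apply Subtype.ext
    show q * (Polynomial.X - Polynomial.C c).map (algebraMap K B) = p
    rw [Polynomial.map_sub, Polynomial.map_X, Polynomial.map_C, mul_comm]
    exact hpq
  · rw [Ideal.span_le, Set.singleton_subset_iff]
    show toRees h (Polynomial.X - Polynomial.C c) ∈ RingHom.ker (evalc h c)
    rw [RingHom.mem_ker, evalc_apply, coe_toRees, Polynomial.map_sub, Polynomial.map_X,
      Polynomial.map_C, Polynomial.eval_sub, Polynomial.eval_X, Polynomial.eval_C, sub_self]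

/-- The fibre of the Rees algebra at `t = c ≠ 0` is `B`. -/
def fibreEquiv {c : K} (hc : c ≠ 0) :
    (rees h ⧸ Ideal.span {toRees h (Polynomial.X - Polynomial.C c)}) ≃ₐ[K] B :=
  (Ideal.quotientEquivAlgOfEq K (ker_evalc h hc).symm).trans
    (Ideal.quotientKerAlgEquivOfSurjective (evalc_surjective h hc))

/-! ### The fibre at `t = 0` -/

lemma mem_span_X_iff (p : rees h) :
    p ∈ Ideal.span {toRees h Polynomial.X} ↔ ∀ n, (p : Polynomial B).coeff n ∈ filLt b δ n := by
  rw [Ideal.mem_span_singleton']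
  constructor
  · rintro ⟨r, rfl⟩ n
    show ((r : Polynomial B) * (Polynomial.X : Polynomial K).map (algebraMap K B)).coeff n ∈ _
    rw [Polynomial.map_X]
    cases n with
    | zero => rw [Polynomial.coeff_mul_X_zero]; exact Submodule.zero_mem _
    | succ n => rw [Polynomial.coeff_mul_X, filLt_succ]; exact r.2 n
  · intro hp
    refine ⟨⟨(p : Polynomial B).divX, fun s => ?_⟩, ?_⟩
    · rw [Polynomial.coeff_divX, ← filLt_succ]; exact hp (s + 1)
    · apply Subtype.ext
      show (p : Polynomial B).divX * (Polynomial.X : Polynomial K).map (algebraMap K B) = p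
      rw [Polynomial.map_X]
      have h0 : (p : Polynomial B).coeff 0 = 0 := by
        have := hp 0
        rw [filLt_zero] at this
        exact (Submodule.mem_bot K).1 this
      conv_rhs => rw [← Polynomial.divX_mul_X_add (p : Polynomial B), h0, map_zero, add_zero]

lemma mkCX_mem_span_X {N : ℕ} (x : fil b δ N) (hx : (x : B) ∈ filLt b δ N) :
    mkCX h N x ∈ Ideal.span {toRees h Polynomial.X} := by
  rw [mem_span_X_iff]
  intro n
  rw [coe_mkCX, Polynomial.coeff_C_mul_X_pow]
  split_ifs with hn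
  · rw [hn]; exact hx
  · exact Submodule.zero_mem _

lemma uvec_mul (l l' : Λ) :
    uvec h l * uvec h l' = mkCX h (δ l + δ l') ⟨b l * b l', h.mul_mem l l'⟩ := by
  apply Subtype.ext
  show (Polynomial.C (b l) * Polynomial.X ^ δ l) * (Polynomial.C (b l') * Polynomial.X ^ δ l') =
    Polynomial.C (b l * b l') * Polynomial.X ^ (δ l + δ l')
  rw [map_mul, pow_add]; ring

/-- The classes of the basis vectors in the fibre at `t = 0`. -/
def uvec0 (l : Λ) : rees h ⧸ Ideal.span {toRees h Polynomial.X} :=
  Ideal.Quotient.mk _ (uvec h l)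

lemma linearIndependent_uvec0 : LinearIndependent K (uvec0 h) := by
  classical
  rw [linearIndependent_iff']
  intro s g hg i hi
  have h1 : (∑ l ∈ s, g l • uvec h l) ∈ Ideal.span {toRees h Polynomial.X} := by
    rw [← Ideal.Quotient.eq_zero_iff_mem, ← hg, map_sum]
    refine Finset.sum_congr rfl fun l _ => ?_
    exact map_smul (Ideal.Quotient.mkₐ K (Ideal.span {toRees h Polynomial.X})) (g l) (uvec h l)
  rw [mem_span_X_iff] at h1
  have h2 := h1 (δ i)
  have hco : ((∑ l ∈ s, g l • uvec h l : rees h) : Polynomial B).coeff (δ i) =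
      ∑ l ∈ s, if δ i = δ l then g l • b l else 0 := by
    rw [AddSubmonoidClass.coe_finsetSum, Polynomial.finsetSum_coeff]
    refine Finset.sum_congr rfl fun l _ => ?_
    show (g l • ((uvec h l : rees h) : Polynomial B)).coeff (δ i) = _
    rw [Polynomial.coeff_smul, coe_uvec, Polynomial.coeff_C_mul_X_pow]
    split_ifs
    · rfl
    · rw [smul_zero]
  rw [hco, mem_filLt_iff] at h2
  by_contra hne
  have hrep : (b.repr (∑ l ∈ s, if δ i = δ l then g l • b l else 0)) i = g i := by
    rw [map_sum, Finsupp.finsetSum_apply, Finset.sum_eq_single i]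
    · rw [if_pos rfl, map_smul, b.repr_self, Finsupp.smul_apply, Finsupp.single_eq_same,
        smul_eq_mul, mul_one]
    · intro l _ hli
      split_ifs
      · rw [map_smul, b.repr_self, Finsupp.smul_apply, Finsupp.single_eq_of_ne (Ne.symm hli),
          smul_zero]
      · rw [map_zero, Finsupp.zero_apply]
    · intro hi'; exact absurd hi hi'
  have : i ∈ (b.repr (∑ l ∈ s, if δ i = δ l then g l • b l else 0)).support := by
    rw [Finsupp.mem_support_iff, hrep]; exact hne
  exact lt_irrefl _ (h2 i this)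

lemma mk_mkCX_mem_span (s : ℕ) (x : B) (hx : x ∈ fil b δ s) :
    Ideal.Quotient.mk (Ideal.span {toRees h Polynomial.X}) (mkCX h s ⟨x, hx⟩) ∈
      Submodule.span K (Set.range (uvec0 h)) := by
  refine Submodule.span_induction
    (p := fun x hx => Ideal.Quotient.mk (Ideal.span {toRees h Polynomial.X}) (mkCX h s ⟨x, hx⟩) ∈
      Submodule.span K (Set.range (uvec0 h)))
    ?_ ?_ ?_ ?_ hx
  · rintro _ ⟨l, hl, rfl⟩
    have hl' : δ l ≤ s := hl
    rcases eq_or_lt_of_le hl' with heq | hlt
    · subst heq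
      exact Submodule.subset_span ⟨l, rfl⟩
    · have : mkCX h s ⟨b l, Submodule.subset_span ⟨l, hl, rfl⟩⟩ ∈
          Ideal.span {toRees h Polynomial.X} :=
        mkCX_mem_span_X h _ (Submodule.subset_span ⟨l, hlt, rfl⟩)
      rw [Ideal.Quotient.eq_zero_iff_mem.2 this]
      exact Submodule.zero_mem _
  · rw [mkCX_zero', map_zero]
    exact Submodule.zero_mem _
  · intro x y hx hy ihx ihy
    rw [mkCX_add' h s x y hx hy, map_add]
    exact Submodule.add_mem _ ihx ihy
  · intro k x hx ihx
    rw [mkCX_smul' h s k x hx]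
    have : Ideal.Quotient.mk (Ideal.span {toRees h Polynomial.X}) (k • mkCX h s ⟨x, hx⟩) =
        k • Ideal.Quotient.mk (Ideal.span {toRees h Polynomial.X}) (mkCX h s ⟨x, hx⟩) :=
      map_smul (Ideal.Quotient.mkₐ K (Ideal.span {toRees h Polynomial.X})) k _
    rw [this]
    exact Submodule.smul_mem _ _ ihx

lemma span_uvec0 : Submodule.span K (Set.range (uvec0 h)) = ⊤ := by
  rw [eq_top_iff]
  rintro y -
  obtain ⟨r, rfl⟩ := Ideal.Quotient.mk_surjective y
  rw [eq_sum_mkCX h r, map_sum]
  exact Submodule.sum_mem _ fun s _ => mk_mkCX_mem_span h s _ _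

/-- Recognition of the fibre at `t = 0`: if an algebra map `Ψ₀ : A → rees` sends `J` into `(t)` and a family
`m` spanning `A` modulo `J` bijectively to the basis vectors, then the fibre is `A ⧸ J`. -/
theorem zeroFibre_equiv {A : Type*} [CommRing A] [Algebra K A] (J : Ideal A) {Γ : Type*} (m : Γ → A)
    (hspan : ∀ f : A, ∃ g ∈ Submodule.span K (Set.range m), f - g ∈ J)
    (Ψ₀ : A →ₐ[K] rees h) (ι : Γ → Λ) (hι : Function.Bijective ι)
    (hm : ∀ γ, Ψ₀ (m γ) = uvec h (ι γ))
    (hJ : ∀ f ∈ J, Ψ₀ f ∈ Ideal.span {toRees h Polynomial.X}) :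
    Nonempty ((rees h ⧸ Ideal.span {toRees h Polynomial.X}) ≃ₐ[K] (A ⧸ J)) := by
  classical
  set I0 : Ideal (rees h) := Ideal.span {toRees h Polynomial.X} with hI0
  let Ψ : A →ₐ[K] rees h ⧸ I0 := (Ideal.Quotient.mkₐ K I0).comp Ψ₀
  have hΨm : ∀ γ, Ψ (m γ) = uvec0 h (ι γ) := fun γ => by
    show Ideal.Quotient.mk I0 (Ψ₀ (m γ)) = _
    rw [hm]; rfl
  have hΨJ : ∀ f ∈ J, Ψ f = 0 := fun f hf => Ideal.Quotient.eq_zero_iff_mem.2 (hJ f hf)
  let Ψbar : A ⧸ J →ₐ[K] rees h ⧸ I0 := Ideal.Quotient.liftₐ J Ψ hΨJ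
  have hΨbar : ∀ f, Ψbar (Ideal.Quotient.mk J f) = Ψ f := fun f => rfl
  have hinj : Function.Injective Ψbar := by
    rw [injective_iff_map_eq_zero]
    intro y hy
    obtain ⟨f, rfl⟩ := Ideal.Quotient.mk_surjective y
    rw [hΨbar] at hy
    obtain ⟨g, hg, hfg⟩ := hspan f
    have hΨg : Ψ g = 0 := by
      have h2 : Ψ (f - g) = 0 := hΨJ _ hfg
      rw [map_sub, hy, zero_sub, neg_eq_zero] at h2
      exact h2
    have hg0 : g = 0 := by
      rw [Finsupp.mem_span_range_iff_exists_finsupp] at hg
      obtain ⟨c, rfl⟩ := hg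
      have hli : LinearIndependent K (uvec0 h ∘ ι) := (linearIndependent_uvec0 h).comp ι hι.1
      have hc : Finsupp.linearCombination K (uvec0 h ∘ ι) c = 0 := by
        rw [← hΨg, Finsupp.linearCombination_apply, map_finsuppSum]
        refine Finsupp.sum_congr fun γ _ => ?_
        rw [map_smul, hΨm]; rfl
      have := (linearIndependent_iff.1 hli) c hc
      rw [this, Finsupp.sum_zero_index]
    rw [Ideal.Quotient.eq_zero_iff_mem]
    rw [hg0, sub_zero] at hfg
    exact hfg
  have hsurj : Function.Surjective Ψbar := by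
    have hr : LinearMap.range Ψbar.toLinearMap = ⊤ := by
      rw [eq_top_iff, ← span_uvec0 h, Submodule.span_le]
      rintro _ ⟨l, rfl⟩
      obtain ⟨γ, rfl⟩ := hι.2 l
      exact ⟨Ideal.Quotient.mk J (m γ), hΨm γ⟩
    exact LinearMap.range_eq_top.1 hr
  exact ⟨(AlgEquiv.ofBijective Ψbar ⟨hinj, hsurj⟩).symm⟩

end Groth.Agent.Lib.ReesBasis
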