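import Mathlib

/-!
# Stanley–Reisner ideals of posets: membership and the monomial basis

For a preorder `σ` the ideal of `MvPolynomial σ K` generated by the products `X a * X b` over the
incomparable pairs consists of the polynomials all of whose monomials have non-chain support.
-/

set_option autoImplicit false
set_option linter.unusedSectionVars false
set_option linter.unusedSimpArgs false
universe u v
open Finset MvPolynomial

namespace Groth.Agent.Lib.SRBasis

variable {σ : Type v} [Preorder σ] (K : Type u) [CommRing K]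

/-- The Stanley–Reisner ideal of the order complex: generated by the products of incomparable pairs. -/
noncomputable def srI : Ideal (MvPolynomial σ K) :=
  Ideal.span {f | ∃ a b : σ, ¬ a ≤ b ∧ ¬ b ≤ a ∧ f = X a * X b}

/-- Exponent vectors of the generators. -/
def srGen : Set (σ →₀ ℕ) :=
  {s | ∃ a b : σ, ¬ a ≤ b ∧ ¬ b ≤ a ∧ s = Finsupp.single a 1 + Finsupp.single b 1}

lemma srI_eq : srI (σ := σ) K = Ideal.span ((fun s => monomial s (1 : K)) '' srGen (σ := σ)) := by
  unfold srI
  congr 1
  ext f
  constructor
  · rintro ⟨a, b, h1, h2, rfl⟩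
    refine ⟨Finsupp.single a 1 + Finsupp.single b 1, ⟨a, b, h1, h2, rfl⟩, ?_⟩
    show monomial (Finsupp.single a 1 + Finsupp.single b 1) (1 : K) = X a * X b
    rw [MvPolynomial.X, MvPolynomial.X, MvPolynomial.monomial_mul, one_mul]
  · rintro ⟨s, ⟨a, b, h1, h2, rfl⟩, rfl⟩
    refine ⟨a, b, h1, h2, ?_⟩
    show monomial (Finsupp.single a 1 + Finsupp.single b 1) (1 : K) = X a * X b
    rw [MvPolynomial.X, MvPolynomial.X, MvPolynomial.monomial_mul, one_mul]

lemma exists_gen_le_iff (e : σ →₀ ℕ) :
    (∃ s ∈ srGen (σ := σ), s ≤ e) ↔ ¬ IsChain (· ≤ ·) (e.support : Set σ) := by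
  classical
  constructor
  · rintro ⟨s, ⟨a, b, h1, h2, rfl⟩, hle⟩ hch
    have hab : a ≠ b := by rintro rfl; exact h1 le_rfl
    have ha : a ∈ e.support := by
      rw [Finsupp.mem_support_iff]
      have := hle a
      simp only [Finsupp.coe_add, Pi.add_apply, Finsupp.single_eq_same] at this
      omega
    have hb : b ∈ e.support := by
      rw [Finsupp.mem_support_iff]
      have := hle b
      simp only [Finsupp.coe_add, Pi.add_apply, Finsupp.single_eq_same] at this
      omega
    rcases hch (Finset.mem_coe.2 ha) (Finset.mem_coe.2 hb) hab with h | h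
    · exact h1 h
    · exact h2 h
  · intro hch
    unfold IsChain Set.Pairwise at hch
    push Not at hch
    obtain ⟨a, ha, b, hb, hab, hnot⟩ := hch
    refine ⟨Finsupp.single a 1 + Finsupp.single b 1, ⟨a, b, hnot.1, hnot.2, rfl⟩, ?_⟩
    intro x
    have ha' : 1 ≤ e a := Nat.one_le_iff_ne_zero.2 (Finsupp.mem_support_iff.1 (Finset.mem_coe.1 ha))
    have hb' : 1 ≤ e b := Nat.one_le_iff_ne_zero.2 (Finsupp.mem_support_iff.1 (Finset.mem_coe.1 hb))
    simp only [Finsupp.coe_add, Pi.add_apply]
    by_cases hxa : x = a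
    · subst hxa
      rw [Finsupp.single_eq_same, Finsupp.single_eq_of_ne hab]
      omega
    · by_cases hxb : x = b
      · subst hxb
        rw [Finsupp.single_eq_same, Finsupp.single_eq_of_ne (Ne.symm hab)]
        omega
      · rw [Finsupp.single_eq_of_ne hxa, Finsupp.single_eq_of_ne hxb]
        omega

/-- Membership in the Stanley–Reisner ideal. -/
theorem mem_srI_iff (f : MvPolynomial σ K) :
    f ∈ srI (σ := σ) K ↔ ∀ e ∈ f.support, ¬ IsChain (· ≤ ·) (e.support : Set σ) := by
  rw [srI_eq, MvPolynomial.mem_ideal_span_monomial_image]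
  exact forall₂_congr fun e _ => exists_gen_le_iff e

lemma monomial_mem_srI {e : σ →₀ ℕ} (h : ¬ IsChain (· ≤ ·) (e.support : Set σ)) (c : K) :
    monomial e c ∈ srI (σ := σ) K := by
  rw [mem_srI_iff]
  intro e' he'
  have := MvPolynomial.support_monomial_subset he'
  rw [Finset.mem_singleton] at this
  rw [this]; exact h

/-- A polynomial supported on chain monomials lying in the Stanley–Reisner ideal is zero. -/
theorem eq_zero_of_mem_srI_of_chain {f : MvPolynomial σ K} (hf : f ∈ srI (σ := σ) K)
    (hch : ∀ e ∈ f.support, IsChain (· ≤ ·) (e.support : Set σ)) : f = 0 := by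
  rw [mem_srI_iff] at hf
  rw [← MvPolynomial.support_eq_empty, Finset.eq_empty_iff_forall_notMem]
  intro e he
  exact hf e he (hch e he)

end Groth.Agent.Lib.SRBasis
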