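import Groth.Agent.Lib.PlSMT6
import Groth.Agent.Lib.SRBasis
import Groth.Agent.Lib.ReesBasis

/-!
# Standard monomial theory, part 7: the degeneration of a Schubert cone to its Stanley–Reisner ring

The coordinate ring `S/J(w)` has the standard monomials on `X(w)` as a `K`-basis; weighted straightening
makes the weight filtration multiplicative, and its Rees algebra is a free `K[t]`-algebra with general fibre
`S/J(w)` and special fibre the Stanley–Reisner ring of the poset `{θ ≤ w}`.
-/

set_option autoImplicit false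
set_option linter.unusedSectionVars false
set_option linter.unusedSimpArgs false
universe u
open Finset MvPolynomial W4bk4grassmannian Groth.Agent.Lib.ReesBasis

noncomputable section

namespace Groth.Agent.Lib.PlSMT

variable {d n : ℕ} (K : Type u) [Field K] [Infinite K] (hd : 0 < d) (w : Idx d n)

/-- The coordinate ring of the cone over the Schubert variety. -/
abbrev SchB : Type u := PlRing K d n ⧸ schubertVanishing K d n w

/-- Index set: the standard monomials on `X(w)`. -/
def StdIdx : Type := {e : Idx d n →₀ ℕ // IsStdOn w e}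

/-- The class of a standard monomial. -/
def stdVec (l : StdIdx w) : SchB K w := Ideal.Quotient.mk _ (monomial l.1 1)

lemma mk_monomial_eq_smul (I : Ideal (PlRing K d n)) (e : Idx d n →₀ ℕ) (c : K) :
    Ideal.Quotient.mk I (monomial e c) = c • Ideal.Quotient.mk I (monomial e 1) := by
  have : monomial e c = c • monomial e (1 : K) := by rw [smul_monomial, smul_eq_mul, mul_one]
  rw [this]
  exact map_smul (Ideal.Quotient.mkₐ K I) c _

include hd in
lemma linearIndependent_stdVec : LinearIndependent K (stdVec K w) := by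
  classical
  rw [linearIndependent_iff']
  intro s g hg i hi
  set f : PlRing K d n := ∑ l ∈ s, monomial l.1 (g l) with hf
  have hfmem : f ∈ schubertVanishing K d n w := by
    rw [← Ideal.Quotient.eq_zero_iff_mem, hf, map_sum, ← hg]
    refine Finset.sum_congr rfl fun l _ => ?_
    exact mk_monomial_eq_smul K _ l.1 (g l)
  have hsupp : ∀ e ∈ f.support, IsStdOn w e := by
    intro e he
    have h1 := MvPolynomial.support_sum he
    rw [Finset.mem_biUnion] at h1
    obtain ⟨l, -, hl⟩ := h1
    have := MvPolynomial.support_monomial_subset hl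
    rw [Finset.mem_singleton] at this
    rw [this]; exact l.2
  have hf0 : f = 0 := eq_zero_of_mem_schubert_of_std K hd w f hfmem hsupp
  have hco : coeff i.1 f = g i := by
    rw [hf, coeff_sum, Finset.sum_eq_single i]
    · rw [coeff_monomial, if_pos rfl]
    · intro l _ hli
      rw [coeff_monomial, if_neg]
      intro h; exact hli (Subtype.ext h)
    · intro hi'; exact absurd hi hi'
  rw [← hco, hf0, coeff_zero]

lemma span_stdVec : ⊤ ≤ Submodule.span K (Set.range (stdVec K w)) := by
  rintro y -
  obtain ⟨f, rfl⟩ := Ideal.Quotient.mk_surjective y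
  obtain ⟨F, hF, hfF⟩ := exists_std_rep K (schubertVanishing K d n w)
    (plIdealTop_le_schubertVanishing K w) (fun θ => θ ≤ w)
    (fun θ hθ => X_mem_schubertVanishing K hθ) f
  have h1 : Ideal.Quotient.mk (schubertVanishing K d n w) f = Ideal.Quotient.mk _ F :=
    Ideal.Quotient.eq.2 hfF
  have hsum := F.as_sum
  rw [h1, hsum, map_sum]
  refine Submodule.sum_mem _ fun e he => ?_
  rw [mk_monomial_eq_smul]
  exact Submodule.smul_mem _ _ (Submodule.subset_span ⟨⟨e, hF e he⟩, rfl⟩)

/-- The standard monomial basis of `S/J(w)`. -/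
def stdBasis : Module.Basis (StdIdx w) K (SchB K w) :=
  Module.Basis.mk (linearIndependent_stdVec K hd w) (span_stdVec K w)

lemma stdBasis_apply (l : StdIdx w) :
    stdBasis K hd w l = Ideal.Quotient.mk (schubertVanishing K d n w) (monomial l.1 1) :=
  Module.Basis.mk_apply _ _ l

/-- The weight of a standard monomial. -/
def stdWt (l : StdIdx w) : ℕ := Wt l.1

lemma Vlt_le_filLt (N : ℕ) :
    Vlt K (schubertVanishing K d n w) N ≤ filLt (stdBasis K hd w) (stdWt w) N := by
  unfold Vlt
  rw [Submodule.span_le]
  rintro _ ⟨e', hch, hlt, rfl⟩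
  by_cases hw : ∀ θ ∈ e'.support, θ ≤ w
  · have : Ideal.Quotient.mk (schubertVanishing K d n w) (monomial e' 1) =
        stdBasis K hd w ⟨e', hch, hw⟩ := by rw [stdBasis_apply]
    rw [this]
    exact Submodule.subset_span ⟨⟨e', hch, hw⟩, hlt, rfl⟩
  · push Not at hw
    obtain ⟨θ, hθ, hθw⟩ := hw
    have : Ideal.Quotient.mk (schubertVanishing K d n w) (monomial e' 1) = 0 :=
      Ideal.Quotient.eq_zero_iff_mem.2 (monomial_mem_schubert K e' 1 θ hθ hθw)
    rw [this]
    exact Submodule.zero_mem _

lemma mk_monomial_mem_filLt (e : Idx d n →₀ ℕ)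
    (hnc : ¬ IsChain (· ≤ ·) (e.support : Set (Idx d n))) :
    Ideal.Quotient.mk (schubertVanishing K d n w) (monomial e 1) ∈
      filLt (stdBasis K hd w) (stdWt w) (Wt e) :=
  Vlt_le_filLt K hd w _ (wstraighten K _ (plIdealTop_le_schubertVanishing K w) _ e rfl hnc)

lemma mk_monomial_mem_fil (e : Idx d n →₀ ℕ) :
    Ideal.Quotient.mk (schubertVanishing K d n w) (monomial e 1) ∈
      fil (stdBasis K hd w) (stdWt w) (Wt e) := by
  by_cases hch : IsChain (· ≤ ·) (e.support : Set (Idx d n))
  · by_cases hw : ∀ θ ∈ e.support, θ ≤ w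
    · have : Ideal.Quotient.mk (schubertVanishing K d n w) (monomial e 1) =
          stdBasis K hd w ⟨e, hch, hw⟩ := by rw [stdBasis_apply]
      rw [this]
      exact basis_mem_fil (stdBasis K hd w) (stdWt w) ⟨e, hch, hw⟩
    · push Not at hw
      obtain ⟨θ, hθ, hθw⟩ := hw
      have : Ideal.Quotient.mk (schubertVanishing K d n w) (monomial e 1) = 0 :=
        Ideal.Quotient.eq_zero_iff_mem.2 (monomial_mem_schubert K e 1 θ hθ hθw)
      rw [this]
      exact Submodule.zero_mem _
  · exact filLt_le_fil _ _ _ (mk_monomial_mem_filLt K hd w e hch)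

lemma isStdOn_zero : IsStdOn w (0 : Idx d n →₀ ℕ) := by
  constructor
  · simp [IsChain]
  · intro θ hθ; simp at hθ

lemma isMulFil : IsMulFil (stdBasis K hd w) (stdWt w) where
  one_mem := by
    have : (1 : SchB K w) = Ideal.Quotient.mk (schubertVanishing K d n w) (monomial 0 1) := by
      rw [show (monomial (0 : Idx d n →₀ ℕ) (1 : K)) = 1 from rfl, map_one]
    rw [this]
    have h := mk_monomial_mem_fil K hd w 0
    rwa [Wt_zero] at h
  mul_mem := by
    intro l l'
    rw [stdBasis_apply, stdBasis_apply, ← map_mul, monomial_mul, one_mul]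
    have h := mk_monomial_mem_fil K hd w (l.1 + l'.1)
    rwa [Wt_add] at h

/-! ### The map to the Rees algebra -/

lemma Wt_single' (θ : Idx d n) (k : ℕ) : Wt (Finsupp.single θ k) = k * wt θ := by
  unfold Wt
  rw [Finsupp.sum_single_index]
  rw [zero_mul]

/-- The graded lift of the quotient map. -/
def Theta : PlRing K d n →ₐ[K] Polynomial (SchB K w) :=
  MvPolynomial.aeval fun θ =>
    Polynomial.C (Ideal.Quotient.mk (schubertVanishing K d n w) (X θ)) * Polynomial.X ^ wt θ

lemma Theta_monomial (e : Idx d n →₀ ℕ) :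
    Theta K w (monomial e 1) =
      Polynomial.C (Ideal.Quotient.mk (schubertVanishing K d n w) (monomial e 1)) *
        Polynomial.X ^ Wt e := by
  induction e using Finsupp.induction_linear with
  | zero =>
    rw [show (monomial (0 : Idx d n →₀ ℕ) (1 : K)) = 1 from rfl, map_one, map_one, map_one, Wt_zero,
      pow_zero, mul_one]
  | add e e' ihe ihe' =>
    have : monomial (e + e') (1 : K) = monomial e 1 * monomial e' 1 := by
      rw [monomial_mul, one_mul]
    rw [this, map_mul, ihe, ihe', Wt_add, pow_add, map_mul, map_mul]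
    ring
  | single θ k =>
    rw [← X_pow_eq_monomial, map_pow, map_pow, map_pow, Wt_single', Theta, aeval_X]
    ring

lemma isStdOn_single (θ : Below w) : IsStdOn w (Finsupp.single θ.1 1) := by
  classical
  have hsupp : (Finsupp.single θ.1 1 : Idx d n →₀ ℕ).support = {θ.1} :=
    Finsupp.support_single_ne_zero _ one_ne_zero
  constructor
  · rw [hsupp, Finset.coe_singleton]
    exact IsChain.singleton
  · intro x hx
    rw [hsupp, Finset.mem_singleton] at hx
    rw [hx]; exact θ.2

/-- The algebra map from the polynomial ring on `{θ ≤ w}` to the Rees algebra. -/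
def Psi0 : MvPolynomial (Below w) K →ₐ[K] rees (isMulFil K hd w) :=
  MvPolynomial.aeval fun θ => uvec (isMulFil K hd w) ⟨Finsupp.single θ.1 1, isStdOn_single w θ⟩

lemma coe_Psi0 (f : MvPolynomial (Below w) K) :
    ((Psi0 K hd w f : rees (isMulFil K hd w)) : Polynomial (SchB K w)) =
      Theta K w (rename Subtype.val f) := by
  have h : (rees (isMulFil K hd w)).val.comp (Psi0 K hd w) =
      (Theta K w).comp (rename Subtype.val) := by
    apply MvPolynomial.algHom_ext
    intro θ
    rw [AlgHom.comp_apply, AlgHom.comp_apply, Psi0, aeval_X, rename_X, Theta, aeval_X]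
    show ((uvec (isMulFil K hd w) ⟨Finsupp.single θ.1 1, isStdOn_single w θ⟩ :
      rees (isMulFil K hd w)) : Polynomial (SchB K w)) = _
    rw [coe_uvec, stdBasis_apply]
    show Polynomial.C (Ideal.Quotient.mk (schubertVanishing K d n w) (X θ.1)) *
      Polynomial.X ^ Wt (Finsupp.single θ.1 1) = _
    rw [Wt_single]
  exact DFunLike.congr_fun h f

lemma support_mapDomain_val (e : Below w →₀ ℕ) :
    (Finsupp.mapDomain Subtype.val e : Idx d n →₀ ℕ).support = e.support.image Subtype.val := by
  classical
  exact Finsupp.mapDomain_support_of_injective Subtype.val_injective e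

lemma isChain_mapDomain (e : Below w →₀ ℕ) :
    IsChain (· ≤ ·) ((Finsupp.mapDomain Subtype.val e : Idx d n →₀ ℕ).support : Set (Idx d n)) ↔
      IsChain (· ≤ ·) (e.support : Set (Below w)) := by
  classical
  rw [support_mapDomain_val]
  constructor
  · intro hc a ha b hb hab
    have ha' : (a : Idx d n) ∈ ((e.support.image Subtype.val : Finset (Idx d n)) : Set (Idx d n)) :=
      Finset.mem_coe.2 (Finset.mem_image_of_mem _ (Finset.mem_coe.1 ha))
    have hb' : (b : Idx d n) ∈ ((e.support.image Subtype.val : Finset (Idx d n)) : Set (Idx d n)) :=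
      Finset.mem_coe.2 (Finset.mem_image_of_mem _ (Finset.mem_coe.1 hb))
    have hne : (a : Idx d n) ≠ b := fun h => hab (Subtype.ext h)
    exact hc ha' hb' hne
  · intro hc a ha b hb hab
    obtain ⟨a', ha', rfl⟩ := Finset.mem_image.1 (Finset.mem_coe.1 ha)
    obtain ⟨b', hb', rfl⟩ := Finset.mem_image.1 (Finset.mem_coe.1 hb)
    have hne : a' ≠ b' := fun h => hab (congrArg Subtype.val h)
    exact hc (Finset.mem_coe.2 ha') (Finset.mem_coe.2 hb') hne

lemma le_of_mem_support_mapDomain (e : Below w →₀ ℕ) (θ : Idx d n)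
    (hθ : θ ∈ (Finsupp.mapDomain Subtype.val e : Idx d n →₀ ℕ).support) : θ ≤ w := by
  classical
  rw [support_mapDomain_val] at hθ
  obtain ⟨a, -, rfl⟩ := Finset.mem_image.1 hθ
  exact a.2

lemma Psi0_monomial_chain (e : Below w →₀ ℕ)
    (hch : IsChain (· ≤ ·) (e.support : Set (Below w))) :
    Psi0 K hd w (monomial e 1) = uvec (isMulFil K hd w)
      ⟨Finsupp.mapDomain Subtype.val e,
        (isChain_mapDomain w e).2 hch, le_of_mem_support_mapDomain w e⟩ := by
  apply Subtype.ext
  rw [coe_Psi0, rename_monomial, Theta_monomial, coe_uvec, stdBasis_apply]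
  rfl

lemma Psi0_monomial_mem (e : Below w →₀ ℕ)
    (hnc : ¬ IsChain (· ≤ ·) (e.support : Set (Below w))) :
    Psi0 K hd w (monomial e 1) ∈
      Ideal.span {toRees (isMulFil K hd w) Polynomial.X} := by
  have hnc' : ¬ IsChain (· ≤ ·)
      ((Finsupp.mapDomain Subtype.val e : Idx d n →₀ ℕ).support : Set (Idx d n)) :=
    fun h => hnc ((isChain_mapDomain w e).1 h)
  have h1 := mk_monomial_mem_filLt K hd w _ hnc'
  have h2 : Psi0 K hd w (monomial e 1) = mkCX (isMulFil K hd w) _
      ⟨_, mk_monomial_mem_fil K hd w (Finsupp.mapDomain Subtype.val e)⟩ := by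
    apply Subtype.ext
    rw [coe_Psi0, rename_monomial, Theta_monomial, coe_mkCX]
  rw [h2]
  exact mkCX_mem_span_X _ _ h1

lemma srIdeal_eq_srI : srIdeal K w = SRBasis.srI (σ := Below w) K := rfl

/-- The special fibre of the Rees algebra is the Stanley–Reisner ring. -/
theorem zeroFibre :
    Nonempty ((rees (isMulFil K hd w) ⧸ Ideal.span {toRees (isMulFil K hd w) Polynomial.X}) ≃ₐ[K]
      (MvPolynomial (Below w) K ⧸ srIdeal K w)) := by
  classical
  refine zeroFibre_equiv (isMulFil K hd w) (srIdeal K w)
    (Γ := {e : Below w →₀ ℕ // IsChain (· ≤ ·) (e.support : Set (Below w))})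
    (fun γ => monomial γ.1 1) ?_ (Psi0 K hd w)
    (fun γ => ⟨Finsupp.mapDomain Subtype.val γ.1,
        (isChain_mapDomain w γ.1).2 γ.2, le_of_mem_support_mapDomain w γ.1⟩) ?_ ?_ ?_
  · -- spanning modulo the Stanley–Reisner ideal
    intro f
    refine ⟨∑ e ∈ f.support.filter (fun e => IsChain (· ≤ ·) (e.support : Set (Below w))),
      monomial e (coeff e f), ?_, ?_⟩
    · refine Submodule.sum_mem _ fun e he => ?_
      have hch := (Finset.mem_filter.1 he).2
      have : monomial e (coeff e f) = coeff e f • monomial e (1 : K) := by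
        rw [smul_monomial, smul_eq_mul, mul_one]
      rw [this]
      exact Submodule.smul_mem _ _ (Submodule.subset_span ⟨⟨e, hch⟩, rfl⟩)
    · have hsplit : f - ∑ e ∈ f.support.filter
            (fun e => IsChain (· ≤ ·) (e.support : Set (Below w))), monomial e (coeff e f) =
          ∑ e ∈ f.support.filter
            (fun e => ¬ IsChain (· ≤ ·) (e.support : Set (Below w))), monomial e (coeff e f) := by
        rw [sub_eq_iff_eq_add']
        conv_lhs => rw [f.as_sum]
        rw [Finset.sum_filter_add_sum_filter_not]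
      rw [hsplit, srIdeal_eq_srI]
      refine Ideal.sum_mem _ fun e he => ?_
      exact SRBasis.monomial_mem_srI K (Finset.mem_filter.1 he).2 _
  · -- the index map is bijective
    constructor
    · intro γ γ' hγ
      have h1 : Finsupp.mapDomain Subtype.val γ.1 = Finsupp.mapDomain Subtype.val γ'.1 :=
        congrArg Subtype.val hγ
      exact Subtype.ext (Finsupp.mapDomain_injective Subtype.val_injective h1)
    · rintro ⟨e', hch, hw⟩
      have hsub : (e'.support : Set (Idx d n)) ⊆ Set.range (Subtype.val : Below w → Idx d n) := by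
        intro θ hθ
        exact ⟨⟨θ, hw θ (Finset.mem_coe.1 hθ)⟩, rfl⟩
      have hmap := Finsupp.mapDomain_comapDomain (Subtype.val : Below w → Idx d n)
        Subtype.val_injective e' hsub
      refine ⟨⟨Finsupp.comapDomain Subtype.val e' Subtype.val_injective.injOn, ?_⟩, ?_⟩
      · rw [← isChain_mapDomain, hmap]; exact hch
      · exact Subtype.ext hmap
  · intro γ
    exact Psi0_monomial_chain K hd w γ.1 γ.2
  · intro f hf
    rw [srIdeal_eq_srI, SRBasis.mem_srI_iff] at hf
    have hsum := f.as_sum
    rw [hsum, map_sum]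
    refine Ideal.sum_mem _ fun e he => ?_
    have : monomial e (coeff e f) = coeff e f • monomial e (1 : K) := by
      rw [smul_monomial, smul_eq_mul, mul_one]
    rw [this, map_smul]
    exact Submodule.smul_of_tower_mem _ _ (Psi0_monomial_mem K hd w e (hf e he))

end Groth.Agent.Lib.PlSMT
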