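import Groth.Agent.Lib.PlSMT7

/-!
# Standard monomial theory, part 8: diagonal leading terms

The weight `ω (a, t) = (t + 1) a` on the entries of the generic echelon matrix makes the diagonal term of each
minor its unique term of top weight.  Since the diagonal terms of distinct standard monomials are distinct,
the top weight of a polynomial in the minors is read off from any standard representation.
-/

set_option autoImplicit false
set_option linter.unusedSectionVars false
set_option linter.unusedSimpArgs false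
universe u
open Finset MvPolynomial W4bk4grassmannian Groth.Agent.Lib.ReesBasis

noncomputable section

namespace Groth.Agent.Lib.PlSMT

/-! ### Leading forms -/

section LF
variable {A : Type*} [CommRing A]

/-- `P` has degree at most `N` and coefficient `m` at degree `N`. -/
def LF (P : Polynomial A) (m : A) (N : ℕ) : Prop := P.natDegree ≤ N ∧ P.coeff N = m

lemma LF.zero (N : ℕ) : LF (0 : Polynomial A) 0 N := ⟨by simp, by simp⟩

lemma LF.one : LF (1 : Polynomial A) 1 0 := ⟨by simp, by simp⟩

lemma LF.CX (a : A) (N : ℕ) : LF (Polynomial.C a * Polynomial.X ^ N) a N :=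
  ⟨Polynomial.natDegree_C_mul_X_pow_le a N, by simp⟩

lemma LF.mul {P Q : Polynomial A} {m m' : A} {N N' : ℕ} (h : LF P m N) (h' : LF Q m' N') :
    LF (P * Q) (m * m') (N + N') :=
  ⟨Polynomial.natDegree_mul_le_of_le h.1 h'.1, by
    rw [Polynomial.coeff_mul_add_eq_of_natDegree_le h.1 h'.1, h.2, h'.2]⟩

lemma LF.pow {P : Polynomial A} {m : A} {N : ℕ} (h : LF P m N) (k : ℕ) :
    LF (P ^ k) (m ^ k) (k * N) := by
  induction k with
  | zero => rw [pow_zero, pow_zero, zero_mul]; exact LF.one
  | succ k ih =>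
    rw [pow_succ, pow_succ, Nat.succ_mul]
    exact ih.mul h

lemma LF.prod {ι : Type*} (s : Finset ι) (f : ι → Polynomial A) (m : ι → A) (N : ι → ℕ)
    (h : ∀ i ∈ s, LF (f i) (m i) (N i)) :
    LF (∏ i ∈ s, f i) (∏ i ∈ s, m i) (∑ i ∈ s, N i) := by
  classical
  induction s using Finset.induction_on with
  | empty => simp only [Finset.prod_empty, Finset.sum_empty]; exact LF.one
  | insert a s ha ih =>
    rw [Finset.prod_insert ha, Finset.prod_insert ha, Finset.sum_insert ha]
    exact (h a (Finset.mem_insert_self a s)).mul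
      (ih fun i hi => h i (Finset.mem_insert_of_mem hi))

lemma LF.sum {ι : Type*} (s : Finset ι) (f : ι → Polynomial A) (m : ι → A) (N : ℕ)
    (h : ∀ i ∈ s, LF (f i) (m i) N) : LF (∑ i ∈ s, f i) (∑ i ∈ s, m i) N :=
  ⟨Polynomial.natDegree_sum_le_of_forall_le s f fun i hi => (h i hi).1, by
    rw [Polynomial.finsetSum_coeff]
    exact Finset.sum_congr rfl fun i hi => (h i hi).2⟩

lemma LF.of_lt {P : Polynomial A} {m : A} {N N' : ℕ} (h : LF P m N) (hN : N < N') : LF P 0 N' :=
  ⟨le_trans h.1 hN.le, Polynomial.coeff_eq_zero_of_natDegree_lt (lt_of_le_of_lt h.1 hN)⟩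

lemma LF.zsmul {P : Polynomial A} {m : A} {N : ℕ} (h : LF P m N) (c : ℤˣ) : LF (c • P) (c • m) N :=
  ⟨le_trans (Polynomial.natDegree_smul_le c P) h.1, by rw [Polynomial.coeff_smul, h.2]⟩

lemma LF.smul {R : Type*} [CommRing R] [Algebra R A] {P : Polynomial A} {m : A} {N : ℕ}
    (h : LF P m N) (c : R) : LF (c • P) (c • m) N :=
  ⟨le_trans (Polynomial.natDegree_smul_le c P) h.1, by rw [Polynomial.coeff_smul, h.2]⟩

lemma LF.sub {P Q : Polynomial A} {m m' : A} {N : ℕ} (h : LF P m N) (h' : LF Q m' N) :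
    LF (P - Q) (m - m') N :=
  ⟨le_trans (Polynomial.natDegree_sub_le P Q) (max_le h.1 h'.1), by
    rw [Polynomial.coeff_sub, h.2, h'.2]⟩

lemma LF.coeff_eq_zero {P : Polynomial A} {N : ℕ} (h : LF P 0 N) (k : ℕ) (hk : N ≤ k) :
    P.coeff k = 0 := by
  rcases eq_or_lt_of_le hk with rfl | hlt
  · exact h.2
  · exact Polynomial.coeff_eq_zero_of_natDegree_lt (lt_of_le_of_lt h.1 hlt)

end LF

/-! ### The diagonal weight -/

variable {d n : ℕ}

/-- The weight of the entry in row `a` and column `t`. -/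
def omega (p : Fin n × Fin d) : ℕ := (p.2.val + 1) * p.1.val

/-- The weight of a Plücker coordinate: the weight of the diagonal term of the minor. -/
def fwt (θ : Idx d n) : ℕ := ∑ t : Fin d, (t.val + 1) * (θ.1 t).val

/-- Rearrangement: the diagonal term has the strictly largest weight. -/
lemma sum_perm_lt (θ : Idx d n) (σ : Equiv.Perm (Fin d)) (hσ : σ ≠ 1) :
    ∑ t : Fin d, (t.val + 1) * (θ.1 (σ t)).val < fwt θ := by
  unfold fwt
  have hmono : Monovary (fun t : Fin d => t.val + 1) (fun t : Fin d => (θ.1 t).val) := by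
    intro i j hij
    have h1 : θ.1 i < θ.1 j := hij
    have h2 : i < j := θ.2.lt_iff_lt.1 h1
    have h3 : i.val < j.val := h2
    show i.val + 1 ≤ j.val + 1
    omega
  rw [Monovary.sum_mul_comp_perm_lt_sum_mul_iff (σ := σ) hmono]
  intro hm
  apply hσ
  -- σ is monotone, hence the identity
  have hσmono : Monotone σ := by
    intro i j hij
    by_contra hlt
    rw [not_le] at hlt
    have h1 : (θ.1 (σ j)).val < (θ.1 (σ i)).val := θ.2 hlt
    have h2 := hm h1
    have h3 : j.val + 1 ≤ i.val + 1 := h2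
    have h4 : i.val ≤ j.val := hij
    have h5 : i = j := Fin.ext (by omega)
    rw [h5] at hlt
    exact lt_irrefl _ hlt
  have hσstrict : StrictMono σ := hσmono.strictMono_of_injective σ.injective
  have hfun : (σ : Fin d → Fin d) = id := by
    rw [← StrictMono.range_inj hσstrict strictMono_id, Set.range_id]
    exact σ.surjective.range_eq
  ext t
  rw [hfun]; rfl

variable (K : Type u) [CommRing K]

/-- The substitution `x_{a,t} ↦ x_{a,t} z ^ ω(a,t)`. -/
def Phi : MvPolynomial (Fin n × Fin d) K →ₐ[K] Polynomial (MvPolynomial (Fin n × Fin d) K) :=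
  MvPolynomial.aeval fun p => Polynomial.C (X p) * Polynomial.X ^ omega p

lemma LF_entry (w : Idx d n) (a : Fin n) (t : Fin d) :
    LF (Phi K (genEch K w a t)) (genEch K w a t) (omega (a, t)) := by
  rw [genEch, Matrix.of_apply]
  split_ifs with h
  · rw [Phi, aeval_X]
    exact LF.CX _ _
  · rw [map_zero]
    exact LF.zero _

lemma LF_minor (w θ : Idx d n) :
    LF (Phi K (((genEch K w).submatrix θ.1 id).det)) (∏ t, genEch K w (θ.1 t) t) (fwt θ) := by
  classical
  rw [Matrix.det_apply, map_sum]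
  have hterm : ∀ σ ∈ (Finset.univ : Finset (Equiv.Perm (Fin d))),
      LF (Phi K (Equiv.Perm.sign σ • ∏ t, ((genEch K w).submatrix θ.1 id) (σ t) t))
        (if σ = 1 then ∏ t, genEch K w (θ.1 t) t else 0) (fwt θ) := by
    intro σ _
    have h1 : Phi K (Equiv.Perm.sign σ • ∏ t, ((genEch K w).submatrix θ.1 id) (σ t) t) =
        Equiv.Perm.sign σ • ∏ t, Phi K (genEch K w (θ.1 (σ t)) t) := by
      rw [Units.smul_def, Units.smul_def, map_zsmul, map_prod]
      rfl
    rw [h1]
    have h2 : LF (∏ t, Phi K (genEch K w (θ.1 (σ t)) t)) (∏ t, genEch K w (θ.1 (σ t)) t)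
        (∑ t : Fin d, omega (θ.1 (σ t), t)) :=
      LF.prod _ _ _ _ fun t _ => LF_entry K w _ t
    by_cases hσ : σ = 1
    · subst hσ
      rw [if_pos rfl, Equiv.Perm.sign_one, one_smul]
      exact h2
    · rw [if_neg hσ]
      have h3 : ∑ t : Fin d, omega (θ.1 (σ t), t) < fwt θ := sum_perm_lt θ σ hσ
      have h4 := (h2.of_lt h3).zsmul (Equiv.Perm.sign σ)
      rwa [smul_zero] at h4
  have := LF.sum _ _ _ _ hterm
  rwa [Finset.sum_ite_eq' Finset.univ (1 : Equiv.Perm (Fin d)), if_pos (Finset.mem_univ _)] at this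

/-- The weight of a monomial in the Plücker coordinates. -/
def FWt (e : Idx d n →₀ ℕ) : ℕ := e.sum fun θ k => k * fwt θ

lemma FWt_add (e e' : Idx d n →₀ ℕ) : FWt (e + e') = FWt e + FWt e' := by
  unfold FWt
  exact Finsupp.sum_add_index' (fun _ => by simp) (fun _ _ _ => by ring)

lemma FWt_single (θ : Idx d n) (k : ℕ) : FWt (Finsupp.single θ k) = k * fwt θ := by
  unfold FWt
  rw [Finsupp.sum_single_index]
  rw [zero_mul]

@[simp] lemma FWt_zero : FWt (0 : Idx d n →₀ ℕ) = 0 := by
  unfold FWt; simp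

lemma LF_monomial (w : Idx d n) (e : Idx d n →₀ ℕ) :
    LF (Phi K (evalG K w (monomial e 1)))
      (e.prod fun θ k => (∏ t, genEch K w (θ.1 t) t) ^ k) (FWt e) := by
  have h1 : Phi K (evalG K w (monomial e 1)) =
      ∏ θ ∈ e.support, (Phi K (((genEch K w).submatrix θ.1 id).det)) ^ (e θ) := by
    rw [evalG, aeval_monomial, map_one, one_mul, Finsupp.prod, map_prod]
    refine Finset.prod_congr rfl fun θ _ => ?_
    rw [map_pow]
  rw [h1]
  exact LF.prod _ _ _ _ fun θ _ => (LF_minor K w θ).pow (e θ)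

/-- The exponent vector of the diagonal term of the minor on the rows `θ`. -/
def rowv (θ : Idx d n) : (Fin n × Fin d) →₀ ℕ := ∑ t : Fin d, Finsupp.single (θ.1 t, t) 1

/-- The exponent vector of the diagonal term of a monomial in the minors. -/
def Ev (e : Idx d n →₀ ℕ) : (Fin n × Fin d) →₀ ℕ := e.sum fun θ k => k • rowv θ

lemma diag_eq {w θ : Idx d n} (h : θ ≤ w) :
    ∏ t, genEch K w (θ.1 t) t = monomial (rowv θ) 1 := by
  unfold rowv
  rw [monomial_sum_one]
  refine Finset.prod_congr rfl fun t _ => ?_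
  rw [genEch, Matrix.of_apply, if_pos (h t)]
  rfl

lemma LF_monomial_std (w : Idx d n) (e : Idx d n →₀ ℕ) (he : ∀ θ ∈ e.support, θ ≤ w) :
    LF (Phi K (evalG K w (monomial e 1))) (monomial (Ev e) 1) (FWt e) := by
  have h := LF_monomial K w e
  have h2 : (e.prod fun θ k => (∏ t, genEch K w (θ.1 t) t) ^ k) = monomial (Ev e) (1 : K) := by
    unfold Ev
    rw [monomial_finsupp_sum_index, map_one, one_mul]
    refine Finset.prod_congr rfl fun θ hθ => ?_
    show (∏ t, genEch K w (θ.1 t) t) ^ (e θ) = monomial (e θ • rowv θ) 1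
    rw [diag_eq K (he θ hθ), monomial_pow, one_pow]
  rwa [h2] at h

/-! ### The diagonal terms of distinct standard monomials are distinct -/

lemma rowv_apply (θ : Idx d n) (a : Fin n) (t : Fin d) :
    rowv θ (a, t) = if θ.1 t = a then 1 else 0 := by
  classical
  unfold rowv
  rw [Finsupp.finsetSum_apply]
  rw [Finset.sum_eq_single t]
  · by_cases h : θ.1 t = a
    · rw [if_pos h, h, Finsupp.single_eq_same]
    · rw [if_neg h, Finsupp.single_eq_of_ne]
      intro h'
      exact h (congrArg Prod.fst h').symm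
  · intro t' _ ht'
    rw [Finsupp.single_eq_of_ne]
    intro h'
    exact ht' (congrArg Prod.snd h').symm
  · intro h; exact absurd (Finset.mem_univ t) h

lemma Ev_apply (e : Idx d n →₀ ℕ) (a : Fin n) (t : Fin d) :
    Ev e (a, t) = e.sum fun θ k => if θ.1 t = a then k else 0 := by
  unfold Ev
  rw [Finsupp.sum_apply]
  refine Finsupp.sum_congr fun θ _ => ?_
  rw [Finsupp.smul_apply, rowv_apply, smul_eq_mul]
  split_ifs <;> simp

lemma Ev_add (e e' : Idx d n →₀ ℕ) : Ev (e + e') = Ev e + Ev e' := by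
  unfold Ev
  exact Finsupp.sum_add_index' (fun _ => by simp) (fun _ _ _ => by rw [add_smul])

lemma Ev_single (θ : Idx d n) (k : ℕ) : Ev (Finsupp.single θ k) = k • rowv θ := by
  unfold Ev
  rw [Finsupp.sum_single_index]
  rw [zero_smul]

lemma Ev_pos_of_mem {e : Idx d n →₀ ℕ} {θ : Idx d n} (hθ : θ ∈ e.support) (t : Fin d) :
    0 < Ev e (θ.1 t, t) := by
  rw [Ev_apply, Finsupp.sum]
  have h1 : (if θ.1 t = θ.1 t then e θ else 0) ≤
      ∑ θ' ∈ e.support, if θ'.1 t = θ.1 t then e θ' else 0 :=
    Finset.single_le_sum (f := fun θ' => if θ'.1 t = θ.1 t then e θ' else 0)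
      (fun _ _ => Nat.zero_le _) hθ
  rw [if_pos rfl] at h1
  exact lt_of_lt_of_le (Nat.pos_of_ne_zero (Finsupp.mem_support_iff.1 hθ)) h1

lemma exists_of_Ev_pos {e : Idx d n →₀ ℕ} {a : Fin n} {t : Fin d} (h : 0 < Ev e (a, t)) :
    ∃ θ ∈ e.support, θ.1 t = a := by
  rw [Ev_apply, Finsupp.sum] at h
  by_contra hcon
  push Not at hcon
  have : ∑ θ ∈ e.support, (if θ.1 t = a then e θ else 0) = 0 :=
    Finset.sum_eq_zero fun θ hθ => if_neg (hcon θ hθ)
  rw [this] at h
  exact lt_irrefl _ h

/-- A chain-supported monomial is determined by its diagonal term. -/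
theorem Ev_injOn_chain (hd : 0 < d) :
    ∀ (N : ℕ) (e e' : Idx d n →₀ ℕ), e.degree ≤ N →
      IsChain (· ≤ ·) (e.support : Set (Idx d n)) → IsChain (· ≤ ·) (e'.support : Set (Idx d n)) →
      Ev e = Ev e' → e = e' := by
  classical
  intro N
  induction N with
  | zero =>
    intro e e' hdeg _ _ hE
    have he0 : e = 0 := (Finsupp.degree_eq_zero_iff e).1 (Nat.le_zero.1 hdeg)
    subst he0
    by_contra hne
    have hne' : e' ≠ 0 := fun h => hne h.symm
    obtain ⟨θ, hθ⟩ := Finsupp.support_nonempty_iff.2 hne'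
    have := Ev_pos_of_mem hθ ⟨0, hd⟩
    rw [← hE] at this
    simp [Ev] at this
  | succ N ih =>
    intro e e' hdeg hc hc' hE
    by_cases he0 : e = 0
    · subst he0
      by_contra hne
      have hne' : e' ≠ 0 := fun h => hne h.symm
      obtain ⟨θ, hθ⟩ := Finsupp.support_nonempty_iff.2 hne'
      have := Ev_pos_of_mem hθ ⟨0, hd⟩
      rw [← hE] at this
      simp [Ev] at this
    · have he0' : e' ≠ 0 := by
        rintro rfl
        obtain ⟨θ, hθ⟩ := Finsupp.support_nonempty_iff.2 he0
        have := Ev_pos_of_mem hθ ⟨0, hd⟩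
        rw [hE] at this
        simp [Ev] at this
      obtain ⟨m, hm, hmtop⟩ := exists_top hc he0
      obtain ⟨m', hm', hmtop'⟩ := exists_top hc' he0'
      have hle : ∀ {e₁ e₂ : Idx d n →₀ ℕ} {m₁ m₂ : Idx d n}, Ev e₁ = Ev e₂ → m₁ ∈ e₁.support →
          (∀ x ∈ e₂.support, x ≤ m₂) → m₁ ≤ m₂ := by
        intro e₁ e₂ m₁ m₂ hEE hm₁ htop₂ t
        have h1 := Ev_pos_of_mem hm₁ t
        rw [hEE] at h1
        obtain ⟨θ, hθ, hθt⟩ := exists_of_Ev_pos h1
        rw [← hθt]
        exact htop₂ θ hθ t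
      have hmm : m = m' := le_antisymm (hle hE hm hmtop') (hle hE.symm hm' hmtop)
      subst hmm
      have h1 : 1 ≤ e m := Nat.one_le_iff_ne_zero.2 (Finsupp.mem_support_iff.1 hm)
      have h1' : 1 ≤ e' m := Nat.one_le_iff_ne_zero.2 (Finsupp.mem_support_iff.1 hm')
      have hsplit : ∀ {e₁ : Idx d n →₀ ℕ}, 1 ≤ e₁ m →
          Finsupp.single m 1 + (e₁ - Finsupp.single m 1) = e₁ := by
        intro e₁ h
        refine Finsupp.ext fun θ => ?_
        by_cases hθ : θ = m
        · subst hθ
          simp only [Finsupp.coe_add, Pi.add_apply, Finsupp.single_eq_same, Finsupp.coe_tsub,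
            Pi.sub_apply]
          omega
        · simp only [Finsupp.coe_add, Pi.add_apply, Finsupp.coe_tsub, Pi.sub_apply,
            Finsupp.single_eq_of_ne hθ]
          omega
      have hsub : ∀ {e₁ : Idx d n →₀ ℕ}, (e₁ - Finsupp.single m 1).support ⊆ e₁.support := by
        intro e₁ θ hθ
        rw [Finsupp.mem_support_iff] at hθ ⊢
        intro h0
        apply hθ
        rw [Finsupp.tsub_apply, h0, Nat.zero_sub]
      have hEsub : Ev (e - Finsupp.single m 1) = Ev (e' - Finsupp.single m 1) := by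
        have h2 : Ev e = Ev (Finsupp.single m 1) + Ev (e - Finsupp.single m 1) := by
          rw [← Ev_add, hsplit h1]
        have h2' : Ev e' = Ev (Finsupp.single m 1) + Ev (e' - Finsupp.single m 1) := by
          rw [← Ev_add, hsplit h1']
        rw [h2, h2'] at hE
        exact add_left_cancel hE
      have hdeg' : (e - Finsupp.single m 1).degree ≤ N := by
        have h3 : e.degree = (Finsupp.single m 1).degree + (e - Finsupp.single m 1).degree := by
          rw [← map_add, hsplit h1]
        rw [Finsupp.degree_single] at h3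
        omega
      have := ih (e - Finsupp.single m 1) (e' - Finsupp.single m 1) hdeg'
        (hc.mono (Finset.coe_subset.2 hsub)) (hc'.mono (Finset.coe_subset.2 hsub)) hEsub
      rw [← hsplit h1, ← hsplit h1', this]

/-! ### Reading off the top weight from a standard representation -/

theorem FWt_lt_of_coeff_eq_zero (hd : 0 < d) (w : Idx d n) (G : PlRing K d n)
    (hG : ∀ e ∈ G.support, IsStdOn w e) (N : ℕ)
    (h0 : ∀ k, N ≤ k → (Phi K (evalG K w G)).coeff k = 0) : ∀ e ∈ G.support, FWt e < N := by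
  classical
  by_contra hcon
  push Not at hcon
  obtain ⟨e₁, he₁, hNe₁⟩ := hcon
  set S' := G.support.filter (fun e => N ≤ FWt e) with hS'
  have hS'ne : S'.Nonempty := ⟨e₁, Finset.mem_filter.2 ⟨he₁, hNe₁⟩⟩
  obtain ⟨e₀, he₀, hmax⟩ := Finset.exists_max_image S' FWt hS'ne
  rw [hS', Finset.mem_filter] at he₀
  set W := FWt e₀ with hW
  have hall : ∀ e ∈ G.support, FWt e ≤ W := by
    intro e he
    by_cases hNe : N ≤ FWt e
    · exact hmax e (Finset.mem_filter.2 ⟨he, hNe⟩)
    · exact le_trans (not_le.1 hNe).le he₀.2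
  have hexp : Phi K (evalG K w G) =
      ∑ e ∈ G.support, MvPolynomial.coeff e G • Phi K (evalG K w (monomial e 1)) := by
    conv_lhs => rw [G.as_sum]
    rw [map_sum, map_sum]
    refine Finset.sum_congr rfl fun e _ => ?_
    have : monomial e (MvPolynomial.coeff e G) = MvPolynomial.coeff e G • monomial e (1 : K) := by
      rw [smul_monomial, smul_eq_mul, mul_one]
    rw [this, map_smul, map_smul]
  have hcoeff : (Phi K (evalG K w G)).coeff W =
      ∑ e ∈ G.support, if FWt e = W then monomial (Ev e) (MvPolynomial.coeff e G) else 0 := by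
    rw [hexp, Polynomial.finsetSum_coeff]
    refine Finset.sum_congr rfl fun e he => ?_
    have hLF := LF_monomial_std K w e (hG e he).2
    rw [Polynomial.coeff_smul]
    split_ifs with hWe
    · rw [← hWe, hLF.2, smul_monomial, smul_eq_mul, mul_one]
    · have hlt : FWt e < W := lt_of_le_of_ne (hall e he) hWe
      rw [Polynomial.coeff_eq_zero_of_natDegree_lt (lt_of_le_of_lt hLF.1 hlt), smul_zero]
  have hzero := h0 W he₀.2
  rw [hcoeff] at hzero
  have h2 := congrArg (MvPolynomial.coeff (Ev e₀)) hzero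
  rw [MvPolynomial.coeff_sum, MvPolynomial.coeff_zero, Finset.sum_eq_single e₀] at h2
  · rw [if_pos rfl, MvPolynomial.coeff_monomial, if_pos rfl] at h2
    exact (MvPolynomial.mem_support_iff.1 he₀.1) h2
  · intro e he hne
    split_ifs with hWe
    · rw [MvPolynomial.coeff_monomial, if_neg]
      intro hEE
      exact hne (Ev_injOn_chain hd e.degree e e₀ le_rfl (hG e he).1 (hG e₀ he₀.1).1 hEE)
    · rw [MvPolynomial.coeff_zero]
  · intro h; exact absurd he₀.1 h

end Groth.Agent.Lib.PlSMT

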