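import Groth.Agent.Lib.PlSMT8

/-!
# Standard monomial theory, part 9: the toric degeneration of a Schubert cone to its Hibi ring

With the diagonal weight the filtration of `S/J(w)` by standard monomials is multiplicative, and
`X_a X_b - X_{a ∨ b} X_{a ∧ b}` has strictly smaller weight than `X_a X_b`; the special fibre of the Rees
algebra is the Hibi ring of the lattice `{θ ≤ w}`.
-/

set_option autoImplicit false
set_option linter.unusedSectionVars false
set_option linter.unusedSimpArgs false
universe u
open Finset MvPolynomial W4bk4grassmannian Groth.Agent.Lib.ReesBasis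

noncomputable section

namespace Groth.Agent.Lib.PlSMT

variable {d n : ℕ} (K : Type u) [Field K] [Infinite K] (hd : 0 < d) (w : Idx d n)

/-- The diagonal weight of a standard monomial. -/
def stdFWt (l : StdIdx w) : ℕ := FWt l.1

theorem mk_mem_filLt' (f : PlRing K d n) (N : ℕ)
    (h0 : ∀ k, N ≤ k → (Phi K (evalG K w f)).coeff k = 0) :
    Ideal.Quotient.mk (schubertVanishing K d n w) f ∈
      filLt (stdBasis K hd w) (stdFWt w) N := by
  obtain ⟨G, hG, hfG⟩ := exists_std_rep K (schubertVanishing K d n w)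
    (plIdealTop_le_schubertVanishing K w) (fun θ => θ ≤ w)
    (fun θ hθ => X_mem_schubertVanishing K hθ) f
  have hev : evalG K w f = evalG K w G := by
    have := evalG_eq_zero_of_mem K w (f - G) hfG
    rwa [map_sub, sub_eq_zero] at this
  rw [hev] at h0
  have hlt := FWt_lt_of_coeff_eq_zero K hd w G hG N h0
  have h1 : Ideal.Quotient.mk (schubertVanishing K d n w) f = Ideal.Quotient.mk _ G :=
    Ideal.Quotient.eq.2 hfG
  have hsum := G.as_sum
  rw [h1, hsum, map_sum]
  refine Submodule.sum_mem _ fun e he => ?_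
  rw [mk_monomial_eq_smul]
  refine Submodule.smul_mem _ _ ?_
  have : Ideal.Quotient.mk (schubertVanishing K d n w) (monomial e 1) =
      stdBasis K hd w ⟨e, hG e he⟩ := by rw [stdBasis_apply]
  rw [this]
  exact Submodule.subset_span ⟨⟨e, hG e he⟩, hlt e he, rfl⟩

lemma isMulFil' : IsMulFil (stdBasis K hd w) (stdFWt w) where
  one_mem := by
    have h1 : (1 : SchB K w) = stdBasis K hd w ⟨0, isStdOn_zero w⟩ := by
      rw [stdBasis_apply]
      show (1 : SchB K w) = Ideal.Quotient.mk (schubertVanishing K d n w) (monomial 0 1)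
      rw [show (monomial (0 : Idx d n →₀ ℕ) (1 : K)) = 1 from rfl, map_one]
    rw [h1]
    have h := basis_mem_fil (stdBasis K hd w) (stdFWt w) ⟨0, isStdOn_zero w⟩
    rwa [show stdFWt w ⟨0, isStdOn_zero w⟩ = 0 from FWt_zero] at h
  mul_mem := by
    intro l l'
    rw [stdBasis_apply, stdBasis_apply, ← map_mul, monomial_mul, one_mul, ← filLt_succ]
    apply mk_mem_filLt'
    intro k hk
    have hLF := LF_monomial K w (l.1 + l'.1)
    rw [FWt_add] at hLF
    exact Polynomial.coeff_eq_zero_of_natDegree_lt (lt_of_le_of_lt hLF.1 hk)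

/-! ### The Hibi relations hold up to lower weight -/

lemma fwt_sup_add_inf (a b : Idx d n) :
    fwt (W4bk4grassmannian.sup a b) + fwt (W4bk4grassmannian.inf a b) = fwt a + fwt b := by
  unfold fwt
  rw [← Finset.sum_add_distrib, ← Finset.sum_add_distrib]
  refine Finset.sum_congr rfl fun t _ => ?_
  show (t.val + 1) * (max (a.1 t) (b.1 t)).val + (t.val + 1) * (min (a.1 t) (b.1 t)).val = _
  rcases le_total (a.1 t) (b.1 t) with h | h
  · rw [max_eq_right h, min_eq_left h]; ring
  · rw [max_eq_left h, min_eq_right h]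

lemma rowv_sup_add_inf (a b : Idx d n) :
    rowv (W4bk4grassmannian.sup a b) + rowv (W4bk4grassmannian.inf a b) = rowv a + rowv b := by
  unfold rowv
  rw [← Finset.sum_add_distrib, ← Finset.sum_add_distrib]
  refine Finset.sum_congr rfl fun t _ => ?_
  show Finsupp.single (max (a.1 t) (b.1 t), t) 1 + Finsupp.single (min (a.1 t) (b.1 t), t) 1 = _
  rcases le_total (a.1 t) (b.1 t) with h | h
  · rw [max_eq_right h, min_eq_left h, add_comm]
  · rw [max_eq_left h, min_eq_right h]

lemma X_mul_X (a b : Idx d n) :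
    (X a * X b : PlRing K d n) = monomial (Finsupp.single a 1 + Finsupp.single b 1) 1 := by
  rw [MvPolynomial.X, MvPolynomial.X, monomial_mul, one_mul]

theorem key_hibi (a b : Below w) :
    Ideal.Quotient.mk (schubertVanishing K d n w)
        (X a.1 * X b.1 - X (W4bk4grassmannian.sup a.1 b.1) * X (W4bk4grassmannian.inf a.1 b.1)) ∈
      filLt (stdBasis K hd w) (stdFWt w) (fwt a.1 + fwt b.1) := by
  classical
  apply mk_mem_filLt'
  have hsupw : W4bk4grassmannian.sup a.1 b.1 ≤ w := (Below.sup a b).2
  have hinfw : W4bk4grassmannian.inf a.1 b.1 ≤ w := (Below.inf a b).2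
  have hsupp : ∀ {x y : Idx d n}, x ≤ w → y ≤ w →
      ∀ θ ∈ (Finsupp.single x 1 + Finsupp.single y 1 : Idx d n →₀ ℕ).support, θ ≤ w := by
    intro x y hx hy θ hθ
    have h1 := Finsupp.support_add hθ
    rw [Finset.mem_union] at h1
    rcases h1 with h1 | h1
    · have := Finsupp.support_single_subset h1
      rw [Finset.mem_singleton] at this
      rw [this]; exact hx
    · have := Finsupp.support_single_subset h1
      rw [Finset.mem_singleton] at this
      rw [this]; exact hy
  have hLF1 := LF_monomial_std K w (Finsupp.single a.1 1 + Finsupp.single b.1 1) (hsupp a.2 b.2)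
  have hLF2 := LF_monomial_std K w
    (Finsupp.single (W4bk4grassmannian.sup a.1 b.1) 1 +
      Finsupp.single (W4bk4grassmannian.inf a.1 b.1) 1) (hsupp hsupw hinfw)
  rw [Ev_add, Ev_single, Ev_single, one_smul, one_smul, FWt_add, FWt_single, FWt_single, one_mul,
    one_mul] at hLF1 hLF2
  rw [rowv_sup_add_inf, fwt_sup_add_inf] at hLF2
  have hLF := hLF1.sub hLF2
  rw [sub_self, ← map_sub, ← map_sub, ← X_mul_X, ← X_mul_X] at hLF
  exact hLF.coeff_eq_zero

/-! ### The map from the polynomial ring on `{θ ≤ w}` to the Rees algebra -/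

/-- The graded lift of the quotient map for the diagonal weight. -/
def ThetaF : PlRing K d n →ₐ[K] Polynomial (SchB K w) :=
  MvPolynomial.aeval fun θ =>
    Polynomial.C (Ideal.Quotient.mk (schubertVanishing K d n w) (X θ)) * Polynomial.X ^ fwt θ

lemma ThetaF_monomial (e : Idx d n →₀ ℕ) :
    ThetaF K w (monomial e 1) =
      Polynomial.C (Ideal.Quotient.mk (schubertVanishing K d n w) (monomial e 1)) *
        Polynomial.X ^ FWt e := by
  induction e using Finsupp.induction_linear with
  | zero =>
    rw [show (monomial (0 : Idx d n →₀ ℕ) (1 : K)) = 1 from rfl, map_one, map_one, map_one, FWt_zero,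
      pow_zero, mul_one]
  | add e e' ihe ihe' =>
    have : monomial (e + e') (1 : K) = monomial e 1 * monomial e' 1 := by
      rw [monomial_mul, one_mul]
    rw [this, map_mul, ihe, ihe', FWt_add, pow_add, map_mul, map_mul]
    ring
  | single θ k =>
    rw [← X_pow_eq_monomial, map_pow, map_pow, map_pow, FWt_single, ThetaF, aeval_X]
    ring

/-- The algebra map from the polynomial ring on `{θ ≤ w}` to the Rees algebra. -/
def Psi0F : MvPolynomial (Below w) K →ₐ[K] rees (isMulFil' K hd w) :=
  MvPolynomial.aeval fun θ => uvec (isMulFil' K hd w) ⟨Finsupp.single θ.1 1, isStdOn_single w θ⟩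

lemma coe_Psi0F (f : MvPolynomial (Below w) K) :
    ((Psi0F K hd w f : rees (isMulFil' K hd w)) : Polynomial (SchB K w)) =
      ThetaF K w (rename Subtype.val f) := by
  have h : (rees (isMulFil' K hd w)).val.comp (Psi0F K hd w) =
      (ThetaF K w).comp (rename Subtype.val) := by
    apply MvPolynomial.algHom_ext
    intro θ
    rw [AlgHom.comp_apply, AlgHom.comp_apply, Psi0F, aeval_X, rename_X, ThetaF, aeval_X]
    show ((uvec (isMulFil' K hd w) ⟨Finsupp.single θ.1 1, isStdOn_single w θ⟩ :
      rees (isMulFil' K hd w)) : Polynomial (SchB K w)) = _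
    rw [coe_uvec, stdBasis_apply]
    show Polynomial.C (Ideal.Quotient.mk (schubertVanishing K d n w) (X θ.1)) *
      Polynomial.X ^ FWt (Finsupp.single θ.1 1) = _
    rw [FWt_single, one_mul]
  exact DFunLike.congr_fun h f

lemma Psi0F_monomial_chain (e : Below w →₀ ℕ)
    (hch : IsChain (· ≤ ·) (e.support : Set (Below w))) :
    Psi0F K hd w (monomial e 1) = uvec (isMulFil' K hd w)
      ⟨Finsupp.mapDomain Subtype.val e,
        (isChain_mapDomain w e).2 hch, le_of_mem_support_mapDomain w e⟩ := by
  apply Subtype.ext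
  rw [coe_Psi0F, rename_monomial, ThetaF_monomial, coe_uvec, stdBasis_apply]
  rfl

lemma Psi0F_gen_mem (a b : Below w) :
    Psi0F K hd w (X a * X b - X (Below.sup a b) * X (Below.inf a b)) ∈
      Ideal.span {toRees (isMulFil' K hd w) Polynomial.X} := by
  have h1 := key_hibi K hd w a b
  have h2 : Psi0F K hd w (X a * X b - X (Below.sup a b) * X (Below.inf a b)) =
      mkCX (isMulFil' K hd w) (fwt a.1 + fwt b.1)
        ⟨_, filLt_le_fil _ _ _ h1⟩ := by
    apply Subtype.ext
    rw [coe_Psi0F, coe_mkCX, map_sub, map_mul, map_mul, rename_X, rename_X, rename_X, rename_X,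
      map_sub, map_mul, map_mul, ThetaF, aeval_X, aeval_X, aeval_X, aeval_X]
    show _ = Polynomial.C (Ideal.Quotient.mk (schubertVanishing K d n w)
      (X a.1 * X b.1 - X (W4bk4grassmannian.sup a.1 b.1) * X (W4bk4grassmannian.inf a.1 b.1))) *
        Polynomial.X ^ (fwt a.1 + fwt b.1)
    have hw : fwt (Below.sup a b).1 + fwt (Below.inf a b).1 = fwt a.1 + fwt b.1 :=
      fwt_sup_add_inf a.1 b.1
    rw [map_sub, map_mul, map_mul, map_sub, map_mul, map_mul, sub_mul]
    congr 1
    · rw [pow_add]; ring
    · rw [← hw, pow_add]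
      show _ = Polynomial.C (Ideal.Quotient.mk (schubertVanishing K d n w) (X (Below.sup a b).1)) *
        Polynomial.C (Ideal.Quotient.mk (schubertVanishing K d n w) (X (Below.inf a b).1)) * _
      ring
  rw [h2]
  exact mkCX_mem_span_X _ _ h1

/-! ### Straightening in the Hibi ring -/

lemma rho_sup_add_inf (a b : Idx d n) :
    rho (W4bk4grassmannian.sup a b) + rho (W4bk4grassmannian.inf a b) = rho a + rho b := by
  unfold rho esum
  rw [← Finset.sum_add_distrib, ← Finset.sum_add_distrib]
  refine Finset.sum_congr rfl fun t _ => ?_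
  show (max (a.1 t) (b.1 t)).val + (min (a.1 t) (b.1 t)).val = _
  rcases le_total (a.1 t) (b.1 t) with h | h
  · rw [max_eq_right h, min_eq_left h, add_comm]
  · rw [max_eq_left h, min_eq_right h]

lemma lt_sup_left {a b : Idx d n} (h : ¬ b ≤ a) : a < W4bk4grassmannian.sup a b := by
  rw [lt_iff_le_and_ne]
  refine ⟨fun t => le_max_left _ _, fun heq => h ?_⟩
  intro t
  have : (W4bk4grassmannian.sup a b).1 t = a.1 t := by rw [← heq]
  have h2 : max (a.1 t) (b.1 t) = a.1 t := this
  exact max_eq_left_iff.1 h2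

lemma lt_sup_right {a b : Idx d n} (h : ¬ a ≤ b) : b < W4bk4grassmannian.sup a b := by
  rw [lt_iff_le_and_ne]
  refine ⟨fun t => le_max_right _ _, fun heq => h ?_⟩
  intro t
  have : (W4bk4grassmannian.sup a b).1 t = b.1 t := by rw [← heq]
  have h2 : max (a.1 t) (b.1 t) = b.1 t := this
  exact max_eq_right_iff.1 h2

lemma wt_sup_inf_lt {a b : Idx d n} (h1 : ¬ a ≤ b) (h2 : ¬ b ≤ a) :
    wt (W4bk4grassmannian.sup a b) + wt (W4bk4grassmannian.inf a b) < wt a + wt b := by
  rcases le_total (rho b) (rho a) with h | h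
  · exact wt_add_lt (lt_sup_left h2) (rho_sup_add_inf a b) h
  · have := wt_add_lt (lt_sup_right h1) (by rw [rho_sup_add_inf a b, add_comm]) h
    rwa [add_comm (wt b) (wt a)] at this

theorem hibi_straighten : ∀ (N : ℕ) (e : Below w →₀ ℕ),
    Wt (Finsupp.mapDomain Subtype.val e : Idx d n →₀ ℕ) = N →
      ∃ e' : Below w →₀ ℕ, IsChain (· ≤ ·) (e'.support : Set (Below w)) ∧
        monomial e (1 : K) - monomial e' 1 ∈ hibiIdeal K w := by
  classical
  intro N
  induction N using Nat.strong_induction_on with
  | _ N IH =>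
  intro e heN
  by_cases hch : IsChain (· ≤ ·) (e.support : Set (Below w))
  · exact ⟨e, hch, by rw [sub_self]; exact Ideal.zero_mem _⟩
  · unfold IsChain Set.Pairwise at hch
    push Not at hch
    obtain ⟨a, ha, b, hb, hab, hnot⟩ := hch
    have hnab : ¬ a.1 ≤ b.1 := hnot.1
    have hnba : ¬ b.1 ≤ a.1 := hnot.2
    have ha1 : 1 ≤ e a := Nat.one_le_iff_ne_zero.2 (Finsupp.mem_support_iff.1 ha)
    have hb1 : 1 ≤ e b := Nat.one_le_iff_ne_zero.2 (Finsupp.mem_support_iff.1 hb)
    set e₀ : Below w →₀ ℕ := e - Finsupp.single a 1 - Finsupp.single b 1 with he₀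
    have hsum : Finsupp.single a 1 + Finsupp.single b 1 + e₀ = e := by
      refine Finsupp.ext fun θ => ?_
      simp only [he₀, Finsupp.coe_add, Pi.add_apply, Finsupp.coe_tsub, Pi.sub_apply]
      by_cases h1 : θ = a
      · subst h1
        rw [Finsupp.single_eq_same, Finsupp.single_eq_of_ne hab]
        omega
      · by_cases h2 : θ = b
        · subst h2
          rw [Finsupp.single_eq_same, Finsupp.single_eq_of_ne (Ne.symm hab)]
          omega
        · rw [Finsupp.single_eq_of_ne h1, Finsupp.single_eq_of_ne h2]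
          omega
    set e₁ : Below w →₀ ℕ :=
      Finsupp.single (Below.sup a b) 1 + Finsupp.single (Below.inf a b) 1 + e₀ with he₁
    have hmon : monomial e (1 : K) - monomial e₁ 1 =
        (X a * X b - X (Below.sup a b) * X (Below.inf a b)) * monomial e₀ 1 := by
      rw [sub_mul, MvPolynomial.X, MvPolynomial.X, MvPolynomial.X, MvPolynomial.X, monomial_mul,
        monomial_mul, monomial_mul, monomial_mul, one_mul, one_mul, hsum]
    have hmem : monomial e (1 : K) - monomial e₁ 1 ∈ hibiIdeal K w := by
      rw [hmon]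
      exact Ideal.mul_mem_right _ _ (Ideal.subset_span ⟨a, b, rfl⟩)
    have hlt : Wt (Finsupp.mapDomain Subtype.val e₁ : Idx d n →₀ ℕ) < N := by
      rw [← heN, ← hsum, he₁, Finsupp.mapDomain_add, Finsupp.mapDomain_add, Finsupp.mapDomain_add,
        Finsupp.mapDomain_add, Finsupp.mapDomain_single, Finsupp.mapDomain_single,
        Finsupp.mapDomain_single, Finsupp.mapDomain_single, Wt_add, Wt_add, Wt_add, Wt_add, Wt_single,
        Wt_single, Wt_single, Wt_single]
      have : wt (Below.sup a b).1 + wt (Below.inf a b).1 < wt a.1 + wt b.1 :=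
        wt_sup_inf_lt hnab hnba
      omega
    obtain ⟨e', hch', hmem'⟩ := IH _ hlt e₁ rfl
    refine ⟨e', hch', ?_⟩
    have : monomial e (1 : K) - monomial e' 1 =
        (monomial e 1 - monomial e₁ 1) + (monomial e₁ 1 - monomial e' 1) := by ring
    rw [this]
    exact Ideal.add_mem _ hmem hmem'

/-- The special fibre of the Rees algebra of the diagonal-weight filtration is the Hibi ring. -/
theorem zeroFibreHibi :
    Nonempty ((rees (isMulFil' K hd w) ⧸
        Ideal.span {toRees (isMulFil' K hd w) Polynomial.X}) ≃ₐ[K]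
      (MvPolynomial (Below w) K ⧸ hibiIdeal K w)) := by
  classical
  refine zeroFibre_equiv (isMulFil' K hd w) (hibiIdeal K w)
    (Γ := {e : Below w →₀ ℕ // IsChain (· ≤ ·) (e.support : Set (Below w))})
    (fun γ => monomial γ.1 1) ?_ (Psi0F K hd w)
    (fun γ => ⟨Finsupp.mapDomain Subtype.val γ.1,
        (isChain_mapDomain w γ.1).2 γ.2, le_of_mem_support_mapDomain w γ.1⟩) ?_ ?_ ?_
  · -- spanning modulo the Hibi ideal
    intro f
    have hex : ∀ e : Below w →₀ ℕ, ∃ e' : Below w →₀ ℕ,
        IsChain (· ≤ ·) (e'.support : Set (Below w)) ∧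
          monomial e (1 : K) - monomial e' 1 ∈ hibiIdeal K w :=
      fun e => hibi_straighten K w _ e rfl
    choose st hst1 hst2 using hex
    refine ⟨∑ e ∈ f.support, coeff e f • monomial (st e) (1 : K), ?_, ?_⟩
    · refine Submodule.sum_mem _ fun e _ => ?_
      exact Submodule.smul_mem _ _ (Submodule.subset_span ⟨⟨st e, hst1 e⟩, rfl⟩)
    · have hsplit : f - ∑ e ∈ f.support, coeff e f • monomial (st e) (1 : K) =
          ∑ e ∈ f.support, coeff e f • (monomial e (1 : K) - monomial (st e) 1) := by
        have hf : ∑ e ∈ f.support, coeff e f • monomial e (1 : K) = f := by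
          conv_rhs => rw [f.as_sum]
          refine Finset.sum_congr rfl fun e _ => ?_
          rw [smul_monomial, smul_eq_mul, mul_one]
        simp only [smul_sub, Finset.sum_sub_distrib, hf]
      rw [hsplit]
      refine Ideal.sum_mem _ fun e _ => ?_
      exact Submodule.smul_of_tower_mem _ _ (hst2 e)
  · -- the index map is bijective
    constructor
    · intro γ γ' hγ
      have h1 : Finsupp.mapDomain Subtype.val γ.1 = Finsupp.mapDomain Subtype.val γ'.1 :=
        congrArg Subtype.val hγ
      exact Subtype.ext (Finsupp.mapDomain_injective Subtype.val_injective h1)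
    · rintro ⟨e', hch, hw⟩
      have hsub : (e'.support : Set (Idx d n)) ⊆ Set.range (Subtype.val : Below w → Idx d n) := by
        intro θ hθ
        exact ⟨⟨θ, hw θ (Finset.mem_coe.1 hθ)⟩, rfl⟩
      have hmap := Finsupp.mapDomain_comapDomain (Subtype.val : Below w → Idx d n)
        Subtype.val_injective e' hsub
      refine ⟨⟨Finsupp.comapDomain Subtype.val e' Subtype.val_injective.injOn, ?_⟩, ?_⟩
      · rw [← isChain_mapDomain, hmap]; exact hch
      · exact Subtype.ext hmap
  · intro γ
    exact Psi0F_monomial_chain K hd w γ.1 γ.2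
  · have hle : hibiIdeal K w ≤ Ideal.comap (Psi0F K hd w)
        (Ideal.span {toRees (isMulFil' K hd w) Polynomial.X}) := by
      unfold hibiIdeal
      rw [Ideal.span_le]
      rintro _ ⟨a, b, rfl⟩
      exact Psi0F_gen_mem K hd w a b
    intro f hf
    exact hle hf

end Groth.Agent.Lib.PlSMT
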