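import Mathlib

/-!
# Extension of places (helper38)

Atiyah–Macdonald 5.21: for an algebraically closed field `k`, a field `K ⊇ k` and a `k`-algebra map
`y : P → k` on (the image in `K` of) a `k`-algebra `P → K`, there is a valuation ring of `K`
containing the image of `P`, with residue field `k`, whose place extends `y`.

Partial places are encoded as subalgebras `Γ ≤ K × k` on which the first projection is injective
(`IsGraph`); Zorn gives a maximal one, and the maximal ones are valuation rings.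
-/

set_option autoImplicit false
universe u v w
open Polynomial

namespace Groth.Agent.Lib.PlaceExt38

section Root
variable {k : Type u} [Field k] [IsAlgClosed k]

/-- a proper ideal of `k[X]`, `k` algebraically closed, has a common root -/
theorem exists_common_root (I : Ideal k[X]) (hI : I ≠ ⊤) : ∃ c : k, ∀ p ∈ I, p.eval c = 0 := by
  obtain ⟨g, rfl⟩ := (IsPrincipalIdealRing.principal I).principal
  by_cases hg : g = 0
  · refine ⟨0, fun p hp => ?_⟩
    rw [hg] at hp
    have : p = 0 := by simpa using hp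
    rw [this, eval_zero]
  · have hdeg : g.degree ≠ 0 := by
      intro h0
      apply hI
      have : IsUnit g := by
        rw [Polynomial.isUnit_iff_degree_eq_zero]; exact h0
      exact Ideal.eq_top_of_isUnit_mem _ (Ideal.subset_span rfl) this
    obtain ⟨c, hc⟩ := IsAlgClosed.exists_root g hdeg
    refine ⟨c, fun p hp => ?_⟩
    obtain ⟨q, rfl⟩ := Ideal.mem_span_singleton'.1 hp
    rw [eval_mul, hc, mul_zero]

variable {Γ : Type v} [CommRing Γ] {K : Type w} [Field K]

/-- **Extension lemma.** -/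
theorem exists_extension (θ : Γ →+* k) (hθ : Function.Surjective θ) (ι : Γ →+* K) (x : K)
    (H : ∀ n : Γ[X], (∀ i, θ (n.coeff i) = 0) → eval₂ ι x n ≠ 1) :
    ∃ c : k, ∀ q : Γ[X], eval₂ ι x q = 0 → eval₂ θ c q = 0 := by
  let 𝔞 : Ideal Γ[X] := RingHom.ker (eval₂RingHom ι x)
  let I : Ideal k[X] := 𝔞.map (mapRingHom θ)
  have hsurj : Function.Surjective (mapRingHom θ) := Polynomial.map_surjective θ hθ
  have hI : I ≠ ⊤ := by
    intro htop
    have h1 : (1 : k[X]) ∈ I := htop ▸ Submodule.mem_top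
    obtain ⟨q, hq, hq1⟩ := (Ideal.mem_map_iff_of_surjective _ hsurj).1 h1
    refine H (1 - q) (fun i => ?_) ?_
    · have : (mapRingHom θ (1 - q)).coeff i = 0 := by
        rw [map_sub, hq1, map_one, sub_self, coeff_zero]
      rwa [coe_mapRingHom, coeff_map] at this
    · have hq0 : eval₂ ι x q = 0 := hq
      rw [eval₂_sub, eval₂_one, hq0, sub_zero]
  obtain ⟨c, hc⟩ := exists_common_root I hI
  refine ⟨c, fun q hq => ?_⟩
  have : mapRingHom θ q ∈ I := Ideal.mem_map_of_mem _ (show q ∈ 𝔞 from hq)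
  have := hc _ this
  rwa [coe_mapRingHom, eval_map] at this

end Root

section Graph
variable {k : Type u} [Field k] {K : Type w} [Field K] [Algebra k K]

/-- a subalgebra of `K × k` is (the graph of) a partial place when its first projection is
injective on it -/
def IsGraph (Γ : Subalgebra k (K × k)) : Prop := ∀ p ∈ Γ, p.1 = 0 → p.2 = 0

theorem IsGraph.eq_of_fst_eq {Γ : Subalgebra k (K × k)} (h : IsGraph Γ) {p q : K × k}
    (hp : p ∈ Γ) (hq : q ∈ Γ) (hpq : p.1 = q.1) : p = q := by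
  have := h (p - q) (Γ.sub_mem hp hq) (by simp [hpq])
  exact Prod.ext hpq (by simpa [sub_eq_zero] using this)

/-- Zorn: every partial place is contained in a maximal one -/
theorem exists_maximal_graph (Γ₀ : Subalgebra k (K × k)) (h₀ : IsGraph Γ₀) :
    ∃ Γ : Subalgebra k (K × k), Γ₀ ≤ Γ ∧ IsGraph Γ ∧
      ∀ Γ' : Subalgebra k (K × k), IsGraph Γ' → Γ ≤ Γ' → Γ' ≤ Γ := by
  have key : ∀ c ⊆ {Γ : Subalgebra k (K × k) | IsGraph Γ}, IsChain (· ≤ ·) c → ∀ y ∈ c,
      ∃ ub ∈ {Γ : Subalgebra k (K × k) | IsGraph Γ}, ∀ z ∈ c, z ≤ ub := by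
    intro c hc hchain y hy
    have : Nonempty c := ⟨⟨y, hy⟩⟩
    have hdir : Directed (· ≤ ·) (fun i : c => (i : Subalgebra k (K × k))) :=
      hchain.directed
    refine ⟨⨆ i : c, (i : Subalgebra k (K × k)), ?_,
      fun z hz => le_iSup (fun i : c => (i : Subalgebra k (K × k))) ⟨z, hz⟩⟩
    intro p hp hp0
    have hp' : p ∈ ((⨆ i : c, (i : Subalgebra k (K × k)) : Subalgebra k (K × k)) :
        Set (K × k)) := hp
    rw [Subalgebra.coe_iSup_of_directed hdir, Set.mem_iUnion] at hp'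
    obtain ⟨i, hi⟩ := hp'
    exact hc i.2 p hi hp0
  obtain ⟨Γ, h1, h2⟩ := zorn_le_nonempty₀ {Γ : Subalgebra k (K × k) | IsGraph Γ} key Γ₀ h₀
  exact ⟨Γ, h1, h2.prop, fun Γ' hΓ' hle => h2.le_of_ge hΓ' hle⟩

end Graph

section Abstract
variable {k : Type u} [Field k] {R : Type v} [CommRing R] {K : Type w} [Field K] [Algebra R K]

/-- the hypothesis of the extension lemma: `1 ∉ 𝔪 R[x]` -/
def HExt (θ : R →+* k) (x : K) : Prop :=
  ∀ n : R[X], (∀ i, θ (n.coeff i) = 0) → aeval x n ≠ 1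

variable (hinj : Function.Injective (algebraMap R K)) (θ : R →+* k)
  (hθ : Function.Surjective θ)
  (hmax : ∀ x : K, HExt θ x → ∃ r : R, algebraMap R K r = x)

include hinj hmax in
/-- elements outside the kernel of the place are units -/
theorem isUnit_of_map_ne_zero (r : R) (hr : θ r ≠ 0) : IsUnit r := by
  have hr0 : r ≠ 0 := by rintro rfl; exact hr (map_zero θ)
  have hιr : algebraMap R K r ≠ 0 := fun h => hr0 (hinj (by rw [h, map_zero]))
  obtain ⟨r', hr'⟩ := hmax (algebraMap R K r)⁻¹ (by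
    intro n hn h1
    have : Invertible (algebraMap R K r)⁻¹ := invertibleOfNonzero (inv_ne_zero hιr)
    have key := eval₂_reverse_mul_pow (algebraMap R K) ((algebraMap R K r)⁻¹) n
    rw [aeval_def] at h1
    rw [h1, invOf_eq_inv, inv_inv] at key
    -- key : eval₂ ι (ι r) (reverse n) * (ι r)⁻¹ ^ d = 1
    have key2 : eval₂ (algebraMap R K) (algebraMap R K r) (reverse n) =
        (algebraMap R K r) ^ n.natDegree := by
      have h2 : ((algebraMap R K r)⁻¹) ^ n.natDegree ≠ 0 := pow_ne_zero _ (inv_ne_zero hιr)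
      rw [inv_pow] at key h2
      field_simp at key
      exact key
    have key3 : algebraMap R K (eval r (reverse n)) = algebraMap R K (r ^ n.natDegree) := by
      rw [map_pow, ← key2, eval, hom_eval₂, RingHom.comp_id]
    have key4 := hinj key3
    have key5 : θ (eval r (reverse n)) = 0 := by
      rw [eval_eq_sum_range, map_sum]
      refine Finset.sum_eq_zero fun i _ => ?_
      rw [map_mul, coeff_reverse, hn, zero_mul]
    rw [key4, map_pow] at key5
    exact hr (pow_eq_zero_iff (by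
      intro h0
      rw [h0, pow_zero] at key5
      exact one_ne_zero key5) |>.1 key5))
  refine IsUnit.of_mul_eq_one r' (hinj ?_)
  rw [map_mul, hr', map_one, mul_inv_cancel₀ hιr]

include hinj hθ hmax in
/-- a maximal place is defined on `x` or on `x⁻¹` -/
theorem exists_eq_or_exists_eq_inv (x : K) (hx : x ≠ 0) :
    (∃ r : R, algebraMap R K r = x) ∨ (∃ r : R, algebraMap R K r = x⁻¹) := by
  by_contra hcon
  rw [not_or] at hcon
  obtain ⟨h1, h2⟩ := hcon
  have hx1 : ¬ HExt θ x := fun h => h1 (hmax x h)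
  unfold HExt at hx1
  push Not at hx1
  obtain ⟨n, hn, hn1⟩ := hx1
  set 𝔪 : Ideal R := RingHom.ker θ with h𝔪def
  have h𝔪 : 𝔪 ≠ ⊤ := by
    intro h
    have : (1 : R) ∈ 𝔪 := h ▸ Submodule.mem_top
    rw [RingHom.mem_ker, map_one] at this
    exact one_ne_zero this
  have hmap : 𝔪.map (algebraMap R (Algebra.adjoin R {x})) = ⊤ := by
    rw [Ideal.eq_top_iff_one]
    exact (Algebra.mem_ideal_map_adjoin x 𝔪).2 ⟨n, fun i => hn i, by simpa using hn1⟩
  have : Invertible x := invertibleOfNonzero hx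
  obtain ⟨p, hp, hpx⟩ := Algebra.exists_aeval_invOf_eq_zero_of_idealMap_adjoin_sup_span_eq_top x 𝔪 h𝔪
    (by rw [hmap, top_sup_eq])
  have hθlc : θ p.leadingCoeff = 1 := by
    have : θ (p.leadingCoeff - 1) = 0 := hp
    rwa [map_sub, map_one, sub_eq_zero] at this
  have hu : IsUnit p.leadingCoeff :=
    isUnit_of_map_ne_zero hinj θ hmax _ (by rw [hθlc]; exact one_ne_zero)
  have hdom : IsDomain R := Function.Injective.isDomain (algebraMap R K) hinj
  have hint : IsIntegral R x⁻¹ := by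
    refine ⟨C (hu.unit⁻¹ : Rˣ).1 * p, ?_, ?_⟩
    · rw [Monic, leadingCoeff_mul, leadingCoeff_C]
      exact hu.val_inv_mul
    · rw [eval₂_mul, ← aeval_def, ← aeval_def, ← invOf_eq_inv, hpx, mul_zero]
  have hintS : Algebra.IsIntegral R (Algebra.adjoin R {x⁻¹}) :=
    Algebra.IsIntegral.adjoin (by simpa using hint)
  have hmaxid : 𝔪.IsMaximal := RingHom.ker_isMaximal_of_surjective θ hθ
  have hker : RingHom.ker (algebraMap R (Algebra.adjoin R {x⁻¹})) ≤ 𝔪 := by
    intro r hr
    rw [RingHom.mem_ker] at hr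
    have : algebraMap R K r = 0 := by
      have := congrArg (Subtype.val) hr
      simpa using this
    rw [hinj (this.trans (map_zero _).symm)]
    exact 𝔪.zero_mem
  obtain ⟨Q, hQ, e⟩ := Ideal.exists_ideal_over_maximal_of_isIntegral
    (S := Algebra.adjoin R {x⁻¹}) 𝔪 hker
  apply h2
  apply hmax
  intro n' hn' hn1'
  have h1mem : (1 : Algebra.adjoin R {x⁻¹}) ∈ 𝔪.map (algebraMap R (Algebra.adjoin R {x⁻¹})) :=
    (Algebra.mem_ideal_map_adjoin x⁻¹ 𝔪).2 ⟨n', fun i => hn' i, by simpa using hn1'⟩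
  have hle : 𝔪.map (algebraMap R (Algebra.adjoin R {x⁻¹})) ≤ Q :=
    Ideal.map_le_iff_le_comap.2 e.ge
  exact hQ.ne_top ((Ideal.eq_top_iff_one Q).2 (hle h1mem))

end Abstract

section Maximal
variable {k : Type u} [Field k] [IsAlgClosed k] {K : Type w} [Field K] [Algebra k K]

/-- first projection of a partial place -/
def fstHom (Γ : Subalgebra k (K × k)) : Γ →ₐ[k] K := (AlgHom.fst k K k).comp Γ.val

/-- second projection of a partial place (the place itself) -/
def sndHom (Γ : Subalgebra k (K × k)) : Γ →ₐ[k] k := (AlgHom.snd k K k).comp Γ.val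

omit [IsAlgClosed k] in
@[simp] theorem fstHom_apply (Γ : Subalgebra k (K × k)) (p : Γ) : fstHom Γ p = (p : K × k).1 := rfl

omit [IsAlgClosed k] in
@[simp] theorem sndHom_apply (Γ : Subalgebra k (K × k)) (p : Γ) : sndHom Γ p = (p : K × k).2 := rfl

omit [IsAlgClosed k] in
theorem fstHom_injective {Γ : Subalgebra k (K × k)} (hΓ : IsGraph Γ) :
    Function.Injective (fstHom Γ) := by
  intro p q hpq
  exact Subtype.ext (hΓ.eq_of_fst_eq p.2 q.2 hpq)

omit [IsAlgClosed k] in
theorem sndHom_surjective (Γ : Subalgebra k (K × k)) : Function.Surjective (sndHom Γ) := by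
  intro c
  refine ⟨algebraMap k Γ c, ?_⟩
  rw [AlgHom.commutes]
  rfl

/-- the algebra structure on `K` over a partial place -/
@[reducible] def algFst (Γ : Subalgebra k (K × k)) : Algebra Γ K := (fstHom Γ).toRingHom.toAlgebra

/-- maximal partial places extend to every `x` satisfying the extension hypothesis -/
theorem exists_mem_of_hExt {Γ : Subalgebra k (K × k)}
    (hmax : ∀ Γ' : Subalgebra k (K × k), IsGraph Γ' → Γ ≤ Γ' → Γ' ≤ Γ) (x : K)
    (H : ∀ n : (Γ : Type _)[X], (∀ i, sndHom Γ (n.coeff i) = 0) →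
      eval₂ (fstHom Γ : Γ →+* K) x n ≠ 1) :
    ∃ r : Γ, fstHom Γ r = x := by
  obtain ⟨c, hc⟩ := exists_extension (sndHom Γ : Γ →+* k) (sndHom_surjective Γ)
    (fstHom Γ : Γ →+* K) x H
  let E₁ : (Γ : Type _)[X] →ₐ[k] K := Polynomial.eval₂AlgHom (fstHom Γ) x (fun _ => Commute.all _ _)
  let E₂ : (Γ : Type _)[X] →ₐ[k] k := Polynomial.eval₂AlgHom (sndHom Γ) c (fun _ => Commute.all _ _)
  let E : (Γ : Type _)[X] →ₐ[k] K × k := E₁.prod E₂
  have hE : IsGraph E.range := by
    rintro _ ⟨q, rfl⟩ h0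
    exact hc q h0
  have hle : Γ ≤ E.range := by
    intro p hp
    refine ⟨C ⟨p, hp⟩, ?_⟩
    apply Prod.ext
    · show eval₂ (fstHom Γ : Γ →+* K) x (C ⟨p, hp⟩) = p.1
      rw [eval₂_C]; rfl
    · show eval₂ (sndHom Γ : Γ →+* k) c (C ⟨p, hp⟩) = p.2
      rw [eval₂_C]; rfl
  have hX : E X ∈ Γ := hmax _ hE hle ⟨X, rfl⟩
  refine ⟨⟨E X, hX⟩, ?_⟩
  show (E X).1 = x
  show eval₂ (fstHom Γ : Γ →+* K) x X = x
  rw [eval₂_X]

/-- **Extension of places** (Atiyah–Macdonald 5.21). -/
theorem exists_place {P : Type v} [CommRing P] [Algebra k P] (ψ : P →ₐ[k] K) (y : P →ₐ[k] k)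
    (hker : RingHom.ker ψ ≤ RingHom.ker y) :
    ∃ Γ : Subalgebra k (K × k), IsGraph Γ ∧ (∀ p : P, (ψ p, y p) ∈ Γ) ∧
      (∀ x : K, x ≠ 0 → (∃ r : Γ, fstHom Γ r = x) ∨ (∃ r : Γ, fstHom Γ r = x⁻¹)) ∧
      (∀ r : Γ, sndHom Γ r ≠ 0 → IsUnit r) := by
  have h₀ : IsGraph (ψ.prod y).range := by
    rintro _ ⟨p, rfl⟩ h0
    exact hker h0
  obtain ⟨Γ, hle, hΓ, hmax⟩ := exists_maximal_graph _ h₀
  let _ : Algebra Γ K := algFst Γ
  have hinj : Function.Injective (algebraMap Γ K) := fstHom_injective hΓ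
  have hmax' : ∀ x : K, HExt (sndHom Γ : Γ →+* k) x → ∃ r : Γ, algebraMap Γ K r = x := by
    intro x H
    exact exists_mem_of_hExt hmax x (fun n hn => by
      have := H n hn
      rwa [aeval_def] at this)
  refine ⟨Γ, hΓ, fun p => hle ⟨p, rfl⟩, ?_, ?_⟩
  · intro x hx
    exact exists_eq_or_exists_eq_inv hinj (sndHom Γ : Γ →+* k) (sndHom_surjective Γ) hmax' x hx
  · intro r hr
    exact isUnit_of_map_ne_zero hinj (sndHom Γ : Γ →+* k) hmax' r hr

end Maximal

section Package
variable {k : Type u} [Field k] {K : Type w} [Field K] [Algebra k K] {Γ : Subalgebra k (K × k)}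

theorem isDomain_of_isGraph (hΓ : IsGraph Γ) : IsDomain Γ :=
  Function.Injective.isDomain (fstHom Γ).toRingHom (fstHom_injective hΓ)

theorem valuationRing_of_isGraph [IsDomain Γ] (hΓ : IsGraph Γ)
    (hV1 : ∀ x : K, x ≠ 0 → (∃ r : Γ, fstHom Γ r = x) ∨ (∃ r : Γ, fstHom Γ r = x⁻¹)) :
    ValuationRing Γ := by
  have hinj := fstHom_injective hΓ
  refine { cond' := fun a b => ?_ }
  by_cases hb : b = 0
  · exact ⟨0, Or.inl (by rw [hb, mul_zero])⟩
  by_cases ha : a = 0
  · exact ⟨0, Or.inr (by rw [ha, mul_zero])⟩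
  have ha' : fstHom Γ a ≠ 0 := fun h => ha (hinj (by rw [h, map_zero]))
  have hb' : fstHom Γ b ≠ 0 := fun h => hb (hinj (by rw [h, map_zero]))
  rcases hV1 (fstHom Γ a / fstHom Γ b) (div_ne_zero ha' hb') with ⟨r, hr⟩ | ⟨r, hr⟩
  · refine ⟨r, Or.inr (hinj ?_)⟩
    rw [map_mul, hr, mul_div_cancel₀ _ hb']
  · refine ⟨r, Or.inl (hinj ?_)⟩
    rw [map_mul, hr, inv_div, mul_div_cancel₀ _ ha']

theorem ker_sndHom_eq_maximalIdeal [IsLocalRing Γ]
    (hV2 : ∀ r : Γ, sndHom Γ r ≠ 0 → IsUnit r) :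
    RingHom.ker (sndHom Γ) = IsLocalRing.maximalIdeal Γ := by
  ext r
  rw [RingHom.mem_ker, IsLocalRing.mem_maximalIdeal, mem_nonunits_iff]
  constructor
  · intro h0 hu
    have := hu.map (sndHom Γ)
    rw [h0] at this
    exact not_isUnit_zero this
  · intro hnu
    by_contra h0
    exact hnu (hV2 r h0)

theorem isFractionRing_of_isGraph (hΓ : IsGraph Γ)
    (hV1 : ∀ x : K, x ≠ 0 → (∃ r : Γ, fstHom Γ r = x) ∨ (∃ r : Γ, fstHom Γ r = x⁻¹)) :
    @IsFractionRing Γ _ K _ (algFst Γ) := by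
  let _ : Algebra Γ K := algFst Γ
  have hinj : Function.Injective (algebraMap Γ K) := fstHom_injective hΓ
  have : FaithfulSMul Γ K := (faithfulSMul_iff_algebraMap_injective Γ K).2 hinj
  apply IsFractionRing.of_field
  intro z
  by_cases hz : z = 0
  · exact ⟨0, 1, by rw [hz, map_zero, zero_div]⟩
  rcases hV1 z hz with ⟨r, hr⟩ | ⟨r, hr⟩
  · exact ⟨r, 1, by rw [map_one, div_one]; exact hr.symm⟩
  · refine ⟨1, r, ?_⟩
    rw [map_one, one_div]
    show z = (fstHom Γ r)⁻¹
    rw [hr, inv_inv]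

end Package

section Point
variable {k : Type u} [Field k] [IsAlgClosed k]

/-- **Valuation-ring points over specialisations.**  If the `k`-point `y` of `P` kills the kernel
of `φ : P → A`, there are a valuation ring `R ⊇ k` with residue field `k`, a point of `A` with
values in the fraction field of `R` and a point `h` of `P` with values in `R` which is the image of
that point under `φ` and reduces to `y`. -/
theorem exists_valuationRing_point {A P : Type u} [CommRing A] [Algebra k A] [CommRing P]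
    [Algebra k P] (φ : P →ₐ[k] A) (y : P →ₐ[k] k) (hy : RingHom.ker φ ≤ RingHom.ker y) :
    ∃ (R : Type u) (_ : CommRing R) (_ : IsDomain R) (_ : ValuationRing R) (_ : Algebra k R)
      (res : R →ₐ[k] k) (Ξ : A →ₐ[k] FractionRing R) (h : P →ₐ[k] R),
      RingHom.ker res = IsLocalRing.maximalIdeal R ∧
        (IsScalarTower.toAlgHom k R (FractionRing R)).comp h = Ξ.comp φ ∧
          res.comp h = y := by
  have hyprime : (RingHom.ker y).IsPrime := RingHom.ker_isPrime y
  obtain ⟨𝔭₀, h𝔭₀min, h𝔭₀le⟩ := Ideal.exists_minimalPrimes_le hy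
  obtain ⟨𝔮, h𝔮prime, -, h𝔮comap⟩ :=
    Ideal.exists_comap_eq_of_mem_minimalPrimes (I := ⊥) φ.toRingHom 𝔭₀ h𝔭₀min
  let K := FractionRing (A ⧸ 𝔮)
  let Ξ₀ : A →ₐ[k] K := (IsScalarTower.toAlgHom k (A ⧸ 𝔮) K).comp (Ideal.Quotient.mkₐ k 𝔮)
  let ψ : P →ₐ[k] K := Ξ₀.comp φ
  have hkerψ : RingHom.ker ψ ≤ RingHom.ker y := by
    intro p hp
    apply h𝔭₀le
    rw [← h𝔮comap, Ideal.mem_comap]
    rw [RingHom.mem_ker] at hp
    have h1 : algebraMap (A ⧸ 𝔮) K (Ideal.Quotient.mk 𝔮 (φ p)) = 0 := hp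
    have h2 := (IsFractionRing.injective (A ⧸ 𝔮) K) (h1.trans (map_zero _).symm)
    exact Ideal.Quotient.eq_zero_iff_mem.1 h2
  obtain ⟨Γ, hΓ, hmem, hV1, hV2⟩ := exists_place ψ y hkerψ
  have hdom : IsDomain Γ := isDomain_of_isGraph hΓ
  have hval : ValuationRing Γ := valuationRing_of_isGraph hΓ hV1
  let _ : Algebra Γ K := algFst Γ
  have hfrac : IsFractionRing Γ K := isFractionRing_of_isGraph hΓ hV1
  have htower : IsScalarTower k Γ K := IsScalarTower.of_algebraMap_eq fun c => by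
    show algebraMap k K c = fstHom Γ (algebraMap k Γ c)
    rw [AlgHom.commutes]
  let e : FractionRing Γ ≃ₐ[Γ] K := FractionRing.algEquiv Γ K
  let h : P →ₐ[k] Γ := (ψ.prod y).codRestrict Γ hmem
  refine ⟨Γ, inferInstance, hdom, hval, inferInstance, sndHom Γ,
    ((e.symm.restrictScalars k : K ≃ₐ[k] FractionRing Γ) : K →ₐ[k] FractionRing Γ).comp Ξ₀, h,
    ker_sndHom_eq_maximalIdeal hV2, ?_, ?_⟩
  · apply AlgHom.ext
    intro p
    show algebraMap Γ (FractionRing Γ) (h p) = e.symm (ψ p)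
    have : ψ p = algebraMap Γ K (h p) := rfl
    rw [this, AlgEquiv.commutes]
  · apply AlgHom.ext
    intro p
    rfl

end Point

end Groth.Agent.Lib.PlaceExt38
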