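/-
helper3: morphisms `f : X ⟶ P^n_R = Proj R[X_0..X_n]` and the pulled-back coordinates `f^* X_i ∈ Γ(X, f^* O(1))`
(`ProjUP.pullSec`), on top of `Lib/PullSecH3` and `Lib/ProjSpaceCoordH3`.
* `s j` = `f^* X_j` on `f⁻¹ D₊(X_j)`, `isGen_s` (free generator of `f^* O(1)` there), `pullSec_coord_res`,
  `toGlobal_res`, `sigma_res`: `(∑ c_i f^*X_i)|_{f⁻¹D_j} = f^#(∑ c_i X_i/X_j) • s j`;
* stalks: `g j x` (basis of the stalk), `coef c j x`, `germ_sigma`, `coef_mem_maximalIdeal_iff`, `coef_eq_stalkMap`,
  `germ_sigma_mem_iff`;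
* Hartshorne II.7.3 over an algebraically closed field: `separates_of_isClosedImmersion`,
  `isClosedImmersion_of_separates` (source proper over `k`); statements with `f : X ⟶ Proj (polyGrading n k)` and
  `twist (polyGrading n k) 1`, definitionally the frozen `CohB1.ProjSpace n k` / `Twist.twistProjSpace n k 1`.
-/
import Groth.Agent.Lib.PullSecH3
import Groth.Agent.Lib.ProjSpaceCoordH3
import Groth.Agent.Lib.H80SepPts

set_option autoImplicit false
set_option linter.style.haveILetI false
universe u
open CategoryTheory AlgebraicGeometry TopologicalSpace Opposite Twist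
open AlgebraicGeometry.Scheme.Modules
open Groth.Agent.Lib.H90Invertible Groth.Agent.Lib.H4Twist Groth.Agent.Lib
open Groth.Agent.Lib.PullSecH3 Groth.Agent.Lib.ProjSpaceCoordH3 Groth.Agent.Lib.QCohStalk

namespace Groth.Agent.Lib.ProjSpacePullH3

variable (n : ℕ) (R : Type u) [CommRing R]

local notation "𝒜" => CohB1.polyGrading n R
local notation "O1" => twist (CohB1.polyGrading n R) 1

variable {X : Scheme.{u}} (f : X ⟶ Proj (CohB1.polyGrading n R))

/-- the pulled-back coordinate `f^* X_j` on the chart `f⁻¹ D₊(X_j)`, a free generator of `f^* O(1)` there -/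
noncomputable def s (j : Fin (n + 1)) : Γ((pullback f).obj O1, f ⁻¹ᵁ D n R j) :=
  unitV f O1 (D n R j) (coordRes n R j j)

theorem isGen_s (j : Fin (n + 1)) : IsGen ((pullback f).obj O1) (f ⁻¹ᵁ D n R j) (s n R f j) :=
  isGen_unitV f O1 (isGen_coordRes n R j)

theorem pullSec_coord_res (i j : Fin (n + 1)) :
    ((pullback f).obj O1).presheaf.map (homOfLE (le_top : f ⁻¹ᵁ D n R j ≤ ⊤)).op
      (ProjUP.pullSec f O1 (ProjUP.coord n R i)) = (f.app (D n R j)).hom (τ n R i j) • s n R f j := by
  have h1 := unitV_res f O1 (le_top : D n R j ≤ ⊤) (ProjUP.coord n R i)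
  have h2 : unitV f O1 (D n R j) (coordRes n R i j) =
      (f.app (D n R j)).hom (τ n R i j) • s n R f j := by
    rw [coordRes_eq]
    exact unitV_smul f O1 (D n R j) (τ n R i j) (coordRes n R j j)
  rw [← h2]
  exact h1.symm

theorem toGlobal_res (pX : X ⟶ Spec (CommRingCat.of R)) (hf : f ≫ (CohB1.ProjSpace.toSpec n R : Proj 𝒜 ⟶ _) = pX)
    (j : Fin (n + 1)) (r : R) :
    (X.presheaf.map (homOfLE (le_top : f ⁻¹ᵁ D n R j ≤ ⊤)).op).hom (ProjUP.toGlobal pX r) =
      (f.app (D n R j)).hom (κ n R j r) := by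
  subst hf
  unfold ProjUP.toGlobal κ
  simp only [RingHom.comp_apply]
  have := Scheme.Hom.naturality f (homOfLE (le_top : D n R j ≤ ⊤)).op
  have h2 := congrArg (fun φ => φ.hom ((CohB1.ProjSpace.toSpec n R).appTop.hom
    ((Scheme.ΓSpecIso (CommRingCat.of R)).inv.hom r))) this
  simp only [CommRingCat.hom_comp] at h2
  exact h2.symm

theorem sigma_res (pX : X ⟶ Spec (CommRingCat.of R)) (hf : f ≫ (CohB1.ProjSpace.toSpec n R : Proj 𝒜 ⟶ _) = pX)
    (c : Fin (n + 1) → R) (j : Fin (n + 1)) :
    ((pullback f).obj O1).presheaf.map (homOfLE (le_top : f ⁻¹ᵁ D n R j ≤ ⊤)).op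
      (∑ i, ProjUP.toGlobal pX (c i) • ProjUP.pullSec f O1 (ProjUP.coord n R i)) =
      (f.app (D n R j)).hom (lin n R c j) • s n R f j := by
  rw [map_sum]
  have h1 : ∀ i, ((pullback f).obj O1).presheaf.map (homOfLE (le_top : f ⁻¹ᵁ D n R j ≤ ⊤)).op
      (ProjUP.toGlobal pX (c i) • ProjUP.pullSec f O1 (ProjUP.coord n R i)) =
      (f.app (D n R j)).hom (κ n R j (c i) * τ n R i j) • s n R f j := by
    intro i
    have := res_smul ((pullback f).obj O1) (le_top : f ⁻¹ᵁ D n R j ≤ ⊤) (ProjUP.toGlobal pX (c i))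
      (ProjUP.pullSec f O1 (ProjUP.coord n R i))
    refine this.trans ?_
    rw [map_mul, mul_smul, ← toGlobal_res n R f pX hf j (c i)]
    congr 1
    exact pullSec_coord_res n R f i j
  rw [Finset.sum_congr rfl (fun i _ => h1 i), ← Finset.sum_smul, ← map_sum]
  rfl

section Germ

variable (pX : X ⟶ Spec (CommRingCat.of R))
  (hf : f ≫ (CohB1.ProjSpace.toSpec n R : Proj (CohB1.polyGrading n R) ⟶ _) = pX)

/-- the germ of `f^* X_j` at `x ∈ f⁻¹ D₊(X_j)`, a basis of the stalk -/
noncomputable def g (j : Fin (n + 1)) (x : X) (hx : x ∈ f ⁻¹ᵁ D n R j) :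
    ((pullback f).obj O1).presheaf.stalk x :=
  ((pullback f).obj O1).presheaf.germ (f ⁻¹ᵁ D n R j) x hx (s n R f j)

theorem g_bijective (j : Fin (n + 1)) (x : X) (hx : x ∈ f ⁻¹ᵁ D n R j) :
    Function.Bijective (fun a : X.presheaf.stalk x => a • g n R f j x hx) :=
  IsGen.germ_bijective (isGen_s n R f j) x hx

/-- the coefficient of the germ of `∑ c_i f^* X_i` with respect to the basis `g` -/
noncomputable def coef (c : Fin (n + 1) → R) (j : Fin (n + 1)) (x : X) (hx : x ∈ f ⁻¹ᵁ D n R j) :
    X.presheaf.stalk x :=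
  (X.presheaf.germ (f ⁻¹ᵁ D n R j) x hx).hom ((f.app (D n R j)).hom (lin n R c j))

include hf in
theorem germ_sigma (c : Fin (n + 1) → R) (j : Fin (n + 1)) (x : X) (hx : x ∈ f ⁻¹ᵁ D n R j) :
    (((pullback f).obj O1).presheaf.germ ⊤ x trivial).hom
      (∑ i, ProjUP.toGlobal pX (c i) • ProjUP.pullSec f O1 (ProjUP.coord n R i)) =
      coef n R f c j x hx • g n R f j x hx := by
  have h1 := sigma_res n R f pX hf c j
  have h2 := germ_res ((pullback f).obj O1) (le_top : f ⁻¹ᵁ D n R j ≤ ⊤) x hx
    (∑ i, ProjUP.toGlobal pX (c i) • ProjUP.pullSec f O1 (ProjUP.coord n R i))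
  refine h2.symm.trans ?_
  have h3 := congrArg (fun t => ((pullback f).obj O1).presheaf.germ (f ⁻¹ᵁ D n R j) x hx t) h1
  refine h3.trans ?_
  exact germ_smul _ _ x hx _ _

theorem coef_mem_maximalIdeal_iff (c : Fin (n + 1) → R) (j : Fin (n + 1)) (x : X)
    (hx : x ∈ f ⁻¹ᵁ D n R j) :
    coef n R f c j x hx ∈ IsLocalRing.maximalIdeal (X.presheaf.stalk x) ↔
      f x ∉ (Proj 𝒜).basicOpen (lin n R c j) := by
  rw [IsLocalRing.mem_maximalIdeal, mem_nonunits_iff, not_iff_not]
  unfold coef
  rw [← Scheme.mem_basicOpen X _ x hx, ← Scheme.preimage_basicOpen]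
  rfl

theorem coef_eq_stalkMap (c : Fin (n + 1) → R) (j : Fin (n + 1)) (x : X) (hx : x ∈ f ⁻¹ᵁ D n R j) :
    coef n R f c j x hx =
      (f.stalkMap x).hom (((Proj 𝒜).presheaf.germ (D n R j) (f x) hx).hom (lin n R c j)) :=
  (Scheme.Hom.germ_stalkMap_apply f (D n R j) x hx (lin n R c j)).symm

include hf in
theorem germ_sigma_mem_iff (c : Fin (n + 1) → R) (j : Fin (n + 1)) (x : X) (hx : x ∈ f ⁻¹ᵁ D n R j)
    (I : Ideal (X.presheaf.stalk x)) :
    (((pullback f).obj O1).presheaf.germ ⊤ x trivial).hom
      (∑ i, ProjUP.toGlobal pX (c i) • ProjUP.pullSec f O1 (ProjUP.coord n R i)) ∈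
        I • (⊤ : Submodule (X.presheaf.stalk x) (((pullback f).obj O1).presheaf.stalk x)) ↔
      coef n R f c j x hx ∈ I := by
  rw [germ_sigma n R f pX hf c j x hx]
  exact smul_mem_smul_top_iff (g_bijective n R f j x hx) I _

end Germ

section Main

variable (k : Type u) [Field k] [IsAlgClosed k] {X : Scheme.{u}}
  (f : X ⟶ Proj (CohB1.polyGrading n k)) (pX : X ⟶ Spec (CommRingCat.of k))
  (hf : f ≫ (CohB1.ProjSpace.toSpec n k : Proj (CohB1.polyGrading n k) ⟶ _) = pX)

include hf in
/-- Hartshorne II.7.3, direct implication: a closed immersion into `P^n_k` separates points and tangent vectors. -/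
theorem separates_of_isClosedImmersion [IsClosedImmersion f] :
    (∀ P Q : X, IsClosed ({P} : Set X) → IsClosed ({Q} : Set X) → P ≠ Q →
      ∃ c : Fin (n + 1) → k,
        (((pullback f).obj (twist (CohB1.polyGrading n k) 1)).presheaf.germ ⊤ P trivial).hom
            (∑ i, ProjUP.toGlobal pX (c i) •
              ProjUP.pullSec f (twist (CohB1.polyGrading n k) 1) (ProjUP.coord n k i)) ∈
          (IsLocalRing.maximalIdeal (X.presheaf.stalk P) •
            (⊤ : Submodule (X.presheaf.stalk P)
              (((pullback f).obj (twist (CohB1.polyGrading n k) 1)).presheaf.stalk P))) ∧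
        (((pullback f).obj (twist (CohB1.polyGrading n k) 1)).presheaf.germ ⊤ Q trivial).hom
            (∑ i, ProjUP.toGlobal pX (c i) •
              ProjUP.pullSec f (twist (CohB1.polyGrading n k) 1) (ProjUP.coord n k i)) ∉
          (IsLocalRing.maximalIdeal (X.presheaf.stalk Q) •
            (⊤ : Submodule (X.presheaf.stalk Q)
              (((pullback f).obj (twist (CohB1.polyGrading n k) 1)).presheaf.stalk Q)))) ∧
    ∀ P : X, IsClosed ({P} : Set X) →
      (IsLocalRing.maximalIdeal (X.presheaf.stalk P) •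
          (⊤ : Submodule (X.presheaf.stalk P)
            (((pullback f).obj (twist (CohB1.polyGrading n k) 1)).presheaf.stalk P))) ≤
        Submodule.span (X.presheaf.stalk P)
            {v | ∃ c : Fin (n + 1) → k,
              v = (((pullback f).obj (twist (CohB1.polyGrading n k) 1)).presheaf.germ ⊤ P trivial).hom
                (∑ i, ProjUP.toGlobal pX (c i) •
                  ProjUP.pullSec f (twist (CohB1.polyGrading n k) 1) (ProjUP.coord n k i)) ∧
              v ∈ (IsLocalRing.maximalIdeal (X.presheaf.stalk P) •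
                (⊤ : Submodule (X.presheaf.stalk P)
                  (((pullback f).obj (twist (CohB1.polyGrading n k) 1)).presheaf.stalk P)))} ⊔
          (IsLocalRing.maximalIdeal (X.presheaf.stalk P) ^ 2 •
            (⊤ : Submodule (X.presheaf.stalk P)
              (((pullback f).obj (twist (CohB1.polyGrading n k) 1)).presheaf.stalk P))) := by
  have hclosed : ∀ P : X, IsClosed ({P} : Set X) →
      IsClosed ({f P} : Set (Proj (CohB1.polyGrading n k))) := by
    intro P hP
    have := f.isClosedEmbedding.isClosedMap _ hP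
    rwa [Set.image_singleton] at this
  constructor
  · intro P Q hP _ hPQ
    have hne : f P ≠ f Q := fun h => hPQ (f.isClosedEmbedding.injective h)
    obtain ⟨c, j, j', hy, hy', h1, h2⟩ := exists_separating n k (f P) (f Q) (hclosed P hP) hne
    have hyP : P ∈ f ⁻¹ᵁ D n k j := hy
    have hyQ : Q ∈ f ⁻¹ᵁ D n k j' := hy'
    refine ⟨c, ?_, ?_⟩
    · exact (germ_sigma_mem_iff n k f pX hf c j P hyP _).mpr
        ((coef_mem_maximalIdeal_iff n k f c j P hyP).mpr h1)
    · exact fun h => ((coef_mem_maximalIdeal_iff n k f c j' Q hyQ).mp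
        ((germ_sigma_mem_iff n k f pX hf c j' Q hyQ _).mp h)) h2
  · intro P hP
    obtain ⟨j, hy⟩ := exists_mem_D n k (f P)
    have hy' : P ∈ f ⁻¹ᵁ D n k j := hy
    have hg := g_bijective n k f j P hy'
    refine le_trans ?_ le_sup_left
    rw [smul_top_eq_map hg]
    -- the maximal ideal is generated by the coefficients
    have hsurj : Function.Surjective (f.stalkMap P).hom := f.stalkMap_surjective P
    have h1 : IsLocalRing.maximalIdeal (X.presheaf.stalk P) ≤
        Ideal.span {r | ∃ c : Fin (n + 1) → k, f P ∉ (Proj (CohB1.polyGrading n k)).basicOpen (lin n k c j) ∧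
          r = coef n k f c j P hy'} := by
      intro b hb
      obtain ⟨a, rfl⟩ := hsurj b
      have ha : a ∈ IsLocalRing.maximalIdeal ((Proj (CohB1.polyGrading n k)).presheaf.stalk (f P)) := by
        rw [IsLocalRing.mem_maximalIdeal, mem_nonunits_iff] at hb ⊢
        exact fun hu => hb (hu.map _)
      have h2 := maximalIdeal_le_span n k j (f P) hy (hclosed P hP) ha
      have h3 := Ideal.mem_map_of_mem (f.stalkMap P).hom h2
      rw [Ideal.map_span] at h3
      refine Ideal.span_mono ?_ h3
      rintro _ ⟨_, ⟨c, hc, rfl⟩, rfl⟩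
      exact ⟨c, hc, (coef_eq_stalkMap n k f c j P hy').symm⟩
    refine (Submodule.map_mono h1).trans ?_
    rw [← span_image_smul hg]
    refine Submodule.span_mono ?_
    rintro _ ⟨_, ⟨c, hc, rfl⟩, rfl⟩
    refine ⟨c, (germ_sigma n k f pX hf c j P hy').symm, ?_⟩
    rw [← smul_top_eq_map hg]
    exact (smul_mem_smul_top_iff hg _ _).mpr ((coef_mem_maximalIdeal_iff n k f c j P hy').mpr hc)

include hf in
/-- Hartshorne II.7.3, converse: a morphism from a proper `k`-scheme to `P^n_k` which separates points and tangent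
vectors is a closed immersion (uses helper80's `isClosedImmersion_of_injOn_closedPoints`). -/
theorem isClosedImmersion_of_separates [IsProper pX]
    (hpts : ∀ P Q : X, IsClosed ({P} : Set X) → IsClosed ({Q} : Set X) → P ≠ Q →
      ∃ c : Fin (n + 1) → k,
        ((((pullback f).obj (twist (CohB1.polyGrading n k) 1)).presheaf.germ ⊤ P trivial).hom
            (∑ i, ProjUP.toGlobal pX (c i) •
              ProjUP.pullSec f (twist (CohB1.polyGrading n k) 1) (ProjUP.coord n k i)) ∈
          (IsLocalRing.maximalIdeal (X.presheaf.stalk P) •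
            (⊤ : Submodule (X.presheaf.stalk P)
              (((pullback f).obj (twist (CohB1.polyGrading n k) 1)).presheaf.stalk P))) ∧
        (((pullback f).obj (twist (CohB1.polyGrading n k) 1)).presheaf.germ ⊤ Q trivial).hom
            (∑ i, ProjUP.toGlobal pX (c i) •
              ProjUP.pullSec f (twist (CohB1.polyGrading n k) 1) (ProjUP.coord n k i)) ∉
          (IsLocalRing.maximalIdeal (X.presheaf.stalk Q) •
            (⊤ : Submodule (X.presheaf.stalk Q)
              (((pullback f).obj (twist (CohB1.polyGrading n k) 1)).presheaf.stalk Q)))) ∨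
        ((((pullback f).obj (twist (CohB1.polyGrading n k) 1)).presheaf.germ ⊤ Q trivial).hom
            (∑ i, ProjUP.toGlobal pX (c i) •
              ProjUP.pullSec f (twist (CohB1.polyGrading n k) 1) (ProjUP.coord n k i)) ∈
          (IsLocalRing.maximalIdeal (X.presheaf.stalk Q) •
            (⊤ : Submodule (X.presheaf.stalk Q)
              (((pullback f).obj (twist (CohB1.polyGrading n k) 1)).presheaf.stalk Q))) ∧
        (((pullback f).obj (twist (CohB1.polyGrading n k) 1)).presheaf.germ ⊤ P trivial).hom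
            (∑ i, ProjUP.toGlobal pX (c i) •
              ProjUP.pullSec f (twist (CohB1.polyGrading n k) 1) (ProjUP.coord n k i)) ∉
          (IsLocalRing.maximalIdeal (X.presheaf.stalk P) •
            (⊤ : Submodule (X.presheaf.stalk P)
              (((pullback f).obj (twist (CohB1.polyGrading n k) 1)).presheaf.stalk P)))))
    (htan : ∀ P : X, IsClosed ({P} : Set X) →
      (IsLocalRing.maximalIdeal (X.presheaf.stalk P) •
          (⊤ : Submodule (X.presheaf.stalk P)
            (((pullback f).obj (twist (CohB1.polyGrading n k) 1)).presheaf.stalk P))) ≤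
        Submodule.span (X.presheaf.stalk P)
            {v | ∃ c : Fin (n + 1) → k,
              v = (((pullback f).obj (twist (CohB1.polyGrading n k) 1)).presheaf.germ ⊤ P trivial).hom
                (∑ i, ProjUP.toGlobal pX (c i) •
                  ProjUP.pullSec f (twist (CohB1.polyGrading n k) 1) (ProjUP.coord n k i)) ∧
              v ∈ (IsLocalRing.maximalIdeal (X.presheaf.stalk P) •
                (⊤ : Submodule (X.presheaf.stalk P)
                  (((pullback f).obj (twist (CohB1.polyGrading n k) 1)).presheaf.stalk P)))} ⊔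
          (IsLocalRing.maximalIdeal (X.presheaf.stalk P) ^ 2 •
            (⊤ : Submodule (X.presheaf.stalk P)
              (((pullback f).obj (twist (CohB1.polyGrading n k) 1)).presheaf.stalk P)))) :
    IsClosedImmersion f := by
  let q : Proj (CohB1.polyGrading n k) ⟶ Spec (CommRingCat.of k) := CohB1.ProjSpace.toSpec n k
  have hq : IsProper q := ProjSpaceProper.isProper_toSpec n k
  have hfq : f ≫ q = pX := hf
  have hprop : IsProper (f ≫ q) := by rw [hfq]; infer_instance
  have hfprop : IsProper f := IsProper.of_comp f q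
  have hlft : LocallyOfFiniteType (f ≫ q) := inferInstance
  have hqc : QuasiCompact q := inferInstance
  refine H80SepPts.isClosedImmersion_of_injOn_closedPoints k f q ?_ ?_
  · -- injectivity on closed points
    intro P hP Q hQ hPQ
    by_contra hne
    obtain ⟨c, hc⟩ := hpts P Q hP hQ hne
    obtain ⟨j, hy⟩ := exists_mem_D n k (f P)
    have hyP : P ∈ f ⁻¹ᵁ D n k j := hy
    have hyQ : Q ∈ f ⁻¹ᵁ D n k j := by
      change f Q ∈ D n k j
      rw [← hPQ]; exact hy
    have hiffP := (germ_sigma_mem_iff n k f pX hf c j P hyP (IsLocalRing.maximalIdeal _)).trans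
      (coef_mem_maximalIdeal_iff n k f c j P hyP)
    have hiffQ := (germ_sigma_mem_iff n k f pX hf c j Q hyQ (IsLocalRing.maximalIdeal _)).trans
      (coef_mem_maximalIdeal_iff n k f c j Q hyQ)
    have hPQ' : f P = f Q := hPQ
    rw [hPQ'] at hiffP
    rcases hc with ⟨h1, h2⟩ | ⟨h1, h2⟩
    · exact h2 (hiffQ.mpr (hiffP.mp h1))
    · exact h2 (hiffP.mpr (hiffQ.mp h1))
  · -- tangent condition
    intro P hP
    obtain ⟨j, hy⟩ := exists_mem_D n k (f P)
    have hyP : P ∈ f ⁻¹ᵁ D n k j := hy
    have hg := g_bijective n k f j P hyP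
    refine le_antisymm ?_ ?_
    · refine sup_le (IsLocalRing.map_maximalIdeal_le (f.stalkMap P).hom) (Ideal.pow_le_self two_ne_zero)
    · apply le_of_map_le hg
      have h := htan P hP
      rw [smul_top_eq_map hg, smul_top_eq_map hg] at h
      refine h.trans ?_
      rw [Submodule.map_sup]
      refine sup_le_sup_right ?_ _
      rw [Submodule.span_le]
      rintro _ ⟨c, rfl, hv⟩
      rw [← smul_top_eq_map hg] at hv
      have hcoef := (germ_sigma_mem_iff n k f pX hf c j P hyP _).mp hv
      have hnot := (coef_mem_maximalIdeal_iff n k f c j P hyP).mp hcoef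
      rw [germ_sigma n k f pX hf c j P hyP]
      refine ⟨coef n k f c j P hyP, ?_, rfl⟩
      rw [coef_eq_stalkMap]
      refine Ideal.mem_map_of_mem _ ?_
      rw [IsLocalRing.mem_maximalIdeal, mem_nonunits_iff]
      intro hu
      exact hnot ((Scheme.mem_basicOpen _ _ (f P) hy).mpr hu)

end Main

end Groth.Agent.Lib.ProjSpacePullH3
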