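import Groth.Agent.Lib.NMLift13
import Groth.Agent.Lib.CurveVanishing54
import Groth.Agent.Lib.ClosedImmersionPush
import Groth.Agent.Lib.H78SerreVan
import Groth.Agent.Lib.SupportTensor
import Groth.Agent.Lib.H90FiniteSurjHub
import Groth.Prelude.Def_W4c2seshadriposJets

/-!
# Powers of the ideal of a closed point twisted by an invertible module (helper13)

* `support_subset_of_killedByIdeal` : a coherent module killed by `I` is supported in `V(I)`.
* `support_pointIdeal_pow_subset` : `V(m_x^a) ⊆ {x}`.
* `subsingleton_HH_of_support_subset_point` : modules supported in a closed point have no higher cohomology.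
* `subsingleton_HH_idealPow_twist` (= S15254), `nontrivial_H1_succ` (= S15255).
-/

set_option autoImplicit false
set_option linter.style.haveILetI false
universe u
open CategoryTheory CategoryTheory.Limits AlgebraicGeometry TopologicalSpace

namespace Groth.Agent.Lib.PointIdeal13

open Groth.Agent.Lib Groth.Agent.Lib.CohLES CohB1 Groth.Agent.Lib.IdealMod Groth.Agent.Lib.H78IdealProd
  W4c2seshadripos

variable {X : Scheme.{u}}

/-- a coherent module killed by an ideal sheaf is supported on its vanishing locus -/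
theorem support_subset_of_killedByIdeal (I : X.IdealSheafData) (F : X.Modules) (hF : Coh.IsCoh F)
    (hk : ClSub.KilledByIdeal I F) : CohB1.support F ⊆ (I.support : Set X) := by
  have hk' : ClSub.KilledByIdeal I.subschemeι.ker F := by
    rw [Scheme.IdealSheafData.ker_subschemeι]; exact hk
  obtain ⟨G, -, ⟨e⟩⟩ := ClosedImmersionPush.exists_iso_pushforward_of_killedByIdeal I.subschemeι F hF hk'
  rw [← H90FiniteSurjHub.support_eq_of_iso e, ← Scheme.IdealSheafData.range_subschemeι I]
  exact H90DevTwo2.support_push_subset I.subschemeι G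

theorem support_pointIdeal_pow_subset (x : X) (hx : IsClosed ({x} : Set X)) (a : ℕ) :
    (((pointIdeal x hx) ^ a).support : Set X) ⊆ {x} := by
  rcases Nat.eq_zero_or_pos a with rfl | ha
  · rw [pow_zero]
    intro z hz
    have : ((1 : X.IdealSheafData).support : Set X) = ∅ := by
      change ((⊤ : X.IdealSheafData).support : Set X) = ∅
      rw [Scheme.IdealSheafData.support_top]; rfl
    rw [this] at hz
    exact hz.elim
  · rw [Scheme.IdealSheafData.support_pow _ a ha.ne']
    unfold pointIdeal
    rw [Scheme.IdealSheafData.coe_support_vanishingIdeal]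
    exact le_rfl

theorem subsingleton_HH_of_support_subset_point [IsLocallyNoetherian X] (F : X.Modules) (x : X)
    (hx : IsClosed ({x} : Set X)) (h : CohB1.support F ⊆ {x}) (n : ℕ) :
    Subsingleton (Coh.HH X F (n + 1)) :=
  CurveVanishing54.subsingleton_HH_of_support_subset F {x} hx
    (fun y hy => by rw [Set.mem_singleton_iff.1 hy]; exact hx) h n

/-- the support of a twist -/
theorem support_tensorMod_subset [IsLocallyNoetherian X] {F P : X.Modules} (hF : Coh.IsCoh F)
    (hP : Coh.IsCoh P) : CohB1.support (CohB1.tensorMod F P) ⊆ CohB1.support F := by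
  haveI := hF.1
  haveI := hF.2
  haveI := hP.1
  haveI := hP.2
  rw [SupportTensor.support_tensorMod F P]
  exact Set.inter_subset_left

section Main

variable (k : Type u) [Field k] [X.Over (Spec (CommRingCat.of k))] [IsProper (X ↘ Spec (CommRingCat.of k))]

include k in
/-- **S15254**: `H^i(X, m_x^a ⊗ L^m) = 0` for `i > 1`, `m ≥ m₀`, all `a` -/
theorem subsingleton_HH_idealPow_twist (x : X) (hx : IsClosed ({x} : Set X)) {L : X.Modules}
    (hL : CohB1.IsAmple L) :
    ∃ m₀ : ℕ, ∀ m : ℕ, m₀ ≤ m → ∀ i : ℕ, 1 < i → ∀ a : ℕ,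
      Subsingleton (Coh.HH X (CohB1.tensorMod (ClSub.idealMod ((pointIdeal x hx) ^ a))
        (CohB1.tensorPow L m)) i) := by
  haveI : IsLocallyNoetherian X := EulerLE48.isLocallyNoetherian k X
  have hOcoh : Coh.IsCoh (Coh.structureModule X) := CohFinAmple.isCoh_structureModule X
  obtain ⟨m₀, hm₀⟩ := H78SerreVan.serre_vanishing_of_isAmple (X ↘ Spec (CommRingCat.of k)) hL
    (Coh.structureModule X) hOcoh
  refine ⟨m₀, fun m hm i hi a => ?_⟩
  obtain ⟨n, rfl⟩ : ∃ n, i = n + 1 + 1 := ⟨i - 2, by omega⟩
  have hPcoh : Coh.IsCoh (CohB1.tensorPow L m) :=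
    CohFinAmple.isCoh_tensorPow (H90Invertible.isCoh_of_isInvertible hL.1) m
  have hT := NMCoh13.shortExact_twist (H78TensorGen.isInvertible_tensorPow hL.1 m)
    (idealMod_shortExact ((pointIdeal x hx) ^ a))
  haveI : Subsingleton (Coh.HH X ((NMLift13.idealSC ((pointIdeal x hx) ^ a)).map
      (TwistEquiv.tensorRightFunctor (CohB1.tensorPow L m))).X₂ (n + 1 + 1)) :=
    hm₀ m hm (n + 1 + 1) (by omega)
  haveI : Subsingleton (Coh.HH X ((NMLift13.idealSC ((pointIdeal x hx) ^ a)).map
      (TwistEquiv.tensorRightFunctor (CohB1.tensorPow L m))).X₃ (n + 1)) := by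
    refine subsingleton_HH_of_support_subset_point _ x hx ?_ n
    refine (support_tensorMod_subset (SnapCoeff13.isCoh_quotMod _) hPcoh).trans ?_
    exact (SnapCoeff13.support_quotMod_subset _).trans (support_pointIdeal_pow_subset x hx a)
  exact subsingleton_left hT (n + 1)

include k in
/-- **S15255**: if `H¹(m_x^a ⊗ P) ≠ 0` then `H¹(m_x^(a+1) ⊗ P) ≠ 0` -/
theorem nontrivial_H1_succ (x : X) (hx : IsClosed ({x} : Set X)) {P : X.Modules}
    (hP : PicF.IsInvertible P) (a : ℕ)
    (h : Nontrivial (Coh.HH X (CohB1.tensorMod (ClSub.idealMod ((pointIdeal x hx) ^ a)) P) 1)) :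
    Nontrivial (Coh.HH X (CohB1.tensorMod (ClSub.idealMod ((pointIdeal x hx) ^ (a + 1))) P) 1) := by
  haveI : IsLocallyNoetherian X := EulerLE48.isLocallyNoetherian k X
  have hOcoh : Coh.IsCoh (Coh.structureModule X) := CohFinAmple.isCoh_structureModule X
  have hPcoh : Coh.IsCoh P := H90Invertible.isCoh_of_isInvertible hP
  have hle : (pointIdeal x hx) * (pointIdeal x hx) ^ a ≤ (pointIdeal x hx) ^ a := fun U =>
    (Ideal.mul_le_right : (pointIdeal x hx).ideal U * ((pointIdeal x hx) ^ a).ideal U ≤
      ((pointIdeal x hx) ^ a).ideal U)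
  have hpow : (pointIdeal x hx) ^ (a + 1) = (pointIdeal x hx) * (pointIdeal x hx) ^ a := pow_succ' _ _
  rw [hpow]
  have hS : (ShortComplex.mk (idealModMap hle) (cokernel.π (idealModMap hle))
      (cokernel.condition (idealModMap hle))).ShortExact :=
    ShortComplex.ShortExact.mk' (ShortComplex.exact_of_g_is_cokernel _ (cokernelIsCokernel _))
      inferInstance inferInstance
  have hc0 : Coh.IsCoh (ClSub.idealMod ((pointIdeal x hx) ^ a)) :=
    H90DevFilt.isCoh_of_mono (ClSub.idealModι _) hOcoh
  have hc1 : Coh.IsCoh (ClSub.idealMod ((pointIdeal x hx) * (pointIdeal x hx) ^ a)) :=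
    H90DevFilt.isCoh_of_mono (ClSub.idealModι _) hOcoh
  haveI := hc1.1
  have hc2 : Coh.IsCoh (cokernel (idealModMap hle)) := H90OXModExact.isCoh_cokernel _ hc0
  have hk : ClSub.KilledByIdeal (pointIdeal x hx) (cokernel (idealModMap hle)) :=
    killedByIdeal_cokernel _ _ hle
  have hsupp : CohB1.support (cokernel (idealModMap hle)) ⊆ {x} := by
    refine (support_subset_of_killedByIdeal _ _ hc2 hk).trans ?_
    have := support_pointIdeal_pow_subset x hx 1
    rwa [pow_one] at this
  have hT := NMCoh13.shortExact_twist hP hS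
  haveI : Subsingleton (Coh.HH X ((ShortComplex.mk (idealModMap hle) (cokernel.π (idealModMap hle))
      (cokernel.condition (idealModMap hle))).map (TwistEquiv.tensorRightFunctor P)).X₃ (0 + 1)) :=
    subsingleton_HH_of_support_subset_point _ x hx
      ((support_tensorMod_subset hc2 hPcoh).trans hsupp) 0
  have hsurj : ∀ y, ∃ z, map ((TwistEquiv.tensorRightFunctor P).map (idealModMap hle)) 1 z = y :=
    fun y => exact₂ hT 1 y (Subsingleton.elim _ _)
  obtain ⟨y₁, y₂, hy⟩ := h
  obtain ⟨z₁, hz₁⟩ := hsurj y₁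
  obtain ⟨z₂, hz₂⟩ := hsurj y₂
  exact ⟨z₁, z₂, fun hz => hy (by rw [← hz₁, ← hz₂, hz])⟩

end Main

end Groth.Agent.Lib.PointIdeal13
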