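import Groth.Agent.Lib.PolLawSpan23

/-!
# Coefficient calculus for polynomial laws (helper23)

For a polynomial law `F : M →ₚₗ[A] N` and a finite family `e : ι → M`, the value of `F` at the generic
combination `∑ X i ⊗ e i` over `MvPolynomial ι A` expands as `∑_β X^β ⊗ cfs F e β`; by compatibility this gives
Roby's formula `F_P (∑ θ i ⊗ e i) = ∑_β θ^β ⊗ cfs F e β` over any test ring `P`, and a substitution formula
for the coefficients of a family obtained from `e` by a "monomial" substitution.
-/

set_option autoImplicit false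
universe u
open scoped TensorProduct
open MvPolynomial

namespace Groth.Agent.Lib.PolLawCoeff23

open Groth.Agent.Lib.PolLawSpan23

variable {A : Type u} [CommRing A] {M N : Type u} [AddCommGroup M] [Module A M] [AddCommGroup N] [Module A N]
  (F : M →ₚₗ[A] N) {ι : Type} [Fintype ι] (e : ι → M)

/-- The generic linear combination of the family `e`. -/
noncomputable def gen : MvPolynomial ι A ⊗[A] M := ∑ i, X i ⊗ₜ[A] e i

theorem rTensor_gen {P : Type u} [CommRing P] [Algebra A P] (θ : ι → P) :
    (aeval θ : MvPolynomial ι A →ₐ[A] P).toLinearMap.rTensor M (gen e) = ∑ i, θ i ⊗ₜ[A] e i := by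
  simp [gen]

/-- The coefficients of `F` at the generic combination of `e`, as a finitely supported family. -/
noncomputable def cfs : (ι →₀ ℕ) →₀ N := by
  classical
  exact TensorProduct.equivFinsuppOfBasisLeft (N := N) (MvPolynomial.basisMonomials ι A)
    (F.toFun' _ (gen e))

omit [Fintype ι] in
theorem coord_apply (β : ι →₀ ℕ) (p : MvPolynomial ι A) :
    (MvPolynomial.basisMonomials ι A).coord β p = coeff β p := rfl

theorem cfs_apply (β : ι →₀ ℕ) :
    cfs F e β = evalFun N ((MvPolynomial.basisMonomials ι A).coord β) (F.toFun' _ (gen e)) := by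
  classical
  rw [cfs, TensorProduct.equivFinsuppOfBasisLeft_apply]
  rfl

/-- Expansion of the value at the generic combination. -/
theorem expand : F.toFun' _ (gen e) =
    ∑ β ∈ (cfs F e).support, (monomial β (1 : A)) ⊗ₜ[A] cfs F e β := by
  classical
  have hu : F.toFun' _ (gen e) = (cfs F e).sum fun β c => (MvPolynomial.basisMonomials ι A) β ⊗ₜ[A] c := by
    rw [cfs, ← TensorProduct.equivFinsuppOfBasisLeft_symm_apply, LinearEquiv.symm_apply_apply]
  rw [hu, Finsupp.sum]
  refine Finset.sum_congr rfl fun β _ => ?_
  rw [MvPolynomial.coe_basisMonomials]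

/-- **Roby's formula**: the value of `F` at any combination of the `e i` over any test ring. -/
theorem toFun'_sum_tmul {P : Type u} [CommRing P] [Algebra A P] (θ : ι → P) :
    F.toFun' P (∑ i, θ i ⊗ₜ[A] e i) =
      ∑ β ∈ (cfs F e).support, (β.prod fun i k => θ i ^ k) ⊗ₜ[A] cfs F e β := by
  rw [← rTensor_gen, ← PolynomialLaw.isCompat_apply', expand, map_sum]
  refine Finset.sum_congr rfl fun β _ => ?_
  rw [LinearMap.rTensor_tmul, AlgHom.toLinearMap_apply, aeval_monomial, map_one, one_mul]

omit [Fintype ι] in
/-- Powers of "monomial" substitutions. -/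
theorem prod_C_mul_X_pow {S : Type u} [CommRing S] {κ : Type} (f : ι → κ) (a : ι → S) (β : ι →₀ ℕ) :
    (β.prod fun k n => (C (a k) * X (f k) : MvPolynomial κ S) ^ n) =
      monomial (Finsupp.mapDomain f β) (β.prod fun k n => a k ^ n) := by
  rw [monomial_eq, Finsupp.prod_mapDomain_index (fun _ => pow_zero _) (fun _ _ _ => pow_add _ _ _)]
  simp only [mul_pow, Finsupp.prod_mul]
  congr 1
  simp only [Finsupp.prod, map_prod, map_pow]

/-- **Substitution formula** for the coefficients of a family obtained from `e` by the substitution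
`X k ↦ a k • X (f k)`. -/
theorem cfs_subst {κ : Type} [Fintype κ] [DecidableEq κ] (f : ι → κ) (a : ι → A) (e' : κ → M)
    (he' : ∀ j, e' j = ∑ k, if f k = j then a k • e k else 0) (ν : κ →₀ ℕ) :
    cfs F e' ν = ∑ β ∈ (cfs F e).support,
      (if Finsupp.mapDomain f β = ν then (β.prod fun k n => a k ^ n) else 0) • cfs F e β := by
  classical
  have hgen : gen (A := A) e' = ∑ k, (C (a k) * X (f k) : MvPolynomial κ A) ⊗ₜ[A] e k := by
    rw [gen]
    simp only [he', TensorProduct.tmul_sum]
    rw [Finset.sum_comm]
    refine Finset.sum_congr rfl fun k _ => ?_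
    rw [Finset.sum_eq_single (f k)]
    · rw [if_pos rfl, TensorProduct.tmul_smul, TensorProduct.smul_tmul', MvPolynomial.smul_eq_C_mul]
    · intro j _ hj
      rw [if_neg (Ne.symm hj), TensorProduct.tmul_zero]
    · intro h
      exact absurd (Finset.mem_univ _) h
  rw [cfs_apply, hgen, toFun'_sum_tmul, map_sum]
  refine Finset.sum_congr rfl fun β _ => ?_
  rw [evalFun_tmul, prod_C_mul_X_pow, coord_apply, coeff_monomial]

end Groth.Agent.Lib.PolLawCoeff23
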