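import Groth.Agent.Lib.PolLawCoeff23

/-!
# Full polarization of a polynomial law (helper23)

`mu F b` is the coefficient of `X₁ ⋯ X_d` in `F (∑ X i ⊗ b i)`; it is multilinear (`muMulti`, `psi`), and for `F`
homogeneous of degree `d` one has the polarization identity `key`: `∑_c s^c ⊗ mu F (b ∘ c) = d! • F_S (∑ s j ⊗ b j)`.
-/

set_option autoImplicit false
universe u
open scoped TensorProduct
open MvPolynomial

namespace Groth.Agent.Lib.Polarize23

open Groth.Agent.Lib.PolLaw23 Groth.Agent.Lib.PolLawExt23 Groth.Agent.Lib.PolLawGen23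
  Groth.Agent.Lib.PolLawSpan23 Groth.Agent.Lib.PolLawCoeff23

/-- The exponent `(1, …, 1)`. -/
noncomputable def ones (d : ℕ) : Fin d →₀ ℕ := ∑ j : Fin d, Finsupp.single j 1

theorem ones_apply (d : ℕ) (j : Fin d) : ones d j = 1 := by
  classical
  rw [ones, Finsupp.finsetSum_apply]
  simp [Finsupp.single_apply]

theorem mapDomain_apply_fintype {ι κ : Type} [Fintype ι] [DecidableEq κ] (f : ι → κ) (β : ι →₀ ℕ) (j : κ) :
    Finsupp.mapDomain f β j = ∑ k, if f k = j then β k else 0 := by
  classical
  rw [Finsupp.mapDomain, Finsupp.sum_fintype _ _ (fun _ => Finsupp.single_zero _), Finsupp.finsetSum_apply]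
  refine Finset.sum_congr rfl fun k _ => ?_
  rw [Finsupp.single_apply]

/-- Sums over bijective self-maps are sums over permutations. -/
theorem sum_bij_perm {d : ℕ} {E : Type*} [AddCommMonoid E] (g : (Fin d → Fin d) → E) :
    (∑ c : Fin d → Fin d, if Function.Bijective c then g c else 0) = ∑ σ : Equiv.Perm (Fin d), g σ := by
  classical
  rw [← Finset.sum_filter]
  symm
  refine Finset.sum_bij (fun σ _ => (σ : Fin d → Fin d)) ?_ ?_ ?_ ?_
  · intro σ _
    exact Finset.mem_filter.2 ⟨Finset.mem_univ _, σ.bijective⟩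
  · intro σ _ τ _ h
    exact DFunLike.coe_injective h
  · intro c hc
    exact ⟨Equiv.ofBijective c (Finset.mem_filter.1 hc).2, Finset.mem_univ _, rfl⟩
  · intro σ _
    rfl

/-- The coefficient of `X₁ ⋯ X_d` in `∏ X (c i)`. -/
theorem coeff_ones_prod_X {R : Type*} [CommRing R] {d : ℕ} (c : Fin d → Fin d) :
    coeff (ones d) (∏ i, X (c i) : MvPolynomial (Fin d) R) = if Function.Bijective c then 1 else 0 := by
  classical
  have h1 : (∏ i, X (c i) : MvPolynomial (Fin d) R) = monomial (∑ i, Finsupp.single (c i) 1) 1 := by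
    rw [monomial_sum_one]
    rfl
  rw [h1, coeff_monomial]
  congr 1
  apply propext
  constructor
  · intro h
    apply Function.Surjective.bijective_of_finite
    intro j
    by_contra hj
    push Not at hj
    have := congrArg (fun v => v j) h
    simp only [Finsupp.finsetSum_apply, Finsupp.single_apply, ones_apply] at this
    rw [Finset.sum_eq_zero (fun i _ => if_neg (hj i))] at this
    exact zero_ne_one this
  · intro h
    rw [ones]
    exact (Equiv.ofBijective c h).sum_comp (fun j => Finsupp.single j 1)

theorem coeff_ones_sum_X_pow {R : Type*} [CommRing R] (d : ℕ) :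
    coeff (ones d) ((∑ i, X i : MvPolynomial (Fin d) R) ^ d) = (d.factorial : R) := by
  classical
  have h : (∑ i, X i : MvPolynomial (Fin d) R) ^ d = ∏ _k : Fin d, ∑ i, X i := by
    rw [Finset.prod_const, Finset.card_univ, Fintype.card_fin]
  rw [h, Finset.prod_univ_sum, Fintype.piFinset_univ, coeff_sum]
  simp only [coeff_ones_prod_X]
  rw [sum_bij_perm (fun _ => (1 : R)), Finset.sum_const, Finset.card_univ, Fintype.card_perm, Fintype.card_fin]
  simp

/-- A function to `ℕ` with sum one is an indicator. -/
theorem exists_of_sum_eq_one {n : ℕ} (r : Fin n → ℕ) (h : ∑ j, r j = 1) :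
    ∃ j0, r j0 = 1 ∧ ∀ j, j ≠ j0 → r j = 0 := by
  classical
  have h0 : ∃ j0, r j0 ≠ 0 := by
    by_contra hc
    push Not at hc
    rw [Finset.sum_eq_zero (fun j _ => hc j)] at h
    exact zero_ne_one h
  obtain ⟨j0, hj0⟩ := h0
  have hs := Finset.add_sum_erase Finset.univ r (Finset.mem_univ j0)
  rw [h] at hs
  have h1 : r j0 = 1 := by omega
  have h2 : ∑ j ∈ Finset.univ.erase j0, r j = 0 := by omega
  refine ⟨j0, h1, fun j hj => ?_⟩
  exact (Finset.sum_eq_zero_iff.1 h2) j (Finset.mem_erase.2 ⟨hj, Finset.mem_univ _⟩)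

/-- The row identity. -/
theorem row_identity {S : Type*} [CommRing S] {n : ℕ} (s : Fin n → S) (r : Fin n → ℕ) (h : ∑ j, r j = 1) :
    ∑ j' : Fin n, s j' * ∏ j, (if j = j' then (1 : S) else 0) ^ r j = ∏ j, s j ^ r j := by
  classical
  obtain ⟨j0, h1, h2⟩ := exists_of_sum_eq_one r h
  rw [Finset.prod_eq_single j0 (fun j _ hj => by rw [h2 j hj, pow_zero])
    (fun hj => absurd (Finset.mem_univ _) hj), h1, pow_one]
  rw [Finset.sum_eq_single j0]
  · rw [Finset.prod_eq_one, mul_one]
    intro j _
    by_cases hj : j = j0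
    · rw [if_pos hj, one_pow]
    · rw [h2 j hj, pow_zero]
  · intro j' _ hj'
    rw [Finset.prod_eq_zero (Finset.mem_univ j0), mul_zero]
    rw [if_neg (Ne.symm hj'), h1, pow_one]
  · intro hj
    exact absurd (Finset.mem_univ _) hj


section Mu

variable {A : Type u} [CommRing A] {M N : Type u} [AddCommGroup M] [Module A M] [AddCommGroup N] [Module A N]
  (F : M →ₚₗ[A] N) {d : ℕ}

/-- The full polarization of `F`: the coefficient of `X₁ ⋯ X_d` in `F (∑ X i ⊗ b i)`. -/
noncomputable def mu (b : Fin d → M) : N := cfs F b (ones d)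

theorem mu_smul (m : Fin d → M) (i0 : Fin d) (r : A) (x : M) :
    mu F (Function.update m i0 (r • x)) = r • mu F (Function.update m i0 x) := by
  classical
  have h1 := cfs_subst F (Function.update m i0 x) id (Function.update (fun _ => (1 : A)) i0 r)
    (Function.update m i0 (r • x)) (by
      intro j
      simp only [id]
      rw [Finset.sum_ite_eq' Finset.univ j, if_pos (Finset.mem_univ _)]
      by_cases hj : j = i0
      · subst hj; simp
      · simp [Function.update_of_ne hj]) (ones d)
  have h2 := cfs_subst F (Function.update m i0 x) id (fun _ => (1 : A))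
    (Function.update m i0 x) (by
      intro j
      simp only [id]
      rw [Finset.sum_ite_eq' Finset.univ j, if_pos (Finset.mem_univ _), one_smul]) (ones d)
  rw [mu, mu, h1, h2, Finset.smul_sum]
  refine Finset.sum_congr rfl fun β _ => ?_
  rw [Finsupp.mapDomain_id]
  by_cases hβ : β = ones d
  · rw [if_pos hβ, if_pos hβ, smul_smul]
    congr 1
    subst hβ
    rw [Finsupp.prod_fintype _ _ (fun _ => pow_zero _), Finsupp.prod_fintype _ _ (fun _ => pow_zero _)]
    simp only [ones_apply, pow_one, Finset.prod_const_one, mul_one]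
    rw [Finset.prod_update_of_mem (Finset.mem_univ _)]
    simp
  · rw [if_neg hβ, if_neg hβ, zero_smul, smul_zero]


theorem mu_add (m : Fin d → M) (i0 : Fin d) (x y : M) :
    mu F (Function.update m i0 (x + y)) =
      mu F (Function.update m i0 x) + mu F (Function.update m i0 y) := by
  classical
  set ê : Option (Fin d) → M := fun o => o.elim y (Function.update m i0 x) with hê
  set f : Option (Fin d) → Fin d := fun o => o.elim i0 id with hf
  have hsum : ∀ (g : Option (Fin d) → M) (j : Fin d),
      (∑ o, if f o = j then g o else 0) = (if i0 = j then g none else 0) + g (some j) := by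
    intro g j
    rw [Fintype.sum_option]
    simp only [hf, Option.elim, id]
    rw [Finset.sum_ite_eq' Finset.univ j, if_pos (Finset.mem_univ _)]
  have hxy := cfs_subst F ê f (fun _ => (1 : A)) (Function.update m i0 (x + y)) (by
      intro j
      rw [hsum (fun o => (1 : A) • ê o) j]
      by_cases hj : j = i0
      · subst hj; simp [hê, add_comm]
      · simp [hê, Function.update_of_ne hj, Ne.symm hj]) (ones d)
  have hx := cfs_subst F ê f (fun o => o.elim (0 : A) (fun _ => 1)) (Function.update m i0 x) (by
      intro j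
      rw [hsum (fun o => (o.elim (0 : A) (fun _ => 1)) • ê o) j]
      simp [hê]) (ones d)
  have hy := cfs_subst F ê f (fun o => o.elim (1 : A) (fun i => if i = i0 then 0 else 1))
    (Function.update m i0 y) (by
      intro j
      rw [hsum (fun o => (o.elim (1 : A) (fun i => if i = i0 then 0 else 1)) • ê o) j]
      by_cases hj : j = i0
      · subst hj; simp [hê]
      · simp [hê, Ne.symm hj, hj]) (ones d)
  rw [mu, mu, mu, hxy, hx, hy, ← Finset.sum_add_distrib]
  refine Finset.sum_congr rfl fun β _ => ?_
  rw [← add_smul]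
  congr 1
  by_cases hβ : Finsupp.mapDomain f β = ones d
  · rw [if_pos hβ, if_pos hβ, if_pos hβ]
    have h1 := congrArg (fun v => v i0) hβ
    simp only [mapDomain_apply_fintype, ones_apply] at h1
    rw [Fintype.sum_option] at h1
    simp only [hf, Option.elim, id, if_true] at h1
    rw [Finset.sum_ite_eq' Finset.univ i0, if_pos (Finset.mem_univ _)] at h1
    rw [Finsupp.prod_fintype _ _ (fun _ => pow_zero _), Finsupp.prod_fintype _ _ (fun _ => pow_zero _),
      Finsupp.prod_fintype _ _ (fun _ => pow_zero _)]
    rw [Fintype.prod_option, Fintype.prod_option, Fintype.prod_option]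
    simp only [Option.elim, one_pow, Finset.prod_const_one, mul_one, one_mul]
    rw [Finset.prod_eq_single i0 (fun i _ hi => by rw [if_neg hi, one_pow])
      (fun hi => absurd (Finset.mem_univ _) hi), if_pos rfl]
    have h2 : (β none = 0 ∧ β (some i0) = 1) ∨ (β none = 1 ∧ β (some i0) = 0) := by omega
    rcases h2 with ⟨ha, hb⟩ | ⟨ha, hb⟩
    · rw [ha, hb]; simp
    · rw [ha, hb]; simp
  · rw [if_neg hβ, if_neg hβ, if_neg hβ, add_zero]

/-- The polarization as a multilinear map. -/
noncomputable def muMulti (d : ℕ) : MultilinearMap A (fun _ : Fin d => M) N where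
  toFun := mu F
  map_update_add' := by
    intro inst m i x y
    have : inst = instDecidableEqFin d := Subsingleton.elim _ _
    subst this
    exact mu_add F m i x y
  map_update_smul' := by
    intro inst m i r x
    have : inst = instDecidableEqFin d := Subsingleton.elim _ _
    subst this
    exact mu_smul F m i r x

/-- The polarization as a linear map on the tensor power. -/
noncomputable def psi (d : ℕ) : (⨂[A] _ : Fin d, M) →ₗ[A] N := PiTensorProduct.lift (muMulti F d)

theorem psi_tprod (b : Fin d → M) : psi F d (PiTensorProduct.tprod A b) = mu F b := by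
  rw [psi, PiTensorProduct.lift.tprod]
  rfl

end Mu


section Key

variable {A : Type u} [CommRing A] {M N : Type u} [AddCommGroup M] [Module A M] [AddCommGroup N] [Module A N]
  (F : M →ₚₗ[A] N) {d : ℕ}

/-- The coefficient of `X₁ ⋯ X_d`, as an `A`-linear functional on `S[X₁, …, X_d]`. -/
noncomputable def L (S : Type u) [CommRing S] [Algebra A S] (d : ℕ) : MvPolynomial (Fin d) S →ₗ[A] S :=
  (MvPolynomial.lcoeff S (ones d)).restrictScalars A

theorem L_apply (S : Type u) [CommRing S] [Algebra A S] (p : MvPolynomial (Fin d) S) :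
    L (A := A) S d p = coeff (ones d) p := rfl

theorem L_rTensor_smul (S : Type u) [CommRing S] [Algebra A S] (p : MvPolynomial (Fin d) S) (u : S ⊗[A] N) :
    (L (A := A) S d).rTensor N
      (p • (IsScalarTower.toAlgHom A S (MvPolynomial (Fin d) S)).toLinearMap.rTensor N u) =
      coeff (ones d) p • u := by
  induction u using TensorProduct.induction_on with
  | zero => simp
  | tmul s c =>
    rw [LinearMap.rTensor_tmul, TensorProduct.smul_tmul', LinearMap.rTensor_tmul, TensorProduct.smul_tmul',
      L_apply, smul_eq_mul, smul_eq_mul, AlgHom.toLinearMap_apply, IsScalarTower.coe_toAlgHom',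
      MvPolynomial.algebraMap_eq, mul_comm p, coeff_C_mul, mul_comm]
  | add x y hx hy => simp only [map_add, smul_add, hx, hy]


/-- **Polarization identity**: `ψ_S (z ⊗ ⋯ ⊗ z) = d! · F_S z`, in coordinates. -/
theorem key (hF : PolLaw.IsHomog F d) (S : Type u) [CommRing S] [Algebra A S] {n : ℕ} (s : Fin n → S)
    (b : Fin n → M) :
    ∑ c : Fin d → Fin n, (∏ i, s (c i)) ⊗ₜ[A] mu F (fun i => b (c i)) =
      d.factorial • F.toFun' S (∑ j, s j ⊗ₜ[A] b j) := by
  classical
  set Q := MvPolynomial (Fin d) S with hQ
  set eT : Fin d × Fin n → M := fun p => b p.2 with heT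
  set θ : Fin d × Fin n → Q := fun p => C (s p.2) * X p.1 with hθ
  have hC : ∑ p, θ p ⊗ₜ[A] eT p = (∑ i, (X i : Q)) •
      (IsScalarTower.toAlgHom A S Q).toLinearMap.rTensor M (∑ j, s j ⊗ₜ[A] b j) := by
    rw [Fintype.sum_prod_type, map_sum, Finset.sum_smul]
    refine Finset.sum_congr rfl fun i _ => ?_
    rw [Finset.smul_sum]
    refine Finset.sum_congr rfl fun j _ => ?_
    rw [LinearMap.rTensor_tmul, TensorProduct.smul_tmul', smul_eq_mul, mul_comm]
    rfl
  have hRHS : (L (A := A) S d).rTensor N (F.toFun' Q (∑ p, θ p ⊗ₜ[A] eT p)) =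
      d.factorial • F.toFun' S (∑ j, s j ⊗ₜ[A] b j) := by
    rw [hC, hF Q, ← PolynomialLaw.isCompat_apply', L_rTensor_smul, coeff_ones_sum_X_pow,
      Nat.cast_smul_eq_nsmul]
  have hLHS : (L (A := A) S d).rTensor N (F.toFun' Q (∑ p, θ p ⊗ₜ[A] eT p)) =
      ∑ β ∈ (cfs F eT).support, (if Finsupp.mapDomain Prod.fst β = ones d then
        (β.prod fun p k => s p.2 ^ k) else 0) ⊗ₜ[A] cfs F eT β := by
    rw [toFun'_sum_tmul, map_sum]
    refine Finset.sum_congr rfl fun β _ => ?_
    rw [LinearMap.rTensor_tmul, prod_C_mul_X_pow (fun p : Fin d × Fin n => p.1) (fun p => s p.2), L_apply,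
      coeff_monomial]
  have hmu : ∀ c : Fin d → Fin n, mu F (fun i => b (c i)) =
      ∑ β ∈ (cfs F eT).support, (if Finsupp.mapDomain Prod.fst β = ones d then
        (β.prod fun p k => (if p.2 = c p.1 then (1 : A) else 0) ^ k) else 0) • cfs F eT β := by
    intro c
    refine cfs_subst F eT Prod.fst (fun p => if p.2 = c p.1 then 1 else 0) (fun i => b (c i)) ?_ (ones d)
    intro i
    rw [Fintype.sum_prod_type, Finset.sum_eq_single i]
    · simp [heT, ite_smul]
    · intro i' _ hi'
      simp [hi']
    · intro hi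
      exact absurd (Finset.mem_univ _) hi
  rw [← hRHS, hLHS]
  simp only [hmu, TensorProduct.tmul_sum]
  rw [Finset.sum_comm]
  refine Finset.sum_congr rfl fun β _ => ?_
  simp only [TensorProduct.tmul_smul, TensorProduct.smul_tmul']
  rw [← TensorProduct.sum_tmul]
  congr 1
  by_cases hβ : Finsupp.mapDomain Prod.fst β = ones d
  · simp only [if_pos hβ]
    have hrow : ∀ i, ∑ j, β (i, j) = 1 := by
      intro i
      have h1 := congrArg (fun v => v i) hβ
      simp only [mapDomain_apply_fintype, ones_apply] at h1
      rw [Fintype.sum_prod_type, Finset.sum_eq_single i] at h1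
      · simpa using h1
      · intro i' _ hi'
        simp [hi']
      · intro hi
        exact absurd (Finset.mem_univ _) hi
    rw [Finsupp.prod_fintype _ _ (fun _ => pow_zero _), Fintype.prod_prod_type]
    have h2 : ∀ c : Fin d → Fin n,
        (β.prod fun p k => (if p.2 = c p.1 then (1 : A) else 0) ^ k) • ∏ i, s (c i) =
          ∏ i, (s (c i) * ∏ j, (if j = c i then (1 : S) else 0) ^ β (i, j)) := by
      intro c
      rw [Finsupp.prod_fintype _ _ (fun _ => pow_zero _), Fintype.prod_prod_type, Algebra.smul_def,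
        Finset.prod_mul_distrib, mul_comm]
      congr 1
      simp only [map_prod, map_pow, apply_ite (algebraMap A S), map_one, map_zero]
    simp only [h2]
    have h3 := (Finset.prod_univ_sum (fun _ : Fin d => (Finset.univ : Finset (Fin n)))
      (fun i j' => s j' * ∏ j, (if j = j' then (1 : S) else 0) ^ β (i, j))).symm
    rw [Fintype.piFinset_univ] at h3
    rw [h3]
    refine Finset.prod_congr rfl fun i _ => ?_
    exact row_identity s (fun j => β (i, j)) (hrow i)
  · simp only [if_neg hβ, zero_smul, Finset.sum_const_zero]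

end Key

end Groth.Agent.Lib.Polarize23
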