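import Mathlib
import Groth.Agent.Lib.GlueDimOne2

/-!
# Approximation of poles (helper42)

* `ApproxPred P` : an abstract "has a pole" predicate on a commutative ring, stable under the operation
  `a ↦ a ^ N + a₀` in the two ways needed by the classical approximation argument;
* `exists_forall` : finitely many such predicates can be satisfied simultaneously;
* `approxPred_of_dvr` : `a ↦ θ a ∉ W` is such a predicate for a ring map `θ` to a field and a discrete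
  valuation subring `W`.
-/

set_option autoImplicit false
set_option linter.unusedSectionVars false
universe u

namespace Groth.Agent.Lib.PoleApprox42

open Groth.Agent.Lib.GlueDimOne Polynomial

/-- an abstract pole condition -/
structure ApproxPred {A : Type*} [CommRing A] (P : A → Prop) : Prop where
  ne : ∃ a, P a
  grow : ∀ a, P a → ∀ a₀, ∃ N₀ : ℕ, ∀ N ≥ N₀, P (a ^ N + a₀)
  keep : ∀ a a₀, ¬ P a → P a₀ → ∀ N : ℕ, P (a ^ N + a₀)

/-- finitely many pole conditions can be satisfied simultaneously -/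
theorem exists_forall {A : Type*} [CommRing A] {ι : Type*} [Finite ι] (P : ι → A → Prop)
    (h : ∀ i, ApproxPred (P i)) : ∃ a, ∀ i, P i a := by
  classical
  have key : ∀ s : Finset ι, ∃ a, ∀ i ∈ s, P i a := by
    intro s
    induction s using Finset.induction_on with
    | empty => exact ⟨0, by simp⟩
    | insert i₀ s hi₀ ih =>
      obtain ⟨a, ha⟩ := ih
      by_cases h0 : P i₀ a
      · refine ⟨a, fun i hi => ?_⟩
        rcases Finset.mem_insert.1 hi with rfl | hi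
        · exact h0
        · exact ha i hi
      · obtain ⟨a₀, ha₀⟩ := (h i₀).ne
        choose N₀ hN₀ using fun (i : ι) (hi : i ∈ s) => (h i).grow a (ha i hi) a₀
        let N := s.attach.sup (fun i => N₀ i.1 i.2)
        refine ⟨a ^ N + a₀, fun i hi => ?_⟩
        rcases Finset.mem_insert.1 hi with rfl | hi
        · exact (h _).keep a a₀ h0 ha₀ N
        · exact hN₀ i hi N (Finset.le_sup (f := fun i : s => N₀ i.1 i.2) (Finset.mem_attach s ⟨i, hi⟩))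
  have := Fintype.ofFinite ι
  obtain ⟨a, ha⟩ := key Finset.univ
  exact ⟨a, fun i => ha i (Finset.mem_univ i)⟩

/-- the pole condition of a discrete valuation subring -/
theorem approxPred_of_dvr {A : Type*} [CommRing A] {K : Type u} [Field K] (θ : A →+* K)
    (W : ValuationSubring K) [IsDiscreteValuationRing W] (hne : ∃ a, θ a ∉ W) :
    ApproxPred (fun a => θ a ∉ W) where
  ne := hne
  grow := by
    intro a ha a₀
    set t := θ a with ht
    have hzW : t⁻¹ ∈ W := (W.mem_or_inv_mem t).resolve_left ha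
    have ht0 : t ≠ 0 := fun h => ha (h ▸ W.zero_mem)
    have hz0 : t⁻¹ ≠ 0 := inv_ne_zero ht0
    have hzv : W.valuation t⁻¹ < 1 := by
      refine lt_of_le_of_ne ((W.valuation_le_one_iff _).mpr hzW) (fun h1 => ha ?_)
      have : W.valuation t = 1 := by
        rw [map_inv₀, inv_eq_one] at h1
        exact h1
      exact (W.valuation_le_one_iff _).mp this.le
    obtain ⟨N₀, hN₀⟩ := dvr_absorb W hzv hz0 (θ a₀)
    refine ⟨N₀ + 1, fun N hN hmem => ha ?_⟩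
    obtain ⟨n, rfl⟩ : ∃ n, N = n + 1 := ⟨N - 1, by omega⟩
    have hw := hN₀ n (by omega)
    have h1 : (t⁻¹) ^ n * θ (a ^ (n + 1) + a₀) = t + θ a₀ * t⁻¹ ^ n := by
      rw [map_add, map_pow, ← ht, pow_succ, inv_pow]
      field_simp
    have h2 : t + θ a₀ * t⁻¹ ^ n ∈ W := h1 ▸ W.mul_mem _ _ (W.toSubring.pow_mem hzW n) hmem
    have h3 : t = (t + θ a₀ * t⁻¹ ^ n) - θ a₀ * t⁻¹ ^ n := by ring
    rw [h3]
    exact W.toSubring.sub_mem h2 hw
  keep := by
    intro a a₀ ha ha₀ N hmem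
    have ha' : θ a ∈ W := not_not.mp ha
    apply ha₀
    have h3 : θ a₀ = θ (a ^ N + a₀) - θ a ^ N := by rw [map_add, map_pow]; ring
    rw [h3]
    exact W.toSubring.sub_mem hmem (W.toSubring.pow_mem ha' N)

section Domain

variable {D : Type u} [CommRing D] [IsDomain D] [IsNoetherianRing D] (K : Type u) [Field K] [Algebra D K]
  [IsFractionRing D K] (𝔫 : Ideal D) [𝔫.IsPrime]

/-- the localization of `D` at `𝔫` as a subalgebra of the fraction field -/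
noncomputable def locAlg : Subalgebra D K :=
  Localization.subalgebra.ofField K 𝔫.primeCompl 𝔫.primeCompl_le_nonZeroDivisors

/-- the localization of `D` at `𝔫` as a subring of the fraction field -/
noncomputable def locSub : Subring K := (locAlg K 𝔫).toSubring

noncomputable instance : Algebra D (locSub K 𝔫) := inferInstanceAs (Algebra D (locAlg K 𝔫))

instance : IsLocalization.AtPrime (locSub K 𝔫) 𝔫 :=
  inferInstanceAs (IsLocalization 𝔫.primeCompl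
    (Localization.subalgebra.ofField K 𝔫.primeCompl 𝔫.primeCompl_le_nonZeroDivisors))

instance : IsFractionRing (locSub K 𝔫) K :=
  inferInstanceAs (IsFractionRing
    (Localization.subalgebra.ofField K 𝔫.primeCompl 𝔫.primeCompl_le_nonZeroDivisors) K)

instance : IsNoetherianRing (locSub K 𝔫) :=
  IsLocalization.isNoetherianRing 𝔫.primeCompl (locSub K 𝔫) inferInstance

instance : IsLocalRing (locSub K 𝔫) := IsLocalization.AtPrime.isLocalRing (locSub K 𝔫) 𝔫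

lemma mem_locSub_iff (k : K) : k ∈ locSub K 𝔫 ↔
    ∃ d s : D, s ∉ 𝔫 ∧ k = algebraMap D K d * (algebraMap D K s)⁻¹ := by
  constructor
  · rintro ⟨d, s, hs, rfl⟩
    exact ⟨d, s, hs, rfl⟩
  · rintro ⟨d, s, hs, rfl⟩
    exact ⟨d, s, hs, rfl⟩

lemma coe_algebraMap_locSub (d : D) : ((algebraMap D (locSub K 𝔫) d : locSub K 𝔫) : K) = algebraMap D K d := rfl

variable {K 𝔫} (h : D)

/-- valuation subrings of `K` containing `D` in which `h` is not a unit -/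
def Centered (W : ValuationSubring K) : Prop :=
  (∀ d : D, algebraMap D K d ∈ W) ∧ W.valuation (algebraMap D K h) < 1

variable {h}

lemma Centered.val_lt_one_iff {W : ValuationSubring K} (hW : Centered h W)
    (huniq : ∀ 𝔭 : Ideal D, 𝔭.IsPrime → h ∈ 𝔭 → 𝔭 = 𝔫) (d : D) :
    W.valuation (algebraMap D K d) < 1 ↔ d ∈ 𝔫 := by
  let φ : D →+* W := (algebraMap D K).codRestrict W.toSubring hW.1
  have hP : ((IsLocalRing.maximalIdeal W).comap φ).IsPrime := Ideal.comap_isPrime _ _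
  have hmem : ∀ d, d ∈ (IsLocalRing.maximalIdeal W).comap φ ↔ W.valuation (algebraMap D K d) < 1 := by
    intro d
    rw [Ideal.mem_comap, W.valuation_lt_one_iff]
    rfl
  have := huniq _ hP ((hmem h).2 hW.2)
  rw [← hmem, this]

lemma Centered.locSub_le {W : ValuationSubring K} (hW : Centered h W)
    (huniq : ∀ 𝔭 : Ideal D, 𝔭.IsPrime → h ∈ 𝔭 → 𝔭 = 𝔫) : locSub K 𝔫 ≤ W.toSubring := by
  intro k hk
  obtain ⟨d, s, hs, rfl⟩ := (mem_locSub_iff K 𝔫 k).1 hk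
  have h1 : W.valuation (algebraMap D K s) = 1 := by
    refine le_antisymm ((W.valuation_le_one_iff _).mpr (hW.1 s)) (not_lt.mp fun hlt => hs ?_)
    exact (hW.val_lt_one_iff huniq s).1 hlt
  exact W.mul_mem _ _ (hW.1 d) (inv_mem_of_val_eq_one W h1)

lemma Centered.ne_top {W : ValuationSubring K} (hW : Centered h W) (h0 : h ≠ 0) : W ≠ ⊤ :=
  ne_top_of_val_lt_one W (fun h' => h0 (IsFractionRing.injective D K (h'.trans (map_zero _).symm))) hW.2

include 𝔫 in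
lemma height_le_one (hh : h ∈ 𝔫) (huniq : ∀ 𝔭 : Ideal D, 𝔭.IsPrime → h ∈ 𝔭 → 𝔭 = 𝔫) : 𝔫.height ≤ 1 := by
  have : 𝔫 ∈ (Ideal.span {h}).minimalPrimes := by
    refine ⟨⟨inferInstance, (Ideal.span_singleton_le_iff_mem _).2 hh⟩, fun q hq _ => ?_⟩
    rw [huniq q hq.1 ((Ideal.span_singleton_le_iff_mem _).1 hq.2)]
  exact Ideal.height_le_one_of_isPrincipal_of_mem_minimalPrimes _ _ this

lemma krullDimLE_locSub (hh : h ∈ 𝔫) (huniq : ∀ 𝔭 : Ideal D, 𝔭.IsPrime → h ∈ 𝔭 → 𝔭 = 𝔫) :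
    Ring.KrullDimLE 1 (locSub K 𝔫) := by
  rw [Ring.krullDimLE_iff, IsLocalization.AtPrime.ringKrullDim_eq_height 𝔫 (locSub K 𝔫)]
  exact_mod_cast height_le_one hh huniq

lemma algebraMap_mem_maximalIdeal_iff (d : D) :
    algebraMap D (locSub K 𝔫) d ∈ IsLocalRing.maximalIdeal (locSub K 𝔫) ↔ d ∈ 𝔫 :=
  IsLocalization.AtPrime.to_map_mem_maximal_iff (locSub K 𝔫) 𝔫 d

lemma algebraMap_mem_radK (hh : h ∈ 𝔫) : algebraMap D K h ∈ radK (locSub K 𝔫) := by
  refine ⟨(algebraMap D (locSub K 𝔫) h).2, fun m hm => ?_⟩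
  rw [IsLocalRing.eq_maximalIdeal hm]
  exact (algebraMap_mem_maximalIdeal_iff h).2 hh

lemma not_isField_locSub (hh : h ∈ 𝔫) (h0 : h ≠ 0) : ¬ IsField (locSub K 𝔫) := by
  intro hf
  have h1 := (IsLocalRing.isField_iff_maximalIdeal_eq.1 hf)
  have h2 := (algebraMap_mem_maximalIdeal_iff (K := K) h).2 hh
  rw [h1, Ideal.mem_bot] at h2
  have h3 := congrArg (Subtype.val) h2
  rw [coe_algebraMap_locSub] at h3
  exact h0 (IsFractionRing.injective D K (h3.trans (map_zero _).symm))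

lemma good_locSub (hh : h ∈ 𝔫) (h0 : h ≠ 0) (huniq : ∀ 𝔭 : Ideal D, 𝔭.IsPrime → h ∈ 𝔭 → 𝔭 = 𝔫) :
    Good (locSub K 𝔫) where
  frac := inferInstance
  dim := krullDimLE_locSub hh huniq
  nf := not_isField_locSub hh h0
  sl := inferInstance

lemma centered_of_le (hh : h ∈ 𝔫) (huniq : ∀ 𝔭 : Ideal D, 𝔭.IsPrime → h ∈ 𝔭 → 𝔭 = 𝔫)
    (W : ValuationSubring K) (hBW : locSub K 𝔫 ≤ W.toSubring) (hW : W ≠ ⊤) : Centered h W := by
  have := krullDimLE_locSub (K := K) hh huniq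
  exact ⟨fun d => hBW (algebraMap D (locSub K 𝔫) d).2,
    val_lt_one_of_mem_radK (locSub K 𝔫) W hBW hW (algebraMap_mem_radK hh)⟩

theorem finite_centered (hh : h ∈ 𝔫) (h0 : h ≠ 0) (huniq : ∀ 𝔭 : Ideal D, 𝔭.IsPrime → h ∈ 𝔭 → 𝔭 = 𝔫) :
    {W : ValuationSubring K | Centered h W}.Finite :=
  (finite_valuationSubrings (locSub K 𝔫) (good_locSub hh h0 huniq)).subset
    fun _ hW => ⟨hW.locSub_le huniq, hW.ne_top h0⟩

theorem isDVR_of_centered (hh : h ∈ 𝔫) (h0 : h ≠ 0) (huniq : ∀ 𝔭 : Ideal D, 𝔭.IsPrime → h ∈ 𝔭 → 𝔭 = 𝔫)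
    {W : ValuationSubring K} (hW : Centered h W) : IsDiscreteValuationRing W := by
  have := krullDimLE_locSub (K := K) hh huniq
  exact isDVR_of_le (locSub K 𝔫) W (hW.locSub_le huniq) (hW.ne_top h0)

theorem exists_centered (hh : h ∈ 𝔫) : ∃ W : ValuationSubring K, Centered h W := by
  obtain ⟨V, hV1, hV2⟩ := exists_valuationSubring_of_ideal' (locSub K 𝔫)
    (IsLocalRing.maximalIdeal (locSub K 𝔫)) (Ideal.IsPrime.ne_top inferInstance)
  exact ⟨V, fun d => hV1 (algebraMap D (locSub K 𝔫) d).2,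
    hV2 _ ((algebraMap_mem_maximalIdeal_iff h).2 hh)⟩

theorem exists_pow_mul_eq (hh : h ∈ 𝔫) (h0 : h ≠ 0) (huniq : ∀ 𝔭 : Ideal D, 𝔭.IsPrime → h ∈ 𝔭 → 𝔭 = 𝔫)
    (e : K) (he : ∀ W : ValuationSubring K, Centered h W → W.valuation e < 1) :
    ∃ N : ℕ, 1 ≤ N ∧ ∃ d ∈ 𝔫, ∃ s, s ∉ 𝔫 ∧ e ^ N * algebraMap D K s = algebraMap D K d := by
  have := krullDimLE_locSub (K := K) hh huniq
  obtain ⟨N₀, hN₀⟩ := exists_pow_mem_radK (locSub K 𝔫) (not_isField_locSub hh h0) e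
    (fun W hBW hW => he W (centered_of_le hh huniq W hBW hW))
  obtain ⟨hmem, hrad⟩ := hN₀ (N₀ + 1) (Nat.le_succ _)
  obtain ⟨d, s, hs, hds⟩ := (mem_locSub_iff K 𝔫 _).1 hmem
  have hs0 : algebraMap D K s ≠ 0 := by
    intro h'
    apply hs
    rw [IsFractionRing.injective D K (h'.trans (map_zero _).symm)]
    exact 𝔫.zero_mem
  have heq : e ^ (N₀ + 1) * algebraMap D K s = algebraMap D K d := by
    rw [hds, mul_assoc, inv_mul_cancel₀ hs0, mul_one]
  refine ⟨N₀ + 1, Nat.le_add_left _ _, d, ?_, s, hs, heq⟩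
  have h1 := hrad _ (IsLocalRing.maximalIdeal.isMaximal (locSub K 𝔫))
  have h2 : algebraMap D (locSub K 𝔫) d = ⟨e ^ (N₀ + 1), hmem⟩ * algebraMap D (locSub K 𝔫) s :=
    Subtype.ext heq.symm
  rw [← algebraMap_mem_maximalIdeal_iff (K := K), h2]
  exact Ideal.mul_mem_right _ _ h1

end Domain

section General

variable {B : Type u} [CommRing B] {S : Type u} [CommRing S] [Algebra B S] (h : B)
  [IsLocalization.Away h S] (𝔪 : Ideal B) [𝔪.IsPrime]

/-- `B → Frac (B/𝔮)` -/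
noncomputable def kap (𝔮 : Ideal B) [𝔮.IsPrime] : B →+* FractionRing (B ⧸ 𝔮) :=
  (algebraMap (B ⧸ 𝔮) (FractionRing (B ⧸ 𝔮))).comp (Ideal.Quotient.mk 𝔮)

lemma kap_eq_zero_iff (𝔮 : Ideal B) [𝔮.IsPrime] (b : B) : kap 𝔮 b = 0 ↔ b ∈ 𝔮 := by
  rw [kap, RingHom.comp_apply, ← Ideal.Quotient.eq_zero_iff_mem]
  exact ⟨fun h' => IsFractionRing.injective (B ⧸ 𝔮) _ (h'.trans (map_zero _).symm), fun h' => by rw [h', map_zero]⟩

lemma isUnit_kap {𝔮 : Ideal B} [𝔮.IsPrime] (hq : h ∉ 𝔮) : IsUnit (kap 𝔮 h) :=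
  isUnit_iff_ne_zero.2 (fun h' => hq ((kap_eq_zero_iff 𝔮 h).1 h'))

/-- the canonical map `B_h → Frac (B/𝔮)` for a prime `𝔮` not containing `h` -/
noncomputable def toFrac (𝔮 : Ideal B) [𝔮.IsPrime] (hq : h ∉ 𝔮) : S →+* FractionRing (B ⧸ 𝔮) :=
  IsLocalization.Away.lift h (isUnit_kap h hq)

lemma toFrac_algebraMap (𝔮 : Ideal B) [𝔮.IsPrime] (hq : h ∉ 𝔮) (b : B) :
    toFrac (S := S) h 𝔮 hq (algebraMap B S b) = kap 𝔮 b :=
  IsLocalization.Away.lift_eq h _ b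

/-- elements killed by `toFrac` lie in every prime over `𝔮` -/
lemma mem_of_toFrac_eq_zero (𝔮 : Ideal B) [𝔮.IsPrime] (hq : h ∉ 𝔮) (P : Ideal S) [P.IsPrime]
    (hP : P.comap (algebraMap B S) = 𝔮) (w : S) (hw : toFrac h 𝔮 hq w = 0) : w ∈ P := by
  obtain ⟨n, b, hb⟩ := IsLocalization.Away.surj h w
  have h1 := congrArg (toFrac h 𝔮 hq) hb
  rw [map_mul, hw, zero_mul, toFrac_algebraMap] at h1
  have h2 : b ∈ 𝔮 := (kap_eq_zero_iff 𝔮 b).1 h1.symm
  rw [← hP, Ideal.mem_comap, ← hb] at h2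
  rcases Ideal.IsPrime.mem_or_mem inferInstance h2 with h3 | h3
  · exact h3
  · exfalso
    exact (Ideal.IsPrime.ne_top inferInstance : P ≠ ⊤) (Ideal.eq_top_of_isUnit_mem _ h3
      ((IsLocalization.Away.algebraMap_isUnit h).pow n))

variable [IsNoetherianRing B]

include 𝔪 in
lemma height_le_one' (hh : h ∈ 𝔪) (huniq : ∀ 𝔭 : Ideal B, 𝔭.IsPrime → h ∈ 𝔭 → 𝔭 = 𝔪) : 𝔪.height ≤ 1 := by
  have : 𝔪 ∈ (Ideal.span {h}).minimalPrimes := by
    refine ⟨⟨inferInstance, (Ideal.span_singleton_le_iff_mem _).2 hh⟩, fun q hq _ => ?_⟩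
    rw [huniq q hq.1 ((Ideal.span_singleton_le_iff_mem _).1 hq.2)]
  exact Ideal.height_le_one_of_isPrincipal_of_mem_minimalPrimes _ _ this

/-- the primes below `𝔪` not containing `h` -/
def QSet : Set (PrimeSpectrum B) := {p | p.asIdeal ≤ 𝔪 ∧ h ∉ p.asIdeal}

lemma finite_QSet (hh : h ∈ 𝔪) (huniq : ∀ 𝔭 : Ideal B, 𝔭.IsPrime → h ∈ 𝔭 → 𝔭 = 𝔪) : (QSet h 𝔪).Finite := by
  have hfin := minimalPrimes.finite_of_isNoetherianRing B
  refine Set.Finite.of_finite_image (f := PrimeSpectrum.asIdeal) (hfin.subset ?_)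
    (fun p _ q _ hpq => PrimeSpectrum.ext hpq)
  rintro _ ⟨p, ⟨hp1, hp2⟩, rfl⟩
  have hlt : p.asIdeal < 𝔪 := lt_of_le_of_ne hp1 (fun h' => hp2 (h' ▸ hh))
  have h1 := Ideal.height_add_one_le_of_lt_of_isPrime hlt
  have h2 := h1.trans (height_le_one' h 𝔪 hh huniq)
  rw [← Ideal.height_eq_zero_iff]
  have h3 : p.asIdeal.height + 1 ≤ 0 + 1 := by rwa [zero_add]
  exact le_antisymm ((ENat.add_le_add_iff_right ENat.one_ne_top).mp h3) bot_le


include 𝔪 in
theorem exists_pow_eq_algebraMap (hh : h ∈ 𝔪) (huniq : ∀ 𝔭 : Ideal B, 𝔭.IsPrime → h ∈ 𝔭 → 𝔭 = 𝔪)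
    (u y : S) (σ : B) (P : B[X]) (hP : ∀ i, P.coeff i ∈ 𝔪) (hy : y = aeval u P)
    (huy : u * y = algebraMap B S σ) : ∃ p : ℕ, 1 ≤ p ∧ ∃ b ∈ 𝔪, y ^ p = algebraMap B S b := by
  classical
  set n := P.natDegree + 1 with hn
  let a : ℕ → B := fun i => P.coeff i * σ ^ i
  have ha : ∀ i, a i ∈ 𝔪 := fun i => Ideal.mul_mem_right _ _ (hP i)
  -- the integral equation
  have heq : y ^ n = ∑ i ∈ Finset.range n, algebraMap B S (a i) * y ^ (n - 1 - i) := by
    have h1 : y = ∑ i ∈ Finset.range n, P.coeff i • u ^ i := by rw [hy, aeval_eq_sum_range]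
    have h2 : y ^ n = y ^ (n - 1) * ∑ i ∈ Finset.range n, P.coeff i • u ^ i := by
      rw [← h1, ← pow_succ]
      congr 1
    rw [h2, Finset.mul_sum]
    refine Finset.sum_congr rfl fun i hi => ?_
    have hi' : i < n := Finset.mem_range.1 hi
    have h3 : y ^ (n - 1) = y ^ i * y ^ (n - 1 - i) := by
      rw [← pow_add]
      congr 1
      omega
    have h4 : u ^ i * y ^ i = algebraMap B S (σ ^ i) := by rw [← mul_pow, huy, map_pow]
    rw [h3, Algebra.smul_def, map_mul, ← h4]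
    ring
  have heq' : y ^ n = ∑ j ∈ Finset.range n, algebraMap B S (a (n - 1 - j)) * y ^ j := by
    rw [heq, ← Finset.sum_range_reflect]
    refine Finset.sum_congr rfl fun j hj => ?_
    have hj' : j < n := Finset.mem_range.1 hj
    have : n - 1 - (n - 1 - j) = j := by omega
    rw [this]
  -- integrality
  have hint : IsIntegral B y := by
    refine ⟨X ^ n - ∑ i : Fin n, C (a (n - 1 - i)) * X ^ (i : ℕ),
      monic_X_pow_sub (degree_sum_fin_lt _), ?_⟩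
    rw [← aeval_def, map_sub, map_pow, aeval_X, map_sum, heq', Finset.sum_range, sub_eq_zero]
    refine Finset.sum_congr rfl fun i _ => ?_
    simp only [map_mul, aeval_C, map_pow, aeval_X, a]
  set T : Subalgebra B S := Algebra.adjoin B {y} with hT
  have hfg : T.toSubmodule.FG := hint.fg_adjoin_singleton
  obtain ⟨s, hs⟩ := hfg
  obtain ⟨⟨hk, ⟨k, rfl⟩⟩, hk'⟩ := IsLocalization.exist_integer_multiples_of_finset (Submonoid.powers h) s
  -- the conductor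
  have hcond : ∀ t ∈ T, ∃ b' : B, algebraMap B S (h ^ k) * t = algebraMap B S b' := by
    intro t ht
    have ht' : t ∈ Submodule.span B (s : Set S) := by rw [hs]; exact ht
    induction ht' using Submodule.span_induction with
    | mem x hx =>
      obtain ⟨b', hb'⟩ := hk' x hx
      exact ⟨b', by rw [hb', Algebra.smul_def]⟩
    | zero => exact ⟨0, by simp⟩
    | add x z _ _ hx hz =>
      obtain ⟨b1, hb1⟩ := hx (by rw [← Subalgebra.mem_toSubmodule, ← hs]; assumption)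
      obtain ⟨b2, hb2⟩ := hz (by rw [← Subalgebra.mem_toSubmodule, ← hs]; assumption)
      exact ⟨b1 + b2, by rw [mul_add, hb1, hb2, map_add]⟩
    | smul r x _ hx =>
      obtain ⟨b1, hb1⟩ := hx (by rw [← Subalgebra.mem_toSubmodule, ← hs]; assumption)
      exact ⟨r * b1, by rw [Algebra.smul_def, mul_left_comm, hb1, map_mul]⟩
  -- a power of `𝔪` lies in `(h)`
  have hrad : (Ideal.span {h}).radical = 𝔪 := by
    rw [Ideal.radical_eq_sInf]
    refine le_antisymm (sInf_le ⟨(Ideal.span_singleton_le_iff_mem _).2 hh, inferInstance⟩)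
      (le_sInf fun J hJ => ?_)
    rw [huniq J hJ.2 ((Ideal.span_singleton_le_iff_mem _).1 hJ.1)]
  obtain ⟨l, hl⟩ := Ideal.exists_radical_pow_le_of_fg (Ideal.span {h})
    (by rw [hrad]; exact IsNoetherian.noetherian 𝔪)
  rw [hrad] at hl
  have hlk : 𝔪 ^ (l * k) ≤ Ideal.span {h ^ k} := by
    rw [pow_mul, ← Ideal.span_singleton_pow]
    exact Ideal.pow_right_mono hl k
  -- key claim
  have key : ∀ μ ∈ 𝔪 ^ (l * k + 1), ∀ t ∈ T, ∃ b ∈ 𝔪, algebraMap B S μ * t = algebraMap B S b := by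
    intro μ hμ
    rw [pow_succ] at hμ
    refine Submodule.mul_induction_on hμ ?_ ?_
    · intro μ₁ h1 μ₂ h2 t ht
      obtain ⟨r, hr⟩ := Ideal.mem_span_singleton'.1 (hlk h1)
      obtain ⟨b', hb'⟩ := hcond t ht
      refine ⟨r * μ₂ * b', Ideal.mul_mem_right _ _ (Ideal.mul_mem_left _ _ h2), ?_⟩
      rw [← hr, map_mul, map_mul, map_mul, ← hb', map_mul]
      ring
    · intro x z hx hz t ht
      obtain ⟨b1, hb1m, hb1⟩ := hx t ht
      obtain ⟨b2, hb2m, hb2⟩ := hz t ht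
      exact ⟨b1 + b2, 𝔪.add_mem hb1m hb2m, by rw [map_add, add_mul, hb1, hb2, map_add]⟩
  -- the ideal `𝔪 T`
  let yT : T := ⟨y, Algebra.subset_adjoin (Set.mem_singleton y)⟩
  have h1 : yT ^ n ∈ 𝔪.map (algebraMap B T) := by
    have : yT ^ n = ∑ j ∈ Finset.range n, algebraMap B T (a (n - 1 - j)) * yT ^ j := by
      apply Subtype.ext
      push_cast
      exact heq'
    rw [this]
    exact Ideal.sum_mem _ fun j _ => Ideal.mul_mem_right _ _ (Ideal.mem_map_of_mem _ (ha _))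
  have h2 : yT ^ (n * (l * k + 1)) ∈ (𝔪 ^ (l * k + 1)).map (algebraMap B T) := by
    rw [pow_mul, Ideal.map_pow]
    exact Ideal.pow_mem_pow h1 _
  have h3 : ∀ t ∈ (𝔪 ^ (l * k + 1)).map (algebraMap B T), ∀ t' : T,
      ∃ b ∈ 𝔪, (t : S) * (t' : S) = algebraMap B S b := by
    intro t ht
    induction ht using Submodule.span_induction with
    | mem x hx =>
      obtain ⟨μ, hμ, rfl⟩ := hx
      intro t'
      exact key μ hμ t' t'.2
    | zero => exact fun t' => ⟨0, 𝔪.zero_mem, by simp⟩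
    | add x z _ _ hx hz =>
      intro t'
      obtain ⟨b1, hb1m, hb1⟩ := hx t'
      obtain ⟨b2, hb2m, hb2⟩ := hz t'
      exact ⟨b1 + b2, 𝔪.add_mem hb1m hb2m, by rw [Subalgebra.coe_add, add_mul, hb1, hb2, map_add]⟩
    | smul τ x _ hx =>
      intro t'
      obtain ⟨b1, hb1m, hb1⟩ := hx (τ * t')
      refine ⟨b1, hb1m, ?_⟩
      rw [← hb1]
      push_cast
      rw [smul_eq_mul]
      push_cast
      ring
  obtain ⟨b, hbm, hb⟩ := h3 _ h2 1
  refine ⟨n * (l * k + 1), Nat.mul_pos (Nat.succ_pos _) (Nat.succ_pos _), b, hbm, ?_⟩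
  rw [← hb]
  push_cast
  rw [mul_one]


/-- elements `σ - u * γ` with `σ ∉ 𝔪` and `γ` a polynomial in `u` with coefficients in `𝔪` -/
def goodSub (u : S) : Submonoid S where
  carrier := {w | ∃ σ : B, σ ∉ 𝔪 ∧ ∃ P : B[X], (∀ i, P.coeff i ∈ 𝔪) ∧
    w = algebraMap B S σ - u * aeval u P}
  one_mem' := ⟨1, (Ideal.ne_top_iff_one 𝔪).1 (Ideal.IsPrime.ne_top inferInstance), 0, by simp, by simp⟩
  mul_mem' := by
    rintro _ _ ⟨σ₁, h1, P₁, hP₁, rfl⟩ ⟨σ₂, h2, P₂, hP₂, rfl⟩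
    refine ⟨σ₁ * σ₂, fun h' => (Ideal.IsPrime.mem_or_mem inferInstance h').elim h1 h2,
      C σ₁ * P₂ + C σ₂ * P₁ - X * P₁ * P₂, ?_, ?_⟩
    · rw [← Ideal.mem_map_C_iff] at hP₁ hP₂ ⊢
      exact Ideal.sub_mem _ (Ideal.add_mem _ (Ideal.mul_mem_left _ _ hP₂) (Ideal.mul_mem_left _ _ hP₁))
        (Ideal.mul_mem_left _ _ hP₂)
    · simp only [map_sub, map_add, map_mul, aeval_C, aeval_X]
      ring

include 𝔪 in
/-- **lifting**: if `c ^ N` has a "strong pole" modulo every prime below `𝔪`, a power of `c` has one in `B_h` -/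
theorem exists_pow_mul_eq_of_toFrac (hh : h ∈ 𝔪) (huniq : ∀ 𝔭 : Ideal B, 𝔭.IsPrime → h ∈ 𝔭 → 𝔭 = 𝔪)
    (c : S) (N : ℕ) (hN : 1 ≤ N)
    (H : ∀ (p : PrimeSpectrum B) (hp : p ∈ QSet h 𝔪), ∃ d ∈ 𝔪, ∃ s, s ∉ 𝔪 ∧
      toFrac h p.asIdeal hp.2 (algebraMap B S s - c ^ N * algebraMap B S d) = 0) :
    ∃ M : ℕ, 1 ≤ M ∧ ∃ b ∈ 𝔪, ∃ s, s ∉ 𝔪 ∧ c ^ M * algebraMap B S b = algebraMap B S s := by
  classical
  have hfin := finite_QSet h 𝔪 hh huniq
  have := hfin.fintype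
  choose d hd s hs hds using H
  set u := c ^ N with hu
  let fac : ↥(QSet h 𝔪) → S := fun p => algebraMap B S (s p.1 p.2) - u * algebraMap B S (d p.1 p.2)
  set z : S := ∏ p : ↥(QSet h 𝔪), fac p with hz
  have hzg : z ∈ goodSub 𝔪 u := by
    refine Submonoid.prod_mem _ fun p _ => ⟨s p.1 p.2, hs p.1 p.2, C (d p.1 p.2), fun i => ?_, ?_⟩
    · rw [coeff_C]
      split_ifs
      · exact hd p.1 p.2
      · exact 𝔪.zero_mem
    · rw [aeval_C]
  have hann : ∃ s₀ : B, s₀ ∉ 𝔪 ∧ ∃ m : ℕ, algebraMap B S s₀ * z ^ m = 0 := by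
    by_contra hcon
    let T : Submonoid S := Submonoid.map (algebraMap B S) 𝔪.primeCompl ⊔ Submonoid.powers z
    have hdisj : Disjoint (((⊥ : Ideal S) : Ideal S) : Set S) (T : Set S) := by
      rw [Set.disjoint_left]
      intro x hx hxT
      have hx0 : x = 0 := hx
      rw [hx0] at hxT
      obtain ⟨y, hy, w, hw, hyw⟩ := Submonoid.mem_sup.1 hxT
      obtain ⟨s₀, hs₀, rfl⟩ := hy
      obtain ⟨m, rfl⟩ := hw
      exact hcon ⟨s₀, hs₀, m, hyw⟩
    obtain ⟨P, hPprime, -, hPdisj⟩ := Ideal.exists_le_prime_disjoint ⊥ T hdisj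
    rw [Set.disjoint_left] at hPdisj
    let p : PrimeSpectrum B := ⟨P.comap (algebraMap B S), Ideal.comap_isPrime _ _⟩
    have hp : p ∈ QSet h 𝔪 := by
      refine ⟨fun b hb => ?_, fun hb => ?_⟩
      · by_contra hbm
        exact hPdisj hb (Submonoid.mem_sup_left ⟨b, hbm, rfl⟩)
      · exact hPprime.ne_top (Ideal.eq_top_of_isUnit_mem _ hb (IsLocalization.Away.algebraMap_isUnit h))
    have h1 : fac ⟨p, hp⟩ ∈ P := mem_of_toFrac_eq_zero h p.asIdeal hp.2 P rfl _ (hds p hp)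
    have h2 : z ∈ P := Ideal.mem_of_dvd _ (Finset.dvd_prod_of_mem fac (Finset.mem_univ _)) h1
    exact hPdisj h2 (Submonoid.mem_sup_right (Submonoid.mem_powers z))
  obtain ⟨s₀, hs₀, m, hm⟩ := hann
  have h0 : algebraMap B S s₀ * z ^ m ∈ goodSub 𝔪 u :=
    (goodSub 𝔪 u).mul_mem ⟨s₀, hs₀, 0, by simp, by simp⟩ ((goodSub 𝔪 u).pow_mem hzg m)
  rw [hm] at h0
  obtain ⟨σ, hσ, P, hP, h0'⟩ := h0
  have huy : u * aeval u P = algebraMap B S σ := (sub_eq_zero.1 h0'.symm).symm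
  obtain ⟨p, hp, b, hb, hyb⟩ := exists_pow_eq_algebraMap h 𝔪 hh huniq u (aeval u P) σ P hP rfl huy
  refine ⟨N * p, Nat.mul_pos hN hp, b, hb, σ ^ p, fun h' => hσ (Ideal.IsPrime.mem_of_pow_mem inferInstance _ h'), ?_⟩
  rw [pow_mul, ← hu, ← hyb, ← mul_pow, huy, map_pow]

/-- facts about the quotient by a prime below `𝔪` -/
lemma quot_facts (huniq : ∀ 𝔭 : Ideal B, 𝔭.IsPrime → h ∈ 𝔭 → 𝔭 = 𝔪) (𝔮 : Ideal B) [𝔮.IsPrime] (hq : 𝔮 ≤ 𝔪) :
    (𝔪.map (Ideal.Quotient.mk 𝔮)).IsPrime ∧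
      ∀ 𝔭 : Ideal (B ⧸ 𝔮), 𝔭.IsPrime → Ideal.Quotient.mk 𝔮 h ∈ 𝔭 → 𝔭 = 𝔪.map (Ideal.Quotient.mk 𝔮) := by
  refine ⟨Ideal.map_isPrime_of_surjective Ideal.Quotient.mk_surjective (by rwa [Ideal.mk_ker]), ?_⟩
  intro 𝔭 h𝔭 hh
  have h1 := huniq (𝔭.comap (Ideal.Quotient.mk 𝔮)) (Ideal.comap_isPrime _ _) hh
  rw [← h1, Ideal.map_comap_of_surjective _ Ideal.Quotient.mk_surjective]

/-- **the local pole theorem**: a finite family of pole conditions on `A` (one for each branch of `Spec B` at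
`𝔪`) such that any `a` satisfying them all has a power with a "strong pole" at `𝔪`. -/
theorem exists_approxPred {A : Type u} [CommRing A] (ρ : A →+* S) (hh : h ∈ 𝔪)
    (huniq : ∀ 𝔭 : Ideal B, 𝔭.IsPrime → h ∈ 𝔭 → 𝔭 = 𝔪)
    (hsep : ∀ (𝔮 : Ideal B) [𝔮.IsPrime] (hq : h ∉ 𝔮) (W : ValuationSubring (FractionRing (B ⧸ 𝔮))),
      (∀ b : B, kap 𝔮 b ∈ W) → W.valuation (kap 𝔮 h) < 1 → ∃ a : A, toFrac h 𝔮 hq (ρ a) ∉ W) :
    ∃ (ι : Type u) (_ : Finite ι) (P : ι → A → Prop), (∀ i, ApproxPred (P i)) ∧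
      ∀ a, (∀ i, P i a) → ∃ M : ℕ, 1 ≤ M ∧ ∃ b ∈ 𝔪, ∃ s, s ∉ 𝔪 ∧
        ρ a ^ M * algebraMap B S b = algebraMap B S s := by
  classical
  have hfin := finite_QSet h 𝔪 hh huniq
  have : Finite ↥(QSet h 𝔪) := hfin.to_subtype
  -- data attached to a prime in `QSet`
  have hprime : ∀ p : ↥(QSet h 𝔪), (𝔪.map (Ideal.Quotient.mk p.1.asIdeal)).IsPrime := fun p =>
    (quot_facts h 𝔪 huniq p.1.asIdeal p.2.1).1
  have huq : ∀ p : ↥(QSet h 𝔪), ∀ 𝔭 : Ideal (B ⧸ p.1.asIdeal), 𝔭.IsPrime →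
      Ideal.Quotient.mk p.1.asIdeal h ∈ 𝔭 → 𝔭 = 𝔪.map (Ideal.Quotient.mk p.1.asIdeal) := fun p =>
    (quot_facts h 𝔪 huniq p.1.asIdeal p.2.1).2
  have hhq : ∀ p : ↥(QSet h 𝔪), Ideal.Quotient.mk p.1.asIdeal h ∈ 𝔪.map (Ideal.Quotient.mk p.1.asIdeal) :=
    fun p => Ideal.mem_map_of_mem _ hh
  have hh0 : ∀ p : ↥(QSet h 𝔪), Ideal.Quotient.mk p.1.asIdeal h ≠ 0 := fun p h' =>
    p.2.2 (Ideal.Quotient.eq_zero_iff_mem.1 h')
  let Fib : ↥(QSet h 𝔪) → Type u := fun p =>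
    {W : ValuationSubring (FractionRing (B ⧸ p.1.asIdeal)) // Centered (Ideal.Quotient.mk p.1.asIdeal h) W}
  have hFib : ∀ p, Finite (Fib p) := fun p => by
    have := hprime p
    exact (finite_centered (hhq p) (hh0 p) (huq p)).to_subtype
  refine ⟨Σ p, Fib p, inferInstance, fun i a => toFrac h i.1.1.asIdeal i.1.2.2 (ρ a) ∉ i.2.1, ?_, ?_⟩
  · rintro ⟨p, W, hW⟩
    have := hprime p
    have := isDVR_of_centered (hhq p) (hh0 p) (huq p) hW
    exact approxPred_of_dvr ((toFrac h p.1.asIdeal p.2.2).comp ρ) W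
      (hsep p.1.asIdeal p.2.2 W (fun b => hW.1 _) hW.2)
  · intro a ha
    -- per prime
    have hper : ∀ p : ↥(QSet h 𝔪), ∃ N : ℕ, 1 ≤ N ∧ ∃ d ∈ 𝔪, ∃ s, s ∉ 𝔪 ∧
        kap p.1.asIdeal s = toFrac h p.1.asIdeal p.2.2 (ρ a) ^ N * kap p.1.asIdeal d := by
      intro p
      have := hprime p
      set t := toFrac h p.1.asIdeal p.2.2 (ρ a) with ht
      have htW : ∀ W : ValuationSubring (FractionRing (B ⧸ p.1.asIdeal)),
          Centered (Ideal.Quotient.mk p.1.asIdeal h) W → t ∉ W := fun W hW => ha ⟨p, W, hW⟩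
      obtain ⟨W₀, hW₀⟩ := exists_centered (K := FractionRing (B ⧸ p.1.asIdeal)) (hhq p)
      have ht0 : t ≠ 0 := fun h' => htW W₀ hW₀ (h' ▸ W₀.zero_mem)
      have hval : ∀ W : ValuationSubring (FractionRing (B ⧸ p.1.asIdeal)),
          Centered (Ideal.Quotient.mk p.1.asIdeal h) W → W.valuation t⁻¹ < 1 := by
        intro W hW
        have h1 : t⁻¹ ∈ W := (W.mem_or_inv_mem t).resolve_left (htW W hW)
        refine lt_of_le_of_ne ((W.valuation_le_one_iff _).mpr h1) (fun h2 => htW W hW ?_)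
        rw [map_inv₀, inv_eq_one] at h2
        exact (W.valuation_le_one_iff _).mp h2.le
      obtain ⟨N, hN, dbar, hdbar, sbar, hsbar, heq⟩ := exists_pow_mul_eq (hhq p) (hh0 p) (huq p) t⁻¹ hval
      obtain ⟨d, rfl⟩ := Ideal.Quotient.mk_surjective dbar
      obtain ⟨s, rfl⟩ := Ideal.Quotient.mk_surjective sbar
      refine ⟨N, hN, d, (Ideal.mem_quotient_iff_mem p.2.1).1 hdbar, s,
        fun hs => hsbar (Ideal.mem_map_of_mem _ hs), ?_⟩
      have heq' : t⁻¹ ^ N * kap p.1.asIdeal s = kap p.1.asIdeal d := heq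
      rw [← heq', inv_pow, ← mul_assoc, mul_inv_cancel₀ (pow_ne_zero N ht0), one_mul]
    choose Np hNp d hd s hs hds using hper
    have := Fintype.ofFinite ↥(QSet h 𝔪)
    set N := ∏ p : ↥(QSet h 𝔪), Np p with hNdef
    have hNpos : 1 ≤ N := Nat.one_le_iff_ne_zero.2 (Finset.prod_ne_zero_iff.2 fun p _ => by have := hNp p; omega)
    refine exists_pow_mul_eq_of_toFrac h 𝔪 hh huniq (ρ a) N hNpos fun p hp => ?_
    obtain ⟨N', hN'⟩ : Np ⟨p, hp⟩ ∣ N := Finset.dvd_prod_of_mem Np (Finset.mem_univ _)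
    have hN'pos : 1 ≤ N' := by
      rcases Nat.eq_zero_or_pos N' with h0 | h0
      · rw [h0, mul_zero] at hN'; omega
      · exact h0
    refine ⟨d ⟨p, hp⟩ ^ N', Ideal.pow_mem_of_mem _ (hd ⟨p, hp⟩) _ hN'pos, s ⟨p, hp⟩ ^ N',
      fun h' => hs ⟨p, hp⟩ (Ideal.IsPrime.mem_of_pow_mem inferInstance _ h'), ?_⟩
    rw [map_sub, map_mul, toFrac_algebraMap, toFrac_algebraMap, map_pow, map_pow, map_pow, hds ⟨p, hp⟩,
      hN', pow_mul, mul_pow, sub_self]

end General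

end Groth.Agent.Lib.PoleApprox42
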