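import Groth.Agent.Lib.PoleGlue42
import Groth.Agent.S1640
import Groth.Agent.Lib.H78GlobGen2

/-!
# helper42: integral separated schemes, finitely many one-dimensional points outside an affine open
(namespace `Groth.Agent.Lib.PoleInt42`)
-/

set_option autoImplicit false
universe u

open CategoryTheory CategoryTheory.Limits AlgebraicGeometry TopologicalSpace Opposite IsLocalRing
open Groth.Agent.Lib.CodimOne13 Groth.Agent.Lib.H78Atlas

namespace Groth.Agent.Lib.PoleInt42

variable {X : Scheme.{u}} [IsIntegral X]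

/-- for `x ∉ U` with one-dimensional Noetherian local ring, `Γ(U)` and `O_x` generate the function field -/
theorem sup_eq_top_of_notMem [X.IsSeparated] {U : X.Opens} (hU : IsAffineOpen U) [Nonempty U] {x : X}
    [IsNoetherianRing (X.presheaf.stalk x)] (hx : ringKrullDim (X.presheaf.stalk x) = 1) (hxU : x ∉ U) :
    img Γ(X, U) X.functionField ⊔ stalkSub x = ⊤ := by
  by_contra hne
  rw [sup_comm] at hne
  have := functionField_isFractionRing_of_isAffineOpen X U hU
  have f1 := isFractionRing_img (X.presheaf.stalk x) X.functionField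
  have f2 := isFractionRing_img Γ(X, U) X.functionField
  have n1 := isNoetherianRing_img (X.presheaf.stalk x) X.functionField
  have d1 : ringKrullDim (stalkSub x) = 1 :=
    (ringKrullDim_img (X.presheaf.stalk x) X.functionField).trans hx
  obtain ⟨O, hDVR, hAx, hAU⟩ :=
    (Groth.Agent.S7663.result X.functionField (stalkSub x) (img Γ(X, U) X.functionField) d1).mp hne
  have hOnf : ¬ IsField O := IsDiscreteValuationRing.not_isField O
  have lx : IsLocalHom (toVal O hAx) := isLocalHom_toVal hx.le O hOnf hAx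
  let φx : Spec (.of O) ⟶ X := Spec.map (CommRingCat.ofHom (toVal O hAx)) ≫ X.fromSpecStalk x
  let φU : Spec (.of O) ⟶ X := Spec.map (CommRingCat.ofHom (toVal O hAU)) ≫ hU.fromSpec
  let ιK : Spec X.functionField ⟶ Spec (.of O) :=
    Spec.map (CommRingCat.ofHom (algebraMap O X.functionField))
  have : IsDominant ιK := isDominant_SpecMap_of_injective _ Subtype.val_injective
  have hx' : ιK ≫ φx = X.fromSpecStalk (genericPoint X) := by
    have e : ιK ≫ Spec.map (CommRingCat.ofHom (toVal O hAx)) =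
        Spec.map (CommRingCat.ofHom (algebraMap (X.presheaf.stalk x) X.functionField)) :=
      (Spec.map_comp _ _).symm
    rw [← SpecMap_algebraMap_fromSpecStalk x]
    exact (Category.assoc _ _ _).symm.trans (congrArg (· ≫ X.fromSpecStalk x) e)
  have hηU : genericPoint X ∈ U := ((genericPoint_spec X).mem_open_set_iff U.2).mpr
    (by rw [Set.univ_inter]; exact Set.nonempty_coe_sort.mp ‹_›)
  have hU' : ιK ≫ φU = X.fromSpecStalk (genericPoint X) := by
    have e : ιK ≫ Spec.map (CommRingCat.ofHom (toVal O hAU)) =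
        Spec.map (X.presheaf.germ U (genericPoint X) hηU) :=
      (Spec.map_comp _ _).symm
    rw [← hU.fromSpecStalk_eq_fromSpecStalk hηU, IsAffineOpen.fromSpecStalk]
    exact (Category.assoc _ _ _).symm.trans (congrArg (· ≫ hU.fromSpec) e)
  have heq : φx = φU := ext_of_isDominant ιK (hx'.trans hU'.symm)
  have cx : φx (closedPoint O) = x := by
    change X.fromSpecStalk x (PrimeSpectrum.comap (toVal O hAx) (closedPoint O)) = x
    rw [IsLocalRing.comap_closedPoint]
    exact Scheme.fromSpecStalk_closedPoint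
  have cU : φU (closedPoint O) ∈ U := by
    have : φU (closedPoint O) ∈ Set.range hU.fromSpec :=
      ⟨Spec.map (CommRingCat.ofHom (toVal O hAU)) (closedPoint O), rfl⟩
    rwa [hU.range_fromSpec] at this
  rw [← heq, cx] at cU
  exact hxU cU

omit [IsIntegral X] in
/-- a point with one-dimensional local ring has no proper generization outside a dense open -/
theorem eq_of_specializes_of_dim_le_one {U : X.Opens} (hdense : ∀ z : X, ∃ η ∈ U, η ⤳ z) {x y : X}
    (hx : ringKrullDim (X.presheaf.stalk x) ≤ 1) (hyU : y ∉ U) (hyx : y ⤳ x) : y = x := by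
  by_contra hne
  obtain ⟨η, hηU, hηy⟩ := hdense y
  have h1 : x < y := lt_of_le_not_ge hyx (fun h => hne (Specializes.antisymm hyx h).eq)
  have h2 : y < η := lt_of_le_not_ge hηy (fun h => hyU ((Specializes.antisymm hηy h).eq ▸ hηU))
  have h3 := Order.coheight_add_one_le h1
  have h4 := Order.coheight_add_one_le h2
  rw [ringKrullDim_stalk_eq_coheight] at hx
  have hx' : Order.coheight x ≤ (1 : ℕ∞) := by exact_mod_cast hx
  have h5 : Order.coheight y + 1 ≤ (1 : ℕ∞) := h3.trans hx'
  have h6 : (1 : ℕ∞) ≤ Order.coheight y := le_trans (by simp) h4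
  have h7 : Order.coheight y + 1 ≤ 0 + 1 := by rwa [zero_add]
  have h8 := (ENat.add_le_add_iff_right ENat.one_ne_top).mp h7
  exact absurd (h6.trans h8) (by simp)

/-- restriction is compatible with the maps to the function field -/
lemma germToFunctionField_rf {V W : X.Opens} [Nonempty V] [Nonempty W] (h : W ≤ V) (s : Γ(X, V)) :
    X.germToFunctionField W (rf h s) = X.germToFunctionField V s :=
  TopCat.Presheaf.germ_res_apply X.presheaf (homOfLE h) (genericPoint X) _ s

/-- **the integral case**: a function on `U` with strong poles at the finitely many points outside `U` -/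
theorem exists_pole_function_of_isIntegral [X.IsSeparated] {U : X.Opens} (hU : IsAffineOpen U)
    (hne : (U : Set X).Nonempty) (hfin : ((U : Set X)ᶜ).Finite)
    (hloc : ∀ x : X, x ∉ U → IsNoetherianRing (X.presheaf.stalk x) ∧ ringKrullDim (X.presheaf.stalk x) = 1) :
    ∃ a : Γ(X, U), ∀ x : X, x ∉ U → ∃ (W : X.Opens) (g : Γ(X, W)), x ∈ W ∧ (∀ z ∈ W, z ∉ U → z = x) ∧
      x ∉ X.basicOpen g ∧ rf (inf_le_left : U ⊓ W ≤ U) a * rf (inf_le_right : U ⊓ W ≤ W) g = 1 := by
  classical
  obtain ⟨x₀, hx₀⟩ := hne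
  have hUne : Nonempty U := ⟨⟨x₀, hx₀⟩⟩
  have hηU : genericPoint X ∈ U := ((genericPoint_spec X).mem_open_set_iff U.2).mpr
    ⟨x₀, trivial, hx₀⟩
  have hdense : ∀ z : X, ∃ η ∈ U, η ⤳ z := fun z => ⟨genericPoint X, hηU, (genericPoint_spec X).specializes trivial⟩
  have := functionField_isFractionRing_of_isAffineOpen X U hU
  have fA := isFractionRing_img Γ(X, U) X.functionField
  let T := {x : X // x ∉ U}
  have hT : Finite T := hfin.to_subtype
  let e : T ≃ Fin (Nat.card T) := Finite.equivFin T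
  let xs : Fin (Nat.card T) → X := fun i => (e.symm i).1
  have hxs : ∀ i, xs i ∉ U := fun i => (e.symm i).2
  have hN : ∀ i, IsNoetherianRing (X.presheaf.stalk (xs i)) := fun i => (hloc _ (hxs i)).1
  let B : Fin (Nat.card T) → Subring X.functionField := fun i => stalkSub (xs i)
  have iN : ∀ i, IsNoetherianRing (B i) := fun i =>
    isNoetherianRing_img (X.presheaf.stalk (xs i)) X.functionField
  have iF : ∀ i, IsFractionRing (B i) X.functionField := fun i =>
    isFractionRing_img (X.presheaf.stalk (xs i)) X.functionField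
  have iL : ∀ i, IsLocalRing (B i) := fun i =>
    isLocalRing_img (X.presheaf.stalk (xs i)) X.functionField
  have hdim : ∀ i, ringKrullDim (B i) = 1 := fun i =>
    (ringKrullDim_img (X.presheaf.stalk (xs i)) X.functionField).trans (hloc _ (hxs i)).2
  have hsl : ∀ i, Finite (MaximalSpectrum (B i)) := fun i => inferInstance
  have hgen : ∀ i, img Γ(X, U) X.functionField ⊔ B i = ⊤ := fun i =>
    sup_eq_top_of_notMem hU (hloc _ (hxs i)).2 (hxs i)
  obtain ⟨f, hfA, hf0, hfi⟩ := Groth.Agent.S1640.result X.functionField (img Γ(X, U) X.functionField)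
    (Nat.card T) B hdim hsl hgen
  obtain ⟨a, rfl⟩ := hfA
  refine ⟨a, fun x hx => ?_⟩
  obtain ⟨i, rfl⟩ : ∃ i, xs i = x := ⟨e ⟨x, hx⟩, by simp [xs]⟩
  obtain ⟨hmem, hjac⟩ := hfi i
  obtain ⟨γ, hγ⟩ := id hmem
  -- `γ` is not a unit
  have hγu : ¬ IsUnit γ := by
    intro hu
    have h1 : IsUnit (toImg (X.presheaf.stalk (xs i)) X.functionField γ) := hu.map _
    have h2 : toImg (X.presheaf.stalk (xs i)) X.functionField γ = ⟨(algebraMap Γ(X, U) X.functionField a)⁻¹, hmem⟩ :=
      Subtype.ext hγ
    rw [h2] at h1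
    have h3 := Ideal.eq_top_of_isUnit_mem _ hjac h1
    rw [Ideal.jacobson_eq_top_iff] at h3
    exact bot_ne_top h3
  obtain ⟨W, hxW, g, hg⟩ := TopCat.Presheaf.exists_germ_eq X.presheaf γ
  -- a neighbourhood avoiding the other points outside `U`
  let F : Set X := {y | y ∉ U ∧ y ≠ xs i}
  have hF : F.Finite := hfin.subset fun y hy => hy.1
  have hcl : IsClosed (⋃ y ∈ F, closure ({y} : Set X)) := hF.isClosed_biUnion fun y _ => isClosed_closure
  let O : X.Opens := ⟨(⋃ y ∈ F, closure ({y} : Set X))ᶜ, hcl.isOpen_compl⟩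
  have hxO : xs i ∈ O := by
    intro hmemF
    obtain ⟨y, hy, hxy⟩ := Set.mem_iUnion₂.1 hmemF
    have hspec : y ⤳ xs i := specializes_iff_mem_closure.mpr hxy
    exact hy.2 (eq_of_specializes_of_dim_le_one hdense (hloc _ (hxs i)).2.le hy.1 hspec)
  have hOsep : ∀ z ∈ O, z ∉ U → z = xs i := by
    intro z hz hzU
    by_contra hne
    exact hz (Set.mem_iUnion₂.2 ⟨z, ⟨hzU, hne⟩, subset_closure rfl⟩)
  refine ⟨W ⊓ O, rf inf_le_left g, ⟨hxW, hxO⟩, fun z hz hzU => hOsep z hz.2 hzU, ?_, ?_⟩
  · intro h'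
    rw [Scheme.basicOpen_res] at h'
    have h1 := (X.mem_basicOpen g (xs i) hxW).1 h'.2
    rw [hg] at h1
    exact hγu h1
  · have hne' : Nonempty (U ⊓ (W ⊓ O) : X.Opens) := ⟨⟨genericPoint X, hηU,
      ((genericPoint_spec X).mem_open_set_iff (W ⊓ O).2).mpr ⟨xs i, trivial, hxW, hxO⟩⟩⟩
    have hWne : Nonempty W := ⟨⟨xs i, hxW⟩⟩
    have hWOne : Nonempty (W ⊓ O : X.Opens) := ⟨⟨xs i, hxW, hxO⟩⟩
    apply X.germToFunctionField_injective (U ⊓ (W ⊓ O))
    rw [map_mul, map_one, germToFunctionField_rf, germToFunctionField_rf, germToFunctionField_rf]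
    have h1 : X.germToFunctionField W g = (algebraMap Γ(X, U) X.functionField a)⁻¹ := by
      rw [← Scheme.algebraMap_germ_eq_germToFunctionField (X := X) hxW, hg]
      exact hγ
    rw [h1]
    exact mul_inv_cancel₀ hf0

omit [IsIntegral X] in
/-- a base point free invertible module is globally generated -/
theorem isGloballyGenerated_of_isBpf {L : X.Modules} (hL : PicF.IsInvertible L)
    (h : Groth.Agent.Lib.H78GlobGen.IsBpf L) : Curv2.IsGloballyGenerated L := by
  have : L.IsQuasicoherent := Groth.Agent.Lib.H90Invertible.isQCoh_of_isInvertible hL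
  have hq := Groth.Agent.Lib.H78KeyLemma.qcLike_of_isQuasicoherent L
  choose σ hσ using h
  have hex : ∀ x : X, ∃ V : X.Opens, IsAffineOpen V ∧ x ∈ V ∧
      V ≤ CohB1.genLocus L (Groth.Agent.Lib.H90Invertible.ofSection (σ x)) := fun x =>
    Opens.isBasis_iff_nbhd.1 X.isBasis_affineOpens (hσ x)
  choose V hVaff hxV hVle using hex
  refine Groth.Agent.Lib.H78GlobGen2.isGloballyGenerated_of_span V ?_ hVaff
    (fun i f t => hq.ext (hVaff i) f t) (fun σ' : Γ(L, ⊤) => σ') (fun i => ?_)
  · rw [eq_top_iff]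
    intro x _
    exact Opens.mem_iSup.mpr ⟨x, hxV x⟩
  · rw [eq_top_iff]
    intro t _
    have he := (Groth.Agent.Lib.H78SecCoord.isGen_genLocus
      (Groth.Agent.Lib.H90Invertible.ofSection (σ i))).mono (hVle i)
    change Groth.Agent.Lib.H90Invertible.IsGen L (V i) (Groth.Agent.Lib.H78TensorGen.rs L (hVle i)
      (Groth.Agent.Lib.H78TensorGen.rs L le_top _)) at he
    rw [Groth.Agent.Lib.H78TensorGen.rs_rs, Groth.Agent.Lib.H78SecCoord.sec_ofSection] at he
    have h1 := Groth.Agent.Lib.H78SecCoord.coord_spec he le_rfl t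
    rw [Groth.Agent.Lib.H78TensorGen.rs_self] at h1
    rw [← h1]
    exact Submodule.smul_mem _ _ (Submodule.subset_span ⟨σ i, rfl⟩)

end Groth.Agent.Lib.PoleInt42
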