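import Mathlib
import Groth.Agent.Lib.PoleApprox42
import Groth.Agent.Lib.CodimOne13b
import Groth.Agent.Lib.DiscExt42
import Groth.Agent.Lib.ThickPic42

/-!
# Poles forced by separatedness (helper42)
-/

set_option autoImplicit false
universe u

namespace Groth.Agent.Lib.PoleSep42

open AlgebraicGeometry CategoryTheory TopologicalSpace Opposite
open Groth.Agent.Lib.PoleApprox42 Groth.Agent.Lib.CodimOne13
open Groth.Agent.Lib.H78Atlas Groth.Agent.Lib.DiscExt42 Groth.Agent.Lib.H78SecCoord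
open Groth.Agent.Lib.ThickPic42 Groth.Agent.Lib.InvGlue42

variable {X : Scheme.{u}}

/-- **valuative separatedness**: if `x ∉ U` is the only point of the affine `W` outside `D(h) ⊆ U`, then no
valuation ring centred at `x` contains the image of `Γ(U)`. -/
theorem exists_pole_of_isSeparated [X.IsSeparated] {U W : X.Opens} (hU : IsAffineOpen U) (hW : IsAffineOpen W)
    (h : Γ(X, W)) (hD : X.basicOpen h ≤ U) (x : X) (hxU : x ∉ U)
    (hsep : ∀ z ∈ W, z ∉ X.basicOpen h → z = x)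
    (𝔮 : Ideal Γ(X, W)) [𝔮.IsPrime] (hq : h ∉ 𝔮) (V : ValuationSubring (FractionRing (Γ(X, W) ⧸ 𝔮)))
    (hV1 : ∀ b : Γ(X, W), kap 𝔮 b ∈ V) (hV2 : V.valuation (kap 𝔮 h) < 1) :
    haveI := hW.isLocalization_basicOpen h
    ∃ a : Γ(X, U), toFrac (S := Γ(X, X.basicOpen h)) h 𝔮 hq ((X.presheaf.map (homOfLE hD).op).hom a) ∉ V := by
  have := hW.isLocalization_basicOpen h
  by_contra hcon
  simp only [not_exists, not_not] at hcon
  let ρ : Γ(X, U) →+* Γ(X, X.basicOpen h) := (X.presheaf.map (homOfLE hD).op).hom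
  let θ := toFrac (S := Γ(X, X.basicOpen h)) h 𝔮 hq
  let φU : Γ(X, U) →+* V := (θ.comp ρ).codRestrict V.toSubring hcon
  let φB : Γ(X, W) →+* V := (kap 𝔮).codRestrict V.toSubring hV1
  let fU : Spec (.of V) ⟶ X := Spec.map (CommRingCat.ofHom φU) ≫ hU.fromSpec
  let fB : Spec (.of V) ⟶ X := Spec.map (CommRingCat.ofHom φB) ≫ hW.fromSpec
  let ιK : Spec (.of (FractionRing (Γ(X, W) ⧸ 𝔮))) ⟶ Spec (.of V) :=
    Spec.map (CommRingCat.ofHom (algebraMap V (FractionRing (Γ(X, W) ⧸ 𝔮))))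
  have : IsDominant ιK := isDominant_SpecMap_of_injective _ Subtype.val_injective
  have hDaff := hW.basicOpen h
  have e1 : ιK ≫ fU = Spec.map (CommRingCat.ofHom θ) ≫ hDaff.fromSpec := by
    rw [← hU.map_fromSpec hDaff (homOfLE hD).op, ← Category.assoc, ← Category.assoc, ← Spec.map_comp,
      ← Spec.map_comp]
    rfl
  have e2 : ιK ≫ fB = Spec.map (CommRingCat.ofHom θ) ≫ hDaff.fromSpec := by
    rw [← hW.map_fromSpec hDaff (homOfLE (X.basicOpen_le h)).op, ← Category.assoc, ← Category.assoc,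
      ← Spec.map_comp, ← Spec.map_comp]
    congr 2
    ext b
    exact (toFrac_algebraMap (S := Γ(X, X.basicOpen h)) h 𝔮 hq b).symm
  have heq : fU = fB := ext_of_isDominant ιK (e1.trans e2.symm)
  let c : Spec (.of V) := IsLocalRing.closedPoint V
  have h1 : fU c ∈ U := by
    have : fU c ∈ Set.range hU.fromSpec := ⟨Spec.map (CommRingCat.ofHom φU) c, rfl⟩
    rwa [hU.range_fromSpec] at this
  have h2 : fB c ∈ W := by
    have : fB c ∈ Set.range hW.fromSpec := ⟨Spec.map (CommRingCat.ofHom φB) c, rfl⟩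
    rwa [hW.range_fromSpec] at this
  have h3 : fB c ∉ X.basicOpen h := by
    intro h'
    have h4 : Spec.map (CommRingCat.ofHom φB) c ∈ hW.fromSpec ⁻¹ᵁ X.basicOpen h := h'
    rw [hW.fromSpec_preimage_basicOpen] at h4
    apply h4
    change φB h ∈ IsLocalRing.maximalIdeal V
    rw [V.valuation_lt_one_iff]
    exact hV2
  have h5 := hsep _ h2 h3
  rw [← heq] at h5
  exact hxU (h5 ▸ h1)

lemma point_facts {W : X.Opens} (hW : IsAffineOpen W) (x : X) (hxW : x ∈ W) (h : Γ(X, W))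
    (hxh : x ∉ X.basicOpen h) (hsep : ∀ z ∈ W, z ∉ X.basicOpen h → z = x) :
    h ∈ (hW.primeIdealOf ⟨x, hxW⟩).asIdeal ∧ ∀ 𝔭 : Ideal Γ(X, W), 𝔭.IsPrime → h ∈ 𝔭 →
      𝔭 = (hW.primeIdealOf ⟨x, hxW⟩).asIdeal := by
  refine ⟨not_not.1 (mt (mem_basicOpen_iff_notMem_primeIdealOf hW x hxW h).2 hxh), fun 𝔭 h𝔭 hh => ?_⟩
  let p : PrimeSpectrum Γ(X, W) := ⟨𝔭, h𝔭⟩
  have h1 : hW.fromSpec p ∈ W := by
    have : hW.fromSpec p ∈ Set.range hW.fromSpec := ⟨p, rfl⟩
    rwa [hW.range_fromSpec] at this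
  have h2 : hW.fromSpec p ∉ X.basicOpen h := by
    intro h'
    have h4 : p ∈ hW.fromSpec ⁻¹ᵁ X.basicOpen h := h'
    rw [hW.fromSpec_preimage_basicOpen] at h4
    exact h4 hh
  have h3 := hsep _ h1 h2
  have h5 : hW.fromSpec p = hW.fromSpec (hW.primeIdealOf ⟨x, hxW⟩) := by
    rw [h3, hW.fromSpec_primeIdealOf]
  have h6 := hW.fromSpec.isOpenEmbedding.injective h5
  rw [← h6]

/-- the pole conditions at a point `x ∉ U` -/
theorem exists_approxPred_at [X.IsSeparated] {U W : X.Opens} (hU : IsAffineOpen U) (hW : IsAffineOpen W)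
    [IsNoetherianRing Γ(X, W)] (h : Γ(X, W)) (hUW : U ⊓ W = X.basicOpen h) (x : X) (hxW : x ∈ W) (hxU : x ∉ U)
    (hsep : ∀ z ∈ W, z ∉ U → z = x) :
    ∃ (ι : Type u) (_ : Finite ι) (P : ι → Γ(X, U) → Prop), (∀ i, ApproxPred (P i)) ∧
      ∀ a, (∀ i, P i a) → ∃ M : ℕ, 1 ≤ M ∧ ∃ (b s : Γ(X, W)), x ∉ X.basicOpen b ∧ x ∈ X.basicOpen s ∧
        rf (hUW.ge.trans inf_le_left) a ^ M * rf (X.basicOpen_le h) b = rf (X.basicOpen_le h) s := by
  have := hW.isLocalization_basicOpen h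
  have hD : X.basicOpen h ≤ U := hUW.ge.trans inf_le_left
  have hxh : x ∉ X.basicOpen h := fun h' => hxU (hD h')
  have hsep' : ∀ z ∈ W, z ∉ X.basicOpen h → z = x := fun z hz hzh =>
    hsep z hz (fun hzU => hzh (hUW.le ⟨hzU, hz⟩))
  obtain ⟨hh, huniq⟩ := point_facts hW x hxW h hxh hsep'
  obtain ⟨ι, hι, P, hP, hmain⟩ := exists_approxPred (S := Γ(X, X.basicOpen h)) h
    (hW.primeIdealOf ⟨x, hxW⟩).asIdeal (X.presheaf.map (homOfLE hD).op).hom hh huniq
    (fun 𝔮 _ hq V hV1 hV2 => exists_pole_of_isSeparated hU hW h hD x hxU hsep' 𝔮 hq V hV1 hV2)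
  refine ⟨ι, hι, P, hP, fun a ha => ?_⟩
  obtain ⟨M, hM, b, hb, s, hs, heq⟩ := hmain a ha
  refine ⟨M, hM, b, s, ?_, ?_, heq⟩
  · rw [mem_basicOpen_iff_notMem_primeIdealOf hW x hxW]
    exact not_not.2 hb
  · rw [mem_basicOpen_iff_notMem_primeIdealOf hW x hxW]
    exact hs

/-- **a function with strong poles at all the points outside `U`** -/
theorem exists_pole_function [X.IsSeparated] [IsLocallyNoetherian X] {U : X.Opens} (hU : IsAffineOpen U)
    [QuasiCompact U.ι] (hfin : ((U : Set X)ᶜ).Finite) (hdisc : DiscreteTopology ↥((U : Set X)ᶜ))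
    (hloc : ∀ x : X, x ∉ U → ringKrullDim (X.presheaf.stalk x) ≤ 1) :
    ∃ a : Γ(X, U), ∀ x : X, x ∉ U → ∃ (W : X.Opens) (g : Γ(X, W)), x ∈ W ∧ (∀ z ∈ W, z ∉ U → z = x) ∧
      x ∉ X.basicOpen g ∧ rf (inf_le_left : U ⊓ W ≤ U) a * rf (inf_le_right : U ⊓ W ≤ W) g = 1 := by
  classical
  let T := {x : X // x ∉ U}
  have hT : Finite T := hfin.to_subtype
  have hex : ∀ x : T, ∃ W : X.Opens, x.1 ∈ W ∧ (∀ z ∈ W, z ∉ U → z = x.1) ∧ IsAffineOpen W ∧
      ∃ t : Γ(X, W), U ⊓ W = X.basicOpen t := fun x =>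
    exists_local_equation U hdisc x.1 x.2 (hloc x.1 x.2)
  choose W hxW hWsep hWaff t ht using hex
  have hN : ∀ x : T, IsNoetherianRing Γ(X, W x) := fun x =>
    IsLocallyNoetherian.component_noetherian ⟨W x, hWaff x⟩
  have hpred := fun x : T => exists_approxPred_at hU (hWaff x) (t x) (ht x) x.1 (hxW x) x.2 (hWsep x)
  choose ι hι P hP hmain using hpred
  obtain ⟨a₀, ha₀⟩ := exists_forall (ι := Σ x : T, ι x) (fun i a => P i.1 i.2 a) (fun i => hP i.1 i.2)
  have hper := fun x : T => hmain x a₀ (fun i => ha₀ ⟨x, i⟩)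
  choose Mx hMx b s hb hs heq using hper
  have := Fintype.ofFinite T
  set M := ∏ x : T, Mx x with hMdef
  have hMpos : 1 ≤ M := Nat.one_le_iff_ne_zero.2 (Finset.prod_ne_zero_iff.2 fun x _ => by have := hMx x; omega)
  refine ⟨a₀ ^ M, fun x hx => ?_⟩
  obtain ⟨M', hM'⟩ : Mx ⟨x, hx⟩ ∣ M := Finset.dvd_prod_of_mem Mx (Finset.mem_univ _)
  have hM'pos : 1 ≤ M' := by
    rcases Nat.eq_zero_or_pos M' with h0 | h0
    · rw [h0, mul_zero] at hM'; omega
    · exact h0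
  set y : T := ⟨x, hx⟩ with hy
  -- the new equation
  have hD : X.basicOpen (t y) ≤ U := (ht y).ge.trans inf_le_left
  have heq' : rf hD (a₀ ^ M) * rf (X.basicOpen_le (t y)) (b y ^ M') = rf (X.basicOpen_le (t y)) (s y ^ M') := by
    rw [rf_pow, rf_pow, rf_pow, hM', pow_mul, ← mul_pow, heq y]
  have hb' : x ∉ X.basicOpen (b y ^ M') := by
    rw [Scheme.basicOpen_pow _ _ (by omega)]
    exact hb y
  have hs' : x ∈ X.basicOpen (s y ^ M') := by
    rw [Scheme.basicOpen_pow _ _ (by omega)]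
    exact hs y
  set b' := b y ^ M' with hb'def
  set s' := s y ^ M' with hs'def
  have hW'le : X.basicOpen s' ≤ W y := X.basicOpen_le s'
  obtain ⟨sinv, hsinv⟩ := ((isUnit_map_iff hW'le s').2 le_rfl).exists_right_inv
  refine ⟨X.basicOpen s', rf hW'le b' * sinv, hs', fun z hz hzU => hWsep y z (hW'le hz) hzU, ?_, ?_⟩
  · intro h'
    rw [Scheme.basicOpen_mul] at h'
    have h1 := h'.1
    rw [Scheme.basicOpen_res] at h1
    exact hb' h1.2
  · have hle : U ⊓ X.basicOpen s' ≤ X.basicOpen (t y) := by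
      rw [← ht y]
      exact inf_le_inf_left _ hW'le
    have h1 := congrArg (rf hle) heq'
    rw [rf_mul, rf_rf, rf_rf] at h1
    have h2 : rf hle (rf (X.basicOpen_le (t y)) s') =
        rf (inf_le_right : U ⊓ X.basicOpen s' ≤ X.basicOpen s') (rf hW'le s') := by rw [rf_rf, rf_rf]
    rw [rf_mul, rf_rf, ← mul_assoc, h1, h2, ← rf_mul, hsinv, rf_one]

end Groth.Agent.Lib.PoleSep42
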