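import Mathlib.Algebra.Polynomial.Basis
import Mathlib.LinearAlgebra.TensorProduct.Basis
import Mathlib.RingTheory.TensorProduct.Basic
import Mathlib.Algebra.Exact.Basic
import Mathlib.Algebra.Polynomial.AlgebraMap
import Mathlib.RingTheory.TensorProduct.Maps

/-!
# The characteristic sequence of a module over a polynomial ring

Namespace `Groth.Agent.Lib.PolyCharSeq`.

For an `R[X]`-module `M`, the sequence of `R[X]`-modules
`0 → R[X] ⊗_R M --δ--> R[X] ⊗_R M --μ--> M → 0`, `δ (p ⊗ m) = X p ⊗ m - p ⊗ X m`, `μ (p ⊗ m) = p m`,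
is exact: `delta_injective`, `exact_delta_mu`, `mu_surjective`.
-/

set_option autoImplicit false
universe u
open Polynomial TensorProduct

namespace Groth.Agent.Lib.PolyCharSeq

variable (R : Type u) [CommRing R] (M : Type u) [AddCommGroup M] [Module R[X] M] [Module R M]
  [IsScalarTower R R[X] M]

/-- multiplication by `X` on `M`, as an `R`-linear map -/
noncomputable def xM : M →ₗ[R] M where
  toFun m := (X : R[X]) • m
  map_add' := smul_add _
  map_smul' r m := by
    show (X : R[X]) • (r • m) = r • ((X : R[X]) • m)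
    rw [← algebraMap_smul R[X] r m, ← algebraMap_smul R[X] r ((X : R[X]) • m), smul_smul, smul_smul,
      mul_comm]

@[simp] lemma xM_apply (m : M) : xM R M m = (X : R[X]) • m := rfl

/-- the multiplication map `R[X] ⊗_R M → M` -/
noncomputable def mu : R[X] ⊗[R] M →ₗ[R[X]] M :=
  LinearMap.liftBaseChange R[X] (LinearMap.id : M →ₗ[R] M)

@[simp] lemma mu_tmul (p : R[X]) (m : M) : mu R M (p ⊗ₜ[R] m) = p • m := rfl

/-- the map `p ⊗ m ↦ X p ⊗ m - p ⊗ X m` -/
noncomputable def delta : R[X] ⊗[R] M →ₗ[R[X]] R[X] ⊗[R] M :=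
  (X : R[X]) • LinearMap.id - LinearMap.baseChange R[X] (xM R M)

lemma delta_tmul (p : R[X]) (m : M) :
    delta R M (p ⊗ₜ[R] m) = (X * p) ⊗ₜ[R] m - p ⊗ₜ[R] ((X : R[X]) • m) := by
  simp [delta, TensorProduct.smul_tmul']

lemma mu_delta (z : R[X] ⊗[R] M) : mu R M (delta R M z) = 0 := by
  induction z using TensorProduct.induction_on with
  | zero => simp
  | tmul p m =>
    rw [delta_tmul, map_sub, mu_tmul, mu_tmul, mul_comm, mul_smul, sub_self]
  | add x y hx hy => rw [map_add, map_add, hx, hy, add_zero]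

lemma mu_surjective : Function.Surjective (mu R M) := fun m => ⟨1 ⊗ₜ m, by simp⟩

lemma pow_tmul_sub_mem_range (j : ℕ) (m : M) :
    ((X : R[X]) ^ j) ⊗ₜ[R] m - (1 : R[X]) ⊗ₜ[R] (((X : R[X]) ^ j) • m) ∈
      LinearMap.range (delta R M) := by
  induction j generalizing m with
  | zero => simp
  | succ j ih =>
    have h1 : ((X : R[X]) ^ (j + 1)) ⊗ₜ[R] m - (1 : R[X]) ⊗ₜ[R] (((X : R[X]) ^ (j + 1)) • m) =
        delta R M (((X : R[X]) ^ j) ⊗ₜ[R] m) +
          (((X : R[X]) ^ j) ⊗ₜ[R] ((X : R[X]) • m) -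
            (1 : R[X]) ⊗ₜ[R] (((X : R[X]) ^ j) • ((X : R[X]) • m))) := by
      have h0 : ((X : R[X]) ^ (j + 1)) • m = ((X : R[X]) ^ j) • ((X : R[X]) • m) := by
        rw [pow_succ, mul_smul]
      rw [h0, delta_tmul, pow_succ']
      abel
    rw [h1]
    exact Submodule.add_mem _ ⟨_, rfl⟩ (ih _)

lemma sub_mem_range (z : R[X] ⊗[R] M) :
    z - (1 : R[X]) ⊗ₜ[R] (mu R M z) ∈ LinearMap.range (delta R M) := by
  induction z using TensorProduct.induction_on with
  | zero => simp
  | tmul p m =>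
    induction p using Polynomial.induction_on' with
    | add p q hp hq =>
      have : (p + q) ⊗ₜ[R] m - (1 : R[X]) ⊗ₜ[R] (mu R M ((p + q) ⊗ₜ[R] m)) =
          (p ⊗ₜ[R] m - (1 : R[X]) ⊗ₜ[R] (mu R M (p ⊗ₜ[R] m))) +
            (q ⊗ₜ[R] m - (1 : R[X]) ⊗ₜ[R] (mu R M (q ⊗ₜ[R] m))) := by
        rw [TensorProduct.add_tmul, map_add, TensorProduct.tmul_add]
        abel
      rw [this]
      exact Submodule.add_mem _ hp hq
    | monomial j r =>
      have h1 : (monomial j r : R[X]) = r • ((X : R[X]) ^ j) := by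
        rw [← Polynomial.C_mul_X_pow_eq_monomial, Polynomial.smul_eq_C_mul]
      have h2 : (monomial j r : R[X]) ⊗ₜ[R] m = ((X : R[X]) ^ j) ⊗ₜ[R] (r • m) := by
        rw [h1, TensorProduct.smul_tmul]
      rw [h2]
      exact pow_tmul_sub_mem_range R M j (r • m)
  | add x y hx hy =>
    have : (x + y) - (1 : R[X]) ⊗ₜ[R] (mu R M (x + y)) =
        (x - (1 : R[X]) ⊗ₜ[R] (mu R M x)) + (y - (1 : R[X]) ⊗ₜ[R] (mu R M y)) := by
      rw [map_add, TensorProduct.tmul_add]
      abel
    rw [this]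
    exact Submodule.add_mem _ hx hy

lemma exact_delta_mu : Function.Exact (delta R M) (mu R M) := by
  intro z
  constructor
  · intro hz
    have := sub_mem_range R M z
    rwa [hz, TensorProduct.tmul_zero, sub_zero] at this
  · rintro ⟨y, rfl⟩
    exact mu_delta R M y

/-- coefficients -/
noncomputable def coeffEquiv : R[X] ⊗[R] M ≃ₗ[R] (ℕ →₀ M) :=
  TensorProduct.equivFinsuppOfBasisLeft (Polynomial.basisMonomials R)

omit [Module R[X] M] [IsScalarTower R R[X] M] in
lemma coeffEquiv_tmul_apply (p : R[X]) (m : M) (j : ℕ) :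
    coeffEquiv R M (p ⊗ₜ[R] m) j = p.coeff j • m := by
  rw [coeffEquiv, TensorProduct.equivFinsuppOfBasisLeft_apply_tmul_apply]
  congr 1

lemma coeffEquiv_delta_succ (z : R[X] ⊗[R] M) (k : ℕ) :
    coeffEquiv R M (delta R M z) (k + 1) =
      coeffEquiv R M z k - (X : R[X]) • coeffEquiv R M z (k + 1) := by
  induction z using TensorProduct.induction_on with
  | zero => simp
  | tmul p m =>
    rw [delta_tmul, map_sub, Finsupp.sub_apply, coeffEquiv_tmul_apply, coeffEquiv_tmul_apply,
      coeffEquiv_tmul_apply, coeffEquiv_tmul_apply, Polynomial.coeff_X_mul]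
    congr 1
    exact ((xM R M).map_smul (p.coeff (k + 1)) m).symm
  | add x y hx hy =>
    rw [map_add (delta R M), map_add (coeffEquiv R M), Finsupp.add_apply, hx, hy,
      map_add (coeffEquiv R M), Finsupp.add_apply, Finsupp.add_apply, smul_add]
    abel

lemma delta_injective : Function.Injective (delta R M) := by
  rw [injective_iff_map_eq_zero]
  intro z hz
  have h1 : ∀ k, coeffEquiv R M z k = (X : R[X]) • coeffEquiv R M z (k + 1) := by
    intro k
    have := coeffEquiv_delta_succ R M z k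
    rw [hz, map_zero, Finsupp.zero_apply] at this
    exact (sub_eq_zero.1 this.symm)
  have h2 : ∀ i k, coeffEquiv R M z k = ((X : R[X]) ^ i) • coeffEquiv R M z (k + i) := by
    intro i
    induction i with
    | zero => intro k; simp
    | succ i ih =>
      intro k
      rw [ih k, h1 (k + i), pow_succ, mul_smul, add_assoc]
  have h3 : coeffEquiv R M z = 0 := by
    ext k
    obtain ⟨N, hN⟩ : ∃ N, ∀ j ∈ (coeffEquiv R M z).support, j < N :=
      ⟨(coeffEquiv R M z).support.sup id + 1, fun j hj =>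
        Nat.lt_succ_of_le (Finset.le_sup (f := id) hj)⟩
    have h4 : coeffEquiv R M z (k + N) = 0 := by
      by_contra hne
      have := hN (k + N) (Finsupp.mem_support_iff.2 hne)
      omega
    rw [h2 N k, h4, smul_zero, Finsupp.zero_apply]
  exact (coeffEquiv R M).injective (h3.trans (map_zero _).symm)

end Groth.Agent.Lib.PolyCharSeq
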