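import Groth.Agent.Lib.PolLawSpan23

/-!
# One-variable coefficient extraction on `P[T] ⊗ E` (helper23)

For a commutative `A`-algebra `P` and an `A`-algebra `E`, the `P`-linear coefficient functionals
`cT k : P[T] → P` induce `P[T] ⊗[A] E → P ⊗[A] E`; we record how they interact with multiplication by
`T ⊗ 1` and by elements coming from `P ⊗ E`, and that they vanish for large `k`.
-/

set_option autoImplicit false
universe u
open scoped TensorProduct

namespace Groth.Agent.Lib.PolyCoeffT23

variable {A : Type u} [CommRing A] (P : Type u) [CommRing P] [Algebra A P]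
  (E : Type u) [CommRing E] [Algebra A E]

/-- The `k`-th coefficient, as an `A`-linear map `P[T] → P`. -/
noncomputable def cT (k : ℕ) : Polynomial P →ₗ[A] P := (Polynomial.lcoeff P k).restrictScalars A

theorem cT_apply (k : ℕ) (q : Polynomial P) : cT (A := A) P k q = q.coeff k := rfl

/-- The inclusion of constants, as an `A`-algebra map. -/
noncomputable def Cm : P →ₐ[A] Polynomial P := IsScalarTower.toAlgHom A P (Polynomial P)

theorem Cm_apply (p : P) : Cm (A := A) P p = Polynomial.C p := rfl

/-- Evaluation at `T = 0`, as an `A`-algebra map. -/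
noncomputable def ev0 : Polynomial P →ₐ[A] P := (Polynomial.aeval (0 : P)).restrictScalars A

theorem ev0_apply (q : Polynomial P) : ev0 (A := A) P q = q.coeff 0 := by
  rw [Polynomial.coeff_zero_eq_eval_zero]
  rfl

theorem cT_zero_eq : cT (A := A) P 0 = (ev0 (A := A) P).toLinearMap := by
  ext q
  rw [cT_apply, AlgHom.toLinearMap_apply, ev0_apply]

theorem ev0_comp_Cm : (ev0 (A := A) P).comp (Cm (A := A) P) = AlgHom.id A P := by
  ext p
  rw [AlgHom.comp_apply, Cm_apply, ev0_apply, Polynomial.coeff_C_zero, AlgHom.id_apply]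

theorem ev0_X : ev0 (A := A) P Polynomial.X = 0 := by
  rw [ev0_apply, Polynomial.coeff_X_zero]

theorem cT_rTensor_mul_X_succ (k : ℕ) (U : Polynomial P ⊗[A] E) :
    (cT (A := A) P (k + 1)).rTensor E (U * (Polynomial.X ⊗ₜ[A] (1 : E))) = (cT (A := A) P k).rTensor E U := by
  induction U using TensorProduct.induction_on with
  | zero => simp
  | tmul q e =>
    rw [Algebra.TensorProduct.tmul_mul_tmul, LinearMap.rTensor_tmul, LinearMap.rTensor_tmul, cT_apply, cT_apply,
      Polynomial.coeff_mul_X, mul_one]
  | add x y hx hy => simp only [add_mul, map_add, hx, hy]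

theorem cT_rTensor_mul_C (k : ℕ) (U : Polynomial P ⊗[A] E) (v : P ⊗[A] E) :
    (cT (A := A) P k).rTensor E (U * (Cm (A := A) P).toLinearMap.rTensor E v) =
      (cT (A := A) P k).rTensor E U * v := by
  induction U using TensorProduct.induction_on with
  | zero => simp
  | tmul q e =>
    induction v using TensorProduct.induction_on with
    | zero => simp
    | tmul p e' =>
      rw [LinearMap.rTensor_tmul, Algebra.TensorProduct.tmul_mul_tmul, LinearMap.rTensor_tmul,
        LinearMap.rTensor_tmul, Algebra.TensorProduct.tmul_mul_tmul, cT_apply, cT_apply,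
        AlgHom.toLinearMap_apply, Cm_apply, Polynomial.coeff_mul_C]
    | add x y hx hy => simp only [map_add, mul_add, hx, hy]
  | add x y hx hy => simp only [add_mul, map_add, hx, hy]

theorem exists_bound (U : Polynomial P ⊗[A] E) :
    ∃ N : ℕ, ∀ k, N ≤ k → (cT (A := A) P k).rTensor E U = 0 := by
  induction U using TensorProduct.induction_on with
  | zero => exact ⟨0, fun k _ => by simp⟩
  | tmul q e =>
    refine ⟨q.natDegree + 1, fun k hk => ?_⟩
    rw [LinearMap.rTensor_tmul, cT_apply, Polynomial.coeff_eq_zero_of_natDegree_lt (by omega),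
      TensorProduct.zero_tmul]
  | add x y hx hy =>
    obtain ⟨N, hN⟩ := hx
    obtain ⟨N', hN'⟩ := hy
    refine ⟨max N N', fun k hk => ?_⟩
    rw [map_add, hN k (le_trans (le_max_left _ _) hk), hN' k (le_trans (le_max_right _ _) hk), add_zero]

end Groth.Agent.Lib.PolyCoeffT23
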