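import Mathlib

/-!
# Polynomial rings: formal separatedness and faithful flatness of localizations (helper27)

* `eq_zero_of_forall_mem_span_X_pow`: for `g : B[X]`, `b = g(0)`, the ring `B[X]_{bg}` is `X`-adically
  separated (it embeds into `B_b[[X]]`).
* `kap_flat`, `kap_surjective`: `A → A[X]_h` is flat, and surjective on spectra when some coefficient of
  `h` is a unit.
-/

set_option autoImplicit false
universe u

open Polynomial

namespace Groth.Agent.Lib.PolyFormal27

variable {B : Type u} [CommRing B]

/-- the map `B[X] → B_b[[X]]`. -/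
noncomputable def toPS (b : B) : B[X] →+* PowerSeries (Localization.Away b) :=
  (Polynomial.coeToPowerSeries.ringHom).comp (Polynomial.mapRingHom (algebraMap B (Localization.Away b)))

theorem toPS_X (b : B) : toPS b X = PowerSeries.X := by
  simp [toPS]

theorem coeff_toPS (b : B) (x : B[X]) (n : ℕ) :
    PowerSeries.coeff n (toPS b x) = algebraMap B (Localization.Away b) (x.coeff n) := by
  simp [toPS]

theorem toPS_eq_zero_iff (b : B) (x : B[X]) : toPS b x = 0 ↔ ∃ k : ℕ, C b ^ k * x = 0 := by
  constructor
  · intro h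
    have h1 : ∀ n, ∃ k : ℕ, b ^ k * x.coeff n = 0 := by
      intro n
      have := congrArg (PowerSeries.coeff n) h
      rw [coeff_toPS, map_zero] at this
      rw [IsLocalization.map_eq_zero_iff (Submonoid.powers b)] at this
      obtain ⟨⟨_, k, rfl⟩, hk⟩ := this
      exact ⟨k, hk⟩
    choose k hk using h1
    refine ⟨x.support.sup k, ?_⟩
    ext n
    rw [← C_pow, coeff_C_mul, coeff_zero]
    by_cases hn : n ∈ x.support
    · have : k n ≤ x.support.sup k := Finset.le_sup hn
      obtain ⟨d, hd⟩ := Nat.exists_eq_add_of_le this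
      rw [hd, pow_add, mul_comm (b ^ k n), mul_assoc, hk, mul_zero]
    · rw [notMem_support_iff.mp hn, mul_zero]
  · rintro ⟨k, hk⟩
    ext n
    have := congrArg (fun p => algebraMap B (Localization.Away b) (p.coeff n)) hk
    rw [← C_pow, coeff_C_mul, coeff_zero, map_mul, map_zero, map_pow] at this
    rw [coeff_toPS, map_zero]
    have hu : IsUnit (algebraMap B (Localization.Away b) b ^ k) :=
      (IsLocalization.Away.algebraMap_isUnit b).pow k
    exact (hu.mul_right_eq_zero).mp this

variable (g : B[X])

theorem isUnit_toPS (g : B[X]) : IsUnit (toPS (g.coeff 0) (C (g.coeff 0) * g)) := by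
  rw [PowerSeries.isUnit_iff_constantCoeff, ← PowerSeries.coeff_zero_eq_constantCoeff_apply, coeff_toPS,
    coeff_C_mul, map_mul]
  exact (IsLocalization.Away.algebraMap_isUnit _).mul (IsLocalization.Away.algebraMap_isUnit _)

variable {Q : Type u} [CommRing Q] [Algebra B[X] Q]

/-- `B[X]_{bg}` is `X`-adically separated, for `b = g(0)`. -/
theorem eq_zero_of_forall_mem_span_X_pow (g : B[X]) [IsLocalization.Away (C (g.coeff 0) * g) Q]
    (z : Q) (hz : ∀ n : ℕ, z ∈ Ideal.span {(algebraMap B[X] Q X) ^ (n + 1)}) : z = 0 := by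
  set b := g.coeff 0 with hb
  set f := C b * g with hf
  let Φ : Q →+* PowerSeries (Localization.Away b) := IsLocalization.Away.lift f (isUnit_toPS g)
  have hΦ : ∀ x : B[X], Φ (algebraMap B[X] Q x) = toPS b x := fun x => IsLocalization.Away.lift_eq _ _ _
  have hinj : Function.Injective Φ := by
    rw [injective_iff_map_eq_zero]
    intro w hw
    obtain ⟨⟨x, s⟩, hxs⟩ := IsLocalization.surj (Submonoid.powers f) w
    have h1 : toPS b x = 0 := by
      have := congrArg Φ hxs
      rw [map_mul, hw, zero_mul, hΦ] at this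
      exact this.symm
    obtain ⟨k, hk⟩ := (toPS_eq_zero_iff b x).mp h1
    have h2 : f ^ k * x = 0 := by
      rw [hf, mul_pow, mul_right_comm, hk, zero_mul]
    have h3 : algebraMap B[X] Q x = 0 := by
      have := congrArg (algebraMap B[X] Q) h2
      rw [map_mul, map_zero, map_pow] at this
      have hu : IsUnit (algebraMap B[X] Q f ^ k) := (IsLocalization.Away.algebraMap_isUnit f).pow k
      exact (hu.mul_right_eq_zero).mp this
    dsimp only at hxs
    rw [h3] at hxs
    have hu : IsUnit (algebraMap B[X] Q s) := IsLocalization.map_units Q s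
    exact (hu.mul_left_eq_zero).mp hxs
  apply hinj
  rw [map_zero]
  ext n
  rw [map_zero]
  have := hz n
  rw [Ideal.mem_span_singleton] at this
  obtain ⟨w, hw⟩ := this
  rw [hw, map_mul, map_pow, hΦ, toPS_X, PowerSeries.coeff_X_pow_mul']
  simp

section FF

variable {A : Type u} [CommRing A] (h : A[X]) (Q' : Type u) [CommRing Q'] [Algebra A[X] Q']

/-- `A → A[X]_h`. -/
noncomputable def kap : A →+* Q' := (algebraMap A[X] Q').comp C

variable [IsLocalization.Away h Q']
include h

theorem kap_flat : (kap (A := A) Q').Flat := by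
  unfold kap
  refine RingHom.Flat.comp ?_ ?_
  · rw [← Polynomial.algebraMap_eq, RingHom.flat_algebraMap_iff]
    infer_instance
  · rw [RingHom.flat_algebraMap_iff]
    exact IsLocalization.flat Q' (Submonoid.powers h)

theorem kap_surjective (i : ℕ) (hi : IsUnit (h.coeff i)) :
    Function.Surjective (PrimeSpectrum.comap (kap (A := A) Q')) := by
  intro P
  have h1 : P ∈ AlgebraicGeometry.Polynomial.imageOfDf h := ⟨i, fun hmem => P.2.ne_top (Ideal.eq_top_of_isUnit_mem _ hmem hi)⟩
  rw [AlgebraicGeometry.Polynomial.imageOfDf_eq_comap_C_compl_zeroLocus] at h1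
  obtain ⟨I, hI, rfl⟩ := h1
  have h2 : I ∈ Set.range (PrimeSpectrum.comap (algebraMap A[X] Q')) := by
    rw [PrimeSpectrum.localization_away_comap_range Q' h]
    simpa [PrimeSpectrum.basicOpen_eq_zeroLocus_compl] using hI
  obtain ⟨q, rfl⟩ := h2
  exact ⟨q, rfl⟩

end FF

end Groth.Agent.Lib.PolyFormal27
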