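import Groth.Agent.Lib.PolyCoeffT23
import Mathlib.RingTheory.Nilpotent.Lemmas
import Mathlib.RingTheory.Polynomial.Basic

/-!
# The comparison map `P[T] ⊗ C → (P ⊗ C)[T]` and a constancy lemma over reduced rings (helper23)
-/

set_option autoImplicit false
universe u
open scoped TensorProduct
open Polynomial

namespace Groth.Agent.Lib.PolyTensorPoly23

open Groth.Agent.Lib.PolyCoeffT23

section LemmaY

/-- Over a reduced ring, a polynomial `G` with `G(T) G(-T) = G(0)²` is constant. -/
theorem coeff_eq_zero_of_mul_comp_neg {R : Type*} [CommRing R] [IsReduced R] (G : R[X])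
    (hG : G * G.comp (-X) = C (G.coeff 0 ^ 2)) (k : ℕ) (hk : 0 < k) : G.coeff k = 0 := by
  have hmem : G.coeff k ∈ nilradical R := by
    rw [nilradical_eq_sInf, Ideal.mem_sInf]
    intro q hq
    have : q.IsPrime := hq
    set π := Ideal.Quotient.mk q with hπ
    rw [← Ideal.Quotient.eq_zero_iff_mem, ← hπ, ← coeff_map]
    set Gb := G.map π with hGb
    have h1 : Gb * Gb.comp (-X) = C (Gb.coeff 0 ^ 2) := by
      have := congrArg (Polynomial.map π) hG
      rw [Polynomial.map_mul, Polynomial.map_comp, Polynomial.map_neg, Polynomial.map_X, Polynomial.map_C,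
        map_pow, ← coeff_map] at this
      exact this
    by_cases h0 : Gb = 0
    · rw [h0, coeff_zero]
    · have hcomp : Gb.comp (-X) ≠ 0 := by
        intro h
        apply h0
        have h2 : (Gb.comp (-X)).comp (-X) = Gb := by
          rw [comp_assoc, neg_comp, X_comp, neg_neg, comp_X]
        rw [← h2, h, zero_comp]
      have h3 := congrArg natDegree h1
      rw [natDegree_mul h0 hcomp, natDegree_comp, natDegree_neg, natDegree_X, mul_one, natDegree_C] at h3
      exact coeff_eq_zero_of_natDegree_lt (by omega)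
  rw [nilradical_eq_zero] at hmem
  exact hmem

end LemmaY

section Psi

variable {A : Type u} [CommRing A] (P : Type u) [CommRing P] [Algebra A P]
  (C' : Type u) [CommRing C'] [Algebra A C']

/-- The comparison homomorphism `P[T] ⊗ C → (P ⊗ C)[T]`. -/
noncomputable def Psi : Polynomial P ⊗[A] C' →ₐ[A] Polynomial (P ⊗[A] C') :=
  Algebra.TensorProduct.lift
    (Polynomial.mapAlgHom (Algebra.TensorProduct.includeLeft : P →ₐ[A] P ⊗[A] C'))
    ((Polynomial.CAlgHom : (P ⊗[A] C') →ₐ[A] Polynomial (P ⊗[A] C')).comp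
      (Algebra.TensorProduct.includeRight : C' →ₐ[A] P ⊗[A] C'))
    (fun _ _ => Commute.all _ _)

theorem Psi_tmul (q : Polynomial P) (c : C') :
    Psi (A := A) P C' (q ⊗ₜ[A] c) =
      q.map (Algebra.TensorProduct.includeLeft : P →ₐ[A] P ⊗[A] C').toRingHom * C ((1 : P) ⊗ₜ[A] c) := by
  rw [Psi, Algebra.TensorProduct.lift_tmul]
  rfl

theorem coeff_Psi (U : Polynomial P ⊗[A] C') (k : ℕ) :
    (Psi (A := A) P C' U).coeff k = (cT (A := A) P k).rTensor C' U := by
  induction U using TensorProduct.induction_on with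
  | zero => simp
  | tmul q c =>
    rw [Psi_tmul, coeff_mul_C, coeff_map, LinearMap.rTensor_tmul, cT_apply]
    show (q.coeff k ⊗ₜ[A] (1 : C')) * ((1 : P) ⊗ₜ[A] c) = _
    rw [Algebra.TensorProduct.tmul_mul_tmul, mul_one, one_mul]
  | add x y hx hy => simp only [map_add, coeff_add, hx, hy]

/-- The substitution `T ↦ -T`, as an `A`-algebra map. -/
noncomputable def sg : Polynomial P →ₐ[A] Polynomial P :=
  (Polynomial.aeval (-X : Polynomial P)).restrictScalars A

theorem sg_apply (q : Polynomial P) : sg (A := A) P q = q.comp (-X) := rfl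

theorem sg_X : sg (A := A) P X = -X := by rw [sg_apply, X_comp]

theorem sg_comp_Cm : (sg (A := A) P).comp (Cm (A := A) P) = Cm (A := A) P := by
  ext p
  rw [AlgHom.comp_apply, Cm_apply, sg_apply, C_comp]

theorem Psi_sg (U : Polynomial P ⊗[A] C') :
    Psi (A := A) P C' ((sg (A := A) P).toLinearMap.rTensor C' U) = (Psi (A := A) P C' U).comp (-X) := by
  induction U using TensorProduct.induction_on with
  | zero => simp
  | tmul q c =>
    rw [LinearMap.rTensor_tmul, AlgHom.toLinearMap_apply, Psi_tmul, Psi_tmul, sg_apply, Polynomial.map_comp,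
      mul_comp, C_comp, Polynomial.map_neg, Polynomial.map_X]
  | add x y hx hy => simp only [map_add, add_comp, hx, hy]

theorem Psi_Cm (u : P ⊗[A] C') :
    Psi (A := A) P C' ((Cm (A := A) P).toLinearMap.rTensor C' u) = C u := by
  induction u using TensorProduct.induction_on with
  | zero => simp
  | tmul p c =>
    rw [LinearMap.rTensor_tmul, AlgHom.toLinearMap_apply, Psi_tmul, Cm_apply, Polynomial.map_C, ← C_mul]
    congr 1
    show (p ⊗ₜ[A] (1 : C')) * ((1 : P) ⊗ₜ[A] c) = _
    rw [Algebra.TensorProduct.tmul_mul_tmul, mul_one, one_mul]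
  | add x y hx hy => simp only [map_add, hx, hy]

/-- Evaluation at `T = 1`, as an `A`-algebra map. -/
noncomputable def ev1 : Polynomial P →ₐ[A] P := (Polynomial.aeval (1 : P)).restrictScalars A

theorem ev1_apply (q : Polynomial P) : ev1 (A := A) P q = q.eval 1 := by
  rw [← Polynomial.coe_aeval_eq_eval]
  rfl

theorem ev1_X : ev1 (A := A) P X = 1 := by rw [ev1_apply, eval_X]

theorem ev1_comp_Cm : (ev1 (A := A) P).comp (Cm (A := A) P) = AlgHom.id A P := by
  ext p
  rw [AlgHom.comp_apply, Cm_apply, ev1_apply, eval_C, AlgHom.id_apply]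

theorem eval_one_Psi (U : Polynomial P ⊗[A] C') :
    (Psi (A := A) P C' U).eval 1 = (ev1 (A := A) P).toLinearMap.rTensor C' U := by
  induction U using TensorProduct.induction_on with
  | zero => simp
  | tmul q c =>
    rw [Psi_tmul, eval_mul, eval_C, eval_one_map, LinearMap.rTensor_tmul, AlgHom.toLinearMap_apply, ev1_apply]
    show (q.eval 1 ⊗ₜ[A] (1 : C')) * ((1 : P) ⊗ₜ[A] c) = _
    rw [Algebra.TensorProduct.tmul_mul_tmul, mul_one, one_mul]
  | add x y hx hy => simp only [map_add, eval_add, hx, hy]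

end Psi

end Groth.Agent.Lib.PolyTensorPoly23
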