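import Mathlib

/-
Lib/PosInvol (helper75): positive involutions on finite-dimensional ℚ-algebras.
* `exists_bound`: positive definite symmetric rational form dominates |ℓ|² for any ℚ-linear ℓ : V → ℂ.
* `symForm σ`: the symmetrized form σ(x y†) + σ(y x†).
* `core`: α α† = q, α ≠ 0 ⇒ q > 0, α invertible in ℚ[α] and α† = q α⁻¹ ∈ ℚ[α].
* `norm_sq_eq`: |ρ(α)|² = q for every ρ : ℚ[α] → ℂ (power growth argument).
* `main`: the full statement of S19356.
-/

set_option autoImplicit false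
universe u
open Finset

namespace Groth.Agent.Lib.PosInvol

theorem exists_bound {V : Type u} [AddCommGroup V] [Module ℚ V] [FiniteDimensional ℚ V]
    (B : LinearMap.BilinForm ℚ V) (hsymm : ∀ x y, B x y = B y x) (hpos : ∀ x, x ≠ 0 → 0 < B x x)
    (ℓ : V →ₗ[ℚ] ℂ) : ∃ C : ℝ, ∀ x, ‖ℓ x‖ ^ 2 ≤ C * ((B x x : ℚ) : ℝ) := by
  classical
  obtain ⟨v, hv⟩ := LinearMap.BilinForm.exists_orthogonal_basis (B := B) ⟨fun x y => by simpa using hsymm x y⟩
  have hd : ∀ i, 0 < B (v i) (v i) := fun i => hpos _ (v.ne_zero i)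
  refine ⟨∑ i, ‖ℓ (v i)‖ ^ 2 / ((B (v i) (v i) : ℚ) : ℝ), fun x => ?_⟩
  set c := v.repr x with hc
  have hx : x = ∑ i, c i • v i := (v.sum_repr x).symm
  have hB : B x x = ∑ i, c i ^ 2 * B (v i) (v i) := by
    conv_lhs => rw [hx]
    simp only [map_sum, LinearMap.sum_apply, map_smul, LinearMap.smul_apply, smul_eq_mul]
    apply Finset.sum_congr rfl
    intro i _
    rw [Finset.sum_eq_single i]
    · ring
    · intro j _ hji
      simp [hv hji]
    · intro h; exact absurd (Finset.mem_univ i) h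
  have hℓ : ℓ x = ∑ i, ((c i : ℚ) : ℂ) * ℓ (v i) := by
    conv_lhs => rw [hx]
    simp only [map_sum, map_smul]
    apply Finset.sum_congr rfl
    intro i _
    rw [Algebra.smul_def]
    simp
  have h1 : ‖ℓ x‖ ≤ ∑ i, |((c i : ℚ) : ℝ)| * ‖ℓ (v i)‖ := by
    rw [hℓ]
    refine (norm_sum_le _ _).trans (le_of_eq ?_)
    apply Finset.sum_congr rfl
    intro i _
    rw [norm_mul, Complex.norm_ratCast]
  have h2 : (∑ i, |((c i : ℚ) : ℝ)| * ‖ℓ (v i)‖) ^ 2 ≤
      (∑ i, ((c i : ℚ) : ℝ) ^ 2 * ((B (v i) (v i) : ℚ) : ℝ)) *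
        ∑ i, ‖ℓ (v i)‖ ^ 2 / ((B (v i) (v i) : ℚ) : ℝ) := by
    apply Finset.sum_sq_le_sum_mul_sum_of_sq_le_mul
    · intro i _
      exact mul_nonneg (sq_nonneg _) (by exact_mod_cast (hd i).le)
    · intro i _
      exact div_nonneg (sq_nonneg _) (by exact_mod_cast (hd i).le)
    · intro i _
      have : ((B (v i) (v i) : ℚ) : ℝ) ≠ 0 := by exact_mod_cast (hd i).ne'
      rw [mul_pow, sq_abs]
      apply le_of_eq
      field_simp
  calc ‖ℓ x‖ ^ 2 ≤ (∑ i, |((c i : ℚ) : ℝ)| * ‖ℓ (v i)‖) ^ 2 := by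
        apply pow_le_pow_left₀ (norm_nonneg _) h1
    _ ≤ _ := h2
    _ = _ := by
        rw [hB, mul_comm]
        congr 1
        push_cast
        rfl

section Main
variable {R : Type u} [Ring R] [Algebra ℚ R] [Module.Finite ℚ R] [StarRing R] [StarModule ℚ R]
  (σ : R →ₗ[ℚ] ℚ)

/-- The symmetrized form `σ(x y†) + σ(y x†)`. -/
noncomputable def symForm : LinearMap.BilinForm ℚ R :=
  LinearMap.mk₂ ℚ (fun x y => σ (x * star y) + σ (y * star x))
    (by intro x x' y; simp only [add_mul, mul_add, star_add, map_add]; ring)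
    (by intro c x y
        simp only [smul_mul_assoc, mul_smul_comm, star_smul, star_trivial, map_smul, smul_eq_mul]
        ring)
    (by intro x y y'; simp only [add_mul, mul_add, star_add, map_add]; ring)
    (by intro c x y
        simp only [smul_mul_assoc, mul_smul_comm, star_smul, star_trivial, map_smul, smul_eq_mul]
        ring)

theorem symForm_apply (x y : R) : symForm σ x y = σ (x * star y) + σ (y * star x) := rfl

theorem core (hpos : ∀ x : R, x ≠ 0 → 0 < σ (x * star x)) (α : R) (q : ℚ)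
    (hα : α * star α = algebraMap ℚ R q) (hα0 : α ≠ 0) :
    0 < q ∧ 0 < σ 1 ∧ ∃ e ∈ Algebra.adjoin ℚ ({α} : Set R), α * e = 1 ∧ e * α = 1 ∧ star α = q • e := by
  have h1 : (1 : R) ≠ 0 := by
    intro h
    apply hα0
    rw [← mul_one α, h, mul_zero]
  have hσ1 : 0 < σ 1 := by
    have := hpos 1 h1
    rwa [star_one, mul_one] at this
  have hq : 0 < q := by
    have := hpos α hα0
    rw [hα, Algebra.algebraMap_eq_smul_one, map_smul, smul_eq_mul] at this
    exact (pos_iff_pos_of_mul_pos this).mpr hσ1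
  refine ⟨hq, hσ1, ?_⟩
  set β : R := q⁻¹ • star α with hβ
  have hαβ : α * β = 1 := by
    rw [hβ, mul_smul_comm, hα, Algebra.algebraMap_eq_smul_one, smul_smul, inv_mul_cancel₀ hq.ne',
      one_smul]
  set E := Algebra.adjoin ℚ ({α} : Set R) with hE
  have hcomm : ∀ x : E, α * (x : R) = (x : R) * α := fun x =>
    (Algebra.commute_of_mem_adjoin_self (R := ℚ) x.2).eq
  let a : E := ⟨α, Algebra.self_mem_adjoin_singleton ℚ α⟩
  have hinj : Function.Injective (LinearMap.mulLeft ℚ a) := by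
    rw [← LinearMap.ker_eq_bot, LinearMap.ker_eq_bot']
    intro x hx
    have hx' : α * (x : R) = 0 := by
      have := congrArg Subtype.val hx
      simpa [a] using this
    apply Subtype.ext
    calc (x : R) = (x : R) * (α * β) := by rw [hαβ, mul_one]
      _ = (α * (x : R)) * β := by rw [hcomm x, mul_assoc]
      _ = 0 := by rw [hx', zero_mul]
  have hsurj : Function.Surjective (LinearMap.mulLeft ℚ a) :=
    LinearMap.injective_iff_surjective.mp hinj
  obtain ⟨x, hx⟩ := hsurj 1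
  have hx' : α * (x : R) = 1 := by
    have := congrArg Subtype.val hx
    simpa [a] using this
  have hx'' : (x : R) * α = 1 := by rw [← hcomm x, hx']
  have hxβ : (x : R) = β := by
    calc (x : R) = (x : R) * (α * β) := by rw [hαβ, mul_one]
      _ = ((x : R) * α) * β := by rw [mul_assoc]
      _ = β := by rw [hx'', one_mul]
  refine ⟨x, x.2, hx', hx'', ?_⟩
  rw [hxβ, hβ, smul_smul, mul_inv_cancel₀ hq.ne', one_smul]

end Main

section Modulus
variable {R : Type u} [Ring R] [Algebra ℚ R] [Module.Finite ℚ R] [StarRing R] [StarModule ℚ R]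
  (σ : R →ₗ[ℚ] ℚ)

theorem pow_le_of_bound {r D : ℝ} (hr : 0 < r) (h1 : ∀ k : ℕ, r ^ k ≤ D)
    (h2 : ∀ k : ℕ, (r⁻¹) ^ k ≤ D) : r = 1 := by
  rcases lt_trichotomy r 1 with h | h | h
  · exfalso
    have : 1 < r⁻¹ := (one_lt_inv₀ hr).mpr h
    obtain ⟨k, hk⟩ := pow_unbounded_of_one_lt D this
    exact absurd (h2 k) (not_le.mpr hk)
  · exact h
  · exfalso
    obtain ⟨k, hk⟩ := pow_unbounded_of_one_lt D h
    exact absurd (h1 k) (not_le.mpr hk)

theorem norm_sq_eq (hpos : ∀ x : R, x ≠ 0 → 0 < σ (x * star x)) (α : R) (q : ℚ)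
    (hα : α * star α = algebraMap ℚ R q) (hα0 : α ≠ 0)
    (ρ : Algebra.adjoin ℚ ({α} : Set R) →ₐ[ℚ] ℂ) :
    ‖ρ ⟨α, Algebra.self_mem_adjoin_singleton ℚ α⟩‖ ^ 2 = (q : ℝ) := by
  obtain ⟨hq, hσ1, e, he, hαe, heα, hstar⟩ := core σ hpos α q hα hα0
  set a : Algebra.adjoin ℚ ({α} : Set R) := ⟨α, Algebra.self_mem_adjoin_singleton ℚ α⟩ with ha
  set b : Algebra.adjoin ℚ ({α} : Set R) := ⟨e, he⟩ with hb
  set lam : ℂ := ρ a with hlam
  have hab : a * b = 1 := Subtype.ext hαe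
  have hlam1 : lam * ρ b = 1 := by rw [hlam, ← map_mul, hab, map_one]
  have hlam0 : lam ≠ 0 := left_ne_zero_of_mul_eq_one hlam1
  have hρb : ρ b = lam⁻¹ := eq_inv_of_mul_eq_one_right hlam1
  -- extend ρ to a linear functional on R
  obtain ⟨ℓ, hℓ⟩ := LinearMap.exists_extend (p := Subalgebra.toSubmodule (Algebra.adjoin ℚ ({α} : Set R))) (ρ.toLinearMap)
  have hℓ' : ∀ x : Algebra.adjoin ℚ ({α} : Set R), ℓ (x : R) = ρ x := fun x => by
    have := LinearMap.congr_fun hℓ x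
    simpa using this
  have hBsymm : ∀ x y, symForm σ x y = symForm σ y x := by
    intro x y; rw [symForm_apply, symForm_apply]; ring
  have hBpos : ∀ x, x ≠ 0 → 0 < symForm σ x x := by
    intro x hx
    rw [symForm_apply]
    have := hpos x hx
    linarith
  obtain ⟨C, hC⟩ := exists_bound (symForm σ) hBsymm hBpos ℓ
  -- values on powers
  have hstar_e : star e = q⁻¹ • α := by
    have : e = q⁻¹ • star α := by rw [hstar, smul_smul, inv_mul_cancel₀ hq.ne', one_smul]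
    rw [this, star_smul, star_star, star_trivial]
  have hcomm1 : Commute α (star α) := by
    rw [hstar]
    exact (show Commute α e from by rw [Commute, SemiconjBy, hαe, heα]).smul_right q
  have hcomm2 : Commute e (star e) := by
    rw [hstar_e]
    exact (show Commute e α from by rw [Commute, SemiconjBy, hαe, heα]).smul_right _
  have hS1 : ∀ k : ℕ, symForm σ (α ^ k) (α ^ k) = 2 * (q ^ k * σ 1) := by
    intro k
    rw [symForm_apply, star_pow, ← hcomm1.mul_pow, hα, ← map_pow, Algebra.algebraMap_eq_smul_one,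
      map_smul, smul_eq_mul]
    ring
  have hS2 : ∀ k : ℕ, symForm σ (e ^ k) (e ^ k) = 2 * ((q⁻¹) ^ k * σ 1) := by
    intro k
    have : e * star e = algebraMap ℚ R q⁻¹ := by
      rw [hstar_e, mul_smul_comm, heα, Algebra.algebraMap_eq_smul_one]
    rw [symForm_apply, star_pow, ← hcomm2.mul_pow, this, ← map_pow, Algebra.algebraMap_eq_smul_one,
      map_smul, smul_eq_mul]
    ring
  have hL1 : ∀ k : ℕ, ℓ (α ^ k) = lam ^ k := by
    intro k
    have : ((a ^ k : Algebra.adjoin ℚ ({α} : Set R)) : R) = α ^ k := by simp [ha]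
    rw [← this, hℓ', map_pow]
  have hL2 : ∀ k : ℕ, ℓ (e ^ k) = (lam⁻¹) ^ k := by
    intro k
    have : ((b ^ k : Algebra.adjoin ℚ ({α} : Set R)) : R) = e ^ k := by simp [hb]
    rw [← this, hℓ', map_pow, hρb]
  set r : ℝ := ‖lam‖ ^ 2 / (q : ℝ) with hr
  have hqR : (0 : ℝ) < (q : ℝ) := by exact_mod_cast hq
  have hσR : (0 : ℝ) < ((σ 1 : ℚ) : ℝ) := by exact_mod_cast hσ1
  have hnorm : 0 < ‖lam‖ := norm_pos_iff.mpr hlam0
  have hrpos : 0 < r := div_pos (pow_pos hnorm 2) hqR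
  have hr1 : r = 1 := by
    apply pow_le_of_bound hrpos (D := C * (2 * ((σ 1 : ℚ) : ℝ)))
    · intro k
      have := hC (α ^ k)
      rw [hL1, hS1, norm_pow] at this
      push_cast at this
      rw [hr, div_pow, div_le_iff₀ (pow_pos hqR k), ← pow_mul, mul_comm 2 k, pow_mul]
      calc (‖lam‖ ^ k) ^ 2 ≤ C * (2 * ((q : ℝ) ^ k * ((σ 1 : ℚ) : ℝ))) := this
        _ = C * (2 * ((σ 1 : ℚ) : ℝ)) * (q : ℝ) ^ k := by ring
    · intro k
      have := hC (e ^ k)
      rw [hL2, hS2, norm_pow, norm_inv] at this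
      push_cast at this
      rw [hr, inv_div, div_pow, div_le_iff₀ (pow_pos (pow_pos hnorm 2) k)]
      have h3 : (‖lam‖⁻¹ ^ k) ^ 2 * (‖lam‖ ^ 2) ^ k = 1 := by
        rw [← pow_mul, ← pow_mul, mul_comm k 2, ← mul_pow, inv_mul_cancel₀ hnorm.ne', one_pow]
      have h4 : ((q : ℝ)⁻¹) ^ k * (q : ℝ) ^ k = 1 := by
        rw [← mul_pow, inv_mul_cancel₀ hqR.ne', one_pow]
      calc (q : ℝ) ^ k = (q : ℝ) ^ k * ((‖lam‖⁻¹ ^ k) ^ 2 * (‖lam‖ ^ 2) ^ k) := by rw [h3, mul_one]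
        _ ≤ (q : ℝ) ^ k * (C * (2 * (((q : ℝ)⁻¹) ^ k * ((σ 1 : ℚ) : ℝ))) * (‖lam‖ ^ 2) ^ k) := by
            apply mul_le_mul_of_nonneg_left _ (pow_pos hqR k).le
            exact mul_le_mul_of_nonneg_right this (pow_pos (pow_pos hnorm 2) k).le
        _ = C * (2 * ((σ 1 : ℚ) : ℝ)) * (‖lam‖ ^ 2) ^ k * (((q : ℝ)⁻¹) ^ k * (q : ℝ) ^ k) := by ring
        _ = C * (2 * ((σ 1 : ℚ) : ℝ)) * (‖lam‖ ^ 2) ^ k := by rw [h4, mul_one]
  rw [hr, div_eq_one_iff_eq hqR.ne'] at hr1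
  exact hr1

end Modulus

section Final
variable {R : Type u} [Ring R] [Algebra ℚ R] [Module.Finite ℚ R] [StarRing R] [StarModule ℚ R]
  (σ : R →ₗ[ℚ] ℚ)

theorem main (hpos : ∀ x : R, x ≠ 0 → 0 < σ (x * star x))
    (α : R) (q : ℚ) (hα : α * star α = algebraMap ℚ R q) :
    ∃ hmem : star α ∈ Algebra.adjoin ℚ ({α} : Set R),
      ∀ ρ : Algebra.adjoin ℚ ({α} : Set R) →ₐ[ℚ] ℂ,
        ρ ⟨star α, hmem⟩ = starRingEnd ℂ (ρ ⟨α, Algebra.self_mem_adjoin_singleton ℚ α⟩) ∧
          ‖ρ ⟨α, Algebra.self_mem_adjoin_singleton ℚ α⟩‖ ^ 2 = (q : ℝ) := by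
  have key : ∀ (hmem : star α ∈ Algebra.adjoin ℚ ({α} : Set R))
      (ρ : Algebra.adjoin ℚ ({α} : Set R) →ₐ[ℚ] ℂ),
      ρ ⟨α, Algebra.self_mem_adjoin_singleton ℚ α⟩ * ρ ⟨star α, hmem⟩ = (q : ℂ) := by
    intro hmem ρ
    rw [← map_mul]
    have : (⟨α, Algebra.self_mem_adjoin_singleton ℚ α⟩ * ⟨star α, hmem⟩ :
        Algebra.adjoin ℚ ({α} : Set R)) = algebraMap ℚ _ q := Subtype.ext hα
    rw [this, AlgHom.commutes]
    simp
  rcases eq_or_ne α 0 with h0 | hα0
  · have hmem : star α ∈ Algebra.adjoin ℚ ({α} : Set R) := by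
      rw [h0, star_zero]; exact Subalgebra.zero_mem _
    refine ⟨hmem, fun ρ => ?_⟩
    have ha0 : (⟨α, Algebra.self_mem_adjoin_singleton ℚ α⟩ : Algebra.adjoin ℚ ({α} : Set R)) = 0 :=
      Subtype.ext h0
    have hs0 : (⟨star α, hmem⟩ : Algebra.adjoin ℚ ({α} : Set R)) = 0 :=
      Subtype.ext (show star α = 0 by rw [h0, star_zero])
    have hk := key hmem ρ
    rw [ha0, map_zero, zero_mul] at hk
    have hq0 : q = 0 := by exact_mod_cast hk.symm
    rw [ha0, hs0, map_zero, map_zero, norm_zero, hq0]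
    simp
  · obtain ⟨hq, hσ1, e, he, hαe, heα, hstar⟩ := core σ hpos α q hα hα0
    have hmem : star α ∈ Algebra.adjoin ℚ ({α} : Set R) := by
      rw [hstar]; exact Subalgebra.smul_mem _ he q
    refine ⟨hmem, fun ρ => ?_⟩
    have hn := norm_sq_eq σ hpos α q hα hα0 ρ
    refine ⟨?_, hn⟩
    have hk := key hmem ρ
    set lam : ℂ := ρ ⟨α, Algebra.self_mem_adjoin_singleton ℚ α⟩ with hlam
    have hqC : (q : ℂ) ≠ 0 := by exact_mod_cast hq.ne'
    have hlam0 : lam ≠ 0 := by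
      intro h; rw [h, zero_mul] at hk; exact hqC hk.symm
    have hconj : lam * starRingEnd ℂ lam = (q : ℂ) := by
      rw [Complex.mul_conj, Complex.normSq_eq_norm_sq]
      exact_mod_cast hn
    exact mul_left_cancel₀ hlam0 (hk.trans hconj.symm)

end Final

end Groth.Agent.Lib.PosInvol
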