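import Mathlib.CategoryTheory.Triangulated.Triangulated
import Mathlib.Algebra.Homology.HomologicalComplex
import Mathlib.Tactic.Ring
import Mathlib.Tactic.Linarith
import Mathlib.Tactic.NormNum

/-!
# Postnikov systems in a triangulated category: dévissage helpers

`sh` is the one-step shift on objects; all dévissage is phrased with iterates `sh^[i]` so that no
negative shifts occur.  `hom_iterate_eq_zero` / `iterate_hom_eq_zero` convert vanishing of
`Hom(A⟦n⟧, Z)` (resp. `Hom(A, Z⟦n⟧)`), `n + m = 0`, into vanishing of `Hom(A, sh^[m] Z)`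
(resp. `Hom(sh^[m] A, Z)`).  `hom_from_Y_eq_zero` / `hom_to_Y_eq_zero` are the dévissage of maps
out of / into the objects `Y k` of a Postnikov system.
-/

set_option autoImplicit false
universe v u
open CategoryTheory CategoryTheory.Limits

namespace Groth.Agent.Lib.Postnikov
open CategoryTheory.Pretriangulated

variable {D : Type u} [Category.{v} D] [Preadditive D] [HasZeroObject D] [HasShift D ℤ]
    [∀ n : ℤ, (shiftFunctor D n).Additive] [Pretriangulated D]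

/-- one-step shift on objects -/
abbrev sh (Z : D) : D := (shiftFunctor D (1 : ℤ)).obj Z

theorem nonempty_iterate_iso (m : ℕ) : ∀ Z : D,
    Nonempty ((sh^[m]) Z ≅ (shiftFunctor D (m : ℤ)).obj Z) := by
  induction m with
  | zero =>
    intro Z
    exact ⟨((shiftFunctorZero D ℤ).app Z).symm⟩
  | succ m ih =>
    intro Z
    obtain ⟨e⟩ := ih (sh Z)
    refine ⟨e ≪≫ ((shiftFunctorAdd' D (1 : ℤ) (m : ℤ) ((m + 1 : ℕ) : ℤ) (by push_cast; ring)).app Z).symm⟩

/-- C1 -/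
theorem hom_iterate_eq_zero (A Z : D) (n : ℤ) (m : ℕ) (h : n + m = 0)
    (hyp : ∀ ψ : (shiftFunctor D n).obj A ⟶ Z, ψ = 0) : ∀ ψ : A ⟶ (sh^[m]) Z, ψ = 0 := by
  intro ψ
  obtain ⟨e⟩ := nonempty_iterate_iso m Z
  have h1 : ψ ≫ e.hom = 0 := by
    apply (shiftFunctor D n).map_injective
    rw [Functor.map_zero]
    have iso := (shiftFunctorCompIsoId D (m : ℤ) n (by omega)).app Z
    rw [← cancel_mono iso.hom, zero_comp]
    exact hyp _
  have : ψ = (ψ ≫ e.hom) ≫ e.inv := by simp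
  rw [this, h1, zero_comp]

/-- C2 -/
theorem iterate_hom_eq_zero (A Z : D) (n : ℤ) (m : ℕ) (h : n + m = 0)
    (hyp : ∀ ψ : A ⟶ (shiftFunctor D n).obj Z, ψ = 0) : ∀ ψ : (sh^[m]) A ⟶ Z, ψ = 0 := by
  intro ψ
  obtain ⟨e⟩ := nonempty_iterate_iso m A
  have h1 : e.inv ≫ ψ = 0 := by
    apply (shiftFunctor D n).map_injective
    rw [Functor.map_zero]
    have iso := (shiftFunctorCompIsoId D (m : ℤ) n (by omega)).app A
    rw [← cancel_epi iso.inv, comp_zero]
    exact hyp _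
  have : ψ = e.hom ≫ (e.inv ≫ ψ) := by simp
  rw [this, h1, comp_zero]


/-- D1: dévissage for maps out of `Y k`. -/
theorem hom_from_Y_eq_zero (X : ChainComplex D ℕ) (n : ℕ)
    (Y : ℕ → D) (a : ∀ k, Y k ⟶ X.X k) (b : ∀ k, X.X (k + 1) ⟶ Y k)
    (c : ∀ k, Y k ⟶ (shiftFunctor D (1 : ℤ)).obj (Y (k + 1)))
    (h0 : IsIso (a 0))
    (hP : ∀ k, k < n → Triangle.mk (a (k + 1)) (b k) (c k) ∈ distinguishedTriangles)
    (k : ℕ) : k ≤ n → ∀ Z : D, (∀ i j : ℕ, i + j = k → ∀ ψ : X.X j ⟶ (sh^[i]) Z, ψ = 0) →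
      ∀ ψ : Y k ⟶ Z, ψ = 0 := by
  induction k with
  | zero =>
    intro _ Z hyp ψ
    have : inv (a 0) ≫ ψ = 0 := hyp 0 0 rfl _
    rw [← cancel_epi (inv (a 0)), this, comp_zero]
  | succ k ih =>
    intro hk Z hyp ψ
    have hT := hP k (by omega)
    -- Hom(Y k, Z⟦1⟧) = 0
    have h1 : ∀ ψ' : Y k ⟶ sh Z, ψ' = 0 := by
      apply ih (by omega) (sh Z)
      intro i j hij ψ'
      exact hyp (i + 1) j (by omega) ψ'
    have h2 : c k ≫ (shiftFunctor D (1 : ℤ)).map ψ = 0 := h1 _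
    obtain ⟨g, hg⟩ := Triangle.yoneda_exact₃ _ (rot_of_distTriang _ hT)
      ((shiftFunctor D (1 : ℤ)).map ψ) h2
    obtain ⟨g', rfl⟩ := (shiftFunctor D (1 : ℤ)).map_surjective g
    have h3 : g' = 0 := hyp 0 (k + 1) (by omega) g'
    apply (shiftFunctor D (1 : ℤ)).map_injective
    rw [Functor.map_zero]
    refine hg.trans ?_
    rw [h3, Functor.map_zero, comp_zero]
    rfl

/-- D2: dévissage for maps into `Y k`. -/
theorem hom_to_Y_eq_zero (X : ChainComplex D ℕ) (n : ℕ)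
    (Y : ℕ → D) (a : ∀ k, Y k ⟶ X.X k) (b : ∀ k, X.X (k + 1) ⟶ Y k)
    (c : ∀ k, Y k ⟶ (shiftFunctor D (1 : ℤ)).obj (Y (k + 1)))
    (h0 : IsIso (a 0))
    (hP : ∀ k, k < n → Triangle.mk (a (k + 1)) (b k) (c k) ∈ distinguishedTriangles)
    (k : ℕ) : k ≤ n → ∀ W : D, (∀ i j : ℕ, i + j = k → ∀ ψ : (sh^[i]) W ⟶ X.X j, ψ = 0) →
      ∀ ψ : W ⟶ Y k, ψ = 0 := by
  induction k with
  | zero =>
    intro _ W hyp ψ
    have : ψ ≫ a 0 = 0 := hyp 0 0 rfl _
    rw [← cancel_mono (a 0), this, zero_comp]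
  | succ k ih =>
    intro hk W hyp ψ
    have hT := hP k (by omega)
    have h1 : ψ ≫ a (k + 1) = 0 := hyp 0 (k + 1) (by omega) _
    obtain ⟨g, hg⟩ := Triangle.coyoneda_exact₁ _ hT ((shiftFunctor D (1 : ℤ)).map ψ)
      (by
        change (shiftFunctor D (1 : ℤ)).map ψ ≫ (shiftFunctor D (1 : ℤ)).map (a (k + 1)) = 0
        rw [← Functor.map_comp, h1, Functor.map_zero])
    have h2 : g = 0 := by
      apply ih (by omega) (sh W)
      intro i j hij ψ'
      exact hyp (i + 1) j (by omega) ψ'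
    apply (shiftFunctor D (1 : ℤ)).map_injective
    rw [Functor.map_zero]
    refine hg.trans ?_
    rw [h2, zero_comp]
    rfl


/-- `sh^[i] (A⟦m⟧) ≅ A⟦m + i⟧`. -/
theorem nonempty_iterate_shift_iso (A : D) (m l : ℤ) (i : ℕ) (h : m + i = l) :
    Nonempty ((sh^[i]) ((shiftFunctor D m).obj A) ≅ (shiftFunctor D l).obj A) := by
  obtain ⟨e⟩ := nonempty_iterate_iso i ((shiftFunctor D m).obj A)
  exact ⟨e ≪≫ ((shiftFunctorAdd' D m (i : ℤ) l h).app A).symm⟩

end Groth.Agent.Lib.Postnikov
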