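/-
Helper library (helper75): the adic completion `AdicCompletion I A` acts on every `I`-power torsion
`A`-module.

Main declarations (namespace `Groth.Agent.Lib.PowTorsCompl75`):
* `evalₐ_of_le` : compatibility of the `evalₐ` maps.
* `IsPT I N` : every element of `N` is killed by a power of `I`.
* `cmodule hN : Module (AdicCompletion I A) N` for `hN : IsPT I N`, with
  `smul_eq hN b y a n h1 h2 : b • y = a • y` whenever `I^n` kills `y` and `evalₐ I n b = mk a`.
* `isScalarTower hN`, `submodule hN K` (every `A`-submodule is a submodule for the completion),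
* `semilinear hN ...` : Frobenius-semilinear maps over `A` are Frobenius-semilinear for the completion.
-/
import Mathlib

set_option autoImplicit false
set_option linter.style.haveILetI false
universe u v

namespace Groth.Agent.Lib.PowTorsCompl75

open AdicCompletion

variable {A : Type u} [CommRing A] (I : Ideal A)

theorem evalₐ_of_le {m n : ℕ} (hmn : m ≤ n) (b : AdicCompletion I A) (a : A)
    (h : evalₐ I n b = Ideal.Quotient.mk (I ^ n) a) :
    evalₐ I m b = Ideal.Quotient.mk (I ^ m) a := by
  obtain ⟨x, rfl⟩ := AdicCompletion.mk_surjective I A b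
  rw [evalₐ_mk] at h ⊢
  rw [Ideal.Quotient.eq] at h ⊢
  have h1 : x.val m - x.val n ∈ I ^ m := by
    have := x.2 hmn
    rw [SModEq.sub_mem] at this
    simpa using this
  have h2 : x.val n - a ∈ I ^ m := Ideal.pow_le_pow_right hmn h
  have : x.val m - a = (x.val m - x.val n) + (x.val n - a) := by ring
  rw [this]
  exact Ideal.add_mem _ h1 h2

/-- `I`-power torsion. -/
def IsPT (N : Type v) [AddCommGroup N] [Module A N] : Prop :=
  ∀ y : N, ∃ n : ℕ, ∀ a ∈ I ^ n, a • y = 0

variable {I} {N : Type v} [AddCommGroup N] [Module A N]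

theorem IsPT.mono {y : N} {m n : ℕ} (hmn : m ≤ n) (h : ∀ a ∈ I ^ m, a • y = 0) :
    ∀ a ∈ I ^ n, a • y = 0 := fun a ha => h a (Ideal.pow_le_pow_right hmn ha)

theorem exists_repr (hN : IsPT I N) (b : AdicCompletion I A) (y : N) :
    ∃ a : A, ∃ n : ℕ, (∀ c ∈ I ^ n, c • y = 0) ∧ evalₐ I n b = Ideal.Quotient.mk (I ^ n) a := by
  obtain ⟨n, hn⟩ := hN y
  obtain ⟨a, ha⟩ := Ideal.Quotient.mk_surjective (evalₐ I n b)
  exact ⟨a, n, hn, ha.symm⟩

/-- The scalar action. -/
noncomputable def sm (hN : IsPT I N) (b : AdicCompletion I A) (y : N) : N :=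
  (Classical.choose (exists_repr hN b y)) • y

theorem sm_eq (hN : IsPT I N) (b : AdicCompletion I A) (y : N) (a : A) (n : ℕ)
    (h1 : ∀ c ∈ I ^ n, c • y = 0) (h2 : evalₐ I n b = Ideal.Quotient.mk (I ^ n) a) :
    sm hN b y = a • y := by
  obtain ⟨n', h1', h2'⟩ := Classical.choose_spec (exists_repr hN b y)
  set a' := Classical.choose (exists_repr hN b y) with ha'
  show a' • y = a • y
  rw [← sub_eq_zero, ← sub_smul]
  rcases le_total n n' with hle | hle
  · apply h1
    rw [← Ideal.Quotient.eq, ← h2]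
    exact (evalₐ_of_le I hle b a' h2').symm
  · apply h1'
    rw [← Ideal.Quotient.eq, ← h2']
    exact (evalₐ_of_le I hle b a h2)

/-- Common representation for two scalars and finitely many vectors: helper. -/
theorem exists_repr_at (b : AdicCompletion I A) (n : ℕ) :
    ∃ a : A, evalₐ I n b = Ideal.Quotient.mk (I ^ n) a := by
  obtain ⟨a, ha⟩ := Ideal.Quotient.mk_surjective (evalₐ I n b)
  exact ⟨a, ha.symm⟩

/-- The module structure of an `I`-power torsion module over the completion. -/
@[reducible] noncomputable def cmodule (hN : IsPT I N) : Module (AdicCompletion I A) N where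
  smul := sm hN
  one_smul y := by
    obtain ⟨n, hn⟩ := hN y
    show sm hN 1 y = y
    rw [sm_eq hN 1 y 1 n hn (by rw [map_one, map_one]), one_smul]
  mul_smul b b' y := by
    obtain ⟨n, hn⟩ := hN y
    obtain ⟨a, ha⟩ := exists_repr_at b n
    obtain ⟨a', ha'⟩ := exists_repr_at b' n
    show sm hN (b * b') y = sm hN b (sm hN b' y)
    rw [sm_eq hN b' y a' n hn ha', sm_eq hN (b * b') y (a * a') n hn (by rw [map_mul, ha, ha', map_mul]),
      sm_eq hN b (a' • y) a n (fun c hc => by rw [smul_comm, hn c hc, smul_zero]) ha, mul_smul]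
  smul_zero b := by
    obtain ⟨a, ha⟩ := exists_repr_at b 0
    show sm hN b 0 = 0
    rw [sm_eq hN b 0 a 0 (fun c _ => smul_zero c) ha, smul_zero]
  smul_add b y y' := by
    obtain ⟨n, hn⟩ := hN y
    obtain ⟨n', hn'⟩ := hN y'
    have h1 := IsPT.mono (le_max_left n n') hn
    have h2 := IsPT.mono (le_max_right n n') hn'
    obtain ⟨a, ha⟩ := exists_repr_at b (max n n')
    show sm hN b (y + y') = sm hN b y + sm hN b y'
    rw [sm_eq hN b y a _ h1 ha, sm_eq hN b y' a _ h2 ha,
      sm_eq hN b (y + y') a _ (fun c hc => by rw [smul_add, h1 c hc, h2 c hc, add_zero]) ha, smul_add]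
  add_smul b b' y := by
    obtain ⟨n, hn⟩ := hN y
    obtain ⟨a, ha⟩ := exists_repr_at b n
    obtain ⟨a', ha'⟩ := exists_repr_at b' n
    show sm hN (b + b') y = sm hN b y + sm hN b' y
    rw [sm_eq hN b y a n hn ha, sm_eq hN b' y a' n hn ha',
      sm_eq hN (b + b') y (a + a') n hn (by rw [map_add, ha, ha', map_add]), add_smul]
  zero_smul y := by
    obtain ⟨n, hn⟩ := hN y
    show sm hN 0 y = 0
    rw [sm_eq hN 0 y 0 n hn (by rw [_root_.map_zero, _root_.map_zero]), zero_smul]

theorem smul_eq (hN : IsPT I N) (b : AdicCompletion I A) (y : N) (a : A) (n : ℕ)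
    (h1 : ∀ c ∈ I ^ n, c • y = 0) (h2 : evalₐ I n b = Ideal.Quotient.mk (I ^ n) a) :
    letI := cmodule hN
    b • y = a • y := sm_eq hN b y a n h1 h2

theorem exists_smul_eq (hN : IsPT I N) (b : AdicCompletion I A) (y : N) :
    letI := cmodule hN
    ∃ a : A, b • y = a • y := by
  obtain ⟨n, hn⟩ := hN y
  obtain ⟨a, ha⟩ := exists_repr_at b n
  exact ⟨a, smul_eq hN b y a n hn ha⟩

theorem isScalarTower (hN : IsPT I N) :
    letI := cmodule hN
    IsScalarTower A (AdicCompletion I A) N := by
  letI := cmodule hN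
  refine ⟨fun a b y => ?_⟩
  obtain ⟨n, hn⟩ := hN y
  obtain ⟨a', ha'⟩ := exists_repr_at b n
  rw [smul_eq hN b y a' n hn ha', smul_eq hN (a • b) y (a * a') n hn
    (by rw [Algebra.smul_def, map_mul, ha', map_mul, AdicCompletion.algebraMap_apply, evalₐ_of,
      Algebra.algebraMap_self, RingHom.id_apply]),
    mul_smul]

/-- Every `A`-submodule is stable under the completion. -/
noncomputable def submodule (hN : IsPT I N) (K : Submodule A N) :
    letI := cmodule hN
    Submodule (AdicCompletion I A) N :=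
  letI := cmodule hN
  { carrier := K
    add_mem' := K.add_mem
    zero_mem' := K.zero_mem
    smul_mem' := fun b y hy => by
      obtain ⟨a, ha⟩ := exists_smul_eq hN b y
      show b • y ∈ K
      rw [ha]
      exact K.smul_mem a hy }

theorem mem_submodule (hN : IsPT I N) (K : Submodule A N) (y : N) :
    y ∈ submodule hN K ↔ y ∈ K := Iff.rfl


/-- Maps that are `p`-power semilinear over `A` are `p`-power semilinear over the completion. -/
theorem map_smul_pow (hN : IsPT I N) (p : ℕ) (φ : N → N)
    (hφ : ∀ (a : A) (y : N), φ (a • y) = a ^ p • φ y) (b : AdicCompletion I A) (y : N) :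
    letI := cmodule hN
    φ (b • y) = b ^ p • φ y := by
  letI := cmodule hN
  obtain ⟨n, hn⟩ := hN y
  obtain ⟨n', hn'⟩ := hN (φ y)
  have h1 := IsPT.mono (le_max_left n n') hn
  have h2 := IsPT.mono (le_max_right n n') hn'
  obtain ⟨a, ha⟩ := exists_repr_at b (max n n')
  rw [smul_eq hN b y a _ h1 ha, hφ,
    smul_eq hN (b ^ p) (φ y) (a ^ p) _ h2 (by rw [map_pow, ha, map_pow])]

end Groth.Agent.Lib.PowTorsCompl75
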