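import Mathlib

/-!
# The subrings `F[[T^p]]` of `k[[T]]`

For a subfield `F` of a field `k` and `p ≠ 0`, `frobSubring p hp F` is the subring of
`k[[T_1..T_r]]` of the power series in `T_i^p` with coefficients in `F`.  It is isomorphic to
`F[[T]]` (hence Noetherian for finitely many variables) and, when `k` is finite over `F`,
`k[[T]]` is a free module of finite rank over it.  Also a contraction lemma
(`mem_of_algebraMap_mem_closure`) for free ring extensions of domains.
-/

set_option autoImplicit false
universe u v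

namespace Groth.Agent.Lib.PowerSeriesFrobH44

open MvPowerSeries

section Contraction

variable {A : Type u} [CommRing A] [IsDomain A]

/-- If the domain `A` is free as a module over its subring `S`, then
`Frac S ∩ A = S` inside `Frac A`. -/
theorem mem_of_algebraMap_mem_closure (S : Subring A) [Module.Free S A] (a : A)
    (ha : algebraMap A (FractionRing A) a ∈
      Subfield.closure (algebraMap A (FractionRing A) '' (S : Set A))) : a ∈ S := by
  have hinj : Function.Injective (algebraMap A (FractionRing A)) := IsFractionRing.injective _ _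
  have hcl : Subring.closure (algebraMap A (FractionRing A) '' (S : Set A)) =
      S.map (algebraMap A (FractionRing A)) := by
    rw [← Subring.coe_map, Subring.closure_eq]
  rw [Subfield.mem_closure_iff, hcl] at ha
  obtain ⟨_, ⟨c, hc, rfl⟩, _, ⟨d, hd, rfl⟩, hcd⟩ := ha
  by_cases hd0 : d = 0
  · rw [hd0, map_zero, div_zero] at hcd
    have : a = 0 := hinj (by rw [← hcd, map_zero])
    rw [this]
    exact S.zero_mem
  have hd0' : algebraMap A (FractionRing A) d ≠ 0 := fun h => hd0 (hinj (by rw [h, map_zero]))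
  have hc_eq : c = a * d := by
    apply hinj
    rw [map_mul, ← hcd, div_mul_cancel₀ _ hd0']
  have hmem : (⟨c, hc⟩ : S) ∈ Ideal.comap (algebraMap S A)
      (Ideal.map (algebraMap S A) (Ideal.span {(⟨d, hd⟩ : S)})) := by
    rw [Ideal.mem_comap, Ideal.map_span, Set.image_singleton]
    change c ∈ Ideal.span {d}
    rw [Ideal.mem_span_singleton']
    exact ⟨a, hc_eq.symm⟩
  rw [Ideal.comap_map_eq_self_of_faithfullyFlat, Ideal.mem_span_singleton'] at hmem
  obtain ⟨s, hs⟩ := hmem
  have hs' : (s : A) * d = c := congrArg Subtype.val hs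
  have : a = s := by
    apply mul_right_cancel₀ hd0
    rw [hs', hc_eq]
  rw [this]
  exact s.2

end Contraction

variable (p : ℕ) (hp : p ≠ 0) {k : Type u} [Field k] {σ : Type v} (F : Subfield k)

/-- `s ↦ s(T^p)`, with coefficients viewed in `k`. -/
noncomputable def Phi : MvPowerSeries σ F →+* MvPowerSeries σ k :=
  (MvPowerSeries.map F.subtype).comp
    (MvPowerSeries.expand p hp : MvPowerSeries σ F →ₐ[F] MvPowerSeries σ F).toRingHom

theorem Phi_apply (s : MvPowerSeries σ F) :
    Phi p hp F s = MvPowerSeries.map F.subtype (MvPowerSeries.expand p hp s) := rfl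

theorem coeff_Phi_smul (s : MvPowerSeries σ F) (n : σ →₀ ℕ) :
    MvPowerSeries.coeff (p • n) (Phi p hp F s) = ((MvPowerSeries.coeff n s : F) : k) := by
  rw [Phi_apply, MvPowerSeries.coeff_map, MvPowerSeries.coeff_expand_smul]
  rfl

theorem coeff_Phi_of_not_dvd (s : MvPowerSeries σ F) {m : σ →₀ ℕ} {i : σ} (h : ¬ p ∣ m i) :
    MvPowerSeries.coeff m (Phi p hp F s) = 0 := by
  rw [Phi_apply, MvPowerSeries.coeff_map, MvPowerSeries.coeff_expand_of_not_dvd p hp s h, map_zero]

theorem Phi_injective : Function.Injective (Phi (σ := σ) p hp F) := by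
  intro s t hst
  ext n
  have := congrArg (MvPowerSeries.coeff (p • n)) hst
  rw [coeff_Phi_smul, coeff_Phi_smul] at this
  exact_mod_cast this

/-- the subring `F[[T^p]]` of `k[[T]]` -/
noncomputable def frobSubring : Subring (MvPowerSeries σ k) := (Phi (σ := σ) p hp F).range

theorem mem_frobSubring {a : MvPowerSeries σ k} :
    a ∈ frobSubring (σ := σ) p hp F ↔ ∃ s, Phi p hp F s = a := Iff.rfl

theorem frobSubring_mono {F G : Subfield k} (h : F ≤ G) :
    frobSubring (σ := σ) p hp F ≤ frobSubring (σ := σ) p hp G := by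
  rintro _ ⟨s, rfl⟩
  refine ⟨MvPowerSeries.map (Subfield.inclusion h) s, ?_⟩
  rw [Phi_apply, Phi_apply, ← MvPowerSeries.map_expand, MvPowerSeries.map_map]
  rfl

instance isNoetherianRing_frobSubring [Finite σ] :
    IsNoetherianRing (frobSubring (σ := σ) p hp F) :=
  isNoetherianRing_of_surjective (MvPowerSeries σ F) _ (Phi (σ := σ) p hp F).rangeRestrict
    (Phi (σ := σ) p hp F).rangeRestrict_surjective

/-- `b ^ p ∈ F[[T^p]]` when `k^p ⊆ F`. -/
theorem pow_mem_frobSubring [ExpChar k p] (hF : ∀ y : k, y ^ p ∈ F) (b : MvPowerSeries σ k) :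
    b ^ p ∈ frobSubring (σ := σ) p hp F := by
  let s : MvPowerSeries σ F := fun n => ⟨(MvPowerSeries.coeff n b) ^ p, hF _⟩
  refine ⟨s, ?_⟩
  rw [Phi_apply, MvPowerSeries.map_expand, ← MvPowerSeries.map_frobenius_expand p hp,
    MvPowerSeries.map_expand]
  congr 1

/-- an element lying in all `F i [[T^p]]`, where `⋂ F i ⊆ k^p`, is a `p`-th power -/
theorem exists_pow_eq_of_forall_mem [ExpChar k p] {ι : Type*} [Nonempty ι] (G : ι → Subfield k)
    (hG : ∀ x : k, (∀ i, x ∈ G i) → ∃ y, y ^ p = x) (a : MvPowerSeries σ k)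
    (ha : ∀ i, a ∈ frobSubring (σ := σ) p hp (G i)) : ∃ g : MvPowerSeries σ k, g ^ p = a := by
  classical
  have h1 : ∀ n : σ →₀ ℕ, ∃ y, y ^ p = MvPowerSeries.coeff (p • n) a := by
    intro n
    apply hG
    intro i
    obtain ⟨s, rfl⟩ := ha i
    rw [coeff_Phi_smul]
    exact (MvPowerSeries.coeff n s).2
  choose g hg using h1
  refine ⟨(g : MvPowerSeries σ k), ?_⟩
  rw [← MvPowerSeries.map_frobenius_expand p hp]
  ext m
  rw [MvPowerSeries.coeff_map]
  by_cases hm : ∀ i, p ∣ m i
  · have hmeq : m = p • (m.mapRange (· / p) (Nat.zero_div p)) := by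
      ext i
      simp only [Finsupp.coe_smul, Pi.smul_apply, Finsupp.mapRange_apply, smul_eq_mul]
      exact (Nat.mul_div_cancel' (hm i)).symm
    rw [hmeq, MvPowerSeries.coeff_expand_smul, frobenius_def]
    exact hg _
  · push_neg at hm
    obtain ⟨i, hi⟩ := hm
    rw [MvPowerSeries.coeff_expand_of_not_dvd p hp _ hi, map_zero]
    obtain ⟨s, rfl⟩ := ha (Classical.arbitrary ι)
    rw [coeff_Phi_of_not_dvd p hp _ s hi]

section Free

variable [Fintype σ] [DecidableEq σ]

/-- exponent vector of a function `σ → Fin p` -/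
noncomputable def toFs (f : σ → Fin p) : σ →₀ ℕ := Finsupp.equivFunOnFinite.symm fun i => (f i : ℕ)

omit [DecidableEq σ] in
theorem toFs_apply (f : σ → Fin p) (i : σ) : toFs p f i = (f i : ℕ) := rfl

include hp in
omit [DecidableEq σ] in
/-- every exponent is uniquely `p • n + f` with `f` reduced -/
theorem exists_decomp (m : σ →₀ ℕ) : ∃ (n : σ →₀ ℕ) (f : σ → Fin p), m = p • n + toFs p f := by
  have hp' : 0 < p := Nat.pos_of_ne_zero hp
  refine ⟨m.mapRange (· / p) (Nat.zero_div p), fun i => ⟨m i % p, Nat.mod_lt _ hp'⟩, ?_⟩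
  ext i
  simp only [Finsupp.coe_add, Finsupp.coe_smul, Pi.add_apply, Pi.smul_apply,
    Finsupp.mapRange_apply, smul_eq_mul, toFs_apply]
  exact (Nat.div_add_mod (m i) p).symm

/-- the key coefficient formula -/
theorem coeff_Phi_mul_monomial (s : MvPowerSeries σ F) (n : σ →₀ ℕ) (f f' : σ → Fin p) (β : k) :
    MvPowerSeries.coeff (p • n + toFs p f') (Phi p hp F s * MvPowerSeries.monomial (toFs p f) β) =
      if f = f' then ((MvPowerSeries.coeff n s : F) : k) * β else 0 := by
  classical
  rw [MvPowerSeries.coeff_mul_monomial]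
  by_cases hff : f = f'
  · subst hff
    rw [if_pos rfl, if_pos le_add_self, add_tsub_cancel_right, coeff_Phi_smul]
  · rw [if_neg hff]
    split_ifs with hle
    · obtain ⟨i, hi⟩ : ∃ i, f i ≠ f' i := by
        by_contra hcon
        push_neg at hcon
        exact hff (funext hcon)
      have hnd : ¬ p ∣ (p • n + toFs p f' - toFs p f) i := by
        have hle_i : (f i : ℕ) ≤ p * n i + (f' i : ℕ) := by
          have := hle i
          simpa [toFs_apply] using this
        simp only [Finsupp.coe_tsub, Finsupp.coe_add, Finsupp.coe_smul, Pi.sub_apply, Pi.add_apply,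
          Pi.smul_apply, smul_eq_mul, toFs_apply]
        rintro ⟨t, ht⟩
        have h2 : p * n i + (f' i : ℕ) = p * t + (f i : ℕ) := by omega
        have h3 := congrArg (· % p) h2
        simp only [Nat.mul_add_mod, Nat.mod_eq_of_lt (f i).2, Nat.mod_eq_of_lt (f' i).2] at h3
        exact hi (Fin.ext h3.symm)
      rw [coeff_Phi_of_not_dvd p hp F s hnd, zero_mul]
    · rfl

variable {J : Type*} [Fintype J] (β : Module.Basis J F k)

/-- the candidate basis of `k[[T]]` over `F[[T^p]]` -/
noncomputable def vec (jf : J × (σ → Fin p)) : MvPowerSeries σ k :=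
  MvPowerSeries.monomial (toFs p jf.2) (β jf.1)

theorem coeff_sum (s : J × (σ → Fin p) → MvPowerSeries σ F) (n : σ →₀ ℕ) (f' : σ → Fin p) :
    MvPowerSeries.coeff (p • n + toFs p f')
      (∑ jf, Phi p hp F (s jf) * vec p F β jf) =
      ∑ j, ((MvPowerSeries.coeff n (s (j, f')) : F) : k) * β j := by
  classical
  rw [map_sum, Fintype.sum_prod_type]
  refine Finset.sum_congr rfl fun j _ => ?_
  simp only [vec]
  simp_rw [coeff_Phi_mul_monomial]
  rw [Finset.sum_ite_eq' Finset.univ f']
  simp

theorem linearIndependent_vec :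
    LinearIndependent (frobSubring (σ := σ) p hp F) (vec (σ := σ) p F β) := by
  classical
  rw [Fintype.linearIndependent_iff]
  intro g hg jf
  choose s hs using fun jf => (g jf).2
  have hsum : ∑ jf, Phi p hp F (s jf) * vec p F β jf = 0 := by
    rw [← hg]
    refine Finset.sum_congr rfl fun jf _ => ?_
    rw [hs jf]
    rfl
  have hs0 : ∀ jf, s jf = 0 := by
    rintro ⟨j, f'⟩
    ext n
    have h1 := congrArg (MvPowerSeries.coeff (p • n + toFs p f')) hsum
    rw [coeff_sum, map_zero] at h1
    have h2 := Fintype.linearIndependent_iff.1 β.linearIndependent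
      (fun j => MvPowerSeries.coeff n (s (j, f'))) (by
        rw [← h1]
        refine Finset.sum_congr rfl fun j _ => ?_
        rw [Subfield.smul_def, smul_eq_mul]) j
    rw [h2, map_zero]
  apply Subtype.ext
  rw [← hs jf, hs0 jf, map_zero]
  rfl

theorem span_vec :
    ⊤ ≤ Submodule.span (frobSubring (σ := σ) p hp F) (Set.range (vec (σ := σ) p F β)) := by
  classical
  intro a _
  let s : J × (σ → Fin p) → MvPowerSeries σ F := fun jf n =>
    β.repr (MvPowerSeries.coeff (p • n + toFs p jf.2) a) jf.1
  have ha : a = ∑ jf, (⟨Phi p hp F (s jf), ⟨s jf, rfl⟩⟩ : frobSubring (σ := σ) p hp F) •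
      vec p F β jf := by
    have h1 : ∑ jf, (⟨Phi p hp F (s jf), ⟨s jf, rfl⟩⟩ : frobSubring (σ := σ) p hp F) •
        vec p F β jf = ∑ jf, Phi p hp F (s jf) * vec p F β jf := by
      refine Finset.sum_congr rfl fun jf _ => rfl
    rw [h1]
    ext m
    obtain ⟨n, f', rfl⟩ := exists_decomp p hp m
    rw [coeff_sum]
    conv_lhs => rw [← β.sum_repr (MvPowerSeries.coeff (p • n + toFs p f') a)]
    refine Finset.sum_congr rfl fun j _ => ?_
    rw [Subfield.smul_def, smul_eq_mul]
    rfl
  rw [ha]
  exact Submodule.sum_mem _ fun jf _ =>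
    Submodule.smul_mem _ _ (Submodule.subset_span ⟨jf, rfl⟩)

/-- the basis of `k[[T]]` over `F[[T^p]]` -/
noncomputable def basis : Module.Basis (J × (σ → Fin p)) (frobSubring (σ := σ) p hp F)
    (MvPowerSeries σ k) :=
  Module.Basis.mk (linearIndependent_vec p hp F β) (span_vec p hp F β)

end Free

theorem free_finite [Finite σ] [Module.Finite F k] :
    Module.Free (frobSubring (σ := σ) p hp F) (MvPowerSeries σ k) ∧
      Module.Finite (frobSubring (σ := σ) p hp F) (MvPowerSeries σ k) := by
  classical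
  have : Fintype σ := Fintype.ofFinite σ
  let β := Module.finBasis F k
  exact ⟨Module.Free.of_basis (basis p hp F β), Module.Finite.of_basis (basis p hp F β)⟩

end Groth.Agent.Lib.PowerSeriesFrobH44
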