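import Mathlib

/-!
Power series over a Noetherian integrally closed domain are integrally closed (Stacks 0BI0).
-/

set_option autoImplicit false
set_option maxHeartbeats 400000

namespace Groth.Agent.Lib.PowerSeriesNormal98

open PowerSeries

section basic

variable {R : Type*} [CommRing R] [IsDomain R]

theorem dvd_of_dvd_X_mul {G u : R⟦X⟧} (hG : constantCoeff G ≠ 0) (h : G ∣ X * u) : G ∣ u := by
  obtain ⟨v, hv⟩ := h
  have h0 : constantCoeff v = 0 := by
    have h1 := congrArg constantCoeff hv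
    rw [map_mul, map_mul, constantCoeff_X, zero_mul] at h1
    exact (mul_eq_zero.mp h1.symm).resolve_left hG
  obtain ⟨v', rfl⟩ := X_dvd_iff.mpr h0
  refine ⟨v', X_mul_cancel ?_⟩
  rw [hv]; ring

theorem dvd_of_dvd_X_pow_mul {G : R⟦X⟧} (hG : constantCoeff G ≠ 0) (m : ℕ) (u : R⟦X⟧)
    (h : G ∣ X ^ m * u) : G ∣ u := by
  induction m with
  | zero => simpa using h
  | succ m ih =>
    apply ih
    apply dvd_of_dvd_X_mul hG
    rw [← mul_assoc, ← pow_succ']; exact h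

theorem exists_eq_X_pow_mul (h : R⟦X⟧) (hh : h ≠ 0) :
    ∃ (l : ℕ) (h' : R⟦X⟧), h = X ^ l * h' ∧ constantCoeff h' ≠ 0 := by
  obtain ⟨l, hl⟩ := exists_coeff_ne_zero_iff_ne_zero.mpr hh
  clear hh
  induction l generalizing h with
  | zero => exact ⟨0, h, by simp, by rwa [← coeff_zero_eq_constantCoeff_apply]⟩
  | succ l ih =>
    by_cases h0 : constantCoeff h = 0
    · obtain ⟨h₁, rfl⟩ := X_dvd_iff.mpr h0
      rw [coeff_succ_X_mul] at hl
      obtain ⟨j, h', rfl, hc⟩ := ih h₁ hl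
      exact ⟨j + 1, h', by rw [pow_succ']; ring, hc⟩
    · exact ⟨0, h, by simp, h0⟩

end basic

/-- In a Noetherian integrally closed domain, `b ^ n ∣ c * a ^ n` for all `n` forces `b ∣ a`. -/
theorem dvd_of_forall_pow_dvd (R : Type*) [CommRing R] [IsDomain R] [IsNoetherianRing R]
    [IsIntegrallyClosed R] (b a c : R) (hb : b ≠ 0) (hc : c ≠ 0)
    (h : ∀ n : ℕ, b ^ n ∣ c * a ^ n) : b ∣ a := by
  have hbK : algebraMap R (FractionRing R) b ≠ 0 := by
    rwa [Ne, map_eq_zero_iff _ (IsFractionRing.injective R (FractionRing R))]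
  have halm : IsAlmostIntegral R
      (algebraMap R (FractionRing R) a / algebraMap R (FractionRing R) b) := by
    refine ⟨c, mem_nonZeroDivisors_of_ne_zero hc, fun n => ?_⟩
    obtain ⟨d, hd⟩ := h n
    refine ⟨d, ?_⟩
    rw [Algebra.smul_def, div_pow, ← map_pow, ← map_pow, ← mul_div_assoc, ← map_mul, hd, map_mul,
      mul_div_cancel_left₀ _ (by rw [map_pow]; exact pow_ne_zero n hbK)]
  have hint : IsIntegral R
      (algebraMap R (FractionRing R) a / algebraMap R (FractionRing R) b) := halm.isIntegral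
  obtain ⟨r, hr⟩ := IsIntegrallyClosed.isIntegral_iff.mp hint
  refine ⟨r, IsFractionRing.injective R (FractionRing R) ?_⟩
  rw [map_mul, hr]
  field_simp

section main

variable {R : Type*} [CommRing R] [IsDomain R] [IsNoetherianRing R] [IsIntegrallyClosed R]

theorem constantCoeff_dvd {f g h : R⟦X⟧} (hg : constantCoeff g ≠ 0) (hh : constantCoeff h ≠ 0)
    (H : ∀ n : ℕ, g ^ n ∣ h * f ^ n) : constantCoeff g ∣ constantCoeff f := by
  apply dvd_of_forall_pow_dvd R _ _ (constantCoeff h) hg hh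
  intro n
  obtain ⟨v, hv⟩ := H n
  refine ⟨constantCoeff v, ?_⟩
  have h1 := congrArg constantCoeff hv
  rw [map_mul, map_mul, map_pow, map_pow] at h1
  exact h1

theorem step {f g h : R⟦X⟧} (hg : constantCoeff g ≠ 0) (hh : constantCoeff h ≠ 0)
    (H : ∀ n : ℕ, g ^ n ∣ h * f ^ n) :
    ∃ (a : R) (f₁ : R⟦X⟧), f = C a * g + X * f₁ ∧ ∀ n : ℕ, g ^ n ∣ h * f₁ ^ n := by
  obtain ⟨a, ha⟩ := constantCoeff_dvd hg hh H
  have h0 : constantCoeff (f - C a * g) = 0 := by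
    rw [map_sub, map_mul, constantCoeff_C, ha]; ring
  obtain ⟨f₁, hf₁⟩ := X_dvd_iff.mpr h0
  refine ⟨a, f₁, by rw [← hf₁]; ring, fun n => ?_⟩
  have hgn : constantCoeff (g ^ n) ≠ 0 := by rw [map_pow]; exact pow_ne_zero n hg
  apply dvd_of_dvd_X_pow_mul hgn n
  have e : X ^ n * (h * f₁ ^ n) = h * (f + (-C a) * g) ^ n := by
    have : f + (-C a) * g = X * f₁ := by rw [← hf₁]; ring
    rw [this]; ring
  rw [e, add_pow, Finset.mul_sum]
  apply Finset.dvd_sum
  intro j hj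
  have hj' : j ≤ n := Nat.lt_succ_iff.mp (Finset.mem_range.mp hj)
  obtain ⟨v, hv⟩ := H j
  refine ⟨v * (-C a) ^ (n - j) * (n.choose j : R⟦X⟧), ?_⟩
  have hgn' : g ^ n = g ^ j * g ^ (n - j) := by rw [← pow_add, Nat.add_sub_cancel' hj']
  rw [hgn', mul_pow]
  linear_combination ((-C a) ^ (n - j) * g ^ (n - j) * (n.choose j : R⟦X⟧)) * hv

theorem approx {g h : R⟦X⟧} (hg : constantCoeff g ≠ 0) (hh : constantCoeff h ≠ 0) (N : ℕ) :
    ∀ f : R⟦X⟧, (∀ n : ℕ, g ^ n ∣ h * f ^ n) → ∃ u v : R⟦X⟧, f = g * u + X ^ N * v := by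
  induction N with
  | zero => intro f _; exact ⟨0, f, by simp⟩
  | succ N ih =>
    intro f H
    obtain ⟨a, f₁, hf, H₁⟩ := step hg hh H
    obtain ⟨u₁, v₁, hf₁⟩ := ih f₁ H₁
    exact ⟨C a + X * u₁, v₁, by rw [hf, hf₁, pow_succ']; ring⟩

omit [IsDomain R] [IsIntegrallyClosed R] in
theorem dvd_of_forall_approx (f g : R⟦X⟧)
    (H : ∀ N : ℕ, ∃ u v : R⟦X⟧, f = g * u + X ^ N * v) : g ∣ f := by
  have hjac : Ideal.span ({(X : R⟦X⟧)} : Set R⟦X⟧) ≤ Ideal.jacobson ⊥ := by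
    rw [Ideal.span_le, Set.singleton_subset_iff, SetLike.mem_coe, Ideal.mem_jacobson_bot]
    intro y
    rw [isUnit_iff_constantCoeff]
    simp
  have hkrull := Ideal.iInf_pow_smul_eq_bot_of_le_jacobson
    (I := Ideal.span ({(X : R⟦X⟧)} : Set R⟦X⟧))
    (M := R⟦X⟧ ⧸ Ideal.span ({g} : Set R⟦X⟧)) hjac
  have hmem : (Submodule.Quotient.mk f : R⟦X⟧ ⧸ Ideal.span ({g} : Set R⟦X⟧)) ∈
      (⨅ i : ℕ, (Ideal.span ({(X : R⟦X⟧)} : Set R⟦X⟧)) ^ i •
        (⊤ : Submodule R⟦X⟧ (R⟦X⟧ ⧸ Ideal.span ({g} : Set R⟦X⟧)))) := by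
    rw [Submodule.mem_iInf]
    intro N
    obtain ⟨u, v, huv⟩ := H N
    have e1 : (Submodule.Quotient.mk f : R⟦X⟧ ⧸ Ideal.span ({g} : Set R⟦X⟧)) =
        (X ^ N : R⟦X⟧) • Submodule.Quotient.mk v := by
      rw [← Submodule.Quotient.mk_smul, huv, Submodule.Quotient.mk_add, smul_eq_mul]
      have h0 : (Submodule.Quotient.mk (g * u) : R⟦X⟧ ⧸ Ideal.span ({g} : Set R⟦X⟧)) = 0 := by
        rw [Submodule.Quotient.mk_eq_zero]
        exact Ideal.mul_mem_right _ _ (Ideal.mem_span_singleton_self g)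
      rw [h0, zero_add]
    rw [e1]
    exact Submodule.smul_mem_smul (Ideal.pow_mem_pow (Ideal.mem_span_singleton_self X) N)
      Submodule.mem_top
  rw [hkrull, Submodule.mem_bot, Submodule.Quotient.mk_eq_zero, Ideal.mem_span_singleton] at hmem
  exact hmem

theorem key_aux (h' g' : R⟦X⟧) (hh' : constantCoeff h' ≠ 0) (hg' : constantCoeff g' ≠ 0) (l : ℕ) :
    ∀ (m : ℕ) (f : R⟦X⟧), (∀ n : ℕ, (X ^ m * g') ^ n ∣ X ^ l * h' * f ^ n) → X ^ m * g' ∣ f := by
  intro m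
  induction m with
  | zero =>
    intro f H
    simp only [pow_zero, one_mul] at H ⊢
    have H' : ∀ n, g' ^ n ∣ h' * f ^ n := fun n => by
      have hgn : constantCoeff (g' ^ n) ≠ 0 := by rw [map_pow]; exact pow_ne_zero n hg'
      apply dvd_of_dvd_X_pow_mul hgn l
      rw [← mul_assoc]; exact H n
    exact dvd_of_forall_approx f g' (fun N => approx hg' hh' N f H')
  | succ m ih =>
    intro f H
    have hh0 : X ^ l * h' ≠ 0 := by
      apply mul_ne_zero (pow_ne_zero l X_ne_zero)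
      rintro rfl
      exact hh' (map_zero _)
    have hXf : (X : R⟦X⟧) ∣ f := by
      by_contra hnd
      have hall : ∀ n, (X : R⟦X⟧) ^ n ∣ X ^ l * h' := by
        intro n
        have h1 : (X : R⟦X⟧) ^ n ∣ (X ^ l * h') * f ^ n := by
          refine dvd_trans ⟨(X ^ m * g') ^ n, ?_⟩ (H n)
          ring
        exact X_prime.pow_dvd_of_dvd_mul_right n
          (fun hd => hnd (X_prime.dvd_of_dvd_pow hd)) h1
      apply hh0
      ext k
      have h2 := X_pow_dvd_iff.mp (hall (k + 1)) k (Nat.lt_succ_self k)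
      rw [h2, map_zero]
    obtain ⟨f₁, rfl⟩ := hXf
    have H₁ : ∀ n, (X ^ m * g') ^ n ∣ X ^ l * h' * f₁ ^ n := by
      intro n
      obtain ⟨v, hv⟩ := H n
      refine ⟨v, ?_⟩
      have hXn : (X : R⟦X⟧) ^ n ≠ 0 := pow_ne_zero n X_ne_zero
      apply mul_left_cancel₀ hXn
      linear_combination hv
    obtain ⟨w, hw⟩ := ih f₁ H₁
    exact ⟨w, by rw [hw]; ring⟩

theorem key_ps (f g h : R⟦X⟧) (hg : g ≠ 0) (hh : h ≠ 0)
    (H : ∀ n : ℕ, g ^ n ∣ h * f ^ n) : g ∣ f := by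
  obtain ⟨l, h', rfl, hh'⟩ := exists_eq_X_pow_mul h hh
  obtain ⟨m, g', rfl, hg'⟩ := exists_eq_X_pow_mul g hg
  exact key_aux h' g' hh' hg' l m f H

end main

/-- Power series over a Noetherian integrally closed domain are integrally closed. -/
theorem isIntegrallyClosed_powerSeries (R : Type*) [CommRing R] [IsDomain R] [IsNoetherianRing R]
    [IsIntegrallyClosed R] : IsIntegrallyClosed R⟦X⟧ := by
  rw [isIntegrallyClosed_iff (FractionRing R⟦X⟧)]
  intro z hz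
  obtain ⟨c, hc, hcz⟩ := hz.isAlmostIntegral
  obtain ⟨a, b, hb, rfl⟩ := IsFractionRing.div_surjective (A := R⟦X⟧) z
  have hb0 : b ≠ 0 := nonZeroDivisors.ne_zero hb
  have hc0 : c ≠ 0 := nonZeroDivisors.ne_zero hc
  have hbK : algebraMap R⟦X⟧ (FractionRing R⟦X⟧) b ≠ 0 := by
    rwa [Ne, map_eq_zero_iff _ (IsFractionRing.injective R⟦X⟧ (FractionRing R⟦X⟧))]
  have hdiv : ∀ n : ℕ, b ^ n ∣ c * a ^ n := by
    intro n
    obtain ⟨r, hr⟩ := hcz n
    refine ⟨r, ?_⟩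
    apply IsFractionRing.injective R⟦X⟧ (FractionRing R⟦X⟧)
    rw [map_mul, map_mul, map_pow, map_pow, hr, Algebra.smul_def, div_pow]
    field_simp
  obtain ⟨r, rfl⟩ := key_ps a b c hb0 hc0 hdiv
  refine ⟨r, ?_⟩
  rw [map_mul]
  field_simp

end Groth.Agent.Lib.PowerSeriesNormal98
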