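import Mathlib
import Groth.Prelude.Def_Found
import Groth.Agent.Lib.CompleteNagata98
import Groth.Agent.Lib.PowerSeriesNormal98

/-!
N-2 for power series rings (EGA 0_IV 23.1.x, Stacks 0335), and descent of N-2 along finite
injective extensions of domains.
-/

set_option autoImplicit false
set_option maxHeartbeats 400000
universe u

namespace Groth.Agent.Lib.PowerSeriesN2_98

open PowerSeries Groth.Agent.Lib TensorProduct

/-- Power series over a Noetherian normal N-2 domain are N-2 (Tate). -/
theorem isN2_powerSeries_of_normal (B : Type u) [CommRing B] [IsDomain B] [IsNoetherianRing B]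
    [IsIntegrallyClosed B] (h : CAlg.IsN2 B) : CAlg.IsN2 B⟦X⟧ := by
  haveI : IsIntegrallyClosed B⟦X⟧ := PowerSeriesNormal98.isIntegrallyClosed_powerSeries B
  haveI : (Ideal.span ({(X : B⟦X⟧)} : Set B⟦X⟧)).IsPrime := PowerSeries.span_X_isPrime
  haveI := CompleteNagata98.isAdicComplete_span_X B
  have h2 : CAlg.IsN2 (B⟦X⟧ ⧸ Ideal.span ({(X : B⟦X⟧)} : Set B⟦X⟧)) :=
    H87FieldN2.isN2_of_ringEquiv (PSRegular33.quotXEquiv B).symm h
  exact Groth.Agent.S0569.result B⟦X⟧ X h2

attribute [local instance] CompleteNagata98.isDomain_mvPowerSeries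

theorem good_mvPowerSeries (A : Type u) [CommRing A] [IsDomain A] [IsNoetherianRing A]
    [IsIntegrallyClosed A] (hA : CAlg.IsN2 A) (n : ℕ) :
    IsNoetherianRing (MvPowerSeries (Fin n) A) ∧ IsIntegrallyClosed (MvPowerSeries (Fin n) A) ∧
      CAlg.IsN2 (MvPowerSeries (Fin n) A) := by
  induction n with
  | zero =>
    exact ⟨isNoetherianRing_of_ringEquiv A (MvPowerSeries.isEmptyEquiv (Fin 0) A).toRingEquiv.symm,
      IsIntegrallyClosed.of_equiv (MvPowerSeries.isEmptyEquiv (Fin 0) A).toRingEquiv.symm,
      H87FieldN2.isN2_of_ringEquiv (MvPowerSeries.isEmptyEquiv (Fin 0) A).toRingEquiv.symm hA⟩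
  | succ n ih =>
    obtain ⟨h1, h2, h3⟩ := ih
    haveI := h1
    haveI := h2
    haveI : IsIntegrallyClosed (MvPowerSeries (Fin n) A)⟦X⟧ :=
      PowerSeriesNormal98.isIntegrallyClosed_powerSeries _
    exact ⟨isNoetherianRing_of_ringEquiv _ (MvPowerSeries.finSuccEquiv A n).toRingEquiv.symm,
      IsIntegrallyClosed.of_equiv (MvPowerSeries.finSuccEquiv A n).toRingEquiv.symm,
      H87FieldN2.isN2_of_ringEquiv (MvPowerSeries.finSuccEquiv A n).toRingEquiv.symm
        (isN2_powerSeries_of_normal _ h3)⟩

/-- A common finite field extension of `F` and `L` over `K`, when `L / K` is finite. -/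
theorem exists_compositum (K F L : Type u) [Field K] [Field F] [Field L] [Algebra K F]
    [Algebra K L] [FiniteDimensional K L] :
    ∃ (L' : Type u) (_ : Field L') (ιF : F →+* L') (ιL : L →+* L'),
      ιF.comp (algebraMap K F) = ιL.comp (algebraMap K L) ∧ ιF.Finite := by
  haveI : Nontrivial (F ⊗[K] L) := by
    apply Module.nontrivial_of_finrank_pos (R := F)
    rw [Module.finrank_baseChange]
    exact Module.finrank_pos
  obtain ⟨M, hM⟩ := Ideal.exists_maximal (F ⊗[K] L)
  letI : Field ((F ⊗[K] L) ⧸ M) := Ideal.Quotient.field M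
  refine ⟨(F ⊗[K] L) ⧸ M, inferInstance, algebraMap F ((F ⊗[K] L) ⧸ M),
    (Ideal.Quotient.mk M).comp
      (Algebra.TensorProduct.includeRight : L →ₐ[K] F ⊗[K] L).toRingHom, ?_, ?_⟩
  · ext k
    show Ideal.Quotient.mk M (algebraMap F (F ⊗[K] L) (algebraMap K F k)) =
      Ideal.Quotient.mk M ((Algebra.TensorProduct.includeRight : L →ₐ[K] F ⊗[K] L)
        (algebraMap K L k))
    congr 1
    rw [AlgHom.commutes, ← IsScalarTower.algebraMap_apply K F (F ⊗[K] L)]
  · rw [RingHom.finite_algebraMap]
    infer_instance

attribute [local instance] FractionRing.liftAlgebra FractionRing.isScalarTower_liftAlgebra in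
/-- N-2 descends along finite injective extensions of domains (Stacks 03GH-ish). -/
theorem isN2_of_finite_of_isN2 (P S : Type u) [CommRing P] [IsDomain P] [IsNoetherianRing P]
    [CommRing S] [IsDomain S] [Algebra P S] [FaithfulSMul P S] [Module.Finite P S]
    (hS : CAlg.IsN2 S) : CAlg.IsN2 P := by
  intro L _ _ _ _ hfd
  haveI := hfd
  obtain ⟨L', _, ιF, ιL, hcompat0, hfinF⟩ :=
    exists_compositum (FractionRing P) (FractionRing S) L
  letI algF : Algebra (FractionRing S) L' := ιF.toAlgebra
  haveI : Module.Finite (FractionRing S) L' := hfinF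
  letI algS : Algebra S L' := (ιF.comp (algebraMap S (FractionRing S))).toAlgebra
  haveI : IsScalarTower S (FractionRing S) L' := IsScalarTower.of_algebraMap_eq (fun _ => rfl)
  letI algP : Algebra P L' := ((algebraMap S L').comp (algebraMap P S)).toAlgebra
  haveI : IsScalarTower P S L' := IsScalarTower.of_algebraMap_eq (fun _ => rfl)
  have hfinS : Module.Finite S (integralClosure S L') :=
    H87Japanese.finite_of_isN2 S hS (FractionRing S) L' inferInstance
  haveI : Module.Finite P (integralClosure S L') := Module.Finite.trans S _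
  haveI : IsNoetherian P (integralClosure S L') :=
    isNoetherian_of_isNoetherianRing_of_finite P _
  have hcompat : (algebraMap S L').comp (algebraMap P S) = ιL.comp (algebraMap P L) := by
    ext p
    show ιF (algebraMap S (FractionRing S) (algebraMap P S p)) = ιL (algebraMap P L p)
    rw [IsScalarTower.algebraMap_apply P (FractionRing P) L, ← RingHom.comp_apply ιL,
      ← hcompat0, RingHom.comp_apply,
      ← IsScalarTower.algebraMap_apply P (FractionRing P) (FractionRing S),
      IsScalarTower.algebraMap_apply P S (FractionRing S)]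
  let g : (integralClosure P L) →ₗ[P] (integralClosure S L') :=
    { toFun := fun c => ⟨ιL c.1, IsIntegral.map_of_comp_eq (algebraMap P S) ιL hcompat c.2⟩
      map_add' := fun a b => Subtype.ext (map_add ιL _ _)
      map_smul' := fun p a => Subtype.ext (by
        simp only [RingHom.id_apply]
        show ιL ((p • a : integralClosure P L) : L) = p • ιL (a : L)
        rw [Subalgebra.coe_smul, Algebra.smul_def, map_mul, Algebra.smul_def]
        congr 1
        exact (RingHom.congr_fun hcompat p).symm) }
  have hg : Function.Injective g := by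
    intro a b hab
    have h1 := congrArg Subtype.val hab
    exact Subtype.ext (ιL.injective h1)
  exact Module.Finite.of_injective g hg

/-- `R'⟦X⟧` is a finite `R⟦X⟧`-module when `R'` is a finite `R`-module. -/
theorem finite_powerSeries (R R' : Type*) [CommRing R] [CommRing R'] [Algebra R R']
    [Module.Finite R R'] : Module.Finite R⟦X⟧ R'⟦X⟧ := by
  classical
  obtain ⟨n, e, he⟩ := Module.Finite.exists_fin (R := R) (M := R')
  have hc : ∀ r' : R', ∃ c : Fin n → R, ∑ j, c j • e j = r' := by
    intro r'
    have : r' ∈ Submodule.span R (Set.range e) := by rw [he]; trivial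
    exact (Submodule.mem_span_range_iff_exists_fun R).1 this
  choose c hc using hc
  refine ⟨⟨Finset.univ.image (fun j => (C (e j) : R'⟦X⟧)), ?_⟩⟩
  rw [eq_top_iff]
  intro s _
  have hs : s = ∑ j, (PowerSeries.mk (fun i => c (coeff i s) j) : R⟦X⟧) • (C (e j) : R'⟦X⟧) := by
    ext i
    rw [map_sum]
    conv_lhs => rw [← hc (coeff i s)]
    refine Finset.sum_congr rfl (fun j _ => ?_)
    rw [Algebra.smul_def, Algebra.smul_def, algebraMap_apply'', coeff_mul_C, coeff_map, coeff_mk]
  rw [hs]
  refine Submodule.sum_mem _ (fun j _ => Submodule.smul_mem _ _ (Submodule.subset_span ?_))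
  simp

/-- Power series over a Noetherian N-2 domain are N-2. -/
theorem isN2_powerSeries (R : Type u) [CommRing R] [IsDomain R] [IsNoetherianRing R]
    (h : CAlg.IsN2 R) : CAlg.IsN2 R⟦X⟧ := by
  have hfin : Module.Finite R (integralClosure R (FractionRing R)) :=
    h (FractionRing R) inferInstance
  haveI := hfin
  haveI : IsNoetherianRing (integralClosure R (FractionRing R)) :=
    IsNoetherianRing.of_finite R _
  haveI : IsIntegrallyClosed (integralClosure R (FractionRing R)) :=
    integralClosure.isIntegrallyClosedOfFiniteExtension (FractionRing R)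
  have hinj : Function.Injective (algebraMap R (integralClosure R (FractionRing R))) := by
    intro a b hab
    have h1 := congrArg Subtype.val hab
    exact IsFractionRing.injective R (FractionRing R) h1
  have hN2' : CAlg.IsN2 (integralClosure R (FractionRing R)) :=
    Groth.Agent.S2114.result (R := R) (S := integralClosure R (FractionRing R)) hinj h
  have hN2'' := isN2_powerSeries_of_normal (integralClosure R (FractionRing R)) hN2'
  haveI := finite_powerSeries R (integralClosure R (FractionRing R))
  haveI : FaithfulSMul R⟦X⟧ (integralClosure R (FractionRing R))⟦X⟧ := by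
    rw [faithfulSMul_iff_algebraMap_injective]
    intro a b hab
    rw [algebraMap_apply'', algebraMap_apply''] at hab
    ext i
    have h1 := congrArg (coeff i) hab
    rw [coeff_map, coeff_map] at h1
    exact hinj h1
  exact isN2_of_finite_of_isN2 R⟦X⟧ (integralClosure R (FractionRing R))⟦X⟧ hN2''

end Groth.Agent.Lib.PowerSeriesN2_98
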