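import Mathlib

/-!
# Subfields of the fraction field of a power series ring cut out by coefficient conditions

For a subfield `F` of a field `k`, `coeffSubring F` is the subring of `k[[T]]` of the power series
with all coefficients in `F`, and `lau F` is the subfield of `Frac k[[T]]` that it generates.
Main result: `coeff_mem_of_algebraMap_mem_lau`: a power series over `k` which lies in `lau F`
has all its coefficients in `F`.
-/

set_option autoImplicit false
universe u v

namespace Groth.Agent.Lib.PowerSeriesSubfieldH44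

open MvPowerSeries

variable {k : Type u} [Field k] {σ : Type v}

/-- The subring of `k[[T]]` of the power series all of whose coefficients lie in `F`. -/
def coeffSubring (σ : Type v) (F : Subfield k) : Subring (MvPowerSeries σ k) where
  carrier := {f | ∀ n, MvPowerSeries.coeff n f ∈ F}
  mul_mem' := by
    intro f g hf hg n
    classical
    rw [MvPowerSeries.coeff_mul]
    exact Subfield.sum_mem _ fun i _ => F.mul_mem (hf _) (hg _)
  one_mem' := by
    intro n
    classical
    rw [MvPowerSeries.coeff_one]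
    split_ifs
    · exact F.one_mem
    · exact F.zero_mem
  add_mem' := by
    intro f g hf hg n
    rw [map_add]
    exact F.add_mem (hf n) (hg n)
  zero_mem' := by
    intro n
    rw [map_zero]
    exact F.zero_mem
  neg_mem' := by
    intro f hf n
    rw [map_neg]
    exact F.neg_mem (hf n)

theorem mem_coeffSubring {F : Subfield k} {f : MvPowerSeries σ k} :
    f ∈ coeffSubring σ F ↔ ∀ n, MvPowerSeries.coeff n f ∈ F := Iff.rfl

theorem coe_coeffSubring (F : Subfield k) :
    (coeffSubring σ F : Set (MvPowerSeries σ k)) = {f | ∀ n, MvPowerSeries.coeff n f ∈ F} := rfl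

theorem coeffSubring_mono {F G : Subfield k} (h : F ≤ G) : coeffSubring σ F ≤ coeffSubring σ G :=
  fun _ hf n => h (hf n)

/-- The subfield of `Frac k[[T]]` generated by the power series with coefficients in `F`. -/
noncomputable def lau (σ : Type v) (F : Subfield k) : Subfield (FractionRing (MvPowerSeries σ k)) :=
  Subfield.closure (algebraMap (MvPowerSeries σ k) (FractionRing (MvPowerSeries σ k)) ''
    {f | ∀ n, MvPowerSeries.coeff n f ∈ F})

theorem lau_def (F : Subfield k) :
    lau σ F = Subfield.closure (algebraMap (MvPowerSeries σ k) (FractionRing (MvPowerSeries σ k)) ''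
      {f | ∀ n, MvPowerSeries.coeff n f ∈ F}) := rfl

theorem lau_mono {F G : Subfield k} (h : F ≤ G) : lau σ F ≤ lau σ G :=
  Subfield.closure_mono (Set.image_mono fun _ hf n => h (hf n))

theorem algebraMap_mem_lau {F : Subfield k} {f : MvPowerSeries σ k}
    (hf : ∀ n, MvPowerSeries.coeff n f ∈ F) :
    algebraMap (MvPowerSeries σ k) (FractionRing (MvPowerSeries σ k)) f ∈ lau σ F :=
  Subfield.subset_closure ⟨f, hf, rfl⟩

/-- Elements of `lau F` are quotients of power series with coefficients in `F`. -/
theorem mem_lau_iff {F : Subfield k} {x : FractionRing (MvPowerSeries σ k)} :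
    x ∈ lau σ F ↔ ∃ c ∈ coeffSubring σ F, ∃ d ∈ coeffSubring σ F,
      algebraMap (MvPowerSeries σ k) (FractionRing (MvPowerSeries σ k)) c /
        algebraMap (MvPowerSeries σ k) (FractionRing (MvPowerSeries σ k)) d = x := by
  have hcl : Subring.closure (algebraMap (MvPowerSeries σ k) (FractionRing (MvPowerSeries σ k)) ''
      {f | ∀ n, MvPowerSeries.coeff n f ∈ F}) =
      (coeffSubring σ F).map (algebraMap (MvPowerSeries σ k) (FractionRing (MvPowerSeries σ k))) := by
    rw [← coe_coeffSubring, ← Subring.coe_map, Subring.closure_eq]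
  rw [lau_def, Subfield.mem_closure_iff, hcl]
  constructor
  · rintro ⟨y, ⟨c, hc, rfl⟩, z, ⟨d, hd, rfl⟩, rfl⟩
    exact ⟨c, hc, d, hd, rfl⟩
  · rintro ⟨c, hc, d, hd, rfl⟩
    exact ⟨_, ⟨c, hc, rfl⟩, _, ⟨d, hd, rfl⟩, rfl⟩

/-- Coefficientwise application of an additive map. -/
def mapCoeff (φ : k →+ k) (a : MvPowerSeries σ k) : MvPowerSeries σ k :=
  fun n => φ (MvPowerSeries.coeff n a)

theorem coeff_mapCoeff (φ : k →+ k) (a : MvPowerSeries σ k) (n : σ →₀ ℕ) :
    MvPowerSeries.coeff n (mapCoeff φ a) = φ (MvPowerSeries.coeff n a) := rfl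

theorem mapCoeff_mul {F : Subfield k} (φ : k →+ k) (hφ : ∀ x : k, ∀ y ∈ F, φ (x * y) = φ x * y)
    (a d : MvPowerSeries σ k) (hd : d ∈ coeffSubring σ F) :
    mapCoeff φ (a * d) = mapCoeff φ a * d := by
  classical
  ext n
  rw [coeff_mapCoeff, MvPowerSeries.coeff_mul, MvPowerSeries.coeff_mul, map_sum]
  refine Finset.sum_congr rfl fun i _ => ?_
  rw [coeff_mapCoeff, hφ _ _ (hd _)]

/-- A power series over `k` lying in `lau F` has all its coefficients in `F`. -/
theorem coeff_mem_of_algebraMap_mem_lau {F : Subfield k} {a : MvPowerSeries σ k}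
    (ha : algebraMap (MvPowerSeries σ k) (FractionRing (MvPowerSeries σ k)) a ∈ lau σ F) :
    ∀ n, MvPowerSeries.coeff n a ∈ F := by
  obtain ⟨c, hc, d, hd, hcd⟩ := mem_lau_iff.1 ha
  have hinj : Function.Injective
      (algebraMap (MvPowerSeries σ k) (FractionRing (MvPowerSeries σ k))) :=
    IsFractionRing.injective _ _
  by_cases hd0 : d = 0
  · rw [hd0, map_zero, div_zero] at hcd
    have : a = 0 := hinj (by rw [← hcd, map_zero])
    intro n
    rw [this, map_zero]
    exact F.zero_mem
  have hd0' : algebraMap (MvPowerSeries σ k) (FractionRing (MvPowerSeries σ k)) d ≠ 0 :=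
    fun h => hd0 (hinj (by rw [h, map_zero]))
  have hc_eq : c = a * d := by
    apply hinj
    rw [map_mul, ← hcd, div_mul_cancel₀ _ hd0']
  -- a linear retraction of `F → k`
  obtain ⟨π, hπ⟩ := LinearMap.exists_leftInverse_of_injective (Algebra.linearMap F k)
    (LinearMap.ker_eq_bot.2 (algebraMap F k).injective)
  have hπ' : ∀ y : F, π (y : k) = y := fun y => LinearMap.congr_fun hπ y
  let φ : k →+ k := (AddMonoidHom.id k) - (F.subtype : F →+ k).comp π.toAddMonoidHom
  have hφ_apply : ∀ x, φ x = x - (π x : k) := fun x => rfl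
  have hφF : ∀ y ∈ F, φ y = 0 := by
    intro y hy
    rw [hφ_apply]
    have := hπ' ⟨y, hy⟩
    simp only at this
    rw [this, sub_self]
  have hφmul : ∀ x : k, ∀ y ∈ F, φ (x * y) = φ x * y := by
    intro x y hy
    rw [hφ_apply, hφ_apply]
    have h1 : π (x * y) = (⟨y, hy⟩ : F) • π x := by
      rw [← π.map_smul]
      congr 1
      rw [Subfield.smul_def]
      simp [mul_comm]
    rw [h1, sub_mul]
    congr 1
    simp [mul_comm]
  have h0 : mapCoeff φ c = 0 := by
    ext n
    rw [coeff_mapCoeff, hφF _ (hc n), map_zero]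
  have h1 : mapCoeff φ a * d = 0 := by
    rw [← mapCoeff_mul φ hφmul a d hd, ← hc_eq, h0]
  have h2 : mapCoeff φ a = 0 := (mul_eq_zero.1 h1).resolve_right hd0
  intro n
  have h3 : φ (MvPowerSeries.coeff n a) = 0 := by
    rw [← coeff_mapCoeff, h2, map_zero]
  rw [hφ_apply, sub_eq_zero] at h3
  rw [h3]
  exact (π _).2

/-- `lau F ∩ k[[T]] = F[[T]]`. -/
theorem algebraMap_mem_lau_iff {F : Subfield k} {a : MvPowerSeries σ k} :
    algebraMap (MvPowerSeries σ k) (FractionRing (MvPowerSeries σ k)) a ∈ lau σ F ↔
      ∀ n, MvPowerSeries.coeff n a ∈ F :=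
  ⟨coeff_mem_of_algebraMap_mem_lau, algebraMap_mem_lau⟩

/-- If all `q`-th powers of elements of `k` lie in `F` (`q` a power of the characteristic
exponent), then `b ^ q` has coefficients in `F` for every power series `b`. -/
theorem pow_mem_coeffSubring (p : ℕ) [ExpChar k p] (e : ℕ) {F : Subfield k}
    (hq : ∀ x : k, x ^ p ^ e ∈ F) (b : MvPowerSeries σ k) :
    b ^ p ^ e ∈ coeffSubring σ F := by
  intro n
  have hp : p ≠ 0 := expChar_ne_zero k p
  rw [← MvPowerSeries.map_iterateFrobenius_expand p hp b e, MvPowerSeries.coeff_map,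
    iterateFrobenius_def]
  exact hq _

end Groth.Agent.Lib.PowerSeriesSubfieldH44
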