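import Mathlib.RingTheory.Ideal.Operations
import Mathlib.RingTheory.Finiteness.Ideal
import Mathlib.Algebra.Module.Torsion.Basic

/-!
Elementary lemmas on elements killed by a power of a finitely generated ideal.
-/

set_option autoImplicit false
universe u v

namespace Groth.Agent.Lib.PowerTorsion

variable {R : Type u} [CommRing R] {M : Type v} [AddCommGroup M] [Module R M]

/-- If `I'` is finitely generated and for every `a ∈ I'` the element `a • m` is killed by a power
of `I`, then `m` is killed by `I ^ N * I'` for some `N`. -/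
theorem exists_pow_mul_smul_eq_zero (I I' : Ideal R) (hI' : I'.FG) (m : M)
    (h : ∀ a ∈ I', ∃ n : ℕ, ∀ b ∈ I ^ n, b • a • m = 0) :
    ∃ N : ℕ, ∀ x ∈ I ^ N * I', x • m = 0 := by
  classical
  obtain ⟨S, hS⟩ := hI'
  choose! n hn using h
  have hSI : ∀ s ∈ S, s ∈ I' := fun s hs => hS ▸ Ideal.subset_span hs
  let N := S.sup n
  have key : ∀ a ∈ I', ∀ b ∈ I ^ N, b • a • m = 0 := by
    intro a ha b hb
    rw [← hS] at ha
    induction ha using Submodule.span_induction with
    | mem s hs =>
      exact hn s (hSI s hs) b (Ideal.pow_le_pow_right (Finset.le_sup hs) hb)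
    | zero => simp
    | add x y _ _ hx hy => rw [add_smul, smul_add, hx, hy, add_zero]
    | smul c x _ hx =>
      rw [smul_eq_mul, mul_smul, smul_comm b c, hx, smul_zero]
  refine ⟨N, ?_⟩
  intro x hx
  refine Submodule.mul_induction_on hx ?_ ?_
  · intro b hb a ha
    rw [mul_smul]; exact key a ha b hb
  · intro x y hx hy
    rw [add_smul, hx, hy, add_zero]

/-- If `I` is finitely generated and for every `a ∈ I` the element `a • m` is killed by a power of
`I`, then `m` is killed by a power of `I`. -/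
theorem exists_pow_smul_eq_zero_of_fg (I : Ideal R) (hI : I.FG) (m : M)
    (h : ∀ a ∈ I, ∃ n : ℕ, ∀ b ∈ I ^ n, b • a • m = 0) :
    ∃ N : ℕ, ∀ x ∈ I ^ N, x • m = 0 := by
  obtain ⟨N, hN⟩ := exists_pow_mul_smul_eq_zero I I hI m h
  exact ⟨N + 1, fun x hx => hN x (by rwa [pow_succ] at hx)⟩

/-- If `I` is finitely generated and for every `a ∈ I ^ k` the element `a • m` is killed by a
power of `I`, then `m` is killed by a power of `I`. -/
theorem exists_pow_smul_eq_zero_of_fg_pow (I : Ideal R) (hI : I.FG) (k : ℕ) (m : M)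
    (h : ∀ a ∈ I ^ k, ∃ n : ℕ, ∀ b ∈ I ^ n, b • a • m = 0) :
    ∃ N : ℕ, ∀ x ∈ I ^ N, x • m = 0 := by
  obtain ⟨N, hN⟩ := exists_pow_mul_smul_eq_zero I (I ^ k) (hI.pow) m h
  exact ⟨N + k, fun x hx => hN x (by rwa [pow_add] at hx)⟩

/-- If `I ^ n` kills `m` then it kills every multiple. -/
theorem smul_mem_of_pow {I : Ideal R} {n : ℕ} {m : M} (h : ∀ x ∈ I ^ n, x • m = 0) (c : R) :
    ∀ x ∈ I ^ n, x • c • m = 0 := fun x hx => by rw [smul_comm, h x hx, smul_zero]

end Groth.Agent.Lib.PowerTorsion
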