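import Groth.Statements.S13047

set_option autoImplicit false
set_option linter.unusedSectionVars false
universe u
open Polynomial TensorProduct W4c1imperftorsors

namespace Groth.Agent.Lib.PrePerf75

section A
variable {R : Type u} [CommRing R] (u v : R)

/-- The ideal `(uX, X² − v²)`. -/
noncomputable abbrev I : Ideal R[X] := Ideal.span {(C u * X : R[X]), X ^ 2 - C (v ^ 2)}

/-- `B = R[X]/(uX, X² − v²)`. -/
abbrev B : Type u := R[X] ⧸ I u v

/-- The class of `X`. -/
noncomputable def α : B u v := Ideal.Quotient.mk (I u v) X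

theorem alpha_sq : α u v ^ 2 = algebraMap R (B u v) (v ^ 2) := by
  have h : (X ^ 2 - C (v ^ 2) : R[X]) ∈ I u v := Ideal.subset_span (by simp)
  have := (Ideal.Quotient.eq_zero_iff_mem).2 h
  rw [map_sub, sub_eq_zero] at this
  rw [α, ← map_pow, this]
  rfl

theorem u_alpha : algebraMap R (B u v) u * α u v = 0 := by
  have h : (C u * X : R[X]) ∈ I u v := Ideal.subset_span (by simp)
  have := (Ideal.Quotient.eq_zero_iff_mem).2 h
  rw [map_mul] at this
  exact this

theorem alpha_pow_even (k : ℕ) : α u v ^ (2 * k) = algebraMap R (B u v) (v ^ (2 * k)) := by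
  rw [pow_mul, alpha_sq, ← map_pow, ← pow_mul]

theorem alpha_pow_odd (k : ℕ) :
    α u v ^ (2 * k + 1) = algebraMap R (B u v) (v ^ (2 * k)) * α u v := by
  rw [pow_succ, alpha_pow_even]

theorem exists_repr (b : B u v) :
    ∃ a c : R, b = algebraMap R (B u v) a + algebraMap R (B u v) c * α u v := by
  obtain ⟨f, rfl⟩ := Ideal.Quotient.mk_surjective b
  induction f using Polynomial.induction_on' with
  | add f g hf hg =>
    obtain ⟨a, c, h⟩ := hf
    obtain ⟨a', c', h'⟩ := hg
    refine ⟨a + a', c + c', ?_⟩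
    rw [map_add, h, h', map_add, map_add]; ring
  | monomial n a =>
    have hm : Ideal.Quotient.mk (I u v) (monomial n a) = algebraMap R (B u v) a * α u v ^ n := by
      rw [← C_mul_X_pow_eq_monomial, map_mul, map_pow]; rfl
    rcases Nat.even_or_odd' n with ⟨k, rfl | rfl⟩
    · refine ⟨a * v ^ (2 * k), 0, ?_⟩
      rw [hm, alpha_pow_even, map_mul, map_zero, zero_mul, add_zero]
    · refine ⟨0, a * v ^ (2 * k), ?_⟩
      rw [hm, alpha_pow_odd, map_mul, map_zero, zero_add, mul_assoc]

/-- The algebra map `B → R`, `α ↦ v` (uses `uv = 0`). -/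
noncomputable def pi2 (huv : u * v = 0) : B u v →ₐ[R] R :=
  Ideal.Quotient.liftₐ (I u v) (Polynomial.aeval v) (by
    intro f hf
    have : I u v ≤ RingHom.ker (Polynomial.aeval v : R[X] →ₐ[R] R) := by
      rw [I, Ideal.span_le]
      rintro x (rfl | rfl)
      · simp [huv]
      · simp
    exact (RingHom.mem_ker).1 (this hf))

theorem pi2_alpha (huv : u * v = 0) : pi2 u v huv (α u v) = v := by
  rw [pi2, α, Ideal.Quotient.liftₐ_apply]
  erw [Ideal.Quotient.lift_mk]
  simp

/-- The `X`-coefficient functional on polynomials, modulo `X² = v²` and modulo `u`. -/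
noncomputable def psi0 : R[X] →ₗ[R] (R ⧸ Ideal.span {u}) :=
  Polynomial.lsum (fun n => (if Odd n then v ^ (n - 1) else 0) •
    (Ideal.Quotient.mkₐ R (Ideal.span {u})).toLinearMap)

theorem psi0_monomial (n : ℕ) (a : R) :
    psi0 u v (monomial n a) =
      (if Odd n then v ^ (n - 1) else 0) • Ideal.Quotient.mk (Ideal.span {u}) a := by
  rw [psi0, Polynomial.lsum_apply, Polynomial.sum_monomial_index]
  · rfl
  · simp

theorem psi0_mul_gen1 (g : R[X]) : psi0 u v (g * (C u * X)) = 0 := by
  have : (psi0 u v) ∘ₗ (LinearMap.mulRight R (C u * X : R[X])) = 0 := by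
    apply Polynomial.lhom_ext'
    intro n
    apply LinearMap.ext_ring
    simp only [LinearMap.coe_comp, Function.comp_apply, LinearMap.mulRight_apply,
      LinearMap.zero_comp, LinearMap.zero_apply]
    rw [← mul_assoc, monomial_mul_C, monomial_mul_X, psi0_monomial, one_mul]
    have : Ideal.Quotient.mk (Ideal.span {u}) u = 0 :=
      Ideal.Quotient.eq_zero_iff_mem.2 (Ideal.subset_span rfl)
    rw [this, smul_zero]
  exact LinearMap.congr_fun this g

theorem psi0_mul_gen2 (g : R[X]) : psi0 u v (g * (X ^ 2 - C (v ^ 2))) = 0 := by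
  have : (psi0 u v) ∘ₗ (LinearMap.mulRight R (X ^ 2 - C (v ^ 2) : R[X])) = 0 := by
    apply Polynomial.lhom_ext'
    intro n
    apply LinearMap.ext_ring
    simp only [LinearMap.coe_comp, Function.comp_apply, LinearMap.mulRight_apply,
      LinearMap.zero_comp, LinearMap.zero_apply]
    rw [mul_sub, monomial_mul_X_pow, monomial_mul_C, map_sub, psi0_monomial, psi0_monomial, one_mul]
    by_cases hn : Odd n
    · have hn2 : Odd (n + 2) := by
        obtain ⟨k, rfl⟩ := hn; exact ⟨k + 1, by ring⟩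
      rw [if_pos hn, if_pos hn2, map_one, map_pow]
      obtain ⟨k, rfl⟩ := hn
      have e1 : 2 * k + 1 + 2 - 1 = 2 * k + 2 := by omega
      have e2 : 2 * k + 1 - 1 = 2 * k := by omega
      rw [e1, e2, Algebra.smul_def, Algebra.smul_def, mul_one, Ideal.Quotient.algebraMap_eq,
        map_pow, map_pow, pow_add, sub_self]
    · have hn2 : ¬ Odd (n + 2) := by
        intro h; apply hn
        obtain ⟨k, hk⟩ := h; exact ⟨k - 1, by omega⟩
      rw [if_neg hn, if_neg hn2, zero_smul, zero_smul, sub_self]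
  exact LinearMap.congr_fun this g

theorem psi0_mem (f : R[X]) (hf : f ∈ I u v) : psi0 u v f = 0 := by
  rw [I, Ideal.mem_span_pair] at hf
  obtain ⟨g, h, rfl⟩ := hf
  rw [map_add, psi0_mul_gen1, psi0_mul_gen2, add_zero]

/-- The `α`-coefficient functional `B → R/(u)`. -/
noncomputable def psi : B u v →ₗ[R] (R ⧸ Ideal.span {u}) :=
  (Submodule.liftQ ((I u v).restrictScalars R) (psi0 u v) (fun f hf => psi0_mem u v f ((Submodule.restrictScalars_mem R _ _).1 hf))) ∘ₗ
    (Submodule.Quotient.restrictScalarsEquiv R (I u v)).symm.toLinearMap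

theorem psi_mk (f : R[X]) : psi u v (Ideal.Quotient.mk (I u v) f) = psi0 u v f := by
  rw [psi, LinearMap.comp_apply]
  erw [Submodule.Quotient.restrictScalarsEquiv_symm_mk]
  exact Submodule.liftQ_apply _ _ _

theorem psi_alpha : psi u v (α u v) = 1 := by
  rw [α, psi_mk, ← monomial_one_one_eq_X, psi0_monomial]
  simp

theorem psi_one : psi u v (1 : B u v) = 0 := by
  have : (1 : B u v) = Ideal.Quotient.mk (I u v) (monomial 0 1) := by
    rw [monomial_zero_one]; rfl
  rw [this, psi_mk, psi0_monomial]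
  simp

theorem psi_repr (a c : R) :
    psi u v (algebraMap R (B u v) a + algebraMap R (B u v) c * α u v) =
      Ideal.Quotient.mk (Ideal.span {u}) c := by
  rw [Algebra.algebraMap_eq_smul_one, Algebra.algebraMap_eq_smul_one, smul_mul_assoc, one_mul,
    map_add, map_smul, map_smul, psi_one, psi_alpha, smul_zero, zero_add, Algebra.smul_def,
    mul_one]
  rfl

end A

section T
variable (p : ℕ) [Fact p.Prime] (R : Type u) [CommRing R] [CharP R p]
  (A : Type u) [CommRing A] [Algebra R A] (i : ℕ)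

theorem tmul_algebraMap_mul (r a : R) (y : ASrc p R A i) :
    (r ⊗ₜ[Src p R i] ((aEquiv p R A i).symm (algebraMap R A a) * y) : Twist p R A i) =
      (a ^ (p ^ i) * r) ⊗ₜ y := by
  have h1 : ((srcEquiv p R i).symm a) • y = (aEquiv p R A i).symm (algebraMap R A a) * y := by
    rw [Algebra.smul_def, algebraMap_aSrc, RingEquiv.apply_symm_apply]
  have h2 : ((srcEquiv p R i).symm a) • r = a ^ (p ^ i) * r := by
    rw [Algebra.smul_def, algebraMap_src, RingEquiv.apply_symm_apply]
  rw [← h1, ← h2, TensorProduct.smul_tmul]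

theorem relFrob_tmul [CharP A p] (r : R) (b : ASrc p R A (i + 1)) :
    relFrob p R A i (r ⊗ₜ b) = r ⊗ₜ (aEquiv p R A i).symm ((aEquiv p R A (i + 1) b) ^ p) := by
  change relFrobAux p R A i (r ⊗ₜ b) = _
  rw [relFrobAux, Algebra.TensorProduct.lift_tmul]
  change (algebraMap R (Twist p R A i) r) * ((1 : R) ⊗ₜ _) = _
  rw [Algebra.TensorProduct.algebraMap_apply, Algebra.TensorProduct.tmul_mul_tmul, mul_one,
    one_mul]
  rfl

/-- Additive maps out of the twist from Frobenius-semilinear maps. -/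
noncomputable def semiLift (Q : Type u) [CommRing Q] [Algebra R Q] (θ : A →+ Q)
    (hθ : ∀ a b, θ (algebraMap R A a * b) = algebraMap R Q (a ^ (p ^ i)) * θ b) :
    Twist p R A i →+ Q :=
  TensorProduct.liftAddHom
    { toFun := fun r =>
        { toFun := fun b => algebraMap R Q r * θ (aEquiv p R A i b)
          map_zero' := by rw [map_zero, map_zero, mul_zero]
          map_add' := fun b b' => by rw [map_add, map_add, mul_add] }
      map_zero' := by ext b; simp
      map_add' := fun r r' => by ext b; simp [add_mul] }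
    (by
      intro s r b
      change algebraMap R Q (s • r) * θ (aEquiv p R A i b) =
        algebraMap R Q r * θ (aEquiv p R A i (s • b))
      have h1 : s • b = (aEquiv p R A i).symm (algebraMap R A (srcEquiv p R i s)) * b := by
        rw [Algebra.smul_def, algebraMap_aSrc]
      have h2 : s • r = (srcEquiv p R i s) ^ (p ^ i) * r := by
        rw [Algebra.smul_def, algebraMap_src]
      rw [h1, h2, map_mul (aEquiv p R A i), RingEquiv.apply_symm_apply, hθ, map_mul]
      ring)

theorem semiLift_tmul (Q : Type u) [CommRing Q] [Algebra R Q] (θ : A →+ Q)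
    (hθ : ∀ a b, θ (algebraMap R A a * b) = algebraMap R Q (a ^ (p ^ i)) * θ b)
    (r : R) (b : ASrc p R A i) :
    semiLift p R A i Q θ hθ (r ⊗ₜ b) = algebraMap R Q r * θ (aEquiv p R A i b) := by
  rw [semiLift, TensorProduct.liftAddHom_tmul]
  rfl

end T

section C
variable (p : ℕ) [Fact p.Prime] (R : Type u) [CommRing R] [CharP R p]
  (u v : R) [CharP (B u v) p]

/-- `α` in the `i`-th copy. -/
noncomputable def α' (i : ℕ) : ASrc p R (B u v) i := (aEquiv p R (B u v) i).symm (α u v)

theorem exists_repr_twist (i : ℕ) (z : Twist p R (B u v) i) :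
    ∃ r s : R, z = r ⊗ₜ 1 + s ⊗ₜ α' p R u v i := by
  induction z using TensorProduct.induction_on with
  | zero => exact ⟨0, 0, by rw [zero_tmul, zero_tmul, add_zero]⟩
  | add z w hz hw =>
    obtain ⟨r, s, rfl⟩ := hz
    obtain ⟨r', s', rfl⟩ := hw
    refine ⟨r + r', s + s', ?_⟩
    rw [add_tmul, add_tmul]; abel
  | tmul r b =>
    obtain ⟨a, c, h⟩ := exists_repr u v (aEquiv p R (B u v) i b)
    have hb : b = (aEquiv p R (B u v) i).symm (algebraMap R (B u v) a) * 1 +
        (aEquiv p R (B u v) i).symm (algebraMap R (B u v) c) * α' p R u v i := by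
      apply (aEquiv p R (B u v) i).injective
      rw [h, α', map_add, map_mul, map_mul, map_one, mul_one, RingEquiv.apply_symm_apply,
        RingEquiv.apply_symm_apply, RingEquiv.apply_symm_apply]
    refine ⟨a ^ (p ^ i) * r, c ^ (p ^ i) * r, ?_⟩
    rw [hb, tmul_add, tmul_algebraMap_mul, tmul_algebraMap_mul]

theorem alpha_pow_p (hp : p ≠ 2) :
    α u v ^ p = algebraMap R (B u v) (v ^ (p - 1)) * α u v := by
  obtain ⟨k, hk⟩ := ((Fact.out : p.Prime).eq_two_or_odd').resolve_left hp
  have e : p - 1 = 2 * k := by omega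
  rw [e, hk, alpha_pow_odd]

theorem relFrob_repr (hp : p ≠ 2) (i : ℕ) (r s : R) :
    relFrob p R (B u v) i (r ⊗ₜ 1 + s ⊗ₜ α' p R u v (i + 1)) =
      r ⊗ₜ 1 + ((v ^ (p - 1)) ^ (p ^ i) * s) ⊗ₜ α' p R u v i := by
  rw [map_add, relFrob_tmul, relFrob_tmul, map_one, one_pow, map_one, α',
    RingEquiv.apply_symm_apply, alpha_pow_p p R u v hp, map_mul, tmul_algebraMap_mul]
  rfl

/-- Frobenius-induced map `R/(u) → R/(u^(p^i))`. -/
noncomputable def Fr (i : ℕ) : (R ⧸ Ideal.span {u}) →+* (R ⧸ Ideal.span {u ^ (p ^ i)}) :=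
  Ideal.Quotient.lift _ ((Ideal.Quotient.mk _).comp (iterateFrobenius R p i)) (by
    intro a ha
    obtain ⟨t, rfl⟩ := Ideal.mem_span_singleton'.1 ha
    rw [RingHom.comp_apply, iterateFrobenius_def, mul_pow]
    exact Ideal.Quotient.eq_zero_iff_mem.2 (Ideal.mul_mem_left _ _ (Ideal.subset_span rfl)))

theorem Fr_mk (i : ℕ) (a : R) :
    Fr p R u i (Ideal.Quotient.mk _ a) = Ideal.Quotient.mk _ (a ^ (p ^ i)) := by
  rw [Fr, Ideal.Quotient.lift_mk, RingHom.comp_apply, iterateFrobenius_def]

/-- The `α`-coordinate on the `i`-th twist. -/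
noncomputable def D (i : ℕ) : Twist p R (B u v) i →+ (R ⧸ Ideal.span {u ^ (p ^ i)}) :=
  semiLift p R (B u v) i (R ⧸ Ideal.span {u ^ (p ^ i)})
    ((Fr p R u i).toAddMonoidHom.comp (psi u v).toAddMonoidHom) (by
      intro a b
      change Fr p R u i (psi u v (algebraMap R (B u v) a * b)) = _ * Fr p R u i (psi u v b)
      rw [← Algebra.smul_def, map_smul, Algebra.smul_def, map_mul, Ideal.Quotient.algebraMap_eq,
        Fr_mk, Ideal.Quotient.algebraMap_eq])

theorem D_repr (i : ℕ) (r s : R) :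
    D p R u v i (r ⊗ₜ 1 + s ⊗ₜ α' p R u v i) = Ideal.Quotient.mk _ s := by
  rw [map_add, D, semiLift_tmul, semiLift_tmul, map_one, α', RingEquiv.apply_symm_apply]
  change _ * Fr p R u i (psi u v 1) + _ * Fr p R u i (psi u v (α u v)) = _
  rw [psi_one, psi_alpha, map_zero, map_one, mul_zero, zero_add, mul_one,
    Ideal.Quotient.algebraMap_eq]

/-- The evaluation `α ↦ v` on the `i`-th twist. -/
noncomputable def E (huv : u * v = 0) (i : ℕ) : Twist p R (B u v) i →+ R :=
  semiLift p R (B u v) i R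
    ((iterateFrobenius R p i).toAddMonoidHom.comp (pi2 u v huv).toLinearMap.toAddMonoidHom) (by
      intro a b
      change iterateFrobenius R p i (pi2 u v huv (algebraMap R (B u v) a * b)) =
        _ * iterateFrobenius R p i (pi2 u v huv b)
      rw [map_mul, AlgHom.commutes, map_mul, iterateFrobenius_def]
      rfl)

theorem E_repr (huv : u * v = 0) (i : ℕ) (r s : R) :
    E p R u v huv i (r ⊗ₜ 1 + s ⊗ₜ α' p R u v i) = r + s * v ^ (p ^ i) := by
  rw [map_add, E, semiLift_tmul, semiLift_tmul, map_one, α', RingEquiv.apply_symm_apply]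
  change _ * iterateFrobenius R p i (pi2 u v huv 1) +
    _ * iterateFrobenius R p i (pi2 u v huv (α u v)) = _
  rw [map_one, map_one, pi2_alpha, iterateFrobenius_def]
  simp

theorem mem_prePerf_iff (x : Π j : ℕ, Twist p R (B u v) j) :
    x ∈ prePerf p R (B u v) ↔ ∀ j, relFrob p R (B u v) j (x (j + 1)) = x j := by
  rw [prePerf, Algebra.mem_iInf]
  rfl

theorem main (hp : p ≠ 2) (huv : u * v = 0)
    (hsep : ∀ N : ℕ, 1 ≤ N → ∀ g : R,
      (∀ n : ℕ, g ∈ Ideal.span {v ^ n} ⊔ Ideal.span {u ^ N}) → g ∈ Ideal.span {u ^ N}) :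
    Function.Bijective (algebraMap R ↥(prePerf p R (B u v))) := by
  have hcomp : ∀ (r : R) (j : ℕ),
      ((algebraMap R ↥(prePerf p R (B u v)) r : ↥(prePerf p R (B u v))) :
        Π j : ℕ, Twist p R (B u v) j) j = r ⊗ₜ 1 := by
    intro r j
    rfl
  constructor
  · intro r r' h
    have h0 := congrArg (fun x : ↥(prePerf p R (B u v)) =>
      E p R u v huv 0 ((x : Π j : ℕ, Twist p R (B u v) j) 0)) h
    simp only [hcomp] at h0
    have e : ∀ t : R, (t ⊗ₜ[Src p R 0] (1 : ASrc p R (B u v) 0) : Twist p R (B u v) 0) =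
        t ⊗ₜ 1 + (0 : R) ⊗ₜ α' p R u v 0 := by
      intro t; rw [zero_tmul, add_zero]
    rw [e r, e r', E_repr, E_repr, zero_mul, add_zero, add_zero] at h0
    exact h0
  · intro x
    have hx := (mem_prePerf_iff p R u v x.1).1 x.2
    choose r s hrs using fun j => exists_repr_twist p R u v j (x.1 j)
    -- relations
    have hD : ∀ j, Ideal.Quotient.mk (Ideal.span {u ^ (p ^ j)})
        ((v ^ (p - 1)) ^ (p ^ j) * s (j + 1)) = Ideal.Quotient.mk _ (s j) := by
      intro j
      have h := hx j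
      rw [hrs (j + 1), hrs j, relFrob_repr p R u v hp] at h
      have h' := congrArg (D p R u v j) h
      rwa [D_repr, D_repr] at h'
    have hE : ∀ j, r (j + 1) + ((v ^ (p - 1)) ^ (p ^ j) * s (j + 1)) * v ^ (p ^ j) =
        r j + s j * v ^ (p ^ j) := by
      intro j
      have h := hx j
      rw [hrs (j + 1), hrs j, relFrob_repr p R u v hp] at h
      have h' := congrArg (E p R u v huv j) h
      rwa [E_repr, E_repr] at h'
    have hp1 : 1 ≤ p - 1 := by
      have := (Fact.out : p.Prime).two_le; omega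
    have hpos : ∀ j, 1 ≤ p ^ j := fun j => Nat.one_le_pow _ _ (Fact.out : p.Prime).pos
    -- s j ∈ (v^k) + (u^(p^j))
    have hmem : ∀ k j, s j ∈ Ideal.span {v ^ k} ⊔ Ideal.span {u ^ (p ^ j)} := by
      intro k
      induction k with
      | zero =>
        intro j
        rw [pow_zero, Ideal.span_singleton_one, top_sup_eq]; trivial
      | succ k ih =>
        intro j
        have h1 := (Ideal.Quotient.eq.1 (hD j))
        obtain ⟨a, ha, b, hb, hab⟩ := Submodule.mem_sup.1 (ih (j + 1))
        obtain ⟨a', rfl⟩ := Ideal.mem_span_singleton'.1 ha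
        obtain ⟨b', rfl⟩ := Ideal.mem_span_singleton'.1 hb
        obtain ⟨t, ht⟩ := Ideal.mem_span_singleton'.1 h1
        have hs : s j = (v ^ (p - 1)) ^ (p ^ j) * s (j + 1) - t * u ^ (p ^ j) := by
          rw [ht]; ring
        have he1 : 1 ≤ (p - 1) * p ^ j := Nat.mul_pos (by omega) (by have := hpos j; omega)
        have he : (v ^ (p - 1)) ^ (p ^ j) = v ^ ((p - 1) * p ^ j - 1) * v := by
          rw [← pow_mul, ← pow_succ]
          congr 1; omega
        have hu : u ^ (p ^ (j + 1)) = u ^ (p ^ j) * u ^ (p ^ (j + 1) - p ^ j) := by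
          rw [← pow_add]
          congr 1
          have : p ^ j ≤ p ^ (j + 1) :=
            Nat.pow_le_pow_right (Fact.out : p.Prime).pos (Nat.le_succ j)
          omega
        refine Submodule.mem_sup.2 ⟨a' * v ^ ((p - 1) * p ^ j - 1) * v ^ (k + 1),
          Ideal.mem_span_singleton'.2 ⟨_, rfl⟩,
          ((v ^ (p - 1)) ^ (p ^ j) * b' * u ^ (p ^ (j + 1) - p ^ j) - t) * u ^ (p ^ j),
          Ideal.mem_span_singleton'.2 ⟨_, rfl⟩, ?_⟩
        rw [hs, ← hab, hu, he]
        ring
    have hs0 : ∀ j, ∃ t, t * u ^ (p ^ j) = s j := fun j =>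
      Ideal.mem_span_singleton'.1 (hsep (p ^ j) (hpos j) (s j) (fun n => hmem n j))
    choose t ht using hs0
    have huvpow : ∀ m n : ℕ, 1 ≤ m → 1 ≤ n → u ^ m * v ^ n = 0 := by
      intro m n hm hn
      obtain ⟨m', rfl⟩ := Nat.exists_eq_add_of_le hm
      obtain ⟨n', rfl⟩ := Nat.exists_eq_add_of_le hn
      rw [pow_add, pow_add, pow_one, pow_one]
      calc u * u ^ m' * (v * v ^ n') = (u * v) * (u ^ m' * v ^ n') := by ring
        _ = 0 := by rw [huv, zero_mul]
    have hr : ∀ j, r (j + 1) = r j := by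
      intro j
      have h := hE j
      rw [← ht j, ← ht (j + 1)] at h
      have e1 : t j * u ^ p ^ j * v ^ p ^ j = 0 := by
        rw [mul_assoc, huvpow _ _ (hpos j) (hpos j), mul_zero]
      have e2 : (v ^ (p - 1)) ^ p ^ j * (t (j + 1) * u ^ p ^ (j + 1)) * v ^ p ^ j = 0 := by
        calc (v ^ (p - 1)) ^ p ^ j * (t (j + 1) * u ^ p ^ (j + 1)) * v ^ p ^ j
            = (v ^ (p - 1)) ^ p ^ j * t (j + 1) * (u ^ p ^ (j + 1) * v ^ p ^ j) := by ring
          _ = 0 := by rw [huvpow _ _ (hpos (j + 1)) (hpos j), mul_zero]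
      rw [e1, e2, add_zero, add_zero] at h
      exact h
    have hr0 : ∀ j, r j = r 0 := by
      intro j
      induction j with
      | zero => rfl
      | succ j ih => rw [hr j, ih]
    refine ⟨r 0, ?_⟩
    apply Subtype.ext
    funext j
    rw [hcomp, hrs j, hr0 j, ← ht j]
    have : ((t j * u ^ p ^ j) ⊗ₜ[Src p R j] α' p R u v j : Twist p R (B u v) j) = 0 := by
      rw [mul_comm, ← tmul_algebraMap_mul, α', ← map_mul, u_alpha, map_zero, tmul_zero]
    rw [this, add_zero]

end C

end Groth.Agent.Lib.PrePerf75
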