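import Mathlib

/-!
# The Hopf algebra structure on the universal enveloping algebra (helper58)

`Δ x = x ⊗ 1 + 1 ⊗ x`, `ε x = 0`, `S x = -x` for `x ∈ L`.
-/

set_option autoImplicit false
set_option linter.unusedSectionVars false
set_option linter.unusedVariables false

namespace Groth.Agent.Lib.UEAHopf58

open TensorProduct

attribute [local instance 100] LieRing.ofAssociativeRing

variable (k : Type*) [CommRing k] (L : Type*) [LieRing L] [LieAlgebra k L]

local notation "ιU" => UniversalEnvelopingAlgebra.ι k (L := L)
local notation "UL" => UniversalEnvelopingAlgebra k L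

section Induction

variable {k L}

/-- Induction on the enveloping algebra by left multiplication with generators. -/
theorem induction_left {P : UL → Prop} (h1 : P 1) (hadd : ∀ u v, P u → P v → P (u + v))
    (hsmul : ∀ (r : k) u, P u → P (r • u)) (hmul : ∀ (x : L) u, P u → P (ιU x * u)) :
    ∀ u, P u := by
  have hT : ∀ t : TensorAlgebra k L, ∀ w, P w →
      P (UniversalEnvelopingAlgebra.mkAlgHom k L t * w) := by
    intro t
    induction t using TensorAlgebra.induction with
    | algebraMap r =>
      intro w hw
      rw [AlgHom.commutes, ← Algebra.smul_def]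
      exact hsmul r w hw
    | ι x =>
      intro w hw
      exact hmul x w hw
    | mul a c ha hc =>
      intro w hw
      rw [map_mul, mul_assoc]
      exact ha _ (hc _ hw)
    | add a c ha hc =>
      intro w hw
      rw [map_add, add_mul]
      exact hadd _ _ (ha _ hw) (hc _ hw)
  intro u
  obtain ⟨t, rfl⟩ := RingCon.mkₐ_surjective (α := k) (UniversalEnvelopingAlgebra.ringCon k L) u
  have := hT t 1 h1
  rwa [mul_one] at this

/-- Induction on the enveloping algebra by right multiplication with generators. -/
theorem induction_right {P : UL → Prop} (h1 : P 1) (hadd : ∀ u v, P u → P v → P (u + v))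
    (hsmul : ∀ (r : k) u, P u → P (r • u)) (hmul : ∀ (x : L) u, P u → P (u * ιU x)) :
    ∀ u, P u := by
  have hT : ∀ t : TensorAlgebra k L, ∀ w, P w →
      P (w * UniversalEnvelopingAlgebra.mkAlgHom k L t) := by
    intro t
    induction t using TensorAlgebra.induction with
    | algebraMap r =>
      intro w hw
      rw [AlgHom.commutes, ← Algebra.commutes, ← Algebra.smul_def]
      exact hsmul r w hw
    | ι x =>
      intro w hw
      exact hmul x w hw
    | mul a c ha hc =>
      intro w hw
      rw [map_mul, ← mul_assoc]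
      exact hc _ (ha _ hw)
    | add a c ha hc =>
      intro w hw
      rw [map_add, mul_add]
      exact hadd _ _ (ha _ hw) (hc _ hw)
  intro u
  obtain ⟨t, rfl⟩ := RingCon.mkₐ_surjective (α := k) (UniversalEnvelopingAlgebra.ringCon k L) u
  have := hT t 1 h1
  rwa [one_mul] at this

end Induction

/-- `x ↦ x ⊗ 1 + 1 ⊗ x` as a Lie algebra homomorphism. -/
noncomputable def deltaLie : L →ₗ⁅k⁆ (UL ⊗[k] UL) :=
  { toFun := fun x => ιU x ⊗ₜ[k] (1 : UL) + (1 : UL) ⊗ₜ[k] ιU x
    map_add' := fun x y => by
      rw [map_add, add_tmul, tmul_add]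
      abel
    map_smul' := fun c x => by
      rw [map_smul, RingHom.id_apply, smul_add, smul_tmul', ← tmul_smul]
    map_lie' := by
      intro x y
      show ιU ⁅x, y⁆ ⊗ₜ[k] (1 : UL) + (1 : UL) ⊗ₜ[k] ιU ⁅x, y⁆ = _
      rw [LieRing.of_associative_ring_bracket, LieHom.map_lie, LieRing.of_associative_ring_bracket]
      simp only [add_mul, mul_add, Algebra.TensorProduct.tmul_mul_tmul, mul_one, one_mul, sub_tmul,
        tmul_sub]
      abel }

theorem deltaLie_apply (x : L) :
    deltaLie k L x = ιU x ⊗ₜ[k] (1 : UL) + (1 : UL) ⊗ₜ[k] ιU x := rfl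

/-- The comultiplication. -/
noncomputable def comulAlg : UL →ₐ[k] UL ⊗[k] UL :=
  UniversalEnvelopingAlgebra.lift k (deltaLie k L)

theorem comulAlg_ι (x : L) :
    comulAlg k L (ιU x) = ιU x ⊗ₜ[k] (1 : UL) + (1 : UL) ⊗ₜ[k] ιU x := by
  unfold comulAlg
  rw [UniversalEnvelopingAlgebra.lift_ι_apply, deltaLie_apply]

/-- The counit. -/
noncomputable def counitAlg : UL →ₐ[k] k :=
  UniversalEnvelopingAlgebra.lift k (0 : L →ₗ⁅k⁆ k)

theorem counitAlg_ι (x : L) : counitAlg k L (ιU x) = 0 := by
  unfold counitAlg
  rw [UniversalEnvelopingAlgebra.lift_ι_apply]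
  rfl

noncomputable instance instBialgebra : Bialgebra k UL := by
  refine Bialgebra.ofAlgHom (comulAlg k L) (counitAlg k L) ?_ ?_ ?_
  · apply UniversalEnvelopingAlgebra.hom_ext
    apply LieHom.ext
    intro x
    show (Algebra.TensorProduct.assoc k k k UL UL UL)
      ((Algebra.TensorProduct.map (comulAlg k L) (AlgHom.id k UL)) ((comulAlg k L) (ιU x))) =
      (Algebra.TensorProduct.map (AlgHom.id k UL) (comulAlg k L)) ((comulAlg k L) (ιU x))
    rw [comulAlg_ι, map_add, map_add, map_add, Algebra.TensorProduct.map_tmul,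
      Algebra.TensorProduct.map_tmul, Algebra.TensorProduct.map_tmul,
      Algebra.TensorProduct.map_tmul, comulAlg_ι, map_one, map_one]
    simp only [Algebra.TensorProduct.one_def, add_tmul, tmul_add, map_add,
      Algebra.TensorProduct.assoc_tmul, AlgHom.coe_id, id_eq]
    abel
  · have h : ((Algebra.TensorProduct.lid k UL) : _ →ₐ[k] UL).comp
        ((Algebra.TensorProduct.map (counitAlg k L) (AlgHom.id k UL)).comp (comulAlg k L)) =
        AlgHom.id k UL := by
      apply UniversalEnvelopingAlgebra.hom_ext
      apply LieHom.ext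
      intro x
      show (Algebra.TensorProduct.lid k UL)
        ((Algebra.TensorProduct.map (counitAlg k L) (AlgHom.id k UL)) ((comulAlg k L) (ιU x))) =
        ιU x
      rw [comulAlg_ι, map_add, Algebra.TensorProduct.map_tmul, Algebra.TensorProduct.map_tmul,
        counitAlg_ι, map_one, map_one, zero_tmul, zero_add, Algebra.TensorProduct.lid_tmul,
        one_smul]
      rfl
    apply AlgHom.ext
    intro u
    apply (Algebra.TensorProduct.lid k UL).injective
    have := AlgHom.congr_fun h u
    rw [AlgEquiv.coe_toAlgHom, AlgEquiv.apply_symm_apply]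
    exact this
  · have h : ((Algebra.TensorProduct.rid k k UL) : _ →ₐ[k] UL).comp
        ((Algebra.TensorProduct.map (AlgHom.id k UL) (counitAlg k L)).comp (comulAlg k L)) =
        AlgHom.id k UL := by
      apply UniversalEnvelopingAlgebra.hom_ext
      apply LieHom.ext
      intro x
      show (Algebra.TensorProduct.rid k k UL)
        ((Algebra.TensorProduct.map (AlgHom.id k UL) (counitAlg k L)) ((comulAlg k L) (ιU x))) =
        ιU x
      rw [comulAlg_ι, map_add, Algebra.TensorProduct.map_tmul, Algebra.TensorProduct.map_tmul,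
        counitAlg_ι, map_one, map_one, tmul_zero, add_zero, Algebra.TensorProduct.rid_tmul,
        one_smul]
      rfl
    apply AlgHom.ext
    intro u
    apply (Algebra.TensorProduct.rid k k UL).injective
    have := AlgHom.congr_fun h u
    rw [AlgEquiv.coe_toAlgHom, AlgEquiv.apply_symm_apply]
    exact this

theorem comul_eq (u : UL) : Coalgebra.comul (R := k) u = comulAlg k L u := rfl

theorem counit_eq (u : UL) : Coalgebra.counit (R := k) u = counitAlg k L u := rfl

theorem comul_ι (x : L) :
    Coalgebra.comul (R := k) (ιU x) = ιU x ⊗ₜ[k] (1 : UL) + (1 : UL) ⊗ₜ[k] ιU x :=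
  comulAlg_ι k L x

theorem counit_ι (x : L) : Coalgebra.counit (R := k) (ιU x : UL) = 0 := counitAlg_ι k L x

/-- `x ↦ op (-x)` as a Lie algebra homomorphism into the opposite algebra. -/
noncomputable def antiLie : L →ₗ⁅k⁆ ULᵐᵒᵖ :=
  { toFun := fun x => MulOpposite.op (-(ιU x))
    map_add' := fun x y => by
      rw [map_add, neg_add, MulOpposite.op_add]
    map_smul' := fun c x => by
      rw [map_smul, ← smul_neg, MulOpposite.op_smul, RingHom.id_apply]
    map_lie' := by
      intro x y
      show MulOpposite.op (-(ιU ⁅x, y⁆)) = ⁅MulOpposite.op (-(ιU x)), MulOpposite.op (-(ιU y))⁆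
      rw [LieRing.of_associative_ring_bracket, LieHom.map_lie, LieRing.of_associative_ring_bracket,
        ← MulOpposite.op_mul, ← MulOpposite.op_mul, ← MulOpposite.op_sub]
      congr 1
      noncomm_ring }

/-- The antipode as an algebra homomorphism into the opposite algebra. -/
noncomputable def antiAlg : UL →ₐ[k] ULᵐᵒᵖ := UniversalEnvelopingAlgebra.lift k (antiLie k L)

/-- The antipode. -/
noncomputable def anti : UL →ₗ[k] UL :=
  (MulOpposite.opLinearEquiv k).symm.toLinearMap ∘ₗ (antiAlg k L).toLinearMap

theorem anti_apply (u : UL) : anti k L u = (antiAlg k L u).unop := rfl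

theorem anti_one : anti k L 1 = 1 := by
  rw [anti_apply, map_one, MulOpposite.unop_one]

theorem anti_mul (u v : UL) : anti k L (u * v) = anti k L v * anti k L u := by
  rw [anti_apply, map_mul, MulOpposite.unop_mul]
  rfl

theorem anti_ι (x : L) : anti k L (ιU x) = -(ιU x) := by
  rw [anti_apply]
  unfold antiAlg
  rw [UniversalEnvelopingAlgebra.lift_ι_apply]
  rfl

theorem mul_anti_rTensor (x : L) (t : UL ⊗[k] UL) :
    LinearMap.mul' k UL ((anti k L).rTensor UL ((ιU x ⊗ₜ[k] (1 : UL) + (1 : UL) ⊗ₜ[k] ιU x) * t))
      = 0 := by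
  induction t using TensorProduct.induction_on with
  | zero => simp
  | tmul a c =>
    rw [add_mul, Algebra.TensorProduct.tmul_mul_tmul, Algebra.TensorProduct.tmul_mul_tmul, one_mul,
      one_mul, map_add, map_add, LinearMap.rTensor_tmul, LinearMap.rTensor_tmul,
      LinearMap.mul'_apply, LinearMap.mul'_apply, anti_mul, anti_ι]
    noncomm_ring
  | add t t' ht ht' => rw [mul_add, map_add, map_add, ht, ht', add_zero]

theorem mul_anti_lTensor (x : L) (t : UL ⊗[k] UL) :
    LinearMap.mul' k UL ((anti k L).lTensor UL (t * (ιU x ⊗ₜ[k] (1 : UL) + (1 : UL) ⊗ₜ[k] ιU x)))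
      = 0 := by
  induction t using TensorProduct.induction_on with
  | zero => simp
  | tmul a c =>
    rw [mul_add, Algebra.TensorProduct.tmul_mul_tmul, Algebra.TensorProduct.tmul_mul_tmul, mul_one,
      mul_one, map_add, map_add, LinearMap.lTensor_tmul, LinearMap.lTensor_tmul,
      LinearMap.mul'_apply, LinearMap.mul'_apply, anti_mul, anti_ι]
    noncomm_ring
  | add t t' ht ht' => rw [add_mul, map_add, map_add, ht, ht', add_zero]

noncomputable instance instHopfAlgebra : HopfAlgebra k UL where
  antipode := anti k L
  mul_antipode_rTensor_comul := by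
    apply LinearMap.ext
    refine induction_left ?_ ?_ ?_ ?_
    · simp [Bialgebra.comul_one, Algebra.TensorProduct.one_def, anti_one]
    · intro u v hu hv
      rw [map_add, hu, hv, map_add]
    · intro r u hu
      rw [map_smul, hu, map_smul]
    · intro x u _
      rw [LinearMap.comp_apply, LinearMap.comp_apply, Bialgebra.comul_mul, comul_ι,
        mul_anti_rTensor, LinearMap.comp_apply, Bialgebra.counit_mul, counit_ι, zero_mul, map_zero]
  mul_antipode_lTensor_comul := by
    apply LinearMap.ext
    refine induction_right ?_ ?_ ?_ ?_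
    · simp [Bialgebra.comul_one, Algebra.TensorProduct.one_def, anti_one]
    · intro u v hu hv
      rw [map_add, hu, hv, map_add]
    · intro r u hu
      rw [map_smul, hu, map_smul]
    · intro x u _
      rw [LinearMap.comp_apply, LinearMap.comp_apply, Bialgebra.comul_mul, comul_ι,
        mul_anti_lTensor, LinearMap.comp_apply, Bialgebra.counit_mul, counit_ι, mul_zero, map_zero]

theorem antipode_eq (u : UL) : HopfAlgebra.antipode k u = anti k L u := rfl

instance instIsCocomm : Coalgebra.IsCocomm k UL := by
  constructor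
  have h : ((Algebra.TensorProduct.comm k UL UL) : _ →ₐ[k] _).comp (comulAlg k L) =
      comulAlg k L := by
    apply UniversalEnvelopingAlgebra.hom_ext
    apply LieHom.ext
    intro x
    show (Algebra.TensorProduct.comm k UL UL) ((comulAlg k L) (ιU x)) = (comulAlg k L) (ιU x)
    rw [comulAlg_ι, map_add, Algebra.TensorProduct.comm_tmul, Algebra.TensorProduct.comm_tmul,
      add_comm]
  apply LinearMap.ext
  intro u
  exact AlgHom.congr_fun h u

end Groth.Agent.Lib.UEAHopf58
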