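import Mathlib
import Groth.Agent.Lib.PBW58d
import Groth.Agent.Lib.UEAHopf58
import Groth.Agent.Lib.PrimSplit58

/-!
# The primitive elements of a universal enveloping algebra in characteristic zero (helper58)

Over a field of characteristic zero, the primitive elements of `U(L)` are exactly the elements
of `L` (via the Poincaré–Birkhoff–Witt basis).
-/

set_option autoImplicit false
set_option linter.unusedSectionVars false
set_option linter.unusedVariables false

namespace Groth.Agent.Lib.PrimUEA58

open Groth.Agent.Lib.PBW58 Groth.Agent.Lib.UEAHopf58 Groth.Agent.Lib.PrimSplit58 TensorProduct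

attribute [local instance 100] LieRing.ofAssociativeRing

variable {k : Type*} [Field k] [CharZero k] {L : Type*} [LieRing L] [LieAlgebra k L]
  {ι : Type*} [LinearOrder ι] (b : Module.Basis ι k L)

local notation "UL" => UniversalEnvelopingAlgebra k L

/-- The generators. -/
noncomputable def gen (i : ι) : UL := UniversalEnvelopingAlgebra.ι k (b i)

theorem comul_gen (i : ι) : Coalgebra.comul (R := k) (gen b i) =
    gen b i ⊗ₜ[k] (1 : UL) + (1 : UL) ⊗ₜ[k] gen b i := comul_ι k L (b i)

theorem sorted_sublist {l t : List ι} (hl : l.SortedLE) (ht : t.Sublist l) : t.SortedLE :=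
  List.sortedLE_iff_pairwise.mpr ((List.sortedLE_iff_pairwise.mp hl).sublist ht)

theorem sorted_erase {l : List ι} (hl : l.SortedLE) (j : ι) : (l.erase j).SortedLE :=
  sorted_sublist hl List.erase_sublist

theorem sorted_singleton (j : ι) : [j].SortedLE :=
  List.sortedLE_iff_pairwise.mpr (List.pairwise_singleton _ _)

theorem sorted_nil : ([] : List ι).SortedLE :=
  List.sortedLE_iff_pairwise.mpr List.Pairwise.nil

theorem prodH_eq_basis {t : List ι} (ht : t.SortedLE) :
    prodH (gen b) t = pbwBasis b ⟨t, ht⟩ := by
  rw [pbwBasis_apply]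
  rfl

theorem one_eq_basis : (1 : UL) = pbwBasis b ⟨[], sorted_nil⟩ := by
  rw [← prodH_eq_basis, prodH_nil]

/-- The coordinate functional at `x_j`. -/
noncomputable def xi (j : ι) : UL →ₗ[k] k := (pbwBasis b).coord ⟨[j], sorted_singleton j⟩

theorem xi_prodH {t : List ι} (ht : t.SortedLE) (j : ι) :
    xi b j (prodH (gen b) t) = if t = [j] then 1 else 0 := by
  classical
  rw [prodH_eq_basis b ht]
  unfold xi
  rw [Module.Basis.coord_apply, Module.Basis.repr_self, Finsupp.single_apply]
  by_cases h : t = [j]
  · subst h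
    rw [if_pos rfl, if_pos rfl]
  · rw [if_neg h, if_neg]
    intro h2
    exact h (congrArg Subtype.val h2)

theorem Theta_xi_basis (j : ι) (l : {l : List ι // l.SortedLE}) :
    Theta (xi b j) (pbwBasis b l) = (l.1.count j) • prodH (gen b) (l.1.erase j) := by
  have : pbwBasis b l = prodH (gen b) l.1 := (prodH_eq_basis b l.2).symm
  rw [this]
  exact Theta_prodH_sorted (gen b) (comul_gen b) (xi b j) j l.1
    (List.sortedLE_iff_pairwise.mp l.2) (fun t ht => xi_prodH b (sorted_sublist l.2 ht) j)

theorem coord_Theta (j : ι) (r : {l : List ι // l.SortedLE}) (hj : j ∈ r.1) :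
    (pbwBasis b).coord ⟨r.1.erase j, sorted_erase r.2 j⟩ ∘ₗ Theta (xi b j) =
      ((r.1.count j : ℕ) : k) • (pbwBasis b).coord r := by
  classical
  apply (pbwBasis b).ext
  intro r'
  rw [LinearMap.comp_apply, Theta_xi_basis, LinearMap.smul_apply, Module.Basis.coord_apply,
    Module.Basis.coord_apply, Module.Basis.repr_self, prodH_eq_basis b (sorted_erase r'.2 j),
    ← Nat.cast_smul_eq_nsmul k, map_smul, Finsupp.smul_apply, Module.Basis.repr_self,
    Finsupp.single_apply, Finsupp.single_apply, smul_eq_mul, smul_eq_mul]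
  by_cases h : r' = r
  · subst h
    rw [if_pos rfl, if_pos rfl]
  · rw [if_neg h, mul_zero]
    by_cases hc : r'.1.count j = 0
    · rw [hc, Nat.cast_zero, zero_mul]
    · have hj' : j ∈ r'.1 := List.count_pos_iff.mp (Nat.pos_of_ne_zero hc)
      rw [if_neg, mul_zero]
      intro heq
      apply h
      have he : r'.1.erase j = r.1.erase j := congrArg Subtype.val heq
      have hp : r'.1.Perm r.1 :=
        ((List.perm_cons_erase hj').trans (by rw [he])).trans (List.perm_cons_erase hj).symm
      exact Subtype.ext (List.Perm.eq_of_sortedLE r'.2 r.2 hp)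

theorem counit_basis (r : {l : List ι // l.SortedLE}) :
    Coalgebra.counit (R := k) (pbwBasis b r) = if r.1 = [] then 1 else 0 := by
  rw [← prodH_eq_basis b r.2]
  obtain ⟨l, hl⟩ := r
  cases l with
  | nil => simp
  | cons a t =>
    rw [prodH_cons, Bialgebra.counit_mul]
    unfold gen
    rw [counit_ι, zero_mul, if_neg (List.cons_ne_nil a t)]

theorem counit_eq_coord :
    (Coalgebra.counit : UL →ₗ[k] k) = (pbwBasis b).coord ⟨[], sorted_nil⟩ := by
  classical
  apply (pbwBasis b).ext
  intro r
  rw [counit_basis, Module.Basis.coord_apply, Module.Basis.repr_self, Finsupp.single_apply]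
  by_cases h : r.1 = []
  · rw [if_pos h, if_pos (Subtype.ext h)]
  · rw [if_neg h, if_neg]
    intro h2
    exact h (congrArg Subtype.val h2)

include b in
/-- In characteristic zero the primitive elements of `U(L)` lie in `L`. -/
theorem exists_of_primitive_aux (w : UL)
    (hw : Coalgebra.comul (R := k) w = w ⊗ₜ[k] (1 : UL) + (1 : UL) ⊗ₜ[k] w) :
    ∃ y : L, UniversalEnvelopingAlgebra.ι k y = w := by
  classical
  have hxi1 : ∀ j, xi b j (1 : UL) = 0 := by
    intro j
    unfold xi
    rw [one_eq_basis b, Module.Basis.coord_apply, Module.Basis.repr_self, Finsupp.single_apply,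
      if_neg]
    intro h
    exact List.cons_ne_nil j [] (congrArg Subtype.val h).symm
  have hθ : ∀ j, Theta (xi b j) w = xi b j w • (1 : UL) := by
    intro j
    unfold Theta
    rw [LinearMap.comp_apply, LinearMap.comp_apply, hw, map_add, LinearMap.lTensor_tmul,
      LinearMap.lTensor_tmul, map_add, hxi1]
    rw [tmul_zero, map_zero, zero_add, LinearEquiv.coe_coe, TensorProduct.rid_tmul]
  have hε : Coalgebra.counit (R := k) w = 0 := by
    have h1 := congrArg (fun t => TensorProduct.lid k UL
      ((LinearMap.rTensor UL (Coalgebra.counit (R := k))) t)) hw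
    rw [Coalgebra.rTensor_counit_comul] at h1
    simp only [map_add, LinearMap.rTensor_tmul, TensorProduct.lid_tmul, Bialgebra.counit_one,
      one_smul] at h1
    have h2 : Coalgebra.counit (R := k) w • (1 : UL) = 0 := by
      have h5 : (0 : UL) + w = Coalgebra.counit (R := k) w • (1 : UL) + w := by
        rw [zero_add]
        exact h1
      exact (add_right_cancel h5).symm
    have h3 := congrArg (Coalgebra.counit (R := k)) h2
    rw [map_smul, Bialgebra.counit_one, smul_eq_mul, mul_one, map_zero] at h3
    exact h3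
  have ha0 : (pbwBasis b).repr w ⟨[], sorted_nil⟩ = 0 := by
    rw [← Module.Basis.coord_apply, ← counit_eq_coord, hε]
  have ha : ∀ r : {l : List ι // l.SortedLE}, r.1 ≠ [] → (∀ j, r.1 ≠ [j]) →
      (pbwBasis b).repr w r = 0 := by
    intro r hr0 hru
    obtain ⟨j, t, hjt⟩ := List.exists_cons_of_ne_nil hr0
    have hj : j ∈ r.1 := by rw [hjt]; exact List.mem_cons_self
    have h1 := LinearMap.congr_fun (coord_Theta b j r hj) w
    rw [LinearMap.comp_apply, hθ, map_smul, one_eq_basis b, Module.Basis.coord_apply,
      Module.Basis.repr_self, LinearMap.smul_apply, Module.Basis.coord_apply, Finsupp.single_apply,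
      if_neg, smul_zero, smul_eq_mul] at h1
    · have hc : ((r.1.count j : ℕ) : k) ≠ 0 :=
        Nat.cast_ne_zero.mpr (Nat.pos_iff_ne_zero.mp (List.count_pos_iff.mpr hj))
      rcases mul_eq_zero.mp h1.symm with h2 | h2
      · exact absurd h2 hc
      · exact h2
    · intro h
      have he : ([] : List ι) = r.1.erase j := congrArg Subtype.val h
      rw [hjt, List.erase_cons_head] at he
      apply hru j
      rw [hjt, ← he]
  have hsum := (pbwBasis b).linearCombination_repr w
  rw [Finsupp.linearCombination_apply, Finsupp.sum] at hsum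
  have hmem : w ∈ LinearMap.range
      ((UniversalEnvelopingAlgebra.ι k : L →ₗ⁅k⁆ UL) : L →ₗ[k] UL) := by
    rw [← hsum]
    refine Submodule.sum_mem _ fun r _ => ?_
    by_cases h0 : r.1 = []
    · have : r = ⟨[], sorted_nil⟩ := Subtype.ext h0
      rw [this, ha0, zero_smul]
      exact zero_mem _
    · by_cases hu : ∃ j, r.1 = [j]
      · obtain ⟨j, hj⟩ := hu
        have : r = ⟨[j], sorted_singleton j⟩ := Subtype.ext hj
        rw [this, pbwBasis_apply]
        refine Submodule.smul_mem _ _ ⟨b j, ?_⟩
        simp
      · push Not at hu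
        rw [ha r h0 hu, zero_smul]
        exact zero_mem _
  obtain ⟨y, hy⟩ := hmem
  exact ⟨y, hy⟩

omit [LinearOrder ι] in
/-- In characteristic zero the primitive elements of `U(L)` lie in `L`. -/
theorem exists_of_primitive (w : UL)
    (hw : Coalgebra.comul (R := k) w = w ⊗ₜ[k] (1 : UL) + (1 : UL) ⊗ₜ[k] w) :
    ∃ y : L, UniversalEnvelopingAlgebra.ι k y = w := by
  let _ : LinearOrder (Module.Free.ChooseBasisIndex k L) :=
    WellOrderingRel.isWellOrder.linearOrder
  exact exists_of_primitive_aux (Module.Free.chooseBasis k L) w hw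

end Groth.Agent.Lib.PrimUEA58
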