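/-
helper81: basic topology of the n-th infinitesimal neighbourhood of the diagonal (PrinPart.nbhd f n):
toNbhd is surjective and an embedding (homeomorphism onto), pr1 is quasi-compact and quasi-separated.
Used for S5959 (P^n(F) quasi-coherent).
-/
import Groth.Prelude.Def_OmegaPn
import Groth.Prelude.Def_Coh
import Groth.Agent.Lib.H90OXModQcqs
import Groth.Agent.Lib.H72PullbackQCoh
import Mathlib.AlgebraicGeometry.Morphisms.QuasiSeparated

set_option autoImplicit false
set_option linter.style.haveILetI false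
universe u
open CategoryTheory CategoryTheory.Limits AlgebraicGeometry TopologicalSpace Opposite

namespace Groth.Agent.Lib.PrinPart81

section aux

variable {X S : Scheme.{u}} (f : X ⟶ S) (n : ℕ)

theorem toNbhd_surjective : Function.Surjective (PrinPart.toNbhd f n) :=
  PrinPart.toInfNbhd_surjective (PrinPart.diagCl f) n

theorem pr1_toNbhd_apply (x : X) : PrinPart.pr1 f n (PrinPart.toNbhd f n x) = x := by
  rw [← Scheme.Hom.comp_apply, PrinPart.toNbhd_pr1]
  rfl

theorem preimage_pr1_eq_image (U : X.Opens) :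
    ((PrinPart.pr1 f n ⁻¹ᵁ U : (PrinPart.nbhd f n).Opens) : Set (PrinPart.nbhd f n)) =
      (PrinPart.toNbhd f n) '' (U : Set X) := by
  ext y
  constructor
  · intro hy
    obtain ⟨x, rfl⟩ := toNbhd_surjective f n y
    refine ⟨x, ?_, rfl⟩
    have : PrinPart.pr1 f n (PrinPart.toNbhd f n x) ∈ U := hy
    rwa [pr1_toNbhd_apply] at this
  · rintro ⟨x, hx, rfl⟩
    change PrinPart.pr1 f n (PrinPart.toNbhd f n x) ∈ U
    rwa [pr1_toNbhd_apply]

theorem isEmbedding_toNbhd : Topology.IsEmbedding (PrinPart.toNbhd f n) :=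
  Function.LeftInverse.isEmbedding (pr1_toNbhd_apply f n) (PrinPart.pr1 f n).continuous
    (PrinPart.toNbhd f n).continuous

instance quasiCompact_pr1 : QuasiCompact (PrinPart.pr1 f n) := by
  rw [quasiCompact_iff]
  intro U hU hUc
  have := preimage_pr1_eq_image f n ⟨U, hU⟩
  change IsCompact ((PrinPart.pr1 f n ⁻¹ᵁ ⟨U, hU⟩ : (PrinPart.nbhd f n).Opens) : Set (PrinPart.nbhd f n))
  rw [this]
  exact hUc.image (PrinPart.toNbhd f n).continuous

set_option backward.isDefEq.respectTransparency.types false in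
instance quasiSeparated_pr1 : QuasiSeparated (PrinPart.pr1 f n) := by
  rw [HasAffineProperty.eq_targetAffineLocally (P := @QuasiSeparated)
    (Q := fun X _ _ _ => QuasiSeparatedSpace X)]
  intro U
  have h : IsQuasiSeparated ((PrinPart.pr1 f n ⁻¹ᵁ U.1 : (PrinPart.nbhd f n).Opens) : Set (PrinPart.nbhd f n)) := by
    rw [preimage_pr1_eq_image]
    exact (U.2.isQuasiSeparated).image_of_isEmbedding (isEmbedding_toNbhd f n)
  exact (isQuasiSeparated_iff_quasiSeparatedSpace _ (PrinPart.pr1 f n ⁻¹ᵁ U.1).2).mp h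

end aux

theorem isQuasicoherent_PMod {X S : Scheme.{u}} (f : X ⟶ S) (n : ℕ) (F : X.Modules)
    [F.IsQuasicoherent] : (PrinPart.PMod f n F).IsQuasicoherent := by
  haveI : ((Scheme.Modules.pullback (PrinPart.pr2 f n)).obj F).IsQuasicoherent := inferInstance
  exact Groth.Agent.Lib.H90OXModQcqs.isQuasicoherent_pushforward_of_qcqs (PrinPart.pr1 f n) _

end Groth.Agent.Lib.PrinPart81
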