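/-
helper81: the first projection of the n-th infinitesimal neighbourhood of the diagonal:
`isAffineHom_pr1` (always affine: homeomorphism), `isFinite_pr1` (finite when f is locally of finite type),
`isCoh_PMod` (P^n(F) coherent for F coherent, f locally of finite type).
-/
import Groth.Agent.Lib.PrinPart81
import Groth.Agent.Lib.FiniteThickening81
import Groth.Agent.Lib.SupportTensor
import Groth.Agent.Lib.H90OXModPushFinite

set_option autoImplicit false
set_option linter.style.haveILetI false
universe u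
open CategoryTheory CategoryTheory.Limits AlgebraicGeometry TopologicalSpace Opposite

namespace Groth.Agent.Lib.PrinPart81

instance isClosedImmersion_infNbhdι {X Y : Scheme.{u}} (i : Y ⟶ X) (n : ℕ) :
    IsClosedImmersion (PrinPart.infNbhdι i n) :=
  inferInstanceAs (IsClosedImmersion (i.ker ^ (n + 1)).subschemeι)

theorem pr1_eq {X S : Scheme.{u}} (f : X ⟶ S) (n : ℕ) :
    PrinPart.pr1 f n = PrinPart.infNbhdι (PrinPart.diagCl f) n ≫
      ((pullback.diagonal f).coborderRange.ι ≫ pullback.fst f f) := by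
  rw [PrinPart.pr1, PrinPart.nbhdι, Category.assoc]

theorem pr2_eq {X S : Scheme.{u}} (f : X ⟶ S) (n : ℕ) :
    PrinPart.pr2 f n = PrinPart.infNbhdι (PrinPart.diagCl f) n ≫
      ((pullback.diagonal f).coborderRange.ι ≫ pullback.snd f f) := by
  rw [PrinPart.pr2, PrinPart.nbhdι, Category.assoc]

theorem diagCl_fst {X S : Scheme.{u}} (f : X ⟶ S) :
    PrinPart.diagCl f ≫ ((pullback.diagonal f).coborderRange.ι ≫ pullback.fst f f) = 𝟙 X := by
  rw [← Category.assoc, Scheme.Hom.liftCoborder_ι, pullback.diagonal_fst]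

theorem diagCl_snd {X S : Scheme.{u}} (f : X ⟶ S) :
    PrinPart.diagCl f ≫ ((pullback.diagonal f).coborderRange.ι ≫ pullback.snd f f) = 𝟙 X := by
  rw [← Category.assoc, Scheme.Hom.liftCoborder_ι, pullback.diagonal_snd]

instance isAffineHom_pr1 {X S : Scheme.{u}} (f : X ⟶ S) (n : ℕ) : IsAffineHom (PrinPart.pr1 f n) := by
  apply isAffineHom_of_isInducing
  · have e2 : Function.LeftInverse (PrinPart.toNbhd f n) (PrinPart.pr1 f n) := by
      intro x
      obtain ⟨y, rfl⟩ := toNbhd_surjective f n x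
      rw [pr1_toNbhd_apply]
    exact (Function.LeftInverse.isEmbedding e2 (PrinPart.toNbhd f n).continuous
      (PrinPart.pr1 f n).continuous).isInducing
  · have : Set.range (PrinPart.pr1 f n) = Set.univ :=
      Set.range_eq_univ.mpr (fun y => ⟨PrinPart.toNbhd f n y, pr1_toNbhd_apply f n y⟩)
    rw [this]
    exact isClosed_univ

theorem isFinite_pr1 {X S : Scheme.{u}} (f : X ⟶ S) [LocallyOfFiniteType f] (n : ℕ) :
    IsFinite (PrinPart.pr1 f n) := by
  have := Groth.Agent.Lib.FiniteThickening81.finite_of_thickening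
    ((pullback.diagonal f).coborderRange.ι ≫ pullback.fst f f) (PrinPart.diagCl f) (diagCl_fst f)
    (PrinPart.infNbhdι (PrinPart.diagCl f) n) (PrinPart.toInfNbhd (PrinPart.diagCl f) n)
    (PrinPart.toInfNbhd_ι _ n) (PrinPart.toInfNbhd_surjective _ n) n
    (Scheme.IdealSheafData.ker_subschemeι _).ge
  rw [pr1_eq]
  exact this

theorem isCoh_PMod {X S : Scheme.{u}} (f : X ⟶ S) [LocallyOfFiniteType f] (n : ℕ)
    (F : X.Modules) (hF : Coh.IsCoh F) :
    Coh.IsCoh (PrinPart.PMod f n F) := by
  haveI := isFinite_pr1 f n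
  haveI : F.IsQuasicoherent := hF.1
  haveI : F.IsFiniteType := hF.2
  have h1 : Coh.IsCoh ((Scheme.Modules.pullback (PrinPart.pr2 f n)).obj F) :=
    ⟨Groth.Agent.Lib.H72PullbackQCoh.isQuasicoherent_pullback _ F,
      Groth.Agent.Lib.SupportTensor.isFiniteType_pullback _ F⟩
  exact Groth.Agent.Lib.H90OXModPushFinite.isCoh_pushforward (PrinPart.pr1 f n) _ h1

end Groth.Agent.Lib.PrinPart81
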