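/-
helper81: for f locally of finite presentation, pr1 : nbhd f n → X is locally of finite presentation
(`locallyOfFinitePresentation_pr1`) and P^n(F) is finitely presented for F finitely presented (`isFP_PMod`).
-/
import Groth.Agent.Lib.PrinPart81B
import Groth.Agent.Lib.SectionCharts81
import Groth.Agent.Lib.H90OXModPushFP
import Groth.Agent.Lib.Fitting82U

set_option autoImplicit false
set_option linter.style.haveILetI false
universe u
open CategoryTheory CategoryTheory.Limits AlgebraicGeometry TopologicalSpace Opposite

namespace Groth.Agent.Lib.PrinPart81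

open Groth.Agent.Lib.SectionCharts81

theorem locallyOfFinitePresentation_diagCl {X S : Scheme.{u}} (f : X ⟶ S)
    [LocallyOfFinitePresentation f] : LocallyOfFinitePresentation (PrinPart.diagCl f) :=
  locallyOfFinitePresentation_of_section
    ((pullback.diagonal f).coborderRange.ι ≫ pullback.fst f f) (PrinPart.diagCl f) (diagCl_fst f)

theorem locallyOfFinitePresentation_pr1 {X S : Scheme.{u}} (f : X ⟶ S)
    [LocallyOfFinitePresentation f] (n : ℕ) : LocallyOfFinitePresentation (PrinPart.pr1 f n) := by
  haveI := locallyOfFinitePresentation_diagCl f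
  rw [pr1_eq]
  infer_instance

set_option backward.isDefEq.respectTransparency false in
theorem isFP_PMod {X S : Scheme.{u}} (f : X ⟶ S) [LocallyOfFinitePresentation f] (n : ℕ)
    (F : X.Modules) (hF : CohB1.IsFP F) :
    CohB1.IsFP (PrinPart.PMod f n F) := by
  haveI := locallyOfFinitePresentation_pr1 f n
  haveI : LocallyOfFiniteType f := inferInstance
  haveI := isFinite_pr1 f n
  haveI : SheafOfModules.IsFinitePresentation (R := X.ringCatSheaf) F := hF
  haveI : F.IsQuasicoherent := inferInstance
  haveI : ((Scheme.Modules.pullback (PrinPart.pr2 f n)).obj F).IsQuasicoherent :=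
    Groth.Agent.Lib.H72PullbackQCoh.isQuasicoherent_pullback _ F
  have h1 : CohB1.IsFP ((Scheme.Modules.pullback (PrinPart.pr2 f n)).obj F) :=
    Groth.Agent.Lib.Fitting82.isFinitePresentation_pullback _ F
  exact (Groth.Agent.Lib.H90OXModPushFP.isFP_pushforward_iff (PrinPart.pr1 f n) _).mp h1

end Groth.Agent.Lib.PrinPart81
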