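/-
helper81: chart description of the n-th infinitesimal neighbourhood of the diagonal.
For affine `V ≤ f⁻¹U`, `U` affine: `WW_le_coborderRange` (V ×_U V lies in the coborder of the diagonal),
`app_thickening` (abstract: functions on a thickening inside an open), `chart_rho`,
`chartPhi : Γ(X,V) ⊗[Γ(S,U)] Γ(X,V) →+* Γ(nbhd f n, pr1⁻¹V)` with `chartPhi_tmul` (a ⊗ b ↦ pr1♯a · pr2♯b),
`chartPhi_surjective`, `ker_chartPhi` (= (KaehlerDifferential.ideal)^(n+1)).
-/
import Groth.Agent.Lib.PrinPart81C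
import Groth.Agent.Lib.H77OmegaSections
import Groth.Agent.Lib.Conormal81F

set_option autoImplicit false
set_option linter.style.haveILetI false
set_option linter.unusedSectionVars false
universe u

open CategoryTheory CategoryTheory.Limits AlgebraicGeometry TopologicalSpace Opposite TensorProduct

namespace Groth.Agent.Lib.PrinPart81

open Groth.Agent.Lib.H77OmegaSections

/-- an open set in which `s` is relatively closed lies in the coborder of `s` -/
theorem subset_coborder_of_isClosed_inter {T : Type*} [TopologicalSpace T] (s W : Set T)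
    (hW : IsOpen W) (C : Set T) (hC : IsClosed C) (h : s ∩ W = C ∩ W) : W ⊆ coborder s := by
  intro p hp
  rw [coborder_eq_union_closure_compl]
  by_cases hps : p ∈ closure s
  · left
    have h1 : p ∈ closure (W ∩ s) := hW.inter_closure ⟨hp, hps⟩
    have h2 : closure (W ∩ s) ⊆ C := by
      apply closure_minimal _ hC
      rw [Set.inter_comm, h]
      exact Set.inter_subset_left
    have h3 : p ∈ s ∩ W := by rw [h]; exact ⟨h2 h1, hp⟩
    exact h3.1
  · right; exact hps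

section

variable {X S : Scheme.{u}} (f : X ⟶ S) {U : S.Opens} {V : X.Opens}

theorem diag_appLE_surjective :
    Function.Surjective ((pullback.diagonal f).appLE (WW f V) V (le_diag_preimage f)).hom := by
  intro b
  refine ⟨((pullback.fst f f).appLE V (WW f V) (WW_le_fst f V)).hom b, ?_⟩
  have h1 : (pullback.fst f f).appLE V (WW f V) (WW_le_fst f V) ≫
      (pullback.diagonal f).appLE (WW f V) V (le_diag_preimage f) =
      (pullback.diagonal f ≫ pullback.fst f f).appLE V V (by simp) :=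
    Scheme.Hom.appLE_comp_appLE _ _ _ _ _ _ _
  have h2 := congr($h1 b)
  simp only [pullback.diagonal_fst] at h2
  rw [CommRingCat.comp_apply] at h2
  rw [h2, id_appLE_apply]

include U in
theorem WW_le_coborderRange (hU : IsAffineOpen U) (hV : IsAffineOpen V) (e : V ≤ f ⁻¹ᵁ U) :
    WW f V ≤ (pullback.diagonal f).coborderRange := by
  have hWW : IsAffineOpen (WW f V) := isAffineOpen_WW f e hU hV
  let g : V.toScheme ⟶ (WW f V).toScheme :=
    (pullback.diagonal f).resLE (WW f V) V (le_diag_preimage f)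
  haveI : IsAffine V.toScheme := hV
  haveI : IsAffine (WW f V).toScheme := hWW
  haveI : IsClosedImmersion g := by
    apply IsClosedImmersion.of_surjective_of_isAffine
    let α := arrowResLEAppIso (pullback.diagonal f) (WW f V) V (le_diag_preimage f)
    intro b
    obtain ⟨a, ha⟩ := diag_appLE_surjective f (V := V) (α.hom.right.hom b)
    refine ⟨α.inv.left.hom a, ?_⟩
    have hw := α.inv.w
    have h1 := congr($hw a)
    simp only [Arrow.mk_hom, CommRingCat.comp_apply] at h1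
    change (g.appTop).hom (α.inv.left.hom a) = b
    rw [h1, ha]
    have h2 : α.hom.right ≫ α.inv.right = 𝟙 _ := by
      rw [← Arrow.comp_right, Iso.hom_inv_id]; rfl
    exact congr($h2 b)
  have hcl : IsClosed (Set.range g) := g.isClosedEmbedding.isClosed_range
  obtain ⟨C, hC, hCg⟩ := isClosed_induced_iff.mp hcl
  apply subset_coborder_of_isClosed_inter _ _ (WW f V).2 C hC
  ext p
  constructor
  · rintro ⟨⟨x, rfl⟩, hp⟩
    have hx : x ∈ V := by
      have : x ∈ (pullback.diagonal f) ⁻¹ᵁ (WW f V) := hp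
      rwa [diag_preimage_WW] at this
    refine ⟨?_, hp⟩
    have h1 : g ⟨x, hx⟩ ∈ Set.range g := ⟨_, rfl⟩
    rw [← hCg] at h1
    have h2 : (g ⟨x, hx⟩).1 = pullback.diagonal f x :=
      Scheme.Hom.coe_resLE_apply _ _ _
    rw [← h2]
    exact h1
  · rintro ⟨hpC, hp⟩
    refine ⟨?_, hp⟩
    have h1 : (⟨p, hp⟩ : (WW f V)) ∈ Set.range g := by rw [← hCg]; exact hpC
    obtain ⟨x, hx⟩ := h1
    refine ⟨x.1, ?_⟩
    have h2 : (g x).1 = pullback.diagonal f x.1 :=
      Scheme.Hom.coe_resLE_apply _ _ _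
    rw [← h2, hx]

end

theorem comap_pow_of_bijective {R R' : Type*} [CommRing R] [CommRing R'] (φ : R →+* R')
    (hφ : Function.Bijective φ) (K : Ideal R') (m : ℕ) :
    (K ^ m).comap φ = (K.comap φ) ^ m := by
  have h1 : K = (K.comap φ).map φ := (Ideal.map_comap_of_surjective φ hφ.2 K).symm
  conv_lhs => rw [h1, ← Ideal.map_pow]
  exact Ideal.comap_map_of_bijective φ hφ

theorem ker_app_congr {X Y : Scheme.{u}} {f g : X ⟶ Y} (h : f = g) (O : Y.Opens) :
    RingHom.ker (f.app O).hom = RingHom.ker (g.app O).hom := by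
  subst h; rfl

theorem app_thickening {X P N : Scheme.{u}} (C : P.Opens)
    (iC : X ⟶ C.toScheme) [QuasiCompact iC]
    (ιC : N ⟶ C.toScheme) [IsClosedImmersion ιC] (n : ℕ) (hker : ιC.ker = iC.ker ^ (n + 1))
    (O : P.Opens) (hO : IsAffineOpen O) (hOC : O ≤ C) :
    Function.Surjective ((ιC ≫ C.ι).app O).hom ∧
      RingHom.ker ((ιC ≫ C.ι).app O).hom = (RingHom.ker ((iC ≫ C.ι).app O).hom) ^ (n + 1) := by
  have hOr : O ≤ C.ι.opensRange := by rw [Scheme.Opens.opensRange_ι]; exact hOC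
  have hO' : IsAffineOpen (C.ι ⁻¹ᵁ O) := hO.preimage_of_isOpenImmersion C.ι hOr
  haveI hiso : IsIso (C.ι.app O) := Scheme.Hom.isIso_app C.ι O hOr
  have hbij : Function.Bijective (C.ι.app O).hom := (ConcreteCategory.isIso_iff_bijective _).mp hiso
  have hsurj : Function.Surjective (ιC.app (C.ι ⁻¹ᵁ O)).hom := ιC.app_surjective _ hO'
  have hk : RingHom.ker (ιC.app (C.ι ⁻¹ᵁ O)).hom =
      (RingHom.ker (iC.app (C.ι ⁻¹ᵁ O)).hom) ^ (n + 1) := by
    rw [← Scheme.Hom.ker_apply ιC ⟨_, hO'⟩, hker, ← Scheme.Hom.ker_apply iC ⟨_, hO'⟩]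
    rfl
  have e1 : ∀ a, ((ιC ≫ C.ι).app O).hom a =
      (ιC.app (C.ι ⁻¹ᵁ O)).hom ((C.ι.app O).hom a) := fun a => by
    rw [Scheme.Hom.comp_app]; rfl
  have e2 : ∀ a, ((iC ≫ C.ι).app O).hom a =
      (iC.app (C.ι ⁻¹ᵁ O)).hom ((C.ι.app O).hom a) := fun a => by
    rw [Scheme.Hom.comp_app]; rfl
  have h4 : (RingHom.ker (iC.app (C.ι ⁻¹ᵁ O)).hom).comap (C.ι.app O).hom =
      RingHom.ker ((iC ≫ C.ι).app O).hom := by
    ext b
    rw [Ideal.mem_comap, RingHom.mem_ker, RingHom.mem_ker, e2]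
    exact Iff.rfl
  constructor
  · intro c
    obtain ⟨b, hb⟩ := hsurj c
    obtain ⟨a, rfl⟩ := hbij.2 b
    exact ⟨a, (e1 a).trans hb⟩
  · rw [← h4, ← comap_pow_of_bijective _ hbij, ← hk]
    ext a
    rw [Ideal.mem_comap, RingHom.mem_ker, RingHom.mem_ker, e1]
    exact Iff.rfl


section chart

variable {X S : Scheme.{u}} (f : X ⟶ S) {U : S.Opens} {V : X.Opens} (n : ℕ)

theorem nbhdι_preimage_WW :
    (PrinPart.nbhdι f n) ⁻¹ᵁ (WW f V) = PrinPart.pr1 f n ⁻¹ᵁ V := by
  unfold WW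
  rw [Scheme.Hom.preimage_inf, ← Scheme.Hom.comp_preimage, ← Scheme.Hom.comp_preimage]
  change PrinPart.pr1 f n ⁻¹ᵁ V ⊓ PrinPart.pr2 f n ⁻¹ᵁ V = _
  rw [← PrinPart.preimage_pr1, inf_idem]

include U in
/-- the ring of functions of the `n`-th neighbourhood of the diagonal over a chart is the quotient of
`Γ(X ×_S X, V ×_U V)` by the `(n+1)`-st power of the diagonal ideal -/
theorem chart_rho (hU : IsAffineOpen U) (hV : IsAffineOpen V) (e : V ≤ f ⁻¹ᵁ U) :
    Function.Surjective ((PrinPart.nbhdι f n).appLE (WW f V) (PrinPart.pr1 f n ⁻¹ᵁ V)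
        (nbhdι_preimage_WW f n).ge).hom ∧
      RingHom.ker ((PrinPart.nbhdι f n).appLE (WW f V) (PrinPart.pr1 f n ⁻¹ᵁ V)
        (nbhdι_preimage_WW f n).ge).hom =
      (RingHom.ker ((pullback.diagonal f).appLE (WW f V) V (le_diag_preimage f)).hom) ^ (n + 1) := by
  have hWW : IsAffineOpen (WW f V) := isAffineOpen_WW f e hU hV
  have hker : (PrinPart.infNbhdι (PrinPart.diagCl f) n).ker = (PrinPart.diagCl f).ker ^ (n + 1) :=
    Scheme.IdealSheafData.ker_subschemeι _
  obtain ⟨h1, h2⟩ := app_thickening (pullback.diagonal f).coborderRange (PrinPart.diagCl f)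
    (PrinPart.infNbhdι (PrinPart.diagCl f) n) n hker (WW f V) hWW (WW_le_coborderRange f hU hV e)
  have e1 : PrinPart.infNbhdι (PrinPart.diagCl f) n ≫ (pullback.diagonal f).coborderRange.ι =
      PrinPart.nbhdι f n := rfl
  have e2 : PrinPart.diagCl f ≫ (pullback.diagonal f).coborderRange.ι = pullback.diagonal f :=
    Scheme.Hom.liftCoborder_ι _
  rw [e1] at h1 h2
  rw [ker_app_congr e2] at h2
  constructor
  · exact Groth.Agent.Lib.Conormal81.appLE_surjective_of_eq _ h1 (nbhdι_preimage_WW f n)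
  · rw [ker_appLE_eq _ (nbhdι_preimage_WW f n), ker_appLE_eq _ (diag_preimage_WW f V), h2]

end chart


section Phi

variable {X S : Scheme.{u}} (f : X ⟶ S) {U : S.Opens} {V : X.Opens} (n : ℕ)
  (hU : IsAffineOpen U) (hV : IsAffineOpen V) (e : V ≤ f ⁻¹ᵁ U)

theorem pr2_le : PrinPart.pr1 f n ⁻¹ᵁ V ≤ PrinPart.pr2 f n ⁻¹ᵁ V := (PrinPart.preimage_pr1 f n V).le

/-- the chart map `B ⊗_A B → Γ(N, pr1⁻¹V)` -/
noncomputable def chartPhi :
    letI := (f.appLE U V e).hom.toAlgebra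
    Γ(X, V) ⊗[Γ(S, U)] Γ(X, V) →+* Γ(PrinPart.nbhd f n, PrinPart.pr1 f n ⁻¹ᵁ V) :=
  letI := (f.appLE U V e).hom.toAlgebra
  ((betaIso f e hU hV).hom ≫
    (PrinPart.nbhdι f n).appLE (WW f V) _ (nbhdι_preimage_WW f n).ge).hom

theorem chartPhi_apply (x) :
    letI := (f.appLE U V e).hom.toAlgebra
    chartPhi f n hU hV e x = ((PrinPart.nbhdι f n).appLE (WW f V) _ (nbhdι_preimage_WW f n).ge).hom
      ((betaIso f e hU hV).hom.hom x) := rfl

theorem betaIso_tmul (a b : Γ(X, V)) :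
    letI := (f.appLE U V e).hom.toAlgebra
    (betaIso f e hU hV).hom.hom (a ⊗ₜ[Γ(S, U)] b) =
      ((pullback.fst f f).appLE V (WW f V) (WW_le_fst f V)).hom a *
        ((pullback.snd f f).appLE V (WW f V) (WW_le_snd f V)).hom b := by
  letI := (f.appLE U V e).hom.toAlgebra
  have h1 := IsPushout.inl_isoIsPushout_hom _ _
    (CommRingCat.isPushout_tensorProduct Γ(S, U) Γ(X, V) Γ(X, V)) (isPushout_WW f e hU hV)
  have h2 := IsPushout.inr_isoIsPushout_hom _ _
    (CommRingCat.isPushout_tensorProduct Γ(S, U) Γ(X, V) Γ(X, V)) (isPushout_WW f e hU hV)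
  have h1' := congr($h1 a)
  have h2' := congr($h2 b)
  have e3 : a ⊗ₜ[Γ(S, U)] b = (a ⊗ₜ[Γ(S, U)] (1 : Γ(X, V))) * ((1 : Γ(X, V)) ⊗ₜ[Γ(S, U)] b) := by
    rw [Algebra.TensorProduct.tmul_mul_tmul, mul_one, one_mul]
  rw [e3, map_mul]
  congr 1


theorem nbhdι_appLE_fst (a : Γ(X, V)) :
    ((PrinPart.nbhdι f n).appLE (WW f V) _ (nbhdι_preimage_WW f n).ge).hom
      (((pullback.fst f f).appLE V (WW f V) (WW_le_fst f V)).hom a) =
      ((PrinPart.pr1 f n).app V).hom a := by
  have h1 : (pullback.fst f f).appLE V (WW f V) (WW_le_fst f V) ≫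
      (PrinPart.nbhdι f n).appLE (WW f V) (PrinPart.pr1 f n ⁻¹ᵁ V) (nbhdι_preimage_WW f n).ge =
      (PrinPart.nbhdι f n ≫ pullback.fst f f).appLE V (PrinPart.pr1 f n ⁻¹ᵁ V) le_rfl :=
    Scheme.Hom.appLE_comp_appLE _ _ _ _ _ _ _
  have h2 := congr($h1 a)
  rw [CommRingCat.comp_apply] at h2
  rw [h2]
  change ((PrinPart.pr1 f n).appLE V (PrinPart.pr1 f n ⁻¹ᵁ V) le_rfl).hom a = _
  rw [Scheme.Hom.appLE_eq_app]

theorem nbhdι_appLE_snd (b : Γ(X, V)) :
    ((PrinPart.nbhdι f n).appLE (WW f V) _ (nbhdι_preimage_WW f n).ge).hom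
      (((pullback.snd f f).appLE V (WW f V) (WW_le_snd f V)).hom b) =
      ((PrinPart.pr2 f n).appLE V (PrinPart.pr1 f n ⁻¹ᵁ V) (pr2_le f n)).hom b := by
  have h1 : (pullback.snd f f).appLE V (WW f V) (WW_le_snd f V) ≫
      (PrinPart.nbhdι f n).appLE (WW f V) (PrinPart.pr1 f n ⁻¹ᵁ V) (nbhdι_preimage_WW f n).ge =
      (PrinPart.nbhdι f n ≫ pullback.snd f f).appLE V (PrinPart.pr1 f n ⁻¹ᵁ V) (pr2_le f n) :=
    Scheme.Hom.appLE_comp_appLE _ _ _ _ _ _ _
  have h2 := congr($h1 b)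
  rw [CommRingCat.comp_apply] at h2
  rw [h2]
  rfl

theorem chartPhi_tmul (a b : Γ(X, V)) :
    letI := (f.appLE U V e).hom.toAlgebra
    chartPhi f n hU hV e (a ⊗ₜ[Γ(S, U)] b) = ((PrinPart.pr1 f n).app V).hom a *
      ((PrinPart.pr2 f n).appLE V (PrinPart.pr1 f n ⁻¹ᵁ V) (pr2_le f n)).hom b := by
  letI := (f.appLE U V e).hom.toAlgebra
  rw [chartPhi_apply, betaIso_tmul, map_mul, nbhdι_appLE_fst, nbhdι_appLE_snd]

theorem chartPhi_surjective :
    letI := (f.appLE U V e).hom.toAlgebra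
    Function.Surjective (chartPhi f n hU hV e) := by
  letI := (f.appLE U V e).hom.toAlgebra
  intro c
  obtain ⟨r, hr⟩ := (chart_rho f n hU hV e).1 c
  have hb : Function.Bijective (betaIso f e hU hV).hom.hom :=
    (ConcreteCategory.isIso_iff_bijective _).mp inferInstance
  obtain ⟨x, rfl⟩ := hb.2 r
  exact ⟨x, hr⟩

theorem ker_chartPhi :
    letI := (f.appLE U V e).hom.toAlgebra
    RingHom.ker (chartPhi f n hU hV e) =
      (KaehlerDifferential.ideal Γ(S, U) Γ(X, V)) ^ (n + 1) := by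
  letI := (f.appLE U V e).hom.toAlgebra
  have hb : Function.Bijective (betaIso f e hU hV).hom.hom :=
    (ConcreteCategory.isIso_iff_bijective _).mp inferInstance
  have h1 : RingHom.ker (chartPhi f n hU hV e) =
      (RingHom.ker ((PrinPart.nbhdι f n).appLE (WW f V) (PrinPart.pr1 f n ⁻¹ᵁ V)
        (nbhdι_preimage_WW f n).ge).hom).comap (betaIso f e hU hV).hom.hom := by
    ext x
    rw [Ideal.mem_comap, RingHom.mem_ker, RingHom.mem_ker, chartPhi_apply]
  have h2 : KaehlerDifferential.ideal Γ(S, U) Γ(X, V) =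
      (RingHom.ker ((pullback.diagonal f).appLE (WW f V) V (le_diag_preimage f)).hom).comap
        (betaIso f e hU hV).hom.hom := by
    have hc := betaIso_comm f e hU hV
    ext x
    rw [Ideal.mem_comap, RingHom.mem_ker, RingHom.mem_ker]
    have hx := congr($hc x)
    rw [CommRingCat.comp_apply] at hx
    rw [hx]
    rfl
  rw [h1, (chart_rho f n hU hV e).2, comap_pow_of_bijective _ hb, ← h2]

end Phi

end Groth.Agent.Lib.PrinPart81
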