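/-
helper81: module-level chart description of principal parts `P^n_{X/S}`.
`eSec` (= d^n 1), `dn_eq_smul` (d^n b = pr2♯ b • d^n 1), `smul_P`, `smul_eSec_bijective` (over affine V, P^n(V) is free of
rank one over Γ(nbhd, pr1⁻¹V)), `smul_dn_eq` (a • d^n b = Φ(a ⊗ b) • d^n 1), `span_dn_eq_top` (generation by d^n b),
`epi_of_isPMap` (canonical maps of principal parts are epi when u♯ is locally surjective).
-/
import Groth.Agent.Lib.PrinPart81D
import Groth.Agent.Lib.StructureModule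
import Groth.Agent.Lib.UnitBaseChange
import Groth.Agent.Lib.IdealMod

set_option autoImplicit false
set_option linter.style.haveILetI false
set_option linter.unusedSectionVars false
universe u

open CategoryTheory CategoryTheory.Limits AlgebraicGeometry TopologicalSpace Opposite TensorProduct

namespace Groth.Agent.Lib.PrinPart81

open Groth.Agent.Lib.H77OmegaSections Groth.Agent.Lib.UnitBaseChange Groth.Agent.Lib.QCohStalk

section modlevel

variable {X S : Scheme.{u}} (f : X ⟶ S) (n : ℕ) (V : X.Opens)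

/-- `pr2^* O_X` -/
noncomputable abbrev PO : (PrinPart.nbhd f n).Modules :=
  (Scheme.Modules.pullback (PrinPart.pr2 f n)).obj (Coh.structureModule X)

/-- the unit section `d^n 1` over `V` -/
noncomputable def eSec : Γ(PO f n, PrinPart.pr1 f n ⁻¹ᵁ V) :=
  unitSecFun (PrinPart.pr2 f n) (Coh.structureModule X) (pr2_le f n) (OmegaSh.strSect X V 1)

theorem dn_eq (b : Γ(X, V)) :
    (show Γ(PO f n, PrinPart.pr1 f n ⁻¹ᵁ V) from PrinPart.dn f n V b) =
      unitSecFun (PrinPart.pr2 f n) (Coh.structureModule X) (pr2_le f n) (OmegaSh.strSect X V b) :=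
  rfl

theorem dn_eq_smul (b : Γ(X, V)) :
    (show Γ(PO f n, PrinPart.pr1 f n ⁻¹ᵁ V) from PrinPart.dn f n V b) =
      ((PrinPart.pr2 f n).appLE V (PrinPart.pr1 f n ⁻¹ᵁ V) (pr2_le f n)).hom b • eSec f n V := by
  rw [dn_eq, eSec, ← unitSecFun_smul]
  congr 1
  change b = b * 1
  rw [mul_one]

theorem smul_P (a : Γ(X, V)) (m : Γ(PrinPart.P f n, V)) :
    (show Γ(PO f n, PrinPart.pr1 f n ⁻¹ᵁ V) from a • m) =
      ((PrinPart.pr1 f n).app V).hom a • (show Γ(PO f n, PrinPart.pr1 f n ⁻¹ᵁ V) from m) :=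
  rfl


variable {V}

set_option backward.isDefEq.respectTransparency false in
/-- over an affine open, `pr2^*O_X` is free of rank one over the functions of the neighbourhood, on `d^n 1` -/
theorem smul_eSec_bijective (hV : IsAffineOpen V) :
    Function.Bijective (fun c : Γ(PrinPart.nbhd f n, PrinPart.pr1 f n ⁻¹ᵁ V) => c • eSec f n V) := by
  have hW : IsAffineOpen (PrinPart.pr1 f n ⁻¹ᵁ V) := hV.preimage (PrinPart.pr1 f n)
  haveI : (Coh.structureModule X).IsQuasicoherent :=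
    Groth.Agent.Lib.StructureModule.isQuasicoherent_structureModule X
  letI : Algebra Γ(X, V) Γ(PrinPart.nbhd f n, PrinPart.pr1 f n ⁻¹ᵁ V) :=
    ((PrinPart.pr2 f n).appLE V _ (pr2_le f n)).hom.toAlgebra
  letI : Module Γ(X, V) Γ(PO f n, PrinPart.pr1 f n ⁻¹ᵁ V) :=
    Module.compHom _ ((PrinPart.pr2 f n).appLE V _ (pr2_le f n)).hom
  haveI : IsScalarTower Γ(X, V) Γ(PrinPart.nbhd f n, PrinPart.pr1 f n ⁻¹ᵁ V)
      Γ(PO f n, PrinPart.pr1 f n ⁻¹ᵁ V) := .of_algebraMap_smul fun _ _ => rfl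
  have hbc : IsBaseChange Γ(PrinPart.nbhd f n, PrinPart.pr1 f n ⁻¹ᵁ V)
      (unitSec (PrinPart.pr2 f n) (Coh.structureModule X) (pr2_le f n (V := V))) :=
    isBaseChange_unitSec (PrinPart.pr2 f n) (Coh.structureModule X) hW hV (pr2_le f n)
  -- `Γ(O_X, V)` is `Γ(X, V)` itself
  let ε : Γ(X, V) ≃ₗ[Γ(X, V)] Γ(Coh.structureModule X, V) :=
    { toFun := fun b => OmegaSh.strSect X V b
      invFun := fun t => OmegaSh.fnSect X V t
      left_inv := fun _ => rfl
      right_inv := fun _ => rfl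
      map_add' := fun _ _ => rfl
      map_smul' := fun _ _ => rfl }
  have hbc' : IsBaseChange Γ(PrinPart.nbhd f n, PrinPart.pr1 f n ⁻¹ᵁ V)
      ((unitSec (PrinPart.pr2 f n) (Coh.structureModule X) (pr2_le f n (V := V))) ∘ₗ
        ε.toLinearMap) :=
    isBaseChange_of_equivs _ hbc ε (LinearEquiv.refl _ _) _ (fun _ => rfl)
  have hfun : (fun c : Γ(PrinPart.nbhd f n, PrinPart.pr1 f n ⁻¹ᵁ V) => c • eSec f n V) =
      fun c => hbc'.equiv ((TensorProduct.rid Γ(X, V)
        Γ(PrinPart.nbhd f n, PrinPart.pr1 f n ⁻¹ᵁ V)).symm c) := by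
    funext c
    rw [TensorProduct.rid_symm_apply, IsBaseChange.equiv_tmul]
    rfl
  rw [hfun]
  exact hbc'.equiv.bijective.comp (TensorProduct.rid Γ(X, V)
    Γ(PrinPart.nbhd f n, PrinPart.pr1 f n ⁻¹ᵁ V)).symm.bijective


variable {U : S.Opens}

/-- `a • d^n b` in terms of the chart map -/
theorem smul_dn_eq (hU : IsAffineOpen U) (hV : IsAffineOpen V) (e : V ≤ f ⁻¹ᵁ U) (a b : Γ(X, V)) :
    letI := (f.appLE U V e).hom.toAlgebra
    (show Γ(PO f n, PrinPart.pr1 f n ⁻¹ᵁ V) from a • PrinPart.dn f n V b) =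
      chartPhi f n hU hV e (a ⊗ₜ[Γ(S, U)] b) • eSec f n V := by
  letI := (f.appLE U V e).hom.toAlgebra
  rw [smul_P, dn_eq_smul, chartPhi_tmul, mul_smul]

/-- **generation**: over an affine open `V` lying over an affine open of `S`, the module of principal
parts `P^n_{X/S}` is generated by the `d^n b`. -/
theorem span_dn_eq_top (hU : IsAffineOpen U) (hV : IsAffineOpen V) (e : V ≤ f ⁻¹ᵁ U) :
    Submodule.span Γ(X, V) (Set.range (PrinPart.dn f n V)) = ⊤ := by
  letI := (f.appLE U V e).hom.toAlgebra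
  rw [eq_top_iff]
  rintro m -
  obtain ⟨c, hc⟩ := (smul_eSec_bijective f n hV).2 (show Γ(PO f n, PrinPart.pr1 f n ⁻¹ᵁ V) from m)
  obtain ⟨x, rfl⟩ := chartPhi_surjective f n hU hV e c
  have key : ∀ x : Γ(X, V) ⊗[Γ(S, U)] Γ(X, V),
      (show Γ(PrinPart.P f n, V) from chartPhi f n hU hV e x • eSec f n V) ∈
        Submodule.span Γ(X, V) (Set.range (PrinPart.dn f n V)) := by
    intro x
    induction x using TensorProduct.induction_on with
    | zero =>
      rw [map_zero, zero_smul]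
      exact zero_mem _
    | tmul a b =>
      rw [← smul_dn_eq f n hU hV e a b]
      exact Submodule.smul_mem _ _ (Submodule.subset_span ⟨b, rfl⟩)
    | add x y hx hy =>
      rw [map_add, add_smul]
      exact add_mem hx hy
  have := key x
  rw [← hc]
  exact this

end modlevel


section epi

variable {X S X' S' : Scheme.{u}} (f : X ⟶ S) (f' : X' ⟶ S') (u : X' ⟶ X) (n : ℕ)
  (φ : (Scheme.Modules.pullback u).obj (PrinPart.P f n) ⟶ PrinPart.P f' n)

include f in
/-- the canonical map of principal parts is an epimorphism as soon as `u♯` is locally surjective -/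
theorem epi_of_isPMap (hφ : PrinPart.IsPMap f f' u n φ)
    (h : ∀ (x' : X') (O : X'.Opens), x' ∈ O → ∃ (V : X.Opens) (U' : S'.Opens),
      IsAffineOpen U' ∧ IsAffineOpen (u ⁻¹ᵁ V) ∧ u ⁻¹ᵁ V ≤ f' ⁻¹ᵁ U' ∧ x' ∈ u ⁻¹ᵁ V ∧ u ⁻¹ᵁ V ≤ O ∧
        Function.Surjective (u.app V).hom) : Epi φ := by
  refine Groth.Agent.Lib.Conormal81.epi_of_locally_surjective' φ fun O s x' hx' => ?_
  obtain ⟨V, U', hU', hV', hle, hxV, hVO, hsurj⟩ := h x' O hx'
  refine ⟨u ⁻¹ᵁ V, hVO, hxV, ?_⟩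
  obtain ⟨s', hs'⟩ : ∃ s' : Γ(PrinPart.P f' n, u ⁻¹ᵁ V),
      s' = (PrinPart.P f' n).presheaf.map (homOfLE hVO).op s := ⟨_, rfl⟩
  rw [← hs']
  have hs : s' ∈
      Submodule.span Γ(X', u ⁻¹ᵁ V) (Set.range (PrinPart.dn f' n (u ⁻¹ᵁ V))) := by
    rw [span_dn_eq_top f' n hU' hV' hle]; trivial
  clear hs'
  induction hs using Submodule.span_induction with
  | mem m hm =>
    obtain ⟨b', rfl⟩ := hm
    obtain ⟨b, rfl⟩ := hsurj b'
    exact ⟨_, hφ V b⟩
  | zero => exact ⟨0, map_zero _⟩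
  | add a b _ _ ha hb =>
    obtain ⟨ta, hta⟩ := ha
    obtain ⟨tb, htb⟩ := hb
    exact ⟨ta + tb, by rw [map_add, hta, htb]⟩
  | smul r a _ ha =>
    obtain ⟨ta, hta⟩ := ha
    exact ⟨r • ta, by rw [Scheme.Modules.Hom.app_smul, hta]⟩

end epi

end Groth.Agent.Lib.PrinPart81
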