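/-
helper81: canonical maps of principal parts are epimorphisms: change of base `P^n_{X/Z} → P^n_{X/Y}` (S5981)
and restriction to a closed subscheme `j^*P^n_{Y/Z} → P^n_{X/Z}` (S5977).
-/
import Groth.Agent.Lib.PrinPart81E

set_option autoImplicit false
universe u
open CategoryTheory CategoryTheory.Limits AlgebraicGeometry TopologicalSpace Opposite

namespace Groth.Agent.Lib.PrinPart81

theorem epi_PMap_id {X Y Z : Scheme.{u}} (f : X ⟶ Y) (g : Y ⟶ Z) (n : ℕ)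
    (φ : (Scheme.Modules.pullback (𝟙 X)).obj (PrinPart.P (f ≫ g) n) ⟶ PrinPart.P f n)
    (hφ : PrinPart.IsPMap (f ≫ g) f (𝟙 X) n φ) :
    Epi φ := by
  refine epi_of_isPMap (f ≫ g) f (𝟙 X) n φ hφ fun x O hx => ?_
  obtain ⟨_, ⟨U', hU', rfl⟩, hxU', -⟩ :=
    Y.isBasis_affineOpens.exists_subset_of_mem_open (Set.mem_univ (f x)) isOpen_univ
  obtain ⟨_, ⟨V, hV, rfl⟩, hxV, hVle⟩ :=
    X.isBasis_affineOpens.exists_subset_of_mem_open (show x ∈ O ⊓ f ⁻¹ᵁ U' from ⟨hx, hxU'⟩)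
      (O ⊓ f ⁻¹ᵁ U').isOpen
  refine ⟨V, U', hU', hV, hVle.trans inf_le_right, hxV, hVle.trans inf_le_left, ?_⟩
  intro b
  exact ⟨b, by simp; rfl⟩

theorem epi_PMap_closedImmersion {X Y Z : Scheme.{u}} (f : Y ⟶ Z) (j : X ⟶ Y) [IsClosedImmersion j] (n : ℕ)
    (φ : (Scheme.Modules.pullback j).obj (PrinPart.P f n) ⟶ PrinPart.P (j ≫ f) n)
    (hφ : PrinPart.IsPMap f (j ≫ f) j n φ) :
    Epi φ := by
  refine epi_of_isPMap f (j ≫ f) j n φ hφ fun x O hx => ?_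
  obtain ⟨_, ⟨U', hU', rfl⟩, hxU', -⟩ :=
    Z.isBasis_affineOpens.exists_subset_of_mem_open (Set.mem_univ (f (j x))) isOpen_univ
  obtain ⟨t, ht, hte⟩ := j.isEmbedding.isInducing.isOpen_iff.mp O.2
  have hx1 : j x ∈ (⟨t, ht⟩ : Y.Opens) ⊓ f ⁻¹ᵁ U' := by
    refine ⟨?_, hxU'⟩
    change x ∈ j ⁻¹' t
    rw [hte]; exact hx
  obtain ⟨_, ⟨V, hV, rfl⟩, hxV, hVle⟩ :=
    Y.isBasis_affineOpens.exists_subset_of_mem_open hx1 ((⟨t, ht⟩ : Y.Opens) ⊓ f ⁻¹ᵁ U').isOpen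
  refine ⟨V, U', hU', hV.preimage j, ?_, hxV, ?_, j.app_surjective V hV⟩
  · intro y hy
    exact (hVle hy).2
  · intro y hy
    have : y ∈ j ⁻¹' t := (hVle hy).1
    rw [hte] at this
    exact this

end Groth.Agent.Lib.PrinPart81
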