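/-
helper81: chart description of principal parts for a presentation `A → B` of `Γ(S,U) → Γ(X,V)`:
`betaIso'`, `chartPhi'` (tmul formula, surjective, kernel = I^(n+1)), `smul_dn_eq'`, `psi_surjective_ker`
(the additive map b ⊗ b' ↦ γb • d^n(γb') : B ⊗_A B → Γ(P^n, V) is surjective with kernel I^(n+1)); used for S5972.
-/
import Groth.Agent.Lib.PrinPart81E

set_option autoImplicit false
set_option linter.style.haveILetI false
set_option linter.unusedSectionVars false
universe u

open CategoryTheory CategoryTheory.Limits AlgebraicGeometry TopologicalSpace Opposite TensorProduct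

namespace Groth.Agent.Lib.PrinPart81

open Groth.Agent.Lib.H77OmegaSections Groth.Agent.Lib.UnitBaseChange Groth.Agent.Lib.QCohStalk

section presented

variable {X S : Scheme.{u}} (f : X ⟶ S) {U : S.Opens} {V : X.Opens} (n : ℕ)
  (hU : IsAffineOpen U) (hV : IsAffineOpen V) (e : V ≤ f ⁻¹ᵁ U)
  (A B : Type u) [CommRing A] [CommRing B] [Algebra A B]
  (γA : CommRingCat.of A ≅ Γ(S, U)) (γB : CommRingCat.of B ≅ Γ(X, V))
  (hγ : CommRingCat.ofHom (algebraMap A B) ≫ γB.hom = γA.hom ≫ f.appLE U V e)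

include hU hV hγ in
theorem isPushout_presented :
    IsPushout (CommRingCat.ofHom (algebraMap A B)) (CommRingCat.ofHom (algebraMap A B))
      (γB.hom ≫ (pullback.fst f f).appLE V (WW f V) (WW_le_fst f V))
      (γB.hom ≫ (pullback.snd f f).appLE V (WW f V) (WW_le_snd f V)) := by
  refine (isPushout_WW f e hU hV).of_iso γA.symm γB.symm γB.symm (Iso.refl _) ?_ ?_ ?_ ?_
  · rw [Iso.symm_hom, Iso.symm_hom, Iso.comp_inv_eq, Category.assoc, hγ, Iso.inv_hom_id_assoc]
  · rw [Iso.symm_hom, Iso.symm_hom, Iso.comp_inv_eq, Category.assoc, hγ, Iso.inv_hom_id_assoc]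
  · simp
  · simp

/-- `B ⊗_A B ≅ Γ(X ×_S X, V ×_U V)` for a presentation `A → B` of `Γ(S,U) → Γ(X,V)` -/
noncomputable def betaIso' : CommRingCat.of (B ⊗[A] B) ≅ Γ(pullback f f, WW f V) :=
  (CommRingCat.isPushout_tensorProduct A B B).isoIsPushout _ _
    (isPushout_presented f hU hV e A B γA γB hγ)

theorem betaIso'_tmul (a b : B) :
    (betaIso' f hU hV e A B γA γB hγ).hom.hom (a ⊗ₜ[A] b) =
      ((pullback.fst f f).appLE V (WW f V) (WW_le_fst f V)).hom (γB.hom.hom a) *
        ((pullback.snd f f).appLE V (WW f V) (WW_le_snd f V)).hom (γB.hom.hom b) := by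
  have h1 := IsPushout.inl_isoIsPushout_hom _ _
    (CommRingCat.isPushout_tensorProduct A B B) (isPushout_presented f hU hV e A B γA γB hγ)
  have h2 := IsPushout.inr_isoIsPushout_hom _ _
    (CommRingCat.isPushout_tensorProduct A B B) (isPushout_presented f hU hV e A B γA γB hγ)
  have h1' := congr($h1 a)
  have h2' := congr($h2 b)
  have e3 : a ⊗ₜ[A] b = (a ⊗ₜ[A] (1 : B)) * ((1 : B) ⊗ₜ[A] b) := by
    rw [Algebra.TensorProduct.tmul_mul_tmul, mul_one, one_mul]
  rw [e3, map_mul]
  congr 1

theorem betaIso'_comm :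
    (betaIso' f hU hV e A B γA γB hγ).hom ≫
        (pullback.diagonal f).appLE (WW f V) V (le_diag_preimage f) =
      CommRingCat.ofHom (Algebra.TensorProduct.lmul' A : B ⊗[A] B →ₐ[A] B).toRingHom ≫ γB.hom := by
  apply (CommRingCat.isPushout_tensorProduct A B B).hom_ext
  · rw [← Category.assoc]
    unfold betaIso'
    rw [IsPushout.inl_isoIsPushout_hom, Category.assoc, Scheme.Hom.appLE_comp_appLE]
    simp only [pullback.diagonal_fst]
    ext a
    change (Scheme.Hom.appLE (𝟙 X) V V _) (γB.hom.hom a) =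
      γB.hom.hom (Algebra.TensorProduct.lmul' A (a ⊗ₜ[A] (1 : B)))
    rw [Algebra.TensorProduct.lmul'_apply_tmul, mul_one, id_appLE_apply]
  · rw [← Category.assoc]
    unfold betaIso'
    rw [IsPushout.inr_isoIsPushout_hom, Category.assoc, Scheme.Hom.appLE_comp_appLE]
    simp only [pullback.diagonal_snd]
    ext a
    change (Scheme.Hom.appLE (𝟙 X) V V _) (γB.hom.hom a) =
      γB.hom.hom (Algebra.TensorProduct.lmul' A ((1 : B) ⊗ₜ[A] a))
    rw [Algebra.TensorProduct.lmul'_apply_tmul, one_mul, id_appLE_apply]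

/-- the chart map `B ⊗_A B → Γ(N, pr1⁻¹V)` for a presentation -/
noncomputable def chartPhi' : B ⊗[A] B →+* Γ(PrinPart.nbhd f n, PrinPart.pr1 f n ⁻¹ᵁ V) :=
  ((betaIso' f hU hV e A B γA γB hγ).hom ≫
    (PrinPart.nbhdι f n).appLE (WW f V) _ (nbhdι_preimage_WW f n).ge).hom

theorem chartPhi'_apply (x) :
    chartPhi' f n hU hV e A B γA γB hγ x =
      ((PrinPart.nbhdι f n).appLE (WW f V) _ (nbhdι_preimage_WW f n).ge).hom
        ((betaIso' f hU hV e A B γA γB hγ).hom.hom x) := rfl

theorem chartPhi'_tmul (a b : B) :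
    chartPhi' f n hU hV e A B γA γB hγ (a ⊗ₜ[A] b) = ((PrinPart.pr1 f n).app V).hom (γB.hom.hom a) *
      ((PrinPart.pr2 f n).appLE V (PrinPart.pr1 f n ⁻¹ᵁ V) (pr2_le f n)).hom (γB.hom.hom b) := by
  rw [chartPhi'_apply, betaIso'_tmul, map_mul, nbhdι_appLE_fst, nbhdι_appLE_snd]

theorem chartPhi'_surjective : Function.Surjective (chartPhi' f n hU hV e A B γA γB hγ) := by
  intro c
  obtain ⟨r, hr⟩ := (chart_rho f n hU hV e).1 c
  have hb : Function.Bijective (betaIso' f hU hV e A B γA γB hγ).hom.hom :=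
    (ConcreteCategory.isIso_iff_bijective _).mp inferInstance
  obtain ⟨x, rfl⟩ := hb.2 r
  exact ⟨x, hr⟩

theorem ker_chartPhi' :
    RingHom.ker (chartPhi' f n hU hV e A B γA γB hγ) = (KaehlerDifferential.ideal A B) ^ (n + 1) := by
  have hb : Function.Bijective (betaIso' f hU hV e A B γA γB hγ).hom.hom :=
    (ConcreteCategory.isIso_iff_bijective _).mp inferInstance
  have hγb : Function.Bijective γB.hom.hom :=
    (ConcreteCategory.isIso_iff_bijective _).mp inferInstance
  have h1 : RingHom.ker (chartPhi' f n hU hV e A B γA γB hγ) =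
      (RingHom.ker ((PrinPart.nbhdι f n).appLE (WW f V) (PrinPart.pr1 f n ⁻¹ᵁ V)
        (nbhdι_preimage_WW f n).ge).hom).comap (betaIso' f hU hV e A B γA γB hγ).hom.hom := by
    ext x
    rw [Ideal.mem_comap, RingHom.mem_ker, RingHom.mem_ker, chartPhi'_apply]
  have h2 : KaehlerDifferential.ideal A B =
      (RingHom.ker ((pullback.diagonal f).appLE (WW f V) V (le_diag_preimage f)).hom).comap
        (betaIso' f hU hV e A B γA γB hγ).hom.hom := by
    have hc := betaIso'_comm f hU hV e A B γA γB hγ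
    ext x
    rw [Ideal.mem_comap, RingHom.mem_ker, RingHom.mem_ker]
    have hx := congr($hc x)
    rw [CommRingCat.comp_apply, CommRingCat.comp_apply] at hx
    rw [hx]
    constructor
    · intro h
      have : (Algebra.TensorProduct.lmul' A : B ⊗[A] B →ₐ[A] B) x = 0 := h
      change γB.hom.hom ((Algebra.TensorProduct.lmul' A : B ⊗[A] B →ₐ[A] B) x) = 0
      rw [this, map_zero]
    · intro h
      have h' : γB.hom.hom ((Algebra.TensorProduct.lmul' A : B ⊗[A] B →ₐ[A] B) x) = 0 := h
      exact hγb.1 (by rw [h', map_zero])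
  rw [h1, (chart_rho f n hU hV e).2, comap_pow_of_bijective _ hb, ← h2]

/-- `γ a • d^n (γ b)` in terms of the chart map -/
theorem smul_dn_eq' (a b : B) :
    (γB.hom.hom a) • PrinPart.dn f n V (γB.hom.hom b) =
      (show Γ(PrinPart.P f n, V) from chartPhi' f n hU hV e A B γA γB hγ (a ⊗ₜ[A] b) • eSec f n V) := by
  have h := smul_P f n V (γB.hom.hom a) (PrinPart.dn f n V (γB.hom.hom b))
  rw [dn_eq_smul, ← mul_smul, ← chartPhi'_tmul f n hU hV e A B γA γB hγ] at h
  exact h

include hU hV e γA hγ in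
/-- the additive map `b ⊗ b' ↦ γ b • d^n (γ b')` is surjective with kernel `I^(n+1)` -/
theorem psi_surjective_ker (ψ : B ⊗[A] B →+ Γ(PrinPart.P f n, V))
    (hψ : ∀ a b : B, ψ (a ⊗ₜ[A] b) = (γB.hom.hom a) • PrinPart.dn f n V (γB.hom.hom b)) :
    Function.Surjective ψ ∧ ψ.ker = (KaehlerDifferential.ideal A B ^ (n + 1)).toAddSubgroup := by
  -- the additive map `x ↦ Φ x • e`
  let θ : B ⊗[A] B →+ Γ(PrinPart.P f n, V) :=
    { toFun := fun x => (show Γ(PrinPart.P f n, V) from
        chartPhi' f n hU hV e A B γA γB hγ x • eSec f n V)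
      map_zero' := by
        change (chartPhi' f n hU hV e A B γA γB hγ 0 • eSec f n V : Γ(PO f n, _)) = 0
        rw [map_zero, zero_smul]
      map_add' := fun x y => by
        change (chartPhi' f n hU hV e A B γA γB hγ (x + y) • eSec f n V : Γ(PO f n, _)) =
          chartPhi' f n hU hV e A B γA γB hγ x • eSec f n V +
            chartPhi' f n hU hV e A B γA γB hγ y • eSec f n V
        rw [map_add, add_smul] }
  have hθ : ψ = θ := by
    ext x
    induction x using TensorProduct.induction_on with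
    | zero => rw [map_zero, map_zero]
    | tmul a b =>
      rw [hψ, smul_dn_eq' f n hU hV e A B γA γB hγ]
      rfl
    | add x y hx hy => rw [map_add, map_add, hx, hy]
  have key : ∀ x : B ⊗[A] B, ψ x = (show Γ(PrinPart.P f n, V) from
      chartPhi' f n hU hV e A B γA γB hγ x • eSec f n V) := fun x => by rw [hθ]; rfl
  constructor
  · intro m
    obtain ⟨c, hc⟩ := (smul_eSec_bijective f n hV).2 (show Γ(PO f n, PrinPart.pr1 f n ⁻¹ᵁ V) from m)
    obtain ⟨x, rfl⟩ := chartPhi'_surjective f n hU hV e A B γA γB hγ c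
    exact ⟨x, (key x).trans hc⟩
  · ext x
    rw [AddMonoidHom.mem_ker, Submodule.mem_toAddSubgroup, ← ker_chartPhi' f n hU hV e A B γA γB hγ,
      RingHom.mem_ker, key x]
    constructor
    · intro h
      apply (smul_eSec_bijective f n hV).1
      change chartPhi' f n hU hV e A B γA γB hγ x • eSec f n V =
        (0 : Γ(PrinPart.nbhd f n, _)) • eSec f n V
      rw [zero_smul]
      exact h
    · intro h
      change (chartPhi' f n hU hV e A B γA γB hγ x • eSec f n V : Γ(PO f n, _)) = 0
      rw [h, zero_smul]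

end presented

end Groth.Agent.Lib.PrinPart81
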