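/-
helper81: S5972 — for A → B, the additive map b ⊗ b' ↦ b · d^n b' : B ⊗_A B → Γ(Spec B, P^n) is surjective with kernel I^(n+1).
-/
import Groth.Agent.Lib.PrinPart81G

set_option autoImplicit false
universe u
open CategoryTheory CategoryTheory.Limits AlgebraicGeometry TopologicalSpace Opposite TensorProduct

namespace Groth.Agent.Lib.PrinPart81

theorem affine_psi (A B : Type u) [CommRing A] [CommRing B] [Algebra A B] (n : ℕ)
    (ψ : TensorProduct A B B →+
      Γ(PrinPart.P (Spec.map (CommRingCat.ofHom (algebraMap A B))) n, (⊤ : (Spec (CommRingCat.of B)).Opens)))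
    (hψ : ∀ b b' : B, ψ (b ⊗ₜ[A] b') =
      (Scheme.ΓSpecIso (CommRingCat.of B)).inv b •
        PrinPart.dn (Spec.map (CommRingCat.ofHom (algebraMap A B))) n ⊤
          ((Scheme.ΓSpecIso (CommRingCat.of B)).inv b')) :
    Function.Surjective ψ ∧ ψ.ker = (KaehlerDifferential.ideal A B ^ (n + 1)).toAddSubgroup := by
  have e : (⊤ : (Spec (CommRingCat.of B)).Opens) ≤
      (Spec.map (CommRingCat.ofHom (algebraMap A B))) ⁻¹ᵁ (⊤ : (Spec (CommRingCat.of A)).Opens) := le_top
  refine psi_surjective_ker (Spec.map (CommRingCat.ofHom (algebraMap A B))) n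
    (isAffineOpen_top _) (isAffineOpen_top _) e A B
    (Scheme.ΓSpecIso (CommRingCat.of A)).symm (Scheme.ΓSpecIso (CommRingCat.of B)).symm ?_ ψ hψ
  rw [Iso.symm_hom, Iso.symm_hom, Scheme.ΓSpecIso_inv_naturality]
  rfl

end Groth.Agent.Lib.PrinPart81
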