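/-
helper81: `O_X ⊕ Ω_{X/S} ≅ P^1_{X/S}` (S5978). `phiSec` (Φ(y) • d^1 1 as a section of P^1) with `phiSec_tmul`,
`phiSec_surjective`, `phiSec_eq_zero_iff`; `iota_chart`, `chart_surjective`, `chart_injective`,
`coprod_section_eq` (sections of a binary coproduct of modules), `isIso_coprod_desc`.
-/
import Groth.Agent.Lib.PrinPart81E
import Groth.Agent.Lib.OmegaDer81J
import Groth.Agent.Lib.Conormal81C

set_option autoImplicit false
set_option linter.style.haveILetI false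
set_option linter.unusedSectionVars false
universe u

open CategoryTheory CategoryTheory.Limits AlgebraicGeometry TopologicalSpace Opposite TensorProduct

namespace Groth.Agent.Lib.PrinPart81

open Groth.Agent.Lib.H77OmegaSections Groth.Agent.Lib.UnitBaseChange Groth.Agent.Lib.QCohStalk
  Groth.Agent.Lib.OmegaDer81

section P1

variable {X S : Scheme.{u}} (f : X ⟶ S) [QuasiSeparated f]
  (e : Coh.structureModule X ⟶ PrinPart.P f 1)
  (he : ∀ (U : X.Opens) (s : Γ(X, U)), e.app U (OmegaSh.strSect X U s) = s • PrinPart.dn f 1 U 1)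
  (ι : Omega.sheaf f ⟶ PrinPart.P f 1)
  (hι : ∀ (U : X.Opens) (s : Γ(X, U)),
    ι.app U ((OmegaSh.dOmega f).app U s) = PrinPart.dn f 1 U s - s • PrinPart.dn f 1 U 1)
  {U : S.Opens} {V : X.Opens} (hU : IsAffineOpen U) (hV : IsAffineOpen V) (h : V ≤ f ⁻¹ᵁ U)

/-- `Φ(y) • d^1 1`, as a section of `P^1` -/
noncomputable def phiSec (y : letI := (f.appLE U V h).hom.toAlgebra; Γ(X, V) ⊗[Γ(S, U)] Γ(X, V)) :
    Γ(PrinPart.P f 1, V) :=
  (show Γ(PrinPart.P f 1, V) from chartPhi f 1 hU hV h y • eSec f 1 V)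

theorem phiSec_add (y z) :
    phiSec f hU hV h (y + z) = phiSec f hU hV h y + phiSec f hU hV h z := by
  letI := (f.appLE U V h).hom.toAlgebra
  change (chartPhi f 1 hU hV h (y + z) • eSec f 1 V : Γ(PO f 1, _)) =
    chartPhi f 1 hU hV h y • eSec f 1 V + chartPhi f 1 hU hV h z • eSec f 1 V
  rw [map_add, add_smul]

theorem phiSec_sub (y z) :
    phiSec f hU hV h (y - z) = phiSec f hU hV h y - phiSec f hU hV h z := by
  letI := (f.appLE U V h).hom.toAlgebra
  change (chartPhi f 1 hU hV h (y - z) • eSec f 1 V : Γ(PO f 1, _)) =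
    chartPhi f 1 hU hV h y • eSec f 1 V - chartPhi f 1 hU hV h z • eSec f 1 V
  rw [map_sub, sub_smul]

theorem phiSec_zero : phiSec f hU hV h 0 = 0 := by
  letI := (f.appLE U V h).hom.toAlgebra
  change (chartPhi f 1 hU hV h 0 • eSec f 1 V : Γ(PO f 1, _)) = 0
  rw [map_zero, zero_smul]

theorem phiSec_tmul (a b : Γ(X, V)) :
    letI := (f.appLE U V h).hom.toAlgebra
    phiSec f hU hV h (a ⊗ₜ[Γ(S, U)] b) = a • PrinPart.dn f 1 V b :=
  (smul_dn_eq f 1 hU hV h a b).symm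

theorem phiSec_surjective (m : Γ(PrinPart.P f 1, V)) : ∃ y, phiSec f hU hV h y = m := by
  letI := (f.appLE U V h).hom.toAlgebra
  obtain ⟨c, hc⟩ := (smul_eSec_bijective f 1 hV).2 (show Γ(PO f 1, PrinPart.pr1 f 1 ⁻¹ᵁ V) from m)
  obtain ⟨y, rfl⟩ := chartPhi_surjective f 1 hU hV h c
  exact ⟨y, hc⟩

theorem phiSec_eq_zero_iff (y) :
    letI := (f.appLE U V h).hom.toAlgebra
    phiSec f hU hV h y = 0 ↔ y ∈ (KaehlerDifferential.ideal Γ(S, U) Γ(X, V)) ^ 2 := by
  letI := (f.appLE U V h).hom.toAlgebra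
  rw [← ker_chartPhi f 1 hU hV h, RingHom.mem_ker]
  constructor
  · intro h0
    apply (smul_eSec_bijective f 1 hV).1
    change chartPhi f 1 hU hV h y • eSec f 1 V = (0 : Γ(PrinPart.nbhd f 1, _)) • eSec f 1 V
    rw [zero_smul]
    exact h0
  · intro h0
    change (chartPhi f 1 hU hV h y • eSec f 1 V : Γ(PO f 1, _)) = 0
    rw [h0, zero_smul]

include he hι in
/-- chart computation of `ι` -/
theorem iota_chart
    (ε : letI := (f.appLE U V h).hom.toAlgebra
      Ω[Γ(X, V)⁄Γ(S, U)] ≃ₗ[Γ(X, V)] Γ(Omega.sheaf f, V))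
    (hε : letI := (f.appLE U V h).hom.toAlgebra
      ∀ s, ε (KaehlerDifferential.D Γ(S, U) Γ(X, V) s) = (OmegaSh.dOmega f).app V s) (y) :
    letI := (f.appLE U V h).hom.toAlgebra
    ι.app V (ε ((KaehlerDifferential.D Γ(S, U) Γ(X, V)).tensorProductTo y)) =
      phiSec f hU hV h (y - (Algebra.TensorProduct.lmul' Γ(S, U) y) ⊗ₜ[Γ(S, U)] (1 : Γ(X, V))) := by
  letI := (f.appLE U V h).hom.toAlgebra
  induction y using TensorProduct.induction_on with
  | zero =>
    rw [map_zero, map_zero, map_zero, map_zero, zero_tmul, sub_zero, phiSec_zero]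
  | tmul a b =>
    rw [Derivation.tensorProductTo_tmul, map_smul, hε, Scheme.Modules.Hom.app_smul, hι,
      Algebra.TensorProduct.lmul'_apply_tmul, phiSec_sub, phiSec_tmul, phiSec_tmul, smul_sub, smul_smul]
  | add y z hy hz =>
    rw [map_add, map_add, map_add, hy, hz, map_add, add_tmul, ← phiSec_add]
    congr 1
    abel


include he in
theorem e_chart (a : Γ(X, V)) :
    letI := (f.appLE U V h).hom.toAlgebra
    e.app V (OmegaSh.strSect X V a) = phiSec f hU hV h (a ⊗ₜ[Γ(S, U)] (1 : Γ(X, V))) := by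
  letI := (f.appLE U V h).hom.toAlgebra
  rw [he, phiSec_tmul]

include he hι hU hV h in
theorem chart_surjective (m : Γ(PrinPart.P f 1, V)) :
    ∃ (a : Γ(X, V)) (ω : Γ(Omega.sheaf f, V)),
      e.app V (OmegaSh.strSect X V a) + ι.app V ω = m := by
  letI := (f.appLE U V h).hom.toAlgebra
  obtain ⟨ε, hε⟩ := exists_kaehler_equiv_dOmega f hV hU h
  obtain ⟨y, rfl⟩ := phiSec_surjective f hU hV h m
  refine ⟨Algebra.TensorProduct.lmul' Γ(S, U) y,
    ε ((KaehlerDifferential.D Γ(S, U) Γ(X, V)).tensorProductTo y), ?_⟩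
  rw [e_chart f e he hU hV h, iota_chart f e he ι hι hU hV h ε hε, ← phiSec_add]
  congr 1
  abel

include he hι hU hV h in
theorem chart_injective (a : Γ(X, V)) (ω : Γ(Omega.sheaf f, V))
    (h0 : e.app V (OmegaSh.strSect X V a) + ι.app V ω = 0) : a = 0 ∧ ω = 0 := by
  letI := (f.appLE U V h).hom.toAlgebra
  obtain ⟨ε, hε⟩ := exists_kaehler_equiv_dOmega f hV hU h
  obtain ⟨ω', rfl⟩ := ε.surjective ω
  obtain ⟨y, rfl⟩ := KaehlerDifferential.tensorProductTo_surjective Γ(S, U) Γ(X, V) ω'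
  rw [e_chart f e he hU hV h, iota_chart f e he ι hι hU hV h ε hε, ← phiSec_add,
    phiSec_eq_zero_iff] at h0
  set z := a ⊗ₜ[Γ(S, U)] (1 : Γ(X, V)) +
    (y - (Algebra.TensorProduct.lmul' Γ(S, U) y) ⊗ₜ[Γ(S, U)] (1 : Γ(X, V))) with hz
  have hzI : z ∈ KaehlerDifferential.ideal Γ(S, U) Γ(X, V) := Ideal.pow_le_self two_ne_zero h0
  have ha : a = 0 := by
    have h1 : Algebra.TensorProduct.lmul' Γ(S, U) z = 0 := hzI
    rw [hz, map_add, map_sub, Algebra.TensorProduct.lmul'_apply_tmul,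
      Algebra.TensorProduct.lmul'_apply_tmul, mul_one, mul_one, sub_self, add_zero] at h1
    exact h1
  refine ⟨ha, ?_⟩
  have h2 : (KaehlerDifferential.D Γ(S, U) Γ(X, V)).tensorProductTo z = 0 := by
    have := KaehlerDifferential.D_tensorProductTo (R := Γ(S, U)) (S := Γ(X, V)) ⟨z, hzI⟩
    refine this.trans ?_
    exact (Ideal.toCotangent_eq_zero _ ⟨z, hzI⟩).mpr h0
  rw [hz, ha, zero_tmul, zero_add, map_sub, Derivation.tensorProductTo_tmul,
    Derivation.map_one_eq_zero, smul_zero, sub_zero] at h2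
  rw [h2, map_zero]


omit [QuasiSeparated f] in
/-- decomposition of sections of a binary coproduct of modules -/
theorem coprod_section_eq {M N : X.Modules} (W : X.Opens) (z : Γ((M ⨿ N : X.Modules), W)) :
    z = (coprod.inl : M ⟶ M ⨿ N).app W ((coprod.desc (𝟙 M) 0 : M ⨿ N ⟶ M).app W z) +
      (coprod.inr : N ⟶ M ⨿ N).app W ((coprod.desc 0 (𝟙 N) : M ⨿ N ⟶ N).app W z) := by
  have hid : (coprod.desc (𝟙 M) 0 : M ⨿ N ⟶ M) ≫ coprod.inl +
      (coprod.desc 0 (𝟙 N) : M ⨿ N ⟶ N) ≫ coprod.inr = 𝟙 (M ⨿ N) := by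
    apply coprod.hom_ext
    · rw [Preadditive.comp_add, ← Category.assoc, ← Category.assoc, coprod.inl_desc, coprod.inl_desc,
        Category.id_comp, zero_comp, add_zero, Category.comp_id]
    · rw [Preadditive.comp_add, ← Category.assoc, ← Category.assoc, coprod.inr_desc, coprod.inr_desc,
        Category.id_comp, zero_comp, zero_add, Category.comp_id]
  have := congrArg (fun χ => (Scheme.Modules.Hom.app χ W) z) hid
  simp only [Scheme.Modules.Hom.add_app, Scheme.Modules.Hom.comp_app, Scheme.Modules.Hom.id_app] at this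
  exact this.symm

include he hι in
/-- **S5978**: `O_X ⊕ Ω_{X/S} ≅ P^1_{X/S}` -/
theorem isIso_coprod_desc : IsIso (coprod.desc e ι) := by
  let J := {p : X.Opens × S.Opens // IsAffineOpen p.1 ∧ IsAffineOpen p.2 ∧ p.1 ≤ f ⁻¹ᵁ p.2}
  have hB : ∀ (O : X.Opens) (z : X), z ∈ O → ∃ c : J, z ∈ c.1.1 ∧ c.1.1 ≤ O := by
    intro O z hz
    obtain ⟨_, ⟨U₀, hU₀, rfl⟩, hzU₀, -⟩ :=
      S.isBasis_affineOpens.exists_subset_of_mem_open (Set.mem_univ (f z)) isOpen_univ
    obtain ⟨_, ⟨V₀, hV₀, rfl⟩, hzV₀, hVle⟩ :=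
      X.isBasis_affineOpens.exists_subset_of_mem_open (show z ∈ O ⊓ f ⁻¹ᵁ U₀ from ⟨hz, hzU₀⟩)
        (O ⊓ f ⁻¹ᵁ U₀).isOpen
    exact ⟨⟨(V₀, U₀), hV₀, hU₀, hVle.trans inf_le_right⟩, hzV₀, hVle.trans inf_le_left⟩
  have hdesc : ∀ (W : X.Opens) (z : Γ((Coh.structureModule X ⨿ Omega.sheaf f : X.Modules), W)),
      (coprod.desc e ι).app W z =
        e.app W ((coprod.desc (𝟙 _) 0 : Coh.structureModule X ⨿ Omega.sheaf f ⟶ _).app W z) +
        ι.app W ((coprod.desc 0 (𝟙 _) : Coh.structureModule X ⨿ Omega.sheaf f ⟶ _).app W z) := by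
    intro W z
    conv_lhs => rw [coprod_section_eq W z]
    rw [map_add]
    congr 1
    · have := congrArg (fun χ => (Scheme.Modules.Hom.app χ W)
        ((coprod.desc (𝟙 _) 0 : Coh.structureModule X ⨿ Omega.sheaf f ⟶ _).app W z))
        (coprod.inl_desc e ι)
      simpa using this
    · have := congrArg (fun χ => (Scheme.Modules.Hom.app χ W)
        ((coprod.desc 0 (𝟙 _) : Coh.structureModule X ⨿ Omega.sheaf f ⟶ _).app W z))
        (coprod.inr_desc e ι)
      simpa using this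
  haveI : Mono (coprod.desc e ι) := by
    refine Groth.Agent.Lib.Conormal81.mono_of_injective_on_basis _ (fun c : J => c.1.1) hB ?_
    rintro ⟨⟨V₀, U₀⟩, hV₀, hU₀, hle⟩
    rw [injective_iff_map_eq_zero]
    intro z hz
    rw [hdesc] at hz
    obtain ⟨h1, h2⟩ := chart_injective f e he ι hι hU₀ hV₀ hle _ _ hz
    rw [coprod_section_eq V₀ z]
    have h1' : (coprod.desc (𝟙 _) 0 : Coh.structureModule X ⨿ Omega.sheaf f ⟶ _).app V₀ z = 0 := h1
    rw [h1', h2, map_zero, map_zero, add_zero]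
  haveI : Epi (coprod.desc e ι) := by
    refine Groth.Agent.Lib.Conormal81.epi_of_locally_surjective' _ fun O s x hx => ?_
    obtain ⟨⟨⟨V₀, U₀⟩, hV₀, hU₀, hle⟩, hxV, hVO⟩ := hB O x hx
    refine ⟨V₀, hVO, hxV, ?_⟩
    obtain ⟨a, ω, haω⟩ := chart_surjective f e he ι hι hU₀ hV₀ hle
      ((PrinPart.P f 1).presheaf.map (homOfLE hVO).op s)
    refine ⟨(coprod.inl : Coh.structureModule X ⟶ _).app V₀ (OmegaSh.strSect X V₀ a) +
      (coprod.inr : Omega.sheaf f ⟶ _).app V₀ ω, ?_⟩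
    rw [map_add, ← haω]
    congr 1
    · have := congrArg (fun χ => (Scheme.Modules.Hom.app χ V₀) (OmegaSh.strSect X V₀ a))
        (coprod.inl_desc e ι)
      simpa using this
    · have := congrArg (fun χ => (Scheme.Modules.Hom.app χ V₀) ω) (coprod.inr_desc e ι)
      simpa using this
  exact isIso_of_mono_of_epi _

end P1

end Groth.Agent.Lib.PrinPart81
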