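/-
helper81: differential operators of order ≤ 1 on O_X (S5961). `chartSec` (Φ(y) • d^n 1 as a section of P^n over a chart;
add/sub/zero/tmul/one_tmul/smul/surjective/eq_zero_iff), `dn_map`, `delta` (a ↦ d^1 a − a • d^1 1) with `delta_mul`
(Leibniz on all opens), `delta_app`, `deltaDer : OmegaSh.Der f (P f 1)`, `linOfFamily`, `existsUnique_linear_add_der`.
-/
import Groth.Agent.Lib.PrinPart81E
import Groth.Agent.Lib.OmegaDer81H
import Groth.Agent.Lib.OmegaDer81J
import Groth.Agent.Lib.H4ModHom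
import Groth.Agent.Lib.H90OXModQcqs

set_option autoImplicit false
set_option linter.style.haveILetI false
set_option linter.unusedSectionVars false
universe u

open CategoryTheory CategoryTheory.Limits AlgebraicGeometry TopologicalSpace Opposite TensorProduct

namespace Groth.Agent.Lib.PrinPart81

open Groth.Agent.Lib.H77OmegaSections Groth.Agent.Lib.UnitBaseChange Groth.Agent.Lib.QCohStalk
  Groth.Agent.Lib.OmegaDer81

section chartSec

variable {X S : Scheme.{u}} (f : X ⟶ S) (n : ℕ)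
  {U : S.Opens} {V : X.Opens} (hU : IsAffineOpen U) (hV : IsAffineOpen V) (h : V ≤ f ⁻¹ᵁ U)

/-- `Φ(y) • d^n 1`, as a section of `P^n` -/
noncomputable def chartSec (y : letI := (f.appLE U V h).hom.toAlgebra; Γ(X, V) ⊗[Γ(S, U)] Γ(X, V)) :
    Γ(PrinPart.P f n, V) :=
  (show Γ(PrinPart.P f n, V) from chartPhi f n hU hV h y • eSec f n V)

theorem chartSec_add (y z) :
    chartSec f n hU hV h (y + z) = chartSec f n hU hV h y + chartSec f n hU hV h z := by
  letI := (f.appLE U V h).hom.toAlgebra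
  change (chartPhi f n hU hV h (y + z) • eSec f n V : Γ(PO f n, _)) =
    chartPhi f n hU hV h y • eSec f n V + chartPhi f n hU hV h z • eSec f n V
  rw [map_add, add_smul]

theorem chartSec_sub (y z) :
    chartSec f n hU hV h (y - z) = chartSec f n hU hV h y - chartSec f n hU hV h z := by
  letI := (f.appLE U V h).hom.toAlgebra
  change (chartPhi f n hU hV h (y - z) • eSec f n V : Γ(PO f n, _)) =
    chartPhi f n hU hV h y • eSec f n V - chartPhi f n hU hV h z • eSec f n V
  rw [map_sub, sub_smul]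

theorem chartSec_zero : chartSec f n hU hV h 0 = 0 := by
  letI := (f.appLE U V h).hom.toAlgebra
  change (chartPhi f n hU hV h 0 • eSec f n V : Γ(PO f n, _)) = 0
  rw [map_zero, zero_smul]

theorem chartSec_tmul (a b : Γ(X, V)) :
    letI := (f.appLE U V h).hom.toAlgebra
    chartSec f n hU hV h (a ⊗ₜ[Γ(S, U)] b) = a • PrinPart.dn f n V b :=
  (smul_dn_eq f n hU hV h a b).symm

theorem chartSec_one_tmul (b : Γ(X, V)) :
    letI := (f.appLE U V h).hom.toAlgebra
    chartSec f n hU hV h ((1 : Γ(X, V)) ⊗ₜ[Γ(S, U)] b) = PrinPart.dn f n V b := by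
  rw [chartSec_tmul, one_smul]

theorem chartSec_smul (a : Γ(X, V)) (y) :
    letI := (f.appLE U V h).hom.toAlgebra
    a • chartSec f n hU hV h y =
      chartSec f n hU hV h ((a ⊗ₜ[Γ(S, U)] (1 : Γ(X, V))) * y) := by
  letI := (f.appLE U V h).hom.toAlgebra
  have h1 := smul_P f n V a (chartSec f n hU hV h y)
  refine h1.trans ?_
  change ((PrinPart.pr1 f n).app V).hom a • (chartPhi f n hU hV h y • eSec f n V) =
    chartPhi f n hU hV h ((a ⊗ₜ[Γ(S, U)] (1 : Γ(X, V))) * y) • eSec f n V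
  rw [map_mul, chartPhi_tmul, map_one, mul_one, mul_smul]

theorem chartSec_surjective (m : Γ(PrinPart.P f n, V)) : ∃ y, chartSec f n hU hV h y = m := by
  letI := (f.appLE U V h).hom.toAlgebra
  obtain ⟨c, hc⟩ := (smul_eSec_bijective f n hV).2 (show Γ(PO f n, PrinPart.pr1 f n ⁻¹ᵁ V) from m)
  obtain ⟨y, rfl⟩ := chartPhi_surjective f n hU hV h c
  exact ⟨y, hc⟩

theorem chartSec_eq_zero_iff (y) :
    letI := (f.appLE U V h).hom.toAlgebra
    chartSec f n hU hV h y = 0 ↔ y ∈ (KaehlerDifferential.ideal Γ(S, U) Γ(X, V)) ^ (n + 1) := by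
  letI := (f.appLE U V h).hom.toAlgebra
  rw [← ker_chartPhi f n hU hV h, RingHom.mem_ker]
  constructor
  · intro h0
    apply (smul_eSec_bijective f n hV).1
    change chartPhi f n hU hV h y • eSec f n V = (0 : Γ(PrinPart.nbhd f n, _)) • eSec f n V
    rw [zero_smul]
    exact h0
  · intro h0
    change (chartPhi f n hU hV h y • eSec f n V : Γ(PO f n, _)) = 0
    rw [h0, zero_smul]

end chartSec


section derP

variable {X S : Scheme.{u}} (f : X ⟶ S)

theorem dn_map (n : ℕ) {W W' : X.Opens} (e : W' ≤ W) (a : Γ(X, W)) :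
    PrinPart.dn f n W' (X.presheaf.map (homOfLE e).op a) =
      (PrinPart.P f n).presheaf.map (homOfLE e).op (PrinPart.dn f n W a) :=
  PrinPart.dP_map f n (Coh.structureModule X) e (OmegaSh.strSect X W a)

/-- `δ(a) = d^1 a − a • d^1 1` -/
noncomputable def delta (W : X.Opens) (a : Γ(X, W)) : Γ(PrinPart.P f 1, W) :=
  PrinPart.dn f 1 W a - a • PrinPart.dn f 1 W 1

theorem delta_add (W : X.Opens) (a b : Γ(X, W)) :
    delta f W (a + b) = delta f W a + delta f W b := by
  unfold delta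
  rw [map_add, add_smul]
  abel

theorem delta_map {W W' : X.Opens} (e : W' ≤ W) (a : Γ(X, W)) :
    delta f W' (X.presheaf.map (homOfLE e).op a) =
      (PrinPart.P f 1).presheaf.map (homOfLE e).op (delta f W a) := by
  unfold delta
  have h1 : (X.presheaf.map (homOfLE e).op) (1 : Γ(X, W)) = 1 :=
    map_one (X.presheaf.map (homOfLE e).op).hom
  rw [map_sub, Scheme.Modules.map_smul, ← dn_map f 1 e a, ← dn_map f 1 e 1, h1]

variable {U : S.Opens} {V : X.Opens} (hU : IsAffineOpen U) (hV : IsAffineOpen V) (h : V ≤ f ⁻¹ᵁ U)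

theorem delta_chart (a : Γ(X, V)) :
    letI := (f.appLE U V h).hom.toAlgebra
    delta f V a = chartSec f 1 hU hV h
      ((1 : Γ(X, V)) ⊗ₜ[Γ(S, U)] a - a ⊗ₜ[Γ(S, U)] (1 : Γ(X, V))) := by
  letI := (f.appLE U V h).hom.toAlgebra
  rw [chartSec_sub, chartSec_one_tmul, chartSec_tmul]
  rfl

include hU hV h in
theorem delta_mul_chart (a b : Γ(X, V)) :
    delta f V (a * b) = a • delta f V b + b • delta f V a := by
  letI := (f.appLE U V h).hom.toAlgebra
  rw [delta_chart f hU hV h, delta_chart f hU hV h, delta_chart f hU hV h, chartSec_smul,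
    chartSec_smul, ← chartSec_add, ← sub_eq_zero, ← chartSec_sub, chartSec_eq_zero_iff]
  have hI : ∀ c : Γ(X, V), (1 : Γ(X, V)) ⊗ₜ[Γ(S, U)] c - c ⊗ₜ[Γ(S, U)] (1 : Γ(X, V)) ∈
      KaehlerDifferential.ideal Γ(S, U) Γ(X, V) :=
    fun c => KaehlerDifferential.one_smul_sub_smul_one_mem_ideal Γ(S, U) c
  have hprod := Ideal.mul_mem_mul (hI a) (hI b)
  rw [← pow_two] at hprod
  convert hprod using 1
  simp only [mul_sub, sub_mul, Algebra.TensorProduct.tmul_mul_tmul, mul_one, one_mul]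
  rw [mul_comm b a]
  abel

include hU hV h in
theorem delta_algebraMap_chart (r : Γ(S, U)) :
    delta f V ((f.appLE U V h).hom r) = 0 := by
  letI := (f.appLE U V h).hom.toAlgebra
  rw [delta_chart f hU hV h]
  have : (1 : Γ(X, V)) ⊗ₜ[Γ(S, U)] ((f.appLE U V h).hom r) -
      ((f.appLE U V h).hom r) ⊗ₜ[Γ(S, U)] (1 : Γ(X, V)) = 0 := by
    have e1 : (f.appLE U V h).hom r = r • (1 : Γ(X, V)) := by
      rw [Algebra.smul_def, mul_one]; rfl
    rw [e1, TensorProduct.tmul_smul, TensorProduct.smul_tmul', sub_self]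
  rw [this, chartSec_zero]

end derP


section derGlobal

variable {X S : Scheme.{u}} (f : X ⟶ S)

/-- affine charts inside `W` lying over affine opens inside `T` -/
theorem exists_chart_le (W : X.Opens) (T : S.Opens) (hWT : W ≤ f ⁻¹ᵁ T) (z : X) (hz : z ∈ W) :
    ∃ (V : X.Opens) (U : S.Opens), IsAffineOpen V ∧ IsAffineOpen U ∧ V ≤ f ⁻¹ᵁ U ∧ U ≤ T ∧
      z ∈ V ∧ V ≤ W := by
  obtain ⟨_, ⟨U₀, hU₀, rfl⟩, hzU₀, hU₀T⟩ :=
    S.isBasis_affineOpens.exists_subset_of_mem_open (show f z ∈ T from hWT hz) T.isOpen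
  obtain ⟨_, ⟨V₀, hV₀, rfl⟩, hzV₀, hVle⟩ :=
    X.isBasis_affineOpens.exists_subset_of_mem_open (show z ∈ W ⊓ f ⁻¹ᵁ U₀ from ⟨hz, hzU₀⟩)
      (W ⊓ f ⁻¹ᵁ U₀).isOpen
  exact ⟨V₀, U₀, hV₀, hU₀, hVle.trans inf_le_right, hU₀T, hzV₀, hVle.trans inf_le_left⟩

theorem delta_mul (W : X.Opens) (a b : Γ(X, W)) :
    delta f W (a * b) = a • delta f W b + b • delta f W a := by
  let J := {c : X.Opens × S.Opens // IsAffineOpen c.1 ∧ IsAffineOpen c.2 ∧ c.1 ≤ f ⁻¹ᵁ c.2 ∧ c.1 ≤ W}
  refine Groth.Agent.Lib.H90OXModQcqs.res_ext (PrinPart.P f 1) W (fun c : J => c.1.1)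
    (fun c => c.2.2.2.2) ?_ _ _ ?_
  · intro z hz
    obtain ⟨V, U, hV, hU, hVU, -, hzV, hVW⟩ := exists_chart_le f W ⊤ le_top z hz
    exact Opens.mem_iSup.mpr ⟨⟨(V, U), hV, hU, hVU, hVW⟩, hzV⟩
  · rintro ⟨⟨V, U⟩, hV, hU, hVU, hVW⟩
    change (PrinPart.P f 1).presheaf.map (homOfLE hVW).op _ =
      (PrinPart.P f 1).presheaf.map (homOfLE hVW).op _
    rw [map_add, Scheme.Modules.map_smul, Scheme.Modules.map_smul, ← delta_map, ← delta_map,
      ← delta_map, map_mul]
    exact delta_mul_chart f hU hV hVU _ _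

theorem delta_app (T : S.Opens) (c : Γ(S, T)) : delta f (f ⁻¹ᵁ T) ((f.app T).hom c) = 0 := by
  let J := {c : X.Opens × S.Opens // IsAffineOpen c.1 ∧ IsAffineOpen c.2 ∧ c.1 ≤ f ⁻¹ᵁ c.2 ∧
    c.2 ≤ T ∧ c.1 ≤ f ⁻¹ᵁ T}
  refine Groth.Agent.Lib.H90OXModQcqs.res_ext (PrinPart.P f 1) (f ⁻¹ᵁ T) (fun c : J => c.1.1)
    (fun c => c.2.2.2.2.2) ?_ _ _ ?_
  · intro z hz
    obtain ⟨V, U, hV, hU, hVU, hUT, hzV, hVW⟩ := exists_chart_le f (f ⁻¹ᵁ T) T le_rfl z hz
    exact Opens.mem_iSup.mpr ⟨⟨(V, U), hV, hU, hVU, hUT, hVW⟩, hzV⟩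
  · rintro ⟨⟨V, U⟩, hV, hU, hVU, hUT, hVW⟩
    change (PrinPart.P f 1).presheaf.map (homOfLE hVW).op _ =
      (PrinPart.P f 1).presheaf.map (homOfLE hVW).op _
    rw [← delta_map, map_zero]
    have e1 : (X.presheaf.map (homOfLE hVW).op) ((f.app T).hom c) =
        (f.appLE U V hVU).hom ((S.presheaf.map (homOfLE hUT).op) c) := by
      have h2 : S.presheaf.map (homOfLE hUT).op ≫ f.appLE U V hVU = f.appLE T V hVW :=
        Scheme.Hom.map_appLE f hVU (homOfLE hUT).op
      have h3 : (f.appLE T V hVW).hom c =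
          (f.appLE U V hVU).hom ((S.presheaf.map (homOfLE hUT).op) c) := by
        rw [← h2]; rfl
      exact h3
    rw [e1]
    exact delta_algebraMap_chart f hU hV hVU _

/-- the derivation `a ↦ d^1 a − a • d^1 1` of `O_X` into `P^1_{X/S}` -/
noncomputable def deltaDer : OmegaSh.Der f (PrinPart.P f 1) where
  d {W} := AddMonoidHom.mk' (delta f W.unop) (delta_add f W.unop)
  d_mul {W} a b := delta_mul f W.unop a b
  d_map i a := delta_map f i.unop.le a
  d_app {T} c := delta_app f T.unop c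

theorem deltaDer_app (W : X.Opens) (a : Γ(X, W)) :
    (deltaDer f).app W a = PrinPart.dn f 1 W a - a • PrinPart.dn f 1 W 1 := rfl

end derGlobal


section order1

variable {X S : Scheme.{u}} (f : X ⟶ S) (G : X.Modules)

/-- the `O_X`-linear map `O_X → G`, `a ↦ a • g_U`, for a compatible family of sections `g` -/
noncomputable def linOfFamily (g : ∀ U : X.Opens, Γ(G, U))
    (hg : ∀ {U V : X.Opens} (h : V ≤ U), G.presheaf.map (homOfLE h).op (g U) = g V) :
    Coh.structureModule X ⟶ G :=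
  Groth.Agent.Lib.H4ModHom.homOfSections (fun U t => (OmegaSh.fnSect X U t) • g U)
    (fun U a b => by rw [map_add, add_smul])
    (fun U r a => by
      change (r * OmegaSh.fnSect X U a) • g U = r • (OmegaSh.fnSect X U a • g U)
      rw [mul_smul])
    (fun {U V} h a => by
      rw [Scheme.Modules.map_smul, hg h]
      rfl)

theorem linOfFamily_app (g : ∀ U : X.Opens, Γ(G, U))
    (hg : ∀ {U V : X.Opens} (h : V ≤ U), G.presheaf.map (homOfLE h).op (g U) = g V)
    (U : X.Opens) (a : Γ(X, U)) :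
    (linOfFamily G g hg).app U (OmegaSh.strSect X U a) = a • g U := rfl

/-- **S5961**: a differential operator of order `≤ 1` on `O_X` is uniquely linear + derivation -/
theorem existsUnique_linear_add_der
    (D : (Coh.structureModule X).presheaf ⟶ G.presheaf)
    (hD : PrinPart.IsDiffOpLE f (Coh.structureModule X) G 1 D) :
    ∃! p : (Coh.structureModule X ⟶ G) × OmegaSh.Der f G,
      ∀ (U : X.Opens) (a : Γ(X, U)),
        D.app (op U) (OmegaSh.strSect X U a) =
          p.1.app U (OmegaSh.strSect X U a) + p.2.app U a := by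
  obtain ⟨u, hu⟩ := hD
  have hDu : ∀ (U : X.Opens) (a : Γ(X, U)),
      D.app (op U) (OmegaSh.strSect X U a) = u.app U (PrinPart.dn f 1 U a) := fun U a => hu U _
  let g : ∀ U : X.Opens, Γ(G, U) := fun U => u.app U (PrinPart.dn f 1 U 1)
  have hg : ∀ {U V : X.Opens} (h : V ≤ U), G.presheaf.map (homOfLE h).op (g U) = g V := by
    intro U V h
    have h1 := hom_app_res' u h (PrinPart.dn f 1 U 1)
    change u.app V ((PrinPart.P f 1).presheaf.map (homOfLE h).op (PrinPart.dn f 1 U 1)) = _ at h1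
    rw [← dn_map, map_one] at h1
    exact h1.symm
  have hex : ∀ (U : X.Opens) (a : Γ(X, U)),
      D.app (op U) (OmegaSh.strSect X U a) =
        (linOfFamily G g hg).app U (OmegaSh.strSect X U a) +
          OmegaSh.Der.app (f := f) (F := G) ((deltaDer f).postcomp u.val) U a := by
    intro U a
    rw [hDu, linOfFamily_app, postcomp_app, deltaDer_app, map_sub, Scheme.Modules.Hom.app_smul]
    abel
  refine ⟨(linOfFamily G g hg, (deltaDer f).postcomp u.val), hex, ?_⟩
  rintro ⟨v', d'⟩ hp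
  have h1 : ∀ U : X.Opens, v'.app U (OmegaSh.strSect X U 1) = g U := by
    intro U
    have h2 := hp U 1
    have h3 := hex U 1
    rw [der_app_one, add_zero] at h2
    rw [der_app_one, add_zero, linOfFamily_app, one_smul] at h3
    rw [← h2, h3]
  have hv : v' = linOfFamily G g hg := by
    apply Scheme.Modules.hom_ext
    intro U
    ext t
    have e1 : t = (OmegaSh.fnSect X U t) • OmegaSh.strSect X U 1 :=
      Groth.Agent.Lib.StructureModule.toSec_eq_smul_one U (OmegaSh.fnSect X U t)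
    have e2 : (linOfFamily G g hg).app U t = (OmegaSh.fnSect X U t) • g U := rfl
    rw [e2, ← h1 U, ← Scheme.Modules.Hom.app_smul, ← e1]
  have hd : d' = (deltaDer f).postcomp u.val := by
    apply der_ext'
    intro W s
    have h2 := hp W s
    have h3 := hex W s
    rw [h2] at h3
    change v'.app W (OmegaSh.strSect X W s) + d'.app W s = _ at h3
    rw [hv] at h3
    exact add_left_cancel h3
  rw [hv, hd]

end order1

end Groth.Agent.Lib.PrinPart81
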