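/-
helper81: differential operators of order ≤ 0 are the O_X-linear maps (S5957): `pr1_zero_eq_pr2`, `dP_zero_smul`,
`isDiffOpLE_zero_iff`. Uses helper72 S5979 (d^0 bijective).
-/
import Groth.Agent.Lib.PrinPart81E
import Groth.Agent.Lib.H4ModHom
import Groth.Agent.Lib.OmegaDer81J
import Groth.Agent.S5979

set_option autoImplicit false
set_option linter.style.haveILetI false
set_option linter.unusedSectionVars false
universe u

open CategoryTheory CategoryTheory.Limits AlgebraicGeometry TopologicalSpace Opposite TensorProduct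

namespace Groth.Agent.Lib.PrinPart81

open Groth.Agent.Lib.OmegaDer81 Groth.Agent.Lib.QCohStalk

section order0

variable {X S : Scheme.{u}} (f : X ⟶ S)

theorem pr1_zero_eq_pr2 : PrinPart.pr1 f 0 = PrinPart.pr2 f 0 := by
  haveI : IsIso (PrinPart.toNbhd f 0) := Groth.Agent.S5979.isIso_toInfNbhd_zero (PrinPart.diagCl f)
  rw [← cancel_epi (PrinPart.toNbhd f 0), PrinPart.toNbhd_pr1, PrinPart.toNbhd_pr2]

theorem appLE_congr {N : Scheme.{u}} {g g' : N ⟶ X} (h : g = g') (U : X.Opens) (W : N.Opens)
    (hW : W ≤ g ⁻¹ᵁ U) (hW' : W ≤ g' ⁻¹ᵁ U) : g.appLE U W hW = g'.appLE U W hW' := by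
  subst h; rfl

theorem dP_zero_smul (F : X.Modules) (U : X.Opens) (a : Γ(X, U)) (t : Γ(F, U)) :
    PrinPart.dP f 0 F U (a • t) = a • PrinPart.dP f 0 F U t := by
  rw [PrinPart.dP_apply, PrinPart.dP_apply, OmegaSh.pullSect_smul, Scheme.Modules.map_smul]
  have h1 : ((PrinPart.nbhd f 0).presheaf.map (homOfLE (PrinPart.preimage_pr1 f 0 U).le).op)
      (((PrinPart.pr2 f 0).app U).hom a) = ((PrinPart.pr1 f 0).app U).hom a := by
    change ((PrinPart.pr2 f 0).appLE U (PrinPart.pr1 f 0 ⁻¹ᵁ U) (PrinPart.preimage_pr1 f 0 U).le).hom a = _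
    rw [← appLE_congr (pr1_zero_eq_pr2 f) U _ le_rfl, Scheme.Hom.appLE_eq_app]
  rw [h1]
  rfl


/-- **S5957**: differential operators of order `≤ 0` are the `O_X`-linear maps -/
theorem isDiffOpLE_zero_iff (F G : X.Modules) (D : F.presheaf ⟶ G.presheaf) :
    PrinPart.IsDiffOpLE f F G 0 D ↔
      ∀ (U : X.Opens) (a : Γ(X, U)) (t : Γ(F, U)), D.app (op U) (a • t) = a • D.app (op U) t := by
  constructor
  · rintro ⟨u, hu⟩ U a t
    rw [hu, hu, dP_zero_smul, Scheme.Modules.Hom.app_smul]
  · intro hlin
    let ε : ∀ U : X.Opens, Γ(F, U) ≃ Γ(PrinPart.PMod f 0 F, U) := fun U =>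
      Equiv.ofBijective (PrinPart.dP f 0 F U) (Groth.Agent.S5979.result f F U)
    have hε : ∀ U t, ε U t = PrinPart.dP f 0 F U t := fun _ _ => rfl
    have hε' : ∀ U m, PrinPart.dP f 0 F U ((ε U).symm m) = m := fun U m => (ε U).apply_symm_apply m
    have hDnat : ∀ {U V : X.Opens} (h : V ≤ U) (t : Γ(F, U)),
        G.presheaf.map (homOfLE h).op (D.app (op U) t) =
          D.app (op V) (F.presheaf.map (homOfLE h).op t) := by
      intro U V h t
      have := ConcreteCategory.congr_hom (D.naturality (homOfLE h).op) t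
      rw [ConcreteCategory.comp_apply, ConcreteCategory.comp_apply] at this
      exact this.symm
    refine ⟨Groth.Agent.Lib.H4ModHom.homOfSections (fun U m => D.app (op U) ((ε U).symm m))
      ?_ ?_ ?_, ?_⟩
    · intro U m m'
      have : (ε U).symm (m + m') = (ε U).symm m + (ε U).symm m' := by
        apply (ε U).injective
        rw [Equiv.apply_symm_apply, hε, map_add, hε', hε']
      rw [this, map_add]
    · intro U r m
      have : (ε U).symm (r • m) = r • (ε U).symm m := by
        apply (ε U).injective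
        rw [Equiv.apply_symm_apply, hε, dP_zero_smul, hε']
      rw [this, hlin]
    · intro U V h m
      have : F.presheaf.map (homOfLE h).op ((ε U).symm m) =
          (ε V).symm ((PrinPart.PMod f 0 F).presheaf.map (homOfLE h).op m) := by
        apply (ε V).injective
        rw [Equiv.apply_symm_apply, hε, PrinPart.dP_map, hε']
      rw [hDnat, this]
    · intro U t
      rw [Groth.Agent.Lib.H4ModHom.homOfSections_app]
      have : (ε U).symm (PrinPart.dP f 0 F U t) = t := (ε U).symm_apply_apply t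
      rw [this]

end order0

end Groth.Agent.Lib.PrinPart81
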