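/-
helper81: the canonical surjection rho : P^m(F) -> P^n(F) (n ≤ m) of principal parts with rho ∘ d^m = d^n
(abstract version aRho for any t : N ⟶ N' compatible with two pairs of projections), and monotonicity of the
order of differential operators (S5956).
-/
import Groth.Agent.Lib.PrinPart81K
import Groth.Agent.Lib.H78PullSec

set_option autoImplicit false
set_option linter.style.haveILetI false
set_option linter.unusedSectionVars false
universe u

open CategoryTheory CategoryTheory.Limits AlgebraicGeometry TopologicalSpace Opposite TensorProduct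

namespace Groth.Agent.Lib.PrinPart81

open Groth.Agent.Lib.H78PullSec Groth.Agent.Lib.H78TensorGen Groth.Agent.Lib.H78SecCoord

section abstractRho

variable {X N N' : Scheme.{u}} (t : N ⟶ N') (p1 p2 : N' ⟶ X) (q1 q2 : N ⟶ X)
  (h1 : t ≫ p1 = q1) (h2 : t ≫ p2 = q2)

/-- the comparison `t^* p2^* F ⟶ q2^* F` -/
noncomputable def aRhoβ (F : X.Modules) :
    (Scheme.Modules.pullback t).obj ((Scheme.Modules.pullback p2).obj F) ⟶
      (Scheme.Modules.pullback q2).obj F :=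
  (Scheme.Modules.pullbackComp t p2).hom.app F ≫ (Scheme.Modules.pullbackCongr h2).hom.app F

include h2 in
theorem aRho_le2 (U : X.Opens) : t ⁻¹ᵁ (p2 ⁻¹ᵁ U) ≤ q2 ⁻¹ᵁ U := by
  rw [← h2]; rfl

include h1 in
theorem aRho_le1 (U : X.Opens) : q1 ⁻¹ᵁ U ≤ t ⁻¹ᵁ (p1 ⁻¹ᵁ U) := by
  rw [← h1]; rfl

theorem aRhoβ_pb (F : X.Modules) (U : X.Opens) (s : Γ(F, U)) :
    (aRhoβ t p2 q2 h2 F).app (t ⁻¹ᵁ (p2 ⁻¹ᵁ U)) (pb t _ (pb p2 F s)) =
      rs _ (aRho_le2 t p2 q2 h2 U) (pb q2 F s) := by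
  unfold aRhoβ
  rw [Scheme.Modules.Hom.comp_app, ConcreteCategory.comp_apply, pb_comp']
  subst h2
  exact (rs_self _ _).symm

/-- the adjoint form `p2^* F ⟶ t_* q2^* F` -/
noncomputable def aRhoα (F : X.Modules) :
    (Scheme.Modules.pullback p2).obj F ⟶
      (Scheme.Modules.pushforward t).obj ((Scheme.Modules.pullback q2).obj F) :=
  (Scheme.Modules.pullbackPushforwardAdjunction t).unit.app _ ≫
    (Scheme.Modules.pushforward t).map (aRhoβ t p2 q2 h2 F)

theorem aRhoα_app (F : X.Modules) (W : N'.Opens)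
    (x : Γ((Scheme.Modules.pullback p2).obj F, W)) :
    (aRhoα t p2 q2 h2 F).app W x = (aRhoβ t p2 q2 h2 F).app (t ⁻¹ᵁ W) (pb t _ x) := by
  unfold aRhoα
  rw [Scheme.Modules.Hom.comp_app, ConcreteCategory.comp_apply]
  rfl

/-- the canonical map `p1_* p2^* F → q1_* q2^* F` -/
noncomputable def aRho (F : X.Modules) :
    (Scheme.Modules.pushforward p1).obj ((Scheme.Modules.pullback p2).obj F) ⟶
      (Scheme.Modules.pushforward q1).obj ((Scheme.Modules.pullback q2).obj F) :=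
  (Scheme.Modules.pushforward p1).map (aRhoα t p2 q2 h2 F) ≫
    (Scheme.Modules.pushforwardComp t p1).hom.app _ ≫
    (Scheme.Modules.pushforwardCongr h1).hom.app _

theorem aRho_app (F : X.Modules) (U : X.Opens)
    (x : Γ((Scheme.Modules.pullback p2).obj F, p1 ⁻¹ᵁ U)) :
    (aRho t p1 p2 q1 q2 h1 h2 F).app U x =
      rs ((Scheme.Modules.pullback q2).obj F) (aRho_le1 t p1 q1 h1 U)
        ((aRhoα t p2 q2 h2 F).app (p1 ⁻¹ᵁ U) x) := by
  rfl

theorem aRho_pb (F : X.Modules) (U : X.Opens) (e : p1 ⁻¹ᵁ U ≤ p2 ⁻¹ᵁ U) (e' : q1 ⁻¹ᵁ U ≤ q2 ⁻¹ᵁ U)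
    (s : Γ(F, U)) :
    (aRho t p1 p2 q1 q2 h1 h2 F).app U (rs ((Scheme.Modules.pullback p2).obj F) e (pb p2 F s)) =
      rs ((Scheme.Modules.pullback q2).obj F) e' (pb q2 F s) := by
  rw [aRho_app, aRhoα_app, pb_rs, app_rs, aRhoβ_pb, rs_rs, rs_rs]

end abstractRho

end Groth.Agent.Lib.PrinPart81

namespace Groth.Agent.Lib.PrinPart81

open Groth.Agent.Lib.H78PullSec Groth.Agent.Lib.H78TensorGen Groth.Agent.Lib.H78SecCoord

section rho

variable {X S : Scheme.{u}} (f : X ⟶ S)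

/-- transition map of infinitesimal neighbourhoods of the diagonal -/
noncomputable abbrev tMap {n m : ℕ} (h : n ≤ m) : PrinPart.nbhd f n ⟶ PrinPart.nbhd f m :=
  PrinPart.infNbhdMap (PrinPart.diagCl f) h

theorem tMap_pr1 {n m : ℕ} (h : n ≤ m) : tMap f h ≫ PrinPart.pr1 f m = PrinPart.pr1 f n := by
  simp only [PrinPart.pr1, PrinPart.nbhdι, ← Category.assoc, PrinPart.infNbhdMap_ι]

theorem tMap_pr2 {n m : ℕ} (h : n ≤ m) : tMap f h ≫ PrinPart.pr2 f m = PrinPart.pr2 f n := by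
  simp only [PrinPart.pr2, PrinPart.nbhdι, ← Category.assoc, PrinPart.infNbhdMap_ι]

/-- the canonical map `P^m(F) → P^n(F)` for `n ≤ m` -/
noncomputable def rho {n m : ℕ} (h : n ≤ m) (F : X.Modules) :
    PrinPart.PMod f m F ⟶ PrinPart.PMod f n F :=
  aRho (tMap f h) (PrinPart.pr1 f m) (PrinPart.pr2 f m) (PrinPart.pr1 f n) (PrinPart.pr2 f n)
    (tMap_pr1 f h) (tMap_pr2 f h) F

theorem rho_dP {n m : ℕ} (h : n ≤ m) (F : X.Modules) (U : X.Opens) (s : Γ(F, U)) :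
    (rho f h F).app U (PrinPart.dP f m F U s) = PrinPart.dP f n F U s :=
  aRho_pb (tMap f h) (PrinPart.pr1 f m) (PrinPart.pr2 f m) (PrinPart.pr1 f n) (PrinPart.pr2 f n)
    (tMap_pr1 f h) (tMap_pr2 f h) F U (PrinPart.preimage_pr1 f m U).le (PrinPart.preimage_pr1 f n U).le s

theorem isDiffOpLE_mono (F G : X.Modules) {n m : ℕ} (h : n ≤ m)
    (D : F.presheaf ⟶ G.presheaf) (hD : PrinPart.IsDiffOpLE f F G n D) :
    PrinPart.IsDiffOpLE f F G m D := by
  obtain ⟨u, hu⟩ := hD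
  refine ⟨rho f h F ≫ u, fun U t => ?_⟩
  rw [hu U t, Scheme.Modules.Hom.comp_app, ConcreteCategory.comp_apply, rho_dP]

end rho

end Groth.Agent.Lib.PrinPart81
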