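/-
helper81: base change of sheaves of principal parts (S5954): bijective_app_chart (on product charts of a fibre product),
isIso_of_isPMap_of_isPullback.
-/
import Groth.Agent.Lib.PrinPart81J
import Groth.Agent.Lib.PrinPart81B
import Groth.Agent.Lib.OmegaDer81G
import Groth.Agent.Lib.H90OXModAffineIso
import Groth.Agent.Lib.H90OXModPush
import Groth.Agent.Lib.H72PullbackQCoh
import Groth.Agent.Lib.PrinPart81M1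

set_option autoImplicit false
set_option linter.style.haveILetI false
set_option linter.unusedSectionVars false
universe u

open CategoryTheory CategoryTheory.Limits AlgebraicGeometry TopologicalSpace Opposite TensorProduct

namespace Groth.Agent.Lib.PrinPart81

open Groth.Agent.Lib.OmegaDer81 Groth.Agent.Lib.UnitBaseChange

section bc

variable {X S X' S' : Scheme.{u}} (f : X ⟶ S) (g : S' ⟶ S) (u : X' ⟶ X) (f' : X' ⟶ S')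
  (hsq : IsPullback u f' f g) (n : ℕ)
  (φ : (Scheme.Modules.pullback u).obj (PrinPart.P f n) ⟶ PrinPart.P f' n)
  (hφ : PrinPart.IsPMap f f' u n φ)
  {U : S.Opens} {U' : S'.Opens} {V : X.Opens}
  (hU : IsAffineOpen U) (hU' : IsAffineOpen U') (hV : IsAffineOpen V)
  (hU'U : U' ≤ g ⁻¹ᵁ U) (hVU : V ≤ f ⁻¹ᵁ U)

include hsq hφ hU hU' hV hU'U hVU in
set_option backward.isDefEq.respectTransparency false in
theorem bijective_app_chart : Function.Bijective (φ.app (u ⁻¹ᵁ V ⊓ f' ⁻¹ᵁ U')) := by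
  have hW := isAffineOpen_pullbackChart f g u f' hsq hU hU' hV hU'U hVU
  have hpo := isPushout_pullbackChart f g u f' hsq hU hU' hV hU'U hVU
  have e' : u ⁻¹ᵁ V ⊓ f' ⁻¹ᵁ U' ≤ (u ≫ f) ⁻¹ᵁ U := fun x hx => hVU hx.1
  letI : Algebra Γ(S, U) Γ(X, V) := (f.appLE U V hVU).hom.toAlgebra
  letI : Algebra Γ(S, U) Γ(S', U') := (g.appLE U U' hU'U).hom.toAlgebra
  letI : Algebra Γ(S, U) Γ(X', u ⁻¹ᵁ V ⊓ f' ⁻¹ᵁ U') :=
    ((u ≫ f).appLE U (u ⁻¹ᵁ V ⊓ f' ⁻¹ᵁ U') e').hom.toAlgebra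
  letI : Algebra Γ(X, V) Γ(X', u ⁻¹ᵁ V ⊓ f' ⁻¹ᵁ U') :=
    (u.appLE V (u ⁻¹ᵁ V ⊓ f' ⁻¹ᵁ U') inf_le_left).hom.toAlgebra
  letI : Algebra Γ(S', U') Γ(X', u ⁻¹ᵁ V ⊓ f' ⁻¹ᵁ U') :=
    (f'.appLE U' (u ⁻¹ᵁ V ⊓ f' ⁻¹ᵁ U') inf_le_right).hom.toAlgebra
  have hcomp : (u ≫ f).appLE U (u ⁻¹ᵁ V ⊓ f' ⁻¹ᵁ U') e' =
      f.appLE U V hVU ≫ u.appLE V (u ⁻¹ᵁ V ⊓ f' ⁻¹ᵁ U') inf_le_left := by
    rw [Scheme.Hom.appLE_comp_appLE]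
  haveI : IsScalarTower Γ(S, U) Γ(X, V) Γ(X', u ⁻¹ᵁ V ⊓ f' ⁻¹ᵁ U') := .of_algebraMap_eq' (by
    change ((u ≫ f).appLE U (u ⁻¹ᵁ V ⊓ f' ⁻¹ᵁ U') e').hom =
      (u.appLE V (u ⁻¹ᵁ V ⊓ f' ⁻¹ᵁ U') inf_le_left).hom.comp (f.appLE U V hVU).hom
    rw [← CommRingCat.hom_comp, hcomp])
  haveI : IsScalarTower Γ(S, U) Γ(S', U') Γ(X', u ⁻¹ᵁ V ⊓ f' ⁻¹ᵁ U') := .of_algebraMap_eq' (by
    change ((u ≫ f).appLE U (u ⁻¹ᵁ V ⊓ f' ⁻¹ᵁ U') e').hom =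
      (f'.appLE U' (u ⁻¹ᵁ V ⊓ f' ⁻¹ᵁ U') inf_le_right).hom.comp (g.appLE U U' hU'U).hom
    rw [← CommRingCat.hom_comp, hcomp, hpo.w])
  haveI : Algebra.IsPushout Γ(S, U) Γ(X, V) Γ(S', U') Γ(X', u ⁻¹ᵁ V ⊓ f' ⁻¹ᵁ U') :=
    CommRingCat.isPushout_iff_isPushout.mp hpo
  letI : Module Γ(X, V) Γ((Scheme.Modules.pullback u).obj (PrinPart.P f n), u ⁻¹ᵁ V ⊓ f' ⁻¹ᵁ U') :=
    Module.compHom _ (u.appLE V (u ⁻¹ᵁ V ⊓ f' ⁻¹ᵁ U') inf_le_left).hom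
  haveI : IsScalarTower Γ(X, V) Γ(X', u ⁻¹ᵁ V ⊓ f' ⁻¹ᵁ U')
      Γ((Scheme.Modules.pullback u).obj (PrinPart.P f n), u ⁻¹ᵁ V ⊓ f' ⁻¹ᵁ U') :=
    .of_algebraMap_smul fun _ _ => rfl
  letI : Module Γ(X, V) Γ(PrinPart.P f' n, u ⁻¹ᵁ V ⊓ f' ⁻¹ᵁ U') :=
    Module.compHom _ (u.appLE V (u ⁻¹ᵁ V ⊓ f' ⁻¹ᵁ U') inf_le_left).hom
  haveI : IsScalarTower Γ(X, V) Γ(X', u ⁻¹ᵁ V ⊓ f' ⁻¹ᵁ U')
      Γ(PrinPart.P f' n, u ⁻¹ᵁ V ⊓ f' ⁻¹ᵁ U') :=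
    .of_algebraMap_smul fun _ _ => rfl
  let c : Γ(X, V) ⊗[Γ(S, U)] Γ(X, V) →+ Γ(PrinPart.P f n, V) :=
    { toFun := chartSec f n hU hV hVU
      map_zero' := chartSec_zero f n hU hV hVU
      map_add' := chartSec_add f n hU hV hVU }
  let c' : Γ(X', u ⁻¹ᵁ V ⊓ f' ⁻¹ᵁ U') ⊗[Γ(S', U')] Γ(X', u ⁻¹ᵁ V ⊓ f' ⁻¹ᵁ U') →+
      Γ(PrinPart.P f' n, u ⁻¹ᵁ V ⊓ f' ⁻¹ᵁ U') :=
    { toFun := chartSec f' n hU' hW inf_le_right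
      map_zero' := chartSec_zero f' n hU' hW inf_le_right
      map_add' := chartSec_add f' n hU' hW inf_le_right }
  let θ := unitSec u (PrinPart.P f n) (inf_le_left : u ⁻¹ᵁ V ⊓ f' ⁻¹ᵁ U' ≤ u ⁻¹ᵁ V)
  haveI : (Coh.structureModule X).IsQuasicoherent :=
    Groth.Agent.Lib.StructureModule.isQuasicoherent_structureModule X
  haveI : (PrinPart.P f n).IsQuasicoherent := isQuasicoherent_PMod f n _
  have hθ : IsBaseChange Γ(X', u ⁻¹ᵁ V ⊓ f' ⁻¹ᵁ U') θ :=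
    isBaseChange_unitSec u (PrinPart.P f n) hW hV inf_le_left
  let φlin : Γ((Scheme.Modules.pullback u).obj (PrinPart.P f n), u ⁻¹ᵁ V ⊓ f' ⁻¹ᵁ U')
      →ₗ[Γ(X', u ⁻¹ᵁ V ⊓ f' ⁻¹ᵁ U')] Γ(PrinPart.P f' n, u ⁻¹ᵁ V ⊓ f' ⁻¹ᵁ U') :=
    { toFun := φ.app (u ⁻¹ᵁ V ⊓ f' ⁻¹ᵁ U')
      map_add' := map_add _
      map_smul' := fun r x => Scheme.Modules.Hom.app_smul φ r x }
  refine bijective_of_charts n Γ(S, U) Γ(X, V) Γ(S', U') Γ(X', u ⁻¹ᵁ V ⊓ f' ⁻¹ᵁ U')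
    c (fun m => chartSec_surjective f n hU hV hVU m) (fun y => chartSec_eq_zero_iff f n hU hV hVU y)
    (fun a y => chartSec_smul f n hU hV hVU a y)
    c' (fun m => chartSec_surjective f' n hU' hW inf_le_right m)
    (fun y => chartSec_eq_zero_iff f' n hU' hW inf_le_right y)
    (fun a y => chartSec_smul f' n hU' hW inf_le_right a y)
    θ hθ φlin (fun y => ?_)
  induction y using TensorProduct.induction_on with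
  | zero => rw [map_zero, map_zero, map_zero, map_zero, map_zero]
  | add y z hy hz => rw [map_add, map_add, map_add, map_add, map_add, hy, hz]
  | tmul a b =>
    rw [PP16.tensorMap_tmul]
    change φlin (θ (chartSec f n hU hV hVU (a ⊗ₜ[Γ(S, U)] b))) =
      chartSec f' n hU' hW inf_le_right
        ((algebraMap Γ(X, V) Γ(X', u ⁻¹ᵁ V ⊓ f' ⁻¹ᵁ U') a) ⊗ₜ[Γ(S', U')]
          (algebraMap Γ(X, V) Γ(X', u ⁻¹ᵁ V ⊓ f' ⁻¹ᵁ U') b))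
    rw [chartSec_tmul, chartSec_tmul, map_smul]
    have h1 : θ (PrinPart.dn f n V b) =
        ((Scheme.Modules.pullback u).obj (PrinPart.P f n)).presheaf.map
          (homOfLE (inf_le_left : u ⁻¹ᵁ V ⊓ f' ⁻¹ᵁ U' ≤ u ⁻¹ᵁ V)).op
          (OmegaSh.pullSect u (PrinPart.P f n) V (PrinPart.dn f n V b)) := rfl
    have h2 : φlin (θ (PrinPart.dn f n V b)) =
        PrinPart.dn f' n (u ⁻¹ᵁ V ⊓ f' ⁻¹ᵁ U')
          (algebraMap Γ(X, V) Γ(X', u ⁻¹ᵁ V ⊓ f' ⁻¹ᵁ U') b) := by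
      rw [h1]
      change φ.app (u ⁻¹ᵁ V ⊓ f' ⁻¹ᵁ U') _ = _
      erw [hom_app_res' φ (inf_le_left : u ⁻¹ᵁ V ⊓ f' ⁻¹ᵁ U' ≤ u ⁻¹ᵁ V)]
      rw [hφ V b]
      exact (dn_map f' n (inf_le_left : u ⁻¹ᵁ V ⊓ f' ⁻¹ᵁ U' ≤ u ⁻¹ᵁ V) (u.app V b)).symm
    change φlin (algebraMap Γ(X, V) Γ(X', u ⁻¹ᵁ V ⊓ f' ⁻¹ᵁ U') a • θ (PrinPart.dn f n V b)) = _
    rw [map_smul, h2]

include hsq hφ in
theorem isIso_of_isPMap_of_isPullback : IsIso φ := by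
  haveI : (Coh.structureModule X).IsQuasicoherent :=
    Groth.Agent.Lib.StructureModule.isQuasicoherent_structureModule X
  haveI : (Coh.structureModule X').IsQuasicoherent :=
    Groth.Agent.Lib.StructureModule.isQuasicoherent_structureModule X'
  haveI : (PrinPart.P f n).IsQuasicoherent := isQuasicoherent_PMod f n _
  haveI : (PrinPart.P f' n).IsQuasicoherent := isQuasicoherent_PMod f' n _
  haveI : ((Scheme.Modules.pullback u).obj (PrinPart.P f n)).IsQuasicoherent := inferInstance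
  let ι : Type u := {t : S.affineOpens × S'.affineOpens × X.affineOpens //
    t.2.1.1 ≤ g ⁻¹ᵁ t.1.1 ∧ t.2.2.1 ≤ f ⁻¹ᵁ t.1.1}
  refine Groth.Agent.Lib.H90OXModAffineIso.isIso_of_bijective_app_affine_cover φ
    (fun i : ι => u ⁻¹ᵁ i.1.2.2.1 ⊓ f' ⁻¹ᵁ i.1.2.1.1) ?_
    (fun i => isAffineOpen_pullbackChart f g u f' hsq i.1.1.2 i.1.2.1.2 i.1.2.2.2 i.2.1 i.2.2)
    (fun i => bijective_app_chart f g u f' hsq n φ hφ i.1.1.2 i.1.2.1.2 i.1.2.2.2 i.2.1 i.2.2)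
  rw [eq_top_iff]
  intro x _
  obtain ⟨_, ⟨U, hU, rfl⟩, hxU, -⟩ :=
    S.isBasis_affineOpens.exists_subset_of_mem_open (Set.mem_univ (f (u x))) isOpen_univ
  have hw : g (f' x) = f (u x) := by
    rw [← Scheme.Hom.comp_apply, ← Scheme.Hom.comp_apply, hsq.w]
  obtain ⟨_, ⟨U', hU', rfl⟩, hxU', hU'U⟩ :=
    S'.isBasis_affineOpens.exists_subset_of_mem_open (show f' x ∈ g ⁻¹ᵁ U from by
      change g (f' x) ∈ U
      rw [hw]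
      exact hxU) (g ⁻¹ᵁ U).isOpen
  obtain ⟨_, ⟨V, hV, rfl⟩, hxV, hVU⟩ :=
    X.isBasis_affineOpens.exists_subset_of_mem_open (show u x ∈ f ⁻¹ᵁ U from hxU)
      (f ⁻¹ᵁ U).isOpen
  exact TopologicalSpace.Opens.mem_iSup.mpr
    ⟨⟨⟨⟨U, hU⟩, ⟨U', hU'⟩, ⟨V, hV⟩⟩, hU'U, hVU⟩, hxV, hxU'⟩

end bc

end Groth.Agent.Lib.PrinPart81
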