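import Mathlib.RingTheory.Ideal.Quotient.Operations
import Mathlib.RingTheory.Ideal.Maps

set_option autoImplicit false

namespace Groth.Agent.Lib.QuotPow

/-- A ring hom between quotients induced by a surjective ring hom `φ` with `I.map φ = J`:
it is surjective and its kernel is the image of `ker φ`. -/
theorem surjective_and_ker {X Y : Type*} [CommRing X] [CommRing Y] (φ : X →+* Y)
    (hφ : Function.Surjective φ) (I : Ideal X) (J : Ideal Y) (hIJ : I.map φ = J)
    (Φ : X ⧸ I →+* Y ⧸ J)
    (hΦ : ∀ x, Φ (Ideal.Quotient.mk I x) = Ideal.Quotient.mk J (φ x)) :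
    Function.Surjective Φ ∧
      RingHom.ker Φ = (RingHom.ker φ).map (Ideal.Quotient.mk I) := by
  constructor
  · intro y
    obtain ⟨y, rfl⟩ := Ideal.Quotient.mk_surjective y
    obtain ⟨x, rfl⟩ := hφ y
    exact ⟨Ideal.Quotient.mk I x, hΦ x⟩
  · ext z
    obtain ⟨x, rfl⟩ := Ideal.Quotient.mk_surjective z
    rw [RingHom.mem_ker, hΦ, Ideal.Quotient.eq_zero_iff_mem,
      Ideal.mem_map_iff_of_surjective _ Ideal.Quotient.mk_surjective]
    constructor
    · intro h
      rw [← hIJ, Ideal.mem_map_iff_of_surjective _ hφ] at h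
      obtain ⟨a, ha, hax⟩ := h
      refine ⟨x - a, ?_, ?_⟩
      · rw [RingHom.mem_ker, map_sub, hax, sub_self]
      · rw [map_sub, sub_eq_self, Ideal.Quotient.eq_zero_iff_mem]
        exact ha
    · rintro ⟨k, hk, hkx⟩
      rw [Ideal.Quotient.eq] at hkx
      have h1 : φ x = φ (x - k) := by
        rw [map_sub, (RingHom.mem_ker).mp hk, sub_zero]
      rw [h1, ← hIJ]
      apply Ideal.mem_map_of_mem
      rw [← neg_sub]
      exact I.neg_mem hkx

end Groth.Agent.Lib.QuotPow

namespace Groth.Agent.Lib.QuotPow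

theorem map_map_of_eq {R S T F G H : Type*} [CommRing R] [CommRing S] [CommRing T]
    [FunLike F R S] [RingHomClass F R S] [FunLike G S T] [RingHomClass G S T]
    [FunLike H R T] [RingHomClass H R T] (f : F) (g : G) (h : H)
    (hcomp : ∀ x, g (f x) = h x) (K : Ideal R) : (K.map f).map g = K.map h := by
  apply le_antisymm
  · rw [Ideal.map_le_iff_le_comap, Ideal.map_le_iff_le_comap]
    intro x hx
    rw [Ideal.mem_comap, Ideal.mem_comap, hcomp]
    exact Ideal.mem_map_of_mem _ hx
  · rw [Ideal.map_le_iff_le_comap]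
    intro x hx
    rw [Ideal.mem_comap, ← hcomp]
    exact Ideal.mem_map_of_mem _ (Ideal.mem_map_of_mem _ hx)

end Groth.Agent.Lib.QuotPow
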