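/-
helper81: ring-level glue for base change of principal parts: quotEquiv (P^n_{B/A} ≃ N from an additive surjection
B⊗_A B → N with kernel I^(n+1)), bijective_of_charts (uses helper83 S3806: P^n base change is a pushout).
-/
import Groth.Agent.Lib.UnitBaseChange
import Groth.Agent.Lib.GrMod81A
import Groth.Agent.S3806

set_option autoImplicit false
set_option linter.style.haveILetI false
set_option linter.unusedSectionVars false
universe u

open TensorProduct

namespace Groth.Agent.Lib.PrinPart81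

section quotEquiv

variable (n : ℕ) (A B : Type u) [CommRing A] [CommRing B] [Algebra A B]
  {N : Type u} [AddCommGroup N] [Module B N]
  (c : B ⊗[A] B →+ N) (hc : Function.Surjective c)
  (hck : ∀ y, c y = 0 ↔ y ∈ KaehlerDifferential.ideal A B ^ (n + 1))
  (hcs : ∀ (a : B) (y : B ⊗[A] B), a • c y = c ((a ⊗ₜ[A] (1 : B)) * y))

/-- the additive map `P^n_{B/A} → N` induced by `c` -/
noncomputable def quotAdd : PP16.P n A B →+ N :=
  QuotientAddGroup.lift (KaehlerDifferential.ideal A B ^ (n + 1)).toAddSubgroup c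
    (fun y hy => (hck y).mpr hy)

theorem quotAdd_mk (y : B ⊗[A] B) :
    quotAdd n A B c hck (Ideal.Quotient.mk _ y) = c y := rfl

include hcs in
theorem quotAdd_smul (b : B) (x : PP16.P n A B) :
    quotAdd n A B c hck (b • x) = b • quotAdd n A B c hck x := by
  obtain ⟨y, rfl⟩ := Ideal.Quotient.mk_surjective x
  have h1 : b • (Ideal.Quotient.mk (KaehlerDifferential.ideal A B ^ (n + 1)) y) =
      Ideal.Quotient.mk _ ((b ⊗ₜ[A] (1 : B)) * y) := by
    rw [Algebra.smul_def, map_mul]
    rfl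
  rw [h1, quotAdd_mk, quotAdd_mk, hcs]

/-- the `B`-linear iso `P^n_{B/A} ≃ N` induced by `c` -/
noncomputable def quotEquiv : PP16.P n A B ≃ₗ[B] N :=
  LinearEquiv.ofBijective
    { toFun := quotAdd n A B c hck
      map_add' := map_add _
      map_smul' := quotAdd_smul n A B c hck hcs }
    ⟨by
      rw [← LinearMap.ker_eq_bot, LinearMap.ker_eq_bot']
      intro x hx
      obtain ⟨y, rfl⟩ := Ideal.Quotient.mk_surjective x
      exact Ideal.Quotient.eq_zero_iff_mem.mpr ((hck y).mp hx),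
     fun m => by
      obtain ⟨y, rfl⟩ := hc m
      exact ⟨Ideal.Quotient.mk _ y, rfl⟩⟩

theorem quotEquiv_mk (y : B ⊗[A] B) :
    quotEquiv n A B c hc hck hcs (Ideal.Quotient.mk _ y) = c y := rfl

end quotEquiv

section ringBC

attribute [local instance] PP16.mapAlgebra PP16.isScalarTower_mapAlgebra

variable (n : ℕ) (A B A' B' : Type u) [CommRing A] [CommRing B] [Algebra A B]
    [CommRing A'] [CommRing B'] [Algebra A' B'] [Algebra A A'] [Algebra B B'] [Algebra A B']
    [IsScalarTower A A' B'] [IsScalarTower A B B'] [Algebra.IsPushout A B A' B']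
  {N N₁ N₂ : Type u} [AddCommGroup N] [Module B N]
  [AddCommGroup N₁] [Module B N₁] [Module B' N₁] [IsScalarTower B B' N₁]
  [AddCommGroup N₂] [Module B N₂] [Module B' N₂] [IsScalarTower B B' N₂]
  (c : B ⊗[A] B →+ N) (hc : Function.Surjective c)
  (hck : ∀ y, c y = 0 ↔ y ∈ KaehlerDifferential.ideal A B ^ (n + 1))
  (hcs : ∀ (a : B) (y : B ⊗[A] B), a • c y = c ((a ⊗ₜ[A] (1 : B)) * y))
  (c' : B' ⊗[A'] B' →+ N₂) (hc' : Function.Surjective c')
  (hck' : ∀ y, c' y = 0 ↔ y ∈ KaehlerDifferential.ideal A' B' ^ (n + 1))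
  (hcs' : ∀ (a : B') (y : B' ⊗[A'] B'), a • c' y = c' ((a ⊗ₜ[A'] (1 : B')) * y))
  (θ : N →ₗ[B] N₁) (hθ : IsBaseChange B' θ) (φ : N₁ →ₗ[B'] N₂)
  (hφ : ∀ y, φ (θ (c y)) = c' (PP16.tensorMap A B A' B' y))

include hc hck hcs hc' hck' hcs' hθ hφ in
theorem bijective_of_charts : Function.Bijective φ := by
  let E := quotEquiv n A B c hc hck hcs
  let E' := quotEquiv n A' B' c' hc' hck' hcs'
  have hpo : Algebra.IsPushout B (PP16.P n A B) B' (PP16.P n A' B') :=
    Groth.Agent.S3806.result n A B A' B'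
  have hpo' : Algebra.IsPushout B B' (PP16.P n A B) (PP16.P n A' B') := hpo.symm
  have hmap : IsBaseChange B' (IsScalarTower.toAlgHom B (PP16.P n A B) (PP16.P n A' B')).toLinearMap :=
    hpo'.out
  let α : PP16.P n A B →ₗ[B] N₁ := θ ∘ₗ E.toLinearMap
  have hα : IsBaseChange B' α :=
    Groth.Agent.Lib.UnitBaseChange.isBaseChange_of_equivs θ hθ E (LinearEquiv.refl B' N₁) α
      (fun m => rfl)
  let β : PP16.P n A B →ₗ[B] N₂ :=
    (E'.toLinearMap.restrictScalars B) ∘ₗ
      (IsScalarTower.toAlgHom B (PP16.P n A B) (PP16.P n A' B')).toLinearMap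
  have hβ : IsBaseChange B' β :=
    Groth.Agent.Lib.UnitBaseChange.isBaseChange_of_equivs _ hmap (LinearEquiv.refl B _) E' β
      (fun m => rfl)
  refine Groth.Agent.Lib.GrMod81.bijective_of_isBaseChange_comm α hα β hβ φ (fun p => ?_)
  obtain ⟨y, rfl⟩ := Ideal.Quotient.mk_surjective p
  change φ (θ (c y)) = E' (PP16.map n A B A' B' (Ideal.Quotient.mk _ y))
  rw [hφ, PP16.map_mk]
  rfl

end ringBC

end Groth.Agent.Lib.PrinPart81
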