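/-
helper81: ring-level glue for S9715: kappa (P^k_{B/A} ≃+* C from a surjection Φ : B⊗_A B → C with kernel I^(k+1)),
kappaLin, tensE (P^k(M) ≃ C⊗_B M), exists_left_linear_of_isDiffOpLE (from helper83 S3815: a diff op of order ≤ k
factors through any base change θ : M → Q = C⊗_B M by a left-B-linear map).
-/
import Groth.Agent.S3815

set_option autoImplicit false
set_option linter.style.haveILetI false
set_option linter.unusedSectionVars false
universe u

open TensorProduct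

namespace Groth.Agent.Lib.PrinPart81

section algT

variable (k : ℕ) (A B : Type u) [CommRing A] [CommRing B] [Algebra A B]
  (M N : Type u) [AddCommGroup M] [Module A M] [Module B M] [IsScalarTower A B M]
  [AddCommGroup N] [Module A N] [Module B N] [IsScalarTower A B N]
  (D' : M →ₗ[A] N) (hD' : Diff16.IsDiffOpLE A B M N k D')
  {C : Type u} [CommRing C] [Algebra B C]
  (Φ : B ⊗[A] B →+* C) (hΦs : Function.Surjective Φ)
  (hΦk : RingHom.ker Φ = KaehlerDifferential.ideal A B ^ (k + 1))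
  (hΦ2 : ∀ b : B, Φ ((1 : B) ⊗ₜ[A] b) = algebraMap B C b)
  {Q : Type u} [AddCommGroup Q] [Module C Q] [Module B Q] [IsScalarTower B C Q]
  (θ : M →ₗ[B] Q) (hθ : IsBaseChange C θ)

/-- the ring iso `P^k_{B/A} ≃ C` induced by `Φ` -/
noncomputable def kappa : PP16.P k A B ≃+* C :=
  (Ideal.quotEquivOfEq hΦk.symm).trans (RingHom.quotientKerEquivOfSurjective hΦs)

theorem kappa_mk (y : B ⊗[A] B) : kappa k A B Φ hΦs hΦk (Ideal.Quotient.mk _ y) = Φ y := rfl

/-- `κ` as a `B`-linear equivalence for the right structures -/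
noncomputable def kappaLin : PP16.Pr k A B ≃ₗ[B] C :=
  { (kappa k A B Φ hΦs hΦk).toAddEquiv with
    map_smul' := fun b p => by
      change kappa k A B Φ hΦs hΦk (PP16.dn k A B b * (show PP16.P k A B from p)) =
        b • kappa k A B Φ hΦs hΦk (show PP16.P k A B from p)
      rw [map_mul, Algebra.smul_def, ← hΦ2]
      rfl }

theorem kappaLin_apply (p : PP16.Pr k A B) :
    kappaLin k A B Φ hΦs hΦk hΦ2 p = kappa k A B Φ hΦs hΦk (show PP16.P k A B from p) := rfl

/-- `P^k(M) = Pr ⊗_B M ≃ C ⊗_B M` -/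
noncomputable def tensE : PP16.PM k A B M ≃ₗ[B] C ⊗[B] M :=
  TensorProduct.congr (kappaLin k A B Φ hΦs hΦk hΦ2) (LinearEquiv.refl B M)

theorem tensE_symm_smul (c : C) (y : C ⊗[B] M) :
    (tensE k A B M Φ hΦs hΦk hΦ2).symm (c • y) =
      (kappa k A B Φ hΦs hΦk).symm c • (tensE k A B M Φ hΦs hΦk hΦ2).symm y := by
  induction y using TensorProduct.induction_on with
  | zero => rw [smul_zero, map_zero, smul_zero]
  | add y z hy hz => rw [smul_add, map_add, hy, hz, map_add, smul_add]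
  | tmul c' m =>
    rw [TensorProduct.smul_tmul']
    change ((kappaLin k A B Φ hΦs hΦk hΦ2).symm (c * c')) ⊗ₜ[B] m =
      (kappa k A B Φ hΦs hΦk).symm c • (((kappaLin k A B Φ hΦs hΦk hΦ2).symm c') ⊗ₜ[B] m)
    rw [TensorProduct.smul_tmul']
    congr 1
    exact map_mul (kappa k A B Φ hΦs hΦk).symm c c'

include hD' hθ hΦs hΦk hΦ2 in
theorem exists_left_linear_of_isDiffOpLE :
    ∃ v : Q →+ N, (∀ (b : B) (q : Q), v (Φ (b ⊗ₜ[A] (1 : B)) • q) = b • v q) ∧
      ∀ m : M, v (θ m) = D' m := by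
  obtain ⟨u₀, ⟨hu1, hu2⟩, -⟩ := (Groth.Agent.S3815.result k A B M N D').mp hD'
  let τ : Q →+ PP16.PM k A B M :=
    ((tensE k A B M Φ hΦs hΦk hΦ2).symm.toLinearMap.toAddMonoidHom).comp
      (hθ.equiv.symm.toLinearMap.toAddMonoidHom)
  refine ⟨u₀.comp τ, fun b q => ?_, fun m => ?_⟩
  · change u₀ ((tensE k A B M Φ hΦs hΦk hΦ2).symm (hθ.equiv.symm (Φ (b ⊗ₜ[A] (1 : B)) • q))) =
      b • u₀ ((tensE k A B M Φ hΦs hΦk hΦ2).symm (hθ.equiv.symm q))
    rw [map_smul, tensE_symm_smul, ← hu1]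
    congr 2
    rw [RingEquiv.symm_apply_eq]
    rfl
  · change u₀ ((tensE k A B M Φ hΦs hΦk hΦ2).symm (hθ.equiv.symm (θ m))) = D' m
    rw [IsBaseChange.equiv_symm_apply, ← hu2]
    congr 1
    change ((kappaLin k A B Φ hΦs hΦk hΦ2).symm (1 : C)) ⊗ₜ[B] m = (1 : PP16.Pr k A B) ⊗ₜ[B] m
    congr 1
    exact map_one (kappa k A B Φ hΦs hΦk).symm

end algT

end Groth.Agent.Lib.PrinPart81
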