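/-
helper81: S9715: on affine X/S, every ring-level differential operator Γ(F) → Γ(G) of order ≤ k (F qcoh, G arbitrary)
is induced by a sheaf-level differential operator of order ≤ k (exists_diffOp_of_ring_diffOp).
-/
import Groth.Agent.Lib.PrinPart81G
import Groth.Agent.Lib.PrinPart81B
import Groth.Agent.Lib.PrinPart81N1
import Groth.Agent.Lib.AffineQCohHom81

set_option autoImplicit false
set_option linter.style.haveILetI false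
set_option linter.unusedSectionVars false
universe u

open CategoryTheory CategoryTheory.Limits AlgebraicGeometry TopologicalSpace Opposite TensorProduct

namespace Groth.Agent.Lib.PrinPart81

open Groth.Agent.Lib.UnitBaseChange

section affineDiff

variable {X S : Scheme.{u}} [IsAffine X] [IsAffine S] (f : X ⟶ S)
    (F G : X.Modules) (hF : Coh.IsQCoh F) (k : ℕ)

include hF in
set_option backward.isDefEq.respectTransparency false in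
theorem exists_diffOp_of_ring_diffOp :
    letI : Algebra Γ(S, ⊤) Γ(X, ⊤) := f.appTop.hom.toAlgebra
    letI : Module Γ(S, ⊤) Γ(F, ⊤) := Module.compHom Γ(F, ⊤) f.appTop.hom
    letI : Module Γ(S, ⊤) Γ(G, ⊤) := Module.compHom Γ(G, ⊤) f.appTop.hom
    haveI : IsScalarTower Γ(S, ⊤) Γ(X, ⊤) Γ(F, ⊤) := IsScalarTower.of_algebraMap_smul fun _ _ => rfl
    haveI : IsScalarTower Γ(S, ⊤) Γ(X, ⊤) Γ(G, ⊤) := IsScalarTower.of_algebraMap_smul fun _ _ => rfl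
    ∀ D' : Γ(F, ⊤) →ₗ[Γ(S, ⊤)] Γ(G, ⊤), Diff16.IsDiffOpLE Γ(S, ⊤) Γ(X, ⊤) Γ(F, ⊤) Γ(G, ⊤) k D' →
      ∃ D : F.presheaf ⟶ G.presheaf, PrinPart.IsDiffOpLE f F G k D ∧
        ∀ m : Γ(F, ⊤), (D.app (op ⊤)).hom m = D' m := by
  letI : Algebra Γ(S, ⊤) Γ(X, ⊤) := f.appTop.hom.toAlgebra
  letI : Module Γ(S, ⊤) Γ(F, ⊤) := Module.compHom Γ(F, ⊤) f.appTop.hom
  letI : Module Γ(S, ⊤) Γ(G, ⊤) := Module.compHom Γ(G, ⊤) f.appTop.hom
  haveI : IsScalarTower Γ(S, ⊤) Γ(X, ⊤) Γ(F, ⊤) := IsScalarTower.of_algebraMap_smul fun _ _ => rfl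
  haveI : IsScalarTower Γ(S, ⊤) Γ(X, ⊤) Γ(G, ⊤) := IsScalarTower.of_algebraMap_smul fun _ _ => rfl
  intro D' hD'
  haveI : F.IsQuasicoherent := hF
  have hU : IsAffineOpen (⊤ : S.Opens) := isAffineOpen_top S
  have hV : IsAffineOpen (⊤ : X.Opens) := isAffineOpen_top X
  have e : (⊤ : X.Opens) ≤ f ⁻¹ᵁ ⊤ := le_refl _
  have hγ : CommRingCat.ofHom (algebraMap Γ(S, ⊤) Γ(X, ⊤)) ≫ (Iso.refl Γ(X, ⊤)).hom =
      (Iso.refl Γ(S, ⊤)).hom ≫ f.appLE ⊤ ⊤ e := by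
    erw [Category.comp_id, Category.id_comp]
    exact Scheme.Hom.app_eq_appLE (f := f) (U := ⊤)
  have hWaff : IsAffineOpen (PrinPart.pr1 f k ⁻¹ᵁ (⊤ : X.Opens)) := hV.preimage (PrinPart.pr1 f k)
  let Φ := chartPhi' f k hU hV e Γ(S, ⊤) Γ(X, ⊤) (Iso.refl _) (Iso.refl _) hγ
  letI : Algebra Γ(X, ⊤) Γ(PrinPart.nbhd f k, PrinPart.pr1 f k ⁻¹ᵁ (⊤ : X.Opens)) :=
    ((PrinPart.pr2 f k).appLE ⊤ (PrinPart.pr1 f k ⁻¹ᵁ ⊤) (pr2_le f k)).hom.toAlgebra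
  letI : Module Γ(X, ⊤) Γ((Scheme.Modules.pullback (PrinPart.pr2 f k)).obj F,
      PrinPart.pr1 f k ⁻¹ᵁ (⊤ : X.Opens)) :=
    Module.compHom _ ((PrinPart.pr2 f k).appLE ⊤ (PrinPart.pr1 f k ⁻¹ᵁ ⊤) (pr2_le f k)).hom
  haveI : IsScalarTower Γ(X, ⊤) Γ(PrinPart.nbhd f k, PrinPart.pr1 f k ⁻¹ᵁ (⊤ : X.Opens))
      Γ((Scheme.Modules.pullback (PrinPart.pr2 f k)).obj F, PrinPart.pr1 f k ⁻¹ᵁ (⊤ : X.Opens)) :=
    .of_algebraMap_smul fun _ _ => rfl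
  let θ := unitSec (PrinPart.pr2 f k) F (pr2_le f k (V := ⊤))
  have hθ : IsBaseChange Γ(PrinPart.nbhd f k, PrinPart.pr1 f k ⁻¹ᵁ (⊤ : X.Opens)) θ :=
    isBaseChange_unitSec (PrinPart.pr2 f k) F hWaff hV (pr2_le f k)
  have hΦ2 : ∀ b : Γ(X, ⊤), Φ ((1 : Γ(X, ⊤)) ⊗ₜ[Γ(S, ⊤)] b) =
      algebraMap Γ(X, ⊤) Γ(PrinPart.nbhd f k, PrinPart.pr1 f k ⁻¹ᵁ (⊤ : X.Opens)) b := by
    intro b
    change chartPhi' f k hU hV e Γ(S, ⊤) Γ(X, ⊤) (Iso.refl _) (Iso.refl _) hγ _ = _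
    rw [chartPhi'_tmul]
    erw [map_one, one_mul]
    rfl
  obtain ⟨v, hv1, hv2⟩ := exists_left_linear_of_isDiffOpLE k Γ(S, ⊤) Γ(X, ⊤) Γ(F, ⊤) Γ(G, ⊤) D' hD'
    Φ (chartPhi'_surjective f k hU hV e Γ(S, ⊤) Γ(X, ⊤) (Iso.refl _) (Iso.refl _) hγ)
    (ker_chartPhi' f k hU hV e Γ(S, ⊤) Γ(X, ⊤) (Iso.refl _) (Iso.refl _) hγ) hΦ2 θ hθ
  haveI : (PrinPart.PMod f k F).IsQuasicoherent := isQuasicoherent_PMod f k F
  have hΦ1 : ∀ b : Γ(X, ⊤), Φ (b ⊗ₜ[Γ(S, ⊤)] (1 : Γ(X, ⊤))) =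
      ((PrinPart.pr1 f k).app ⊤).hom b := by
    intro b
    change chartPhi' f k hU hV e Γ(S, ⊤) Γ(X, ⊤) (Iso.refl _) (Iso.refl _) hγ _ = _
    rw [chartPhi'_tmul]
    erw [map_one, mul_one]
    rfl
  let v' : Γ(PrinPart.PMod f k F, ⊤) →ₗ[Γ(X, ⊤)] Γ(G, ⊤) :=
    { toFun := fun q => v q
      map_add' := fun q q' => map_add v q q'
      map_smul' := fun b q => by
        have h1 : (b • q : Γ(PrinPart.PMod f k F, ⊤)) =
            (show Γ(PrinPart.PMod f k F, ⊤) from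
              (Φ (b ⊗ₜ[Γ(S, ⊤)] (1 : Γ(X, ⊤))) •
                (show Γ((Scheme.Modules.pullback (PrinPart.pr2 f k)).obj F,
                  PrinPart.pr1 f k ⁻¹ᵁ (⊤ : X.Opens)) from q))) := by
          rw [hΦ1]
          rfl
        exact (congrArg v h1).trans (hv1 b q) }
  obtain ⟨α, hα⟩ := Groth.Agent.Lib.AffineQCohHom81.exists_hom_of_isAffine (PrinPart.PMod f k F) G v'
  refine ⟨PrinPart.dPHom f k F ≫ α.mapPresheaf, ⟨α, fun U t => rfl⟩, fun m => ?_⟩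
  change α.app ⊤ (PrinPart.dP f k F ⊤ m) = D' m
  rw [hα]
  exact hv2 m

end affineDiff

end Groth.Agent.Lib.PrinPart81
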