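/-
helper81: symmetry of the infinitesimal neighbourhoods of the diagonal (S5969): ker_pow_le_map, sigmaOf (endomorphism of
V(K^n) induced by an affine endomorphism fixing d), preimage_coborderRange, symC, sigmaSym (+_ι, involution, fixes sections),
exists_sigma.
-/
import Groth.Agent.Lib.PrinPart81B
import Mathlib.AlgebraicGeometry.IdealSheaf.Functorial

set_option autoImplicit false
set_option linter.style.haveILetI false
set_option linter.unusedSectionVars false
universe u

open CategoryTheory CategoryTheory.Limits AlgebraicGeometry TopologicalSpace Opposite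

namespace Groth.Agent.Lib.PrinPart81

section abstractSigma

variable {X C : Scheme.{u}} (d : X ⟶ C) (s : C ⟶ C) [IsAffineHom s] (hds : d ≫ s = d) (n : ℕ)

include hds in
theorem ker_pow_le_map : d.ker ^ n ≤ (d.ker ^ n).map s := by
  have hK : d.ker.map s = d.ker := by rw [Scheme.IdealSheafData.map_ker, hds]
  intro U
  rw [Scheme.IdealSheafData.ideal_map_of_isAffineHom]
  change (d.ker.ideal U) ^ n ≤ ((d.ker.ideal ⟨s ⁻¹ᵁ U.1, U.2.preimage s⟩) ^ n).comap (s.app U).hom
  rw [← Ideal.map_le_iff_le_comap, Ideal.map_pow]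
  apply Ideal.pow_right_mono
  rw [Ideal.map_le_iff_le_comap, ← Scheme.IdealSheafData.ideal_map_of_isAffineHom, hK]

/-- the endomorphism of the closed subscheme `V(K^n)` induced by `s` -/
noncomputable def sigmaOf : (d.ker ^ n).subscheme ⟶ (d.ker ^ n).subscheme :=
  Scheme.IdealSheafData.subschemeMap (d.ker ^ n) (d.ker ^ n) s (ker_pow_le_map d s hds n)

theorem sigmaOf_ι : sigmaOf d s hds n ≫ (d.ker ^ n).subschemeι = (d.ker ^ n).subschemeι ≫ s :=
  Scheme.IdealSheafData.subschemeMap_subschemeι _ _ _ _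

end abstractSigma

section abstractSym

variable {X P : Scheme.{u}} (Δ : X ⟶ P) [IsImmersion Δ] (s : P ⟶ P) (hss : s ≫ s = 𝟙 P)
  (hΔs : Δ ≫ s = Δ)

include hss hΔs in
theorem preimage_coborderRange : s ⁻¹ᵁ Δ.coborderRange = Δ.coborderRange := by
  haveI : IsIso s := ⟨s, hss, hss⟩
  have hpre : s ⁻¹' (Set.range Δ) = Set.range Δ := by
    ext x
    constructor
    · rintro ⟨y, hy⟩
      refine ⟨y, ?_⟩
      have h1 : s (s x) = x := by rw [← Scheme.Hom.comp_apply, hss]; rfl
      rw [← h1, ← hy, ← Scheme.Hom.comp_apply, hΔs]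
    · rintro ⟨y, rfl⟩
      exact ⟨y, by rw [← Scheme.Hom.comp_apply, hΔs]⟩
  apply TopologicalSpace.Opens.ext
  change s ⁻¹' (coborder (Set.range Δ)) = coborder (Set.range Δ)
  rw [← coborder_preimage s.isOpenEmbedding.isOpenMap s.continuous, hpre]

/-- the involution restricted to the coborder open -/
noncomputable def symC : (Δ.coborderRange : Scheme.{u}) ⟶ Δ.coborderRange :=
  IsOpenImmersion.lift Δ.coborderRange.ι (Δ.coborderRange.ι ≫ s) (by
    rintro _ ⟨x, rfl⟩
    rw [Scheme.Opens.range_ι]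
    have hx : (Δ.coborderRange.ι x) ∈ s ⁻¹ᵁ Δ.coborderRange := by
      rw [preimage_coborderRange Δ s hss hΔs]
      exact x.2
    exact hx)

theorem symC_ι : symC Δ s hss hΔs ≫ Δ.coborderRange.ι = Δ.coborderRange.ι ≫ s :=
  IsOpenImmersion.lift_fac _ _ _

theorem symC_symC : symC Δ s hss hΔs ≫ symC Δ s hss hΔs = 𝟙 _ := by
  rw [← cancel_mono Δ.coborderRange.ι, Category.assoc, symC_ι, ← Category.assoc, symC_ι,
    Category.assoc, hss, Category.comp_id, Category.id_comp]

instance : IsIso (symC Δ s hss hΔs) := ⟨symC Δ s hss hΔs, symC_symC Δ s hss hΔs, symC_symC Δ s hss hΔs⟩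

theorem liftCoborder_symC : Δ.liftCoborder ≫ symC Δ s hss hΔs = Δ.liftCoborder := by
  rw [← cancel_mono Δ.coborderRange.ι, Category.assoc, symC_ι, ← Category.assoc,
    Scheme.Hom.liftCoborder_ι, hΔs]

/-- the symmetry of the `n`-th power thickening -/
noncomputable def sigmaSym (n : ℕ) :
    (Δ.liftCoborder.ker ^ n).subscheme ⟶ (Δ.liftCoborder.ker ^ n).subscheme :=
  sigmaOf Δ.liftCoborder (symC Δ s hss hΔs) (liftCoborder_symC Δ s hss hΔs) n

theorem sigmaSym_ι (n : ℕ) :
    sigmaSym Δ s hss hΔs n ≫ ((Δ.liftCoborder.ker ^ n).subschemeι ≫ Δ.coborderRange.ι) =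
      ((Δ.liftCoborder.ker ^ n).subschemeι ≫ Δ.coborderRange.ι) ≫ s := by
  unfold sigmaSym
  rw [← Category.assoc, sigmaOf_ι, Category.assoc, symC_ι, Category.assoc]

theorem sigmaSym_sigmaSym (n : ℕ) :
    sigmaSym Δ s hss hΔs n ≫ sigmaSym Δ s hss hΔs n = 𝟙 _ := by
  rw [← cancel_mono ((Δ.liftCoborder.ker ^ n).subschemeι ≫ Δ.coborderRange.ι), Category.assoc,
    sigmaSym_ι, ← Category.assoc, sigmaSym_ι, Category.assoc, hss, Category.comp_id,
    Category.id_comp]

theorem comp_sigmaSym (n : ℕ) (t : X ⟶ (Δ.liftCoborder.ker ^ n).subscheme)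
    (ht : t ≫ ((Δ.liftCoborder.ker ^ n).subschemeι ≫ Δ.coborderRange.ι) = Δ) :
    t ≫ sigmaSym Δ s hss hΔs n = t := by
  rw [← cancel_mono ((Δ.liftCoborder.ker ^ n).subschemeι ≫ Δ.coborderRange.ι), Category.assoc,
    sigmaSym_ι, ← Category.assoc, ht, hΔs]

end abstractSym

section concrete

variable {X S : Scheme.{u}} (f : X ⟶ S) (n : ℕ)

theorem symm_symm : (pullbackSymmetry f f).hom ≫ (pullbackSymmetry f f).hom = 𝟙 _ := by
  apply pullback.hom_ext
  · rw [Category.assoc, pullbackSymmetry_hom_comp_fst, pullbackSymmetry_hom_comp_snd,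
      Category.id_comp]
  · rw [Category.assoc, pullbackSymmetry_hom_comp_snd, pullbackSymmetry_hom_comp_fst,
      Category.id_comp]

theorem diagonal_symm : pullback.diagonal f ≫ (pullbackSymmetry f f).hom = pullback.diagonal f := by
  apply pullback.hom_ext
  · rw [Category.assoc, pullbackSymmetry_hom_comp_fst, pullback.diagonal_snd, pullback.diagonal_fst]
  · rw [Category.assoc, pullbackSymmetry_hom_comp_snd, pullback.diagonal_fst, pullback.diagonal_snd]

theorem exists_sigma :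
    ∃ σ : PrinPart.nbhd f n ⟶ PrinPart.nbhd f n,
      σ ≫ PrinPart.nbhdι f n = PrinPart.nbhdι f n ≫ (pullbackSymmetry f f).hom ∧
      σ ≫ σ = 𝟙 (PrinPart.nbhd f n) ∧
      σ ≫ PrinPart.pr1 f n = PrinPart.pr2 f n ∧ σ ≫ PrinPart.pr2 f n = PrinPart.pr1 f n ∧
      PrinPart.toNbhd f n ≫ σ = PrinPart.toNbhd f n := by
  have h1 : sigmaSym (pullback.diagonal f) _ (symm_symm f) (diagonal_symm f) (n + 1) ≫
      PrinPart.nbhdι f n = PrinPart.nbhdι f n ≫ (pullbackSymmetry f f).hom :=
    sigmaSym_ι (pullback.diagonal f) _ (symm_symm f) (diagonal_symm f) (n + 1)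
  refine ⟨sigmaSym (pullback.diagonal f) _ (symm_symm f) (diagonal_symm f) (n + 1), h1,
    sigmaSym_sigmaSym _ _ _ _ _, ?_, ?_, ?_⟩
  · rw [PrinPart.pr1, ← Category.assoc, h1, Category.assoc, pullbackSymmetry_hom_comp_fst]
    rfl
  · rw [PrinPart.pr2, ← Category.assoc, h1, Category.assoc, pullbackSymmetry_hom_comp_snd]
    rfl
  · exact comp_sigmaSym _ _ _ _ _ _ (PrinPart.toNbhd_ι f n)

end concrete

end Groth.Agent.Lib.PrinPart81
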