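import Groth.Agent.Lib.GenFreeNil64
import Groth.Agent.Lib.H77GenFreeRedFinal
import Groth.Agent.Lib.H77GenFreeRedMain
import Groth.Agent.Lib.FlatLimGlobal64
import Groth.Agent.Lib.FlatLimDirected88

/-!
# EGA IV 8.9.5: principal stratification with free pieces (helper64)

* `exists_free_of_isUnit`: `R` Noetherian nontrivial, `N` finite over a finite type `R`-algebra and
  flat over `R`: there is a non-nilpotent `h` such that `T ⊗[R] N` is free over every `R`-algebra
  `T` in which `h` is invertible.
* `exists_strat`: Noetherian induction giving a list `l` generating the unit ideal modulo `I` with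
  `T ⊗[R] N` free whenever `I` and `l[0..i-1]` die and `l[i]` becomes invertible in `T`.
* `exists_principal_stratification`: the same for a finitely presented module over a finitely
  presented algebra over any ring, flat over the base (via a Noetherian model).
-/

set_option autoImplicit false
set_option maxHeartbeats 1000000
set_option linter.style.haveILetI false

universe u

namespace Groth.Agent.Lib.PrincStrat64

open TensorProduct Function
open scoped Groth.Agent.Lib.FlatLimStage88

section Noeth

open Groth.Agent.Lib.H77GenFreeRed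

set_option synthInstance.maxHeartbeats 400000 in
/-- Generic freeness over a Noetherian (possibly non-reduced) ring, universal form. -/
theorem exists_free_of_isUnit {R : Type u} [CommRing R] [IsNoetherianRing R] [Nontrivial R]
    (S : Type u) [CommRing S] [Algebra R S] [Algebra.FiniteType R S]
    (N : Type u) [AddCommGroup N] [Module R N] [Module S N] [IsScalarTower R S N]
    [Module.Finite S N] [Module.Flat R N] :
    ∃ h : R, ¬ IsNilpotent h ∧ ∀ (T : Type u) [CommRing T] [Algebra R T],
      IsUnit (algebraMap R T h) → Module.Free T (T ⊗[R] N) := by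
  classical
  have hred : IsReduced (R ⧸ nilradical R) :=
    (Ideal.isRadical_iff_quotient_reduced _).mp (Ideal.radical_isRadical _)
  have hnt : Nontrivial (R ⧸ nilradical R) := by
    apply Ideal.Quotient.nontrivial_iff.mpr
    intro h
    have h1 : (1 : R) ∈ nilradical R := h ▸ Submodule.mem_top
    obtain ⟨n, hn⟩ := mem_nilradical.mp h1
    rw [one_pow] at hn
    exact one_ne_zero hn
  obtain ⟨hb, hne, s, hs⟩ :=
    denseFree_of_finiteType (R := R ⧸ nilradical R) ((R ⧸ nilradical R) ⊗[R] S)
      ((R ⧸ nilradical R) ⊗[R] N) 1 one_ne_zero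
  rw [one_mul] at hne
  have hs' := hs.congr (one_mul hb)
  obtain ⟨h, rfl⟩ := Ideal.Quotient.mk_surjective hb
  refine ⟨h, fun hn => hne (Ideal.Quotient.eq_zero_iff_mem.mpr (mem_nilradical.mpr hn)), ?_⟩
  intro T _ _ hu
  let J : Ideal T := (nilradical R).map (algebraMap R T)
  have hJ : IsNilpotent J := by
    obtain ⟨n, hn⟩ := IsNoetherianRing.isNilpotent_nilradical R
    refine ⟨n, ?_⟩
    change ((nilradical R).map (algebraMap R T)) ^ n = 0
    rw [← Ideal.map_pow, hn]
    exact Ideal.map_bot
  -- `h` is a unit in `T ⧸ J` as an algebra over the reduction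
  have hu' : IsUnit (algebraMap (R ⧸ nilradical R) (T ⧸ J) (Ideal.Quotient.mk _ h)) := by
    rw [Ideal.Quotient.algebraMap_quotient_map_quotient]
    exact hu.map (Ideal.Quotient.mk J)
  let Rf := Localization.Away (Ideal.Quotient.mk (nilradical R) h)
  letI algRf : Algebra Rf (T ⧸ J) :=
    (IsLocalization.Away.lift (Ideal.Quotient.mk (nilradical R) h) hu').toAlgebra
  haveI : IsScalarTower (R ⧸ nilradical R) Rf (T ⧸ J) :=
    IsScalarTower.of_algebraMap_eq fun x => by
      change _ = IsLocalization.Away.lift (Ideal.Quotient.mk (nilradical R) h) hu'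
        (algebraMap (R ⧸ nilradical R) Rf x)
      rw [IsLocalization.Away.lift_eq]
  have hfree1 : Module.Free Rf
      (LocalizedModule (Submonoid.powers (Ideal.Quotient.mk (nilradical R) h))
        ((R ⧸ nilradical R) ⊗[R] N)) := hs'.free_localizedModule
  let e0 : Rf ⊗[R ⧸ nilradical R] ((R ⧸ nilradical R) ⊗[R] N) ≃ₗ[Rf]
      LocalizedModule (Submonoid.powers (Ideal.Quotient.mk (nilradical R) h))
        ((R ⧸ nilradical R) ⊗[R] N) :=
    (IsLocalizedModule.isBaseChange (Submonoid.powers (Ideal.Quotient.mk (nilradical R) h)) Rf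
      (LocalizedModule.mkLinearMap (Submonoid.powers (Ideal.Quotient.mk (nilradical R) h))
        ((R ⧸ nilradical R) ⊗[R] N))).equiv
  have hfree2 : Module.Free Rf (Rf ⊗[R ⧸ nilradical R] ((R ⧸ nilradical R) ⊗[R] N)) :=
    Module.Free.of_equiv e0.symm
  have hfree3 : Module.Free (T ⧸ J)
      ((T ⧸ J) ⊗[Rf] (Rf ⊗[R ⧸ nilradical R] ((R ⧸ nilradical R) ⊗[R] N))) := inferInstance
  let e1 : (T ⧸ J) ⊗[Rf] (Rf ⊗[R ⧸ nilradical R] ((R ⧸ nilradical R) ⊗[R] N)) ≃ₗ[T ⧸ J]
      (T ⧸ J) ⊗[R ⧸ nilradical R] ((R ⧸ nilradical R) ⊗[R] N) :=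
    AlgebraTensorModule.cancelBaseChange (R ⧸ nilradical R) Rf (T ⧸ J) (T ⧸ J)
      ((R ⧸ nilradical R) ⊗[R] N)
  let e2 : (T ⧸ J) ⊗[R ⧸ nilradical R] ((R ⧸ nilradical R) ⊗[R] N) ≃ₗ[T ⧸ J] (T ⧸ J) ⊗[R] N :=
    AlgebraTensorModule.cancelBaseChange R (R ⧸ nilradical R) (T ⧸ J) (T ⧸ J) N
  let e3 : (T ⧸ J) ⊗[T] (T ⊗[R] N) ≃ₗ[T ⧸ J] (T ⧸ J) ⊗[R] N :=
    AlgebraTensorModule.cancelBaseChange R T (T ⧸ J) (T ⧸ J) N
  have hfree4 : Module.Free (T ⧸ J) ((T ⧸ J) ⊗[T] (T ⊗[R] N)) :=
    Module.Free.of_equiv (e1 ≪≫ₗ e2 ≪≫ₗ e3.symm)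
  have hflat : Module.Flat T (T ⊗[R] N) := inferInstance
  exact Groth.Agent.Lib.GenFreeNil64.free_of_flat_of_free_quotient J (T ⊗[R] N) hJ

/-- The stratification property, universal form. -/
def Strat (R : Type u) [CommRing R] (N : Type u) [AddCommGroup N] [Module R N] (I : Ideal R)
    (l : List R) : Prop :=
  I ⊔ Ideal.span {a | a ∈ l} = ⊤ ∧
    ∀ (i : ℕ) (hi : i < l.length) (T : Type u) [CommRing T] [Algebra R T],
      (∀ a ∈ I, algebraMap R T a = 0) → (∀ a ∈ l.take i, algebraMap R T a = 0) →
      IsUnit (algebraMap R T l[i]) → Module.Free T (T ⊗[R] N)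

set_option synthInstance.maxHeartbeats 400000 in
/-- Noetherian induction: principal stratification with free pieces. -/
theorem exists_strat {R : Type u} [CommRing R] [IsNoetherianRing R]
    (S : Type u) [CommRing S] [Algebra R S] [Algebra.FiniteType R S]
    (N : Type u) [AddCommGroup N] [Module R N] [Module S N] [IsScalarTower R S N]
    [Module.Finite S N] [Module.Flat R N] (I : Ideal R) : ∃ l : List R, Strat R N I l := by
  classical
  induction I using IsNoetherian.induction with
  | _ I IH =>
  by_cases hI : I = ⊤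
  · refine ⟨[], ?_, ?_⟩
    · rw [hI, top_sup_eq]
    · intro i hi
      simp at hi
  · have hnt : Nontrivial (R ⧸ I) := Ideal.Quotient.nontrivial_iff.mpr hI
    have hflat : Module.Flat (R ⧸ I) ((R ⧸ I) ⊗[R] N) := inferInstance
    obtain ⟨hb, hnil, hfree⟩ :=
      exists_free_of_isUnit (R := R ⧸ I) ((R ⧸ I) ⊗[R] S) ((R ⧸ I) ⊗[R] N)
    obtain ⟨h, rfl⟩ := Ideal.Quotient.mk_surjective hb
    have hhI : h ∉ I := by
      intro hh
      apply hnil
      rw [Ideal.Quotient.eq_zero_iff_mem.mpr hh]
      exact IsNilpotent.zero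
    have hlt : I < I ⊔ Ideal.span {h} := by
      refine lt_of_le_of_ne le_sup_left ?_
      intro heq
      apply hhI
      rw [heq]
      exact Ideal.mem_sup_right (Ideal.subset_span rfl)
    obtain ⟨l', hl'1, hl'2⟩ := IH _ hlt
    refine ⟨h :: l', ?_, ?_⟩
    · have : {a | a ∈ h :: l'} = {h} ∪ {a | a ∈ l'} := by
        ext a
        simp
      rw [this, Ideal.span_union, ← sup_assoc]
      exact hl'1
    · intro i hi T _ _ hI0 htake hunit
      cases i with
      | zero =>
        -- `T` is an algebra over `R ⧸ I` in which `h` is invertible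
        letI algQ : Algebra (R ⧸ I) T := (Ideal.Quotient.lift I (algebraMap R T) hI0).toAlgebra
        haveI : IsScalarTower R (R ⧸ I) T := IsScalarTower.of_algebraMap_eq fun x => by
          change _ = Ideal.Quotient.lift I (algebraMap R T) hI0 (Ideal.Quotient.mk I x)
          rw [Ideal.Quotient.lift_mk]
        have hu : IsUnit (algebraMap (R ⧸ I) T (Ideal.Quotient.mk I h)) := by
          change IsUnit (Ideal.Quotient.lift I (algebraMap R T) hI0 (Ideal.Quotient.mk I h))
          rw [Ideal.Quotient.lift_mk]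
          simpa using hunit
        have h1 : Module.Free T (T ⊗[R ⧸ I] ((R ⧸ I) ⊗[R] N)) := hfree T hu
        exact Module.Free.of_equiv (AlgebraTensorModule.cancelBaseChange R (R ⧸ I) T T N)
      | succ j =>
        have hj : j < l'.length := by simpa using hi
        refine hl'2 j hj T ?_ ?_ ?_
        · intro a ha
          obtain ⟨b, hb, c, hc, rfl⟩ := Submodule.mem_sup.mp ha
          obtain ⟨r, rfl⟩ := Ideal.mem_span_singleton'.mp hc
          have h0 : algebraMap R T h = 0 := htake h (by simp)
          rw [map_add, hI0 b hb, map_mul, h0, mul_zero, add_zero]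
        · intro a ha
          exact htake a (by rw [List.take_succ_cons]; exact List.mem_cons_of_mem _ ha)
        · simpa using hunit

end Noeth

section Main

open Groth.Agent.Lib.FlatLimModel88 Groth.Agent.Lib.FlatLimDirected88

set_option synthInstance.maxHeartbeats 400000 in
/-- Transfer of a stratification along a `k`-algebra map, for modules of the form `- ⊗[k] M₀`. -/
theorem strat_transfer {k A' A : Type u} [CommRing k] [CommRing A'] [CommRing A] [Algebra k A']
    [Algebra k A] (φ : A' →ₐ[k] A) (M₀ : Type u) [AddCommGroup M₀] [Module k M₀] (l' : List A')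
    (h : Strat A' (A' ⊗[k] M₀) ⊥ l') : Strat A (A ⊗[k] M₀) ⊥ (l'.map φ) := by
  obtain ⟨hl'1, hl'2⟩ := h
  letI algA' : Algebra A' A := φ.toRingHom.toAlgebra
  haveI : IsScalarTower k A' A := IsScalarTower.of_algebraMap_eq fun c => (φ.commutes c).symm
  have hφ : ∀ x, algebraMap A' A x = φ x := fun _ => rfl
  refine ⟨?_, ?_⟩
  · rw [bot_sup_eq] at hl'1 ⊢
    have h1 : (1 : A') ∈ Ideal.span {a | a ∈ l'} := hl'1 ▸ Submodule.mem_top
    have h2 := Ideal.mem_map_of_mem (algebraMap A' A) h1
    rw [Ideal.map_span, map_one] at h2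
    rw [Ideal.eq_top_iff_one]
    refine Ideal.span_mono ?_ h2
    rintro _ ⟨a, ha, rfl⟩
    exact List.mem_map_of_mem ha
  · intro i hi T _ _ _ htake hunit
    have hi' : i < l'.length := by simpa using hi
    letI algA'T : Algebra A' T := ((algebraMap A T).comp (algebraMap A' A)).toAlgebra
    haveI : IsScalarTower A' A T := IsScalarTower.of_algebraMap_eq fun _ => rfl
    letI algk : Algebra k T := ((algebraMap A T).comp (algebraMap k A)).toAlgebra
    haveI : IsScalarTower k A T := IsScalarTower.of_algebraMap_eq fun _ => rfl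
    haveI : IsScalarTower k A' T := IsScalarTower.of_algebraMap_eq fun c => by
      change algebraMap A T (algebraMap k A c) =
        algebraMap A T (algebraMap A' A (algebraMap k A' c))
      rw [← IsScalarTower.algebraMap_apply k A' A]
    have h1 : Module.Free T (T ⊗[A'] (A' ⊗[k] M₀)) := by
      refine hl'2 i hi' T (fun a ha => ?_) (fun a ha => ?_) ?_
      · rw [(Submodule.mem_bot A').mp ha, map_zero]
      · change algebraMap A T (algebraMap A' A a) = 0
        apply htake
        rw [← List.map_take, hφ]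
        exact List.mem_map_of_mem ha
      · change IsUnit (algebraMap A T (algebraMap A' A l'[i]))
        have := hunit
        rw [List.getElem_map] at this
        exact this
    let e1 : T ⊗[A'] (A' ⊗[k] M₀) ≃ₗ[T] T ⊗[k] M₀ :=
      AlgebraTensorModule.cancelBaseChange k A' T T M₀
    let e2 : T ⊗[A] (A ⊗[k] M₀) ≃ₗ[T] T ⊗[k] M₀ :=
      AlgebraTensorModule.cancelBaseChange k A T T M₀
    exact Module.Free.of_equiv (e1 ≪≫ₗ e2.symm)

/-- Transfer of a stratification along a linear equivalence. -/
theorem Strat.of_linearEquiv {A : Type u} [CommRing A] {N N' : Type u} [AddCommGroup N]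
    [Module A N] [AddCommGroup N'] [Module A N'] (e : N ≃ₗ[A] N') {I : Ideal A} {l : List A}
    (h : Strat A N I l) : Strat A N' I l :=
  ⟨h.1, fun i hi T _ _ hI htake hunit =>
    haveI := h.2 i hi T hI htake hunit
    Module.Free.of_equiv (AlgebraTensorModule.congr (LinearEquiv.refl T T) e)⟩

set_option synthInstance.maxHeartbeats 400000 in
/-- **EGA IV 8.9.5**, universal form. -/
theorem exists_principal_stratification {A B : Type u} [CommRing A] [CommRing B] [Algebra A B]
    [Algebra.FinitePresentation A B] (M : Type u) [AddCommGroup M] [Module B M] [Module A M]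
    [IsScalarTower A B M] [Module.FinitePresentation B M] [Module.Flat A M] :
    ∃ l : List A, Strat A M ⊥ l := by
  classical
  obtain ⟨n, m, f, gg, hf, hex⟩ := Module.FinitePresentation.exists_fin' B M
  let u : Fin m → Fin n → B := fun j => gg (Pi.single j 1)
  have hu : LinearMap.ker f = Submodule.span B (Set.range u) := by
    rw [(LinearMap.exact_iff).mp hex, LinearMap.range_eq_map, ← (Pi.basisFun B (Fin m)).span_eq,
      Submodule.map_span, ← Set.range_comp]
    congr 2
    funext j
    simp [u, Pi.basisFun_apply]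
  obtain ⟨k, _, _, S₀, _, _, e, ub, hk, hS₀, hub⟩ := exists_model_data (R := A) (S := B) u
  haveI : IsNoetherianRing k := Algebra.FiniteType.isNoetherianRing ℤ k
  letI : Module k M := Module.compHom M (algebraMap k A)
  haveI : IsScalarTower k A M := IsScalarTower.of_algebraMap_smul fun _ _ => rfl
  let ε : A ⊗[k] Model0 ub ≃ₗ[A] M := modelEquiv e f u hub hu hf
  haveI : Module.Flat A (A ⊗[k] Model0 ub) := Module.Flat.of_linearEquiv ε
  obtain ⟨A', hA', hflat'⟩ :=
    Groth.Agent.Lib.FlatLimGlobal64.exists_fg_flat_global (k := k) (R := A) S₀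
      (M₀ := Model0 ub)
  have hft : Algebra.FiniteType k A' := (Subalgebra.fg_iff_finiteType A').mp hA'
  haveI : IsNoetherianRing A' := Algebra.FiniteType.isNoetherianRing k A'
  have hflatA' : Module.Flat A' (A' ⊗[k] Model0 ub) := hflat' A' (AlgHom.id k A')
  obtain ⟨l', hl'⟩ := exists_strat (R := A') (A' ⊗[k] S₀) (A' ⊗[k] Model0 ub) ⊥
  exact ⟨l'.map A'.val, (strat_transfer A'.val (Model0 ub) l' hl').of_linearEquiv ε⟩

end Main

end Groth.Agent.Lib.PrincStrat64
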