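import Mathlib.RingTheory.DiscreteValuationRing.TFAE
import Mathlib.RingTheory.Filtration

set_option autoImplicit false

namespace Groth.Agent.Lib.PrincipalMaximalIdeal

open IsLocalRing

variable {R : Type*} [CommRing R]

/-- In a Noetherian local ring whose maximal ideal is generated by `t`, every nonzero element is a
unit times a power of `t`. -/
lemma exists_unit_mul_pow [IsLocalRing R] [IsNoetherianRing R] (t : R)
    (h : maximalIdeal R = Ideal.span {t}) (x : R) (hx : x ≠ 0) :
    ∃ (n : ℕ) (u : R), IsUnit u ∧ x = u * t ^ n := by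
  have hbot : ⨅ i, maximalIdeal R ^ i = ⊥ :=
    Ideal.iInf_pow_eq_bot_of_isLocalRing _ (Ideal.IsPrime.ne_top inferInstance)
  have hex : ∃ n, x ∉ maximalIdeal R ^ n := by
    by_contra hcon
    push Not at hcon
    have : x ∈ ⨅ i, maximalIdeal R ^ i := by
      rw [Ideal.mem_iInf]; exact hcon
    rw [hbot] at this
    exact hx this
  classical
  let n := Nat.find hex
  have hn : x ∉ maximalIdeal R ^ n := Nat.find_spec hex
  have hn0 : n ≠ 0 := by
    intro h0
    rw [h0, pow_zero, Ideal.one_eq_top] at hn
    exact hn Submodule.mem_top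
  obtain ⟨m, hm⟩ := Nat.exists_eq_succ_of_ne_zero hn0
  have hm' : x ∈ maximalIdeal R ^ m := by
    by_contra hcon
    have := Nat.find_min' hex hcon
    change n ≤ m at this
    omega
  rw [h, Ideal.span_singleton_pow, Ideal.mem_span_singleton'] at hm'
  obtain ⟨u, hu⟩ := hm'
  refine ⟨m, u, ?_, hu.symm⟩
  by_contra hunit
  have hu_mem : u ∈ maximalIdeal R := (IsLocalRing.mem_maximalIdeal u).mpr hunit
  apply hn
  have ht : t ^ m ∈ maximalIdeal R ^ m := by
    rw [h, Ideal.span_singleton_pow]
    exact Ideal.mem_span_singleton_self _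
  have : u * t ^ m ∈ maximalIdeal R ^ (m + 1) := by
    rw [pow_succ, mul_comm u]
    exact Ideal.mul_mem_mul ht hu_mem
  rw [hm, ← hu]
  exact this

/-- A Noetherian local ring whose maximal ideal is generated by a nonzerodivisor is a domain. -/
lemma isDomain_of_maximalIdeal_eq_span [IsLocalRing R] [IsNoetherianRing R] (t : R)
    (ht : t ∈ nonZeroDivisors R) (h : maximalIdeal R = Ideal.span {t}) : IsDomain R := by
  have : NoZeroDivisors R := by
    constructor
    intro a b hab
    by_contra hcon
    push Not at hcon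
    obtain ⟨n, u, hu, rfl⟩ := exists_unit_mul_pow t h a hcon.1
    obtain ⟨m, v, hv, rfl⟩ := exists_unit_mul_pow t h b hcon.2
    have h1 : (u * v) * t ^ (n + m) = 0 := by
      rw [← hab, pow_add]; ring
    have h2 : t ^ (n + m) = 0 := by
      have := (hu.mul hv).mul_right_eq_zero.mp h1
      exact this
    have h3 : t ^ (n + m) ∈ nonZeroDivisors R := pow_mem ht _
    have h4 : (1 : R) = 0 := by
      have := (mem_nonZeroDivisors_iff.mp h3).2 1 (by rw [one_mul]; exact h2)
      exact this
    exact one_ne_zero h4
  exact NoZeroDivisors.to_isDomain R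

/-- A Noetherian local ring whose maximal ideal is generated by a nonzerodivisor is a discrete
valuation ring. -/
lemma isDiscreteValuationRing_of_maximalIdeal_eq_span [IsLocalRing R] [IsNoetherianRing R] (t : R)
    (ht : t ∈ nonZeroDivisors R) (h : maximalIdeal R = Ideal.span {t}) :
    ∃ _ : IsDomain R, IsDiscreteValuationRing R := by
  have hdom := isDomain_of_maximalIdeal_eq_span t ht h
  refine ⟨hdom, ?_⟩
  have hnf : ¬ IsField R := by
    intro hf
    have ht0 : t ≠ 0 := nonZeroDivisors.ne_zero ht
    have htm : t ∈ maximalIdeal R := by rw [h]; exact Ideal.mem_span_singleton_self t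
    let := hf.toField
    have : IsUnit t := ht0.isUnit
    exact (IsLocalRing.mem_maximalIdeal t).mp htm this
  rw [((IsDiscreteValuationRing.TFAE R hnf).out 0 4 :)]
  exact ⟨⟨t, h⟩⟩

end Groth.Agent.Lib.PrincipalMaximalIdeal
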