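import Groth.Agent.Lib.ProEtAdicAb22
import Groth.Agent.Lib.ARSysChain22
import Groth.Agent.Lib.ARSysExt2
import Groth.Agent.Lib.ARSysGen

/-!
# Adic pro-étale sheaves: ascending chain condition (helper22)

* `isZero_of_isZero_limPull`: an adic system `Y` with `lim ε⁻¹ Y = 0` is zero;
* `isARNull_kernel_of_mono_limPull`: if `lim ε⁻¹ b` is a monomorphism (`b` a morphism of adic
  systems of constructible sheaves) then `ker b` is null up to translation;
* `chain_stabilizes`: ascending chains of adic pro-étale subsheaves of an adic pro-étale sheaf are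
  stationary.
-/

set_option autoImplicit false
set_option linter.style.haveILetI false
set_option linter.unusedSectionVars false
universe u

open CategoryTheory AlgebraicGeometry Limits Opposite ProEtS

namespace Groth.Agent.Lib.ProEtAdicAb22

open Groth.Agent.Lib.ProEtAdicFF22 Groth.Agent.Lib.ProEtEpsExact22 Groth.Agent.Lib.ProEtAdicML22
  Groth.Agent.Lib.ProEtAdicChar22 Groth.Agent.Lib.ProEtAdicLim22

variable {Λ : Type (u + 1)} [CommRing Λ] {X : Scheme.{u}} [ProEtS.EpsCont X]

/-- An adic system whose limit of pullbacks vanishes is zero. -/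
theorem isZero_of_isZero_limPull (I : Ideal Λ) (hI : I.FG) {Y : ARSys.PS (EtModW.Mod Λ X)}
    (hY : ARSys.IsAdic I Y) (h : IsZero ((limPull Λ X).obj Y)) : IsZero Y := by
  rw [Functor.isZero_iff]
  intro j
  induction j with | op n => ?_
  haveI : Epi (limit.π (Y ⋙ EtModW.epsPullMod Λ X) (op n)) :=
    epi_of_isQuot _ _ (isQuot_limit_π I hI _ (isAdic_epsPullMod I Y hY) n)
  have h1 : IsZero ((EtModW.epsPullMod Λ X).obj (Y.obj (op n))) :=
    IsZero.of_epi (limit.π (Y ⋙ EtModW.epsPullMod Λ X) (op n)) h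
  rw [IsZero.iff_id_eq_zero]
  apply (EtModW.epsPullMod Λ X).map_injective
  exact h1.eq_of_src _ _

variable [IsNoetherianRing Λ] [IsNoetherian X] (I : Ideal Λ)

/-- If `lim ε⁻¹ b` is a monomorphism then the kernel of `b` is null up to translation. -/
theorem isARNull_kernel_of_mono_limPull {A B : ARSys.PS (EtModW.Mod Λ X)} (hA : IsAdicC I A)
    (hB : IsAdicC I B) (b : A ⟶ B) [Mono ((limPull Λ X).map b)] : ARSys.IsARNull (kernel b) := by
  have hI : I.FG := IsNoetherian.noetherian I
  obtain ⟨⟨-, Y, v, hY, -, hv⟩, -⟩ :=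
    Groth.Agent.Lib.ModSubLC22.isARAdicConstr_kernel_cokernel I A B hA.1 hB.1 hA.2 hB.2 b
  haveI := isIso_limPull_map_of_isARIso v hv
  have h1 : IsZero ((limPull Λ X).obj Y) :=
    (isZero_kernel_of_mono ((limPull Λ X).map b)).of_iso
      (asIso ((limPull Λ X).map v) ≪≫ PreservesKernel.iso (limPull Λ X) b)
  have hY0 : IsZero Y := isZero_of_isZero_limPull I hI hY h1
  have hv0 : v = 0 := hY0.eq_of_src _ _
  have e : kernel b ≅ cokernel v := by
    rw [hv0]
    exact cokernelZeroIsoTarget.symm
  exact Groth.Agent.Lib.ARSysFunctor22.isARNull_of_iso e.symm hv.2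

open ARSys in
/-- The factorisation of a morphism through its image is an isomorphism up to translation when the
kernel is null up to translation. -/
theorem isARIso_factorThruImageSubobject {A B : ARSys.PS (EtModW.Mod Λ X)} (b : A ⟶ B)
    (hb : ARSys.IsARNull (kernel b)) : ARSys.IsARIso (factorThruImageSubobject b) := by
  constructor
  · have h0 : kernel.ι (factorThruImageSubobject b) ≫ b = 0 := by
      have h1 : factorThruImageSubobject b ≫ (imageSubobject b).arrow = b :=
        imageSubobject_arrow_comp b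
      calc kernel.ι (factorThruImageSubobject b) ≫ b
          = kernel.ι (factorThruImageSubobject b) ≫ factorThruImageSubobject b ≫
            (imageSubobject b).arrow := by rw [h1]
        _ = 0 := by rw [← Category.assoc, kernel.condition, zero_comp]
    haveI : Mono (kernel.lift b (kernel.ι (factorThruImageSubobject b)) h0) :=
      mono_of_mono_fac (kernel.lift_ι _ _ _)
    exact Groth.Agent.Lib.ARSysBasic.isARNull_of_mono
      (kernel.lift b (kernel.ι (factorThruImageSubobject b)) h0) hb
  · have hz : IsZero (cokernel (factorThruImageSubobject b)) := isZero_cokernel_of_epi _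
    exact ⟨0, fun n => ((Functor.isZero_iff _).1 hz _).eq_of_src _ _⟩

/-- Ascending chains of adic pro-étale subsheaves of an adic pro-étale sheaf are stationary. -/
theorem chain_stabilizes {F : EtModW.ModP Λ X} (hF : IsAdicP I F) (Z : ℕ →o Subobject F)
    (hZ : ∀ k : ℕ, IsAdicP I (Subobject.underlying.obj (Z k))) :
    ∃ k₀ : ℕ, ∀ k : ℕ, k₀ ≤ k → Z k = Z k₀ := by
  have hI : I.FG := IsNoetherian.noetherian I
  obtain ⟨F₀, hF₀, ⟨eF⟩⟩ := (isAdicP_iff I hI F).1 hF
  have hZ' : ∀ k, ∃ G : ARSys.PS (EtModW.Mod Λ X), IsAdicC I G ∧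
      Nonempty ((limPull Λ X).obj G ≅ Subobject.underlying.obj (Z k)) :=
    fun k => (isAdicP_iff I hI _).1 (hZ k)
  choose Z₀ hZ₀ eZ' using hZ'
  obtain ⟨eZ⟩ : Nonempty (∀ k, (limPull Λ X).obj (Z₀ k) ≅ Subobject.underlying.obj (Z k)) :=
    ⟨fun k => (eZ' k).some⟩
  have hb : ∀ k, ∃ b : Z₀ k ⟶ F₀,
      (limPull Λ X).map b = (eZ k).hom ≫ (Z k).arrow ≫ eF.inv :=
    fun k => limPull_map_surjective I hI (hZ₀ k).1 hF₀.1 _
  choose b hb using hb
  have ha : ∀ k, ∃ a : Z₀ k ⟶ Z₀ (k + 1), (limPull Λ X).map a =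
      (eZ k).hom ≫ Subobject.ofLE (Z k) (Z (k + 1)) (Z.monotone (Nat.le_succ k)) ≫
        (eZ (k + 1)).inv :=
    fun k => limPull_map_surjective I hI (hZ₀ k).1 (hZ₀ (k + 1)).1 _
  choose a ha using ha
  have hab : ∀ k, a k ≫ b (k + 1) = b k := fun k => by
    apply limPull_map_injective I hI (hZ₀ k).1
    rw [Functor.map_comp, ha, hb, hb]
    simp only [Category.assoc, Iso.inv_hom_id_assoc, Subobject.ofLE_arrow_assoc]
  haveI : ∀ k, Mono ((limPull Λ X).map (b k)) := fun k => by
    rw [hb]
    infer_instance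
  have hker : ∀ k, ARSys.IsARNull (kernel (b k)) :=
    fun k => isARNull_kernel_of_mono_limPull I (hZ₀ k) hF₀ (b k)
  -- the chain of images
  let Z' : ℕ →o Subobject F₀ :=
    { toFun := fun k => imageSubobject (b k)
      monotone' := monotone_nat_of_le_succ fun k => by
        rw [← hab k]
        exact imageSubobject_comp_le _ _ }
  have hv : ∀ k, ARSys.IsARIso (factorThruImageSubobject (b k)) :=
    fun k => isARIso_factorThruImageSubobject (b k) (hker k)
  have hML : ∀ k, ARSys.IsMLAR (Subobject.underlying.obj (Z' k) : ARSys.PS (EtModW.Mod Λ X)) := by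
    intro k
    refine Groth.Agent.Lib.ARSysExt2.isMLAR_of_isARAdic I
      ⟨fun n => ?_, Z₀ k, factorThruImageSubobject (b k), (hZ₀ k).1, hv k⟩
    haveI : Mono ((Z' k).arrow.app (op n)) := inferInstance
    exact Groth.Agent.Lib.ARSysExact.killedBy_of_mono ((Z' k).arrow.app (op n)) (hF₀.1.1 n)
  obtain ⟨k₀, hk₀⟩ := Groth.Agent.Lib.ARSysChain22.chain_eventually_isARIso I hI hF₀.1
    (Groth.Agent.Lib.ModSubLC22.isNoetherianObject_of_isConstructibleM (hF₀.2 0)) Z' hML
  have hstep : ∀ k, k₀ ≤ k → Z (k + 1) = Z k := by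
    intro k hk
    have hcomm : factorThruImageSubobject (b k) ≫
        Subobject.ofLE (Z' k) (Z' (k + 1)) (Z'.monotone (Nat.le_succ k)) =
        a k ≫ factorThruImageSubobject (b (k + 1)) := by
      rw [← cancel_mono (Z' (k + 1)).arrow, Category.assoc, Subobject.ofLE_arrow, Category.assoc]
      change factorThruImageSubobject (b k) ≫ (imageSubobject (b k)).arrow =
        a k ≫ factorThruImageSubobject (b (k + 1)) ≫ (imageSubobject (b (k + 1))).arrow
      rw [imageSubobject_arrow_comp, imageSubobject_arrow_comp, hab]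
    have h1 : ARSys.IsARIso (a k ≫ factorThruImageSubobject (b (k + 1))) := by
      rw [← hcomm]
      exact Groth.Agent.Lib.ARSysGen.isARIso_comp _ _ (hv k) (hk₀ k hk)
    have h2 : ARSys.IsARIso (a k) :=
      Groth.Agent.Lib.ARSysKer.isARIso_of_comp_left _ _ h1 (hv (k + 1))
    haveI := isIso_limPull_map_of_isARIso (a k) h2
    have h3 : Subobject.ofLE (Z k) (Z (k + 1)) (Z.monotone (Nat.le_succ k)) =
        (eZ k).inv ≫ (limPull Λ X).map (a k) ≫ (eZ (k + 1)).hom := by
      rw [ha]
      simp
    haveI : IsIso (Subobject.ofLE (Z k) (Z (k + 1)) (Z.monotone (Nat.le_succ k))) := by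
      rw [h3]
      infer_instance
    apply le_antisymm
    · exact Subobject.le_of_comm
        (inv (Subobject.ofLE (Z k) (Z (k + 1)) (Z.monotone (Nat.le_succ k)))) (by
          rw [IsIso.inv_comp_eq, Subobject.ofLE_arrow])
    · exact Z.monotone (Nat.le_succ k)
  refine ⟨k₀, fun k hk => ?_⟩
  induction k, hk using Nat.le_induction with
  | base => rfl
  | succ k hk ih => rw [hstep k hk, ih]

end Groth.Agent.Lib.ProEtAdicAb22
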