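import Groth.Agent.Lib.ProEtAdicFF22

/-!
# Adic pro-étale sheaves are limits of pullbacks of adic systems (helper22)
-/

set_option autoImplicit false
set_option linter.style.haveILetI false
universe u

open CategoryTheory CategoryTheory.Limits AlgebraicGeometry Opposite EtModW

namespace Groth.Agent.Lib.ProEtAdicChar22

open Groth.Agent.Lib.ProEtAdicLim22 Groth.Agent.Lib.ProEtEpsMod22 Groth.Agent.Lib.ProEtAdicFF22

section abstract

universe w v₁ u₁ v₂ u₂

variable {A : Type w} [CommRing A] {C : Type u₁} [Category.{v₁} C] [Preadditive C] [Linear A C]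
  (I : Ideal A)

theorem killedBy_of_iso {X Y : C} (e : X ≅ Y) (h : ARSys.KilledBy I X) : ARSys.KilledBy I Y := by
  intro b hb
  have h1 : (b • 𝟙 Y : Y ⟶ Y) = e.inv ≫ (b • 𝟙 X) ≫ e.hom := by
    rw [Linear.smul_comp, Linear.comp_smul, Category.id_comp, e.inv_hom_id]
  rw [h1, h b hb, zero_comp, comp_zero]

theorem homKilledBy_comp_left {X Y Z : C} (f : X ⟶ Y) (φ : Y ⟶ Z) (h : ARSys.HomKilledBy I φ) :
    ARSys.HomKilledBy I (f ≫ φ) := fun b hb => by
  rw [← Linear.comp_smul, h b hb, comp_zero]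

theorem homKilledBy_comp_right {X Y Z : C} (φ : X ⟶ Y) (f : Y ⟶ Z) (h : ARSys.HomKilledBy I φ) :
    ARSys.HomKilledBy I (φ ≫ f) := fun b hb => by
  rw [← Linear.smul_comp, h b hb, zero_comp]

/-- Precomposing a quotient map with an isomorphism. -/
theorem isQuot_iso_comp {X' X Q : C} (e : X' ≅ X) (p : X ⟶ Q) (hp : ARSys.IsQuot I p) :
    ARSys.IsQuot I (e.hom ≫ p) := by
  refine ⟨hp.1, fun Y φ hφ => ?_⟩
  obtain ⟨ψ, hψ, huniq⟩ := hp.2 Y (e.inv ≫ φ) (homKilledBy_comp_left I _ _ hφ)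
  refine ⟨ψ, ?_, fun ψ' hψ' => huniq ψ' ?_⟩
  · show (e.hom ≫ p) ≫ ψ = φ
    rw [Category.assoc, hψ, e.hom_inv_id_assoc]
  · show p ≫ ψ' = e.inv ≫ φ
    have hψ'' : (e.hom ≫ p) ≫ ψ' = φ := hψ'
    rw [← hψ'', Category.assoc, e.inv_hom_id_assoc]

/-- Postcomposing a quotient map with an isomorphism. -/
theorem isQuot_comp_iso {X Q Q' : C} (p : X ⟶ Q) (e : Q ≅ Q') (hp : ARSys.IsQuot I p) :
    ARSys.IsQuot I (p ≫ e.hom) := by
  refine ⟨killedBy_of_iso I e hp.1, fun Y φ hφ => ?_⟩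
  obtain ⟨ψ, hψ, huniq⟩ := hp.2 Y φ hφ
  refine ⟨e.inv ≫ ψ, ?_, fun ψ' hψ' => ?_⟩
  · show (p ≫ e.hom) ≫ e.inv ≫ ψ = φ
    rw [Category.assoc, e.hom_inv_id_assoc, hψ]
  · have hψ'' : (p ≫ e.hom) ≫ ψ' = φ := hψ'
    have := huniq (e.hom ≫ ψ') (by
      show p ≫ e.hom ≫ ψ' = φ
      rw [← Category.assoc, hψ''])
    rw [← this, e.inv_hom_id_assoc]

/-- If `p ≫ t` is a quotient map and `p` is an epimorphism, then `t` is a quotient map. -/
theorem isQuot_of_epi_comp {X Q Q' : C} (p : X ⟶ Q) [Epi p] (t : Q ⟶ Q')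
    (h : ARSys.IsQuot I (p ≫ t)) : ARSys.IsQuot I t := by
  refine ⟨h.1, fun Y ψ hψ => ?_⟩
  obtain ⟨χ, hχ, huniq⟩ := h.2 Y (p ≫ ψ) (homKilledBy_comp_left I _ _ hψ)
  refine ⟨χ, ?_, fun χ' hχ' => huniq χ' ?_⟩
  · show t ≫ χ = ψ
    have hχ'' : (p ≫ t) ≫ χ = p ≫ ψ := hχ
    rw [← cancel_epi p, ← Category.assoc, hχ'']
  · show (p ≫ t) ≫ χ' = p ≫ ψ
    have hχ'' : t ≫ χ' = ψ := hχ'
    rw [Category.assoc, hχ'']

variable {D : Type u₂} [Category.{v₂} D] [Preadditive D] [Linear A D] (L : C ⥤ D)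
  [L.Full] [L.Faithful]
  (hL : ∀ {X Y : C} (a : A) (f : X ⟶ Y), L.map (a • f) = a • L.map f)

include hL in
theorem map_zero_of_linear {X Y : C} : L.map (0 : X ⟶ Y) = 0 := by
  have h := hL (0 : A) (0 : X ⟶ Y)
  rw [zero_smul, zero_smul] at h
  exact h

include hL in
theorem killedBy_of_map {X : C} (h : ARSys.KilledBy I (L.obj X)) : ARSys.KilledBy I X := by
  intro b hb
  apply L.map_injective
  rw [hL, L.map_id, h b hb, map_zero_of_linear L hL]

include hL in
/-- A fully faithful linear functor reflects quotient maps. -/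
theorem isQuot_of_map {X Q : C} (t : X ⟶ Q) (h : ARSys.IsQuot I (L.map t)) : ARSys.IsQuot I t := by
  refine ⟨killedBy_of_map I L hL h.1, fun Y φ hφ => ?_⟩
  have hk : ARSys.HomKilledBy I (L.map φ) := fun b hb => by
    rw [← hL, hφ b hb, map_zero_of_linear L hL]
  obtain ⟨χ, hχ, huniq⟩ := h.2 _ (L.map φ) hk
  refine ⟨L.preimage χ, ?_, fun χ' hχ' => ?_⟩
  · show t ≫ L.preimage χ = φ
    have hχ'' : L.map t ≫ χ = L.map φ := hχ
    apply L.map_injective
    rw [L.map_comp, L.map_preimage, hχ'']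
  · have hχ'' : t ≫ χ' = φ := hχ'
    apply L.map_injective
    rw [L.map_preimage]
    apply huniq
    show L.map t ≫ L.map χ' = L.map φ
    rw [← L.map_comp, hχ'']

end abstract

variable {Λ : Type (u + 1)} [CommRing Λ] {X : Scheme.{u}} [ProEtS.EpsCont X]

theorem epsPullMod_map_smul {A B : EtModW.Mod Λ X} (a : Λ) (f : A ⟶ B) :
    (EtModW.epsPullMod Λ X).map (a • f) = a • (EtModW.epsPullMod Λ X).map f :=
  Groth.Agent.Lib.AdjLinear22.map_smul_of_rightAdjoint_linear (epsAdjMod Λ X)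
    (fun a f => epsPushMod_map_smul a f) a f

variable (I : Ideal Λ) (hI : I.FG)

include hI in
/-- One direction of the characterisation: a limit of a pulled back adic system is adic. -/
theorem exists_tower_of_iso (F : EtModW.ModP Λ X) (G : ARSys.PS (EtModW.Mod Λ X))
    (hG : ARSys.IsAdic I G) (e : limit (G ⋙ EtModW.epsPullMod Λ X) ≅ F) :
    ∃ (p : (Functor.const ℕᵒᵖ).obj F ⟶ G ⋙ EtModW.epsPullMod Λ X),
      (∀ n : ℕ, ARSys.IsQuot (I ^ (n + 1)) (p.app (op n))) ∧
        IsIso (limit.lift (G ⋙ EtModW.epsPullMod Λ X) (Cone.mk F p)) := by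
  let Q := G ⋙ EtModW.epsPullMod Λ X
  let p : (Functor.const ℕᵒᵖ).obj F ⟶ Q :=
    { app := fun j => e.inv ≫ limit.π Q j
      naturality := fun j j' t => by
        change 𝟙 F ≫ e.inv ≫ limit.π Q j' = (e.inv ≫ limit.π Q j) ≫ Q.map t
        rw [Category.id_comp, Category.assoc, limit.w] }
  refine ⟨p, fun n => ?_, ?_⟩
  · exact isQuot_iso_comp _ e.symm _ (isQuot_limit_π I hI Q (isAdic_epsPullMod I G hG) n)
  · have h1 : limit.lift Q (Cone.mk F p) = e.inv := by
      apply limit.hom_ext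
      intro j
      rw [limit.lift_π]
    rw [h1]
    infer_instance

include hI in
/-- The other direction: an adic pro-étale sheaf with classical quotients comes from an adic
system. -/
theorem exists_system_of_tower (F : EtModW.ModP Λ X) (Q : ℕᵒᵖ ⥤ EtModW.ModP Λ X)
    (p : (Functor.const ℕᵒᵖ).obj F ⟶ Q)
    (hp : ∀ n : ℕ, ARSys.IsQuot (I ^ (n + 1)) (p.app (op n)))
    (E : ℕ → EtModW.Mod Λ X) (a : ∀ n, (EtModW.epsPullMod Λ X).obj (E n) ≅ Q.obj (op n))
    [IsIso (limit.lift Q (Cone.mk F p))] :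
    ∃ G : ARSys.PS (EtModW.Mod Λ X), ARSys.IsAdic I G ∧ (∀ n, G.obj (op n) = E n) ∧
      Nonempty (limit (G ⋙ EtModW.epsPullMod Λ X) ≅ F) := by
  let L := EtModW.epsPullMod Λ X
  let G : ARSys.PS (EtModW.Mod Λ X) :=
    { obj := fun j => E j.unop
      map := fun {j j'} t => L.preimage ((a j.unop).hom ≫ Q.map t ≫ (a j'.unop).inv)
      map_id := fun j => by
        apply L.map_injective
        rw [L.map_preimage, Q.map_id, Category.id_comp, Iso.hom_inv_id, L.map_id]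
      map_comp := fun {j j' j''} t t' => by
        apply L.map_injective
        rw [L.map_preimage, L.map_comp, L.map_preimage, L.map_preimage, Q.map_comp]
        simp only [Category.assoc, Iso.inv_hom_id_assoc] }
  have hGmap : ∀ {j j' : ℕᵒᵖ} (t : j ⟶ j'),
      L.map (G.map t) = (a j.unop).hom ≫ Q.map t ≫ (a j'.unop).inv := fun t => L.map_preimage _
  let α : G ⋙ L ≅ Q := NatIso.ofComponents (fun j => a j.unop) (fun {j j'} t => by
    change L.map (G.map t) ≫ (a j'.unop).hom = (a j.unop).hom ≫ Q.map t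
    rw [hGmap]
    simp only [Category.assoc, Iso.inv_hom_id, Category.comp_id])
  haveI : ∀ n, Epi (p.app (op n)) := fun n => epi_of_isQuot _ _ (hp n)
  refine ⟨G, ⟨fun n => ?_, fun n m h => ?_⟩, fun n => rfl, ⟨?_⟩⟩
  · exact killedBy_of_map _ L (fun a f => epsPullMod_map_smul a f)
      (killedBy_of_iso _ (a n).symm (hp n).1)
  · apply isQuot_of_map _ L (fun a f => epsPullMod_map_smul a f)
    change ARSys.IsQuot (I ^ (n + 1)) (L.map (G.map (homOfLE h).op))
    rw [hGmap]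
    have h1 : ARSys.IsQuot (I ^ (n + 1)) (Q.map (homOfLE h).op) := by
      apply isQuot_of_epi_comp _ (p.app (op m))
      have h2 : p.app (op m) ≫ Q.map (homOfLE h).op = p.app (op n) := by
        have := p.naturality (homOfLE h).op
        rw [← this]
        exact Category.id_comp _
      rw [h2]
      exact hp n
    have h3 := isQuot_comp_iso _ _ (a n).symm (isQuot_iso_comp _ (a m) _ h1)
    rw [Category.assoc] at h3
    exact h3
  · exact (HasLimit.isoOfNatIso α) ≪≫ (asIso (limit.lift Q (Cone.mk F p))).symm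

end Groth.Agent.Lib.ProEtAdicChar22
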