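import Groth.Agent.Lib.ProEtEpsMod22b

/-!
# `G ↦ lim ε⁻¹ G_n` is fully faithful on adic systems (helper22)
-/

set_option autoImplicit false
set_option linter.style.haveILetI false
universe u

open CategoryTheory CategoryTheory.Limits AlgebraicGeometry Opposite EtModW

namespace Groth.Agent.Lib.ProEtAdicFF22

open Groth.Agent.Lib.ProEtAdicLim22 Groth.Agent.Lib.ProEtEpsMod22

section abstract

universe w v₁ u₁

variable {A : Type w} [CommRing A] {C : Type u₁} [Category.{v₁} C] [Preadditive C] [Linear A C]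

/-- A quotient map modulo an ideal is an epimorphism. -/
theorem epi_of_isQuot (I : Ideal A) {X Q : C} (p : X ⟶ Q) (hp : ARSys.IsQuot I p) : Epi p := by
  obtain ⟨hQ, huniv⟩ := hp
  refine ⟨fun {Z} ψ₁ ψ₂ h => ?_⟩
  have hk : ARSys.HomKilledBy I (p ≫ ψ₁) := fun b hb => by
    have h1 : b • (p ≫ ψ₁) = p ≫ (b • 𝟙 Q) ≫ ψ₁ := by
      rw [Linear.smul_comp, Category.id_comp, Linear.comp_smul]
    rw [h1, hQ b hb, zero_comp, comp_zero]
  obtain ⟨ψ, -, hψ⟩ := huniv Z (p ≫ ψ₁) hk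
  rw [hψ ψ₁ rfl, hψ ψ₂ h.symm]

/-- A morphism into an object killed by `I` is killed by `I`. -/
theorem homKilledBy_of_killedBy (I : Ideal A) {X Y : C} (φ : X ⟶ Y) (hY : ARSys.KilledBy I Y) :
    ARSys.HomKilledBy I φ := fun b hb => by
  have h1 : b • φ = φ ≫ (b • 𝟙 Y) := by rw [Linear.comp_smul, Category.comp_id]
  rw [h1, hY b hb, comp_zero]

end abstract

variable {Λ : Type (u + 1)} [CommRing Λ] {X : Scheme.{u}} [ProEtS.EpsCont X]

instance isIso_unit_epsAdjMod' : IsIso (epsAdjMod Λ X).unit :=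
  haveI : ∀ F, IsIso ((epsAdjMod Λ X).unit.app F) := fun F => isIso_unit_epsAdjMod F
  NatIso.isIso_of_isIso_app _

/-- `ε⁻¹` is fully faithful on sheaves of modules. -/
noncomputable def fullyFaithfulEpsPullMod : (EtModW.epsPullMod Λ X).FullyFaithful :=
  (epsAdjMod Λ X).fullyFaithfulLOfIsIsoUnit

instance : (EtModW.epsPullMod Λ X).Faithful := fullyFaithfulEpsPullMod.faithful
instance : (EtModW.epsPullMod Λ X).Full := fullyFaithfulEpsPullMod.full

variable (I : Ideal Λ) (hI : I.FG)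

/-- The functor `G ↦ lim ε⁻¹ G_n`. -/
noncomputable abbrev limPull (Λ : Type (u + 1)) [CommRing Λ] (X : Scheme.{u}) [ProEtS.EpsCont X] :
    ARSys.PS (EtModW.Mod Λ X) ⥤ EtModW.ModP Λ X :=
  (Functor.whiskeringRight ℕᵒᵖ (EtModW.Mod Λ X) (EtModW.ModP Λ X)).obj (EtModW.epsPullMod Λ X) ⋙ lim

theorem limPull_map_π {G G' : ARSys.PS (EtModW.Mod Λ X)} (f : G ⟶ G') (n : ℕ) :
    (limPull Λ X).map f ≫ limit.π (G' ⋙ EtModW.epsPullMod Λ X) (op n) =
      limit.π (G ⋙ EtModW.epsPullMod Λ X) (op n) ≫ (EtModW.epsPullMod Λ X).map (f.app (op n)) :=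
  limMap_π _ _

include hI in
theorem limPull_map_injective {G G' : ARSys.PS (EtModW.Mod Λ X)} (hG : ARSys.IsAdic I G)
    (f g : G ⟶ G') (h : (limPull Λ X).map f = (limPull Λ X).map g) : f = g := by
  apply NatTrans.ext
  funext j
  induction j with | op n => ?_
  haveI : Epi (limit.π (G ⋙ EtModW.epsPullMod Λ X) (op n)) :=
    epi_of_isQuot _ _ (isQuot_limit_π I hI _ (isAdic_epsPullMod I G hG) n)
  apply (EtModW.epsPullMod Λ X).map_injective
  rw [← cancel_epi (limit.π (G ⋙ EtModW.epsPullMod Λ X) (op n)), ← limPull_map_π, ← limPull_map_π, h]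

include hI in
theorem limPull_map_surjective {G G' : ARSys.PS (EtModW.Mod Λ X)} (hG : ARSys.IsAdic I G)
    (hG' : ARSys.IsAdic I G')
    (φ : (limPull Λ X).obj G ⟶ (limPull Λ X).obj G') : ∃ f : G ⟶ G', (limPull Λ X).map f = φ := by
  let L := EtModW.epsPullMod Λ X
  have hQ := isAdic_epsPullMod I G hG
  have hQ' := isAdic_epsPullMod I G' hG'
  have hq : ∀ n, ARSys.IsQuot (I ^ (n + 1)) (limit.π (G ⋙ L) (op n)) :=
    fun n => isQuot_limit_π I hI _ hQ n
  haveI : ∀ n, Epi (limit.π (G ⋙ L) (op n)) := fun n => epi_of_isQuot _ _ (hq n)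
  have hex : ∀ n, ∃ ψ : L.obj (G.obj (op n)) ⟶ L.obj (G'.obj (op n)),
      limit.π (G ⋙ L) (op n) ≫ ψ = φ ≫ limit.π (G' ⋙ L) (op n) := fun n => by
    obtain ⟨ψ, hψ, -⟩ := (hq n).2 _ (φ ≫ limit.π (G' ⋙ L) (op n))
      (homKilledBy_of_killedBy _ _ (hQ'.1 n))
    exact ⟨ψ, hψ⟩
  choose ψ hψ using hex
  let f : G ⟶ G' :=
    { app := fun j => L.preimage (ψ j.unop)
      naturality := fun j j' t => by
        apply L.map_injective
        rw [L.map_comp, L.map_comp, L.map_preimage, L.map_preimage]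
        rw [← cancel_epi (limit.π (G ⋙ L) (op j.unop))]
        have h1 : limit.π (G ⋙ L) (op j.unop) ≫ L.map (G.map t) =
            limit.π (G ⋙ L) (op j'.unop) := limit.w (G ⋙ L) t
        have h2 : limit.π (G' ⋙ L) (op j.unop) ≫ L.map (G'.map t) =
            limit.π (G' ⋙ L) (op j'.unop) := limit.w (G' ⋙ L) t
        rw [← Category.assoc, h1, hψ, ← Category.assoc, hψ, Category.assoc, h2] }
  refine ⟨f, ?_⟩
  apply limit.hom_ext
  intro j
  induction j with | op n => ?_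
  refine (limPull_map_π f n).trans ?_
  change limit.π (G ⋙ L) (op n) ≫ L.map (L.preimage (ψ n)) = _
  rw [L.map_preimage]
  exact hψ n

end Groth.Agent.Lib.ProEtAdicFF22
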