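import Mathlib.Algebra.Module.LinearMap.Defs
import Mathlib.Algebra.Module.Submodule.Range
import Mathlib.Tactic.Abel

/-!
# Mittag-Leffler towers of modules (helper22)

* `exists_lift_of_ml`: for towers `A → B → C` of modules, exact in the middle with `B_n → C_n`
  surjective, and `A` satisfying a uniform Mittag-Leffler condition, `lim B → lim C` is surjective;
* `ml_of_arNull_coker`: a tower receiving a map from a tower with surjective transition maps, with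
  cokernel null up to translation, satisfies the uniform Mittag-Leffler condition.
-/

set_option autoImplicit false

namespace Groth.Agent.Lib.TowerML22

variable {Λ : Type*} [CommRing Λ]

section lift

variable {A B C : ℕ → Type*} [∀ n, AddCommGroup (A n)] [∀ n, Module Λ (A n)]
  [∀ n, AddCommGroup (B n)] [∀ n, Module Λ (B n)] [∀ n, AddCommGroup (C n)] [∀ n, Module Λ (C n)]
  (tA : ∀ a b : ℕ, a ≤ b → (A b →ₗ[Λ] A a)) (tB : ∀ a b : ℕ, a ≤ b → (B b →ₗ[Λ] B a))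
  (tC : ∀ a b : ℕ, a ≤ b → (C b →ₗ[Λ] C a))
  (f : ∀ n, A n →ₗ[Λ] B n) (g : ∀ n, B n →ₗ[Λ] C n)

theorem exists_lift_of_ml
    (hB_comp : ∀ (a b c : ℕ) (hab : a ≤ b) (hbc : b ≤ c) (x : B c),
      tB a b hab (tB b c hbc x) = tB a c (hab.trans hbc) x)
    (hf : ∀ (a b : ℕ) (h : a ≤ b) (x : A b), tB a b h (f b x) = f a (tA a b h x))
    (hg : ∀ (a b : ℕ) (h : a ≤ b) (x : B b), tC a b h (g b x) = g a (tB a b h x))
    (hgf : ∀ n x, g n (f n x) = 0)
    (hex : ∀ n b, g n b = 0 → ∃ a, f n a = b)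
    (hsurj : ∀ n, Function.Surjective (g n))
    (r : ℕ) (hML : ∀ (n k : ℕ) (hk : n + r ≤ k) (a : A (n + r)),
      ∃ a' : A k, tA n k ((Nat.le_add_right n r).trans hk) a' = tA n (n + r) (Nat.le_add_right n r) a)
    (c : ∀ n, C n) (hc : ∀ (a b : ℕ) (h : a ≤ b), tC a b h (c b) = c a) :
    ∃ b : ∀ n, B n, (∀ n, tB n (n + 1) (Nat.le_succ n) (b (n + 1)) = b n) ∧
      ∀ n, g n (b n) = c n := by
  -- the key lifting property
  have key : ∀ (n k : ℕ) (hk : n + r ≤ k) (b : B (n + r)), g (n + r) b = c (n + r) →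
      ∃ b'' : B k, g k b'' = c k ∧
        tB n k ((Nat.le_add_right n r).trans hk) b'' = tB n (n + r) (Nat.le_add_right n r) b := by
    intro n k hk b hb
    obtain ⟨b', hb'⟩ := hsurj k (c k)
    have h1 : g (n + r) (tB (n + r) k hk b' - b) = 0 := by
      rw [map_sub, ← hg, hb', hc, hb, sub_self]
    obtain ⟨a, ha⟩ := hex _ _ h1
    obtain ⟨a', ha'⟩ := hML n k hk a
    refine ⟨b' - f k a', ?_, ?_⟩
    · rw [map_sub, hgf, sub_zero, hb']
    · rw [map_sub, hf, ha', ← hf, ha, map_sub, hB_comp]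
      abel
  -- the stable images
  let E' : ∀ n, Set (B n) := fun n =>
    {x | ∃ b : B (n + r), g (n + r) b = c (n + r) ∧ tB n (n + r) (Nat.le_add_right n r) b = x}
  have hE'g : ∀ n x, x ∈ E' n → g n x = c n := by
    rintro n x ⟨b, hb, rfl⟩
    rw [← hg, hb, hc]
  have hstep : ∀ (n : ℕ) (x : E' n), ∃ y : E' (n + 1), tB n (n + 1) (Nat.le_succ n) y.1 = x.1 := by
    rintro n ⟨x, b, hb, rfl⟩
    obtain ⟨b'', hb''1, hb''2⟩ := key n (n + 1 + r) (by omega) b hb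
    refine ⟨⟨tB (n + 1) (n + 1 + r) (Nat.le_add_right _ r) b'', b'', hb''1, rfl⟩, ?_⟩
    change tB n (n + 1) _ (tB (n + 1) (n + 1 + r) _ b'') = _
    rw [hB_comp]
    exact hb''2
  choose next hnext using hstep
  obtain ⟨b0, hb0⟩ := hsurj (0 + r) (c (0 + r))
  let x0 : E' 0 := ⟨tB 0 (0 + r) (Nat.le_add_right 0 r) b0, b0, hb0, rfl⟩
  let xs : ∀ n, E' n := fun n => Nat.rec (motive := fun n => E' n) x0 (fun n x => next n x) n
  refine ⟨fun n => (xs n).1, fun n => hnext n (xs n), fun n => hE'g n _ (xs n).2⟩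

end lift

section ml

variable {Y A Q : ℕ → Type*} [∀ n, AddCommGroup (Y n)] [∀ n, Module Λ (Y n)]
  [∀ n, AddCommGroup (A n)] [∀ n, Module Λ (A n)] [∀ n, AddCommGroup (Q n)] [∀ n, Module Λ (Q n)]
  (tY : ∀ a b : ℕ, a ≤ b → (Y b →ₗ[Λ] Y a)) (tA : ∀ a b : ℕ, a ≤ b → (A b →ₗ[Λ] A a))
  (tQ : ∀ a b : ℕ, a ≤ b → (Q b →ₗ[Λ] Q a))
  (v : ∀ n, Y n →ₗ[Λ] A n) (q : ∀ n, A n →ₗ[Λ] Q n)

theorem ml_of_arNull_coker
    (hv : ∀ (a b : ℕ) (h : a ≤ b) (x : Y b), tA a b h (v b x) = v a (tY a b h x))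
    (hq : ∀ (a b : ℕ) (h : a ≤ b) (x : A b), tQ a b h (q b x) = q a (tA a b h x))
    (hex : ∀ n a, q n a = 0 → ∃ y, v n y = a)
    (hY : ∀ (a b : ℕ) (h : a ≤ b), Function.Surjective (tY a b h))
    (r : ℕ) (hQ : ∀ n (x : Q (n + r)), tQ n (n + r) (Nat.le_add_right n r) x = 0)
    (n k : ℕ) (hk : n + r ≤ k) (a : A (n + r)) :
    ∃ a' : A k, tA n k ((Nat.le_add_right n r).trans hk) a' =
      tA n (n + r) (Nat.le_add_right n r) a := by
  have h1 : q n (tA n (n + r) (Nat.le_add_right n r) a) = 0 := by rw [← hq, hQ]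
  obtain ⟨y, hy⟩ := hex _ _ h1
  obtain ⟨y', hy'⟩ := hY n k ((Nat.le_add_right n r).trans hk) y
  exact ⟨v k y', by rw [hv, hy', hy]⟩

end ml

end Groth.Agent.Lib.TowerML22
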