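import Groth.Agent.Lib.ProEtAdicChar22
import Groth.Agent.Lib.TowerML22

/-!
# `lim ε⁻¹` is exact on short exact sequences with AR-adic kernel (helper22)
-/

set_option autoImplicit false
set_option linter.style.haveILetI false
universe u

open CategoryTheory CategoryTheory.Limits AlgebraicGeometry Opposite EtModW

namespace Groth.Agent.Lib.ProEtAdicML22

open Groth.Agent.Lib.ProEtQuot22 Groth.Agent.Lib.ProEtDetect22 Groth.Agent.Lib.ProEtAdicLim22
  Groth.Agent.Lib.ProEtAdicChar22 Groth.Agent.Lib.TowerML22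

variable {Λ : Type (u + 1)} [CommRing Λ] {X : Scheme.{u}} [ProEtS.EpsCont X]

/-- Sections over `W` of the pullback of the `n`-th term. -/
noncomputable abbrev PhiW (Λ : Type (u + 1)) [CommRing Λ] {X : Scheme.{u}} [ProEtS.EpsCont X]
    (W : X.ProEt) (n : ℕ) : ARSys.PS (EtModW.Mod Λ X) ⥤ ModuleCat.{u + 1} Λ :=
  (evaluation ℕᵒᵖ (EtModW.Mod Λ X)).obj (op n) ⋙ EtModW.epsPullMod Λ X ⋙ secU Λ W

instance additive_epsPullMod : (EtModW.epsPullMod Λ X).Additive where
  map_add {A B f g} := by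
    have h1 := epsPullMod_map_smul (1 : Λ) f
    apply ((epsAdjMod Λ X).homEquiv _ _).injective
    rw [Adjunction.homEquiv_unit, Adjunction.homEquiv_unit]
    have hu : ∀ (k : A ⟶ B), (epsAdjMod Λ X).unit.app A ≫
        ((ProEtS.eps X).sheafPushforwardContinuous (ModuleCat.{u + 1} Λ) X.smallEtaleTopology
          (Scheme.ProEt.topology X)).map ((EtModW.epsPullMod Λ X).map k) =
        k ≫ (epsAdjMod Λ X).unit.app B := fun k => (epsAdjMod Λ X).unit_naturality k
    have hadd : ∀ (a b : (EtModW.epsPullMod Λ X).obj A ⟶ (EtModW.epsPullMod Λ X).obj B),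
        ((ProEtS.eps X).sheafPushforwardContinuous (ModuleCat.{u + 1} Λ) X.smallEtaleTopology
          (Scheme.ProEt.topology X)).map (a + b) =
        ((ProEtS.eps X).sheafPushforwardContinuous (ModuleCat.{u + 1} Λ) X.smallEtaleTopology
          (Scheme.ProEt.topology X)).map a +
        ((ProEtS.eps X).sheafPushforwardContinuous (ModuleCat.{u + 1} Λ) X.smallEtaleTopology
          (Scheme.ProEt.topology X)).map b := fun a b => rfl
    rw [hu, hadd, Preadditive.comp_add, hu, hu, Preadditive.add_comp]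

theorem preservesFiniteColimits_PhiW (W : X.ProEt) (hW : ProEtS.IsWC W) (n : ℕ) :
    PreservesFiniteColimits (PhiW Λ W n) := by
  haveI := preservesFiniteColimits_secU (Λ := Λ) W hW
  haveI : PreservesColimitsOfSize.{0, 0} (EtModW.epsPullMod Λ X) :=
    (epsAdjMod Λ X).leftAdjoint_preservesColimits
  haveI : PreservesFiniteColimits (EtModW.epsPullMod Λ X) := PreservesColimitsOfSize.preservesFiniteColimits _
  infer_instance

instance additive_PhiW (W : X.ProEt) (n : ℕ) : (PhiW Λ W n).Additive := by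
  haveI : (secU Λ W).Additive := { map_add := rfl }
  infer_instance

/-- Exactness in the middle on sections over a weakly contractible object. -/
theorem exact_sections (W : X.ProEt) (hW : ProEtS.IsWC W) (n : ℕ)
    (S : ShortComplex (ARSys.PS (EtModW.Mod Λ X))) (hS : S.Exact) (hg : Epi S.g)
    (b : (PhiW Λ W n).obj S.X₂) (hb : ((PhiW Λ W n).map S.g).hom b = 0) :
    ∃ a : (PhiW Λ W n).obj S.X₁, ((PhiW Λ W n).map S.f).hom a = b := by
  haveI := preservesFiniteColimits_PhiW (Λ := Λ) W hW n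
  have hex : (S.map (PhiW Λ W n)).Exact :=
    hS.map_of_epi_of_preservesCokernel (PhiW Λ W n) hg inferInstance
  exact (ShortComplex.moduleCat_exact_iff _).1 hex b hb

/-- Surjectivity on sections over a weakly contractible object. -/
theorem surjective_sections (W : X.ProEt) (hW : ProEtS.IsWC W) (n : ℕ)
    {Z Z' : ARSys.PS (EtModW.Mod Λ X)} (g : Z ⟶ Z') [Epi g] :
    Function.Surjective ((PhiW Λ W n).map g).hom := by
  haveI := preservesFiniteColimits_PhiW (Λ := Λ) W hW n
  haveI : Epi ((PhiW Λ W n).map g) := inferInstance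
  exact (ModuleCat.epi_iff_surjective _).1 inferInstance

/-- Transition maps commute with morphisms of systems. -/
theorem trW_map (W : X.ProEt) {Z Z' : ARSys.PS (EtModW.Mod Λ X)} (φ : Z ⟶ Z') (a b : ℕ)
    (h : a ≤ b) (x : (PhiW Λ W b).obj Z) :
    trW (Z' ⋙ EtModW.epsPullMod Λ X) W a b h (((PhiW Λ W b).map φ).hom x) =
      ((PhiW Λ W a).map φ).hom (trW (Z ⋙ EtModW.epsPullMod Λ X) W a b h x) := by
  have h1 := φ.naturality (homOfLE h).op
  have h2 : (EtModW.epsPullMod Λ X).map (φ.app (op b)) ≫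
      (EtModW.epsPullMod Λ X).map (Z'.map (homOfLE h).op) =
      (EtModW.epsPullMod Λ X).map (Z.map (homOfLE h).op) ≫
        (EtModW.epsPullMod Λ X).map (φ.app (op a)) := by
    rw [← Functor.map_comp, ← Functor.map_comp, h1]
  exact congrArg (fun t => (t.hom.app (op W)).hom x) h2

theorem ext_sections (Q : ℕᵒᵖ ⥤ EtModW.ModP Λ X) (W : X.ProEt)
    (y y' : (limit Q).obj.obj (op W)) (h : ∀ n, πW Q W n y = πW Q W n y') : y = y' := by
  rw [← sub_eq_zero]
  apply sep_sections Q W
  intro n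
  rw [map_sub, h n, sub_self]

include X in
/-- `lim ε⁻¹ B ⟶ lim ε⁻¹ C` is an epimorphism when the kernel system is AR-adic. -/
theorem epi_limMap (I : Ideal Λ) (hI : I.FG)
    (S : ShortComplex (ARSys.PS (EtModW.Mod Λ X))) (hS : S.ShortExact)
    (Y : ARSys.PS (EtModW.Mod Λ X)) (v : Y ⟶ S.X₁) (hY : ARSys.IsAdic I Y)
    (hv : ARSys.IsARIso v) :
    Epi (limMap (Functor.whiskerRight S.g (EtModW.epsPullMod Λ X))) := by
  apply epi_of_forall_isWC
  intro W hW c
  let L := EtModW.epsPullMod Λ X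
  haveI := hS.epi_g
  obtain ⟨r, hr⟩ := hv.2
  have hYL := isAdic_epsPullMod I Y hY
  -- the uniform Mittag-Leffler condition for the kernel system
  have hML := ml_of_arNull_coker (Λ := Λ)
    (Y := fun n => (PhiW Λ W n).obj Y) (A := fun n => (PhiW Λ W n).obj S.X₁)
    (Q := fun n => (PhiW Λ W n).obj (cokernel v))
    (trW (Y ⋙ L) W) (trW (S.X₁ ⋙ L) W) (trW (cokernel v ⋙ L) W)
    (fun n => ((PhiW Λ W n).map v).hom) (fun n => ((PhiW Λ W n).map (cokernel.π v)).hom)
    (fun a b h x => trW_map W v a b h x) (fun a b h x => trW_map W (cokernel.π v) a b h x)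
    (fun n a ha => exact_sections W hW n (ShortComplex.mk v (cokernel.π v) (cokernel.condition v))
      (ShortComplex.exact_cokernel v) inferInstance a ha)
    (fun a b h => (Groth.Agent.Lib.ProEtQuot22.main (I ^ (a + 1)) (hI.pow) _ _
      ((Y ⋙ L).map (homOfLE h).op) (hYL.2 a b h) W hW).1)
    r (fun n x => by
      have h0 : (cokernel v).map (homOfLE (Nat.le_add_right n r)).op = 0 := hr n
      change ((L.map ((cokernel v).map (homOfLE (Nat.le_add_right n r)).op)).hom.app (op W)).hom x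
        = 0
      rw [h0, L.map_zero]
      rfl)
  -- lift the compatible family
  obtain ⟨b, hb1, hb2⟩ := exists_lift_of_ml (Λ := Λ)
    (A := fun n => (PhiW Λ W n).obj S.X₁) (B := fun n => (PhiW Λ W n).obj S.X₂)
    (C := fun n => (PhiW Λ W n).obj S.X₃)
    (trW (S.X₁ ⋙ L) W) (trW (S.X₂ ⋙ L) W) (trW (S.X₃ ⋙ L) W)
    (fun n => ((PhiW Λ W n).map S.f).hom) (fun n => ((PhiW Λ W n).map S.g).hom)
    (trW_comp (S.X₂ ⋙ L) W)
    (fun a b h x => trW_map W S.f a b h x) (fun a b h x => trW_map W S.g a b h x)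
    (fun n x => by
      have h0 : (PhiW Λ W n).map S.f ≫ (PhiW Λ W n).map S.g = 0 := by
        rw [← Functor.map_comp, S.zero, Functor.map_zero]
      exact congrArg (fun t => t.hom x) h0)
    (fun n y hy => exact_sections W hW n S hS.exact inferInstance y hy)
    (fun n => surjective_sections W hW n S.g)
    r hML (fun n => πW (S.X₃ ⋙ L) W n c) (fun a b h => trW_πW (S.X₃ ⋙ L) W a b h c)
  obtain ⟨y, hy⟩ := glue_sections (S.X₂ ⋙ L) W b hb1
  refine ⟨y, ?_⟩
  apply ext_sections (S.X₃ ⋙ L) W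
  intro n
  have h1 : limMap (Functor.whiskerRight S.g L) ≫ limit.π (S.X₃ ⋙ L) (op n) =
      limit.π (S.X₂ ⋙ L) (op n) ≫ L.map (S.g.app (op n)) := limMap_π _ _
  have h2 := congrArg (fun t => (t.hom.app (op W)).hom y) h1
  refine h2.trans ?_
  change ((PhiW Λ W n).map S.g).hom (πW (S.X₂ ⋙ L) W n y) = _
  rw [hy n, hb2 n]

end Groth.Agent.Lib.ProEtAdicML22
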