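import Groth.Agent.Lib.ProEtEpsExact22
import Groth.Agent.Lib.ProEtAdicFF22
import Groth.Agent.Lib.ProEtAdicML22
import Groth.Agent.Lib.ProEtAdicChar22
import Groth.Agent.Lib.ARSysLim
import Groth.Agent.Lib.ARSysAb
import Groth.Agent.Lib.ARSysFunctor22
import Groth.Agent.Lib.ModSubLC22g

/-!
# Adic pro-étale sheaves: kernels and cokernels (helper22)

* `IsAdicP I F`: the sheaf of modules `F` on `X_proét` is an `I`-adic pro-étale sheaf (tower of
  quotients which are pullbacks of constructible sheaves, `F` being the limit);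
* `isAdicP_iff`: `F` is adic iff `F ≅ lim ε⁻¹ G_n` for an adic system of constructible sheaves;
* `preservesFiniteLimits_limPull`, `isIso_limPull_map_of_isARIso`;
* `isAdicP_kernel`, `isAdicP_cokernel`.
-/

set_option autoImplicit false
set_option linter.style.haveILetI false
set_option linter.unusedSectionVars false
universe u

open CategoryTheory AlgebraicGeometry Limits Opposite ProEtS

namespace Groth.Agent.Lib.ProEtAdicAb22

open Groth.Agent.Lib.ProEtAdicFF22 Groth.Agent.Lib.ProEtEpsExact22 Groth.Agent.Lib.ProEtAdicML22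
  Groth.Agent.Lib.ProEtAdicChar22

variable {Λ : Type (u + 1)} [CommRing Λ] {X : Scheme.{u}} [ProEtS.EpsCont X]

/-- `F` is an `I`-adic pro-étale sheaf. -/
def IsAdicP (I : Ideal Λ) (F : EtModW.ModP Λ X) : Prop :=
  ∃ (Q : ℕᵒᵖ ⥤ EtModW.ModP Λ X) (p : (Functor.const ℕᵒᵖ).obj F ⟶ Q),
    (∀ n : ℕ, ARSys.IsQuot (I ^ (n + 1)) (p.app (op n))) ∧
    (∀ n : ℕ, ∃ E : EtModW.Mod Λ X, EtModW.IsConstructible Λ E ∧
      Nonempty ((EtModW.epsPullMod Λ X).obj E ≅ Q.obj (op n))) ∧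
    IsIso (limit.lift Q (Cone.mk F p))

/-- An adic system of constructible sheaves. -/
def IsAdicC (I : Ideal Λ) (G : ARSys.PS (EtModW.Mod Λ X)) : Prop :=
  ARSys.IsAdic I G ∧ ∀ n : ℕ, EtModW.IsConstructible Λ (G.obj (op n))

theorem isAdicP_iff (I : Ideal Λ) (hI : I.FG) (F : EtModW.ModP Λ X) :
    IsAdicP I F ↔ ∃ G : ARSys.PS (EtModW.Mod Λ X), IsAdicC I G ∧
      Nonempty ((limPull Λ X).obj G ≅ F) := by
  constructor
  · rintro ⟨Q, p, hp, hE, hiso⟩
    choose E hE1 hE2 using hE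
    haveI := hiso
    obtain ⟨G, hG, hGE, hF⟩ := exists_system_of_tower I hI F Q p hp E (fun n => (hE2 n).some)
    refine ⟨G, ⟨hG, fun n => ?_⟩, hF⟩
    rw [hGE n]
    exact hE1 n
  · rintro ⟨G, ⟨hG, hc⟩, ⟨e⟩⟩
    obtain ⟨p, hp, hiso⟩ := exists_tower_of_iso I hI F G hG e
    exact ⟨G ⋙ EtModW.epsPullMod Λ X, p, hp, fun n => ⟨G.obj (op n), hc n, ⟨Iso.refl _⟩⟩, hiso⟩

noncomputable instance preservesFiniteLimits_limPull : PreservesFiniteLimits (limPull Λ X) := by
  have h1 : PreservesFiniteLimits ((Functor.whiskeringRight ℕᵒᵖ (EtModW.Mod Λ X)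
      (EtModW.ModP Λ X)).obj (EtModW.epsPullMod Λ X)) := by
    constructor
    intro J _ _
    infer_instance
  have h2 : PreservesFiniteLimits (lim : (ℕᵒᵖ ⥤ EtModW.ModP Λ X) ⥤ EtModW.ModP Λ X) := by
    constructor
    intro J _ _
    infer_instance
  exact comp_preservesFiniteLimits _ _

instance preservesFiniteColimits_epsPullMod : PreservesFiniteColimits (EtModW.epsPullMod Λ X) := by
  haveI : PreservesColimitsOfSize.{0, 0} (EtModW.epsPullMod Λ X) :=
    (Groth.Agent.Lib.ProEtAdicLim22.epsAdjMod Λ X).leftAdjoint_preservesColimits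
  exact PreservesColimitsOfSize.preservesFiniteColimits _

instance preservesZeroMorphisms_limPull : (limPull Λ X).PreservesZeroMorphisms :=
  (limPull Λ X).preservesZeroMorphisms_of_preserves_terminal_object

/-- An isomorphism up to translation induces an isomorphism on `lim ε⁻¹`. -/
theorem isIso_limPull_map_of_isARIso {Y K : ARSys.PS (EtModW.Mod Λ X)} (v : Y ⟶ K)
    (hv : ARSys.IsARIso v) : IsIso ((limPull Λ X).map v) :=
  Groth.Agent.Lib.ARSysLim.isIso_limMap_of_isARIso _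
    (Groth.Agent.Lib.ARSysFunctor22.isARIso_whisker (EtModW.epsPullMod Λ X) v hv)

section main

variable [IsNoetherianRing Λ] [IsNoetherian X] (I : Ideal Λ)

/-- Presenting a morphism of adic pro-étale sheaves by a morphism of adic systems. -/
theorem exists_presentation {F G : EtModW.ModP Λ X} (hF : IsAdicP I F) (hG : IsAdicP I G)
    (w : F ⟶ G) :
    ∃ (F₀ G₀ : ARSys.PS (EtModW.Mod Λ X)) (_ : IsAdicC I F₀) (_ : IsAdicC I G₀)
      (eF : (limPull Λ X).obj F₀ ≅ F) (eG : (limPull Λ X).obj G₀ ≅ G) (w₀ : F₀ ⟶ G₀),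
      (limPull Λ X).map w₀ ≫ eG.hom = eF.hom ≫ w := by
  have hI : I.FG := IsNoetherian.noetherian I
  obtain ⟨F₀, hF₀, ⟨eF⟩⟩ := (isAdicP_iff I hI F).1 hF
  obtain ⟨G₀, hG₀, ⟨eG⟩⟩ := (isAdicP_iff I hI G).1 hG
  obtain ⟨w₀, hw₀⟩ := limPull_map_surjective I hI hF₀.1 hG₀.1 (eF.hom ≫ w ≫ eG.inv)
  refine ⟨F₀, G₀, hF₀, hG₀, eF, eG, w₀, ?_⟩
  rw [hw₀]
  simp

/-- The kernel of a morphism of adic pro-étale sheaves is adic. -/
theorem isAdicP_kernel {F G : EtModW.ModP Λ X} (hF : IsAdicP I F) (hG : IsAdicP I G)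
    (w : F ⟶ G) : IsAdicP I (kernel w) := by
  have hI : I.FG := IsNoetherian.noetherian I
  obtain ⟨F₀, G₀, hF₀, hG₀, eF, eG, w₀, hw⟩ := exists_presentation I hF hG w
  obtain ⟨⟨-, Y, v, hY, hYc, hv⟩, -⟩ :=
    Groth.Agent.Lib.ModSubLC22.isARAdicConstr_kernel_cokernel I F₀ G₀ hF₀.1 hG₀.1 hF₀.2 hG₀.2 w₀
  rw [isAdicP_iff I hI]
  refine ⟨Y, ⟨hY, hYc⟩, ⟨?_⟩⟩
  haveI := isIso_limPull_map_of_isARIso v hv
  exact asIso ((limPull Λ X).map v) ≪≫ PreservesKernel.iso (limPull Λ X) w₀ ≪≫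
    kernel.mapIso _ _ eF eG hw

/-- `lim ε⁻¹` of an epimorphism of systems with AR-adic kernel is an epimorphism. -/
theorem epi_limPull_map {A B : ARSys.PS (EtModW.Mod Λ X)} (g : A ⟶ B) [Epi g]
    (Y : ARSys.PS (EtModW.Mod Λ X)) (v : Y ⟶ kernel g) (hY : ARSys.IsAdic I Y)
    (hv : ARSys.IsARIso v) : Epi ((limPull Λ X).map g) := by
  have hI : I.FG := IsNoetherian.noetherian I
  have hS : (ShortComplex.mk (kernel.ι g) g (kernel.condition g)).ShortExact :=
    { exact := ShortComplex.exact_kernel g }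
  exact epi_limMap I hI _ hS Y v hY hv

/-- The cokernel of a morphism of adic pro-étale sheaves is adic. -/
theorem isAdicP_cokernel {F G : EtModW.ModP Λ X} (hF : IsAdicP I F) (hG : IsAdicP I G)
    (w : F ⟶ G) : IsAdicP I (cokernel w) := by
  have hI : I.FG := IsNoetherian.noetherian I
  obtain ⟨F₀, G₀, hF₀, hG₀, eF, eG, w₀, hw⟩ := exists_presentation I hF hG w
  have strict : ARSys.IsStrict F₀ :=
    fun n m h => Groth.Agent.Lib.ARSysBasic.IsQuot.epi (hF₀.1.2 n m h)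
  -- the cokernel system is adic and constructible
  have hC : IsAdicC I (cokernel w₀) := by
    refine ⟨Groth.Agent.Lib.ARSysAb.isAdic_cokernel I w₀ strict hG₀.1, fun n => ?_⟩
    haveI : Epi ((cokernel.π w₀).app (op n)) := inferInstance
    exact Groth.Agent.Lib.ModSubLC22.isConstructibleMod_of_epi ((cokernel.π w₀).app (op n))
      (hG₀.2 n)
  rw [isAdicP_iff I hI]
  refine ⟨cokernel w₀, hC, ?_⟩
  -- AR-adicity of the two kernels
  obtain ⟨⟨-, Y₁, v₁, hY₁, -, hv₁⟩, -⟩ :=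
    Groth.Agent.Lib.ModSubLC22.isARAdicConstr_kernel_cokernel I F₀ G₀ hF₀.1 hG₀.1 hF₀.2 hG₀.2 w₀
  obtain ⟨⟨-, Y₂, v₂, hY₂, -, hv₂⟩, -⟩ :=
    Groth.Agent.Lib.ModSubLC22.isARAdicConstr_kernel_cokernel I G₀ (cokernel w₀) hG₀.1 hC.1
      hG₀.2 hC.2 (cokernel.π w₀)
  -- `lim ε⁻¹ G₀ ⟶ lim ε⁻¹ C₀` is an epimorphism
  haveI hepi2 : Epi ((limPull Λ X).map (cokernel.π w₀)) :=
    epi_limPull_map I (cokernel.π w₀) Y₂ v₂ hY₂ hv₂
  -- the lift `F₀ ⟶ ker π`
  let e : F₀ ⟶ kernel (cokernel.π w₀) := kernel.lift _ w₀ (cokernel.condition w₀)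
  have he : e ≫ kernel.ι (cokernel.π w₀) = w₀ := kernel.lift_ι _ _ _
  haveI hee : Epi e :=
    (ShortComplex.exact_iff_epi_kernel_lift
      (ShortComplex.mk w₀ (cokernel.π w₀) (cokernel.condition w₀))).1
      (ShortComplex.exact_cokernel w₀)
  -- `kernel w₀` is also the kernel of `e`
  have hk0 : kernel.ι w₀ ≫ e = 0 := by
    rw [← cancel_mono (kernel.ι (cokernel.π w₀)), Category.assoc, he, kernel.condition, zero_comp]
  have hkl : IsLimit (KernelFork.ofι (kernel.ι w₀) hk0) :=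
    isKernelOfComp (kernel.ι (cokernel.π w₀)) w₀ (kernelIsKernel w₀) hk0 he
  have hS1 : (ShortComplex.mk (kernel.ι w₀) e hk0).ShortExact :=
    { exact := ShortComplex.exact_of_f_is_kernel _ hkl }
  haveI hepi1 : Epi ((limPull Λ X).map e) := epi_limMap I hI _ hS1 Y₁ v₁ hY₁ hv₁
  -- exactness of the image sequence
  have hzero : (limPull Λ X).map w₀ ≫ (limPull Λ X).map (cokernel.π w₀) = 0 := by
    rw [← Functor.map_comp, cokernel.condition, Functor.map_zero]
  have hex : (ShortComplex.mk _ _ hzero).Exact := by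
    rw [ShortComplex.exact_iff_epi_kernel_lift]
    have h1 : kernel.lift ((limPull Λ X).map (cokernel.π w₀)) ((limPull Λ X).map w₀) hzero =
        (limPull Λ X).map e ≫ kernelComparison (cokernel.π w₀) (limPull Λ X) := by
      rw [map_lift_kernelComparison]
    change Epi (kernel.lift ((limPull Λ X).map (cokernel.π w₀)) ((limPull Λ X).map w₀) hzero)
    rw [h1]
    infer_instance
  haveI : Epi (ShortComplex.mk _ _ hzero).g := hepi2
  have hcok : IsColimit (CokernelCofork.ofπ ((limPull Λ X).map (cokernel.π w₀)) hzero) :=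
    hex.gIsCokernel
  have e1 : cokernel ((limPull Λ X).map w₀) ≅ (limPull Λ X).obj (cokernel w₀) :=
    (colimit.isColimit _).coconePointUniqueUpToIso hcok
  exact ⟨e1.symm ≪≫ cokernel.mapIso _ _ eF eG hw⟩

end main

end Groth.Agent.Lib.ProEtAdicAb22
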