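import Mathlib.CategoryTheory.Sites.CoverLifting
import Mathlib.CategoryTheory.Sites.Pullback
import Mathlib.CategoryTheory.Adjunction.Triple
import Mathlib.CategoryTheory.Functor.KanExtension.Adjunction

set_option autoImplicit false

namespace Groth.Agent.Lib.SiteFullyFaithful

open CategoryTheory CategoryTheory.Limits

universe v₁ v₂ v₃ u₁ u₂ u₃

variable {C : Type u₂} [Category.{v₂} C] {D : Type u₃} [Category.{v₃} D] (G : C ⥤ D)
  (A : Type u₁) [Category.{v₁} A]
  (J : GrothendieckTopology C) (K : GrothendieckTopology D)

/-- For a fully faithful functor of sites which is continuous and cocontinuous, the counit of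
the adjunction between restriction and the cocontinuous pushforward (right Kan extension) is an
isomorphism. -/
theorem isIso_counit_sheafAdjunctionCocontinuous [G.Full] [G.Faithful]
    [G.IsContinuous J K] [G.IsCocontinuous J K]
    [∀ F : Cᵒᵖ ⥤ A, G.op.HasPointwiseRightKanExtension F] :
    IsIso (G.sheafAdjunctionCocontinuous A J K).counit := by
  have : ∀ F, IsIso ((G.sheafAdjunctionCocontinuous A J K).counit.app F) := fun F => by
    have h : IsIso ((sheafToPresheaf J A).map ((G.sheafAdjunctionCocontinuous A J K).counit.app F)) := by
      change IsIso ((G.sheafAdjunctionCocontinuous A J K).counit.app F).hom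
      rw [Functor.sheafAdjunctionCocontinuous_counit_app_hom]
      exact (inferInstance : IsIso ((G.op.ranAdjunction A).counit.app F.obj))
    exact isIso_of_reflects_iso _ (sheafToPresheaf J A)
  exact NatIso.isIso_of_isIso_app _

/-- For a fully faithful functor of sites which is continuous and cocontinuous, the unit of
the adjunction between sheaf pullback and restriction is an isomorphism (the sheaf pullback is
fully faithful). -/
theorem isIso_unit_sheafAdjunctionContinuous [G.Full] [G.Faithful]
    [G.IsContinuous J K] [G.IsCocontinuous J K]
    [(G.sheafPushforwardContinuous A J K).IsRightAdjoint]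
    [∀ F : Cᵒᵖ ⥤ A, G.op.HasPointwiseRightKanExtension F] :
    IsIso (G.sheafAdjunctionContinuous A J K).unit := by
  let t : Adjunction.Triple (G.sheafPullback A J K) (G.sheafPushforwardContinuous A J K)
      (G.sheafPushforwardCocontinuous A J K) :=
    ⟨G.sheafAdjunctionContinuous A J K, G.sheafAdjunctionCocontinuous A J K⟩
  exact t.isIso_unit_iff_isIso_counit.mpr (isIso_counit_sheafAdjunctionCocontinuous G A J K)

theorem isIso_unit_app_sheafAdjunctionContinuous [G.Full] [G.Faithful]
    [G.IsContinuous J K] [G.IsCocontinuous J K]
    [(G.sheafPushforwardContinuous A J K).IsRightAdjoint]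
    [∀ F : Cᵒᵖ ⥤ A, G.op.HasPointwiseRightKanExtension F] (F : Sheaf J A) :
    IsIso ((G.sheafAdjunctionContinuous A J K).unit.app F) := by
  have := isIso_unit_sheafAdjunctionContinuous G A J K
  infer_instance

end Groth.Agent.Lib.SiteFullyFaithful
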