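import Groth.Agent.Lib.BigSiteInj
import Groth.Agent.Lib.SiteCohCompare
import Mathlib.AlgebraicGeometry.Sites.Proetale
import Groth.Agent.Lib.SiteFullyFaithful
import Groth.Agent.Lib.RightDerivedExact

/-!
# Big vs small pro-etale site: restriction preserves injectives (helper11)
-/

set_option autoImplicit false
open CategoryTheory CategoryTheory.Limits AlgebraicGeometry Opposite
universe u

namespace Groth.Agent.Lib.ProEtBigSmall

open Groth.Agent.Lib.BigSiteInj

variable (T : Scheme.{u})

/-- the pro-etale precoverage -/
abbrev Kpe : Precoverage Scheme.{u} := Scheme.proetalePrecoverage.{u}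

instance hasExact_forget (X : (Over T)ᵒᵖ) :
    HasExactColimitsOfShape (CostructuredArrow (Scheme.ProEt.forget T).op X)
      AddCommGrpCat.{u + 1} :=
  inferInstance

instance lanPres_forget : PreservesFiniteLimits ((Scheme.ProEt.forget T).op.lan :
    (T.ProEtᵒᵖ ⥤ AddCommGrpCat.{u + 1}) ⥤ ((Over T)ᵒᵖ ⥤ AddCommGrpCat.{u + 1})) :=
  Groth.Agent.Lib.LanExact.preservesFiniteLimits_lan _

theorem preservesFiniteLimits_sheafPullback_forget :
    PreservesFiniteLimits ((Scheme.ProEt.forget T).sheafPullback AddCommGrpCat.{u + 1}
      (Scheme.ProEt.topology T) (Scheme.proetaleTopology.over T)) := by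
  have h1 : PreservesFiniteLimits ((Scheme.ProEt.forget T).op.lan ⋙
      presheafToSheaf (Scheme.proetaleTopology.over T) AddCommGrpCat.{u + 1}) :=
    comp_preservesFiniteLimits _ _
  have h2 : PreservesFiniteLimits (Functor.sheafPullbackConstruction.sheafPullback
      (Scheme.ProEt.forget T) AddCommGrpCat.{u + 1} (Scheme.ProEt.topology T)
      (Scheme.proetaleTopology.over T)) := by
    apply comp_preservesFiniteLimits
  exact preservesFiniteLimits_of_natIso (Functor.sheafPullbackConstruction.sheafPullbackIso
    (Scheme.ProEt.forget T) AddCommGrpCat.{u + 1} (Scheme.ProEt.topology T)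
    (Scheme.proetaleTopology.over T)).symm

theorem injective_restrict_forget
    (I : Sheaf (Scheme.proetaleTopology.over T) AddCommGrpCat.{u + 1}) [Injective I] :
    Injective (((Scheme.ProEt.forget T).sheafPushforwardContinuous AddCommGrpCat.{u + 1}
      (Scheme.ProEt.topology T) (Scheme.proetaleTopology.over T)).obj I) := by
  have := preservesFiniteLimits_sheafPullback_forget T
  have : ((Scheme.ProEt.forget T).sheafPullback AddCommGrpCat.{u + 1}
      (Scheme.ProEt.topology T) (Scheme.proetaleTopology.over T)).PreservesMonomorphisms :=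
    inferInstance
  exact Injective.injective_of_adjoint ((Scheme.ProEt.forget T).sheafAdjunctionContinuous
    AddCommGrpCat.{u + 1} (Scheme.ProEt.topology T) (Scheme.proetaleTopology.over T)) I

variable {T} in
theorem injective_restrict_along {S : Scheme.{u}} (f : T ⟶ S)
    [(Scheme.ProEt.forget T ⋙ Over.map f).IsContinuous (Scheme.ProEt.topology T)
      (Scheme.proetaleTopology.over S)]
    (I : Sheaf (Scheme.proetaleTopology.over S) AddCommGrpCat.{u + 1}) [Injective I] :
    Injective (((Scheme.ProEt.forget T ⋙ Over.map f).sheafPushforwardContinuous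
      AddCommGrpCat.{u + 1} (Scheme.ProEt.topology T) (Scheme.proetaleTopology.over S)).obj I) := by
  have h1 : Injective ((BigSite.pullBig Kpe f AddCommGrpCat.{u + 1}).obj I) :=
    injective_pullBig f Kpe I
  exact injective_restrict_forget T ((BigSite.pullBig Kpe f AddCommGrpCat.{u + 1}).obj I)

instance isCocontinuous_forget :
    (Scheme.ProEt.forget T).IsCocontinuous (Scheme.ProEt.topology T)
      (Scheme.proetaleTopology.over T) := by
  have : (Scheme.ProEt.forget T).IsContinuous
      ((Scheme.ProEt.forget T).restrictedTopology (Scheme.proetaleTopology.over T))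
      (Scheme.proetaleTopology.over T) :=
    Functor.isContinuous_of_coverPreserving (compatiblePreservingOfFlat _ _)
      ((Scheme.ProEt.forget T).coverPreserving_restrictedTopology _)
  rw [Scheme.ProEt.topology_eq_inducedTopology, ← Functor.restrictedTopology_eq_inducedTopology]
  infer_instance

theorem isIso_unit_forget (F : Sheaf (Scheme.ProEt.topology T) AddCommGrpCat.{u + 1}) :
    IsIso (((Scheme.ProEt.forget T).sheafAdjunctionContinuous AddCommGrpCat.{u + 1}
      (Scheme.ProEt.topology T) (Scheme.proetaleTopology.over T)).unit.app F) :=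
  Groth.Agent.Lib.SiteFullyFaithful.isIso_unit_app_sheafAdjunctionContinuous _ _ _ _ F

theorem preservesFiniteColimits_restrict_forget :
    PreservesFiniteColimits ((Scheme.ProEt.forget T).sheafPushforwardContinuous
      AddCommGrpCat.{u + 1} (Scheme.ProEt.topology T) (Scheme.proetaleTopology.over T)) := by
  have : PreservesColimitsOfSize.{0, 0} ((Scheme.ProEt.forget T).sheafPushforwardContinuous
      AddCommGrpCat.{u + 1} (Scheme.ProEt.topology T) (Scheme.proetaleTopology.over T)) :=
    ((Scheme.ProEt.forget T).sheafAdjunctionCocontinuous AddCommGrpCat.{u + 1}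
      (Scheme.ProEt.topology T) (Scheme.proetaleTopology.over T)).leftAdjoint_preservesColimits
  exact PreservesColimitsOfSize.preservesFiniteColimits _

theorem preservesFiniteLimits_restrict_forget :
    PreservesFiniteLimits ((Scheme.ProEt.forget T).sheafPushforwardContinuous
      AddCommGrpCat.{u + 1} (Scheme.ProEt.topology T) (Scheme.proetaleTopology.over T)) := by
  have : PreservesLimitsOfSize.{0, 0} ((Scheme.ProEt.forget T).sheafPushforwardContinuous
      AddCommGrpCat.{u + 1} (Scheme.ProEt.topology T) (Scheme.proetaleTopology.over T)) :=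
    ((Scheme.ProEt.forget T).sheafAdjunctionContinuous AddCommGrpCat.{u + 1}
      (Scheme.ProEt.topology T) (Scheme.proetaleTopology.over T)).rightAdjoint_preservesLimits
  exact PreservesLimitsOfSize.preservesFiniteLimits _

end Groth.Agent.Lib.ProEtBigSmall
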