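import Groth.Agent.Lib.ProEtExtZeroLim22d
import Groth.Agent.S0176
import Groth.Agent.S0755
import Groth.Agent.S0736

/-!
# Lifting weakly étale schemes along closed immersions, locally (helper22)

* `isPushout_quotient`: `A ⧸ I ← A → C` has pushout `C ⧸ I C` in `CommRingCat`;
* `exists_lift_affine`: for a closed immersion `i : Z ⟶ X`, an affine open `Spec A ⟶ X` and a weakly
  étale `Spec B ⟶ Z` lying over `Spec A`, there is a weakly étale covering `Spec D ⟶ Spec B` and a
  weakly étale `W ⟶ X` with `Spec D = W ×_X Z`.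
-/

set_option autoImplicit false
set_option linter.style.haveILetI false
universe u

open CategoryTheory AlgebraicGeometry Limits MorphismProperty Opposite TopologicalSpace

namespace Groth.Agent.Lib.ProEtClosedDense22

section ring

variable (A C : Type u) [CommRing A] [CommRing C] [Algebra A C] (I : Ideal A)

/-- The pushout of `A ⧸ I ← A → C` is `C ⧸ I C`. -/
theorem isPushout_quotient :
    IsPushout (CommRingCat.ofHom (Ideal.Quotient.mk I)) (CommRingCat.ofHom (algebraMap A C))
      (CommRingCat.ofHom (algebraMap (A ⧸ I) (C ⧸ I.map (algebraMap A C))))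
      (CommRingCat.ofHom (Ideal.Quotient.mk (I.map (algebraMap A C)))) := by
  have hker : ∀ s : PushoutCocone (CommRingCat.ofHom (Ideal.Quotient.mk I))
      (CommRingCat.ofHom (algebraMap A C)), ∀ c ∈ I.map (algebraMap A C), s.inr.hom c = 0 := by
    intro s c hc
    have hle : I.map (algebraMap A C) ≤ RingHom.ker s.inr.hom := by
      rw [Ideal.map_le_iff_le_comap]
      intro a ha
      rw [Ideal.mem_comap, RingHom.mem_ker]
      have h1 := congrArg (fun m => m.hom a) s.condition
      have h2 : s.inr.hom (algebraMap A C a) = s.inl.hom (Ideal.Quotient.mk I a) := h1.symm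
      rw [h2, Ideal.Quotient.eq_zero_iff_mem.2 ha, map_zero]
    exact hle hc
  refine ⟨⟨?_⟩, ⟨PushoutCocone.IsColimit.mk _
    (fun s => CommRingCat.ofHom (Ideal.Quotient.lift (I.map (algebraMap A C)) s.inr.hom (hker s)))
    (fun s => ?_) (fun s => ?_) (fun s m h1 h2 => ?_)⟩⟩
  · ext a
    exact Ideal.Quotient.algebraMap_quotient_map_quotient _
  · apply CommRingCat.hom_ext
    apply Ideal.Quotient.ringHom_ext
    apply RingHom.ext
    intro a
    have h1 := congrArg (fun m => m.hom a) s.condition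
    have h2 : Ideal.Quotient.lift _ s.inr.hom (hker s)
        (algebraMap (A ⧸ I) (C ⧸ I.map (algebraMap A C)) (Ideal.Quotient.mk I a)) =
        s.inl.hom (Ideal.Quotient.mk I a) := by
      rw [Ideal.Quotient.algebraMap_quotient_map_quotient, Ideal.Quotient.lift_mk]
      exact h1.symm
    exact h2
  · apply CommRingCat.hom_ext
    apply RingHom.ext
    intro c
    exact Ideal.Quotient.lift_mk (I.map (algebraMap A C)) s.inr.hom (hker s)
  · apply CommRingCat.hom_ext
    apply Ideal.Quotient.ringHom_ext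
    apply RingHom.ext
    intro c
    have h3 := congrArg (fun k => k.hom c) h2
    have h4 : Ideal.Quotient.lift _ s.inr.hom (hker s) (Ideal.Quotient.mk _ c) = s.inr.hom c :=
      Ideal.Quotient.lift_mk (I.map (algebraMap A C)) s.inr.hom (hker s)
    exact h3.trans h4.symm

end ring

section affine

open Groth.Agent.Lib.WContrSite22

/-- Local lifting of weakly étale schemes along a closed immersion. -/
theorem exists_lift_affine {Z X : Scheme.{u}} (i : Z ⟶ X) [IsClosedImmersion i]
    (A : CommRingCat.{u}) (uA : Spec A ⟶ X) [IsOpenImmersion uA]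
    (B : CommRingCat.{u}) (b : Spec B ⟶ Z) [WeaklyEtale b] (b' : Spec B ⟶ Spec A)
    (hb : b' ≫ uA = b ≫ i) :
    ∃ (D : CommRingCat.{u}) (φ : B ⟶ D) (W : Scheme.{u}) (w : W ⟶ X) (c : Spec D ⟶ W),
      WeaklyEtale (Spec.map φ) ∧ Surjective (Spec.map φ) ∧ WeaklyEtale w ∧
      IsPullback (Spec.map φ ≫ b) c i w := by
  let fst : pullback i uA ⟶ Z := pullback.fst i uA
  let snd : pullback i uA ⟶ Spec A := pullback.snd i uA
  haveI : IsClosedImmersion snd := inferInstanceAs (IsClosedImmersion (pullback.snd i uA))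
  haveI : IsOpenImmersion fst := inferInstanceAs (IsOpenImmersion (pullback.fst i uA))
  obtain ⟨I, e, he⟩ := IsClosedImmersion.Spec_iff.1 (inferInstance : IsClosedImmersion snd)
  let b'' : Spec B ⟶ pullback i uA := pullback.lift b b' hb.symm
  have hb1 : b'' ≫ fst = b := pullback.lift_fst _ _ _
  haveI : WeaklyEtale b'' := by
    haveI : WeaklyEtale (b'' ≫ fst) := by rw [hb1]; infer_instance
    exact WeaklyEtale.of_comp b'' fst
  let ψ : CommRingCat.of (A ⧸ I) ⟶ B := Spec.preimage (b'' ≫ e.hom)
  have hψ : Spec.map ψ = b'' ≫ e.hom := Spec.map_preimage _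
  letI : Algebra (A ⧸ I) B := ψ.hom.toAlgebra
  haveI : Algebra.WeaklyEtale (A ⧸ I) B := by
    apply Groth.Agent.S7178.weaklyEtale_SpecMap_iff.1
    have h1 : CommRingCat.ofHom (algebraMap (A ⧸ I) B) = ψ := rfl
    rw [h1, hψ]
    infer_instance
  obtain ⟨B', _, _, _, _, hff, hIE1, hIE2⟩ := Groth.Agent.S0176.result (A ⧸ I) B
  obtain ⟨C, _, _, hC, ⟨e'⟩⟩ := Groth.Agent.S0755.result A I B' hIE2
  let D : CommRingCat.{u} := CommRingCat.of (C ⧸ I.map (algebraMap A C))
  let φ₁ : B ⟶ CommRingCat.of B' := CommRingCat.ofHom (algebraMap B B')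
  let φ₂ : CommRingCat.of B' ⟶ D := CommRingCat.ofHom (e'.symm : B' →+* _)
  let φ : B ⟶ D := φ₁ ≫ φ₂
  haveI : Algebra.WeaklyEtale B B' := Groth.Agent.S0736.result B B' hIE1
  haveI := hff
  have hφ₁ := weaklyEtale_and_surjective_SpecMap B B'
  haveI : WeaklyEtale (Spec.map φ₁) := hφ₁.1
  haveI : Surjective (Spec.map φ₁) := hφ₁.2
  haveI : IsIso φ₂ :=
    ⟨CommRingCat.ofHom (e' : _ →+* B'), by ext x; exact e'.apply_symm_apply x,
      by ext x; exact e'.symm_apply_apply x⟩
  have hφ : Spec.map φ = Spec.map φ₂ ≫ Spec.map φ₁ := Spec.map_comp _ _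
  haveI : Algebra.WeaklyEtale A C := Groth.Agent.S0736.result A C hC
  let g : A ⟶ CommRingCat.of C := CommRingCat.ofHom (algebraMap A C)
  haveI : WeaklyEtale (Spec.map g) := Groth.Agent.S7178.weaklyEtale_SpecMap_iff.2 inferInstance
  refine ⟨D, φ, Spec (CommRingCat.of C), Spec.map g ≫ uA,
    Spec.map (CommRingCat.ofHom (Ideal.Quotient.mk (I.map (algebraMap A C)))), ?_, ?_, ?_, ?_⟩
  · rw [hφ]; infer_instance
  · rw [hφ]; infer_instance
  · infer_instance
  · have L := isPullback_SpecMap_of_isPushout _ _ _ _ (isPushout_quotient A C I)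
    have M : IsPullback e.inv (Spec.map (CommRingCat.ofHom (Ideal.Quotient.mk I))) snd
        (𝟙 (Spec A)) := by
      refine IsPullback.of_horiz_isIso ⟨?_⟩
      rw [he, Iso.inv_hom_id_assoc]
      exact (Category.comp_id _).symm
    have R : IsPullback fst snd i uA := IsPullback.of_hasPullback i uA
    have P := (L.paste_horiz M).paste_horiz R
    have htop : Spec.map (CommRingCat.ofHom (algebraMap (A ⧸ I) (C ⧸ I.map (algebraMap A C)))) ≫
        e.inv ≫ fst = Spec.map φ ≫ b := by
      have h1 : b'' = Spec.map ψ ≫ e.inv := by rw [hψ, Category.assoc, Iso.hom_inv_id, Category.comp_id]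
      have h2 : ψ ≫ φ = CommRingCat.ofHom (algebraMap (A ⧸ I) (C ⧸ I.map (algebraMap A C))) := by
        ext x
        have h3 : algebraMap B B' (ψ.hom x) = algebraMap (A ⧸ I) B' x :=
          (IsScalarTower.algebraMap_apply (A ⧸ I) B B' x).symm
        show e'.symm (algebraMap B B' (ψ.hom x)) = _
        rw [h3]
        exact e'.symm.commutes x
      rw [← hb1, h1, ← h2, Spec.map_comp]
      simp only [Category.assoc]
    have hbot : (Spec.map g ≫ 𝟙 (Spec A)) ≫ uA = Spec.map g ≫ uA := by
      rw [Category.comp_id]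
    have P' : IsPullback ((Spec.map (CommRingCat.ofHom
        (algebraMap (A ⧸ I) (C ⧸ I.map (algebraMap A C)))) ≫ e.inv) ≫ fst)
        (Spec.map (CommRingCat.ofHom (Ideal.Quotient.mk (I.map (algebraMap A C))))) i
        ((Spec.map g ≫ 𝟙 (Spec A)) ≫ uA) := P
    rw [Category.assoc, htop, hbot] at P'
    exact P'

end affine

end Groth.Agent.Lib.ProEtClosedDense22
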