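import Groth.Agent.Lib.ProEtClosedDense22a
import Mathlib.CategoryTheory.Sites.DenseSubsite.Basic

/-!
# Base change along a closed immersion is cover-dense and locally full (helper22)
-/

set_option autoImplicit false
set_option linter.style.haveILetI false
universe u

open CategoryTheory AlgebraicGeometry Limits MorphismProperty Opposite TopologicalSpace ProEtS

namespace Groth.Agent.Lib.ProEtClosedDense22

open Groth.Agent.Lib.ProEtWC22 Groth.Agent.Lib.ProEtCover22

/-- Lifting of weakly étale schemes along a closed immersion, locally for the pro-étale topology. -/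
theorem exists_lift_cover {Z X : Scheme.{u}} (i : Z ⟶ X) [IsClosedImmersion i] {V : Scheme.{u}}
    (v : V ⟶ Z) [WeaklyEtale v] :
    ∃ (𝒜 : Scheme.AffineOpenCover.{u} V) (D : 𝒜.I₀ → CommRingCat.{u}) (φ : ∀ k, 𝒜.X k ⟶ D k)
      (W : 𝒜.I₀ → Scheme.{u}) (w : ∀ k, W k ⟶ X) (c : ∀ k, Spec (D k) ⟶ W k),
      (∀ k, WeaklyEtale (Spec.map (φ k))) ∧ (∀ k, Surjective (Spec.map (φ k))) ∧
      (∀ k, WeaklyEtale (w k)) ∧
      ∀ k, IsPullback (Spec.map (φ k) ≫ 𝒜.f k ≫ v) (c k) i (w k) := by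
  let 𝒰 := X.affineOpenCover
  let 𝓥 : V.OpenCover := 𝒰.openCover.pullback₁ (v ≫ i)
  let 𝒜 : V.AffineOpenCover := 𝓥.affineRefinement
  have key : ∀ k : 𝒜.I₀, ∃ (D : CommRingCat.{u}) (φ : 𝒜.X k ⟶ D) (W : Scheme.{u}) (w : W ⟶ X)
      (c : Spec D ⟶ W), WeaklyEtale (Spec.map φ) ∧ Surjective (Spec.map φ) ∧ WeaklyEtale w ∧
      IsPullback (Spec.map φ ≫ 𝒜.f k ≫ v) c i w := by
    intro k
    let h₀ : Spec (𝒜.X k) ⟶ 𝓥.X k.1 := 𝓥.fromAffineRefinement.h₀ k
    have hw : h₀ ≫ 𝓥.f k.1 = 𝒜.f k := 𝓥.fromAffineRefinement.w₀ k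
    haveI : IsOpenImmersion (𝒜.f k) := inferInstance
    haveI : WeaklyEtale (𝒜.f k ≫ v) := inferInstance
    let snd : 𝓥.X k.1 ⟶ Spec (𝒰.X k.1) := pullback.snd (v ≫ i) (𝒰.f k.1)
    have hcond : 𝓥.f k.1 ≫ (v ≫ i) = snd ≫ 𝒰.f k.1 := pullback.condition
    haveI : IsOpenImmersion (𝒰.f k.1) := inferInstance
    refine exists_lift_affine i (𝒰.X k.1) (𝒰.f k.1) (𝒜.X k) (𝒜.f k ≫ v) (h₀ ≫ snd) ?_
    rw [Category.assoc, ← hcond, ← Category.assoc, hw, Category.assoc]
  choose D φ W w c h1 h2 h3 h4 using key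
  exact ⟨𝒜, D, φ, W, w, c, h1, h2, h3, h4⟩

section dense

variable {Z X : Scheme.{u}} (i : Z ⟶ X) [IsClosedImmersion i]

/-- Base change along a closed immersion is cover-dense. -/
instance isCoverDense_bcP : (bcP i).IsCoverDense (Scheme.ProEt.topology Z) where
  is_cover V := by
    haveI : WeaklyEtale V.hom := V.prop
    obtain ⟨𝒜, D, φ, W, w, c, h1, h2, h3, h4⟩ := exists_lift_cover i V.hom
    haveI := h1
    haveI := h2
    refine (Scheme.ProEt.topology Z).superset_covering ?_ (generate_fam_mem_topology 𝒜 D φ)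
    rw [Sieve.generate_le_iff]
    rintro _ _ ⟨k⟩
    haveI := h3 k
    let Wk : X.ProEt := Scheme.ProEt.mk (w k)
    let e : Spec (D k) ≅ pullback (w k) i := (h4 k).flip.isoPullback
    have he1 : e.hom ≫ pullback.snd (w k) i = Spec.map (φ k) ≫ 𝒜.f k ≫ V.hom :=
      (h4 k).flip.isoPullback_hom_snd
    have he2 : e.inv ≫ Spec.map (φ k) ≫ 𝒜.f k ≫ V.hom = pullback.snd (w k) i :=
      (h4 k).flip.isoPullback_inv_snd
    let lift : famObj 𝒜 D φ k ⟶ (bcP i).obj Wk :=
      MorphismProperty.Over.homMk (show Spec (D k) ⟶ pullback (w k) i from e.hom) he1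
    let map : (bcP i).obj Wk ⟶ V :=
      MorphismProperty.Over.homMk (show pullback (w k) i ⟶ V.left from
        e.inv ≫ Spec.map (φ k) ≫ 𝒜.f k)
        ((Category.assoc _ _ _).trans ((congrArg (fun t => e.inv ≫ t) (Category.assoc _ _ _)).trans he2))
    have fac : lift ≫ map = famHom 𝒜 D φ k := by
      apply hom_ext'
      show e.hom ≫ e.inv ≫ Spec.map (φ k) ≫ 𝒜.f k = Spec.map (φ k) ≫ 𝒜.f k
      rw [Iso.hom_inv_id_assoc]
    exact ⟨⟨Wk, lift, map, fac⟩⟩

end dense

section full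

variable {Z X : Scheme.{u}} (i : Z ⟶ X) [IsClosedImmersion i]

theorem bcP_map_left_fst {W' W : X.ProEt} (h : W' ⟶ W) :
    ((bcP i).map h).left ≫ pullback.fst W.hom i = pullback.fst W'.hom i ≫ h.left :=
  pullback.lift_fst _ _ _

theorem bcP_map_left_snd {W' W : X.ProEt} (h : W' ⟶ W) :
    ((bcP i).map h).left ≫ pullback.snd W.hom i = pullback.snd W'.hom i :=
  pullback.lift_snd _ _ _

/-- Base change along a closed immersion is locally full. -/
instance isLocallyFull_bcP : (bcP i).IsLocallyFull (Scheme.ProEt.topology Z) where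
  functorPushforward_imageSieve_mem {W' W} f := by
    haveI : WeaklyEtale W'.hom := W'.prop
    haveI : WeaklyEtale W.hom := W.prop
    -- the product `P = W' ×_X W`
    let p1 : pullback W'.hom W.hom ⟶ W'.left := pullback.fst W'.hom W.hom
    let p2 : pullback W'.hom W.hom ⟶ W.left := pullback.snd W'.hom W.hom
    have hp : p1 ≫ W'.hom = p2 ≫ W.hom := pullback.condition
    haveI : WeaklyEtale p1 := inferInstanceAs (WeaklyEtale (pullback.fst W'.hom W.hom))
    haveI : WeaklyEtale (p1 ≫ W'.hom) := inferInstance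
    -- the fibres over `Z`
    let fst' : pullback W'.hom i ⟶ W'.left := pullback.fst W'.hom i
    let snd' : pullback W'.hom i ⟶ Z := pullback.snd W'.hom i
    have hc' : fst' ≫ W'.hom = snd' ≫ i := pullback.condition
    let fstW : pullback W.hom i ⟶ W.left := pullback.fst W.hom i
    let sndW : pullback W.hom i ⟶ Z := pullback.snd W.hom i
    have hcW : fstW ≫ W.hom = sndW ≫ i := pullback.condition
    let fL : pullback W'.hom i ⟶ pullback W.hom i := f.left
    have hf : fL ≫ sndW = snd' := MorphismProperty.Over.w f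
    -- the closed immersion `P_Z ⟶ P`
    let iP : pullback (p1 ≫ W'.hom) i ⟶ pullback W'.hom W.hom := pullback.fst (p1 ≫ W'.hom) i
    let sndP : pullback (p1 ≫ W'.hom) i ⟶ Z := pullback.snd (p1 ≫ W'.hom) i
    have hcP : iP ≫ p1 ≫ W'.hom = sndP ≫ i := pullback.condition
    haveI : IsClosedImmersion iP :=
      inferInstanceAs (IsClosedImmersion (pullback.fst (p1 ≫ W'.hom) i))
    -- the graph
    have hγ₀ : fst' ≫ W'.hom = (fL ≫ fstW) ≫ W.hom := by
      rw [Category.assoc, hcW, ← Category.assoc, hf]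
      exact hc'
    let γ₀ : pullback W'.hom i ⟶ pullback W'.hom W.hom := pullback.lift fst' (fL ≫ fstW) hγ₀
    have hγ₀1 : γ₀ ≫ p1 = fst' := pullback.lift_fst _ _ _
    have hγ₀2 : γ₀ ≫ p2 = fL ≫ fstW := pullback.lift_snd _ _ _
    have hγ : γ₀ ≫ p1 ≫ W'.hom = snd' ≫ i := by
      rw [← Category.assoc, hγ₀1]
      exact hc'
    let γ : pullback W'.hom i ⟶ pullback (p1 ≫ W'.hom) i := pullback.lift γ₀ snd' hγ
    have hγ1 : γ ≫ iP = γ₀ := pullback.lift_fst _ _ _
    have hγ2 : γ ≫ sndP = snd' := pullback.lift_snd _ _ _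
    -- the projection `P_Z ⟶ W'_Z`
    have hπ : (iP ≫ p1) ≫ W'.hom = sndP ≫ i := by rw [Category.assoc]; exact hcP
    let π : pullback (p1 ≫ W'.hom) i ⟶ pullback W'.hom i := pullback.lift (iP ≫ p1) sndP hπ
    have hπ1 : π ≫ fst' = iP ≫ p1 := pullback.lift_fst _ _ _
    have hπ2 : π ≫ snd' = sndP := pullback.lift_snd _ _ _
    have hγπ : γ ≫ π = 𝟙 _ := by
      apply pullback.hom_ext
      · have e1 : (γ ≫ π) ≫ fst' = fst' := by
          rw [Category.assoc, hπ1, ← Category.assoc, hγ1, hγ₀1]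
        exact e1.trans (Category.id_comp _).symm
      · have e2 : (γ ≫ π) ≫ snd' = snd' := by
          rw [Category.assoc, hπ2, hγ2]
        exact e2.trans (Category.id_comp _).symm
    haveI : WeaklyEtale π := by
      have R1 : IsPullback snd' fst' i W'.hom := (IsPullback.of_hasPullback W'.hom i).flip
      have R2 : IsPullback sndP iP i (p1 ≫ W'.hom) :=
        (IsPullback.of_hasPullback (p1 ≫ W'.hom) i).flip
      have R3 : IsPullback (π ≫ snd') iP i (p1 ≫ W'.hom) := by rw [hπ2]; exact R2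
      have R4 : IsPullback π iP fst' p1 := R3.of_right hπ1 R1
      exact MorphismProperty.of_isPullback (P := @WeaklyEtale) R4.flip inferInstance
    haveI : WeaklyEtale γ := by
      haveI : WeaklyEtale (γ ≫ π) := by rw [hγπ]; infer_instance
      exact WeaklyEtale.of_comp γ π
    -- apply the lifting lemma to the graph
    obtain ⟨𝒜, D, φ, Wk, w, c, h1, h2, h3, h4⟩ := exists_lift_cover iP γ
    haveI := h1
    haveI := h2
    refine (Scheme.ProEt.topology Z).superset_covering ?_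
      (generate_fam_mem_topology (U := (bcP i).obj W') 𝒜 D φ)
    rw [Sieve.generate_le_iff]
    rintro _ _ ⟨k⟩
    haveI := h3 k
    haveI : WeaklyEtale (w k ≫ p1 ≫ W'.hom) := inferInstance
    let Yk : X.ProEt := Scheme.ProEt.mk (w k ≫ p1 ≫ W'.hom)
    let hk : Yk ⟶ W' := MorphismProperty.Over.homMk (show Wk k ⟶ W'.left from w k ≫ p1)
      (Category.assoc _ _ _)
    have hlk : (w k ≫ p2) ≫ W.hom = w k ≫ p1 ≫ W'.hom := by
      rw [Category.assoc, ← hp]
    let lk : Yk ⟶ W := MorphismProperty.Over.homMk (show Wk k ⟶ W.left from w k ≫ p2) hlk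
    -- the pasted pullback square
    let a : Spec (D k) ⟶ pullback W'.hom i := Spec.map (φ k) ≫ 𝒜.f k
    have h4' : IsPullback (a ≫ γ) (c k) iP (w k) := by
      have := h4 k
      rwa [← Category.assoc] at this
    have R2 : IsPullback sndP iP i (p1 ≫ W'.hom) :=
      (IsPullback.of_hasPullback (p1 ≫ W'.hom) i).flip
    have Q : IsPullback ((a ≫ γ) ≫ sndP) (c k) i (w k ≫ p1 ≫ W'.hom) := h4'.paste_horiz R2
    have htop : (a ≫ γ) ≫ sndP = a ≫ snd' := by rw [Category.assoc, hγ2]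
    rw [htop] at Q
    let e : Spec (D k) ≅ pullback (w k ≫ p1 ≫ W'.hom) i := Q.flip.isoPullback
    have he1 : e.hom ≫ pullback.fst (w k ≫ p1 ≫ W'.hom) i = c k := Q.flip.isoPullback_hom_fst
    have he2 : e.hom ≫ pullback.snd (w k ≫ p1 ≫ W'.hom) i = a ≫ snd' :=
      Q.flip.isoPullback_hom_snd
    have hsq : (a ≫ γ₀) = c k ≫ w k := by
      have := h4'.w
      rw [Category.assoc, hγ1] at this
      exact this
    -- (a') the composite with `G.map hk`
    let mh : pullback (w k ≫ p1 ≫ W'.hom) i ⟶ pullback W'.hom i := ((bcP i).map hk).left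
    have hmh1 : mh ≫ fst' = pullback.fst (w k ≫ p1 ≫ W'.hom) i ≫ (w k ≫ p1) :=
      bcP_map_left_fst i hk
    have hmh2 : mh ≫ snd' = pullback.snd (w k ≫ p1 ≫ W'.hom) i := bcP_map_left_snd i hk
    have hθ : e.hom ≫ mh = a := by
      apply pullback.hom_ext
      · have e1 : (e.hom ≫ mh) ≫ fst' = c k ≫ w k ≫ p1 := by
          rw [Category.assoc, hmh1, ← Category.assoc, he1]
        have e2 : a ≫ fst' = c k ≫ w k ≫ p1 := by
          rw [← hγ₀1, ← Category.assoc, hsq, Category.assoc]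
        exact e1.trans e2.symm
      · have e1 : (e.hom ≫ mh) ≫ snd' = a ≫ snd' := by
          rw [Category.assoc, hmh2, he2]
        exact e1
    let ml : pullback (w k ≫ p1 ≫ W'.hom) i ⟶ pullback W.hom i := ((bcP i).map lk).left
    have hml1 : ml ≫ fstW = pullback.fst (w k ≫ p1 ≫ W'.hom) i ≫ (w k ≫ p2) :=
      bcP_map_left_fst i lk
    have hml2 : ml ≫ sndW = pullback.snd (w k ≫ p1 ≫ W'.hom) i := bcP_map_left_snd i lk
    have hb : ml = mh ≫ fL := by
      apply (cancel_epi e.hom).1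
      have e0 : e.hom ≫ mh ≫ fL = a ≫ fL :=
        (Category.assoc _ _ _).symm.trans (congrArg (fun t => t ≫ fL) hθ)
      refine Eq.trans ?_ e0.symm
      apply pullback.hom_ext
      · have e1 : (e.hom ≫ ml) ≫ fstW = c k ≫ w k ≫ p2 := by
          rw [Category.assoc, hml1, ← Category.assoc, he1]
        have e2 : (a ≫ fL) ≫ fstW = c k ≫ w k ≫ p2 := by
          rw [Category.assoc, ← hγ₀2, ← Category.assoc, hsq, Category.assoc]
        exact e1.trans e2.symm
      · have e1 : (e.hom ≫ ml) ≫ sndW = a ≫ snd' := by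
          rw [Category.assoc, hml2, he2]
        have e2 : (a ≫ fL) ≫ sndW = a ≫ snd' := by
          rw [Category.assoc, hf]
        exact e1.trans e2.symm
    let lift : famObj (U := (bcP i).obj W') 𝒜 D φ k ⟶ (bcP i).obj Yk :=
      MorphismProperty.Over.homMk
        (show Spec (D k) ⟶ pullback (w k ≫ p1 ≫ W'.hom) i from e.hom)
        (he2.trans (Category.assoc _ _ _))
    refine ⟨Yk, hk, lift, ⟨lk, hom_ext' hb⟩, hom_ext' ?_⟩
    exact hθ.symm

end full

end Groth.Agent.Lib.ProEtClosedDense22
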