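import Groth.Agent.Lib.ProEtClosedDense22b
import Mathlib.CategoryTheory.Adjunction.FullyFaithful

/-!
# Pushforward along a closed immersion is fully faithful on pro-étale sheaves (helper22)
-/

set_option autoImplicit false
set_option linter.style.haveILetI false
universe u v w

open CategoryTheory AlgebraicGeometry Limits MorphismProperty Opposite TopologicalSpace ProEtS

namespace Groth.Agent.Lib.ProEtClosedDense22

variable {Z X : Scheme.{u}} (i : Z ⟶ X) [IsClosedImmersion i] [ProEtS.PCont i]
  (A : Type w) [Category.{v} A]

instance full_pushforward_bcP :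
    ((bcP i).sheafPushforwardContinuous A (Scheme.ProEt.topology X)
      (Scheme.ProEt.topology Z)).Full :=
  Functor.IsCoverDense.full_sheafPushforwardContinuous (Scheme.ProEt.topology X)
    (Scheme.ProEt.topology Z) (bcP i)

instance faithful_pushforward_bcP :
    ((bcP i).sheafPushforwardContinuous A (Scheme.ProEt.topology X)
      (Scheme.ProEt.topology Z)).Faithful :=
  Functor.IsCoverDense.faithful_sheafPushforwardContinuous (Scheme.ProEt.topology X)
    (Scheme.ProEt.topology Z) (bcP i)

/-- The counit `i⁻¹ i_* F ⟶ F` is an isomorphism (abelian sheaves). -/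
theorem isIso_counit_pullPushAdjP : IsIso (ProEtS.pullPushAdjP i).counit :=
  inferInstance

end Groth.Agent.Lib.ProEtClosedDense22
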