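import Groth.Agent.Lib.H15WContrFinite
import Groth.Agent.Lib.WContrSite22

/-!
# Quotients of w-contractible rings by ideals with quasi-compact open complement (helper22)

* `isWContractible_quotient`: if `A` is w-contractible and the complement of `V(I)` is
  quasi-compact, then `A ⧸ I` is w-contractible.
* `isWContractible_of_surjective`: the same for a surjective ring map.
-/

set_option autoImplicit false
set_option linter.style.haveILetI false
universe u

open PrimeSpectrum ProEtW

namespace Groth.Agent.Lib.WContrQuot22

open Groth.Agent.Lib.H15WContrFinite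

/-- A homeomorphism induces a homeomorphism on connected components. -/
noncomputable def connectedComponentsHomeo {X Y : Type*} [TopologicalSpace X] [TopologicalSpace Y]
    (e : X ≃ₜ Y) : ConnectedComponents X ≃ₜ ConnectedComponents Y :=
  e.isQuotientMap.isCoinducing.connectedComponentsHomeomorph (fun y => by
    have : e ⁻¹' {y} = {e.symm y} := by
      ext x
      simp only [Set.mem_preimage, Set.mem_singleton_iff]
      exact ⟨fun h => by rw [← h, e.symm_apply_apply], fun h => by rw [h, e.apply_symm_apply]⟩
    rw [this]
    exact isConnected_singleton)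

theorem isWContractible_quotient (A : Type u) [CommRing A] (h : EtPBC.IsWContractible A)
    (I : Ideal A) (hI : IsCompact (zeroLocus (I : Set A))ᶜ) :
    EtPBC.IsWContractible (A ⧸ I) := by
  obtain ⟨hW, hED, hSH⟩ := (Groth.Agent.Lib.WContr22.isWContractible_iff A).1 h
  have hH : ∀ (m : Ideal A) [m.IsMaximal], HenselianLocalRing (Localization.AtPrime m) := by
    intro m _
    obtain ⟨h1, -⟩ := hSH m
    exact h1
  haveI : Algebra.IsIntegral A (A ⧸ I) :=
    Algebra.isIntegral_of_surjective Ideal.Quotient.mk_surjective
  have hWB : IsWLocal (PrimeSpectrum (A ⧸ I)) := isWLocal_of_integral (A := A) hW hH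
  obtain ⟨I', hI'fg, hI'⟩ := isCompact_isOpen_iff_ideal.1
    ⟨hI, (isClosed_zeroLocus (I : Set A)).isOpen_compl⟩
  have hzero : zeroLocus (I' : Set A) = zeroLocus (I : Set A) := compl_injective hI'
  haveI : Algebra.FinitePresentation A (A ⧸ I') :=
    Algebra.FinitePresentation.quotient hI'fg
  have hB' : EtPBC.IsWContractible (A ⧸ I') := main A (A ⧸ I') h
  obtain ⟨-, hED', -⟩ := (Groth.Agent.Lib.WContr22.isWContractible_iff (A ⧸ I')).1 hB'
  let e : PrimeSpectrum (A ⧸ I') ≃ₜ PrimeSpectrum (A ⧸ I) :=
    (homeoZeroLocus I' _ hzero).trans (homeoZeroLocus I _ rfl).symm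
  refine (Groth.Agent.Lib.WContr22.isWContractible_iff (A ⧸ I)).2
    ⟨hWB, ?_, fun n _ => isStrictlyHenselian_atPrime (A := A) hSH n⟩
  haveI := hED'
  exact extremallyDisconnected_of_homeo (connectedComponentsHomeo e)

theorem isWContractible_of_surjective (A B : Type u) [CommRing A] [CommRing B]
    (h : EtPBC.IsWContractible A) (φ : A →+* B) (hφ : Function.Surjective φ)
    (hc : IsCompact (Set.range (comap φ))ᶜ) : EtPBC.IsWContractible B := by
  have hr : Set.range (comap φ) = zeroLocus (RingHom.ker φ : Set A) :=
    range_comap_of_surjective _ φ hφ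
  rw [hr] at hc
  have := isWContractible_quotient A h (RingHom.ker φ) hc
  exact Groth.Agent.Lib.WContrSite22.isWContractible_of_ringEquiv
    (RingHom.quotientKerEquivOfSurjective hφ) this

end Groth.Agent.Lib.WContrQuot22
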