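import Groth.Agent.Lib.ProEtFinitePush22
import Groth.Agent.Lib.WContrQuot22
import Mathlib.AlgebraicGeometry.Morphisms.FinitePresentation

/-!
# Pushforward along closed immersions with retrocompact complement is exact on pro-étale sheaves
(helper22)
-/

set_option autoImplicit false
set_option linter.style.haveILetI false
universe u

open CategoryTheory AlgebraicGeometry Limits MorphismProperty Opposite TopologicalSpace ProEtS

namespace Groth.Agent.Lib.ProEtClosedPush22

open Groth.Agent.Lib.ProEtWC22

/-- The preimage of a retrocompact open under a morphism of schemes is retrocompact. -/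
theorem isRetrocompact_preimage {X Y : Scheme.{u}} (f : X ⟶ Y) {t : Set Y} (ht : IsOpen t)
    (ht' : IsRetrocompact t) : IsRetrocompact (f ⁻¹' t) :=
  IsRetrocompact_iff_isSpectralMap_subtypeVal.mpr
    (quasiCompact_iff_isSpectralMap.mp
    (MorphismProperty.of_isPullback (P := @QuasiCompact)
    (isPullback_morphismRestrict f ⟨t, ht⟩)
    (quasiCompact_iff_isSpectralMap.mpr (IsRetrocompact_iff_isSpectralMap_subtypeVal.mp ht'))))

/-- For a morphism of affine schemes, the range of `Spec` of the map on global sections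
corresponds to the range of the morphism. -/
theorem isCompact_compl_range_comap {W V : Scheme.{u}} [IsAffine W] [IsAffine V] (p : W ⟶ V)
    (hc : IsCompact (Set.range p)ᶜ) :
    IsCompact (Set.range (PrimeSpectrum.comap p.appTop.hom))ᶜ := by
  let e : V ≃ₜ PrimeSpectrum Γ(V, ⊤) := V.isoSpec.hom.homeomorph
  have h1 : Set.range (PrimeSpectrum.comap p.appTop.hom) = e '' Set.range p := by
    have hnat : p ≫ V.isoSpec.hom = W.isoSpec.hom ≫ Spec.map p.appTop :=
      (Scheme.isoSpec_hom_naturality p).symm
    have h2 : Set.range (p ≫ V.isoSpec.hom) = e '' Set.range p := by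
      rw [← Set.range_comp]
      rfl
    have h3 : Set.range (W.isoSpec.hom ≫ Spec.map p.appTop) =
        Set.range (Spec.map p.appTop) := by
      have hs : Function.Surjective W.isoSpec.hom := W.isoSpec.hom.homeomorph.surjective
      change Set.range ((Spec.map p.appTop) ∘ W.isoSpec.hom) = _
      rw [hs.range_comp]
    rw [← h2, hnat, h3]
    rfl
  have h4 : (e '' Set.range p)ᶜ = e '' (Set.range p)ᶜ := (Set.image_compl_eq e.bijective).symm
  rw [h1, h4]
  exact hc.image e.continuous

variable {Z X : Scheme.{u}} (i : Z ⟶ X)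

theorem isWC_bcP_of_isClosedImmersion [IsClosedImmersion i]
    (hr : IsRetrocompact (Set.range i)ᶜ) (V : X.ProEt)
    [IsAffine V.left] (hV : EtPBC.IsWContractible Γ(V.left, ⊤)) :
    ProEtS.IsWC ((bcP i).obj V) := by
  let p : ((bcP i).obj V).left ⟶ V.left := pullback.fst V.hom i
  haveI : IsClosedImmersion p := inferInstanceAs (IsClosedImmersion (pullback.fst V.hom i))
  obtain ⟨haff, hsurj⟩ := IsClosedImmersion.isAffine_surjective_of_isAffine p
  haveI : IsAffine ((bcP i).obj V).left := haff
  apply isWC_of_hasClopenRefinements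
  apply hasClopenRefinements_of_isWContractible
  have hopen : IsOpen (Set.range i)ᶜ := i.isClosedEmbedding.isClosed_range.isOpen_compl
  have hrange : (Set.range p)ᶜ = V.hom ⁻¹' (Set.range i)ᶜ := by
    rw [Set.preimage_compl]
    congr 1
    exact Scheme.Pullback.range_fst V.hom i
  have hc : IsCompact (Set.range p)ᶜ := by
    rw [hrange]
    have hrc := isRetrocompact_preimage V.hom hopen hr
    haveI : CompactSpace ↥V.left := inferInstance
    have h2 := hrc (isCompact_univ (X := ↥V.left)) isOpen_univ
    rwa [Set.inter_univ] at h2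
  exact Groth.Agent.Lib.WContrQuot22.isWContractible_of_surjective _ _ hV p.appTop.hom hsurj
    (isCompact_compl_range_comap p hc)

/-- `f_*` preserves epimorphisms as soon as base change along `f` sends affine w-contractible
objects to weakly contractible objects. -/
theorem epi_pushP_map_of_isWC {Z X : Scheme.{u}} (f : Z ⟶ X) [PCont f]
    (hwc : ∀ (V : X.ProEt) [IsAffine V.left], EtPBC.IsWContractible Γ(V.left, ⊤) →
      ProEtS.IsWC ((bcP f).obj V))
    {G G' : AbP Z} (φ : G ⟶ G') (hφ : Epi φ) : Epi ((pushP f).map φ) := by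
  rw [← Sheaf.isLocallySurjective_iff_epi' AddCommGrpCat.{u + 1}] at hφ ⊢
  let J := Scheme.ProEt.topology Z
  let φ' := (sheafCompose J (forget AddCommGrpCat.{u + 1})).map φ
  have hφ' : Epi φ' := by
    rw [← Sheaf.isLocallySurjective_iff_epi]
    exact (Presheaf.isLocallySurjective_iff_whisker_forget J φ.hom).1 hφ
  refine ⟨fun {U} s => ?_⟩
  obtain ⟨ι, V, g, hcov, hV⟩ :=
    Groth.Agent.Lib.WContrSite22.exists_wContractible_family U
  refine (Scheme.ProEt.topology X).superset_covering ?_ hcov
  rw [Sieve.generate_le_iff]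
  rintro _ _ ⟨k⟩
  haveI := (hV k).1
  have hwc' := hwc (V k) (hV k).2
  obtain ⟨t, ht⟩ := hwc' _ _ φ' hφ' (G'.obj.map ((bcP f).map (g k)).op s)
  exact ⟨t, ht⟩

theorem preservesFiniteColimits_pushP_of_isClosedImmersion [IsClosedImmersion i]
    (hr : IsRetrocompact (Set.range i)ᶜ) [PCont i] :
    PreservesFiniteColimits (pushP i) :=
  haveI := Groth.Agent.Lib.ProEtFinitePush22.preservesFiniteLimits_pushP i
  Groth.Agent.Lib.H60ExactDerived.preservesFiniteColimits_of_preservesEpi (pushP i)
    (fun φ hφ => epi_pushP_map_of_isWC i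
      (fun V _ hV => isWC_bcP_of_isClosedImmersion i hr V hV) φ hφ)

end Groth.Agent.Lib.ProEtClosedPush22
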