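import Groth.Agent.Lib.ProEtLan22b
import Mathlib.CategoryTheory.Limits.Preserves.Filtered
import Mathlib.Algebra.Category.Grp.FilteredColimits
import Mathlib.CategoryTheory.Functor.KanExtension.Adjunction

/-!
# The comparison functor `ε : X_ét ⥤ X_proét`, part 1 (helper22)

* `eps` is fully faithful and representably flat;
* germ calculus for the left Kan extension of an abelian étale (pre)sheaf along `ε`.
-/

set_option autoImplicit false
set_option linter.style.haveILetI false
universe u

open CategoryTheory AlgebraicGeometry Limits MorphismProperty Opposite TopologicalSpace ProEtS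

namespace Groth.Agent.Lib.ProEtEps22

open Groth.Agent.Lib.ProEtLan22

variable (X : Scheme.{u})

instance eps_faithful : (eps X).Faithful where
  map_injective {V V'} f g h := by
    apply MorphismProperty.Over.Hom.ext
    exact congrArg (fun m => m.left) h

instance eps_full : (eps X).Full where
  map_surjective {V V'} g :=
    ⟨MorphismProperty.Over.homMk g.left (MorphismProperty.Over.w g),
      MorphismProperty.Over.Hom.ext rfl⟩

instance preservesFiniteLimits_eps : PreservesFiniteLimits (eps X) := by
  have h1 : PreservesFiniteLimits (eps X ⋙ Scheme.ProEt.forget X) :=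
    inferInstanceAs <| PreservesFiniteLimits (MorphismProperty.Over.forget @Etale ⊤ X)
  constructor
  intro J _ _
  exact preservesLimitsOfShape_of_reflects_of_preserves (eps X) (Scheme.ProEt.forget X)

instance representablyFlat_eps : RepresentablyFlat (eps X) := flat_of_preservesFiniteLimits _

variable {X}

section germs

variable (F : X.Etaleᵒᵖ ⥤ AddCommGrpCat.{u + 1})

/-- The left Kan extension presheaf `ε^p F`. -/
noncomputable abbrev lanP : X.ProEtᵒᵖ ⥤ AddCommGrpCat.{u + 1} := (eps X).op.lan.obj F

/-- The unit `F ⟶ ε_* ε^p F`. -/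
noncomputable abbrev lanα : F ⟶ (eps X).op ⋙ lanP F := (eps X).op.lanUnit.app F

/-- The underlying presheaves of sets. -/
noncomputable abbrev F' : X.Etaleᵒᵖ ⥤ Type (u + 1) := F ⋙ forget AddCommGrpCat.{u + 1}

noncomputable abbrev P' : X.ProEtᵒᵖ ⥤ Type (u + 1) := lanP F ⋙ forget AddCommGrpCat.{u + 1}

noncomputable abbrev α' : F' F ⟶ (eps X).op ⋙ P' F :=
  Functor.whiskerRight (lanα F) (forget AddCommGrpCat.{u + 1})

instance : PreservesFilteredColimitsOfSize.{u, u + 1} (forget AddCommGrpCat.{u + 1}) :=
  preservesFilteredColimitsOfSize_shrink.{u + 1, u + 1, u, u + 1} _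

noncomputable def isColimitForgetCoconeAt (W : X.ProEt) :
    IsColimit ((forget AddCommGrpCat.{u + 1}).mapCocone
      ((Functor.LeftExtension.mk (lanP F) (lanα F)).coconeAt (op W))) := by
  have hc : IsColimit ((Functor.LeftExtension.mk (lanP F) (lanα F)).coconeAt (op W)) :=
    Functor.isPointwiseLeftKanExtensionOfIsLeftKanExtension (lanP F) (lanα F) (op W)
  exact isColimitOfPreserves (forget AddCommGrpCat.{u + 1}) hc

theorem hasRep : HasRep (eps X) (F' F) (P' F) (α' F) := by
  intro W x
  obtain ⟨j, y, hy⟩ := Types.jointly_surjective_of_isColimit (isColimitForgetCoconeAt F W) x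
  exact ⟨j.left.unop, j.hom.unop, y, hy⟩

theorem hasEq : HasEq (eps X) (F' F) (P' F) (α' F) := by
  intro W V V' g g' a a' h
  let i : CostructuredArrow (eps X).op (op W) := CostructuredArrow.mk (Y := op V) g.op
  let i' : CostructuredArrow (eps X).op (op W) := CostructuredArrow.mk (Y := op V') g'.op
  have h' : ((forget AddCommGrpCat.{u + 1}).mapCocone
      ((Functor.LeftExtension.mk (lanP F) (lanα F)).coconeAt (op W))).ι.app i a =
      ((forget AddCommGrpCat.{u + 1}).mapCocone
      ((Functor.LeftExtension.mk (lanP F) (lanα F)).coconeAt (op W))).ι.app i' a' := h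
  obtain ⟨k, m, m', hk⟩ :=
    (Types.FilteredColimit.isColimit_eq_iff _ (isColimitForgetCoconeAt F W)).1 h'
  refine ⟨k.left.unop, k.hom.unop, m.left.unop, m'.left.unop, ?_, ?_, hk⟩
  · exact congrArg Quiver.Hom.unop (CostructuredArrow.w m)
  · exact congrArg Quiver.Hom.unop (CostructuredArrow.w m')

end germs

end Groth.Agent.Lib.ProEtEps22
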