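import Groth.Agent.Lib.ProEtClosedDense22c
import Groth.Agent.Lib.ProEtEps22a
import Mathlib.AlgebraicGeometry.Morphisms.QuasiSeparated

/-!
# The unit `G ⟶ i_* i⁻¹ G` for a closed immersion, on sections (helper22)

* germ calculus for the left Kan extension along `bcP i`;
* `unit_app_injective_of_specializes`: the unit is injective on sections over affine objects all of
  whose points specialize to points lying over `Z`.
-/

set_option autoImplicit false
set_option linter.style.haveILetI false
universe u

open CategoryTheory AlgebraicGeometry Limits MorphismProperty Opposite TopologicalSpace ProEtS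

namespace Groth.Agent.Lib.ProEtClosedUnit22

open Groth.Agent.Lib.ProEtLan22 Groth.Agent.Lib.ProEtWC22 Groth.Agent.Lib.ProEtCover22

variable {Z X : Scheme.{u}} (i : Z ⟶ X)

instance representablyFlat_bcP : RepresentablyFlat (bcP i) := by
  haveI := preservesFiniteLimits_bcP i
  exact flat_of_preservesFiniteLimits _

section germs

variable (G : X.ProEtᵒᵖ ⥤ AddCommGrpCat.{u + 1})

/-- The left Kan extension presheaf along base change. -/
noncomputable abbrev lanB : Z.ProEtᵒᵖ ⥤ AddCommGrpCat.{u + 1} := (bcP i).op.lan.obj G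

noncomputable abbrev lanBα : G ⟶ (bcP i).op ⋙ lanB i G := (bcP i).op.lanUnit.app G

noncomputable abbrev G' : X.ProEtᵒᵖ ⥤ Type (u + 1) := G ⋙ forget AddCommGrpCat.{u + 1}

noncomputable abbrev PB' : Z.ProEtᵒᵖ ⥤ Type (u + 1) := lanB i G ⋙ forget AddCommGrpCat.{u + 1}

noncomputable abbrev αB' : G' G ⟶ (bcP i).op ⋙ PB' i G :=
  Functor.whiskerRight (lanBα i G) (forget AddCommGrpCat.{u + 1})

noncomputable def isColimitForgetCoconeAtB (T : Z.ProEt) :
    IsColimit ((forget AddCommGrpCat.{u + 1}).mapCocone
      ((Functor.LeftExtension.mk (lanB i G) (lanBα i G)).coconeAt (op T))) := by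
  have hc : IsColimit ((Functor.LeftExtension.mk (lanB i G) (lanBα i G)).coconeAt (op T)) :=
    Functor.isPointwiseLeftKanExtensionOfIsLeftKanExtension (lanB i G) (lanBα i G) (op T)
  exact isColimitOfPreserves (forget AddCommGrpCat.{u + 1}) hc

theorem hasRepB : HasRep (bcP i) (G' G) (PB' i G) (αB' i G) := by
  intro W x
  obtain ⟨j, y, hy⟩ := Types.jointly_surjective_of_isColimit (isColimitForgetCoconeAtB i G W) x
  exact ⟨j.left.unop, j.hom.unop, y, hy⟩

theorem hasEqB : HasEq (bcP i) (G' G) (PB' i G) (αB' i G) := by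
  intro W V V' g g' a a' h
  let k₁ : CostructuredArrow (bcP i).op (op W) := CostructuredArrow.mk (Y := op V) g.op
  let k₂ : CostructuredArrow (bcP i).op (op W) := CostructuredArrow.mk (Y := op V') g'.op
  have h' : ((forget AddCommGrpCat.{u + 1}).mapCocone
      ((Functor.LeftExtension.mk (lanB i G) (lanBα i G)).coconeAt (op W))).ι.app k₁ a =
      ((forget AddCommGrpCat.{u + 1}).mapCocone
      ((Functor.LeftExtension.mk (lanB i G) (lanBα i G)).coconeAt (op W))).ι.app k₂ a' := h
  obtain ⟨k, m, m', hk⟩ :=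
    (Types.FilteredColimit.isColimit_eq_iff _ (isColimitForgetCoconeAtB i G W)).1 h'
  refine ⟨k.left.unop, k.hom.unop, m.left.unop, m'.left.unop, ?_, ?_, hk⟩
  · exact congrArg Quiver.Hom.unop (CostructuredArrow.w m)
  · exact congrArg Quiver.Hom.unop (CostructuredArrow.w m')

end germs

section cover

/-- A finite jointly surjective family of quasi-compact objects over an affine object is a
covering. -/
theorem generate_finite_qc_mem {V : X.ProEt} [IsAffine V.left] {κ : Type} [Finite κ]
    (Y : κ → X.ProEt) (q : ∀ k, Y k ⟶ V) [∀ k, CompactSpace (Y k).left]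
    (hsurj : ∀ x : V.left, ∃ k, x ∈ Set.range (q k).left) :
    Sieve.generate (Presieve.ofArrows Y q) ∈ Scheme.ProEt.topology X V := by
  apply generate_ofArrows_mem_topology Y q hsurj
  let 𝒰 : V.left.Cover (Scheme.precoverage (⊤ : MorphismProperty Scheme.{u})) :=
    Scheme.Cover.mkOfCovers κ (fun k => (Y k).left) (fun k => (q k).left)
      (fun x => by obtain ⟨k, y, hy⟩ := hsurj x; exact ⟨k, y, hy⟩) (fun _ => trivial)
  haveI : Finite 𝒰.I₀ := ‹Finite κ›
  haveI : ∀ k, QuasiCompact (𝒰.f k) := fun k =>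
    (quasiCompact_of_compactSpace (q k).left : QuasiCompact (q k).left)
  exact (QuasiCompactCover.of_finite : QuasiCompactCover 𝒰.toPreZeroHypercover)

/-- A compact subset of a scheme is contained in a compact open. -/
theorem exists_compact_open_of_isCompact (Y : Scheme.{u}) (K : Set Y) (hK : IsCompact K) :
    ∃ O : Y.Opens, IsCompact (O : Set Y) ∧ K ⊆ O := by
  obtain ⟨t, ht⟩ := hK.elim_finite_subcover (fun U : Y.affineOpens => ((U : Y.Opens) : Set Y))
    (fun U => U.1.isOpen) (by
      intro x _
      obtain ⟨_, ⟨O, hO, rfl⟩, hxO, -⟩ := Y.isBasis_affineOpens.exists_subset_of_mem_open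
        (Set.mem_univ x) isOpen_univ
      exact Set.mem_iUnion.2 ⟨⟨O, hO⟩, hxO⟩)
  refine ⟨⨆ U ∈ t, (U : Y.Opens), ?_, ?_⟩
  · have : ((⨆ U ∈ t, (U : Y.Opens) : Y.Opens) : Set Y) = ⋃ U ∈ t, ((U : Y.Opens) : Set Y) := by
      simp
    rw [this]
    exact t.isCompact_biUnion (fun U _ => U.2.isCompact)
  · intro x hx
    have := ht hx
    simpa using this

end cover

end Groth.Agent.Lib.ProEtClosedUnit22
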