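import Groth.Agent.Lib.ProEtClosedUnit22a

/-!
# The unit `G ⟶ i_* i⁻¹ G` is injective on sections over specializing affines (helper22)
-/

set_option autoImplicit false
set_option linter.style.haveILetI false
universe u

open CategoryTheory AlgebraicGeometry Limits MorphismProperty Opposite TopologicalSpace ProEtS

namespace Groth.Agent.Lib.ProEtClosedUnit22

open Groth.Agent.Lib.ProEtLan22 Groth.Agent.Lib.ProEtWC22 Groth.Agent.Lib.ProEtCover22

variable {Z X : Scheme.{u}} (i : Z ⟶ X) [ProEtS.PCont i]

/-- The explicit adjunction `i⁻¹ ⊣ i_*` built from the left Kan extension. -/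
noncomputable abbrev adjB :=
  Functor.sheafPullbackConstruction.sheafAdjunctionContinuous (bcP i) AddCommGrpCat.{u + 1}
    (Scheme.ProEt.topology X) (Scheme.ProEt.topology Z)

variable (G : ProEtS.AbP X)

theorem unitB_hom : ((adjB i).unit.app G).hom =
    lanBα i G.obj ≫ Functor.whiskerLeft (bcP i).op
      (toSheafify (Scheme.ProEt.topology Z) (lanB i G.obj)) := by
  have h : (sheafToPresheaf _ _).map ((adjB i).unit.app G) = _ :=
    Adjunction.map_restrictFullyFaithful_unit_app _ _ _ _ _ G
  refine h.trans ?_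
  simp only [Adjunction.comp_unit_app, Iso.refl_hom, NatTrans.id_app,
    sheafificationAdjunction_unit_app, Functor.lanAdjunction_unit]
  rfl

theorem unit_comp_eq : (ProEtS.pullPushAdjP i).unit.app G ≫
    (ProEtS.pushP i).map (((ProEtS.pullPushAdjP i).leftAdjointUniq (adjB i)).hom.app G) =
    (adjB i).unit.app G :=
  Adjunction.unit_leftAdjointUniq_hom_app (ProEtS.pullPushAdjP i) (adjB i) G

/-- If the abstract unit kills a section, so does the explicit one. -/
theorem unitB_app_eq_zero (V : X.ProEt) (s : G.obj.obj (op V))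
    (hs : ((ProEtS.pullPushAdjP i).unit.app G).hom.app (op V) s = 0) :
    (toSheafify (Scheme.ProEt.topology Z) (lanB i G.obj)).app (op ((bcP i).obj V))
      ((lanBα i G.obj).app (op V) s) = 0 := by
  have h1 := congrArg (fun m => m.hom.app (op V) s) (unit_comp_eq i G)
  have h2 : ((adjB i).unit.app G).hom.app (op V) s = 0 := by
    refine h1.symm.trans ?_
    change ((ProEtS.pushP i).map (((ProEtS.pullPushAdjP i).leftAdjointUniq
      (adjB i)).hom.app G)).hom.app (op V)
      (((ProEtS.pullPushAdjP i).unit.app G).hom.app (op V) s) = 0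
    rw [hs, map_zero]
  rw [unitB_hom] at h2
  exact h2

section injective

variable [IsClosedImmersion i]

instance isAffine_bcP_left (V : X.ProEt) [IsAffine V.left] : IsAffine ((bcP i).obj V).left := by
  haveI : IsClosedImmersion (pullback.fst V.hom i) := inferInstance
  haveI : IsAffine ((𝟭 Scheme).obj V.left) := inferInstanceAs (IsAffine V.left)
  exact (IsClosedImmersion.isAffine_surjective_of_isAffine (pullback.fst V.hom i)).1

/-- The unit `G ⟶ i_* i⁻¹ G` is injective on sections over affine objects all of whose points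
specialize to points lying over `Z`. -/
theorem unit_app_eq_zero_of_specializes (V : X.ProEt) [IsAffine V.left]
    (hV : ∀ v : ↥V.left, ∃ z : ↥V.left, V.hom z ∈ Set.range i ∧ v ⤳ z)
    (s : G.obj.obj (op V))
    (hs : ((ProEtS.pullPushAdjP i).unit.app G).hom.app (op V) s = 0) : s = 0 := by
  classical
  let JZ := Scheme.ProEt.topology Z
  let JX := Scheme.ProEt.topology X
  let P := lanB i G.obj
  let x : P.obj (op ((bcP i).obj V)) := (lanBα i G.obj).app (op V) s
  have hx : (toSheafify JZ P).app (op ((bcP i).obj V)) x =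
      (toSheafify JZ P).app (op ((bcP i).obj V)) 0 := by
    rw [map_zero]
    exact unitB_app_eq_zero i G V s hs
  have hmem := Presheaf.equalizerSieve_mem JZ (toSheafify JZ P) x 0 hx
  obtain ⟨n, T, g, hT, hg, hsurj⟩ := exists_finite_affine_refinement ((bcP i).obj V) _ hmem
  -- each member kills the germ of `s`
  have key : ∀ k : Fin n, ∃ (W : X.ProEt) (g'' : T k ⟶ (bcP i).obj W) (h : W ⟶ V),
      g'' ≫ (bcP i).map h = g k ∧ G.obj.map h.op s = 0 := by
    intro k
    have h1 : germ (bcP i) (G' G.obj) (PB' i G.obj) (αB' i G.obj) (g k) s =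
        germ (bcP i) (G' G.obj) (PB' i G.obj) (αB' i G.obj) (g k) (0 : G.obj.obj (op V)) := by
      have h2 : P.map (g k).op x = P.map (g k).op 0 := hg k
      have h3 : germ (bcP i) (G' G.obj) (PB' i G.obj) (αB' i G.obj) (g k)
          (0 : G.obj.obj (op V)) = P.map (g k).op ((lanBα i G.obj).app (op V) 0) := rfl
      rw [h3, map_zero]
      exact h2
    obtain ⟨W, g'', h, h', e1, -, e3⟩ := hasEqB i G.obj _ _ _ _ _ _ _ h1
    refine ⟨W, g'', h, e1, ?_⟩
    have e4 : G.obj.map h.op s = G.obj.map h'.op 0 := e3
    rw [e4, map_zero]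
  choose W g'' h hfac hzero using key
  -- compact opens containing the images of the `T k`
  haveI : ∀ k, IsAffine (T k).left := hT
  let fW : ∀ k, pullback (W k).hom i ⟶ (W k).left := fun k => pullback.fst (W k).hom i
  let fV : pullback V.hom i ⟶ V.left := pullback.fst V.hom i
  let gW : ∀ k, (T k).left ⟶ (W k).left := fun k => (g'' k).left ≫ fW k
  have hK : ∀ k : Fin n, ∃ O : (W k).left.Opens, IsCompact (O : Set (W k).left) ∧
      Set.range (gW k) ⊆ (O : Set (W k).left) := by
    intro k
    apply exists_compact_open_of_isCompact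
    exact isCompact_range (gW k).continuous
  choose O hOc hO using hK
  let Y : Fin n → X.ProEt := fun k => opensObj (W k) (O k)
  let q : ∀ k, Y k ⟶ V := fun k => opensHom (W k) (O k) ≫ h k
  haveI : ∀ k, CompactSpace (Y k).left := fun k => isCompact_iff_compactSpace.1 (hOc k)
  have hcov : Sieve.generate (Presieve.ofArrows Y q) ∈ JX V := by
    apply generate_finite_qc_mem
    intro v
    obtain ⟨z, hz, hvz⟩ := hV v
    -- lift `z` to the fibre over `Z`
    have hzr : z ∈ Set.range (pullback.fst V.hom i) := by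
      rw [Scheme.Pullback.range_fst]
      exact hz
    obtain ⟨z', hz'⟩ := hzr
    obtain ⟨k, t, ht⟩ := hsurj z'
    let p : (W k).left := gW k t
    have hpO : p ∈ O k := hO k ⟨t, rfl⟩
    have hpz : (h k).left p = z := by
      let gk : (T k).left ⟶ pullback V.hom i := (g k).left
      let mk : pullback (W k).hom i ⟶ pullback V.hom i := ((bcP i).map (h k)).left
      have e1 : (g'' k).left ≫ mk = gk := congrArg (fun m => m.left) (hfac k)
      have e0 : mk ≫ fV = fW k ≫ (h k).left :=
        Groth.Agent.Lib.ProEtClosedDense22.bcP_map_left_fst i (h k)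
      have e2 : gW k ≫ (h k).left = gk ≫ fV :=
        (Category.assoc _ _ _).trans ((congrArg (fun m => (g'' k).left ≫ m) e0.symm).trans
          ((Category.assoc _ _ _).symm.trans (congrArg (fun m => m ≫ fV) e1)))
      have e3 : (gW k ≫ (h k).left) t = (gk ≫ fV) t :=
        congrArg (fun m : (T k).left ⟶ V.left => m t) e2
      have e4 : gk t = z' := ht
      exact (Scheme.Hom.comp_apply _ _ _).symm.trans (e3.trans
        ((Scheme.Hom.comp_apply _ _ _).trans ((congrArg (fun y => fV y) e4).trans hz')))
    haveI : WeaklyEtale (q k).left := Groth.Agent.Lib.ProEtGeomPt22.weaklyEtale_left (q k)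
    have hgen : GeneralizingMap (q k).left := Flat.generalizingMap (q k).left
    have hqp : (q k).left ⟨p, hpO⟩ = z := by
      change ((O k).ι ≫ (h k).left) ⟨p, hpO⟩ = z
      rw [Scheme.Hom.comp_apply]
      exact hpz
    rw [← hqp] at hvz
    obtain ⟨w', -, hw'⟩ := hgen hvz
    exact ⟨k, w', hw'⟩
  -- separatedness
  have hS : Presieve.IsSheaf JX (G.obj ⋙ forget AddCommGrpCat.{u + 1}) :=
    (isSheaf_iff_isSheaf_of_type _ _).1
      ((sheafCompose JX (forget AddCommGrpCat.{u + 1})).obj G).property
  refine (hS _ hcov).isSeparatedFor.ext ?_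
  rintro Y' f ⟨T', a, b, ⟨k⟩, rfl⟩
  change G.obj.map (a ≫ opensHom (W k) (O k) ≫ h k).op s =
    G.obj.map (a ≫ opensHom (W k) (O k) ≫ h k).op 0
  rw [map_zero, ← Category.assoc, op_comp, G.obj.map_comp]
  change G.obj.map (a ≫ opensHom (W k) (O k)).op (G.obj.map (h k).op s) = 0
  rw [hzero k, map_zero]

end injective

end Groth.Agent.Lib.ProEtClosedUnit22
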