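import Groth.Agent.Lib.ProEtWC22e

/-!
# Finite coproducts in the small pro-étale site (helper22)

* `coprodObj V`, `coprodι V k`: the disjoint union of a family of objects of `X.ProEt`;
* `coprod_desc`: the weak universal property;
* `coprod_existsUnique`: sheaves turn these coproducts into products.
-/

set_option autoImplicit false
universe u

open CategoryTheory AlgebraicGeometry Limits MorphismProperty Opposite TopologicalSpace

namespace Groth.Agent.Lib.ProEtCoprod22

open Groth.Agent.Lib.ProEtWC22 Groth.Agent.Lib.ProEtCover22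

variable {X : Scheme.{u}} {σ : Type} (V : σ → X.ProEt)

instance weaklyEtale_sigmaDesc :
    WeaklyEtale (Sigma.desc (fun k => (V k).hom) : (∐ fun k => (V k).left) ⟶ X) :=
  IsZariskiLocalAtSource.sigmaDesc (P := @WeaklyEtale) (fun k => (V k).prop)

/-- The disjoint union of a finite family of objects of `X.ProEt`. -/
noncomputable def coprodObj : X.ProEt :=
  Scheme.ProEt.mk (Sigma.desc (fun k => (V k).hom) : (∐ fun k => (V k).left) ⟶ X)

/-- The inclusions into the disjoint union. -/
noncomputable def coprodι (k : σ) : V k ⟶ coprodObj V :=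
  MorphismProperty.Over.homMk (Sigma.ι (fun k => (V k).left) k) (Sigma.ι_desc _ _)

@[simp] lemma coprodι_left (k : σ) : (coprodι V k).left = Sigma.ι (fun k => (V k).left) k := rfl

theorem coprod_desc (T : X.ProEt) (h : ∀ k, V k ⟶ T) :
    ∃ d : coprodObj V ⟶ T, ∀ k, coprodι V k ≫ d = h k := by
  have hw : Sigma.desc (fun k => (h k).left) ≫ T.hom = (coprodObj V).hom := by
    refine Sigma.hom_ext _ _ (fun k => ?_)
    have h1 : Sigma.ι (fun k => (V k).left) k ≫ Sigma.desc (fun k => (h k).left) ≫ T.hom =
        (h k).left ≫ T.hom := Sigma.ι_desc_assoc _ _ _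
    have h2 : Sigma.ι (fun k => (V k).left) k ≫ (coprodObj V).hom = (V k).hom :=
      Sigma.ι_desc _ _
    exact h1.trans ((MorphismProperty.Over.w (h k)).trans h2.symm)
  refine ⟨MorphismProperty.Over.homMk (Sigma.desc (fun k => (h k).left)) hw, fun k => hom_ext' ?_⟩
  show Sigma.ι (fun k => (V k).left) k ≫ Sigma.desc (fun k => (h k).left) = _
  exact Sigma.ι_desc _ _

theorem generate_coprodι_mem :
    Sieve.generate (Presieve.ofArrows V (coprodι V)) ∈ Scheme.ProEt.topology X (coprodObj V) := by
  apply generate_ofArrows_mem_topology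
  · intro x
    obtain ⟨k, y, hy⟩ := (sigmaOpenCover (fun k => (V k).left)).exists_eq x
    exact ⟨k, y, hy⟩
  · exact (inferInstance :
      QuasiCompactCover (sigmaOpenCover (fun k => (V k).left)).toPreZeroHypercover)

theorem coprod_existsUnique (F : Sheaf (Scheme.ProEt.topology X) (Type (u + 1)))
    (a : ∀ k, F.obj.obj (op (V k))) :
    ∃! s : F.obj.obj (op (coprodObj V)), ∀ k, F.obj.map (coprodι V k).op s = a k := by
  have hS : Presieve.IsSheaf (Scheme.ProEt.topology X) F.obj :=
    (isSheaf_iff_isSheaf_of_type _ _).1 F.cond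
  have hF : Presieve.IsSheafFor F.obj (Presieve.ofArrows V (coprodι V)) :=
    (Presieve.isSheafFor_iff_generate _).2 (hS _ (generate_coprodι_mem V))
  rw [Presieve.isSheafFor_arrows_iff] at hF
  apply hF a
  intro i j Z gi gj hij
  have hl : gi.left ≫ Sigma.ι (fun k => (V k).left) i =
      gj.left ≫ Sigma.ι (fun k => (V k).left) j := congrArg (fun f => f.left) hij
  by_cases h : i = j
  · subst h
    have : gi = gj := hom_ext' ((cancel_mono (Sigma.ι (fun k => (V k).left) i)).1 hl)
    rw [this]
  · haveI : IsEmpty Z.left := by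
      refine ⟨fun z => ?_⟩
      have h1 : Sigma.ι (fun k => (V k).left) i (gi.left z) ∈
          (Sigma.ι (fun k => (V k).left) i).opensRange := ⟨_, rfl⟩
      have h2 : Sigma.ι (fun k => (V k).left) j (gj.left z) ∈
          (Sigma.ι (fun k => (V k).left) j).opensRange := ⟨_, rfl⟩
      have h3 : Sigma.ι (fun k => (V k).left) i (gi.left z) =
          Sigma.ι (fun k => (V k).left) j (gj.left z) :=
        (Scheme.Hom.comp_apply _ _ _).symm.trans
          ((congrArg (fun f : Z.left ⟶ ∐ fun k => (V k).left => f z) hl).trans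
            (Scheme.Hom.comp_apply _ _ _))
      rw [h3] at h1
      exact (Opens.coe_disjoint.2
        (disjoint_opensRange_sigmaι (fun k => (V k).left) i j h)).le_bot ⟨h1, h2⟩
    haveI := subsingleton_of_isEmpty F Z
    exact Subsingleton.elim _ _

end Groth.Agent.Lib.ProEtCoprod22
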