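import Groth.Prelude.Def_ProEtS
import Groth.Prelude.Def_PBC
import Groth.Agent.S7178

/-!
# Covers in the small pro-étale site (helper22)

* instances making `Precoverage.mem_toGrothendieck_iff_of_isStableUnderComposition` available for
  `Scheme.ProEt.precoverage X`, and `mem_topology_iff`;
* `mem_precoverage_iff`: unfolding of the small pro-étale precoverage;
* `generate_ofArrows_mem_topology`: a family `V i ⟶ U` in `X.ProEt` whose underlying family is a
  quasi-compact jointly surjective cover generates a covering sieve;
* `affineFamily_mem`: the family obtained from an affine open cover followed by surjective weakly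
  étale maps of affine schemes is a covering.
-/

set_option autoImplicit false
universe u

open CategoryTheory AlgebraicGeometry Limits MorphismProperty

namespace Groth.Agent.Lib.ProEtCover22

variable (X : Scheme.{u})

set_option backward.isDefEq.respectTransparency.types false in
instance isStableUnderComposition_precoverage :
    (Scheme.ProEt.precoverage X).IsStableUnderComposition := by
  unfold Scheme.ProEt.precoverage; infer_instance

set_option backward.isDefEq.respectTransparency.types false in
instance isStableUnderBaseChange_precoverage :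
    (Scheme.ProEt.precoverage X).IsStableUnderBaseChange := by
  unfold Scheme.ProEt.precoverage; infer_instance

set_option backward.isDefEq.respectTransparency.types false in
instance hasIsos_precoverage : (Scheme.ProEt.precoverage X).HasIsos := by
  unfold Scheme.ProEt.precoverage; infer_instance

set_option backward.isDefEq.respectTransparency.types false in
instance hasPullbacks_precoverage : (Scheme.ProEt.precoverage X).HasPullbacks := by
  unfold Scheme.ProEt.precoverage; infer_instance

variable {X}

/-- A sieve is covering in the small pro-étale topology iff it contains a covering family. -/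
theorem mem_topology_iff (U : X.ProEt) (S : Sieve U) :
    S ∈ Scheme.ProEt.topology X U ↔ ∃ R ∈ Scheme.ProEt.precoverage X U, R ≤ S :=
  Precoverage.mem_toGrothendieck_iff_of_isStableUnderComposition

set_option backward.isDefEq.respectTransparency.types false in
theorem mem_precoverage_iff (U : X.ProEt) (R : Presieve U) :
    R ∈ Scheme.ProEt.precoverage X U ↔
      R.map (Scheme.ProEt.forget X ⋙ Over.forget X) ∈ Scheme.proetalePrecoverage U.left :=
  Iff.rfl

set_option backward.isDefEq.respectTransparency.types false in
/-- A family in `X.ProEt` whose underlying family of schemes is a quasi-compact jointly surjective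
family generates a covering sieve. -/
theorem ofArrows_mem_precoverage {U : X.ProEt} {ι : Type*} (V : ι → X.ProEt)
    (g : ∀ i, V i ⟶ U) (hsurj : ∀ x : U.left, ∃ i, x ∈ Set.range (g i).left)
    (hqc : QuasiCompactCover
      (⟨ι, fun i => (V i).left, fun i => (g i).left⟩ : PreZeroHypercover U.left)) :
    Presieve.ofArrows V g ∈ Scheme.ProEt.precoverage X U := by
  rw [mem_precoverage_iff, Presieve.map_ofArrows]
  let E : PreZeroHypercover U.left := ⟨ι, fun i => (V i).left, fun i => (g i).left⟩
  show E.presieve₀ ∈ Scheme.proetalePrecoverage U.left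
  refine ⟨Scheme.presieve₀_mem_qcPrecoverage_iff.2 hqc, ?_⟩
  rw [Scheme.presieve₀_mem_precoverage_iff]
  refine ⟨hsurj, fun i => ?_⟩
  show WeaklyEtale (g i).left
  have h1 : (g i).left ≫ U.hom = (V i).hom := MorphismProperty.Over.w (g i)
  haveI : WeaklyEtale ((g i).left ≫ U.hom) := by rw [h1]; infer_instance
  exact WeaklyEtale.of_comp (g i).left U.hom

theorem generate_ofArrows_mem_topology {U : X.ProEt} {ι : Type*} (V : ι → X.ProEt)
    (g : ∀ i, V i ⟶ U) (hsurj : ∀ x : U.left, ∃ i, x ∈ Set.range (g i).left)
    (hqc : QuasiCompactCover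
      (⟨ι, fun i => (V i).left, fun i => (g i).left⟩ : PreZeroHypercover U.left)) :
    Sieve.generate (Presieve.ofArrows V g) ∈ Scheme.ProEt.topology X U :=
  Precoverage.generate_mem_toGrothendieck (ofArrows_mem_precoverage V g hsurj hqc)

section affineFamily

variable {U : X.ProEt} (𝒜 : Scheme.AffineOpenCover.{u} U.left) (D : 𝒜.I₀ → CommRingCat.{u})
  (φ : ∀ i, 𝒜.X i ⟶ D i) [∀ i, WeaklyEtale (Spec.map (φ i))]

/-- The objects `Spec (D i) ⟶ Spec (𝒜.X i) ⟶ U ⟶ X` of the small pro-étale site. -/
noncomputable def famObj (i : 𝒜.I₀) : X.ProEt :=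
  Scheme.ProEt.mk (Spec.map (φ i) ≫ 𝒜.f i ≫ U.hom)

/-- The morphisms `Spec (D i) ⟶ U`. -/
noncomputable def famHom (i : 𝒜.I₀) : famObj 𝒜 D φ i ⟶ U :=
  MorphismProperty.Over.homMk (Spec.map (φ i) ≫ 𝒜.f i) (Category.assoc _ _ _)

@[simp] lemma famObj_left (i : 𝒜.I₀) : (famObj 𝒜 D φ i).left = Spec (D i) := rfl

@[simp] lemma famHom_left (i : 𝒜.I₀) : (famHom 𝒜 D φ i).left = Spec.map (φ i) ≫ 𝒜.f i := rfl

theorem generate_fam_mem_topology [∀ i, Surjective (Spec.map (φ i))] :
    Sieve.generate (Presieve.ofArrows (famObj 𝒜 D φ) (famHom 𝒜 D φ)) ∈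
      Scheme.ProEt.topology X U := by
  apply generate_ofArrows_mem_topology
  · intro x
    obtain ⟨y, hy⟩ := 𝒜.covers x
    obtain ⟨z, hz⟩ := (inferInstance : Surjective (Spec.map (φ (𝒜.idx x)))).surj y
    refine ⟨𝒜.idx x, z, ?_⟩
    have h1 := Scheme.Hom.comp_apply (Spec.map (φ (𝒜.idx x))) (𝒜.f (𝒜.idx x)) z
    exact h1.trans (by rw [hz, hy])
  · haveI h1 : ∀ i, QuasiCompactCover (PreZeroHypercover.singleton.{u} (Spec.map (φ i))) :=
      fun i => QuasiCompactCover.singleton _
    haveI h2 : QuasiCompactCover
        (⟨𝒜.I₀, fun i => Spec (𝒜.X i), 𝒜.f⟩ : PreZeroHypercover.{u} U.left) :=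
      (inferInstance : QuasiCompactCover 𝒜.openCover.toPreZeroHypercover)
    haveI hB : QuasiCompactCover
        ((⟨𝒜.I₀, fun i => Spec (𝒜.X i), 𝒜.f⟩ : PreZeroHypercover.{u} U.left).bind
          (fun i => PreZeroHypercover.singleton.{u} (Spec.map (φ i)))) := inferInstance
    exact QuasiCompactCover.of_hom
      (𝒱 := (⟨𝒜.I₀, fun i => Spec (𝒜.X i), 𝒜.f⟩ : PreZeroHypercover.{u} U.left).bind
          (fun i => PreZeroHypercover.singleton.{u} (Spec.map (φ i))))
      ⟨fun i => i.1, fun i => 𝟙 _, fun i => Category.id_comp _⟩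

end affineFamily

end Groth.Agent.Lib.ProEtCover22
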