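import Groth.Agent.Lib.ProEtWC22b

/-!
# Weakly contractible objects of the small pro-étale site, part 3 (helper22)

* `HasClopenRefinements U`: every covering sieve of `U` contains the inclusions of the pieces of a
  finite clopen decomposition;
* `hasClopenRefinements_of_isWContractible`;
* `isWC_of_hasClopenRefinements`.
-/

set_option autoImplicit false
universe u

open CategoryTheory AlgebraicGeometry Limits MorphismProperty Opposite TopologicalSpace

namespace Groth.Agent.Lib.ProEtWC22

variable {X : Scheme.{u}}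

/-- Every covering sieve of `U` contains the inclusions of the pieces of a finite clopen
decomposition. -/
def HasClopenRefinements (U : X.ProEt) : Prop :=
  ∀ R ∈ Scheme.ProEt.topology X U, ∃ (n : ℕ) (W : Fin n → U.left.Opens),
    (∀ k, IsClopen ((W k : Set ↥U.left))) ∧
    Pairwise (fun k l => Disjoint (W k : Set ↥U.left) (W l)) ∧
    (⋃ k, (W k : Set ↥U.left)) = Set.univ ∧
    ∀ k, R.arrows (MorphismProperty.Over.homMk (W k).ι :
      Scheme.ProEt.mk ((W k).ι ≫ U.hom) ⟶ U)

theorem hasClopenRefinements_of_isWContractible (U : X.ProEt) [IsAffine U.left]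
    (hU : EtPBC.IsWContractible Γ(U.left, ⊤)) : HasClopenRefinements U := by
  intro R hR
  obtain ⟨n, Z, g, hZ, hg, hsurj⟩ := exists_finite_affine_refinement U R hR
  obtain ⟨W, hcov, hdis, hsec⟩ := exists_clopen_sections U hU n Z g hZ hsurj
  have hunion : (⋃ k, (W k : Set ↥U.left)) = Set.univ := by
    rw [Set.eq_univ_iff_forall]
    intro x
    have hx : x ∈ ⨆ i, W i := hcov.symm ▸ show x ∈ (⊤ : U.left.Opens) by trivial
    rw [Opens.mem_iSup] at hx
    obtain ⟨i, hi⟩ := hx
    exact Set.mem_iUnion.2 ⟨i, hi⟩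
  have hdis' : Pairwise (fun k l => Disjoint (W k : Set ↥U.left) (W l)) := fun k l hkl =>
    (Opens.coe_disjoint).2 (hdis hkl)
  refine ⟨n, W, fun k => ⟨?_, (W k).2⟩, hdis', hunion, fun k => ?_⟩
  · -- closed
    have hcompl : ((W k : Set ↥U.left))ᶜ = ⋃ l ∈ {l : Fin n | l ≠ k}, (W l : Set ↥U.left) := by
      ext x
      simp only [Set.mem_compl_iff, Set.mem_iUnion, Set.mem_setOf_eq, exists_prop]
      constructor
      · intro hx
        have : x ∈ ⋃ k, (W k : Set ↥U.left) := by rw [hunion]; trivial
        obtain ⟨l, hl⟩ := Set.mem_iUnion.1 this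
        exact ⟨l, fun h => hx (h ▸ hl), hl⟩
      · rintro ⟨l, hlk, hl⟩ hx
        exact (hdis' hlk).le_bot ⟨hl, hx⟩
    rw [← isOpen_compl_iff, hcompl]
    exact isOpen_biUnion fun l _ => (W l).2
  · obtain ⟨t, ht⟩ := hsec k
    have hw : t ≫ (Z k).hom = (W k).ι ≫ U.hom := by
      rw [← MorphismProperty.Over.w (g k), ← Category.assoc, ht]
    have heq : (MorphismProperty.Over.homMk (W k).ι :
        Scheme.ProEt.mk ((W k).ι ≫ U.hom) ⟶ U) =
        (MorphismProperty.Over.homMk t hw : Scheme.ProEt.mk ((W k).ι ≫ U.hom) ⟶ Z k) ≫ g k :=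
      hom_ext' ht.symm
    rw [heq]
    exact R.downward_closed (hg k) _

/-- An object all of whose covering sieves have clopen refinements is weakly contractible. -/
theorem isWC_of_hasClopenRefinements (U : X.ProEt) (hU : HasClopenRefinements U) :
    ProEtS.IsWC U := by
  intro F G φ hφ s
  haveI : Sheaf.IsLocallySurjective φ := (Sheaf.isLocallySurjective_iff_epi φ).2 hφ
  have hmem := Presheaf.imageSieve_mem (Scheme.ProEt.topology X) φ.hom (U := op U) s
  obtain ⟨n, W, -, hdis, hunion, hW⟩ := hU _ hmem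
  have hcov : IsOpenCover W := by
    rw [IsOpenCover, eq_top_iff]
    intro x _
    have : x ∈ ⋃ k, (W k : Set ↥U.left) := by rw [hunion]; trivial
    obtain ⟨k, hk⟩ := Set.mem_iUnion.1 this
    rw [Opens.mem_iSup]
    exact ⟨k, hk⟩
  have hdis' : Pairwise (fun k l => Disjoint (W k) (W l)) := fun k l hkl =>
    (Opens.coe_disjoint).1 (hdis hkl)
  exact exists_preimage_of_forall_opens U W φ hcov hdis' s (fun k => hW k)

end Groth.Agent.Lib.ProEtWC22
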