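import Groth.Agent.Lib.ProEtQuot22
import Groth.Agent.Lib.WContrSite22
import Groth.Agent.Lib.ProEtWC22c

/-!
# Detecting properties of morphisms of pro-étale sheaves on weakly contractible objects (helper22)

* `exists_wc_family`: every object of `X.ProEt` has a covering family of weakly contractible objects;
* `eq_zero_of_forall_isWC`, `epi_of_forall_isWC`: a morphism of sheaves of `Λ`-modules on the
  pro-étale site vanishes (is an epimorphism) as soon as it does so on sections over weakly
  contractible objects.
-/

set_option autoImplicit false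
set_option linter.style.haveILetI false
universe u

open CategoryTheory CategoryTheory.Limits AlgebraicGeometry Opposite EtModW

namespace Groth.Agent.Lib.ProEtDetect22

variable {X : Scheme.{u}}

/-- Every object has a covering family of weakly contractible objects. -/
theorem exists_wc_family (U : X.ProEt) :
    ∃ (ι : Type u) (V : ι → X.ProEt) (g : ∀ i, V i ⟶ U),
      Sieve.generate (Presieve.ofArrows V g) ∈ Scheme.ProEt.topology X U ∧
        ∀ i, ProEtS.IsWC (V i) := by
  obtain ⟨ι, V, g, hcov, hV⟩ := Groth.Agent.Lib.WContrSite22.exists_wContractible_family U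
  refine ⟨ι, V, g, hcov, fun i => ?_⟩
  haveI := (hV i).1
  exact Groth.Agent.Lib.ProEtWC22.isWC_of_hasClopenRefinements (V i)
    (Groth.Agent.Lib.ProEtWC22.hasClopenRefinements_of_isWContractible (V i) (hV i).2)

variable {Λ : Type (u + 1)} [CommRing Λ]

/-- Two sections of a sheaf of modules agreeing on a weakly contractible cover are equal. -/
theorem section_ext (B : EtModW.ModP Λ X) (U : X.ProEt) (s t : B.obj.obj (op U))
    (h : ∀ (V : X.ProEt) (g : V ⟶ U), ProEtS.IsWC V →
      (B.obj.map g.op).hom s = (B.obj.map g.op).hom t) : s = t := by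
  let J := Scheme.ProEt.topology X
  obtain ⟨ι, V, g, hcov, hV⟩ := exists_wc_family U
  have hS : Presieve.IsSheaf J (B.obj ⋙ forget (ModuleCat.{u + 1} Λ)) :=
    (isSheaf_iff_isSheaf_of_type _ _).1
      ((sheafCompose J (forget (ModuleCat.{u + 1} Λ))).obj B).property
  refine (hS _ hcov).isSeparatedFor.ext ?_
  rintro Y f ⟨T, a, b, ⟨i⟩, rfl⟩
  change (B.obj.map (a ≫ g i).op).hom s = (B.obj.map (a ≫ g i).op).hom t
  rw [op_comp, B.obj.map_comp]
  exact congrArg (fun z => (B.obj.map a.op).hom z) (h (V i) (g i) (hV i))

/-- A morphism of sheaves vanishing on sections over weakly contractible objects is zero. -/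
theorem eq_of_forall_isWC {A B : EtModW.ModP Λ X} (φ ψ : A ⟶ B)
    (h : ∀ (V : X.ProEt), ProEtS.IsWC V → ∀ s : A.obj.obj (op V),
      (φ.hom.app (op V)).hom s = (ψ.hom.app (op V)).hom s) : φ = ψ := by
  apply Sheaf.hom_ext
  ext U s
  induction U with | op U => ?_
  apply section_ext B U
  intro V g hV
  have h1 := congrArg (fun m => m.hom s) (φ.hom.naturality g.op)
  have h2 := congrArg (fun m => m.hom s) (ψ.hom.naturality g.op)
  exact h1.symm.trans ((h V hV _).trans h2)

/-- A morphism of sheaves which is surjective on sections over weakly contractible objects is an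
epimorphism. -/
theorem epi_of_forall_isWC {A B : EtModW.ModP Λ X} (φ : A ⟶ B)
    (h : ∀ (V : X.ProEt), ProEtS.IsWC V → Function.Surjective (φ.hom.app (op V)).hom) :
    Epi φ := by
  haveI : Sheaf.IsLocallySurjective φ := by
    constructor
    intro U s
    obtain ⟨ι, V, g, hcov, hV⟩ := exists_wc_family U
    refine (Scheme.ProEt.topology X).superset_covering ?_ hcov
    rw [Sieve.generate_le_iff]
    rintro _ _ ⟨i⟩
    obtain ⟨t, ht⟩ := h (V i) (hV i) ((B.obj.map (g i).op).hom s)
    exact ⟨t, ht⟩
  exact Sheaf.epi_of_isLocallySurjective φ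

end Groth.Agent.Lib.ProEtDetect22
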