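import Groth.Agent.Lib.ProEtEps22a

/-!
# The comparison functor `ε`, part 2: refined equality of germs, abelian sheafification (helper22)
-/

set_option autoImplicit false
set_option linter.style.haveILetI false
universe u w v₁ u₁

open CategoryTheory AlgebraicGeometry Limits MorphismProperty Opposite TopologicalSpace ProEtS

namespace Groth.Agent.Lib.ProEtLan22

open Groth.Agent.Lib.ProEtWC22

variable {X : Scheme.{u}}

section

variable {C : Type u₁} [Category.{v₁} C] {φ : C ⥤ X.ProEt} {F : Cᵒᵖ ⥤ Type w}
  {P : X.ProEtᵒᵖ ⥤ Type w} {α : F ⟶ φ.op ⋙ P}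

/-- Equality of two germs along the same morphism is witnessed by a single refinement. -/
theorem hasEq_same [RepresentablyFlat φ] (heq : HasEq φ F P α) {W : X.ProEt} {V : C}
    (g : W ⟶ φ.obj V) (a a' : F.obj (op V)) (h : germ φ F P α g a = germ φ F P α g a') :
    ∃ (V'' : C) (g'' : W ⟶ φ.obj V'') (m : V'' ⟶ V),
      g'' ≫ φ.map m = g ∧ F.map m.op a = F.map m.op a' := by
  obtain ⟨V'', g'', m, m', e1, e2, e3⟩ := heq W V V g g a a' h
  let A : StructuredArrow W φ := StructuredArrow.mk g''
  let B : StructuredArrow W φ := StructuredArrow.mk g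
  let f1 : A ⟶ B := StructuredArrow.homMk m e1
  let f2 : A ⟶ B := StructuredArrow.homMk m' e2
  let E := IsCofiltered.eq f1 f2
  let e : E ⟶ A := IsCofiltered.eqHom f1 f2
  have he : e ≫ f1 = e ≫ f2 := IsCofiltered.eq_condition f1 f2
  have he' : e.right ≫ m = e.right ≫ m' := congrArg (fun k => k.right) he
  refine ⟨E.right, E.hom, e.right ≫ m, ?_, ?_⟩
  · rw [φ.map_comp, ← Category.assoc]
    have h1 : E.hom ≫ φ.map e.right = g'' := StructuredArrow.w e
    rw [h1, e1]
  · have h1 := ConcreteCategory.congr_hom (F.map_comp m.op e.right.op) a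
    have h2 := ConcreteCategory.congr_hom (F.map_comp m'.op e.right.op) a'
    dsimp at h1 h2
    rw [op_comp, h1, e3, ← h2, ← op_comp, ← he', op_comp]

end

/-- Abelian version of `toSheafify_bijective_of_gluesFinite`. -/
theorem toSheafify_bijective_of_gluesFinite_ab (P : X.ProEtᵒᵖ ⥤ AddCommGrpCat.{u + 1})
    (U : X.ProEt) (hU : HasClopenRefinements U)
    (hF : GluesFinite (P ⋙ forget AddCommGrpCat.{u + 1}) U) :
    Function.Bijective ((toSheafify (Scheme.ProEt.topology X) P).app (op U)) := by
  let J := Scheme.ProEt.topology X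
  let G : Sheaf J AddCommGrpCat.{u + 1} := (presheafToSheaf J _).obj P
  let G' : Sheaf J (Type (u + 1)) := (sheafCompose J (forget AddCommGrpCat.{u + 1})).obj G
  constructor
  · intro a b hab
    have hmem := Presheaf.equalizerSieve_mem J (toSheafify J P) a b hab
    obtain ⟨n, W, -, hdis, hunion, hW⟩ := hU _ hmem
    have hdis' : Pairwise (fun k l => Disjoint (W k) (W l)) := fun k l hkl =>
      (Opens.coe_disjoint).1 (hdis hkl)
    obtain ⟨s, -, hs⟩ := hF n W (isOpenCover_of_iUnion_eq_univ W hunion) hdis'
      (fun k => P.map (opensHom U (W k)).op a)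
    rw [hs a (fun k => rfl)]
    exact (hs b (fun k => (hW k).symm)).symm
  · intro s
    have hmem := Presheaf.imageSieve_mem J (toSheafify J P) s
    obtain ⟨n, W, -, hdis, hunion, hW⟩ := hU _ hmem
    have hdis' : Pairwise (fun k l => Disjoint (W k) (W l)) := fun k l hkl =>
      (Opens.coe_disjoint).1 (hdis hkl)
    choose t ht using hW
    obtain ⟨t0, ht0, -⟩ := hF n W (isOpenCover_of_iUnion_eq_univ W hunion) hdis' t
    refine ⟨t0, ?_⟩
    obtain ⟨s0, -, hs0⟩ := existsUnique_amalgamation G' U W
      (isOpenCover_of_iUnion_eq_univ W hunion) hdis'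
      (fun k => G.obj.map (opensHom U (W k)).op s)
    have e1 : s = s0 := hs0 s (fun k => rfl)
    have e2 : (toSheafify J P).app (op U) t0 = s0 := by
      apply hs0
      intro k
      have := ConcreteCategory.congr_hom ((toSheafify J P).naturality (opensHom U (W k)).op) t0
      dsimp at this
      change (sheafify J P).map (opensHom U (W k)).op ((toSheafify J P).app (op U) t0) = _
      rw [← this]
      have h2 : P.map (opensHom U (W k)).op t0 = t k := ht0 k
      rw [h2]
      exact ht k
    rw [e1, e2]

end Groth.Agent.Lib.ProEtLan22
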