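import Groth.Agent.Lib.ProEtEps22b
import Mathlib.AlgebraicGeometry.Sites.Etale

/-!
# The comparison functor `ε`, part 3: finite coproducts in the small étale site (helper22)
-/

set_option autoImplicit false
set_option linter.style.haveILetI false
universe u

open CategoryTheory AlgebraicGeometry Limits MorphismProperty Opposite TopologicalSpace ProEtS

namespace Groth.Agent.Lib.ProEtEps22

open Groth.Agent.Lib.ProEtLan22

variable {X : Scheme.{u}}

/-- Construct an object of the small étale site. -/
noncomputable def etMk {Y : Scheme.{u}} (f : Y ⟶ X) [Etale f] : X.Etale :=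
  MorphismProperty.Over.mk ⊤ f ‹_›

@[simp] lemma etMk_left {Y : Scheme.{u}} (f : Y ⟶ X) [Etale f] : (etMk f).left = Y := rfl

@[simp] lemma etMk_hom {Y : Scheme.{u}} (f : Y ⟶ X) [Etale f] : (etMk f).hom = f := rfl

/-- Morphisms of `X.Etale` are determined by their underlying morphism of schemes. -/
theorem et_hom_ext {V U : X.Etale} {f g : V ⟶ U} (h : f.left = g.left) : f = g :=
  MorphismProperty.Over.Hom.ext h

section coprod

variable {σ : Type} (V : σ → X.Etale)

instance etale_sigmaDesc :
    Etale (Sigma.desc (fun k => (V k).hom) : (∐ fun k => (V k).left) ⟶ X) :=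
  IsZariskiLocalAtSource.sigmaDesc (P := @Etale) (fun k => (V k).prop)

/-- The disjoint union of a family of objects of `X.Etale`. -/
noncomputable def etCoprodObj : X.Etale :=
  etMk (Sigma.desc (fun k => (V k).hom) : (∐ fun k => (V k).left) ⟶ X)

/-- The inclusions into the disjoint union. -/
noncomputable def etCoprodι (k : σ) : V k ⟶ etCoprodObj V :=
  MorphismProperty.Over.homMk (Sigma.ι (fun k => (V k).left) k) (Sigma.ι_desc _ _)

theorem etCoprod_desc (T : X.Etale) (h : ∀ k, V k ⟶ T) :
    ∃ d : etCoprodObj V ⟶ T, ∀ k, etCoprodι V k ≫ d = h k := by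
  have hw : Sigma.desc (fun k => (h k).left) ≫ T.hom = (etCoprodObj V).hom := by
    refine Sigma.hom_ext _ _ (fun k => ?_)
    have h1 : Sigma.ι (fun k => (V k).left) k ≫ Sigma.desc (fun k => (h k).left) ≫ T.hom =
        (h k).left ≫ T.hom := Sigma.ι_desc_assoc _ _ _
    have h2 : Sigma.ι (fun k => (V k).left) k ≫ (etCoprodObj V).hom = (V k).hom :=
      Sigma.ι_desc _ _
    exact h1.trans ((MorphismProperty.Over.w (h k)).trans h2.symm)
  refine ⟨MorphismProperty.Over.homMk (Sigma.desc (fun k => (h k).left)) hw,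
    fun k => et_hom_ext ?_⟩
  show Sigma.ι (fun k => (V k).left) k ≫ Sigma.desc (fun k => (h k).left) = _
  exact Sigma.ι_desc _ _

theorem ofArrows_etCoprodι_mem :
    Sieve.ofArrows V (etCoprodι V) ∈ X.smallEtaleTopology (etCoprodObj V) := by
  rw [Scheme.ofArrows_mem_smallEtaleTopology_iff]
  rw [Set.eq_univ_iff_forall]
  intro x
  obtain ⟨k, y, hy⟩ := (sigmaOpenCover (fun k => (V k).left)).exists_eq x
  exact Set.mem_iUnion.2 ⟨k, y, hy⟩

/-- Sections of an étale sheaf over an object with empty underlying scheme are unique. -/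
theorem et_subsingleton_of_isEmpty (F : X.Etaleᵒᵖ ⥤ Type (u + 1))
    (hF : Presieve.IsSheaf X.smallEtaleTopology F)
    (Z : X.Etale) [IsEmpty Z.left] : Subsingleton (F.obj (op Z)) := by
  have hbot : (⊥ : Sieve Z) ∈ X.smallEtaleTopology Z := by
    have h1 : Sieve.ofArrows (fun e : Empty => e.elim) (fun e : Empty => e.elim) ∈
        X.smallEtaleTopology Z := by
      rw [Scheme.ofArrows_mem_smallEtaleTopology_iff, Set.eq_univ_iff_forall]
      intro z
      exact (IsEmpty.false z).elim
    refine X.smallEtaleTopology.superset_covering ?_ h1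
    rintro Y f ⟨T, a, b, ⟨e⟩, -⟩
    exact e.elim
  have h1 := (hF (⊥ : Sieve Z) hbot).isSeparatedFor
  refine ⟨fun a b => ?_⟩
  refine h1 (fun Y f hf => hf.elim) a b ?_ ?_ <;> intro Y f hf <;> exact hf.elim

theorem etCoprod_existsUnique (F : X.Etaleᵒᵖ ⥤ Type (u + 1))
    (hS : Presieve.IsSheaf X.smallEtaleTopology F)
    (a : ∀ k, F.obj (op (V k))) :
    ∃! s : F.obj (op (etCoprodObj V)), ∀ k, F.map (etCoprodι V k).op s = a k := by
  have hF : Presieve.IsSheafFor F (Presieve.ofArrows V (etCoprodι V)) :=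
    (Presieve.isSheafFor_iff_generate _).2 (hS _ (ofArrows_etCoprodι_mem V))
  rw [Presieve.isSheafFor_arrows_iff] at hF
  apply hF a
  intro i j Z gi gj hij
  have hl : gi.left ≫ Sigma.ι (fun k => (V k).left) i =
      gj.left ≫ Sigma.ι (fun k => (V k).left) j := congrArg (fun f => f.left) hij
  by_cases h : i = j
  · subst h
    have : gi = gj := et_hom_ext ((cancel_mono (Sigma.ι (fun k => (V k).left) i)).1 hl)
    rw [this]
  · haveI : IsEmpty Z.left := by
      refine ⟨fun z => ?_⟩
      have h1 : Sigma.ι (fun k => (V k).left) i (gi.left z) ∈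
          (Sigma.ι (fun k => (V k).left) i).opensRange := ⟨_, rfl⟩
      have h2 : Sigma.ι (fun k => (V k).left) j (gj.left z) ∈
          (Sigma.ι (fun k => (V k).left) j).opensRange := ⟨_, rfl⟩
      have h3 : Sigma.ι (fun k => (V k).left) i (gi.left z) =
          Sigma.ι (fun k => (V k).left) j (gj.left z) :=
        (Scheme.Hom.comp_apply _ _ _).symm.trans
          ((congrArg (fun f : Z.left ⟶ ∐ fun k => (V k).left => f z) hl).trans
            (Scheme.Hom.comp_apply _ _ _))
      rw [h3] at h1
      exact (Opens.coe_disjoint.2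
        (disjoint_opensRange_sigmaι (fun k => (V k).left) i j h)).le_bot ⟨h1, h2⟩
    haveI := et_subsingleton_of_isEmpty F hS Z
    exact Subsingleton.elim _ _

end coprod

theorem hasWeakCoprod_etale (F : X.Etaleᵒᵖ ⥤ Type (u + 1))
    (hS : Presieve.IsSheaf X.smallEtaleTopology F) : HasWeakCoprod F :=
  fun _ V => ⟨etCoprodObj V, etCoprodι V, etCoprod_desc V, etCoprod_existsUnique V F hS⟩

end Groth.Agent.Lib.ProEtEps22
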