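import Groth.Agent.Lib.ProEtWC22e
import Mathlib.CategoryTheory.Functor.KanExtension.Pointwise
import Mathlib.CategoryTheory.Sites.Pullback
import Mathlib.AlgebraicGeometry.Morphisms.UniversallyOpen

/-!
# Sections of `j_!` on the pro-étale site (helper22)

* `subsingleton_lan_of_isEmpty`: the left Kan extension presheaf of `j_!` vanishes on objects
  without `X`-morphism to `U`;
* `subsingleton_extZeroP_sections`: `j_! F (V) = 0` for affine `V` all of whose points specialize
  to points over a closed `Z` disjoint from `U` (Bhatt–Scholze 6.2.?).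
-/

set_option autoImplicit false
set_option linter.style.haveILetI false
universe u

open CategoryTheory AlgebraicGeometry Limits MorphismProperty Opposite TopologicalSpace ProEtS

namespace Groth.Agent.Lib.ProEtExtZero22

open Groth.Agent.Lib.ProEtWC22 Groth.Agent.Lib.ProEtCover22

variable {U X : Scheme.{u}} (j : U ⟶ X) [WeaklyEtale j]

/-- An object of the comma category yields an `X`-morphism to `U`. -/
theorem isEmpty_costructuredArrow (W : X.ProEt)
    (h : ¬ ∃ φ : W.left ⟶ U, φ ≫ j = W.hom) :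
    IsEmpty (CostructuredArrow (compP j).op (op W)) := by
  refine ⟨fun a => h ⟨a.hom.unop.left ≫ a.left.unop.hom, ?_⟩⟩
  have h1 := MorphismProperty.Over.w a.hom.unop
  rw [Category.assoc]
  exact h1

/-- The left Kan extension presheaf vanishes on objects without `X`-morphisms to `U`. -/
theorem subsingleton_lan_of_isEmpty (F : U.ProEtᵒᵖ ⥤ AddCommGrpCat.{u + 1}) (W : X.ProEt)
    (h : ¬ ∃ φ : W.left ⟶ U, φ ≫ j = W.hom) :
    Subsingleton (((compP j).op.lan.obj F).obj (op W)) := by
  haveI := isEmpty_costructuredArrow j W h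
  have hc : IsColimit ((Functor.LeftExtension.mk _ ((compP j).op.lanUnit.app F)).coconeAt (op W)) :=
    Functor.isPointwiseLeftKanExtensionOfIsLeftKanExtension _ ((compP j).op.lanUnit.app F) (op W)
  have h0 : 𝟙 (((compP j).op.lan.obj F).obj (op W)) = 0 :=
    hc.hom_ext (fun a => isEmptyElim a)
  refine ⟨fun x y => ?_⟩
  have hx := ConcreteCategory.congr_hom h0 x
  have hy := ConcreteCategory.congr_hom h0 y
  exact hx.trans hy.symm

/-- A finite jointly surjective family of affine objects over an affine object is a covering. -/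
theorem generate_finite_affine_mem {V : X.ProEt} [IsAffine V.left] {κ : Type} [Finite κ]
    (Z : κ → X.ProEt) (g : ∀ k, Z k ⟶ V) [∀ k, IsAffine (Z k).left]
    (hsurj : ∀ x : V.left, ∃ k, x ∈ Set.range (g k).left) :
    Sieve.generate (Presieve.ofArrows Z g) ∈ Scheme.ProEt.topology X V := by
  apply generate_ofArrows_mem_topology Z g hsurj
  let 𝒰 : V.left.Cover (Scheme.precoverage (⊤ : MorphismProperty Scheme.{u})) :=
    Scheme.Cover.mkOfCovers κ (fun k => (Z k).left) (fun k => (g k).left)
      (fun x => by obtain ⟨k, y, hy⟩ := hsurj x; exact ⟨k, y, hy⟩) (fun _ => trivial)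
  haveI : Finite 𝒰.I₀ := ‹Finite κ›
  haveI : ∀ k, QuasiCompact (𝒰.f k) := fun k =>
    (inferInstance : QuasiCompact (g k).left)
  exact (QuasiCompactCover.of_finite : QuasiCompactCover 𝒰.toPreZeroHypercover)

variable {Z : Scheme.{u}} (i : Z ⟶ X)

theorem subsingleton_sheafify_lan [IsClosedImmersion i]
    (hUZ : Disjoint (Set.range j) (Set.range i))
    (V : X.ProEt) [IsAffine V.left]
    (hV : ∀ v : ↥V.left, ∃ z : ↥V.left, V.hom z ∈ Set.range i ∧ v ⤳ z)
    (P : X.ProEtᵒᵖ ⥤ AddCommGrpCat.{u + 1})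
    (hP : ∀ W : X.ProEt, (¬ ∃ φ : W.left ⟶ U, φ ≫ j = W.hom) → Subsingleton (P.obj (op W))) :
    Subsingleton ((sheafify (Scheme.ProEt.topology X) P).obj (op V)) := by
  let J := Scheme.ProEt.topology X
  let G : Sheaf J AddCommGrpCat.{u + 1} := (presheafToSheaf J _).obj P
  suffices h0 : ∀ s : G.obj.obj (op V), s = 0 from ⟨fun a b => (h0 a).trans (h0 b).symm⟩
  intro s
  have hmem := Presheaf.imageSieve_mem J (toSheafify J P) s
  obtain ⟨n, Zk, g, hZ, hg, hsurj⟩ := exists_finite_affine_refinement V _ hmem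
  -- the members meeting `Z`
  let K : Type := {k : Fin n // ∃ w : (Zk k).left, (Zk k).hom w ∈ Set.range i}
  haveI : ∀ k : K, IsAffine (Zk k.1).left := fun k => hZ k.1
  have hzero : ∀ k : K, G.obj.map (g k.1).op s = 0 := by
    rintro ⟨k, w, hw⟩
    obtain ⟨t, ht⟩ := hg k
    haveI : Subsingleton (P.obj (op (Zk k))) := by
      apply hP
      rintro ⟨φ, hφ⟩
      have h1 : j (φ w) = (Zk k).hom w := by
        rw [← hφ]
        exact (Scheme.Hom.comp_apply _ _ _).symm
      exact (Set.disjoint_left.1 hUZ) ⟨φ w, h1⟩ hw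
    have : t = 0 := Subsingleton.elim _ _
    rw [this, map_zero] at ht
    exact ht.symm
  have hcov : Sieve.generate (Presieve.ofArrows (fun k : K => Zk k.1) (fun k : K => g k.1)) ∈
      J V := by
    apply generate_finite_affine_mem
    intro v
    obtain ⟨z, hz, hvz⟩ := hV v
    obtain ⟨k, w, hw⟩ := hsurj z
    have hk : (Zk k).hom w ∈ Set.range i := by
      have h1 : (Zk k).hom w = V.hom ((g k).left w) := by
        rw [← MorphismProperty.Over.w (g k)]
        exact Scheme.Hom.comp_apply _ _ _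
      rw [h1, hw]
      exact hz
    haveI : WeaklyEtale (g k).left := Groth.Agent.Lib.ProEtGeomPt22.weaklyEtale_left (g k)
    have hgen : GeneralizingMap (g k).left := Flat.generalizingMap (g k).left
    rw [← hw] at hvz
    obtain ⟨w', -, hw'⟩ := hgen hvz
    exact ⟨⟨k, w, hk⟩, w', hw'⟩
  -- separatedness
  have hS : Presieve.IsSheaf J (G.obj ⋙ forget AddCommGrpCat.{u + 1}) :=
    (isSheaf_iff_isSheaf_of_type _ _).1
      ((sheafCompose J (forget AddCommGrpCat.{u + 1})).obj G).property
  refine (hS _ hcov).isSeparatedFor.ext ?_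
  rintro Y f ⟨T, a, b, ⟨k⟩, rfl⟩
  change G.obj.map (a ≫ g k.1).op s = G.obj.map (a ≫ g k.1).op 0
  rw [map_zero, op_comp, G.obj.map_comp]
  change G.obj.map a.op (G.obj.map (g k.1).op s) = 0
  rw [hzero k, map_zero]

theorem subsingleton_extZeroP_sections [IsClosedImmersion i]
    (hUZ : Disjoint (Set.range j) (Set.range i)) [ProEtS.JPCont j]
    (V : X.ProEt) [IsAffine V.left]
    (hV : ∀ v : ↥V.left, ∃ z : ↥V.left, V.hom z ∈ Set.range i ∧ v ⤳ z)
    (F : ProEtS.AbP U) :
    Subsingleton (ProEtS.sectP ((ProEtS.extZeroP j).obj F) V) := by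
  have e : (ProEtS.extZeroP j).obj F ≅
      (presheafToSheaf (Scheme.ProEt.topology X) AddCommGrpCat.{u + 1}).obj
        ((compP j).op.lan.obj F.obj) :=
    (Functor.sheafPullbackConstruction.sheafPullbackIso (compP j) AddCommGrpCat.{u + 1}
      (Scheme.ProEt.topology U) (Scheme.ProEt.topology X)).app F
  have e' : ((ProEtS.extZeroP j).obj F).obj.obj (op V) ≅
      (sheafify (Scheme.ProEt.topology X) ((compP j).op.lan.obj F.obj)).obj (op V) :=
    ((sheafToPresheaf _ _ ⋙ (evaluation _ _).obj (op V)).mapIso e)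
  haveI := subsingleton_sheafify_lan j i hUZ V hV ((compP j).op.lan.obj F.obj)
    (fun W hW => subsingleton_lan_of_isEmpty j F.obj W hW)
  exact e'.addCommGroupIsoToAddEquiv.toEquiv.subsingleton

end Groth.Agent.Lib.ProEtExtZero22
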