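import Mathlib.CategoryTheory.Limits.Shapes.Pullback.HasPullback
import Mathlib.CategoryTheory.Limits.IsLimit

/-!
# Self fibre products of a diagram over a base commute with limits (helper22)

Given `D : I ⥤ C` with a natural family `t i : D.obj i ⟶ V`, `selfProdDiag D t` is the diagram
`i ↦ D i ×_V D i`; a limit cone of `D` induces a limit cone of `selfProdDiag`.
-/

set_option autoImplicit false
universe v u w w'

open CategoryTheory Limits

namespace Groth.Agent.Lib.PullbackDiag22

/-- Pasting a commutative square with a commutative triangle. -/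
theorem comp_eq_of_sq {C : Type u} [Category.{v} C] {A B B' D E : C} {k : A ⟶ B} {x : B ⟶ D}
    {y : D ⟶ E} {x' : A ⟶ B'} {m : B' ⟶ D} {z : B' ⟶ E} (h1 : k ≫ x = x' ≫ m)
    (h2 : m ≫ y = z) : k ≫ x ≫ y = x' ≫ z := by
  rw [← Category.assoc, h1, Category.assoc, h2]

variable {C : Type u} [Category.{v} C] [HasPullbacks C] {I : Type w} [Category.{w'} I]
  (D : I ⥤ C) {V : C} (t : ∀ i, D.obj i ⟶ V)
  (ht : ∀ {i j : I} (f : i ⟶ j), D.map f ≫ t j = t i)

/-- The transition maps of the diagram `i ↦ D i ×_V D i`. -/
noncomputable def selfProdMap {i j : I} (f : i ⟶ j) : pullback (t i) (t i) ⟶ pullback (t j) (t j) :=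
  pullback.lift (pullback.fst _ _ ≫ D.map f) (pullback.snd _ _ ≫ D.map f) (by
    rw [Category.assoc, Category.assoc, ht f, pullback.condition])

@[simp] lemma selfProdMap_fst {i j : I} (f : i ⟶ j) :
    selfProdMap D t ht f ≫ pullback.fst _ _ = pullback.fst _ _ ≫ D.map f :=
  pullback.lift_fst _ _ _

@[simp] lemma selfProdMap_snd {i j : I} (f : i ⟶ j) :
    selfProdMap D t ht f ≫ pullback.snd _ _ = pullback.snd _ _ ≫ D.map f :=
  pullback.lift_snd _ _ _

/-- The diagram `i ↦ D i ×_V D i`. -/
noncomputable def selfProdDiag : I ⥤ C where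
  obj i := pullback (t i) (t i)
  map {i j} f := selfProdMap D t ht f
  map_id i := by
    apply pullback.hom_ext
    · rw [selfProdMap_fst, D.map_id, Category.comp_id, Category.id_comp]
    · rw [selfProdMap_snd, D.map_id, Category.comp_id, Category.id_comp]
  map_comp {i j k} f g := by
    apply pullback.hom_ext
    · rw [selfProdMap_fst, Category.assoc, selfProdMap_fst, ← Category.assoc, selfProdMap_fst,
        D.map_comp, Category.assoc]
    · rw [selfProdMap_snd, Category.assoc, selfProdMap_snd, ← Category.assoc, selfProdMap_snd,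
        D.map_comp, Category.assoc]

variable (c : Cone D) (π : c.pt ⟶ V) (hπ : ∀ i, c.π.app i ≫ t i = π)

/-- The comparison maps `P ×_V P ⟶ D i ×_V D i`. -/
noncomputable def cmap (i : I) : pullback π π ⟶ pullback (t i) (t i) :=
  pullback.lift (pullback.fst _ _ ≫ c.π.app i) (pullback.snd _ _ ≫ c.π.app i) (by
    rw [Category.assoc, Category.assoc, hπ i, pullback.condition])

@[simp] lemma cmap_fst (i : I) :
    cmap D t c π hπ i ≫ pullback.fst _ _ = pullback.fst _ _ ≫ c.π.app i :=
  pullback.lift_fst _ _ _

@[simp] lemma cmap_snd (i : I) :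
    cmap D t c π hπ i ≫ pullback.snd _ _ = pullback.snd _ _ ≫ c.π.app i :=
  pullback.lift_snd _ _ _

lemma cmap_comp {i j : I} (f : i ⟶ j) :
    cmap D t c π hπ i ≫ selfProdMap D t ht f = cmap D t c π hπ j := by
  apply pullback.hom_ext
  · rw [Category.assoc, selfProdMap_fst, ← Category.assoc, cmap_fst, Category.assoc, c.w f,
      cmap_fst]
  · rw [Category.assoc, selfProdMap_snd, ← Category.assoc, cmap_snd, Category.assoc, c.w f,
      cmap_snd]

/-- The cone over `selfProdDiag` with vertex `P ×_V P`. -/
noncomputable abbrev cone2 : Cone (selfProdDiag D t ht) where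
  pt := pullback π π
  π :=
    { app := fun i => cmap D t c π hπ i
      naturality := fun i j f => (Category.id_comp _).trans (cmap_comp D t ht c π hπ f).symm }

/-- The auxiliary cones over `D` used to lift. -/
noncomputable abbrev auxCone (s : Cone (selfProdDiag D t ht)) (b : Bool) : Cone D where
  pt := s.pt
  π :=
    { app := fun i => s.π.app i ≫ (if b then pullback.fst (t i) (t i) else pullback.snd _ _)
      naturality := fun i j f => by
        have h := s.w f
        refine (Category.id_comp _).trans ?_
        cases b
        · have h2 : s.π.app j ≫ pullback.snd (t j) (t j) =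
              (s.π.app i ≫ pullback.snd (t i) (t i)) ≫ D.map f := by
            rw [← h, Category.assoc, Category.assoc]
            exact congrArg (fun m => s.π.app i ≫ m) (selfProdMap_snd D t ht f)
          simpa using h2
        · have h2 : s.π.app j ≫ pullback.fst (t j) (t j) =
              (s.π.app i ≫ pullback.fst (t i) (t i)) ≫ D.map f := by
            rw [← h, Category.assoc, Category.assoc]
            exact congrArg (fun m => s.π.app i ≫ m) (selfProdMap_fst D t ht f)
          simpa using h2 }

/-- The cone `cone2` is a limit cone. -/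
noncomputable def isLimitCone2 [Nonempty I] (hc : IsLimit c) : IsLimit (cone2 D t ht c π hπ) where
  lift s :=
    pullback.lift (hc.lift (auxCone D t ht s true)) (hc.lift (auxCone D t ht s false)) (by
      obtain ⟨i⟩ := ‹Nonempty I›
      rw [← hπ i, ← Category.assoc, ← Category.assoc, hc.fac, hc.fac]
      change (s.π.app i ≫ pullback.fst (t i) (t i)) ≫ t i =
        (s.π.app i ≫ pullback.snd (t i) (t i)) ≫ t i
      rw [Category.assoc, Category.assoc]
      exact congrArg (fun m => s.π.app i ≫ m) pullback.condition)
  fac s i := by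
    apply pullback.hom_ext
    · change (_ ≫ cmap D t c π hπ i) ≫ _ = _
      rw [Category.assoc, cmap_fst, pullback.lift_fst_assoc, hc.fac]
      rfl
    · change (_ ≫ cmap D t c π hπ i) ≫ _ = _
      rw [Category.assoc, cmap_snd, pullback.lift_snd_assoc, hc.fac]
      rfl
  uniq s m hm := by
    have hm' : ∀ i, m ≫ cmap D t c π hπ i = s.π.app i := hm
    apply pullback.hom_ext
    · rw [pullback.lift_fst]
      apply hc.uniq (auxCone D t ht s true)
      intro i
      have h1 : (m ≫ pullback.fst π π) ≫ c.π.app i =
          (m ≫ cmap D t c π hπ i) ≫ pullback.fst (t i) (t i) := by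
        rw [Category.assoc, Category.assoc, cmap_fst]
      refine h1.trans ?_
      rw [hm' i]
      rfl
    · rw [pullback.lift_snd]
      apply hc.uniq (auxCone D t ht s false)
      intro i
      have h1 : (m ≫ pullback.snd π π) ≫ c.π.app i =
          (m ≫ cmap D t c π hπ i) ≫ pullback.snd (t i) (t i) := by
        rw [Category.assoc, Category.assoc, cmap_snd]
      refine h1.trans ?_
      rw [hm' i]
      rfl

end Groth.Agent.Lib.PullbackDiag22
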