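import Groth.Agent.Lib.ProEtEps22c
import Groth.Agent.Lib.ProEtExtZero22
import Mathlib.AlgebraicGeometry.AffineTransitionLimit
import Groth.Agent.Lib.PullbackDiag22

/-!
# The comparison functor `ε`, part 4: pro-étale presentations and descent (helper22)

A `Pres V` is an affine object `W` of `X.ProEt` covering an affine object `V` of `X.Etale`,
presented as a cofiltered limit of affine étale `V`-schemes `W_i`.
-/

set_option autoImplicit false
set_option linter.style.haveILetI false
universe u

open CategoryTheory AlgebraicGeometry Limits MorphismProperty Opposite TopologicalSpace ProEtS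

namespace Groth.Agent.Lib.ProEtEps22

open Groth.Agent.Lib.ProEtLan22 Groth.Agent.Lib.ProEtWC22

variable {X : Scheme.{u}}

/-- The forgetful functor from the small étale site to schemes. -/
noncomputable abbrev forgetSch (X : Scheme.{u}) : X.Etale ⥤ Scheme.{u} :=
  Scheme.Etale.forget X ⋙ Over.forget X

/-- A presentation of a pro-étale cover of `V` as a cofiltered limit of étale `V`-schemes. -/
structure Pres (V : X.Etale) where
  I : Type u
  [cat : SmallCategory I]
  [cof : IsCofiltered I]
  Wd : I ⥤ X.Etale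
  toV : ∀ i, Wd.obj i ⟶ V
  toV_w : ∀ {i j : I} (f : i ⟶ j), Wd.map f ≫ toV j = toV i
  W : X.ProEt
  pr : ∀ i, W ⟶ (eps X).obj (Wd.obj i)
  pr_w : ∀ {i j : I} (f : i ⟶ j), pr i ≫ (eps X).map (Wd.map f) = pr j
  π : W ⟶ (eps X).obj V
  π_w : ∀ i, pr i ≫ (eps X).map (toV i) = π
  affW : IsAffine W.left
  affWd : ∀ i, IsAffine (Wd.obj i).left

attribute [instance] Pres.cat Pres.cof Pres.affW Pres.affWd

namespace Pres

variable {V : X.Etale} (R : Pres V)

/-- The cone of schemes with vertex `W`. -/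
noncomputable def cone : Cone (R.Wd ⋙ forgetSch X) where
  pt := R.W.left
  π :=
    { app := fun i => (R.pr i).left
      naturality := fun i j f => by
        have h : (R.pr i).left ≫ (R.Wd.map f).left = (R.pr j).left :=
          congrArg (fun m => m.left) (R.pr_w f)
        exact (Category.id_comp _).trans h.symm }

/-- The structure maps to `V`, on schemes. -/
noncomputable abbrev tV (i : R.I) : (R.Wd ⋙ forgetSch X).obj i ⟶ V.left := (R.toV i).left

lemma tV_w {i j : R.I} (f : i ⟶ j) : (R.Wd ⋙ forgetSch X).map f ≫ R.tV j = R.tV i :=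
  congrArg (fun m => m.left) (R.toV_w f)

lemma π_left (i : R.I) : R.cone.π.app i ≫ R.tV i = R.π.left :=
  congrArg (fun m => m.left) (R.π_w i)

open Groth.Agent.Lib.PullbackDiag22 in
/-- The diagram of self fibre products `W_i ×_V W_i`. -/
noncomputable abbrev K : R.I ⥤ Scheme.{u} :=
  selfProdDiag (R.Wd ⋙ forgetSch X) R.tV (fun f => R.tV_w f)

open Groth.Agent.Lib.PullbackDiag22 in
/-- The cone of self fibre products with vertex `W ×_V W`. -/
noncomputable abbrev cone2 : Cone R.K :=
  Groth.Agent.Lib.PullbackDiag22.cone2 (R.Wd ⋙ forgetSch X) R.tV (fun f => R.tV_w f) R.cone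
    R.π.left R.π_left

/-- `W ×_V W` is the limit of the `W_i ×_V W_i`. -/
noncomputable def isLimitCone2 (h : IsLimit R.cone) : IsLimit R.cone2 :=
  haveI : Nonempty R.I := IsCofiltered.nonempty
  Groth.Agent.Lib.PullbackDiag22.isLimitCone2 _ _ _ _ _ _ h

lemma K_map_fst {i j : R.I} (f : i ⟶ j) :
    R.K.map f ≫ pullback.fst (R.tV j) (R.tV j) =
      pullback.fst (R.tV i) (R.tV i) ≫ (R.Wd.map f).left :=
  Groth.Agent.Lib.PullbackDiag22.selfProdMap_fst (R.Wd ⋙ forgetSch X) R.tV
    (fun f => R.tV_w f) f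

lemma K_map_snd {i j : R.I} (f : i ⟶ j) :
    R.K.map f ≫ pullback.snd (R.tV j) (R.tV j) =
      pullback.snd (R.tV i) (R.tV i) ≫ (R.Wd.map f).left :=
  Groth.Agent.Lib.PullbackDiag22.selfProdMap_snd (R.Wd ⋙ forgetSch X) R.tV
    (fun f => R.tV_w f) f

lemma cone2_fst (i : R.I) :
    R.cone2.π.app i ≫ pullback.fst (R.tV i) (R.tV i) =
      pullback.fst R.π.left R.π.left ≫ (R.pr i).left :=
  Groth.Agent.Lib.PullbackDiag22.cmap_fst (R.Wd ⋙ forgetSch X) R.tV R.cone R.π.left R.π_left i

lemma cone2_snd (i : R.I) :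
    R.cone2.π.app i ≫ pullback.snd (R.tV i) (R.tV i) =
      pullback.snd R.π.left R.π.left ≫ (R.pr i).left :=
  Groth.Agent.Lib.PullbackDiag22.cmap_snd (R.Wd ⋙ forgetSch X) R.tV R.cone R.π.left R.π_left i

end Pres

end Groth.Agent.Lib.ProEtEps22
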