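import Groth.Agent.Lib.ProEtEps22d

/-!
# The comparison functor `ε`, part 5: the objects `W_i ×_V W_i` and `W ×_V W` (helper22)
-/

set_option autoImplicit false
set_option linter.style.haveILetI false
universe u

open CategoryTheory AlgebraicGeometry Limits MorphismProperty Opposite TopologicalSpace ProEtS

namespace Groth.Agent.Lib.ProEtEps22

open Groth.Agent.Lib.ProEtLan22 Groth.Agent.Lib.ProEtWC22

variable {X : Scheme.{u}}

section selfProd

variable {A B : X.Etale} (p : A ⟶ B)

/-- The self fibre product `A ×_B A` in the small étale site. -/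
noncomputable def selfProd : X.Etale := etMk (pullback.fst p.left p.left ≫ A.hom)

noncomputable def selfProd.fst : selfProd p ⟶ A :=
  MorphismProperty.Over.homMk (pullback.fst p.left p.left) rfl

noncomputable def selfProd.snd : selfProd p ⟶ A :=
  MorphismProperty.Over.homMk (pullback.snd p.left p.left) (by
    have h1 : p.left ≫ B.hom = A.hom := MorphismProperty.Over.w p
    change pullback.snd p.left p.left ≫ A.hom = pullback.fst p.left p.left ≫ A.hom
    rw [← h1, ← Category.assoc, ← Category.assoc, pullback.condition])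

theorem selfProd.condition : selfProd.fst p ≫ p = selfProd.snd p ≫ p :=
  et_hom_ext pullback.condition

/-- The universal property of the self fibre product. -/
theorem selfProd.exists_lift {Z : X.Etale} (g₁ g₂ : Z ⟶ A) (h : g₁ ≫ p = g₂ ≫ p) :
    ∃ l : Z ⟶ selfProd p, l ≫ selfProd.fst p = g₁ ∧ l ≫ selfProd.snd p = g₂ := by
  have hl : g₁.left ≫ p.left = g₂.left ≫ p.left := congrArg (fun m => m.left) h
  refine ⟨MorphismProperty.Over.homMk (pullback.lift g₁.left g₂.left hl) ?_, et_hom_ext ?_,
    et_hom_ext ?_⟩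
  · change pullback.lift g₁.left g₂.left hl ≫ pullback.fst p.left p.left ≫ A.hom = Z.hom
    rw [pullback.lift_fst_assoc]
    exact MorphismProperty.Over.w g₁
  · exact pullback.lift_fst _ _ _
  · exact pullback.lift_snd _ _ _

end selfProd

namespace Pres

variable {V : X.Etale} (R : Pres V)

/-- `T i = W_i ×_V W_i`. -/
noncomputable abbrev T (i : R.I) : X.Etale := selfProd (R.toV i)

lemma T_left (i : R.I) : (R.T i).left = R.K.obj i := rfl

/-- The transition maps `T i ⟶ T j`. -/
noncomputable def τ {i j : R.I} (f : i ⟶ j) : R.T i ⟶ R.T j :=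
  MorphismProperty.Over.homMk (R.K.map f) (by
    change R.K.map f ≫ pullback.fst _ _ ≫ (R.Wd.obj j).hom =
      pullback.fst _ _ ≫ (R.Wd.obj i).hom
    have h1 := R.K_map_fst f
    have h2 : (R.Wd.map f).left ≫ (R.Wd.obj j).hom = (R.Wd.obj i).hom :=
      MorphismProperty.Over.w (R.Wd.map f)
    exact Groth.Agent.Lib.PullbackDiag22.comp_eq_of_sq h1 h2)

lemma τ_fst {i j : R.I} (f : i ⟶ j) :
    R.τ f ≫ selfProd.fst (R.toV j) = selfProd.fst (R.toV i) ≫ R.Wd.map f :=
  et_hom_ext (R.K_map_fst f)

lemma τ_snd {i j : R.I} (f : i ⟶ j) :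
    R.τ f ≫ selfProd.snd (R.toV j) = selfProd.snd (R.toV i) ≫ R.Wd.map f :=
  et_hom_ext (R.K_map_snd f)

instance weaklyEtale_π_left : WeaklyEtale R.π.left :=
  Groth.Agent.Lib.ProEtGeomPt22.weaklyEtale_left R.π

/-- `W2 = W ×_V W`. -/
noncomputable def W2 : X.ProEt :=
  Scheme.ProEt.mk (pullback.fst R.π.left R.π.left ≫ R.W.hom)

noncomputable def p1 : R.W2 ⟶ R.W :=
  MorphismProperty.Over.homMk (pullback.fst R.π.left R.π.left) rfl

noncomputable def p2 : R.W2 ⟶ R.W :=
  MorphismProperty.Over.homMk (pullback.snd R.π.left R.π.left) (by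
    have h1 : R.π.left ≫ V.hom = R.W.hom := MorphismProperty.Over.w R.π
    change pullback.snd R.π.left R.π.left ≫ R.W.hom = pullback.fst R.π.left R.π.left ≫ R.W.hom
    rw [← h1, ← Category.assoc, ← Category.assoc, pullback.condition])

theorem p_condition : R.p1 ≫ R.π = R.p2 ≫ R.π :=
  hom_ext' pullback.condition

/-- The comparison maps `W2 ⟶ ε (T i)`. -/
noncomputable def c (i : R.I) : R.W2 ⟶ (eps X).obj (R.T i) :=
  MorphismProperty.Over.homMk (R.cone2.π.app i) (by
    change R.cone2.π.app i ≫ pullback.fst (R.tV i) (R.tV i) ≫ (R.Wd.obj i).hom =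
      pullback.fst R.π.left R.π.left ≫ R.W.hom
    have h1 := R.cone2_fst i
    have h2 : (R.pr i).left ≫ (R.Wd.obj i).hom = R.W.hom := MorphismProperty.Over.w (R.pr i)
    exact Groth.Agent.Lib.PullbackDiag22.comp_eq_of_sq h1 h2)

lemma c_fst (i : R.I) : R.c i ≫ (eps X).map (selfProd.fst (R.toV i)) = R.p1 ≫ R.pr i :=
  hom_ext' (R.cone2_fst i)

lemma c_snd (i : R.I) : R.c i ≫ (eps X).map (selfProd.snd (R.toV i)) = R.p2 ≫ R.pr i :=
  hom_ext' (R.cone2_snd i)

instance isAffine_W2 [IsAffine V.left] : IsAffine R.W2.left :=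
  haveI : IsAffine ((eps X).obj V).left := ‹IsAffine V.left›
  inferInstanceAs (IsAffine (pullback R.π.left R.π.left))

end Pres

end Groth.Agent.Lib.ProEtEps22
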