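import Groth.Agent.Lib.ProEtEps22e

/-!
# The comparison functor `ε`, part 6: descent of sections along a presentation (helper22)
-/

set_option autoImplicit false
set_option linter.style.haveILetI false
universe u

open CategoryTheory AlgebraicGeometry Limits MorphismProperty Opposite TopologicalSpace ProEtS

namespace Groth.Agent.Lib.ProEtEps22

open Groth.Agent.Lib.ProEtLan22 Groth.Agent.Lib.ProEtWC22

variable {X : Scheme.{u}} (F : EtCoh.Ab X)

/-- The underlying étale sheaf of sets. -/
theorem isSheaf_F' : Presieve.IsSheaf X.smallEtaleTopology (F' F.obj) :=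
  (isSheaf_iff_isSheaf_of_type _ _).1
    ((sheafCompose X.smallEtaleTopology (forget AddCommGrpCat.{u + 1})).obj F).property

/-- The germ of a section of `F`. -/
noncomputable abbrev gm {W : X.ProEt} {V : X.Etale} (g : W ⟶ (eps X).obj V)
    (a : F.obj.obj (op V)) : (lanP F.obj).obj (op W) :=
  germ (eps X) (F' F.obj) (P' F.obj) (α' F.obj) g a

theorem gm_map {W : X.ProEt} {V V' : X.Etale} (g : W ⟶ (eps X).obj V') (h : V' ⟶ V)
    (a : F.obj.obj (op V)) : gm F g (F.obj.map h.op a) = gm F (g ≫ (eps X).map h) a :=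
  germ_map (eps X) (F' F.obj) (P' F.obj) (α' F.obj) g h a

theorem map_gm {W W' : X.ProEt} (i : W' ⟶ W) {V : X.Etale} (g : W ⟶ (eps X).obj V)
    (a : F.obj.obj (op V)) : (lanP F.obj).map i.op (gm F g a) = gm F (i ≫ g) a :=
  map_germ (eps X) (F' F.obj) (P' F.obj) (α' F.obj) i g a

/-- `ε^p F → ε^{-1} F` is bijective on affine w-contractible objects. -/
theorem toSheafify_lanP_bijective (W : X.ProEt) [IsAffine W.left]
    (hW : EtPBC.IsWContractible Γ(W.left, ⊤)) :
    Function.Bijective ((toSheafify (Scheme.ProEt.topology X) (lanP F.obj)).app (op W)) :=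
  toSheafify_bijective_of_gluesFinite_ab (lanP F.obj) W
    (hasClopenRefinements_of_isWContractible W hW)
    (gluesFinite_of_lanData (hasRep F.obj) (hasEq F.obj)
      (hasWeakCoprod_etale (F' F.obj) (isSheaf_F' F)) W)

namespace Pres

variable {F} {V : X.Etale} (R : Pres V)

/-- The structure morphisms to `X` as a natural transformation. -/
noncomputable def tX : (R.Wd ⋙ forgetSch X) ⟶ (Functor.const R.I).obj X where
  app i := (R.Wd.obj i).hom
  naturality i j f := by
    have h : (R.Wd.map f).left ≫ (R.Wd.obj j).hom = (R.Wd.obj i).hom :=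
      MorphismProperty.Over.w (R.Wd.map f)
    exact h.trans (Category.comp_id _).symm

/-- Every section of `ε^p F` over `W` is a germ along some `pr i`. -/
theorem exists_gm_pr (hlim : IsLimit R.cone) (x : (lanP F.obj).obj (op R.W)) :
    ∃ (i : R.I) (a : F.obj.obj (op (R.Wd.obj i))), gm F (R.pr i) a = x := by
  obtain ⟨V₀, g₀, a₀, rfl⟩ := hasRep F.obj R.W x
  haveI : ∀ {i j : R.I} (f : i ⟶ j), IsAffineHom ((R.Wd ⋙ forgetSch X).map f) := fun f =>
    inferInstanceAs (IsAffineHom (R.Wd.map f).left)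
  haveI : ∀ i, CompactSpace ((R.Wd ⋙ forgetSch X).obj i) := fun i =>
    inferInstanceAs (CompactSpace (R.Wd.obj i).left)
  haveI : ∀ i, QuasiSeparatedSpace ((R.Wd ⋙ forgetSch X).obj i) := fun i =>
    inferInstanceAs (QuasiSeparatedSpace (R.Wd.obj i).left)
  haveI : LocallyOfFinitePresentation V₀.hom := inferInstance
  have ha : R.cone.π ≫ R.tX = (Functor.const _).map (g₀.left ≫ V₀.hom) := by
    ext i : 2
    have h1 : (R.pr i).left ≫ (R.Wd.obj i).hom = R.W.hom := MorphismProperty.Over.w (R.pr i)
    have h2 : g₀.left ≫ V₀.hom = R.W.hom := MorphismProperty.Over.w g₀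
    exact h1.trans h2.symm
  obtain ⟨i, g, hg1, hg2⟩ := Scheme.exists_π_app_comp_eq_of_locallyOfFinitePresentation
    (R.Wd ⋙ forgetSch X) R.tX V₀.hom R.cone hlim g₀.left ha
  let m : R.Wd.obj i ⟶ V₀ := MorphismProperty.Over.homMk g hg2
  have hm : R.pr i ≫ (eps X).map m = g₀ := hom_ext' hg1
  refine ⟨i, F.obj.map m.op a₀, ?_⟩
  rw [gm_map, hm]

end Pres

/-- A sieve hitting every point is a covering sieve of the small étale site. -/
theorem mem_smallEtaleTopology_of_forall_exists {U : X.Etale} (S : Sieve U)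
    (h : ∀ y : U.left, ∃ (Y : X.Etale) (m : Y ⟶ U), S m ∧ y ∈ Set.range m.left) :
    S ∈ X.smallEtaleTopology U := by
  choose Y m hm hy using h
  have h1 : Sieve.ofArrows Y m ∈ X.smallEtaleTopology U := by
    rw [Scheme.ofArrows_mem_smallEtaleTopology_iff, Set.eq_univ_iff_forall]
    intro y
    exact Set.mem_iUnion.2 ⟨y, hy y⟩
  refine X.smallEtaleTopology.superset_covering ?_ h1
  rw [Sieve.ofArrows, Sieve.generate_le_iff]
  rintro _ _ ⟨y⟩
  exact hm y

/-- Two sections of an étale sheaf agreeing on a family hitting every point are equal. -/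
theorem F_ext_of_forall_exists {U : X.Etale} (c₁ c₂ : F.obj.obj (op U))
    (h : ∀ y : U.left, ∃ (Y : X.Etale) (m : Y ⟶ U),
      F.obj.map m.op c₁ = F.obj.map m.op c₂ ∧ y ∈ Set.range m.left) : c₁ = c₂ := by
  let S : Sieve U :=
    { arrows := fun Y m => F.obj.map m.op c₁ = F.obj.map m.op c₂
      downward_closed := fun {Y Z m} hm g => by
        change F.obj.map (g ≫ m).op c₁ = F.obj.map (g ≫ m).op c₂
        rw [op_comp, F.obj.map_comp]
        exact congrArg (fun t => F.obj.map g.op t) hm }
  have hS : S ∈ X.smallEtaleTopology U := mem_smallEtaleTopology_of_forall_exists S h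
  exact ((isSheaf_F' F).isSeparated S hS).ext (fun Y m hm => hm)

end Groth.Agent.Lib.ProEtEps22
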