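import Groth.Agent.Lib.ProEtEps22f

/-!
# The comparison functor `ε`, part 7: the descent condition holds at a finite stage (helper22)
-/

set_option autoImplicit false
set_option linter.style.haveILetI false
universe u

open CategoryTheory AlgebraicGeometry Limits MorphismProperty Opposite TopologicalSpace ProEtS

namespace Groth.Agent.Lib.ProEtEps22

open Groth.Agent.Lib.ProEtLan22 Groth.Agent.Lib.ProEtWC22

variable {X : Scheme.{u}} {F : EtCoh.Ab X}

namespace Pres

variable {V : X.Etale} (R : Pres V)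

theorem exists_descent_index [IsAffine V.left] (hlim : IsLimit R.cone) (i : R.I)
    (a : F.obj.obj (op (R.Wd.obj i)))
    (h : (toSheafify (Scheme.ProEt.topology X) (lanP F.obj)).app (op R.W2)
        ((lanP F.obj).map R.p1.op (gm F (R.pr i) a)) =
      (toSheafify (Scheme.ProEt.topology X) (lanP F.obj)).app (op R.W2)
        ((lanP F.obj).map R.p2.op (gm F (R.pr i) a))) :
    ∃ (j : R.I) (f : j ⟶ i),
      F.obj.map (selfProd.fst (R.toV j)).op (F.obj.map (R.Wd.map f).op a) =
        F.obj.map (selfProd.snd (R.toV j)).op (F.obj.map (R.Wd.map f).op a) := by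
  let J := Scheme.ProEt.topology X
  let b₁ : F.obj.obj (op (R.T i)) := F.obj.map (selfProd.fst (R.toV i)).op a
  let b₂ : F.obj.obj (op (R.T i)) := F.obj.map (selfProd.snd (R.toV i)).op a
  have e₁ : (lanP F.obj).map R.p1.op (gm F (R.pr i) a) = gm F (R.c i) b₁ := by
    rw [map_gm, gm_map, R.c_fst]
  have e₂ : (lanP F.obj).map R.p2.op (gm F (R.pr i) a) = gm F (R.c i) b₂ := by
    rw [map_gm, gm_map, R.c_snd]
  rw [e₁, e₂] at h
  have hmem := Presheaf.equalizerSieve_mem J (toSheafify J (lanP F.obj)) _ _ h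
  obtain ⟨n, Z, r, hZ, hr, hsurj⟩ := exists_finite_affine_refinement R.W2 _ hmem
  have key : ∀ k : Fin n, ∃ (V'' : X.Etale) (g'' : Z k ⟶ (eps X).obj V'') (m : V'' ⟶ R.T i),
      g'' ≫ (eps X).map m = r k ≫ R.c i ∧ F.obj.map m.op b₁ = F.obj.map m.op b₂ := by
    intro k
    have h1 : gm F (r k ≫ R.c i) b₁ = gm F (r k ≫ R.c i) b₂ := by
      rw [← map_gm, ← map_gm]
      exact hr k
    exact hasEq_same (hasEq F.obj) (r k ≫ R.c i) b₁ b₂ h1
  choose V'' g'' m hm1 hm2 using key
  -- the open subset covered by the `m k`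
  let Ω : (R.K.obj i).Opens := ⨆ k, ⟨Set.range (m k).left, (m k).left.isOpenMap.isOpen_range⟩
  have hΩ : R.cone2.π.app i ⁻¹ᵁ Ω = ⊤ := by
    rw [eq_top_iff]
    intro z _
    obtain ⟨k, y, hy⟩ := hsurj z
    change R.cone2.π.app i z ∈ Ω
    rw [Opens.mem_iSup]
    refine ⟨k, (g'' k).left y, ?_⟩
    have h1 : (g'' k).left ≫ (m k).left = (r k).left ≫ (R.c i).left :=
      congrArg (fun t => t.left) (hm1 k)
    have h2 : ((g'' k).left ≫ (m k).left) y = ((r k).left ≫ (R.c i).left) y :=
      congrArg (fun t : (Z k).left ⟶ R.K.obj i => t y) h1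
    have h3 : (m k).left ((g'' k).left y) = (R.c i).left ((r k).left y) :=
      (Scheme.Hom.comp_apply _ _ _).symm.trans (h2.trans (Scheme.Hom.comp_apply _ _ _))
    exact h3.trans (congrArg (fun t => (R.c i).left t) hy)
  haveI : IsAffine ((eps X).obj V).left := ‹IsAffine V.left›
  haveI hWdaff : ∀ i, IsAffine ((R.Wd ⋙ forgetSch X).obj i) := fun i =>
    inferInstanceAs (IsAffine (R.Wd.obj i).left)
  haveI : ∀ i, IsAffine (R.K.obj i) := fun i =>
    inferInstanceAs (IsAffine (pullback (R.tV i) (R.tV i)))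
  haveI : ∀ {i j : R.I} (f : i ⟶ j), IsAffineHom (R.K.map f) := fun f => inferInstance
  haveI : ∀ i, CompactSpace (R.K.obj i) := fun i => inferInstance
  obtain ⟨j, f, hj⟩ := exists_map_eq_top R.K R.cone2 (R.isLimitCone2 hlim) Ω hΩ
  refine ⟨j, f, ?_⟩
  apply F_ext_of_forall_exists
  intro y
  have hy : R.K.map f y ∈ Ω := by
    have : y ∈ R.K.map f ⁻¹ᵁ Ω := by rw [hj]; trivial
    exact this
  rw [Opens.mem_iSup] at hy
  obtain ⟨k, v, hv⟩ := hy
  -- the fibre product of `T j → T i ← V'' k`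
  have hTj : R.K.map f ≫ (R.T i).hom = (R.T j).hom := MorphismProperty.Over.w (R.τ f)
  have hVk : (m k).left ≫ (R.T i).hom = (V'' k).hom := MorphismProperty.Over.w (m k)
  let mk' : (V'' k).left ⟶ R.K.obj i := (m k).left
  haveI : Etale mk' := inferInstanceAs (Etale (m k).left)
  let q : R.K.obj j ⟶ X := (R.T j).hom
  haveI : Etale q := (R.T j).prop
  haveI : Etale (pullback.fst (R.K.map f) mk') := inferInstance
  haveI : Etale (pullback.fst (R.K.map f) mk' ≫ q) := inferInstance
  let Y : X.Etale := etMk (pullback.fst (R.K.map f) mk' ≫ q)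
  let μ : Y ⟶ R.T j := MorphismProperty.Over.homMk
    (show Y.left ⟶ (R.T j).left from pullback.fst (R.K.map f) mk') rfl
  let μ' : Y ⟶ V'' k := MorphismProperty.Over.homMk
    (show Y.left ⟶ (V'' k).left from pullback.snd (R.K.map f) mk')
    ((Groth.Agent.Lib.PullbackDiag22.comp_eq_of_sq
      (pullback.condition (f := R.K.map f) (g := mk')) hVk).symm.trans
      (congrArg (fun t => pullback.fst (R.K.map f) mk' ≫ t) hTj))
  have hμ : μ ≫ R.τ f = μ' ≫ m k := et_hom_ext pullback.condition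
  refine ⟨Y, μ, ?_, ?_⟩
  · -- the two sections agree on `Y`
    have step : ∀ (q : ∀ l, R.T l ⟶ R.Wd.obj l)
        (hq : R.τ f ≫ q i = q j ≫ R.Wd.map f),
        F.obj.map μ.op (F.obj.map (q j).op (F.obj.map (R.Wd.map f).op a)) =
          F.obj.map μ'.op (F.obj.map (m k).op (F.obj.map (q i).op a)) := by
      intro q hq
      have h1 : F.obj.map μ.op (F.obj.map (q j).op (F.obj.map (R.Wd.map f).op a)) =
          F.obj.map (μ ≫ q j ≫ R.Wd.map f).op a := by
        rw [op_comp, op_comp, F.obj.map_comp, F.obj.map_comp]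
        rfl
      have h2 : F.obj.map μ'.op (F.obj.map (m k).op (F.obj.map (q i).op a)) =
          F.obj.map (μ' ≫ m k ≫ q i).op a := by
        rw [op_comp, op_comp, F.obj.map_comp, F.obj.map_comp]
        rfl
      rw [h1, h2, ← hq, ← Category.assoc, hμ, Category.assoc]
    rw [step (fun l => selfProd.fst (R.toV l)) (R.τ_fst f),
      step (fun l => selfProd.snd (R.toV l)) (R.τ_snd f)]
    exact congrArg (fun t => F.obj.map μ'.op t) (hm2 k)
  · obtain ⟨z, hz1, -⟩ := Scheme.Pullback.exists_preimage_pullback y v hv.symm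
    exact ⟨z, hz1⟩

end Pres

end Groth.Agent.Lib.ProEtEps22
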