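import Groth.Agent.Lib.ProEtEps22g

/-!
# The comparison functor `ε`, part 8: sections of `ε⁻¹ F` over affine étale objects (helper22)
-/

set_option autoImplicit false
set_option linter.style.haveILetI false
universe u

open CategoryTheory AlgebraicGeometry Limits MorphismProperty Opposite TopologicalSpace ProEtS

namespace Groth.Agent.Lib.ProEtEps22

open Groth.Agent.Lib.ProEtLan22 Groth.Agent.Lib.ProEtWC22

variable {X : Scheme.{u}} {F : EtCoh.Ab X}

/-- Descent of sections of an étale sheaf along a surjective morphism of `X.Etale`. -/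
theorem exists_descent {A B : X.Etale} (p : A ⟶ B) (hp : Function.Surjective p.left)
    (a : F.obj.obj (op A))
    (h : F.obj.map (selfProd.fst p).op a = F.obj.map (selfProd.snd p).op a) :
    ∃ b : F.obj.obj (op B), F.obj.map p.op b = a := by
  have hS : Sieve.generate (Presieve.ofArrows (fun _ : Unit => A) (fun _ => p)) ∈
      X.smallEtaleTopology B := by
    apply mem_smallEtaleTopology_of_forall_exists
    intro y
    obtain ⟨z, hz⟩ := hp y
    exact ⟨A, p, Sieve.le_generate _ _ _ (Presieve.ofArrows.mk ()), z, hz⟩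
  have hsh := (isSheaf_F' F) _ hS
  rw [← Presieve.isSheafFor_iff_generate, Presieve.isSheafFor_arrows_iff] at hsh
  obtain ⟨b, hb, -⟩ := hsh (fun _ => a) (by
    intro _ _ Z g₁ g₂ hg
    obtain ⟨l, hl1, hl2⟩ := selfProd.exists_lift p g₁ g₂ hg
    change F.obj.map g₁.op a = F.obj.map g₂.op a
    have e1 : F.obj.map g₁.op a = F.obj.map l.op (F.obj.map (selfProd.fst p).op a) := by
      rw [← hl1, op_comp, F.obj.map_comp]
      rfl
    have e2 : F.obj.map g₂.op a = F.obj.map l.op (F.obj.map (selfProd.snd p).op a) := by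
      rw [← hl2, op_comp, F.obj.map_comp]
      rfl
    rw [e1, e2, h])
  exact ⟨b, hb ()⟩

namespace Pres

variable {V : X.Etale} (R : Pres V)

/-- The key surjectivity statement: over an affine `V` admitting a w-contractible presentation,
every section of `ε⁻¹ F` comes from `F (V)`. -/
theorem exists_preimage [IsAffine V.left] (hlim : IsLimit R.cone)
    (hsurj : Function.Surjective R.π.left) (hWC : EtPBC.IsWContractible Γ(R.W.left, ⊤))
    (s : (sheafify (Scheme.ProEt.topology X) (lanP F.obj)).obj (op ((eps X).obj V))) :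
    ∃ b : F.obj.obj (op V),
      (toSheafify (Scheme.ProEt.topology X) (lanP F.obj)).app (op ((eps X).obj V))
        (gm F (𝟙 _) b) = s := by
  let J := Scheme.ProEt.topology X
  let G : Sheaf J AddCommGrpCat.{u + 1} := (presheafToSheaf J _).obj (lanP F.obj)
  let η := toSheafify J (lanP F.obj)
  have ηnat : ∀ {W₁ W₂ : X.ProEt} (t : W₁ ⟶ W₂) (x : (lanP F.obj).obj (op W₂)),
      G.obj.map t.op (η.app (op W₂) x) = η.app (op W₁) ((lanP F.obj).map t.op x) := by
    intro W₁ W₂ t x
    exact (ConcreteCategory.congr_hom (η.naturality t.op) x).symm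
  -- step 1: lift over `W`
  obtain ⟨x, hx⟩ := (toSheafify_lanP_bijective F R.W hWC).2 (G.obj.map R.π.op s)
  -- step 2: spread out
  obtain ⟨i, a, rfl⟩ := R.exists_gm_pr hlim x
  -- step 3: the descent condition holds at a finite stage
  have hcond : η.app (op R.W2) ((lanP F.obj).map R.p1.op (gm F (R.pr i) a)) =
      η.app (op R.W2) ((lanP F.obj).map R.p2.op (gm F (R.pr i) a)) := by
    rw [← ηnat, ← ηnat]
    change G.obj.map R.p1.op (η.app (op R.W) (gm F (R.pr i) a)) =
      G.obj.map R.p2.op (η.app (op R.W) (gm F (R.pr i) a))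
    rw [hx]
    have e1 : G.obj.map R.p1.op (G.obj.map R.π.op s) = G.obj.map (R.p1 ≫ R.π).op s := by
      rw [op_comp, G.obj.map_comp]
      rfl
    have e2 : G.obj.map R.p2.op (G.obj.map R.π.op s) = G.obj.map (R.p2 ≫ R.π).op s := by
      rw [op_comp, G.obj.map_comp]
      rfl
    rw [e1, e2, R.p_condition]
  obtain ⟨j, f, hj⟩ := R.exists_descent_index hlim i a hcond
  -- step 4: descend
  have hsurj' : Function.Surjective (R.toV j).left := by
    intro v
    obtain ⟨w, hw⟩ := hsurj v
    refine ⟨(R.pr j).left w, ?_⟩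
    have h1 : (R.pr j).left ≫ (R.toV j).left = R.π.left :=
      congrArg (fun m => m.left) (R.π_w j)
    rw [← hw, ← h1]
    exact (Scheme.Hom.comp_apply _ _ _).symm
  obtain ⟨b, hb⟩ := exists_descent (R.toV j) hsurj' _ hj
  refine ⟨b, ?_⟩
  -- step 5: check the equality after restriction to `W`
  have hgerm : gm F R.π b = gm F (R.pr i) a := by
    calc gm F R.π b = gm F (R.pr j ≫ (eps X).map (R.toV j)) b := by rw [R.π_w j]
      _ = gm F (R.pr j) (F.obj.map (R.toV j).op b) := (gm_map F _ _ _).symm
      _ = gm F (R.pr j) (F.obj.map (R.Wd.map f).op a) := by rw [hb]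
      _ = gm F (R.pr j ≫ (eps X).map (R.Wd.map f)) a := gm_map F _ _ _
      _ = gm F (R.pr i) a := by rw [R.pr_w f]
  have hres : G.obj.map R.π.op (η.app (op ((eps X).obj V)) (gm F (𝟙 _) b)) =
      G.obj.map R.π.op s := by
    rw [ηnat, map_gm, Category.comp_id, hgerm]
    exact hx
  haveI : IsAffine ((eps X).obj V).left := ‹IsAffine V.left›
  have hcov : Sieve.generate (Presieve.ofArrows (fun _ : Unit => R.W) (fun _ => R.π)) ∈
      J ((eps X).obj V) := by
    apply Groth.Agent.Lib.ProEtExtZero22.generate_finite_affine_mem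
    intro v
    obtain ⟨w, hw⟩ := hsurj v
    exact ⟨(), w, hw⟩
  have hS : Presieve.IsSheaf J (G.obj ⋙ forget AddCommGrpCat.{u + 1}) :=
    (isSheaf_iff_isSheaf_of_type _ _).1
      ((sheafCompose J (forget AddCommGrpCat.{u + 1})).obj G).property
  refine (hS _ hcov).isSeparatedFor.ext ?_
  rintro Y t ⟨T, a', b', ⟨k⟩, rfl⟩
  change G.obj.map (a' ≫ R.π).op _ = G.obj.map (a' ≫ R.π).op s
  rw [op_comp, G.obj.map_comp]
  exact congrArg (fun z => G.obj.map a'.op z) hres

end Pres

end Groth.Agent.Lib.ProEtEps22
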