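import Groth.Agent.Lib.ProEtEps22i
import Mathlib.CategoryTheory.Sites.Abelian

/-!
# The comparison functor `ε`, part 10: the unit `F ⟶ ε_* ε⁻¹ F` is an isomorphism (helper22)

Bhatt–Scholze, Lemma 5.1.2.
-/

set_option autoImplicit false
set_option linter.style.haveILetI false
universe u

open CategoryTheory AlgebraicGeometry Limits MorphismProperty Opposite TopologicalSpace ProEtS

namespace Groth.Agent.Lib.ProEtEps22

open Groth.Agent.Lib.ProEtLan22 Groth.Agent.Lib.ProEtWC22

variable {X : Scheme.{u}}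

section

variable (F : EtCoh.Ab X)

theorem gm_id {V : X.Etale} (b : F.obj.obj (op V)) :
    gm F (𝟙 ((eps X).obj V)) b = (lanα F.obj).app (op V) b := by
  have h := ConcreteCategory.congr_hom ((lanP F.obj).map_id (op ((eps X).obj V)))
    ((lanα F.obj).app (op V) b)
  exact h

/-- The map `F (V) → ε⁻¹ F (ε V)`. -/
noncomputable abbrev toPull (V : X.Etale) (b : F.obj.obj (op V)) :
    (sheafify (Scheme.ProEt.topology X) (lanP F.obj)).obj (op ((eps X).obj V)) :=
  (toSheafify (Scheme.ProEt.topology X) (lanP F.obj)).app (op ((eps X).obj V)) (gm F (𝟙 _) b)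

/-- Injectivity of `F (V) → ε⁻¹ F (ε V)`. -/
theorem toPull_injective (V : X.Etale) : Function.Injective (toPull F V) := by
  intro a a' h
  have hmem := Presheaf.equalizerSieve_mem (Scheme.ProEt.topology X)
    (toSheafify (Scheme.ProEt.topology X) (lanP F.obj)) _ _ h
  apply F_ext_of_forall_exists
  intro y
  obtain ⟨W, g, hg, w, hw⟩ :=
    Groth.Agent.Lib.ProEtGeomPt22.exists_mem_range_of_mem_topology ((eps X).obj V) _ hmem y
  have h1 : gm F (g ≫ 𝟙 _) a = gm F (g ≫ 𝟙 _) a' := by
    rw [← map_gm, ← map_gm]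
    exact hg
  obtain ⟨V'', g'', m, hm1, hm2⟩ := hasEq_same (hasEq F.obj) (g ≫ 𝟙 _) a a' h1
  refine ⟨V'', m, hm2, g''.left w, ?_⟩
  have h2 : g''.left ≫ m.left = g.left := by
    have := congrArg (fun t => t.left) hm1
    exact this.trans (congrArg (fun t => t.left) (Category.comp_id g))
  rw [← hw, ← h2]
  exact (Scheme.Hom.comp_apply _ _ _).symm

/-- Surjectivity of `F (V) → ε⁻¹ F (ε V)` for affine `V`. -/
theorem toPull_surjective (V : X.Etale) [IsAffine V.left] : Function.Surjective (toPull F V) := by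
  intro s
  obtain ⟨R, ⟨hlim⟩, hsurj, hWC⟩ := exists_pres V
  exact R.exists_preimage hlim hsurj hWC s

end

section unit

variable [ProEtS.EpsCont X] (F : EtCoh.Ab X)

/-- The explicit adjunction `ε⁻¹ ⊣ ε_*` built from the left Kan extension. -/
noncomputable abbrev adj₁ (X : Scheme.{u}) [ProEtS.EpsCont X] :=
  Functor.sheafPullbackConstruction.sheafAdjunctionContinuous (eps X) AddCommGrpCat.{u + 1}
    X.smallEtaleTopology (Scheme.ProEt.topology X)

theorem unit_hom : ((adj₁ X).unit.app F).hom =
    lanα F.obj ≫ Functor.whiskerLeft (eps X).op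
      (toSheafify (Scheme.ProEt.topology X) (lanP F.obj)) := by
  have h : (sheafToPresheaf _ _).map ((adj₁ X).unit.app F) = _ :=
    Adjunction.map_restrictFullyFaithful_unit_app _ _ _ _ _ F
  refine h.trans ?_
  simp only [Adjunction.comp_unit_app, Iso.refl_hom, NatTrans.id_app,
    CategoryTheory.Functor.map_id, Category.comp_id, sheafificationAdjunction_unit_app,
    Functor.lanAdjunction_unit]
  rfl

theorem unit_hom_app (V : X.Etale) (b : F.obj.obj (op V)) :
    ((adj₁ X).unit.app F).hom.app (op V) b = toPull F V b := by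
  rw [unit_hom]
  change (toSheafify (Scheme.ProEt.topology X) (lanP F.obj)).app (op ((eps X).obj V))
    ((lanα F.obj).app (op V) b) = _
  rw [← gm_id]

instance mono_unit₁ : Mono ((adj₁ X).unit.app F) := by
  haveI : Mono ((adj₁ X).unit.app F).hom := by
    apply (config := { allowSynthFailures := true }) NatTrans.mono_of_mono_app
    intro V
    rw [AddCommGrpCat.mono_iff_injective]
    intro a a' h
    apply toPull_injective F V.unop
    rw [← unit_hom_app, ← unit_hom_app]
    exact h
  exact (sheafToPresheaf _ _).mono_of_mono_map (inferInstanceAs (Mono ((adj₁ X).unit.app F).hom))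

instance isLocallySurjective_unit₁ : Sheaf.IsLocallySurjective ((adj₁ X).unit.app F) where
  imageSieve_mem {U} s := by
    apply mem_smallEtaleTopology_of_forall_exists
    intro y
    obtain ⟨_, ⟨O, hO, rfl⟩, hyO, -⟩ := U.left.isBasis_affineOpens.exists_subset_of_mem_open
      (Set.mem_univ y) isOpen_univ
    haveI : Etale U.hom := U.prop
    let Y : X.Etale := etMk (Scheme.Opens.ι O ≫ U.hom)
    let m : Y ⟶ U := MorphismProperty.Over.homMk (Scheme.Opens.ι O) rfl
    haveI : IsAffine Y.left := hO
    refine ⟨Y, m, ?_, ⟨y, hyO⟩, rfl⟩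
    obtain ⟨b, hb⟩ := toPull_surjective F Y
      ((sheafify (Scheme.ProEt.topology X) (lanP F.obj)).map ((eps X).map m).op s)
    refine ⟨b, ?_⟩
    rw [unit_hom_app]
    exact hb

instance isIso_unit₁ : IsIso ((adj₁ X).unit.app F) := by
  haveI : Epi ((adj₁ X).unit.app F) := Sheaf.epi_of_isLocallySurjective _
  exact isIso_of_mono_of_epi _

/-- **Bhatt–Scholze 5.1.2**: the unit `F ⟶ ε_* ε⁻¹ F` is an isomorphism. -/
theorem isIso_unit_epsAdj : IsIso ((ProEtS.epsAdj X).unit.app F) := by
  have h := Adjunction.unit_leftAdjointUniq_hom_app (ProEtS.epsAdj X) (adj₁ X) F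
  have h2 : (ProEtS.epsAdj X).unit.app F = (adj₁ X).unit.app F ≫
      (ProEtS.epsPush X).map (((ProEtS.epsAdj X).leftAdjointUniq (adj₁ X)).inv.app F) := by
    rw [← h, Category.assoc, ← Functor.map_comp, Iso.hom_inv_id_app,
      CategoryTheory.Functor.map_id]
    exact (Category.comp_id _).symm
  rw [h2]
  infer_instance

end unit

end Groth.Agent.Lib.ProEtEps22
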