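import Groth.Agent.Lib.ProEtEps22j
import Groth.Prelude.Def_EtModW
import Mathlib.Algebra.Category.ModuleCat.FilteredColimits

/-!
# The comparison functor `ε` for sheaves of modules, part 1 (helper22)

Module-valued version of `ProEtEps22a`–`ProEtEps22f` (germ calculus, spreading out).
-/

set_option autoImplicit false
set_option linter.style.haveILetI false
universe u

open CategoryTheory AlgebraicGeometry Limits MorphismProperty Opposite TopologicalSpace ProEtS

namespace Groth.Agent.Lib.ProEtEpsMod22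

open Groth.Agent.Lib.ProEtLan22 Groth.Agent.Lib.ProEtWC22 Groth.Agent.Lib.ProEtEps22

variable {X : Scheme.{u}} {Λ : Type (u + 1)} [CommRing Λ]

section germs

variable (F : X.Etaleᵒᵖ ⥤ (ModuleCat.{u + 1} Λ))

/-- The left Kan extension presheaf `ε^p F`. -/
noncomputable abbrev lanP : X.ProEtᵒᵖ ⥤ (ModuleCat.{u + 1} Λ) := (eps X).op.lan.obj F

/-- The unit `F ⟶ ε_* ε^p F`. -/
noncomputable abbrev lanα : F ⟶ (eps X).op ⋙ lanP F := (eps X).op.lanUnit.app F

/-- The underlying presheaves of sets. -/
noncomputable abbrev F' : X.Etaleᵒᵖ ⥤ Type (u + 1) := F ⋙ forget (ModuleCat.{u + 1} Λ)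

noncomputable abbrev P' : X.ProEtᵒᵖ ⥤ Type (u + 1) := lanP F ⋙ forget (ModuleCat.{u + 1} Λ)

noncomputable abbrev α' : F' F ⟶ (eps X).op ⋙ P' F :=
  Functor.whiskerRight (lanα F) (forget (ModuleCat.{u + 1} Λ))

instance : PreservesFilteredColimitsOfSize.{u, u + 1} (forget (ModuleCat.{u + 1} Λ)) :=
  preservesFilteredColimitsOfSize_shrink.{u + 1, u + 1, u, u + 1} _

noncomputable def isColimitForgetCoconeAt (W : X.ProEt) :
    IsColimit ((forget (ModuleCat.{u + 1} Λ)).mapCocone
      ((Functor.LeftExtension.mk (lanP F) (lanα F)).coconeAt (op W))) := by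
  have hc : IsColimit ((Functor.LeftExtension.mk (lanP F) (lanα F)).coconeAt (op W)) :=
    Functor.isPointwiseLeftKanExtensionOfIsLeftKanExtension (lanP F) (lanα F) (op W)
  exact isColimitOfPreserves (forget (ModuleCat.{u + 1} Λ)) hc

theorem hasRep : HasRep (eps X) (F' F) (P' F) (α' F) := by
  intro W x
  obtain ⟨j, y, hy⟩ := Types.jointly_surjective_of_isColimit (isColimitForgetCoconeAt F W) x
  exact ⟨j.left.unop, j.hom.unop, y, hy⟩

theorem hasEq : HasEq (eps X) (F' F) (P' F) (α' F) := by
  intro W V V' g g' a a' h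
  let i : CostructuredArrow (eps X).op (op W) := CostructuredArrow.mk (Y := op V) g.op
  let i' : CostructuredArrow (eps X).op (op W) := CostructuredArrow.mk (Y := op V') g'.op
  have h' : ((forget (ModuleCat.{u + 1} Λ)).mapCocone
      ((Functor.LeftExtension.mk (lanP F) (lanα F)).coconeAt (op W))).ι.app i a =
      ((forget (ModuleCat.{u + 1} Λ)).mapCocone
      ((Functor.LeftExtension.mk (lanP F) (lanα F)).coconeAt (op W))).ι.app i' a' := h
  obtain ⟨k, m, m', hk⟩ :=
    (Types.FilteredColimit.isColimit_eq_iff _ (isColimitForgetCoconeAt F W)).1 h'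
  refine ⟨k.left.unop, k.hom.unop, m.left.unop, m'.left.unop, ?_, ?_, hk⟩
  · exact congrArg Quiver.Hom.unop (CostructuredArrow.w m)
  · exact congrArg Quiver.Hom.unop (CostructuredArrow.w m')

end germs

/-- Abelian version of `toSheafify_bijective_of_gluesFinite`. -/
theorem toSheafify_bijective_of_gluesFinite_mod (P : X.ProEtᵒᵖ ⥤ (ModuleCat.{u + 1} Λ))
    (U : X.ProEt) (hU : HasClopenRefinements U)
    (hF : GluesFinite (P ⋙ forget (ModuleCat.{u + 1} Λ)) U) :
    Function.Bijective ((toSheafify (Scheme.ProEt.topology X) P).app (op U)) := by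
  let J := Scheme.ProEt.topology X
  let G : Sheaf J (ModuleCat.{u + 1} Λ) := (presheafToSheaf J _).obj P
  let G' : Sheaf J (Type (u + 1)) := (sheafCompose J (forget (ModuleCat.{u + 1} Λ))).obj G
  constructor
  · intro a b hab
    have hmem := Presheaf.equalizerSieve_mem J (toSheafify J P) a b hab
    obtain ⟨n, W, -, hdis, hunion, hW⟩ := hU _ hmem
    have hdis' : Pairwise (fun k l => Disjoint (W k) (W l)) := fun k l hkl =>
      (Opens.coe_disjoint).1 (hdis hkl)
    obtain ⟨s, -, hs⟩ := hF n W (isOpenCover_of_iUnion_eq_univ W hunion) hdis'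
      (fun k => P.map (opensHom U (W k)).op a)
    rw [hs a (fun k => rfl)]
    exact (hs b (fun k => (hW k).symm)).symm
  · intro s
    have hmem := Presheaf.imageSieve_mem J (toSheafify J P) s
    obtain ⟨n, W, -, hdis, hunion, hW⟩ := hU _ hmem
    have hdis' : Pairwise (fun k l => Disjoint (W k) (W l)) := fun k l hkl =>
      (Opens.coe_disjoint).1 (hdis hkl)
    choose t ht using hW
    obtain ⟨t0, ht0, -⟩ := hF n W (isOpenCover_of_iUnion_eq_univ W hunion) hdis' t
    refine ⟨t0, ?_⟩
    obtain ⟨s0, -, hs0⟩ := existsUnique_amalgamation G' U W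
      (isOpenCover_of_iUnion_eq_univ W hunion) hdis'
      (fun k => G.obj.map (opensHom U (W k)).op s)
    have e1 : s = s0 := hs0 s (fun k => rfl)
    have e2 : (toSheafify J P).app (op U) t0 = s0 := by
      apply hs0
      intro k
      have := ConcreteCategory.congr_hom ((toSheafify J P).naturality (opensHom U (W k)).op) t0
      dsimp at this
      change (sheafify J P).map (opensHom U (W k)).op ((toSheafify J P).app (op U) t0) = _
      rw [← this]
      have h2 : P.map (opensHom U (W k)).op t0 = t k := ht0 k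
      rw [h2]
      exact ht k
    rw [e1, e2]


section spreading

variable (F : EtModW.Mod Λ X)

/-- The underlying étale sheaf of sets. -/
theorem isSheaf_F' : Presieve.IsSheaf X.smallEtaleTopology (F' F.obj) :=
  (isSheaf_iff_isSheaf_of_type _ _).1
    ((sheafCompose X.smallEtaleTopology (forget (ModuleCat.{u + 1} Λ))).obj F).property

/-- The germ of a section of `F`. -/
noncomputable abbrev gm {W : X.ProEt} {V : X.Etale} (g : W ⟶ (eps X).obj V)
    (a : F.obj.obj (op V)) : (lanP F.obj).obj (op W) :=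
  germ (eps X) (F' F.obj) (P' F.obj) (α' F.obj) g a

theorem gm_map {W : X.ProEt} {V V' : X.Etale} (g : W ⟶ (eps X).obj V') (h : V' ⟶ V)
    (a : F.obj.obj (op V)) : gm F g (F.obj.map h.op a) = gm F (g ≫ (eps X).map h) a :=
  germ_map (eps X) (F' F.obj) (P' F.obj) (α' F.obj) g h a

theorem map_gm {W W' : X.ProEt} (i : W' ⟶ W) {V : X.Etale} (g : W ⟶ (eps X).obj V)
    (a : F.obj.obj (op V)) : (lanP F.obj).map i.op (gm F g a) = gm F (i ≫ g) a :=
  map_germ (eps X) (F' F.obj) (P' F.obj) (α' F.obj) i g a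

/-- `ε^p F → ε^{-1} F` is bijective on affine w-contractible objects. -/
theorem toSheafify_lanP_bijective (W : X.ProEt) [IsAffine W.left]
    (hW : EtPBC.IsWContractible Γ(W.left, ⊤)) :
    Function.Bijective ((toSheafify (Scheme.ProEt.topology X) (lanP F.obj)).app (op W)) :=
  toSheafify_bijective_of_gluesFinite_mod (lanP F.obj) W
    (hasClopenRefinements_of_isWContractible W hW)
    (gluesFinite_of_lanData (hasRep F.obj) (hasEq F.obj)
      (hasWeakCoprod_etale (F' F.obj) (isSheaf_F' F)) W)

namespace PresMod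

variable {F} {V : X.Etale} (R : Pres V)

/-- The structure morphisms to `X` as a natural transformation. -/
noncomputable def tX : (R.Wd ⋙ forgetSch X) ⟶ (Functor.const R.I).obj X where
  app i := (R.Wd.obj i).hom
  naturality i j f := by
    have h : (R.Wd.map f).left ≫ (R.Wd.obj j).hom = (R.Wd.obj i).hom :=
      MorphismProperty.Over.w (R.Wd.map f)
    exact h.trans (Category.comp_id _).symm

/-- Every section of `ε^p F` over `W` is a germ along some `pr i`. -/
theorem exists_gm_pr (hlim : IsLimit R.cone) (x : (lanP F.obj).obj (op R.W)) :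
    ∃ (i : R.I) (a : F.obj.obj (op (R.Wd.obj i))), gm F (R.pr i) a = x := by
  obtain ⟨V₀, g₀, a₀, rfl⟩ := hasRep F.obj R.W x
  haveI : ∀ {i j : R.I} (f : i ⟶ j), IsAffineHom ((R.Wd ⋙ forgetSch X).map f) := fun f =>
    inferInstanceAs (IsAffineHom (R.Wd.map f).left)
  haveI : ∀ i, CompactSpace ((R.Wd ⋙ forgetSch X).obj i) := fun i =>
    inferInstanceAs (CompactSpace (R.Wd.obj i).left)
  haveI : ∀ i, QuasiSeparatedSpace ((R.Wd ⋙ forgetSch X).obj i) := fun i =>
    inferInstanceAs (QuasiSeparatedSpace (R.Wd.obj i).left)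
  haveI : LocallyOfFinitePresentation V₀.hom := inferInstance
  have ha : R.cone.π ≫ R.tX = (Functor.const _).map (g₀.left ≫ V₀.hom) := by
    ext i : 2
    have h1 : (R.pr i).left ≫ (R.Wd.obj i).hom = R.W.hom := MorphismProperty.Over.w (R.pr i)
    have h2 : g₀.left ≫ V₀.hom = R.W.hom := MorphismProperty.Over.w g₀
    exact h1.trans h2.symm
  obtain ⟨i, g, hg1, hg2⟩ := Scheme.exists_π_app_comp_eq_of_locallyOfFinitePresentation
    (R.Wd ⋙ forgetSch X) R.tX V₀.hom R.cone hlim g₀.left ha
  let m : R.Wd.obj i ⟶ V₀ := MorphismProperty.Over.homMk g hg2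
  have hm : R.pr i ≫ (eps X).map m = g₀ := hom_ext' hg1
  refine ⟨i, F.obj.map m.op a₀, ?_⟩
  rw [gm_map, hm]

end PresMod

/-- Two sections of an étale sheaf agreeing on a family hitting every point are equal. -/
theorem F_ext_of_forall_exists {U : X.Etale} (c₁ c₂ : F.obj.obj (op U))
    (h : ∀ y : U.left, ∃ (Y : X.Etale) (m : Y ⟶ U),
      F.obj.map m.op c₁ = F.obj.map m.op c₂ ∧ y ∈ Set.range m.left) : c₁ = c₂ := by
  let S : Sieve U :=
    { arrows := fun Y m => F.obj.map m.op c₁ = F.obj.map m.op c₂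
      downward_closed := fun {Y Z m} hm g => by
        change F.obj.map (g ≫ m).op c₁ = F.obj.map (g ≫ m).op c₂
        rw [op_comp, F.obj.map_comp]
        exact congrArg (fun t => F.obj.map g.op t) hm }
  have hS : S ∈ X.smallEtaleTopology U := mem_smallEtaleTopology_of_forall_exists S h
  exact ((isSheaf_F' F).isSeparated S hS).ext (fun Y m hm => hm)


end spreading

end Groth.Agent.Lib.ProEtEpsMod22
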