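import Groth.Agent.Lib.ProEtEpsMod22a
import Groth.Agent.Lib.ProEtAdicLim22

/-!
# The comparison functor `ε` for sheaves of modules, part 2 (helper22)

Module-valued version of `ProEtEps22g`–`ProEtEps22j`: the unit `F ⟶ ε_* ε⁻¹ F` is an isomorphism
for sheaves of `Λ`-modules.
-/

set_option autoImplicit false
set_option linter.style.haveILetI false
universe u

open CategoryTheory AlgebraicGeometry Limits MorphismProperty Opposite TopologicalSpace ProEtS

namespace Groth.Agent.Lib.ProEtEpsMod22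

open Groth.Agent.Lib.ProEtLan22 Groth.Agent.Lib.ProEtWC22 Groth.Agent.Lib.ProEtEps22

variable {X : Scheme.{u}} {Λ : Type (u + 1)} [CommRing Λ] {F : EtModW.Mod Λ X}

namespace PresMod

variable {V : X.Etale} (R : Pres V)

theorem exists_descent_index [IsAffine V.left] (hlim : IsLimit R.cone) (i : R.I)
    (a : F.obj.obj (op (R.Wd.obj i)))
    (h : (toSheafify (Scheme.ProEt.topology X) (lanP F.obj)).app (op R.W2)
        ((lanP F.obj).map R.p1.op (gm F (R.pr i) a)) =
      (toSheafify (Scheme.ProEt.topology X) (lanP F.obj)).app (op R.W2)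
        ((lanP F.obj).map R.p2.op (gm F (R.pr i) a))) :
    ∃ (j : R.I) (f : j ⟶ i),
      F.obj.map (selfProd.fst (R.toV j)).op (F.obj.map (R.Wd.map f).op a) =
        F.obj.map (selfProd.snd (R.toV j)).op (F.obj.map (R.Wd.map f).op a) := by
  let J := Scheme.ProEt.topology X
  let b₁ : F.obj.obj (op (R.T i)) := F.obj.map (selfProd.fst (R.toV i)).op a
  let b₂ : F.obj.obj (op (R.T i)) := F.obj.map (selfProd.snd (R.toV i)).op a
  have e₁ : (lanP F.obj).map R.p1.op (gm F (R.pr i) a) = gm F (R.c i) b₁ := by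
    rw [map_gm, gm_map, R.c_fst]
  have e₂ : (lanP F.obj).map R.p2.op (gm F (R.pr i) a) = gm F (R.c i) b₂ := by
    rw [map_gm, gm_map, R.c_snd]
  rw [e₁, e₂] at h
  have hmem := Presheaf.equalizerSieve_mem J (toSheafify J (lanP F.obj)) _ _ h
  obtain ⟨n, Z, r, hZ, hr, hsurj⟩ := exists_finite_affine_refinement R.W2 _ hmem
  have key : ∀ k : Fin n, ∃ (V'' : X.Etale) (g'' : Z k ⟶ (eps X).obj V'') (m : V'' ⟶ R.T i),
      g'' ≫ (eps X).map m = r k ≫ R.c i ∧ F.obj.map m.op b₁ = F.obj.map m.op b₂ := by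
    intro k
    have h1 : gm F (r k ≫ R.c i) b₁ = gm F (r k ≫ R.c i) b₂ := by
      rw [← map_gm, ← map_gm]
      exact hr k
    exact hasEq_same (hasEq F.obj) (r k ≫ R.c i) b₁ b₂ h1
  choose V'' g'' m hm1 hm2 using key
  -- the open subset covered by the `m k`
  let Ω : (R.K.obj i).Opens := ⨆ k, ⟨Set.range (m k).left, (m k).left.isOpenMap.isOpen_range⟩
  have hΩ : R.cone2.π.app i ⁻¹ᵁ Ω = ⊤ := by
    rw [eq_top_iff]
    intro z _
    obtain ⟨k, y, hy⟩ := hsurj z
    change R.cone2.π.app i z ∈ Ω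
    rw [Opens.mem_iSup]
    refine ⟨k, (g'' k).left y, ?_⟩
    have h1 : (g'' k).left ≫ (m k).left = (r k).left ≫ (R.c i).left :=
      congrArg (fun t => t.left) (hm1 k)
    have h2 : ((g'' k).left ≫ (m k).left) y = ((r k).left ≫ (R.c i).left) y :=
      congrArg (fun t : (Z k).left ⟶ R.K.obj i => t y) h1
    have h3 : (m k).left ((g'' k).left y) = (R.c i).left ((r k).left y) :=
      (Scheme.Hom.comp_apply _ _ _).symm.trans (h2.trans (Scheme.Hom.comp_apply _ _ _))
    exact h3.trans (congrArg (fun t => (R.c i).left t) hy)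
  haveI : IsAffine ((eps X).obj V).left := ‹IsAffine V.left›
  haveI hWdaff : ∀ i, IsAffine ((R.Wd ⋙ forgetSch X).obj i) := fun i =>
    inferInstanceAs (IsAffine (R.Wd.obj i).left)
  haveI : ∀ i, IsAffine (R.K.obj i) := fun i =>
    inferInstanceAs (IsAffine (pullback (R.tV i) (R.tV i)))
  haveI : ∀ {i j : R.I} (f : i ⟶ j), IsAffineHom (R.K.map f) := fun f => inferInstance
  haveI : ∀ i, CompactSpace (R.K.obj i) := fun i => inferInstance
  obtain ⟨j, f, hj⟩ := exists_map_eq_top R.K R.cone2 (R.isLimitCone2 hlim) Ω hΩ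
  refine ⟨j, f, ?_⟩
  apply F_ext_of_forall_exists
  intro y
  have hy : R.K.map f y ∈ Ω := by
    have : y ∈ R.K.map f ⁻¹ᵁ Ω := by rw [hj]; trivial
    exact this
  rw [Opens.mem_iSup] at hy
  obtain ⟨k, v, hv⟩ := hy
  -- the fibre product of `T j → T i ← V'' k`
  have hTj : R.K.map f ≫ (R.T i).hom = (R.T j).hom := MorphismProperty.Over.w (R.τ f)
  have hVk : (m k).left ≫ (R.T i).hom = (V'' k).hom := MorphismProperty.Over.w (m k)
  let mk' : (V'' k).left ⟶ R.K.obj i := (m k).left
  haveI : Etale mk' := inferInstanceAs (Etale (m k).left)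
  let q : R.K.obj j ⟶ X := (R.T j).hom
  haveI : Etale q := (R.T j).prop
  haveI : Etale (pullback.fst (R.K.map f) mk') := inferInstance
  haveI : Etale (pullback.fst (R.K.map f) mk' ≫ q) := inferInstance
  let Y : X.Etale := etMk (pullback.fst (R.K.map f) mk' ≫ q)
  let μ : Y ⟶ R.T j := MorphismProperty.Over.homMk
    (show Y.left ⟶ (R.T j).left from pullback.fst (R.K.map f) mk') rfl
  let μ' : Y ⟶ V'' k := MorphismProperty.Over.homMk
    (show Y.left ⟶ (V'' k).left from pullback.snd (R.K.map f) mk')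
    ((Groth.Agent.Lib.PullbackDiag22.comp_eq_of_sq
      (pullback.condition (f := R.K.map f) (g := mk')) hVk).symm.trans
      (congrArg (fun t => pullback.fst (R.K.map f) mk' ≫ t) hTj))
  have hμ : μ ≫ R.τ f = μ' ≫ m k := et_hom_ext pullback.condition
  refine ⟨Y, μ, ?_, ?_⟩
  · -- the two sections agree on `Y`
    have step : ∀ (q : ∀ l, R.T l ⟶ R.Wd.obj l)
        (hq : R.τ f ≫ q i = q j ≫ R.Wd.map f),
        F.obj.map μ.op (F.obj.map (q j).op (F.obj.map (R.Wd.map f).op a)) =
          F.obj.map μ'.op (F.obj.map (m k).op (F.obj.map (q i).op a)) := by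
      intro q hq
      have h1 : F.obj.map μ.op (F.obj.map (q j).op (F.obj.map (R.Wd.map f).op a)) =
          F.obj.map (μ ≫ q j ≫ R.Wd.map f).op a := by
        rw [op_comp, op_comp, F.obj.map_comp, F.obj.map_comp]
        rfl
      have h2 : F.obj.map μ'.op (F.obj.map (m k).op (F.obj.map (q i).op a)) =
          F.obj.map (μ' ≫ m k ≫ q i).op a := by
        rw [op_comp, op_comp, F.obj.map_comp, F.obj.map_comp]
        rfl
      rw [h1, h2, ← hq, ← Category.assoc, hμ, Category.assoc]
    rw [step (fun l => selfProd.fst (R.toV l)) (R.τ_fst f),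
      step (fun l => selfProd.snd (R.toV l)) (R.τ_snd f)]
    exact congrArg (fun t => F.obj.map μ'.op t) (hm2 k)
  · obtain ⟨z, hz1, -⟩ := Scheme.Pullback.exists_preimage_pullback y v hv.symm
    exact ⟨z, hz1⟩

end PresMod


/-- Descent of sections of an étale sheaf along a surjective morphism of `X.Etale`. -/
theorem exists_descent {A B : X.Etale} (p : A ⟶ B) (hp : Function.Surjective p.left)
    (a : F.obj.obj (op A))
    (h : F.obj.map (selfProd.fst p).op a = F.obj.map (selfProd.snd p).op a) :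
    ∃ b : F.obj.obj (op B), F.obj.map p.op b = a := by
  have hS : Sieve.generate (Presieve.ofArrows (fun _ : Unit => A) (fun _ => p)) ∈
      X.smallEtaleTopology B := by
    apply mem_smallEtaleTopology_of_forall_exists
    intro y
    obtain ⟨z, hz⟩ := hp y
    exact ⟨A, p, Sieve.le_generate _ _ _ (Presieve.ofArrows.mk ()), z, hz⟩
  have hsh := (isSheaf_F' F) _ hS
  rw [← Presieve.isSheafFor_iff_generate, Presieve.isSheafFor_arrows_iff] at hsh
  obtain ⟨b, hb, -⟩ := hsh (fun _ => a) (by
    intro _ _ Z g₁ g₂ hg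
    obtain ⟨l, hl1, hl2⟩ := selfProd.exists_lift p g₁ g₂ hg
    change F.obj.map g₁.op a = F.obj.map g₂.op a
    have e1 : F.obj.map g₁.op a = F.obj.map l.op (F.obj.map (selfProd.fst p).op a) := by
      rw [← hl1, op_comp, F.obj.map_comp]
      rfl
    have e2 : F.obj.map g₂.op a = F.obj.map l.op (F.obj.map (selfProd.snd p).op a) := by
      rw [← hl2, op_comp, F.obj.map_comp]
      rfl
    rw [e1, e2, h])
  exact ⟨b, hb ()⟩

namespace PresMod

variable {V : X.Etale} (R : Pres V)

/-- The key surjectivity statement: over an affine `V` admitting a w-contractible presentation,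
every section of `ε⁻¹ F` comes from `F (V)`. -/
theorem exists_preimage [IsAffine V.left] (hlim : IsLimit R.cone)
    (hsurj : Function.Surjective R.π.left) (hWC : EtPBC.IsWContractible Γ(R.W.left, ⊤))
    (s : (sheafify (Scheme.ProEt.topology X) (lanP F.obj)).obj (op ((eps X).obj V))) :
    ∃ b : F.obj.obj (op V),
      (toSheafify (Scheme.ProEt.topology X) (lanP F.obj)).app (op ((eps X).obj V))
        (gm F (𝟙 _) b) = s := by
  let J := Scheme.ProEt.topology X
  let G : Sheaf J (ModuleCat.{u + 1} Λ) := (presheafToSheaf J _).obj (lanP F.obj)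
  let η := toSheafify J (lanP F.obj)
  have ηnat : ∀ {W₁ W₂ : X.ProEt} (t : W₁ ⟶ W₂) (x : (lanP F.obj).obj (op W₂)),
      G.obj.map t.op (η.app (op W₂) x) = η.app (op W₁) ((lanP F.obj).map t.op x) := by
    intro W₁ W₂ t x
    exact (ConcreteCategory.congr_hom (η.naturality t.op) x).symm
  -- step 1: lift over `W`
  obtain ⟨x, hx⟩ := (toSheafify_lanP_bijective F R.W hWC).2 (G.obj.map R.π.op s)
  -- step 2: spread out
  obtain ⟨i, a, rfl⟩ := PresMod.exists_gm_pr R hlim x
  -- step 3: the descent condition holds at a finite stage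
  have hcond : η.app (op R.W2) ((lanP F.obj).map R.p1.op (gm F (R.pr i) a)) =
      η.app (op R.W2) ((lanP F.obj).map R.p2.op (gm F (R.pr i) a)) := by
    rw [← ηnat, ← ηnat]
    change G.obj.map R.p1.op (η.app (op R.W) (gm F (R.pr i) a)) =
      G.obj.map R.p2.op (η.app (op R.W) (gm F (R.pr i) a))
    rw [hx]
    have e1 : G.obj.map R.p1.op (G.obj.map R.π.op s) = G.obj.map (R.p1 ≫ R.π).op s := by
      rw [op_comp, G.obj.map_comp]
      rfl
    have e2 : G.obj.map R.p2.op (G.obj.map R.π.op s) = G.obj.map (R.p2 ≫ R.π).op s := by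
      rw [op_comp, G.obj.map_comp]
      rfl
    rw [e1, e2, R.p_condition]
  obtain ⟨j, f, hj⟩ := PresMod.exists_descent_index R hlim i a hcond
  -- step 4: descend
  have hsurj' : Function.Surjective (R.toV j).left := by
    intro v
    obtain ⟨w, hw⟩ := hsurj v
    refine ⟨(R.pr j).left w, ?_⟩
    have h1 : (R.pr j).left ≫ (R.toV j).left = R.π.left :=
      congrArg (fun m => m.left) (R.π_w j)
    rw [← hw, ← h1]
    exact (Scheme.Hom.comp_apply _ _ _).symm
  obtain ⟨b, hb⟩ := exists_descent (R.toV j) hsurj' _ hj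
  refine ⟨b, ?_⟩
  -- step 5: check the equality after restriction to `W`
  have hgerm : gm F R.π b = gm F (R.pr i) a := by
    calc gm F R.π b = gm F (R.pr j ≫ (eps X).map (R.toV j)) b := by rw [R.π_w j]
      _ = gm F (R.pr j) (F.obj.map (R.toV j).op b) := (gm_map F _ _ _).symm
      _ = gm F (R.pr j) (F.obj.map (R.Wd.map f).op a) := by rw [hb]
      _ = gm F (R.pr j ≫ (eps X).map (R.Wd.map f)) a := gm_map F _ _ _
      _ = gm F (R.pr i) a := by rw [R.pr_w f]
  have hres : G.obj.map R.π.op (η.app (op ((eps X).obj V)) (gm F (𝟙 _) b)) =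
      G.obj.map R.π.op s := by
    rw [ηnat, map_gm, Category.comp_id, hgerm]
    exact hx
  haveI : IsAffine ((eps X).obj V).left := ‹IsAffine V.left›
  have hcov : Sieve.generate (Presieve.ofArrows (fun _ : Unit => R.W) (fun _ => R.π)) ∈
      J ((eps X).obj V) := by
    apply Groth.Agent.Lib.ProEtExtZero22.generate_finite_affine_mem
    intro v
    obtain ⟨w, hw⟩ := hsurj v
    exact ⟨(), w, hw⟩
  have hS : Presieve.IsSheaf J (G.obj ⋙ forget (ModuleCat.{u + 1} Λ)) :=
    (isSheaf_iff_isSheaf_of_type _ _).1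
      ((sheafCompose J (forget (ModuleCat.{u + 1} Λ))).obj G).property
  refine (hS _ hcov).isSeparatedFor.ext ?_
  rintro Y t ⟨T, a', b', ⟨k⟩, rfl⟩
  change G.obj.map (a' ≫ R.π).op _ = G.obj.map (a' ≫ R.π).op s
  rw [op_comp, G.obj.map_comp]
  exact congrArg (fun z => G.obj.map a'.op z) hres

end PresMod


section

variable (F : EtModW.Mod Λ X)

theorem gm_id {V : X.Etale} (b : F.obj.obj (op V)) :
    gm F (𝟙 ((eps X).obj V)) b = (lanα F.obj).app (op V) b := by
  have h := ConcreteCategory.congr_hom ((lanP F.obj).map_id (op ((eps X).obj V)))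
    ((lanα F.obj).app (op V) b)
  exact h

/-- The map `F (V) → ε⁻¹ F (ε V)`. -/
noncomputable abbrev toPull (V : X.Etale) (b : F.obj.obj (op V)) :
    (sheafify (Scheme.ProEt.topology X) (lanP F.obj)).obj (op ((eps X).obj V)) :=
  (toSheafify (Scheme.ProEt.topology X) (lanP F.obj)).app (op ((eps X).obj V)) (gm F (𝟙 _) b)

/-- Injectivity of `F (V) → ε⁻¹ F (ε V)`. -/
theorem toPull_injective (V : X.Etale) : Function.Injective (toPull F V) := by
  intro a a' h
  have hmem := Presheaf.equalizerSieve_mem (Scheme.ProEt.topology X)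
    (toSheafify (Scheme.ProEt.topology X) (lanP F.obj)) _ _ h
  apply F_ext_of_forall_exists
  intro y
  obtain ⟨W, g, hg, w, hw⟩ :=
    Groth.Agent.Lib.ProEtGeomPt22.exists_mem_range_of_mem_topology ((eps X).obj V) _ hmem y
  have h1 : gm F (g ≫ 𝟙 _) a = gm F (g ≫ 𝟙 _) a' := by
    rw [← map_gm, ← map_gm]
    exact hg
  obtain ⟨V'', g'', m, hm1, hm2⟩ := hasEq_same (hasEq F.obj) (g ≫ 𝟙 _) a a' h1
  refine ⟨V'', m, hm2, g''.left w, ?_⟩
  have h2 : g''.left ≫ m.left = g.left := by
    have := congrArg (fun t => t.left) hm1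
    exact this.trans (congrArg (fun t => t.left) (Category.comp_id g))
  rw [← hw, ← h2]
  exact (Scheme.Hom.comp_apply _ _ _).symm

/-- Surjectivity of `F (V) → ε⁻¹ F (ε V)` for affine `V`. -/
theorem toPull_surjective (V : X.Etale) [IsAffine V.left] : Function.Surjective (toPull F V) := by
  intro s
  obtain ⟨R, ⟨hlim⟩, hsurj, hWC⟩ := exists_pres V
  exact PresMod.exists_preimage R hlim hsurj hWC s

end

section unit

variable [ProEtS.EpsCont X] (F : EtModW.Mod Λ X)

/-- The explicit adjunction `ε⁻¹ ⊣ ε_*` built from the left Kan extension. -/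
noncomputable abbrev adj₁ (Λ : Type (u + 1)) [CommRing Λ] (X : Scheme.{u}) [ProEtS.EpsCont X] :=
  Functor.sheafPullbackConstruction.sheafAdjunctionContinuous (eps X) (ModuleCat.{u + 1} Λ)
    X.smallEtaleTopology (Scheme.ProEt.topology X)

theorem unit_hom : ((adj₁ Λ X).unit.app F).hom =
    lanα F.obj ≫ Functor.whiskerLeft (eps X).op
      (toSheafify (Scheme.ProEt.topology X) (lanP F.obj)) := by
  have h : (sheafToPresheaf _ _).map ((adj₁ Λ X).unit.app F) = _ :=
    Adjunction.map_restrictFullyFaithful_unit_app _ _ _ _ _ F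
  refine h.trans ?_
  simp only [Adjunction.comp_unit_app, Iso.refl_hom, NatTrans.id_app,
    CategoryTheory.Functor.map_id, Category.comp_id, sheafificationAdjunction_unit_app,
    Functor.lanAdjunction_unit]
  rfl

theorem unit_hom_app (V : X.Etale) (b : F.obj.obj (op V)) :
    ((adj₁ Λ X).unit.app F).hom.app (op V) b = toPull F V b := by
  rw [unit_hom]
  change (toSheafify (Scheme.ProEt.topology X) (lanP F.obj)).app (op ((eps X).obj V))
    ((lanα F.obj).app (op V) b) = _
  rw [← gm_id]

instance mono_unit₁ : Mono ((adj₁ Λ X).unit.app F) := by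
  refine ⟨fun {Z} g h hgh => ?_⟩
  apply Sheaf.hom_ext
  apply NatTrans.ext
  funext V
  apply ModuleCat.hom_ext
  apply LinearMap.ext
  intro z
  apply toPull_injective F V.unop
  rw [← unit_hom_app, ← unit_hom_app]
  exact congrArg (fun t => (t.hom.app V).hom z) hgh

instance isLocallySurjective_unit₁ : Sheaf.IsLocallySurjective ((adj₁ Λ X).unit.app F) where
  imageSieve_mem {U} s := by
    apply mem_smallEtaleTopology_of_forall_exists
    intro y
    obtain ⟨_, ⟨O, hO, rfl⟩, hyO, -⟩ := U.left.isBasis_affineOpens.exists_subset_of_mem_open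
      (Set.mem_univ y) isOpen_univ
    haveI : Etale U.hom := U.prop
    let Y : X.Etale := etMk (Scheme.Opens.ι O ≫ U.hom)
    let m : Y ⟶ U := MorphismProperty.Over.homMk (Scheme.Opens.ι O) rfl
    haveI : IsAffine Y.left := hO
    refine ⟨Y, m, ?_, ⟨y, hyO⟩, rfl⟩
    obtain ⟨b, hb⟩ := toPull_surjective F Y
      ((sheafify (Scheme.ProEt.topology X) (lanP F.obj)).map ((eps X).map m).op s)
    refine ⟨b, ?_⟩
    rw [unit_hom_app]
    exact hb

instance isIso_unit₁ : IsIso ((adj₁ Λ X).unit.app F) := by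
  haveI : Epi ((adj₁ Λ X).unit.app F) := Sheaf.epi_of_isLocallySurjective _
  exact isIso_of_mono_of_epi _

open Groth.Agent.Lib.ProEtAdicLim22 in
/-- **Bhatt–Scholze 5.1.2** for sheaves of modules: the unit `F ⟶ ε_* ε⁻¹ F` is an isomorphism. -/
theorem isIso_unit_epsAdjMod : IsIso ((epsAdjMod Λ X).unit.app F) := by
  have h := Adjunction.unit_leftAdjointUniq_hom_app (epsAdjMod Λ X) (adj₁ Λ X) F
  have h2 : (epsAdjMod Λ X).unit.app F = (adj₁ Λ X).unit.app F ≫
      ((eps X).sheafPushforwardContinuous (ModuleCat.{u + 1} Λ) X.smallEtaleTopology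
        (Scheme.ProEt.topology X)).map
        (((epsAdjMod Λ X).leftAdjointUniq (adj₁ Λ X)).inv.app F) := by
    rw [← h, Category.assoc, ← Functor.map_comp, Iso.hom_inv_id_app,
      CategoryTheory.Functor.map_id]
    exact (Category.comp_id _).symm
  rw [h2]
  infer_instance

end unit


end Groth.Agent.Lib.ProEtEpsMod22
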