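import Mathlib.CategoryTheory.Limits.Shapes.Pullback.HasPullback
import Mathlib.CategoryTheory.Limits.IsLimit
import Mathlib.CategoryTheory.Filtered.Basic

/-!
# Base change of a cofiltered limit along a morphism to a common target (helper22)

Given `D : I ⥤ C` with a natural family `t i : D.obj i ⟶ V` and `z : Z ⟶ V`, `constProdDiag` is the
diagram `i ↦ Z ×_V D i`; a limit cone of `D` induces a limit cone of `constProdDiag` with vertex
`Z ×_V c.pt` (for `I` cofiltered).
-/

set_option autoImplicit false
universe v u w w'

open CategoryTheory Limits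

namespace Groth.Agent.Lib.PullbackDiag22c

variable {C : Type u} [Category.{v} C] [HasPullbacks C] {I : Type w} [Category.{w'} I]
  (D : I ⥤ C) {V Z : C} (t : ∀ i, D.obj i ⟶ V)
  (ht : ∀ {i j : I} (f : i ⟶ j), D.map f ≫ t j = t i) (z : Z ⟶ V)

/-- The transition maps of the diagram `i ↦ Z ×_V D i`. -/
noncomputable def cpMap {i j : I} (f : i ⟶ j) : pullback z (t i) ⟶ pullback z (t j) :=
  pullback.lift (pullback.fst _ _) (pullback.snd _ _ ≫ D.map f) (by
    rw [Category.assoc, ht f, pullback.condition])

@[simp] lemma cpMap_fst {i j : I} (f : i ⟶ j) :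
    cpMap D t ht z f ≫ pullback.fst _ _ = pullback.fst _ _ :=
  pullback.lift_fst _ _ _

@[simp] lemma cpMap_snd {i j : I} (f : i ⟶ j) :
    cpMap D t ht z f ≫ pullback.snd _ _ = pullback.snd _ _ ≫ D.map f :=
  pullback.lift_snd _ _ _

/-- The diagram `i ↦ Z ×_V D i`. -/
noncomputable def constProdDiag : I ⥤ C where
  obj i := pullback z (t i)
  map {i j} f := cpMap D t ht z f
  map_id i := by
    apply pullback.hom_ext
    · rw [cpMap_fst, Category.id_comp]
    · rw [cpMap_snd, D.map_id, Category.comp_id, Category.id_comp]
  map_comp {i j k} f g := by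
    apply pullback.hom_ext
    · rw [cpMap_fst, Category.assoc, cpMap_fst, cpMap_fst]
    · rw [cpMap_snd, Category.assoc, cpMap_snd, ← Category.assoc, cpMap_snd,
        D.map_comp, Category.assoc]

variable (c : Cone D) (π : c.pt ⟶ V) (hπ : ∀ i, c.π.app i ≫ t i = π)

/-- The comparison maps `Z ×_V P ⟶ Z ×_V D i`. -/
noncomputable def cpProj (i : I) : pullback z π ⟶ pullback z (t i) :=
  pullback.lift (pullback.fst _ _) (pullback.snd _ _ ≫ c.π.app i) (by
    rw [Category.assoc, hπ i, pullback.condition])

@[simp] lemma cpProj_fst (i : I) :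
    cpProj D t z c π hπ i ≫ pullback.fst _ _ = pullback.fst _ _ :=
  pullback.lift_fst _ _ _

@[simp] lemma cpProj_snd (i : I) :
    cpProj D t z c π hπ i ≫ pullback.snd _ _ = pullback.snd _ _ ≫ c.π.app i :=
  pullback.lift_snd _ _ _

lemma cpProj_comp {i j : I} (f : i ⟶ j) :
    cpProj D t z c π hπ i ≫ cpMap D t ht z f = cpProj D t z c π hπ j := by
  apply pullback.hom_ext
  · rw [Category.assoc, cpMap_fst, cpProj_fst, cpProj_fst]
  · rw [Category.assoc, cpMap_snd, ← Category.assoc, cpProj_snd, Category.assoc, c.w f,
      cpProj_snd]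

/-- The cone over `constProdDiag` with vertex `Z ×_V P`. -/
noncomputable abbrev coneCP : Cone (constProdDiag D t ht z) where
  pt := pullback z π
  π :=
    { app := fun i => cpProj D t z c π hπ i
      naturality := fun _ _ f => (Category.id_comp _).trans (cpProj_comp D t ht z c π hπ f).symm }

/-- The auxiliary cone over `D` used to lift. -/
noncomputable abbrev auxCone (s : Cone (constProdDiag D t ht z)) : Cone D where
  pt := s.pt
  π :=
    { app := fun i => s.π.app i ≫ pullback.snd z (t i)
      naturality := fun i j f => by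
        have h := s.w f
        refine (Category.id_comp _).trans ?_
        have h2 : s.π.app j ≫ pullback.snd z (t j) =
            (s.π.app i ≫ pullback.snd z (t i)) ≫ D.map f := by
          rw [← h, Category.assoc, Category.assoc]
          exact congrArg (fun m => s.π.app i ≫ m) (cpMap_snd D t ht z f)
        simpa using h2 }

lemma fst_eq_of_hom (s : Cone (constProdDiag D t ht z)) {i j : I} (f : i ⟶ j) :
    s.π.app j ≫ pullback.fst z (t j) = s.π.app i ≫ pullback.fst z (t i) := by
  rw [← s.w f, Category.assoc]
  exact congrArg (fun m => s.π.app i ≫ m) (cpMap_fst D t ht z f)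

lemma fst_eq [IsCofiltered I] (s : Cone (constProdDiag D t ht z)) (i j : I) :
    s.π.app i ≫ pullback.fst z (t i) = s.π.app j ≫ pullback.fst z (t j) := by
  rw [fst_eq_of_hom D t ht z s (IsCofiltered.minToLeft i j),
    fst_eq_of_hom D t ht z s (IsCofiltered.minToRight i j)]

/-- The cone `coneCP` is a limit cone. -/
noncomputable def isLimitConeCP [IsCofiltered I] (hc : IsLimit c) :
    IsLimit (coneCP D t ht z c π hπ) :=
  let i₀ : I := (IsCofiltered.nonempty (C := I)).some
  { lift := fun s =>
      pullback.lift (s.π.app i₀ ≫ pullback.fst z (t i₀)) (hc.lift (auxCone D t ht z s)) (by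
        rw [← hπ i₀, ← Category.assoc, hc.fac]
        change _ = (s.π.app i₀ ≫ pullback.snd z (t i₀)) ≫ t i₀
        rw [Category.assoc, Category.assoc]
        exact congrArg (fun m => s.π.app i₀ ≫ m) pullback.condition)
    fac := fun s i => by
      apply pullback.hom_ext
      · change (_ ≫ cpProj D t z c π hπ i) ≫ _ = _
        rw [Category.assoc, cpProj_fst, pullback.lift_fst]
        exact fst_eq D t ht z s i₀ i
      · change (_ ≫ cpProj D t z c π hπ i) ≫ _ = _
        rw [Category.assoc, cpProj_snd, pullback.lift_snd_assoc, hc.fac]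
        rfl
    uniq := fun s m hm => by
      have hm' : ∀ i, m ≫ cpProj D t z c π hπ i = s.π.app i := hm
      apply pullback.hom_ext
      · rw [pullback.lift_fst, ← hm' i₀]
        have h0 : (m ≫ cpProj D t z c π hπ i₀) ≫ pullback.fst z (t i₀) =
            m ≫ pullback.fst z π := by
          rw [Category.assoc, cpProj_fst]
        exact h0.symm
      · rw [pullback.lift_snd]
        apply hc.uniq (auxCone D t ht z s)
        intro i
        have h1 : (m ≫ pullback.snd z π) ≫ c.π.app i =
            (m ≫ cpProj D t z c π hπ i) ≫ pullback.snd z (t i) := by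
          rw [Category.assoc, Category.assoc, cpProj_snd]
        refine h1.trans ?_
        rw [hm' i]
        rfl }

end Groth.Agent.Lib.PullbackDiag22c
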