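import Groth.Agent.Lib.ProEtLim22i
import Groth.Agent.Lib.PullbackDiag22c

/-!
# Extensions of classical sheaves on the pro-étale site, part 1: the objects (helper22)

For a presentation `R : Pres V` (a pro-étale cover `W = lim W_i ⟶ V`) we construct
* the tower `T_i = W_i ×_V W_i` as a functor, with limit `W2 = W ×_V W`;
* the objects `Q1 k = W ×_V W_k`, `Q2 k = W ×_V W ×_V W_k`, the tower `k ↦ Q2 k` and its limit
  `W3 = W ×_V W ×_V W`.
-/

set_option autoImplicit false
set_option linter.style.haveILetI false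
universe u

open CategoryTheory AlgebraicGeometry Limits MorphismProperty Opposite TopologicalSpace ProEtS

namespace Groth.Agent.Lib.ProEtExt22

open Groth.Agent.Lib.ProEtEps22 Groth.Agent.Lib.ProEtLan22 Groth.Agent.Lib.ProEtWC22
open Groth.Agent.Lib.ProEtLim22

variable {X : Scheme.{u}}

section epsSelfProd

variable {A B : X.Etale} (p : A ⟶ B)

/-- Morphisms into `ε (A ×_B A)`. -/
noncomputable def epsLift {Z : X.ProEt} (g₁ g₂ : Z ⟶ (eps X).obj A)
    (h : g₁ ≫ (eps X).map p = g₂ ≫ (eps X).map p) : Z ⟶ (eps X).obj (selfProd p) :=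
  MorphismProperty.Over.homMk
    (show Z.left ⟶ ((eps X).obj (selfProd p)).left from
      pullback.lift (f := p.left) (g := p.left) g₁.left g₂.left (congrArg (fun m => m.left) h)) (by
    change pullback.lift (f := p.left) (g := p.left) g₁.left g₂.left _ ≫
      pullback.fst p.left p.left ≫ A.hom = Z.hom
    rw [pullback.lift_fst_assoc]
    exact MorphismProperty.Over.w g₁)

variable {p}

@[simp] theorem epsLift_fst {Z : X.ProEt} (g₁ g₂ : Z ⟶ (eps X).obj A)
    (h : g₁ ≫ (eps X).map p = g₂ ≫ (eps X).map p) :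
    epsLift p g₁ g₂ h ≫ (eps X).map (selfProd.fst p) = g₁ :=
  hom_ext' (pullback.lift_fst _ _ _)

@[simp] theorem epsLift_snd {Z : X.ProEt} (g₁ g₂ : Z ⟶ (eps X).obj A)
    (h : g₁ ≫ (eps X).map p = g₂ ≫ (eps X).map p) :
    epsLift p g₁ g₂ h ≫ (eps X).map (selfProd.snd p) = g₂ :=
  hom_ext' (pullback.lift_snd _ _ _)

theorem eps_selfProd_hom_ext {Z : X.ProEt} {l l' : Z ⟶ (eps X).obj (selfProd p)}
    (h1 : l ≫ (eps X).map (selfProd.fst p) = l' ≫ (eps X).map (selfProd.fst p))
    (h2 : l ≫ (eps X).map (selfProd.snd p) = l' ≫ (eps X).map (selfProd.snd p)) : l = l' := by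
  apply hom_ext'
  apply pullback.hom_ext (f := p.left) (g := p.left)
  · exact congrArg (fun m => m.left) h1
  · exact congrArg (fun m => m.left) h2

end epsSelfProd

end Groth.Agent.Lib.ProEtExt22

namespace Groth.Agent.Lib.ProEtEps22.Pres

open Groth.Agent.Lib.ProEtEps22 Groth.Agent.Lib.ProEtLan22 Groth.Agent.Lib.ProEtWC22
open Groth.Agent.Lib.ProEtLim22 Groth.Agent.Lib.ProEtExt22

variable {X : Scheme.{u}} {V : X.Etale} (R : Pres V)

/-- The tower of self fibre products as a functor. -/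
noncomputable def Td : R.I ⥤ X.Etale where
  obj i := R.T i
  map f := R.τ f
  map_id i := et_hom_ext (R.K.map_id i)
  map_comp f g := et_hom_ext (R.K.map_comp f g)

lemma c_τ {i j : R.I} (f : i ⟶ j) : R.c i ≫ (eps X).map (R.τ f) = R.c j :=
  hom_ext' (R.cone2.w f)

/-- The cone over the tower of self fibre products with vertex `W2`. -/
noncomputable def coneT : Cone (R.Td ⋙ eps X) where
  pt := R.W2
  π :=
    { app := fun i => R.c i
      naturality := fun _ _ f => (Category.id_comp _).trans (R.c_τ f).symm }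

/-- `W2` is the limit of the `T i`. -/
noncomputable def isLimitConeT (hlim : IsLimit R.cone) : IsLimit (cs R.Td R.coneT) :=
  R.isLimitCone2 hlim

/-- The cone over the tower `W_i` with vertex `W`. -/
noncomputable def coneW : Cone (R.Wd ⋙ eps X) where
  pt := R.W
  π :=
    { app := fun i => R.pr i
      naturality := fun _ _ f => (Category.id_comp _).trans (R.pr_w f).symm }

/-- `W` is the limit of the `W_i`. -/
noncomputable def isLimitConeW (hlim : IsLimit R.cone) : IsLimit (cs R.Wd R.coneW) := hlim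

/-- The structure map `W2 ⟶ V`. -/
noncomputable abbrev π₂ : R.W2 ⟶ (eps X).obj V := R.p1 ≫ R.π

/-- `Q1 k = W ×_V W_k`. -/
noncomputable abbrev Q1 (k : R.I) : X.ProEt := peProd R.π ((eps X).map (R.toV k))

/-- `Q2 k = W ×_V W ×_V W_k`. -/
noncomputable abbrev Q2 (k : R.I) : X.ProEt := peProd R.π₂ ((eps X).map (R.toV k))

/-- `W3 = W ×_V W ×_V W`. -/
noncomputable abbrev W3 : X.ProEt := peProd R.π₂ R.π

lemma eps_toV_w {j k : R.I} (f : j ⟶ k) :
    (eps X).map (R.Wd.map f) ≫ (eps X).map (R.toV k) = (eps X).map (R.toV j) := by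
  rw [← Functor.map_comp, R.toV_w f]

/-- The transition maps of the tower `k ↦ Q2 k`. -/
noncomputable def Q2map {j k : R.I} (f : j ⟶ k) : R.Q2 j ⟶ R.Q2 k :=
  peProd.lift (peProd.fst _ _) (peProd.snd _ _ ≫ (eps X).map (R.Wd.map f)) (by
    rw [Category.assoc, R.eps_toV_w f, peProd.condition])

@[simp] lemma Q2map_fst {j k : R.I} (f : j ⟶ k) :
    R.Q2map f ≫ peProd.fst R.π₂ ((eps X).map (R.toV k)) =
      peProd.fst R.π₂ ((eps X).map (R.toV j)) :=
  peProd.lift_fst _ _ _

@[simp] lemma Q2map_snd {j k : R.I} (f : j ⟶ k) :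
    R.Q2map f ≫ peProd.snd R.π₂ ((eps X).map (R.toV k)) =
      peProd.snd R.π₂ ((eps X).map (R.toV j)) ≫ (eps X).map (R.Wd.map f) :=
  peProd.lift_snd _ _ _

/-- The tower `k ↦ Q2 k`. -/
noncomputable def Q2d : R.I ⥤ X.ProEt where
  obj k := R.Q2 k
  map f := R.Q2map f
  map_id k := by
    apply peProd.hom_ext
    · rw [Q2map_fst, Category.id_comp]
    · rw [Q2map_snd, R.Wd.map_id, (eps X).map_id, Category.comp_id, Category.id_comp]
  map_comp {i j k} f g := by
    apply peProd.hom_ext
    · rw [Q2map_fst, Category.assoc, Q2map_fst, Q2map_fst]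
    · rw [Q2map_snd, Category.assoc, Q2map_snd, ← Category.assoc, Q2map_snd, R.Wd.map_comp,
        (eps X).map_comp, Category.assoc]

/-- The projections `W3 ⟶ Q2 k`. -/
noncomputable def e3 (k : R.I) : R.W3 ⟶ R.Q2 k :=
  peProd.lift (peProd.fst _ _) (peProd.snd _ _ ≫ R.pr k) (by
    rw [Category.assoc, R.π_w k, peProd.condition])

@[simp] lemma e3_fst (k : R.I) :
    R.e3 k ≫ peProd.fst R.π₂ ((eps X).map (R.toV k)) = peProd.fst R.π₂ R.π :=
  peProd.lift_fst _ _ _

@[simp] lemma e3_snd (k : R.I) :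
    R.e3 k ≫ peProd.snd R.π₂ ((eps X).map (R.toV k)) = peProd.snd R.π₂ R.π ≫ R.pr k :=
  peProd.lift_snd _ _ _

lemma e3_Q2map {j k : R.I} (f : j ⟶ k) : R.e3 j ≫ R.Q2map f = R.e3 k := by
  apply peProd.hom_ext
  · rw [Category.assoc, Q2map_fst, e3_fst, e3_fst]
  · rw [Category.assoc, Q2map_snd, ← Category.assoc, e3_snd, Category.assoc, R.pr_w f, e3_snd]

/-- The cone over the tower `k ↦ Q2 k` with vertex `W3`. -/
noncomputable def cone3 : Cone R.Q2d where
  pt := R.W3
  π :=
    { app := fun k => R.e3 k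
      naturality := fun _ _ f => (Category.id_comp _).trans (R.e3_Q2map f).symm }

/-- `W3` is the limit of the `Q2 k`. -/
noncomputable def isLimitCone3 (hlim : IsLimit R.cone) : IsLimit ((fsP X).mapCone R.cone3) :=
  Groth.Agent.Lib.PullbackDiag22c.isLimitConeCP (R.Wd ⋙ forgetSch X) R.tV (fun f => R.tV_w f)
    R.π₂.left R.cone R.π.left R.π_left hlim

instance isAffine_Q2 [IsAffine V.left] (k : R.I) : IsAffine (R.Q2 k).left := by
  haveI : IsAffine ((eps X).obj V).left := ‹IsAffine V.left›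
  haveI : IsAffine ((eps X).obj (R.Wd.obj k)).left := inferInstanceAs (IsAffine (R.Wd.obj k).left)
  haveI : IsAffine R.W2.left := R.isAffine_W2
  exact inferInstanceAs (IsAffine (pullback R.π₂.left ((eps X).map (R.toV k)).left))

instance isAffine_Q1 [IsAffine V.left] (k : R.I) : IsAffine (R.Q1 k).left := by
  haveI : IsAffine ((eps X).obj V).left := ‹IsAffine V.left›
  haveI : IsAffine ((eps X).obj (R.Wd.obj k)).left := inferInstanceAs (IsAffine (R.Wd.obj k).left)
  exact inferInstanceAs (IsAffine (pullback R.π.left ((eps X).map (R.toV k)).left))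

instance isAffine_W3 [IsAffine V.left] : IsAffine R.W3.left := by
  haveI : IsAffine ((eps X).obj V).left := ‹IsAffine V.left›
  haveI : IsAffine R.W2.left := R.isAffine_W2
  exact inferInstanceAs (IsAffine (pullback R.π₂.left R.π.left))

end Groth.Agent.Lib.ProEtEps22.Pres
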