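import Groth.Agent.Lib.ProEtExt22a

/-!
# Extensions of classical sheaves on the pro-étale site, part 2: sheaf-theoretic preliminaries
(helper22)
-/

set_option autoImplicit false
set_option linter.style.haveILetI false
universe u

open CategoryTheory AlgebraicGeometry Limits MorphismProperty Opposite TopologicalSpace ProEtS

namespace Groth.Agent.Lib.ProEtExt22

open Groth.Agent.Lib.ProEtEps22 Groth.Agent.Lib.ProEtLan22 Groth.Agent.Lib.ProEtWC22
open Groth.Agent.Lib.ProEtLim22

variable {X : Scheme.{u}}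

/-- The explicit model of `ε⁻¹ A`: the sheafification of the left Kan extension. -/
noncomputable abbrev Esh (A : EtCoh.Ab X) : AbP X :=
  (presheafToSheaf (Scheme.ProEt.topology X) AddCommGrpCat.{u + 1}).obj (lanP A.obj)

section sheaf

variable (G : AbP X)

theorem G_map_map {A B C : X.ProEt} (f : A ⟶ B) (g : B ⟶ C) (x : G.obj.obj (op C)) :
    G.obj.map f.op (G.obj.map g.op x) = G.obj.map (f ≫ g).op x := by
  rw [op_comp, G.obj.map_comp]
  rfl

theorem hom_naturality {G G' : AbP X} (φ : G ⟶ G') {U' U : X.ProEt} (f : U' ⟶ U)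
    (x : G.obj.obj (op U)) :
    G'.obj.map f.op (φ.hom.app (op U) x) = φ.hom.app (op U') (G.obj.map f.op x) :=
  (ConcreteCategory.congr_hom (φ.hom.naturality f.op) x).symm

theorem isSheaf_type : Presieve.IsSheaf (Scheme.ProEt.topology X)
    (G.obj ⋙ forget AddCommGrpCat.{u + 1}) :=
  (isSheaf_iff_isSheaf_of_type _ _).1
    ((sheafCompose (Scheme.ProEt.topology X) (forget AddCommGrpCat.{u + 1})).obj G).property

/-- A surjective morphism between affine objects generates a covering sieve. -/
theorem generate_single_mem {Q U : X.ProEt} [IsAffine Q.left] [IsAffine U.left] (q : Q ⟶ U)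
    (hq : Function.Surjective q.left) :
    Sieve.generate (Presieve.ofArrows (fun _ : Unit => Q) (fun _ => q)) ∈
      Scheme.ProEt.topology X U := by
  apply Groth.Agent.Lib.ProEtExtZero22.generate_finite_affine_mem
  intro v
  obtain ⟨w, hw⟩ := hq v
  exact ⟨(), w, hw⟩

/-- Sections of a sheaf agreeing on a covering morphism are equal. -/
theorem eq_of_map_eq {Q U : X.ProEt} (q : Q ⟶ U)
    (hcov : Sieve.generate (Presieve.ofArrows (fun _ : Unit => Q) (fun _ => q)) ∈
      Scheme.ProEt.topology X U) (g g' : G.obj.obj (op U))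
    (h : G.obj.map q.op g = G.obj.map q.op g') : g = g' := by
  refine ((isSheaf_type G) _ hcov).isSeparatedFor.ext ?_
  rintro Y t ⟨T, a', b', ⟨k⟩, rfl⟩
  change G.obj.map (a' ≫ q).op g = G.obj.map (a' ≫ q).op g'
  rw [← G_map_map, ← G_map_map, h]

/-- Descent of sections of a sheaf along a covering morphism. -/
theorem exists_descent_P {Q U : X.ProEt} (q : Q ⟶ U)
    (hcov : Sieve.generate (Presieve.ofArrows (fun _ : Unit => Q) (fun _ => q)) ∈
      Scheme.ProEt.topology X U) (h : G.obj.obj (op Q))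
    (hh : ∀ (T : X.ProEt) (u₁ u₂ : T ⟶ Q), u₁ ≫ q = u₂ ≫ q →
      G.obj.map u₁.op h = G.obj.map u₂.op h) :
    ∃ g : G.obj.obj (op U), G.obj.map q.op g = h := by
  have hsh := (isSheaf_type G) _ hcov
  rw [← Presieve.isSheafFor_iff_generate, Presieve.isSheafFor_arrows_iff] at hsh
  obtain ⟨g, hg, -⟩ := hsh (fun _ => h) (by
    intro _ _ Z g₁ g₂ hg
    exact hh Z g₁ g₂ hg)
  exact ⟨g, hg ()⟩

end sheaf

section toPull

variable (B : EtCoh.Ab X)

theorem Esh_map_toPull {W : X.ProEt} {V : X.Etale} (g : W ⟶ (eps X).obj V)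
    (b : B.obj.obj (op V)) :
    (Esh B).obj.map g.op (toPull B V b) = (η B).app (op W) (gm B g b) := by
  change (sheafify (Scheme.ProEt.topology X) (lanP B.obj)).map g.op
    ((η B).app (op ((eps X).obj V)) (gm B (𝟙 _) b)) = _
  rw [η_naturality, map_gm, Category.comp_id]

theorem toPull_map {Y V : X.Etale} (m : Y ⟶ V) (b : B.obj.obj (op V)) :
    toPull B Y (B.obj.map m.op b) = (Esh B).obj.map ((eps X).map m).op (toPull B V b) := by
  rw [Esh_map_toPull]
  change (η B).app _ (gm B (𝟙 _) (B.obj.map m.op b)) = _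
  rw [gm_map, Category.id_comp]

theorem Esh_map_η {W W' : X.ProEt} (t : W' ⟶ W) (x : (lanP B.obj).obj (op W)) :
    (Esh B).obj.map t.op ((η B).app (op W) x) = (η B).app (op W') ((lanP B.obj).map t.op x) :=
  η_naturality B t x

end toPull

end Groth.Agent.Lib.ProEtExt22
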