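import Groth.Agent.Lib.ProEtExt22b

/-!
# Extensions of classical sheaves on the pro-étale site, part 3: the maps between the objects
`W2`, `W3`, `Q1 k`, `Q2 k`, `ε (T k)` (helper22)
-/

set_option autoImplicit false
set_option linter.style.haveILetI false
universe u

open CategoryTheory AlgebraicGeometry Limits MorphismProperty Opposite TopologicalSpace ProEtS

namespace Groth.Agent.Lib.ProEtEps22.Pres

open Groth.Agent.Lib.ProEtEps22 Groth.Agent.Lib.ProEtLan22 Groth.Agent.Lib.ProEtWC22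
open Groth.Agent.Lib.ProEtLim22 Groth.Agent.Lib.ProEtExt22

variable {X : Scheme.{u}} {V : X.Etale} (R : Pres V)

/-- `(w, x) : Q1 k`, first projection. -/
noncomputable abbrev pQ (k : R.I) : R.Q1 k ⟶ R.W := peProd.fst R.π ((eps X).map (R.toV k))

/-- `(w, x) : Q1 k`, second projection. -/
noncomputable abbrev qQ (k : R.I) : R.Q1 k ⟶ (eps X).obj (R.Wd.obj k) :=
  peProd.snd R.π ((eps X).map (R.toV k))

/-- `(w₁, w₂, x) ↦ (w₁, w₂)`. -/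
noncomputable abbrev rQ (k : R.I) : R.Q2 k ⟶ R.W2 := peProd.fst R.π₂ ((eps X).map (R.toV k))

/-- `(w₁, w₂, x) ↦ x`. -/
noncomputable abbrev xQ (k : R.I) : R.Q2 k ⟶ (eps X).obj (R.Wd.obj k) :=
  peProd.snd R.π₂ ((eps X).map (R.toV k))

/-- `(w₁, w₂, x) ↦ (w₁, x)`. -/
noncomputable def a1 (k : R.I) : R.Q2 k ⟶ R.Q1 k :=
  peProd.lift (R.rQ k ≫ R.p1) (R.xQ k) (by
    rw [Category.assoc]
    exact peProd.condition R.π₂ _)

/-- `(w₁, w₂, x) ↦ (w₂, x)`. -/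
noncomputable def a2 (k : R.I) : R.Q2 k ⟶ R.Q1 k :=
  peProd.lift (R.rQ k ≫ R.p2) (R.xQ k) (by
    rw [Category.assoc, ← R.p_condition]
    exact peProd.condition R.π₂ _)

@[reassoc (attr := simp)] lemma a1_pQ (k : R.I) : R.a1 k ≫ R.pQ k = R.rQ k ≫ R.p1 := peProd.lift_fst _ _ _

@[reassoc (attr := simp)] lemma a1_qQ (k : R.I) : R.a1 k ≫ R.qQ k = R.xQ k := peProd.lift_snd _ _ _

@[reassoc (attr := simp)] lemma a2_pQ (k : R.I) : R.a2 k ≫ R.pQ k = R.rQ k ≫ R.p2 := peProd.lift_fst _ _ _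

@[reassoc (attr := simp)] lemma a2_qQ (k : R.I) : R.a2 k ≫ R.qQ k = R.xQ k := peProd.lift_snd _ _ _

/-- `(w, x) ↦ (pr_k w, x) : ε (T k)`. -/
noncomputable def κ (k : R.I) : R.Q1 k ⟶ (eps X).obj (R.T k) :=
  epsLift (R.toV k) (R.pQ k ≫ R.pr k) (R.qQ k) (by
    rw [Category.assoc, R.π_w k]
    exact peProd.condition _ _)

@[reassoc (attr := simp)] lemma κ_fst (k : R.I) :
    R.κ k ≫ (eps X).map (selfProd.fst (R.toV k)) = R.pQ k ≫ R.pr k := epsLift_fst _ _ _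

@[reassoc (attr := simp)] lemma κ_snd (k : R.I) :
    R.κ k ≫ (eps X).map (selfProd.snd (R.toV k)) = R.qQ k := epsLift_snd _ _ _

/-- `(w₁, w₂, w₃) ↦ (w₁, w₂)`. -/
noncomputable abbrev q12 : R.W3 ⟶ R.W2 := peProd.fst R.π₂ R.π

/-- `(w₁, w₂, w₃) ↦ w₃`. -/
noncomputable abbrev w3 : R.W3 ⟶ R.W := peProd.snd R.π₂ R.π

/-- `(w₁, w₂, w₃) ↦ (w₁, w₃)`. -/
noncomputable def q13 : R.W3 ⟶ R.W2 :=
  peProd.lift (p := R.π) (q := R.π) (R.q12 ≫ R.p1) R.w3 (by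
    rw [Category.assoc]
    exact peProd.condition R.π₂ R.π)

/-- `(w₁, w₂, w₃) ↦ (w₂, w₃)`. -/
noncomputable def q23 : R.W3 ⟶ R.W2 :=
  peProd.lift (p := R.π) (q := R.π) (R.q12 ≫ R.p2) R.w3 (by
    rw [Category.assoc, ← R.p_condition]
    exact peProd.condition R.π₂ R.π)

@[reassoc (attr := simp)] lemma q13_p1 : R.q13 ≫ R.p1 = R.q12 ≫ R.p1 := peProd.lift_fst _ _ _

@[reassoc (attr := simp)] lemma q13_p2 : R.q13 ≫ R.p2 = R.w3 := peProd.lift_snd _ _ _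

@[reassoc (attr := simp)] lemma q23_p1 : R.q23 ≫ R.p1 = R.q12 ≫ R.p2 := peProd.lift_fst _ _ _

@[reassoc (attr := simp)] lemma q23_p2 : R.q23 ≫ R.p2 = R.w3 := peProd.lift_snd _ _ _

@[reassoc] lemma e3_rQ (k : R.I) : R.e3 k ≫ R.rQ k = R.q12 := R.e3_fst k

@[reassoc] lemma e3_xQ (k : R.I) : R.e3 k ≫ R.xQ k = R.w3 ≫ R.pr k := R.e3_snd k

@[reassoc] lemma c_fst' (i : R.I) :
    R.c i ≫ (eps X).map (selfProd.fst (R.toV i)) = R.p1 ≫ R.pr i := R.c_fst i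

@[reassoc] lemma c_snd' (i : R.I) :
    R.c i ≫ (eps X).map (selfProd.snd (R.toV i)) = R.p2 ≫ R.pr i := R.c_snd i

@[reassoc] lemma pr_w' {i j : R.I} (f : i ⟶ j) :
    R.pr i ≫ (eps X).map (R.Wd.map f) = R.pr j := R.pr_w f

lemma e3_a1_κ (k : R.I) : R.e3 k ≫ R.a1 k ≫ R.κ k = R.q13 ≫ R.c k := by
  apply eps_selfProd_hom_ext
  · simp only [Category.assoc, κ_fst, a1_pQ_assoc, e3_rQ_assoc, c_fst', q13_p1_assoc]
  · simp only [Category.assoc, κ_snd, a1_qQ, e3_xQ, c_snd', q13_p2_assoc]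

lemma e3_a2_κ (k : R.I) : R.e3 k ≫ R.a2 k ≫ R.κ k = R.q23 ≫ R.c k := by
  apply eps_selfProd_hom_ext
  · simp only [Category.assoc, κ_fst, a2_pQ_assoc, e3_rQ_assoc, c_fst', q23_p1_assoc]
  · simp only [Category.assoc, κ_snd, a2_qQ, e3_xQ, c_snd', q23_p2_assoc]

@[reassoc] lemma Q2map_rQ {j k : R.I} (f : j ⟶ k) : R.Q2map f ≫ R.rQ k = R.rQ j := R.Q2map_fst f

@[reassoc] lemma Q2map_xQ {j k : R.I} (f : j ⟶ k) :
    R.Q2map f ≫ R.xQ k = R.xQ j ≫ (eps X).map (R.Wd.map f) := R.Q2map_snd f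

@[reassoc] lemma eps_τ_fst {j k : R.I} (f : j ⟶ k) :
    (eps X).map (R.τ f) ≫ (eps X).map (selfProd.fst (R.toV k)) =
      (eps X).map (selfProd.fst (R.toV j)) ≫ (eps X).map (R.Wd.map f) := by
  rw [← Functor.map_comp, ← Functor.map_comp, R.τ_fst f]

@[reassoc] lemma eps_τ_snd {j k : R.I} (f : j ⟶ k) :
    (eps X).map (R.τ f) ≫ (eps X).map (selfProd.snd (R.toV k)) =
      (eps X).map (selfProd.snd (R.toV j)) ≫ (eps X).map (R.Wd.map f) := by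
  rw [← Functor.map_comp, ← Functor.map_comp, R.τ_snd f]

lemma Q2map_a1_κ {j k : R.I} (f : j ⟶ k) :
    R.Q2map f ≫ R.a1 k ≫ R.κ k = R.a1 j ≫ R.κ j ≫ (eps X).map (R.τ f) := by
  apply eps_selfProd_hom_ext
  · simp only [Category.assoc, κ_fst, a1_pQ_assoc, Q2map_rQ_assoc, eps_τ_fst, κ_fst_assoc, pr_w']
  · simp only [Category.assoc, κ_snd, a1_qQ, Q2map_xQ, eps_τ_snd, κ_snd_assoc, a1_qQ_assoc]

lemma Q2map_a2_κ {j k : R.I} (f : j ⟶ k) :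
    R.Q2map f ≫ R.a2 k ≫ R.κ k = R.a2 j ≫ R.κ j ≫ (eps X).map (R.τ f) := by
  apply eps_selfProd_hom_ext
  · simp only [Category.assoc, κ_fst, a2_pQ_assoc, Q2map_rQ_assoc, eps_τ_fst, κ_fst_assoc, pr_w']
  · simp only [Category.assoc, κ_snd, a2_qQ, Q2map_xQ, eps_τ_snd, κ_snd_assoc, a2_qQ_assoc]

lemma pQ_π (k : R.I) : R.pQ k ≫ R.π = R.qQ k ≫ (eps X).map (R.toV k) := peProd.condition _ _

/-- Pairs of points of `Q1 k` over the same point of `W_k` give points of `W2`. -/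
noncomputable def pairW {k : R.I} {T : X.ProEt} (u₁ u₂ : T ⟶ R.Q1 k)
    (h : u₁ ≫ R.qQ k = u₂ ≫ R.qQ k) : T ⟶ R.W2 :=
  peProd.lift (p := R.π) (q := R.π) (u₁ ≫ R.pQ k) (u₂ ≫ R.pQ k) (by
    rw [Category.assoc, Category.assoc, R.pQ_π k, ← Category.assoc, ← Category.assoc, h])

@[reassoc] lemma pairW_p1 {k : R.I} {T : X.ProEt} (u₁ u₂ : T ⟶ R.Q1 k)
    (h : u₁ ≫ R.qQ k = u₂ ≫ R.qQ k) : R.pairW u₁ u₂ h ≫ R.p1 = u₁ ≫ R.pQ k :=
  peProd.lift_fst _ _ _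

@[reassoc] lemma pairW_p2 {k : R.I} {T : X.ProEt} (u₁ u₂ : T ⟶ R.Q1 k)
    (h : u₁ ≫ R.qQ k = u₂ ≫ R.qQ k) : R.pairW u₁ u₂ h ≫ R.p2 = u₂ ≫ R.pQ k :=
  peProd.lift_snd _ _ _

/-- Pairs of points of `Q1 k` over the same point of `W_k` are points of `Q2 k`. -/
noncomputable def pairQ {k : R.I} {T : X.ProEt} (u₁ u₂ : T ⟶ R.Q1 k)
    (h : u₁ ≫ R.qQ k = u₂ ≫ R.qQ k) : T ⟶ R.Q2 k :=
  peProd.lift (R.pairW u₁ u₂ h) (u₁ ≫ R.qQ k) (by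
    rw [← Category.assoc, R.pairW_p1 u₁ u₂ h, Category.assoc, Category.assoc, R.pQ_π k])

@[reassoc] lemma pairQ_rQ {k : R.I} {T : X.ProEt} (u₁ u₂ : T ⟶ R.Q1 k)
    (h : u₁ ≫ R.qQ k = u₂ ≫ R.qQ k) : R.pairQ u₁ u₂ h ≫ R.rQ k = R.pairW u₁ u₂ h :=
  peProd.lift_fst _ _ _

@[reassoc] lemma pairQ_xQ {k : R.I} {T : X.ProEt} (u₁ u₂ : T ⟶ R.Q1 k)
    (h : u₁ ≫ R.qQ k = u₂ ≫ R.qQ k) : R.pairQ u₁ u₂ h ≫ R.xQ k = u₁ ≫ R.qQ k :=
  peProd.lift_snd _ _ _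

lemma pairQ_a1 {k : R.I} {T : X.ProEt} (u₁ u₂ : T ⟶ R.Q1 k)
    (h : u₁ ≫ R.qQ k = u₂ ≫ R.qQ k) : R.pairQ u₁ u₂ h ≫ R.a1 k = u₁ := by
  apply peProd.hom_ext
  · rw [Category.assoc, a1_pQ, pairQ_rQ_assoc, pairW_p1]
  · rw [Category.assoc, a1_qQ, pairQ_xQ]

lemma pairQ_a2 {k : R.I} {T : X.ProEt} (u₁ u₂ : T ⟶ R.Q1 k)
    (h : u₁ ≫ R.qQ k = u₂ ≫ R.qQ k) : R.pairQ u₁ u₂ h ≫ R.a2 k = u₂ := by
  apply peProd.hom_ext
  · rw [Category.assoc, a2_pQ, pairQ_rQ_assoc, pairW_p2]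
  · rw [Category.assoc, a2_qQ, pairQ_xQ, h]

/-- The projection `Q1 k ⟶ W_k` is surjective. -/
theorem surjective_qQ (hs : Function.Surjective R.π.left) (k : R.I) :
    Function.Surjective (R.qQ k).left := by
  intro x
  obtain ⟨w, hw⟩ := hs (((eps X).map (R.toV k)).left x)
  obtain ⟨z, -, hz⟩ := Scheme.Pullback.exists_preimage_pullback (f := R.π.left)
    (g := ((eps X).map (R.toV k)).left) w x hw
  exact ⟨z, hz⟩

/-- The stages surject onto `V`. -/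
theorem surjective_toV (hs : Function.Surjective R.π.left) (k : R.I) :
    Function.Surjective (R.toV k).left := by
  intro v
  obtain ⟨w, hw⟩ := hs v
  refine ⟨(R.pr k).left w, ?_⟩
  have h1 : (R.pr k).left ≫ (R.toV k).left = R.π.left :=
    congrArg (fun m => m.left) (R.π_w k)
  rw [← hw, ← h1]
  exact (Scheme.Hom.comp_apply _ _ _).symm

end Groth.Agent.Lib.ProEtEps22.Pres
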