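import Groth.Agent.Lib.ProEtExt22c

/-!
# Extensions of classical sheaves on the pro-étale site, part 4: local lifting (helper22)

If `0 ⟶ ε⁻¹ A ⟶ G ⟶ ε⁻¹ B ⟶ 0` is exact on the pro-étale site, every section of `B` over an
affine object of the étale site lifts to `G` étale locally.
-/

set_option autoImplicit false
set_option linter.style.haveILetI false
universe u

open CategoryTheory AlgebraicGeometry Limits MorphismProperty Opposite TopologicalSpace ProEtS

namespace Groth.Agent.Lib.ProEtExt22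

open Groth.Agent.Lib.ProEtEps22 Groth.Agent.Lib.ProEtLan22 Groth.Agent.Lib.ProEtWC22
open Groth.Agent.Lib.ProEtLim22

variable {X : Scheme.{u}} (A B : EtCoh.Ab X)

theorem exists_local_lift {V : X.Etale} [IsAffine V.left] (G : AbP X) (ι : Esh A ⟶ G)
    (p : G ⟶ Esh B)
    (hex : ∀ (U : X.ProEt) (g : G.obj.obj (op U)), p.hom.app (op U) g = 0 →
      ∃ a, ι.hom.app (op U) a = g)
    (h0 : ∀ (U : X.ProEt) (a : (Esh A).obj.obj (op U)),
      p.hom.app (op U) (ι.hom.app (op U) a) = 0)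
    (hinj : ∀ U : X.ProEt, Function.Injective (ι.hom.app (op U)))
    (hsurj : ∀ (W : X.ProEt) [IsAffine W.left], EtPBC.IsWContractible Γ(W.left, ⊤) →
      Function.Surjective (p.hom.app (op W)))
    (b : B.obj.obj (op V)) :
    ∃ (Y : X.Etale) (m : Y ⟶ V), Function.Surjective m.left ∧
      ∃ g : G.obj.obj (op ((eps X).obj Y)),
        p.hom.app (op ((eps X).obj Y)) g = toPull B Y (B.obj.map m.op b) := by
  obtain ⟨R, ⟨hlim⟩, hsπ, hWC⟩ := exists_pres V
  haveI : IsAffine ((eps X).obj V).left := ‹IsAffine V.left›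
  let s := toPull B V b
  -- step 1: lift over `W`
  obtain ⟨g, hg⟩ := hsurj R.W hWC ((Esh B).obj.map R.π.op s)
  -- step 2: the cocycle
  let cG : G.obj.obj (op R.W2) := G.obj.map R.p1.op g - G.obj.map R.p2.op g
  have hcG : p.hom.app (op R.W2) cG = 0 := by
    change p.hom.app (op R.W2) (_ - _) = 0
    rw [map_sub, ← hom_naturality, ← hom_naturality, hg, G_map_map, G_map_map, R.p_condition,
      sub_self]
  obtain ⟨ĉ, hĉ⟩ := hex R.W2 cG hcG
  -- step 3: the cocycle comes from a finite stage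
  haveI : ∀ i, IsAffine (R.Td.obj i).left := fun i => by
    haveI : IsAffine ((R.Wd ⋙ forgetSch X).obj i) := inferInstanceAs (IsAffine (R.Wd.obj i).left)
    exact inferInstanceAs (IsAffine (pullback (R.tV i) (R.tV i)))
  haveI : IsAffine R.coneT.pt.left := R.isAffine_W2
  obtain ⟨i, a, ha⟩ := exists_gm_eq A R.coneT (R.isLimitConeT hlim) ĉ
  have ha' : (η A).app (op R.W2) (gm A (R.c i) a) = ĉ := ha
  -- step 4: the cocycle condition at a finite stage
  let y : (lanP A.obj).obj (op (R.Q2 i)) :=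
    gm A (R.rQ i ≫ R.c i) a - gm A (R.a1 i ≫ R.κ i) a + gm A (R.a2 i ≫ R.κ i) a
  have key : ∀ (t : R.W3 ⟶ R.W2),
      ι.hom.app (op R.W3) ((η A).app (op R.W3) (gm A (t ≫ R.c i) a)) =
        G.obj.map (t ≫ R.p1).op g - G.obj.map (t ≫ R.p2).op g := by
    intro t
    rw [← map_gm, ← Esh_map_η, ha', ← hom_naturality, hĉ]
    change G.obj.map t.op (_ - _) = _
    rw [map_sub, G_map_map, G_map_map]
  have hy : (η A).app (op R.cone3.pt) ((lanP A.obj).map (R.cone3.π.app i).op y) = 0 := by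
    change (η A).app (op R.W3) ((lanP A.obj).map (R.e3 i).op y) = 0
    apply hinj R.W3
    rw [map_zero]
    change ι.hom.app (op R.W3) ((η A).app (op R.W3) ((lanP A.obj).map (R.e3 i).op (_ - _ + _))) = 0
    rw [map_add, map_sub, map_gm, map_gm, map_gm, R.e3_rQ_assoc, R.e3_a1_κ, R.e3_a2_κ, map_add,
      map_sub, map_add, map_sub, key, key, key, R.q13_p1, R.q13_p2, R.q23_p1, R.q23_p2]
    abel
  haveI : ∀ k, IsAffine (R.Q2d.obj k).left := fun k => R.isAffine_Q2 k
  haveI : CompactSpace R.cone3.pt.left := by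
    haveI : IsAffine R.cone3.pt.left := R.isAffine_W3
    infer_instance
  obtain ⟨j, f, hj⟩ := exists_map_eq_zero A R.Q2d R.cone3 (R.isLimitCone3 hlim) i y hy
  -- step 5: descend along `Q1 j ⟶ W_j`
  let a' : A.obj.obj (op (R.T j)) := A.obj.map (R.τ f).op a
  have hj' : gm A (R.rQ j ≫ R.c i) a - gm A (R.a1 j ≫ R.κ j) a' + gm A (R.a2 j ≫ R.κ j) a' = 0 := by
    have h1 : (lanP A.obj).map (R.Q2map f).op y = 0 := hj
    change (lanP A.obj).map (R.Q2map f).op (_ - _ + _) = 0 at h1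
    rw [map_add, map_sub, map_gm, map_gm, map_gm, R.Q2map_rQ_assoc, R.Q2map_a1_κ,
      R.Q2map_a2_κ] at h1
    rw [gm_map, gm_map, Category.assoc, Category.assoc]
    exact h1
  let h : G.obj.obj (op (R.Q1 j)) :=
    G.obj.map (R.pQ j).op g - ι.hom.app (op (R.Q1 j)) ((η A).app (op (R.Q1 j)) (gm A (R.κ j) a'))
  have hh : G.obj.map (R.a1 j).op h = G.obj.map (R.a2 j).op h := by
    change G.obj.map (R.a1 j).op (_ - _) = G.obj.map (R.a2 j).op (_ - _)
    rw [map_sub, map_sub, G_map_map, G_map_map, R.a1_pQ, R.a2_pQ, hom_naturality, hom_naturality,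
      Esh_map_η, Esh_map_η, map_gm, map_gm]
    have e1 : G.obj.map (R.rQ j ≫ R.p1).op g - G.obj.map (R.rQ j ≫ R.p2).op g =
        ι.hom.app (op (R.Q2 j)) ((η A).app (op (R.Q2 j)) (gm A (R.rQ j ≫ R.c i) a)) := by
      rw [← map_gm, ← Esh_map_η, ha', ← hom_naturality, hĉ]
      change _ = G.obj.map (R.rQ j).op (_ - _)
      rw [map_sub, G_map_map, G_map_map]
    have e2 : gm A (R.rQ j ≫ R.c i) a = gm A (R.a1 j ≫ R.κ j) a' - gm A (R.a2 j ≫ R.κ j) a' := by
      have := hj'
      rw [sub_add, sub_eq_zero] at this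
      exact this
    rw [e2, map_sub, map_sub] at e1
    rw [sub_eq_sub_iff_sub_eq_sub]
    exact e1
  haveI : IsAffine ((eps X).obj (R.Wd.obj j)).left := inferInstanceAs (IsAffine (R.Wd.obj j).left)
  have hcov := generate_single_mem (R.qQ j) (R.surjective_qQ hsπ j)
  obtain ⟨gj, hgj⟩ := exists_descent_P G (R.qQ j) hcov h (by
    intro T u₁ u₂ hu
    rw [← R.pairQ_a1 u₁ u₂ hu, ← G_map_map, hh, G_map_map, R.pairQ_a2])
  refine ⟨R.Wd.obj j, R.toV j, R.surjective_toV hsπ j, gj, ?_⟩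
  -- step 6: the image of `gj`
  apply eq_of_map_eq (Esh B) (R.qQ j) hcov
  rw [hom_naturality, hgj, toPull_map, G_map_map]
  change p.hom.app (op (R.Q1 j)) (_ - _) = _
  rw [map_sub, h0, sub_zero, ← hom_naturality, hg, G_map_map, R.pQ_π]

end Groth.Agent.Lib.ProEtExt22
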