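import Groth.Agent.Lib.ProEtExt22d
import Groth.Agent.Lib.AdjExt22
import Groth.Agent.Lib.LanExact
import Groth.Agent.Lib.ProEtWC22c
import Mathlib.Algebra.Category.Grp.AB
import Mathlib.CategoryTheory.Sites.Pullback

/-!
# Extensions of classical sheaves on the pro-étale site, part 5: conclusion (helper22)

* `preservesFiniteLimits_epsPull`: `ε⁻¹` on abelian sheaves is exact;
* `epi_epsPush_map_g`: if `0 ⟶ ε⁻¹ A ⟶ G ⟶ ε⁻¹ B ⟶ 0` is exact on the pro-étale site, then
  `ε_* G ⟶ ε_* ε⁻¹ B` is an epimorphism of étale sheaves;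
* `isIso_counit_of_shortExact`: in this situation the counit `ε⁻¹ ε_* G ⟶ G` is an isomorphism
  (Bhatt–Scholze, Lemma 5.1.4 / Corollary 5.1.5: classical sheaves are closed under extensions).
-/

set_option autoImplicit false
set_option linter.style.haveILetI false
universe u

open CategoryTheory AlgebraicGeometry Limits MorphismProperty Opposite TopologicalSpace ProEtS

namespace Groth.Agent.Lib.ProEtExt22

open Groth.Agent.Lib.ProEtEps22 Groth.Agent.Lib.ProEtLan22 Groth.Agent.Lib.ProEtWC22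
open Groth.Agent.Lib.ProEtLim22

variable {X : Scheme.{u}}

section exact

instance isFiltered_costructuredArrow_eps (W : X.ProEtᵒᵖ) :
    IsFiltered (CostructuredArrow (eps X).op W) :=
  IsFiltered.of_equivalence (structuredArrowOpEquivalence (eps X) (unop W))

instance hasExact_eps_ab (W : X.ProEtᵒᵖ) :
    HasExactColimitsOfShape (CostructuredArrow (eps X).op W) AddCommGrpCat.{u + 1} := by
  have := AB5OfSize_shrink.{u, u + 1, u + 1, u + 1} AddCommGrpCat.{u + 1}
  infer_instance

instance preservesFiniteLimits_lan_eps_ab : PreservesFiniteLimits ((eps X).op.lan :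
    (X.Etaleᵒᵖ ⥤ AddCommGrpCat.{u + 1}) ⥤ (X.ProEtᵒᵖ ⥤ AddCommGrpCat.{u + 1})) :=
  Groth.Agent.Lib.LanExact.preservesFiniteLimits_lan _

instance preservesFiniteLimits_epsPull [ProEtS.EpsCont X] :
    PreservesFiniteLimits (ProEtS.epsPull X) := by
  have h1 : PreservesFiniteLimits ((eps X).op.lan ⋙
      presheafToSheaf (Scheme.ProEt.topology X) AddCommGrpCat.{u + 1}) :=
    comp_preservesFiniteLimits _ _
  have h2 : PreservesFiniteLimits (Functor.sheafPullbackConstruction.sheafPullback (eps X)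
      AddCommGrpCat.{u + 1} X.smallEtaleTopology (Scheme.ProEt.topology X)) := by
    unfold Functor.sheafPullbackConstruction.sheafPullback
    apply comp_preservesFiniteLimits
  exact preservesFiniteLimits_of_natIso (Functor.sheafPullbackConstruction.sheafPullbackIso
    (eps X) AddCommGrpCat.{u + 1} X.smallEtaleTopology (Scheme.ProEt.topology X)).symm

instance preservesFiniteColimits_epsPull [ProEtS.EpsCont X] :
    PreservesFiniteColimits (ProEtS.epsPull X) := by
  haveI : PreservesColimitsOfSize.{0, 0} (ProEtS.epsPull X) :=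
    (ProEtS.epsAdj X).leftAdjoint_preservesColimits
  exact PreservesColimitsOfSize.preservesFiniteColimits _

instance isIso_unit_epsAdj' [ProEtS.EpsCont X] : IsIso (ProEtS.epsAdj X).unit := by
  haveI : ∀ F, IsIso ((ProEtS.epsAdj X).unit.app F) := fun F => isIso_unit_epsAdj F
  exact NatIso.isIso_of_isIso_app _

noncomputable def fullyFaithfulEpsPull [ProEtS.EpsCont X] : (ProEtS.epsPull X).FullyFaithful :=
  (ProEtS.epsAdj X).fullyFaithfulLOfIsIsoUnit

instance [ProEtS.EpsCont X] : (ProEtS.epsPull X).Faithful := fullyFaithfulEpsPull.faithful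
instance [ProEtS.EpsCont X] : (ProEtS.epsPull X).Full := fullyFaithfulEpsPull.full

end exact

section main

variable [ProEtS.EpsCont X]

/-- The comparison between the abstract `ε⁻¹ A` and the explicit model. -/
noncomputable def eshIso (A : EtCoh.Ab X) : (ProEtS.epsPull X).obj A ≅ Esh A :=
  ((ProEtS.epsAdj X).leftAdjointUniq (adj₁ X)).app A

/-- Sections over `U`. -/
noncomputable abbrev secAb (U : X.ProEt) : AbP X ⥤ AddCommGrpCat.{u + 1} :=
  sheafToPresheaf (Scheme.ProEt.topology X) AddCommGrpCat.{u + 1} ⋙ (evaluation _ _).obj (op U)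

instance (U : X.ProEt) : PreservesFiniteLimits (secAb (X := X) U) :=
  comp_preservesFiniteLimits _ _

instance (U : X.ProEt) : (secAb (X := X) U).Additive :=
  Functor.additive_of_preserves_binary_products _

omit [ProEtS.EpsCont X] in
theorem surjective_of_epi_ab (U : X.ProEt) (hU : ProEtS.IsWC U) {F G : AbP X} (φ : F ⟶ G)
    (hφ : Epi φ) : Function.Surjective (φ.hom.app (op U)) := by
  rw [← Sheaf.isLocallySurjective_iff_epi' AddCommGrpCat.{u + 1}] at hφ
  let J := Scheme.ProEt.topology X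
  let φ' := (sheafCompose J (forget AddCommGrpCat.{u + 1})).map φ
  have hφ' : Epi φ' := by
    rw [← Sheaf.isLocallySurjective_iff_epi]
    exact (Presheaf.isLocallySurjective_iff_whisker_forget J φ.hom).1 hφ
  intro s
  obtain ⟨t, ht⟩ := hU _ _ φ' hφ' s
  exact ⟨t, ht⟩

theorem epi_epsPush_map_g (T : ShortComplex (AbP X)) (hT : T.ShortExact) (A B : EtCoh.Ab X)
    (e₁ : (ProEtS.epsPull X).obj A ≅ T.X₁) (e₃ : (ProEtS.epsPull X).obj B ≅ T.X₃) :
    Epi ((ProEtS.epsPush X).map T.g) := by
  let ι : Esh A ⟶ T.X₂ := (eshIso A).inv ≫ e₁.hom ≫ T.f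
  let p : T.X₂ ⟶ Esh B := T.g ≫ e₃.inv ≫ (eshIso B).hom
  have hz : ι ≫ p = 0 := by
    change ((eshIso A).inv ≫ e₁.hom ≫ T.f) ≫ T.g ≫ e₃.inv ≫ (eshIso B).hom = 0
    simp
  let T' : ShortComplex (AbP X) := ShortComplex.mk ι p hz
  have e : T' ≅ T := ShortComplex.isoMk ((eshIso A).symm ≪≫ e₁) (Iso.refl _)
    ((eshIso B).symm ≪≫ e₃) (by
      change ((eshIso A).inv ≫ e₁.hom) ≫ T.f = ((eshIso A).inv ≫ e₁.hom ≫ T.f) ≫ 𝟙 _
      simp) (by
      change 𝟙 _ ≫ T.g = (T.g ≫ e₃.inv ≫ (eshIso B).hom) ≫ (eshIso B).inv ≫ e₃.hom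
      simp)
  have hT' : T'.ShortExact := ShortComplex.shortExact_of_iso e.symm hT
  haveI : Mono ι := hT'.mono_f
  haveI : Epi p := hT'.epi_g
  -- section-level facts
  have hex : ∀ (U : X.ProEt) (g : T.X₂.obj.obj (op U)), p.hom.app (op U) g = 0 →
      ∃ a, ι.hom.app (op U) a = g := by
    intro U g hg
    have h1 : (T'.map (secAb U)).Exact :=
      hT'.exact.map_of_mono_of_preservesKernel (secAb U) hT'.mono_f inferInstance
    rw [ShortComplex.ab_exact_iff] at h1
    exact h1 g hg
  have h0 : ∀ (U : X.ProEt) (a : (Esh A).obj.obj (op U)),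
      p.hom.app (op U) (ι.hom.app (op U) a) = 0 := by
    intro U a
    have := congrArg (fun t => t.hom.app (op U) a) hz
    exact this
  have hinj : ∀ U : X.ProEt, Function.Injective (ι.hom.app (op U)) := by
    intro U
    have hm : Mono ((secAb U).map ι) := inferInstance
    exact (AddCommGrpCat.mono_iff_injective _).1 hm
  have hsurj : ∀ (W : X.ProEt) [IsAffine W.left], EtPBC.IsWContractible Γ(W.left, ⊤) →
      Function.Surjective (p.hom.app (op W)) := by
    intro W _ hWC
    exact surjective_of_epi_ab W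
      (isWC_of_hasClopenRefinements W (hasClopenRefinements_of_isWContractible W hWC)) p
      inferInstance
  -- local surjectivity
  let θ : T.X₃ ⟶ Esh B := e₃.inv ≫ (eshIso B).hom
  haveI : IsIso θ := by
    change IsIso (e₃.inv ≫ (eshIso B).hom)
    infer_instance
  have hθinj : ∀ U : X.ProEt, Function.Injective (θ.hom.app (op U)) := by
    intro U
    have hm : Mono ((secAb U).map θ) := inferInstance
    exact (AddCommGrpCat.mono_iff_injective _).1 hm
  have hpθ : ∀ (U : X.ProEt) (g : T.X₂.obj.obj (op U)),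
      p.hom.app (op U) g = θ.hom.app (op U) (T.g.hom.app (op U) g) := fun U g => rfl
  haveI : Sheaf.IsLocallySurjective ((ProEtS.epsPush X).map T.g) := by
    refine ⟨fun {U} s => ?_⟩
    apply mem_smallEtaleTopology_of_forall_exists
    intro y
    obtain ⟨_, ⟨O, hO, rfl⟩, hyO, -⟩ := U.left.isBasis_affineOpens.exists_subset_of_mem_open
      (Set.mem_univ y) isOpen_univ
    haveI : Etale U.hom := U.prop
    let V : X.Etale := etMk (Scheme.Opens.ι O ≫ U.hom)
    let m₀ : V ⟶ U := MorphismProperty.Over.homMk (Scheme.Opens.ι O) rfl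
    haveI : IsAffine V.left := hO
    let s' : T.X₃.obj.obj (op ((eps X).obj V)) := T.X₃.obj.map ((eps X).map m₀).op s
    obtain ⟨b, hb⟩ := toPull_surjective B V (θ.hom.app (op ((eps X).obj V)) s')
    obtain ⟨Y, m, hm, g, hg⟩ := exists_local_lift A B T.X₂ ι p hex h0 hinj hsurj b
    obtain ⟨w, hw⟩ := hm ⟨y, hyO⟩
    refine ⟨Y, m ≫ m₀, ⟨g, ?_⟩, w, ?_⟩
    · apply hθinj
      change θ.hom.app (op ((eps X).obj Y)) (T.g.hom.app (op ((eps X).obj Y)) g) =
        θ.hom.app (op ((eps X).obj Y)) (T.X₃.obj.map ((eps X).map (m ≫ m₀)).op s)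
      rw [← hpθ, hg, toPull_map, hb, hom_naturality, G_map_map, ← Functor.map_comp]
    · change (m.left ≫ m₀.left) w = y
      rw [Scheme.Hom.comp_apply, hw]
      rfl
  exact Sheaf.epi_of_isLocallySurjective _

theorem isIso_counit_epsPull_obj (A : EtCoh.Ab X) :
    IsIso ((ProEtS.epsAdj X).counit.app ((ProEtS.epsPull X).obj A)) := by
  have h := (ProEtS.epsAdj X).left_triangle_components A
  haveI : IsIso ((ProEtS.epsAdj X).unit.app A) := isIso_unit_epsAdj A
  exact IsIso.of_isIso_fac_left h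

theorem isIso_counit_of_iso {F : AbP X} (A : EtCoh.Ab X) (e : (ProEtS.epsPull X).obj A ≅ F) :
    IsIso ((ProEtS.epsAdj X).counit.app F) := by
  have h := (ProEtS.epsAdj X).counit.naturality e.hom
  haveI := isIso_counit_epsPull_obj A
  have h2 : (ProEtS.epsAdj X).counit.app F =
      (ProEtS.epsPush X ⋙ ProEtS.epsPull X).map e.inv ≫
        (ProEtS.epsAdj X).counit.app ((ProEtS.epsPull X).obj A) ≫ e.hom := by
    have h' : (ProEtS.epsAdj X).counit.app ((ProEtS.epsPull X).obj A) ≫ e.hom =
        (ProEtS.epsPush X ⋙ ProEtS.epsPull X).map e.hom ≫ (ProEtS.epsAdj X).counit.app F := h.symm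
    rw [h', ← Category.assoc, ← Functor.map_comp,
      e.inv_hom_id, CategoryTheory.Functor.map_id, Category.id_comp]
  rw [h2]
  infer_instance

/-- **Classical sheaves are closed under extensions** (Bhatt–Scholze 5.1.4–5.1.5). -/
theorem isIso_counit_of_shortExact (T : ShortComplex (AbP X)) (hT : T.ShortExact)
    (A B : EtCoh.Ab X) (e₁ : (ProEtS.epsPull X).obj A ≅ T.X₁)
    (e₃ : (ProEtS.epsPull X).obj B ≅ T.X₃) :
    IsIso ((ProEtS.epsAdj X).counit.app T.X₂) :=
  Groth.Agent.Lib.AdjExt22.isIso_counit_of_shortExact (ProEtS.epsAdj X) T hT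
    (isIso_counit_of_iso A e₁) (isIso_counit_of_iso B e₃) (epi_epsPush_map_g T hT A B e₁ e₃)

end main

end Groth.Agent.Lib.ProEtExt22
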