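import Groth.Agent.Lib.ProEtExtZeroUnit22
import Mathlib.CategoryTheory.Sites.CoverPreserving

/-!
# Continuity of `compP j` for a weakly étale monomorphism (helper22)

`jpCont j : ProEtS.JPCont j` for a weakly étale monomorphism `j : U ⟶ X` (e.g. an open immersion).
-/

set_option autoImplicit false
set_option linter.style.haveILetI false
universe u

open CategoryTheory AlgebraicGeometry Limits MorphismProperty Opposite TopologicalSpace ProEtS

namespace Groth.Agent.Lib.ProEtJPCont22

open Groth.Agent.Lib.ProEtWC22 Groth.Agent.Lib.ProEtCover22 Groth.Agent.Lib.ProEtExtZeroUnit22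

variable {U X : Scheme.{u}} (j : U ⟶ X) [WeaklyEtale j]

set_option backward.isDefEq.respectTransparency.types false in
theorem coverPreserving_compP :
    CoverPreserving (Scheme.ProEt.topology U) (Scheme.ProEt.topology X) (compP j) where
  cover_preserve {V S} hS := by
    obtain ⟨R, hR, hle⟩ := (mem_topology_iff _ S).1 hS
    rw [mem_precoverage_iff] at hR
    obtain ⟨𝒰, h𝒰, hEq⟩ := Scheme.mem_propQCPrecoverage_iff_exists_quasiCompactCover.1 hR
    let f' : ∀ i, 𝒰.X i ⟶ V.left := fun i => 𝒰.f i
    haveI : ∀ i, WeaklyEtale (f' i) := fun i => 𝒰.map_prop i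
    haveI : WeaklyEtale V.hom := V.prop
    let Z' : 𝒰.I₀ → U.ProEt := fun i => Scheme.ProEt.mk (f' i ≫ V.hom)
    let g' : ∀ i, Z' i ⟶ V := fun i => MorphismProperty.Over.homMk
      (show (Z' i).left ⟶ V.left from f' i) rfl
    have hmem : ∀ i, S.arrows (g' i) := by
      intro i
      have hf : (R.map (Scheme.ProEt.forget U ⋙ Over.forget U)) (𝒰.f i) := by
        rw [hEq]
        exact ⟨i⟩
      obtain ⟨Z, h, g, hg, hgf⟩ := Presieve.map_iff.1 hf
      have h' : Z.left = 𝒰.X i := h
      have hgf' : g.left = eqToHom h' ≫ f' i := hgf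
      have hw : g.left ≫ V.hom = Z.hom := MorphismProperty.Over.w g
      have hw2 : eqToHom h'.symm ≫ Z.hom = f' i ≫ V.hom := by
        have e1 : Z.hom = eqToHom h' ≫ f' i ≫ V.hom := by
          rw [← hw, hgf']
          exact Category.assoc _ _ _
        rw [e1]
        exact eqToHom_symm_comp h' _
      let k : Z' i ⟶ Z := MorphismProperty.Over.homMk
        (show 𝒰.X i ⟶ Z.left from eqToHom h'.symm) hw2
      have hk : g' i = k ≫ g := by
        apply MorphismProperty.Over.Hom.ext
        change f' i = eqToHom h'.symm ≫ g.left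
        rw [hgf']
        exact (eqToHom_symm_comp h' _).symm
      rw [hk]
      exact S.downward_closed (hle _ _ hg) k
    have hcov : Sieve.generate (Presieve.ofArrows (fun i => (compP j).obj (Z' i))
        (fun i => (compP j).map (g' i))) ∈ Scheme.ProEt.topology X ((compP j).obj V) := by
      apply generate_ofArrows_mem_topology (fun i => (compP j).obj (Z' i))
        (fun i => (compP j).map (g' i))
      · intro x
        obtain ⟨i, y, hy⟩ := 𝒰.exists_eq x
        exact ⟨i, y, hy⟩
      · exact h𝒰
    refine (Scheme.ProEt.topology X).superset_covering ?_ hcov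
    rw [Sieve.generate_le_iff]
    rintro _ _ ⟨i⟩
    exact ⟨Z' i, g' i, 𝟙 _, hmem i, (Category.id_comp _).symm⟩

theorem compatiblePreserving_compP [Mono j] :
    CompatiblePreserving (Scheme.ProEt.topology X) (compP j) := by
  apply compatiblePreservingOfDownwardsClosed
  intro c d f
  haveI : WeaklyEtale d.hom := d.prop
  have hw : f.left ≫ c.hom ≫ j = d.hom := MorphismProperty.Over.w f
  haveI : WeaklyEtale ((f.left ≫ c.hom) ≫ j) := by
    rw [Category.assoc, hw]
    infer_instance
  haveI : WeaklyEtale (f.left ≫ c.hom) := WeaklyEtale.of_comp (f.left ≫ c.hom) j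
  let c' : U.ProEt := Scheme.ProEt.mk (f.left ≫ c.hom)
  refine ⟨c', ?_⟩
  exact
    { hom := MorphismProperty.Over.homMk (show d.left ⟶ d.left from 𝟙 _)
        (((Category.id_comp _).trans hw.symm).trans (Category.assoc _ _ _).symm)
      inv := MorphismProperty.Over.homMk (show d.left ⟶ d.left from 𝟙 _)
        ((Category.id_comp _).trans ((Category.assoc _ _ _).trans hw))
      hom_inv_id := hom_ext' (Category.comp_id _)
      inv_hom_id := hom_ext' (Category.comp_id _) }

/-- `compP j` is continuous for a weakly étale monomorphism `j`. -/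
theorem jpCont [Mono j] : ProEtS.JPCont j :=
  Functor.isContinuous_of_coverPreserving (compatiblePreserving_compP j) (coverPreserving_compP j)

end Groth.Agent.Lib.ProEtJPCont22
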