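import Groth.Agent.Lib.ProEtModTransfer22b
import Groth.Agent.Lib.ProEtJPCont22
import Groth.Agent.Lib.EtGermB
import Groth.Agent.Lib.ProEtEps22c

/-!
# `j⁻¹ ε_X⁻¹ i_* = 0` on sheaves of modules (helper22)

For a weakly étale `j : U ⟶ X`:
* `compBcAdj j : compP j ⊣ bcP j`, `pCont_of_weaklyEtale : ProEtS.PCont j`,
  `restrPushAdjM : j⁻¹ ⊣ j_*` on pro-étale sheaves of modules;
for an open immersion `j` and any `i : Z ⟶ X` with image disjoint from that of `j`:
* `isZero_restrM_epsPull_push`: `j⁻¹ ε_X⁻¹ i_* E = 0`.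
-/

set_option autoImplicit false
set_option linter.style.haveILetI false
universe u

open CategoryTheory AlgebraicGeometry Limits MorphismProperty Opposite TopologicalSpace ProEtS

namespace Groth.Agent.Lib.ProEtModTransfer22

open Groth.Agent.Lib.ModForgetPull22 Groth.Agent.Lib.ProEtAdicLim22
  Groth.Agent.Lib.ProEtExtZeroMod22 Groth.Agent.Lib.ProEtExtZeroUnit22 Groth.Agent.Lib.ProEtEps22

variable (Λ : Type (u + 1)) [CommRing Λ]

section adj

variable {U X : Scheme.{u}} (j : U ⟶ X) [hj : WeaklyEtale j]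

/-- `compP j ⊣ bcP j`. -/
noncomputable def compBcAdj : compP j ⊣ bcP j :=
  MorphismProperty.Over.mapPullbackAdj (P := @WeaklyEtale) ⊤ j hj trivial

instance pCont_of_weaklyEtale : ProEtS.PCont j :=
  Adjunction.isContinuous_of_isCocontinuous (J := Scheme.ProEt.topology U)
    (K := Scheme.ProEt.topology X) (compBcAdj j)

/-- `j⁻¹ ⊣ j_*` on pro-étale sheaves of modules. -/
noncomputable def restrPushAdjM [ProEtS.JPCont j] : restrM Λ j ⊣ pushM Λ j :=
  (compBcAdj j).sheafPushforwardContinuous (Scheme.ProEt.topology U) (Scheme.ProEt.topology X)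

end adj

section vanish

variable {Z U X : Scheme.{u}} (i : Z ⟶ X) (j : U ⟶ X) [IsOpenImmersion j] [ProEtS.EpsCont X]
  [ProEtS.JPCont j] (hdisj : Disjoint (Set.range j) (Set.range i))

/-- `ε_*` on sheaves of modules. -/
noncomputable abbrev epsPushMod (X : Scheme.{u}) [ProEtS.EpsCont X] :
    EtModW.ModP Λ X ⥤ EtModW.Mod Λ X :=
  (ProEtS.eps X).sheafPushforwardContinuous (ModuleCat.{u + 1} Λ) X.smallEtaleTopology
    (Scheme.ProEt.topology X)

/-- Sections of an étale sheaf of modules over an empty scheme are trivial. -/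
theorem subsingleton_sect_mod_of_isEmpty (E : EtModW.Mod Λ Z) (V : Z.Etale) [IsEmpty V.left] :
    Subsingleton (E.obj.obj (op V)) := by
  let E' : Sheaf Z.smallEtaleTopology (Type (u + 1)) :=
    (sheafCompose Z.smallEtaleTopology (forget (ModuleCat.{u + 1} Λ))).obj E
  have hS : Presieve.IsSheaf Z.smallEtaleTopology E'.obj :=
    (isSheaf_iff_isSheaf_of_type _ _).1 E'.property
  have h1 := (hS (⊥ : Sieve V) (Groth.Agent.Lib.EtGerm.bot_mem_of_isEmpty V)).isSeparatedFor
  refine ⟨fun a b => ?_⟩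
  refine h1 (fun Y f hf => hf.elim) a b ?_ ?_ <;> intro Y f hf <;> exact hf.elim

omit [ProEtS.JPCont j] in
include hdisj in
/-- There are no nonzero morphisms `i_* E ⟶ ε_* j_* H`. -/
theorem hom_push_epsPush_pushM_eq_zero (E : EtModW.Mod Λ Z) (H : EtModW.ModP Λ U)
    (φ : (EtModW.push Λ i).obj E ⟶ (epsPushMod Λ X).obj ((pushM Λ j).obj H)) : φ = 0 := by
  apply Sheaf.hom_ext
  apply NatTrans.ext
  funext V
  induction V with | op V => ?_
  apply ModuleCat.hom_ext
  apply LinearMap.ext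
  intro s
  haveI : Etale V.hom := V.prop
  let pU : pullback V.hom j ⟶ V.left := pullback.fst V.hom j
  let VU : X.Etale := etMk (pU ≫ V.hom)
  let p : VU ⟶ V := MorphismProperty.Over.homMk (show VU.left ⟶ V.left from pU) rfl
  let A : EtModW.Mod Λ X := (EtModW.push Λ i).obj E
  let B : EtModW.Mod Λ X := (epsPushMod Λ X).obj ((pushM Λ j).obj H)
  -- `s` vanishes on `VU`
  haveI : IsEmpty ((EtCoh.bc i).obj VU).left := by
    refine ⟨fun t => ?_⟩
    let a : pullback (pU ≫ V.hom) i ⟶ pullback V.hom j := pullback.fst (pU ≫ V.hom) i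
    let b : pullback (pU ≫ V.hom) i ⟶ Z := pullback.snd (pU ≫ V.hom) i
    have hcond : a ≫ pU ≫ V.hom = b ≫ i := pullback.condition
    have hcond2 : pU ≫ V.hom = pullback.snd V.hom j ≫ j := pullback.condition
    have h1 : j (pullback.snd V.hom j (a t)) = i (b t) := by
      have h2 := congrArg (fun m : pullback (pU ≫ V.hom) i ⟶ X => m t)
        ((congrArg (fun m => a ≫ m) hcond2).symm.trans hcond)
      change (a ≫ pullback.snd V.hom j ≫ j) t = (b ≫ i) t at h2
      rw [Scheme.Hom.comp_apply, Scheme.Hom.comp_apply, Scheme.Hom.comp_apply] at h2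
      exact h2
    exact (Set.disjoint_left.1 hdisj) ⟨_, rfl⟩ ⟨b t, h1.symm⟩
  haveI : Subsingleton (A.obj.obj (op VU)) :=
    subsingleton_sect_mod_of_isEmpty Λ E ((EtCoh.bc i).obj VU)
  have hs : (A.obj.map p.op).hom s = 0 := Subsingleton.elim _ _
  have hnat : (B.obj.map p.op).hom ((φ.hom.app (op V)).hom s) =
      (φ.hom.app (op VU)).hom ((A.obj.map p.op).hom s) :=
    (congrArg (fun m => m.hom s) (φ.hom.naturality p.op)).symm
  rw [hs, map_zero] at hnat
  -- restriction to `VU` is injective on `B`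
  let W : U.ProEt := (bcP j).obj ((ProEtS.eps X).obj V)
  let WU : U.ProEt := (bcP j).obj ((ProEtS.eps X).obj VU)
  let m : WU ⟶ W := (bcP j).map ((ProEtS.eps X).map p)
  let nl : pullback V.hom j ⟶ pullback (pU ≫ V.hom) j :=
    pullback.lift (𝟙 _) (pullback.snd V.hom j) (by
      rw [Category.id_comp]
      exact pullback.condition)
  let n : W ⟶ WU := MorphismProperty.Over.homMk (show W.left ⟶ WU.left from nl)
    (pullback.lift_snd _ _ _)
  have hnm : n ≫ m = 𝟙 W := by
    apply Groth.Agent.Lib.ProEtWC22.hom_ext'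
    change nl ≫ m.left = 𝟙 _
    have hl1 : nl ≫ pullback.fst (pU ≫ V.hom) j = 𝟙 _ := pullback.lift_fst _ _ _
    have hl2 : nl ≫ pullback.snd (pU ≫ V.hom) j = pullback.snd V.hom j :=
      pullback.lift_snd _ _ _
    apply pullback.hom_ext
    · have e1 : m.left ≫ pullback.fst V.hom j = pullback.fst (pU ≫ V.hom) j ≫ pU :=
        pullback.lift_fst _ _ _
      exact (Category.assoc nl m.left _).trans ((congrArg (fun t => nl ≫ t) e1).trans
        ((Category.assoc nl _ pU).symm.trans (congrArg (fun t => t ≫ pU) hl1)))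
    · have e2 : m.left ≫ pullback.snd V.hom j = pullback.snd (pU ≫ V.hom) j :=
        pullback.lift_snd _ _ _
      exact (Category.assoc nl m.left _).trans ((congrArg (fun t => nl ≫ t) e2).trans
        (hl2.trans (Category.id_comp _).symm))
  have hBm : B.obj.map p.op = H.obj.map m.op := rfl
  have hid : H.obj.map m.op ≫ H.obj.map n.op = 𝟙 _ := by
    rw [← H.obj.map_comp, ← op_comp, hnm, op_id, H.obj.map_id]
  have h3 : (H.obj.map n.op).hom ((H.obj.map m.op).hom ((φ.hom.app (op V)).hom s)) =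
      (φ.hom.app (op V)).hom s := congrArg (fun t => t.hom ((φ.hom.app (op V)).hom s)) hid
  have h4 : (H.obj.map m.op).hom ((φ.hom.app (op V)).hom s) = 0 := hnat
  rw [h4, map_zero] at h3
  exact h3.symm

include hdisj in
/-- `j⁻¹ ε_X⁻¹ i_* E = 0`. -/
theorem isZero_restrM_epsPull_push (E : EtModW.Mod Λ Z) :
    IsZero ((restrM Λ j).obj ((EtModW.epsPullMod Λ X).obj ((EtModW.push Λ i).obj E))) := by
  let adjL := (epsAdjMod Λ X).comp (restrPushAdjM Λ j)
  let A : EtModW.Mod Λ X := (EtModW.push Λ i).obj E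
  haveI : (EtModW.epsPullMod Λ X ⋙ restrM Λ j).IsLeftAdjoint := adjL.isLeftAdjoint
  have hu : adjL.unit.app A = 0 := hom_push_epsPush_pushM_eq_zero Λ i j hdisj E _ _
  have h1 : 𝟙 ((EtModW.epsPullMod Λ X ⋙ restrM Λ j).obj A) =
      (adjL.homEquiv A _).symm (adjL.unit.app A) := by
    rw [← Adjunction.homEquiv_id, Equiv.symm_apply_apply]
  have h2 : (adjL.homEquiv A ((EtModW.epsPullMod Λ X ⋙ restrM Λ j).obj A)).symm 0 = 0 := by
    rw [Adjunction.homEquiv_counit, Functor.map_zero, zero_comp]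
  rw [IsZero.iff_id_eq_zero]
  exact h1.trans ((congrArg _ hu).trans h2)

end vanish

end Groth.Agent.Lib.ProEtModTransfer22
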