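import Groth.Agent.Lib.ProEtExt22e
import Groth.Agent.Lib.ProEtModTransfer22c
import Groth.Agent.Lib.ProEtAdicFF22
import Groth.Agent.Lib.ProEtAdicAb22
import Groth.Agent.Lib.ProEtEpsExact22

/-!
# Extensions of classical sheaves of modules on the pro-étale site (helper22)

* `isIso_counitMod_of_shortExact`: if `0 ⟶ ε⁻¹ A ⟶ G ⟶ ε⁻¹ B ⟶ 0` is a short exact sequence of
  pro-étale sheaves of `Λ`-modules, the counit `ε⁻¹ ε_* G ⟶ G` is an isomorphism;
* `isWeakSerre_essImage_epsPullMod`: the essential image under `ε⁻¹` of a weak Serre class of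
  étale sheaves of `Λ`-modules is a weak Serre class of pro-étale sheaves of `Λ`-modules.
-/

set_option autoImplicit false
set_option linter.style.haveILetI false
universe u

open CategoryTheory AlgebraicGeometry Limits MorphismProperty Opposite TopologicalSpace ProEtS

namespace Groth.Agent.Lib.ProEtExtMod22

open Groth.Agent.Lib.ModForgetPull22 Groth.Agent.Lib.ProEtAdicLim22
  Groth.Agent.Lib.ProEtModTransfer22 Groth.Agent.Lib.ProEtExt22

variable (Λ : Type (u + 1)) [CommRing Λ] (X : Scheme.{u})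

/-- The forgetful functor from étale sheaves of modules to abelian étale sheaves. -/
noncomputable abbrev UE : EtModW.Mod Λ X ⥤ EtCoh.Ab X := USh Λ X.smallEtaleTopology

section forget

variable {C : Type*} [Category* C] (J : GrothendieckTopology C) [J.HasSheafCompose (UF.{u + 1} Λ)]

instance preservesFiniteLimits_USh : PreservesFiniteLimits (USh.{u + 1} Λ J) := by
  constructor
  intro K _ _
  haveI : PreservesLimitsOfShape K (USh.{u + 1} Λ J ⋙ sheafToPresheaf J AddCommGrpCat.{u + 1}) := by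
    have : USh.{u + 1} Λ J ⋙ sheafToPresheaf J AddCommGrpCat.{u + 1} =
        sheafToPresheaf J (ModuleCat.{u + 1} Λ) ⋙
          (Functor.whiskeringRight _ _ _).obj (UF.{u + 1} Λ) := rfl
    rw [this]
    infer_instance
  exact preservesLimitsOfShape_of_reflects_of_preserves (USh.{u + 1} Λ J)
    (sheafToPresheaf J AddCommGrpCat.{u + 1})

end forget

variable [ProEtS.EpsCont X]

instance : PreservesFiniteColimits (UP Λ X) := by
  haveI : (UP Λ X).IsLeftAdjoint := (adjSh Λ (Scheme.ProEt.topology X)).isLeftAdjoint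
  infer_instance

instance : (UP Λ X).Additive := Functor.additive_of_preserves_binary_products _

variable {Λ X}

theorem epi_epsPushMod_map_g (T : ShortComplex (EtModW.ModP Λ X)) (hT : T.ShortExact)
    (A B : EtModW.Mod Λ X) (e₁ : (EtModW.epsPullMod Λ X).obj A ≅ T.X₁)
    (e₃ : (EtModW.epsPullMod Λ X).obj B ≅ T.X₃) :
    Epi ((epsPushMod Λ X).map T.g) := by
  have hT' : (T.map (UP Λ X)).ShortExact := hT.map_of_exact (UP Λ X)
  let f₁ : (ProEtS.epsPull X).obj ((UE Λ X).obj A) ≅ (T.map (UP Λ X)).X₁ :=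
    betaIso (epsAdjMod Λ X) (ProEtS.epsAdj X) A ≪≫ (UP Λ X).mapIso e₁
  let f₃ : (ProEtS.epsPull X).obj ((UE Λ X).obj B) ≅ (T.map (UP Λ X)).X₃ :=
    betaIso (epsAdjMod Λ X) (ProEtS.epsAdj X) B ≪≫ (UP Λ X).mapIso e₃
  have h := epi_epsPush_map_g (T.map (UP Λ X)) hT' _ _ f₁ f₃
  have h' : Epi ((UE Λ X).map ((epsPushMod Λ X).map T.g)) := h
  exact (UE Λ X).epi_of_epi_map h'

theorem isIso_counitMod_epsPullMod_obj (A : EtModW.Mod Λ X) :
    IsIso ((epsAdjMod Λ X).counit.app ((EtModW.epsPullMod Λ X).obj A)) := by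
  have h := (epsAdjMod Λ X).left_triangle_components A
  haveI : IsIso ((epsAdjMod Λ X).unit.app A) :=
    Groth.Agent.Lib.ProEtEpsMod22.isIso_unit_epsAdjMod A
  exact IsIso.of_isIso_fac_left h

theorem isIso_counitMod_of_iso {F : EtModW.ModP Λ X} (A : EtModW.Mod Λ X)
    (e : (EtModW.epsPullMod Λ X).obj A ≅ F) : IsIso ((epsAdjMod Λ X).counit.app F) := by
  have h := (epsAdjMod Λ X).counit.naturality e.hom
  haveI := isIso_counitMod_epsPullMod_obj A
  have h2 : (epsAdjMod Λ X).counit.app F =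
      (epsPushMod Λ X ⋙ EtModW.epsPullMod Λ X).map e.inv ≫
        (epsAdjMod Λ X).counit.app ((EtModW.epsPullMod Λ X).obj A) ≫ e.hom := by
    have h' : (epsAdjMod Λ X).counit.app ((EtModW.epsPullMod Λ X).obj A) ≫ e.hom =
        (epsPushMod Λ X ⋙ EtModW.epsPullMod Λ X).map e.hom ≫ (epsAdjMod Λ X).counit.app F :=
      h.symm
    rw [h', ← Category.assoc, ← Functor.map_comp,
      e.inv_hom_id, CategoryTheory.Functor.map_id, Category.id_comp]
  rw [h2]
  infer_instance

/-- Classical sheaves of modules are closed under extensions. -/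
theorem isIso_counitMod_of_shortExact (T : ShortComplex (EtModW.ModP Λ X)) (hT : T.ShortExact)
    (A B : EtModW.Mod Λ X) (e₁ : (EtModW.epsPullMod Λ X).obj A ≅ T.X₁)
    (e₃ : (EtModW.epsPullMod Λ X).obj B ≅ T.X₃) :
    IsIso ((epsAdjMod Λ X).counit.app T.X₂) :=
  Groth.Agent.Lib.AdjExt22.isIso_counit_of_shortExact (epsAdjMod Λ X) T hT
    (isIso_counitMod_of_iso A e₁) (isIso_counitMod_of_iso B e₃)
    (epi_epsPushMod_map_g T hT A B e₁ e₃)

/-- The essential image under `ε⁻¹` of a weak Serre class of étale sheaves of modules is a weak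
Serre class. -/
theorem isWeakSerre_essImage_epsPullMod (S : ObjectProperty (EtModW.Mod Λ X))
    [WSerre.IsWeakSerre S] :
    WSerre.IsWeakSerre (fun F : EtModW.ModP Λ X =>
      ∃ G : EtModW.Mod Λ X, S G ∧ Nonempty ((EtModW.epsPullMod Λ X).obj G ≅ F)) := by
  haveI : (EtModW.epsPullMod Λ X).Additive := Functor.additive_of_preserves_binary_products _
  exact Groth.Agent.Lib.AdjExt22.isWeakSerre_essImage (EtModW.epsPullMod Λ X) S
    (fun T hT A B _ _ e₁ e₃ => by
      haveI := isIso_counitMod_of_shortExact T hT A B e₁ e₃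
      exact ⟨(epsPushMod Λ X).obj T.X₂, ⟨asIso ((epsAdjMod Λ X).counit.app T.X₂)⟩⟩)

end Groth.Agent.Lib.ProEtExtMod22
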