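import Groth.Agent.Lib.ProEtExtZeroUnit22
import Groth.Agent.Lib.ProEtClosedPush22
import Groth.Agent.S0707

/-!
# Clopen decomposition of a w-contractible affine along a quasi-compact open (helper22)

* `onePlus E`: the submonoid `1 + E` of a commutative ring;
* `exists_clopen_sections'`: clopen sections for families indexed by an arbitrary finite type;
* `exists_clopen_decomp`: for an affine object `W` with w-contractible ring of functions and a
  quasi-compact open `O` of `W`, there is a clopen decomposition `W = C ⊔ C'` with `C ⊆ O` and every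
  point of `C'` specializing to a point of `C' \ O`.
-/

set_option autoImplicit false
set_option linter.style.haveILetI false
universe u

open CategoryTheory AlgebraicGeometry Limits MorphismProperty Opposite TopologicalSpace ProEtS

namespace Groth.Agent.Lib.ProEtExtZeroLim22

open Groth.Agent.Lib.ProEtWC22 Groth.Agent.Lib.ProEtCover22

section ring

variable {A : Type*} [CommRing A]

/-- The submonoid `1 + E`. -/
def onePlus (E : Ideal A) : Submonoid A where
  carrier := {s | s - 1 ∈ E}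
  one_mem' := by simp
  mul_mem' := by
    intro a b ha hb
    have h : a * b - 1 = (a - 1) * b + (b - 1) := by ring
    show a * b - 1 ∈ E
    rw [h]
    exact E.add_mem (E.mul_mem_right _ ha) hb

theorem mem_onePlus {E : Ideal A} {s : A} : s ∈ onePlus E ↔ s - 1 ∈ E := Iff.rfl

/-- Primes containing `E` are disjoint from `1 + E`. -/
theorem disjoint_onePlus_of_le {E : Ideal A} (p : PrimeSpectrum A) (h : E ≤ p.asIdeal) :
    Disjoint (onePlus E : Set A) (p.asIdeal : Set A) := by
  rw [Set.disjoint_left]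
  intro s hs hsp
  have h1 : s - 1 ∈ p.asIdeal := h hs
  have h2 : (1 : A) ∈ p.asIdeal := by
    have : (1 : A) = s - (s - 1) := by ring
    rw [this]
    exact p.asIdeal.sub_mem hsp h1
  exact p.2.ne_top ((Ideal.eq_top_iff_one _).2 h2)

/-- Primes disjoint from `1 + E` specialize to primes containing `E`. -/
theorem exists_le_of_disjoint_onePlus {E : Ideal A} (p : PrimeSpectrum A)
    (h : Disjoint (onePlus E : Set A) (p.asIdeal : Set A)) :
    ∃ m : PrimeSpectrum A, E ≤ m.asIdeal ∧ p ⤳ m := by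
  have hne : p.asIdeal ⊔ E ≠ ⊤ := by
    intro htop
    have h1 : (1 : A) ∈ p.asIdeal ⊔ E := htop ▸ Submodule.mem_top
    obtain ⟨a, ha, e, he, hae⟩ := Submodule.mem_sup.1 h1
    have haS : a ∈ onePlus E := by
      rw [mem_onePlus]
      have : a - 1 = -e := by rw [← hae]; ring
      rw [this]
      exact E.neg_mem he
    exact (Set.disjoint_left.1 h) haS ha
  obtain ⟨m, hm, hle⟩ := Ideal.exists_le_maximal _ hne
  refine ⟨⟨m, hm.isPrime⟩, le_sup_right.trans hle, ?_⟩
  rw [← PrimeSpectrum.le_iff_specializes]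
  exact le_sup_left.trans hle

end ring

section clopen

variable {X : Scheme.{u}}

/-- **Clopen sections**, for families indexed by an arbitrary finite type. -/
theorem exists_clopen_sections' (U : X.ProEt) [IsAffine U.left]
    (hU : EtPBC.IsWContractible Γ(U.left, ⊤)) {κ : Type u} [Finite κ] (Z : κ → X.ProEt)
    (g : ∀ k, Z k ⟶ U)
    (hZ : ∀ k, IsAffine (Z k).left) (hsurj : ∀ x : U.left, ∃ k, x ∈ Set.range (g k).left) :
    ∃ (W : κ → U.left.Opens), IsOpenCover W ∧
      Pairwise (fun k l => Disjoint (W k) (W l)) ∧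
      ∀ k, ∃ t : (W k).toScheme ⟶ (Z k).left, t ≫ (g k).left = (W k).ι := by
  let Y : κ → Scheme.{u} := fun k => (Z k).left
  haveI : ∀ k, IsAffine (Y k) := hZ
  let p : (∐ Y) ⟶ U.left := Sigma.desc (fun k => (g k).left)
  have hp : ∀ k, Sigma.ι Y k ≫ p = (g k).left := fun k => Sigma.ι_desc _ _
  haveI : WeaklyEtale p :=
    IsZariskiLocalAtSource.sigmaDesc (P := @WeaklyEtale)
      (fun k => Groth.Agent.Lib.ProEtGeomPt22.weaklyEtale_left (g k))
  haveI : Surjective p := by
    refine ⟨fun x => ?_⟩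
    obtain ⟨k, z, hz⟩ := hsurj x
    refine ⟨Sigma.ι Y k z, ?_⟩
    rw [← Scheme.Hom.comp_apply, hp k, hz]
  obtain ⟨σ, hσ⟩ := exists_section_of_isWContractible p hU
  let W : κ → U.left.Opens := fun k => σ ⁻¹ᵁ (Sigma.ι Y k).opensRange
  refine ⟨W, ?_, ?_, fun k => ?_⟩
  · -- cover
    rw [IsOpenCover, eq_top_iff]
    intro x _
    obtain ⟨k, y, hy⟩ := (sigmaOpenCover Y).exists_eq (σ x)
    rw [Opens.mem_iSup]
    exact ⟨k, y, hy⟩
  · -- disjoint
    intro k l hkl
    have hd := disjoint_opensRange_sigmaι Y k l hkl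
    rw [← Opens.coe_disjoint] at hd ⊢
    exact hd.preimage σ
  · -- sections
    have hrange : Set.range ((W k).ι ≫ σ) ⊆ Set.range (Sigma.ι Y k) := by
      rintro _ ⟨x, rfl⟩
      have hx : (W k).ι x ∈ W k := x.2
      rw [Scheme.Hom.comp_apply]
      exact hx
    refine ⟨IsOpenImmersion.lift (Sigma.ι Y k) ((W k).ι ≫ σ) hrange, ?_⟩
    rw [← hp k, ← Category.assoc, IsOpenImmersion.lift_fac, Category.assoc, hσ, Category.comp_id]

end clopen

section decomp

variable {X : Scheme.{u}}

theorem mem_isoSpec_hom_asIdeal_iff (Y : Scheme.{u}) [IsAffine Y] (x : Y) (f : Γ(Y, ⊤)) :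
    f ∈ (Y.isoSpec.hom x).asIdeal ↔ x ∉ Y.basicOpen f := by
  have h1 : x ∈ Y.toSpecΓ ⁻¹ᵁ PrimeSpectrum.basicOpen f ↔ x ∈ Y.basicOpen f := by
    rw [Scheme.toSpecΓ_preimage_basicOpen]
  have h2 : x ∈ Y.toSpecΓ ⁻¹ᵁ PrimeSpectrum.basicOpen f ↔ f ∉ (Y.isoSpec.hom x).asIdeal := Iff.rfl
  rw [← h1, h2, not_not]

theorem isoSpec_inv_hom_apply (Y : Scheme.{u}) [IsAffine Y] (x : Y) :
    Y.isoSpec.inv (Y.isoSpec.hom x) = x := by
  rw [← Scheme.Hom.comp_apply, Iso.hom_inv_id]
  rfl

theorem isoSpec_hom_inv_apply (Y : Scheme.{u}) [IsAffine Y] (p : Spec Γ(Y, ⊤)) :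
    Y.isoSpec.hom (Y.isoSpec.inv p) = p := by
  rw [← Scheme.Hom.comp_apply, Iso.inv_hom_id]
  rfl

/-- Clopen decomposition of an affine object with w-contractible ring of functions along a
quasi-compact open. -/
theorem exists_clopen_decomp (W : X.ProEt) [IsAffine W.left]
    (hW : EtPBC.IsWContractible Γ(W.left, ⊤)) (O : W.left.Opens)
    (hO : IsCompact (O : Set W.left)) :
    ∃ C C' : W.left.Opens, C ⊔ C' = ⊤ ∧ Disjoint C C' ∧ C ≤ O ∧
      ∀ v : W.left, v ∈ C' → ∃ z : W.left, z ∈ C' ∧ z ∉ O ∧ v ⤳ z := by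
  classical
  obtain ⟨s, hsfin, hs⟩ :=
    isCompact_and_isOpen_iff_finite_and_eq_biUnion_basicOpen.1 ⟨hO, O.isOpen⟩
  let E : Ideal Γ(W.left, ⊤) := Ideal.span s
  let B := Localization (onePlus E)
  let φ : Γ(W.left, ⊤) ⟶ CommRingCat.of B := CommRingCat.ofHom (algebraMap Γ(W.left, ⊤) B)
  let q : Spec (CommRingCat.of B) ⟶ W.left := Spec.map φ ≫ W.left.isoSpec.inv
  haveI : Algebra.WeaklyEtale Γ(W.left, ⊤) B :=
    Groth.Agent.S0707.weaklyEtale_of_isLocalization (onePlus E) B
  haveI : WeaklyEtale (Spec.map φ) := Groth.Agent.S7178.weaklyEtale_SpecMap_iff.2 inferInstance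
  haveI : WeaklyEtale q := inferInstance
  haveI : WeaklyEtale W.hom := W.prop
  -- description of the range of `q`
  have hrange : ∀ y : W.left, y ∈ Set.range q ↔
      Disjoint (onePlus E : Set Γ(W.left, ⊤)) ((W.left.isoSpec.hom y).asIdeal : Set _) := by
    intro y
    have h1 := PrimeSpectrum.localization_comap_range B (onePlus E)
    constructor
    · rintro ⟨b, rfl⟩
      have h2 : W.left.isoSpec.hom (q b) = Spec.map φ b := by
        change W.left.isoSpec.hom ((Spec.map φ ≫ W.left.isoSpec.inv) b) = _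
        rw [Scheme.Hom.comp_apply]
        exact isoSpec_hom_inv_apply _ _
      rw [h2]
      have h3 : Spec.map φ b ∈ Set.range (PrimeSpectrum.comap (algebraMap Γ(W.left, ⊤) B)) :=
        ⟨b, rfl⟩
      rw [h1] at h3
      exact h3
    · intro hd
      have h3 : W.left.isoSpec.hom y ∈
          Set.range (PrimeSpectrum.comap (algebraMap Γ(W.left, ⊤) B)) := by
        rw [h1]
        exact hd
      obtain ⟨b, hb⟩ := h3
      refine ⟨b, ?_⟩
      change (Spec.map φ ≫ W.left.isoSpec.inv) b = y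
      rw [Scheme.Hom.comp_apply]
      have h4 : Spec.map φ b = W.left.isoSpec.hom y := hb
      rw [h4]
      exact isoSpec_inv_hom_apply _ _
  have hmemO : ∀ x : W.left, x ∈ O ↔ ∃ f ∈ s, x ∈ W.left.basicOpen f := by
    intro x
    have : x ∈ (O : Set W.left) ↔ x ∈ ⋃ i ∈ s, (W.left.basicOpen i : Set W.left) := by rw [hs]
    rw [Set.mem_iUnion₂] at this
    simpa using this
  haveI : Finite s := hsfin.to_subtype
  let Z : Option s → X.ProEt := fun k => match k with
    | none => Scheme.ProEt.mk (q ≫ W.hom)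
    | some f => opensObj W (W.left.basicOpen (f : Γ(W.left, ⊤)))
  let g : ∀ k, Z k ⟶ W := fun k => match k with
    | none => MorphismProperty.Over.homMk (show (Scheme.ProEt.mk (q ≫ W.hom)).left ⟶ W.left from q) rfl
    | some f => opensHom W (W.left.basicOpen (f : Γ(W.left, ⊤)))
  have hZ : ∀ k, IsAffine (Z k).left := by
    intro k
    match k with
    | none => exact (inferInstance : IsAffine (Spec (CommRingCat.of B)))
    | some f => exact (isAffineOpen_top W.left).basicOpen (f : Γ(W.left, ⊤))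
  have hsurj : ∀ x : W.left, ∃ k, x ∈ Set.range (g k).left := by
    intro x
    by_cases hx : x ∈ O
    · obtain ⟨f, hf, hxf⟩ := (hmemO x).1 hx
      refine ⟨some ⟨f, hf⟩, ?_⟩
      show x ∈ Set.range (W.left.basicOpen f).ι
      rw [Scheme.Opens.range_ι]
      exact hxf
    · refine ⟨none, ?_⟩
      show x ∈ Set.range q
      rw [hrange]
      apply disjoint_onePlus_of_le
      apply Ideal.span_le.2
      intro f hf
      show f ∈ (W.left.isoSpec.hom x).asIdeal
      rw [mem_isoSpec_hom_asIdeal_iff]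
      intro hxf
      exact hx ((hmemO x).2 ⟨f, hf, hxf⟩)
  obtain ⟨Wk, hcov, hdis, hsec⟩ := exists_clopen_sections' W hW Z g hZ hsurj
  have hsub : ∀ k, ∀ x : W.left, x ∈ Wk k → x ∈ Set.range (g k).left := by
    intro k x hx
    obtain ⟨t, ht⟩ := hsec k
    refine ⟨t ⟨x, hx⟩, ?_⟩
    rw [← Scheme.Hom.comp_apply, ht]
    rfl
  refine ⟨⨆ f : s, Wk (some f), Wk none, ?_, ?_, ?_, ?_⟩
  · have h1 : ⨆ k, Wk k = ⊤ := hcov
    rw [iSup_option] at h1
    rw [sup_comm]
    exact h1
  · rw [iSup_disjoint_iff]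
    intro f
    exact hdis (by simp)
  · apply iSup_le
    intro f x hx
    obtain ⟨y, hy⟩ := hsub (some f) x hx
    have h1 : x ∈ Set.range (W.left.basicOpen (f : Γ(W.left, ⊤))).ι := ⟨y, hy⟩
    rw [Scheme.Opens.range_ι] at h1
    exact (hmemO x).2 ⟨f, f.2, h1⟩
  · intro v hv
    have h1 : v ∈ Set.range q := hsub none v hv
    rw [hrange] at h1
    obtain ⟨m, hEm, hvm⟩ := exists_le_of_disjoint_onePlus _ h1
    let z : W.left := W.left.isoSpec.inv m
    have hz : W.left.isoSpec.hom z = m := isoSpec_hom_inv_apply _ _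
    have hvz : v ⤳ z := by
      have h2 := hvm.map (W.left.isoSpec.inv.continuous)
      rw [isoSpec_inv_hom_apply] at h2
      exact h2
    have hzO : z ∉ O := by
      intro hzO
      obtain ⟨f, hf, hzf⟩ := (hmemO z).1 hzO
      have h3 : f ∈ (W.left.isoSpec.hom z).asIdeal := by
        rw [hz]
        exact hEm (Ideal.subset_span hf)
      rw [mem_isoSpec_hom_asIdeal_iff] at h3
      exact h3 hzf
    refine ⟨z, ?_, hzO, hvz⟩
    by_contra hzC'
    have hzC : z ∈ ⨆ f : s, Wk (some f) := by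
      have h4 : z ∈ ⨆ k, Wk k := hcov.symm ▸ (show z ∈ (⊤ : W.left.Opens) from trivial)
      rw [iSup_option] at h4
      rcases h4 with h4 | h4
      · exact absurd h4 hzC'
      · exact h4
    have hvC : v ∈ ⨆ f : s, Wk (some f) :=
      hvz.mem_open (⨆ f : s, Wk (some f)).isOpen hzC
    rw [Opens.mem_iSup] at hvC
    obtain ⟨f, hvf⟩ := hvC
    have hd : Disjoint (Wk (some f)) (Wk none) := hdis (by simp)
    exact (Opens.coe_disjoint.2 hd).le_bot ⟨hvf, hv⟩

end decomp

end Groth.Agent.Lib.ProEtExtZeroLim22
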