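import Groth.Agent.Lib.ProEtExtZeroLim22a

/-!
# Sections of `j_!` over w-contractible affines (helper22)

* `subsingleton_extZeroP_sections'`: `j_! F (V) = 0` for affine `V` all of whose points specialize
  to points lying over a set `T` disjoint from `U`;
* `bijective_map_opensHom`: restriction to a clopen piece whose complement carries no sections is
  bijective.
-/

set_option autoImplicit false
set_option linter.style.haveILetI false
universe u

open CategoryTheory AlgebraicGeometry Limits MorphismProperty Opposite TopologicalSpace ProEtS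

namespace Groth.Agent.Lib.ProEtExtZeroLim22

open Groth.Agent.Lib.ProEtWC22 Groth.Agent.Lib.ProEtCover22 Groth.Agent.Lib.ProEtExtZero22

section vanish

variable {U X : Scheme.{u}} (j : U ⟶ X) [WeaklyEtale j] (T : Set X)

theorem subsingleton_sheafify_lan'
    (hUT : Disjoint (Set.range j) T)
    (V : X.ProEt) [IsAffine V.left]
    (hV : ∀ v : ↥V.left, ∃ z : ↥V.left, V.hom z ∈ T ∧ v ⤳ z)
    (P : X.ProEtᵒᵖ ⥤ AddCommGrpCat.{u + 1})
    (hP : ∀ W : X.ProEt, (¬ ∃ φ : W.left ⟶ U, φ ≫ j = W.hom) → Subsingleton (P.obj (op W))) :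
    Subsingleton ((sheafify (Scheme.ProEt.topology X) P).obj (op V)) := by
  let J := Scheme.ProEt.topology X
  let G : Sheaf J AddCommGrpCat.{u + 1} := (presheafToSheaf J _).obj P
  suffices h0 : ∀ s : G.obj.obj (op V), s = 0 from ⟨fun a b => (h0 a).trans (h0 b).symm⟩
  intro s
  have hmem := Presheaf.imageSieve_mem J (toSheafify J P) s
  obtain ⟨n, Zk, g, hZ, hg, hsurj⟩ := exists_finite_affine_refinement V _ hmem
  -- the members meeting `T`
  let K : Type := {k : Fin n // ∃ w : (Zk k).left, (Zk k).hom w ∈ T}
  haveI : ∀ k : K, IsAffine (Zk k.1).left := fun k => hZ k.1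
  have hzero : ∀ k : K, G.obj.map (g k.1).op s = 0 := by
    rintro ⟨k, w, hw⟩
    obtain ⟨t, ht⟩ := hg k
    haveI : Subsingleton (P.obj (op (Zk k))) := by
      apply hP
      rintro ⟨φ, hφ⟩
      have h1 : j (φ w) = (Zk k).hom w := by
        rw [← hφ]
        exact (Scheme.Hom.comp_apply _ _ _).symm
      exact (Set.disjoint_left.1 hUT) ⟨φ w, h1⟩ hw
    have : t = 0 := Subsingleton.elim _ _
    rw [this, map_zero] at ht
    exact ht.symm
  have hcov : Sieve.generate (Presieve.ofArrows (fun k : K => Zk k.1) (fun k : K => g k.1)) ∈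
      J V := by
    apply generate_finite_affine_mem
    intro v
    obtain ⟨z, hz, hvz⟩ := hV v
    obtain ⟨k, w, hw⟩ := hsurj z
    have hk : (Zk k).hom w ∈ T := by
      have h1 : (Zk k).hom w = V.hom ((g k).left w) := by
        rw [← MorphismProperty.Over.w (g k)]
        exact Scheme.Hom.comp_apply _ _ _
      rw [h1, hw]
      exact hz
    haveI : WeaklyEtale (g k).left := Groth.Agent.Lib.ProEtGeomPt22.weaklyEtale_left (g k)
    have hgen : GeneralizingMap (g k).left := Flat.generalizingMap (g k).left
    rw [← hw] at hvz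
    obtain ⟨w', -, hw'⟩ := hgen hvz
    exact ⟨⟨k, w, hk⟩, w', hw'⟩
  -- separatedness
  have hS : Presieve.IsSheaf J (G.obj ⋙ forget AddCommGrpCat.{u + 1}) :=
    (isSheaf_iff_isSheaf_of_type _ _).1
      ((sheafCompose J (forget AddCommGrpCat.{u + 1})).obj G).property
  refine (hS _ hcov).isSeparatedFor.ext ?_
  rintro Y f ⟨T, a, b, ⟨k⟩, rfl⟩
  change G.obj.map (a ≫ g k.1).op s = G.obj.map (a ≫ g k.1).op 0
  rw [map_zero, op_comp, G.obj.map_comp]
  change G.obj.map a.op (G.obj.map (g k.1).op s) = 0
  rw [hzero k, map_zero]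

theorem subsingleton_extZeroP_sections'
    (hUT : Disjoint (Set.range j) T) [ProEtS.JPCont j]
    (V : X.ProEt) [IsAffine V.left]
    (hV : ∀ v : ↥V.left, ∃ z : ↥V.left, V.hom z ∈ T ∧ v ⤳ z)
    (F : ProEtS.AbP U) :
    Subsingleton (ProEtS.sectP ((ProEtS.extZeroP j).obj F) V) := by
  have e : (ProEtS.extZeroP j).obj F ≅
      (presheafToSheaf (Scheme.ProEt.topology X) AddCommGrpCat.{u + 1}).obj
        ((compP j).op.lan.obj F.obj) :=
    (Functor.sheafPullbackConstruction.sheafPullbackIso (compP j) AddCommGrpCat.{u + 1}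
      (Scheme.ProEt.topology U) (Scheme.ProEt.topology X)).app F
  have e' : ((ProEtS.extZeroP j).obj F).obj.obj (op V) ≅
      (sheafify (Scheme.ProEt.topology X) ((compP j).op.lan.obj F.obj)).obj (op V) :=
    ((sheafToPresheaf _ _ ⋙ (evaluation _ _).obj (op V)).mapIso e)
  haveI := subsingleton_sheafify_lan' j T hUT V hV ((compP j).op.lan.obj F.obj)
    (fun W hW => subsingleton_lan_of_isEmpty j F.obj W hW)
  exact e'.addCommGroupIsoToAddEquiv.toEquiv.subsingleton

end vanish

section glue

variable {X : Scheme.{u}}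

/-- Restriction to a clopen piece is bijective when the complementary piece carries only the zero
section. -/
theorem bijective_map_opensHom (G : ProEtS.AbP X) (W : X.ProEt) (C C' : W.left.Opens)
    (hcov : C ⊔ C' = ⊤) (hdis : Disjoint C C')
    (h0 : Subsingleton (G.obj.obj (op (opensObj W C')))) :
    Function.Bijective (G.obj.map (opensHom W C).op) := by
  let J := Scheme.ProEt.topology X
  let G' : Sheaf J (Type (u + 1)) := (sheafCompose J (forget AddCommGrpCat.{u + 1})).obj G
  let Wf : Bool → W.left.Opens := fun b => match b with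
    | true => C
    | false => C'
  have hW : IsOpenCover Wf := by
    show ⨆ b, Wf b = ⊤
    rw [iSup_bool_eq]
    exact hcov
  have hd : Pairwise (fun a b => Disjoint (Wf a) (Wf b)) := by
    intro a b hab
    match a, b with
    | true, true => exact absurd rfl hab
    | false, false => exact absurd rfl hab
    | true, false => exact hdis
    | false, true => exact hdis.symm
  constructor
  · intro s1 s2 h12
    let t : ∀ b, G'.obj.obj (op (opensObj W (Wf b))) := fun b =>
      G'.obj.map (opensHom W (Wf b)).op s2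
    obtain ⟨s0, -, hs0⟩ := existsUnique_amalgamation G' W Wf hW hd t
    have e2 : s2 = s0 := hs0 s2 (fun b => rfl)
    have e1 : s1 = s0 := by
      apply hs0 s1
      intro b
      match b with
      | true => exact h12
      | false => exact Subsingleton.elim (α := G.obj.obj (op (opensObj W C'))) _ _
    exact e1.trans e2.symm
  · intro tC
    let t : ∀ b, G'.obj.obj (op (opensObj W (Wf b))) := fun b => match b with
      | true => tC
      | false => (0 : G.obj.obj (op (opensObj W C')))
    obtain ⟨s0, hs0, -⟩ := existsUnique_amalgamation G' W Wf hW hd t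
    exact ⟨s0, hs0 true⟩

end glue

end Groth.Agent.Lib.ProEtExtZeroLim22
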