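import Groth.Agent.Lib.ProEtExtZeroLim22b

/-!
# `j_!` followed by sections over a w-contractible affine preserves limits (helper22)
-/

set_option autoImplicit false
set_option linter.style.haveILetI false
universe u

open CategoryTheory AlgebraicGeometry Limits MorphismProperty Opposite TopologicalSpace ProEtS

namespace Groth.Agent.Lib.ProEtExtZeroLim22

open Groth.Agent.Lib.ProEtWC22 Groth.Agent.Lib.ProEtCover22 Groth.Agent.Lib.ProEtExtZero22
  Groth.Agent.Lib.ProEtExtZeroUnit22

/-- Sections over an object, as a functor on abelian sheaves. -/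
noncomputable abbrev secP {X : Scheme.{u}} (V : X.ProEt) : ProEtS.AbP X ⥤ AddCommGrpCat.{u + 1} :=
  sheafToPresheaf _ _ ⋙ (evaluation _ _).obj (op V)

instance preservesLimitsOfShape_secP {X : Scheme.{u}} (V : X.ProEt) (J : Type u)
    [SmallCategory J] : PreservesLimitsOfShape J (secP V) := by
  unfold secP
  infer_instance

variable {U X : Scheme.{u}} (j : U ⟶ X) [IsOpenImmersion j]

section lift

variable (W : X.ProEt) (C : W.left.Opens) (hC : C ≤ W.hom ⁻¹ᵁ j.opensRange)

include hC in
theorem range_ι_comp_subset : Set.range (C.ι ≫ W.hom) ⊆ Set.range j := by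
  rintro _ ⟨x, rfl⟩
  have hx : C.ι x ∈ C := x.2
  have h1 := hC hx
  rw [Scheme.Hom.comp_apply]
  exact h1

/-- The lift of `C ⟶ W ⟶ X` through `j`. -/
noncomputable def liftHom : C.toScheme ⟶ U :=
  IsOpenImmersion.lift j (C.ι ≫ W.hom) (range_ι_comp_subset j W C hC)

theorem liftHom_fac : liftHom j W C hC ≫ j = C.ι ≫ W.hom :=
  IsOpenImmersion.lift_fac _ _ _

instance weaklyEtale_liftHom : WeaklyEtale (liftHom j W C hC) := by
  haveI : WeaklyEtale W.hom := W.prop
  haveI : WeaklyEtale (liftHom j W C hC ≫ j) := by
    rw [liftHom_fac]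
    infer_instance
  exact WeaklyEtale.of_comp (liftHom j W C hC) j

/-- The clopen piece as an object of `U.ProEt`. -/
noncomputable def liftObj : U.ProEt := Scheme.ProEt.mk (liftHom j W C hC)

/-- Comparison with the open subobject of `W`. -/
noncomputable def liftToOpens : (compP j).obj (liftObj j W C hC) ⟶ opensObj W C :=
  MorphismProperty.Over.homMk (show C.toScheme ⟶ C.toScheme from 𝟙 _)
    ((Category.id_comp _).trans (liftHom_fac j W C hC).symm)

noncomputable def opensToLift : opensObj W C ⟶ (compP j).obj (liftObj j W C hC) :=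
  MorphismProperty.Over.homMk (show C.toScheme ⟶ C.toScheme from 𝟙 _)
    ((Category.id_comp _).trans (liftHom_fac j W C hC))

theorem liftToOpens_opensToLift :
    liftToOpens j W C hC ≫ opensToLift j W C hC = 𝟙 _ :=
  hom_ext' (Category.comp_id _)

theorem opensToLift_liftToOpens :
    opensToLift j W C hC ≫ liftToOpens j W C hC = 𝟙 _ :=
  hom_ext' (Category.comp_id _)

end lift

section affine

theorem isAffine_of_isClosed_opens (Y : Scheme.{u}) [IsAffine Y] (C : Y.Opens)
    (hC : IsClosed (C : Set Y)) : IsAffine C.toScheme := by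
  haveI : IsClosedImmersion C.ι :=
    IsClosedImmersion.of_isPreimmersion C.ι (by rw [Scheme.Opens.range_ι]; exact hC)
  exact (IsClosedImmersion.isAffine_surjective_of_isAffine C.ι).1

theorem isRetrocompact_range_of_quasiCompact [QuasiCompact j] :
    IsRetrocompact (Set.range j) := by
  intro K hK hKo
  have h1 : IsCompact (j ⁻¹' K) := QuasiCompact.isCompact_preimage K hKo hK
  have h2 : Set.range j ∩ K = j '' (j ⁻¹' K) := by
    rw [Set.image_preimage_eq_inter_range, Set.inter_comm]
  rw [h2]
  exact h1.image j.continuous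

end affine

section main

variable [QuasiCompact j] [ProEtS.JPCont j]

/-- On an affine object with w-contractible ring of functions, the sections of `j_! F` are the
sections of `F` over a clopen piece lying over `U`. -/
theorem exists_natIso_extZeroP_secP (W : X.ProEt) [IsAffine W.left]
    (hW : EtPBC.IsWContractible Γ(W.left, ⊤)) :
    ∃ V : U.ProEt, Nonempty (ProEtS.extZeroP j ⋙ secP W ≅ secP V) := by
  let O : W.left.Opens := W.hom ⁻¹ᵁ j.opensRange
  have hO : IsCompact (O : Set W.left) := by
    have hrc := Groth.Agent.Lib.ProEtClosedPush22.isRetrocompact_preimage W.hom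
      j.opensRange.isOpen (isRetrocompact_range_of_quasiCompact j)
    have h2 := hrc (isCompact_univ (X := ↥W.left)) isOpen_univ
    rwa [Set.inter_univ] at h2
  obtain ⟨C, C', hcov, hdis, hCO, hC'⟩ := exists_clopen_decomp W hW O hO
  have hcompl : (C' : Set W.left) = (C : Set W.left)ᶜ := by
    ext x
    constructor
    · intro hx hxC
      exact (Opens.coe_disjoint.2 hdis).le_bot ⟨hxC, hx⟩
    · intro hx
      have h1 : x ∈ C ⊔ C' := hcov.symm ▸ (show x ∈ (⊤ : W.left.Opens) from trivial)
      rcases h1 with h1 | h1
      · exact absurd h1 hx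
      · exact h1
  haveI : IsAffine (opensObj W C').left :=
    isAffine_of_isClosed_opens W.left C' (by rw [hcompl]; exact C.isOpen.isClosed_compl)
  -- vanishing on `C'`
  have hvan : ∀ F : ProEtS.AbP U,
      Subsingleton (((ProEtS.extZeroP j).obj F).obj.obj (op (opensObj W C'))) := by
    intro F
    apply subsingleton_extZeroP_sections' j (Set.range j)ᶜ disjoint_compl_right (opensObj W C')
    intro v
    obtain ⟨z, hzC', hzO, hvz⟩ := hC' (C'.ι v) v.2
    refine ⟨⟨z, hzC'⟩, ?_, ?_⟩
    · intro hz
      apply hzO
      have h1 : (opensObj W C').hom ⟨z, hzC'⟩ = W.hom z := by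
        change (C'.ι ≫ W.hom) ⟨z, hzC'⟩ = W.hom z
        rw [Scheme.Hom.comp_apply]
        rfl
      rw [h1] at hz
      exact hz
    · have hemb : Topology.IsInducing C'.ι := C'.ι.isOpenEmbedding.isInducing
      exact hemb.specializes_iff.1 hvz
  refine ⟨liftObj j W C hCO, ⟨?_⟩⟩
  -- the restriction transformation
  let r : (compP j).obj (liftObj j W C hCO) ⟶ W := liftToOpens j W C hCO ≫ opensHom W C
  let τ : ProEtS.extZeroP j ⋙ secP W ⟶ ProEtS.extZeroP j ⋙ secP ((compP j).obj (liftObj j W C hCO)) :=
    Functor.whiskerLeft (ProEtS.extZeroP j)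
      (Functor.whiskerLeft (sheafToPresheaf _ _) ((evaluation _ _).map r.op))
  haveI : IsIso τ := by
    haveI : ∀ F, IsIso (τ.app F) := by
      intro F
      have h1 : τ.app F = ((ProEtS.extZeroP j).obj F).obj.map (opensHom W C).op ≫
          ((ProEtS.extZeroP j).obj F).obj.map (liftToOpens j W C hCO).op := by
        change ((ProEtS.extZeroP j).obj F).obj.map r.op = _
        rw [← Functor.map_comp, ← op_comp]
      have h2 : IsIso (((ProEtS.extZeroP j).obj F).obj.map (opensHom W C).op) := by
        rw [ConcreteCategory.isIso_iff_bijective]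
        exact bijective_map_opensHom _ W C C' hcov hdis (hvan F)
      have h3 : IsIso (((ProEtS.extZeroP j).obj F).obj.map (liftToOpens j W C hCO).op) := by
        haveI : IsIso (liftToOpens j W C hCO) :=
          ⟨opensToLift j W C hCO, liftToOpens_opensToLift j W C hCO,
            opensToLift_liftToOpens j W C hCO⟩
        infer_instance
      rw [h1]
      infer_instance
    exact NatIso.isIso_of_isIso_app τ
  -- the unit transformation
  let σ : secP (liftObj j W C hCO) ⟶
      ProEtS.extZeroP j ⋙ secP ((compP j).obj (liftObj j W C hCO)) :=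
    Functor.whiskerRight (ProEtS.extZeroPAdj j).unit (secP (liftObj j W C hCO))
  haveI : IsIso σ := by
    haveI : IsIso (ProEtS.extZeroPAdj j).unit := isIso_unit_extZeroPAdj j
    exact inferInstanceAs (IsIso (Functor.whiskerRight (ProEtS.extZeroPAdj j).unit
      (secP (liftObj j W C hCO))))
  exact asIso τ ≪≫ (asIso σ).symm

end main

end Groth.Agent.Lib.ProEtExtZeroLim22
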