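import Groth.Agent.Lib.ProEtExtZeroLim22c
import Groth.Agent.Lib.ProEtDetect22

/-!
# `j_!` commutes with limits for quasi-compact open immersions (helper22)

* `isIso_of_forall_wContractible`: a morphism of abelian pro-étale sheaves is an isomorphism as soon
  as it is bijective on sections over affine objects with w-contractible rings of functions;
* `preservesLimitsOfShape_extZeroP`: Bhatt–Scholze, Lemma 6.1.?: `j_!` commutes with limits.
-/

set_option autoImplicit false
set_option linter.style.haveILetI false
universe u

open CategoryTheory AlgebraicGeometry Limits MorphismProperty Opposite TopologicalSpace ProEtS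

namespace Groth.Agent.Lib.ProEtExtZeroLim22

section detect

variable {X : Scheme.{u}}

/-- Two sections of an abelian sheaf agreeing on all w-contractible affines are equal. -/
theorem section_ext_ab (B : ProEtS.AbP X) (U : X.ProEt) (s t : B.obj.obj (op U))
    (h : ∀ (V : X.ProEt) (g : V ⟶ U), IsAffine V.left → EtPBC.IsWContractible Γ(V.left, ⊤) →
      (B.obj.map g.op).hom s = (B.obj.map g.op).hom t) : s = t := by
  let J := Scheme.ProEt.topology X
  obtain ⟨ι, V, g, hcov, hV⟩ := Groth.Agent.Lib.WContrSite22.exists_wContractible_family U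
  have hS : Presieve.IsSheaf J (B.obj ⋙ forget AddCommGrpCat.{u + 1}) :=
    (isSheaf_iff_isSheaf_of_type _ _).1
      ((sheafCompose J (forget AddCommGrpCat.{u + 1})).obj B).property
  refine (hS _ hcov).isSeparatedFor.ext ?_
  rintro Y f ⟨T, a, b, ⟨i⟩, rfl⟩
  change (B.obj.map (a ≫ g i).op).hom s = (B.obj.map (a ≫ g i).op).hom t
  rw [op_comp, B.obj.map_comp]
  exact congrArg (fun z => (B.obj.map a.op).hom z) (h (V i) (g i) (hV i).1 (hV i).2)

/-- A morphism of abelian sheaves which is bijective on sections over w-contractible affines is an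
isomorphism. -/
theorem isIso_of_forall_wContractible {A B : ProEtS.AbP X} (φ : A ⟶ B)
    (h : ∀ (V : X.ProEt), IsAffine V.left → EtPBC.IsWContractible Γ(V.left, ⊤) →
      Function.Bijective (φ.hom.app (op V)).hom) : IsIso φ := by
  haveI : Mono φ := by
    constructor
    intro T a b hab
    apply Sheaf.hom_ext
    apply NatTrans.ext
    funext W
    apply AddCommGrpCat.hom_ext
    apply AddMonoidHom.ext
    intro x
    induction W with | op W => ?_
    apply section_ext_ab A W
    intro V g hV1 hV2
    apply (h V hV1 hV2).1
    have h1 : ∀ c : T ⟶ A, (φ.hom.app (op V)).hom ((A.obj.map g.op).hom ((c.hom.app (op W)).hom x)) =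
        (B.obj.map g.op).hom (((c ≫ φ).hom.app (op W)).hom x) := by
      intro c
      have e1 := congrArg (fun m => m.hom ((c.hom.app (op W)).hom x)) (φ.hom.naturality g.op)
      exact e1
    rw [h1 a, h1 b, hab]
  haveI : Epi φ := by
    haveI : Sheaf.IsLocallySurjective φ := by
      constructor
      intro U s
      obtain ⟨ι, V, g, hcov, hV⟩ := Groth.Agent.Lib.WContrSite22.exists_wContractible_family U
      refine (Scheme.ProEt.topology X).superset_covering ?_ hcov
      rw [Sieve.generate_le_iff]
      rintro _ _ ⟨i⟩
      obtain ⟨t, ht⟩ := (h (V i) (hV i).1 (hV i).2).2 ((B.obj.map (g i).op).hom s)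
      exact ⟨t, ht⟩
    exact Sheaf.epi_of_isLocallySurjective φ
  exact isIso_of_mono_of_epi φ

end detect

section main

variable {U X : Scheme.{u}} (j : U ⟶ X) [IsOpenImmersion j] [QuasiCompact j] [ProEtS.JPCont j]

/-- **Bhatt–Scholze**: extension by zero along a quasi-compact open immersion commutes with
limits. -/
theorem preservesLimitsOfShape_extZeroP (J : Type u) [SmallCategory J] :
    PreservesLimitsOfShape J (ProEtS.extZeroP j) := by
  constructor
  intro K
  haveI : IsIso (limit.post K (ProEtS.extZeroP j)) := by
    apply isIso_of_forall_wContractible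
    intro V hV1 hV2
    haveI := hV1
    obtain ⟨V', ⟨e⟩⟩ := exists_natIso_extZeroP_secP j V hV2
    haveI : PreservesLimitsOfShape J (ProEtS.extZeroP j ⋙ secP V) :=
      preservesLimitsOfShape_of_natIso e.symm
    have h1 := limit.post_post K (ProEtS.extZeroP j) (secP V)
    haveI : IsIso (limit.post (K ⋙ ProEtS.extZeroP j) (secP V)) := inferInstance
    haveI : IsIso (limit.post K (ProEtS.extZeroP j ⋙ secP V)) := inferInstance
    haveI : IsIso ((secP V).map (limit.post K (ProEtS.extZeroP j)) ≫
        limit.post (K ⋙ ProEtS.extZeroP j) (secP V)) := by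
      rw [h1]
      infer_instance
    have h2 : IsIso ((secP V).map (limit.post K (ProEtS.extZeroP j))) :=
      IsIso.of_isIso_comp_right _ (limit.post (K ⋙ ProEtS.extZeroP j) (secP V))
    exact (ConcreteCategory.isIso_iff_bijective _).1 h2
  exact preservesLimit_of_isIso_post _ _

end main

end Groth.Agent.Lib.ProEtExtZeroLim22
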