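import Groth.Agent.Lib.ProEtExtZeroLim22d
import Groth.Prelude.Def_EtModW

/-!
# `j_!` on pro-étale sheaves of modules commutes with limits (helper22)

Module-valued copy of `ProEtExtZero22`, `ProEtExtZeroUnit22`, `ProEtExtZeroLim22b-d`.
-/

set_option autoImplicit false
set_option linter.style.haveILetI false
universe u

open CategoryTheory AlgebraicGeometry Limits MorphismProperty Opposite TopologicalSpace ProEtS

namespace Groth.Agent.Lib.ProEtExtZeroMod22

open Groth.Agent.Lib.ProEtWC22 Groth.Agent.Lib.ProEtCover22 Groth.Agent.Lib.ProEtExtZero22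
  Groth.Agent.Lib.ProEtExtZeroUnit22 Groth.Agent.Lib.ProEtExtZeroLim22

variable (Λ : Type (u + 1)) [CommRing Λ]

/-- `j_!` on sheaves of modules. -/
noncomputable abbrev extZeroM {U X : Scheme.{u}} (j : U ⟶ X) [WeaklyEtale j] [ProEtS.JPCont j] :
    EtModW.ModP Λ U ⥤ EtModW.ModP Λ X :=
  (compP j).sheafPullback (ModuleCat.{u + 1} Λ) (Scheme.ProEt.topology U) (Scheme.ProEt.topology X)

/-- `j⁻¹` on sheaves of modules. -/
noncomputable abbrev restrM {U X : Scheme.{u}} (j : U ⟶ X) [WeaklyEtale j] [ProEtS.JPCont j] :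
    EtModW.ModP Λ X ⥤ EtModW.ModP Λ U :=
  (compP j).sheafPushforwardContinuous (ModuleCat.{u + 1} Λ) (Scheme.ProEt.topology U)
    (Scheme.ProEt.topology X)

noncomputable abbrev extZeroMAdj {U X : Scheme.{u}} (j : U ⟶ X) [WeaklyEtale j] [ProEtS.JPCont j] :
    extZeroM Λ j ⊣ restrM Λ j :=
  (compP j).sheafAdjunctionContinuous (ModuleCat.{u + 1} Λ) (Scheme.ProEt.topology U)
    (Scheme.ProEt.topology X)

section lan

variable {U X : Scheme.{u}} (j : U ⟶ X) [WeaklyEtale j]

/-- The left Kan extension presheaf vanishes on objects without `X`-morphisms to `U`. -/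
theorem subsingleton_lanM_of_isEmpty (F : U.ProEtᵒᵖ ⥤ (ModuleCat.{u + 1} Λ)) (W : X.ProEt)
    (h : ¬ ∃ φ : W.left ⟶ U, φ ≫ j = W.hom) :
    Subsingleton (((compP j).op.lan.obj F).obj (op W)) := by
  haveI := isEmpty_costructuredArrow j W h
  have hc : IsColimit ((Functor.LeftExtension.mk _ ((compP j).op.lanUnit.app F)).coconeAt (op W)) :=
    Functor.isPointwiseLeftKanExtensionOfIsLeftKanExtension _ ((compP j).op.lanUnit.app F) (op W)
  have h0 : 𝟙 (((compP j).op.lan.obj F).obj (op W)) = 0 :=
    hc.hom_ext (fun a => isEmptyElim a)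
  refine ⟨fun x y => ?_⟩
  have hx := ConcreteCategory.congr_hom h0 x
  have hy := ConcreteCategory.congr_hom h0 y
  exact hx.trans hy.symm


end lan

section unit0

variable {U X : Scheme.{u}} (j : U ⟶ X) [WeaklyEtale j]

section unit

variable [Mono j] [ProEtS.JPCont j]

/-- The unit `F ⟶ j⁻¹ j_! F` is an isomorphism (abelian sheaves). -/
instance isIso_unit_extZeroMAdj : IsIso (extZeroMAdj Λ j).unit := by
  let t : Adjunction.Triple (extZeroM Λ j) (restrM Λ j)
      ((compP j).sheafPushforwardCocontinuous (ModuleCat.{u + 1} Λ) (Scheme.ProEt.topology U)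
        (Scheme.ProEt.topology X)) :=
    ⟨extZeroMAdj Λ j, (compP j).sheafAdjunctionCocontinuous (ModuleCat.{u + 1} Λ)
      (Scheme.ProEt.topology U) (Scheme.ProEt.topology X)⟩
  rw [t.isIso_unit_iff_isIso_counit]
  haveI : ∀ F, IsIso (t.adj₂.counit.app F) := fun F => by
    haveI : IsIso ((sheafToPresheaf _ _).map (t.adj₂.counit.app F)) := by
      change IsIso (t.adj₂.counit.app F).hom
      rw [Functor.sheafAdjunctionCocontinuous_counit_app_hom]
      haveI : (compP j).op.Full := inferInstance
      haveI : (compP j).op.Faithful := inferInstance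
      haveI : (compP j).op.HasPointwiseRightKanExtension F.obj := inferInstance
      have h1 : IsIso (((compP j).op.ranCounit).app F.obj) := inferInstance
      rw [Functor.ranAdjunction_counit]
      exact h1
    exact isIso_of_reflects_iso _ (sheafToPresheaf _ _)
  exact NatIso.isIso_of_isIso_app _

end unit


end unit0

section vanish

variable {U X : Scheme.{u}} (j : U ⟶ X) [WeaklyEtale j] (T : Set X)

theorem subsingleton_sheafify_lanM
    (hUT : Disjoint (Set.range j) T)
    (V : X.ProEt) [IsAffine V.left]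
    (hV : ∀ v : ↥V.left, ∃ z : ↥V.left, V.hom z ∈ T ∧ v ⤳ z)
    (P : X.ProEtᵒᵖ ⥤ (ModuleCat.{u + 1} Λ))
    (hP : ∀ W : X.ProEt, (¬ ∃ φ : W.left ⟶ U, φ ≫ j = W.hom) → Subsingleton (P.obj (op W))) :
    Subsingleton ((sheafify (Scheme.ProEt.topology X) P).obj (op V)) := by
  let J := Scheme.ProEt.topology X
  let G : Sheaf J (ModuleCat.{u + 1} Λ) := (presheafToSheaf J _).obj P
  suffices h0 : ∀ s : G.obj.obj (op V), s = 0 from ⟨fun a b => (h0 a).trans (h0 b).symm⟩
  intro s
  have hmem := Presheaf.imageSieve_mem J (toSheafify J P) s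
  obtain ⟨n, Zk, g, hZ, hg, hsurj⟩ := exists_finite_affine_refinement V _ hmem
  -- the members meeting `T`
  let K : Type := {k : Fin n // ∃ w : (Zk k).left, (Zk k).hom w ∈ T}
  haveI : ∀ k : K, IsAffine (Zk k.1).left := fun k => hZ k.1
  have hzero : ∀ k : K, G.obj.map (g k.1).op s = 0 := by
    rintro ⟨k, w, hw⟩
    obtain ⟨t, ht⟩ := hg k
    haveI : Subsingleton (P.obj (op (Zk k))) := by
      apply hP
      rintro ⟨φ, hφ⟩
      have h1 : j (φ w) = (Zk k).hom w := by
        rw [← hφ]
        exact (Scheme.Hom.comp_apply _ _ _).symm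
      exact (Set.disjoint_left.1 hUT) ⟨φ w, h1⟩ hw
    have : t = 0 := Subsingleton.elim _ _
    rw [this, map_zero] at ht
    exact ht.symm
  have hcov : Sieve.generate (Presieve.ofArrows (fun k : K => Zk k.1) (fun k : K => g k.1)) ∈
      J V := by
    apply generate_finite_affine_mem
    intro v
    obtain ⟨z, hz, hvz⟩ := hV v
    obtain ⟨k, w, hw⟩ := hsurj z
    have hk : (Zk k).hom w ∈ T := by
      have h1 : (Zk k).hom w = V.hom ((g k).left w) := by
        rw [← MorphismProperty.Over.w (g k)]
        exact Scheme.Hom.comp_apply _ _ _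
      rw [h1, hw]
      exact hz
    haveI : WeaklyEtale (g k).left := Groth.Agent.Lib.ProEtGeomPt22.weaklyEtale_left (g k)
    have hgen : GeneralizingMap (g k).left := Flat.generalizingMap (g k).left
    rw [← hw] at hvz
    obtain ⟨w', -, hw'⟩ := hgen hvz
    exact ⟨⟨k, w, hk⟩, w', hw'⟩
  -- separatedness
  have hS : Presieve.IsSheaf J (G.obj ⋙ forget (ModuleCat.{u + 1} Λ)) :=
    (isSheaf_iff_isSheaf_of_type _ _).1
      ((sheafCompose J (forget (ModuleCat.{u + 1} Λ))).obj G).property
  refine (hS _ hcov).isSeparatedFor.ext ?_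
  rintro Y f ⟨T, a, b, ⟨k⟩, rfl⟩
  change G.obj.map (a ≫ g k.1).op s = G.obj.map (a ≫ g k.1).op 0
  rw [map_zero, op_comp, G.obj.map_comp]
  change G.obj.map a.op (G.obj.map (g k.1).op s) = 0
  rw [hzero k, map_zero]

theorem subsingleton_extZeroM_sections
    (hUT : Disjoint (Set.range j) T) [ProEtS.JPCont j]
    (V : X.ProEt) [IsAffine V.left]
    (hV : ∀ v : ↥V.left, ∃ z : ↥V.left, V.hom z ∈ T ∧ v ⤳ z)
    (F : EtModW.ModP Λ U) :
    Subsingleton (((extZeroM Λ j).obj F).obj.obj (op V)) := by
  have e : (extZeroM Λ j).obj F ≅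
      (presheafToSheaf (Scheme.ProEt.topology X) (ModuleCat.{u + 1} Λ)).obj
        ((compP j).op.lan.obj F.obj) :=
    (Functor.sheafPullbackConstruction.sheafPullbackIso (compP j) (ModuleCat.{u + 1} Λ)
      (Scheme.ProEt.topology U) (Scheme.ProEt.topology X)).app F
  have e' : ((extZeroM Λ j).obj F).obj.obj (op V) ≅
      (sheafify (Scheme.ProEt.topology X) ((compP j).op.lan.obj F.obj)).obj (op V) :=
    ((sheafToPresheaf _ _ ⋙ (evaluation _ _).obj (op V)).mapIso e)
  haveI := subsingleton_sheafify_lanM Λ j T hUT V hV ((compP j).op.lan.obj F.obj)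
    (fun W hW => subsingleton_lanM_of_isEmpty Λ j F.obj W hW)
  exact e'.toLinearEquiv.toEquiv.subsingleton

end vanish

section glue

variable {X : Scheme.{u}}

/-- Restriction to a clopen piece is bijective when the complementary piece carries only the zero
section. -/
theorem bijective_map_opensHomM (G : EtModW.ModP Λ X) (W : X.ProEt) (C C' : W.left.Opens)
    (hcov : C ⊔ C' = ⊤) (hdis : Disjoint C C')
    (h0 : Subsingleton (G.obj.obj (op (opensObj W C')))) :
    Function.Bijective (G.obj.map (opensHom W C).op) := by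
  let J := Scheme.ProEt.topology X
  let G' : Sheaf J (Type (u + 1)) := (sheafCompose J (forget (ModuleCat.{u + 1} Λ))).obj G
  let Wf : Bool → W.left.Opens := fun b => match b with
    | true => C
    | false => C'
  have hW : IsOpenCover Wf := by
    show ⨆ b, Wf b = ⊤
    rw [iSup_bool_eq]
    exact hcov
  have hd : Pairwise (fun a b => Disjoint (Wf a) (Wf b)) := by
    intro a b hab
    match a, b with
    | true, true => exact absurd rfl hab
    | false, false => exact absurd rfl hab
    | true, false => exact hdis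
    | false, true => exact hdis.symm
  constructor
  · intro s1 s2 h12
    let t : ∀ b, G'.obj.obj (op (opensObj W (Wf b))) := fun b =>
      G'.obj.map (opensHom W (Wf b)).op s2
    obtain ⟨s0, -, hs0⟩ := existsUnique_amalgamation G' W Wf hW hd t
    have e2 : s2 = s0 := hs0 s2 (fun b => rfl)
    have e1 : s1 = s0 := by
      apply hs0 s1
      intro b
      match b with
      | true => exact h12
      | false => exact Subsingleton.elim (α := G.obj.obj (op (opensObj W C'))) _ _
    exact e1.trans e2.symm
  · intro tC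
    let t : ∀ b, G'.obj.obj (op (opensObj W (Wf b))) := fun b => match b with
      | true => tC
      | false => (0 : G.obj.obj (op (opensObj W C')))
    obtain ⟨s0, hs0, -⟩ := existsUnique_amalgamation G' W Wf hW hd t
    exact ⟨s0, hs0 true⟩

end glue


/-- Sections over an object, as a functor on abelian sheaves. -/
noncomputable abbrev secM {X : Scheme.{u}} (V : X.ProEt) : EtModW.ModP Λ X ⥤ (ModuleCat.{u + 1} Λ) :=
  sheafToPresheaf _ _ ⋙ (evaluation _ _).obj (op V)

instance preservesLimitsOfShape_secM {X : Scheme.{u}} (V : X.ProEt) (J : Type*)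
    [Category J] [HasLimitsOfShape J (ModuleCat.{u + 1} Λ)] :
    PreservesLimitsOfShape J (secM Λ V) := by
  unfold secM
  infer_instance


variable {U X : Scheme.{u}} (j : U ⟶ X) [IsOpenImmersion j]

section main

variable [QuasiCompact j] [ProEtS.JPCont j]

/-- On an affine object with w-contractible ring of functions, the sections of `j_! F` are the
sections of `F` over a clopen piece lying over `U`. -/
theorem exists_natIso_extZeroM_secM (W : X.ProEt) [IsAffine W.left]
    (hW : EtPBC.IsWContractible Γ(W.left, ⊤)) :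
    ∃ V : U.ProEt, Nonempty (extZeroM Λ j ⋙ secM Λ W ≅ secM Λ V) := by
  let O : W.left.Opens := W.hom ⁻¹ᵁ j.opensRange
  have hO : IsCompact (O : Set W.left) := by
    have hrc := Groth.Agent.Lib.ProEtClosedPush22.isRetrocompact_preimage W.hom
      j.opensRange.isOpen (isRetrocompact_range_of_quasiCompact j)
    have h2 := hrc (isCompact_univ (X := ↥W.left)) isOpen_univ
    rwa [Set.inter_univ] at h2
  obtain ⟨C, C', hcov, hdis, hCO, hC'⟩ := exists_clopen_decomp W hW O hO
  have hcompl : (C' : Set W.left) = (C : Set W.left)ᶜ := by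
    ext x
    constructor
    · intro hx hxC
      exact (Opens.coe_disjoint.2 hdis).le_bot ⟨hxC, hx⟩
    · intro hx
      have h1 : x ∈ C ⊔ C' := hcov.symm ▸ (show x ∈ (⊤ : W.left.Opens) from trivial)
      rcases h1 with h1 | h1
      · exact absurd h1 hx
      · exact h1
  haveI : IsAffine (opensObj W C').left :=
    isAffine_of_isClosed_opens W.left C' (by rw [hcompl]; exact C.isOpen.isClosed_compl)
  -- vanishing on `C'`
  have hvan : ∀ F : EtModW.ModP Λ U,
      Subsingleton (((extZeroM Λ j).obj F).obj.obj (op (opensObj W C'))) := by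
    intro F
    apply subsingleton_extZeroM_sections Λ j (Set.range j)ᶜ disjoint_compl_right (opensObj W C')
    intro v
    obtain ⟨z, hzC', hzO, hvz⟩ := hC' (C'.ι v) v.2
    refine ⟨⟨z, hzC'⟩, ?_, ?_⟩
    · intro hz
      apply hzO
      have h1 : (opensObj W C').hom ⟨z, hzC'⟩ = W.hom z := by
        change (C'.ι ≫ W.hom) ⟨z, hzC'⟩ = W.hom z
        rw [Scheme.Hom.comp_apply]
        rfl
      rw [h1] at hz
      exact hz
    · have hemb : Topology.IsInducing C'.ι := C'.ι.isOpenEmbedding.isInducing
      exact hemb.specializes_iff.1 hvz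
  refine ⟨liftObj j W C hCO, ⟨?_⟩⟩
  -- the restriction transformation
  let r : (compP j).obj (liftObj j W C hCO) ⟶ W := liftToOpens j W C hCO ≫ opensHom W C
  let τ : extZeroM Λ j ⋙ secM Λ W ⟶ extZeroM Λ j ⋙ secM Λ ((compP j).obj (liftObj j W C hCO)) :=
    Functor.whiskerLeft (extZeroM Λ j)
      (Functor.whiskerLeft (sheafToPresheaf _ _) ((evaluation _ _).map r.op))
  haveI : IsIso τ := by
    haveI : ∀ F, IsIso (τ.app F) := by
      intro F
      have h1 : τ.app F = ((extZeroM Λ j).obj F).obj.map (opensHom W C).op ≫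
          ((extZeroM Λ j).obj F).obj.map (liftToOpens j W C hCO).op := by
        change ((extZeroM Λ j).obj F).obj.map r.op = _
        rw [← Functor.map_comp, ← op_comp]
      have h2 : IsIso (((extZeroM Λ j).obj F).obj.map (opensHom W C).op) := by
        rw [ConcreteCategory.isIso_iff_bijective]
        exact bijective_map_opensHomM Λ _ W C C' hcov hdis (hvan F)
      have h3 : IsIso (((extZeroM Λ j).obj F).obj.map (liftToOpens j W C hCO).op) := by
        haveI : IsIso (liftToOpens j W C hCO) :=
          ⟨opensToLift j W C hCO, liftToOpens_opensToLift j W C hCO,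
            opensToLift_liftToOpens j W C hCO⟩
        infer_instance
      rw [h1]
      infer_instance
    exact NatIso.isIso_of_isIso_app τ
  -- the unit transformation
  let σ : secM Λ (liftObj j W C hCO) ⟶
      extZeroM Λ j ⋙ secM Λ ((compP j).obj (liftObj j W C hCO)) :=
    Functor.whiskerRight (extZeroMAdj Λ j).unit (secM Λ (liftObj j W C hCO))
  haveI : IsIso σ := by
    haveI : IsIso (extZeroMAdj Λ j).unit := isIso_unit_extZeroMAdj Λ j
    exact inferInstanceAs (IsIso (Functor.whiskerRight (extZeroMAdj Λ j).unit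
      (secM Λ (liftObj j W C hCO))))
  exact asIso τ ≪≫ (asIso σ).symm

end main


section detect

variable {Λ}

variable {X : Scheme.{u}}

/-- Two sections of an abelian sheaf agreeing on all w-contractible affines are equal. -/
theorem section_ext_mod (B : EtModW.ModP Λ X) (U : X.ProEt) (s t : B.obj.obj (op U))
    (h : ∀ (V : X.ProEt) (g : V ⟶ U), IsAffine V.left → EtPBC.IsWContractible Γ(V.left, ⊤) →
      (B.obj.map g.op).hom s = (B.obj.map g.op).hom t) : s = t := by
  let J := Scheme.ProEt.topology X
  obtain ⟨ι, V, g, hcov, hV⟩ := Groth.Agent.Lib.WContrSite22.exists_wContractible_family U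
  have hS : Presieve.IsSheaf J (B.obj ⋙ forget (ModuleCat.{u + 1} Λ)) :=
    (isSheaf_iff_isSheaf_of_type _ _).1
      ((sheafCompose J (forget (ModuleCat.{u + 1} Λ))).obj B).property
  refine (hS _ hcov).isSeparatedFor.ext ?_
  rintro Y f ⟨T, a, b, ⟨i⟩, rfl⟩
  change (B.obj.map (a ≫ g i).op).hom s = (B.obj.map (a ≫ g i).op).hom t
  rw [op_comp, B.obj.map_comp]
  exact congrArg (fun z => (B.obj.map a.op).hom z) (h (V i) (g i) (hV i).1 (hV i).2)

/-- A morphism of abelian sheaves which is bijective on sections over w-contractible affines is an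
isomorphism. -/
theorem isIso_of_forall_wContractibleM {A B : EtModW.ModP Λ X} (φ : A ⟶ B)
    (h : ∀ (V : X.ProEt), IsAffine V.left → EtPBC.IsWContractible Γ(V.left, ⊤) →
      Function.Bijective (φ.hom.app (op V)).hom) : IsIso φ := by
  haveI : Mono φ := by
    constructor
    intro T a b hab
    apply Sheaf.hom_ext
    apply NatTrans.ext
    funext W
    apply ModuleCat.hom_ext
    apply LinearMap.ext
    intro x
    induction W with | op W => ?_
    apply section_ext_mod A W
    intro V g hV1 hV2
    apply (h V hV1 hV2).1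
    have h1 : ∀ c : T ⟶ A, (φ.hom.app (op V)).hom ((A.obj.map g.op).hom ((c.hom.app (op W)).hom x)) =
        (B.obj.map g.op).hom (((c ≫ φ).hom.app (op W)).hom x) := by
      intro c
      have e1 := congrArg (fun m => m.hom ((c.hom.app (op W)).hom x)) (φ.hom.naturality g.op)
      exact e1
    rw [h1 a, h1 b, hab]
  haveI : Epi φ := by
    haveI : Sheaf.IsLocallySurjective φ := by
      constructor
      intro U s
      obtain ⟨ι, V, g, hcov, hV⟩ := Groth.Agent.Lib.WContrSite22.exists_wContractible_family U
      refine (Scheme.ProEt.topology X).superset_covering ?_ hcov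
      rw [Sieve.generate_le_iff]
      rintro _ _ ⟨i⟩
      obtain ⟨t, ht⟩ := (h (V i) (hV i).1 (hV i).2).2 ((B.obj.map (g i).op).hom s)
      exact ⟨t, ht⟩
    exact Sheaf.epi_of_isLocallySurjective φ
  exact isIso_of_mono_of_epi φ

end detect

section main

variable {U X : Scheme.{u}} (j : U ⟶ X) [IsOpenImmersion j] [QuasiCompact j] [ProEtS.JPCont j]

/-- **Bhatt–Scholze**: extension by zero along a quasi-compact open immersion commutes with
limits. -/
theorem preservesLimitsOfShape_extZeroM (J : Type*) [Category J]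
    [HasLimitsOfShape J (ModuleCat.{u + 1} Λ)] :
    PreservesLimitsOfShape J (extZeroM Λ j) := by
  constructor
  intro K
  haveI : IsIso (limit.post K (extZeroM Λ j)) := by
    apply isIso_of_forall_wContractibleM
    intro V hV1 hV2
    haveI := hV1
    obtain ⟨V', ⟨e⟩⟩ := exists_natIso_extZeroM_secM Λ j V hV2
    haveI : PreservesLimitsOfShape J (extZeroM Λ j ⋙ secM Λ V) :=
      preservesLimitsOfShape_of_natIso e.symm
    have h1 := limit.post_post K (extZeroM Λ j) (secM Λ V)
    haveI : IsIso (limit.post (K ⋙ extZeroM Λ j) (secM Λ V)) := inferInstance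
    haveI : IsIso (limit.post K (extZeroM Λ j ⋙ secM Λ V)) := inferInstance
    haveI : IsIso ((secM Λ V).map (limit.post K (extZeroM Λ j)) ≫
        limit.post (K ⋙ extZeroM Λ j) (secM Λ V)) := by
      rw [h1]
      infer_instance
    have h2 : IsIso ((secM Λ V).map (limit.post K (extZeroM Λ j))) :=
      IsIso.of_isIso_comp_right _ (limit.post (K ⋙ extZeroM Λ j) (secM Λ V))
    exact (ConcreteCategory.isIso_iff_bijective _).1 h2
  exact preservesLimit_of_isIso_post _ _

end main


end Groth.Agent.Lib.ProEtExtZeroMod22
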