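import Groth.Agent.Lib.ProEtExtZeroMod22a
import Groth.Agent.Lib.ProEtAdicLim22
import Groth.Prelude.Def_EtModW

/-!
# `j_!` of adic pro-étale sheaves (helper22)

* `isQuot_extZeroM_map`: `j_!` preserves quotient maps modulo an ideal;
* `extZeroCompIso`: `j_!^{proét} ε_U⁻¹ ≅ ε_X⁻¹ j_!^{ét}`;
* `isIso_lift_mapCone`: a functor preserving the limit of a tower sends a cone whose comparison map
  to the limit is an isomorphism to such a cone.
-/

set_option autoImplicit false
set_option linter.style.haveILetI false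
universe u

open CategoryTheory AlgebraicGeometry Limits MorphismProperty Opposite TopologicalSpace ProEtS

namespace Groth.Agent.Lib.ProEtExtZeroMod22

open Groth.Agent.Lib.ProEtAdicLim22

variable (Λ : Type (u + 1)) [CommRing Λ]

section quot

variable {U X : Scheme.{u}} (j : U ⟶ X) [WeaklyEtale j] [ProEtS.JPCont j]

theorem restrM_map_smul {A B : EtModW.ModP Λ X} (a : Λ) (f : A ⟶ B) :
    (restrM Λ j).map (a • f) = a • (restrM Λ j).map f := rfl

variable {Λ} in
/-- `j_!` preserves quotient maps modulo an ideal. -/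
theorem isQuot_extZeroM_map (I : Ideal Λ) {A Q : EtModW.ModP Λ U} (p : A ⟶ Q)
    (hp : ARSys.IsQuot I p) : ARSys.IsQuot I ((extZeroM Λ j).map p) :=
  Groth.Agent.Lib.AdjLinear22.isQuot_map_leftAdjoint (extZeroMAdj Λ j)
    (fun a f => restrM_map_smul Λ j a f) I p hp

end quot

section comp

variable {U X : Scheme.{u}} (j : U ⟶ X) [hje : Etale j] [WeaklyEtale j]
    [ProEtS.EpsCont U] [ProEtS.EpsCont X] [ProEtS.JPCont j]
    [(MorphismProperty.Over.map (P := EtCoh.etaleMP.{u}) ⊤ (f := j) hje).IsContinuous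
      U.smallEtaleTopology X.smallEtaleTopology]
    [((MorphismProperty.Over.map (P := EtCoh.etaleMP.{u}) ⊤ (f := j) hje).sheafPushforwardContinuous
      (ModuleCat.{u + 1} Λ) U.smallEtaleTopology X.smallEtaleTopology).IsRightAdjoint]

/-- `j_!^{proét} ε_U⁻¹ ≅ ε_X⁻¹ j_!^{ét}` on sheaves of modules. -/
noncomputable def extZeroCompIso :
    EtModW.epsPullMod Λ U ⋙ extZeroM Λ j ≅
      ((MorphismProperty.Over.map (P := EtCoh.etaleMP.{u}) ⊤ (f := j) hje).sheafPullback
        (ModuleCat.{u + 1} Λ) U.smallEtaleTopology X.smallEtaleTopology) ⋙ EtModW.epsPullMod Λ X :=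
  let adj1 := (epsAdjMod Λ U).comp (extZeroMAdj Λ j)
  let adj2 := ((MorphismProperty.Over.map (P := EtCoh.etaleMP.{u}) ⊤ (f := j) hje).sheafAdjunctionContinuous
      (ModuleCat.{u + 1} Λ) U.smallEtaleTopology X.smallEtaleTopology).comp (epsAdjMod Λ X)
  adj1.leftAdjointUniq adj2

end comp

section cone

variable {C D : Type*} [Category C] [Category D] (G : C ⥤ D) (Q : ℕᵒᵖ ⥤ C) [HasLimit Q]
  [HasLimit (Q ⋙ G)] [PreservesLimit Q G]

theorem isIso_lift_mapCone (c : Cone Q) [IsIso (limit.lift Q c)] :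
    IsIso (limit.lift (Q ⋙ G) (G.mapCone c)) := by
  have hc : IsLimit c := by
    haveI : IsIso ((limit.isLimit Q).lift c) := inferInstanceAs (IsIso (limit.lift Q c))
    exact IsLimit.ofPointIso (limit.isLimit Q)
  have hGc : IsLimit (G.mapCone c) := isLimitOfPreserves G hc
  exact inferInstanceAs (IsIso (IsLimit.conePointUniqueUpToIso hGc (limit.isLimit (Q ⋙ G))).hom)

end cone

end Groth.Agent.Lib.ProEtExtZeroMod22
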