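import Groth.Agent.Lib.ProEtExtZero22
import Mathlib.CategoryTheory.Sites.CoverLifting
import Mathlib.CategoryTheory.Adjunction.Triple

/-!
# `j⁻¹ j_! ≅ id` on the pro-étale site (helper22)

For a weakly étale monomorphism `j : U ⟶ X` the functor `compP j : U.ProEt ⥤ X.ProEt` is fully
faithful and cocontinuous; hence the unit of `j_! ⊣ j⁻¹` is an isomorphism.
-/

set_option autoImplicit false
set_option linter.style.haveILetI false
universe u

open CategoryTheory AlgebraicGeometry Limits MorphismProperty Opposite TopologicalSpace ProEtS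

namespace Groth.Agent.Lib.ProEtExtZeroUnit22

open Groth.Agent.Lib.ProEtWC22 Groth.Agent.Lib.ProEtCover22

theorem eqToHom_symm_comp {C : Type*} [Category C] {A B D : C} (e : A = B) (f : B ⟶ D) :
    eqToHom e.symm ≫ eqToHom e ≫ f = f := by
  subst e
  simp

variable {U X : Scheme.{u}} (j : U ⟶ X) [WeaklyEtale j]

instance faithful_compP : (compP j).Faithful where
  map_injective {V V'} f g h := by
    apply MorphismProperty.Over.Hom.ext
    exact congrArg (fun m => m.left) h

instance full_compP [Mono j] : (compP j).Full where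
  map_surjective {V V'} g := by
    have hw : g.left ≫ V'.hom ≫ j = V.hom ≫ j := MorphismProperty.Over.w g
    have hw' : g.left ≫ V'.hom = V.hom := by
      rw [← cancel_mono j, Category.assoc]
      exact hw
    exact ⟨MorphismProperty.Over.homMk g.left hw', MorphismProperty.Over.Hom.ext rfl⟩

set_option backward.isDefEq.respectTransparency.types false in
instance isCocontinuous_compP :
    (compP j).IsCocontinuous (Scheme.ProEt.topology U) (Scheme.ProEt.topology X) where
  cover_lift {V S} hS := by
    obtain ⟨R, hR, hle⟩ := (mem_topology_iff _ S).1 hS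
    rw [mem_precoverage_iff] at hR
    obtain ⟨𝒰, h𝒰, hEq⟩ := Scheme.mem_propQCPrecoverage_iff_exists_quasiCompactCover.1 hR
    let f' : ∀ i, 𝒰.X i ⟶ V.left := fun i => 𝒰.f i
    haveI : ∀ i, WeaklyEtale (f' i) := fun i => 𝒰.map_prop i
    haveI : WeaklyEtale V.hom := V.prop
    let Z' : 𝒰.I₀ → U.ProEt := fun i => Scheme.ProEt.mk (f' i ≫ V.hom)
    let g' : ∀ i, Z' i ⟶ V := fun i => MorphismProperty.Over.homMk
      (show (Z' i).left ⟶ V.left from f' i) rfl
    have hmem : ∀ i, S.arrows ((compP j).map (g' i)) := by
      intro i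
      have hf : (R.map (Scheme.ProEt.forget X ⋙ Over.forget X)) (𝒰.f i) := by
        rw [hEq]
        exact ⟨i⟩
      obtain ⟨Z, h, g, hg, hgf⟩ := Presieve.map_iff.1 hf
      have h' : Z.left = 𝒰.X i := h
      have hgf' : g.left = eqToHom h' ≫ f' i := hgf
      have hw : g.left ≫ V.hom ≫ j = Z.hom := MorphismProperty.Over.w g
      have hw2 : eqToHom h'.symm ≫ Z.hom = (f' i ≫ V.hom) ≫ j := by
        have e1 : Z.hom = eqToHom h' ≫ (f' i ≫ V.hom) ≫ j := by
          rw [← hw, hgf']
          exact (Category.assoc _ _ _).trans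
            (congrArg (fun t => eqToHom h' ≫ t) (Category.assoc _ _ _).symm)
        rw [e1]
        exact eqToHom_symm_comp h' _
      let k : (compP j).obj (Z' i) ⟶ Z := MorphismProperty.Over.homMk
        (show 𝒰.X i ⟶ Z.left from eqToHom h'.symm) hw2
      have hk : (compP j).map (g' i) = k ≫ g := by
        apply MorphismProperty.Over.Hom.ext
        change f' i = eqToHom h'.symm ≫ g.left
        rw [hgf']
        exact (eqToHom_symm_comp h' _).symm
      rw [hk]
      exact S.downward_closed (hle _ _ hg) k
    have hcov : Sieve.generate (Presieve.ofArrows Z' g') ∈ Scheme.ProEt.topology U V := by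
      apply generate_ofArrows_mem_topology Z' g'
      · intro x
        obtain ⟨i, y, hy⟩ := 𝒰.exists_eq x
        exact ⟨i, y, hy⟩
      · exact h𝒰
    refine (Scheme.ProEt.topology U).superset_covering ?_ hcov
    rw [Sieve.generate_le_iff]
    rintro _ _ ⟨i⟩
    exact hmem i

section unit

variable [Mono j] [ProEtS.JPCont j]

/-- The unit `F ⟶ j⁻¹ j_! F` is an isomorphism (abelian sheaves). -/
instance isIso_unit_extZeroPAdj : IsIso (ProEtS.extZeroPAdj j).unit := by
  let t : Adjunction.Triple (ProEtS.extZeroP j) (ProEtS.restrP j)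
      ((compP j).sheafPushforwardCocontinuous AddCommGrpCat.{u + 1} (Scheme.ProEt.topology U)
        (Scheme.ProEt.topology X)) :=
    ⟨ProEtS.extZeroPAdj j, (compP j).sheafAdjunctionCocontinuous AddCommGrpCat.{u + 1}
      (Scheme.ProEt.topology U) (Scheme.ProEt.topology X)⟩
  rw [t.isIso_unit_iff_isIso_counit]
  haveI : ∀ F, IsIso (t.adj₂.counit.app F) := fun F => by
    haveI : IsIso ((sheafToPresheaf _ _).map (t.adj₂.counit.app F)) := by
      change IsIso (t.adj₂.counit.app F).hom
      rw [Functor.sheafAdjunctionCocontinuous_counit_app_hom]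
      haveI : (compP j).op.Full := inferInstance
      haveI : (compP j).op.Faithful := inferInstance
      haveI : (compP j).op.HasPointwiseRightKanExtension F.obj := inferInstance
      have h1 : IsIso (((compP j).op.ranCounit).app F.obj) := inferInstance
      rw [Functor.ranAdjunction_counit]
      exact h1
    exact isIso_of_reflects_iso _ (sheafToPresheaf _ _)
  exact NatIso.isIso_of_isIso_app _

end unit

end Groth.Agent.Lib.ProEtExtZeroUnit22
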