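import Groth.Agent.Lib.ProEtWC22e
import Groth.Agent.Lib.WContrSite22
import Groth.Agent.S0679
import Groth.Agent.Lib.H60ExactDerived
import Mathlib.CategoryTheory.Sites.EpiMono

/-!
# Pushforward along finite finitely presented morphisms is exact on pro-étale sheaves (helper22)

* `isWC_bcP_of_finite`: the base change of an affine w-contractible object along a finite
  finitely presented morphism is weakly contractible;
* `epi_pushP_map`: `f_*` preserves epimorphisms of abelian pro-étale sheaves;
* `preservesFiniteLimits_pushP`, `preservesFiniteColimits_pushP`.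
-/

set_option autoImplicit false
universe u

open CategoryTheory AlgebraicGeometry Limits MorphismProperty Opposite TopologicalSpace ProEtS

namespace Groth.Agent.Lib.ProEtFinitePush22

open Groth.Agent.Lib.ProEtWC22

variable {Z X : Scheme.{u}} (f : Z ⟶ X)

theorem isWC_bcP_of_finite [IsFinite f] [LocallyOfFinitePresentation f] (V : X.ProEt)
    [IsAffine V.left] (hV : EtPBC.IsWContractible Γ(V.left, ⊤)) :
    ProEtS.IsWC ((bcP f).obj V) := by
  let p : ((bcP f).obj V).left ⟶ V.left := pullback.fst V.hom f
  haveI : IsFinite p := inferInstanceAs (IsFinite (pullback.fst V.hom f))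
  haveI : LocallyOfFinitePresentation p :=
    inferInstanceAs (LocallyOfFinitePresentation (pullback.fst V.hom f))
  haveI : IsAffine ((bcP f).obj V).left := isAffine_of_isAffineHom p
  apply isWC_of_hasClopenRefinements
  apply hasClopenRefinements_of_isWContractible
  letI : Algebra Γ(V.left, ⊤) Γ(((bcP f).obj V).left, ⊤) := p.appTop.hom.toAlgebra
  haveI : Module.Finite Γ(V.left, ⊤) Γ(((bcP f).obj V).left, ⊤) := p.finite_appTop
  haveI : Algebra.FinitePresentation Γ(V.left, ⊤) Γ(((bcP f).obj V).left, ⊤) :=
    (HasRingHomProperty.iff_of_isAffine (P := @LocallyOfFinitePresentation)).1 inferInstance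
  exact Groth.Agent.S0679.result Γ(V.left, ⊤) Γ(((bcP f).obj V).left, ⊤) hV

variable [PCont f]

theorem epi_pushP_map [IsFinite f] [LocallyOfFinitePresentation f] {G G' : AbP Z} (φ : G ⟶ G')
    (hφ : Epi φ) : Epi ((pushP f).map φ) := by
  rw [← Sheaf.isLocallySurjective_iff_epi' AddCommGrpCat.{u + 1}] at hφ ⊢
  -- the underlying morphism of sheaves of sets is an epimorphism
  let J := Scheme.ProEt.topology Z
  let φ' := (sheafCompose J (forget AddCommGrpCat.{u + 1})).map φ
  have hφ' : Epi φ' := by
    rw [← Sheaf.isLocallySurjective_iff_epi]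
    exact (Presheaf.isLocallySurjective_iff_whisker_forget J φ.hom).1 hφ
  refine ⟨fun {U} s => ?_⟩
  obtain ⟨ι, V, g, hcov, hV⟩ :=
    Groth.Agent.Lib.WContrSite22.exists_wContractible_family U
  refine (Scheme.ProEt.topology X).superset_covering ?_ hcov
  rw [Sieve.generate_le_iff]
  rintro _ _ ⟨i⟩
  haveI := (hV i).1
  have hwc := isWC_bcP_of_finite f (V i) (hV i).2
  obtain ⟨t, ht⟩ := hwc _ _ φ' hφ' (G'.obj.map ((bcP f).map (g i)).op s)
  exact ⟨t, ht⟩

theorem preservesFiniteLimits_pushP : PreservesFiniteLimits (pushP f) := by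
  haveI : (pushP f).IsRightAdjoint := (pullPushAdjP f).isRightAdjoint
  infer_instance

theorem preservesFiniteColimits_pushP [IsFinite f] [LocallyOfFinitePresentation f] :
    PreservesFiniteColimits (pushP f) :=
  haveI := preservesFiniteLimits_pushP f
  Groth.Agent.Lib.H60ExactDerived.preservesFiniteColimits_of_preservesEpi (pushP f)
    (fun φ hφ => epi_pushP_map f φ hφ)

end Groth.Agent.Lib.ProEtFinitePush22
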