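import Groth.Agent.Lib.ProEtCover22
import Groth.Agent.Lib.WeaklyEtale
import Groth.Agent.Lib.WeaklyEtaleFibre96
import Mathlib.FieldTheory.IsSepClosed

/-!
# Geometric points lift along pro-étale coverings (helper22)

* `nonempty_algHom_of_weaklyEtale_isSepClosed`: a nontrivial weakly étale algebra over a separably
  closed field has a rational point;
* `exists_section_of_weaklyEtale`: a nonempty scheme weakly étale over a separably closed field has
  a section;
* `exists_geometric_lift`: Bhatt–Scholze: geometric points lift along covering sieves of the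
  small pro-étale site.
-/

set_option autoImplicit false
universe u

open CategoryTheory AlgebraicGeometry Limits MorphismProperty

namespace Groth.Agent.Lib.ProEtGeomPt22

/-- A nontrivial weakly étale algebra over a separably closed field has a rational point. -/
theorem nonempty_algHom_of_weaklyEtale_isSepClosed (k C : Type u) [Field k] [IsSepClosed k]
    [CommRing C] [Nontrivial C] [Algebra k C] [Algebra.WeaklyEtale k C] : Nonempty (C →ₐ[k] k) := by
  obtain ⟨M, hM⟩ := Ideal.exists_maximal C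
  letI : Field (C ⧸ M) := Ideal.Quotient.field M
  haveI : Algebra.WeaklyEtale k (C ⧸ M) :=
    Groth.Agent.Lib.WeaklyEtaleFibre96.weaklyEtale_quotient k C M
  haveI : Algebra.IsSeparable k (C ⧸ M) :=
    Groth.Agent.Lib.WeaklyEtale.isSeparable_of_weaklyEtale k (C ⧸ M)
  have hsurj : Function.Surjective (algebraMap k (C ⧸ M)) :=
    IsSepClosed.algebraMap_surjective k (C ⧸ M)
  let e : k ≃ₐ[k] (C ⧸ M) := AlgEquiv.ofBijective (Algebra.ofId k (C ⧸ M))
    ⟨(algebraMap k (C ⧸ M)).injective, hsurj⟩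
  exact ⟨(e.symm : (C ⧸ M) →ₐ[k] k).comp (Ideal.Quotient.mkₐ k M)⟩

/-- A nonempty scheme weakly étale over a separably closed field has a section. -/
theorem exists_section_of_weaklyEtale {k : Type u} [Field k] [IsSepClosed k] {P : Scheme.{u}}
    (f : P ⟶ Spec (CommRingCat.of k)) [WeaklyEtale f] [Nonempty P] :
    ∃ s : Spec (CommRingCat.of k) ⟶ P, s ≫ f = 𝟙 _ := by
  obtain ⟨w⟩ := ‹Nonempty P›
  let 𝒜 := P.affineOpenCover
  let i := 𝒜.idx w
  obtain ⟨y, -⟩ := 𝒜.covers w
  let ψ : CommRingCat.of k ⟶ 𝒜.X i := Spec.preimage (𝒜.f i ≫ f)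
  have hψ : Spec.map ψ = 𝒜.f i ≫ f := Spec.map_preimage _
  letI : Algebra k (𝒜.X i) := ψ.hom.toAlgebra
  have hψ' : CommRingCat.ofHom (algebraMap k (𝒜.X i)) = ψ := rfl
  haveI : WeaklyEtale (Spec.map (CommRingCat.ofHom (algebraMap k (𝒜.X i)))) := by
    rw [hψ', hψ]; infer_instance
  haveI : Algebra.WeaklyEtale k (𝒜.X i) := Groth.Agent.S7178.weaklyEtale_SpecMap_iff.1 inferInstance
  haveI : Nontrivial (𝒜.X i) := by
    have : Nonempty (PrimeSpectrum (𝒜.X i)) := ⟨y⟩
    exact (PrimeSpectrum.nonempty_iff_nontrivial).1 this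
  obtain ⟨r⟩ := nonempty_algHom_of_weaklyEtale_isSepClosed k (𝒜.X i)
  refine ⟨Spec.map (CommRingCat.ofHom r.toRingHom) ≫ 𝒜.f i, ?_⟩
  rw [Category.assoc, ← hψ, ← Spec.map_comp]
  have : ψ ≫ CommRingCat.ofHom r.toRingHom = 𝟙 _ := by
    ext a
    exact r.commutes a
  exact (congrArg Spec.map this).trans (Spec.map_id _)

/-- Morphisms of the small pro-étale site are weakly étale. -/
theorem weaklyEtale_left {X : Scheme.{u}} {V U : X.ProEt} (g : V ⟶ U) : WeaklyEtale g.left := by
  have h1 : g.left ≫ U.hom = V.hom := MorphismProperty.Over.w g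
  haveI : WeaklyEtale (g.left ≫ U.hom) := by rw [h1]; infer_instance
  exact WeaklyEtale.of_comp g.left U.hom

set_option backward.isDefEq.respectTransparency.types false in
/-- Every point of `U` is hit by some member of any covering sieve. -/
theorem exists_mem_range_of_mem_topology {X : Scheme.{u}} (U : X.ProEt) (R : Sieve U)
    (hR : R ∈ Scheme.ProEt.topology X U) (x : U.left) :
    ∃ (V : X.ProEt) (g : V ⟶ U), R g ∧ x ∈ Set.range g.left := by
  obtain ⟨R', hR', hle⟩ := (Groth.Agent.Lib.ProEtCover22.mem_topology_iff U R).1 hR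
  rw [Groth.Agent.Lib.ProEtCover22.mem_precoverage_iff] at hR'
  obtain ⟨Y, f, hf, hx⟩ := Scheme.JointlySurjective.exists_eq
    (K := Scheme.precoverage @WeaklyEtale) _ hR'.2 x
  obtain ⟨Z, h, g, hg, hgf⟩ := Presieve.map_iff.1 hf
  subst h
  rw [eqToHom_refl, Category.id_comp] at hgf
  subst hgf
  exact ⟨Z, g, hle _ _ hg, hx⟩

/-- **Bhatt–Scholze**: geometric points lift along covering sieves of the small pro-étale
site. -/
theorem exists_geometric_lift {X : Scheme.{u}} (U : X.ProEt) (R : Sieve U)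
    (hR : R ∈ Scheme.ProEt.topology X U) {k : Type u} [Field k] [IsSepClosed k]
    (ξ : Spec (CommRingCat.of k) ⟶ U.left) :
    ∃ (V : X.ProEt) (g : V ⟶ U) (ξ' : Spec (CommRingCat.of k) ⟶ V.left),
      R g ∧ ξ' ≫ g.left = ξ := by
  let pt : Spec (CommRingCat.of k) := ⟨⊥, Ideal.isPrime_bot⟩
  obtain ⟨V, g, hg, z, hz⟩ := exists_mem_range_of_mem_topology U R hR (ξ pt)
  haveI : WeaklyEtale g.left := weaklyEtale_left g
  obtain ⟨w, -, -⟩ := Scheme.Pullback.exists_preimage_pullback (f := ξ) (g := g.left) pt z hz.symm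
  haveI : Nonempty ↥(pullback ξ g.left) := ⟨w⟩
  obtain ⟨s, hs⟩ := exists_section_of_weaklyEtale (pullback.fst ξ g.left)
  refine ⟨V, g, s ≫ pullback.snd ξ g.left, hg, ?_⟩
  rw [Category.assoc, ← pullback.condition, ← Category.assoc, hs, Category.id_comp]

end Groth.Agent.Lib.ProEtGeomPt22
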