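import Groth.Agent.Lib.ProEtSheafify22

/-!
# Left Kan extension presheaves on the pro-étale site and finite clopen decompositions (helper22)

* `GluesFinite P U`: the presheaf `P` glues uniquely along finite pairwise disjoint open covers
  of `U`;
* `toSheafify_bijective_of_gluesFinite`;
* `gluesFinite_of_lanData`: a presheaf described as a "filtered colimit" along a functor
  `φ : C ⥤ X.ProEt` from a category with (weak) finite coproducts which a presheaf `F` turns into
  products glues along finite disjoint open covers.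
-/

set_option autoImplicit false
universe u w v₁ u₁

open CategoryTheory AlgebraicGeometry Limits MorphismProperty Opposite TopologicalSpace

namespace Groth.Agent.Lib.ProEtLan22

open Groth.Agent.Lib.ProEtWC22 Groth.Agent.Lib.ProEtSheafify22

variable {X : Scheme.{u}}

/-- `P` glues uniquely along finite pairwise disjoint open covers of `U`. -/
def GluesFinite (P : X.ProEtᵒᵖ ⥤ Type w) (U : X.ProEt) : Prop :=
  ∀ (n : ℕ) (W : Fin n → U.left.Opens), IsOpenCover W →
    Pairwise (fun i j => Disjoint (W i) (W j)) →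
    ∀ t : ∀ k, P.obj (op (opensObj U (W k))),
      ∃! s : P.obj (op U), ∀ k, P.map (opensHom U (W k)).op s = t k

theorem gluesFinite_of_preservesFiniteProducts (F : X.ProEtᵒᵖ ⥤ Type (u + 1))
    [PreservesFiniteProducts F] (U : X.ProEt) : GluesFinite F U :=
  fun _ W hW hd t => existsUnique_of_preservesFiniteProducts F U W hW hd t

theorem isOpenCover_of_iUnion_eq_univ {U : X.ProEt} {n : ℕ} (W : Fin n → U.left.Opens)
    (hunion : (⋃ k, (W k : Set ↥U.left)) = Set.univ) : IsOpenCover W := by
  rw [IsOpenCover, eq_top_iff]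
  intro x _
  have : x ∈ ⋃ k, (W k : Set ↥U.left) := by rw [hunion]; trivial
  obtain ⟨k, hk⟩ := Set.mem_iUnion.1 this
  rw [Opens.mem_iSup]
  exact ⟨k, hk⟩

/-- On an object all of whose covering sieves have clopen refinements, a presheaf gluing along
finite disjoint open covers agrees with its sheafification. -/
theorem toSheafify_bijective_of_gluesFinite (F : X.ProEtᵒᵖ ⥤ Type (u + 1))
    (U : X.ProEt) (hU : HasClopenRefinements U) (hF : GluesFinite F U) :
    Function.Bijective ((toSheafify (Scheme.ProEt.topology X) F).app (op U)) := by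
  let J := Scheme.ProEt.topology X
  let G : Sheaf J (Type (u + 1)) := (presheafToSheaf J (Type (u + 1))).obj F
  constructor
  · intro a b hab
    have hmem := Presheaf.equalizerSieve_mem J (toSheafify J F) a b hab
    obtain ⟨n, W, -, hdis, hunion, hW⟩ := hU _ hmem
    have hdis' : Pairwise (fun k l => Disjoint (W k) (W l)) := fun k l hkl =>
      (Opens.coe_disjoint).1 (hdis hkl)
    obtain ⟨s, -, hs⟩ := hF n W (isOpenCover_of_iUnion_eq_univ W hunion) hdis'
      (fun k => F.map (opensHom U (W k)).op a)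
    rw [hs a (fun k => rfl)]
    exact (hs b (fun k => (hW k).symm)).symm
  · intro s
    have hmem := Presheaf.imageSieve_mem J (toSheafify J F) s
    obtain ⟨n, W, -, hdis, hunion, hW⟩ := hU _ hmem
    have hdis' : Pairwise (fun k l => Disjoint (W k) (W l)) := fun k l hkl =>
      (Opens.coe_disjoint).1 (hdis hkl)
    choose t ht using hW
    obtain ⟨t0, ht0, -⟩ := hF n W (isOpenCover_of_iUnion_eq_univ W hunion) hdis' t
    refine ⟨t0, ?_⟩
    obtain ⟨s0, -, hs0⟩ := existsUnique_amalgamation G U W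
      (isOpenCover_of_iUnion_eq_univ W hunion) hdis'
      (fun k => G.obj.map (opensHom U (W k)).op s)
    rw [hs0 s (fun k => rfl)]
    apply hs0
    intro k
    have := ConcreteCategory.congr_hom ((toSheafify J F).naturality (opensHom U (W k)).op) t0
    dsimp at this
    change (sheafify J F).map (opensHom U (W k)).op ((toSheafify J F).app (op U) t0) = _
    rw [← this, ht0 k]
    exact ht k

section LanData

variable {C : Type u₁} [Category.{v₁} C] (φ : C ⥤ X.ProEt) (F : Cᵒᵖ ⥤ Type w)
  (P : X.ProEtᵒᵖ ⥤ Type w) (α : F ⟶ φ.op ⋙ P)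

/-- The "germ" of a section `a : F(V)` along `g : W ⟶ φ V`. -/
def germ {W : X.ProEt} {V : C} (g : W ⟶ φ.obj V) (a : F.obj (op V)) : P.obj (op W) :=
  P.map g.op (α.app (op V) a)

lemma germ_map {W : X.ProEt} {V V' : C} (g : W ⟶ φ.obj V') (h : V' ⟶ V) (a : F.obj (op V)) :
    germ φ F P α g (F.map h.op a) = germ φ F P α (g ≫ φ.map h) a := by
  have h1 := ConcreteCategory.congr_hom (α.naturality h.op) a
  dsimp at h1
  unfold germ
  rw [h1]
  have h2 := ConcreteCategory.congr_hom (P.map_comp (φ.map h).op g.op) (α.app (op V) a)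
  exact h2.symm

lemma map_germ {W W' : X.ProEt} (i : W' ⟶ W) {V : C} (g : W ⟶ φ.obj V) (a : F.obj (op V)) :
    P.map i.op (germ φ F P α g a) = germ φ F P α (i ≫ g) a := by
  unfold germ
  have h2 := ConcreteCategory.congr_hom (P.map_comp g.op i.op) (α.app (op V) a)
  exact h2.symm

/-- Every section of `P` is a germ. -/
def HasRep : Prop :=
  ∀ (W : X.ProEt) (x : P.obj (op W)), ∃ (V : C) (g : W ⟶ φ.obj V) (a : F.obj (op V)),
    germ φ F P α g a = x

/-- Equality of germs is witnessed at a common refinement. -/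
def HasEq : Prop :=
  ∀ (W : X.ProEt) (V V' : C) (g : W ⟶ φ.obj V) (g' : W ⟶ φ.obj V')
    (a : F.obj (op V)) (a' : F.obj (op V')), germ φ F P α g a = germ φ F P α g' a' →
    ∃ (V'' : C) (g'' : W ⟶ φ.obj V'') (h : V'' ⟶ V) (h' : V'' ⟶ V'),
      g'' ≫ φ.map h = g ∧ g'' ≫ φ.map h' = g' ∧ F.map h.op a = F.map h'.op a'

/-- `C` has weak finite coproducts which `F` turns into products. -/
def HasWeakCoprod : Prop :=
  ∀ (n : ℕ) (V : Fin n → C), ∃ (S : C) (j : ∀ k, V k ⟶ S),
    (∀ (T : C) (h : ∀ k, V k ⟶ T), ∃ d : S ⟶ T, ∀ k, j k ≫ d = h k) ∧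
    (∀ a : ∀ k, F.obj (op (V k)), ∃! s : F.obj (op S), ∀ k, F.map (j k).op s = a k)

variable {φ F P α}

theorem gluesFinite_of_lanData (hrep : HasRep φ F P α) (heq : HasEq φ F P α)
    (hco : HasWeakCoprod F) (U : X.ProEt) : GluesFinite P U := by
  intro n W hW hd t
  -- existence
  have hex : ∃ s : P.obj (op U), ∀ k, P.map (opensHom U (W k)).op s = t k := by
    choose V g a hga using fun k => hrep _ (t k)
    obtain ⟨S, j, hdesc, hprod⟩ := hco n V
    obtain ⟨g'', hg''⟩ := exists_glue U W hW hd (φ.obj S) (fun k => g k ≫ φ.map (j k))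
    obtain ⟨a'', ha'', -⟩ := hprod a
    refine ⟨germ φ F P α g'' a'', fun k => ?_⟩
    rw [map_germ, hg'' k, ← germ_map, ha'' k, hga k]
  obtain ⟨s, hs⟩ := hex
  refine ⟨s, hs, fun s' hs' => ?_⟩
  -- uniqueness
  obtain ⟨V, g, a, rfl⟩ := hrep _ s
  obtain ⟨V', g', a', rfl⟩ := hrep _ s'
  have hk : ∀ k, germ φ F P α (opensHom U (W k) ≫ g') a' =
      germ φ F P α (opensHom U (W k) ≫ g) a := fun k => by
    rw [← map_germ, ← map_germ, hs k, hs' k]
  choose Vk gk hk1 hk2 e1 e2 e3 using fun k => heq _ _ _ _ _ _ _ (hk k)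
  obtain ⟨S, j, hdesc, hprod⟩ := hco n Vk
  obtain ⟨d1, hd1⟩ := hdesc V' hk1
  obtain ⟨d2, hd2⟩ := hdesc V hk2
  obtain ⟨g'', hg''⟩ := exists_glue U W hW hd (φ.obj S) (fun k => gk k ≫ φ.map (j k))
  have hg1 : g'' ≫ φ.map d1 = g' := by
    refine glue_unique U W hW _ _ _ fun k => ?_
    rw [← Category.assoc, hg'' k, Category.assoc, ← φ.map_comp, hd1 k, e1 k]
  have hg2 : g'' ≫ φ.map d2 = g := by
    refine glue_unique U W hW _ _ _ fun k => ?_
    rw [← Category.assoc, hg'' k, Category.assoc, ← φ.map_comp, hd2 k, e2 k]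
  have hF : F.map d1.op a' = F.map d2.op a := by
    obtain ⟨s0, -, hs0⟩ := hprod (fun k => F.map (j k).op (F.map d1.op a'))
    rw [hs0 (F.map d1.op a') (fun k => rfl)]
    refine (hs0 _ fun k => ?_).symm
    have h1 := ConcreteCategory.congr_hom (F.map_comp d1.op (j k).op) a'
    have h2 := ConcreteCategory.congr_hom (F.map_comp d2.op (j k).op) a
    dsimp at h1 h2
    rw [← h1, ← h2, ← op_comp, ← op_comp, hd1 k, hd2 k]
    exact (e3 k).symm
  rw [← hg1, ← hg2, ← germ_map, ← germ_map, hF]

end LanData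

end Groth.Agent.Lib.ProEtLan22
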