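import Groth.Agent.Lib.ProEtLan22
import Groth.Agent.Lib.ProEtCoprod22
import Mathlib.CategoryTheory.Functor.KanExtension.Pointwise
import Mathlib.CategoryTheory.Functor.Flat
import Mathlib.CategoryTheory.Limits.Types.Filtered

/-!
# Left Kan extension presheaves along flat functors: representatives and equality (helper22)
-/

set_option autoImplicit false
universe u w v₁ u₁

open CategoryTheory AlgebraicGeometry Limits MorphismProperty Opposite TopologicalSpace

namespace Groth.Agent.Lib.ProEtLan22

variable {X : Scheme.{u}}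

section

variable {C : Type u₁} [Category.{v₁} C] (φ : C ⥤ X.ProEt) (F : Cᵒᵖ ⥤ Type w)
  (P : X.ProEtᵒᵖ ⥤ Type w) (α : F ⟶ φ.op ⋙ P) [φ.op.HasPointwiseLeftKanExtension F]
  [P.IsLeftKanExtension α]

theorem hasRep_of_isLeftKanExtension : HasRep φ F P α := by
  intro W x
  have hc : IsColimit ((Functor.LeftExtension.mk P α).coconeAt (op W)) :=
    Functor.isPointwiseLeftKanExtensionOfIsLeftKanExtension P α (op W)
  obtain ⟨j, y, hy⟩ := Types.jointly_surjective_of_isColimit hc x
  exact ⟨j.left.unop, j.hom.unop, y, hy⟩

theorem hasEq_of_isLeftKanExtension [RepresentablyFlat φ] : HasEq φ F P α := by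
  intro W V V' g g' a a' h
  have hc : IsColimit ((Functor.LeftExtension.mk P α).coconeAt (op W)) :=
    Functor.isPointwiseLeftKanExtensionOfIsLeftKanExtension P α (op W)
  let i : CostructuredArrow φ.op (op W) := CostructuredArrow.mk (Y := op V) g.op
  let i' : CostructuredArrow φ.op (op W) := CostructuredArrow.mk (Y := op V') g'.op
  have h' : ((Functor.LeftExtension.mk P α).coconeAt (op W)).ι.app i a =
      ((Functor.LeftExtension.mk P α).coconeAt (op W)).ι.app i' a' := h
  obtain ⟨k, m, m', hk⟩ := (Types.FilteredColimit.isColimit_eq_iff _ hc).1 h'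
  refine ⟨k.left.unop, k.hom.unop, m.left.unop, m'.left.unop, ?_, ?_, hk⟩
  · have := CostructuredArrow.w m
    exact congrArg Quiver.Hom.unop this
  · have := CostructuredArrow.w m'
    exact congrArg Quiver.Hom.unop this

end

open Groth.Agent.Lib.ProEtCoprod22 Groth.Agent.Lib.ProEtWC22 in
theorem hasWeakCoprod_sheaf (F : Sheaf (Scheme.ProEt.topology X) (Type (u + 1))) :
    HasWeakCoprod F.obj :=
  fun _ V => ⟨coprodObj V, coprodι V, coprod_desc V, coprod_existsUnique V F⟩

/-- The base change functor preserves finite limits. -/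
theorem preservesFiniteLimits_bcP {X Y : Scheme.{u}} (f : X ⟶ Y) :
    PreservesFiniteLimits (ProEtS.bcP f) := by
  have h1 : PreservesFiniteLimits (ProEtS.bcP f ⋙ Scheme.ProEt.forget X) :=
    inferInstanceAs <| PreservesFiniteLimits
      (Scheme.ProEt.forget Y ⋙ CategoryTheory.Over.pullback f)
  constructor
  intro J _ _
  exact preservesLimitsOfShape_of_reflects_of_preserves (ProEtS.bcP f) (Scheme.ProEt.forget X)

open Groth.Agent.Lib.ProEtWC22 in
/-- **S7285**: the left Kan extension presheaf along base change agrees with its sheafification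
on affine weakly contractible objects. -/
theorem lan_bijective_on_affine_wc {X Y : Scheme.{u}} (f : X ⟶ Y)
    (F : Sheaf (Scheme.ProEt.topology Y) (Type (u + 1))) (W : X.ProEt) [IsAffine W.left]
    (hW : ProEtS.IsWC W) :
    Function.Bijective
      ((toSheafify (Scheme.ProEt.topology X) ((ProEtS.bcP f).op.lan.obj F.obj)).app (op W)) := by
  haveI := preservesFiniteLimits_bcP f
  haveI : RepresentablyFlat (ProEtS.bcP f) := flat_of_preservesFiniteLimits _
  refine toSheafify_bijective_of_gluesFinite _ W
    (hasClopenRefinements_of_isWContractible W (isWContractible_of_isWC W hW)) ?_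
  exact gluesFinite_of_lanData (φ := ProEtS.bcP f) (F := F.obj)
    (α := (ProEtS.bcP f).op.lanUnit.app F.obj)
    (hasRep_of_isLeftKanExtension _ _ _ _) (hasEq_of_isLeftKanExtension _ _ _ _)
    (hasWeakCoprod_sheaf F) W

end Groth.Agent.Lib.ProEtLan22
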