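import Groth.Agent.Lib.ProEtEps22j

/-!
# Sections of `ε⁻¹ F` over limits, part 1: injectivity along towers (helper22)

For a cofiltered tower `D : I ⥤ X.ProEt` of affine objects with limit (on the level of schemes)
`c.pt`, a section of the presheaf pullback `ε^p F` over a stage `D i₀` whose image in
`ε⁻¹ F (c.pt)` vanishes already vanishes over a later stage.
-/

set_option autoImplicit false
set_option linter.style.haveILetI false
universe u

open CategoryTheory AlgebraicGeometry Limits MorphismProperty Opposite TopologicalSpace ProEtS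

namespace Groth.Agent.Lib.ProEtLim22

open Groth.Agent.Lib.ProEtEps22 Groth.Agent.Lib.ProEtLan22 Groth.Agent.Lib.ProEtWC22

variable {X : Scheme.{u}}

/-- The forgetful functor from the small pro-étale site to schemes. -/
noncomputable abbrev fsP (X : Scheme.{u}) : X.ProEt ⥤ Scheme.{u} :=
  Scheme.ProEt.forget X ⋙ Over.forget X

/-- An open subscheme of an object of the small étale site, as an object of that site. -/
noncomputable def etOpens (V : X.Etale) (Ω : V.left.Opens) : X.Etale :=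
  haveI : Etale V.hom := V.prop
  etMk (Scheme.Opens.ι Ω ≫ V.hom)

/-- The inclusion of an open subobject. -/
noncomputable def etOpensι (V : X.Etale) (Ω : V.left.Opens) : etOpens V Ω ⟶ V :=
  MorphismProperty.Over.homMk (Scheme.Opens.ι Ω) rfl

/-- Morphisms of `X.Etale` with image in an open factor through the open subobject. -/
theorem exists_lift_etOpens {Y V : X.Etale} (m : Y ⟶ V) (Ω : V.left.Opens)
    (h : Set.range m.left ⊆ (Ω : Set V.left)) : ∃ m' : Y ⟶ etOpens V Ω, m' ≫ etOpensι V Ω = m := by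
  have h' : Set.range m.left ⊆ Set.range (Scheme.Opens.ι Ω) := by
    rw [Scheme.Opens.range_ι]; exact h
  let l : Y.left ⟶ Ω := IsOpenImmersion.lift (Scheme.Opens.ι Ω) m.left h'
  have hl : l ≫ Scheme.Opens.ι Ω = m.left := IsOpenImmersion.lift_fac _ _ _
  refine ⟨MorphismProperty.Over.homMk (show Y.left ⟶ (etOpens V Ω).left from l) ?_, et_hom_ext ?_⟩
  · change l ≫ Scheme.Opens.ι Ω ≫ V.hom = Y.hom
    rw [← Category.assoc, hl]
    exact MorphismProperty.Over.w m
  · exact hl

/-- Morphisms from a pro-étale object with image in an open factor through the open subobject. -/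
theorem exists_lift_eps_etOpens {W : X.ProEt} {V : X.Etale} (g : W ⟶ (eps X).obj V)
    (Ω : V.left.Opens) (h : Set.range g.left ⊆ (Ω : Set V.left)) :
    ∃ g' : W ⟶ (eps X).obj (etOpens V Ω), g' ≫ (eps X).map (etOpensι V Ω) = g := by
  let gl : W.left ⟶ V.left := g.left
  have h' : Set.range gl ⊆ Set.range (Scheme.Opens.ι Ω) := by
    rw [Scheme.Opens.range_ι]; exact h
  let l : W.left ⟶ Ω := IsOpenImmersion.lift (Scheme.Opens.ι Ω) gl h'
  have hl : l ≫ Scheme.Opens.ι Ω = gl := IsOpenImmersion.lift_fac _ _ _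
  refine ⟨MorphismProperty.Over.homMk
    (show W.left ⟶ ((eps X).obj (etOpens V Ω)).left from l) ?_, hom_ext' ?_⟩
  · change l ≫ Scheme.Opens.ι Ω ≫ V.hom = W.hom
    rw [← Category.assoc, hl]
    exact MorphismProperty.Over.w g
  · exact hl

variable (F : EtCoh.Ab X)

theorem gm_zero {W : X.ProEt} {V : X.Etale} (g : W ⟶ (eps X).obj V) :
    gm F g (0 : F.obj.obj (op V)) = 0 := by
  change (lanP F.obj).map g.op ((lanα F.obj).app (op V) 0) = 0
  rw [map_zero, map_zero]

theorem gm_add {W : X.ProEt} {V : X.Etale} (g : W ⟶ (eps X).obj V) (a b : F.obj.obj (op V)) :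
    gm F g (a + b) = gm F g a + gm F g b := by
  change (lanP F.obj).map g.op ((lanα F.obj).app (op V) (a + b)) =
    (lanP F.obj).map g.op ((lanα F.obj).app (op V) a) +
      (lanP F.obj).map g.op ((lanα F.obj).app (op V) b)
  rw [map_add, map_add]

theorem gm_sub {W : X.ProEt} {V : X.Etale} (g : W ⟶ (eps X).obj V) (a b : F.obj.obj (op V)) :
    gm F g (a - b) = gm F g a - gm F g b := by
  change (lanP F.obj).map g.op ((lanα F.obj).app (op V) (a - b)) =
    (lanP F.obj).map g.op ((lanα F.obj).app (op V) a) -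
      (lanP F.obj).map g.op ((lanα F.obj).app (op V) b)
  rw [map_sub, map_sub]

/-- The sheafification map `ε^p F ⟶ ε⁻¹ F`. -/
noncomputable abbrev η : lanP F.obj ⟶ sheafify (Scheme.ProEt.topology X) (lanP F.obj) :=
  toSheafify (Scheme.ProEt.topology X) (lanP F.obj)

theorem η_naturality {W₁ W₂ : X.ProEt} (t : W₁ ⟶ W₂) (x : (lanP F.obj).obj (op W₂)) :
    (sheafify (Scheme.ProEt.topology X) (lanP F.obj)).map t.op ((η F).app (op W₂) x) =
      (η F).app (op W₁) ((lanP F.obj).map t.op x) :=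
  (ConcreteCategory.congr_hom ((η F).naturality t.op) x).symm

/-- **Injectivity along towers**: a section of `ε^p F` over a stage of a tower of affine objects
whose image in `ε⁻¹ F` of the limit vanishes, vanishes at a later stage. -/
theorem exists_map_eq_zero {I : Type u} [SmallCategory I] [IsCofiltered I] (D : I ⥤ X.ProEt)
    (c : Cone D) [∀ i, IsAffine (D.obj i).left] [CompactSpace c.pt.left]
    (hc : IsLimit ((fsP X).mapCone c)) (i₀ : I) (y : (lanP F.obj).obj (op (D.obj i₀)))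
    (h : (η F).app (op c.pt) ((lanP F.obj).map (c.π.app i₀).op y) = 0) :
    ∃ (j : I) (f : j ⟶ i₀), (lanP F.obj).map (D.map f).op y = 0 := by
  let J := Scheme.ProEt.topology X
  obtain ⟨V₁, t, a, rfl⟩ := hasRep F.obj (D.obj i₀) y
  have e₁ : (lanP F.obj).map (c.π.app i₀).op (gm F t a) = gm F (c.π.app i₀ ≫ t) a :=
    map_gm F _ _ _
  rw [e₁] at h
  have h0 : (η F).app (op c.pt) (gm F (c.π.app i₀ ≫ t) a) =
      (η F).app (op c.pt) (gm F (c.π.app i₀ ≫ t) 0) := by
    rw [h, gm_zero, map_zero]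
  have hmem := Presheaf.equalizerSieve_mem J (η F) _ _ h0
  obtain ⟨n, Z, r, hZ, hr, hsurj⟩ := exists_finite_affine_refinement c.pt _ hmem
  have key : ∀ k : Fin n, ∃ (V'' : X.Etale) (g'' : Z k ⟶ (eps X).obj V'') (m : V'' ⟶ V₁),
      g'' ≫ (eps X).map m = r k ≫ c.π.app i₀ ≫ t ∧ F.obj.map m.op a = F.obj.map m.op 0 := by
    intro k
    have h1 : gm F (r k ≫ c.π.app i₀ ≫ t) a = gm F (r k ≫ c.π.app i₀ ≫ t) 0 := by
      rw [← map_gm F (r k), ← map_gm F (r k)]
      exact hr k
    exact hasEq_same (hasEq F.obj) (r k ≫ c.π.app i₀ ≫ t) a 0 h1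
  choose V'' g'' m hm1 hm2 using key
  let Ω : V₁.left.Opens := ⨆ k, ⟨Set.range (m k).left, (m k).left.isOpenMap.isOpen_range⟩
  let Ω' : (D.obj i₀).left.Opens := t.left ⁻¹ᵁ Ω
  have hΩ : ((fsP X).mapCone c).π.app i₀ ⁻¹ᵁ Ω' = ⊤ := by
    rw [eq_top_iff]
    intro z _
    obtain ⟨k, y, hy⟩ := hsurj z
    change t.left ((c.π.app i₀).left z) ∈ Ω
    refine Opens.mem_iSup.2 ⟨k, (g'' k).left y, ?_⟩
    have h1 : (g'' k).left ≫ (m k).left = (r k).left ≫ (c.π.app i₀).left ≫ t.left :=
      congrArg (fun t => t.left) (hm1 k)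
    have h2 : ((g'' k).left ≫ (m k).left) y = ((r k).left ≫ (c.π.app i₀).left ≫ t.left) y :=
      congrArg (fun t : (Z k).left ⟶ V₁.left => t y) h1
    rw [Scheme.Hom.comp_apply, Scheme.Hom.comp_apply, Scheme.Hom.comp_apply, hy] at h2
    exact h2
  haveI : ∀ {i j : I} (f : i ⟶ j), IsAffineHom ((D ⋙ fsP X).map f) := fun f =>
    inferInstanceAs (IsAffineHom (D.map f).left)
  haveI : ∀ i, CompactSpace ((D ⋙ fsP X).obj i) := fun i =>
    inferInstanceAs (CompactSpace (D.obj i).left)
  obtain ⟨j, f, hj⟩ := exists_map_eq_top (D ⋙ fsP X) ((fsP X).mapCone c) hc Ω' hΩ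
  refine ⟨j, f, ?_⟩
  have e₂ : (lanP F.obj).map (D.map f).op (gm F t a) = gm F (D.map f ≫ t) a := map_gm F _ _ _
  rw [e₂]
  have hrange : Set.range (D.map f ≫ t).left ⊆ (Ω : Set V₁.left) := by
    rintro _ ⟨z, rfl⟩
    have hz : z ∈ (D ⋙ fsP X).map f ⁻¹ᵁ Ω' := by rw [hj]; trivial
    have h3 : (D.map f ≫ t).left z = t.left ((D.map f).left z) := Scheme.Hom.comp_apply _ _ _
    rw [h3]
    exact hz
  obtain ⟨g', hg'⟩ := exists_lift_eps_etOpens (D.map f ≫ t) Ω hrange
  rw [← hg', ← gm_map]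
  have hzero : F.obj.map (etOpensι V₁ Ω).op a = 0 := by
    have h0' : F.obj.map (etOpensι V₁ Ω).op (0 : F.obj.obj (op V₁)) = 0 := map_zero _
    rw [← h0']
    apply F_ext_of_forall_exists
    intro y
    have hy : (Scheme.Opens.ι Ω y : V₁.left) ∈ Ω := y.2
    obtain ⟨k, v, hv⟩ := Opens.mem_iSup.1 hy
    obtain ⟨m', hm'⟩ := exists_lift_etOpens (m k) Ω (by
      rintro _ ⟨w, rfl⟩
      exact Opens.mem_iSup.2 ⟨k, w, rfl⟩)
    refine ⟨V'' k, m', ?_, v, ?_⟩
    · have e1 : ∀ b : F.obj.obj (op V₁), F.obj.map m'.op (F.obj.map (etOpensι V₁ Ω).op b) =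
          F.obj.map (m k).op b := by
        intro b
        rw [← hm', op_comp, F.obj.map_comp]
        rfl
      rw [e1, e1]
      exact hm2 k
    · apply (Scheme.Opens.ι Ω).isOpenEmbedding.injective
      have h4 : (m'.left ≫ Scheme.Opens.ι Ω) v = (m k).left v :=
        congrArg (fun t : (V'' k).left ⟶ V₁.left => t v) (congrArg (fun t => t.left) hm')
      rw [Scheme.Hom.comp_apply] at h4
      exact h4.trans hv
  rw [hzero, gm_zero]

end Groth.Agent.Lib.ProEtLim22
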