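import Groth.Agent.Lib.ProEtLim22a

/-!
# Sections of `ε⁻¹ F` over limits, part 2: towers over a pro-étale object (helper22)

* `peProd p q`: fibre products in the small pro-étale site, with underlying scheme the fibre
  product of schemes;
* `PresP U`: a tower of affine objects of `X.ProEt` over `U` with its limit;
* the tower of self fibre products and its limit.
-/

set_option autoImplicit false
set_option linter.style.haveILetI false
universe u

open CategoryTheory AlgebraicGeometry Limits MorphismProperty Opposite TopologicalSpace ProEtS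

namespace Groth.Agent.Lib.ProEtLim22

open Groth.Agent.Lib.ProEtEps22 Groth.Agent.Lib.ProEtLan22 Groth.Agent.Lib.ProEtWC22

variable {X : Scheme.{u}}

section peProd

variable {A A' B : X.ProEt} (p : A ⟶ B) (q : A' ⟶ B)

instance weaklyEtale_hom_left {A B : X.ProEt} (p : A ⟶ B) : WeaklyEtale p.left :=
  Groth.Agent.Lib.ProEtGeomPt22.weaklyEtale_left p

/-- The fibre product `A ×_B A'` in the small pro-étale site. -/
noncomputable def peProd : X.ProEt := Scheme.ProEt.mk (pullback.fst p.left q.left ≫ A.hom)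

noncomputable def peProd.fst : peProd p q ⟶ A :=
  MorphismProperty.Over.homMk (pullback.fst p.left q.left) rfl

noncomputable def peProd.snd : peProd p q ⟶ A' :=
  MorphismProperty.Over.homMk (pullback.snd p.left q.left) (by
    have h1 : p.left ≫ B.hom = A.hom := MorphismProperty.Over.w p
    have h2 : q.left ≫ B.hom = A'.hom := MorphismProperty.Over.w q
    change pullback.snd p.left q.left ≫ A'.hom = pullback.fst p.left q.left ≫ A.hom
    rw [← h1, ← h2, ← Category.assoc, ← Category.assoc, pullback.condition])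

theorem peProd.condition : peProd.fst p q ≫ p = peProd.snd p q ≫ q :=
  hom_ext' pullback.condition

variable {p q}

/-- The universal property of the fibre product. -/
noncomputable def peProd.lift {Z : X.ProEt} (g₁ : Z ⟶ A) (g₂ : Z ⟶ A') (h : g₁ ≫ p = g₂ ≫ q) :
    Z ⟶ peProd p q :=
  MorphismProperty.Over.homMk
    (pullback.lift g₁.left g₂.left (congrArg (fun m => m.left) h)) (by
    change pullback.lift g₁.left g₂.left _ ≫ pullback.fst p.left q.left ≫ A.hom = Z.hom
    rw [pullback.lift_fst_assoc]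
    exact MorphismProperty.Over.w g₁)

@[simp] theorem peProd.lift_fst {Z : X.ProEt} (g₁ : Z ⟶ A) (g₂ : Z ⟶ A') (h : g₁ ≫ p = g₂ ≫ q) :
    peProd.lift g₁ g₂ h ≫ peProd.fst p q = g₁ :=
  hom_ext' (pullback.lift_fst _ _ _)

@[simp] theorem peProd.lift_snd {Z : X.ProEt} (g₁ : Z ⟶ A) (g₂ : Z ⟶ A') (h : g₁ ≫ p = g₂ ≫ q) :
    peProd.lift g₁ g₂ h ≫ peProd.snd p q = g₂ :=
  hom_ext' (pullback.lift_snd _ _ _)

theorem peProd.hom_ext {Z : X.ProEt} {l l' : Z ⟶ peProd p q}
    (h1 : l ≫ peProd.fst p q = l' ≫ peProd.fst p q)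
    (h2 : l ≫ peProd.snd p q = l' ≫ peProd.snd p q) : l = l' := by
  apply hom_ext'
  apply pullback.hom_ext
  · exact congrArg (fun m => m.left) h1
  · exact congrArg (fun m => m.left) h2

instance peProd.isAffine [IsAffine A.left] [IsAffine A'.left] [IsAffine B.left] :
    IsAffine (peProd p q).left :=
  inferInstanceAs (IsAffine (pullback p.left q.left))

end peProd

/-- A tower of affine objects of `X.ProEt` over `U`, with a cone. -/
structure PresP (U : X.ProEt) where
  I : Type u
  [cat : SmallCategory I]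
  [cof : IsCofiltered I]
  Zd : I ⥤ X.ProEt
  toU : ∀ i, Zd.obj i ⟶ U
  toU_w : ∀ {i j : I} (f : i ⟶ j), Zd.map f ≫ toU j = toU i
  Z : X.ProEt
  pr : ∀ i, Z ⟶ Zd.obj i
  pr_w : ∀ {i j : I} (f : i ⟶ j), pr i ≫ Zd.map f = pr j
  π : Z ⟶ U
  π_w : ∀ i, pr i ≫ toU i = π
  affZ : IsAffine Z.left
  affZd : ∀ i, IsAffine (Zd.obj i).left

attribute [instance] PresP.cat PresP.cof PresP.affZ PresP.affZd

namespace PresP

variable {U : X.ProEt} (R : PresP U)

/-- The cone in `X.ProEt` with vertex `Z`. -/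
noncomputable def coneP : Cone R.Zd where
  pt := R.Z
  π :=
    { app := fun i => R.pr i
      naturality := fun _ _ f => (Category.id_comp _).trans (R.pr_w f).symm }

/-- The structure maps to `U`, on schemes. -/
noncomputable abbrev tU (i : R.I) : (R.Zd ⋙ fsP X).obj i ⟶ U.left := (R.toU i).left

lemma tU_w {i j : R.I} (f : i ⟶ j) : (R.Zd ⋙ fsP X).map f ≫ R.tU j = R.tU i :=
  congrArg (fun m => m.left) (R.toU_w f)

lemma π_left (i : R.I) : ((fsP X).mapCone R.coneP).π.app i ≫ R.tU i = R.π.left :=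
  congrArg (fun m => m.left) (R.π_w i)

/-- `T i = Z_i ×_U Z_i`. -/
noncomputable abbrev T (i : R.I) : X.ProEt := peProd (R.toU i) (R.toU i)

/-- The transition maps of the tower of self fibre products. -/
noncomputable def τ {i j : R.I} (f : i ⟶ j) : R.T i ⟶ R.T j :=
  peProd.lift (peProd.fst _ _ ≫ R.Zd.map f) (peProd.snd _ _ ≫ R.Zd.map f) (by
    rw [Category.assoc, Category.assoc, R.toU_w f, peProd.condition])

@[simp] lemma τ_fst {i j : R.I} (f : i ⟶ j) :
    R.τ f ≫ peProd.fst (R.toU j) (R.toU j) = peProd.fst (R.toU i) (R.toU i) ≫ R.Zd.map f :=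
  peProd.lift_fst _ _ _

@[simp] lemma τ_snd {i j : R.I} (f : i ⟶ j) :
    R.τ f ≫ peProd.snd (R.toU j) (R.toU j) = peProd.snd (R.toU i) (R.toU i) ≫ R.Zd.map f :=
  peProd.lift_snd _ _ _

/-- The tower of self fibre products. -/
noncomputable def Td : R.I ⥤ X.ProEt where
  obj i := R.T i
  map f := R.τ f
  map_id i := by
    apply peProd.hom_ext
    · rw [τ_fst, R.Zd.map_id, Category.comp_id, Category.id_comp]
    · rw [τ_snd, R.Zd.map_id, Category.comp_id, Category.id_comp]
  map_comp {i j k} f g := by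
    apply peProd.hom_ext
    · rw [τ_fst, Category.assoc, τ_fst, ← Category.assoc, τ_fst, R.Zd.map_comp, Category.assoc]
    · rw [τ_snd, Category.assoc, τ_snd, ← Category.assoc, τ_snd, R.Zd.map_comp, Category.assoc]

/-- `Z2 = Z ×_U Z`. -/
noncomputable abbrev Z2 : X.ProEt := peProd R.π R.π

noncomputable abbrev p1 : R.Z2 ⟶ R.Z := peProd.fst R.π R.π

noncomputable abbrev p2 : R.Z2 ⟶ R.Z := peProd.snd R.π R.π

theorem p_condition : R.p1 ≫ R.π = R.p2 ≫ R.π := peProd.condition _ _

/-- The comparison maps `Z2 ⟶ T i`. -/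
noncomputable def c2 (i : R.I) : R.Z2 ⟶ R.T i :=
  peProd.lift (R.p1 ≫ R.pr i) (R.p2 ≫ R.pr i) (by
    rw [Category.assoc, Category.assoc, R.π_w i, R.p_condition])

@[simp] lemma c2_fst (i : R.I) : R.c2 i ≫ peProd.fst (R.toU i) (R.toU i) = R.p1 ≫ R.pr i :=
  peProd.lift_fst _ _ _

@[simp] lemma c2_snd (i : R.I) : R.c2 i ≫ peProd.snd (R.toU i) (R.toU i) = R.p2 ≫ R.pr i :=
  peProd.lift_snd _ _ _

lemma c2_τ {i j : R.I} (f : i ⟶ j) : R.c2 i ≫ R.τ f = R.c2 j := by
  apply peProd.hom_ext
  · rw [Category.assoc, τ_fst, ← Category.assoc, c2_fst, Category.assoc, R.pr_w f, c2_fst]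
  · rw [Category.assoc, τ_snd, ← Category.assoc, c2_snd, Category.assoc, R.pr_w f, c2_snd]

/-- The cone over the tower of self fibre products with vertex `Z2`. -/
noncomputable def cone2P : Cone R.Td where
  pt := R.Z2
  π :=
    { app := fun i => R.c2 i
      naturality := fun _ _ f => (Category.id_comp _).trans (R.c2_τ f).symm }

/-- `Z ×_U Z` is the limit of the `Z_i ×_U Z_i`. -/
noncomputable def isLimitCone2P (h : IsLimit ((fsP X).mapCone R.coneP)) :
    IsLimit ((fsP X).mapCone R.cone2P) :=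
  haveI : Nonempty R.I := IsCofiltered.nonempty
  Groth.Agent.Lib.PullbackDiag22.isLimitCone2 (R.Zd ⋙ fsP X) R.tU (fun f => R.tU_w f)
    ((fsP X).mapCone R.coneP) R.π.left R.π_left h

end PresP

end Groth.Agent.Lib.ProEtLim22
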