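import Groth.Agent.Lib.ProEtLim22b

/-!
# Sections of `ε⁻¹ F` over limits, part 3: w-contractible ind-étale towers over an affine
pro-étale object (helper22)
-/

set_option autoImplicit false
set_option linter.style.haveILetI false
universe u

open CategoryTheory AlgebraicGeometry Limits MorphismProperty Opposite TopologicalSpace ProEtS

namespace Groth.Agent.Lib.ProEtLim22

open Groth.Agent.Lib.ProEtEps22 Groth.Agent.Lib.ProEtLan22 Groth.Agent.Lib.ProEtWC22

variable {X : Scheme.{u}}

section construction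

variable {A : CommRingCat.{u}}

variable {U : X.ProEt} (e : Spec A ≅ U.left)
  {J : Type u} [SmallCategory J] [IsFiltered J] (Dg : J ⥤ Under A) (c : Cocone Dg)
  [hDg : ∀ j, Etale (Spec.map (Dg.obj j).hom)] [hW : WeaklyEtale (Spec.map c.pt.hom)]

instance weaklyEtale_presPStr (j : J) : WeaklyEtale (Spec.map (Dg.obj j).hom ≫ e.hom ≫ U.hom) := by
  infer_instance

instance weaklyEtale_presPStr' : WeaklyEtale (Spec.map c.pt.hom ≫ e.hom ≫ U.hom) := by
  infer_instance

/-- The diagram of étale `U`-schemes attached to a diagram of étale algebras. -/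
noncomputable def presPZd : Jᵒᵖ ⥤ X.ProEt where
  obj j := Scheme.ProEt.mk (Spec.map (Dg.obj j.unop).hom ≫ e.hom ≫ U.hom)
  map {j j'} f := MorphismProperty.Over.homMk (Spec.map (Dg.map f.unop).right) (by
    change Spec.map (Dg.map f.unop).right ≫ Spec.map (Dg.obj j'.unop).hom ≫ e.hom ≫ U.hom =
      Spec.map (Dg.obj j.unop).hom ≫ e.hom ≫ U.hom
    rw [← Category.assoc, spec_under_w])
  map_id j := by
    apply hom_ext'
    change Spec.map (Dg.map (𝟙 j.unop)).right = 𝟙 _
    rw [Dg.map_id]
    exact Spec.map_id _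
  map_comp {j j' j''} f g := by
    apply hom_ext'
    change Spec.map (Dg.map (g.unop ≫ f.unop)).right =
      Spec.map (Dg.map f.unop).right ≫ Spec.map (Dg.map g.unop).right
    rw [Dg.map_comp, ← Spec.map_comp]
    rfl

/-- The tower attached to a colimit cocone of étale algebras. -/
noncomputable def presPOf : PresP U where
  I := Jᵒᵖ
  Zd := presPZd e Dg
  toU j := MorphismProperty.Over.homMk (Spec.map (Dg.obj j.unop).hom ≫ e.hom)
    (Category.assoc _ _ _)
  toU_w {j j'} f := by
    apply hom_ext'
    change Spec.map (Dg.map f.unop).right ≫ Spec.map (Dg.obj j'.unop).hom ≫ e.hom =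
      Spec.map (Dg.obj j.unop).hom ≫ e.hom
    rw [← Category.assoc, spec_under_w]
  Z := Scheme.ProEt.mk (Spec.map c.pt.hom ≫ e.hom ≫ U.hom)
  pr j := MorphismProperty.Over.homMk (Spec.map (c.ι.app j.unop).right) (by
    change Spec.map (c.ι.app j.unop).right ≫ Spec.map (Dg.obj j.unop).hom ≫ e.hom ≫ U.hom =
      Spec.map c.pt.hom ≫ e.hom ≫ U.hom
    rw [← Category.assoc, spec_under_w]
    rfl)
  pr_w {j j'} f := by
    apply hom_ext'
    change Spec.map (c.ι.app j.unop).right ≫ Spec.map (Dg.map f.unop).right =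
      Spec.map (c.ι.app j'.unop).right
    rw [← Spec.map_comp, ← CategoryTheory.Under.comp_right, c.w]
  π := MorphismProperty.Over.homMk (Spec.map c.pt.hom ≫ e.hom) (Category.assoc _ _ _)
  π_w j := by
    apply hom_ext'
    change Spec.map (c.ι.app j.unop).right ≫ Spec.map (Dg.obj j.unop).hom ≫ e.hom =
      Spec.map c.pt.hom ≫ e.hom
    rw [← Category.assoc, spec_under_w]
    rfl
  affZ := inferInstanceAs (IsAffine (Spec c.pt.right))
  affZd j := inferInstanceAs (IsAffine (Spec (Dg.obj j.unop).right))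

/-- The stages of the tower are étale over `U`. -/
instance etale_presPOf_toU (j : Jᵒᵖ) : Etale ((presPOf e Dg c).toU j).left := by
  change Etale (Spec.map (Dg.obj j.unop).hom ≫ e.hom)
  infer_instance

/-- The underlying diagram of schemes of `presPZd` is `Spec` of the diagram of algebras. -/
noncomputable def presPDiagIso :
    (Dg ⋙ Under.forget A).op ⋙ Scheme.Spec ≅ (presPOf e Dg c).Zd ⋙ fsP X :=
  NatIso.ofComponents (fun j => Iso.refl _) (fun {j j'} f => by
    change Spec.map (Dg.map f.unop).right ≫ 𝟙 _ = 𝟙 _ ≫ Spec.map (Dg.map f.unop).right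
    rw [Category.comp_id, Category.id_comp])

attribute [local instance] IsFiltered.isConnected in
/-- The cone of the tower attached to a colimit cocone is a limit cone. -/
noncomputable def isLimitPresPOfCone (hc : IsColimit c) :
    IsLimit ((fsP X).mapCone (presPOf e Dg c).coneP) := by
  have hc₀ : IsColimit ((Under.forget A).mapCocone c) := isColimitOfPreserves (Under.forget A) hc
  haveI : PreservesLimitsOfSize.{u, u} Scheme.Spec :=
    ΓSpec.adjunction.rightAdjoint_preservesLimits
  have h1 : IsLimit (Scheme.Spec.mapCone ((Under.forget A).mapCocone c).op) :=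
    isLimitOfPreserves Scheme.Spec hc₀.op
  have h2 := (IsLimit.postcomposeHomEquiv (presPDiagIso e Dg c) _).symm h1
  refine IsLimit.ofIsoLimit h2 (Cone.ext (Iso.refl _) (fun j => ?_))
  change (Spec.map (c.ι.app j.unop).right ≫ 𝟙 _) = 𝟙 _ ≫ Spec.map (c.ι.app j.unop).right
  rw [Category.comp_id, Category.id_comp]

end construction

/-- Every affine object of the small pro-étale site admits a w-contractible ind-étale tower. -/
theorem exists_presP (U : X.ProEt) [IsAffine U.left] :
    ∃ R : PresP U, Nonempty (IsLimit ((fsP X).mapCone R.coneP)) ∧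
      Function.Surjective R.π.left ∧ EtPBC.IsWContractible Γ(R.Z.left, ⊤) ∧
      ∀ i, Etale (R.toU i).left := by
  let A : CommRingCat.{u} := Γ(U.left, ⊤)
  obtain ⟨D, _, _, hff, hIE, hWC⟩ :=
    Groth.Agent.Lib.WContrCover22.exists_wContractible_cover A
  haveI hWE : Algebra.WeaklyEtale A D := Groth.Agent.S0736.result A D hIE
  obtain ⟨J, _, _, Dg, c, hc, hét, ⟨iso⟩⟩ := hIE
  let Dg' : J ⥤ Under A := Dg
  let c' : Cocone Dg' := c
  have hc' : IsColimit c' := hc
  let e : Spec A ≅ U.left := U.left.isoSpec.symm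
  haveI hDg : ∀ j, Etale (Spec.map (Dg'.obj j).hom) := fun j => by
    rw [HasRingHomProperty.Spec_iff (P := @Etale)]
    exact hét j
  obtain ⟨h1, h2⟩ := Groth.Agent.Lib.WContrSite22.weaklyEtale_and_surjective_SpecMap A D
  have hcomp : Spec.map c'.pt.hom =
      Spec.map iso.inv.right ≫ Spec.map (CommRingCat.ofHom (algebraMap A D)) := by
    rw [← Spec.map_comp]
    exact congrArg Spec.map (CategoryTheory.Under.w iso.inv).symm
  haveI hW : WeaklyEtale (Spec.map c'.pt.hom) := by
    rw [hcomp]
    infer_instance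
  refine ⟨presPOf e Dg' c', ⟨isLimitPresPOfCone e Dg' c' hc'⟩, ?_, ?_, fun j => ?_⟩
  · change Function.Surjective (Spec.map c'.pt.hom ≫ e.hom)
    rw [hcomp]
    haveI : Surjective (Spec.map iso.inv.right ≫
        Spec.map (CommRingCat.ofHom (algebraMap A D)) ≫ e.hom) := inferInstance
    intro v
    obtain ⟨w, hw⟩ := (Spec.map iso.inv.right ≫
        Spec.map (CommRingCat.ofHom (algebraMap A D)) ≫ e.hom).surjective v
    refine ⟨w, ?_⟩
    rw [Category.assoc]
    exact hw
  · change EtPBC.IsWContractible Γ(Spec c'.pt.right, ⊤)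
    let i1 : Γ(Spec c'.pt.right, ⊤) ≅ CommRingCat.of D :=
      Scheme.ΓSpecIso c'.pt.right ≪≫ (CategoryTheory.Under.forget _).mapIso iso
    exact Groth.Agent.Lib.WContrSite22.isWContractible_of_ringEquiv
      i1.symm.commRingCatIsoToRingEquiv hWC
  · exact etale_presPOf_toU e Dg' c' j

end Groth.Agent.Lib.ProEtLim22
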