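import Groth.Agent.Lib.ProEtLim22c

/-!
# Sections of `ε⁻¹ F` over limits, part 4: presented objects (helper22)

A *presented* object is the vertex of a cone over `D ⋙ ε` for a cofiltered tower `D` of affine
objects of the small étale site, which is a limit cone on the level of schemes.
-/

set_option autoImplicit false
set_option linter.style.haveILetI false
universe u

open CategoryTheory AlgebraicGeometry Limits MorphismProperty Opposite TopologicalSpace ProEtS

namespace Groth.Agent.Lib.ProEtLim22

open Groth.Agent.Lib.ProEtEps22 Groth.Agent.Lib.ProEtLan22 Groth.Agent.Lib.ProEtWC22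

variable {X : Scheme.{u}} (F : EtCoh.Ab X)

section

variable {I : Type u} [SmallCategory I] [IsCofiltered I] (D : I ⥤ X.Etale)
  (c : Cone (D ⋙ eps X)) [∀ i, IsAffine (D.obj i).left]

/-- The structure morphisms to `X` as a natural transformation. -/
noncomputable def tXet : (D ⋙ eps X ⋙ fsP X) ⟶ (Functor.const I).obj X where
  app i := (D.obj i).hom
  naturality i j f := by
    have h : (D.map f).left ≫ (D.obj j).hom = (D.obj i).hom :=
      MorphismProperty.Over.w (D.map f)
    exact h.trans (Category.comp_id _).symm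

include F in
/-- Every section of `ε^p F` over a presented object is a germ along some projection. -/
theorem exists_gm_of_cone (hc : IsLimit ((fsP X).mapCone c)) (x : (lanP F.obj).obj (op c.pt)) :
    ∃ (i : I) (a : F.obj.obj (op (D.obj i))), gm F (c.π.app i) a = x := by
  obtain ⟨V₀, g₀, a₀, rfl⟩ := hasRep F.obj c.pt x
  haveI : ∀ {i j : I} (f : i ⟶ j), IsAffineHom ((D ⋙ eps X ⋙ fsP X).map f) := fun f =>
    inferInstanceAs (IsAffineHom (D.map f).left)
  haveI : ∀ i, CompactSpace ((D ⋙ eps X ⋙ fsP X).obj i) := fun i =>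
    inferInstanceAs (CompactSpace (D.obj i).left)
  haveI : ∀ i, QuasiSeparatedSpace ((D ⋙ eps X ⋙ fsP X).obj i) := fun i =>
    inferInstanceAs (QuasiSeparatedSpace (D.obj i).left)
  haveI : LocallyOfFinitePresentation V₀.hom := inferInstance
  have ha : ((fsP X).mapCone c).π ≫ tXet D = (Functor.const _).map (g₀.left ≫ V₀.hom) := by
    ext i : 2
    have h1 : (c.π.app i).left ≫ (D.obj i).hom = c.pt.hom := MorphismProperty.Over.w (c.π.app i)
    have h2 : g₀.left ≫ V₀.hom = c.pt.hom := MorphismProperty.Over.w g₀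
    exact h1.trans h2.symm
  obtain ⟨i, g, hg1, hg2⟩ := Scheme.exists_π_app_comp_eq_of_locallyOfFinitePresentation
    (D ⋙ eps X ⋙ fsP X) (tXet D) V₀.hom ((fsP X).mapCone c) hc g₀.left ha
  let m : D.obj i ⟶ V₀ := MorphismProperty.Over.homMk g hg2
  have hm : c.π.app i ≫ (eps X).map m = g₀ := hom_ext' hg1
  refine ⟨i, F.obj.map m.op a₀, ?_⟩
  rw [gm_map, hm]

/-- A section of `F` over an object of the étale site whose germ vanishes is zero. -/
theorem eq_zero_of_gm_id_eq_zero {V : X.Etale} (a : F.obj.obj (op V))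
    (h : gm F (𝟙 ((eps X).obj V)) a = 0) : a = 0 := by
  apply toPull_injective F V
  change (η F).app _ (gm F (𝟙 _) a) = (η F).app _ (gm F (𝟙 _) 0)
  rw [h, gm_zero]

/-- **Injectivity for presented objects**: a section of `F` over a stage whose germ at the limit
vanishes in `ε⁻¹ F` vanishes at a later stage. -/
theorem exists_map_eq_zero_et [CompactSpace c.pt.left] (hc : IsLimit ((fsP X).mapCone c)) (i₀ : I)
    (a : F.obj.obj (op (D.obj i₀))) (h : (η F).app (op c.pt) (gm F (c.π.app i₀) a) = 0) :
    ∃ (j : I) (f : j ⟶ i₀), F.obj.map (D.map f).op a = 0 := by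
  haveI : ∀ i, IsAffine ((D ⋙ eps X).obj i).left := fun i =>
    inferInstanceAs (IsAffine (D.obj i).left)
  have h' : (η F).app (op c.pt) ((lanP F.obj).map (c.π.app i₀).op (gm F (𝟙 _) a)) = 0 := by
    rw [map_gm, Category.comp_id]
    exact h
  obtain ⟨j, f, hj⟩ := exists_map_eq_zero F (D ⋙ eps X) c hc i₀ (gm F (𝟙 _) a) h'
  refine ⟨j, f, ?_⟩
  apply eq_zero_of_gm_id_eq_zero
  rw [gm_map, Category.id_comp]
  have e : (lanP F.obj).map ((D ⋙ eps X).map f).op (gm F (𝟙 _) a) =
      gm F ((D ⋙ eps X).map f ≫ 𝟙 _) a := map_gm F _ _ _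
  rw [e, Category.comp_id] at hj
  exact hj

end

end Groth.Agent.Lib.ProEtLim22
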