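import Groth.Agent.Lib.ProEtLim22d
import Groth.Agent.Lib.LimPullback

/-!
# Sections of `ε⁻¹ F` over limits, part 5: base change of a presented object along an étale
morphism to a stage (helper22)

Given a tower `D : I ⥤ X.Etale` with a cone `c` over `D ⋙ ε`, a stage `i₀` and an étale affine
morphism `f₀ : Y₀ ⟶ D i₀`, we construct the tower `k ↦ Y₀ ×_{D i₀} D k` (`k : Over i₀`) in `X.Etale`
and the cone with vertex `Y₀ ×_{D i₀} c.pt` in `X.ProEt`, which is again a limit cone.
-/

set_option autoImplicit false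
set_option linter.style.haveILetI false
universe u

open CategoryTheory AlgebraicGeometry Limits MorphismProperty Opposite TopologicalSpace ProEtS

namespace Groth.Agent.Lib.ProEtLim22

open Groth.Agent.Lib.ProEtEps22 Groth.Agent.Lib.ProEtLan22 Groth.Agent.Lib.ProEtWC22
open Groth.Agent.Lib.LimPullback

variable {X : Scheme.{u}}

variable {I : Type u} [SmallCategory I] (D : I ⥤ X.Etale) (c : Cone (D ⋙ eps X))

/-- The underlying tower of schemes. -/
noncomputable abbrev Ds : I ⥤ Scheme.{u} := D ⋙ eps X ⋙ fsP X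

/-- The underlying cone of schemes. -/
noncomputable abbrev cs : Cone (Ds D) := (fsP X).mapCone c

/-- The structure morphisms of the stages. -/
noncomputable abbrev strX (i : I) : (Ds D).obj i ⟶ X := (D.obj i).hom

instance etale_strX (i : I) : Etale (strX D i) := (D.obj i).prop

/-- The structure morphism of the vertex. -/
noncomputable abbrev strPt : (cs D c).pt ⟶ X := c.pt.hom

instance weaklyEtale_strPt : WeaklyEtale (strPt D c) := c.pt.prop

lemma map_strX {i j : I} (f : i ⟶ j) : (Ds D).map f ≫ strX D j = strX D i :=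
  MorphismProperty.Over.w (D.map f)

lemma π_strX (i : I) : (cs D c).π.app i ≫ strX D i = strPt D c :=
  MorphismProperty.Over.w (c.π.app i)

variable {D} {i₀ : I} {Y₀ : Scheme.{u}} (f₀ : Y₀ ⟶ (Ds D).obj i₀) [Etale f₀]

namespace Stg

instance etale_snd (k : Over i₀) : Etale (pullback.snd f₀ ((Ds D).map k.hom)) :=
  inferInstance

instance etale_str (k : Over i₀) :
    Etale (pullback.snd f₀ ((Ds D).map k.hom) ≫ strX D k.left) :=
  inferInstance

/-- The stage `Y₀ ×_{D i₀} D k`. -/
noncomputable def obj (k : Over i₀) : X.Etale :=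
  etMk (pullback.snd f₀ ((Ds D).map k.hom) ≫ strX D k.left)

/-- The projection to `D k`. -/
noncomputable def toD (k : Over i₀) : obj f₀ k ⟶ D.obj k.left :=
  MorphismProperty.Over.homMk (pullback.snd f₀ ((Ds D).map k.hom)) rfl

/-- The transition maps. -/
noncomputable def map {k k' : Over i₀} (a : k ⟶ k') : obj f₀ k ⟶ obj f₀ k' :=
  MorphismProperty.Over.homMk (pbMap (Ds D) i₀ f₀ a) (by
    change pbMap (Ds D) i₀ f₀ a ≫ pullback.snd f₀ ((Ds D).map k'.hom) ≫ strX D k'.left =
      pullback.snd f₀ ((Ds D).map k.hom) ≫ strX D k.left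
    rw [pbMap_snd_assoc, map_strX])

lemma map_toD {k k' : Over i₀} (a : k ⟶ k') :
    map f₀ a ≫ toD f₀ k' = toD f₀ k ≫ D.map a.left :=
  et_hom_ext (pbMap_snd (Ds D) i₀ f₀ a)

/-- The tower `k ↦ Y₀ ×_{D i₀} D k`. -/
noncomputable def diag : Over i₀ ⥤ X.Etale where
  obj k := obj f₀ k
  map a := map f₀ a
  map_id k := et_hom_ext ((pbDiagram (Ds D) i₀ f₀).map_id k)
  map_comp a b := et_hom_ext ((pbDiagram (Ds D) i₀ f₀).map_comp a b)

instance isAffine_obj [IsAffineHom f₀] [∀ i, IsAffine (D.obj i).left] (k : Over i₀) :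
    IsAffine (obj f₀ k).left := by
  haveI : IsAffine ((Ds D).obj k.left) := inferInstanceAs (IsAffine (D.obj k.left).left)
  haveI : IsAffineHom (pullback.snd f₀ ((Ds D).map k.hom)) :=
    MorphismProperty.pullback_snd _ _ ‹IsAffineHom f₀›
  change IsAffine (pullback f₀ ((Ds D).map k.hom))
  exact isAffine_of_isAffineHom (pullback.snd f₀ ((Ds D).map k.hom))

instance isAffine_diag_obj [IsAffineHom f₀] [∀ i, IsAffine (D.obj i).left] (k : Over i₀) :
    IsAffine ((diag f₀).obj k).left :=
  isAffine_obj f₀ k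

instance weaklyEtale_apexStr :
    WeaklyEtale (pullback.snd f₀ ((cs D c).π.app i₀) ≫ strPt D c) := by
  haveI : Etale (pullback.snd f₀ ((cs D c).π.app i₀)) := inferInstance
  infer_instance

/-- The vertex `Y₀ ×_{D i₀} c.pt`. -/
noncomputable def apex : X.ProEt :=
  Scheme.ProEt.mk (pullback.snd f₀ ((cs D c).π.app i₀) ≫ strPt D c)

/-- The projection to `c.pt`. -/
noncomputable def apexTo : apex c f₀ ⟶ c.pt :=
  MorphismProperty.Over.homMk (pullback.snd f₀ ((cs D c).π.app i₀)) rfl

/-- The projections to the stages. -/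
noncomputable def apexPr (k : Over i₀) : apex c f₀ ⟶ (eps X).obj (obj f₀ k) :=
  MorphismProperty.Over.homMk (pbProj (Ds D) (cs D c) i₀ f₀ k) (by
    change pbProj (Ds D) (cs D c) i₀ f₀ k ≫ pullback.snd f₀ ((Ds D).map k.hom) ≫
      strX D k.left = pullback.snd f₀ ((cs D c).π.app i₀) ≫ strPt D c
    rw [pbProj_snd_assoc, π_strX])

lemma apexPr_toD (k : Over i₀) :
    apexPr c f₀ k ≫ (eps X).map (toD f₀ k) = apexTo c f₀ ≫ c.π.app k.left :=
  hom_ext' (pbProj_snd (Ds D) (cs D c) i₀ f₀ k)

lemma apexPr_map {k k' : Over i₀} (a : k ⟶ k') :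
    apexPr c f₀ k ≫ (eps X).map (map f₀ a) = apexPr c f₀ k' :=
  hom_ext' (pbProj_pbMap (Ds D) (cs D c) i₀ f₀ a)

/-- The cone with vertex `Y₀ ×_{D i₀} c.pt`. -/
noncomputable def cone : Cone (diag f₀ ⋙ eps X) where
  pt := apex c f₀
  π :=
    { app := fun k => apexPr c f₀ k
      naturality := fun _ _ a => (Category.id_comp _).trans (apexPr_map c f₀ a).symm }

/-- The cone `Stg.cone` is a limit cone on the level of schemes. -/
noncomputable def isLimitCone [IsCofiltered I] (hc : IsLimit (cs D c)) :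
    IsLimit ((fsP X).mapCone (cone c f₀)) :=
  isLimitPbCone (D := Ds D) (c := cs D c) (i := i₀) (a := f₀) hc

instance isAffine_apex [IsAffineHom f₀] [IsAffine c.pt.left] : IsAffine (apex c f₀).left := by
  haveI : IsAffine (((Functor.const I).obj (cs D c).pt).obj i₀) :=
    inferInstanceAs (IsAffine c.pt.left)
  haveI : IsAffineHom (pullback.snd f₀ ((cs D c).π.app i₀)) :=
    MorphismProperty.pullback_snd _ _ ‹IsAffineHom f₀›
  change IsAffine (pullback f₀ ((cs D c).π.app i₀))
  exact isAffine_of_isAffineHom (pullback.snd f₀ ((cs D c).π.app i₀))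

instance isAffine_cone_pt [IsAffineHom f₀] [IsAffine c.pt.left] :
    IsAffine (cone c f₀).pt.left :=
  isAffine_apex c f₀

end Stg

end Groth.Agent.Lib.ProEtLim22
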