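import Groth.Agent.Lib.ProEtLim22e

/-!
# Sections of `ε⁻¹ F` over limits, part 6: morphisms of stage models, surjectivity at a stage
(helper22)
-/

set_option autoImplicit false
set_option linter.style.haveILetI false
universe u

open CategoryTheory AlgebraicGeometry Limits MorphismProperty Opposite TopologicalSpace ProEtS

namespace Groth.Agent.Lib.ProEtLim22

open Groth.Agent.Lib.ProEtEps22 Groth.Agent.Lib.ProEtLan22 Groth.Agent.Lib.ProEtWC22
open Groth.Agent.Lib.LimPullback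

variable {X : Scheme.{u}}

variable {I : Type u} [SmallCategory I] {D : I ⥤ X.Etale} (c : Cone (D ⋙ eps X))

variable {i₀ : I} {Y₀ Y₀' : Scheme.{u}} (f₀ : Y₀ ⟶ (Ds D).obj i₀) [Etale f₀]
  (f₀' : Y₀' ⟶ (Ds D).obj i₀) [Etale f₀'] (h : Y₀' ⟶ Y₀) (w : h ≫ f₀ = f₀')

namespace Stg

/-- The scheme-level map `Y₀' ×_{D i₀} T ⟶ Y₀ ×_{D i₀} T`. -/
noncomputable def bc {T : Scheme.{u}} (g : T ⟶ (Ds D).obj i₀) : pullback f₀' g ⟶ pullback f₀ g :=
  pullback.lift (pullback.fst f₀' g ≫ h) (pullback.snd f₀' g) (by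
    rw [Category.assoc, w, pullback.condition])

omit [Etale f₀] [Etale f₀'] in
@[reassoc (attr := simp)] lemma bc_fst {T : Scheme.{u}} (g : T ⟶ (Ds D).obj i₀) :
    bc f₀ f₀' h w g ≫ pullback.fst f₀ g = pullback.fst f₀' g ≫ h := pullback.lift_fst _ _ _

omit [Etale f₀] [Etale f₀'] in
@[reassoc (attr := simp)] lemma bc_snd {T : Scheme.{u}} (g : T ⟶ (Ds D).obj i₀) :
    bc f₀ f₀' h w g ≫ pullback.snd f₀ g = pullback.snd f₀' g := pullback.lift_snd _ _ _

/-- The induced maps on stages. -/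
noncomputable def hom (k : Over i₀) : obj f₀' k ⟶ obj f₀ k :=
  MorphismProperty.Over.homMk (bc f₀ f₀' h w ((Ds D).map k.hom)) (by
    change bc f₀ f₀' h w ((Ds D).map k.hom) ≫ pullback.snd f₀ ((Ds D).map k.hom) ≫ strX D k.left =
      pullback.snd f₀' ((Ds D).map k.hom) ≫ strX D k.left
    rw [bc_snd_assoc])

lemma hom_toD (k : Over i₀) : hom f₀ f₀' h w k ≫ toD f₀ k = toD f₀' k :=
  et_hom_ext (bc_snd f₀ f₀' h w _)

lemma map_hom {k k' : Over i₀} (a : k ⟶ k') :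
    map f₀' a ≫ hom f₀ f₀' h w k' = hom f₀ f₀' h w k ≫ map f₀ a := by
  apply et_hom_ext
  change pbMap (Ds D) i₀ f₀' a ≫ bc f₀ f₀' h w _ = bc f₀ f₀' h w _ ≫ pbMap (Ds D) i₀ f₀ a
  apply pullback.hom_ext
  · rw [Category.assoc, bc_fst, pbMap_fst_assoc, Category.assoc, pbMap_fst, bc_fst]
  · rw [Category.assoc, bc_snd, pbMap_snd, Category.assoc, pbMap_snd, bc_snd_assoc]

/-- The induced map on vertices. -/
noncomputable def apexHom : apex c f₀' ⟶ apex c f₀ :=
  MorphismProperty.Over.homMk (bc f₀ f₀' h w ((cs D c).π.app i₀)) (by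
    change bc f₀ f₀' h w ((cs D c).π.app i₀) ≫ pullback.snd f₀ ((cs D c).π.app i₀) ≫ strPt D c =
      pullback.snd f₀' ((cs D c).π.app i₀) ≫ strPt D c
    rw [bc_snd_assoc])

lemma apexHom_to : apexHom c f₀ f₀' h w ≫ apexTo c f₀ = apexTo c f₀' :=
  hom_ext' (bc_snd f₀ f₀' h w _)

lemma apexPr_hom (k : Over i₀) :
    apexPr c f₀' k ≫ (eps X).map (hom f₀ f₀' h w k) = apexHom c f₀ f₀' h w ≫ apexPr c f₀ k := by
  apply hom_ext'
  change pbProj (Ds D) (cs D c) i₀ f₀' k ≫ bc f₀ f₀' h w _ =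
    bc f₀ f₀' h w _ ≫ pbProj (Ds D) (cs D c) i₀ f₀ k
  apply pullback.hom_ext
  · rw [Category.assoc, bc_fst, pbProj_fst_assoc, Category.assoc, pbProj_fst, bc_fst]
  · rw [Category.assoc, bc_snd, pbProj_snd, Category.assoc, pbProj_snd, bc_snd_assoc]

end Stg

section selfModel

/-- The self fibre product `Y₀ ×_{D i₀} Y₀` over `D i₀`. -/
noncomputable abbrev f₂ : pullback f₀ f₀ ⟶ (Ds D).obj i₀ := pullback.fst f₀ f₀ ≫ f₀

instance : Etale (f₂ f₀) := inferInstance

instance isAffineHom_f₂ [IsAffineHom f₀] : IsAffineHom (f₂ f₀) := by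
  haveI : IsAffineHom (pullback.fst f₀ f₀) := MorphismProperty.pullback_fst _ _ ‹IsAffineHom f₀›
  infer_instance

omit [Etale f₀] in
lemma w₂ : pullback.snd f₀ f₀ ≫ f₀ = f₂ f₀ := pullback.condition.symm

namespace Stg

/-- The projection `Y₀ ×_{D i₀} D k ⟶ D k`, on schemes. -/
noncomputable abbrev sk (k : Over i₀) : pullback f₀ ((Ds D).map k.hom) ⟶ (Ds D).obj k.left :=
  pullback.snd f₀ ((Ds D).map k.hom)

/-- The comparison from the self fibre product of a stage to the stage of the self fibre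
product, on schemes. -/
noncomputable def μs (k : Over i₀) :
    pullback (sk f₀ k) (sk f₀ k) ⟶ pullback (f₂ f₀) ((Ds D).map k.hom) :=
  pullback.lift
    (pullback.lift
      (pullback.fst (sk f₀ k) (sk f₀ k) ≫ pullback.fst f₀ ((Ds D).map k.hom))
      (pullback.snd (sk f₀ k) (sk f₀ k) ≫ pullback.fst f₀ ((Ds D).map k.hom))
      (by
        rw [Category.assoc, Category.assoc, pullback.condition, ← Category.assoc,
          ← Category.assoc, pullback.condition]))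
    (pullback.fst (sk f₀ k) (sk f₀ k) ≫ sk f₀ k)
    (by
      rw [← Category.assoc, pullback.lift_fst, Category.assoc, pullback.condition,
        Category.assoc])

omit [Etale f₀] in
lemma μs_snd (k : Over i₀) :
    μs f₀ k ≫ pullback.snd (f₂ f₀) ((Ds D).map k.hom) =
      pullback.fst (sk f₀ k) (sk f₀ k) ≫ sk f₀ k := pullback.lift_snd _ _ _

omit [Etale f₀] in
lemma μs_fst_fst (k : Over i₀) :
    μs f₀ k ≫ pullback.fst (f₂ f₀) ((Ds D).map k.hom) ≫ pullback.fst f₀ f₀ =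
      pullback.fst (sk f₀ k) (sk f₀ k) ≫ pullback.fst f₀ ((Ds D).map k.hom) := by
  rw [μs, pullback.lift_fst_assoc, pullback.lift_fst]

omit [Etale f₀] in
lemma μs_fst_snd (k : Over i₀) :
    μs f₀ k ≫ pullback.fst (f₂ f₀) ((Ds D).map k.hom) ≫ pullback.snd f₀ f₀ =
      pullback.snd (sk f₀ k) (sk f₀ k) ≫ pullback.fst f₀ ((Ds D).map k.hom) := by
  rw [μs, pullback.lift_fst_assoc, pullback.lift_snd]

/-- The comparison from the self fibre product of a stage to the stage of the self fibre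
product. -/
noncomputable def μ (k : Over i₀) : selfProd (toD f₀ k) ⟶ obj (f₂ f₀) k :=
  MorphismProperty.Over.homMk
    (show (selfProd (toD f₀ k)).left ⟶ (obj (f₂ f₀) k).left from μs f₀ k)
    (by
      change μs f₀ k ≫ pullback.snd (f₂ f₀) ((Ds D).map k.hom) ≫ strX D k.left =
        pullback.fst (sk f₀ k) (sk f₀ k) ≫ sk f₀ k ≫ strX D k.left
      rw [← Category.assoc, μs_snd, Category.assoc])

lemma μ_fst (k : Over i₀) :
    μ f₀ k ≫ hom f₀ (f₂ f₀) (pullback.fst f₀ f₀) rfl k = selfProd.fst (toD f₀ k) := by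
  apply et_hom_ext
  change μs f₀ k ≫ bc f₀ (f₂ f₀) (pullback.fst f₀ f₀) rfl _ = pullback.fst (sk f₀ k) (sk f₀ k)
  apply pullback.hom_ext
  · rw [Category.assoc, bc_fst, μs_fst_fst]
  · rw [Category.assoc, bc_snd, μs_snd]

lemma μ_snd (k : Over i₀) :
    μ f₀ k ≫ hom f₀ (f₂ f₀) (pullback.snd f₀ f₀) (w₂ f₀) k = selfProd.snd (toD f₀ k) := by
  apply et_hom_ext
  change μs f₀ k ≫ bc f₀ (f₂ f₀) (pullback.snd f₀ f₀) (w₂ f₀) _ = pullback.snd (sk f₀ k) (sk f₀ k)
  apply pullback.hom_ext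
  · rw [Category.assoc, bc_fst, μs_fst_snd]
  · rw [Category.assoc, bc_snd, μs_snd]
    exact pullback.condition

end Stg

end selfModel

namespace Stg

variable [IsCofiltered I] [∀ i, IsAffine (D.obj i).left]

/-- If the vertex surjects onto `c.pt`, the stages eventually surject onto the `D k`. -/
theorem exists_surjective_stage (hc : IsLimit (cs D c))
    (hs : Function.Surjective (apexTo c f₀).left) :
    ∃ (j : I) (φ : j ⟶ i₀), ∀ (k : Over i₀) (ψ : k.left ⟶ j), ψ ≫ φ = k.hom →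
      Function.Surjective (toD f₀ k).left := by
  let Ω₀ : ((Ds D).obj i₀).Opens := ⟨Set.range f₀, f₀.isOpenMap.isOpen_range⟩
  have hΩ : (cs D c).π.app i₀ ⁻¹ᵁ Ω₀ = ⊤ := by
    rw [eq_top_iff]
    intro z _
    obtain ⟨y, hy⟩ := hs z
    refine ⟨pullback.fst f₀ ((cs D c).π.app i₀) y, ?_⟩
    have h1 : (pullback.fst f₀ ((cs D c).π.app i₀) ≫ f₀) y =
        (pullback.snd f₀ ((cs D c).π.app i₀) ≫ (cs D c).π.app i₀) y := by
      rw [pullback.condition]
    rw [Scheme.Hom.comp_apply, Scheme.Hom.comp_apply] at h1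
    rw [h1]
    exact congrArg (fun t => (cs D c).π.app i₀ t) hy
  haveI : ∀ {i j : I} (f : i ⟶ j), IsAffineHom ((Ds D).map f) := fun f =>
    inferInstanceAs (IsAffineHom (D.map f).left)
  haveI : ∀ i, CompactSpace ((Ds D).obj i) := fun i =>
    inferInstanceAs (CompactSpace (D.obj i).left)
  obtain ⟨j, φ, hj⟩ := exists_map_eq_top (Ds D) (cs D c) hc Ω₀ hΩ
  refine ⟨j, φ, fun k ψ hψ d => ?_⟩
  have hd : (Ds D).map k.hom d ∈ Ω₀ := by
    have h1 : (Ds D).map ψ d ∈ (Ds D).map φ ⁻¹ᵁ Ω₀ := by rw [hj]; trivial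
    have h2 : (Ds D).map k.hom d = (Ds D).map φ ((Ds D).map ψ d) := by
      rw [← hψ, Functor.map_comp, Scheme.Hom.comp_apply]
    rw [h2]
    exact h1
  obtain ⟨y₀, hy₀⟩ := hd
  obtain ⟨z, -, hz⟩ := Scheme.Pullback.exists_preimage_pullback (f := f₀)
    (g := (Ds D).map k.hom) y₀ d hy₀
  exact ⟨z, hz⟩

end Stg

end Groth.Agent.Lib.ProEtLim22
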