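import Groth.Agent.Lib.ProEtLim22f

/-!
# Sections of `ε⁻¹ F` over limits, part 7: gluing sections of `ε^p F` along an étale cover of a
presented object which is base changed from a stage (helper22)
-/

set_option autoImplicit false
set_option linter.style.haveILetI false
universe u

open CategoryTheory AlgebraicGeometry Limits MorphismProperty Opposite TopologicalSpace ProEtS

namespace Groth.Agent.Lib.ProEtLim22

open Groth.Agent.Lib.ProEtEps22 Groth.Agent.Lib.ProEtLan22 Groth.Agent.Lib.ProEtWC22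
open Groth.Agent.Lib.LimPullback

variable {X : Scheme.{u}} (F : EtCoh.Ab X)

theorem F_map_map {A B C : X.Etale} (f : A ⟶ B) (g : B ⟶ C) (a : F.obj.obj (op C)) :
    F.obj.map f.op (F.obj.map g.op a) = F.obj.map (f ≫ g).op a := by
  rw [op_comp, F.obj.map_comp]
  rfl

variable {I : Type u} [SmallCategory I] [IsCofiltered I] {D : I ⥤ X.Etale}
  (c : Cone (D ⋙ eps X)) [∀ i, IsAffine (D.obj i).left] [IsAffine c.pt.left]
  {i₀ : I} {Y₀ : Scheme.{u}} (f₀ : Y₀ ⟶ (Ds D).obj i₀) [Etale f₀] [IsAffineHom f₀]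

namespace Stg

/-- Sections of `ε^p F` over `Y₀ ×_{D i₀} c.pt` satisfying the descent condition relative to
`c.pt` come from `F (D i)` for some `i`. -/
theorem exists_descent_of_compat (hc : IsLimit (cs D c))
    (hs : Function.Surjective (apexTo c f₀).left)
    (x : (lanP F.obj).obj (op (apex c f₀)))
    (hx : ∀ (T : X.ProEt) (u₁ u₂ : T ⟶ apex c f₀), u₁ ≫ apexTo c f₀ = u₂ ≫ apexTo c f₀ →
      (lanP F.obj).map u₁.op x = (lanP F.obj).map u₂.op x) :
    ∃ (i : I) (b : F.obj.obj (op (D.obj i))), gm F (apexTo c f₀ ≫ c.π.app i) b = x := by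
  haveI : CompactSpace (cone c (f₂ f₀)).pt.left :=
    inferInstanceAs (CompactSpace (apex c (f₂ f₀)).left)
  obtain ⟨k, a, rfl⟩ := exists_gm_of_cone F (diag f₀) (cone c f₀) (isLimitCone c f₀ hc) x
  change ∃ (i : I) (b : F.obj.obj (op (D.obj i))),
    gm F (apexTo c f₀ ≫ c.π.app i) b = gm F (apexPr c f₀ k) a
  have hx' : ∀ (T : X.ProEt) (u₁ u₂ : T ⟶ apex c f₀), u₁ ≫ apexTo c f₀ = u₂ ≫ apexTo c f₀ →
      (lanP F.obj).map u₁.op (gm F (apexPr c f₀ k) a) =
        (lanP F.obj).map u₂.op (gm F (apexPr c f₀ k) a) := hx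
  let e1 := apexHom c f₀ (f₂ f₀) (pullback.fst f₀ f₀) rfl
  let e2 := apexHom c f₀ (f₂ f₀) (pullback.snd f₀ f₀) (w₂ f₀)
  have he : e1 ≫ apexTo c f₀ = e2 ≫ apexTo c f₀ := by
    rw [apexHom_to, apexHom_to]
  have h1 := hx' _ e1 e2 he
  let s1 := hom f₀ (f₂ f₀) (pullback.fst f₀ f₀) rfl
  let s2 := hom f₀ (f₂ f₀) (pullback.snd f₀ f₀) (w₂ f₀)
  have h2 : gm F (apexPr c (f₂ f₀) k) (F.obj.map (s1 k).op a - F.obj.map (s2 k).op a) = 0 := by
    rw [gm_sub, gm_map, gm_map, apexPr_hom, apexPr_hom, ← map_gm, ← map_gm, sub_eq_zero]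
    exact h1
  have h2' : (η F).app (op (cone c (f₂ f₀)).pt)
      (gm F ((cone c (f₂ f₀)).π.app k) (F.obj.map (s1 k).op a - F.obj.map (s2 k).op a)) = 0 := by
    change (η F).app _ (gm F (apexPr c (f₂ f₀) k) _) = 0
    rw [h2, map_zero]
  obtain ⟨k', α, hk'⟩ := exists_map_eq_zero_et F (diag (f₂ f₀)) (cone c (f₂ f₀))
    (isLimitCone c (f₂ f₀) hc) k _ h2'
  obtain ⟨j, φ, hj⟩ := exists_surjective_stage c f₀ hc hs
  let kφ : Over i₀ := Over.mk φ
  let k'' := IsCofiltered.min k' kφ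
  let α' : k'' ⟶ k' := IsCofiltered.minToLeft _ _
  let β : k'' ⟶ kφ := IsCofiltered.minToRight _ _
  have hsurj := hj k'' β.left (Over.w β)
  let γ : k'' ⟶ k := α' ≫ α
  let a'' := F.obj.map (map f₀ γ).op a
  have hs_r : ∀ (h : pullback f₀ f₀ ⟶ Y₀) (w : h ≫ f₀ = f₂ f₀),
      F.obj.map (hom f₀ (f₂ f₀) h w k'').op a'' =
        F.obj.map (map (f₂ f₀) γ).op (F.obj.map (hom f₀ (f₂ f₀) h w k).op a) := by
    intro h w
    rw [F_map_map, F_map_map, map_hom]
  have h3 : F.obj.map (s1 k'').op a'' = F.obj.map (s2 k'').op a'' := by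
    rw [hs_r, hs_r, ← sub_eq_zero, ← map_sub]
    have e : map (f₂ f₀) γ = map (f₂ f₀) α' ≫ map (f₂ f₀) α := (diag (f₂ f₀)).map_comp α' α
    rw [e, ← F_map_map]
    have hk'' : F.obj.map (map (f₂ f₀) α).op
        (F.obj.map (s1 k).op a - F.obj.map (s2 k).op a) = 0 := hk'
    rw [hk'', map_zero]
  have h4 : F.obj.map (selfProd.fst (toD f₀ k'')).op a'' =
      F.obj.map (selfProd.snd (toD f₀ k'')).op a'' := by
    rw [← μ_fst, ← μ_snd, ← F_map_map, ← F_map_map]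
    exact congrArg (fun t => F.obj.map (μ f₀ k'').op t) h3
  obtain ⟨b, hb⟩ := exists_descent (toD f₀ k'') hsurj a'' h4
  refine ⟨k''.left, b, ?_⟩
  rw [← apexPr_toD, ← gm_map, hb]
  change gm F (apexPr c f₀ k'') (F.obj.map (map f₀ γ).op a) = _
  rw [gm_map, apexPr_map]

end Stg

end Groth.Agent.Lib.ProEtLim22
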