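import Groth.Agent.Lib.ProEtLim22g
import Groth.Agent.Lib.DescFPSpread
import Groth.Agent.Lib.ConsPairGeomInst
import Groth.Agent.Lib.H77ConsMorTools

/-!
# Sections of `ε⁻¹ F` over limits, part 8: gluing sections of `ε^p F` along an étale cover of a
presented object (helper22)
-/

set_option autoImplicit false
set_option linter.style.haveILetI false
universe u

open CategoryTheory AlgebraicGeometry Limits MorphismProperty Opposite TopologicalSpace ProEtS

namespace Groth.Agent.Lib.ProEtLim22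

open Groth.Agent.Lib.ProEtEps22 Groth.Agent.Lib.ProEtLan22 Groth.Agent.Lib.ProEtWC22
open Groth.Agent.Lib.LimPullback

variable {X : Scheme.{u}} (F : EtCoh.Ab X)

variable {I : Type u} [SmallCategory I] [IsCofiltered I] {D : I ⥤ X.Etale}
  (c : Cone (D ⋙ eps X)) [∀ i, IsAffine (D.obj i).left] [IsAffine c.pt.left]

theorem lanP_map_map {A B C : X.ProEt} (f : A ⟶ B) (g : B ⟶ C) (x : (lanP F.obj).obj (op C)) :
    (lanP F.obj).map f.op ((lanP F.obj).map g.op x) = (lanP F.obj).map (f ≫ g).op x := by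
  rw [op_comp, (lanP F.obj).map_comp]
  rfl

theorem lanP_map_id {A : X.ProEt} (x : (lanP F.obj).obj (op A)) :
    (lanP F.obj).map (𝟙 A).op x = x := by
  rw [op_id, (lanP F.obj).map_id]
  rfl

/-- **Étale gluing at a presented object**: a section of `ε^p F` over an affine étale cover `E`
of a presented object satisfying the descent condition comes from a stage. -/
theorem exists_descent_of_etale (hc : IsLimit (cs D c)) {E : X.ProEt} [IsAffine E.left]
    (q : E ⟶ c.pt) [Etale q.left] (hq : Function.Surjective q.left)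
    (x : (lanP F.obj).obj (op E))
    (hx : ∀ (T : X.ProEt) (u₁ u₂ : T ⟶ E), u₁ ≫ q = u₂ ≫ q →
      (lanP F.obj).map u₁.op x = (lanP F.obj).map u₂.op x) :
    ∃ (i : I) (b : F.obj.obj (op (D.obj i))), gm F (q ≫ c.π.app i) b = x := by
  haveI : ∀ {i j : I} (f : i ⟶ j), IsAffineHom ((Ds D).map f) := fun f =>
    inferInstanceAs (IsAffineHom (D.map f).left)
  haveI : ∀ i, CompactSpace ((Ds D).obj i) := fun i =>
    inferInstanceAs (CompactSpace (D.obj i).left)
  haveI : ∀ i, QuasiSeparatedSpace ((Ds D).obj i) := fun i =>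
    inferInstanceAs (QuasiSeparatedSpace (D.obj i).left)
  let ql : E.left ⟶ (cs D c).pt := q.left
  haveI : IsAffine (cs D c).pt := inferInstanceAs (IsAffine c.pt.left)
  haveI : Etale ql := ‹Etale q.left›
  haveI : IsAffineHom ql := inferInstance
  have hP : Groth.Agent.Lib.SpreadPair.DescendsAlongLimit (@Etale.{u} ⊓ @IsAffineHom.{u}) :=
    Groth.Agent.Lib.H77ConsMorTools.descendsAlongLimit_inf
      Groth.Agent.Lib.DescFP.descends_etale Groth.Agent.Lib.ConsPairGeom.descends_isAffineHom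
  obtain ⟨i₀, Y₀, f₀, g, ⟨hf1, hf2⟩, -, -, -, sq⟩ :=
    Groth.Agent.Lib.DescFP.exists_model_with_prop (Ds D) (cs D c) hc
      (@Etale.{u} ⊓ @IsAffineHom.{u}) hP ql ⟨‹Etale ql›, ‹IsAffineHom ql›⟩
  haveI : Etale f₀ := hf1
  haveI : IsAffineHom f₀ := hf2
  -- the isomorphism `E ≅ Y₀ ×_{D i₀} c.pt`
  let θl : E.left ⟶ pullback f₀ ((cs D c).π.app i₀) := sq.isoPullback.hom
  let θl' : pullback f₀ ((cs D c).π.app i₀) ⟶ E.left := sq.isoPullback.inv
  have hθ1 : θl ≫ pullback.snd f₀ ((cs D c).π.app i₀) = ql := sq.isoPullback_hom_snd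
  have hθ2 : θl' ≫ ql = pullback.snd f₀ ((cs D c).π.app i₀) := sq.isoPullback_inv_snd
  let θ : E ⟶ Stg.apex c f₀ := MorphismProperty.Over.homMk
    (show E.left ⟶ (Stg.apex c f₀).left from θl) (by
      change θl ≫ pullback.snd f₀ ((cs D c).π.app i₀) ≫ strPt D c = E.hom
      rw [← Category.assoc, hθ1]
      exact MorphismProperty.Over.w q)
  let θ' : Stg.apex c f₀ ⟶ E := MorphismProperty.Over.homMk
    (show (Stg.apex c f₀).left ⟶ E.left from θl') (by
      change θl' ≫ E.hom = pullback.snd f₀ ((cs D c).π.app i₀) ≫ strPt D c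
      have h1 : ql ≫ strPt D c = E.hom := MorphismProperty.Over.w q
      rw [← h1, ← Category.assoc, hθ2])
  have hθθ' : θ ≫ θ' = 𝟙 E := hom_ext' sq.isoPullback.hom_inv_id
  have hθq : θ ≫ Stg.apexTo c f₀ = q := hom_ext' hθ1
  have hθ'q : θ' ≫ q = Stg.apexTo c f₀ := hom_ext' hθ2
  have hs : Function.Surjective (Stg.apexTo c f₀).left := by
    intro z
    obtain ⟨e, he⟩ := hq z
    refine ⟨θ.left e, ?_⟩
    have h1 : (θ.left ≫ (Stg.apexTo c f₀).left) e = q.left e :=
      congrArg (fun t : E.left ⟶ c.pt.left => t e) (congrArg (fun t => t.left) hθq)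
    rw [Scheme.Hom.comp_apply] at h1
    exact h1.trans he
  obtain ⟨i, b, hb⟩ := Stg.exists_descent_of_compat F c f₀ hc hs
    ((lanP F.obj).map θ'.op x) (by
      intro T u₁ u₂ hu
      rw [lanP_map_map, lanP_map_map]
      apply hx
      rw [Category.assoc, Category.assoc, hθ'q, hu])
  refine ⟨i, b, ?_⟩
  have h2 := congrArg (fun t => (lanP F.obj).map θ.op t) hb
  simp only at h2
  rw [lanP_map_map, hθθ', lanP_map_id] at h2
  rw [← h2]
  have h3 : (lanP F.obj).map θ.op (gm F (Stg.apexTo c f₀ ≫ c.π.app i) b) =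
      gm F (θ ≫ Stg.apexTo c f₀ ≫ c.π.app i) b := map_gm F _ _ _
  rw [h3, ← Category.assoc, hθq]

end Groth.Agent.Lib.ProEtLim22
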