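import Groth.Agent.Lib.ProEtLim22h

/-!
# Sections of `ε⁻¹ F` over limits, part 9: `ε⁻¹ F` on presented objects (helper22)

**Bhatt–Scholze, Lemma 5.1.1**: for a presented affine object `U = lim U_i` (with `U_i` affine
objects of the small étale site), every section of `ε⁻¹ F` over `U` is the germ of a section of `F`
over some `U_i`.
-/

set_option autoImplicit false
set_option linter.style.haveILetI false
universe u

open CategoryTheory AlgebraicGeometry Limits MorphismProperty Opposite TopologicalSpace ProEtS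

namespace Groth.Agent.Lib.ProEtLim22

open Groth.Agent.Lib.ProEtEps22 Groth.Agent.Lib.ProEtLan22 Groth.Agent.Lib.ProEtWC22

variable {X : Scheme.{u}} (F : EtCoh.Ab X)

section tower

variable {I : Type u} [SmallCategory I] [IsCofiltered I] (D : I ⥤ X.ProEt)
  (c : Cone D) [∀ i, IsAffine (D.obj i).left]

/-- The structure morphisms to `X` as a natural transformation. -/
noncomputable def tXP : (D ⋙ fsP X) ⟶ (Functor.const I).obj X where
  app i := (D.obj i).hom
  naturality i j f := by
    have h : (D.map f).left ≫ (D.obj j).hom = (D.obj i).hom :=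
      MorphismProperty.Over.w (D.map f)
    exact h.trans (Category.comp_id _).symm

include F in
/-- Every section of `ε^p F` over the limit of a tower of affine objects comes from a stage. -/
theorem exists_stage_of_tower (hc : IsLimit ((fsP X).mapCone c))
    (x : (lanP F.obj).obj (op c.pt)) :
    ∃ (i : I) (y : (lanP F.obj).obj (op (D.obj i))), (lanP F.obj).map (c.π.app i).op y = x := by
  obtain ⟨V₀, g₀, a₀, rfl⟩ := hasRep F.obj c.pt x
  haveI : ∀ {i j : I} (f : i ⟶ j), IsAffineHom ((D ⋙ fsP X).map f) := fun f =>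
    inferInstanceAs (IsAffineHom (D.map f).left)
  haveI : ∀ i, CompactSpace ((D ⋙ fsP X).obj i) := fun i =>
    inferInstanceAs (CompactSpace (D.obj i).left)
  haveI : ∀ i, QuasiSeparatedSpace ((D ⋙ fsP X).obj i) := fun i =>
    inferInstanceAs (QuasiSeparatedSpace (D.obj i).left)
  haveI : LocallyOfFinitePresentation V₀.hom := inferInstance
  have ha : ((fsP X).mapCone c).π ≫ tXP D = (Functor.const _).map (g₀.left ≫ V₀.hom) := by
    ext i : 2
    have h1 : (c.π.app i).left ≫ (D.obj i).hom = c.pt.hom := MorphismProperty.Over.w (c.π.app i)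
    have h2 : g₀.left ≫ V₀.hom = c.pt.hom := MorphismProperty.Over.w g₀
    exact h1.trans h2.symm
  obtain ⟨i, g, hg1, hg2⟩ := Scheme.exists_π_app_comp_eq_of_locallyOfFinitePresentation
    (D ⋙ fsP X) (tXP D) V₀.hom ((fsP X).mapCone c) hc g₀.left ha
  let m : D.obj i ⟶ (eps X).obj V₀ := MorphismProperty.Over.homMk g hg2
  have hm : c.π.app i ≫ m = g₀ := hom_ext' hg1
  refine ⟨i, gm F m a₀, ?_⟩
  have e : (lanP F.obj).map (c.π.app i).op (gm F m a₀) = gm F (c.π.app i ≫ m) a₀ :=
    map_gm F _ _ _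
  rw [e, hm]

end tower

section presented

variable {I : Type u} [SmallCategory I] [IsCofiltered I] {D : I ⥤ X.Etale}
  (c : Cone (D ⋙ eps X)) [∀ i, IsAffine (D.obj i).left] [IsAffine c.pt.left]

/-- **Bhatt–Scholze 5.1.1, surjectivity**: every section of `ε⁻¹ F` over a presented affine object
is the germ of a section of `F` over a stage. -/
theorem exists_gm_eq (hc : IsLimit (cs D c))
    (s : (sheafify (Scheme.ProEt.topology X) (lanP F.obj)).obj (op c.pt)) :
    ∃ (i : I) (a : F.obj.obj (op (D.obj i))), (η F).app (op c.pt) (gm F (c.π.app i) a) = s := by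
  let J := Scheme.ProEt.topology X
  let G : Sheaf J AddCommGrpCat.{u + 1} := (presheafToSheaf J _).obj (lanP F.obj)
  obtain ⟨R, ⟨hlim⟩, hsurj, hWC, het⟩ := exists_presP c.pt
  -- step 1: lift over the w-contractible cover
  obtain ⟨x, hx⟩ := (toSheafify_lanP_bijective F R.Z hWC).2 (G.obj.map R.π.op s)
  -- step 2: the section comes from a stage of the tower
  obtain ⟨m₀, y, hy⟩ := exists_stage_of_tower F R.Zd R.coneP hlim x
  -- step 3: the descent condition holds at a later stage
  let y₂ : (lanP F.obj).obj (op (R.T m₀)) :=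
    (lanP F.obj).map (peProd.fst (R.toU m₀) (R.toU m₀)).op y -
      (lanP F.obj).map (peProd.snd (R.toU m₀) (R.toU m₀)).op y
  have hy₂ : (η F).app (op R.cone2P.pt) ((lanP F.obj).map (R.cone2P.π.app m₀).op y₂) = 0 := by
    change (η F).app (op R.Z2) ((lanP F.obj).map (R.c2 m₀).op y₂) = 0
    have e1 : (lanP F.obj).map (R.c2 m₀).op y₂ =
        (lanP F.obj).map R.p1.op x - (lanP F.obj).map R.p2.op x := by
      change (lanP F.obj).map (R.c2 m₀).op (_ - _) = _
      rw [map_sub, lanP_map_map, lanP_map_map, R.c2_fst, R.c2_snd, ← lanP_map_map,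
        ← lanP_map_map]
      have hy' : (lanP F.obj).map (R.pr m₀).op y = x := hy
      rw [hy']
    rw [e1, map_sub, ← η_naturality, ← η_naturality, sub_eq_zero]
    change G.obj.map R.p1.op ((η F).app (op R.Z) x) = G.obj.map R.p2.op ((η F).app (op R.Z) x)
    rw [hx]
    have e2 : G.obj.map R.p1.op (G.obj.map R.π.op s) = G.obj.map (R.p1 ≫ R.π).op s := by
      rw [op_comp, G.obj.map_comp]
      rfl
    have e3 : G.obj.map R.p2.op (G.obj.map R.π.op s) = G.obj.map (R.p2 ≫ R.π).op s := by
      rw [op_comp, G.obj.map_comp]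
      rfl
    rw [e2, e3, R.p_condition]
  haveI : ∀ i, IsAffine (R.Td.obj i).left := fun i =>
    inferInstanceAs (IsAffine (peProd (R.toU i) (R.toU i)).left)
  haveI : CompactSpace R.cone2P.pt.left :=
    inferInstanceAs (CompactSpace (peProd R.π R.π).left)
  obtain ⟨m₁, f, hf⟩ := exists_map_eq_zero F R.Td R.cone2P (R.isLimitCone2P hlim) m₀ y₂ hy₂
  let y₁ : (lanP F.obj).obj (op (R.Zd.obj m₁)) := (lanP F.obj).map (R.Zd.map f).op y
  have hy₁ : (lanP F.obj).map (peProd.fst (R.toU m₁) (R.toU m₁)).op y₁ =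
      (lanP F.obj).map (peProd.snd (R.toU m₁) (R.toU m₁)).op y₁ := by
    have h1 : (lanP F.obj).map (R.τ f).op y₂ = 0 := hf
    change (lanP F.obj).map (R.τ f).op (_ - _) = 0 at h1
    rw [map_sub, lanP_map_map, lanP_map_map, R.τ_fst, R.τ_snd, ← lanP_map_map,
      ← lanP_map_map, sub_eq_zero] at h1
    exact h1
  -- step 4: glue along the étale cover `Z_{m₁} ⟶ c.pt`
  haveI : Etale (R.toU m₁).left := het m₁
  have hq : Function.Surjective (R.toU m₁).left := by
    intro z
    obtain ⟨w, hw⟩ := hsurj z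
    refine ⟨(R.pr m₁).left w, ?_⟩
    have h1 : ((R.pr m₁).left ≫ (R.toU m₁).left) w = R.π.left w :=
      congrArg (fun t : R.Z.left ⟶ c.pt.left => t w) (congrArg (fun t => t.left) (R.π_w m₁))
    rw [Scheme.Hom.comp_apply] at h1
    exact h1.trans hw
  obtain ⟨i, b, hb⟩ := exists_descent_of_etale F c hc (R.toU m₁) hq y₁ (by
    intro T u₁ u₂ hu
    have e1 : u₁ = peProd.lift u₁ u₂ hu ≫ peProd.fst _ _ := (peProd.lift_fst _ _ _).symm
    have e2 : u₂ = peProd.lift u₁ u₂ hu ≫ peProd.snd _ _ := (peProd.lift_snd _ _ _).symm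
    rw [e1, ← lanP_map_map, hy₁, lanP_map_map, ← e2])
  refine ⟨i, b, ?_⟩
  -- step 5: check the equality on the cover `Z ⟶ c.pt`
  have hres : G.obj.map R.π.op ((η F).app (op c.pt) (gm F (c.π.app i) b)) =
      G.obj.map R.π.op s := by
    rw [← hx]
    change (sheafify J (lanP F.obj)).map R.π.op ((η F).app (op c.pt) (gm F (c.π.app i) b)) = _
    rw [η_naturality, map_gm]
    congr 1
    have e1 : R.π ≫ c.π.app i = R.pr m₁ ≫ R.toU m₁ ≫ c.π.app i := by
      rw [← Category.assoc, R.π_w m₁]
    rw [e1, ← map_gm, hb]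
    change (lanP F.obj).map (R.pr m₁).op ((lanP F.obj).map (R.Zd.map f).op y) = x
    rw [lanP_map_map, R.pr_w f]
    exact hy
  have hcov : Sieve.generate (Presieve.ofArrows (fun _ : Unit => R.Z) (fun _ => R.π)) ∈
      J c.pt := by
    apply Groth.Agent.Lib.ProEtExtZero22.generate_finite_affine_mem
    intro v
    obtain ⟨w, hw⟩ := hsurj v
    exact ⟨(), w, hw⟩
  have hS : Presieve.IsSheaf J (G.obj ⋙ forget AddCommGrpCat.{u + 1}) :=
    (isSheaf_iff_isSheaf_of_type _ _).1
      ((sheafCompose J (forget AddCommGrpCat.{u + 1})).obj G).property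
  refine (hS _ hcov).isSeparatedFor.ext ?_
  rintro Y t ⟨T, a', b', ⟨k⟩, rfl⟩
  change G.obj.map (a' ≫ R.π).op _ = G.obj.map (a' ≫ R.π).op s
  rw [op_comp, G.obj.map_comp]
  exact congrArg (fun z => G.obj.map a'.op z) hres

/-- **Bhatt–Scholze 5.1.1, injectivity** (restated): a germ at a presented affine object that
vanishes in `ε⁻¹ F` comes from a section vanishing at a later stage. -/
theorem exists_map_eq_zero_of_η_gm_eq_zero (hc : IsLimit (cs D c)) (i₀ : I)
    (a : F.obj.obj (op (D.obj i₀))) (h : (η F).app (op c.pt) (gm F (c.π.app i₀) a) = 0) :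
    ∃ (j : I) (f : j ⟶ i₀), F.obj.map (D.map f).op a = 0 :=
  exists_map_eq_zero_et F D c hc i₀ a h

end presented

end Groth.Agent.Lib.ProEtLim22
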