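import Groth.Agent.Lib.ProEtRecollement22c

/-!
# Recollement for pro-étale sheaves: exactness of `0 → j_! j⁻¹ F → F → i_* i⁻¹ F → 0` (helper22)
-/

set_option autoImplicit false
set_option linter.style.haveILetI false
universe u

open CategoryTheory AlgebraicGeometry Limits MorphismProperty Opposite TopologicalSpace ProEtS

namespace Groth.Agent.Lib.ProEtRecollement22

open Groth.Agent.Lib.ProEtWC22 Groth.Agent.Lib.ProEtCover22 Groth.Agent.Lib.ProEtExtZeroLim22
  Groth.Agent.Lib.ProEtExtZeroUnit22 Groth.Agent.Lib.ProEtClosedUnit22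
  Groth.Agent.Lib.ProEtClosedDense22

section elementwise

variable {X : Scheme.{u}}

theorem naturality_apply {A B : ProEtS.AbP X} (φ : A ⟶ B) {V W : X.ProEt} (g : V ⟶ W)
    (x : A.obj.obj (op W)) :
    (φ.hom.app (op V)).hom ((A.obj.map g.op).hom x) =
      (B.obj.map g.op).hom ((φ.hom.app (op W)).hom x) :=
  congrArg (fun m => m.hom x) (φ.hom.naturality g.op)

theorem map_comp_apply (G : ProEtS.AbP X) {V W T : X.ProEt} (g : V ⟶ W) (h : W ⟶ T)
    (x : G.obj.obj (op T)) :
    (G.obj.map (g ≫ h).op).hom x = (G.obj.map g.op).hom ((G.obj.map h.op).hom x) :=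
  congrArg (fun m => m.hom x)
    (show G.obj.map (g ≫ h).op = G.obj.map h.op ≫ G.obj.map g.op by
      rw [op_comp, G.obj.map_comp])

end elementwise

variable {X Z U : Scheme.{u}} (i : Z ⟶ X) [IsClosedImmersion i] (j : U ⟶ X) [IsOpenImmersion j]
  [QuasiCompact j] (hc : (Set.range j)ᶜ = Set.range i) [ProEtS.JPCont j] [ProEtS.PCont i]
  (F : ProEtS.AbP X)

section mono

omit [IsClosedImmersion i] [ProEtS.PCont i] in
/-- The counit `j_! j⁻¹ F ⟶ F` is injective on sections over w-contractible affines. -/
theorem counit_app_injective (W : X.ProEt) [IsAffine W.left]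
    (hW : EtPBC.IsWContractible Γ(W.left, ⊤))
    (x : ((ProEtS.extZeroP j).obj ((ProEtS.restrP j).obj F)).obj.obj (op W))
    (hx : (((ProEtS.extZeroPAdj j).counit.app F).hom.app (op W)).hom x = 0) : x = 0 := by
  let A : ProEtS.AbP X := (ProEtS.extZeroP j).obj ((ProEtS.restrP j).obj F)
  let ε : A ⟶ F := (ProEtS.extZeroPAdj j).counit.app F
  obtain ⟨C, C', hcov, hdis, hCO, haff, hspec⟩ := exists_decomp j W hW
  haveI := haff
  haveI hsub : Subsingleton (A.obj.obj (op (opensObj W C'))) :=
    subsingleton_extZeroP_sections' j (Set.range j)ᶜ disjoint_compl_right (opensObj W C') hspec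
      ((ProEtS.restrP j).obj F)
  apply eq_of_restrict_eq A W C C' hcov hdis x 0
  · have h0 : (A.obj.map (opensHom W C).op).hom x = 0 := by
      apply eq_zero_of_map_liftToOpens_eq_zero j A W C hCO
      apply (bijective_counit_app_compP j F (liftObj j W C hCO)).1
      have e1 := naturality_apply ε (liftToOpens j W C hCO) ((A.obj.map (opensHom W C).op).hom x)
      have e2 := naturality_apply ε (opensHom W C) x
      have e3 : (ε.hom.app (op ((compP j).obj (liftObj j W C hCO)))).hom
          ((A.obj.map (liftToOpens j W C hCO).op).hom ((A.obj.map (opensHom W C).op).hom x)) = 0 := by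
        rw [e1, e2]
        have hx' : (ε.hom.app (op W)).hom x = 0 := hx
        rw [hx', map_zero, map_zero]
      exact e3.trans (map_zero _).symm
    exact h0.trans (map_zero _).symm
  · exact Subsingleton.elim (α := A.obj.obj (op (opensObj W C'))) _ _

omit [IsClosedImmersion i] [ProEtS.PCont i] in
/-- The counit `j_! j⁻¹ F ⟶ F` is a monomorphism. -/
theorem mono_counit_extZeroPAdj : Mono ((ProEtS.extZeroPAdj j).counit.app F) := by
  apply mono_of_forall_wContractible
  intro V hV1 hV2 x hx
  haveI := hV1
  exact counit_app_injective j F V hV2 x hx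

end mono

section exact

include hc in
/-- Sections over w-contractible affines killed by the unit come from `j_! j⁻¹ F`. -/
theorem exists_counit_app_eq (W : X.ProEt) [IsAffine W.left]
    (hW : EtPBC.IsWContractible Γ(W.left, ⊤)) (x : F.obj.obj (op W))
    (hx : (((ProEtS.pullPushAdjP i).unit.app F).hom.app (op W)).hom x = 0) :
    ∃ y : ((ProEtS.extZeroP j).obj ((ProEtS.restrP j).obj F)).obj.obj (op W),
      (((ProEtS.extZeroPAdj j).counit.app F).hom.app (op W)).hom y = x := by
  let A : ProEtS.AbP X := (ProEtS.extZeroP j).obj ((ProEtS.restrP j).obj F)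
  let B : ProEtS.AbP X := (ProEtS.pushP i).obj ((ProEtS.pullP i).obj F)
  let ε : A ⟶ F := (ProEtS.extZeroPAdj j).counit.app F
  let η : F ⟶ B := (ProEtS.pullPushAdjP i).unit.app F
  obtain ⟨C, C', hcov, hdis, hCO, haff, hspec⟩ := exists_decomp j W hW
  haveI := haff
  haveI hsub : Subsingleton (A.obj.obj (op (opensObj W C'))) :=
    subsingleton_extZeroP_sections' j (Set.range j)ᶜ disjoint_compl_right (opensObj W C') hspec
      ((ProEtS.restrP j).obj F)
  -- `x` vanishes on `C'`
  have hxC' : (F.obj.map (opensHom W C').op).hom x = 0 := by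
    apply unit_app_eq_zero_of_specializes i F (opensObj W C') (fun v => by
      obtain ⟨z, hz, hvz⟩ := hspec v
      exact ⟨z, hc ▸ hz, hvz⟩)
    have e1 := naturality_apply η (opensHom W C') x
    have hx' : (η.hom.app (op W)).hom x = 0 := hx
    rw [hx', map_zero] at e1
    exact e1
  -- the section over `C`
  let V : U.ProEt := liftObj j W C hCO
  let g : (compP j).obj V ⟶ W := liftToOpens j W C hCO ≫ opensHom W C
  obtain ⟨y', hy'⟩ := (bijective_counit_app_compP j F V).2 ((F.obj.map g.op).hom x)
  obtain ⟨y, hy⟩ := (bijective_map_r ((ProEtS.restrP j).obj F) W C C' hcov hdis hCO hsub).2 y'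
  have hy'' : (A.obj.map g.op).hom y = y' := hy
  have hy''' : (ε.hom.app (op ((compP j).obj V))).hom y' = (F.obj.map g.op).hom x := hy'
  refine ⟨y, ?_⟩
  apply eq_of_restrict_eq F W C C' hcov hdis
  · -- on `C`
    have hinj : ∀ s t : F.obj.obj (op (opensObj W C)),
        (F.obj.map (liftToOpens j W C hCO).op).hom s =
          (F.obj.map (liftToOpens j W C hCO).op).hom t → s = t := by
      intro s t hst
      have h1 : s - t = 0 := by
        apply eq_zero_of_map_liftToOpens_eq_zero j F W C hCO
        rw [map_sub, hst, sub_self]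
      exact sub_eq_zero.1 h1
    apply hinj
    have e1 := map_comp_apply F (liftToOpens j W C hCO) (opensHom W C) ((ε.hom.app (op W)).hom y)
    have e2 := map_comp_apply F (liftToOpens j W C hCO) (opensHom W C) x
    have e3 := naturality_apply ε g y
    exact e1.symm.trans (e3.symm.trans ((congrArg _ hy'').trans (hy'''.trans e2)))
  · -- on `C'`
    have e1 := naturality_apply ε (opensHom W C') y
    have e2 : (A.obj.map (opensHom W C').op).hom y = 0 :=
      Subsingleton.elim (α := A.obj.obj (op (opensObj W C'))) _ _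
    rw [e2, map_zero] at e1
    exact e1.symm.trans hxC'.symm

end exact

section main

include hc in
/-- **Recollement**: `0 → j_! j⁻¹ F → F → i_* i⁻¹ F → 0` is short exact. -/
theorem shortExact_recollement :
    ∃ h : (ProEtS.extZeroPAdj j).counit.app F ≫ (ProEtS.pullPushAdjP i).unit.app F = 0,
      (ShortComplex.mk _ _ h).ShortExact := by
  have hdisj : Disjoint (Set.range j) (Set.range i) := by
    rw [← hc]
    exact disjoint_compl_right
  have h0 : (ProEtS.extZeroPAdj j).counit.app F ≫ (ProEtS.pullPushAdjP i).unit.app F = 0 :=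
    hom_extZeroP_pushP_eq_zero i j hdisj _ _ _
  refine ⟨h0, ?_⟩
  let S := ShortComplex.mk _ _ h0
  haveI : Mono S.f := mono_counit_extZeroPAdj j F
  haveI : Epi S.g := epi_unit_pullPushAdjP i j hc F
  have hex : S.Exact := by
    rw [ShortComplex.exact_iff_kernel_ι_comp_cokernel_π_zero]
    apply hom_ext_wContractible
    intro W hW1 hW2 z
    haveI := hW1
    let x : F.obj.obj (op W) := ((kernel.ι S.g).hom.app (op W)).hom z
    have hx : (S.g.hom.app (op W)).hom x = 0 := by
      have e := congrArg (fun m => (m.hom.app (op W)).hom z) (kernel.condition S.g)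
      exact e
    obtain ⟨y, hy⟩ := exists_counit_app_eq i j hc F W hW2 x hx
    have e2 := congrArg (fun m => (m.hom.app (op W)).hom y) (cokernel.condition S.f)
    have e3 : ((cokernel.π S.f).hom.app (op W)).hom ((S.f.hom.app (op W)).hom y) = 0 := e2
    have hy' : (S.f.hom.app (op W)).hom y = x := hy
    rw [hy'] at e3
    exact e3
  exact ShortComplex.ShortExact.mk' hex inferInstance inferInstance

end main

end Groth.Agent.Lib.ProEtRecollement22
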