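import Groth.Agent.Lib.ModForgetPull22
import Groth.Agent.Lib.ProEtRecollement22d
import Groth.Agent.Lib.ProEtExtZeroMod22b

/-!
# Recollement for pro-étale sheaves of modules, via the forgetful functor (helper22)

* `pullM`, `pushM`, `pullPushAdjM`: `i⁻¹ ⊣ i_*` on pro-étale sheaves of `Λ`-modules;
* `isIso_counit_pullPushAdjM`: `i⁻¹ i_* ≅ id` for a closed immersion;
* `isIso_unit_of_isZero_restrP`, `isIso_unitM_of_isZero_restrM`: if `j⁻¹ G = 0` then
  `G ⟶ i_* i⁻¹ G` is an isomorphism (abelian sheaves, sheaves of modules).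
-/

set_option autoImplicit false
set_option linter.style.haveILetI false
universe u

open CategoryTheory AlgebraicGeometry Limits MorphismProperty Opposite TopologicalSpace ProEtS

namespace Groth.Agent.Lib.ProEtModTransfer22

open Groth.Agent.Lib.ModForgetPull22 Groth.Agent.Lib.ProEtExtZeroMod22
  Groth.Agent.Lib.ProEtRecollement22 Groth.Agent.Lib.ProEtClosedDense22

variable (Λ : Type (u + 1)) [CommRing Λ]

instance hasSheafCompose_UF (X : Scheme.{u}) :
    (Scheme.ProEt.topology X).HasSheafCompose (UF Λ) := by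
  have : PreservesLimitsOfSize.{u, u + 1} (UF Λ) := inferInstance
  infer_instance

/-- The forgetful functor from pro-étale sheaves of modules to abelian pro-étale sheaves. -/
noncomputable abbrev UP (X : Scheme.{u}) : EtModW.ModP Λ X ⥤ ProEtS.AbP X :=
  USh Λ (Scheme.ProEt.topology X)

section closed

variable {Z X : Scheme.{u}} (i : Z ⟶ X) [ProEtS.PCont i]

/-- `i_*` on sheaves of modules. -/
noncomputable abbrev pushM : EtModW.ModP Λ Z ⥤ EtModW.ModP Λ X :=
  (bcP i).sheafPushforwardContinuous (ModuleCat.{u + 1} Λ) (Scheme.ProEt.topology X)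
    (Scheme.ProEt.topology Z)

/-- `i⁻¹` on sheaves of modules. -/
noncomputable abbrev pullM : EtModW.ModP Λ X ⥤ EtModW.ModP Λ Z :=
  (bcP i).sheafPullback (ModuleCat.{u + 1} Λ) (Scheme.ProEt.topology X) (Scheme.ProEt.topology Z)

/-- The adjunction `i⁻¹ ⊣ i_*` on sheaves of modules. -/
noncomputable abbrev pullPushAdjM : pullM Λ i ⊣ pushM Λ i :=
  (bcP i).sheafAdjunctionContinuous (ModuleCat.{u + 1} Λ) (Scheme.ProEt.topology X)
    (Scheme.ProEt.topology Z)

/-- The counit `i⁻¹ i_* F ⟶ F` is an isomorphism (sheaves of modules). -/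
instance isIso_counit_pullPushAdjM [IsClosedImmersion i] : IsIso (pullPushAdjM Λ i).counit :=
  inferInstance

end closed

section recollement

variable {X Z U : Scheme.{u}} (i : Z ⟶ X) [IsClosedImmersion i] (j : U ⟶ X) [IsOpenImmersion j]
  [QuasiCompact j] (hc : (Set.range j)ᶜ = Set.range i) [ProEtS.JPCont j] [ProEtS.PCont i]

include hc in
/-- If `j⁻¹ F = 0` then `F ⟶ i_* i⁻¹ F` is an isomorphism (abelian sheaves). -/
theorem isIso_unit_of_isZero_restrP (F : ProEtS.AbP X) (h : IsZero ((ProEtS.restrP j).obj F)) :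
    IsIso ((ProEtS.pullPushAdjP i).unit.app F) := by
  obtain ⟨h0, hS⟩ := shortExact_recollement i j hc F
  haveI : Epi ((ProEtS.pullPushAdjP i).unit.app F) := hS.epi_g
  haveI : (ProEtS.extZeroP j).IsLeftAdjoint := (ProEtS.extZeroPAdj j).isLeftAdjoint
  have hz : IsZero ((ProEtS.extZeroP j).obj ((ProEtS.restrP j).obj F)) :=
    Functor.map_isZero _ h
  haveI : Mono ((ProEtS.pullPushAdjP i).unit.app F) := hS.exact.mono_g (hz.eq_of_src _ _)
  exact isIso_of_mono_of_epi _

include hc in
/-- If `j⁻¹ G = 0` then `G ⟶ i_* i⁻¹ G` is an isomorphism (sheaves of modules). -/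
theorem isIso_unitM_of_isZero_restrM (G : EtModW.ModP Λ X)
    (h : IsZero ((restrM Λ j).obj G)) : IsIso ((pullPushAdjM Λ i).unit.app G) := by
  haveI : (UP Λ U).IsLeftAdjoint := (adjSh Λ (Scheme.ProEt.topology U)).isLeftAdjoint
  have hz : IsZero ((ProEtS.restrP j).obj ((UP Λ X).obj G)) := by
    have h1 : IsZero ((UP Λ U).obj ((restrM Λ j).obj G)) := Functor.map_isZero _ h
    exact h1
  have h1 : IsIso ((ProEtS.pullPushAdjP i).unit.app ((UP Λ X).obj G)) :=
    isIso_unit_of_isZero_restrP i j hc _ hz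
  have h2 : IsIso (beta (pullPushAdjM Λ i) (ProEtS.pullPushAdjP i) G) :=
    isIso_beta (pullPushAdjM Λ i) (ProEtS.pullPushAdjP i) G
  have h3 : IsIso ((ProEtS.pushP i).map (beta (pullPushAdjM Λ i) (ProEtS.pullPushAdjP i) G)) :=
    Functor.map_isIso _ _
  have e := ush_map_unit (pullPushAdjM Λ i) (ProEtS.pullPushAdjP i) G
  haveI : IsIso ((UP Λ X).map ((pullPushAdjM Λ i).unit.app G)) := by
    rw [e]
    exact @IsIso.comp_isIso _ _ _ _ _ _ _ h1 h3
  exact isIso_of_reflects_iso _ (UP Λ X)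

end recollement

end Groth.Agent.Lib.ProEtModTransfer22
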