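import Groth.Agent.Lib.ProEtModTransfer22c
import Groth.Agent.Lib.ARSysQuot
import Groth.Agent.Lib.ProEtAdicChar22

/-!
# `i_*` preserves quotient maps modulo an ideal (helper22)

* `isQuot_unique`: quotient maps modulo `I` with the same source are isomorphic;
* `isQuot_map_rightAdjoint`: abstract criterion for a fully faithful linear right adjoint to
  preserve a quotient map;
* `isZero_restrM_pushM`: `j⁻¹ i_* = 0` on sheaves of modules;
* `isQuot_pushM_map`: `i_*` preserves quotient maps modulo an ideal (closed immersion with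
  quasi-compact open complement).
-/

set_option autoImplicit false
set_option linter.style.haveILetI false
universe u

open CategoryTheory AlgebraicGeometry Limits MorphismProperty Opposite TopologicalSpace ProEtS

namespace Groth.Agent.Lib.ProEtModTransfer22

open Groth.Agent.Lib.ModForgetPull22 Groth.Agent.Lib.ProEtAdicLim22
  Groth.Agent.Lib.ProEtExtZeroMod22 Groth.Agent.Lib.ProEtExtZeroUnit22 Groth.Agent.Lib.ProEtEps22

section abstract

universe w v₁ u₁ v₂ u₂

variable {A : Type w} [CommRing A] {C : Type u₁} [Category.{v₁} C] [Preadditive C] [Linear A C]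
  (I : Ideal A)

/-- Quotient maps modulo `I` out of the same object are isomorphic. -/
theorem isQuot_unique {X Q Q' : C} (p : X ⟶ Q) (p' : X ⟶ Q') (hp : ARSys.IsQuot I p)
    (hp' : ARSys.IsQuot I p') : ∃ e : Q ≅ Q', p ≫ e.hom = p' := by
  have hk' : ARSys.HomKilledBy I p' := Groth.Agent.Lib.ARSysBasic.homKilledBy_of_killedBy p' hp'.1
  have hk : ARSys.HomKilledBy I p := Groth.Agent.Lib.ARSysBasic.homKilledBy_of_killedBy p hp.1
  obtain ⟨a, ha, _⟩ := hp.2 Q' p' hk'
  obtain ⟨b, hb, _⟩ := hp'.2 Q p hk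
  obtain ⟨c, _, hu⟩ := hp.2 Q p hk
  obtain ⟨c', _, hu'⟩ := hp'.2 Q' p' hk'
  have ha' : p ≫ a = p' := ha
  have hb' : p' ≫ b = p := hb
  refine ⟨⟨a, b, ?_, ?_⟩, ha'⟩
  · have h1 : a ≫ b = c := hu (a ≫ b) (by
      show p ≫ a ≫ b = p
      rw [← Category.assoc, ha', hb'])
    have h2 : 𝟙 Q = c := hu (𝟙 Q) (Category.comp_id p)
    exact h1.trans h2.symm
  · have h1 : b ≫ a = c' := hu' (b ≫ a) (by
      show p' ≫ b ≫ a = p'
      rw [← Category.assoc, hb', ha'])
    have h2 : 𝟙 Q' = c' := hu' (𝟙 Q') (Category.comp_id p')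
    exact h1.trans h2.symm

variable {D : Type u₂} [Category.{v₂} D] [Preadditive D] [Linear A D]
  {L : C ⥤ D} {R : D ⥤ C} (adj : L ⊣ R)
  (hR : ∀ {X Y : D} (a : A) (f : X ⟶ Y), R.map (a • f) = a • R.map f)

include hR in
/-- If `R` is a linear right adjoint with invertible counit at `F`, `q : R F ⟶ Q''` is a
quotient map modulo `I` and the unit at `Q''` is invertible, then `R` sends any quotient map
`F ⟶ Q` modulo `I` to a quotient map. -/
theorem isQuot_map_rightAdjoint {F Q : D} (p : F ⟶ Q) (hp : ARSys.IsQuot I p)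
    [IsIso (adj.counit.app F)] {Q'' : C} (q : R.obj F ⟶ Q'') (hq : ARSys.IsQuot I q)
    [IsIso (adj.unit.app Q'')] : ARSys.IsQuot I (R.map p) := by
  have h1 : ARSys.IsQuot I (L.map q) :=
    Groth.Agent.Lib.AdjLinear22.isQuot_map_leftAdjoint adj hR I q hq
  have h2 : ARSys.IsQuot I ((asIso (adj.counit.app F)).symm.hom ≫ L.map q) :=
    Groth.Agent.Lib.ProEtAdicChar22.isQuot_iso_comp I _ _ h1
  obtain ⟨e, he⟩ := isQuot_unique I p _ hp h2
  have he' : p ≫ e.hom = inv (adj.counit.app F) ≫ L.map q := he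
  have h3 : R.map (inv (adj.counit.app F)) = adj.unit.app (R.obj F) := by
    have ht : adj.unit.app (R.obj F) ≫ R.map (adj.counit.app F) = 𝟙 _ :=
      adj.right_triangle_components F
    rw [Functor.map_inv]
    exact (IsIso.inv_eq_of_inv_hom_id ht)
  have h4 : R.map p ≫ R.map e.hom = q ≫ adj.unit.app Q'' := by
    rw [← R.map_comp, he', R.map_comp, h3]
    exact adj.unit_naturality q
  have h5 : R.map p = q ≫ (asIso (adj.unit.app Q'') ≪≫ R.mapIso e.symm).hom := by
    show R.map p = q ≫ adj.unit.app Q'' ≫ R.map e.inv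
    rw [← Category.assoc, ← h4, Category.assoc, ← R.map_comp, e.hom_inv_id, R.map_id,
      Category.comp_id]
  rw [h5]
  exact Groth.Agent.Lib.ProEtAdicChar22.isQuot_comp_iso I q _ hq

end abstract

variable (Λ : Type (u + 1)) [CommRing Λ]

section linear

variable {Z X : Scheme.{u}} (i : Z ⟶ X) [ProEtS.PCont i]

theorem pushM_map_smul {F G : EtModW.ModP Λ Z} (a : Λ) (f : F ⟶ G) :
    (pushM Λ i).map (a • f) = a • (pushM Λ i).map f := rfl

end linear

section vanish

variable {X Z U : Scheme.{u}} (i : Z ⟶ X) (j : U ⟶ X) [IsOpenImmersion j]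
  (hdisj : Disjoint (Set.range j) (Set.range i)) [ProEtS.JPCont j] [ProEtS.PCont i]

include hdisj in
/-- `j⁻¹ i_* = 0` on sheaves of modules. -/
theorem isZero_restrM_pushM (F : EtModW.ModP Λ Z) :
    IsZero ((restrM Λ j).obj ((pushM Λ i).obj F)) := by
  have h : IsZero ((UP Λ U).obj ((restrM Λ j).obj ((pushM Λ i).obj F))) :=
    Groth.Agent.Lib.ProEtRecollement22.isZero_restrP_pushP i j hdisj ((UP Λ Z).obj F)
  rw [IsZero.iff_id_eq_zero] at h ⊢
  apply (UP Λ U).map_injective
  have h0 : (UP Λ U).map (0 : (restrM Λ j).obj ((pushM Λ i).obj F) ⟶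
      (restrM Λ j).obj ((pushM Λ i).obj F)) = 0 := by
    apply Sheaf.hom_ext
    apply NatTrans.ext
    funext V
    rfl
  rw [CategoryTheory.Functor.map_id, h, h0]

end vanish

section quot

variable {X Z U : Scheme.{u}} (i : Z ⟶ X) [IsClosedImmersion i] (j : U ⟶ X) [IsOpenImmersion j]
  [QuasiCompact j] (hc : (Set.range j)ᶜ = Set.range i) [ProEtS.JPCont j] [ProEtS.PCont i]

include hc in
/-- `i_*` preserves quotient maps modulo powers of an ideal. -/
theorem isQuot_pushM_map (I : Ideal Λ) (k : ℕ) {F Q : EtModW.ModP Λ Z} (p : F ⟶ Q)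
    (hp : ARSys.IsQuot (I ^ k) p) : ARSys.IsQuot (I ^ k) ((pushM Λ i).map p) := by
  have hdisj : Disjoint (Set.range j) (Set.range i) := by
    rw [← hc]
    exact disjoint_compl_right
  obtain ⟨Q'', q, hq⟩ := Groth.Agent.Lib.ARSysQuot.exists_isQuot I (Or.inr inferInstance) k
    ((pushM Λ i).obj F)
  haveI : Epi q := Groth.Agent.Lib.ARSysBasic.IsQuot.epi hq
  haveI : (restrM Λ j).PreservesEpimorphisms :=
    Functor.preservesEpimorphisms_of_adjunction (restrPushAdjM Λ j)
  have hz : IsZero ((restrM Λ j).obj Q'') :=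
    IsZero.of_epi ((restrM Λ j).map q) (isZero_restrM_pushM Λ i j hdisj F)
  haveI : IsIso ((pullPushAdjM Λ i).unit.app Q'') :=
    isIso_unitM_of_isZero_restrM Λ i j hc Q'' hz
  haveI : IsIso ((pullPushAdjM Λ i).counit.app F) := inferInstance
  exact isQuot_map_rightAdjoint (I ^ k) (pullPushAdjM Λ i)
    (fun a f => pushM_map_smul Λ i a f) p hp q hq

end quot

section constr

variable {X Z U : Scheme.{u}} (i : Z ⟶ X) [IsClosedImmersion i] (j : U ⟶ X) [IsOpenImmersion j]
  [QuasiCompact j] (hc : (Set.range j)ᶜ = Set.range i) [ProEtS.JPCont j] [ProEtS.PCont i]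
  [ProEtS.EpsCont X] [ProEtS.EpsCont Z]

include hc in
/-- `ε_X⁻¹ i_* E ≅ i_* ε_Z⁻¹ E` for a closed immersion with quasi-compact open complement. -/
theorem nonempty_epsPull_push_iso (E : EtModW.Mod Λ Z) :
    Nonempty ((EtModW.epsPullMod Λ X).obj ((EtModW.push Λ i).obj E) ≅
      (pushM Λ i).obj ((EtModW.epsPullMod Λ Z).obj E)) := by
  have hdisj : Disjoint (Set.range j) (Set.range i) := by
    rw [← hc]
    exact disjoint_compl_right
  haveI : IsIso ((pullPushAdjM Λ i).unit.app
      ((EtModW.epsPullMod Λ X).obj ((EtModW.push Λ i).obj E))) :=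
    isIso_unitM_of_isZero_restrM Λ i j hc _ (isZero_restrM_epsPull_push Λ i j hdisj E)
  exact ⟨asIso ((pullPushAdjM Λ i).unit.app
      ((EtModW.epsPullMod Λ X).obj ((EtModW.push Λ i).obj E))) ≪≫
    (pushM Λ i).mapIso ((pullEpsIso Λ i).app ((EtModW.push Λ i).obj E) ≪≫
      (EtModW.epsPullMod Λ Z).mapIso (asIso ((pullPushAdjEtM Λ i).counit.app E)))⟩

end constr

end Groth.Agent.Lib.ProEtModTransfer22
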