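import Groth.Agent.Lib.ProEtWC22e
import Mathlib.CategoryTheory.Sites.Point.OfIsCofiltered
import Mathlib.CategoryTheory.Sites.Point.Conservative

/-!
# The small pro-étale site has enough points (helper22)

For an object `U` of `X.ProEt` all of whose covering sieves have clopen refinements (e.g. an affine
object with w-contractible ring of functions) and a point `u` of `U.left`, the germs at `u` of
morphisms from clopen neighbourhoods of `u` form a point of the site.  These points form a
conservative family.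
-/

set_option autoImplicit false
universe u

open CategoryTheory AlgebraicGeometry Limits MorphismProperty Opposite TopologicalSpace

namespace Groth.Agent.Lib.ProEtPoints22

open Groth.Agent.Lib.ProEtWC22

variable {X : Scheme.{u}} (U : X.ProEt) (u : U.left)

/-- Clopen neighbourhoods of `u` in `U.left`. -/
def Nbhd : Type u := {W : U.left.Opens // IsClosed (W : Set U.left) ∧ u ∈ W}

instance : Preorder (Nbhd U u) := inferInstanceAs (Preorder (Subtype _))

instance : Nonempty (Nbhd U u) := ⟨⟨⊤, isClosed_univ, trivial⟩⟩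

instance : IsDirected (Nbhd U u) (· ≥ ·) :=
  ⟨fun a b => ⟨⟨a.1 ⊓ b.1, a.2.1.inter b.2.1, ⟨a.2.2, b.2.2⟩⟩,
    (inf_le_left : a.1 ⊓ b.1 ≤ a.1), (inf_le_right : a.1 ⊓ b.1 ≤ b.1)⟩⟩

instance : IsCofiltered (Nbhd U u) := isCofiltered_of_directed_ge_nonempty _

/-- The functor sending a clopen neighbourhood to the corresponding open subobject. -/
noncomputable def nbhdFunctor : Nbhd U u ⥤ X.ProEt where
  obj W := opensObj U W.1
  map {W₁ W₂} h := MorphismProperty.Over.homMk (U.left.homOfLE (leOfHom h))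
    (by show U.left.homOfLE _ ≫ W₂.1.ι ≫ U.hom = W₁.1.ι ≫ U.hom
        rw [← Category.assoc, Scheme.homOfLE_ι])
  map_id W := hom_ext' (Scheme.homOfLE_rfl _ _)
  map_comp f g := hom_ext' (Scheme.homOfLE_homOfLE _ (leOfHom f) (leOfHom g)).symm

@[simp] lemma nbhdFunctor_obj (W : Nbhd U u) : (nbhdFunctor U u).obj W = opensObj U W.1 := rfl

lemma nbhdFunctor_map_comp_opensHom {W₁ W₂ : Nbhd U u} (h : W₁ ⟶ W₂) :
    (nbhdFunctor U u).map h ≫ opensHom U W₂.1 =
      (opensHom U W₁.1 : (nbhdFunctor U u).obj W₁ ⟶ U) :=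
  hom_ext' (Scheme.homOfLE_ι _ (leOfHom h))

variable {U u}

/-- The auxiliary sieve on `U`: arrows which either factor through `W` and then lie in `R` after
composing with `f`, or avoid `W`. -/
def auxSieve {V : X.ProEt} (R : Sieve V) (W : U.left.Opens) (f : opensObj U W ⟶ V) : Sieve U where
  arrows T t := (∃ t' : T ⟶ opensObj U W, t' ≫ opensHom U W = t ∧ R (t' ≫ f)) ∨
    (∀ x : T.left, t.left x ∉ W)
  downward_closed := by
    rintro T T' t (⟨t', rfl, ht'⟩ | h) s
    · exact Or.inl ⟨s ≫ t', Category.assoc _ _ _, by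
        rw [Category.assoc]; exact R.downward_closed ht' s⟩
    · exact Or.inr fun x => h (s.left x)

theorem auxSieve_mem {V : X.ProEt} (R : Sieve V) (hR : R ∈ Scheme.ProEt.topology X V)
    (W : U.left.Opens) (hW : IsClosed (W : Set U.left)) (f : opensObj U W ⟶ V) :
    auxSieve R W f ∈ Scheme.ProEt.topology X U := by
  let Wc : U.left.Opens := ⟨(W : Set U.left)ᶜ, hW.isOpen_compl⟩
  let 𝒲 : Bool → U.left.Opens := fun b => cond b W Wc
  have hcov : IsOpenCover 𝒲 := by
    rw [IsOpenCover, eq_top_iff]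
    intro x _
    rw [Opens.mem_iSup]
    by_cases hx : x ∈ W
    · exact ⟨true, hx⟩
    · exact ⟨false, hx⟩
  refine (Scheme.ProEt.topology X).transitive (generate_opens_mem_topology U 𝒲 hcov) _ ?_
  rintro T t ⟨Y, h, g, ⟨b⟩, rfl⟩
  rw [Sieve.pullback_comp]
  apply (Scheme.ProEt.topology X).pullback_stable
  cases b
  · -- the complement
    refine (Scheme.ProEt.topology X).superset_covering ?_ ((Scheme.ProEt.topology X).top_mem _)
    intro T' s _
    refine Or.inr fun x => ?_
    have h2 : Wc.ι (s.left x) ∈ Wc := (s.left x).2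
    exact h2
  · refine (Scheme.ProEt.topology X).superset_covering ?_
      ((Scheme.ProEt.topology X).pullback_stable f hR)
    intro T' s hs
    exact Or.inl ⟨s, rfl, hs⟩

/-- The lifting property making the germ functor a point. -/
theorem nbhd_lifting (hU : HasClopenRefinements U) ⦃V : X.ProEt⦄ (R : Sieve V)
    (hR : R ∈ Scheme.ProEt.topology X V) ⦃W : Nbhd U u⦄
    (f : (nbhdFunctor U u).obj W ⟶ V) :
    ∃ (Y : X.ProEt) (g : Y ⟶ V) (_ : R g) (W₂ : Nbhd U u) (q : W₂ ⟶ W)
      (a : (nbhdFunctor U u).obj W₂ ⟶ Y), a ≫ g = (nbhdFunctor U u).map q ≫ f := by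
  obtain ⟨n, 𝒱, hclopen, -, hunion, harr⟩ := hU _ (auxSieve_mem R hR W.1 W.2.1 f)
  have hu : u ∈ ⋃ k, (𝒱 k : Set ↥U.left) := by rw [hunion]; trivial
  obtain ⟨k, hk⟩ := Set.mem_iUnion.1 hu
  rcases harr k with ⟨t', ht', hR'⟩ | h
  · have hl : t'.left ≫ W.1.ι = (𝒱 k).ι := congrArg (fun f => f.left) ht'
    have hle : 𝒱 k ≤ W.1 := by
      intro x hx
      have h1 : W.1.ι (t'.left ⟨x, hx⟩) = x :=
        (Scheme.Hom.comp_apply _ _ _).symm.trans
          (congrArg (fun g : (𝒱 k).toScheme ⟶ U.left => g ⟨x, hx⟩) hl)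
      have h2 : W.1.ι (t'.left ⟨x, hx⟩) ∈ W.1 := (t'.left ⟨x, hx⟩).2
      rwa [h1] at h2
    let W₂ : Nbhd U u := ⟨𝒱 k, (hclopen k).1, hk⟩
    let q : W₂ ⟶ W := homOfLE hle
    refine ⟨opensObj U (𝒱 k), t' ≫ f, hR', W₂, q, 𝟙 _, ?_⟩
    have hq : t' = (nbhdFunctor U u).map q :=
      hom_ext' ((cancel_mono W.1.ι).1 (hl.trans (Scheme.homOfLE_ι _ hle).symm))
    exact (Category.id_comp _).trans (congrArg (fun t => t ≫ f) hq)
  · exact absurd (show (𝒱 k).ι ⟨u, hk⟩ ∈ W.1 from W.2.2) (h ⟨u, hk⟩)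

variable (U u)

instance locallySmall_proEt : LocallySmall.{u + 1} X.ProEt := locallySmall_max.{u + 1}

instance : LocallySmall.{u + 1} (Nbhd U u) := locallySmall_max.{u + 1}

instance : Small.{u + 1} (Nbhd U u) := small_max.{u + 1} _

instance : InitiallySmall.{u + 1} (Nbhd U u) := initiallySmall_of_essentiallySmall _

/-- The point of the small pro-étale site given by germs at `u` of morphisms out of clopen
neighbourhoods of `u` in `U`. -/
noncomputable def germPoint (hU : HasClopenRefinements U) :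
    GrothendieckTopology.Point.{u + 1} (Scheme.ProEt.topology X) :=
  GrothendieckTopology.Point.ofIsCofiltered.{u + 1} (nbhdFunctor U u)
    (fun _ R hR _ f => nbhd_lifting hU R hR f)

variable {U u}

open GrothendieckTopology.Point.ofIsCofiltered in
/-- If a sieve `S` on `V` is jointly surjective on the fibre of `germPoint U u`, then for every
`f : U ⟶ V` some clopen neighbourhood of `u` maps into `S`. -/
theorem exists_nbhd_of_lifting (hU : HasClopenRefinements U) {V : X.ProEt} (S : Sieve V)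
    (f : U ⟶ V)
    (h : ∀ x : (germPoint U u hU).fiber.obj V, ∃ (Y : X.ProEt) (g : Y ⟶ V) (_ : S g)
      (y : (germPoint U u hU).fiber.obj Y), (germPoint U u hU).fiber.map g y = x) :
    ∃ W : U.left.Opens, u ∈ W ∧ S (opensHom U W ≫ f) := by
  let T : Nbhd U u := ⟨⊤, isClosed_univ, trivial⟩
  let f₀ : (nbhdFunctor U u).obj T ⟶ V := opensHom U ⊤ ≫ f
  obtain ⟨Y, g, hg, y, hy⟩ := h (fiberMk f₀)
  obtain ⟨W, k, rfl⟩ := fiberMk_jointly_surjective y
  have hy' : fiberMk.{u + 1} (k ≫ g) = fiberMk.{u + 1} f₀ :=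
    (fiber_map_fiberMk (p := nbhdFunctor U u) k g).symm.trans hy
  let q₀ : W ⟶ T := homOfLE (le_top : W.1 ≤ ⊤)
  have h1 : fiberMk.{u + 1} (k ≫ g) = fiberMk.{u + 1} ((nbhdFunctor U u).map q₀ ≫ f₀) :=
    hy'.trans (fiberMk_map_comp (p := nbhdFunctor U u) q₀ f₀).symm
  obtain ⟨W₂, q, hq⟩ := exists_of_fiberMk_eq_fiberMk h1
  refine ⟨W₂.1, W₂.2.2, ?_⟩
  have h2 : opensHom U W₂.1 ≫ f = ((nbhdFunctor U u).map q ≫ k) ≫ g := by
    rw [Category.assoc, hq, ← Category.assoc, ← Functor.map_comp, ← Category.assoc]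
    congr 1
    exact (nbhdFunctor_map_comp_opensHom U u (q ≫ q₀)).symm
  rw [h2]
  exact S.downward_closed hg _

variable (X)

/-- The index type of the conservative family of points. -/
def PtIdx : Type (u + 1) := Σ U : {U : X.ProEt // HasClopenRefinements U}, U.1.left

/-- The conservative family of points of the small pro-étale site. -/
noncomputable def ptFamily (i : PtIdx X) :
    GrothendieckTopology.Point.{u + 1} (Scheme.ProEt.topology X) :=
  germPoint i.1.1 i.2 i.1.2

/-- If a sieve is jointly surjective on the fibres of all the points `ptFamily`, it is covering. -/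
theorem mem_topology_of_lifting {V : X.ProEt} (S : Sieve V)
    (h : ∀ (i : PtIdx X) (x : (ptFamily X i).fiber.obj V), ∃ (Y : X.ProEt) (g : Y ⟶ V) (_ : S g)
      (y : (ptFamily X i).fiber.obj Y), (ptFamily X i).fiber.map g y = x) :
    S ∈ Scheme.ProEt.topology X V := by
  obtain ⟨ι, 𝒰, g, hcov, haff⟩ := Groth.Agent.Lib.WContrSite22.exists_wContractible_family V
  refine (Scheme.ProEt.topology X).transitive hcov _ ?_
  rintro T t ⟨Y, k, g', ⟨i⟩, rfl⟩
  rw [Sieve.pullback_comp]
  apply (Scheme.ProEt.topology X).pullback_stable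
  -- the key claim on the w-contractible affine `𝒰 i`
  haveI := (haff i).1
  have hU : HasClopenRefinements (𝒰 i) :=
    hasClopenRefinements_of_isWContractible (𝒰 i) (haff i).2
  have key : ∀ u : (𝒰 i).left, ∃ W : (𝒰 i).left.Opens, u ∈ W ∧ S (opensHom (𝒰 i) W ≫ g i) :=
    fun u => exists_nbhd_of_lifting hU S (g i) (h ⟨⟨𝒰 i, hU⟩, u⟩)
  choose W hW hS using key
  have hcovW : IsOpenCover W := by
    rw [IsOpenCover, eq_top_iff]
    intro x _
    rw [Opens.mem_iSup]
    exact ⟨x, hW x⟩
  refine (Scheme.ProEt.topology X).superset_covering ?_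
    (generate_opens_mem_topology (𝒰 i) W hcovW)
  rw [Sieve.generate_le_iff]
  rintro _ _ ⟨u⟩
  exact hS u

/-- **The small pro-étale site has enough points.** -/
theorem hasEnoughPoints :
    GrothendieckTopology.HasEnoughPoints.{u + 1} (Scheme.ProEt.topology X) := by
  refine ⟨ObjectProperty.ofObj (ptFamily X), inferInstance, ?_⟩
  apply ObjectProperty.IsConservativeFamilyOfPoints.mk'
  intro V S hS
  refine mem_topology_of_lifting X S (fun i x => ?_)
  exact hS ⟨ptFamily X i, ⟨i⟩⟩ x

end Groth.Agent.Lib.ProEtPoints22
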