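import Groth.Agent.Lib.EtQcqs95b
import Groth.Prelude.Def_ProEtS
import Mathlib.CategoryTheory.Limits.FullSubcategory

/-!
# The qcqs-source part of the small pro-étale site (helper95)

For a scheme `X`, the weakly étale `X`-schemes whose underlying scheme is quasi-compact and
quasi-separated form a dense subsite of the small pro-étale site, which has pullbacks and all of
whose objects are quasi-compact in the site sense.  For `X` qcqs, pro-étale cohomology commutes with
filtered colimits.
-/

set_option autoImplicit false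
set_option linter.unusedSectionVars false

open CategoryTheory CategoryTheory.Limits AlgebraicGeometry Opposite Abelian

universe u

namespace Groth.Agent.Lib.ProEtQcqs95

open Groth.Agent.Lib.QCSiteColim

variable {X : Scheme.{u}}

section Instances

variable (X)

set_option backward.isDefEq.respectTransparency.types false in
instance : (Scheme.ProEt.precoverage X).HasIsos := by
  unfold Scheme.ProEt.precoverage; infer_instance

set_option backward.isDefEq.respectTransparency.types false in
instance : (Scheme.ProEt.precoverage X).IsStableUnderComposition := by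
  unfold Scheme.ProEt.precoverage; infer_instance

set_option backward.isDefEq.respectTransparency.types false in
instance : (Scheme.ProEt.precoverage X).IsStableUnderBaseChange := by
  unfold Scheme.ProEt.precoverage; infer_instance

end Instances

set_option backward.isDefEq.respectTransparency.types false in
lemma weaklyEtale_left {U V : X.ProEt} (f : V ⟶ U) : WeaklyEtale f.left := by
  have h1 : f.left ≫ U.hom = V.hom := MorphismProperty.Over.w f
  haveI : WeaklyEtale (f.left ≫ U.hom) := by rw [h1]; infer_instance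
  exact WeaklyEtale.of_comp f.left U.hom

set_option backward.isDefEq.respectTransparency.types false in
/-- a family in the small pro-étale site whose underlying family of schemes is a jointly surjective
quasi-compact cover is a covering family -/
lemma ofArrows_mem_precoverage_of_qc {U : X.ProEt} {ι : Type*}
    (V : ι → X.ProEt) (f : ∀ i, V i ⟶ U)
    (hf : ∀ x : U.left, ∃ i, x ∈ Set.range (f i).left)
    (hqc : QuasiCompactCover
      (⟨ι, fun i => (V i).left, fun i => (f i).left⟩ : PreZeroHypercover U.left)) :
    Presieve.ofArrows V f ∈ Scheme.ProEt.precoverage X U := by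
  show (Presieve.ofArrows V f).map (Scheme.ProEt.forget X ⋙ Over.forget X) ∈
    Scheme.proetalePrecoverage U.left
  rw [Presieve.map_ofArrows]
  let E : PreZeroHypercover U.left := ⟨ι, fun i => (V i).left, fun i => (f i).left⟩
  show E.presieve₀ ∈ Scheme.proetalePrecoverage U.left
  refine ⟨Scheme.presieve₀_mem_qcPrecoverage_iff.2 hqc, ?_⟩
  rw [Scheme.presieve₀_mem_precoverage_iff]
  exact ⟨hf, fun i => weaklyEtale_left (f i)⟩

set_option backward.isDefEq.respectTransparency.types false in
/-- a finite family of morphisms in the small pro-étale site with quasi-compact sources and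
quasi-separated target, jointly surjective, is a covering family -/
lemma ofArrows_mem_precoverage_of_finite {U : X.ProEt} [QuasiSeparatedSpace U.left]
    {ι : Type*} [Finite ι]
    (V : ι → X.ProEt) (f : ∀ i, V i ⟶ U) [∀ i, CompactSpace (V i).left]
    (hf : ∀ x : U.left, ∃ i, x ∈ Set.range (f i).left) :
    Presieve.ofArrows V f ∈ Scheme.ProEt.precoverage X U := by
  refine ofArrows_mem_precoverage_of_qc V f hf ?_
  let 𝒰 : U.left.Cover (Scheme.precoverage @WeaklyEtale) :=
    Scheme.Cover.mkOfCovers ι (fun i => (V i).left) (fun i => (f i).left)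
      (fun x => by
        obtain ⟨i, y, hy⟩ := hf x
        exact ⟨i, y, hy⟩)
      (fun i => weaklyEtale_left (f i))
  have h1 : ∀ i, QuasiCompact (𝒰.f i) := fun i => by
    show QuasiCompact (f i).left
    infer_instance
  have h2 : Finite 𝒰.I₀ := ‹Finite ι›
  exact (QuasiCompactCover.of_finite (𝒰 := 𝒰))

section Abstract

variable {D : Type*} [Category D] (G : D ⥤ X.ProEt) [G.Full] [G.Faithful]

set_option backward.isDefEq.respectTransparency.types false in
/-- a fully faithful functor to the small pro-étale site whose essential image contains the weakly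
étale `X`-schemes with affine source is cover-dense. -/
lemma isCoverDense_of_affine
    (hsurj : ∀ U : X.ProEt, IsAffine U.left → ∃ d : D, Nonempty (G.obj d ≅ U)) :
    G.IsCoverDense (Scheme.ProEt.topology X) where
  is_cover U := by
    let 𝒰 := U.left.affineCover
    let V : 𝒰.I₀ → X.ProEt := fun i => Scheme.ProEt.mk (𝒰.f i ≫ U.hom)
    let f : ∀ i, V i ⟶ U := fun i => MorphismProperty.Over.homMk (𝒰.f i) rfl
    have hmem : Presieve.ofArrows V f ∈ Scheme.ProEt.precoverage X U := by
      refine ofArrows_mem_precoverage_of_qc V f (fun x => ?_) ?_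
      · obtain ⟨y, hy⟩ := 𝒰.covers x
        exact ⟨𝒰.idx x, y, hy⟩
      · exact (inferInstance : QuasiCompactCover 𝒰.toPreZeroHypercover)
    refine GrothendieckTopology.superset_covering _ ?_
      (Precoverage.generate_mem_toGrothendieck hmem)
    rintro Y g ⟨Z, a, b, ⟨i⟩, rfl⟩
    have : IsAffine (V i).left := inferInstanceAs (IsAffine (𝒰.X i))
    obtain ⟨d, ⟨e⟩⟩ := hsurj (V i) this
    exact ⟨⟨d, a ≫ e.inv, e.hom ≫ f i, by simp⟩⟩

set_option backward.isDefEq.respectTransparency.types false in
/-- if all objects in the image have qcqs source, every object is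
quasi-compact for the induced topology. -/
lemma qc_inducedTopology_of_compact [G.IsCoverDense (Scheme.ProEt.topology X)]
    (hG : ∀ d : D, CompactSpace (G.obj d).left ∧ QuasiSeparatedSpace (G.obj d).left)
    (hsurj : ∀ U : X.ProEt, IsAffine U.left → ∃ d : D, Nonempty (G.obj d ≅ U)) (d : D) :
    QC (G.inducedTopology (Scheme.ProEt.topology X)) d := by
  classical
  intro S hS
  rw [Functor.mem_inducedTopology_iff_of_isCoverDense,
    Precoverage.mem_toGrothendieck_iff_of_isStableUnderComposition] at hS
  obtain ⟨R, hR, hle⟩ := hS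
  obtain ⟨ι, Y, f, rfl⟩ := R.exists_eq_ofArrows
  have hR' : (Presieve.ofArrows Y f).map (Scheme.ProEt.forget X ⋙ Over.forget X) ∈
    Scheme.proetalePrecoverage (G.obj d).left := hR
  rw [Presieve.map_ofArrows] at hR'
  let E : PreZeroHypercover (G.obj d).left := ⟨ι, fun i => (Y i).left, fun i => (f i).left⟩
  have hqc : QuasiCompactCover E := Scheme.presieve₀_mem_qcPrecoverage_iff.1 hR'.1
  have := (hG d).1
  have := (hG d).2
  obtain ⟨n, a, V, hV, hcov⟩ := QuasiCompactCover.exists_isAffineOpen_of_isCompact E
    (U := ⊤) isCompact_univ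
  -- the affine pieces as objects of the site
  let W : Fin n → X.ProEt := fun k => Scheme.ProEt.mk ((V k).ι ≫ (Y (a k)).hom)
  let g : ∀ k, W k ⟶ Y (a k) := fun k => MorphismProperty.Over.homMk (V k).ι rfl
  have hWaff : ∀ k, IsAffine (W k).left := fun k => hV k
  choose dk ek using fun k => hsurj (W k) (hWaff k)
  let e : ∀ k, G.obj (dk k) ≅ W k := fun k => (ek k).some
  let t : ∀ k, dk k ⟶ d := fun k => G.preimage ((e k).hom ≫ g k ≫ f (a k))
  have ht : ∀ k, G.map (t k) = (e k).hom ≫ g k ≫ f (a k) := fun k => G.map_preimage _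
  have hSt : ∀ k, S (t k) := by
    intro k
    have h1 : (Sieve.functorPushforward G S).arrows (f (a k)) := hle _ _ (Presieve.ofArrows.mk (a k))
    have h2 : (Sieve.functorPushforward G S).arrows (((e k).hom ≫ g k) ≫ f (a k)) :=
      Sieve.downward_closed _ h1 _
    obtain ⟨W', s, h, hs, hfac⟩ := h2
    have h3 : t k = G.preimage h ≫ s := by
      apply G.map_injective
      rw [ht, G.map_comp, G.map_preimage, ← hfac, Category.assoc]
    rw [h3]
    exact S.downward_closed hs _
  refine ⟨n, dk, t, hSt, ?_⟩
  rw [Functor.mem_inducedTopology_iff_of_isCoverDense]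
  have hcompact : ∀ k, CompactSpace (G.obj (dk k)).left := fun k => (hG (dk k)).1
  have hmem : Presieve.ofArrows (fun k => G.obj (dk k)) (fun k => G.map (t k)) ∈
      Scheme.ProEt.precoverage X (G.obj d) := by
    refine ofArrows_mem_precoverage_of_finite _ _ (fun x => ?_)
    have hx : x ∈ ⋃ i, (E.f (a i)) '' (V i) := by
      rw [hcov]; trivial
    obtain ⟨k, y, hy, rfl⟩ := Set.mem_iUnion.1 hx
    refine ⟨k, (e k).inv.left ⟨y, hy⟩, ?_⟩
    rw [ht]
    have h0 : (e k).inv ≫ ((e k).hom ≫ g k ≫ f (a k)) = g k ≫ f (a k) := by simp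
    have h1 : (e k).inv.left ≫ ((e k).hom ≫ g k ≫ f (a k)).left = (V k).ι ≫ (f (a k)).left :=
      congrArg (fun m => m.left) h0
    have h2 := Scheme.Hom.comp_apply (e k).inv.left ((e k).hom ≫ g k ≫ f (a k)).left ⟨y, hy⟩
    rw [← h2, h1]
    exact Scheme.Hom.comp_apply (V k).ι (f (a k)).left ⟨y, hy⟩
  refine GrothendieckTopology.superset_covering _ ?_
    (Precoverage.generate_mem_toGrothendieck hmem)
  rintro Z q ⟨Z', a', b', ⟨k⟩, rfl⟩
  exact ⟨dk k, t k, a', (Sieve.mem_ofArrows_iff _ _ _).2 ⟨k, 𝟙 _, by simp⟩, rfl⟩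

end Abstract

/-- weakly étale `X`-schemes whose underlying scheme is quasi-compact and quasi-separated -/
def P₁ (X : Scheme.{u}) : ObjectProperty X.ProEt :=
  fun U => CompactSpace U.left ∧ QuasiSeparatedSpace U.left

set_option backward.isDefEq.respectTransparency.types false in
lemma p₁_of_isPullback {Z A B W : X.ProEt} {p : Z ⟶ A} {q : Z ⟶ B} {f : A ⟶ W} {g : B ⟶ W}
    (sq : IsPullback p q f g) (hA : P₁ X A) (hB : P₁ X B) (hW : P₁ X W) : P₁ X Z := by
  have sq' := sq.map (Scheme.ProEt.forget X ⋙ Over.forget X)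
  let e : Z.left ≅ pullback f.left g.left := sq'.isoPullback
  have := hA.1
  have := hA.2
  have := hB.1
  have := hB.2
  have := hW.2
  have h1 : CompactSpace ↥(pullback f.left g.left) :=
    QuasiCompact.compactSpace_of_compactSpace (pullback.snd f.left g.left)
  have h2 : QuasiSeparatedSpace ↥(pullback f.left g.left) :=
    quasiSeparatedSpace_of_quasiSeparated (pullback.snd f.left g.left)
  constructor
  · exact (e.hom.homeomorph).symm.compactSpace
  · exact quasiSeparatedSpace_of_quasiSeparated e.hom

instance : (P₁ X).IsClosedUnderLimitsOfShape WalkingCospan where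
  limitsOfShape_le := by
    rintro Z ⟨h⟩
    exact p₁_of_isPullback (IsPullback.of_isLimit_cone h.isLimit) (h.prop_diag_obj _)
      (h.prop_diag_obj _) (h.prop_diag_obj _)

/-- the category of weakly étale `X`-schemes with qcqs source -/
abbrev D₁ (X : Scheme.{u}) : Type (u + 1) := (P₁ X).FullSubcategory

example (X : Scheme.{u}) : HasPullbacks (D₁ X) := inferInstance

section SmallSite

variable (X : Scheme.{u})

/-- a small model of the qcqs-source part of the small pro-étale site -/
abbrev C₁ : Type (u + 1) := AsSmall.{u + 1} (D₁ X)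

/-- the equivalence with the small model -/
abbrev down₁ : C₁ X ⥤ D₁ X := AsSmall.down.{u, u + 1, u + 1}

/-- the equivalence with the small model -/
abbrev up₁ : D₁ X ⥤ C₁ X := AsSmall.up.{u, u + 1, u + 1}

instance : (down₁ X).IsEquivalence :=
  (AsSmall.equiv.{u, u + 1, u + 1} (C := D₁ X)).isEquivalence_inverse

instance : (up₁ X).IsEquivalence :=
  (AsSmall.equiv.{u, u + 1, u + 1} (C := D₁ X)).isEquivalence_functor

instance : HasPullbacks (C₁ X) :=
  Adjunction.hasLimitsOfShape_of_equivalence (down₁ X)

/-- the inclusion into the small pro-étale site -/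
def G₁ : C₁ X ⥤ X.ProEt := down₁ X ⋙ (P₁ X).ι

instance : (G₁ X).Full := by unfold G₁; infer_instance

instance : (G₁ X).Faithful := by unfold G₁; infer_instance

/-- the object of the small model attached to a qcqs-source weakly étale `X`-scheme -/
def mk₁ (U : X.ProEt) (hU : P₁ X U) : C₁ X := (up₁ X).obj ⟨U, hU⟩

lemma g₁_mk₁ (U : X.ProEt) (hU : P₁ X U) : (G₁ X).obj (mk₁ X U hU) = U := rfl

lemma p₁_g₁ (d : C₁ X) : P₁ X ((G₁ X).obj d) := ((down₁ X).obj d).property

set_option backward.isDefEq.respectTransparency.types false in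
lemma g₁_surj (U : X.ProEt) (h : IsAffine U.left) :
    ∃ d : C₁ X, Nonempty ((G₁ X).obj d ≅ U) :=
  ⟨mk₁ X U ⟨inferInstance, inferInstance⟩, ⟨Iso.refl _⟩⟩

instance : (G₁ X).IsCoverDense (Scheme.ProEt.topology X) :=
  isCoverDense_of_affine (G₁ X) (g₁_surj X)

/-- the induced topology -/
abbrev J₁ : GrothendieckTopology (C₁ X) := (G₁ X).inducedTopology (Scheme.ProEt.topology X)

set_option backward.isDefEq.respectTransparency.types false in
lemma qc_J₁ (d : C₁ X) : QC (J₁ X) d :=
  qc_inducedTopology_of_compact (G₁ X) (fun d => p₁_g₁ X d) (g₁_surj X) d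

example : HasSheafify (J₁ X) AddCommGrpCat.{u + 1} := inferInstance
example : HasExt.{u + 1} (Sheaf (J₁ X) AddCommGrpCat.{u + 1}) := inferInstance

/-- restriction to the small qcqs-source site -/
noncomputable abbrev Ψ₁ : ProEtS.AbP X ⥤ Sheaf (J₁ X) AddCommGrpCat.{u + 1} :=
  (G₁ X).sheafPushforwardContinuous AddCommGrpCat.{u + 1} (J₁ X) (Scheme.ProEt.topology X)

instance : (Ψ₁ X).IsEquivalence := inferInstance

instance : (Ψ₁ X).Additive where

end SmallSite

section Final

open Groth.Agent.Lib.QCSiteCoh95 Groth.Agent.Lib.EtQcqs95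

variable (X : Scheme.{u}) [CompactSpace X] [QuasiSeparatedSpace X]

lemma p₁_top : P₁ X (Scheme.ProEt.mk (𝟙 X)) :=
  ⟨inferInstanceAs (CompactSpace X), inferInstanceAs (QuasiSeparatedSpace X)⟩

set_option backward.isDefEq.respectTransparency.types false in
/-- the terminal object of the small pro-étale site -/
noncomputable def isTerminalTopP : IsTerminal (Scheme.ProEt.mk (𝟙 X)) :=
  MorphismProperty.Over.mkIdTerminal (@WeaklyEtale) X

/-- the terminal object -/
noncomputable def isTerminalT₁ : IsTerminal (mk₁ X _ (p₁_top X)) := by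
  have h1 : IsTerminal ((⟨_, p₁_top X⟩ : D₁ X)) :=
    IsTerminal.isTerminalOfObj (P₁ X).ι _ (isTerminalTopP X)
  exact IsTerminal.isTerminalObj (up₁ X) _ h1

theorem preservesColimitsOfShape_functorH_J₁ (p : ℕ) (I : Type (u + 1)) [SmallCategory I]
    [IsFiltered I] :
    PreservesColimitsOfShape I (Sheaf.functorH.{u + 1, u + 1, u + 1, u + 1} (J₁ X) p) := by
  exact preservesColimitsOfShape_functorH_of_qc.{u + 1} (qc_J₁ X) (isTerminalT₁ X) p I

/-- the constant sheaf restricts to the constant sheaf -/
noncomputable def constIso (M : AddCommGrpCat.{u + 1}) :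
    (Ψ₁ X).obj ((constantSheaf (Scheme.ProEt.topology X) AddCommGrpCat.{u + 1}).obj M) ≅
      (constantSheaf (J₁ X) AddCommGrpCat.{u + 1}).obj M :=
  ((Functor.IsDenseSubsite.sheafEquivSheafificationCompatibility (J₁ X) (Scheme.ProEt.topology X)
    (G₁ X) AddCommGrpCat.{u + 1}).app ((Functor.const _).obj M)).symm

/-- pro-étale cohomology computed on the small qcqs site -/
noncomputable def HPFIso (n : ℕ) :
    ProEtS.HPF X n ≅ Ψ₁ X ⋙ Sheaf.functorH.{u + 1, u + 1, u + 1, u + 1} (J₁ X) n :=
  (NatIso.ofComponents (fun F => Iso.refl _) (by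
    intro F F' f
    rfl) : ProEtS.HPF X n ≅ extFunctorObj.{u + 1}
      ((constantSheaf (Scheme.ProEt.topology X) AddCommGrpCat.{u + 1}).obj
        (AddCommGrpCat.of (ULift ℤ))) n) ≪≫
  extFunctorObjIso (Ψ₁ X) _ n ≪≫
  Functor.isoWhiskerLeft (Ψ₁ X) ((extFunctor.{u + 1} n).mapIso
    (constIso X (AddCommGrpCat.of (ULift ℤ))).symm.op) ≪≫
  Functor.isoWhiskerLeft (Ψ₁ X) (NatIso.ofComponents (fun F => Iso.refl _) (by
    intro F F' f
    rfl))

/-- pro-étale cohomology of a qcqs scheme commutes with (`u+1`-small) filtered colimits. -/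
theorem preservesColimitsOfShape_HPF (n : ℕ) (I : Type (u + 1)) [SmallCategory I]
    [IsFiltered I] :
    PreservesColimitsOfShape I (ProEtS.HPF X n) := by
  have h1 : PreservesColimitsOfShape I
      (Sheaf.functorH.{u + 1, u + 1, u + 1, u + 1} (J₁ X) n) :=
    preservesColimitsOfShape_functorH_J₁ X n _
  have h2 : PreservesColimitsOfShape I
      (Ψ₁ X ⋙ Sheaf.functorH.{u + 1, u + 1, u + 1, u + 1} (J₁ X) n) := inferInstance
  exact preservesColimitsOfShape_of_natIso (HPFIso X n).symm

/-- pro-étale cohomology of a qcqs scheme commutes with (`u`-small) filtered colimits. -/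
theorem preservesColimitsOfShape_HPF' (n : ℕ) (J : Type u) [SmallCategory J] [IsFiltered J] :
    PreservesColimitsOfShape J (ProEtS.HPF X n) := by
  let e : J ≌ AsSmall.{u + 1} J := AsSmall.equiv.{u, u, u + 1}
  have : IsFiltered (AsSmall.{u + 1} J) := IsFiltered.of_equivalence e
  have h3 : PreservesColimitsOfShape (AsSmall.{u + 1} J) (ProEtS.HPF X n) :=
    preservesColimitsOfShape_HPF X n _
  exact preservesColimitsOfShape_of_equiv e.symm _

end Final

end Groth.Agent.Lib.ProEtQcqs95
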