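import Groth.Agent.Lib.ProEtClosedUnit22b

/-!
# Recollement for pro-étale sheaves: preliminaries (helper22)

* `hom_ext_wContractible`, `mono_of_forall_wContractible`, `isZero_of_forall_wContractible`;
* `exists_decomp`: clopen decomposition of a w-contractible affine along a quasi-compact open
  immersion;
* `eq_of_restrict_eq`: sections are determined by their restrictions to a clopen decomposition.
-/

set_option autoImplicit false
set_option linter.style.haveILetI false
universe u

open CategoryTheory AlgebraicGeometry Limits MorphismProperty Opposite TopologicalSpace ProEtS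

namespace Groth.Agent.Lib.ProEtRecollement22

open Groth.Agent.Lib.ProEtWC22 Groth.Agent.Lib.ProEtCover22 Groth.Agent.Lib.ProEtExtZeroLim22

section detect

variable {X : Scheme.{u}}

/-- Morphisms of abelian sheaves agreeing on sections over w-contractible affines are equal. -/
theorem hom_ext_wContractible {A B : ProEtS.AbP X} (φ ψ : A ⟶ B)
    (h : ∀ (V : X.ProEt), IsAffine V.left → EtPBC.IsWContractible Γ(V.left, ⊤) →
      ∀ x : A.obj.obj (op V), (φ.hom.app (op V)).hom x = (ψ.hom.app (op V)).hom x) : φ = ψ := by
  apply Sheaf.hom_ext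
  apply NatTrans.ext
  funext W
  apply AddCommGrpCat.hom_ext
  apply AddMonoidHom.ext
  intro x
  induction W with | op W => ?_
  apply section_ext_ab B W
  intro V g hV1 hV2
  have e1 := congrArg (fun m => m.hom x) (φ.hom.naturality g.op)
  have e2 := congrArg (fun m => m.hom x) (ψ.hom.naturality g.op)
  exact e1.symm.trans ((h V hV1 hV2 _).trans e2)

/-- A morphism of abelian sheaves injective on sections over w-contractible affines is mono. -/
theorem mono_of_forall_wContractible {A B : ProEtS.AbP X} (φ : A ⟶ B)
    (h : ∀ (V : X.ProEt), IsAffine V.left → EtPBC.IsWContractible Γ(V.left, ⊤) →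
      ∀ x : A.obj.obj (op V), (φ.hom.app (op V)).hom x = 0 → x = 0) : Mono φ := by
  constructor
  intro T a b hab
  apply hom_ext_wContractible
  intro V hV1 hV2 x
  have h1 : (φ.hom.app (op V)).hom ((a.hom.app (op V)).hom x - (b.hom.app (op V)).hom x) = 0 := by
    rw [map_sub, sub_eq_zero]
    exact congrArg (fun m => (m.hom.app (op V)).hom x) hab
  exact sub_eq_zero.1 (h V hV1 hV2 _ h1)

/-- An abelian sheaf with no nonzero sections over w-contractible affines is zero. -/
theorem isZero_of_forall_wContractible (A : ProEtS.AbP X)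
    (h : ∀ (V : X.ProEt), IsAffine V.left → EtPBC.IsWContractible Γ(V.left, ⊤) →
      Subsingleton (A.obj.obj (op V))) : IsZero A := by
  rw [IsZero.iff_id_eq_zero]
  apply hom_ext_wContractible
  intro V hV1 hV2 x
  haveI := h V hV1 hV2
  exact Subsingleton.elim _ _

/-- Sections of a zero sheaf are trivial. -/
theorem subsingleton_of_isZero (A : ProEtS.AbP X) (hA : IsZero A) (V : X.ProEt) :
    Subsingleton (A.obj.obj (op V)) := by
  have h0 : 𝟙 A = 0 := (IsZero.iff_id_eq_zero A).1 hA
  refine ⟨fun a b => ?_⟩
  have ha := congrArg (fun m => (m.hom.app (op V)).hom a) h0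
  have hb := congrArg (fun m => (m.hom.app (op V)).hom b) h0
  exact ha.trans hb.symm

end detect

section glue

variable {X : Scheme.{u}}

/-- Sections are determined by their restrictions to the two pieces of a clopen decomposition. -/
theorem eq_of_restrict_eq (G : ProEtS.AbP X) (W : X.ProEt) (C C' : W.left.Opens)
    (hcov : C ⊔ C' = ⊤) (hdis : Disjoint C C') (x y : G.obj.obj (op W))
    (h1 : G.obj.map (opensHom W C).op x = G.obj.map (opensHom W C).op y)
    (h2 : G.obj.map (opensHom W C').op x = G.obj.map (opensHom W C').op y) : x = y := by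
  let J := Scheme.ProEt.topology X
  let G' : Sheaf J (Type (u + 1)) := (sheafCompose J (forget AddCommGrpCat.{u + 1})).obj G
  let Wf : Bool → W.left.Opens := fun b => match b with
    | true => C
    | false => C'
  have hW : IsOpenCover Wf := by
    show ⨆ b, Wf b = ⊤
    rw [iSup_bool_eq]
    exact hcov
  have hd : Pairwise (fun a b => Disjoint (Wf a) (Wf b)) := by
    intro a b hab
    match a, b with
    | true, true => exact absurd rfl hab
    | false, false => exact absurd rfl hab
    | true, false => exact hdis
    | false, true => exact hdis.symm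
  let t : ∀ b, G'.obj.obj (op (opensObj W (Wf b))) := fun b =>
    G'.obj.map (opensHom W (Wf b)).op y
  obtain ⟨s0, -, hs0⟩ := existsUnique_amalgamation G' W Wf hW hd t
  have e2 : y = s0 := hs0 y (fun b => rfl)
  have e1 : x = s0 := by
    apply hs0 x
    intro b
    match b with
    | true => exact h1
    | false => exact h2
  exact e1.trans e2.symm

end glue

section decomp

variable {U X : Scheme.{u}} (j : U ⟶ X) [IsOpenImmersion j] [QuasiCompact j]

/-- Clopen decomposition of a w-contractible affine along a quasi-compact open immersion. -/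
theorem exists_decomp (W : X.ProEt) [IsAffine W.left]
    (hW : EtPBC.IsWContractible Γ(W.left, ⊤)) :
    ∃ C C' : W.left.Opens, C ⊔ C' = ⊤ ∧ Disjoint C C' ∧ C ≤ W.hom ⁻¹ᵁ j.opensRange ∧
      IsAffine (opensObj W C').left ∧
      ∀ v : (opensObj W C').left, ∃ z : (opensObj W C').left,
        (opensObj W C').hom z ∈ (Set.range j)ᶜ ∧ v ⤳ z := by
  let O : W.left.Opens := W.hom ⁻¹ᵁ j.opensRange
  have hO : IsCompact (O : Set W.left) := by
    have hrc := Groth.Agent.Lib.ProEtClosedPush22.isRetrocompact_preimage W.hom
      j.opensRange.isOpen (isRetrocompact_range_of_quasiCompact j)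
    have h2 := hrc (isCompact_univ (X := ↥W.left)) isOpen_univ
    rwa [Set.inter_univ] at h2
  obtain ⟨C, C', hcov, hdis, hCO, hC'⟩ := exists_clopen_decomp W hW O hO
  have hcompl : (C' : Set W.left) = (C : Set W.left)ᶜ := by
    ext x
    constructor
    · intro hx hxC
      exact (Opens.coe_disjoint.2 hdis).le_bot ⟨hxC, hx⟩
    · intro hx
      have h1 : x ∈ C ⊔ C' := hcov.symm ▸ (show x ∈ (⊤ : W.left.Opens) from trivial)
      rcases h1 with h1 | h1
      · exact absurd h1 hx
      · exact h1
  refine ⟨C, C', hcov, hdis, hCO, ?_, ?_⟩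
  · exact isAffine_of_isClosed_opens W.left C' (by rw [hcompl]; exact C.isOpen.isClosed_compl)
  · intro v
    obtain ⟨z, hzC', hzO, hvz⟩ := hC' (C'.ι v) v.2
    refine ⟨⟨z, hzC'⟩, ?_, ?_⟩
    · intro hz
      apply hzO
      have h1 : (opensObj W C').hom ⟨z, hzC'⟩ = W.hom z := by
        change (C'.ι ≫ W.hom) ⟨z, hzC'⟩ = W.hom z
        rw [Scheme.Hom.comp_apply]
        rfl
      rw [h1] at hz
      exact hz
    · have hemb : Topology.IsInducing C'.ι := C'.ι.isOpenEmbedding.isInducing
      exact hemb.specializes_iff.1 hvz

end decomp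

end Groth.Agent.Lib.ProEtRecollement22
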