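import Groth.Agent.Lib.ProEtRecollement22a

/-!
# Recollement for pro-étale sheaves: joint conservativity of `i⁻¹` and `j⁻¹` (helper22)
-/

set_option autoImplicit false
set_option linter.style.haveILetI false
universe u

open CategoryTheory AlgebraicGeometry Limits MorphismProperty Opposite TopologicalSpace ProEtS

namespace Groth.Agent.Lib.ProEtRecollement22

open Groth.Agent.Lib.ProEtWC22 Groth.Agent.Lib.ProEtCover22 Groth.Agent.Lib.ProEtExtZeroLim22
  Groth.Agent.Lib.ProEtExtZeroUnit22 Groth.Agent.Lib.ProEtClosedUnit22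

variable {X Z U : Scheme.{u}} (i : Z ⟶ X) (j : U ⟶ X) [IsOpenImmersion j]

section vanish

variable (hdisj : Disjoint (Set.range j) (Set.range i))

include hdisj in
theorem isEmpty_bcP_compP (V : U.ProEt) : IsEmpty ((bcP i).obj ((compP j).obj V)).left := by
  refine ⟨fun p => ?_⟩
  let a : pullback (V.hom ≫ j) i ⟶ V.left := pullback.fst (V.hom ≫ j) i
  let b : pullback (V.hom ≫ j) i ⟶ Z := pullback.snd (V.hom ≫ j) i
  have hcond : a ≫ V.hom ≫ j = b ≫ i := pullback.condition
  have h1 : j (V.hom (a p)) = i (b p) := by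
    have h2 := congrArg (fun m : pullback (V.hom ≫ j) i ⟶ X => m p) hcond
    change (a ≫ V.hom ≫ j) p = (b ≫ i) p at h2
    rw [Scheme.Hom.comp_apply, Scheme.Hom.comp_apply, Scheme.Hom.comp_apply] at h2
    exact h2
  exact (Set.disjoint_left.1 hdisj) ⟨V.hom (a p), rfl⟩ ⟨b p, h1.symm⟩

variable [ProEtS.JPCont j] [ProEtS.PCont i]

include hdisj in
/-- `j⁻¹ i_* = 0`. -/
theorem isZero_restrP_pushP (H : ProEtS.AbP Z) :
    IsZero ((ProEtS.restrP j).obj ((ProEtS.pushP i).obj H)) := by
  rw [IsZero.iff_id_eq_zero]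
  apply Sheaf.hom_ext
  apply NatTrans.ext
  funext V
  apply AddCommGrpCat.hom_ext
  apply AddMonoidHom.ext
  intro x
  induction V with | op V => ?_
  haveI := isEmpty_bcP_compP i j hdisj V
  haveI : Subsingleton (H.obj.obj (op ((bcP i).obj ((compP j).obj V)))) :=
    subsingleton_of_isEmpty
      ((sheafCompose (Scheme.ProEt.topology Z) (forget AddCommGrpCat.{u + 1})).obj H)
      ((bcP i).obj ((compP j).obj V))
  exact Subsingleton.elim (α := H.obj.obj (op ((bcP i).obj ((compP j).obj V)))) _ _

include hdisj in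
/-- There are no nonzero morphisms `j_! A ⟶ i_* H`. -/
theorem hom_extZeroP_pushP_eq_zero (A : ProEtS.AbP U) (H : ProEtS.AbP Z)
    (φ : (ProEtS.extZeroP j).obj A ⟶ (ProEtS.pushP i).obj H) : φ = 0 := by
  apply ((ProEtS.extZeroPAdj j).homEquiv _ _).injective
  exact (isZero_restrP_pushP i j hdisj H).eq_of_tgt _ _

end vanish

section conservative

variable [IsClosedImmersion i] [QuasiCompact j] (hc : (Set.range j)ᶜ = Set.range i)
  [ProEtS.JPCont j] [ProEtS.PCont i]

omit [QuasiCompact j] [ProEtS.JPCont j] in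
/-- Restriction along the isomorphism `liftToOpens` is injective. -/
theorem eq_zero_of_map_liftToOpens_eq_zero (G : ProEtS.AbP X) (W : X.ProEt) (C : W.left.Opens)
    (hCO : C ≤ W.hom ⁻¹ᵁ j.opensRange) (s : G.obj.obj (op (opensObj W C)))
    (h : (G.obj.map (liftToOpens j W C hCO).op).hom s = 0) : s = 0 := by
  have e : G.obj.map (liftToOpens j W C hCO).op ≫ G.obj.map (opensToLift j W C hCO).op = 𝟙 _ := by
    rw [← G.obj.map_comp, ← op_comp, opensToLift_liftToOpens, op_id, G.obj.map_id]
  have e1 : (G.obj.map (opensToLift j W C hCO).op).hom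
      ((G.obj.map (liftToOpens j W C hCO).op).hom s) = s := congrArg (fun m => m.hom s) e
  rw [← e1, h, map_zero]

include hc in
/-- **Joint conservativity**: a sheaf whose restrictions to `Z` and `U` vanish is zero. -/
theorem isZero_of_isZero_pullP_restrP (G : ProEtS.AbP X)
    (h1 : IsZero ((ProEtS.pullP i).obj G)) (h2 : IsZero ((ProEtS.restrP j).obj G)) :
    IsZero G := by
  apply isZero_of_forall_wContractible
  intro W hW1 hW2
  haveI := hW1
  obtain ⟨C, C', hcov, hdis, hCO, haff, hspec⟩ := exists_decomp j W hW2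
  haveI := haff
  have hC' : ∀ s : G.obj.obj (op (opensObj W C')), s = 0 := by
    intro s
    apply unit_app_eq_zero_of_specializes i G (opensObj W C') (fun v => by
      obtain ⟨z, hz, hvz⟩ := hspec v
      exact ⟨z, hc ▸ hz, hvz⟩) s
    haveI : Subsingleton (((ProEtS.pullP i).obj G).obj.obj (op ((bcP i).obj (opensObj W C')))) :=
      subsingleton_of_isZero ((ProEtS.pullP i).obj G) h1 ((bcP i).obj (opensObj W C'))
    exact Subsingleton.elim
      (α := ((ProEtS.pullP i).obj G).obj.obj (op ((bcP i).obj (opensObj W C')))) _ _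
  have hC : ∀ s : G.obj.obj (op (opensObj W C)), s = 0 := by
    intro s
    apply eq_zero_of_map_liftToOpens_eq_zero j G W C hCO s
    haveI : Subsingleton (((ProEtS.restrP j).obj G).obj.obj (op (liftObj j W C hCO))) :=
      subsingleton_of_isZero _ h2 _
    exact Subsingleton.elim
      (α := ((ProEtS.restrP j).obj G).obj.obj (op (liftObj j W C hCO))) _ _
  exact ⟨fun a b => eq_of_restrict_eq G W C C' hcov hdis a b ((hC _).trans (hC _).symm)
    ((hC' _).trans (hC' _).symm)⟩

end conservative

end Groth.Agent.Lib.ProEtRecollement22
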