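import Groth.Agent.Lib.ProEtRecollement22b
import Mathlib.CategoryTheory.Abelian.Exact

/-!
# Recollement for pro-étale sheaves: `0 → j_! j⁻¹ F → F → i_* i⁻¹ F → 0` (helper22)
-/

set_option autoImplicit false
set_option linter.style.haveILetI false
universe u

open CategoryTheory AlgebraicGeometry Limits MorphismProperty Opposite TopologicalSpace ProEtS

namespace Groth.Agent.Lib.ProEtRecollement22

open Groth.Agent.Lib.ProEtWC22 Groth.Agent.Lib.ProEtCover22 Groth.Agent.Lib.ProEtExtZeroLim22
  Groth.Agent.Lib.ProEtExtZeroUnit22 Groth.Agent.Lib.ProEtClosedUnit22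
  Groth.Agent.Lib.ProEtClosedDense22

variable {X Z U : Scheme.{u}} (i : Z ⟶ X) [IsClosedImmersion i] (j : U ⟶ X) [IsOpenImmersion j]
  [QuasiCompact j] (hc : (Set.range j)ᶜ = Set.range i) [ProEtS.JPCont j] [ProEtS.PCont i]
  (F : ProEtS.AbP X)

section epi

include hc in
/-- The unit `F ⟶ i_* i⁻¹ F` is an epimorphism. -/
theorem epi_unit_pullPushAdjP : Epi ((ProEtS.pullPushAdjP i).unit.app F) := by
  have hdisj : Disjoint (Set.range j) (Set.range i) := by
    rw [← hc]
    exact disjoint_compl_right
  let η := (ProEtS.pullPushAdjP i).unit.app F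
  let π := cokernel.π η
  have hηπ : η ≫ π = 0 := cokernel.condition η
  apply Abelian.epi_of_cokernel_π_eq_zero
  have hQ : IsZero (cokernel η) := by
    apply isZero_of_isZero_pullP_restrP i j hc
    · -- `i⁻¹`
      haveI : IsIso (ProEtS.pullPushAdjP i).counit := isIso_counit_pullPushAdjP i
      have htri : (ProEtS.pullP i).map η ≫
          (ProEtS.pullPushAdjP i).counit.app ((ProEtS.pullP i).obj F) = 𝟙 _ :=
        (ProEtS.pullPushAdjP i).left_triangle_components F
      haveI : IsIso ((ProEtS.pullP i).map η ≫
          (ProEtS.pullPushAdjP i).counit.app ((ProEtS.pullP i).obj F)) := by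
        rw [htri]; infer_instance
      haveI : IsIso ((ProEtS.pullP i).map η) :=
        IsIso.of_isIso_comp_right _ ((ProEtS.pullPushAdjP i).counit.app ((ProEtS.pullP i).obj F))
      haveI : (ProEtS.pullP i).PreservesEpimorphisms :=
        Functor.preservesEpimorphisms_of_adjunction (ProEtS.pullPushAdjP i)
      haveI : (ProEtS.pullP i).IsLeftAdjoint := (ProEtS.pullPushAdjP i).isLeftAdjoint
      haveI : Epi ((ProEtS.pullP i).map π) := inferInstance
      have h0 : (ProEtS.pullP i).map η ≫ (ProEtS.pullP i).map π = 0 := by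
        rw [← Functor.map_comp, hηπ, Functor.map_zero]
      have h1 : (ProEtS.pullP i).map π = 0 := by
        rw [← cancel_epi ((ProEtS.pullP i).map η), h0, comp_zero]
      exact IsZero.of_epi_eq_zero _ h1
    · -- `j⁻¹`
      let adj₂ := (compP j).sheafAdjunctionCocontinuous AddCommGrpCat.{u + 1}
        (Scheme.ProEt.topology U) (Scheme.ProEt.topology X)
      haveI : (ProEtS.restrP j).PreservesEpimorphisms :=
        Functor.preservesEpimorphisms_of_adjunction adj₂
      haveI : Epi ((ProEtS.restrP j).map π) := inferInstance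
      exact IsZero.of_epi ((ProEtS.restrP j).map π) (isZero_restrP_pushP i j hdisj _)
  exact hQ.eq_of_tgt _ _

end epi

section sections

omit [IsClosedImmersion i] [ProEtS.PCont i] [QuasiCompact j] in
/-- `j⁻¹` of the counit `j_! j⁻¹ F ⟶ F` is an isomorphism. -/
theorem isIso_restrP_map_counit :
    IsIso ((ProEtS.restrP j).map ((ProEtS.extZeroPAdj j).counit.app F)) := by
  haveI : IsIso (ProEtS.extZeroPAdj j).unit := isIso_unit_extZeroPAdj j
  have htri : (ProEtS.extZeroPAdj j).unit.app ((ProEtS.restrP j).obj F) ≫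
      (ProEtS.restrP j).map ((ProEtS.extZeroPAdj j).counit.app F) = 𝟙 _ :=
    (ProEtS.extZeroPAdj j).right_triangle_components F
  haveI : IsIso ((ProEtS.extZeroPAdj j).unit.app ((ProEtS.restrP j).obj F) ≫
      (ProEtS.restrP j).map ((ProEtS.extZeroPAdj j).counit.app F)) := by
    rw [htri]; infer_instance
  exact IsIso.of_isIso_comp_left ((ProEtS.extZeroPAdj j).unit.app ((ProEtS.restrP j).obj F)) _

omit [IsClosedImmersion i] [ProEtS.PCont i] [QuasiCompact j] in
/-- The counit is bijective on sections over objects coming from `U`. -/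
theorem bijective_counit_app_compP (V : U.ProEt) :
    Function.Bijective (((ProEtS.extZeroPAdj j).counit.app F).hom.app (op ((compP j).obj V))) := by
  haveI := isIso_restrP_map_counit j F
  have h1 : IsIso (((ProEtS.restrP j).map ((ProEtS.extZeroPAdj j).counit.app F)).hom.app (op V)) :=
    inferInstanceAs (IsIso ((sheafToPresheaf _ _ ⋙ (evaluation _ _).obj (op V)).map
      ((ProEtS.restrP j).map ((ProEtS.extZeroPAdj j).counit.app F))))
  exact (ConcreteCategory.isIso_iff_bijective _).1 h1

variable {j} in
omit [IsClosedImmersion i] [ProEtS.PCont i] [QuasiCompact j] in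
/-- Restriction of `j_! A` from `W` to the clopen piece over `U` is bijective. -/
theorem bijective_map_r (A : ProEtS.AbP U) (W : X.ProEt) (C C' : W.left.Opens)
    (hcov : C ⊔ C' = ⊤) (hdis : Disjoint C C') (hCO : C ≤ W.hom ⁻¹ᵁ j.opensRange)
    (h0 : Subsingleton (((ProEtS.extZeroP j).obj A).obj.obj (op (opensObj W C')))) :
    Function.Bijective (((ProEtS.extZeroP j).obj A).obj.map
      (liftToOpens j W C hCO ≫ opensHom W C).op) := by
  have h1 : ((ProEtS.extZeroP j).obj A).obj.map (liftToOpens j W C hCO ≫ opensHom W C).op =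
      ((ProEtS.extZeroP j).obj A).obj.map (opensHom W C).op ≫
        ((ProEtS.extZeroP j).obj A).obj.map (liftToOpens j W C hCO).op := by
    rw [← Functor.map_comp, ← op_comp]
  have h2 : IsIso (((ProEtS.extZeroP j).obj A).obj.map (opensHom W C).op) := by
    rw [ConcreteCategory.isIso_iff_bijective]
    exact bijective_map_opensHom _ W C C' hcov hdis h0
  have h3 : IsIso (((ProEtS.extZeroP j).obj A).obj.map (liftToOpens j W C hCO).op) := by
    haveI : IsIso (liftToOpens j W C hCO) :=
      ⟨opensToLift j W C hCO, liftToOpens_opensToLift j W C hCO,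
        opensToLift_liftToOpens j W C hCO⟩
    infer_instance
  have h4 : IsIso (((ProEtS.extZeroP j).obj A).obj.map
      (liftToOpens j W C hCO ≫ opensHom W C).op) := by
    rw [h1]; infer_instance
  exact (ConcreteCategory.isIso_iff_bijective _).1 h4

end sections

end Groth.Agent.Lib.ProEtRecollement22
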