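import Groth.Agent.Lib.ProEtWC22e
import Mathlib.CategoryTheory.Sites.LocallyInjective
import Mathlib.CategoryTheory.Limits.Shapes.Opposites.Products

/-!
# Sheafification on weakly contractible objects of the pro-étale site (helper22)

* `exists_glue`, `glue_unique`: morphisms out of an object of `X.ProEt` glue along pairwise
  disjoint open covers;
* `isColimitCofan`: the cofan of the pieces of a disjoint open cover is a coproduct;
* `existsUnique_of_preservesFiniteProducts`: a presheaf preserving finite products glues uniquely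
  along finite disjoint open covers;
* `toSheafify_bijective`: `F(W) → F^#(W)` is bijective for `W` affine weakly contractible.
-/

set_option autoImplicit false
universe u

open CategoryTheory AlgebraicGeometry Limits MorphismProperty Opposite TopologicalSpace

namespace Groth.Agent.Lib.ProEtSheafify22

open Groth.Agent.Lib.ProEtWC22

variable {X : Scheme.{u}}

theorem exists_glue (U : X.ProEt) {ι : Type*} (W : ι → U.left.Opens) (hW : IsOpenCover W)
    (hd : Pairwise (fun i j => Disjoint (W i) (W j))) (T : X.ProEt)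
    (f : ∀ i, opensObj U (W i) ⟶ T) :
    ∃ g : U ⟶ T, ∀ i, opensHom U (W i) ≫ g = f i := by
  let 𝒰 := U.left.openCoverOfIsOpenCover W hW
  have hcompat : ∀ x y : 𝒰.I₀, pullback.fst (𝒰.f x) (𝒰.f y) ≫ (f x).left =
      pullback.snd (𝒰.f x) (𝒰.f y) ≫ (f y).left := by
    intro x y
    by_cases h : x = y
    · subst h
      have : pullback.fst (𝒰.f x) (𝒰.f x) = pullback.snd (𝒰.f x) (𝒰.f x) := by
        rw [← cancel_mono (𝒰.f x)]
        exact pullback.condition
      rw [this]
    · haveI : IsEmpty ↥(pullback (𝒰.f x) (𝒰.f y)) := by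
        refine ⟨fun z => ?_⟩
        have h1 : (W x).ι (pullback.fst (𝒰.f x) (𝒰.f y) z) ∈ W x :=
          (pullback.fst (𝒰.f x) (𝒰.f y) z).2
        have h2 : (W y).ι (pullback.snd (𝒰.f x) (𝒰.f y) z) ∈ W y :=
          (pullback.snd (𝒰.f x) (𝒰.f y) z).2
        have h3 : (W x).ι (pullback.fst (𝒰.f x) (𝒰.f y) z) =
            (W y).ι (pullback.snd (𝒰.f x) (𝒰.f y) z) :=
          (Scheme.Hom.comp_apply _ _ _).symm.trans
            ((congrArg (fun f : pullback (𝒰.f x) (𝒰.f y) ⟶ U.left => f z)
              (pullback.condition (f := 𝒰.f x) (g := 𝒰.f y))).trans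
              (Scheme.Hom.comp_apply _ _ _))
        rw [h3] at h1
        exact (Opens.coe_disjoint.2 (hd h)).le_bot ⟨h1, h2⟩
      exact (isInitialOfIsEmpty (X := pullback (𝒰.f x) (𝒰.f y))).hom_ext _ _
  let g0 : U.left ⟶ T.left := 𝒰.glueMorphisms (fun i => (f i).left) hcompat
  have hg0 : ∀ i, (W i).ι ≫ g0 = (f i).left := fun i =>
    𝒰.ι_glueMorphisms (fun i => (f i).left) hcompat i
  have hw : g0 ≫ T.hom = U.hom := by
    refine 𝒰.hom_ext _ _ fun i => ?_
    change (W i).ι ≫ g0 ≫ T.hom = (W i).ι ≫ U.hom
    rw [← Category.assoc, hg0 i]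
    exact MorphismProperty.Over.w (f i)
  refine ⟨MorphismProperty.Over.homMk g0 hw, fun i => hom_ext' ?_⟩
  exact hg0 i

theorem glue_unique (U : X.ProEt) {ι : Type*} (W : ι → U.left.Opens) (hW : IsOpenCover W)
    (T : X.ProEt) (g g' : U ⟶ T)
    (h : ∀ i, opensHom U (W i) ≫ g = opensHom U (W i) ≫ g') : g = g' := by
  apply hom_ext'
  refine (U.left.openCoverOfIsOpenCover W hW).hom_ext _ _ fun i => ?_
  exact congrArg (fun f => f.left) (h i)

/-- The pieces of a pairwise disjoint open cover form a coproduct in `X.ProEt`. -/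
noncomputable def isColimitCofan (U : X.ProEt) {ι : Type*} (W : ι → U.left.Opens)
    (hW : IsOpenCover W) (hd : Pairwise (fun i j => Disjoint (W i) (W j))) :
    IsColimit (Cofan.mk U (fun i => opensHom U (W i))) :=
  mkCofanColimit _
    (fun s => (exists_glue U W hW hd s.pt (fun i => s.inj i)).choose)
    (fun s i => (exists_glue U W hW hd s.pt (fun i => s.inj i)).choose_spec i)
    (fun s m hm => glue_unique U W hW s.pt _ _ fun i =>
      (hm i).trans ((exists_glue U W hW hd s.pt (fun i => s.inj i)).choose_spec i).symm)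

theorem existsUnique_of_preservesFiniteProducts (F : X.ProEtᵒᵖ ⥤ Type (u + 1))
    [PreservesFiniteProducts F] (U : X.ProEt) {n : ℕ} (W : Fin n → U.left.Opens)
    (hW : IsOpenCover W) (hd : Pairwise (fun i j => Disjoint (W i) (W j)))
    (t : ∀ k, F.obj (op (opensObj U (W k)))) :
    ∃! s : F.obj (op U), ∀ k, F.map (opensHom U (W k)).op s = t k := by
  have hc := Cofan.IsColimit.op (isColimitCofan U W hW hd)
  have hl := isLimitOfPreserves F hc
  have := (Types.isLimit_iff _).1 ⟨hl⟩ (fun j => t j.as) (by
    rintro ⟨j⟩ ⟨j'⟩ ⟨⟨h⟩⟩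
    obtain rfl : j = j' := h
    simp)
  obtain ⟨s, hs, hs'⟩ := this
  refine ⟨s, fun k => hs ⟨k⟩, fun s' h' => hs' s' ?_⟩
  rintro ⟨k⟩
  exact h' k

/-- On an object all of whose covering sieves have clopen refinements, a presheaf preserving
finite products agrees with its sheafification. -/
theorem toSheafify_bijective_of_hasClopenRefinements (F : X.ProEtᵒᵖ ⥤ Type (u + 1))
    [PreservesFiniteProducts F] (U : X.ProEt) (hU : HasClopenRefinements U) :
    Function.Bijective ((toSheafify (Scheme.ProEt.topology X) F).app (op U)) := by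
  let J := Scheme.ProEt.topology X
  let G : Sheaf J (Type (u + 1)) := (presheafToSheaf J (Type (u + 1))).obj F
  have hcovOf : ∀ {n : ℕ} (W : Fin n → U.left.Opens),
      (⋃ k, (W k : Set ↥U.left)) = Set.univ → IsOpenCover W := by
    intro n W hunion
    rw [IsOpenCover, eq_top_iff]
    intro x _
    have : x ∈ ⋃ k, (W k : Set ↥U.left) := by rw [hunion]; trivial
    obtain ⟨k, hk⟩ := Set.mem_iUnion.1 this
    rw [Opens.mem_iSup]
    exact ⟨k, hk⟩
  constructor
  · intro a b hab
    have hmem := Presheaf.equalizerSieve_mem J (toSheafify J F) a b hab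
    obtain ⟨n, W, -, hdis, hunion, hW⟩ := hU _ hmem
    have hdis' : Pairwise (fun k l => Disjoint (W k) (W l)) := fun k l hkl =>
      (Opens.coe_disjoint).1 (hdis hkl)
    obtain ⟨s, -, hs⟩ := existsUnique_of_preservesFiniteProducts F U W (hcovOf W hunion) hdis'
      (fun k => F.map (opensHom U (W k)).op a)
    rw [hs a (fun k => rfl)]
    exact (hs b (fun k => (hW k).symm)).symm
  · intro s
    have hmem := Presheaf.imageSieve_mem J (toSheafify J F) s
    obtain ⟨n, W, -, hdis, hunion, hW⟩ := hU _ hmem
    have hdis' : Pairwise (fun k l => Disjoint (W k) (W l)) := fun k l hkl =>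
      (Opens.coe_disjoint).1 (hdis hkl)
    choose t ht using hW
    obtain ⟨t0, ht0, -⟩ := existsUnique_of_preservesFiniteProducts F U W (hcovOf W hunion) hdis' t
    refine ⟨t0, ?_⟩
    obtain ⟨s0, -, hs0⟩ := existsUnique_amalgamation G U W (hcovOf W hunion) hdis'
      (fun k => G.obj.map (opensHom U (W k)).op s)
    rw [hs0 s (fun k => rfl)]
    apply hs0
    intro k
    have := ConcreteCategory.congr_hom ((toSheafify J F).naturality (opensHom U (W k)).op) t0
    dsimp at this
    change (sheafify J F).map (opensHom U (W k)).op ((toSheafify J F).app (op U) t0) = _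
    rw [← this, ht0 k]
    exact ht k

/-- `F(W) → F^#(W)` is bijective for `W` affine weakly contractible and `F` preserving finite
products. -/
theorem toSheafify_bijective (F : X.ProEtᵒᵖ ⥤ Type (u + 1))
    [PreservesFiniteProducts F] (W : X.ProEt) [IsAffine W.left] (hW : ProEtS.IsWC W) :
    Function.Bijective ((toSheafify (Scheme.ProEt.topology X) F).app (op W)) :=
  toSheafify_bijective_of_hasClopenRefinements F W
    (hasClopenRefinements_of_isWContractible W (isWContractible_of_isWC W hW))

end Groth.Agent.Lib.ProEtSheafify22
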