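import Groth.Agent.Lib.ProEtCover22
import Groth.Agent.Lib.ProEtGeomPt22
import Mathlib.CategoryTheory.Sites.LocallySurjective

/-!
# Weakly contractible objects of the small pro-étale site, part 1: gluing (helper22)

* `opensObj`, `opensHom`: open subobjects of an object of `X.ProEt`;
* `generate_opens_mem_topology`: open covers are coverings;
* `existsUnique_amalgamation`: sheaves glue uniquely along disjoint open covers;
* `exists_preimage_of_forall_opens`: a section of the target of a sheaf morphism lifts as soon as
  it lifts on the pieces of a disjoint open cover.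
-/

set_option autoImplicit false
universe u

open CategoryTheory AlgebraicGeometry Limits MorphismProperty Opposite TopologicalSpace

namespace Groth.Agent.Lib.ProEtWC22

variable {X : Scheme.{u}}

/-- The open subobject of `U` given by an open of `U.left`. -/
noncomputable abbrev opensObj (U : X.ProEt) (W : U.left.Opens) : X.ProEt :=
  Scheme.ProEt.mk (W.ι ≫ U.hom)

/-- The inclusion of an open subobject. -/
noncomputable abbrev opensHom (U : X.ProEt) (W : U.left.Opens) : opensObj U W ⟶ U :=
  MorphismProperty.Over.homMk W.ι

theorem generate_opens_mem_topology (U : X.ProEt) {ι : Type*} (W : ι → U.left.Opens)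
    (hW : IsOpenCover W) :
    Sieve.generate (Presieve.ofArrows (fun i => opensObj U (W i)) (fun i => opensHom U (W i))) ∈
      Scheme.ProEt.topology X U := by
  apply Groth.Agent.Lib.ProEtCover22.generate_ofArrows_mem_topology
  · intro x
    have hx : x ∈ ⨆ i, W i := hW.symm ▸ show x ∈ (⊤ : U.left.Opens) by trivial
    rw [Opens.mem_iSup] at hx
    obtain ⟨i, hi⟩ := hx
    exact ⟨i, ⟨x, hi⟩, rfl⟩
  · exact (inferInstance :
      QuasiCompactCover (U.left.openCoverOfIsOpenCover W hW).toPreZeroHypercover)

/-- Morphisms of `X.ProEt` are determined by their underlying morphism of schemes. -/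
theorem hom_ext' {V U : X.ProEt} {f g : V ⟶ U} (h : f.left = g.left) : f = g :=
  MorphismProperty.Over.Hom.ext h

/-- Sections of a sheaf over an object with empty underlying scheme are unique. -/
theorem subsingleton_of_isEmpty (F : Sheaf (Scheme.ProEt.topology X) (Type (u + 1)))
    (Z : X.ProEt) [IsEmpty Z.left] : Subsingleton (F.obj.obj (op Z)) := by
  have hS : Presieve.IsSheaf (Scheme.ProEt.topology X) F.obj :=
    (isSheaf_iff_isSheaf_of_type _ _).1 F.cond
  have h1 := (hS (⊥ : Sieve Z) (Scheme.ProEt.bot_mem_topology Z)).isSeparatedFor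
  refine ⟨fun a b => ?_⟩
  refine h1 (fun Y f hf => hf.elim) a b ?_ ?_ <;> intro Y f hf <;> exact hf.elim

variable (F : Sheaf (Scheme.ProEt.topology X) (Type (u + 1))) (U : X.ProEt) {ι : Type*}
  (W : ι → U.left.Opens)

/-- Sheaves glue uniquely along pairwise disjoint open covers. -/
theorem existsUnique_amalgamation (hW : IsOpenCover W)
    (hd : Pairwise (fun i j => Disjoint (W i) (W j)))
    (t : ∀ i, F.obj.obj (op (opensObj U (W i)))) :
    ∃! s : F.obj.obj (op U), ∀ i, F.obj.map (opensHom U (W i)).op s = t i := by
  have hS : Presieve.IsSheaf (Scheme.ProEt.topology X) F.obj :=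
    (isSheaf_iff_isSheaf_of_type _ _).1 F.cond
  have hF : Presieve.IsSheafFor F.obj
      (Presieve.ofArrows (fun i => opensObj U (W i)) (fun i => opensHom U (W i))) :=
    (Presieve.isSheafFor_iff_generate _).2 (hS _ (generate_opens_mem_topology U W hW))
  rw [Presieve.isSheafFor_arrows_iff] at hF
  apply hF t
  intro i j Z gi gj hij
  dsimp only at gi gj hij
  have hl : gi.left ≫ (W i).ι = gj.left ≫ (W j).ι := congrArg (fun f => f.left) hij
  by_cases h : i = j
  · subst h
    have : gi = gj := hom_ext' ((cancel_mono (W i).ι).1 hl)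
    rw [this]
  · haveI : IsEmpty Z.left := by
      refine ⟨fun z => ?_⟩
      have h1 : (W i).ι (gi.left z) ∈ W i := (gi.left z).2
      have h2 : (W j).ι (gj.left z) ∈ W j := (gj.left z).2
      have h3 : (W i).ι (gi.left z) = (W j).ι (gj.left z) :=
        (Scheme.Hom.comp_apply _ _ _).symm.trans
          ((congrArg (fun f : Z.left ⟶ U.left => f z) hl).trans (Scheme.Hom.comp_apply _ _ _))
      rw [h3] at h1
      exact (Opens.coe_disjoint.2 (hd h)).le_bot ⟨h1, h2⟩
    haveI := subsingleton_of_isEmpty F Z
    exact Subsingleton.elim _ _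

/-- A section lifts along a morphism of sheaves as soon as it lifts on the pieces of a
pairwise disjoint open cover. -/
theorem exists_preimage_of_forall_opens {F G : Sheaf (Scheme.ProEt.topology X) (Type (u + 1))}
    (φ : F ⟶ G) (hW : IsOpenCover W) (hd : Pairwise (fun i j => Disjoint (W i) (W j)))
    (s : G.obj.obj (op U))
    (h : ∀ i, ∃ t : F.obj.obj (op (opensObj U (W i))),
      φ.hom.app _ t = G.obj.map (opensHom U (W i)).op s) :
    ∃ t : F.obj.obj (op U), φ.hom.app (op U) t = s := by
  choose t ht using h
  obtain ⟨t0, ht0, -⟩ := existsUnique_amalgamation F U W hW hd t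
  refine ⟨t0, ?_⟩
  obtain ⟨s0, -, hs0⟩ := existsUnique_amalgamation G U W hW hd
    (fun i => G.obj.map (opensHom U (W i)).op s)
  rw [hs0 s (fun i => rfl)]
  apply hs0
  intro i
  have := ConcreteCategory.congr_hom (φ.hom.naturality (opensHom U (W i)).op) t0
  dsimp at this
  rw [← this, ht0 i, ht i]

end Groth.Agent.Lib.ProEtWC22
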