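import Groth.Prelude.Def_Algz
import Groth.Agent.Lib.ARSysML
import Groth.Agent.Lib.CohFormal

/-!
# Pro-isomorphisms and the Mittag-Leffler condition (helper85)

* `Algz.ProData T G`: concrete form of `Algz.IsProIsomorphic T G`; stable under functors
  (`ProData.comp_functor`) and isomorphisms of the source (`ProData.of_iso_left`).
* `Algz.ProData.isML_of_isStrict`, `Algz.isML_of_isProIsomorphic_of_isStrict`: a system pro-isomorphic to
  a strict system (epimorphic transition maps) is Mittag-Leffler.
* `Algz.epi_moduleSpecΓFunctor_map`: global sections over an affine scheme preserve epimorphisms between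
  quasi-coherent modules.
-/

set_option autoImplicit false
universe v u w v'

open CategoryTheory CategoryTheory.Limits Opposite ARSys

namespace Algz

section Abstract

variable {C : Type u} [Category.{v} C]

/-- Concrete pro-isomorphism data between two inverse systems. -/
def ProData (T G : ARSys.PS C) : Prop :=
  ∃ (m : ℕ → ℕ) (_ : Monotone m) (_ : ∀ n, n ≤ m n) (a : ∀ n, T.obj (op (m n)) ⟶ G.obj (op n)),
    (∀ {n k : ℕ} (h : n ≤ k) (h' : m n ≤ m k), tr T h' ≫ a n = a k ≫ tr G h) ∧
    ∀ n, ∃ (k : ℕ) (hk : n ≤ k) (hk' : m n ≤ m k) (b : G.obj (op k) ⟶ T.obj (op (m n))),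
      a k ≫ b = tr T hk' ∧ b ≫ a n = tr G hk

theorem IsProIsomorphic.proData {T G : ARSys.PS C} (h : IsProIsomorphic T G) : ProData T G := by
  obtain ⟨m, hm, hle, a, ha⟩ := h
  refine ⟨m, hm, hle, fun n => a.app (op n), ?_, ?_⟩
  · intro n k h h'
    exact a.naturality (homOfLE h).op
  · intro n
    obtain ⟨k, hk, b, h1, h2⟩ := ha n
    exact ⟨k, hk, hm hk, b, h1, h2⟩

variable {D : Type w} [Category.{v'} D]

theorem ProData.comp_functor {T G : ARSys.PS C} (h : ProData T G) (Φ : C ⥤ D) :
    ProData (T ⋙ Φ) (G ⋙ Φ) := by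
  obtain ⟨m, hm, hle, a, anat, hb⟩ := h
  refine ⟨m, hm, hle, fun n => Φ.map (a n), ?_, ?_⟩
  · intro n k h h'
    change Φ.map (tr T h') ≫ Φ.map (a n) = Φ.map (a k) ≫ Φ.map (tr G h)
    rw [← Φ.map_comp, ← Φ.map_comp, anat h h']
  · intro n
    obtain ⟨k, hk, hk', b, h1, h2⟩ := hb n
    refine ⟨k, hk, hk', Φ.map b, ?_, ?_⟩
    · change Φ.map (a k) ≫ Φ.map b = Φ.map (tr T hk')
      rw [← Φ.map_comp, h1]
    · change Φ.map b ≫ Φ.map (a n) = Φ.map (tr G hk)
      rw [← Φ.map_comp, h2]

theorem ProData.of_iso_left {T T' G : ARSys.PS C} (h : ProData T G) (e : T' ≅ T) : ProData T' G := by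
  obtain ⟨m, hm, hle, a, anat, hb⟩ := h
  refine ⟨m, hm, hle, fun n => e.hom.app (op (m n)) ≫ a n, ?_, ?_⟩
  · intro n k h h'
    have := e.hom.naturality (homOfLE h').op
    change tr T' h' ≫ _ = _ ≫ tr T h' at this
    rw [← Category.assoc, this, Category.assoc, anat h h', Category.assoc]
  · intro n
    obtain ⟨k, hk, hk', b, h1, h2⟩ := hb n
    refine ⟨k, hk, hk', b ≫ e.inv.app (op (m n)), ?_, ?_⟩
    · have := e.inv.naturality (homOfLE hk').op
      change tr T hk' ≫ _ = _ ≫ tr T' hk' at this
      rw [Category.assoc, ← Category.assoc (a k), h1, this, ← Category.assoc,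
        ← NatTrans.comp_app, e.hom_inv_id, NatTrans.id_app, Category.id_comp]
    · rw [Category.assoc, ← Category.assoc (e.inv.app _), ← NatTrans.comp_app, e.inv_hom_id,
        NatTrans.id_app, Category.id_comp, h2]

end Abstract

section Abelian

open Groth.Agent.Lib.ARSysML Groth.Agent.Lib.ARSysBasic

variable {C : Type u} [Category.{v} C] [Abelian C]

/-- A system pro-isomorphic to a strict system is Mittag-Leffler. -/
theorem ProData.isML_of_isStrict {T G : ARSys.PS C} (h : ProData T G)
    (hG : IsStrict G) : IsML T := by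
  obtain ⟨m, hm, hle, a, anat, hb⟩ := h
  -- every `a j` is epi
  have aepi : ∀ j, Epi (a j) := by
    intro j
    obtain ⟨k, hk, hk', b, -, h2⟩ := hb j
    have : Epi (b ≫ a j) := by rw [h2]; exact hG _ _ hk
    exact epi_of_epi b (a j)
  intro n
  obtain ⟨k, hk, hk', b, h1, h2⟩ := hb n
  -- images of `T_{m j} ⟶ T_n` for `j ≥ k`
  have key : ∀ j (hj : k ≤ j), imageSubobject (tr T ((hle n).trans (hm (hk.trans hj)))) =
      imageSubobject (b ≫ tr T (hle n)) := by
    intro j hj
    have e : tr T ((hle n).trans (hm (hk.trans hj))) =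
        (a j ≫ tr G hj) ≫ (b ≫ tr T (hle n)) := by
      calc tr T ((hle n).trans (hm (hk.trans hj)))
          = tr T (hm hj) ≫ tr T hk' ≫ tr T (hle n) := by rw [tr_comp, tr_comp]
        _ = tr T (hm hj) ≫ (a k ≫ b) ≫ tr T (hle n) := by rw [h1]
        _ = (tr T (hm hj) ≫ a k) ≫ b ≫ tr T (hle n) := by simp only [Category.assoc]
        _ = (a j ≫ tr G hj) ≫ (b ≫ tr T (hle n)) := by rw [anat hj (hm hj)]
    have := aepi j
    have := hG _ _ hj
    have : Epi (a j ≫ tr G hj) := epi_comp _ _
    rw [e, imageSubobject_epi_comp]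
  refine ⟨m k, fun s hs => ?_⟩
  have main : ∀ s, m k ≤ s → imageSubobject (shiftMap T s n) = imageSubobject (b ≫ tr T (hle n)) := by
    intro s hs
    have hks : k ≤ n + s := (hle k).trans (hs.trans (Nat.le_add_left _ _))
    apply le_antisymm
    · -- T_{n+s} → T_n factors through T_{m k} → T_n
      have hmk : m k ≤ n + s := hs.trans (Nat.le_add_left _ _)
      have e : shiftMap T s n = tr T hmk ≫ tr T ((hle n).trans hk') :=
        (tr_comp T ((hle n).trans hk') hmk).symm
      rw [← key k le_rfl, e]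
      exact imageSubobject_comp_le _ _
    · have e : tr T ((hle n).trans (hm (hk.trans hks))) = tr T (hle (n + s)) ≫ shiftMap T s n :=
        (tr_comp T (Nat.le_add_right n s) (hle (n + s))).symm
      rw [← key (n + s) hks, e]
      exact imageSubobject_comp_le _ _
  rw [main s hs, main (m k) le_rfl]

theorem isML_of_isProIsomorphic_of_isStrict {T G : ARSys.PS C} (h : IsProIsomorphic T G)
    (hG : IsStrict G) : IsML T := h.proData.isML_of_isStrict hG

end Abelian

section Spec

open AlgebraicGeometry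

variable {R : CommRingCat.{u}}

/-- Global sections of an epimorphism of quasi-coherent modules on an affine scheme is an epimorphism. -/
theorem epi_moduleSpecΓFunctor_map {M N : (Spec R).Modules} [M.IsQuasicoherent] [N.IsQuasicoherent]
    (φ : M ⟶ N) [Epi φ] : Epi ((moduleSpecΓFunctor (R := R)).map φ) := by
  let ε := Scheme.Modules.fromTildeΓNatTrans (R := R)
  have nat : (moduleSpecΓFunctor (R := R) ⋙ tilde.functor R).map φ ≫ ε.app N = ε.app M ≫ φ :=
    ε.naturality φ
  have hM : IsIso (ε.app M) := Scheme.Modules.isIso_fromTildeΓ_of_isQuasicoherent M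
  have hN : IsIso (ε.app N) := Scheme.Modules.isIso_fromTildeΓ_of_isQuasicoherent N
  have h : (moduleSpecΓFunctor (R := R) ⋙ tilde.functor R).map φ =
      (ε.app M ≫ φ) ≫ inv (ε.app N) := by
    rw [IsIso.eq_comp_inv]
    exact nat
  have : Epi ((tilde.functor R).map ((moduleSpecΓFunctor (R := R)).map φ)) := by
    change Epi ((moduleSpecΓFunctor (R := R) ⋙ tilde.functor R).map φ)
    rw [h]; infer_instance
  exact (tilde.functor R).epi_of_epi_map this

end Spec

end Algz
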