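import Mathlib

/-!
# Corepresentable functors = pro-representable functors preserving small limits
-/

set_option autoImplicit false

open CategoryTheory CategoryTheory.Limits Opposite

universe v u

namespace Groth.Agent.Lib.ProRepresentable

variable {C : Type u} [Category.{v} C]

/-- A corepresentable functor is pro-representable and preserves limits. -/
theorem isIndObject_and_preservesLimits_of_isCorepresentable (F : C ⥤ Type v) (hF : F.IsCorepresentable) :
      IsIndObject (unopUnop C ⋙ F) ∧ PreservesLimitsOfSize.{v, v} F := by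
  obtain ⟨X, ⟨e⟩⟩ := hF.has_corepresentation
  constructor
  · let r : (unopUnop C ⋙ F).RepresentableBy (op X) :=
      { homEquiv := fun {Z} => (opEquiv Z (op X)).trans e.homEquiv
        homEquiv_comp := fun {Z Z'} f g => by
          simp only [Equiv.trans_apply]
          have := e.homEquiv_comp f.unop g.unop
          exact this }
    exact IsIndObject.map r.toIso.hom (isIndObject_yoneda (op X))
  · exact preservesLimits_of_natIso e.toIso

/-- A pro-representable functor preserving small limits is corepresentable. -/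
theorem isCorepresentable_of_isIndObject_of_preservesLimits [HasLimitsOfSize.{v, v} C] (F : C ⥤ Type v)
    (hI : IsIndObject (unopUnop C ⋙ F)) (hL : PreservesLimitsOfSize.{v, v} F) :
    F.IsCorepresentable := by
  classical
  let P := hI.presentation
  -- objects and the structure maps
  let Xo : P.I → C := fun i => (P.F.obj i).unop
  let ι : ∀ (i : P.I) (Y : C), (Xo i ⟶ Y) → F.obj Y :=
    fun i Y f => (P.ι.app i).app (op (op Y)) f.op
  -- (a) naturality in Y
  have ha : ∀ (i : P.I) {Y Y' : C} (g : Y ⟶ Y') (f : Xo i ⟶ Y),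
      F.map g (ι i Y f) = ι i Y' (f ≫ g) := by
    intro i Y Y' g f
    have := ConcreteCategory.congr_hom ((P.ι.app i).naturality g.op.op) f.op
    exact this.symm
  -- (b) compatibility in i
  have hb : ∀ {i j : P.I} (t : i ⟶ j) (Y : C) (f : Xo i ⟶ Y),
      ι i Y f = ι j Y ((P.F.map t).unop ≫ f) := by
    intro i j t Y f
    have := ConcreteCategory.congr_hom (congr_app (P.ι.naturality t) (op (op Y))) f.op
    exact this.symm
  -- evaluated colimit cocones
  have hcol : ∀ Y : C, IsColimit (((evaluation (Cᵒᵖ)ᵒᵖ (Type v)).obj (op (op Y))).mapCocone P.cocone) :=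
    fun Y => isColimitOfPreserves _ P.coconeIsColimit
  -- (c) joint surjectivity
  have hc : ∀ (Y : C) (y : F.obj Y), ∃ (i : P.I) (f : Xo i ⟶ Y), ι i Y f = y := by
    intro Y y
    obtain ⟨i, φ, hφ⟩ := Types.jointly_surjective_of_isColimit (hcol Y) y
    exact ⟨i, Quiver.Hom.unop (show op Y ⟶ P.F.obj i from φ), hφ⟩
  -- (d) equality criterion
  have hd : ∀ (Y : C) (i : P.I) (f g : Xo i ⟶ Y), ι i Y f = ι i Y g →
      ∃ (k : P.I) (t : i ⟶ k), (P.F.map t).unop ≫ f = (P.F.map t).unop ≫ g := by
    intro Y i f g hfg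
    obtain ⟨k, t, ht⟩ := (Types.FilteredColimit.isColimit_eq_iff' (hcol Y) _ _).1 hfg
    refine ⟨k, t, ?_⟩
    have := congr_arg Quiver.Hom.unop (show (f.op ≫ P.F.map t : op Y ⟶ P.F.obj k) = g.op ≫ P.F.map t from ht)
    exact this
  have hd' : ∀ (Y : C) (i j : P.I) (f : Xo i ⟶ Y) (g : Xo j ⟶ Y), ι i Y f = ι j Y g →
      ∃ (k : P.I) (t : i ⟶ k) (t' : j ⟶ k), (P.F.map t).unop ≫ f = (P.F.map t').unop ≫ g := by
    intro Y i j f g hfg
    obtain ⟨k, t, t', ht⟩ := (Types.FilteredColimit.isColimit_eq_iff _ (hcol Y)).1 hfg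
    refine ⟨k, t, t', ?_⟩
    have := congr_arg Quiver.Hom.unop (show (f.op ≫ P.F.map t : op Y ⟶ P.F.obj k) = g.op ≫ P.F.map t' from ht)
    exact this
  -- the limit object
  let X : C := limit P.F.leftOp
  let π : ∀ i : P.I, X ⟶ Xo i := fun i => limit.π P.F.leftOp (op i)
  have hw : ∀ {i j : P.I} (t : i ⟶ j), π j ≫ (P.F.map t).unop = π i :=
    fun t => limit.w P.F.leftOp t.op
  have hlim : IsLimit (F.mapCone (limit.cone P.F.leftOp)) :=
    isLimitOfPreserves F (limit.isLimit _)
  let ξi : ∀ i : P.I, F.obj (Xo i) := fun i => ι i (Xo i) (𝟙 _)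
  have hcompat : ∀ {i j : P.I} (t : i ⟶ j), F.map (P.F.map t).unop (ξi j) = ξi i := by
    intro i j t
    change F.map _ (ι j _ (𝟙 _)) = ι i _ (𝟙 _)
    rw [ha, hb t, Category.id_comp, Category.comp_id]
  let sec : (P.F.leftOp ⋙ F).sections :=
    ⟨fun i => ξi i.unop, fun {i j} f => hcompat f.unop⟩
  let ξ : F.obj X := (Types.isLimitEquivSections hlim).symm sec
  have hξ : ∀ i : P.I, F.map (π i) ξ = ξi i :=
    fun i => Types.isLimitEquivSections_symm_apply hlim sec (op i)
  -- the comparison map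
  have hsurj : ∀ Y : C, Function.Surjective (fun a : X ⟶ Y => F.map a ξ) := by
    intro Y y
    obtain ⟨i, f, rfl⟩ := hc Y y
    refine ⟨π i ≫ f, ?_⟩
    change F.map (π i ≫ f) ξ = _
    rw [F.map_comp]
    change F.map f (F.map (π i) ξ) = _
    rw [hξ i]
    change F.map f (ι i _ (𝟙 _)) = _
    rw [ha, Category.id_comp]
  obtain ⟨i0, s, hs⟩ := hc X ξ
  have he : π i0 ≫ s = 𝟙 X := by
    apply limit.hom_ext
    rintro ⟨i⟩
    change (π i0 ≫ s) ≫ π i = 𝟙 X ≫ π i
    have h1 : ι i0 (Xo i) (s ≫ π i) = ι i (Xo i) (𝟙 _) := by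
      rw [← ha, hs]
      exact hξ i
    obtain ⟨k, t, t', ht⟩ := hd' _ _ _ _ _ h1
    rw [Category.id_comp, Category.assoc, ← hw t, Category.assoc, ht, Category.comp_id, hw t']
  have hinj : ∀ Y : C, Function.Injective (fun a : X ⟶ Y => F.map a ξ) := by
    intro Y a b hab
    change F.map a ξ = F.map b ξ at hab
    rw [← hs, ha, ha] at hab
    obtain ⟨k, t, ht⟩ := hd _ _ _ _ hab
    have h2 := congr_arg (fun z => π k ≫ z) ht
    simp only [← Category.assoc] at h2
    rw [hw t, he, Category.id_comp, Category.id_comp] at h2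
    exact h2
  exact Functor.CorepresentableBy.isCorepresentable
    { homEquiv := fun {Y} => Equiv.ofBijective _ ⟨hinj Y, hsurj Y⟩
      homEquiv_comp := fun {Y Y'} g f => by
        change F.map (f ≫ g) ξ = F.map g (F.map f ξ)
        rw [F.map_comp]
        rfl }

end Groth.Agent.Lib.ProRepresentable
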