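import Groth.Prelude.Def_DerCA
import Mathlib.Algebra.Homology.DerivedCategory.HomologySequence
import Mathlib.Algebra.Homology.DerivedCategory.TStructure
import Mathlib.Algebra.Homology.DerivedCategory.FullyFaithful
import Mathlib.CategoryTheory.Functor.OfSequence
import Mathlib.CategoryTheory.Abelian.Refinements

/-!
# Inverse systems in triangulated / derived categories (helper21)

* `exists_cone_system`: a levelwise map `f : X ⟶ Y` of `ℕ`-indexed inverse systems in a
  pretriangulated category extends to an inverse system of distinguished triangles (TR3).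
* `isProZero_of_triangle`: an extension of pro-zero systems is pro-zero.
* `isProZero_homology_cone`: in `D(A)`, if `H^i(f)` and `H^{i+1}(f)` are pro-isomorphisms then
  `H^i` of the cone system is pro-zero.
* `eq_zero_of_homologyMap_eq_zero`: a map between objects of `D(A)` concentrated in one degree
  is zero if it is zero on cohomology.
* `isProZero_of_homology`: an inverse system in `D(A)` with uniformly bounded cohomology, all of
  whose cohomology systems are pro-zero, is pro-zero (induction on the amplitude).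
-/

set_option autoImplicit false
set_option backward.isDefEq.respectTransparency false
universe w v u

open CategoryTheory CategoryTheory.Limits Opposite CategoryTheory.Pretriangulated

namespace Groth.Agent.Lib.ProSystems

section General

variable {C : Type u} [Category.{v} C]

lemma tr_comp (W : ARSys.PS C) {a b c : ℕ} (hab : a ≤ b) (hbc : b ≤ c) :
    ARSys.tr W hbc ≫ ARSys.tr W hab = ARSys.tr W (hab.trans hbc) := by
  rw [← W.map_comp]
  rfl

lemma tr_naturality {X Y : ARSys.PS C} (f : X ⟶ Y) {a b : ℕ} (hab : a ≤ b) :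
    ARSys.tr X hab ≫ f.app (op a) = f.app (op b) ≫ ARSys.tr Y hab :=
  f.naturality _

lemma tr_comp_functor {E : Type*} [Category* E] (W : ARSys.PS C) (F : C ⥤ E) {a b : ℕ}
    (hab : a ≤ b) : ARSys.tr (W ⋙ F) hab = F.map (ARSys.tr W hab) := rfl

end General

section Triangulated

variable {D : Type u} [Category.{v} D] [Preadditive D] [HasZeroObject D] [HasShift D ℤ]
  [∀ n : ℤ, (shiftFunctor D n).Additive] [Pretriangulated D]

/-- A levelwise map of inverse systems extends to an inverse system of distinguished triangles. -/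
theorem exists_cone_system (X Y : ARSys.PS D) (f : X ⟶ Y) :
    ∃ (Z : ARSys.PS D) (g : Y ⟶ Z) (h : Z ⟶ X ⋙ shiftFunctor D (1 : ℤ)),
      ∀ n : ℕ, Triangle.mk (f.app (op n)) (g.app (op n)) (h.app (op n)) ∈ distTriang D := by
  choose Zo go ho Hd using fun n : ℕ => distinguished_cocone_triangle (f.app (op n))
  have hcomm : ∀ n : ℕ, (Triangle.mk (f.app (op (n + 1))) (go (n + 1)) (ho (n + 1))).mor₁ ≫
      ARSys.tr Y (Nat.le_add_right n 1) =
      ARSys.tr X (Nat.le_add_right n 1) ≫ (Triangle.mk (f.app (op n)) (go n) (ho n)).mor₁ :=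
    fun n => (tr_naturality f (Nat.le_add_right n 1)).symm
  choose z hz1 hz2 using fun n : ℕ =>
    complete_distinguished_triangle_morphism _ _ (Hd (n + 1)) (Hd n)
      (ARSys.tr X (Nat.le_add_right n 1)) (ARSys.tr Y (Nat.le_add_right n 1)) (hcomm n)
  let Z : ARSys.PS D := Functor.ofOpSequence z
  have hZmap : ∀ n : ℕ, Z.map (homOfLE (Nat.le_add_right n 1)).op = z n :=
    fun n => Functor.ofOpSequence_map_homOfLE_succ z n
  let g : Y ⟶ Z := NatTrans.ofOpSequence (F := Y) (G := Z) go (by
    intro n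
    rw [hZmap]
    exact (hz1 n).symm)
  let h : Z ⟶ X ⋙ shiftFunctor D (1 : ℤ) :=
    NatTrans.ofOpSequence (F := Z) (G := X ⋙ shiftFunctor D (1 : ℤ)) ho (by
      intro n
      rw [hZmap]
      exact (hz2 n).symm)
  exact ⟨Z, g, h, fun n => Hd n⟩

/-- An extension of pro-zero systems is pro-zero. -/
theorem isProZero_of_triangle (W Z V : ARSys.PS D) (u : W ⟶ Z) (v : Z ⟶ V)
    (hT : ∀ n : ℕ, ∃ w : V.obj (op n) ⟶ (W.obj (op n))⟦(1 : ℤ)⟧,
      Triangle.mk (u.app (op n)) (v.app (op n)) w ∈ distTriang D)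
    (hW : DerCA.IsProZero W) (hV : DerCA.IsProZero V) : DerCA.IsProZero Z := by
  intro n
  obtain ⟨m₀, h₀, hW0⟩ := hW n
  obtain ⟨m₁, h₁, hV1⟩ := hV m₀
  refine ⟨m₁, h₀.trans h₁, ?_⟩
  obtain ⟨w, hw⟩ := hT m₀
  have h2 : ARSys.tr Z h₁ ≫ v.app (op m₀) = 0 := by
    rw [tr_naturality v h₁, hV1, comp_zero]
  obtain ⟨x, hx⟩ : ∃ x : Z.obj (op m₁) ⟶ W.obj (op m₀), ARSys.tr Z h₁ = x ≫ u.app (op m₀) :=
    Triangle.coyoneda_exact₂ _ hw (ARSys.tr Z h₁) h2
  rw [← tr_comp Z h₀ h₁, hx, Category.assoc, ← tr_naturality u h₀, hW0, zero_comp, comp_zero]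

end Triangulated

section Derived

variable {A : Type u} [Category.{v} A] [Abelian A] [HasDerivedCategory.{w} A]

open DerivedCategory

/-- If the outer terms of the exact sequence `H^i(T₂) ⟶ H^i(T₃) ⟶ H^{i+1}(T₁)` vanish, so does the
middle one. -/
lemma isZero_homology_obj₃ (T : Triangle (DerivedCategory A)) (hT : T ∈ distTriang _) (i : ℤ)
    (h2 : IsZero ((homologyFunctor A i).obj T.obj₂))
    (h1 : IsZero ((homologyFunctor A (i + 1)).obj T.obj₁)) :
    IsZero ((homologyFunctor A i).obj T.obj₃) :=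
  (HomologySequence.exact₃ T hT i (i + 1) rfl).isZero_of_both_zeros (h2.eq_of_src _ _)
    (h1.eq_of_tgt _ _)

/-- In `D(A)`, if `H^i(f)` and `H^{i+1}(f)` are pro-isomorphisms then `H^i` of the cone system is
pro-zero. -/
theorem isProZero_homology_cone (X Y Z : ARSys.PS (DerivedCategory A)) (f : X ⟶ Y) (g : Y ⟶ Z)
    (h : Z ⟶ X ⋙ shiftFunctor (DerivedCategory A) (1 : ℤ))
    (hT : ∀ n : ℕ, Triangle.mk (f.app (op n)) (g.app (op n)) (h.app (op n)) ∈ distTriang _)
    (i : ℤ) (h0 : DerCA.IsProIso (Functor.whiskerRight f (homologyFunctor A i)))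
    (h1 : DerCA.IsProIso (Functor.whiskerRight f (homologyFunctor A (i + 1)))) :
    DerCA.IsProZero (Z ⋙ homologyFunctor A i) := by
  intro n
  obtain ⟨m₀, hm₀, b₀, -, hb₀⟩ := h0 n
  obtain ⟨m₁, hm₁, b₁, hb₁, -⟩ := h1 m₀
  refine ⟨m₁, hm₀.trans hm₁, ?_⟩
  let T : ℕ → Triangle (DerivedCategory A) := fun k =>
    Triangle.mk (f.app (op k)) (g.app (op k)) (h.app (op k))
  -- the morphism of triangles given by the transition maps
  let φ : T m₁ ⟶ T m₀ := Triangle.homMk (T m₁) (T m₀) (ARSys.tr X hm₁) (ARSys.tr Y hm₁)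
    (ARSys.tr Z hm₁) (tr_naturality f hm₁).symm (tr_naturality g hm₁).symm
    (tr_naturality h hm₁).symm
  have hδ : (homologyFunctor A i).map (ARSys.tr Z hm₁) ≫ HomologySequence.δ (T m₀) i (i + 1) rfl =
      HomologySequence.δ (T m₁) i (i + 1) rfl ≫ (homologyFunctor A (i + 1)).map (ARSys.tr X hm₁) :=
    (homologyFunctor A 0).homologySequenceδ_naturality (T m₁) (T m₀) φ i (i + 1) rfl
  have hb₁' : (homologyFunctor A (i + 1)).map (f.app (op m₁)) ≫ b₁ =
      (homologyFunctor A (i + 1)).map (ARSys.tr X hm₁) := hb₁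
  have hA : (homologyFunctor A i).map (ARSys.tr Z hm₁) ≫
      HomologySequence.δ (T m₀) i (i + 1) rfl = 0 := by
    rw [hδ, ← hb₁', ← Category.assoc]
    have : HomologySequence.δ (T m₁) i (i + 1) rfl ≫
        (homologyFunctor A (i + 1)).map (f.app (op m₁)) = 0 :=
      HomologySequence.δ_comp (T m₁) (hT m₁) i (i + 1) rfl
    rw [this, zero_comp]
  obtain ⟨T', π, hπ, y, hy⟩ :=
    (HomologySequence.exact₃ (T m₀) (hT m₀) i (i + 1) rfl).exact_up_to_refinements _ hA
  dsimp only at y hy
  have hb₀' : b₀ ≫ (homologyFunctor A i).map (f.app (op n)) =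
      (homologyFunctor A i).map (ARSys.tr Y hm₀) := hb₀
  have hC : (homologyFunctor A i).map (g.app (op m₀)) ≫
      (homologyFunctor A i).map (ARSys.tr Z hm₀) = 0 := by
    rw [← Functor.map_comp, ← tr_naturality g hm₀, Functor.map_comp, ← hb₀', Category.assoc,
      ← Functor.map_comp]
    have : f.app (op n) ≫ g.app (op n) = 0 := comp_distTriang_mor_zero₁₂ _ (hT n)
    rw [this, Functor.map_zero, comp_zero]
  change (homologyFunctor A i).map (ARSys.tr Z (hm₀.trans hm₁)) = 0
  rw [← tr_comp Z hm₀ hm₁, Functor.map_comp, ← cancel_epi π, comp_zero, ← Category.assoc, hy,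
    Category.assoc]
  change y ≫ (homologyFunctor A i).map (g.app (op m₀)) ≫ _ = 0
  rw [hC, comp_zero]

/-- A map between objects of `D(A)` concentrated in degree `b` which is zero on `H^b` is zero. -/
lemma eq_zero_of_homologyMap_eq_zero {M N : DerivedCategory A} (b : ℤ) [M.IsGE b] [M.IsLE b]
    [N.IsGE b] [N.IsLE b] (φ : M ⟶ N) (hφ : (homologyFunctor A b).map φ = 0) : φ = 0 := by
  obtain ⟨Y, ⟨e⟩⟩ := exists_iso_singleFunctor_obj_of_isGE_of_isLE M b
  obtain ⟨Y', ⟨e'⟩⟩ := exists_iso_singleFunctor_obj_of_isGE_of_isLE N b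
  obtain ⟨ψ, hψ⟩ := (singleFunctor A b).map_surjective (e.inv ≫ φ ≫ e'.hom)
  have h1 := NatIso.naturality_1 (singleFunctorCompHomologyFunctorIso A b) ψ
  have h2 : ψ = 0 := by
    have h1' : ψ = (singleFunctorCompHomologyFunctorIso A b).inv.app Y ≫
        (homologyFunctor A b).map ((singleFunctor A b).map ψ) ≫
          (singleFunctorCompHomologyFunctorIso A b).hom.app Y' := h1.symm
    rw [h1', hψ, Functor.map_comp, Functor.map_comp, hφ, zero_comp, comp_zero, zero_comp,
      comp_zero]
  have h3 : φ = e.hom ≫ (singleFunctor A b).map ψ ≫ e'.inv := by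
    rw [hψ]
    simp
  rw [h3, h2, Functor.map_zero, zero_comp, comp_zero]

open DerivedCategory.TStructure in
/-- An inverse system in `D(A)` with cohomology in `[a, a + N)` all of whose cohomology systems are
pro-zero is pro-zero. -/
theorem isProZero_of_homology (N : ℕ) : ∀ (Z : ARSys.PS (DerivedCategory A)) (a : ℤ)
    (_ : ∀ (n : ℕ) (i : ℤ), i < a ∨ a + N ≤ i →
      IsZero ((homologyFunctor A i).obj (Z.obj (op n))))
    (_ : ∀ i : ℤ, DerCA.IsProZero (Z ⋙ homologyFunctor A i)), DerCA.IsProZero Z := by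
  induction N with
  | zero =>
    intro Z a hZ _ n
    refine ⟨n, le_rfl, ?_⟩
    have h1 : (Z.obj (op n)).IsGE a := by
      rw [isGE_iff]
      intro i hi
      exact hZ n i (Or.inl hi)
    have h2 : (Z.obj (op n)).IsLE (a - 1) := by
      rw [isLE_iff]
      intro i hi
      exact hZ n i (Or.inr (by simp; lia))
    have hz : IsZero (Z.obj (op n)) := t.isZero (Z.obj (op n)) (a - 1) a (by lia)
    exact hz.eq_of_src _ _
  | succ N ih =>
    intro Z a hZ hH
    let b : ℤ := a + N
    let W : ARSys.PS (DerivedCategory A) := Z ⋙ t.truncLT b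
    let V : ARSys.PS (DerivedCategory A) := Z ⋙ t.truncGE b
    let u : W ⟶ Z :=
      { app := fun n => (t.truncLTι b).app (Z.obj n)
        naturality := fun _ _ φ => (t.truncLTι b).naturality (Z.map φ) }
    let v : Z ⟶ V :=
      { app := fun n => (t.truncGEπ b).app (Z.obj n)
        naturality := fun _ _ φ => (t.truncGEπ b).naturality (Z.map φ) }
    have hdist : ∀ n : ℕ, Triangle.mk (u.app (op n)) (v.app (op n))
        ((t.truncGEδLT b).app (Z.obj (op n))) ∈ distTriang _ :=
      fun n => t.triangleLTGE_distinguished b (Z.obj (op n))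
    -- the cohomology of `W`
    have hWLE : ∀ n : ℕ, (W.obj (op n)).IsLE (b - 1) := fun n => by
      dsimp only [W, Functor.comp_obj]
      infer_instance
    have hVGE : ∀ n : ℕ, (V.obj (op n)).IsGE b := fun n => by
      dsimp only [V, Functor.comp_obj]
      infer_instance
    have hmono : ∀ (n : ℕ) (i : ℤ), Mono ((homologyFunctor A i).map (u.app (op n))) := by
      intro n i
      by_cases hi : i ≤ b
      · refine (HomologySequence.mono_homologyMap_mor₁_iff _ (hdist n) (i - 1) i (by lia)).2 ?_
        have : IsZero ((homologyFunctor A (i - 1)).obj (V.obj (op n))) :=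
          isZero_of_isGE (V.obj (op n)) b (i - 1) (by lia)
        exact this.eq_of_src _ _
      · have : IsZero ((homologyFunctor A i).obj (W.obj (op n))) :=
          isZero_of_isLE (W.obj (op n)) (b - 1) i (by lia)
        exact this.mono _
    have hW : ∀ (n : ℕ) (i : ℤ), i < a ∨ a + N ≤ i →
        IsZero ((homologyFunctor A i).obj (W.obj (op n))) := by
      intro n i hi
      rcases hi with hi | hi
      · have := hmono n i
        exact IsZero.of_mono ((homologyFunctor A i).map (u.app (op n))) (hZ n i (Or.inl hi))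
      · exact isZero_of_isLE (W.obj (op n)) (b - 1) i (by dsimp only [b]; lia)
    have hHW : ∀ i : ℤ, DerCA.IsProZero (W ⋙ homologyFunctor A i) := by
      intro i n
      obtain ⟨m, hm, hZm⟩ := hH i n
      refine ⟨m, hm, ?_⟩
      have := hmono n i
      rw [← cancel_mono ((homologyFunctor A i).map (u.app (op n))), zero_comp]
      change (homologyFunctor A i).map (ARSys.tr W hm) ≫ _ = 0
      rw [← Functor.map_comp, tr_naturality u hm, Functor.map_comp]
      change _ ≫ ARSys.tr (Z ⋙ homologyFunctor A i) hm = 0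
      rw [hZm, comp_zero]
    have hWzero : DerCA.IsProZero W := ih W a hW hHW
    -- the system `V`
    have hVLE : ∀ n : ℕ, (V.obj (op n)).IsLE b := by
      intro n
      rw [isLE_iff]
      intro i hi
      refine isZero_homology_obj₃ _ (hdist n) i (hZ n i (Or.inr ?_)) ?_
      · dsimp only [b] at hi
        push_cast
        lia
      · exact isZero_of_isLE (W.obj (op n)) (b - 1) (i + 1) (by lia)
    have hepi : ∀ n : ℕ, Epi ((homologyFunctor A b).map (v.app (op n))) := by
      intro n
      refine (HomologySequence.epi_homologyMap_mor₂_iff _ (hdist n) b (b + 1) rfl).2 ?_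
      have : IsZero ((homologyFunctor A (b + 1)).obj (W.obj (op n))) :=
        isZero_of_isLE (W.obj (op n)) (b - 1) (b + 1) (by lia)
      exact this.eq_of_tgt _ _
    have hVzero : DerCA.IsProZero V := by
      intro n
      obtain ⟨m, hm, hZm⟩ := hH b n
      refine ⟨m, hm, ?_⟩
      have := hVGE n
      have := hVGE m
      have := hVLE n
      have := hVLE m
      apply eq_zero_of_homologyMap_eq_zero b
      have := hepi m
      rw [← cancel_epi ((homologyFunctor A b).map (v.app (op m))), comp_zero,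
        ← Functor.map_comp, ← tr_naturality v hm, Functor.map_comp]
      change ARSys.tr (Z ⋙ homologyFunctor A b) hm ≫ _ = 0
      rw [hZm, zero_comp]
    exact isProZero_of_triangle W Z V u v (fun n => ⟨_, hdist n⟩) hWzero hVzero

end Derived

end Groth.Agent.Lib.ProSystems
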