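import Groth.Agent.Lib.ProSystems
import Groth.Agent.S6615

/-!
# Essentially constant inverse systems in derived categories (helper21)

* `isEssConstant_of_iso`, `isEssConstant_of_isZero`: transfer along isomorphisms of systems, systems
  of zero objects.
* `exists_map_of_concentrated`: for objects `M`, `N` of `D(A)` concentrated in degree `b`, every
  map `H^b(M) ⟶ H^b(N)` is induced by a map `M ⟶ N`.
* `isEssConstant_of_concentrated`: a system of objects of `D(A)` concentrated in degree `b` is
  essentially constant if its `H^b` is.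
* `isEssConstant_of_homology`: bounded cohomology + all `H^i` essentially constant ⇒ essentially
  constant (Stacks, *Derived Categories*, essentially constant systems), by induction on the
  amplitude using the two-out-of-three property `S6615`.
-/

set_option autoImplicit false
set_option backward.isDefEq.respectTransparency false
universe w v u

open CategoryTheory CategoryTheory.Limits Opposite CategoryTheory.Pretriangulated ZeroObject

namespace Groth.Agent.Lib.ProSystems

section General

variable {C : Type u} [Category.{v} C]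

/-- Essential constancy transfers along isomorphisms of systems. -/
lemma isEssConstant_of_iso {X X' : ARSys.PS C} (α : X ≅ X') (B : C)
    (c : (Functor.const ℕᵒᵖ).obj B ⟶ X) (h : DerCA.IsEssConstant X B c) :
    DerCA.IsEssConstant X' B (c ≫ α.hom) := by
  obtain ⟨i, s, hs, H⟩ := h
  refine ⟨i, α.inv.app (op i) ≫ s, ?_, ?_⟩
  · rw [NatTrans.comp_app, Category.assoc, ← Category.assoc (α.hom.app (op i)),
      ← NatTrans.comp_app, α.hom_inv_id, NatTrans.id_app, Category.id_comp, hs]
  · intro j
    obtain ⟨k, hi, hj, hk⟩ := H j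
    refine ⟨k, hi, hj, ?_⟩
    have h1 : ARSys.tr X' hj = α.inv.app (op k) ≫ ARSys.tr X hj ≫ α.hom.app (op j) := by
      rw [tr_naturality α.hom hj, ← Category.assoc, ← NatTrans.comp_app, α.inv_hom_id,
        NatTrans.id_app, Category.id_comp]
    have h2 : ARSys.tr X' hi ≫ α.inv.app (op i) = α.inv.app (op k) ≫ ARSys.tr X hi :=
      tr_naturality α.inv hi
    rw [h1, hk, NatTrans.comp_app]
    simp only [Category.assoc]
    rw [reassoc_of% h2]

/-- A system of zero objects is essentially constant with value `0`. -/
lemma isEssConstant_of_isZero [HasZeroObject C] [HasZeroMorphisms C] (X : ARSys.PS C)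
    (hX : ∀ n : ℕ, IsZero (X.obj (op n))) :
    DerCA.IsEssConstant X 0 0 := by
  refine ⟨0, 0, (isZero_zero C).eq_of_src _ _, fun j => ⟨j, Nat.zero_le j, le_rfl, ?_⟩⟩
  exact (hX j).eq_of_tgt _ _

end General

section Derived

variable {A : Type u} [Category.{v} A] [Abelian A] [HasDerivedCategory.{w} A]

open DerivedCategory

/-- Injectivity of `H^b` on maps between objects concentrated in degree `b`. -/
lemma hom_ext_of_concentrated {M N : DerivedCategory A} (b : ℤ) [M.IsGE b] [M.IsLE b]
    [N.IsGE b] [N.IsLE b] (φ φ' : M ⟶ N)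
    (h : (homologyFunctor A b).map φ = (homologyFunctor A b).map φ') : φ = φ' := by
  rw [← sub_eq_zero]
  apply eq_zero_of_homologyMap_eq_zero b
  rw [Functor.map_sub, h, sub_self]

/-- Fullness of `H^b` on objects concentrated in degree `b`. -/
lemma exists_map_of_concentrated {M N : DerivedCategory A} (b : ℤ) [M.IsGE b] [M.IsLE b]
    [N.IsGE b] [N.IsLE b]
    (ψ : (homologyFunctor A b).obj M ⟶ (homologyFunctor A b).obj N) :
    ∃ φ : M ⟶ N, (homologyFunctor A b).map φ = ψ := by
  obtain ⟨Y, ⟨e⟩⟩ := exists_iso_singleFunctor_obj_of_isGE_of_isLE M b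
  obtain ⟨Y', ⟨e'⟩⟩ := exists_iso_singleFunctor_obj_of_isGE_of_isLE N b
  let ιY : (homologyFunctor A b).obj ((singleFunctor A b).obj Y) ≅ Y :=
    (singleFunctorCompHomologyFunctorIso A b).app Y
  let ιY' : (homologyFunctor A b).obj ((singleFunctor A b).obj Y') ≅ Y' :=
    (singleFunctorCompHomologyFunctorIso A b).app Y'
  let ψ' : Y ⟶ Y' := ιY.inv ≫ (homologyFunctor A b).map e.inv ≫ ψ ≫
    (homologyFunctor A b).map e'.hom ≫ ιY'.hom
  refine ⟨e.hom ≫ (singleFunctor A b).map ψ' ≫ e'.inv, ?_⟩
  have h1 : (homologyFunctor A b).map ((singleFunctor A b).map ψ') =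
      ιY.hom ≫ ψ' ≫ ιY'.inv := by
    have h0 : (homologyFunctor A b).map ((singleFunctor A b).map ψ') ≫ ιY'.hom = ιY.hom ≫ ψ' :=
      (singleFunctorCompHomologyFunctorIso A b).hom.naturality ψ'
    rw [← cancel_mono ιY'.hom, h0, Category.assoc, Category.assoc, Iso.inv_hom_id,
      Category.comp_id]
  have h2 : ιY.hom ≫ ψ' ≫ ιY'.inv =
      (homologyFunctor A b).map e.inv ≫ ψ ≫ (homologyFunctor A b).map e'.hom := by
    dsimp only [ψ']
    simp only [Category.assoc, Iso.hom_inv_id, Category.comp_id, Iso.hom_inv_id_assoc]
  rw [Functor.map_comp, Functor.map_comp, h1, h2]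
  simp only [Category.assoc]
  rw [← Functor.map_comp_assoc, e.hom_inv_id,
    CategoryTheory.Functor.map_id, Category.id_comp, ← Functor.map_comp,
    e'.hom_inv_id, CategoryTheory.Functor.map_id, Category.comp_id]

/-- A system of objects of `D(A)` concentrated in degree `b` whose `H^b` is essentially constant
is essentially constant. -/
theorem isEssConstant_of_concentrated (V : ARSys.PS (DerivedCategory A)) (b : ℤ)
    (hGE : ∀ n : ℕ, (V.obj (op n)).IsGE b) (hLE : ∀ n : ℕ, (V.obj (op n)).IsLE b)
    (B : A) (cB : (Functor.const ℕᵒᵖ).obj B ⟶ V ⋙ homologyFunctor A b)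
    (h : DerCA.IsEssConstant (V ⋙ homologyFunctor A b) B cB) :
    ∃ (L : DerivedCategory A) (c : (Functor.const ℕᵒᵖ).obj L ⟶ V), DerCA.IsEssConstant V L c := by
  obtain ⟨i, s, hs, H⟩ := h
  let L : DerivedCategory A := (singleFunctor A b).obj B
  let ι : (homologyFunctor A b).obj L ≅ B := (singleFunctorCompHomologyFunctorIso A b).app B
  have hL1 : L.IsGE b := inferInstance
  have hL2 : L.IsLE b := inferInstance
  have hex : ∀ n : ℕ, ∃ φ : L ⟶ V.obj (op n),
      (homologyFunctor A b).map φ = ι.hom ≫ cB.app (op n) := fun n => by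
    have := hGE n
    have := hLE n
    exact exists_map_of_concentrated b _
  choose c hc using hex
  have hnat : ∀ (n m : ℕ) (hnm : n ≤ m), c m ≫ ARSys.tr V hnm = c n := by
    intro n m hnm
    have := hGE n
    have := hLE n
    apply hom_ext_of_concentrated b
    rw [Functor.map_comp, hc, hc, Category.assoc]
    congr 1
    have := cB.naturality (homOfLE hnm).op
    dsimp at this
    rw [Category.id_comp] at this
    exact this.symm
  let cL : (Functor.const ℕᵒᵖ).obj L ⟶ V :=
    { app := fun n => c n.unop
      naturality := by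
        intro n m φ
        have hle : m.unop ≤ n.unop := leOfHom φ.unop
        have : φ = (homOfLE hle).op := rfl
        dsimp
        rw [Category.id_comp, this]
        exact (hnat m.unop n.unop hle).symm }
  have := hGE i
  have := hLE i
  obtain ⟨s', hs'⟩ : ∃ s' : V.obj (op i) ⟶ L, (homologyFunctor A b).map s' = s ≫ ι.inv :=
    exists_map_of_concentrated b _
  refine ⟨L, cL, i, s', ?_, ?_⟩
  · change c i ≫ s' = 𝟙 L
    apply hom_ext_of_concentrated b
    rw [Functor.map_comp, hc, hs', CategoryTheory.Functor.map_id, Category.assoc,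
      ← Category.assoc (cB.app (op i)), hs]
    simp
  · intro j
    obtain ⟨k, hi, hj, hk⟩ := H j
    refine ⟨k, hi, hj, ?_⟩
    have := hGE j
    have := hLE j
    have := hGE k
    have := hLE k
    change ARSys.tr V hj = ARSys.tr V hi ≫ s' ≫ c j
    apply hom_ext_of_concentrated b
    rw [Functor.map_comp, Functor.map_comp, hc, hs']
    simp only [Category.assoc, Iso.inv_hom_id_assoc]
    exact hk

open DerivedCategory.TStructure in
/-- An inverse system in `D(A)` with cohomology in `[a, a + N)` all of whose cohomology systems are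
essentially constant is essentially constant. -/
theorem isEssConstant_of_homology (N : ℕ) : ∀ (X : ARSys.PS (DerivedCategory A)) (a : ℤ)
    (_ : ∀ (n : ℕ) (i : ℤ), i < a ∨ a + N ≤ i →
      IsZero ((homologyFunctor A i).obj (X.obj (op n))))
    (_ : ∀ i : ℤ, ∃ (B : A) (c : (Functor.const ℕᵒᵖ).obj B ⟶ X ⋙ homologyFunctor A i),
      DerCA.IsEssConstant (X ⋙ homologyFunctor A i) B c),
    ∃ (L : DerivedCategory A) (c : (Functor.const ℕᵒᵖ).obj L ⟶ X), DerCA.IsEssConstant X L c := by
  induction N with
  | zero =>
    intro X a hX _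
    refine ⟨0, 0, isEssConstant_of_isZero X (fun n => ?_)⟩
    have h1 : (X.obj (op n)).IsGE a := by
      rw [isGE_iff]
      intro i hi
      exact hX n i (Or.inl hi)
    have h2 : (X.obj (op n)).IsLE (a - 1) := by
      rw [isLE_iff]
      intro i hi
      exact hX n i (Or.inr (by simp; lia))
    exact t.isZero (X.obj (op n)) (a - 1) a (by lia)
  | succ N ih =>
    intro X a hX hH
    let b : ℤ := a + N
    let W : ARSys.PS (DerivedCategory A) := X ⋙ t.truncLT b
    let V : ARSys.PS (DerivedCategory A) := X ⋙ t.truncGE b
    let u : W ⟶ X :=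
      { app := fun n => (t.truncLTι b).app (X.obj n)
        naturality := fun _ _ φ => (t.truncLTι b).naturality (X.map φ) }
    let v : X ⟶ V :=
      { app := fun n => (t.truncGEπ b).app (X.obj n)
        naturality := fun _ _ φ => (t.truncGEπ b).naturality (X.map φ) }
    let δ : V ⟶ W ⋙ shiftFunctor (DerivedCategory A) (1 : ℤ) :=
      { app := fun n => (t.truncGEδLT b).app (X.obj n)
        naturality := fun _ _ φ => (t.truncGEδLT b).naturality (X.map φ) }
    have hdist : ∀ n : ℕ, Triangle.mk (u.app (op n)) (v.app (op n)) (δ.app (op n)) ∈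
        distTriang _ :=
      fun n => t.triangleLTGE_distinguished b (X.obj (op n))
    have hWLE : ∀ n : ℕ, (W.obj (op n)).IsLE (b - 1) := fun n => by
      dsimp only [W, Functor.comp_obj]
      infer_instance
    have hVGE : ∀ n : ℕ, (V.obj (op n)).IsGE b := fun n => by
      dsimp only [V, Functor.comp_obj]
      infer_instance
    -- `H^i(W) ≅ H^i(X)` for `i < b`
    have hiso : ∀ (n : ℕ) (i : ℤ), i < b → IsIso ((homologyFunctor A i).map (u.app (op n))) := by
      intro n i hi
      have hm : Mono ((homologyFunctor A i).map (u.app (op n))) := by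
        refine (HomologySequence.mono_homologyMap_mor₁_iff _ (hdist n) (i - 1) i (by lia)).2 ?_
        have : IsZero ((homologyFunctor A (i - 1)).obj (V.obj (op n))) :=
          isZero_of_isGE (V.obj (op n)) b (i - 1) (by lia)
        exact this.eq_of_src _ _
      have he : Epi ((homologyFunctor A i).map (u.app (op n))) := by
        refine (HomologySequence.epi_homologyMap_mor₁_iff _ (hdist n) i).2 ?_
        have : IsZero ((homologyFunctor A i).obj (V.obj (op n))) :=
          isZero_of_isGE (V.obj (op n)) b i hi
        exact this.eq_of_tgt _ _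
      exact isIso_of_mono_of_epi _
    have hW : ∀ (n : ℕ) (i : ℤ), i < a ∨ a + N ≤ i →
        IsZero ((homologyFunctor A i).obj (W.obj (op n))) := by
      intro n i hi
      rcases hi with hi | hi
      · have := hiso n i (by dsimp only [b]; lia)
        exact IsZero.of_iso (hX n i (Or.inl hi)) (asIso ((homologyFunctor A i).map (u.app (op n))))
      · exact isZero_of_isLE (W.obj (op n)) (b - 1) i (by dsimp only [b]; lia)
    have hHW : ∀ i : ℤ, ∃ (B : A) (c : (Functor.const ℕᵒᵖ).obj B ⟶ W ⋙ homologyFunctor A i),
        DerCA.IsEssConstant (W ⋙ homologyFunctor A i) B c := by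
      intro i
      by_cases hi : i < b
      · obtain ⟨B, c, hc⟩ := hH i
        have : ∀ n : ℕᵒᵖ, IsIso ((Functor.whiskerRight u (homologyFunctor A i)).app n) := by
          intro n
          exact hiso n.unop i hi
        have : IsIso (Functor.whiskerRight u (homologyFunctor A i)) := NatIso.isIso_of_isIso_app _
        exact ⟨B, _, isEssConstant_of_iso
          (asIso (Functor.whiskerRight u (homologyFunctor A i))).symm B c hc⟩
      · refine ⟨0, 0, isEssConstant_of_isZero _ (fun n => ?_)⟩
        exact isZero_of_isLE (W.obj (op n)) (b - 1) i (by lia)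
    obtain ⟨LW, cW, hLW⟩ := ih W a hW hHW
    -- the system `V`
    have hVLE : ∀ n : ℕ, (V.obj (op n)).IsLE b := by
      intro n
      rw [isLE_iff]
      intro i hi
      refine isZero_homology_obj₃ _ (hdist n) i (hX n i (Or.inr ?_)) ?_
      · dsimp only [b] at hi
        push_cast
        lia
      · exact isZero_of_isLE (W.obj (op n)) (b - 1) (i + 1) (by lia)
    have hisoV : ∀ n : ℕ, IsIso ((homologyFunctor A b).map (v.app (op n))) := by
      intro n
      have he : Epi ((homologyFunctor A b).map (v.app (op n))) := by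
        refine (HomologySequence.epi_homologyMap_mor₂_iff _ (hdist n) b (b + 1) rfl).2 ?_
        have : IsZero ((homologyFunctor A (b + 1)).obj (W.obj (op n))) :=
          isZero_of_isLE (W.obj (op n)) (b - 1) (b + 1) (by lia)
        exact this.eq_of_tgt _ _
      have hm : Mono ((homologyFunctor A b).map (v.app (op n))) := by
        refine (HomologySequence.mono_homologyMap_mor₂_iff _ (hdist n) b).2 ?_
        have : IsZero ((homologyFunctor A b).obj (W.obj (op n))) :=
          isZero_of_isLE (W.obj (op n)) (b - 1) b (by lia)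
        exact this.eq_of_src _ _
      exact isIso_of_mono_of_epi _
    obtain ⟨LV, cV, hLV⟩ : ∃ (L : DerivedCategory A) (c : (Functor.const ℕᵒᵖ).obj L ⟶ V),
        DerCA.IsEssConstant V L c := by
      obtain ⟨B, c, hc⟩ := hH b
      have : ∀ n : ℕᵒᵖ, IsIso ((Functor.whiskerRight v (homologyFunctor A b)).app n) := by
        intro n
        exact hisoV n.unop
      have : IsIso (Functor.whiskerRight v (homologyFunctor A b)) := NatIso.isIso_of_isIso_app _
      exact isEssConstant_of_concentrated V b hVGE hVLE B _
        (isEssConstant_of_iso (asIso (Functor.whiskerRight v (homologyFunctor A b))) B c hc)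
    exact Groth.Agent.S6615.result W X V u v δ hdist ⟨LW, cW, hLW⟩ ⟨LV, cV, hLV⟩

end Derived

end Groth.Agent.Lib.ProSystems
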