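import Mathlib.CategoryTheory.Products.Basic
import Mathlib.CategoryTheory.Functor.Currying
import Mathlib.CategoryTheory.Opposites
import Mathlib.CategoryTheory.Sites.Sheaf
import Mathlib.CategoryTheory.Sites.SheafOfTypes

/-!
# The product site `Dᵒᵖ × C` whose sheaves are the `D`-diagrams of sheaves on `C`
-/

set_option autoImplicit false
open CategoryTheory Opposite
universe u

namespace Groth.Agent.Lib.ProdSite

variable {C D : Type u} [SmallCategory C] [SmallCategory D]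

/-- The sieve on the second component cut out by a sieve on `Dᵒᵖ × C`. -/
def sliceSieve {X : Dᵒᵖ × C} (S : Sieve X) : Sieve X.2 where
  arrows c' f := S (show ((X.1, c') : Dᵒᵖ × C) ⟶ X from (𝟙 X.1, f))
  downward_closed := by
    intro c' c'' f hf g
    have e : (show ((X.1, c'') : Dᵒᵖ × C) ⟶ X from (𝟙 X.1, g ≫ f)) =
        (show ((X.1, c'') : Dᵒᵖ × C) ⟶ (X.1, c') from (𝟙 X.1, g)) ≫
          (show ((X.1, c') : Dᵒᵖ × C) ⟶ X from (𝟙 X.1, f)) := by
      apply Prod.ext
      · exact (Category.comp_id _).symm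
      · rfl
    show S _
    rw [e]
    exact S.downward_closed hf _

lemma sliceSieve_apply {X : Dᵒᵖ × C} (S : Sieve X) {c' : C} (f : c' ⟶ X.2) :
    sliceSieve S f ↔ S (show ((X.1, c') : Dᵒᵖ × C) ⟶ X from (𝟙 X.1, f)) := Iff.rfl

variable (J : GrothendieckTopology C)

/-- The topology on `Dᵒᵖ × C` induced by `J` on the second factor. -/
def prodTopology : GrothendieckTopology (Dᵒᵖ × C) where
  sieves X := {S | sliceSieve S ∈ J X.2}
  top_mem' X := by
    show sliceSieve (⊤ : Sieve X) ∈ J X.2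
    refine J.superset_covering ?_ (J.top_mem X.2)
    intro c' f _
    exact trivial
  pullback_stable' X Y S φ hS := by
    show sliceSieve (S.pullback φ) ∈ J Y.2
    refine J.superset_covering ?_ (J.pullback_stable φ.2 hS)
    intro c' f hf
    have hf' : S (show ((X.1, c') : Dᵒᵖ × C) ⟶ X from (𝟙 X.1, f ≫ φ.2)) := hf
    show S ((show ((Y.1, c') : Dᵒᵖ × C) ⟶ Y from (𝟙 Y.1, f)) ≫ φ)
    have e : (show ((Y.1, c') : Dᵒᵖ × C) ⟶ Y from (𝟙 Y.1, f)) ≫ φ =
        (show ((Y.1, c') : Dᵒᵖ × C) ⟶ (X.1, c') from (φ.1, 𝟙 c')) ≫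
          (show ((X.1, c') : Dᵒᵖ × C) ⟶ X from (𝟙 X.1, f ≫ φ.2)) := by
      apply Prod.ext
      · exact (Category.id_comp _).trans (Category.comp_id _).symm
      · exact (Category.id_comp _).symm
    rw [e]
    exact S.downward_closed hf' _
  transitive' X S hS R hR := by
    show sliceSieve R ∈ J X.2
    refine J.transitive hS _ ?_
    intro c' f hf
    have h1 : sliceSieve (R.pullback (show ((X.1, c') : Dᵒᵖ × C) ⟶ X from (𝟙 X.1, f))) ∈ J c' :=
      hR hf
    refine J.superset_covering ?_ h1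
    intro c'' g hg
    have hg' : R ((show ((X.1, c'') : Dᵒᵖ × C) ⟶ (X.1, c') from (𝟙 X.1, g)) ≫
        (show ((X.1, c') : Dᵒᵖ × C) ⟶ X from (𝟙 X.1, f))) := hg
    show R (show ((X.1, c'') : Dᵒᵖ × C) ⟶ X from (𝟙 X.1, g ≫ f))
    have e : (show ((X.1, c'') : Dᵒᵖ × C) ⟶ X from (𝟙 X.1, g ≫ f)) =
        (show ((X.1, c'') : Dᵒᵖ × C) ⟶ (X.1, c') from (𝟙 X.1, g)) ≫
          (show ((X.1, c') : Dᵒᵖ × C) ⟶ X from (𝟙 X.1, f)) := by
      apply Prod.ext
      · exact (Category.comp_id _).symm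
      · rfl
    rw [e]
    exact hg'

lemma mem_prodTopology_iff {X : Dᵒᵖ × C} (S : Sieve X) :
    S ∈ prodTopology (D := D) J X ↔ sliceSieve S ∈ J X.2 := Iff.rfl

end Groth.Agent.Lib.ProdSite
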