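import Groth.Agent.Lib.ProdSite
import Mathlib.CategoryTheory.Products.Basic
import Mathlib.CategoryTheory.Functor.Currying
import Mathlib.CategoryTheory.Sites.IsSheafFor

/-!
# Sheaves on the product site are diagrams of sheaves
-/

set_option autoImplicit false
open CategoryTheory Opposite
universe u

namespace Groth.Agent.Lib.ProdSite

variable (C D : Type u) [SmallCategory C] [SmallCategory D]

/-- `(Dᵒᵖ × C)ᵒᵖ ≌ D × Cᵒᵖ`. -/
noncomputable def reindexEquiv : (Dᵒᵖ × C)ᵒᵖ ≌ D × Cᵒᵖ :=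
  (prodOpEquiv Dᵒᵖ).trans ((opOpEquivalence D).prod (CategoryTheory.Equivalence.refl))

/-- Diagrams of presheaves on `C` are presheaves on `Dᵒᵖ × C`. -/
noncomputable def Ξ : (D ⥤ Cᵒᵖ ⥤ Type u) ≌ ((Dᵒᵖ × C)ᵒᵖ ⥤ Type u) :=
  Functor.currying.trans (reindexEquiv C D).symm.congrLeft

variable {C D} (H : D ⥤ Cᵒᵖ ⥤ Type u)

/-- The presheaf on `Dᵒᵖ × C` attached to a diagram of presheaves. -/
noncomputable abbrev G : (Dᵒᵖ × C)ᵒᵖ ⥤ Type u := (Ξ C D).functor.obj H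

/-- restriction in the `C`-direction -/
abbrev r {d : D} {c c' : C} (f : c' ⟶ c) (t : (H.obj d).obj (op c)) : (H.obj d).obj (op c') :=
  (H.obj d).map f.op t

/-- transition in the `D`-direction -/
abbrev tr {d d' : D} (g : d ⟶ d') {c : C} (t : (H.obj d).obj (op c)) : (H.obj d').obj (op c) :=
  (H.map g).app (op c) t

lemma r_comp {d : D} {c c' c'' : C} (g : c'' ⟶ c') (f : c' ⟶ c) (t : (H.obj d).obj (op c)) :
    r H (g ≫ f) t = r H g (r H f t) := by
  simp only [r, op_comp, Functor.map_comp_apply]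

lemma r_id {d : D} {c : C} (t : (H.obj d).obj (op c)) : r H (𝟙 c) t = t := by
  simp only [r, op_id, Functor.map_id_apply]

lemma tr_comp {d d' d'' : D} (g : d ⟶ d') (g' : d' ⟶ d'') {c : C} (t : (H.obj d).obj (op c)) :
    tr H (g ≫ g') t = tr H g' (tr H g t) := by
  simp only [tr, Functor.map_comp, NatTrans.comp_app]
  rfl

lemma tr_id {d : D} {c : C} (t : (H.obj d).obj (op c)) : tr H (𝟙 d) t = t := by
  simp only [tr, CategoryTheory.Functor.map_id, NatTrans.id_app]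
  rfl

lemma tr_unop_id {δ : Dᵒᵖ} {c : C} (t : (H.obj δ.unop).obj (op c)) :
    tr H (𝟙 δ).unop t = t := by
  rw [unop_id]
  exact tr_id H t

lemma tr_r {d d' : D} (g : d ⟶ d') {c c' : C} (f : c' ⟶ c) (t : (H.obj d).obj (op c)) :
    tr H g (r H f t) = r H f (tr H g t) :=
  NatTrans.naturality_apply (H.map g) f.op t

lemma G_map_apply {X Y : Dᵒᵖ × C} (φ : Y ⟶ X) (t : (H.obj X.1.unop).obj (op X.2)) :
    (G H).map φ.op t = r H φ.2 (tr H φ.1.unop t) := rfl

lemma family_congr {P : (Dᵒᵖ × C)ᵒᵖ ⥤ Type u} {X : Dᵒᵖ × C} {S : Sieve X}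
    (x : Presieve.FamilyOfElements P S.arrows) {Y : Dᵒᵖ × C} {φ φ' : Y ⟶ X} (h : φ = φ')
    (hφ : S φ) (hφ' : S φ') : x φ hφ = x φ' hφ' := by
  subst h
  rfl

variable (J : GrothendieckTopology C)

theorem isSheaf_G_of_forall (hH : ∀ d, Presieve.IsSheaf J (H.obj d)) :
    Presieve.IsSheaf (prodTopology (D := D) J) (G H) := by
  intro X S hS x hx
  have hxs := (Presieve.compatible_iff_sieveCompatible x).1 hx
  have hT : sliceSieve S ∈ J X.2 := hS
  -- the family on the slice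
  let y : Presieve.FamilyOfElements (H.obj X.1.unop) (sliceSieve S).arrows := fun c' f hf =>
    x (show ((X.1, c') : Dᵒᵖ × C) ⟶ X from (𝟙 X.1, f)) hf
  have hy : y.Compatible := by
    rw [Presieve.compatible_iff_sieveCompatible]
    intro c' c'' f g hf
    have h1 := hxs (show ((X.1, c') : Dᵒᵖ × C) ⟶ X from (𝟙 X.1, f))
      (show ((X.1, c'') : Dᵒᵖ × C) ⟶ (X.1, c') from (𝟙 X.1, g)) hf
    have e : (show ((X.1, c'') : Dᵒᵖ × C) ⟶ X from (𝟙 X.1, g ≫ f)) =
        (show ((X.1, c'') : Dᵒᵖ × C) ⟶ (X.1, c') from (𝟙 X.1, g)) ≫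
          (show ((X.1, c') : Dᵒᵖ × C) ⟶ X from (𝟙 X.1, f)) := by
      apply Prod.ext
      · exact (Category.comp_id _).symm
      · rfl
    show x (show ((X.1, c'') : Dᵒᵖ × C) ⟶ X from (𝟙 X.1, g ≫ f)) _ = _
    rw [family_congr x e _ (S.downward_closed hf _), h1, G_map_apply]
    show r H g (tr H (𝟙 X.1).unop _) = r H g _
    rw [unop_id, tr_id]
  have hsh := hH X.1.unop _ hT
  refine ⟨hsh.amalgamate y hy, ?_, ?_⟩
  · intro Y φ hφ
    -- check on the pulled back slice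
    have hcov : (sliceSieve S).pullback φ.2 ∈ J Y.2 := J.pullback_stable φ.2 hT
    apply ((hH Y.1.unop).isSeparated _ hcov).ext
    intro c'' f hf
    have hf' : S (show ((X.1, c'') : Dᵒᵖ × C) ⟶ X from (𝟙 X.1, f ≫ φ.2)) := hf
    have e1 : (show ((Y.1, c'') : Dᵒᵖ × C) ⟶ Y from (𝟙 Y.1, f)) ≫ φ =
        (show ((Y.1, c'') : Dᵒᵖ × C) ⟶ (X.1, c'') from (φ.1, 𝟙 c'')) ≫
          (show ((X.1, c'') : Dᵒᵖ × C) ⟶ X from (𝟙 X.1, f ≫ φ.2)) := by
      apply Prod.ext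
      · exact (Category.id_comp _).trans (Category.comp_id _).symm
      · exact (Category.id_comp _).symm
    -- right hand side
    have hR : r H f (x φ hφ) =
        x ((show ((Y.1, c'') : Dᵒᵖ × C) ⟶ Y from (𝟙 Y.1, f)) ≫ φ) (S.downward_closed hφ _) := by
      have h2 := hxs φ (show ((Y.1, c'') : Dᵒᵖ × C) ⟶ Y from (𝟙 Y.1, f)) hφ
      rw [h2, G_map_apply]
      exact (congrArg (r H f) (tr_unop_id H (x φ hφ))).symm
    -- left hand side
    have hL : r H f ((G H).map φ.op (hsh.amalgamate y hy)) =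
        x ((show ((Y.1, c'') : Dᵒᵖ × C) ⟶ (X.1, c'') from (φ.1, 𝟙 c'')) ≫
          (show ((X.1, c'') : Dᵒᵖ × C) ⟶ X from (𝟙 X.1, f ≫ φ.2))) (S.downward_closed hf' _) := by
      have h3 := hxs (show ((X.1, c'') : Dᵒᵖ × C) ⟶ X from (𝟙 X.1, f ≫ φ.2))
        (show ((Y.1, c'') : Dᵒᵖ × C) ⟶ (X.1, c'') from (φ.1, 𝟙 c'')) hf'
      rw [h3, G_map_apply, G_map_apply]
      have h4 : r H (f ≫ φ.2) (hsh.amalgamate y hy) =
          x (show ((X.1, c'') : Dᵒᵖ × C) ⟶ X from (𝟙 X.1, f ≫ φ.2)) hf' :=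
        hsh.valid_glue hy (f ≫ φ.2) hf'
      show r H f (r H φ.2 (tr H φ.1.unop (hsh.amalgamate y hy))) =
        r H (𝟙 c'') (tr H φ.1.unop (x (show ((X.1, c'') : Dᵒᵖ × C) ⟶ X from (𝟙 X.1, f ≫ φ.2)) hf'))
      rw [r_id, ← h4, ← r_comp, tr_r]
    show r H f ((G H).map φ.op (hsh.amalgamate y hy)) = r H f (x φ hφ)
    rw [hL, hR]
    exact family_congr x e1.symm _ _
  · intro t ht
    apply hsh.isSeparatedFor.ext
    intro c' f hf
    have h5 : r H f (hsh.amalgamate y hy) = y f hf := hsh.valid_glue hy f hf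
    have h6 := ht (show ((X.1, c') : Dᵒᵖ × C) ⟶ X from (𝟙 X.1, f)) hf
    rw [G_map_apply] at h6
    have h7 : r H f (tr H (𝟙 X.1).unop t) = r H f t := congrArg (r H f) (tr_unop_id H t)
    show r H f t = r H f (hsh.amalgamate y hy)
    rw [h5, ← h7]
    exact h6

theorem isSheaf_obj_of_isSheaf_G (hG : Presieve.IsSheaf (prodTopology (D := D) J) (G H)) (d : D) :
    Presieve.IsSheaf J (H.obj d) := by
  intro c T hT y hy
  have hys := (Presieve.compatible_iff_sieveCompatible y).1 hy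
  let X : Dᵒᵖ × C := (op d, c)
  let S : Sieve X :=
    { arrows := fun Y φ => T φ.2
      downward_closed := fun {Y Z φ} hφ ψ => T.downward_closed hφ ψ.2 }
  have hS : S ∈ prodTopology (D := D) J X := by
    show sliceSieve S ∈ J c
    refine J.superset_covering ?_ hT
    intro c' f hf
    exact hf
  let x : Presieve.FamilyOfElements (G H) S.arrows := fun Y φ hφ =>
    tr H φ.1.unop (y φ.2 hφ)
  have hx : x.Compatible := by
    rw [Presieve.compatible_iff_sieveCompatible]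
    intro Y Z φ ψ hφ
    have h1 : y (ψ.2 ≫ φ.2) (T.downward_closed hφ ψ.2) = r H ψ.2 (y φ.2 hφ) := hys φ.2 ψ.2 hφ
    show tr H (φ.1.unop ≫ ψ.1.unop) (y (ψ.2 ≫ φ.2) (T.downward_closed hφ ψ.2)) =
      (G H).map ψ.op (tr H φ.1.unop (y φ.2 hφ))
    rw [G_map_apply, h1, tr_comp, tr_r, tr_r]
  have hsh := hG S hS
  refine ⟨hsh.amalgamate x hx, ?_, ?_⟩
  · intro c' f hf
    have h2 := hsh.valid_glue hx (show ((op d, c') : Dᵒᵖ × C) ⟶ X from (𝟙 _, f)) hf
    rw [G_map_apply] at h2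
    have h3 : r H f (tr H (𝟙 (op d)).unop (hsh.amalgamate x hx)) =
        tr H (𝟙 (op d)).unop (y f hf) := h2
    rw [tr_unop_id, tr_unop_id] at h3
    exact h3
  · intro t ht
    apply hsh.isSeparatedFor.ext
    intro Y φ hφ
    rw [hsh.valid_glue hx φ hφ, G_map_apply]
    show r H φ.2 (tr H φ.1.unop t) = tr H φ.1.unop (y φ.2 hφ)
    rw [← tr_r]
    exact congrArg (tr H φ.1.unop) (ht φ.2 hφ)

theorem isSheaf_G_iff :
    Presieve.IsSheaf (prodTopology (D := D) J) (G H) ↔ ∀ d, Presieve.IsSheaf J (H.obj d) :=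
  ⟨isSheaf_obj_of_isSheaf_G H J, isSheaf_G_of_forall H J⟩

end Groth.Agent.Lib.ProdSite
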