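import Groth.Agent.Lib.ProdSite2
import Groth.Prelude.Def_SGA4a
import Mathlib.CategoryTheory.Whiskering
import Mathlib.CategoryTheory.Functor.FullyFaithful
import Mathlib.CategoryTheory.Equivalence

/-!
# Diagrams in a topos form a topos
-/

set_option autoImplicit false
open CategoryTheory Opposite
universe v u

namespace Groth.Agent.Lib.ProdSite

variable {C : Type u} [SmallCategory C] (J : GrothendieckTopology C)
  (D : Type u) [SmallCategory D]

/-- Diagrams of sheaves as sheaves on the product site. -/
noncomputable def Θ : (D ⥤ Sheaf J (Type u)) ⥤ Sheaf (prodTopology (D := D) J) (Type u) where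
  obj K := ⟨G (K ⋙ sheafToPresheaf J (Type u)), (isSheaf_iff_isSheaf_of_type _ _).2
    (isSheaf_G_of_forall _ J (fun d => (isSheaf_iff_isSheaf_of_type _ _).1 (K.obj d).property))⟩
  map α := ⟨(Ξ C D).functor.map (Functor.whiskerRight α (sheafToPresheaf J (Type u)))⟩
  map_id K := by
    ext : 1
    simp
  map_comp α β := by
    ext : 1
    simp

/-- The underlying presheaf of `Θ`. -/
noncomputable def ΘCompIso : Θ J D ⋙ sheafToPresheaf (prodTopology (D := D) J) (Type u) ≅
    (Functor.whiskeringRight D _ _).obj (sheafToPresheaf J (Type u)) ⋙ (Ξ C D).functor :=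
  NatIso.ofComponents (fun K => Iso.refl _)

instance : (Θ J D).Faithful := Functor.Faithful.of_comp_iso (ΘCompIso J D)

instance : (Θ J D).Full := Functor.Full.of_comp_faithful_iso (ΘCompIso J D)

instance : (Θ J D).EssSurj where
  mem_essImage F := by
    let H' : D ⥤ Cᵒᵖ ⥤ Type u := (Ξ C D).inverse.obj F.obj
    let e : G H' ≅ F.obj := (Ξ C D).counitIso.app F.obj
    have hG : Presieve.IsSheaf (prodTopology (D := D) J) (G H') :=
      Presieve.isSheaf_iso _ e.symm ((isSheaf_iff_isSheaf_of_type _ _).1 F.property)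
    have hH := isSheaf_obj_of_isSheaf_G H' J hG
    let K : D ⥤ Sheaf J (Type u) :=
      { obj := fun d => ⟨H'.obj d, (isSheaf_iff_isSheaf_of_type _ _).2 (hH d)⟩
        map := fun g => ⟨H'.map g⟩
        map_id := fun d => by ext : 1; simp
        map_comp := fun g g' => by ext : 1; simp }
    have hK : K ⋙ sheafToPresheaf J (Type u) = H' := rfl
    refine ⟨K, ⟨(fullyFaithfulSheafToPresheaf _ _).preimageIso ?_⟩⟩
    exact e

instance : (Θ J D).IsEquivalence := { }

/-- Diagrams in a Grothendieck topos form a Grothendieck topos. -/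
theorem isTopos_functor {E : Type v} [Category.{u} E] (hE : SGA4.IsTopos E) :
    SGA4.IsTopos (D ⥤ E) := by
  obtain ⟨C, _, J, ⟨e⟩⟩ := hE
  exact ⟨Dᵒᵖ × C, inferInstance, prodTopology (D := D) J,
    ⟨(e.congrRight (E := D)).trans (Θ J D).asEquivalence⟩⟩

end Groth.Agent.Lib.ProdSite
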