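import Mathlib

/-!
# Ideals of a product of valuation rings are flat (helper76)

A product `Π i, W i` of valuation rings (domains) has weak dimension `≤ 1`: every ideal is flat.
Proof: equational criterion; a finitely generated ideal is generated by a single element
(componentwise the generator of smallest valuation).
-/

set_option autoImplicit false

namespace Groth.Agent.Lib.ProdValFlat76

open Function

/-- in a valuation ring, a finite nonempty family has a member dividing all the others -/
theorem exists_dvd_all {R : Type*} [CommRing R] [IsDomain R] [ValuationRing R] {l : ℕ}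
    (x : Fin (l + 1) → R) : ∃ j, ∀ i, x j ∣ x i := by
  induction l with
  | zero =>
    refine ⟨0, fun i => ?_⟩
    have : i = 0 := Fin.ext (by omega)
    rw [this]
  | succ l ih =>
    obtain ⟨j, hj⟩ := ih (fun i => x i.castSucc)
    rcases ValuationRing.dvd_total (x j.castSucc) (x (Fin.last _)) with h | h
    · refine ⟨j.castSucc, fun i => ?_⟩
      refine Fin.lastCases ?_ (fun i => ?_) i
      · exact h
      · exact hj i
    · refine ⟨Fin.last _, fun i => ?_⟩
      refine Fin.lastCases ?_ (fun i => ?_) i
      · exact dvd_rfl
      · exact h.trans (hj i)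

variable {ι : Type*} (W : ι → Type*) [∀ i, CommRing (W i)] [∀ i, IsDomain (W i)]
  [∀ i, ValuationRing (W i)]

/-- every ideal of a product of valuation rings is flat -/
theorem flat_ideal (I : Ideal (Π i, W i)) : Module.Flat (Π i, W i) I := by
  classical
  rw [Module.Flat.iff_forall_isTrivialRelation]
  intro l f x hx
  cases l with
  | zero => exact ⟨0, fun i => i.elim0, fun j => j.elim0, fun i => i.elim0, fun j => j.elim0⟩
  | succ l =>
    have hj : ∀ w : ι, ∃ j : Fin (l + 1), ∀ i, (x j : Π i, W i) w ∣ (x i : Π i, W i) w :=
      fun w => exists_dvd_all (fun i => (x i : Π i, W i) w)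
    choose j hj using hj
    have hc : ∀ i w, ∃ c : W w, (x i : Π i, W i) w = c * (x (j w) : Π i, W i) w ∧
        ((x (j w) : Π i, W i) w = 0 → c = 0) := by
      intro i w
      by_cases h0 : (x (j w) : Π i, W i) w = 0
      · refine ⟨0, ?_, fun _ => rfl⟩
        obtain ⟨d, hd⟩ := hj w i
        rw [hd, h0]; simp
      · obtain ⟨d, hd⟩ := hj w i
        exact ⟨d, by rw [hd, mul_comm], fun h => absurd h h0⟩
    choose c hc hc0 using hc
    let e : Fin (l + 1) → Π i, W i := fun i w => if j w = i then 1 else 0
    let h : I := ∑ i, e i • x i
    have hh : ∀ w, (h : Π i, W i) w = (x (j w) : Π i, W i) w := by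
      intro w
      simp only [h, e, Submodule.coe_sum, Submodule.coe_smul, Finset.sum_apply, Pi.smul_apply,
        Pi.mul_apply, smul_eq_mul, ite_mul, one_mul, zero_mul, Finset.sum_ite_eq, Finset.mem_univ,
        if_true]
    refine ⟨1, fun i _ => c i, fun _ => h, ?_, ?_⟩
    · intro i
      simp only [Finset.univ_unique, Finset.sum_singleton]
      apply Subtype.ext
      ext w
      simp only [Submodule.coe_smul, Pi.smul_apply, Pi.mul_apply, smul_eq_mul, hh, hc i w]
    · intro _
      ext w
      simp only [Finset.sum_apply, Pi.mul_apply, Pi.zero_apply]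
      by_cases h0 : (x (j w) : Π i, W i) w = 0
      · simp [hc0 _ _ h0]
      · have h1 := congrArg (fun z : I => (z : Π i, W i) w) hx
        simp only [Submodule.coe_sum, Submodule.coe_smul, Finset.sum_apply, Pi.smul_apply,
          Pi.mul_apply, smul_eq_mul, ZeroMemClass.coe_zero, Pi.zero_apply] at h1
        have h2 : (∑ i, f i w * c i w) * (x (j w) : Π i, W i) w = 0 := by
          rw [Finset.sum_mul, ← h1]
          apply Finset.sum_congr rfl
          intro i _
          rw [hc i w]; ring
        exact (mul_eq_zero.mp h2).resolve_right h0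

end Groth.Agent.Lib.ProdValFlat76
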