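import Mathlib

/-!
# Fibre products with `Spec A` for `A` a directed union of split algebras (helper37)

Let `k` be a field and `A` a `k`-algebra such that every finite subset lies in a subalgebra
isomorphic to `k^n`.  Then all residue fields of `A` are `k`, and for every `k`-scheme `X` the
canonical map `|Spec A ×_k X| → |Spec A| × |X|` is a homeomorphism (`isHomeomorph_cmp`).
-/

set_option autoImplicit false
universe u

open CategoryTheory CategoryTheory.Limits AlgebraicGeometry TensorProduct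

namespace Groth.Agent.Lib.ProfinProd37

/-- `A` is a directed union of finite products of copies of `k`. -/
def IsIndSplit (k : Type u) [Field k] (A : Type u) [CommRing A] [Algebra k A] : Prop :=
  ∀ s : Finset A, ∃ (B : Subalgebra k A) (n : ℕ), (↑s : Set A) ⊆ (B : Set A) ∧
    Nonempty (B ≃ₐ[k] (Fin n → k))

section ring

variable {k : Type u} [Field k] {A : Type u} [CommRing A] [Algebra k A] (hA : IsIndSplit k A)

include hA in
lemma exists_values (a : A) :
    ∃ (n : ℕ) (v : Fin n → k), ∏ i, (a - algebraMap k A (v i)) = 0 := by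
  obtain ⟨B, n, hsub, ⟨e⟩⟩ := hA {a}
  have haB : a ∈ B := hsub (by simp)
  refine ⟨n, e ⟨a, haB⟩, ?_⟩
  have h : ∏ i, ((⟨a, haB⟩ : B) - algebraMap k B (e ⟨a, haB⟩ i)) = 0 := by
    apply e.injective
    rw [map_prod, map_zero]
    funext j
    rw [Finset.prod_apply]
    apply Finset.prod_eq_zero (Finset.mem_univ j)
    rw [map_sub, AlgEquiv.commutes]
    simp
  have h2 := congrArg B.val h
  rw [map_prod, map_zero] at h2
  refine Eq.trans ?_ h2
  refine Finset.prod_congr rfl fun i _ => ?_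
  rw [map_sub, AlgHom.commutes]
  rfl

include hA in
lemma exists_sub_mem (p : Ideal A) [p.IsPrime] (a : A) : ∃ c : k, a - algebraMap k A c ∈ p := by
  obtain ⟨n, v, hv⟩ := exists_values hA a
  have hmem : ∏ i, (a - algebraMap k A (v i)) ∈ p := hv ▸ p.zero_mem
  obtain ⟨i, -, hi⟩ := Ideal.IsPrime.prod_mem_iff.mp hmem
  exact ⟨v i, hi⟩

omit [Algebra k A] in
lemma algebraMap_mem_iff {R : Type u} [CommRing R] [Algebra k R] (p : Ideal R) [hp : p.IsPrime]
    (c : k) : algebraMap k R c ∈ p ↔ c = 0 := by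
  constructor
  · intro h
    by_contra hc
    have hu : IsUnit (algebraMap k R c) := (IsUnit.mk0 c hc).map _
    exact hp.ne_top (Ideal.eq_top_of_isUnit_mem _ h hu)
  · rintro rfl
    simp

/-- evaluation at a prime of `A`, with values in `k` -/
noncomputable def ev (p : Ideal A) [p.IsPrime] : A →ₐ[k] k :=
  ((AlgEquiv.ofBijective (Algebra.ofId k (A ⧸ p))
    ⟨(algebraMap k (A ⧸ p)).injective, fun x => by
      obtain ⟨a, rfl⟩ := Ideal.Quotient.mk_surjective x
      obtain ⟨c, hc⟩ := exists_sub_mem hA p a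
      refine ⟨c, ?_⟩
      symm
      rw [← sub_eq_zero]
      change Ideal.Quotient.mk p a - algebraMap k (A ⧸ p) c = 0
      rw [IsScalarTower.algebraMap_apply k A (A ⧸ p), Ideal.Quotient.algebraMap_eq, ← map_sub,
        Ideal.Quotient.eq_zero_iff_mem]
      exact hc⟩).symm : (A ⧸ p) →ₐ[k] k).comp (Ideal.Quotient.mkₐ k p)

lemma sub_ev_mem (p : Ideal A) [p.IsPrime] (a : A) : a - algebraMap k A (ev hA p a) ∈ p := by
  rw [← Ideal.Quotient.eq_zero_iff_mem, map_sub, sub_eq_zero]
  have h1 : ∀ c : k, Ideal.Quotient.mk p (algebraMap k A c) = algebraMap k (A ⧸ p) c := by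
    intro c
    rw [IsScalarTower.algebraMap_apply k A (A ⧸ p), Ideal.Quotient.algebraMap_eq]
  rw [h1]
  change _ = Algebra.ofId k (A ⧸ p) (ev hA p a)
  unfold ev
  simp only [AlgHom.coe_comp, Function.comp_apply, Ideal.Quotient.mkₐ_eq_mk]
  exact ((AlgEquiv.ofBijective (Algebra.ofId k (A ⧸ p)) _).apply_symm_apply _).symm

lemma ev_eq_of_mem (p : Ideal A) [p.IsPrime] (a : A) (c : k) (h : a - algebraMap k A c ∈ p) :
    ev hA p a = c := by
  have h1 := sub_ev_mem hA p a
  have h2 : algebraMap k A (ev hA p a - c) ∈ p := by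
    have : algebraMap k A (ev hA p a - c) =
        (a - algebraMap k A c) - (a - algebraMap k A (ev hA p a)) := by
      rw [map_sub]; ring
    rw [this]
    exact p.sub_mem h h1
  exact sub_eq_zero.mp ((algebraMap_mem_iff p _).mp h2)

lemma ev_eq_zero_iff (p : Ideal A) [p.IsPrime] (a : A) : ev hA p a = 0 ↔ a ∈ p := by
  constructor
  · intro h
    have := sub_ev_mem hA p a
    rwa [h, map_zero, sub_zero] at this
  · intro h
    exact ev_eq_of_mem hA p a 0 (by rwa [map_zero, sub_zero])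

variable (R : Type u) [CommRing R] [Algebra k R]

/-- the retraction `A ⊗ R → R` attached to a prime of `A` -/
noncomputable def psi (p : Ideal A) [p.IsPrime] : A ⊗[k] R →ₐ[k] R :=
  (Algebra.TensorProduct.lid k R).toAlgHom.comp
    (Algebra.TensorProduct.map (ev hA p) (AlgHom.id k R))

lemma psi_tmul (p : Ideal A) [p.IsPrime] (a : A) (s : R) :
    psi hA R p (a ⊗ₜ s) = ev hA p a • s := by
  simp [psi]

omit [Field k] in
lemma one_tmul_smul {k : Type u} [CommRing k] {A : Type u} [CommRing A] [Algebra k A]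
    {R : Type u} [CommRing R] [Algebra k R] (c : k) (s : R) :
    (1 : A) ⊗ₜ[k] (c • s) = (algebraMap k A c) ⊗ₜ[k] s := by
  rw [TensorProduct.tmul_smul, TensorProduct.smul_tmul', Algebra.algebraMap_eq_smul_one]

lemma sub_includeRight_psi_mem (p : Ideal A) [p.IsPrime] (q : Ideal (A ⊗[k] R))
    (hpq : p ≤ q.comap (Algebra.TensorProduct.includeLeftRingHom : A →+* A ⊗[k] R))
    (t : A ⊗[k] R) :
    t - (Algebra.TensorProduct.includeRight : R →ₐ[k] A ⊗[k] R) (psi hA R p t) ∈ q := by
  induction t using TensorProduct.induction_on with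
  | zero => simp
  | tmul a s =>
    rw [psi_tmul]
    have h1 : a ⊗ₜ[k] s - (Algebra.TensorProduct.includeRight : R →ₐ[k] A ⊗[k] R)
        (ev hA p a • s) =
        (Algebra.TensorProduct.includeLeftRingHom : A →+* A ⊗[k] R)
          (a - algebraMap k A (ev hA p a)) * ((1 : A) ⊗ₜ[k] s) := by
      rw [Algebra.TensorProduct.includeRight_apply, one_tmul_smul,
        Algebra.TensorProduct.includeLeftRingHom_apply, Algebra.TensorProduct.tmul_mul_tmul,
        mul_one, one_mul, TensorProduct.sub_tmul]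
    rw [h1]
    exact Ideal.mul_mem_right _ _ (hpq (sub_ev_mem hA p a))
  | add x y hx hy =>
    rw [map_add, map_add]
    have : x + y - ((Algebra.TensorProduct.includeRight : R →ₐ[k] A ⊗[k] R) (psi hA R p x) +
        (Algebra.TensorProduct.includeRight : R →ₐ[k] A ⊗[k] R) (psi hA R p y)) =
        (x - (Algebra.TensorProduct.includeRight : R →ₐ[k] A ⊗[k] R) (psi hA R p x)) +
        (y - (Algebra.TensorProduct.includeRight : R →ₐ[k] A ⊗[k] R) (psi hA R p y)) := by ring
    rw [this]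
    exact q.add_mem hx hy

/-- the comparison map on prime spectra -/
noncomputable def Phi (k A R : Type u) [Field k] [CommRing A] [Algebra k A] [CommRing R]
    [Algebra k R] : PrimeSpectrum (A ⊗[k] R) → PrimeSpectrum A × PrimeSpectrum R :=
  fun q => (PrimeSpectrum.comap (Algebra.TensorProduct.includeLeftRingHom : A →+* A ⊗[k] R) q,
    PrimeSpectrum.comap
      (RingHomClass.toRingHom (Algebra.TensorProduct.includeRight : R →ₐ[k] A ⊗[k] R)) q)

lemma mem_iff_psi_mem (q : PrimeSpectrum (A ⊗[k] R)) (t : A ⊗[k] R) :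
    t ∈ q.asIdeal ↔ psi hA R (Phi k A R q).1.asIdeal t ∈ (Phi k A R q).2.asIdeal := by
  have h := sub_includeRight_psi_mem hA R (Phi k A R q).1.asIdeal q.asIdeal le_rfl t
  change _ ↔ (Algebra.TensorProduct.includeRight : R →ₐ[k] A ⊗[k] R)
    (psi hA R (Phi k A R q).1.asIdeal t) ∈ q.asIdeal
  constructor
  · intro ht
    have := q.asIdeal.sub_mem ht h
    rwa [sub_sub_cancel] at this
  · intro ht
    have := q.asIdeal.add_mem h ht
    rwa [sub_add_cancel] at this

/-- the inverse of `Phi` -/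
noncomputable def Psi (pr : PrimeSpectrum A × PrimeSpectrum R) : PrimeSpectrum (A ⊗[k] R) :=
  PrimeSpectrum.comap (psi hA R pr.1.asIdeal).toRingHom pr.2

lemma Phi_Psi (pr : PrimeSpectrum A × PrimeSpectrum R) : Phi k A R (Psi hA R pr) = pr := by
  obtain ⟨p, r⟩ := pr
  refine Prod.ext ?_ ?_
  · refine PrimeSpectrum.ext (Ideal.ext fun a => ?_)
    change psi hA R p.asIdeal (a ⊗ₜ[k] (1 : R)) ∈ r.asIdeal ↔ a ∈ p.asIdeal
    rw [psi_tmul, ← ev_eq_zero_iff hA, Algebra.smul_def, mul_one, algebraMap_mem_iff]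
  · refine PrimeSpectrum.ext (Ideal.ext fun s => ?_)
    change psi hA R p.asIdeal ((1 : A) ⊗ₜ[k] s) ∈ r.asIdeal ↔ s ∈ r.asIdeal
    rw [psi_tmul, map_one, one_smul]

include hA in
lemma Phi_injective : Function.Injective (Phi k A R) := by
  intro q q' h
  refine PrimeSpectrum.ext (Ideal.ext fun t => ?_)
  rw [mem_iff_psi_mem hA R q t, mem_iff_psi_mem hA R q' t, h]

include hA in
lemma Phi_bijective : Function.Bijective (Phi k A R) :=
  ⟨Phi_injective hA R, fun pr => ⟨Psi hA R pr, Phi_Psi hA R pr⟩⟩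

lemma mem_image_basicOpen_iff (t : A ⊗[k] R) (pr : PrimeSpectrum A × PrimeSpectrum R) :
    pr ∈ Phi k A R '' (PrimeSpectrum.basicOpen t : Set (PrimeSpectrum (A ⊗[k] R))) ↔
      psi hA R pr.1.asIdeal t ∉ pr.2.asIdeal := by
  constructor
  · rintro ⟨q, hq, rfl⟩
    intro h
    exact hq ((mem_iff_psi_mem hA R q t).mpr h)
  · intro h
    refine ⟨Psi hA R pr, ?_, Phi_Psi hA R pr⟩
    exact h

include hA in
lemma isOpen_setOf_sub_mem (a : A) (c : k) :
    IsOpen {p : PrimeSpectrum A | a - algebraMap k A c ∈ p.asIdeal} := by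
  classical
  obtain ⟨n, v, hv⟩ := exists_values hA a
  set g : A := ∏ i ∈ Finset.univ.filter (fun i => v i ≠ c), (a - algebraMap k A (v i)) with hg
  have hsplit : g * (a - algebraMap k A c) ^ (Finset.univ.filter (fun i => ¬ (v i ≠ c))).card = 0 := by
    rw [← hv, ← Finset.prod_filter_mul_prod_filter_not Finset.univ (fun i => v i ≠ c)]
    congr 1
    rw [← Finset.prod_const]
    refine (Finset.prod_congr rfl fun i hi => ?_).symm
    have : v i = c := by simpa using (Finset.mem_filter.mp hi).2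
    rw [this]
  have : {p : PrimeSpectrum A | a - algebraMap k A c ∈ p.asIdeal} =
      (PrimeSpectrum.basicOpen g : Set (PrimeSpectrum A)) := by
    ext p
    simp only [Set.mem_ofPred_eq, SetLike.mem_coe, PrimeSpectrum.mem_basicOpen]
    constructor
    · intro hac hgp
      rw [hg, Ideal.IsPrime.prod_mem_iff] at hgp
      obtain ⟨i, hi, hip⟩ := hgp
      have hne : v i ≠ c := (Finset.mem_filter.mp hi).2
      have h3 : algebraMap k A (v i - c) ∈ p.asIdeal := by
        have : algebraMap k A (v i - c) =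
            (a - algebraMap k A c) - (a - algebraMap k A (v i)) := by
          rw [map_sub]; ring
        rw [this]
        exact p.asIdeal.sub_mem hac hip
      exact hne (sub_eq_zero.mp ((algebraMap_mem_iff p.asIdeal _).mp h3))
    · intro hgp
      have h0 : g * (a - algebraMap k A c) ^
          (Finset.univ.filter (fun i => ¬ (v i ≠ c))).card ∈ p.asIdeal := by
        rw [hsplit]
        exact p.asIdeal.zero_mem
      rcases p.isPrime.mem_or_mem h0 with h | h
      · exact absurd h hgp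
      · exact p.isPrime.mem_of_pow_mem _ h
  rw [this]
  exact (PrimeSpectrum.basicOpen g).isOpen

include hA in
lemma Phi_isOpenMap : IsOpenMap (Phi k A R) := by
  classical
  rw [PrimeSpectrum.isTopologicalBasis_basic_opens.isOpenMap_iff]
  rintro _ ⟨t, rfl⟩
  change IsOpen (Phi k A R '' (PrimeSpectrum.basicOpen t : Set (PrimeSpectrum (A ⊗[k] R))))
  rw [isOpen_iff_forall_mem_open]
  rintro ⟨p₀, r₀⟩ hpr
  rw [mem_image_basicOpen_iff hA R] at hpr
  obtain ⟨S, hS⟩ := TensorProduct.exists_finset t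
  have hψ : ∀ p : PrimeSpectrum A, psi hA R p.asIdeal t = ∑ i ∈ S, ev hA p.asIdeal i.1 • i.2 := by
    intro p
    rw [hS, map_sum]
    exact Finset.sum_congr rfl fun i _ => psi_tmul hA R p.asIdeal i.1 i.2
  let U₁ : Set (PrimeSpectrum A) :=
    ⋂ i ∈ S, {p : PrimeSpectrum A | i.1 - algebraMap k A (ev hA p₀.asIdeal i.1) ∈ p.asIdeal}
  let U₂ : Set (PrimeSpectrum R) :=
    (PrimeSpectrum.basicOpen (∑ i ∈ S, ev hA p₀.asIdeal i.1 • i.2) : Set (PrimeSpectrum R))
  have hU₁ : IsOpen U₁ := isOpen_biInter_finset fun i _ => isOpen_setOf_sub_mem hA i.1 _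
  have hU₂ : IsOpen U₂ := (PrimeSpectrum.basicOpen _).isOpen
  refine ⟨U₁ ×ˢ U₂, ?_, hU₁.prod hU₂, ?_⟩
  · rintro ⟨p, r⟩ ⟨hp, hr⟩
    rw [mem_image_basicOpen_iff hA R]
    change psi hA R p.asIdeal t ∉ r.asIdeal
    rw [hψ p]
    have : ∑ i ∈ S, ev hA p.asIdeal i.1 • i.2 = ∑ i ∈ S, ev hA p₀.asIdeal i.1 • i.2 := by
      refine Finset.sum_congr rfl fun i hi => ?_
      have h1 : i.1 - algebraMap k A (ev hA p₀.asIdeal i.1) ∈ p.asIdeal := by
        have := Set.mem_iInter₂.mp hp i hi
        exact this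
      rw [ev_eq_of_mem hA p.asIdeal i.1 _ h1]
    rw [this]
    exact hr
  · refine ⟨?_, ?_⟩
    · refine Set.mem_iInter₂.mpr fun i _ => ?_
      exact sub_ev_mem hA p₀.asIdeal i.1
    · change ∑ i ∈ S, ev hA p₀.asIdeal i.1 • i.2 ∉ r₀.asIdeal
      rw [← hψ p₀]
      exact hpr

end ring

section scheme

variable {k : Type u} [Field k] {A : Type u} [CommRing A] [Algebra k A] (hA : IsIndSplit k A)

/-- the structure morphism of `Spec A` -/
noncomputable abbrev fA (k A : Type u) [Field k] [CommRing A] [Algebra k A] :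
    Spec (CommRingCat.of A) ⟶ Spec (CommRingCat.of k) :=
  Spec.map (CommRingCat.ofHom (algebraMap k A))

/-- the canonical map from the points of a fibre product to the product of the points -/
noncomputable def cmp {X Y S : Scheme.{u}} (f : X ⟶ S) (g : Y ⟶ S) : ↑(pullback f g) → ↑X × ↑Y :=
  fun z => (pullback.fst f g z, pullback.snd f g z)

include hA in
lemma cmp_aff (R : Type u) [CommRing R] [Algebra k R] :
    Function.Bijective (cmp (fA k A)
      (Spec.map (CommRingCat.ofHom (algebraMap k R)))) ∧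
    IsOpenMap (cmp (fA k A)
      (Spec.map (CommRingCat.ofHom (algebraMap k R)))) := by
  have hcmp : cmp (fA k A)
      (Spec.map (CommRingCat.ofHom (algebraMap k R))) =
      Phi k A R ∘ (Scheme.homeoOfIso (pullbackSpecIso k A R)) := by
    funext z
    refine Prod.ext ?_ ?_
    · change pullback.fst (fA k A) (Spec.map (CommRingCat.ofHom (algebraMap k R))) z = _
      rw [← pullbackSpecIso_hom_fst k A R]
      rfl
    · change pullback.snd (fA k A) (Spec.map (CommRingCat.ofHom (algebraMap k R))) z = _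
      rw [← pullbackSpecIso_hom_snd k A R]
      rfl
  rw [hcmp]
  exact ⟨(Phi_bijective hA R).comp (Scheme.homeoOfIso _).bijective,
    (Phi_isOpenMap hA R).comp (Scheme.homeoOfIso _).isOpenMap⟩

include hA in
lemma cmp_aff' (R : CommRingCat.{u}) (ψ : CommRingCat.of k ⟶ R) :
    Function.Bijective (cmp (fA k A) (Spec.map ψ)) ∧
    IsOpenMap (cmp (fA k A) (Spec.map ψ)) := by
  letI : Algebra k R := ψ.hom.toAlgebra
  exact cmp_aff hA R

include hA in
theorem isHomeomorph_cmp (X : Scheme.{u}) (f : X ⟶ Spec (CommRingCat.of k)) :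
    IsHomeomorph (cmp (fA k A) f) := by
  have key : ∀ x : X, ∃ (R : CommRingCat.{u}) (ι : Spec R ⟶ X) (_ : IsOpenImmersion ι)
      (ψ : CommRingCat.of k ⟶ R), x ∈ Set.range ι ∧ ι ≫ f = Spec.map ψ := by
    intro x
    obtain ⟨R, ι, hι, y, hy⟩ := X.exists_Spec_apply_eq x
    obtain ⟨ψ, hψ⟩ := Spec.map_surjective (ι ≫ f)
    exact ⟨R, ι, hι, ψ, ⟨y, hy⟩, hψ.symm⟩
  -- the local charts
  have chart : ∀ (R : CommRingCat.{u}) (ι : Spec R ⟶ X) (_ : IsOpenImmersion ι)
      (ψ : CommRingCat.of k ⟶ R) (hιψ : ι ≫ f = Spec.map ψ),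
      ∃ j : ↑(pullback (fA k A) (Spec.map ψ)) →
          ↑(pullback (fA k A) f),
        Continuous j ∧ IsOpenMap j ∧
        (∀ w, cmp (fA k A) f (j w) =
          ((cmp (fA k A) (Spec.map ψ) w).1,
            ι (cmp (fA k A) (Spec.map ψ) w).2)) ∧
        (∀ z : ↑(pullback (fA k A) f), pullback.snd (fA k A) f z ∈ Set.range ι →
          z ∈ Set.range j) := by
    intro R ι hι ψ hιψ
    let j := pullback.map (fA k A) (Spec.map ψ)
      (fA k A) f (𝟙 _) ι (𝟙 _)
      (by rw [Category.comp_id, Category.id_comp]) (by rw [Category.comp_id, hιψ])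
    refine ⟨j, j.continuous, j.isOpenEmbedding.isOpenMap, ?_, ?_⟩
    · intro w
      refine Prod.ext ?_ ?_
      · change (j ≫ pullback.fst (fA k A) f) w = _
        rw [pullback.lift_fst]
        rfl
      · change (j ≫ pullback.snd (fA k A) f) w = _
        rw [pullback.lift_snd]
        rfl
    · intro z hz
      have := Scheme.Pullback.range_map (fA k A)
        (Spec.map ψ) (fA k A) f (𝟙 _) ι (𝟙 _)
        (by rw [Category.comp_id, Category.id_comp]) (by rw [Category.comp_id, hιψ])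
      change z ∈ Set.range j
      rw [this]
      exact ⟨⟨pullback.fst (fA k A) f z, rfl⟩, hz⟩
  refine ⟨?_, ?_, ?_, ?_⟩
  · exact (pullback.fst (fA k A) f).continuous.prodMk (pullback.snd (fA k A) f).continuous
  · -- open map
    intro W hW
    rw [isOpen_iff_forall_mem_open]
    rintro _ ⟨z, hzW, rfl⟩
    obtain ⟨R, ι, hι, ψ, hx, hιψ⟩ := key (pullback.snd (fA k A) f z)
    obtain ⟨j, hjcont, hjo, hjc, hjr⟩ := chart R ι hι ψ hιψ
    obtain ⟨w, rfl⟩ := hjr z hx
    have hloc := (cmp_aff' hA R ψ).2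
    refine ⟨Prod.map id ι '' (cmp (fA k A) (Spec.map ψ) ''
      (j ⁻¹' W)), ?_, ?_, ?_⟩
    · rintro _ ⟨_, ⟨w', hw', rfl⟩, rfl⟩
      exact ⟨j w', hw', hjc w'⟩
    · have h1 : IsOpenMap (Prod.map (id : ↑(Spec (CommRingCat.of A)) → _) ι) :=
        IsOpenMap.prodMap IsOpenMap.id ι.isOpenEmbedding.isOpenMap
      exact h1 _ (hloc _ (hW.preimage hjcont))
    · exact ⟨_, ⟨w, hzW, rfl⟩, (hjc w).symm⟩
  · -- injective
    intro z z' hzz'
    obtain ⟨R, ι, hι, ψ, hx, hιψ⟩ := key (pullback.snd (fA k A) f z)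
    obtain ⟨j, hjcont, hjo, hjc, hjr⟩ := chart R ι hι ψ hιψ
    have hx' : pullback.snd (fA k A) f z' ∈ Set.range ι := by
      have : pullback.snd (fA k A) f z' =
          pullback.snd (fA k A) f z :=
        (congrArg Prod.snd hzz').symm
      rw [this]
      exact hx
    obtain ⟨w, rfl⟩ := hjr z hx
    obtain ⟨w', rfl⟩ := hjr z' hx'
    rw [hjc w, hjc w'] at hzz'
    have h1 := congrArg Prod.fst hzz'
    have h2 := ι.isOpenEmbedding.injective (congrArg Prod.snd hzz')
    have : cmp (fA k A) (Spec.map ψ) w =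
        cmp (fA k A) (Spec.map ψ) w' := Prod.ext h1 h2
    rw [(cmp_aff' hA R ψ).1.1 this]
  · -- surjective
    rintro ⟨a, x⟩
    obtain ⟨R, ι, hι, ψ, ⟨y, rfl⟩, hιψ⟩ := key x
    obtain ⟨j, hjcont, hjo, hjc, hjr⟩ := chart R ι hι ψ hιψ
    obtain ⟨w, hw⟩ := (cmp_aff' hA R ψ).1.2 (a, y)
    refine ⟨j w, ?_⟩
    rw [hjc w, hw]

end scheme

end Groth.Agent.Lib.ProfinProd37
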