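import Groth.Prelude.Def_CohTop
import Mathlib.Topology.Separation.DisjointCover
import Mathlib.Topology.Sheaves.SheafCondition.UniqueGluing
import Mathlib.Topology.Sheaves.SheafCondition.PairwiseIntersections
import Mathlib.CategoryTheory.Sites.ConstantSheaf
import Mathlib.CategoryTheory.Sites.EpiMono
import Mathlib.CategoryTheory.Sites.SheafCohomology.Basic
import Mathlib.Algebra.Homology.DerivedCategory.Ext.EnoughProjectives
import Mathlib.CategoryTheory.Preadditive.Projective.Basic

/-!
# Abelian sheaves on profinite spaces are acyclic (helper95)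

On a profinite space every open cover is refined by a finite partition into clopens, hence the
global sections functor on abelian sheaves is exact: the constant sheaf `ℤ` is projective.
-/

universe u

open CategoryTheory Limits TopologicalSpace Opposite

set_option linter.unusedSectionVars false

namespace Groth.Agent.Lib.Profinite95

variable {X : TopCat.{u}} [CompactSpace X] [T2Space X] [TotallyDisconnectedSpace X]

/-- the value of an abelian sheaf on an empty open is trivial -/
lemma subsingleton_of_eq_bot (A : CohTop.Ab X) {U : Opens X} (hU : U = ⊥) :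
    Subsingleton (A.obj.obj (op U)) := by
  have hT : IsTerminal (A.obj.obj (op U)) := TopCat.Sheaf.isTerminalOfEqEmpty A hU
  have hZ : IsZero (A.obj.obj (op U)) :=
    IsZero.of_iso (isZero_zero _) (hT.uniqueUpToIso (isZero_zero _).isTerminal)
  exact AddCommGrpCat.subsingleton_of_isZero hZ

/-- global sections of an epimorphism of abelian sheaves on a profinite space are surjective -/
theorem surjective_app_top {A B : CohTop.Ab X} (e : A ⟶ B) [Epi e] :
    Function.Surjective (e.hom.app (op (⊤ : Opens X))) := by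
  intro s
  have hls : Sheaf.IsLocallySurjective e :=
    (Sheaf.isLocallySurjective_iff_epi' AddCommGrpCat.{u} e).2 inferInstance
  have hmem := Presheaf.imageSieve_mem (Opens.grothendieckTopology X) e.hom s
  rw [Opens.mem_grothendieckTopology] at hmem
  -- the cover by opens on which `s` lifts
  let ι : Type u := {p : Σ V : Opens X, A.obj.obj (op V) //
    e.hom.app (op p.1) p.2 = B.obj.map (homOfLE le_top : p.1 ⟶ ⊤).op s}
  let U : ι → Opens X := fun p => p.1.1
  have hU : IsOpenCover U := by
    rw [IsOpenCover]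
    apply le_antisymm le_top
    intro x hx
    obtain ⟨V, f, ⟨a, ha⟩, hxV⟩ := hmem x hx
    have ha' : e.hom.app (op V) a = B.obj.map (homOfLE le_top : V ⟶ ⊤).op s := by
      rw [ha]
      congr
    exact Opens.mem_iSup.2 ⟨⟨⟨V, a⟩, ha'⟩, hxV⟩
  obtain ⟨n, W, hW, hcov, hdisj⟩ := hU.exists_finite_nonempty_disjoint_clopen_cover
  choose hne i hi using hW
  let W' : Fin n → Opens X := fun j => (W j).toOpens
  have hle : ∀ j, W' j ≤ U (i j) := fun j => hi j
  let sf : ∀ j, A.obj.obj (op (W' j)) := fun j => A.obj.map (homOfLE (hle j)).op (i j).1.2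
  have hcompat : TopCat.Presheaf.IsCompatible A.obj W' sf := by
    intro j k
    by_cases hjk : j = k
    · subst hjk
      rfl
    · have hbot : W' j ⊓ W' k = ⊥ := by
        have := hdisj hjk
        rw [Function.onFun, disjoint_iff] at this
        ext x
        constructor
        · rintro ⟨h1, h2⟩
          have hx : x ∈ ((W j ⊓ W k : Clopens X) : Set X) := ⟨h1, h2⟩
          rw [this] at hx
          exact hx
        · intro hx
          exact hx.elim
      have := subsingleton_of_eq_bot A hbot
      exact Subsingleton.elim _ _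
  have hcover : (⊤ : Opens X) ≤ iSup W' := by
    intro x _
    obtain ⟨j, hj⟩ := Set.mem_iUnion.1 (hcov (Set.mem_univ x))
    exact Opens.mem_iSup.2 ⟨j, hj⟩
  obtain ⟨a, ha, -⟩ := TopCat.Sheaf.existsUnique_gluing' A W' ⊤ (fun j => homOfLE le_top) hcover
    sf hcompat
  refine ⟨a, ?_⟩
  refine TopCat.Sheaf.eq_of_locally_eq' B W' ⊤ (fun j => homOfLE le_top) hcover _ _ (fun j => ?_)
  have h1 : B.obj.map (homOfLE le_top : W' j ⟶ ⊤).op (e.hom.app (op ⊤) a) =
      e.hom.app (op (W' j)) (A.obj.map (homOfLE le_top : W' j ⟶ ⊤).op a) :=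
    (NatTrans.naturality_apply e.hom (homOfLE le_top : W' j ⟶ ⊤).op a).symm
  have h2 : e.hom.app (op (W' j)) (sf j) =
      B.obj.map (homOfLE (hle j)).op (e.hom.app (op (U (i j))) (i j).1.2) :=
    NatTrans.naturality_apply e.hom (homOfLE (hle j)).op (i j).1.2
  rw [h1, ha j, h2, (i j).2, ← ConcreteCategory.comp_apply, ← B.obj.map_comp]
  rfl

lemma ulift_hom_ext {M : Type*} [AddCommGroup M] (g₁ g₂ : ULift.{u} ℤ →+ M)
    (h : g₁ (ULift.up 1) = g₂ (ULift.up 1)) : g₁ = g₂ := by
  apply AddMonoidHom.ext
  intro x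
  obtain ⟨n⟩ := x
  have hn : (ULift.up n : ULift.{u} ℤ) = n • ULift.up 1 := by
    apply ULift.ext
    simp
  rw [hn, map_zsmul, map_zsmul, h]

/-- the constant sheaf `ℤ` on a profinite space is projective -/
instance projective_constantSheaf :
    Projective ((constantSheaf (Opens.grothendieckTopology X) AddCommGrpCat.{u}).obj
      (AddCommGrpCat.of (ULift.{u} ℤ))) := by
  let adj := constantSheafAdj (Opens.grothendieckTopology X) AddCommGrpCat.{u}
    (isTerminalTop : IsTerminal (⊤ : Opens X))
  constructor
  intro A B f e he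
  let φ := adj.homEquiv _ _ f
  obtain ⟨a₁, ha₁⟩ := surjective_app_top e (φ (ULift.up 1))
  let φ' : AddCommGrpCat.of (ULift.{u} ℤ) ⟶ A.obj.obj (op (⊤ : Opens X)) :=
    AddCommGrpCat.ofHom ((zmultiplesHom _ a₁).comp AddEquiv.ulift.toAddMonoidHom)
  refine ⟨(adj.homEquiv _ _).symm φ', ?_⟩
  apply (adj.homEquiv _ _).injective
  rw [Adjunction.homEquiv_naturality_right, Equiv.apply_symm_apply]
  apply AddCommGrpCat.hom_ext
  apply ulift_hom_ext
  have h2 : (zmultiplesHom _ a₁) (AddEquiv.ulift (ULift.up 1 : ULift.{u} ℤ)) = a₁ :=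
    one_smul ℤ a₁
  show e.hom.app (op ⊤) ((zmultiplesHom _ a₁) (AddEquiv.ulift (ULift.up 1 : ULift.{u} ℤ))) =
    φ (ULift.up 1)
  rw [h2, ha₁]

/-- **S0471**: higher cohomology of abelian sheaves on a profinite space vanishes. -/
theorem subsingleton_H (F : CohTop.Ab X) (p : ℕ) : Subsingleton (CohTop.H F (p + 1)) :=
  ⟨fun a b => (Abelian.Ext.eq_zero_of_projective a).trans
    (Abelian.Ext.eq_zero_of_projective b).symm⟩

end Groth.Agent.Lib.Profinite95
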