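import Mathlib
import Groth.Agent.Lib.NormalDecomp58

/-!
# A criterion for finite projectivity over a complete ring via levels (helper58)

* `surjective_of_complete`: "complete Nakayama": `φ : P' → P` with `P'` `J`-adically precomplete,
  `P` `J`-adically Hausdorff and `P = φ(P') + J P` is surjective.
* `ker_eq_bot_of_projective`: a surjection onto a projective module whose kernel lies in `𝔫 M` with
  `𝔫` nilpotent is injective.
* `quotMap`: the `W ⧸ I`-linear map `M ⧸ I M → N ⧸ I N` induced by a `W`-linear map.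
* `finite_projective_of_levels`: the main criterion.
-/

set_option autoImplicit false
universe u v w

namespace Groth.Agent.Lib.ProjCrit58

open Groth.Agent.Lib.NormalDecomp58

variable {W : Type u} [CommRing W]

section Nakayama

variable {P' : Type v} {P : Type w} [AddCommGroup P'] [Module W P'] [AddCommGroup P] [Module W P]

theorem smul_smul_top (J : Ideal W) (j : ℕ) :
    J ^ j • (J • (⊤ : Submodule W P)) = J ^ (j + 1) • (⊤ : Submodule W P) := by
  rw [← Submodule.mul_smul, ← pow_succ]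

theorem exists_approx (J : Ideal W) (φ : P' →ₗ[W] P)
    (hφ : ∀ y : P, ∃ u : P', y - φ u ∈ J • (⊤ : Submodule W P)) (j : ℕ) (y : P)
    (hy : y ∈ J ^ j • (⊤ : Submodule W P)) :
    ∃ u ∈ J ^ j • (⊤ : Submodule W P'), y - φ u ∈ J ^ (j + 1) • (⊤ : Submodule W P) := by
  refine Submodule.smul_induction_on hy (fun a ha y' _ => ?_) (fun y₁ y₂ h₁ h₂ => ?_)
  · obtain ⟨u', hu'⟩ := hφ y'
    refine ⟨a • u', Submodule.smul_mem_smul ha Submodule.mem_top, ?_⟩
    rw [map_smul, ← smul_sub, ← smul_smul_top]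
    exact Submodule.smul_mem_smul ha hu'
  · obtain ⟨u₁, hu₁, h₁'⟩ := h₁
    obtain ⟨u₂, hu₂, h₂'⟩ := h₂
    refine ⟨u₁ + u₂, Submodule.add_mem _ hu₁ hu₂, ?_⟩
    have : y₁ + y₂ - φ (u₁ + u₂) = (y₁ - φ u₁) + (y₂ - φ u₂) := by rw [map_add]; abel
    rw [this]
    exact Submodule.add_mem _ h₁' h₂'

/-- "Complete Nakayama". -/
theorem surjective_of_complete (J : Ideal W) [IsPrecomplete J P'] [IsHausdorff J P]
    (φ : P' →ₗ[W] P) (hφ : ∀ y : P, ∃ u : P', y - φ u ∈ J • (⊤ : Submodule W P)) :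
    Function.Surjective φ := by
  intro y
  have hstep : ∀ (j : ℕ) (z : P), ∃ u : P', z ∈ J ^ j • (⊤ : Submodule W P) →
      (u ∈ J ^ j • (⊤ : Submodule W P') ∧ z - φ u ∈ J ^ (j + 1) • (⊤ : Submodule W P)) := by
    intro j z
    by_cases hz : z ∈ J ^ j • (⊤ : Submodule W P)
    · obtain ⟨u, hu1, hu2⟩ := exists_approx J φ hφ j z hz
      exact ⟨u, fun _ => ⟨hu1, hu2⟩⟩
    · exact ⟨0, fun h => absurd h hz⟩
  choose u hu using hstep
  let r : ℕ → P := fun j => Nat.rec y (fun j z => z - φ (u j z)) j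
  have hr0 : r 0 = y := rfl
  have hrs : ∀ j, r (j + 1) = r j - φ (u j (r j)) := fun j => rfl
  have hrmem : ∀ j, r j ∈ J ^ j • (⊤ : Submodule W P) := by
    intro j
    induction j with
    | zero => simp
    | succ j ih =>
      rw [hrs]
      exact (hu j _ ih).2
  let S : ℕ → P' := fun j => ∑ i ∈ Finset.range j, u i (r i)
  have hSs : ∀ j, S (j + 1) = S j + u j (r j) := fun j => Finset.sum_range_succ _ j
  have hS : ∀ j, y - φ (S j) = r j := by
    intro j
    induction j with
    | zero => simp [S, hr0]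
    | succ j ih =>
      rw [hSs, map_add, hrs, ← ih]
      abel
  have hcauchy : ∀ m n, m ≤ n → S n - S m ∈ J ^ m • (⊤ : Submodule W P') := by
    intro m n hmn
    induction n, hmn using Nat.le_induction with
    | base => simp
    | succ n hn ih =>
      have h1 : u n (r n) ∈ J ^ m • (⊤ : Submodule W P') :=
        Submodule.smul_mono (Ideal.pow_le_pow_right hn) le_rfl (hu n _ (hrmem n)).1
      have : S (n + 1) - S m = (S n - S m) + u n (r n) := by rw [hSs]; abel
      rw [this]
      exact Submodule.add_mem _ ih h1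
  obtain ⟨L, hL⟩ := IsPrecomplete.prec' (I := J) S (by
    intro m n hmn
    refine SModEq.symm ?_
    rw [SModEq.sub_mem]
    exact hcauchy m n hmn)
  refine ⟨L, ?_⟩
  symm
  rw [← sub_eq_zero]
  apply IsHausdorff.haus' (I := J)
  intro j
  rw [SModEq.zero]
  have e : y - φ L = r j - φ (L - S j) := by rw [← hS j, map_sub]; abel
  rw [e]
  refine Submodule.sub_mem _ (hrmem j) (map_mem_smul_top (J ^ j) φ ?_)
  have := (hL j).symm
  rwa [SModEq.sub_mem] at this

end Nakayama

section Inj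

variable {A : Type u} [CommRing A] {M : Type v} {Q : Type w} [AddCommGroup M] [Module A M]
  [AddCommGroup Q] [Module A Q]

theorem ker_eq_bot_of_projective [Module.Projective A Q] (𝔫 : Ideal A) (j : ℕ) (h𝔫 : 𝔫 ^ j = ⊥)
    (ψ : M →ₗ[A] Q) (hψ : Function.Surjective ψ)
    (hker : LinearMap.ker ψ ≤ 𝔫 • (⊤ : Submodule A M)) : LinearMap.ker ψ = ⊥ := by
  obtain ⟨τ, hτ⟩ := Module.projective_lifting_property ψ LinearMap.id hψ
  have hτ' : ∀ x, ψ (τ x) = x := fun x => LinearMap.congr_fun hτ x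
  let q : M →ₗ[A] M := LinearMap.id - τ ∘ₗ ψ
  have hq : ∀ m, q m = m - τ (ψ m) := fun m => rfl
  have hqk : ∀ m, q m ∈ LinearMap.ker ψ := by
    intro m
    rw [LinearMap.mem_ker, hq, map_sub, hτ', sub_self]
  have hqid : ∀ m ∈ LinearMap.ker ψ, q m = m := by
    intro m hm
    rw [hq, LinearMap.mem_ker.mp hm, map_zero, sub_zero]
  have hstep : ∀ i : ℕ, ∀ m ∈ 𝔫 ^ i • (⊤ : Submodule A M),
      q m ∈ 𝔫 ^ (i + 1) • (⊤ : Submodule A M) := by
    intro i m hm
    refine Submodule.smul_induction_on hm (fun a ha m' _ => ?_) (fun x y hx hy => ?_)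
    · rw [map_smul, ← smul_smul_top]
      exact Submodule.smul_mem_smul ha (hker (hqk m'))
    · rw [map_add]
      exact Submodule.add_mem _ hx hy
  have hall : ∀ i : ℕ, LinearMap.ker ψ ≤ 𝔫 ^ i • (⊤ : Submodule A M) := by
    intro i
    induction i with
    | zero => simp
    | succ i ih =>
      intro m hm
      rw [← hqid m hm]
      exact hstep i m (ih hm)
  rw [eq_bot_iff]
  intro m hm
  have := hall j hm
  rw [h𝔫, Submodule.bot_smul] at this
  exact this

end Inj

section QuotMap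

variable {M : Type v} {N : Type w} [AddCommGroup M] [Module W M] [AddCommGroup N] [Module W N]

/-- The `W ⧸ I`-linear map `M ⧸ I M → N ⧸ I N` induced by a `W`-linear map `M → N`. -/
def quotMap (I : Ideal W) (φ : M →ₗ[W] N) :
    (M ⧸ (I • ⊤ : Submodule W M)) →ₗ[W ⧸ I] (N ⧸ (I • ⊤ : Submodule W N)) where
  toFun := Submodule.mapQ (I • ⊤ : Submodule W M) (I • ⊤ : Submodule W N) φ
    (fun _ hx => Submodule.mem_comap.mpr (map_mem_smul_top I φ hx))
  map_add' := map_add _
  map_smul' := by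
    intro a x
    obtain ⟨w, rfl⟩ := Ideal.Quotient.mk_surjective a
    obtain ⟨m, rfl⟩ := Submodule.Quotient.mk_surjective _ x
    have h1 : (Ideal.Quotient.mk I w) • (Submodule.Quotient.mk m : M ⧸ (I • ⊤ : Submodule W M)) =
        Submodule.Quotient.mk (w • m) := rfl
    rw [h1, Submodule.mapQ_apply, Submodule.mapQ_apply, map_smul]
    rfl

@[simp]
theorem quotMap_mk (I : Ideal W) (φ : M →ₗ[W] N) (m : M) :
    quotMap I φ (Submodule.Quotient.mk m) = Submodule.Quotient.mk (φ m) := rfl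

theorem quotMap_surjective (I : Ideal W) (φ : M →ₗ[W] N) (hφ : Function.Surjective φ) :
    Function.Surjective (quotMap I φ) := by
  intro y
  obtain ⟨n, rfl⟩ := Submodule.Quotient.mk_surjective _ y
  obtain ⟨m, rfl⟩ := hφ n
  exact ⟨Submodule.Quotient.mk m, rfl⟩

theorem mk_mem_map_smul_top (I J : Ideal W) {m : M} (hm : m ∈ J • (⊤ : Submodule W M)) :
    (Submodule.Quotient.mk m : M ⧸ (I • ⊤ : Submodule W M)) ∈
      (J.map (Ideal.Quotient.mk I)) • (⊤ : Submodule (W ⧸ I) (M ⧸ (I • ⊤ : Submodule W M))) := by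
  refine Submodule.smul_induction_on hm (fun a ha m' _ => ?_) (fun x y hx hy => ?_)
  · have h1 : (Submodule.Quotient.mk (a • m') : M ⧸ (I • ⊤ : Submodule W M)) =
        (Ideal.Quotient.mk I a) • (Submodule.Quotient.mk m' : M ⧸ (I • ⊤ : Submodule W M)) := rfl
    rw [h1]
    exact Submodule.smul_mem_smul (Ideal.mem_map_of_mem _ ha) Submodule.mem_top
  · rw [Submodule.Quotient.mk_add]
    exact Submodule.add_mem _ hx hy

end QuotMap

end Groth.Agent.Lib.ProjCrit58
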