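import Mathlib
import Groth.Agent.Lib.ProjCrit58

/-!
# Finite projectivity from levels over a complete ring (helper58)

`finite_projective_of_levels`: let `I n` be ideals of `W` with `W` `I 0`-adically complete,
`I n ≤ I 0`, some power of `I 0` inside each `I n`, and `⋂ I n = 0`.  A `W`-module `P` which is
separated for the filtration `I n • P`, with `P / I 0 P` finite over `W / I 0` and each
`P / I n P` projective over `W / I n`, is finite projective over `W`.
-/

set_option autoImplicit false
universe u v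

namespace Groth.Agent.Lib.ProjCrit58

open Groth.Agent.Lib.NormalDecomp58

variable {W : Type u} [CommRing W]

theorem finite_projective_of_levels (I : ℕ → Ideal W) [IsAdicComplete (I 0) W]
    (hIJ : ∀ n, I n ≤ I 0) (hJI : ∀ n, ∃ j, (I 0) ^ j ≤ I n)
    (hI0 : ∀ x : W, (∀ n, x ∈ I n) → x = 0)
    (P : Type v) [AddCommGroup P] [Module W P]
    (hsep : ∀ x : P, (∀ n, x ∈ I n • (⊤ : Submodule W P)) → x = 0)
    (hfin : Module.Finite (W ⧸ I 0) (P ⧸ (I 0 • ⊤ : Submodule W P)))
    (hproj : ∀ n, Module.Projective (W ⧸ I n) (P ⧸ (I n • ⊤ : Submodule W P))) :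
    Module.Finite W P ∧ Module.Projective W P := by
  classical
  have hH : IsHausdorff (I 0) P := by
    refine ⟨fun x hx => hsep x (fun n => ?_)⟩
    obtain ⟨j, hj⟩ := hJI n
    have := hx j
    rw [SModEq.zero] at this
    exact Submodule.smul_mono hj le_rfl this
  obtain ⟨k, f, hf⟩ := Module.Finite.exists_fin' (W ⧸ I 0) (P ⧸ (I 0 • ⊤ : Submodule W P))
  have hx : ∀ i : Fin k, ∃ x : P, (Submodule.Quotient.mk x : P ⧸ (I 0 • ⊤ : Submodule W P)) =
      f (fun j => if i = j then 1 else 0) := fun i => Submodule.Quotient.mk_surjective _ _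
  choose x hx using hx
  let π : (Fin k → W) →ₗ[W] P := Fintype.linearCombination W x
  have hπ1 : ∀ c : Fin k → W, (Submodule.Quotient.mk (π c) : P ⧸ (I 0 • ⊤ : Submodule W P)) =
      f (fun i => Ideal.Quotient.mk (I 0) (c i)) := by
    intro c
    rw [LinearMap.pi_apply_eq_sum_univ f]
    simp only [π, Fintype.linearCombination_apply]
    rw [← Submodule.mkQ_apply, map_sum]
    refine Finset.sum_congr rfl (fun i _ => ?_)
    rw [← hx i]
    rfl
  have hπs : Function.Surjective (quotMap (I 0) π) := by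
    intro y
    obtain ⟨c, rfl⟩ := hf y
    choose w hw using fun i => Ideal.Quotient.mk_surjective (c i)
    refine ⟨Submodule.Quotient.mk w, ?_⟩
    rw [quotMap_mk, hπ1]
    congr 1
    funext i
    exact hw i
  have hprojJ : Module.Projective (W ⧸ I 0) (P ⧸ (I 0 • ⊤ : Submodule W P)) := hproj 0
  obtain ⟨σ, hσ⟩ := Module.projective_lifting_property (quotMap (I 0) π) LinearMap.id hπs
  let g : (Fin k → W) →ₗ[W] ((Fin k → W) ⧸ (I 0 • ⊤ : Submodule W (Fin k → W))) :=
    { toFun := fun c => σ (Submodule.Quotient.mk (π c))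
      map_add' := by
        intro a b
        rw [map_add, Submodule.Quotient.mk_add, map_add]
      map_smul' := by
        intro w c
        rw [map_smul, RingHom.id_apply]
        have h1 : (Submodule.Quotient.mk (w • π c) : P ⧸ (I 0 • ⊤ : Submodule W P)) =
            Ideal.Quotient.mk (I 0) w • Submodule.Quotient.mk (π c) := rfl
        rw [h1, map_smul]
        rfl }
  obtain ⟨f₀, hf₀⟩ := Module.projective_lifting_property
    (Submodule.mkQ (I 0 • ⊤ : Submodule W (Fin k → W))) g (Submodule.mkQ_surjective _)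
  have hf₀' : ∀ c, (Submodule.Quotient.mk (f₀ c) :
      (Fin k → W) ⧸ (I 0 • ⊤ : Submodule W (Fin k → W))) = σ (Submodule.Quotient.mk (π c)) :=
    fun c => LinearMap.congr_fun hf₀ c
  have p1 : ∀ c, π (f₀ c) - π c ∈ I 0 • (⊤ : Submodule W P) := by
    intro c
    rw [← Submodule.Quotient.mk_eq_zero, Submodule.Quotient.mk_sub, sub_eq_zero]
    have := LinearMap.congr_fun hσ (Submodule.Quotient.mk (π c))
    rw [LinearMap.comp_apply, ← hf₀' c, quotMap_mk] at this
    exact this
  have p2 : ∀ c, π c ∈ I 0 • (⊤ : Submodule W P) →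
      f₀ c ∈ I 0 • (⊤ : Submodule W (Fin k → W)) := by
    intro c hc
    rw [← Submodule.Quotient.mk_eq_zero, hf₀', (Submodule.Quotient.mk_eq_zero _).mpr hc, map_zero]
  have h₀ : ∀ m, f₀ (f₀ m) - f₀ m ∈ I 0 • (⊤ : Submodule W (Fin k → W)) := by
    intro m
    rw [← map_sub]
    apply p2
    rw [map_sub]
    exact p1 m
  have hFc : IsAdicComplete (I 0) (Fin k → W) := isAdicComplete_pi (I 0) (Fin k)
  obtain ⟨e, he2, he0⟩ := exists_idempotent_lift (I 0) f₀ h₀
  let ι : LinearMap.range e →ₗ[W] (Fin k → W) := (LinearMap.range e).subtype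
  let s : (Fin k → W) →ₗ[W] LinearMap.range e := e.rangeRestrict
  have hsι : ∀ u : LinearMap.range e, s (ι u) = u := by
    rintro ⟨_, c, rfl⟩
    apply Subtype.ext
    show e (e c) = e c
    exact he2 c
  have hιs : ∀ c, ι (s c) = e c := fun c => rfl
  have hP'proj : Module.Projective W (LinearMap.range e) :=
    Module.Projective.of_split ι s (LinearMap.ext hsι)
  have hP'fin : Module.Finite W (LinearMap.range e) := inferInstance
  let φ : LinearMap.range e →ₗ[W] P := π ∘ₗ ι
  have hφ : ∀ y : P, ∃ u : LinearMap.range e, y - φ u ∈ I 0 • (⊤ : Submodule W P) := by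
    intro y
    obtain ⟨z, hz⟩ := hπs (Submodule.Quotient.mk y)
    obtain ⟨c, rfl⟩ := Submodule.Quotient.mk_surjective _ z
    rw [quotMap_mk, Submodule.Quotient.eq] at hz
    refine ⟨s c, ?_⟩
    have e1 : y - φ (s c) = -(π c - y) - π (e c - f₀ c) - (π (f₀ c) - π c) := by
      show y - π (ι (s c)) = _
      rw [hιs, map_sub]
      abel
    rw [e1]
    exact Submodule.sub_mem _ (Submodule.sub_mem _ (Submodule.neg_mem _ hz)
      (map_mem_smul_top (I 0) π (he0 c))) (p1 c)
  have hP'c : IsAdicComplete (I 0) (LinearMap.range e) := isAdicComplete_of_finite_projective (I 0)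
  have hsurj : Function.Surjective φ := surjective_of_complete (I 0) φ hφ
  have hc : ∀ u : LinearMap.range e, φ u ∈ I 0 • (⊤ : Submodule W P) →
      u ∈ I 0 • (⊤ : Submodule W (LinearMap.range e)) := by
    intro u hu
    have h1 : f₀ (ι u) ∈ I 0 • (⊤ : Submodule W (Fin k → W)) := p2 _ hu
    have h2 : e (ι u) = ι u := by rw [← hιs, hsι]
    have h3 : ι u ∈ I 0 • (⊤ : Submodule W (Fin k → W)) := by
      have := Submodule.add_mem _ (he0 (ι u)) h1
      rwa [sub_add_cancel, h2] at this
    have := map_mem_smul_top (I 0) s h3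
    rwa [hsι] at this
  have hlevel : ∀ n, ∀ u : LinearMap.range e, φ u ∈ I n • (⊤ : Submodule W P) →
      u ∈ I n • (⊤ : Submodule W (LinearMap.range e)) := by
    intro n u hu
    have := hproj n
    obtain ⟨j, hj⟩ := hJI n
    have h𝔫 : ((I 0).map (Ideal.Quotient.mk (I n))) ^ j = ⊥ := by
      rw [← Ideal.map_pow, Ideal.map_eq_bot_iff_le_ker, Ideal.mk_ker]
      exact hj
    have hker : LinearMap.ker (quotMap (I n) φ) ≤ ((I 0).map (Ideal.Quotient.mk (I n))) •
        (⊤ : Submodule (W ⧸ I n) (LinearMap.range e ⧸ (I n • ⊤ : Submodule W (LinearMap.range e)))) := by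
      intro z hz
      obtain ⟨v, rfl⟩ := Submodule.Quotient.mk_surjective _ z
      rw [LinearMap.mem_ker, quotMap_mk, Submodule.Quotient.mk_eq_zero] at hz
      exact mk_mem_map_smul_top (I n) (I 0) (hc v (Submodule.smul_mono (hIJ n) le_rfl hz))
    have hk := ker_eq_bot_of_projective _ j h𝔫 (quotMap (I n) φ)
      (quotMap_surjective (I n) φ hsurj) hker
    have hz : (Submodule.Quotient.mk u : LinearMap.range e ⧸
        (I n • ⊤ : Submodule W (LinearMap.range e))) ∈ LinearMap.ker (quotMap (I n) φ) := by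
      rw [LinearMap.mem_ker, quotMap_mk, Submodule.Quotient.mk_eq_zero]
      exact hu
    rw [hk, Submodule.mem_bot, Submodule.Quotient.mk_eq_zero] at hz
    exact hz
  have hinj : Function.Injective φ := by
    rw [← LinearMap.ker_eq_bot, eq_bot_iff]
    intro u hu
    rw [LinearMap.mem_ker] at hu
    have h1 : ∀ n, ι u ∈ I n • (⊤ : Submodule W (Fin k → W)) := by
      intro n
      refine map_mem_smul_top (I n) ι (hlevel n u ?_)
      rw [hu]
      exact zero_mem _
    have h2 : ι u = 0 := by
      funext i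
      refine hI0 _ (fun n => ?_)
      exact (Groth.Agent.Lib.AdicPi.mem_smul_top_pi_iff (I n) (Fin k) (ι u)).1 (h1 n) i
    rw [Submodule.mem_bot]
    exact Subtype.ext h2
  let E : LinearMap.range e ≃ₗ[W] P := LinearEquiv.ofBijective φ ⟨hinj, hsurj⟩
  exact ⟨Module.Finite.equiv E, Module.Projective.of_equiv E⟩

end Groth.Agent.Lib.ProjCrit58
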