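import Mathlib.RingTheory.Smooth.Basic
import Mathlib.RingTheory.Smooth.Flat
import Mathlib.RingTheory.Smooth.StandardSmooth
import Mathlib.RingTheory.FinitePresentation
import Mathlib.RingTheory.Polynomial.Basic
import Mathlib.Data.Matrix.Mul
import Mathlib.Algebra.MvPolynomial.PDeriv

/-!
# The algebra `A[y]/((1 - εᵀ) y)` cut out by an idempotent matrix (helper19)

Namespace `Groth.Agent.Lib.ProjCut19`.  For a commutative ring `A` and an idempotent matrix
`ε : Matrix (Fin m) (Fin m) A`, the `A`-algebra `Cut ε = A[y₁,…,y_m]/(ℓ₁,…,ℓ_m)` with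
`ℓ k = y_k - ∑ j, ε j k • y_j` (this is `Sym_A` of a finite projective module) is smooth over `A`
and retracts onto `A`.
-/

set_option autoImplicit false
universe u

namespace Groth.Agent.Lib.ProjCut19

open MvPolynomial

section Lin

variable {B : Type u} [CommRing B] {m : ℕ}

/-- the linear forms `y_k - ∑ j, E j k • y_j` -/
noncomputable def lin (E : Matrix (Fin m) (Fin m) B) (k : Fin m) : MvPolynomial (Fin m) B :=
  X k - ∑ j, C (E j k) * X j

/-- the substitution `y_k ↦ ∑ j, E j k • y_j` -/
noncomputable def sub (E : Matrix (Fin m) (Fin m) B) :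
    MvPolynomial (Fin m) B →ₐ[B] MvPolynomial (Fin m) B :=
  aeval (fun k => ∑ j, C (E j k) * X j)

theorem sub_X (E : Matrix (Fin m) (Fin m) B) (k : Fin m) :
    sub E (X k) = ∑ j, C (E j k) * X j := by
  simp [sub]

theorem sub_C (E : Matrix (Fin m) (Fin m) B) (b : B) : sub E (C b) = C b := by
  simp [sub]

theorem sub_X_sub (E : Matrix (Fin m) (Fin m) B) (k : Fin m) : sub E (X k) - X k = -lin E k := by
  rw [sub_X, lin]; ring

/-- `sub E (lin E k) = -∑ j, (E * E - E) j k • y_j` -/
theorem sub_lin (E : Matrix (Fin m) (Fin m) B) (k : Fin m) :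
    sub E (lin E k) = -∑ j, C ((E * E - E) j k) * X j := by
  rw [lin, map_sub, map_sum, sub_X]
  simp only [map_mul, sub_C, sub_X]
  have h1 : ∑ x, C (E x k) * ∑ j, C (E j x) * X j = ∑ j, C ((E * E) j k) * (X j : MvPolynomial (Fin m) B) := by
    simp only [Finset.mul_sum]
    rw [Finset.sum_comm]
    refine Finset.sum_congr rfl fun j _ => ?_
    rw [Matrix.mul_apply, map_sum, Finset.sum_mul]
    refine Finset.sum_congr rfl fun x _ => ?_
    rw [map_mul]; ring
  rw [h1, ← Finset.sum_sub_distrib, ← Finset.sum_neg_distrib]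
  refine Finset.sum_congr rfl fun j _ => ?_
  rw [Matrix.sub_apply, map_sub]; ring

/-- `sub E p ≡ p` modulo any ideal containing the `lin E k` -/
theorem sub_sub_mem (E : Matrix (Fin m) (Fin m) B) (J : Ideal (MvPolynomial (Fin m) B))
    (hJ : ∀ k, lin E k ∈ J) (p : MvPolynomial (Fin m) B) : sub E p - p ∈ J := by
  induction p using MvPolynomial.induction_on with
  | C b => rw [sub_C, sub_self]; exact J.zero_mem
  | add p q hp hq =>
    rw [map_add]
    have : sub E p + sub E q - (p + q) = (sub E p - p) + (sub E q - q) := by ring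
    rw [this]; exact J.add_mem hp hq
  | mul_X p k hp =>
    rw [map_mul]
    have : sub E p * sub E (X k) - p * X k = sub E p * (sub E (X k) - X k) + (sub E p - p) * X k := by
      ring
    rw [this, sub_X_sub]
    exact J.add_mem (J.mul_mem_left _ (J.neg_mem (hJ k))) (J.mul_mem_right _ hp)

theorem map_lin {B' : Type u} [CommRing B'] (φ : B →+* B') (E : Matrix (Fin m) (Fin m) B)
    (k : Fin m) : MvPolynomial.map φ (lin E k) = lin (E.map φ) k := by
  simp [lin, Matrix.map_apply]

theorem pderiv_lin (E : Matrix (Fin m) (Fin m) B) (j k : Fin m) :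
    pderiv j (lin E k) = C ((1 - E) j k) := by
  classical
  rw [lin, map_sub, pderiv_X, map_sum]
  simp only [Derivation.leibniz, pderiv_C, pderiv_X, smul_zero, add_zero, smul_eq_mul]
  rw [Matrix.sub_apply, map_sub, Matrix.one_apply]
  congr 1
  · by_cases h : j = k
    · subst h; simp
    · simp [h, Pi.single_apply, Ne.symm h]
  · rw [Finset.sum_eq_single j]
    · simp
    · intro b _ hb
      simp [Pi.single_apply, hb]
    · intro h; exact absurd (Finset.mem_univ j) h

end Lin

section Cut

variable {A : Type u} [CommRing A] {m : ℕ} (ε : Matrix (Fin m) (Fin m) A)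

/-- the ideal generated by the linear forms -/
noncomputable def cutIdeal : Ideal (MvPolynomial (Fin m) A) := Ideal.span (Set.range (lin ε))

/-- the algebra `A[y]/(ℓ)` -/
abbrev Cut : Type u := MvPolynomial (Fin m) A ⧸ cutIdeal ε

theorem lin_mem (k : Fin m) : lin ε k ∈ cutIdeal ε := Ideal.subset_span ⟨k, rfl⟩

/-- the retraction `y ↦ 0` -/
noncomputable def retr : Cut ε →ₐ[A] A :=
  Ideal.Quotient.liftₐ (cutIdeal ε) (aeval (fun _ => (0 : A))) (by
    intro p hp
    have hle : cutIdeal ε ≤ RingHom.ker (aeval (fun _ => (0 : A)) : MvPolynomial (Fin m) A →ₐ[A] A) := by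
      rw [cutIdeal, Ideal.span_le]
      rintro _ ⟨k, rfl⟩
      show aeval (fun _ => (0 : A)) (lin ε k) = 0
      simp [lin]
    exact hle hp)

theorem retr_algebraMap (a : A) : retr ε (algebraMap A (Cut ε) a) = a := by
  simp

variable (hε : ε * ε = ε)

include hε in
theorem sub_lin_eq_zero (k : Fin m) : sub ε (lin ε k) = 0 := by
  rw [sub_lin, hε, sub_self]
  simp

/-- the section of the quotient map `A[y] → Cut ε` (as an algebra map into `A[y]`) -/
noncomputable def sec : Cut ε →ₐ[A] MvPolynomial (Fin m) A :=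
  Ideal.Quotient.liftₐ (cutIdeal ε) (sub ε) (by
    intro p hp
    have hle : cutIdeal ε ≤ RingHom.ker (sub ε) := by
      rw [cutIdeal, Ideal.span_le]
      rintro _ ⟨k, rfl⟩
      exact sub_lin_eq_zero ε hε k
    exact hle hp)

theorem mk_sec (c : Cut ε) : Ideal.Quotient.mk (cutIdeal ε) (sec ε hε c) = c := by
  obtain ⟨p, rfl⟩ := Ideal.Quotient.mk_surjective c
  show Ideal.Quotient.mk (cutIdeal ε) (sub ε p) = _
  rw [Ideal.Quotient.eq]
  exact sub_sub_mem ε _ (lin_mem ε) p

include hε in
theorem formallySmooth : Algebra.FormallySmooth A (Cut ε) := by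
  let f : MvPolynomial (Fin m) A →ₐ[A] Cut ε := Ideal.Quotient.mkₐ A (cutIdeal ε)
  refine Algebra.FormallySmooth.of_split f
    ((Ideal.Quotient.mkₐ A (RingHom.ker f.toRingHom ^ 2)).comp (sec ε hε)) ?_
  ext c
  show f.kerSquareLift (Ideal.Quotient.mk _ (sec ε hε c)) = c
  exact mk_sec ε hε c

theorem finitePresentation : Algebra.FinitePresentation A (Cut ε) :=
  Algebra.FinitePresentation.quotient ((Submodule.fg_span (Set.finite_range _)))

include hε in
theorem smooth : Algebra.Smooth A (Cut ε) :=
  ⟨formallySmooth ε hε, finitePresentation ε⟩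

end Cut

end Groth.Agent.Lib.ProjCut19
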