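import Groth.Agent.Lib.ProjCutA19
import Mathlib.RingTheory.Nakayama

/-!
# Presentation of `Cut ε` over a base presentation (helper19)

Namespace `Groth.Agent.Lib.ProjCut19`.  `φ₀ : P₀ → A` surjective with kernel `I = (a₁,…,a_m)`, and a
matrix `E` over `P₀` with
* `E² - E` has entries in `I²`,
* `∑ i, E i k * a i ≡ a k` mod `I²`,
* `∑ k, u k * a k ∈ I²` implies `∑ k, E i k * u k ∈ I`.
Then the kernel `J` of `P₀[y] → Cut (E mod I)` is generated, on a neighbourhood `D(h₀)` of `V(J)`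
(`h₀ ∈ 1 + J`), by the `m` elements `f k = a k + lin E k`, and these are independent modulo `J`.
-/

set_option autoImplicit false
universe u

namespace Groth.Agent.Lib.ProjCut19

open MvPolynomial
open scoped Pointwise

variable {P₀ A : Type u} [CommRing P₀] [CommRing A] (φ₀ : P₀ →+* A)
  {m : ℕ} (a : Fin m → P₀) (E : Matrix (Fin m) (Fin m) P₀)

/-- the generators `f k = a k + lin E k` -/
noncomputable def gen (k : Fin m) : MvPolynomial (Fin m) P₀ := C (a k) + lin E k

/-- the presentation map `P₀[y] → Cut (E mod I)` -/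
noncomputable def pres : MvPolynomial (Fin m) P₀ →+* Cut (E.map φ₀) :=
  (Ideal.Quotient.mk (cutIdeal (E.map φ₀))).comp (MvPolynomial.map φ₀)

theorem pres_surjective (hφ₀ : Function.Surjective φ₀) : Function.Surjective (pres φ₀ E) :=
  Ideal.Quotient.mk_surjective.comp (MvPolynomial.map_surjective φ₀ hφ₀)

theorem ker_pres (hφ₀ : Function.Surjective φ₀) :
    RingHom.ker (pres φ₀ E) =
      Ideal.span (Set.range (lin E)) ⊔ Ideal.map C (RingHom.ker φ₀) := by
  have h1 : RingHom.ker (pres φ₀ E) = (cutIdeal (E.map φ₀)).comap (MvPolynomial.map φ₀) := by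
    ext x
    rw [RingHom.mem_ker, Ideal.mem_comap, pres, RingHom.comp_apply, Ideal.Quotient.eq_zero_iff_mem]
  have h2 : cutIdeal (E.map φ₀) = (Ideal.span (Set.range (lin E))).map (MvPolynomial.map φ₀) := by
    rw [Ideal.map_span, cutIdeal]
    congr 1
    ext x
    constructor
    · rintro ⟨k, rfl⟩
      exact ⟨lin E k, ⟨k, rfl⟩, map_lin φ₀ E k⟩
    · rintro ⟨_, ⟨k, rfl⟩, rfl⟩
      exact ⟨k, (map_lin φ₀ E k).symm⟩
  rw [h1, h2, Ideal.comap_map_of_surjective _ (MvPolynomial.map_surjective φ₀ hφ₀)]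
  congr 1
  rw [← RingHom.ker_eq_comap_bot, MvPolynomial.ker_map]

section Main

variable (hφ₀ : Function.Surjective φ₀)
  (hker : RingHom.ker φ₀ = Ideal.span (Set.range a))
  (hE1 : ∀ i j, (E * E - E) i j ∈ RingHom.ker φ₀ ^ 2)
  (hE2 : ∀ k, ∑ i, E i k * a i - a k ∈ RingHom.ker φ₀ ^ 2)
  (hE3 : ∀ u : Fin m → P₀, ∑ k, u k * a k ∈ RingHom.ker φ₀ ^ 2 →
    ∀ i, ∑ k, E i k * u k ∈ RingHom.ker φ₀)

include hE1 in
theorem map_mul_self : E.map φ₀ * E.map φ₀ = E.map φ₀ := by
  rw [← Matrix.map_mul]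
  ext i j
  rw [Matrix.map_apply, Matrix.map_apply, ← sub_eq_zero, ← map_sub, ← Matrix.sub_apply,
    ← RingHom.mem_ker]
  exact Ideal.pow_le_self two_ne_zero (hE1 i j)

theorem sum_C_mul_lin (k : Fin m) : ∑ i, C (E i k) * lin E i = sub E (lin E k) := by
  simp only [lin, map_sub, map_sum, map_mul, sub_C, sub_X, mul_sub, Finset.sum_sub_distrib]

include hE1 in
theorem sub_lin_mem (k : Fin m) : sub E (lin E k) ∈ Ideal.map C (RingHom.ker φ₀ ^ 2) := by
  rw [sub_lin]
  refine neg_mem (Ideal.sum_mem _ fun j _ => Ideal.mul_mem_right _ _ ?_)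
  exact Ideal.mem_map_of_mem _ (hE1 j k)

theorem gen_mem_ker (hφ₀ : Function.Surjective φ₀)
    (hker : RingHom.ker φ₀ = Ideal.span (Set.range a)) (k : Fin m) :
    gen a E k ∈ RingHom.ker (pres φ₀ E) := by
  rw [ker_pres φ₀ E hφ₀]
  refine Ideal.add_mem _ (Ideal.mem_sup_right (Ideal.mem_map_of_mem _ ?_))
    (Ideal.mem_sup_left (Ideal.subset_span ⟨k, rfl⟩))
  rw [hker]
  exact Ideal.subset_span ⟨k, rfl⟩

include hφ₀ hker hE1 hE2 in
theorem ker_le_span_sup_sq :
    RingHom.ker (pres φ₀ E) ≤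
      Ideal.span (Set.range (gen a E)) ⊔ RingHom.ker (pres φ₀ E) * RingHom.ker (pres φ₀ E) := by
  set J := RingHom.ker (pres φ₀ E) with hJ
  set S := Ideal.span (Set.range (gen a E)) ⊔ J * J with hS
  have hI2 : Ideal.map C (RingHom.ker φ₀ ^ 2) ≤ J * J := by
    rw [Ideal.map_pow, pow_two]
    have : Ideal.map (C : P₀ →+* MvPolynomial (Fin m) P₀) (RingHom.ker φ₀) ≤ J := by
      rw [hJ, ker_pres φ₀ E hφ₀]; exact le_sup_right
    exact Ideal.mul_mono this this
  have hCa : ∀ k, C (a k) ∈ S := by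
    intro k
    have h1 : ∑ i, C (E i k) * gen a E i ∈ S :=
      Ideal.sum_mem _ fun i _ => Ideal.mul_mem_left _ _
        (Ideal.mem_sup_left (Ideal.subset_span ⟨i, rfl⟩))
    have h2 : ∑ i, C (E i k) * gen a E i =
        C (a k) + C (∑ i, E i k * a i - a k) + sub E (lin E k) := by
      rw [← sum_C_mul_lin]
      simp only [gen, mul_add, Finset.sum_add_distrib, map_sub, map_sum, map_mul]
      ring
    have h3 : C (∑ i, E i k * a i - a k) ∈ S :=
      Ideal.mem_sup_right (hI2 (Ideal.mem_map_of_mem _ (hE2 k)))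
    have h4 : sub E (lin E k) ∈ S := Ideal.mem_sup_right (hI2 (sub_lin_mem φ₀ E hE1 k))
    have h5 : C (a k) = ∑ i, C (E i k) * gen a E i - C (∑ i, E i k * a i - a k) -
        sub E (lin E k) := by rw [h2]; ring
    rw [h5]
    exact Ideal.sub_mem _ (Ideal.sub_mem _ h1 h3) h4
  have hlin : ∀ k, lin E k ∈ S := by
    intro k
    have : lin E k = gen a E k - C (a k) := by rw [gen]; ring
    rw [this]
    exact Ideal.sub_mem _ (Ideal.mem_sup_left (Ideal.subset_span ⟨k, rfl⟩)) (hCa k)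
  rw [hJ, ker_pres φ₀ E hφ₀, sup_le_iff]
  constructor
  · rw [Ideal.span_le]
    rintro _ ⟨k, rfl⟩
    exact hlin k
  · rw [hker, Ideal.map_span, Ideal.span_le]
    rintro _ ⟨_, ⟨k, rfl⟩, rfl⟩
    exact hCa k

include hφ₀ hker in
theorem ker_pres_fg : (RingHom.ker (pres φ₀ E)).FG := by
  rw [ker_pres φ₀ E hφ₀, hker]
  refine Submodule.FG.sup (Submodule.fg_span (Set.finite_range _)) ?_
  rw [Ideal.map_span]
  exact Submodule.fg_span ((Set.finite_range _).image _)

include hφ₀ hker hE1 hE2 in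
/-- Nakayama: on a neighbourhood of `V(J)` the kernel is generated by the `gen a E k`. -/
theorem exists_mul_mem_span :
    ∃ h₀ : MvPolynomial (Fin m) P₀, h₀ - 1 ∈ RingHom.ker (pres φ₀ E) ∧
      ∀ j ∈ RingHom.ker (pres φ₀ E), h₀ * j ∈ Ideal.span (Set.range (gen a E)) := by
  obtain ⟨r, hr1, hr2⟩ := Submodule.exists_sub_one_mem_and_smul_le_of_fg_of_le_sup
    (I := RingHom.ker (pres φ₀ E)) (N := Ideal.span (Set.range (gen a E)))
    (N' := RingHom.ker (pres φ₀ E)) (P := RingHom.ker (pres φ₀ E))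
    (ker_pres_fg φ₀ a E hφ₀ hker) le_rfl (ker_le_span_sup_sq φ₀ a E hφ₀ hker hE1 hE2)
  refine ⟨r, hr1, fun j hj => ?_⟩
  have : r • j ∈ r • (RingHom.ker (pres φ₀ E) : Submodule _ (MvPolynomial (Fin m) P₀)) :=
    Submodule.smul_mem_pointwise_smul j r _ hj
  exact hr2 this

include hφ₀ hker hE1 hE3 in
/-- Independence of the generators modulo the kernel. -/
theorem mem_ker_of_sum_eq_zero (c : Fin m → MvPolynomial (Fin m) P₀)
    (hc : ∑ i, c i * gen a E i = 0) (j : Fin m) : c j ∈ RingHom.ker (pres φ₀ E) := by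
  classical
  set J := RingHom.ker (pres φ₀ E) with hJ
  have hlinJ : ∀ k, lin E k ∈ J := fun k => by
    rw [hJ, ker_pres φ₀ E hφ₀]; exact Ideal.mem_sup_left (Ideal.subset_span ⟨k, rfl⟩)
  have hIJ : Ideal.map (C : P₀ →+* MvPolynomial (Fin m) P₀) (RingHom.ker φ₀) ≤ J := by
    rw [hJ, ker_pres φ₀ E hφ₀]; exact le_sup_right
  have hgenJ : ∀ k, gen a E k ∈ J := gen_mem_ker φ₀ a E hφ₀ hker
  -- derivative part
  have hD1 : c j - ∑ i, C (E j i) * c i ∈ J := by
    have h2 : ∀ i, pderiv j (gen a E i) = C ((1 - E) j i) := by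
      intro i
      rw [gen, map_add, pderiv_C, zero_add, pderiv_lin]
    have h0 : ∀ i, pderiv j (c i * gen a E i) =
        c i * C ((1 - E) j i) + gen a E i * pderiv j (c i) := by
      intro i
      rw [Derivation.leibniz, h2, smul_eq_mul, smul_eq_mul]
    have h1 := congrArg (pderiv j) hc
    rw [map_sum, map_zero, Finset.sum_congr rfl (fun i _ => h0 i), Finset.sum_add_distrib] at h1
    have h3 : ∑ i, c i * C ((1 - E) j i) = c j - ∑ i, C (E j i) * c i := by
      have h31 : ∀ i, c i * C ((1 - E) j i) =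
          c i * C ((1 : Matrix (Fin m) (Fin m) P₀) j i) - C (E j i) * c i := by
        intro i
        rw [Matrix.sub_apply, map_sub]; ring
      rw [Finset.sum_congr rfl (fun i _ => h31 i), Finset.sum_sub_distrib]
      congr 1
      rw [Finset.sum_eq_single j]
      · rw [Matrix.one_apply_eq, map_one, mul_one]
      · intro b _ hb
        rw [Matrix.one_apply_ne (Ne.symm hb), map_zero, mul_zero]
      · intro h; exact absurd (Finset.mem_univ j) h
    rw [← h3]
    have h4 : ∑ i, c i * C ((1 - E) j i) = -∑ i, gen a E i * pderiv j (c i) := by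
      rw [eq_neg_iff_add_eq_zero]; exact h1
    rw [h4]
    exact neg_mem (Ideal.sum_mem _ fun i _ => Ideal.mul_mem_right _ _ (hgenJ i))
  -- substitution part
  have hD2 : ∑ i, C (E j i) * c i ∈ J := by
    have h1 := congrArg (sub E) hc
    rw [map_sum, map_zero] at h1
    simp only [map_mul, gen, map_add, sub_C] at h1
    have h2 : ∑ i, sub E (c i) * C (a i) ∈ Ideal.map C (RingHom.ker φ₀ ^ 2) := by
      have : ∑ i, sub E (c i) * C (a i) = -∑ i, sub E (c i) * sub E (lin E i) := by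
        rw [eq_neg_iff_add_eq_zero, ← Finset.sum_add_distrib]
        simpa only [mul_add] using h1
      rw [this]
      exact neg_mem (Ideal.sum_mem _ fun i _ =>
        Ideal.mul_mem_left _ _ (sub_lin_mem φ₀ E hE1 i))
    have h3 : ∑ i, C (E j i) * sub E (c i) ∈ Ideal.map C (RingHom.ker φ₀) := by
      rw [MvPolynomial.mem_map_C_iff] at h2 ⊢
      intro μ
      have h4 := hE3 (fun i => coeff μ (sub E (c i))) (by
        have := h2 μ
        simp only [coeff_sum] at this
        have h6 : ∀ i, coeff μ (sub E (c i) * C (a i)) = coeff μ (sub E (c i)) * a i := by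
          intro i
          rw [mul_comm, coeff_C_mul, mul_comm]
        rwa [Finset.sum_congr rfl (fun i _ => h6 i)] at this) j
      simpa only [coeff_sum, coeff_C_mul] using h4
    have h5 : ∑ i, C (E j i) * c i =
        ∑ i, C (E j i) * sub E (c i) - ∑ i, C (E j i) * (sub E (c i) - c i) := by
      rw [← Finset.sum_sub_distrib]
      exact Finset.sum_congr rfl fun i _ => by ring
    rw [h5]
    exact Ideal.sub_mem _ (hIJ h3) (Ideal.sum_mem _ fun i _ =>
      Ideal.mul_mem_left _ _ (sub_sub_mem E J hlinJ (c i)))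
  have : c j = (c j - ∑ i, C (E j i) * c i) + ∑ i, C (E j i) * c i := by ring
  rw [this]
  exact Ideal.add_mem _ hD1 hD2

end Main

end Groth.Agent.Lib.ProjCut19
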