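import Groth.Agent.Lib.KRDescC
import Groth.Agent.Lib.KRLocal89
import Groth.Agent.Lib.KoszulRetract
import Mathlib.LinearAlgebra.Matrix.Rank
import Mathlib.RingTheory.Localization.LocalizationLocalization
import Mathlib.RingTheory.Localization.Integer
import Mathlib.RingTheory.LocalRing.ResidueField.Basic

/-!
# Independent generators of a Koszul-regular ideal form a Koszul-regular sequence (helper19)

Namespace `Groth.Agent.Lib.ProjCut19`.  `kr_away_of_indep`: `J` a Koszul-regular ideal of `P`,
`f : Fin m → P` in `J` generating `J` on `D(h₀)` and independent modulo `J`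
(`∑ cᵢ fᵢ = 0 → cᵢ ∈ J`); then `f` is a Koszul-regular sequence in `P_{h₀}` generating `J P_{h₀}`.
-/

set_option autoImplicit false
set_option linter.style.haveILetI false
universe u

namespace Groth.Agent.Lib.ProjCut19

open Groth.Agent.Lib.KoszulIdeal Groth.Agent.Lib.KRDescC

/-- counting generators in a local ring -/
theorem le_of_indep_local {T : Type u} [CommRing T] [IsLocalRing T] {m s : ℕ} (φ : Fin m → T)
    (w : Fin s → T) (hspan : Ideal.span (Set.range φ) = Ideal.span (Set.range w))
    (hind : ∀ c : Fin m → T, ∑ i, c i * φ i = 0 → ∀ i, c i ∈ IsLocalRing.maximalIdeal T) :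
    m ≤ s := by
  classical
  have h1 : ∀ i, ∃ c : Fin s → T, ∑ j, c j * w j = φ i := fun i => by
    rw [← Ideal.mem_span_range_iff_exists_fun, ← hspan]
    exact Ideal.subset_span ⟨i, rfl⟩
  have h2 : ∀ j, ∃ c : Fin m → T, ∑ k, c k * φ k = w j := fun j => by
    rw [← Ideal.mem_span_range_iff_exists_fun, hspan]
    exact Ideal.subset_span ⟨j, rfl⟩
  choose M hM using h1
  choose M' hM' using h2
  let MM : Matrix (Fin m) (Fin s) T := Matrix.of M
  let MM' : Matrix (Fin s) (Fin m) T := Matrix.of M'
  have h3 : ∀ i k, (MM * MM' - (1 : Matrix (Fin m) (Fin m) T)) i k ∈ IsLocalRing.maximalIdeal T := by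
    intro i
    apply hind
    have : ∑ k, (MM * MM' - (1 : Matrix (Fin m) (Fin m) T)) i k * φ k = ∑ k, (MM * MM') i k * φ k - φ i := by
      simp only [Matrix.sub_apply, sub_mul, Finset.sum_sub_distrib]
      congr 1
      rw [Finset.sum_eq_single i]
      · rw [Matrix.one_apply_eq, one_mul]
      · intro b _ hb
        rw [Matrix.one_apply_ne (Ne.symm hb), zero_mul]
      · intro h; exact absurd (Finset.mem_univ i) h
    rw [this, sub_eq_zero]
    conv_rhs => rw [← hM i]
    simp only [Matrix.mul_apply, Finset.sum_mul]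
    rw [Finset.sum_comm]
    refine Finset.sum_congr rfl fun j _ => ?_
    rw [← hM' j, Finset.mul_sum]
    refine Finset.sum_congr rfl fun k _ => ?_
    show M i j * M' j k * φ k = M i j * (M' j k * φ k)
    ring
  let res := IsLocalRing.residue T
  have h4 : MM.map res * MM'.map res = 1 := by
    rw [← Matrix.map_mul]
    ext i k
    have := h3 i k
    rw [← IsLocalRing.residue_eq_zero_iff, Matrix.sub_apply, map_sub, sub_eq_zero] at this
    rw [Matrix.map_apply, this, Matrix.one_apply, Matrix.one_apply]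
    split_ifs <;> simp
  have h5 : (MM.map res * MM'.map res).rank ≤ s :=
    (Matrix.rank_mul_le_left _ _).trans (Matrix.rank_le_width _)
  rw [h4, Matrix.rank_one, Fintype.card_fin] at h5
  exact h5

/-- independence passes to the localization at a prime containing `J` -/
theorem indep_localization {P : Type u} [CommRing P] (J 𝔮 : Ideal P) [𝔮.IsPrime] (hJq : J ≤ 𝔮)
    (T : Type u) [CommRing T] [Algebra P T] [IsLocalization.AtPrime T 𝔮] [IsLocalRing T]
    {m : ℕ} (f : Fin m → P)
    (hind : ∀ c : Fin m → P, ∑ i, c i * f i = 0 → ∀ i, c i ∈ J)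
    (c : Fin m → T) (hc : ∑ i, c i * algebraMap P T (f i) = 0) (i : Fin m) :
    c i ∈ IsLocalRing.maximalIdeal T := by
  obtain ⟨b, hb⟩ := IsLocalization.exist_integer_multiples_of_finite 𝔮.primeCompl c
  choose c' hc' using hb
  have h1 : algebraMap P T (∑ i, c' i * f i) = 0 := by
    rw [map_sum]
    simp only [map_mul, hc']
    have : ∀ i, (b : P) • c i * algebraMap P T (f i) = (b : P) • (c i * algebraMap P T (f i)) :=
      fun i => smul_mul_assoc _ _ _
    rw [Finset.sum_congr rfl (fun i _ => this i), ← Finset.smul_sum, hc, smul_zero]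
  obtain ⟨t, ht⟩ := (IsLocalization.map_eq_zero_iff 𝔮.primeCompl T _).mp h1
  have h2 : ∑ i, ((t : P) * c' i) * f i = 0 := by
    rw [← ht, Finset.mul_sum]
    exact Finset.sum_congr rfl fun i _ => by ring
  have h3 : (t : P) * c' i ∈ 𝔮 := hJq (hind _ h2 i)
  have h4 : c' i ∈ 𝔮 := ((Ideal.IsPrime.mem_or_mem inferInstance h3).resolve_left t.2)
  have h5 : algebraMap P T (c' i) ∈ IsLocalRing.maximalIdeal T :=
    (IsLocalization.AtPrime.to_map_mem_maximal_iff T 𝔮 (c' i) inferInstance).mpr h4
  rw [hc' i, Algebra.smul_def] at h5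
  have hbu : IsUnit (algebraMap P T (b : P)) := IsLocalization.map_units T b
  exact (Ideal.unit_mul_mem_iff_mem _ hbu).mp h5

theorem map_eq_of_mul_mem {P : Type u} [CommRing P] (J : Ideal P) {m : ℕ} (f : Fin m → P)
    (hfJ : ∀ i, f i ∈ J) (h₀ : P)
    (hmul : ∀ j ∈ J, h₀ * j ∈ Ideal.span (Set.range f))
    (T : Type u) [CommRing T] [Algebra P T] (hu : IsUnit (algebraMap P T h₀)) :
    J.map (algebraMap P T) = Ideal.ofList ((List.ofFn f).map (algebraMap P T)) := by
  rw [← Ideal.map_ofList, ofList_ofFn]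
  refine le_antisymm ?_ (Ideal.map_mono (Ideal.span_le.mpr (by rintro _ ⟨i, rfl⟩; exact hfJ i)))
  rw [Ideal.map_le_iff_le_comap]
  intro j hj
  rw [Ideal.mem_comap]
  have h1 := Ideal.mem_map_of_mem (algebraMap P T) (hmul j hj)
  rw [map_mul] at h1
  exact (Ideal.unit_mul_mem_iff_mem _ hu).mp h1

/-- **Independent generators of a Koszul-regular ideal are a Koszul-regular sequence.** -/
theorem kr_away_of_indep {P : Type u} [CommRing P] (J : Ideal P)
    (hJ : LCI.IsKoszulRegularIdeal J) {m : ℕ} (f : Fin m → P) (hfJ : ∀ i, f i ∈ J) (h₀ : P)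
    (hmul : ∀ j ∈ J, h₀ * j ∈ Ideal.span (Set.range f))
    (hind : ∀ c : Fin m → P, ∑ i, c i * f i = 0 → ∀ i, c i ∈ J) :
    LCI.IsKoszulRegularSeq (Localization.Away h₀)
        ((List.ofFn f).map (algebraMap P (Localization.Away h₀))) ∧
      J.map (algebraMap P (Localization.Away h₀)) =
        Ideal.ofList ((List.ofFn f).map (algebraMap P (Localization.Away h₀))) := by
  have hu₀ : IsUnit (algebraMap P (Localization.Away h₀) h₀) :=
    IsLocalization.Away.algebraMap_isUnit h₀
  refine ⟨?_, map_eq_of_mul_mem J f hfJ h₀ hmul _ hu₀⟩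
  apply Groth.Agent.Lib.KRLocal89.isKoszulRegularSeq_of_atPrime
  intro 𝔪 hmax
  haveI : 𝔪.IsPrime := hmax.isPrime
  set B := Localization.Away h₀ with hB
  set T := Localization.AtPrime 𝔪 with hT
  let 𝔮 : Ideal P := 𝔪.comap (algebraMap P B)
  haveI : 𝔮.IsPrime := Ideal.comap_isPrime _ _
  haveI hloc : IsLocalization.AtPrime T 𝔮 :=
    IsLocalization.isLocalization_isLocalization_atPrime_isLocalization (Submonoid.powers h₀) T 𝔪
  haveI : Module.Flat P T := IsLocalization.flat T 𝔮.primeCompl
  have hlist : ((List.ofFn f).map (algebraMap P B)).map (algebraMap B T) =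
      (List.ofFn f).map (algebraMap P T) := by
    rw [List.map_map]
    refine List.map_congr_left fun x _ => ?_
    exact (IsScalarTower.algebraMap_apply P B T x).symm
  rw [hlist]
  have huT : IsUnit (algebraMap P T h₀) := by
    rw [IsScalarTower.algebraMap_apply P B T]
    exact hu₀.map _
  have hJT := map_eq_of_mul_mem J f hfJ h₀ hmul T huT
  by_cases hle : J ≤ 𝔮
  · obtain ⟨g, hg, hgen⟩ := (isKoszulRegularIdeal_iff J).mp hJ ⟨𝔮, inferInstance⟩ hle
    obtain ⟨s, hs⟩ := hgen.exists_genLen
    have hgu : IsUnit (algebraMap P T g) :=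
      (IsLocalization.AtPrime.isUnit_to_map_iff T 𝔮 g).mpr hg
    obtain ⟨l', hlen, hl', hJl'⟩ := hs.transfer T hgu
    refine Groth.Agent.Lib.KoszulRetract.Retr.isKoszulRegularSeq_of_length_le _ l' ?_ ?_ hl'
    · rw [← hJT, hJl']
    · rw [List.length_map, List.length_ofFn, hlen]
      -- count
      have hl'w : Ideal.ofList l' = Ideal.span (Set.range l'.get) := by
        rw [Set.range_list_get]
      have hspan : Ideal.span (Set.range (fun i => algebraMap P T (f i))) =
          Ideal.span (Set.range l'.get) := by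
        rw [← hl'w, ← hJl', hJT, List.map_ofFn, ofList_ofFn]
        rfl
      have := le_of_indep_local (fun i => algebraMap P T (f i)) l'.get hspan
        (fun c hc i => indep_localization J 𝔮 hle T f hind c hc i)
      rwa [hlen] at this
  · -- unit ideal
    apply Groth.Agent.Lib.KRDescA.isKoszulRegularSeq_of_ofList_eq_top
    rw [← hJT]
    obtain ⟨x, hxJ, hxq⟩ := Set.not_subset.mp hle
    have hxu : IsUnit (algebraMap P T x) :=
      (IsLocalization.AtPrime.isUnit_to_map_iff T 𝔮 x).mpr hxq
    exact Ideal.eq_top_of_isUnit_mem _ (Ideal.mem_map_of_mem _ hxJ) hxu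

end Groth.Agent.Lib.ProjCut19
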