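import Groth.Agent.Lib.ConormalKoszul32
import Mathlib.Tactic.NoncommRing

/-!
# A projector matrix from a projective conormal module (helper19)

Namespace `Groth.Agent.Lib.ProjCut19`.
* `exists_projector`: an extension `P` with projective conormal module and generators `a` of the
  kernel `I` has a matrix `E` over `P.Ring` with `∑ i, E i k * a i ≡ a k` mod `I²` and
  `∑ k, u k * a k ∈ I² → ∑ k, E i k * u k ∈ I`.
* `exists_good_projector`: Newton improvement, additionally `E² - E` has entries in `I²`.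
-/

set_option autoImplicit false
universe u

namespace Groth.Agent.Lib.ProjCut19

section Newton

variable {Q : Type u} [CommRing Q] {m : ℕ}

theorem ent_mul_right (K : Ideal Q) (M N : Matrix (Fin m) (Fin m) Q) (hM : ∀ i j, M i j ∈ K)
    (i j : Fin m) : (M * N) i j ∈ K := by
  rw [Matrix.mul_apply]
  exact Ideal.sum_mem _ fun k _ => Ideal.mul_mem_right _ _ (hM i k)

theorem ent_mul (K K' : Ideal Q) (M N : Matrix (Fin m) (Fin m) Q) (hM : ∀ i j, M i j ∈ K)
    (hN : ∀ i j, N i j ∈ K') (i j : Fin m) : (M * N) i j ∈ K * K' := by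
  rw [Matrix.mul_apply]
  exact Ideal.sum_mem _ fun k _ => Ideal.mul_mem_mul (hM i k) (hN k j)

theorem exists_good_projector (I : Ideal Q) (a : Fin m → Q) (ha : ∀ k, a k ∈ I)
    (E : Matrix (Fin m) (Fin m) Q)
    (hE2 : ∀ k, ∑ i, E i k * a i - a k ∈ I ^ 2)
    (hE3 : ∀ u : Fin m → Q, ∑ k, u k * a k ∈ I ^ 2 → ∀ i, ∑ k, E i k * u k ∈ I) :
    ∃ E' : Matrix (Fin m) (Fin m) Q, (∀ i j, (E' * E' - E') i j ∈ I ^ 2) ∧
      (∀ k, ∑ i, E' i k * a i - a k ∈ I ^ 2) ∧
      (∀ u : Fin m → Q, ∑ k, u k * a k ∈ I ^ 2 → ∀ i, ∑ k, E' i k * u k ∈ I) := by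
  classical
  set δ : Matrix (Fin m) (Fin m) Q := E * E - E with hδdef
  have hδ : ∀ i j, δ i j ∈ I := by
    intro j k
    have h1 := hE3 (fun i => E i k - (1 : Matrix (Fin m) (Fin m) Q) i k) (by
      have : ∑ i, (E i k - (1 : Matrix (Fin m) (Fin m) Q) i k) * a i = ∑ i, E i k * a i - a k := by
        simp only [sub_mul, Finset.sum_sub_distrib]
        congr 1
        rw [Finset.sum_eq_single k]
        · rw [Matrix.one_apply_eq, one_mul]
        · intro b _ hb
          rw [Matrix.one_apply_ne hb, zero_mul]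
        · intro h; exact absurd (Finset.mem_univ k) h
      rw [this]
      exact hE2 k) j
    have h2 : ∑ i, E j i * (E i k - (1 : Matrix (Fin m) (Fin m) Q) i k) = δ j k := by
      rw [hδdef, Matrix.sub_apply, Matrix.mul_apply]
      simp only [mul_sub, Finset.sum_sub_distrib]
      congr 1
      rw [Finset.sum_eq_single k]
      · rw [Matrix.one_apply_eq, mul_one]
      · intro b _ hb
        rw [Matrix.one_apply_ne hb, mul_zero]
      · intro h; exact absurd (Finset.mem_univ k) h
    rwa [h2] at h1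
  let E' : Matrix (Fin m) (Fin m) Q := E + δ * (1 - E - E)
  have hdiff : ∀ i j, (E' - E) i j ∈ I := by
    intro i j
    have : E' - E = δ * (1 - E - E) := by simp [E']
    rw [this]
    exact ent_mul_right I _ _ hδ i j
  have hsq : E' * E' - E' = δ * δ * (δ + δ + δ + δ - 1 - 1 - 1) := by
    simp only [E', hδdef]
    noncomm_ring
  refine ⟨E', ?_, ?_, ?_⟩
  · intro i j
    rw [hsq, pow_two]
    exact ent_mul_right _ _ _ (ent_mul I I δ δ hδ hδ) i j
  · intro k
    have : ∑ i, E' i k * a i - a k = (∑ i, E i k * a i - a k) + ∑ i, (E' - E) i k * a i := by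
      simp only [Matrix.sub_apply, sub_mul, Finset.sum_sub_distrib]
      ring
    rw [this]
    refine Ideal.add_mem _ (hE2 k) (Ideal.sum_mem _ fun i _ => ?_)
    rw [pow_two]
    exact Ideal.mul_mem_mul (hdiff i k) (ha i)
  · intro u hu i
    have : ∑ k, E' i k * u k = ∑ k, E i k * u k + ∑ k, (E' - E) i k * u k := by
      simp only [Matrix.sub_apply, sub_mul, Finset.sum_sub_distrib]
      ring
    rw [this]
    exact Ideal.add_mem _ (hE3 u hu i) (Ideal.sum_mem _ fun k _ => Ideal.mul_mem_right _ _ (hdiff i k))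

end Newton

section Projector

open Algebra

variable {R S : Type u} [CommRing R] [CommRing S] [Algebra R S]

theorem exists_projector (P : Extension.{u} R S) [Module.Projective S P.Cotangent] {m : ℕ}
    (a : Fin m → P.Ring) (hker : P.ker = Ideal.span (Set.range a)) :
    ∃ E : Matrix (Fin m) (Fin m) P.Ring,
      (∀ k, ∑ i, E i k * a i - a k ∈ P.ker ^ 2) ∧
      (∀ u : Fin m → P.Ring, ∑ k, u k * a k ∈ P.ker ^ 2 → ∀ i, ∑ k, E i k * u k ∈ P.ker) := by
  classical
  have ha : ∀ k, a k ∈ P.ker := fun k => by rw [hker]; exact Ideal.subset_span ⟨k, rfl⟩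
  let v : Fin m → P.Cotangent := fun k => Extension.Cotangent.mk ⟨a k, ha k⟩
  let π : (Fin m → S) →ₗ[S] P.Cotangent := Fintype.linearCombination S v
  have hπ : ∀ c : Fin m → S, π c = ∑ i, c i • v i := fun c => Fintype.linearCombination_apply S v c
  -- the class of a combination of the generators
  have hmk : ∀ (u : Fin m → P.Ring) (hu : ∑ k, u k * a k ∈ P.ker),
      Extension.Cotangent.mk ⟨∑ k, u k * a k, hu⟩ = π (fun k => algebraMap P.Ring S (u k)) := by
    intro u hu
    rw [hπ]
    have h1 : (⟨∑ k, u k * a k, hu⟩ : P.ker) = ∑ k, u k • (⟨a k, ha k⟩ : P.ker) := by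
      ext
      simp
    rw [h1, map_sum]
    refine Finset.sum_congr rfl fun k _ => ?_
    rw [map_smul, algebraMap_smul]
  have hsurj : Function.Surjective π := by
    intro x
    obtain ⟨⟨y, hy⟩, rfl⟩ := Extension.Cotangent.mk_surjective x
    have hy' := hy
    rw [hker, Ideal.mem_span_range_iff_exists_fun] at hy'
    obtain ⟨u, hu⟩ := hy'
    refine ⟨fun k => algebraMap P.Ring S (u k), ?_⟩
    rw [← hmk u (hu ▸ hy)]
    congr 1
    exact Subtype.ext hu
  obtain ⟨s, hs⟩ := Module.projective_lifting_property π LinearMap.id hsurj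
  have hs' : ∀ x, π (s x) = x := fun x => LinearMap.congr_fun hs x
  have hσ : Function.Surjective (algebraMap P.Ring S) := P.algebraMap_surjective
  let E : Matrix (Fin m) (Fin m) P.Ring := Matrix.of fun i k => Function.surjInv hσ (s (v k) i)
  have hE : ∀ i k, algebraMap P.Ring S (E i k) = s (v k) i := fun i k =>
    Function.surjInv_eq hσ _
  refine ⟨E, ?_, ?_⟩
  · intro k
    have hmem : ∑ i, E i k * a i ∈ P.ker :=
      Ideal.sum_mem _ fun i _ => Ideal.mul_mem_left _ _ (ha i)
    have h1 := hmk (fun i => E i k) hmem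
    have h2 : (fun i => algebraMap P.Ring S (E i k)) = s (v k) := funext fun i => hE i k
    rw [h2, hs'] at h1
    have h3 := (Extension.Cotangent.mk_eq_mk_iff_sub_mem
      (⟨∑ i, E i k * a i, hmem⟩ : P.ker) ⟨a k, ha k⟩).mp h1
    exact h3
  · intro u hu i
    have hmem : ∑ k, u k * a k ∈ P.ker := Ideal.pow_le_self two_ne_zero hu
    have h1 := hmk u hmem
    have h2 : Extension.Cotangent.mk (⟨∑ k, u k * a k, hmem⟩ : P.ker) = 0 :=
      (Extension.Cotangent.mk_eq_zero_iff _).mpr hu
    rw [h2] at h1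
    have h3 : s (π fun k => algebraMap P.Ring S (u k)) = 0 := by rw [← h1, map_zero]
    have h4 : (fun k => algebraMap P.Ring S (u k)) =
        ∑ k, algebraMap P.Ring S (u k) • (Pi.single k (1 : S) : Fin m → S) := by
      ext j
      rw [Finset.sum_apply, Finset.sum_eq_single j]
      · rw [Pi.smul_apply, Pi.single_eq_same, smul_eq_mul, mul_one]
      · intro b _ hb
        rw [Pi.smul_apply, Pi.single_eq_of_ne (Ne.symm hb), smul_zero]
      · intro h; exact absurd (Finset.mem_univ j) h
    have h5 : ∀ k, π (Pi.single k (1 : S)) = v k := by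
      intro k
      rw [hπ, Finset.sum_eq_single k]
      · simp
      · intro b _ hb
        simp [hb]
      · intro h; exact absurd (Finset.mem_univ k) h
    rw [h4, map_sum, map_sum] at h3
    simp only [map_smul, h5] at h3
    have h6 := congrFun h3 i
    rw [Finset.sum_apply] at h6
    simp only [Pi.smul_apply, smul_eq_mul, Pi.zero_apply] at h6
    rw [RingHom.mem_ker, map_sum]
    simp only [map_mul, hE]
    rw [← h6]
    exact Finset.sum_congr rfl fun k _ => mul_comm _ _

end Projector

end Groth.Agent.Lib.ProjCut19
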