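import Groth.Agent.Lib.SyntLCI1
import Groth.Agent.S9269

/-!
# Syntomic ring maps are local complete intersection ring maps (helper19)

Namespace `Groth.Agent.Lib.SyntLCI`.

* `exists_prime_of_isPushout` : a prime `𝔮` of `P` lifts to the fibre `P ⊗_R κ(𝔮 ∩ R)`.
* `isLCI_of_isSyntomic` : `Synt.IsSyntomic R S → LCI.IsLCI R S`.
-/

set_option autoImplicit false
set_option linter.style.haveILetI false
universe u
open CategoryTheory CategoryTheory.Limits TensorProduct Function MvPolynomial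

namespace Groth.Agent.Lib.SyntLCI

open Groth.Agent.Lib.KoszulIdeal Groth.Agent.Lib.FibreKR5 Groth.Agent.Lib.PresBC
  Groth.Agent.Lib.LCIBaseChange

/-- a prime of `P` lifts to the fibre over its contraction -/
theorem exists_prime_of_isPushout {R P : Type u} [CommRing R] [CommRing P] [Algebra R P]
    (𝔭 : Ideal R) [𝔭.IsPrime] (𝔮 : Ideal P) [𝔮.IsPrime] (h𝔭 : 𝔭 = 𝔮.comap (algebraMap R P))
    (P'' : Type u) [CommRing P''] [Algebra P P''] [Algebra 𝔭.ResidueField P''] [Algebra R P'']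
    [IsScalarTower R P P''] [IsScalarTower R 𝔭.ResidueField P'']
    [Algebra.IsPushout R P 𝔭.ResidueField P''] :
    ∃ q'' : Ideal P'', q''.IsPrime ∧ q''.comap (algebraMap P P'') = 𝔮 := by
  let f : P →ₐ[R] 𝔮.ResidueField := IsScalarTower.toAlgHom R P 𝔮.ResidueField
  let g : 𝔭.ResidueField →ₐ[R] 𝔮.ResidueField :=
    Ideal.ResidueField.mapₐ 𝔭 𝔮 (Algebra.ofId R P) h𝔭
  let φ : P'' →ₐ[R] 𝔮.ResidueField := Algebra.pushoutDesc P'' f g (fun _ _ => mul_comm _ _)
  refine ⟨RingHom.ker φ.toRingHom, RingHom.ker_isPrime _, ?_⟩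
  ext x
  rw [Ideal.mem_comap, RingHom.mem_ker]
  show φ (algebraMap P P'' x) = 0 ↔ _
  rw [Algebra.pushoutDesc_left]
  exact Ideal.algebraMap_residueField_eq_zero

attribute [local instance] MvPolynomial.algebraMvPolynomial Algebra.TensorProduct.rightAlgebra

/-- **syntomic ring maps are local complete intersections** -/
theorem isLCI_of_isSyntomic {R S : Type u} [CommRing R] [CommRing S] [Algebra R S]
    (h : Synt.IsSyntomic R S) : LCI.IsLCI R S := by
  obtain ⟨hfl, hfp, hfib⟩ := h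
  have hft : Algebra.FiniteType R S := inferInstance
  obtain ⟨n, α, hα⟩ := Algebra.FiniteType.iff_quotient_mvPolynomial''.mp hft
  refine ⟨hft, n, α, hα, ?_⟩
  rw [isKoszulRegularIdeal_iff]
  intro 𝔮 h𝔮
  haveI := 𝔮.2
  let 𝔭 : PrimeSpectrum R := ⟨𝔮.asIdeal.comap (algebraMap R (MvPolynomial (Fin n) R)), inferInstance⟩
  have hLCI : LCI.IsLCI 𝔭.asIdeal.ResidueField (𝔭.asIdeal.Fiber S) := isLCI_of_isLCIOver (hfib 𝔭)
  -- the base-changed presentation
  have hα'' := presBC_surjective (A' := 𝔭.asIdeal.ResidueField) (B' := 𝔭.asIdeal.Fiber S) α hα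
  obtain ⟨-, m, β, hβ, hKβ⟩ := hLCI
  have hK'' := Groth.Agent.S9269.result 𝔭.asIdeal.ResidueField (𝔭.asIdeal.Fiber S) m n β hβ
    (presBC 𝔭.asIdeal.ResidueField (𝔭.asIdeal.Fiber S) α) hα'' hKβ
  rw [ker_presBC α hα] at hK''
  -- a prime of the fibre over `𝔮`
  obtain ⟨q'', hq''prime, hq''⟩ := exists_prime_of_isPushout (R := R) (P := MvPolynomial (Fin n) R)
    𝔭.asIdeal 𝔮.asIdeal rfl (MvPolynomial (Fin n) 𝔭.asIdeal.ResidueField)
  have hle : (RingHom.ker α.toRingHom).map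
      (mapP 𝔭.asIdeal.ResidueField : MvPolynomial (Fin n) R →ₐ[R] _).toRingHom ≤ q'' := by
    rw [Ideal.map_le_iff_le_comap]
    intro x hx
    have : x ∈ q''.comap (algebraMap (MvPolynomial (Fin n) R)
        (MvPolynomial (Fin n) 𝔭.asIdeal.ResidueField)) := by
      rw [hq'']
      exact h𝔮 hx
    exact this
  obtain ⟨G'', hG'', hGen''⟩ := (isKoszulRegularIdeal_iff _).mp hK'' ⟨q'', hq''prime⟩ hle
  have hI : (RingHom.ker α.toRingHom).FG := Algebra.FinitePresentation.ker_fG_of_surjective α hα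
  haveI : Module.Flat R (MvPolynomial (Fin n) R ⧸ RingHom.ker α.toRingHom) :=
    flat_quotient_ker (R := R) (A := R) α hα
  obtain ⟨G, hG, hGen⟩ := exists_genAt_of_field (R := R) (P := MvPolynomial (Fin n) R)
    (RingHom.ker α.toRingHom) 𝔭.asIdeal.ResidueField (MvPolynomial (Fin n) 𝔭.asIdeal.ResidueField)
    hI q'' G'' hG'' hGen''
  rw [hq''] at hG
  exact ⟨G, hG, hGen⟩

end Groth.Agent.Lib.SyntLCI
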