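import Groth.Agent.Lib.RelGCIFlat89
import Groth.Agent.Lib.SyntLCI3
import Groth.Agent.Lib.SyntLCI2
import Groth.Agent.Lib.KoszulRelBC
import Groth.Agent.Lib.KoszulAway
import Groth.Agent.Lib.RegAwayPres

/-!
# Syntomic ring maps are locally relative global complete intersections (Stacks 00SY (1) ⇒ (2))
— helper89

* `exists_relGCI_away`: if `I R[x]_h` is generated by a Koszul-regular sequence and `(R[x]/I)_h` is
  `R`-flat, then `(R[x]/I)_h ≃ₐ[R] R[x,t]/(F)` for a relative global complete intersection `F`.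
* `exists_relGCI_of_isSyntomic`: for `R → S` syntomic and `q` a prime of `S` there is `g ∉ q` with
  `S_g` a relative global complete intersection over `R`.
-/

set_option autoImplicit false
set_option linter.style.haveILetI false
universe u

namespace Groth.Agent.Lib.SyntRelGCI89

open MvPolynomial Groth.Agent.Lib.KoszulAway Groth.Agent.Lib.RegAwayPres
  Groth.Agent.Lib.RelGCIFlat89

attribute [local instance] MvPolynomial.algebraMvPolynomial

section Away

variable {R : Type u} [CommRing R] {n : ℕ} (I : Ideal (MvPolynomial (Fin n) R))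
  (h₀ : MvPolynomial (Fin n) R)

theorem exists_relGCI_away (f : List (Localization.Away h₀))
    (hkr : LCI.IsKoszulRegularSeq (Localization.Away h₀) f)
    (hID : I.map (algebraMap (MvPolynomial (Fin n) R) (Localization.Away h₀)) = Ideal.ofList f)
    [Module.Flat R (Localization.Away (Ideal.Quotient.mk I h₀))] :
    ∃ (c : ℕ) (F : Fin c → MvPolynomial (Fin (n + 1)) R), Synt.IsRelGCI R (n + 1) c F ∧
      Nonempty (Localization.Away (Ideal.Quotient.mk I h₀) ≃ₐ[R]
        Synt.RelGCIRing R (n + 1) c F) := by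
  have hθ : Function.Surjective (θ h₀) := θ_surjective h₀
  let ft : List (MvPolynomial (Fin (n + 1)) R) := f.map (Function.surjInv hθ)
  have hft : ft.map (θ h₀) = f := by
    rw [List.map_map]
    conv_rhs => rw [← List.map_id f]
    refine List.map_congr_left fun a _ => ?_
    exact Function.surjInv_eq hθ a
  let l : List (MvPolynomial (Fin (n + 1)) R) := ft ++ [z₀ h₀]
  let Ψ : MvPolynomial (Fin (n + 1)) R →ₐ[R] Localization.Away (Ideal.Quotient.mk I h₀) :=
    { toRingHom := (μ I h₀).comp (θ h₀).toRingHom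
      commutes' := by
        intro a
        show μ I h₀ (θ h₀ (algebraMap R _ a)) = _
        rw [(θ h₀).commutes, IsScalarTower.algebraMap_apply R (MvPolynomial (Fin n) R)
          (Localization.Away h₀), μ_algebraMap]
        rfl }
  have hΨ : Function.Surjective Ψ := (μ_surjective I h₀).comp hθ
  have hker : RingHom.ker Ψ.toRingHom = Ideal.ofList l := by
    have h1 : RingHom.ker Ψ.toRingHom = (RingHom.ker (μ I h₀)).comap (θ h₀).toRingHom := by
      ext x
      rw [RingHom.mem_ker, Ideal.mem_comap, RingHom.mem_ker]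
      rfl
    rw [h1, ker_μ, hID, ← hft]
    have h2 : Ideal.ofList (ft.map (θ h₀)) = (Ideal.ofList ft).map (θ h₀).toRingHom := by
      rw [Ideal.map_ofList]
      rfl
    rw [h2, Ideal.comap_map_of_surjective (θ h₀).toRingHom hθ, ← RingHom.ker_eq_comap_bot, ker_θ]
    show _ = Ideal.ofList (ft ++ [z₀ h₀])
    rw [Ideal.ofList_append]
  have hl : LCI.IsKoszulRegularSeq (MvPolynomial (Fin (n + 1)) R) l := by
    refine (KoszulQuot.isKoszulRegularSeq_append_iff (θ h₀).toRingHom hθ [z₀ h₀] (ker_θ h₀)
      (isKoszulRegularSeq_z₀ h₀) ft).mpr ?_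
    have : ft.map (θ h₀).toRingHom = ft.map (θ h₀) := rfl
    rw [this, hft]
    exact hkr
  have hspan : Ideal.span (Set.range l.get) = Ideal.ofList l := by
    rw [Set.range_list_get]
  let e : Synt.RelGCIRing R (n + 1) l.length l.get ≃ₐ[R]
      Localization.Away (Ideal.Quotient.mk I h₀) :=
    (Ideal.quotientEquivAlgOfEq R (hspan.trans hker.symm)).trans
      (Ideal.quotientKerAlgEquivOfSurjective hΨ)
  refine ⟨l.length, l.get, ?_, ⟨e.symm⟩⟩
  intro p hnt
  haveI := p.2
  haveI hfl : Module.Flat R (MvPolynomial (Fin (n + 1)) R ⧸ Ideal.ofList l) :=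
    Module.Flat.of_linearEquiv
      ((Ideal.quotientEquivAlgOfEq R hspan.symm).trans e).toLinearEquiv
  have hbar : LCI.IsKoszulRegularSeq (MvPolynomial (Fin (n + 1)) p.asIdeal.ResidueField)
      (l.map (algebraMap (MvPolynomial (Fin (n + 1)) R)
        (MvPolynomial (Fin (n + 1)) p.asIdeal.ResidueField))) :=
    Groth.Agent.Lib.KoszulRelBC.isKoszulRegularSeq_map_of_isPushout R p.asIdeal.ResidueField l hl
  let Pres : Algebra.Presentation p.asIdeal.ResidueField
      (p.asIdeal.Fiber (Synt.RelGCIRing R (n + 1) l.length l.get)) (Fin (n + 1)) (Fin l.length) :=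
    (Algebra.Presentation.naive (v := l.get)).baseChange p.asIdeal.ResidueField
  have hrel : List.ofFn Pres.relation =
      l.map (algebraMap (MvPolynomial (Fin (n + 1)) R)
        (MvPolynomial (Fin (n + 1)) p.asIdeal.ResidueField)) := by
    have h1 : Pres.relation = (algebraMap (MvPolynomial (Fin (n + 1)) R)
        (MvPolynomial (Fin (n + 1)) p.asIdeal.ResidueField)) ∘ l.get := rfl
    rw [h1, ← List.map_ofFn, List.ofFn_get]
  have e' := presEquiv Pres
  rw [hrel] at e'
  haveI : Nontrivial (MvPolynomial (Fin (n + 1)) p.asIdeal.ResidueField ⧸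
      Ideal.ofList (l.map (algebraMap (MvPolynomial (Fin (n + 1)) R)
        (MvPolynomial (Fin (n + 1)) p.asIdeal.ResidueField)))) :=
    e'.symm.injective.nontrivial
  obtain ⟨hlen, hdim⟩ := Groth.Agent.Lib.SyntLCI.ringKrullDim_quotient_of_isKoszulRegularSeq
    p.asIdeal.ResidueField (n + 1) _ hbar
  rw [List.length_map] at hlen hdim
  exact ⟨hlen, by rw [← ringKrullDim_eq_of_ringEquiv e', hdim]⟩

end Away

section Keystone

variable {R S : Type u} [CommRing R] [CommRing S] [Algebra R S]

/-- **Stacks 00SY (1) ⇒ (2)**: a syntomic ring map is, locally on the source, a relative global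
complete intersection. -/
theorem exists_relGCI_of_isSyntomic (h : Synt.IsSyntomic R S) (q : Ideal S) [q.IsPrime] :
    ∃ g : S, g ∉ q ∧ ∃ (n c : ℕ) (F : Fin c → MvPolynomial (Fin n) R), Synt.IsRelGCI R n c F ∧
      Nonempty (Localization.Away g ≃ₐ[R] Synt.RelGCIRing R n c F) := by
  obtain ⟨hft, n, α, hα, hK⟩ := Groth.Agent.Lib.SyntLCI.isLCI_of_isSyntomic h
  haveI : Module.Flat R S := h.1
  let q' : PrimeSpectrum (MvPolynomial (Fin n) R) := ⟨q.comap α.toRingHom, inferInstance⟩
  have hIq : RingHom.ker α.toRingHom ≤ q'.asIdeal := by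
    intro x hx
    change α.toRingHom x ∈ q
    rw [RingHom.mem_ker.mp hx]
    exact q.zero_mem
  obtain ⟨G, hG, l, hl, hIl⟩ := hK q' hIq
  let e₀ : (MvPolynomial (Fin n) R ⧸ RingHom.ker α.toRingHom) ≃ₐ[R] S :=
    Ideal.quotientKerAlgEquivOfSurjective hα
  have hH : Submonoid.map e₀ (Submonoid.powers (Ideal.Quotient.mk (RingHom.ker α.toRingHom) G)) =
      Submonoid.powers (α G) := by
    rw [Submonoid.map_powers]
    rfl
  let E : Localization.Away (Ideal.Quotient.mk (RingHom.ker α.toRingHom) G) ≃ₐ[R]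
      Localization.Away (α G) :=
    IsLocalization.algEquivOfAlgEquiv _ _ e₀ hH
  haveI : Module.Flat R (Localization.Away (Ideal.Quotient.mk (RingHom.ker α.toRingHom) G)) :=
    Module.Flat.of_linearEquiv E.toLinearEquiv
  obtain ⟨c, F, hF, ⟨e⟩⟩ := exists_relGCI_away (RingHom.ker α.toRingHom) G l hl hIl
  exact ⟨α G, hG, n + 1, c, F, hF, ⟨E.symm.trans e⟩⟩

end Keystone

end Groth.Agent.Lib.SyntRelGCI89
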