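import Groth.Agent.Lib.RegElemFlat64

set_option autoImplicit false
universe u

open RingTheory.Sequence
open scoped Pointwise
open Groth.Agent.Lib.RegElemFlat64

/-!
# Regular sequences on the closed fibre of a flat module (helper64)

EGA IV 11.3.8, local form, essentially finitely presented (non-Noetherian) case:
`isWeaklyRegular_and_flat`: for a local homomorphism `R → S` of local rings with `S` essentially
of finite presentation, `N` a finitely presented `S`-module flat over `R` and `rs` a sequence in `S`
weakly regular on `N/𝔪_R N`, the sequence is weakly regular on `N` and all the quotients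
`N/(x₁,…,xᵢ)N` are flat over `R`. Induction on the length from `RegElemFlat64`.
-/

namespace Groth.Agent.Lib.RegSeqFlat64

variable {R S : Type u} [CommRing R] [CommRing S] [IsLocalRing R] [IsLocalRing S] [Algebra R S]
  [IsLocalHom (algebraMap R S)]

section Comm

variable {S' : Type*} [CommRing S'] (I : Ideal S') (x : S') (N : Type*) [AddCommGroup N]
  [Module S' N]

/-- `(N/IN)/x(N/IN) ≃ (N/xN)/I(N/xN)`. -/
noncomputable def quotComm :
    QuotSMulTop x (N ⧸ (I • ⊤ : Submodule S' N)) ≃ₗ[S']
      (QuotSMulTop x N) ⧸ (I • ⊤ : Submodule S' (QuotSMulTop x N)) :=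
  Submodule.quotEquivOfEq _ _
      (by rw [Submodule.map_pointwise_smul, Submodule.map_top, Submodule.range_mkQ]) ≪≫ₗ
    Submodule.quotientQuotientEquivQuotientSup (I • ⊤ : Submodule S' N) (x • ⊤) ≪≫ₗ
    Submodule.quotEquivOfEq _ _ (sup_comm _ _) ≪≫ₗ
    (Submodule.quotientQuotientEquivQuotientSup (x • ⊤ : Submodule S' N) (I • ⊤)).symm ≪≫ₗ
    Submodule.quotEquivOfEq _ _
      (by rw [Submodule.map_smul'', Submodule.map_top, Submodule.range_mkQ])

end Comm

section Seq

variable (hS : CAlgX.IsEssFinitePresentation R S)

include hS in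
/-- EGA IV 11.3.8 (local form): a sequence in `S` which is weakly regular on `N/𝔪_R N` is weakly
regular on `N`, and all the quotients `N/(x₁,…,xᵢ)N` are flat over `R`. -/
theorem isWeaklyRegular_and_flat (rs : List S) :
    ∀ (N : Type u) [AddCommGroup N] [Module S N] [Module R N] [IsScalarTower R S N]
      [Module.FinitePresentation S N] [Module.Flat R N],
      IsWeaklyRegular (N ⧸ (mS R S • ⊤ : Submodule S N)) rs →
      IsWeaklyRegular N rs ∧ ∀ i ≤ rs.length,
        Module.Flat R (N ⧸ (Ideal.ofList (rs.take i) • ⊤ : Submodule S N)) := by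
  induction rs with
  | nil =>
    intro N _ _ _ _ _ _ _
    refine ⟨IsWeaklyRegular.nil S N, fun i _ => ?_⟩
    have h0 : (Ideal.ofList (([] : List S).take i) • ⊤ : Submodule S N) = ⊥ := by
      rw [List.take_nil, Ideal.ofList_nil, Submodule.bot_smul]
    exact Module.Flat.of_linearEquiv ((Submodule.quotEquivOfEqBot _ h0).restrictScalars R)
  | cons x rs ih =>
    intro N _ _ _ _ _ _ hreg
    rw [isWeaklyRegular_cons_iff] at hreg
    obtain ⟨hx, hrs⟩ := hreg
    obtain ⟨hxN, hflat⟩ := isSMulRegular_and_flat N hS x hx
    have hfp : Module.FinitePresentation S (QuotSMulTop x N) := by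
      refine Module.finitePresentation_of_surjective (Submodule.mkQ _)
        (Submodule.mkQ_surjective _) ?_
      rw [Submodule.ker_mkQ]
      change (Submodule.map (DistribSMul.toLinearMap S N x) ⊤).FG
      exact Module.Finite.fg_top.map _
    have hrs' : IsWeaklyRegular
        ((QuotSMulTop x N) ⧸ (mS R S • ⊤ : Submodule S (QuotSMulTop x N))) rs :=
      ((quotComm (mS R S) x N).isWeaklyRegular_congr rs).mp hrs
    obtain ⟨h1, h2⟩ := ih (QuotSMulTop x N) hrs'
    refine ⟨(isWeaklyRegular_cons_iff N x rs).mpr ⟨hxN, h1⟩, fun i hi => ?_⟩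
    cases i with
    | zero =>
      have h0 : (Ideal.ofList ((x :: rs).take 0) • ⊤ : Submodule S N) = ⊥ := by
        rw [List.take_zero, Ideal.ofList_nil, Submodule.bot_smul]
      exact Module.Flat.of_linearEquiv ((Submodule.quotEquivOfEqBot _ h0).restrictScalars R)
    | succ j =>
      have hj : j ≤ rs.length := by simpa using hi
      have := h2 j hj
      rw [List.take_succ_cons]
      exact Module.Flat.of_linearEquiv
        ((Submodule.quotOfListConsSMulTopEquivQuotSMulTopInner N x (rs.take j)).restrictScalars R)

end Seq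

end Groth.Agent.Lib.RegSeqFlat64
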