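import Mathlib
import Groth.Agent.Lib.RegSeqFlat64
import Groth.Agent.Lib.RegSeqFibre64
import Groth.Agent.Lib.H8LCICM
import Groth.Agent.Lib.CMQF33b
import Groth.Agent.Lib.QuasiReg97
import Groth.Agent.Lib.GlobalCI
import Groth.Prelude.Def_RegImm

/-!
# Relative global complete intersections are flat (Stacks 00SV / 00SW) — helper89

* `Bridge`: for `ψ : P → T` such that `T` is a localization of `P / ker ψ`, and `Q` a prime of `T`
  with contraction `q`, `P_q / (ker ψ) P_q ≃+* T_Q`.
-/

set_option autoImplicit false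
set_option linter.style.haveILetI false
universe u

namespace Groth.Agent.Lib.RelGCIFlat89

section Bridge

variable {P T : Type*} [CommRing P] [CommRing T] (ψ : P →+* T)
  (Q : Ideal T) [Q.IsPrime] (q : Ideal P) [q.IsPrime] (hq : q = Q.comap ψ)

include hq in
theorem mem_primeCompl_of_isUnit {v : P} (hv : IsUnit (ψ v)) : v ∈ q.primeCompl := by
  intro hvq
  rw [SetLike.mem_coe, hq, Ideal.mem_comap] at hvq
  exact (inferInstance : Q.IsPrime).ne_top (Ideal.eq_top_of_isUnit_mem _ hvq hv)

include hq in
theorem mem_primeCompl_of_eq {u g : P} {s : T} (hs : s ∈ Q.primeCompl) (hu : IsUnit (ψ u))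
    (h : ψ u * s = ψ g) : g ∈ q.primeCompl := by
  intro hgq
  rw [SetLike.mem_coe, hq, Ideal.mem_comap, ← h] at hgq
  rcases (inferInstance : Q.IsPrime).mem_or_mem hgq with h1 | h1
  · exact (inferInstance : Q.IsPrime).ne_top (Ideal.eq_top_of_isUnit_mem _ h1 hu)
  · exact hs h1

theorem localRingHom_surjective
    (hψ : ∀ t : T, ∃ u g : P, IsUnit (ψ u) ∧ ψ u * t = ψ g) :
    Function.Surjective (Localization.localRingHom q Q ψ hq) := by
  intro y
  obtain ⟨t, s, rfl⟩ := IsLocalization.exists_mk'_eq Q.primeCompl y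
  obtain ⟨u, g, hu, hg⟩ := hψ t
  obtain ⟨u', g', hu', hg'⟩ := hψ (s : T)
  have h1 : g' * u ∈ q.primeCompl :=
    mul_mem (mem_primeCompl_of_eq ψ Q q hq s.2 hu' hg') (mem_primeCompl_of_isUnit ψ Q q hq hu)
  refine ⟨IsLocalization.mk' _ (g * u') ⟨g' * u, h1⟩, ?_⟩
  rw [Localization.localRingHom_mk', IsLocalization.mk'_eq_iff_eq]
  congr 1
  simp only [map_mul]
  rw [← hg, ← hg']
  ring

theorem ker_localRingHom
    (hψ : ∀ t : T, ∃ u g : P, IsUnit (ψ u) ∧ ψ u * t = ψ g) :
    RingHom.ker (Localization.localRingHom q Q ψ hq) =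
      (RingHom.ker ψ).map (algebraMap P (Localization.AtPrime q)) := by
  apply le_antisymm
  · intro b hb
    obtain ⟨g, s, rfl⟩ := IsLocalization.exists_mk'_eq q.primeCompl b
    rw [RingHom.mem_ker, Localization.localRingHom_mk', IsLocalization.mk'_eq_zero_iff] at hb
    obtain ⟨t, ht⟩ := hb
    obtain ⟨u, g', hu, hg'⟩ := hψ (t : T)
    have hg'q : g' ∈ q.primeCompl := mem_primeCompl_of_eq ψ Q q hq t.2 hu hg'
    have hker : g' * g ∈ RingHom.ker ψ := by
      rw [RingHom.mem_ker, map_mul, ← hg', mul_assoc, ht, mul_zero]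
    have h2 : (IsLocalization.mk' (Localization.AtPrime q) g s) =
        algebraMap P _ (g' * g) * IsLocalization.mk' (Localization.AtPrime q) 1 (⟨g', hg'q⟩ * s) := by
      rw [← IsLocalization.mk'_eq_mul_mk'_one, mul_comm g' g]
      exact (IsLocalization.mk'_cancel g s ⟨g', hg'q⟩).symm.trans (by rw [mul_comm s])
    rw [h2]
    exact Ideal.mul_mem_right _ _ (Ideal.mem_map_of_mem _ hker)
  · rw [Ideal.map_le_iff_le_comap]
    intro g hg
    rw [Ideal.mem_comap, RingHom.mem_ker, Localization.localRingHom_to_map,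
      RingHom.mem_ker.mp hg, map_zero]

/-- `P_q / (ker ψ) P_q ≃+* T_Q`. -/
noncomputable def fibreEquiv
    (hψ : ∀ t : T, ∃ u g : P, IsUnit (ψ u) ∧ ψ u * t = ψ g) :
    (Localization.AtPrime q ⧸ (RingHom.ker ψ).map (algebraMap P (Localization.AtPrime q))) ≃+*
      Localization.AtPrime Q :=
  (Ideal.quotEquivOfEq (ker_localRingHom ψ Q q hq hψ).symm).trans
    (RingHom.quotientKerEquivOfSurjective (localRingHom_surjective ψ Q q hq hψ))

theorem fibreEquiv_mk_algebraMap
    (hψ : ∀ t : T, ∃ u g : P, IsUnit (ψ u) ∧ ψ u * t = ψ g) (g : P) :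
    fibreEquiv ψ Q q hq hψ (Ideal.Quotient.mk _ (algebraMap P (Localization.AtPrime q) g)) =
      algebraMap T (Localization.AtPrime Q) (ψ g) := by
  simp only [fibreEquiv, RingEquiv.trans_apply, Ideal.quotEquivOfEq_mk]
  rw [RingHom.quotientKerEquivOfSurjective_apply_mk, Localization.localRingHom_to_map]

end Bridge

section Poly

open MvPolynomial

variable {R : Type u} [CommRing R] {σ : Type*} (p : Ideal R) [p.IsPrime]

/-- reduction of coefficients `R[x] → κ(p)[x]`. -/
noncomputable abbrev psi : MvPolynomial σ R →+* MvPolynomial σ p.ResidueField :=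
  MvPolynomial.map (algebraMap R p.ResidueField)

theorem ker_psi : RingHom.ker (psi (σ := σ) p) = p.map (C : R →+* MvPolynomial σ R) := by
  rw [psi, MvPolynomial.ker_map, Ideal.ker_algebraMap_residueField]

theorem psi_spec (t : MvPolynomial σ p.ResidueField) :
    ∃ u g : MvPolynomial σ R, IsUnit (psi p u) ∧ psi p u * t = psi p g := by
  induction t using MvPolynomial.induction_on with
  | C a =>
    obtain ⟨⟨x, y⟩, hxy⟩ := IsLocalization.surj (nonZeroDivisors (R ⧸ p)) a
    obtain ⟨r, rfl⟩ := Ideal.Quotient.mk_surjective x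
    obtain ⟨s, hs⟩ := Ideal.Quotient.mk_surjective (y : R ⧸ p)
    have hs0 : algebraMap R p.ResidueField s ≠ 0 := by
      rw [← Ideal.algebraMap_quotient_residueField_mk, hs]
      exact (IsLocalization.map_units p.ResidueField y).ne_zero
    refine ⟨C s, C r, ?_, ?_⟩
    · rw [psi, map_C]
      exact (isUnit_iff_ne_zero.mpr hs0).map C
    · rw [psi, map_C, map_C, ← C_mul]
      congr 1
      simp only at hxy
      rw [← Ideal.algebraMap_quotient_residueField_mk, ← Ideal.algebraMap_quotient_residueField_mk,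
        hs, mul_comm]
      exact hxy
  | add t₁ t₂ h₁ h₂ =>
    obtain ⟨u₁, g₁, hu₁, hg₁⟩ := h₁
    obtain ⟨u₂, g₂, hu₂, hg₂⟩ := h₂
    refine ⟨u₁ * u₂, u₂ * g₁ + u₁ * g₂, ?_, ?_⟩
    · rw [map_mul]; exact hu₁.mul hu₂
    · rw [map_mul, map_add, map_mul, map_mul, ← hg₁, ← hg₂]; ring
  | mul_X t i h =>
    obtain ⟨u, g, hu, hg⟩ := h
    refine ⟨u, g * X i, hu, ?_⟩
    rw [map_mul, ← hg, psi, map_X]; ring

/-- a prime of `R[x]` over `p` comes from a prime of `κ(p)[x]`. -/
theorem exists_prime (q' : Ideal (MvPolynomial σ R)) [q'.IsPrime] (hq' : q'.under R = p) :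
    ∃ (Q : Ideal (MvPolynomial σ p.ResidueField)) (_ : Q.IsPrime), q' = Q.comap (psi p) := by
  let e := PrimeSpectrum.preimageEquivFiber R (MvPolynomial σ R) ⟨p, inferInstance⟩
  have hmem : (⟨q', inferInstance⟩ : PrimeSpectrum (MvPolynomial σ R)) ∈
      PrimeSpectrum.comap (algebraMap R (MvPolynomial σ R)) ⁻¹' {⟨p, inferInstance⟩} := by
    rw [Set.mem_preimage, Set.mem_singleton_iff]
    exact PrimeSpectrum.ext hq'
  have h0 : (e ⟨⟨q', inferInstance⟩, hmem⟩).asIdeal.comap
      (Algebra.TensorProduct.includeRight : MvPolynomial σ R →ₐ[R] p.Fiber (MvPolynomial σ R)) =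
      q' :=
    congr($(e.symm_apply_apply ⟨⟨q', inferInstance⟩, hmem⟩).1.asIdeal)
  let E := MvPolynomial.algebraTensorAlgEquiv (σ := σ) R p.ResidueField
  refine ⟨(e ⟨⟨q', inferInstance⟩, hmem⟩).asIdeal.comap (E.symm : _ →+* _),
    Ideal.comap_isPrime _ _, ?_⟩
  rw [Ideal.comap_comap]
  conv_lhs => rw [← h0]
  have hc : ((E.symm : _ →+* _).comp (psi p) : MvPolynomial σ R →+* _) =
      (Algebra.TensorProduct.includeRight :
        MvPolynomial σ R →ₐ[R] p.Fiber (MvPolynomial σ R)).toRingHom := by
    refine RingHom.ext fun x => ?_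
    exact MvPolynomial.algebraTensorAlgEquiv_symm_map R p.ResidueField x
  rw [hc]
  rfl

end Poly

section Fibre

open MvPolynomial RingTheory.Sequence

/-- The ring presented by a presentation, with the ideal written as `Ideal.ofList`. -/
noncomputable def presEquiv {k S : Type*} [CommRing k] [CommRing S] [Algebra k S] {n c : ℕ}
    (Pres : Algebra.Presentation k S (Fin n) (Fin c)) :
    (MvPolynomial (Fin n) k ⧸ Ideal.ofList (List.ofFn Pres.relation)) ≃+* S :=
  (Ideal.quotEquivOfEq (by
    rw [Groth.Agent.Lib.H8LCICM.ofList_ofFn, Pres.span_range_relation_eq_ker])).trans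
    Pres.quotientEquiv.toRingEquiv

variable {R : Type u} [CommRing R] {n c : ℕ} (F : Fin c → MvPolynomial (Fin n) R)
  (h : Synt.IsRelGCI R n c F) (p : Ideal R) [p.IsPrime]
  (Q : Ideal (MvPolynomial (Fin n) p.ResidueField)) [Q.IsPrime]
  (hFQ : ∀ i, psi p (F i) ∈ Q)

include h hFQ in
/-- On the fibre, the equations form a regular sequence in the local ring at `Q`. -/
theorem isRegular_fibre :
    IsRegular (Localization.AtPrime Q)
      ((List.ofFn (fun i => psi p (F i))).map
        (algebraMap (MvPolynomial (Fin n) p.ResidueField) (Localization.AtPrime Q))) := by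
  let Pres : Algebra.Presentation p.ResidueField
      (p.Fiber (Synt.RelGCIRing R n c F)) (Fin n) (Fin c) :=
    (Algebra.Presentation.naive (v := F)).baseChange p.ResidueField
  have hrel : Pres.relation = fun i => psi p (F i) := rfl
  have hle : Ideal.ofList (List.ofFn (fun i => psi p (F i))) ≤ Q := by
    rw [Groth.Agent.Lib.H8LCICM.ofList_ofFn, Ideal.span_le]
    rintro _ ⟨i, rfl⟩
    exact hFQ i
  have e := presEquiv Pres
  rw [hrel] at e
  have hnt0 : Nontrivial (MvPolynomial (Fin n) p.ResidueField ⧸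
      Ideal.ofList (List.ofFn (fun i => psi p (F i)))) := by
    rw [Ideal.Quotient.nontrivial_iff]
    intro htop
    exact (inferInstance : Q.IsPrime).ne_top (top_le_iff.mp (htop ▸ hle))
  have hnt : Nontrivial (p.Fiber (Synt.RelGCIRing R n c F)) := e.injective.nontrivial
  obtain ⟨hcn, hd⟩ := h ⟨p, inferInstance⟩ hnt
  have hB : ∀ (Q' : Ideal (MvPolynomial (Fin n) p.ResidueField)) [Q'.IsPrime],
      (Q'.height : WithBot ℕ∞) + ringKrullDim (MvPolynomial (Fin n) p.ResidueField ⧸ Q') = n := by
    intro Q' _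
    rw [Groth.Agent.Lib.FTDim.height_add_ringKrullDim_quotient p.ResidueField _ Q',
      Groth.Agent.Lib.FTDim.ringKrullDim_mvPolynomial]
  have hdim : ringKrullDim (MvPolynomial (Fin n) p.ResidueField ⧸
      Ideal.ofList (List.ofFn (fun i => psi p (F i)))) +
      (List.ofFn (fun i => psi p (F i))).length ≤ n := by
    rw [ringKrullDim_eq_of_ringEquiv e, hd, List.length_ofFn]
    have : (n - c) + c ≤ n := by omega
    exact_mod_cast this
  exact Groth.Agent.Lib.H8LCICM.isRegular_localization n hB _ hdim Q hle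

end Fibre

section Main

open MvPolynomial RingTheory.Sequence
open Groth.Agent.Lib.RegElemFlat64 (mS)
open scoped Pointwise

variable {R : Type u} [CommRing R] {n c : ℕ} (F : Fin c → MvPolynomial (Fin n) R)
  (h : Synt.IsRelGCI R n c F)
  (q' : Ideal (MvPolynomial (Fin n) R)) [q'.IsPrime] (hq' : Ideal.span (Set.range F) ≤ q')

include h hq' in
/-- Stacks 00SV (1), (2): the equations of a relative global complete intersection form a regular
sequence in `R[x]_{q'}`, with `R`-flat successive quotients. -/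
theorem isRegular_and_flat :
    IsRegular (Localization.AtPrime q')
      ((List.ofFn F).map (algebraMap (MvPolynomial (Fin n) R) (Localization.AtPrime q'))) ∧
    ∀ i ≤ c, Module.Flat R (Localization.AtPrime q' ⧸ Ideal.ofList
      (((List.ofFn F).take i).map
        (algebraMap (MvPolynomial (Fin n) R) (Localization.AtPrime q')))) := by
  classical
  let p : Ideal R := q'.under R
  haveI : p.IsPrime := inferInstance
  haveI : q'.LiesOver p := ⟨rfl⟩
  letI algAB : Algebra (Localization.AtPrime p) (Localization.AtPrime q') :=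
    Localization.AtPrime.algebraOfLiesOver p q'
  have hS := Groth.Agent.Lib.RegSeqFibre64.isEssFinitePresentation_atPrime
    (A := R) (B := MvPolynomial (Fin n) R) p q'
  haveI : IsLocalHom (algebraMap (Localization.AtPrime p) (Localization.AtPrime q')) :=
    Localization.isLocalHom_localRingHom _ _ _ Ideal.LiesOver.over
  obtain ⟨Q, hQ, hqQ⟩ := exists_prime p q' rfl
  have hFQ : ∀ i, psi p (F i) ∈ Q := fun i => by
    have h1 : F i ∈ q' := hq' (Ideal.subset_span ⟨i, rfl⟩)
    rw [hqQ] at h1
    exact h1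
  have hfib := isRegular_fibre F h p Q hFQ
  -- the bridge
  let E := fibreEquiv (psi p) Q q' hqQ (psi_spec p)
  have hE := fibreEquiv_mk_algebraMap (psi p) Q q' hqQ (psi_spec p)
  have hJ : (mS (Localization.AtPrime p) (Localization.AtPrime q') • ⊤ :
      Submodule (Localization.AtPrime q') (Localization.AtPrime q')) =
      (RingHom.ker (psi (σ := Fin n) p)).map
        (algebraMap (MvPolynomial (Fin n) R) (Localization.AtPrime q')) := by
    rw [smul_eq_mul, Ideal.mul_top, ker_psi, Ideal.map_map]
    have h1 := Groth.Agent.Lib.CMQF33.map_localRingHom_maximalIdeal p q'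
      (Ideal.LiesOver.over (P := q') (p := p))
    rw [← MvPolynomial.algebraMap_eq, ← IsScalarTower.algebraMap_eq]
    exact h1
  set gS := (List.ofFn F).map
    (algebraMap (MvPolynomial (Fin n) R) (Localization.AtPrime q')) with hgS
  have hregB : IsWeaklyRegular (Localization.AtPrime q' ⧸
      (mS (Localization.AtPrime p) (Localization.AtPrime q') • ⊤ :
        Submodule (Localization.AtPrime q') (Localization.AtPrime q'))) gS := by
    rw [hJ]
    refine (AddEquiv.isWeaklyRegular_congr (e := E.symm.toAddEquiv) ?_).mp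
      hfib.toIsWeaklyRegular
    have hl : List.ofFn (fun i => psi p (F i)) = (List.ofFn F).map (psi p) :=
      (List.map_ofFn (f := F) (g := psi p)).symm
    rw [hl, hgS, List.map_map, List.forall₂_map_left_iff, List.forall₂_map_right_iff,
      List.forall₂_same]
    intro f _ x
    change E.symm (algebraMap _ _ (psi p f) • x) = algebraMap _ _ f • E.symm x
    rw [smul_eq_mul, map_mul, ← hE f, E.symm_apply_apply]
    obtain ⟨y, hy⟩ := Ideal.Quotient.mk_surjective (E.symm x)
    rw [← hy]
    rfl
  obtain ⟨hw, hfl⟩ := Groth.Agent.Lib.RegSeqFlat64.isWeaklyRegular_and_flat hS gS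
    (Localization.AtPrime q') hregB
  have hmem : ∀ r ∈ gS, r ∈ IsLocalRing.maximalIdeal (Localization.AtPrime q') := by
    intro r hr
    rw [hgS, List.mem_map] at hr
    obtain ⟨f, hf, rfl⟩ := hr
    rw [List.mem_ofFn] at hf
    obtain ⟨i, rfl⟩ := hf
    exact (IsLocalization.AtPrime.to_map_mem_maximal_iff _ q' _).mpr
      (hq' (Ideal.subset_span ⟨i, rfl⟩))
  refine ⟨(IsLocalRing.isRegular_iff_isWeaklyRegular_of_subset_maximalIdeal hmem).mpr hw, ?_⟩
  intro i hi
  have hi' : i ≤ gS.length := by rw [hgS, List.length_map, List.length_ofFn]; exact hi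
  have h1 := hfl i hi'
  have h2 : Module.Flat R (Localization.AtPrime q' ⧸
      (Ideal.ofList (gS.take i) • ⊤ :
        Submodule (Localization.AtPrime q') (Localization.AtPrime q'))) :=
    Module.Flat.trans R (Localization.AtPrime p) _
  have h3 : (Ideal.ofList (gS.take i) • ⊤ :
      Submodule (Localization.AtPrime q') (Localization.AtPrime q')) =
      Ideal.ofList (((List.ofFn F).take i).map
        (algebraMap (MvPolynomial (Fin n) R) (Localization.AtPrime q'))) := by
    rw [smul_eq_mul, Ideal.mul_top, hgS, List.map_take]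
  exact Module.Flat.of_linearEquiv
    ((Submodule.quotEquivOfEq _ _ h3).restrictScalars R).symm

end Main

section Cotangent

open MvPolynomial RingTheory.Sequence

variable {R : Type u} [CommRing R] {n c : ℕ} (F : Fin c → MvPolynomial (Fin n) R)
  (h : Synt.IsRelGCI R n c F)

include h in
/-- Quasi-regularity in degree one, globally: if `∑ sᵢ Fᵢ ∈ I²` then all `sᵢ ∈ I`. -/
theorem mem_of_sum_mem_sq (s : Fin c → MvPolynomial (Fin n) R)
    (hs : ∑ i, s i * F i ∈ Ideal.span (Set.range F) ^ 2) (i : Fin c) :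
    s i ∈ Ideal.span (Set.range F) := by
  apply Ideal.mem_of_localization_maximal
  intro m hm
  by_cases hIm : Ideal.span (Set.range F) ≤ m
  · obtain ⟨hreg, -⟩ := isRegular_and_flat F h m hIm
    have hw : IsWeaklyRegular (Localization.AtPrime m)
        (List.ofFn (fun i => algebraMap (MvPolynomial (Fin n) R) (Localization.AtPrime m) (F i))) := by
      have h1 := hreg.toIsWeaklyRegular
      rwa [List.map_ofFn] at h1
    have hqr := Groth.Agent.Lib.QuasiReg97.qrn_of_isWeaklyRegular c _ hw 1
    have hmap : Ideal.map (algebraMap (MvPolynomial (Fin n) R) (Localization.AtPrime m))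
        (Ideal.span (Set.range F)) = Ideal.span (Set.range
          (fun i => algebraMap (MvPolynomial (Fin n) R) (Localization.AtPrime m) (F i))) := by
      rw [Ideal.map_span, ← Set.range_comp]
      rfl
    rw [hmap]
    have h2 := hqr (∑ j, C (algebraMap (MvPolynomial (Fin n) R) (Localization.AtPrime m) (s j)) * X j)
      (IsHomogeneous.sum _ _ _ fun j _ => isHomogeneous_C_mul_X _ j) (by
        rw [← hmap, ← Ideal.map_pow]
        have h3 := Ideal.mem_map_of_mem
          (algebraMap (MvPolynomial (Fin n) R) (Localization.AtPrime m)) hs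
        simpa [map_sum, map_mul] using h3)
    rw [MvPolynomial.mem_map_C_iff] at h2
    have h4 := h2 (Finsupp.single i 1)
    simpa [coeff_sum, coeff_C_mul, coeff_X, Finsupp.single_left_inj] using h4
  · obtain ⟨x, hxI, hxm⟩ := SetLike.not_le_iff_exists.mp hIm
    have htop : Ideal.map (algebraMap (MvPolynomial (Fin n) R) (Localization.AtPrime m))
        (Ideal.span (Set.range F)) = ⊤ :=
      Ideal.eq_top_of_isUnit_mem _ (Ideal.mem_map_of_mem _ hxI)
        (IsLocalization.map_units (M := m.primeCompl) _ ⟨x, hxm⟩)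
    rw [htop]
    exact Submodule.mem_top

include h in
/-- Stacks 00SV (3), linear independence of the conormal classes. -/
theorem linearIndependent_toCotangent :
    LinearIndependent (Synt.RelGCIRing R n c F)
      (fun i : Fin c => (Ideal.span (Set.range F)).toCotangent
        ⟨F i, Ideal.subset_span (Set.mem_range_self i)⟩) := by
  rw [Fintype.linearIndependent_iff]
  intro g hg i
  have hex : ∀ j, ∃ s : MvPolynomial (Fin n) R,
      Ideal.Quotient.mk (Ideal.span (Set.range F)) s = g j :=
    fun j => Ideal.Quotient.mk_surjective (g j)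
  choose s hs using hex
  have h1 : ∑ j, g j • (Ideal.span (Set.range F)).toCotangent
      ⟨F j, Ideal.subset_span (Set.mem_range_self j)⟩ =
      (Ideal.span (Set.range F)).toCotangent
        (∑ j, s j • (⟨F j, Ideal.subset_span (Set.mem_range_self j)⟩ :
          Ideal.span (Set.range F))) := by
    rw [map_sum]
    refine Finset.sum_congr rfl fun j _ => ?_
    rw [map_smul, ← hs j, ← Ideal.Quotient.algebraMap_eq, algebraMap_smul]
  rw [h1, Ideal.toCotangent_eq_zero] at hg
  have h2 : ((∑ j, s j • (⟨F j, Ideal.subset_span (Set.mem_range_self j)⟩ :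
      Ideal.span (Set.range F)) : Ideal.span (Set.range F)) : MvPolynomial (Fin n) R) =
      ∑ j, s j * F j := by
    rw [Submodule.coe_sum]
    rfl
  rw [h2] at hg
  rw [← hs i, Ideal.Quotient.eq_zero_iff_mem]
  exact mem_of_sum_mem_sq F h s hg i

/-- Stacks 00SV (3), the conormal classes span. -/
theorem span_toCotangent :
    Submodule.span (Synt.RelGCIRing R n c F) (Set.range
      (fun i : Fin c => (Ideal.span (Set.range F)).toCotangent
        ⟨F i, Ideal.subset_span (Set.mem_range_self i)⟩)) = ⊤ := by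
  rw [eq_top_iff]
  intro x _
  obtain ⟨⟨y, hy⟩, rfl⟩ := (Ideal.span (Set.range F)).toCotangent_surjective x
  obtain ⟨a, ha⟩ := (Ideal.mem_span_range_iff_exists_fun).1 hy
  have h1 : (⟨y, hy⟩ : Ideal.span (Set.range F)) =
      ∑ j, a j • (⟨F j, Ideal.subset_span (Set.mem_range_self j)⟩ :
        Ideal.span (Set.range F)) := by
    apply Subtype.ext
    rw [Submodule.coe_sum]
    exact ha.symm
  rw [h1, map_sum]
  refine Submodule.sum_mem _ fun j _ => ?_
  rw [map_smul, ← algebraMap_smul (Synt.RelGCIRing R n c F) (a j)]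
  exact Submodule.smul_mem _ _ (Submodule.subset_span ⟨j, rfl⟩)

end Cotangent

end Groth.Agent.Lib.RelGCIFlat89
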