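import Groth.Agent.Lib.ProjCutB19
import Groth.Agent.Lib.ProjCutC19
import Groth.Agent.Lib.ProjCutD19
import Groth.Agent.Lib.SyntRelGCI89
import Groth.Agent.Lib.SmoothLCI
import Groth.Agent.Lib.LCIComp
import Groth.Agent.S9269
import Groth.Agent.S9147

/-!
# A syntomic algebra is a retract of a smooth algebra over it which is a relative global complete
intersection over the base (Stacks 07CH-type; helper19)
-/

set_option autoImplicit false
set_option linter.style.haveILetI false
universe u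

namespace Groth.Agent.Lib.ProjCut19

open MvPolynomial

section Assembly

variable {R A : Type u} [CommRing R] [CommRing A] [Algebra R A]

/-- the presentation of `Cut ε` as an `R`-algebra map -/
noncomputable def presAlg {n m : ℕ} (α : MvPolynomial (Fin n) R →ₐ[R] A)
    (E : Matrix (Fin m) (Fin m) (MvPolynomial (Fin n) R)) :
    MvPolynomial (Fin m) (MvPolynomial (Fin n) R) →ₐ[R] Cut (E.map α.toRingHom) :=
  { toRingHom := pres α.toRingHom E
    commutes' := by
      intro r
      show pres α.toRingHom E (C (C r)) = _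
      rw [pres, RingHom.comp_apply, MvPolynomial.map_C]
      have h1 : α (C r) = algebraMap R A r := by
        rw [← MvPolynomial.algebraMap_eq]; exact α.commutes r
      show Ideal.Quotient.mk _ (C (α (C r))) = _
      rw [h1]
      rfl }

theorem main (h : Synt.IsSyntomic R A) :
    ∃ (n c : ℕ) (F : Fin c → MvPolynomial (Fin n) R), Synt.IsRelGCI R n c F ∧
      Module.Flat R (Synt.RelGCIRing R n c F) ∧
      ∃ (_ : Algebra A (Synt.RelGCIRing R n c F))
        (_ : IsScalarTower R A (Synt.RelGCIRing R n c F)),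
        Algebra.Smooth A (Synt.RelGCIRing R n c F) ∧
        ∃ ρ : Synt.RelGCIRing R n c F →ₐ[R] A,
          ∀ a : A, ρ (algebraMap A (Synt.RelGCIRing R n c F) a) = a := by
  classical
  have hLCI : LCI.IsLCI R A := Groth.Agent.Lib.SyntLCI.isLCI_of_isSyntomic h
  obtain ⟨hft, n, α, hα, hK⟩ := hLCI
  haveI : Module.Flat R A := h.1
  let Pext : Algebra.Extension.{u} R A := Algebra.Extension.ofSurjective α hα
  have hK' : LCI.IsKoszulRegularIdeal Pext.ker := hK
  obtain ⟨hfin, hproj⟩ := Groth.Agent.Lib.ConormalKoszul32.finite_projective_cotangent Pext hK'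
  have hfg : (RingHom.ker α.toRingHom).FG := Groth.Agent.Lib.KRDescC.fg_of_isKoszulRegularIdeal hK
  obtain ⟨m, a, ha⟩ := Submodule.fg_iff_exists_fin_generating_family.mp hfg
  have hker : RingHom.ker α.toRingHom = Ideal.span (Set.range a) := ha.symm
  have haI : ∀ k, a k ∈ RingHom.ker α.toRingHom := fun k => by
    rw [hker]; exact Ideal.subset_span ⟨k, rfl⟩
  obtain ⟨E₀, hE₀2, hE₀3⟩ := exists_projector Pext a hker
  obtain ⟨E, hE1, hE2, hE3⟩ := exists_good_projector (RingHom.ker α.toRingHom) a haI E₀ hE₀2 hE₀3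
  have hφ₀ : Function.Surjective α.toRingHom := hα
  have hε := map_mul_self α.toRingHom E hE1
  set ε := E.map α.toRingHom with hεdef
  haveI hsm : Algebra.Smooth A (Cut ε) := smooth ε hε
  haveI : Module.Flat A (Cut ε) := inferInstance
  haveI : Module.Flat R (Cut ε) := Module.Flat.trans R A (Cut ε)
  -- the presentation
  let Ψ : MvPolynomial (Fin (m + n)) R ≃ₐ[R] MvPolynomial (Fin m) (MvPolynomial (Fin n) R) :=
    (renameEquiv R finSumFinEquiv.symm).trans (sumAlgEquiv R (Fin m) (Fin n))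
  let β : MvPolynomial (Fin (m + n)) R →ₐ[R] Cut ε := (presAlg α E).comp Ψ.toAlgHom
  have hβ : Function.Surjective β :=
    (pres_surjective α.toRingHom E hφ₀).comp Ψ.surjective
  have hβΨ : ∀ x, β x = pres α.toRingHom E (Ψ x) := fun x => rfl
  have h1 : LCI.IsLCI R A := ⟨hft, n, α, hα, hK⟩
  have h2 : LCI.IsLCI A (Cut ε) := Groth.Agent.Lib.SmoothLCI.isLCI_of_smooth
  obtain ⟨_, n', α', hα', hKα'⟩ := Groth.Agent.Lib.LCIComp.isLCI_comp h1 h2
  have hKβ : LCI.IsKoszulRegularIdeal (RingHom.ker β.toRingHom) :=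
    Groth.Agent.S9269.result R (Cut ε) n' (m + n) α' hα' β hβ hKα'
  set J' := RingHom.ker β.toRingHom with hJ'
  have hmemJ' : ∀ x, x ∈ J' ↔ Ψ x ∈ RingHom.ker (pres α.toRingHom E) := by
    intro x
    rw [hJ', RingHom.mem_ker, RingHom.mem_ker]
    rfl
  obtain ⟨h₀, hh1, hh2⟩ := exists_mul_mem_span α.toRingHom a E hφ₀ hker hE1 hE2
  let f' : Fin m → MvPolynomial (Fin (m + n)) R := fun i => Ψ.symm (gen a E i)
  let h₀' : MvPolynomial (Fin (m + n)) R := Ψ.symm h₀
  have hfJ' : ∀ i, f' i ∈ J' := fun i => by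
    rw [hmemJ', AlgEquiv.apply_symm_apply]
    exact gen_mem_ker α.toRingHom a E hφ₀ hker i
  have hmul' : ∀ j ∈ J', h₀' * j ∈ Ideal.span (Set.range f') := by
    intro j hj
    have h3 := hh2 (Ψ j) ((hmemJ' j).mp hj)
    have h4 := Ideal.mem_map_of_mem Ψ.symm h3
    rw [Ideal.map_span] at h4
    have h5 : Ψ.symm (h₀ * Ψ j) = h₀' * j := by
      rw [map_mul, AlgEquiv.symm_apply_apply]
    rw [h5] at h4
    have h6 : Ψ.symm '' Set.range (gen a E) = Set.range f' := by
      rw [← Set.range_comp]; rfl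
    rwa [h6] at h4
  have hind' : ∀ c : Fin m → MvPolynomial (Fin (m + n)) R, ∑ i, c i * f' i = 0 →
      ∀ i, c i ∈ J' := by
    intro c hc i
    rw [hmemJ']
    refine mem_ker_of_sum_eq_zero α.toRingHom a E hφ₀ hker hE1 hE3 (fun i => Ψ (c i)) ?_ i
    have := congrArg Ψ hc
    rw [map_sum, map_zero] at this
    simpa only [map_mul, f', AlgEquiv.apply_symm_apply] using this
  obtain ⟨hkr, hJmap⟩ := kr_away_of_indep J' hKβ f' hfJ' h₀' hmul' hind'
  -- flatness of the localized quotient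
  let eQ : (MvPolynomial (Fin (m + n)) R ⧸ J') ≃ₐ[R] Cut ε :=
    Ideal.quotientKerAlgEquivOfSurjective hβ
  haveI : Module.Flat R (MvPolynomial (Fin (m + n)) R ⧸ J') :=
    Module.Flat.of_linearEquiv eQ.toLinearEquiv
  haveI : Module.Flat (MvPolynomial (Fin (m + n)) R ⧸ J')
      (Localization.Away (Ideal.Quotient.mk J' h₀')) :=
    IsLocalization.flat _ (Submonoid.powers (Ideal.Quotient.mk J' h₀'))
  haveI : Module.Flat R (Localization.Away (Ideal.Quotient.mk J' h₀')) :=
    Module.Flat.trans R (MvPolynomial (Fin (m + n)) R ⧸ J') _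
  obtain ⟨c, F, hF, ⟨e⟩⟩ := Groth.Agent.Lib.SyntRelGCI89.exists_relGCI_away J' h₀' _ hkr hJmap
  -- `h₀'` is `1` modulo `J'`
  have hone : Ideal.Quotient.mk J' h₀' = 1 := by
    rw [← map_one (Ideal.Quotient.mk J'), Ideal.Quotient.eq, hmemJ', map_sub, map_one,
      AlgEquiv.apply_symm_apply]
    exact hh1
  let e₁ : (MvPolynomial (Fin (m + n)) R ⧸ J') ≃ₐ[MvPolynomial (Fin (m + n)) R ⧸ J']
      Localization.Away (Ideal.Quotient.mk J' h₀') :=
    IsLocalization.atUnits _ (Submonoid.powers (Ideal.Quotient.mk J' h₀')) (by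
      rw [hone]
      rintro x ⟨k, rfl⟩
      show IsUnit ((1 : MvPolynomial (Fin (m + n)) R ⧸ J') ^ k)
      rw [one_pow]
      exact isUnit_one)
  let e' : Cut ε ≃ₐ[R] Synt.RelGCIRing R (m + n + 1) c F :=
    (eQ.symm.trans (e₁.restrictScalars R)).trans e
  refine ⟨m + n + 1, c, F, hF, (Groth.Agent.S9147.result R (m + n + 1) c F hF).1, ?_⟩
  letI algA : Algebra A (Synt.RelGCIRing R (m + n + 1) c F) :=
    ((e' : Cut ε →+* Synt.RelGCIRing R (m + n + 1) c F).comp (algebraMap A (Cut ε))).toAlgebra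
  have htower : IsScalarTower R A (Synt.RelGCIRing R (m + n + 1) c F) :=
    IsScalarTower.of_algebraMap_eq (fun r => by
      show _ = e' (algebraMap A (Cut ε) (algebraMap R A r))
      rw [← IsScalarTower.algebraMap_apply R A (Cut ε), e'.commutes])
  refine ⟨algA, htower, ?_, ?_⟩
  · let eA : Cut ε ≃ₐ[A] Synt.RelGCIRing R (m + n + 1) c F :=
      { (e' : Cut ε ≃+* Synt.RelGCIRing R (m + n + 1) c F) with
        commutes' := fun _ => rfl }
    exact Algebra.Smooth.of_equiv eA
  · refine ⟨((retr ε).restrictScalars R).comp e'.symm.toAlgHom, fun x => ?_⟩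
    show retr ε (e'.symm (e' (algebraMap A (Cut ε) x))) = x
    rw [AlgEquiv.symm_apply_apply, retr_algebraMap]

end Assembly

end Groth.Agent.Lib.ProjCut19
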