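/-
helper81: pullback commutes with the tensor product of COMPLEXES of O-modules (any f, any complexes):
`pullTensorCxIso f P L : f^*(P ⊗ L) ≅ f^*P ⊗ f^*L` (termwise pullback, DCoh.tensorCx). Uses helper66 TotalFunctor66.mapTotalIso.
-/
import Groth.Agent.Lib.PullTensor81D
import Groth.Agent.Lib.StalkTensor81E
import Groth.Agent.Lib.TotalFunctor66

set_option autoImplicit false
set_option linter.style.haveILetI false
universe u
open CategoryTheory CategoryTheory.Limits AlgebraicGeometry TopologicalSpace Opposite

namespace Groth.Agent.Lib.PullTensor81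

open Groth.Agent.Lib.StalkTensor81 Groth.Agent.Lib.TotalFunctor66 Groth.Agent.Lib.PullbackStalk81

variable {X Y : Scheme.{u}} (f : X ⟶ Y)

/-- termwise pullback of complexes -/
noncomputable abbrev pullCx : CochainComplex Y.Modules ℤ ⥤ CochainComplex X.Modules ℤ :=
  (Scheme.Modules.pullback f).mapHomologicalComplex (ComplexShape.up ℤ)

instance : PreservesColimitsOfSize.{0, 0} (Scheme.Modules.pullback f) :=
  (Scheme.Modules.pullbackPushforwardAdjunction f).leftAdjoint_preservesColimits

/-- the bicomplex `f^*(P^p ⊗ L^q)` -/
noncomputable abbrev PB₁ (P L : CochainComplex Y.Modules ℤ) :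
    HomologicalComplex₂ X.Modules (ComplexShape.up ℤ) (ComplexShape.up ℤ) :=
  mapBicomplex (tensorBicx P L) (Scheme.Modules.pullback f)

/-- the bicomplex `f^*P^p ⊗ f^*L^q` -/
noncomputable abbrev PB₂ (P L : CochainComplex Y.Modules ℤ) :
    HomologicalComplex₂ X.Modules (ComplexShape.up ℤ) (ComplexShape.up ℤ) :=
  tensorBicx ((pullCx f).obj P) ((pullCx f).obj L)

noncomputable def pullBicIso (P L : CochainComplex Y.Modules ℤ) : PB₁ f P L ≅ PB₂ f P L :=
  HomologicalComplex.Hom.isoOfComponents
    (fun p => HomologicalComplex.Hom.isoOfComponents (fun q => pullbackTensorIso f (P.X p) (L.X q))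
      (by
        intro q q' _
        exact (theta_naturality_right f (P.X p) (L.d q q')).symm))
    (by
      intro p p' _
      refine HomologicalComplex.hom_ext _ _ (fun q => ?_)
      exact (theta_naturality_left f (P.d p p') (L.X q)).symm)

instance preservesTotal_pullback (P L : CochainComplex Y.Modules ℤ) :
    PreservesTotal (tensorBicx P L) (ComplexShape.up ℤ) (Scheme.Modules.pullback f) := by
  intro n
  infer_instance

/-- **pullback commutes with the tensor product of complexes** -/
noncomputable def pullTensorCxIso (P L : CochainComplex Y.Modules ℤ) :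
    (pullCx f).obj ((DCoh.tensorCx.obj P).obj L) ≅
      (DCoh.tensorCx.obj ((pullCx f).obj P)).obj ((pullCx f).obj L) :=
  haveI := hasTotal_mapBicomplex (B := tensorBicx P L) (c₁₂ := ComplexShape.up ℤ)
    (Scheme.Modules.pullback f)
  mapTotalIso (Scheme.Modules.pullback f) ≪≫
    HomologicalComplex₂.total.mapIso (pullBicIso f P L) (ComplexShape.up ℤ)

end Groth.Agent.Lib.PullTensor81
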