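/-
helper81: projection formula for COMPLEXES along a closed embedding: `projCxIso f hf E P : f_*E ⊗ P ≅ f_*(E ⊗ f^*P)`
(termwise pushforward/pullback, DCoh.tensorCx); `pushCx`, `projBicIso`, `preservesTotal_pushforward`.
-/
import Groth.Agent.Lib.ProjFormula81B
import Groth.Agent.Lib.PullTensor81E
import Groth.Agent.Lib.ClosedPushAdj83

set_option autoImplicit false
set_option linter.style.haveILetI false
universe u
open CategoryTheory CategoryTheory.Limits AlgebraicGeometry TopologicalSpace Opposite

namespace Groth.Agent.Lib.ProjFormula81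

open Groth.Agent.Lib.StalkTensor81 Groth.Agent.Lib.TotalFunctor66 Groth.Agent.Lib.PullTensor81

variable {X Y : Scheme.{u}} (f : X ⟶ Y)

/-- termwise pushforward of complexes -/
noncomputable abbrev pushCx : CochainComplex X.Modules ℤ ⥤ CochainComplex Y.Modules ℤ :=
  (Scheme.Modules.pushforward f).mapHomologicalComplex (ComplexShape.up ℤ)

/-- the bicomplex `f_*(E^p ⊗ f^*P^q)` -/
noncomputable abbrev QB₁ (E : CochainComplex X.Modules ℤ) (P : CochainComplex Y.Modules ℤ) :
    HomologicalComplex₂ Y.Modules (ComplexShape.up ℤ) (ComplexShape.up ℤ) :=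
  mapBicomplex (tensorBicx E ((pullCx f).obj P)) (Scheme.Modules.pushforward f)

/-- the bicomplex `f_*E^p ⊗ P^q` -/
noncomputable abbrev QB₂ (E : CochainComplex X.Modules ℤ) (P : CochainComplex Y.Modules ℤ) :
    HomologicalComplex₂ Y.Modules (ComplexShape.up ℤ) (ComplexShape.up ℤ) :=
  tensorBicx ((pushCx f).obj E) P

noncomputable def projBicIso (hf : Topology.IsClosedEmbedding f) (E : CochainComplex X.Modules ℤ)
    (P : CochainComplex Y.Modules ℤ) : QB₂ f E P ≅ QB₁ f E P :=
  HomologicalComplex.Hom.isoOfComponents
    (fun p => HomologicalComplex.Hom.isoOfComponents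
      (fun q => @asIso _ _ _ _ (projHom f (E.X p) (P.X q)) (isIso_projHom f (E.X p) (P.X q) hf))
      (by
        intro q q' _
        exact (projHom_naturality_right f (E.X p) (P.d q q')).symm))
    (by
      intro p p' _
      refine HomologicalComplex.hom_ext _ _ (fun q => ?_)
      exact (projHom_naturality_left f (E.d p p') (P.X q)).symm)

theorem preservesTotal_pushforward (hf : Topology.IsClosedEmbedding f) (E : CochainComplex X.Modules ℤ)
    (P : CochainComplex Y.Modules ℤ) :
    PreservesTotal (tensorBicx E ((pullCx f).obj P)) (ComplexShape.up ℤ) (Scheme.Modules.pushforward f) := by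
  intro n
  haveI := Groth.Agent.Lib.ClosedPushAdj83.preservesColimits_pushforward f hf
  haveI : PreservesColimitsOfSize.{0, 0} (Scheme.Modules.pushforward f) :=
    preservesColimitsOfSize_shrink.{0, u, 0, u} _
  infer_instance

/-- **projection formula for complexes** along a closed embedding: `f_*E ⊗ P ≅ f_*(E ⊗ f^*P)` -/
noncomputable def projCxIso (hf : Topology.IsClosedEmbedding f) (E : CochainComplex X.Modules ℤ)
    (P : CochainComplex Y.Modules ℤ) :
    (DCoh.tensorCx.obj ((pushCx f).obj E)).obj P ≅
      (pushCx f).obj ((DCoh.tensorCx.obj E).obj ((pullCx f).obj P)) :=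
  haveI := preservesTotal_pushforward f hf E P
  haveI := hasTotal_mapBicomplex (B := tensorBicx E ((pullCx f).obj P)) (c₁₂ := ComplexShape.up ℤ)
    (Scheme.Modules.pushforward f)
  HomologicalComplex₂.total.mapIso (projBicIso f hf E P) (ComplexShape.up ℤ) ≪≫
    (mapTotalIso (Scheme.Modules.pushforward f)).symm

end Groth.Agent.Lib.ProjFormula81
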