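/-
helper81: for a closed embedding f, Rf_* is computed termwise: `isInvertedBy_pushKh`, `rpushIso f hf E : Rf_*(Q E) ≅ Q(f_* E)`.
-/
import Groth.Agent.Lib.ProjFormula81C

set_option autoImplicit false
set_option linter.style.haveILetI false
universe u
open CategoryTheory CategoryTheory.Limits AlgebraicGeometry TopologicalSpace Opposite
attribute [local instance] HasDerivedCategory.standard

namespace Groth.Agent.Lib.ProjFormula81

variable {X Y : Scheme.{u}} (f : X ⟶ Y)

theorem isInvertedBy_pushKh (hf : Topology.IsClosedEmbedding f) :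
    (HomotopyCategory.quasiIso X.Modules (ComplexShape.up ℤ)).IsInvertedBy (DCoh.pushKh f) := by
  intro K L φ hφ
  obtain ⟨K₀, rfl⟩ := HomotopyCategory.quotient_obj_surjective K
  obtain ⟨L₀, rfl⟩ := HomotopyCategory.quotient_obj_surjective L
  obtain ⟨φ₀, rfl⟩ := (HomotopyCategory.quotient _ _).map_surjective φ
  rw [HomotopyCategory.quotient_map_mem_quasiIso_iff, HomologicalComplex.mem_quasiIso_iff] at hφ
  haveI : PreservesFiniteColimits (Scheme.Modules.pushforward f) :=
    Groth.Agent.Lib.ClosedPushExact17.preservesFiniteColimits_pushforward f hf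
  haveI : PreservesFiniteLimits (Scheme.Modules.pushforward f) :=
    ⟨fun J _ _ => (Scheme.Modules.pullbackPushforwardAdjunction f).rightAdjoint_preservesLimits.1⟩
  haveI : QuasiIso ((pushCx f).map φ₀) := inferInstance
  change IsIso (DerivedCategory.Q.map ((pushCx f).map φ₀))
  infer_instance

/-- for a closed embedding `f`, `Rf_*` is computed termwise: `Rf_*(Q E) ≅ Q(f_* E)` -/
noncomputable def rpushIso (hf : Topology.IsClosedEmbedding f) [DCoh.HasRpush f]
    (E : CochainComplex X.Modules ℤ) :
    (DCoh.Rpush f).obj (DCoh.toD X E) ≅ DCoh.toD Y ((pushCx f).obj E) :=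
  haveI : IsIso ((DCoh.pushKh f).totalRightDerivedUnit DerivedCategory.Qh
      (HomotopyCategory.quasiIso X.Modules (ComplexShape.up ℤ))) :=
    Functor.isIso_of_isRightDerivedFunctor_of_inverts (DCoh.Rpush f) _ (isInvertedBy_pushKh f hf)
  (asIso (((DCoh.pushKh f).totalRightDerivedUnit DerivedCategory.Qh
      (HomotopyCategory.quasiIso X.Modules (ComplexShape.up ℤ))).app
        ((HomotopyCategory.quotient _ _).obj E))).symm

end Groth.Agent.Lib.ProjFormula81
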