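import Groth.Agent.Lib.TensorBasis23
import Groth.Agent.Lib.ProjFormulaInv
import Groth.Agent.Lib.H78PullSec
import Groth.Agent.Lib.FinLocFree2
import Groth.Agent.Lib.H4KoszulPn
import Groth.Agent.Lib.TwistEquiv
import Groth.Agent.Lib.CurveDeg48b
import Groth.Agent.Lib.OXModRestrict
import Groth.Agent.Lib.RpushRestrict
import Groth.Agent.Lib.DerivedBCAcyc

/-!
# Projection formula for finite locally free modules (helper23)

For an arbitrary morphism of schemes `f : X ⟶ Y`, an `O_X`-module `G` and a finite locally free `O_Y`-module `E`: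

* `isBasis_pb`: the pullback of a local basis (`TensorBasis23.IsBasis`) is a local basis.
* `isIso_hom_of_basis`: a pairing `M × L → N` induces an iso `M ⊗ L ≅ N` if locally `L` has a basis `s` with
  `(a_i) ↦ ∑ β(a_i, s_i)` bijective on small opens (rank `n` version of helper48's `isIso_hom_of_gen`).
* `isIso_projHom_of_isFinLocFree`: helper48's `projHom f G E : f_* G ⊗ E ⟶ f_* (G ⊗ f^* E)` is an isomorphism.
* `hom_app_tmul`, `hom_ext_tmul`, `projHom_naturality`; `projNatIso : f_* ⋙ (- ⊗ E) ≅ (- ⊗ f^* E) ⋙ f_*`.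
* `preservesFiniteLimits_tensorRightFunctor` (`E` flat), `isZero_Rpush_tensor_pullback`:
  `R^{q+1} f_* (I ⊗ f^* E) = 0` for `I` injective.
* `nonempty_Rpush_natIso`: `R^q f_* (-) ⊗ E ≅ R^q f_* (- ⊗ f^* E)` as functors.
-/

set_option autoImplicit false
universe u
open CategoryTheory CategoryTheory.Limits AlgebraicGeometry MonoidalCategory Opposite TopologicalSpace
open Groth.Agent.Lib.H90Invertible Groth.Agent.Lib.StructureModule Groth.Agent.Lib.H78TensorGen
open Groth.Agent.Lib.H78PullSec Groth.Agent.Lib.TensorBasis23 Groth.Agent.Lib.H4TensorPair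
open Groth.Agent.Lib.H78SecCoord

namespace Groth.Agent.Lib.ProjFormulaFLF23

open Groth.Agent.Lib.FreeModStalk Groth.Agent.Lib.FreeModSch Groth.Agent.Lib.QCohBiproduct

section Top

variable {X : Scheme.{u}}

lemma ofSections_app_basisSec (M : X.Modules) {n : ℕ} (e : Fin n → Γ(M, ⊤)) (i : Fin n) :
    (ofSections M e).app ⊤ (basisSec X n i) = e i := by
  have h1 : (ofSections M e).app ⊤ (basisSec X n i) =
      toSection (Sigma.ι (fun _ : Fin n => Coh.structureModule X) i ≫ ofSections M e) := rfl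
  rw [h1, ι_ofSections, toSection_ofSection]

lemma ofSections_app_sum (M : X.Modules) {n : ℕ} (e : Fin n → Γ(M, ⊤)) (W : X.Opens)
    (a : Fin n → Γ(X, W)) :
    (ofSections M e).app W (∑ i, a i • rs (FlatMod.freeMod X n) le_top (basisSec X n i)) =
      ∑ i, a i • rs M le_top (e i) := by
  rw [app_sum']
  refine Finset.sum_congr rfl (fun i _ => ?_)
  rw [Scheme.Modules.Hom.app_smul]
  congr 1
  have h := hom_app_res (ofSections M e) (le_top : W ≤ ⊤) (basisSec X n i)
  rw [ofSections_app_basisSec] at h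
  exact h

theorem isIso_ofSections_of_isBasis (M : X.Modules) {n : ℕ} (e : Fin n → Γ(M, ⊤))
    (he : IsBasis M ⊤ e) : IsIso (ofSections M e) := by
  rw [Scheme.Modules.Hom.isIso_iff_isIso_app]
  intro W
  rw [ConcreteCategory.isIso_iff_bijective]
  have h1 := isBasis_freeMod X n W le_top
  have h2 := he W le_top
  have h3 : (fun a : Fin n → Γ(X, W) => ∑ i, a i • rs M le_top (e i)) =
      (fun t => (ofSections M e).app W t) ∘
        (fun a : Fin n → Γ(X, W) => ∑ i, a i • rs (FlatMod.freeMod X n) le_top (basisSec X n i)) := by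
    funext a
    exact (ofSections_app_sum M e W a).symm
  rw [h3] at h2
  exact (Function.Bijective.of_comp_iff _ h1).mp h2

end Top

section Pull

variable {X Y : Scheme.{u}} (f : X ⟶ Y)

lemma ι_pullbackFreeModIso_inv (n : ℕ) (i : Fin n) :
    Sigma.ι (fun _ : Fin n => Coh.structureModule X) i ≫ (FinLocFree2.pullbackFreeModIso f n).inv =
      (unitIso f).inv ≫ (Scheme.Modules.pullback f).map
        (Sigma.ι (fun _ : Fin n => Coh.structureModule Y) i) := by
  unfold FinLocFree2.pullbackFreeModIso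
  rw [Iso.trans_inv, PreservesCoproduct.inv_hom]
  have h1 : (Sigma.mapIso (fun _ : Fin n => (ModPullback.pullbackUnitIso f).symm)).inv =
      Limits.Sigma.map (fun _ : Fin n => (ModPullback.pullbackUnitIso f).hom) := rfl
  rw [h1, ← Category.assoc, Limits.Sigma.ι_map, Category.assoc, ι_comp_sigmaComparison]
  rfl

lemma isBasis_pb_of_eq_top (M : Y.Modules) (T : Y.Opens) (hT : T = ⊤) {n : ℕ} (e : Fin n → Γ(M, T))
    (he : IsBasis M T e) :
    IsBasis ((Scheme.Modules.pullback f).obj M) (f ⁻¹ᵁ T) (fun i => pb f M (e i)) := by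
  subst hT
  have := isIso_ofSections_of_isBasis M e he
  let Φ : FlatMod.freeMod X n ≅ (Scheme.Modules.pullback f).obj M :=
    (FinLocFree2.pullbackFreeModIso f n).symm ≪≫
      (Scheme.Modules.pullback f).mapIso (asIso (ofSections M e))
  have h1 := ((isBasis_freeMod X n).mono (le_top : f ⁻¹ᵁ (⊤ : Y.Opens) ≤ ⊤)).of_iso Φ
  have h2 : ∀ i, Φ.hom.app (f ⁻¹ᵁ (⊤ : Y.Opens))
      (rs (FlatMod.freeMod X n) le_top (basisSec X n i)) = pb f M (e i) := by
    intro i
    have h3 := ι_app X n i (f ⁻¹ᵁ (⊤ : Y.Opens)) 1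
    rw [one_smul] at h3
    rw [← h3]
    have h4 : Sigma.ι (fun _ : Fin n => Coh.structureModule X) i ≫ Φ.hom =
        (unitIso f).inv ≫ (Scheme.Modules.pullback f).map (FreeModSch.ofSection M (e i)) := by
      change Sigma.ι (fun _ : Fin n => Coh.structureModule X) i ≫
        ((FinLocFree2.pullbackFreeModIso f n).inv ≫
          (Scheme.Modules.pullback f).map (ofSections M e)) = _
      rw [← Category.assoc, ι_pullbackFreeModIso_inv, Category.assoc, ← Functor.map_comp,
        ι_ofSections]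
    have h5 := congrArg (fun χ => (Scheme.Modules.Hom.app χ (f ⁻¹ᵁ (⊤ : Y.Opens)))
      (toSec (f ⁻¹ᵁ (⊤ : Y.Opens)) 1)) h4
    refine h5.trans ?_
    change ((Scheme.Modules.pullback f).map (FreeModSch.ofSection M (e i))).app _
      ((unitIso f).inv.app (f ⁻¹ᵁ ⊤) (toSec (f ⁻¹ᵁ ⊤) 1)) = _
    have h6 := unitIso_inv_toSec f ⊤ 1
    rw [map_one] at h6
    rw [h6, pb_map]
    congr 1
    exact toSection_ofSection M (e i)
  have h7 : (fun i => Φ.hom.app (f ⁻¹ᵁ (⊤ : Y.Opens))
      (rs (FlatMod.freeMod X n) le_top (basisSec X n i))) = fun i => pb f M (e i) := funext h2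
  rwa [h7] at h1

section ResPull

open Groth.Agent.Lib.H78Restrict Groth.Agent.Lib.ModPullback

/-- the pullback of a local basis is a local basis -/
theorem isBasis_pb {V : Y.Opens} {M : Y.Modules} {n : ℕ} {e : Fin n → Γ(M, V)}
    (he : IsBasis M V e) :
    IsBasis ((Scheme.Modules.pullback f).obj M) (f ⁻¹ᵁ V) (fun i => pb f M (e i)) := by
  have h0 : IsBasis (M.restrict V.ι) (V.ι ⁻¹ᵁ V)
      (fun i => toR V.ι M (V.ι ⁻¹ᵁ V) (rs M (V.ι.image_preimage_le V) (e i))) :=
    isBasis_restrict_of_isBasis V.ι M _ _ (he.mono _)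
  have h1 := isBasis_pb_of_eq_top (f ∣_ V) (M.restrict V.ι) _ V.ι_preimage_self _ h0
  have h2 := h1.mono (le_of_eq (preimage_eq f V V))
  have h3 := h2.of_iso (restrictPullbackIso f V M).symm
  have h3' : IsBasis (((Scheme.Modules.pullback f).obj M).restrict (f ⁻¹ᵁ V).ι)
      ((f ⁻¹ᵁ V).ι ⁻¹ᵁ (f ⁻¹ᵁ V)) (fun i => toR (f ⁻¹ᵁ V).ι _ _
        (rs _ ((f ⁻¹ᵁ V).ι.image_preimage_le (f ⁻¹ᵁ V)) (pb f M (e i)))) := by
    have h6 : (fun i => toR (f ⁻¹ᵁ V).ι ((Scheme.Modules.pullback f).obj M) _
        (rs _ ((f ⁻¹ᵁ V).ι.image_preimage_le (f ⁻¹ᵁ V)) (pb f M (e i)))) =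
        fun i => (restrictPullbackIso f V M).symm.hom.app ((f ⁻¹ᵁ V).ι ⁻¹ᵁ (f ⁻¹ᵁ V))
          (rs _ (le_of_eq (preimage_eq f V V))
            (pb (f ∣_ V) (M.restrict V.ι)
              (toR V.ι M (V.ι ⁻¹ᵁ V) (rs M (V.ι.image_preimage_le V) (e i))))) := by
      funext i
      have h4 := restrictPullbackIso_pb f V M (e i)
      have h5 := iso_inv_hom_app (restrictPullbackIso f V M) ((f ⁻¹ᵁ V).ι ⁻¹ᵁ (f ⁻¹ᵁ V))
        (toR (f ⁻¹ᵁ V).ι _ _ (rs _ ((f ⁻¹ᵁ V).ι.image_preimage_le (f ⁻¹ᵁ V)) (pb f M (e i))))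
      rw [h4] at h5
      exact h5.symm
    rw [h6]
    exact h3
  have h6 := isBasis_of_isBasis_restrict (f ⁻¹ᵁ V).ι _ _ _ h3'
  have hE : f ⁻¹ᵁ V = (f ⁻¹ᵁ V).ι ''ᵁ ((f ⁻¹ᵁ V).ι ⁻¹ᵁ (f ⁻¹ᵁ V)) := by
    rw [Scheme.Hom.image_preimage_eq_opensRange_inf, Scheme.Opens.opensRange_ι, inf_idem]
  have h7 := h6.mono (le_of_eq hE)
  have h8 : (fun i => rs ((Scheme.Modules.pullback f).obj M) (le_of_eq hE)
      (rs _ ((f ⁻¹ᵁ V).ι.image_preimage_le (f ⁻¹ᵁ V)) (pb f M (e i)))) =
      fun i => pb f M (e i) := by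
    funext i
    rw [rs_rs]
    exact rs_self _ _
  rw [← h8]
  exact h7

end ResPull

end Pull

section Criterion

variable {X : Scheme.{u}} {M L N : X.Modules} (β : Pairing M L N)

lemma preHom_app_sum_ptmul (W : X.Opens) {n : ℕ} (a : Fin n → Γ(M, W)) (s : Fin n → Γ(L, W)) :
    (β.preHom.app (op W)).hom (∑ i, ptmul (N := L) (a i) (s i)) = ∑ i, β.toFun W (a i) (s i) := by
  have h1 := map_sum (β.preHom.app (op W)).hom (fun i => ptmul (N := L) (a i) (s i)) Finset.univ
  exact h1

theorem preHom_app_bijective_of_basis {V : X.Opens} {n : ℕ} {s : Fin n → Γ(L, V)}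
    (hs : IsBasis L V s) (W : X.Opens) (hW : W ≤ V)
    (hb : Function.Bijective (fun a : Fin n → Γ(M, W) => ∑ i, β.toFun W (a i) (rs L hW (s i)))) :
    Function.Bijective (β.preHom.app (op W)) := by
  have h1 : Function.Bijective (fun x : Fin n → Γ(M, W) => ∑ i, ptmul (N := L) (x i) (rs L hW (s i))) :=
    ptmul_basis_bijective M (hs.mono hW)
  have h2 : (fun a : Fin n → Γ(M, W) => ∑ i, β.toFun W (a i) (rs L hW (s i))) =
      (fun z => (β.preHom.app (op W)).hom z) ∘
        (fun x : Fin n → Γ(M, W) => ∑ i, ptmul (N := L) (x i) (rs L hW (s i))) := by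
    funext a
    exact (preHom_app_sum_ptmul β W a _).symm
  rw [h2] at hb
  exact (Function.Bijective.of_comp_iff _ h1).mp hb

theorem isIso_hom_of_basis
    (hcov : ∀ x : X, ∃ (V : X.Opens) (n : ℕ) (s : Fin n → Γ(L, V)), x ∈ V ∧ IsBasis L V s ∧
      ∀ (W : X.Opens) (hW : W ≤ V),
        Function.Bijective (fun a : Fin n → Γ(M, W) => ∑ i, β.toFun W (a i) (rs L hW (s i)))) :
    IsIso β.hom := by
  have hloc := locallyBijective_of_small (X := X)
    (P := (show X.PresheafOfModules from CohB1.tensorPre M L)) (Q := N.val) β.preHom (by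
      intro x
      obtain ⟨V, n, s, hxV, hs, hb⟩ := hcov x
      exact ⟨V, hxV, fun W hW => preHom_app_bijective_of_basis β hs W hW (hb W hW)⟩)
  have h1 : IsIso ((CohB1.sheafifyMod X).map β.preHom) :=
    isIso_sheafifyMod_map _ hloc.1 hloc.2
  have h2 : IsIso ((adj X).counit.app N) := inferInstance
  rw [Pairing.hom_eq]
  exact @IsIso.comp_isIso _ _ _ _ _ _ _ h1 h2

end Criterion

section Projection

variable {X Y : Scheme.{u}} (f : X ⟶ Y) (G : X.Modules) (E : Y.Modules)

open Groth.Agent.Lib.ProjFormulaInv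

/-- The projection formula morphism `f_* G ⊗ E ⟶ f_* (G ⊗ f^* E)` is an isomorphism when `E` is finite locally
free. -/
theorem isIso_projHom_of_isFinLocFree (hE : FlatMod.IsFinLocFree E) : IsIso (projHom f G E) := by
  refine isIso_hom_of_basis (pairing f G E) (fun y => ?_)
  obtain ⟨V, n, s, hyV, hs⟩ := exists_isBasis_of_isFinLocFree hE y
  refine ⟨V, n, s, hyV, hs, fun W hW => ?_⟩
  have h1 := tmul_basis_bijective G (isBasis_pb f hs) (f.preimage_mono hW)
  have h2 : (fun a : Fin n → Γ((Scheme.Modules.pushforward f).obj G, W) =>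
      ∑ i, (pairing f G E).toFun W (a i) (rs E hW (s i))) =
      fun x : Fin n → Γ(G, f ⁻¹ᵁ W) => ∑ i, tmul (x i)
        (rs ((Scheme.Modules.pullback f).obj E) (f.preimage_mono hW) (pb f E (s i))) := by
    funext a
    refine Finset.sum_congr rfl (fun i _ => ?_)
    show tmul (ofPush f G W (a i)) (pb f E (rs E hW (s i))) = _
    rw [pb_rs]
    rfl
  rw [h2]
  exact h1

end Projection

section Nat

variable {X : Scheme.{u}}

/-- the morphism induced by a pairing sends pure tensors to the values of the pairing -/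
theorem hom_app_tmul {L L' N : X.Modules} (β : Pairing L L' N) (U : X.Opens) (a : Γ(L, U))
    (b : Γ(L', U)) : β.hom.app U (tmul a b) = β.toFun U a b := by
  have h0 : (adj X).homEquiv (show X.PresheafOfModules from CohB1.tensorPre L L') N β.hom =
      β.preHom := Equiv.apply_symm_apply _ _
  have h1 : (adj X).unit.app (show X.PresheafOfModules from CohB1.tensorPre L L') ≫
      (Scheme.Modules.toPresheafOfModules X).map β.hom = β.preHom :=
    ((adj X).homEquiv_unit (f := β.hom)).symm.trans h0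
  have h2 := congrArg (fun φ => (φ.app (op U)).hom (ptmul a b)) h1
  exact h2

/-- morphisms out of a tensor product are determined by their values on pure tensors -/
theorem hom_ext_tmul {M N G : X.Modules} (f g : CohB1.tensorMod M N ⟶ G)
    (h : ∀ (V : X.Opens) (a : Γ(M, V)) (b : Γ(N, V)), f.app V (tmul a b) = g.app V (tmul a b)) :
    f = g := by
  have key : ∀ (W : X.Opens) (p : (tpre M N).obj (op W)),
      f.app W (((unitT M N).app (op W)).hom p) = g.app W (((unitT M N).app (op W)).hom p) := by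
    intro W p
    induction p using TensorProduct.induction_on with
    | zero =>
      have e0 : ((unitT M N).app (op W)).hom (0 : (tpre M N).obj (op W)) = 0 := map_zero _
      exact (congrArg (fun t => f.app W t) e0).trans (((f.app W).hom.map_zero).trans
        (((g.app W).hom.map_zero).symm.trans (congrArg (fun t => g.app W t) e0).symm))
    | tmul a b => exact h W a b
    | add p p' hp1 hp2 =>
      have e1 := ((unitT M N).app (op W)).hom.map_add p p'
      exact (congrArg (fun t => f.app W t) e1).trans (((f.app W).hom.map_add _ _).trans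
        ((congrArg₂ (· + ·) hp1 hp2).trans (((g.app W).hom.map_add _ _).symm.trans
          (congrArg (fun t => g.app W t) e1).symm)))
  ext V q
  refine sec_ext G _ _ fun x hx => ?_
  obtain ⟨W, hW, hxW, p, hp⟩ := exists_local_rep M N q x hx
  refine ⟨W, hW, hxW, ?_⟩
  rw [← app_rs, ← app_rs, ← hp]
  exact key W p

end Nat

section Projection

variable {X Y : Scheme.{u}} (f : X ⟶ Y) (E : Y.Modules)

open Groth.Agent.Lib.ProjFormulaInv Groth.Agent.Lib.OXModTensor Groth.Agent.Lib.TwistEquiv

theorem projHom_naturality {G G' : X.Modules} (φ : G ⟶ G') :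
    tensorModMap ((Scheme.Modules.pushforward f).map φ) (𝟙 E) ≫ projHom f G' E =
      projHom f G E ≫ (Scheme.Modules.pushforward f).map
        (tensorModMap φ (𝟙 ((Scheme.Modules.pullback f).obj E))) := by
  refine hom_ext_tmul _ _ (fun V a b => ?_)
  have h1 : (tensorModMap ((Scheme.Modules.pushforward f).map φ) (𝟙 E) ≫ projHom f G' E).app V
      (tmul a b) = (projHom f G' E).app V
        ((tensorModMap ((Scheme.Modules.pushforward f).map φ) (𝟙 E)).app V (tmul a b)) := rfl
  have h2 : (projHom f G E ≫ (Scheme.Modules.pushforward f).map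
        (tensorModMap φ (𝟙 ((Scheme.Modules.pullback f).obj E)))).app V (tmul a b) =
      (tensorModMap φ (𝟙 ((Scheme.Modules.pullback f).obj E))).app (f ⁻¹ᵁ V)
        ((projHom f G E).app V (tmul a b)) := rfl
  rw [h1, h2, Groth.Agent.Lib.H4KoszulPn.tensorModMap_tmul]
  unfold projHom
  rw [hom_app_tmul, hom_app_tmul]
  change tmul _ _ = (tensorModMap φ (𝟙 ((Scheme.Modules.pullback f).obj E))).app (f ⁻¹ᵁ V)
    (tmul (ofPush f G V a) (pb f E b))
  rw [Groth.Agent.Lib.H4KoszulPn.tensorModMap_tmul]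
  rfl

end Projection

section Exact

variable {X : Scheme.{u}}

open Groth.Agent.Lib.OXModTensor Groth.Agent.Lib.TwistEquiv

instance additive_tensorRightFunctor (E : X.Modules) : (tensorRightFunctor E).Additive := by
  have := preservesBinaryBiproducts_of_preservesBinaryCoproducts (tensorRightFunctor E)
  exact Functor.additive_of_preservesBinaryBiproducts _

instance additive_tensorLeftFunctor (E : X.Modules) : (tensorLeftFunctor E).Additive := by
  have := preservesBinaryBiproducts_of_preservesBinaryCoproducts (tensorLeftFunctor E)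
  exact Functor.additive_of_preservesBinaryBiproducts _

theorem preservesFiniteLimits_tensorRightFunctor (E : X.Modules) (hE : FlatMod.IsFlat E) :
    PreservesFiniteLimits (tensorRightFunctor E) := by
  refine ((Functor.preservesFiniteLimits_tfae (tensorRightFunctor E)).out 0 3 rfl rfl).mp ?_
  intro S hS
  have h := Groth.Agent.Lib.CurveDeg48.shortExact_map_tensorRight_of_isFlat E hE hS
  exact ⟨h.exact, h.mono_f⟩

/-- the `n`-th power `G^n` of a module (as in helper48's `CurveDeg48c`) -/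
noncomputable abbrev pw (n : ℕ) (G : X.Modules) : X.Modules := ∐ fun _ : Fin n => G

/-- `F ⊗ O^n ≅ F^n` (helper48) -/
noncomputable def tensorFreeIso (F : X.Modules) (n : ℕ) :
    CohB1.tensorMod F (FlatMod.freeMod X n) ≅ pw n F :=
  PreservesCoproduct.iso (tensorLeftFunctor F) (fun _ : Fin n => Coh.structureModule X) ≪≫
    Sigma.mapIso (fun _ => rightUnitor F)

/-- `(F^n)|_U ≅ (F|_U)^n` (helper48) -/
noncomputable def restrictPwIso {U : Scheme.{u}} (f : U ⟶ X) [IsOpenImmersion f] (F : X.Modules) (n : ℕ) :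
    (Scheme.Modules.restrictFunctor f).obj (pw n F) ≅ pw n ((Scheme.Modules.restrictFunctor f).obj F) :=
  PreservesCoproduct.iso (Scheme.Modules.restrictFunctor f) (fun _ : Fin n => F)

/-- if `E|_U ≅ O_U^n` then `(F ⊗ E)|_U ≅ (F^n)|_U` (helper48) -/
noncomputable def restrictTensorFreeIso {U : Scheme.{u}} (f : U ⟶ X) [IsOpenImmersion f]
    (F E : X.Modules) (n : ℕ) (e : E.restrict f ≅ FlatMod.freeMod U n) :
    (Scheme.Modules.restrictFunctor f).obj (CohB1.tensorMod F E) ≅
      (Scheme.Modules.restrictFunctor f).obj (pw n F) :=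
  Groth.Agent.Lib.OXModRestrict.restrictTensorIso f F E ≪≫ tensorModIso (Iso.refl _) e ≪≫
    tensorFreeIso _ n ≪≫ (restrictPwIso f F n).symm

attribute [local instance] CategoryTheory.Abelian.hasFiniteBiproducts in
instance injective_pw (n : ℕ) (I : X.Modules) [Injective I] : Injective (pw n I) := by
  have h : Injective (⨁ fun _ : Fin n => I) := inferInstance
  exact Injective.of_iso (biproduct.isoCoproduct (fun _ : Fin n => I)) h

end Exact

section Acyclic

variable {X Y : Scheme.{u}} (f : X ⟶ Y)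

open Groth.Agent.Lib.OXModTensor Groth.Agent.Lib.TwistEquiv

/-- `R^{q+1} f_* (I ⊗ f^* E) = 0` for `I` injective and `E` finite locally free -/
theorem isZero_Rpush_tensor_pullback [HasInjectiveResolutions X.Modules] (E : Y.Modules)
    (hE : FlatMod.IsFinLocFree E) (I : X.Modules) [Injective I] (q : ℕ) :
    IsZero ((Coh.Rpush f (q + 1)).obj
      (CohB1.tensorMod I ((Scheme.Modules.pullback f).obj E))) := by
  choose U n hyU hU using hE
  have hcov : ⨆ y, U y = ⊤ := by
    rw [eq_top_iff]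
    intro y _
    exact Opens.mem_iSup.2 ⟨y, hyU y⟩
  refine Groth.Agent.Lib.H4KoszulPn.isZero_of_forall_restrict _ U hcov (fun y => ?_)
  have := Groth.Agent.Lib.RpushRestrict.hasInjectiveResolutions (f ⁻¹ᵁ U y).toScheme
  obtain ⟨e2⟩ := Groth.Agent.Lib.RpushRestrict.nonempty_iso f (U y)
    (CohB1.tensorMod I ((Scheme.Modules.pullback f).obj E)) (q + 1)
  refine IsZero.of_iso ?_ e2
  obtain ⟨e⟩ := hU y
  let t : ((Scheme.Modules.pullback f).obj E).restrict (f ⁻¹ᵁ U y).ι ≅
      FlatMod.freeMod (f ⁻¹ᵁ U y).toScheme (n y) :=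
    Groth.Agent.Lib.ModPullback.restrictPullbackIso f (U y) E ≪≫
      (Scheme.Modules.pullback (f ∣_ U y)).mapIso e ≪≫
      Groth.Agent.Lib.FinLocFree2.pullbackFreeModIso (f ∣_ U y) (n y)
  have e3 := restrictTensorFreeIso (f ⁻¹ᵁ U y).ι I ((Scheme.Modules.pullback f).obj E) (n y) t
  have h4 := Groth.Agent.Lib.RpushRestrict.isZero_Rpush_restrict f (U y) (pw (n y) I) q
  exact IsZero.of_iso h4 ((Coh.Rpush (f ∣_ U y) (q + 1)).mapIso e3)

end Acyclic

section Main

variable {X Y : Scheme.{u}} (f : X ⟶ Y) (E : Y.Modules)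

open Groth.Agent.Lib.ProjFormulaInv Groth.Agent.Lib.OXModTensor Groth.Agent.Lib.TwistEquiv

/-- **Projection formula** for a finite locally free module: `f_* G ⊗ E ≅ f_* (G ⊗ f^* E)`. -/
noncomputable def projIsoFLF (G : X.Modules) (hE : FlatMod.IsFinLocFree E) :
    CohB1.tensorMod ((Scheme.Modules.pushforward f).obj G) E ≅
      (Scheme.Modules.pushforward f).obj (CohB1.tensorMod G ((Scheme.Modules.pullback f).obj E)) :=
  @asIso _ _ _ _ (projHom f G E) (isIso_projHom_of_isFinLocFree f G E hE)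

lemma projIsoFLF_hom (G : X.Modules) (hE : FlatMod.IsFinLocFree E) :
    (projIsoFLF f E G hE).hom = projHom f G E := rfl

/-- **Projection formula** for a finite locally free module, as a natural isomorphism
`f_* (-) ⊗ E ≅ f_* (- ⊗ f^* E)`. -/
noncomputable def projNatIso (hE : FlatMod.IsFinLocFree E) :
    Scheme.Modules.pushforward f ⋙ tensorRightFunctor E ≅
      tensorRightFunctor ((Scheme.Modules.pullback f).obj E) ⋙ Scheme.Modules.pushforward f :=
  NatIso.ofComponents (fun G => projIsoFLF f E G hE)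
    (fun {G G'} φ => by
      dsimp only [Functor.comp_obj, Functor.comp_map, tensorRightFunctor_obj]
      rw [tensorRightFunctor_map, tensorRightFunctor_map, projIsoFLF_hom, projIsoFLF_hom]
      exact projHom_naturality f E φ)

/-- **Projection formula for higher direct images**: `R^q f_* (-) ⊗ E ≅ R^q f_* (- ⊗ f^* E)` for `E` finite locally
free, `f` arbitrary. -/
theorem nonempty_Rpush_natIso [HasInjectiveResolutions X.Modules] (hE : FlatMod.IsFinLocFree E)
    (q : ℕ) :
    Nonempty (Coh.Rpush f q ⋙ tensorRightFunctor E ≅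
      tensorRightFunctor ((Scheme.Modules.pullback f).obj E) ⋙ Coh.Rpush f q) := by
  have := preservesFiniteLimits_tensorRightFunctor E
    (Groth.Agent.Lib.FlatModClosure.isFlat_of_isFinLocFree hE)
  have := preservesFiniteLimits_tensorRightFunctor ((Scheme.Modules.pullback f).obj E)
    (Groth.Agent.Lib.FlatModClosure.isFlat_of_isFinLocFree
      (Groth.Agent.Lib.FinLocFree2.isFinLocFree_pullback f hE))
  exact Groth.Agent.Lib.DerivedBCAcyc.nonempty_natIso (projNatIso f E hE)
    (fun I _ p => isZero_Rpush_tensor_pullback f E hE I p) q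

/-- objectwise form, with `E` on the left -/
theorem nonempty_Rpush_iso [HasInjectiveResolutions X.Modules] (hE : FlatMod.IsFinLocFree E)
    (F : X.Modules) (q : ℕ) :
    Nonempty (CohB1.tensorMod E ((Coh.Rpush f q).obj F) ≅
      (Coh.Rpush f q).obj (CohB1.tensorMod ((Scheme.Modules.pullback f).obj E) F)) := by
  obtain ⟨e⟩ := nonempty_Rpush_natIso f E hE q
  have e1 : CohB1.tensorMod ((Coh.Rpush f q).obj F) E ≅
      (Coh.Rpush f q).obj (CohB1.tensorMod F ((Scheme.Modules.pullback f).obj E)) := e.app F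
  exact ⟨braiding _ _ ≪≫ e1 ≪≫ (Coh.Rpush f q).mapIso (braiding _ _)⟩

end Main

end Groth.Agent.Lib.ProjFormulaFLF23
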