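/-
helper3: charts on `Proj 𝒮` for a graded `A`-algebra `S` generated by degree-one elements `f k` (`k : κ`); covers both
`P^n_R` (`f = X`) and the projective bundle `Proj (Sym M)` (`f = ι`).  General analogue of `Lib/ProjSpaceCoordH3`.
* `D j = D₊(f j)`, `isAffineOpen_D`, `exists_mem_D`; `τ i j = f i / f j`, `oval_τ`, `τ_self`, `mem_basicOpen_τ`;
  `κ' j : A →+* Γ(D j)`, `oval_κ'`, `awayToSection_algebraMap`;
* `sec i` = the global section `f i` of `O(1)`; `coordRes i j`, `coordRes_eq`, `isGen_coordRes`, `isInvertible_O1`,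
  `isQuasicoherent_O1`;
* `hom_ext_D`: ring maps out of `Γ(D j)` are determined by their values on `κ' j c` and `τ i j`.
-/
import Groth.Agent.Lib.GradedHomH3
import Groth.Agent.Lib.H4TwistInv
import Groth.Agent.Lib.H4TwistGamma
import Groth.Agent.Lib.H4TwistAmple
import Groth.Agent.Lib.H90InvertibleFP
import Groth.Prelude.Def_ProjUP
import Mathlib

set_option autoImplicit false
set_option linter.style.haveILetI false
universe u
open CategoryTheory AlgebraicGeometry TopologicalSpace Opposite Twist HomogeneousLocalization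
open Groth.Agent.Lib.H90Invertible Groth.Agent.Lib.H4Twist Groth.Agent.Lib
open Groth.Agent.Lib.GradedHomH3

namespace Groth.Agent.Lib.ProjGenCoordH3

variable {A S : Type u} [CommRing A] [CommRing S] [Algebra A S] (𝒮 : ℕ → Submodule A S) [GradedAlgebra 𝒮]
  {κ : Type*} (f : κ → S) (hf : ∀ k, f k ∈ 𝒮 1)

/-- the chart `D₊(f j)` -/
noncomputable abbrev D (j : κ) : (Proj 𝒮).Opens := Proj.basicOpen 𝒮 (f j)

include hf in
theorem isAffineOpen_D (j : κ) : IsAffineOpen (D 𝒮 f j) :=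
  Proj.isAffineOpen_basicOpen 𝒮 (f j) (hf j) Nat.one_pos

include hf in
theorem exists_mem_D (hgen : Algebra.adjoin A (Set.range f) = ⊤) (y : Proj 𝒮) : ∃ j, y ∈ D 𝒮 f j :=
  exists_notMem_of_gen 𝒮 f hgen hf y

/-- `f i / f j` as a function on `D₊(f j)` -/
noncomputable def τ (i j : κ) : Γ(Proj 𝒮, D 𝒮 f j) :=
  (Proj.awayToSection 𝒮 (f j)).hom (Away.mk 𝒮 (hf j) 1 (f i) (mem_smul_one 𝒮 (hf i)))

theorem oval_τ (i j : κ) (y : D 𝒮 f j) :
    oval (τ 𝒮 f hf i j) y = (Localization.mk (f i) ⟨f j, y.2⟩ : Loc 𝒮 y.1) := by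
  unfold τ
  rw [oval_awayToSection_mk]
  congr 1
  exact Subtype.ext (pow_one _)

/-- the structure map `A → Γ(D₊(f j))` -/
noncomputable def κ' (j : κ) : A →+* Γ(Proj 𝒮, D 𝒮 f j) :=
  ((Proj 𝒮).presheaf.map (homOfLE (le_top : D 𝒮 f j ≤ ⊤)).op).hom.comp
    (ProjUP.toGlobal (structMap 𝒮))

theorem oval_κ' (j : κ) (r : A) (y : D 𝒮 f j) :
    oval (κ' 𝒮 f j r) y = (Localization.mk (algebraMap A S r) 1 : Loc 𝒮 y.1) := by
  have := oval_toGlobal 𝒮 r ⟨y.1, trivial⟩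
  exact this

theorem τ_self (j : κ) : τ 𝒮 f hf j j = 1 := by
  refine oval_ext fun y => ?_
  rw [oval_τ, oval_one]
  have : (y.1.asHomogeneousIdeal.toIdeal).IsPrime := y.1.isPrime
  exact Localization.mk_self (⟨f j, y.2⟩ : y.1.asHomogeneousIdeal.toIdeal.primeCompl)

theorem mem_basicOpen_τ (i j : κ) (y : D 𝒮 f j) :
    y.1 ∈ (Proj 𝒮).basicOpen (τ 𝒮 f hf i j) ↔ y.1 ∈ D 𝒮 f i := by
  have : (y.1.asHomogeneousIdeal.toIdeal).IsPrime := y.1.isPrime
  rw [Scheme.mem_basicOpen _ _ y.1 y.2]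
  have h1 : IsUnit ((Proj 𝒮).presheaf.germ (D 𝒮 f j) y.1 y.2 (τ 𝒮 f hf i j)) ↔
      IsUnit (AlgebraicGeometry.Proj.stalkIso' 𝒮 y.1
        ((Proj 𝒮).presheaf.germ (D 𝒮 f j) y.1 y.2 (τ 𝒮 f hf i j))) :=
    (MulEquiv.isUnit_map (AlgebraicGeometry.Proj.stalkIso' 𝒮 y.1)).symm
  rw [h1]
  have h2 : AlgebraicGeometry.Proj.stalkIso' 𝒮 y.1
      ((Proj 𝒮).presheaf.germ (D 𝒮 f j) y.1 y.2 (τ 𝒮 f hf i j)) =
      (show O (𝒜 := 𝒮) (op (D 𝒮 f j)) from τ 𝒮 f hf i j).1 y :=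
    AlgebraicGeometry.Proj.stalkIso'_germ 𝒮 (D 𝒮 f j) y.1 y.2 (τ 𝒮 f hf i j)
  rw [h2, ← HomogeneousLocalization.isUnit_iff_isUnit_val]
  change IsUnit (oval (τ 𝒮 f hf i j) y) ↔ _
  rw [oval_τ, Localization.mk_eq_mk',
    IsLocalization.AtPrime.isUnit_mk'_iff (Loc 𝒮 y.1) y.1.asHomogeneousIdeal.toIdeal]
  rfl

/-- the global section `f i` of `O(1)` -/
noncomputable def sec (i : κ) : Γ(twist 𝒮 1, ⊤) := Twist.globalOf 𝒮 ⟨f i, hf i⟩

/-- the section `f i` restricted to the chart `D₊(f j)` -/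
noncomputable def coordRes (i j : κ) : Γ(twist 𝒮 1, D 𝒮 f j) :=
  (twist 𝒮 1).presheaf.map (homOfLE (le_top : D 𝒮 f j ≤ ⊤)).op (sec 𝒮 f hf i)

theorem sval_coordRes (i j : κ) (y : D 𝒮 f j) :
    sval (coordRes 𝒮 f hf i j) y = (Localization.mk (f i) 1 : Loc 𝒮 y.1) := rfl

theorem coordRes_eq (i j : κ) : coordRes 𝒮 f hf i j = τ 𝒮 f hf i j • coordRes 𝒮 f hf j j := by
  refine sec_ext fun y => ?_
  rw [sval_smul, sval_coordRes, sval_coordRes, oval_τ, Localization.mk_mul, mul_one]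
  rw [Localization.mk_eq_mk_iff, Localization.r_iff_exists]
  exact ⟨1, by simp [mul_comm]⟩

theorem isGen_coordRes (j : κ) : IsGen (twist 𝒮 1) (D 𝒮 f j) (coordRes 𝒮 f hf j j) :=
  isGen_numSec_of_le (hf j) 1 (pow_one _).symm (hf j) (one_mul 1).symm 1 rfl le_rfl

include hf in
theorem isInvertible_O1 (hgen : Algebra.adjoin A (Set.range f) = ⊤) : PicF.IsInvertible (twist 𝒮 1) := by
  have h := isInvertible_twist_of_cover 𝒮 1 1 (fun x => by
    obtain ⟨i, hi⟩ := exists_notMem_of_gen 𝒮 f hgen hf x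
    exact ⟨f i, hf i, hi⟩)
  rw [Nat.cast_one, mul_one] at h
  exact h

include hf in
theorem isQuasicoherent_O1 (hgen : Algebra.adjoin A (Set.range f) = ⊤) : (twist 𝒮 1).IsQuasicoherent :=
  isQCoh_of_isInvertible (isInvertible_O1 𝒮 f hf hgen)

theorem awayToSection_algebraMap (j : κ) (r : A) :
    (Proj.awayToSection 𝒮 (f j)).hom (algebraMap (𝒮 0) (Away 𝒮 (f j)) (algebraMap A (𝒮 0) r)) =
      κ' 𝒮 f j r := by
  refine oval_ext fun y => ?_
  rw [oval_κ']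
  exact oval_awayToSection_fromZero (f j) (algebraMap A (𝒮 0) r) y

include hf in
/-- ring maps out of `Γ(D₊(f j))` are determined by the constants and the functions `f i / f j` -/
theorem hom_ext_D (hgen : Algebra.adjoin A (Set.range f) = ⊤) (j : κ) {B : Type*} [CommRing B]
    (ψ ψ' : Γ(Proj 𝒮, D 𝒮 f j) →+* B) (h0 : ∀ c, ψ (κ' 𝒮 f j c) = ψ' (κ' 𝒮 f j c))
    (h1 : ∀ i, ψ (τ 𝒮 f hf i j) = ψ' (τ 𝒮 f hf i j)) : ψ = ψ' := by
  have hbij := awayToSection_bijective (hf j) Nat.one_pos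
  have key : ψ.comp (Proj.awayToSection 𝒮 (f j)).hom = ψ'.comp (Proj.awayToSection 𝒮 (f j)).hom := by
    refine away_hom_ext_of_gen 𝒮 f hgen hf j _ _ (fun c => ?_) (fun i => ?_)
    · rw [RingHom.comp_apply, RingHom.comp_apply, awayToSection_algebraMap]
      exact h0 c
    · exact h1 i
  ext b
  obtain ⟨β, rfl⟩ := hbij.2 b
  exact congrArg (fun φ => φ β) key

end Groth.Agent.Lib.ProjGenCoordH3
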