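/-
helper3: morphisms `r : X ⟶ Proj 𝒮` for a graded `A`-algebra generated by degree-one elements `f k`, the pulled-back
sections `r^* f k` of `r^* O(1)`, and the uniqueness part of the universal property (EGA II 4.2.3):
`hom_ext_of_iso`: two `A`-morphisms `r r'` with an isomorphism `r^*O(1) ≅ r'^*O(1)` carrying `r^* f k` to `r'^* f k`
are equal.  General analogue of `Lib/ProjSpacePullH3` + `Lib/ProjSpaceUniqH3`.
-/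
import Groth.Agent.Lib.PullSecH3
import Groth.Agent.Lib.ProjGenCoordH3
import Groth.Agent.Lib.ProjSpaceUniqH3

set_option autoImplicit false
set_option linter.style.haveILetI false
universe u
open CategoryTheory AlgebraicGeometry TopologicalSpace Opposite Twist
open AlgebraicGeometry.Scheme.Modules
open Groth.Agent.Lib.H90Invertible Groth.Agent.Lib.H4Twist Groth.Agent.Lib
open Groth.Agent.Lib.PullSecH3 Groth.Agent.Lib.ProjGenCoordH3 Groth.Agent.Lib.QCohStalk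
open Groth.Agent.Lib.ProjSpaceUniqH3

namespace Groth.Agent.Lib.ProjGenUniqH3

variable {A S : Type u} [CommRing A] [CommRing S] [Algebra A S] (𝒮 : ℕ → Submodule A S) [GradedAlgebra 𝒮]
  {κ : Type*} (f : κ → S) (hf : ∀ k, f k ∈ 𝒮 1) (hgen : Algebra.adjoin A (Set.range f) = ⊤)

variable {X : Scheme.{u}} (r : X ⟶ Proj 𝒮)

/-- the pulled-back section `r^* f j` on the chart `r⁻¹ D₊(f j)`, a free generator of `r^* O(1)` there -/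
noncomputable def s (j : κ) : Γ((pullback r).obj (twist 𝒮 1), r ⁻¹ᵁ D 𝒮 f j) :=
  unitV r (twist 𝒮 1) (D 𝒮 f j) (coordRes 𝒮 f hf j j)

include hgen in
theorem isGen_s (j : κ) : IsGen ((pullback r).obj (twist 𝒮 1)) (r ⁻¹ᵁ D 𝒮 f j) (s 𝒮 f hf r j) := by
  haveI := isQuasicoherent_O1 𝒮 f hf hgen
  exact isGen_unitV r (twist 𝒮 1) (isGen_coordRes 𝒮 f hf j)

theorem pullSec_coord_res (i j : κ) :
    ((pullback r).obj (twist 𝒮 1)).presheaf.map (homOfLE (le_top : r ⁻¹ᵁ D 𝒮 f j ≤ ⊤)).op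
      (ProjUP.pullSec r (twist 𝒮 1) (sec 𝒮 f hf i)) =
      (r.app (D 𝒮 f j)).hom (τ 𝒮 f hf i j) • s 𝒮 f hf r j := by
  have h1 := unitV_res r (twist 𝒮 1) (le_top : D 𝒮 f j ≤ ⊤) (sec 𝒮 f hf i)
  have h2 : unitV r (twist 𝒮 1) (D 𝒮 f j) (coordRes 𝒮 f hf i j) =
      (r.app (D 𝒮 f j)).hom (τ 𝒮 f hf i j) • s 𝒮 f hf r j := by
    rw [coordRes_eq]
    exact unitV_smul r (twist 𝒮 1) (D 𝒮 f j) (τ 𝒮 f hf i j) (coordRes 𝒮 f hf j j)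
  rw [← h2]
  exact h1.symm

theorem toGlobal_res (pX : X ⟶ Spec (CommRingCat.of A)) (hr : r ≫ structMap 𝒮 = pX) (j : κ) (c : A) :
    (X.presheaf.map (homOfLE (le_top : r ⁻¹ᵁ D 𝒮 f j ≤ ⊤)).op).hom (ProjUP.toGlobal pX c) =
      (r.app (D 𝒮 f j)).hom (κ' 𝒮 f j c) := by
  subst hr
  unfold ProjUP.toGlobal κ'
  simp only [RingHom.comp_apply]
  have := Scheme.Hom.naturality r (homOfLE (le_top : D 𝒮 f j ≤ ⊤)).op
  have h2 := congrArg (fun φ => φ.hom ((structMap 𝒮).appTop.hom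
    ((Scheme.ΓSpecIso (CommRingCat.of A)).inv.hom c))) this
  simp only [CommRingCat.hom_comp] at h2
  exact h2.symm

/-- `r^* f i` restricted to any open `W ≤ r⁻¹ D_j` -/
theorem pullSec_res_le (i j : κ) {W : X.Opens} (hW : W ≤ r ⁻¹ᵁ D 𝒮 f j) :
    ((pullback r).obj (twist 𝒮 1)).presheaf.map (homOfLE (le_top : W ≤ ⊤)).op
      (ProjUP.pullSec r (twist 𝒮 1) (sec 𝒮 f hf i)) =
      (r.appLE (D 𝒮 f j) W hW).hom (τ 𝒮 f hf i j) •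
        ((pullback r).obj (twist 𝒮 1)).presheaf.map (homOfLE hW).op (s 𝒮 f hf r j) := by
  have h1 := pullSec_coord_res 𝒮 f hf r i j
  have h2 := congrArg (((pullback r).obj (twist 𝒮 1)).presheaf.map (homOfLE hW).op) h1
  rw [Groth.Agent.Lib.UnitBaseChange.presheaf_map_map _ _ _ (homOfLE (le_top : W ≤ ⊤))] at h2
  refine h2.trans ?_
  exact res_smul ((pullback r).obj (twist 𝒮 1)) hW _ _

section Uniq

variable (r' : X ⟶ Proj 𝒮)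
  (θ : (pullback r).obj (twist 𝒮 1) ≅ (pullback r').obj (twist 𝒮 1))
  (hθ : ∀ i, θ.hom.app ⊤ (ProjUP.pullSec r (twist 𝒮 1) (sec 𝒮 f hf i)) =
    ProjUP.pullSec r' (twist 𝒮 1) (sec 𝒮 f hf i))

include hθ in
theorem tau_s (j : κ) :
    θ.hom.app (r ⁻¹ᵁ D 𝒮 f j) (s 𝒮 f hf r j) =
      ((pullback r').obj (twist 𝒮 1)).presheaf.map (homOfLE (le_top : r ⁻¹ᵁ D 𝒮 f j ≤ ⊤)).op
        (ProjUP.pullSec r' (twist 𝒮 1) (sec 𝒮 f hf j)) := by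
  have h1 : s 𝒮 f hf r j = ((pullback r).obj (twist 𝒮 1)).presheaf.map
      (homOfLE (le_top : r ⁻¹ᵁ D 𝒮 f j ≤ ⊤)).op (ProjUP.pullSec r (twist 𝒮 1) (sec 𝒮 f hf j)) :=
    unitV_res r (twist 𝒮 1) (le_top : D 𝒮 f j ≤ ⊤) (sec 𝒮 f hf j)
  rw [h1, app_res, hθ j]

include hθ hgen in
theorem preimage_D_le (j : κ) : r ⁻¹ᵁ D 𝒮 f j ≤ r' ⁻¹ᵁ D 𝒮 f j := by
  intro x hx
  obtain ⟨i, hi⟩ := exists_mem_D 𝒮 f hf hgen (r' x)
  have hxi : x ∈ r' ⁻¹ᵁ D 𝒮 f i := hi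
  let W : X.Opens := r ⁻¹ᵁ D 𝒮 f j ⊓ r' ⁻¹ᵁ D 𝒮 f i
  have hxW : x ∈ W := ⟨hx, hxi⟩
  have hWj : W ≤ r ⁻¹ᵁ D 𝒮 f j := inf_le_left
  have hWi : W ≤ r' ⁻¹ᵁ D 𝒮 f i := inf_le_right
  have hgen' : IsGen ((pullback r').obj (twist 𝒮 1)) (r ⁻¹ᵁ D 𝒮 f j)
      (θ.hom.app (r ⁻¹ᵁ D 𝒮 f j) (s 𝒮 f hf r j)) :=
    (isGen_s 𝒮 f hf hgen r j).of_iso θ
  have hgenW := hgen'.mono hWj
  rw [tau_s 𝒮 f hf r r' θ hθ j, Groth.Agent.Lib.UnitBaseChange.presheaf_map_map _ _ _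
    (homOfLE (le_top : W ≤ ⊤))] at hgenW
  have hu := isUnit_of_isGen_smul hgenW _ (pullSec_res_le 𝒮 f hf r' j i hWi)
  have hx' : x ∈ X.basicOpen ((r'.appLE (D 𝒮 f i) W hWi).hom (τ 𝒮 f hf j i)) := by
    rw [Scheme.mem_basicOpen X _ x hxW]
    exact hu.map _
  rw [Scheme.basicOpen_appLE] at hx'
  exact (mem_basicOpen_τ 𝒮 f hf j i ⟨r' x, hi⟩).mp hx'.2

include hθ hgen in
theorem appLE_τ_eq (i j : κ) :
    (r.app (D 𝒮 f j)).hom (τ 𝒮 f hf i j) =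
      (r'.appLE (D 𝒮 f j) (r ⁻¹ᵁ D 𝒮 f j) (preimage_D_le 𝒮 f hf hgen r r' θ hθ j)).hom (τ 𝒮 f hf i j) := by
  have hle := preimage_D_le 𝒮 f hf hgen r r' θ hθ j
  have hgen' : IsGen ((pullback r').obj (twist 𝒮 1)) (r ⁻¹ᵁ D 𝒮 f j)
      (θ.hom.app (r ⁻¹ᵁ D 𝒮 f j) (s 𝒮 f hf r j)) :=
    (isGen_s 𝒮 f hf hgen r j).of_iso θ
  apply (IsGen.bijective_self hgen').1
  dsimp only
  have h1 : θ.hom.app (r ⁻¹ᵁ D 𝒮 f j)
      (((pullback r).obj (twist 𝒮 1)).presheaf.map (homOfLE (le_top : r ⁻¹ᵁ D 𝒮 f j ≤ ⊤)).op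
        (ProjUP.pullSec r (twist 𝒮 1) (sec 𝒮 f hf i))) =
      ((pullback r').obj (twist 𝒮 1)).presheaf.map (homOfLE (le_top : r ⁻¹ᵁ D 𝒮 f j ≤ ⊤)).op
        (ProjUP.pullSec r' (twist 𝒮 1) (sec 𝒮 f hf i)) := by
    rw [app_res, hθ i]
  rw [pullSec_coord_res 𝒮 f hf r i j, Scheme.Modules.Hom.app_smul] at h1
  rw [h1, pullSec_res_le 𝒮 f hf r' i j hle, tau_s 𝒮 f hf r r' θ hθ j]
  congr 1
  have h2 := unitV_res r' (twist 𝒮 1) (le_top : D 𝒮 f j ≤ ⊤) (sec 𝒮 f hf j)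
  have h3 : s 𝒮 f hf r' j = ((pullback r').obj (twist 𝒮 1)).presheaf.map
      (homOfLE (le_top : r' ⁻¹ᵁ D 𝒮 f j ≤ ⊤)).op (ProjUP.pullSec r' (twist 𝒮 1) (sec 𝒮 f hf j)) := h2
  rw [h3]
  exact Groth.Agent.Lib.UnitBaseChange.presheaf_map_map _ _ _ _ _

include hθ hgen in
theorem appLE_eq (hrr' : r ≫ structMap 𝒮 = r' ≫ structMap 𝒮) (j : κ) :
    r.appLE (D 𝒮 f j) (r ⁻¹ᵁ D 𝒮 f j) le_rfl =
      r'.appLE (D 𝒮 f j) (r ⁻¹ᵁ D 𝒮 f j) (preimage_D_le 𝒮 f hf hgen r r' θ hθ j) := by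
  have hle := preimage_D_le 𝒮 f hf hgen r r' θ hθ j
  ext1
  refine hom_ext_D 𝒮 f hf hgen j _ _ (fun c => ?_) (fun i => ?_)
  · rw [Scheme.Hom.appLE_eq_app]
    rw [← toGlobal_res 𝒮 f r _ rfl j c]
    have h2 := toGlobal_res 𝒮 f r' _ hrr'.symm j c
    have h3 := congrArg (X.presheaf.map (homOfLE hle).op).hom h2
    have h4 := resO_resO X hle (le_top : r' ⁻¹ᵁ D 𝒮 f j ≤ ⊤)
      (ProjUP.toGlobal (r ≫ structMap 𝒮) c)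
    exact h4.symm.trans h3
  · rw [Scheme.Hom.appLE_eq_app]
    exact appLE_τ_eq 𝒮 f hf hgen r r' θ hθ i j

include hθ hgen in
/-- **Uniqueness in the universal property of `Proj 𝒮`** (`S` generated in degree one, EGA II 4.2.3). -/
theorem hom_ext_of_iso (hrr' : r ≫ structMap 𝒮 = r' ≫ structMap 𝒮) : r = r' := by
  refine Scheme.hom_ext_of_forall _ _ fun x => ?_
  obtain ⟨j, hj⟩ := exists_mem_D 𝒮 f hf hgen (r x)
  refine ⟨r ⁻¹ᵁ D 𝒮 f j, hj, ?_⟩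
  rw [Groth.Agent.Lib.AffAlgH3.ι_comp_eq r (isAffineOpen_D 𝒮 f hf j) (r ⁻¹ᵁ D 𝒮 f j) le_rfl,
    Groth.Agent.Lib.AffAlgH3.ι_comp_eq r' (isAffineOpen_D 𝒮 f hf j) (r ⁻¹ᵁ D 𝒮 f j)
      (preimage_D_le 𝒮 f hf hgen r r' θ hθ j),
    appLE_eq 𝒮 f hf hgen r r' θ hθ hrr' j]

end Uniq

end Groth.Agent.Lib.ProjGenUniqH3
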