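/-
helper3: existence part of the universal property of `Proj 𝒮` for a graded `A`-algebra generated by degree-one
elements `f k` (EGA II 4.2.3): given an invertible module `L` on an `A`-scheme `X` with generating sections `s k` and
ring maps `Φ i : S →+* Γ(X, U_i)` (`U_i` = generating locus of `s i`) with `Φ i (f k) = s k / s i` and the right
constants, there is an `A`-morphism `r : X ⟶ Proj 𝒮` with `r^*O(1) ≅ L`, `r^* f k ↦ s k`.  General analogue of
`Lib/ProjSpaceExistH3`; `exists_hom`, `comp_structMap`, `exists_iso`.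
-/
import Groth.Agent.Lib.ProjSpaceExistH3
import Groth.Agent.Lib.ProjGenUniqH3

set_option autoImplicit false
set_option linter.style.haveILetI false
universe u
open CategoryTheory AlgebraicGeometry TopologicalSpace Opposite Twist HomogeneousLocalization
open AlgebraicGeometry.Scheme.Modules
open Groth.Agent.Lib.H90Invertible Groth.Agent.Lib.H4Twist Groth.Agent.Lib
open Groth.Agent.Lib.PullSecH3 Groth.Agent.Lib.ProjGenCoordH3 Groth.Agent.Lib.QCohStalk
open Groth.Agent.Lib.ProjGenUniqH3 Groth.Agent.Lib.ProjSpaceExistH3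
open Groth.Agent.Lib.H78TensorGen Groth.Agent.Lib.H78SecCoord Groth.Agent.Lib.H78Atlas
open Groth.Agent.Lib.GenCoverH3 Groth.Agent.Lib.AwayLiftH3 Groth.Agent.Lib.ProjChartH3
open Groth.Agent.Lib.ModIsoGlueH3 Groth.Agent.Lib.GradedHomH3

namespace Groth.Agent.Lib.ProjGenExistH3

variable {A S : Type u} [CommRing A] [CommRing S] [Algebra A S] (𝒮 : ℕ → Submodule A S) [GradedAlgebra 𝒮]
  {κ : Type*} (f : κ → S) (hf : ∀ k, f k ∈ 𝒮 1) (hgen : Algebra.adjoin A (Set.range f) = ⊤)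
  {X : Scheme.{u}} (q : X ⟶ Spec (CommRingCat.of A)) {L : X.Modules} (s : κ → Γ(L, ⊤))
  (Φ : ∀ i, S →+* Γ(X, U s i))
  (hΦ0 : ∀ i c, Φ i (algebraMap A S c) = ρ q (U s i) c)
  (hΦ1 : ∀ i k, Φ i (f k) = ratio s i k)

include hΦ1 in
theorem isUnit_Φ (i : κ) : IsUnit (Φ i (f i)) := by
  rw [hΦ1, ratio_self]; exact isUnit_one

include hgen hf hΦ0 hΦ1 in
theorem scale (i j : κ) (m : ℕ) (a : S) (ha : a ∈ 𝒮 m) :
    (X.presheaf.map (homOfLE (inf_le_right : U s i ⊓ U s j ≤ U s j)).op).hom (Φ j a) =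
      rf (inf_le_right : U s i ⊓ U s j ≤ U s j) (ratio s j i) ^ m *
        (X.presheaf.map (homOfLE (inf_le_left : U s i ⊓ U s j ≤ U s i)).op).hom (Φ i a) := by
  refine scaling_of_gen 𝒮 f hgen hf
    ((X.presheaf.map (homOfLE (inf_le_left : U s i ⊓ U s j ≤ U s i)).op).hom.comp (Φ i))
    ((X.presheaf.map (homOfLE (inf_le_right : U s i ⊓ U s j ≤ U s j)).op).hom.comp (Φ j))
    (rf (inf_le_right : U s i ⊓ U s j ≤ U s j) (ratio s j i)) (fun c => ?_) (fun k => ?_) m a ha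
  · rw [RingHom.comp_apply, RingHom.comp_apply, hΦ0, hΦ0, ← RingHom.comp_apply, ← RingHom.comp_apply,
      res_comp_ρ, res_comp_ρ]
  · rw [RingHom.comp_apply, RingHom.comp_apply, hΦ1, hΦ1, mul_comm]
    exact ratio_mul s i j k

section Main

variable (hL : PicF.IsInvertible L) (hs : ProjUP.GeneratedBy L s)

include hL hs hgen hf hΦ0 in
/-- the morphism to `Proj 𝒮` glued from the charts -/
theorem exists_hom :
    ∃ r : X ⟶ Proj 𝒮, ∀ i, (U s i).ι ≫ r =
      chart 𝒮 (hf i) Nat.one_pos (U s i) (awayLift 𝒮 (f i) (Φ i) (isUnit_Φ f s Φ hΦ1 i)) :=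
  exists_glue (U s) (iSup_U_eq_top s hL hs) f (fun _ => 1) hf
    (fun _ => Nat.one_pos) Φ (isUnit_Φ f s Φ hΦ1)
    (fun i j => rf (inf_le_right : U s i ⊓ U s j ≤ U s j) (ratio s j i))
    (scale 𝒮 f hf hgen q s Φ hΦ0 hΦ1)

variable (r : X ⟶ Proj 𝒮)
  (hr : ∀ i, (U s i).ι ≫ r =
      chart 𝒮 (hf i) Nat.one_pos (U s i) (awayLift 𝒮 (f i) (Φ i) (isUnit_Φ f s Φ hΦ1 i)))

include hr in
theorem le_preimage (i : κ) : U s i ≤ r ⁻¹ᵁ D 𝒮 f i := by
  intro x hx
  let y : ((U s i : X.Opens) : Scheme.{u}) := ⟨x, hx⟩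
  have h1 := chart_mem_basicOpen (hf i) Nat.one_pos (U s i)
    (awayLift 𝒮 (f i) (Φ i) (isUnit_Φ f s Φ hΦ1 i)) y
  rw [← hr i] at h1
  have h2 : ((U s i).ι ≫ r) y = r x := Scheme.Hom.comp_apply _ _ _
  rw [h2] at h1
  exact h1

include hr in
theorem appLE_τ (i k : κ) :
    (r.appLE (D 𝒮 f i) (U s i) (le_preimage 𝒮 f hf s Φ hΦ1 r hr i)).hom (τ 𝒮 f hf k i) = ratio s i k := by
  have h1 := appLE_of_ι_comp_eq_chart (hf i) Nat.one_pos (U s i) _ r (hr i)
    (le_preimage 𝒮 f hf s Φ hΦ1 r hr i) (Away.mk 𝒮 (hf i) 1 (f k) (mem_smul_one 𝒮 (hf k)))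
  refine h1.trans ?_
  have h2 := awayLift_mk_mul (Φ i) (isUnit_Φ f s Φ hΦ1 i) (hf i) 1 (f k) (mem_smul_one 𝒮 (hf k))
  rw [hΦ1, hΦ1, ratio_self, one_pow, mul_one] at h2
  exact h2

include hL hs hr hΦ0 in
theorem comp_structMap : r ≫ Proj.toSpecZero 𝒮 ≫
    Spec.map (CommRingCat.ofHom (algebraMap A (𝒮 0))) = q := by
  refine hom_ext_of_iSup_eq_top (U s) (iSup_U_eq_top s hL hs) _ _ (fun i => ?_)
  rw [← Category.assoc, hr i, ι_comp_eq_toSpecΓ q (U s i)]
  rw [← Category.assoc, chart_toSpecZero, Category.assoc, ← Spec.map_comp]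
  congr 2
  ext c
  change awayLift 𝒮 (f i) (Φ i) (isUnit_Φ f s Φ hΦ1 i)
    (algebraMap (𝒮 0) (Away 𝒮 (f i)) (algebraMap A (𝒮 0) c)) = ρ q (U s i) c
  rw [awayLift_fromZero]
  exact hΦ0 i c

include hL hs hr hgen in
/-- **Existence in the universal property of `Proj 𝒮`**: the isomorphism `r^*O(1) ≅ L`. -/
theorem exists_iso :
    ∃ φ : (pullback r).obj (twist 𝒮 1) ≅ L, ∀ k,
      φ.hom.app ⊤ (ProjUP.pullSec r (twist 𝒮 1) (sec 𝒮 f hf k)) = s k := by
  have hle := le_preimage 𝒮 f hf s Φ hΦ1 r hr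
  have hres : ∀ i k, rs ((pullback r).obj (twist 𝒮 1)) (le_top : U s i ≤ ⊤)
      (ProjUP.pullSec r (twist 𝒮 1) (sec 𝒮 f hf k)) =
      ratio s i k • rs ((pullback r).obj (twist 𝒮 1)) (hle i) (ProjGenUniqH3.s 𝒮 f hf r i) := by
    intro i k
    have := pullSec_res_le 𝒮 f hf r k i (hle i)
    rw [appLE_τ 𝒮 f hf s Φ hΦ1 r hr i k] at this
    exact this
  have hgen' : ∀ i, rs ((pullback r).obj (twist 𝒮 1)) (le_top : U s i ≤ ⊤)
      (ProjUP.pullSec r (twist 𝒮 1) (sec 𝒮 f hf i)) =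
      rs ((pullback r).obj (twist 𝒮 1)) (hle i) (ProjGenUniqH3.s 𝒮 f hf r i) := by
    intro i
    rw [hres i i, ratio_self, one_smul]
  refine exists_iso_of_ratios (iSup_U_eq_top s hL hs)
    (t := fun k => ProjUP.pullSec r (twist 𝒮 1) (sec 𝒮 f hf k)) (s := s) (fun i => ?_) (isGen_U s)
    (ratio s) (fun i k => ?_) (ratio_spec s)
  · rw [hgen' i]
    exact (isGen_s 𝒮 f hf hgen r i).mono (hle i)
  · rw [hres i k, hgen' i]

end Main

section Sym

variable {A S : Type u} [CommRing A] [CommRing S] [Algebra A S]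
  {M : Type*} [AddCommGroup M] [Module A M] {ι : M →ₗ[A] S} (hsym : IsSymmetricAlgebra ι)
  {X : Scheme.{u}} (q : X ⟶ Spec (CommRingCat.of A)) {L : X.Modules}
  (v : M →+ Γ(L, ⊤)) (hv : ∀ (a : A) (m : M), v (a • m) = ProjUP.toGlobal q a • v m)

theorem ratio_add (i m m' : M) :
    ratio (fun m => v m) i (m + m') = ratio (fun m => v m) i m + ratio (fun m => v m) i m' := by
  symm
  apply ratio_unique
  have hadd : ∀ (z z' : Γ(L, ⊤)), rs L (le_top : U (fun m => v m) i ≤ ⊤) (z + z') =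
      rs L le_top z + rs L le_top z' :=
    fun z z' => map_add (L.presheaf.map (homOfLE (le_top : U (fun m => v m) i ≤ ⊤)).op).hom z z'
  rw [map_add, hadd, add_smul]
  congr 1
  · exact ratio_spec (fun m => v m) i m
  · exact ratio_spec (fun m => v m) i m'

include hv in
theorem ratio_smul (i : M) (a : A) (m : M) :
    ratio (fun m => v m) i (a • m) =
      ρ q (U (fun m => v m) i) a * ratio (fun m => v m) i m := by
  symm
  apply ratio_unique
  rw [hv, rs_smul, mul_smul]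
  congr 1
  exact ratio_spec (fun m => v m) i m

/-- the ring map `S = Sym M → Γ(X, U_i)`, `ι m ↦ v m / v i` -/
noncomputable def symΦ (i : M) : S →+* Γ(X, U (fun m => v m) i) :=
  letI : Algebra A Γ(X, U (fun m => v m) i) := (ρ q (U (fun m => v m) i)).toAlgebra
  (hsym.lift
    { toFun := fun m => ratio (fun m => v m) i m
      map_add' := ratio_add v i
      map_smul' := fun a m => by
        rw [ratio_smul q v hv i a m]
        rfl }).toRingHom

theorem symΦ_algebraMap (i : M) (c : A) :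
    symΦ hsym q v hv i (algebraMap A S c) = ρ q (U (fun m => v m) i) c := by
  letI : Algebra A Γ(X, U (fun m => v m) i) := (ρ q (U (fun m => v m) i)).toAlgebra
  unfold symΦ
  exact AlgHom.commutes _ c

theorem symΦ_ι (i k : M) : symΦ hsym q v hv i (ι k) = ratio (fun m => v m) i k := by
  letI : Algebra A Γ(X, U (fun m => v m) i) := (ρ q (U (fun m => v m) i)).toAlgebra
  unfold symΦ
  exact hsym.lift_eq _ k

include hsym in
theorem adjoin_range_eq_top : Algebra.adjoin A (Set.range (fun m : M => ι m)) = ⊤ := by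
  rw [eq_top_iff]
  intro a _
  induction a using hsym.induction with
  | algebraMap c => exact Subalgebra.algebraMap_mem _ c
  | ι x => exact Algebra.subset_adjoin ⟨x, rfl⟩
  | mul a b ha hb => exact mul_mem (ha trivial) (hb trivial)
  | add a b ha hb => exact add_mem (ha trivial) (hb trivial)

end Sym

end Groth.Agent.Lib.ProjGenExistH3
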