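import Groth.Agent.Lib.ProjIntegral
import Mathlib.RingTheory.GradedAlgebra.Radical

/-!
# Converse integrality statements for `Proj`

* `essentially_integral_of_isIntegral`: if `Proj 𝒜` is integral and `𝒜` is essentially reduced, then
  the irrelevant ideal is nonzero and has no zero divisors.
* `isDomain_of_homogeneous`: a graded ring is a domain as soon as the product of two nonzero
  homogeneous elements is nonzero.
* `away_nontrivial`: `A_(y)` is nontrivial when `y` is not nilpotent.
* `fromZeroRingHom_eq_zero`: `a/1 = 0` in `A_(y)` when `a * y = 0`.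
-/

set_option autoImplicit false

universe u

open CategoryTheory AlgebraicGeometry HomogeneousLocalization
open scoped HomogeneousIdeal

namespace Groth.Agent.Lib.ProjIntegral

variable {σ : Type*} {A : Type u} [CommRing A] [SetLike σ A] [AddSubgroupClass σ A]
variable (𝒜 : ℕ → σ) [GradedRing 𝒜]

theorem essentially_integral_of_isIntegral
    (hred : ∀ f ∈ (HomogeneousIdeal.irrelevant 𝒜).toIdeal, IsNilpotent f → f = 0)
    [hint : AlgebraicGeometry.IsIntegral (Proj 𝒜)] :
    (∃ f ∈ (HomogeneousIdeal.irrelevant 𝒜).toIdeal, f ≠ 0) ∧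
      ∀ f ∈ (HomogeneousIdeal.irrelevant 𝒜).toIdeal, ∀ g ∈ (HomogeneousIdeal.irrelevant 𝒜).toIdeal,
        f * g = 0 → f = 0 ∨ g = 0 := by
  classical
  have hpt : ∀ f ∈ (HomogeneousIdeal.irrelevant 𝒜).toIdeal, f ≠ 0 →
      ∃ p : ProjectiveSpectrum 𝒜, f ∉ p.asHomogeneousIdeal := by
    intro f hf hf0
    have hnil : f ∉ (⊥ : Ideal A).radical := by
      rintro ⟨n, hn⟩
      exact hf0 (hred f hf ⟨n, by simpa using hn⟩)
    obtain ⟨p, -, hp⟩ := Groth.Agent.Lib.ProjNull.exists_point_of_not_mem_radical 𝒜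
      (Ideal.IsHomogeneous.bot 𝒜) hf hnil
    exact ⟨p, hp⟩
  have hne : Nonempty (ProjectiveSpectrum 𝒜) := hint.nonempty
  refine ⟨?_, ?_⟩
  · by_contra! H
    have : IsEmpty (ProjectiveSpectrum 𝒜) := by
      rw [Groth.Agent.Lib.ProjNull.isEmpty_projectiveSpectrum_iff]
      intro f hf
      rw [H f hf]
      exact IsNilpotent.zero
    exact this.false hne.some
  · intro f hf g hg hfg
    by_contra! H
    obtain ⟨p, hp⟩ := hpt f hf H.1
    obtain ⟨q, hq⟩ := hpt g hg H.2
    have hirr : IrreducibleSpace (Proj 𝒜) := inferInstance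
    obtain ⟨x, hx1, hx2⟩ := nonempty_preirreducible_inter
      (Proj.basicOpen 𝒜 f).2 (Proj.basicOpen 𝒜 g).2 ⟨p, hp⟩ ⟨q, hq⟩
    have : x ∈ Proj.basicOpen 𝒜 (f * g) := by
      rw [Proj.basicOpen_mul]
      exact ⟨hx1, hx2⟩
    rw [hfg, Proj.basicOpen_zero] at this
    exact this

theorem isDomain_of_homogeneous [Nontrivial A]
    (h : ∀ {x y : A}, SetLike.IsHomogeneousElem 𝒜 x → SetLike.IsHomogeneousElem 𝒜 y →
      x * y = 0 → x = 0 ∨ y = 0) : IsDomain A := by
  have hp : (⊥ : Ideal A).IsPrime := by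
    refine Ideal.IsHomogeneous.isPrime_of_homogeneous_mem_or_mem (𝒜 := 𝒜)
      (Ideal.IsHomogeneous.bot 𝒜) bot_ne_top ?_
    intro x y hx hy hxy
    simpa using h hx hy (by simpa using hxy)
  exact IsDomain.of_bot_isPrime A


variable {𝒜}

theorem away_nontrivial {y : A} (hnil : ¬ IsNilpotent y) :
    Nontrivial (Away 𝒜 y) := by
  by_contra H
  rw [not_nontrivial_iff_subsingleton] at H
  have h1 : (1 : Away 𝒜 y) = 0 := Subsingleton.elim _ _
  have h2 := congrArg HomogeneousLocalization.val h1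
  rw [HomogeneousLocalization.val_one, HomogeneousLocalization.val_zero] at h2
  have h3 : (algebraMap A (Localization.Away y)) 1 = 0 := by rw [map_one]; exact h2
  rw [IsLocalization.map_eq_zero_iff (Submonoid.powers y)] at h3
  obtain ⟨⟨_, k, rfl⟩, hk⟩ := h3
  exact hnil ⟨k, by simpa using hk⟩

theorem fromZeroRingHom_eq_zero {y : A} (a : 𝒜 0) (h : (a : A) * y = 0) :
    fromZeroRingHom 𝒜 (.powers y) a = 0 := by
  apply HomogeneousLocalization.val_injective
  rw [HomogeneousLocalization.val_zero]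
  change Localization.mk (a : A) 1 = 0
  rw [Localization.mk_eq_mk', IsLocalization.mk'_eq_zero_iff]
  exact ⟨⟨y, 1, pow_one y⟩, by rw [mul_comm]; exact h⟩

end Groth.Agent.Lib.ProjIntegral
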