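/-
Lifting finite projective modules along `A → A/I` from lifting of coprime factorizations
(charpoly trick + idempotent from a factorization).
Author: helper89
-/
import Groth.Agent.Lib.EtaleFactor
import Groth.Agent.Lib.IdemPres
import Mathlib.LinearAlgebra.Matrix.Charpoly.Coeff
import Mathlib.LinearAlgebra.Matrix.Charpoly.Basic

set_option autoImplicit false
universe u

namespace Groth.Agent.Lib.ProjLift

open TensorProduct Polynomial

/-- If monic polynomials congruent to `X^(d+1) (X-1)^(d+1)` modulo `I` factor compatibly over `A`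
(with a Bézout relation), every finite projective `A/I`-module lifts to a finite projective
`A`-module. -/
theorem exists_lift_of_factorization {A : Type u} [CommRing A] (I : Ideal A) (Q : Type u)
    [AddCommGroup Q] [Module (A ⧸ I) Q] [Module.Finite (A ⧸ I) Q] [Module.Projective (A ⧸ I) Q]
    (hfac : ∀ (F : A[X]) (d : ℕ), F.Monic →
      F.map (Ideal.Quotient.mk I) = X ^ (d + 1) * (X - 1) ^ (d + 1) →
      ∃ G H U V : A[X], F = G * H ∧ U * G + V * H = 1 ∧
        (∀ i, (G - X ^ (d + 1)).coeff i ∈ I) ∧ (∀ i, (H - (X - 1) ^ (d + 1)).coeff i ∈ I)) :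
    ∃ (P : Type u) (_ : AddCommGroup P) (_ : Module A P), Module.Finite A P ∧
      Module.Projective A P ∧ Nonempty ((A ⧸ I) ⊗[A] P ≃ₗ[A ⧸ I] Q) := by
  classical
  rcases subsingleton_or_nontrivial A with hA | hA
  · have hq0 : Subsingleton (A ⧸ I) := inferInstance
    refine ⟨PUnit.{u + 1}, inferInstance, inferInstance, inferInstance, inferInstance, ?_⟩
    have h1 : Subsingleton ((A ⧸ I) ⊗[A] PUnit.{u + 1}) := Module.subsingleton (A ⧸ I) _
    have h2 : Subsingleton Q := Module.subsingleton (A ⧸ I) _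
    exact ⟨LinearEquiv.ofSubsingleton _ _⟩
  obtain ⟨n, pbar, hpres⟩ := Groth.Agent.Lib.IdemPres.exists_pres (R := A ⧸ I) Q
  have hpbar : pbar * pbar = pbar := hpres.idem
  choose φ hφ using fun i j => Ideal.Quotient.mk_surjective (pbar i j)
  let Φ : Matrix (Fin n) (Fin n) A := Matrix.of φ
  have hΦ : Φ.map (Ideal.Quotient.mk I) = pbar := by
    ext i j
    exact hφ i j
  let ψ : Matrix (Fin n) (Fin n) A := Φ * Φ - Φ
  have hψ : ψ.map (Ideal.Quotient.mk I) = 0 := by
    show (Φ * Φ - Φ).map (Ideal.Quotient.mk I) = 0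
    rw [Matrix.map_sub (f := Ideal.Quotient.mk I) (map_sub _), Matrix.map_mul, hΦ, hpbar, sub_self]
  have hψI : ∀ i j, ψ i j ∈ I := by
    intro i j
    have := congrFun (congrFun hψ i) j
    rwa [Matrix.map_apply, Matrix.zero_apply, Ideal.Quotient.eq_zero_iff_mem] at this
  have hQm : (X ^ 2 - X : A[X]).Monic := by
    apply monic_X_pow_sub
    rw [degree_X]
    norm_num
  have hQdeg : (X ^ 2 - X : A[X]).natDegree ≠ 0 := by
    rw [natDegree_sub_eq_left_of_natDegree_lt] <;> simp
  set F : A[X] := (X ^ 2 - X) * ψ.charpoly.comp (X ^ 2 - X) with hF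
  have hFm : F.Monic := hQm.mul ((Matrix.charpoly_monic ψ).comp hQm hQdeg)
  have hF0 : aeval Φ F = 0 := by
    rw [hF, map_mul, aeval_comp]
    have : aeval Φ (X ^ 2 - X : A[X]) = ψ := by
      simp [ψ, pow_two]
    rw [this, Matrix.aeval_self_charpoly, mul_zero]
  have hFmap : F.map (Ideal.Quotient.mk I) = X ^ (n + 1) * (X - 1) ^ (n + 1) := by
    rw [hF, Polynomial.map_mul, Polynomial.map_comp, ← Matrix.charpoly_map, hψ,
      Matrix.charpoly_zero]
    simp only [Polynomial.map_sub, Polynomial.map_pow, Polynomial.map_X, X_pow_comp,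
      Fintype.card_fin]
    rw [← pow_succ', ← mul_pow]
    congr 1
    ring
  obtain ⟨G, H, U, V, hFGH, hUV, hcoefG, hcoefH⟩ := hfac F n hFm hFmap
  let N : Submodule A (Matrix (Fin n) (Fin n) A) :=
    { carrier := {M | ∀ i j, M i j ∈ I}
      zero_mem' := fun i j => I.zero_mem
      add_mem' := fun {x y} hx hy i j => I.add_mem (hx i j) (hy i j)
      smul_mem' := fun a x hx i j => I.mul_mem_left a (hx i j) }
  have hNmem : ∀ x, x ∈ N ↔ ∀ i j, x i j ∈ I := fun x => Iff.rfl
  have hNl : ∀ x ∈ N, ∀ y : Matrix (Fin n) (Fin n) A, y * x ∈ N := by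
    intro x hx y i j
    rw [Matrix.mul_apply]
    exact I.sum_mem fun k _ => I.mul_mem_left _ (hx k j)
  have hNr : ∀ x ∈ N, ∀ y : Matrix (Fin n) (Fin n) A, x * y ∈ N := by
    intro x hx y i j
    rw [Matrix.mul_apply]
    exact I.sum_mem fun k _ => I.mul_mem_right _ (hx i k)
  have h𝔞 : ∀ a ∈ I, ∀ y : Matrix (Fin n) (Fin n) A, a • y ∈ N := by
    intro a ha y i j
    rw [Matrix.smul_apply, smul_eq_mul]
    exact I.mul_mem_right _ ha
  have hβ : Φ * Φ - Φ ∈ N := fun i j => hψI i j
  have hGH0 : aeval Φ (G * H) = 0 := by rw [← hFGH, hF0]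
  obtain ⟨hidem, hmem⟩ := Groth.Agent.Lib.EtaleFactor.idem_of_factorization I N
    hNl hNr h𝔞 Φ hβ G H U V (n + 1) (Nat.le_add_left 1 n) hUV hGH0 hcoefG hcoefH
  set e' : Matrix (Fin n) (Fin n) A := aeval Φ (U * G) with he'
  have hidem' : e' * e' = e' := hidem
  have hP' := Groth.Agent.Lib.IdemPres.pres_range e' hidem'
  refine ⟨LinearMap.range (Matrix.toLin' e'), inferInstance, inferInstance,
    Groth.Agent.Lib.IdemPres.finite_range e', Groth.Agent.Lib.IdemPres.projective_of_pres hP', ?_⟩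
  have h1 := hP'.baseChange (A ⧸ I)
  have h3 : e'.map (algebraMap A (A ⧸ I)) = pbar := by
    ext i j
    rw [Matrix.map_apply, ← hφ i j, Ideal.Quotient.algebraMap_eq]
    have := (hNmem _).mp hmem i j
    rw [Matrix.sub_apply] at this
    rw [← sub_eq_zero, ← map_sub, Ideal.Quotient.eq_zero_iff_mem]
    exact this
  rw [h3] at h1
  exact h1.nonempty_equiv hpres

end Groth.Agent.Lib.ProjLift
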