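/-
# Pullback of `O(d)` along `Proj.map ψ` (helper3)

For a graded ring homomorphism `ψ : 𝒜 →+*ᵍ ℬ` (with `ℬ₊ ≤ 𝒜₊.map ψ`) and a family `f i ∈ 𝒜 1` whose images `ψ (f i)`
cover `Proj ℬ`: `(Proj.map ψ)^* O_𝒜(d) ≅ O_ℬ(d)` for `d ≥ 0` (`nonempty_pullback_map_twist_iso`), sending the
pullback of `f_k^d/1` to `ψ(f_k)^d/1`.  Generalises helper90's `H90ProjBC.nonempty_pullback_twist_iso` (base change).
-/
import Groth.Agent.Lib.H90TwistBC
import Groth.Agent.Lib.TwistNumSecH3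

set_option autoImplicit false
set_option linter.style.haveILetI false
set_option linter.unusedSectionVars false
universe u
open CategoryTheory CategoryTheory.Limits AlgebraicGeometry TopologicalSpace Opposite Twist HomogeneousLocalization
open Groth.Agent.Lib.H90Invertible Groth.Agent.Lib.H4Twist Groth.Agent.Lib
open Groth.Agent.Lib.PullSecH3 Groth.Agent.Lib.H90ProjBC
open Groth.Agent.Lib.H78TensorGen Groth.Agent.Lib.H78Atlas

namespace Groth.Agent.Lib.ProjMapTwistH3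

variable {R R' A B : Type u} [CommRing R] [CommRing R'] [CommRing A] [CommRing B] [Algebra R A] [Algebra R' B]
  {𝒜 : ℕ → Submodule R A} [GradedAlgebra 𝒜] {ℬ : ℕ → Submodule R' B} [GradedAlgebra ℬ]
  (ψ : 𝒜 →+*ᵍ ℬ) (hirr : HomogeneousIdeal.irrelevant ℬ ≤ (HomogeneousIdeal.irrelevant 𝒜).map ψ)
  {ι : Type*} (f : ι → A) (hf : ∀ i, f i ∈ 𝒜 1)
  (hcov : ∀ y : ProjectiveSpectrum ℬ, ∃ i, ψ (f i) ∉ y.asHomogeneousIdeal)
  (hcovA : ∀ x : ProjectiveSpectrum 𝒜, ∃ i, f i ∉ x.asHomogeneousIdeal) (d : ℕ)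

theorem one_smul_one_mem {a : A} (ha : a ∈ 𝒜 1) : a ∈ 𝒜 (1 • 1) := ha

include hf in
theorem pow_memA (k : ι) : f k ^ d ∈ 𝒜 d := pow_mem_of_one 𝒜 (hf k) d

include hf in
theorem ψ_mem (k : ι) : ψ (f k) ∈ ℬ 1 := ψ.map_mem (hf k)

include hf in
theorem pow_memB (k : ι) : ψ (f k) ^ d ∈ ℬ d := pow_mem_of_one ℬ (ψ_mem ψ f hf k) d

/-- `f_k^d`, a global section of `O_𝒜(d)` -/
noncomputable def sA (k : ι) : Γ(twist 𝒜 (d : ℤ), ⊤) := numSec (pow_memA f hf d k) (d : ℤ) rfl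

/-- `ψ(f_k)^d`, a global section of `O_ℬ(d)` -/
noncomputable def sB (k : ι) : Γ(twist ℬ (d : ℤ), ⊤) := numSec (pow_memB ψ f hf d k) (d : ℤ) rfl

/-- the chart `D₊(f_i)` -/
noncomputable abbrev DA (i : ι) : (Proj 𝒜).Opens := Proj.basicOpen 𝒜 (f i)

/-- the chart `(Proj.map ψ)⁻¹ D₊(f_i) = D₊(ψ f_i)` -/
noncomputable abbrev UB (i : ι) : (Proj ℬ).Opens := Proj.map ψ hirr ⁻¹ᵁ DA f i

theorem UB_eq (i : ι) : UB ψ hirr f i = Proj.basicOpen ℬ (ψ (f i)) := rfl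

include hcov in
theorem iSup_UB : ⨆ i, UB ψ hirr f i = ⊤ := by
  rw [eq_top_iff]
  intro y _
  obtain ⟨j, hj⟩ := hcov y
  exact Opens.mem_iSup.mpr ⟨j, hj⟩

/-- `f_k / f_i` on `D₊(f_i)` -/
noncomputable def τ (k i : ι) : Γ(Proj 𝒜, DA f i) :=
  (Proj.awayToSection 𝒜 (f i)).hom (Away.mk 𝒜 (hf i) 1 (f k) (one_smul_one_mem (hf k)))

theorem oval_τ (k i : ι) (y : DA f i) :
    oval (τ f hf k i) y = (Localization.mk (f k) ⟨f i, y.2⟩ : Loc 𝒜 y.1) := by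
  unfold τ
  rw [oval_awayToSection_mk]
  congr 1
  exact Subtype.ext (pow_one _)

/-- the ratio `(f_k/f_i)^d` pulled back to the chart -/
noncomputable def aB (i k : ι) : Γ(Proj ℬ, UB ψ hirr f i) :=
  ((Proj.map ψ hirr).app (DA f i)).hom (τ f hf k i ^ d)

theorem oval_app_τ (i k : ι) (y : UB ψ hirr f i) :
    oval (((Proj.map ψ hirr).app (DA f i)).hom (τ f hf k i)) y =
      (Localization.mk (ψ (f k)) ⟨ψ (f i), y.2⟩ : Loc ℬ y.1) := by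
  have h := Proj.awayToSection_comp_appLE ψ hirr (hf i)
  have h2 := congrArg (fun φ => φ.hom (Away.mk 𝒜 (hf i) 1 (f k) (one_smul_one_mem (hf k)))) h
  simp only [CommRingCat.hom_comp, RingHom.comp_apply, CommRingCat.hom_ofHom, Away.map_mk] at h2
  have h3 : ((Proj.map ψ hirr).app (DA f i)).hom (τ f hf k i) =
      (Scheme.Hom.appLE (Proj.map ψ hirr) (Proj.basicOpen 𝒜 (f i))
        (Proj.basicOpen ℬ (ψ (f i))) (by rfl)).hom
        ((Proj.awayToSection 𝒜 (f i)).hom (Away.mk 𝒜 (hf i) 1 (f k) (one_smul_one_mem (hf k)))) := by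
    rw [Scheme.Hom.app_eq_appLE]
    rfl
  rw [h3, h2]
  have h4 := oval_awayToSection_mk (𝒜 := ℬ) (ψ_mem ψ f hf i) 1 (ψ (f k))
    (one_smul_one_mem (ψ_mem ψ f hf k)) y
  refine h4.trans ?_
  congr 1
  exact Subtype.ext (pow_one _)

theorem oval_aB (i k : ι) (y : UB ψ hirr f i) :
    oval (aB ψ hirr f hf d i k) y =
      (Localization.mk (ψ (f k)) ⟨ψ (f i), y.2⟩ : Loc ℬ y.1) ^ d := by
  unfold aB
  rw [map_pow, oval_pow, oval_app_τ]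

theorem hsa (i k : ι) :
    rs (twist ℬ (d : ℤ)) (le_top : UB ψ hirr f i ≤ ⊤) (sB ψ f hf d k) =
      aB ψ hirr f hf d i k • rs (twist ℬ (d : ℤ)) (le_top : UB ψ hirr f i ≤ ⊤) (sB ψ f hf d i) := by
  refine H4Twist.sec_ext fun y => ?_
  have hp : (y.1.asHomogeneousIdeal.toIdeal).IsPrime := y.1.isPrime
  rw [sval_smul, oval_aB]
  exact (mk_pow_mul_mk (M := y.1.asHomogeneousIdeal.toIdeal.primeCompl) (ψ (f k))
    ⟨ψ (f i), y.2⟩ d).symm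

theorem htaA (i k : ι) :
    rs (twist 𝒜 (d : ℤ)) (le_top : DA f i ≤ ⊤) (sA f hf d k) =
      (τ f hf k i ^ d) • rs (twist 𝒜 (d : ℤ)) (le_top : DA f i ≤ ⊤) (sA f hf d i) := by
  refine H4Twist.sec_ext fun y => ?_
  have hp : (y.1.asHomogeneousIdeal.toIdeal).IsPrime := y.1.isPrime
  rw [sval_smul, oval_pow, oval_τ]
  exact (mk_pow_mul_mk (M := y.1.asHomogeneousIdeal.toIdeal.primeCompl) (f k) ⟨f i, y.2⟩ d).symm

/-- `(Proj.map ψ)^* f_k^d` -/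
noncomputable def tB (k : ι) :
    Γ((Scheme.Modules.pullback (Proj.map ψ hirr)).obj (twist 𝒜 (d : ℤ)), ⊤) :=
  ProjUP.pullSec (Proj.map ψ hirr) (twist 𝒜 (d : ℤ)) (sA f hf d k)

theorem rs_tB (i k : ι) :
    rs ((Scheme.Modules.pullback (Proj.map ψ hirr)).obj (twist 𝒜 (d : ℤ))) (le_top : UB ψ hirr f i ≤ ⊤)
        (tB ψ hirr f hf d k) =
      unitV (Proj.map ψ hirr) (twist 𝒜 (d : ℤ)) (DA f i)
        (rs (twist 𝒜 (d : ℤ)) (le_top : DA f i ≤ ⊤) (sA f hf d k)) :=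
  (unitV_res (Proj.map ψ hirr) (twist 𝒜 (d : ℤ)) (le_top : DA f i ≤ ⊤) (sA f hf d k)).symm

theorem hta (i k : ι) :
    rs ((Scheme.Modules.pullback (Proj.map ψ hirr)).obj (twist 𝒜 (d : ℤ))) (le_top : UB ψ hirr f i ≤ ⊤)
        (tB ψ hirr f hf d k) =
      aB ψ hirr f hf d i k • rs ((Scheme.Modules.pullback (Proj.map ψ hirr)).obj (twist 𝒜 (d : ℤ)))
        (le_top : UB ψ hirr f i ≤ ⊤) (tB ψ hirr f hf d i) := by
  rw [rs_tB, rs_tB, htaA, unitV_smul]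
  rfl

theorem isGen_sA (i : ι) :
    IsGen (twist 𝒜 (d : ℤ)) (DA f i) (rs (twist 𝒜 (d : ℤ)) (le_top : DA f i ≤ ⊤) (sA f hf d i)) :=
  isGen_numSec_of_le (hf i) d rfl (pow_memA f hf d i) (mul_one d).symm (d : ℤ) rfl le_rfl

theorem isGen_sB (i : ι) :
    IsGen (twist ℬ (d : ℤ)) (UB ψ hirr f i)
      (rs (twist ℬ (d : ℤ)) (le_top : UB ψ hirr f i ≤ ⊤) (sB ψ f hf d i)) :=
  isGen_numSec_of_le (ψ_mem ψ f hf i) d rfl (pow_memB ψ f hf d i) (mul_one d).symm (d : ℤ) rfl le_rfl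

include hcovA in
theorem isGen_tB (i : ι) :
    IsGen ((Scheme.Modules.pullback (Proj.map ψ hirr)).obj (twist 𝒜 (d : ℤ))) (UB ψ hirr f i)
      (rs ((Scheme.Modules.pullback (Proj.map ψ hirr)).obj (twist 𝒜 (d : ℤ))) (le_top : UB ψ hirr f i ≤ ⊤)
        (tB ψ hirr f hf d i)) := by
  haveI : (twist 𝒜 (d : ℤ)).IsQuasicoherent :=
    isQCoh_of_isInvertible (TwistNumSecH3.isInvertible_twist_of_cover' (Set.range f) (by rintro _ ⟨i, rfl⟩; exact hf i)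
      (fun x => by obtain ⟨i, hi⟩ := hcovA x; exact ⟨f i, ⟨i, rfl⟩, hi⟩) (d : ℤ))
  rw [rs_tB]
  exact isGen_unitV (Proj.map ψ hirr) (twist 𝒜 (d : ℤ)) (isGen_sA f hf d i)

include hf hcov hcovA in
/-- **pullback of twisting sheaves along `Proj.map`** (`d ≥ 0`) -/
theorem nonempty_pullback_map_twist_iso :
    Nonempty ((Scheme.Modules.pullback (Proj.map ψ hirr)).obj (twist 𝒜 (d : ℤ)) ≅ twist ℬ (d : ℤ)) := by
  obtain ⟨φ, -⟩ := Groth.Agent.Lib.ModIsoGlueH3.exists_iso_of_ratios (iSup_UB ψ hirr f hcov)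
    (isGen_tB ψ hirr f hf hcovA d) (isGen_sB ψ hirr f hf d) (aB ψ hirr f hf d) (hta ψ hirr f hf d)
    (hsa ψ hirr f hf d)
  exact ⟨φ⟩

end Groth.Agent.Lib.ProjMapTwistH3
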