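import Mathlib

/-!
# Ring-level lemmas for quotients of `Proj` by a finite group (helper37)

A finite group `G` acts on a graded ring `A` by graded automorphisms, `ι : C → A` is an injective
graded map onto the invariants.  We prove:
* `compat_map`: `HomogeneousLocalization.map` is compatible with `Localization.awayMap`;
* `map_ι_injective`: `C_(c) → A_(ι c)` is injective;
* `mem_range_map_ι`: the invariants of `A_(ι c)` are the image of `C_(c)`;
* `exists_ι_not_mem`: a prime of `A` not containing a homogeneous element of positive degree does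
  not contain some `ι c`, `c` homogeneous of positive degree.
-/

set_option autoImplicit false
universe u

open HomogeneousLocalization

namespace Groth.Agent.Lib.ProjQuotRing37

theorem compat_map {R A C : Type*} [CommRing R] [CommRing A] [CommRing C] [Algebra R A]
    [Algebra R C] {𝒜 : ℕ → Submodule R A} [GradedAlgebra 𝒜] {𝒞 : ℕ → Submodule R C}
    [GradedAlgebra 𝒞] (g : 𝒞 →+*ᵍ 𝒜) (c : C)
    (hle : Submonoid.powers c ≤ (Submonoid.powers (g.toRingHom c)).comap g) :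
    (algebraMap (Away 𝒜 (g.toRingHom c)) (Localization.Away (g.toRingHom c))).comp
        (HomogeneousLocalization.map g hle) =
      (Localization.awayMap g.toRingHom c).comp
        (algebraMap (Away 𝒞 c) (Localization.Away c)) := by
  ext x
  obtain ⟨y, rfl⟩ := mk_surjective x
  simp only [RingHom.comp_apply, HomogeneousLocalization.algebraMap_apply, map_mk, val_mk]
  rw [Localization.mk_eq_mk', Localization.mk_eq_mk']
  simp only [Localization.awayMap, IsLocalization.Away.map, IsLocalization.map_mk']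
  rfl

section graded

variable {R A : Type*} [CommRing R] [CommRing A] [Algebra R A] (𝒜 : ℕ → Submodule R A)
  [GradedAlgebra 𝒜]

lemma multiset_prod_mem {d : ℕ} (t : Multiset A) (ht : ∀ x ∈ t, x ∈ 𝒜 d) :
    t.prod ∈ 𝒜 (Multiset.card t • d) := by
  induction t using Multiset.induction_on with
  | empty => simpa using SetLike.one_mem_graded 𝒜
  | cons a t ih =>
    rw [Multiset.prod_cons, Multiset.card_cons, add_smul, one_smul, add_comm]
    exact SetLike.mul_mem_graded (ht a (Multiset.mem_cons_self a t))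
      (ih fun x hx => ht x (Multiset.mem_cons_of_mem hx))

lemma esymm_mem {d : ℕ} (s : Multiset A) (hs : ∀ x ∈ s, x ∈ 𝒜 d) (j : ℕ) :
    s.esymm j ∈ 𝒜 (j • d) := by
  rw [Multiset.esymm]
  apply multiset_sum_mem
  intro y hy
  obtain ⟨t, ht, rfl⟩ := Multiset.mem_map.mp hy
  rw [Multiset.mem_powersetCard] at ht
  rw [← ht.2]
  exact multiset_prod_mem 𝒜 t (fun x hx => hs x (Multiset.mem_of_le ht.1 hx))

lemma exists_homogeneous_not_mem (I : HomogeneousIdeal 𝒜)
    (hI : ¬ (HomogeneousIdeal.irrelevant 𝒜).toIdeal ≤ I.toIdeal) :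
    ∃ d, 0 < d ∧ ∃ f ∈ 𝒜 d, f ∉ I.toIdeal := by
  classical
  by_contra hcon
  push Not at hcon
  apply hI
  intro a ha
  rw [← DirectSum.sum_support_decompose 𝒜 a]
  refine I.toIdeal.sum_mem (fun i _ => ?_)
  by_cases hi : i = 0
  · subst hi
    have h0 : (DirectSum.decompose 𝒜 a 0 : A) = 0 := by
      have := (HomogeneousIdeal.mem_irrelevant_iff 𝒜 a).mp ha
      simpa [GradedRing.proj_apply] using this
    rw [h0]
    exact I.toIdeal.zero_mem
  · exact hcon i (Nat.pos_of_ne_zero hi) _ (SetLike.coe_mem _)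

end graded

section invariants

variable {R A : Type*} [CommRing R] [CommRing A] [Algebra R A] (𝒜 : ℕ → Submodule R A)
  [GradedAlgebra 𝒜] {G : Type*} [Group G] [MulSemiringAction G A]
  (hGdeg : ∀ (σ : G) (i : ℕ) (a : A), a ∈ 𝒜 i → σ • a ∈ 𝒜 i)
  {C : Type*} [CommRing C] [Algebra R C] (𝒞 : ℕ → Submodule R C) [GradedAlgebra 𝒞]
  (ι : C →ₐ[R] A) (hι : Function.Injective ι)
  (hιdeg : ∀ (i : ℕ) (a : A), a ∈ (𝒞 i).map ι.toLinearMap ↔ (a ∈ 𝒜 i ∧ ∀ σ : G, σ • a = a))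

include hιdeg in
lemma ι_mem {i : ℕ} {c : C} (hc : c ∈ 𝒞 i) : ι c ∈ 𝒜 i :=
  ((hιdeg i (ι c)).mp (Submodule.mem_map_of_mem hc)).1

include hιdeg in
lemma ι_inv {i : ℕ} {c : C} (hc : c ∈ 𝒞 i) (σ : G) : σ • ι c = ι c :=
  ((hιdeg i (ι c)).mp (Submodule.mem_map_of_mem hc)).2 σ

include hιdeg in
lemma exists_of_inv {i : ℕ} {a : A} (ha : a ∈ 𝒜 i) (hinv : ∀ σ : G, σ • a = a) :
    ∃ c ∈ 𝒞 i, ι c = a := by
  obtain ⟨c, hc, hca⟩ := (hιdeg i a).mpr ⟨ha, hinv⟩
  exact ⟨c, hc, hca⟩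

/-- `ι` as a graded ring homomorphism. -/
def ιg : 𝒞 →+*ᵍ 𝒜 where
  toRingHom := ι.toRingHom
  map_mem := fun hx => ι_mem 𝒜 𝒞 ι hιdeg hx

/-- the action of `σ` as a graded ring homomorphism. -/
def σg (σ : G) : 𝒜 →+*ᵍ 𝒜 where
  toRingHom := MulSemiringAction.toRingHom G A σ
  map_mem := fun hx => hGdeg σ _ _ hx

lemma hle_ι (c : C) :
    Submonoid.powers c ≤ (Submonoid.powers (ι c)).comap (ιg 𝒜 𝒞 ι hιdeg) := by
  rintro _ ⟨k, rfl⟩
  exact ⟨k, (map_pow ι c k).symm⟩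

lemma hle_σ (σ : G) {f f' : A} (h : σ • f = f') :
    Submonoid.powers f ≤ (Submonoid.powers f').comap (σg 𝒜 hGdeg σ) := by
  rintro _ ⟨k, rfl⟩
  exact ⟨k, by rw [← h]; exact (smul_pow' σ f k).symm⟩

include hι in
theorem map_ι_injective (c : C) :
    Function.Injective
      (HomogeneousLocalization.map (ιg 𝒜 𝒞 ι hιdeg) (hle_ι 𝒜 𝒞 ι hιdeg c)) := by
  rw [injective_iff_map_eq_zero]
  intro x hx
  obtain ⟨y, rfl⟩ := mk_surjective x
  rw [map_mk] at hx
  have h1 := congrArg HomogeneousLocalization.val hx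
  rw [val_mk, val_zero, Localization.mk_eq_mk', IsLocalization.mk'_eq_zero_iff] at h1
  obtain ⟨⟨m, k, rfl⟩, hm⟩ := h1
  apply val_injective
  rw [val_mk, val_zero, Localization.mk_eq_mk', IsLocalization.mk'_eq_zero_iff]
  refine ⟨⟨c ^ k, k, rfl⟩, hι ?_⟩
  rw [map_zero, map_mul, map_pow]
  exact hm

include hιdeg in
theorem map_σ_map_ι {n : ℕ} {c : C} (hc : c ∈ 𝒞 n) (σ : G) (y : Away 𝒞 c) :
    HomogeneousLocalization.map (σg 𝒜 hGdeg σ)
        (hle_σ 𝒜 hGdeg σ (ι_inv 𝒜 𝒞 ι hιdeg hc σ))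
        (HomogeneousLocalization.map (ιg 𝒜 𝒞 ι hιdeg) (hle_ι 𝒜 𝒞 ι hιdeg c) y) =
      HomogeneousLocalization.map (ιg 𝒜 𝒞 ι hιdeg) (hle_ι 𝒜 𝒞 ι hιdeg c) y := by
  obtain ⟨z, rfl⟩ := mk_surjective y
  rw [map_mk, map_mk]
  apply val_injective
  rw [val_mk, val_mk]
  have e1 : (σg 𝒜 hGdeg σ) ((ιg 𝒜 𝒞 ι hιdeg) z.num) = (ιg 𝒜 𝒞 ι hιdeg) z.num :=
    ι_inv 𝒜 𝒞 ι hιdeg z.num.2 σ
  have e2 : (σg 𝒜 hGdeg σ) ((ιg 𝒜 𝒞 ι hιdeg) z.den) = (ιg 𝒜 𝒞 ι hιdeg) z.den :=
    ι_inv 𝒜 𝒞 ι hιdeg z.den.2 σ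
  congr 1
  exact Subtype.ext e2

include hιdeg in
theorem mem_range_map_ι [Finite G] {n : ℕ} {c : C} (hc : c ∈ 𝒞 n) (x : Away 𝒜 (ι c))
    (hx : ∀ σ : G, HomogeneousLocalization.map (σg 𝒜 hGdeg σ)
      (hle_σ 𝒜 hGdeg σ (ι_inv 𝒜 𝒞 ι hιdeg hc σ)) x = x) :
    x ∈ Set.range
      (HomogeneousLocalization.map (ιg 𝒜 𝒞 ι hιdeg) (hle_ι 𝒜 𝒞 ι hιdeg c)) := by
  classical
  cases nonempty_fintype G
  have hf : ι c ∈ 𝒜 n := ι_mem 𝒜 𝒞 ι hιdeg hc
  obtain ⟨k, a, ha, rfl⟩ := Away.mk_surjective 𝒜 hf x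
  have hck : ∀ (σ : G) (j : ℕ), σ • (ι c) ^ j = (ι c) ^ j := by
    intro σ j
    rw [smul_pow', ι_inv 𝒜 𝒞 ι hιdeg hc σ]
  have key : ∀ σ : G, ∃ m : ℕ, (ι c) ^ m * (σ • a) = (ι c) ^ m * a := by
    intro σ
    have h1 := congrArg HomogeneousLocalization.val (hx σ)
    rw [Away.mk, map_mk, val_mk, val_mk, Localization.mk_eq_mk_iff,
      Localization.r_iff_exists] at h1
    obtain ⟨⟨_, m, rfl⟩, hm⟩ := h1
    refine ⟨m + k, ?_⟩
    have e1 : (σg 𝒜 hGdeg σ) ((ι c) ^ k) = (ι c) ^ k := hck σ k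
    have e2 : (σg 𝒜 hGdeg σ) a = σ • a := rfl
    simp only [e1, e2] at hm
    rw [pow_add, mul_assoc, mul_assoc]
    exact hm
  choose m hm using key
  have hM : ∀ σ : G, (ι c) ^ (Finset.univ.sup m) * (σ • a) = (ι c) ^ (Finset.univ.sup m) * a := by
    intro σ
    have hle : m σ ≤ Finset.univ.sup m := Finset.le_sup (Finset.mem_univ σ)
    rw [← Nat.sub_add_cancel hle, pow_add, mul_assoc, mul_assoc, hm σ]
  set M := Finset.univ.sup m with hMdef
  have hinv : ∀ σ : G, σ • ((ι c) ^ M * a) = (ι c) ^ M * a := by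
    intro σ
    rw [smul_mul' σ ((ι c) ^ M) a, hck σ M, hM σ]
  have hdeg : (ι c) ^ M * a ∈ 𝒜 ((M + k) • n) := by
    rw [add_smul]
    exact SetLike.mul_mem_graded (SetLike.pow_mem_graded M hf) ha
  obtain ⟨b, hb, hba⟩ := exists_of_inv 𝒜 𝒞 ι hιdeg hdeg hinv
  refine ⟨Away.mk 𝒞 hc (M + k) b hb, ?_⟩
  apply val_injective
  rw [Away.mk, map_mk, val_mk, Away.val_mk, Localization.mk_eq_mk_iff,
    Localization.r_iff_exists]
  refine ⟨1, ?_⟩
  have e3 : (ιg 𝒜 𝒞 ι hιdeg) b = (ι c) ^ M * a := hba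
  have e4 : (ιg 𝒜 𝒞 ι hιdeg) (c ^ (M + k)) = (ι c) ^ (M + k) := map_pow ι c (M + k)
  simp only [e3, e4, OneMemClass.coe_one, one_mul]
  ring

include hιdeg hGdeg in
theorem exists_ι_not_mem [Finite G] (I : Ideal A) [I.IsPrime] {d : ℕ} (hd : 0 < d) {f : A}
    (hf : f ∈ 𝒜 d) (hfI : f ∉ I) : ∃ n, 0 < n ∧ ∃ c ∈ 𝒞 n, ι c ∉ I := by
  classical
  cases nonempty_fintype G
  by_contra hcon
  push Not at hcon
  apply hfI
  haveI : Nontrivial A := ⟨⟨f, 0, fun h => hfI (h ▸ I.zero_mem)⟩⟩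
  set s : Multiset A := (Finset.univ : Finset G).val.map (fun σ => σ • f) with hs
  set P : Polynomial A := (s.map (fun r => Polynomial.X - Polynomial.C r)).prod with hPdef
  have hP : P = MulSemiringAction.charpoly G f := by
    rw [hPdef, hs, Multiset.map_map, MulSemiringAction.charpoly_eq]
    rfl
  have hcard : Multiset.card s = Fintype.card G := by
    rw [hs, Multiset.card_map]
    rfl
  have hroot : P.eval f = 0 := by
    rw [hP]
    exact MulSemiringAction.eval_charpoly G f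
  have hdegP : P.natDegree = Fintype.card G := by
    rw [← hcard]
    exact Polynomial.natDegree_multiset_prod_X_sub_C_eq_card s
  have hmonic : P.Monic := by
    rw [hP]
    exact MulSemiringAction.monic_charpoly G f
  have hsmem : ∀ x ∈ s, x ∈ 𝒜 d := by
    intro x hx
    obtain ⟨σ, -, rfl⟩ := Multiset.mem_map.mp hx
    exact hGdeg σ d f hf
  have hcoef : ∀ k, k < Fintype.card G → P.coeff k ∈ I := by
    intro k hk
    have hk' : k ≤ Multiset.card s := by omega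
    have hinvk : ∀ σ : G, σ • P.coeff k = P.coeff k := by
      intro σ
      rw [hP]
      exact MulSemiringAction.smul_coeff_charpoly f k σ
    have hhom : P.coeff k ∈ 𝒜 ((Multiset.card s - k) • d) := by
      rw [hPdef, Multiset.prod_X_sub_C_coeff s hk']
      have hes := esymm_mem 𝒜 s hsmem (Multiset.card s - k)
      rcases neg_one_pow_eq_or A (Multiset.card s - k) with h | h <;> rw [h]
      · simpa using hes
      · simpa using neg_mem hes
    obtain ⟨c, hc, hca⟩ := exists_of_inv 𝒜 𝒞 ι hιdeg hhom hinvk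
    rw [← hca]
    refine hcon _ ?_ c hc
    rw [smul_eq_mul]
    exact Nat.mul_pos (by omega) hd
  have hpow : f ^ Fintype.card G ∈ I := by
    have h1 := hroot
    rw [Polynomial.eval_eq_sum_range, hdegP, Finset.sum_range_succ] at h1
    have h2 : P.coeff (Fintype.card G) = 1 := by
      rw [← hdegP]
      exact hmonic.coeff_natDegree
    rw [h2, one_mul] at h1
    have h3 : f ^ Fintype.card G =
        - ∑ x ∈ Finset.range (Fintype.card G), P.coeff x * f ^ x :=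
      eq_neg_of_add_eq_zero_right h1
    rw [h3]
    exact I.neg_mem (I.sum_mem fun k hk => I.mul_mem_right _ (hcoef k (Finset.mem_range.mp hk)))
  exact Ideal.IsPrime.mem_of_pow_mem inferInstance _ hpow

end invariants

end Groth.Agent.Lib.ProjQuotRing37
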