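import Mathlib
import Groth.Prelude.Def_SGA1
import Groth.Agent.Lib.IsQuotLocal37
import Groth.Agent.Lib.IsQuotChart37
import Groth.Agent.Lib.ProjQuotRing37

/-!
# `Proj B ⟶ Proj B^G` is a quotient by the finite group `G` (helper37)
-/

set_option autoImplicit false
universe u

open CategoryTheory AlgebraicGeometry HomogeneousLocalization

namespace Groth.Agent.Lib.ProjQuot37

open Groth.Agent.Lib.ProjQuotRing37 Groth.Agent.Lib.H8IsQuotBasis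

section

variable {R A : Type u} [CommRing R] [CommRing A] [Algebra R A] (𝒜 : ℕ → Submodule R A)
  [GradedAlgebra 𝒜] {G : Type u} [Group G] [MulSemiringAction G A]
  (hGdeg : ∀ (σ : G) (i : ℕ) (a : A), a ∈ 𝒜 i → σ • a ∈ 𝒜 i)
  {C : Type u} [CommRing C] [Algebra R C] (𝒞 : ℕ → Submodule R C) [GradedAlgebra 𝒞]
  (ι : C →ₐ[R] A) (hι : Function.Injective ι)
  (hιdeg : ∀ (i : ℕ) (a : A), a ∈ (𝒞 i).map ι.toLinearMap ↔ (a ∈ 𝒜 i ∧ ∀ σ : G, σ • a = a))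
  (ρ : G →* Aut (Proj 𝒜))
  (hρ : ∀ (σ : G) (n : ℕ) (f : A) (hn : 0 < n) (hf : f ∈ 𝒜 n)
    (θ : CommRingCat.of (HomogeneousLocalization.Away 𝒜 f) ⟶
      CommRingCat.of (HomogeneousLocalization.Away 𝒜 (σ • f))),
    (algebraMap (HomogeneousLocalization.Away 𝒜 (σ • f)) (Localization.Away (σ • f))).comp θ.hom =
      (Localization.awayMap (MulSemiringAction.toRingHom G A σ) f).comp
        (algebraMap (HomogeneousLocalization.Away 𝒜 f) (Localization.Away f)) →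
    Proj.awayι 𝒜 (σ • f) (hGdeg σ n f hf) hn ≫ (ρ σ).inv = Spec.map θ ≫ Proj.awayι 𝒜 f hf hn)
  (π : Proj 𝒜 ⟶ Proj 𝒞)
  (hπ : ∀ (n : ℕ) (c : C) (hn : 0 < n) (hc : c ∈ 𝒞 n)
    (θ : CommRingCat.of (HomogeneousLocalization.Away 𝒞 c) ⟶
      CommRingCat.of (HomogeneousLocalization.Away 𝒜 (ι c))),
    (algebraMap (HomogeneousLocalization.Away 𝒜 (ι c)) (Localization.Away (ι c))).comp θ.hom =
      (Localization.awayMap ι.toRingHom c).comp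
        (algebraMap (HomogeneousLocalization.Away 𝒞 c) (Localization.Away c)) →
    Proj.awayι 𝒜 (ι c) ((hιdeg n (ι c)).mp (Submodule.mem_map_of_mem hc)).1 hn ≫ π =
      Spec.map θ ≫ Proj.awayι 𝒞 c hc hn)

include hπ in
lemma π_chart {n : ℕ} {c : C} (hn : 0 < n) (hc : c ∈ 𝒞 n) :
    Proj.awayι 𝒜 (ι c) (ι_mem 𝒜 𝒞 ι hιdeg hc) hn ≫ π =
      Spec.map (CommRingCat.ofHom (HomogeneousLocalization.map (ιg 𝒜 𝒞 ι hιdeg)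
        (hle_ι 𝒜 𝒞 ι hιdeg c))) ≫ Proj.awayι 𝒞 c hc hn :=
  hπ n c hn hc _ (compat_map (ιg 𝒜 𝒞 ι hιdeg) c (hle_ι 𝒜 𝒞 ι hιdeg c))

include hρ in
lemma ρ_chart (σ : G) {n : ℕ} (hn : 0 < n) {f f' : A} (hf : f ∈ 𝒜 n) (hf' : f' ∈ 𝒜 n)
    (h : σ • f = f') :
    Proj.awayι 𝒜 f' hf' hn ≫ (ρ σ).inv =
      Spec.map (CommRingCat.ofHom (HomogeneousLocalization.map (σg 𝒜 hGdeg σ)
        (hle_σ 𝒜 hGdeg σ h))) ≫ Proj.awayι 𝒜 f hf hn := by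
  subst h
  exact hρ σ n f hn hf _ (compat_map (σg 𝒜 hGdeg σ) f (hle_σ 𝒜 hGdeg σ rfl))

lemma exists_chart_C (y : Proj 𝒞) : ∃ n, 0 < n ∧ ∃ c ∈ 𝒞 n, y ∈ Proj.basicOpen 𝒞 c := by
  obtain ⟨d, hd, f, hf, hfx⟩ := exists_homogeneous_not_mem 𝒞 y.asHomogeneousIdeal
    (fun h => y.not_irrelevant_le (fun a ha => h ha))
  exact ⟨d, hd, f, hf, (Proj.mem_basicOpen 𝒞 f y).mpr hfx⟩

include hGdeg hιdeg in
lemma exists_chart [Finite G] (x : Proj 𝒜) :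
    ∃ n, 0 < n ∧ ∃ c ∈ 𝒞 n, x ∈ Proj.basicOpen 𝒜 (ι c) := by
  obtain ⟨d, hd, f, hf, hfx⟩ := exists_homogeneous_not_mem 𝒜 x.asHomogeneousIdeal
    (fun h => x.not_irrelevant_le (fun a ha => h ha))
  obtain ⟨n, hn, c, hc, hcx⟩ :=
    exists_ι_not_mem 𝒜 hGdeg 𝒞 ι hιdeg x.asHomogeneousIdeal.toIdeal hd hf hfx
  exact ⟨n, hn, c, hc, (Proj.mem_basicOpen 𝒜 (ι c) x).mpr hcx⟩

include hGdeg hπ in
lemma preimage_basicOpen [Finite G] {n : ℕ} {c : C} (hn : 0 < n) (hc : c ∈ 𝒞 n) :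
    π ⁻¹ᵁ Proj.basicOpen 𝒞 c = Proj.basicOpen 𝒜 (ι c) := by
  have hmem := ι_mem 𝒜 𝒞 ι hιdeg hc
  apply le_antisymm
  · intro x hx
    obtain ⟨n', hn', c', hc', hxc'⟩ := exists_chart 𝒜 hGdeg 𝒞 ι hιdeg x
    have hmem' := ι_mem 𝒜 𝒞 ι hιdeg hc'
    rw [← Proj.opensRange_awayι 𝒜 (ι c') hmem' hn'] at hxc'
    obtain ⟨y, rfl⟩ := hxc'
    have h1 : (Proj.awayι 𝒜 (ι c') hmem' hn' ≫ π) y ∈ Proj.basicOpen 𝒞 c := hx
    rw [π_chart 𝒜 𝒞 ι hιdeg π hπ hn' hc'] at h1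
    have h2 : (Spec.map (CommRingCat.ofHom (HomogeneousLocalization.map (ιg 𝒜 𝒞 ι hιdeg)
        (hle_ι 𝒜 𝒞 ι hιdeg c')))) y ∈ Proj.awayι 𝒞 c' hc' hn' ⁻¹ᵁ Proj.basicOpen 𝒞 c := h1
    rw [Proj.awayι_preimage_basicOpen 𝒞 hc' hn' hc hn] at h2
    have h3 : y ∈ PrimeSpectrum.basicOpen ((HomogeneousLocalization.map (ιg 𝒜 𝒞 ι hιdeg)
        (hle_ι 𝒜 𝒞 ι hιdeg c')) (Away.isLocalizationElem hc' hc)) := h2
    have h4 : (HomogeneousLocalization.map (ιg 𝒜 𝒞 ι hιdeg)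
        (hle_ι 𝒜 𝒞 ι hιdeg c')) (Away.isLocalizationElem hc' hc) =
        Away.isLocalizationElem hmem' hmem := by
      apply val_injective
      simp only [Away.mk, map_mk, val_mk]
      congr 1
      · exact map_pow ι c n'
      · exact Subtype.ext (map_pow ι c' n)
    rw [h4, ← Proj.awayι_preimage_basicOpen 𝒜 hmem' hn' hmem hn] at h3
    exact h3
  · intro x hx
    rw [← Proj.opensRange_awayι 𝒜 (ι c) hmem hn] at hx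
    obtain ⟨y, rfl⟩ := hx
    show (Proj.awayι 𝒜 (ι c) hmem hn ≫ π) y ∈ Proj.basicOpen 𝒞 c
    rw [π_chart 𝒜 𝒞 ι hιdeg π hπ hn hc]
    have h5 : (Proj.awayι 𝒞 c hc hn) ((Spec.map (CommRingCat.ofHom
        (HomogeneousLocalization.map (ιg 𝒜 𝒞 ι hιdeg) (hle_ι 𝒜 𝒞 ι hιdeg c)))) y) ∈
        (Proj.awayι 𝒞 c hc hn).opensRange := ⟨_, rfl⟩
    rw [Proj.opensRange_awayι] at h5
    exact h5

include hGdeg hπ in
lemma affine [Finite G] : IsAffineHom π := by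
  apply isAffineHom_of_forall_exists_isAffineOpen
  intro y
  obtain ⟨n, hn, c, hc, hy⟩ := exists_chart_C 𝒞 y
  refine ⟨Proj.basicOpen 𝒞 c, hy, Proj.isAffineOpen_basicOpen 𝒞 c hc hn, ?_⟩
  rw [preimage_basicOpen 𝒜 hGdeg 𝒞 ι hιdeg π hπ hn hc]
  exact Proj.isAffineOpen_basicOpen 𝒜 (ι c) (ι_mem 𝒜 𝒞 ι hιdeg hc) hn

include hρ hπ in
lemma inv_comp [Finite G] (σ : G) : (ρ σ).hom ≫ π = π := by
  have key : (ρ σ).inv ≫ π = π := by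
    apply Scheme.hom_ext_of_forall
    intro x
    obtain ⟨n, hn, c, hc, hx⟩ := exists_chart 𝒜 hGdeg 𝒞 ι hιdeg x
    have hmem := ι_mem 𝒜 𝒞 ι hιdeg hc
    refine ⟨(Proj.awayι 𝒜 (ι c) hmem hn).opensRange, ?_, ?_⟩
    · rw [Proj.opensRange_awayι]
      exact hx
    have e5 : CommRingCat.ofHom (HomogeneousLocalization.map (ιg 𝒜 𝒞 ι hιdeg)
        (hle_ι 𝒜 𝒞 ι hιdeg c)) ≫
        CommRingCat.ofHom (HomogeneousLocalization.map (σg 𝒜 hGdeg σ)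
          (hle_σ 𝒜 hGdeg σ (ι_inv 𝒜 𝒞 ι hιdeg hc σ))) =
        CommRingCat.ofHom (HomogeneousLocalization.map (ιg 𝒜 𝒞 ι hιdeg)
          (hle_ι 𝒜 𝒞 ι hιdeg c)) := by
      refine CommRingCat.hom_ext (RingHom.ext fun y => ?_)
      exact map_σ_map_ι 𝒜 hGdeg 𝒞 ι hιdeg hc σ y
    have e : Proj.awayι 𝒜 (ι c) hmem hn ≫ (ρ σ).inv ≫ π = Proj.awayι 𝒜 (ι c) hmem hn ≫ π := by
      rw [← Category.assoc, ρ_chart 𝒜 hGdeg ρ hρ σ hn hmem hmem (ι_inv 𝒜 𝒞 ι hιdeg hc σ),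
        Category.assoc, π_chart 𝒜 𝒞 ι hιdeg π hπ hn hc, ← Category.assoc, ← Spec.map_comp, e5]
    rw [← Scheme.Hom.isoOpensRange_inv_comp (Proj.awayι 𝒜 (ι c) hmem hn), Category.assoc,
      Category.assoc, e]
  calc (ρ σ).hom ≫ π = (ρ σ).hom ≫ (ρ σ).inv ≫ π := by rw [key]
    _ = π := by rw [Iso.hom_inv_id_assoc]

include hι hρ hπ in
lemma chart [Finite G] (hinv : ∀ g : G, (ρ g).hom ≫ π = π) {n : ℕ} {c : C} (hn : 0 < n)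
    (hc : c ∈ 𝒞 n) :
    Function.Injective (π.app (Proj.basicOpen 𝒞 c)).hom ∧
      ∀ a : Γ(Proj 𝒜, π ⁻¹ᵁ Proj.basicOpen 𝒞 c),
        IsInvSec ρ π hinv (Proj.basicOpen 𝒞 c) a →
          a ∈ Set.range (π.app (Proj.basicOpen 𝒞 c)).hom := by
  have hmem := ι_mem 𝒜 𝒞 ι hιdeg hc
  refine IsQuotChart37.chart_H ρ π hinv (Proj.basicOpen 𝒞 c)
    (Proj.awayι 𝒜 (ι c) hmem hn) (Proj.awayι 𝒞 c hc hn)
    (by rw [Proj.opensRange_awayι, preimage_basicOpen 𝒜 hGdeg 𝒞 ι hιdeg π hπ hn hc])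
    (Proj.opensRange_awayι 𝒞 c hc hn)
    (CommRingCat.ofHom (HomogeneousLocalization.map (ιg 𝒜 𝒞 ι hιdeg) (hle_ι 𝒜 𝒞 ι hιdeg c)))
    (π_chart 𝒜 𝒞 ι hιdeg π hπ hn hc)
    (fun g => CommRingCat.ofHom (HomogeneousLocalization.map (σg 𝒜 hGdeg g⁻¹)
      (hle_σ 𝒜 hGdeg g⁻¹ (ι_inv 𝒜 𝒞 ι hιdeg hc g⁻¹)))) ?_
    (map_ι_injective 𝒜 𝒞 ι hι hιdeg c) ?_
  · intro g
    have h1 := ρ_chart 𝒜 hGdeg ρ hρ g⁻¹ hn hmem hmem (ι_inv 𝒜 𝒞 ι hιdeg hc g⁻¹)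
    have e : (ρ g⁻¹).inv = (ρ g).hom := by
      rw [map_inv]
      rfl
    rw [e] at h1
    exact h1
  · intro s hs
    apply mem_range_map_ι 𝒜 hGdeg 𝒞 ι hιdeg hc s
    intro σ
    have h2 := hs σ⁻¹
    simp only [inv_inv] at h2
    exact h2

include hι hρ hπ in
theorem isQuot_proj [Finite G] : SGA1.IsQuot ρ π := by
  have hinv : ∀ g : G, (ρ g).hom ≫ π = π := inv_comp 𝒜 hGdeg 𝒞 ι hιdeg ρ hρ π hπ
  haveI : IsAffineHom π := affine 𝒜 hGdeg 𝒞 ι hιdeg π hπ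
  refine IsQuotLocal37.isQuot_of_affine_cover ρ π hinv
    {V | ∃ n, 0 < n ∧ ∃ c ∈ 𝒞 n, V = Proj.basicOpen 𝒞 c} ?_ ?_ ?_ ?_
  · rintro _ ⟨n, hn, c, hc, rfl⟩
    exact Proj.isAffineOpen_basicOpen 𝒞 c hc hn
  · intro y
    obtain ⟨n, hn, c, hc, hy⟩ := exists_chart_C 𝒞 y
    exact ⟨_, ⟨n, hn, c, hc, rfl⟩, hy⟩
  · rintro _ ⟨n, hn, c, hc, rfl⟩
    exact (chart 𝒜 hGdeg 𝒞 ι hι hιdeg ρ hρ π hπ hinv hn hc).1
  · rintro _ ⟨n, hn, c, hc, rfl⟩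
    exact (chart 𝒜 hGdeg 𝒞 ι hι hιdeg ρ hρ π hπ hinv hn hc).2

end

end Groth.Agent.Lib.ProjQuot37
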