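/-
Lib/ProjVanIdeal (helper28): closed subschemes of `Proj 𝒜` for ANY grading by additive subgroups (the flavour of
`RelProj.QCGrAlg`), via the CANONICAL vanishing ideal (all degree-one charts, no chosen generators).
Port/generalization of helper3 `Lib/ProjClosedSub` + helper85 `Lib/RelProjQuot85a` (Submodule gradings, finite
generating set).

* `dmap 𝒜 hf k : A →+ Away 𝒜 f` (`a ↦ a_{kd}/f^k`), `rho 𝒜 ι f : Away 𝒜 f →+* Γ(Z, ι⁻¹ D₊(f))`;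
* `vanIdeal 𝒜 ι : Ideal A` (homogeneous: `vanIdeal_isHomogeneous`), `mem_vanIdeal_of_homogeneous`,
  `rho_mk_eq_zero_of_mem`;
* `mem_vanIdeal_of_cover` (LOCALITY: enough to test charts `D₊(g)`, `g ∈ G ⊆ 𝒜 1`, whose preimages cover `Z`);
* `rho_eventually_zero`, `exists_pow_mul_mem_iff` (`a/f^n` vanishes on `Z ∩ D₊(f)` iff some `f^N a ∈ vanIdeal`);
* `irrelevant_le_map_mkGraded`, `isClosedImmersion_map_mkGraded`, `ker_eq`, `exists_iso`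
  (closed `ι : Z ⟶ Proj 𝒜`, `Z` covered by finitely many degree-one charts, `Proj 𝒜` covered by degree-one charts
  ⇒ `Z ≅ Proj (A ⧸ vanIdeal)` over `Proj 𝒜`);
* naturality: `dmap_map`, `rho_map`, `map_mem_vanIdeal`, `exists_pow_mul_mem_vanIdeal` (quasi-coherence of the
  vanishing ideal along a degree-zero localization).
-/
import Groth.Agent.Lib.GradedQuotAdd
import Groth.Agent.Lib.ProjMapImm
import Mathlib.AlgebraicGeometry.ProjectiveSpectrum.Basic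
import Mathlib.AlgebraicGeometry.IdealSheaf.Subscheme

set_option autoImplicit false
set_option linter.unusedSectionVars false
universe u
open HomogeneousLocalization CategoryTheory AlgebraicGeometry Graded TopologicalSpace Opposite
open scoped HomogeneousIdeal
open Groth.Agent.Lib.GradedQuotAdd

namespace Groth.Agent.Lib.ProjVanIdeal


section dmap
variable {A σ : Type u} [CommRing A] [SetLike σ A] [AddSubgroupClass σ A] (𝒜 : ℕ → σ) [GradedRing 𝒜]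
variable {d : ℕ} {f : A} (hf : f ∈ 𝒜 d)

/-- `a ↦ a_{kd} / f^k`. -/
noncomputable def dmap (k : ℕ) : A →+ Away 𝒜 f where
  toFun a := Away.mk 𝒜 hf k (DirectSum.decompose 𝒜 a (k • d)) (SetLike.coe_mem _)
  map_zero' := by
    apply HomogeneousLocalization.val_injective
    rw [Away.val_mk, DirectSum.decompose_zero, HomogeneousLocalization.val_zero]
    exact Localization.mk_zero _
  map_add' a b := by
    apply HomogeneousLocalization.val_injective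
    rw [HomogeneousLocalization.val_add, Away.val_mk, Away.val_mk, Away.val_mk,
      Localization.add_mk_self, DirectSum.decompose_add, DirectSum.add_apply]
    rfl

lemma dmap_apply (k : ℕ) (a : A) :
    dmap 𝒜 hf k a = Away.mk 𝒜 hf k (DirectSum.decompose 𝒜 a (k • d)) (SetLike.coe_mem _) := rfl

lemma dmap_of_mem (k : ℕ) (a : A) (ha : a ∈ 𝒜 (k • d)) :
    dmap 𝒜 hf k a = Away.mk 𝒜 hf k a ha := by
  rw [dmap_apply]
  congr 1
  exact DirectSum.decompose_of_mem_same 𝒜 ha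

lemma exists_dmap_eq (y : Away 𝒜 f) : ∃ (k : ℕ) (a : A), dmap 𝒜 hf k a = y := by
  obtain ⟨k, a, ha, rfl⟩ := Away.mk_surjective 𝒜 hf y
  exact ⟨k, a, dmap_of_mem 𝒜 hf k a ha⟩

lemma dmap_pow_mul (k N : ℕ) (a : A) :
    dmap 𝒜 hf (k + N) (f ^ N * a) = dmap 𝒜 hf k a := by
  rw [dmap_apply, dmap_apply]
  have h1 : (k + N) • d = N • d + k • d := by rw [add_smul, add_comm]
  have h2 : ((DirectSum.decompose 𝒜 (f ^ N * a) ((k + N) • d) : 𝒜 ((k + N) • d)) : A) =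
      (DirectSum.decompose 𝒜 a (k • d) : A) * f ^ N := by
    rw [h1, DirectSum.coe_decompose_mul_add_of_left_mem 𝒜 (SetLike.pow_mem_graded N hf), mul_comm]
  have h3 := Groth.Agent.Lib.ProjMapImm.away_mk_eq_of_mul hf k N
    (DirectSum.decompose 𝒜 a (k • d) : A) (SetLike.coe_mem _) (h2 ▸ SetLike.coe_mem _)
  rw [← h3]
  congr 1

lemma dmap_of_mem_ne {n k : ℕ} (hnk : k • d ≠ n) {a : A} (ha : a ∈ 𝒜 n) :
    dmap 𝒜 hf k a = 0 := by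
  apply HomogeneousLocalization.val_injective
  rw [dmap_apply, Away.val_mk, DirectSum.decompose_of_mem_ne 𝒜 ha (Ne.symm hnk),
    HomogeneousLocalization.val_zero]
  exact Localization.mk_zero _

lemma dmap_decompose (n k : ℕ) (a : A) :
    dmap 𝒜 hf k (DirectSum.decompose 𝒜 a n : A) =
      if k • d = n then dmap 𝒜 hf k a else 0 := by
  split_ifs with h
  · subst h
    rw [dmap_apply, dmap_apply]
    congr 1
    rw [DirectSum.decompose_coe, DirectSum.of_eq_same]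
  · exact dmap_of_mem_ne 𝒜 hf h (SetLike.coe_mem _)

end dmap

section dmap1
variable {A σ : Type u} [CommRing A] [SetLike σ A] [AddSubgroupClass σ A] (𝒜 : ℕ → σ) [GradedRing 𝒜]
variable {f : A} (hf : f ∈ 𝒜 1)

lemma dmap_mul_of_le {m k : ℕ} (hmk : m ≤ k) {c : A} (hc : c ∈ 𝒜 (m • 1)) (a : A) :
    dmap 𝒜 hf k (c * a) = Away.mk 𝒜 hf m c hc * dmap 𝒜 hf (k - m) a := by
  apply HomogeneousLocalization.val_injective
  rw [dmap_apply, dmap_apply, HomogeneousLocalization.val_mul, Away.val_mk, Away.val_mk,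
    Away.val_mk, Localization.mk_mul]
  have h1 : m • 1 ≤ k • 1 := by simpa using hmk
  have h2 : k • 1 - m • 1 = (k - m) • 1 := by simp
  rw [DirectSum.coe_decompose_mul_of_left_mem_of_le 𝒜 hc h1, h2]
  congr 1
  apply Subtype.ext
  change f ^ k = f ^ m * f ^ (k - m)
  rw [← pow_add, Nat.add_sub_cancel' hmk]

lemma dmap_mul_of_not_le {m k : ℕ} (hmk : ¬ m ≤ k) {c : A} (hc : c ∈ 𝒜 (m • 1)) (a : A) :
    dmap 𝒜 hf k (c * a) = 0 := by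
  apply HomogeneousLocalization.val_injective
  have h1 : ¬ m • 1 ≤ k • 1 := by simpa using hmk
  rw [dmap_apply, Away.val_mk, DirectSum.coe_decompose_mul_of_left_mem_of_not_le 𝒜 hc h1,
    HomogeneousLocalization.val_zero]
  exact Localization.mk_zero _

end dmap1



section rho
variable {A σ : Type u} [CommRing A] [SetLike σ A] [AddSubgroupClass σ A] (𝒜 : ℕ → σ) [GradedRing 𝒜]
  {Z : Scheme.{u}} (ι : Z ⟶ Proj 𝒜)

/-- The chart maps `A_(h) → Γ(Z, ι⁻¹ D₊(h))`. -/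
noncomputable def rho (h : A) : Away 𝒜 h →+* Γ(Z, ι ⁻¹ᵁ Proj.basicOpen 𝒜 h) :=
  (Proj.awayToSection 𝒜 h ≫ ι.app (Proj.basicOpen 𝒜 h)).hom

lemma rho_apply (h : A) (y : Away 𝒜 h) :
    rho 𝒜 ι h y = ι.app (Proj.basicOpen 𝒜 h) (Proj.awayToSection 𝒜 h y) := rfl

lemma rho_awayMap {e : ℕ} {f g x : A} (hg : g ∈ 𝒜 e) (hx : x = f * g) (y : Away 𝒜 f) :
    rho 𝒜 ι x (awayMap 𝒜 hg hx y) =
      Z.presheaf.map (homOfLE (ι.preimage_mono
        (Proj.basicOpen_mono _ _ _ ⟨_, hx⟩))).op (rho 𝒜 ι f y) := by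
  have h1 := congrArg (fun φ => (φ ≫ ι.app (Proj.basicOpen 𝒜 x)).hom y)
    (Proj.awayMap_awayToSection 𝒜 hg hx)
  simp only [Category.assoc] at h1
  rw [ι.naturality] at h1
  exact h1

/-- The vanishing predicate: all homogeneous components of `a` vanish on `Z` in every degree-one chart. -/
def Van (a : A) : Prop :=
  ∀ (f : A) (hf : f ∈ 𝒜 1) (k : ℕ), rho 𝒜 ι f (dmap 𝒜 hf k a) = 0

lemma van_zero : Van 𝒜 ι 0 := fun f hf k => by rw [map_zero, map_zero]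

lemma van_add {a b : A} (ha : Van 𝒜 ι a) (hb : Van 𝒜 ι b) : Van 𝒜 ι (a + b) :=
  fun f hf k => by rw [map_add, map_add, ha f hf k, hb f hf k, add_zero]

lemma van_mul (c : A) {a : A} (ha : Van 𝒜 ι a) : Van 𝒜 ι (c * a) := by
  classical
  intro f hf k
  rw [← DirectSum.sum_support_decompose 𝒜 c, Finset.sum_mul, map_sum, map_sum]
  refine Finset.sum_eq_zero fun m _ => ?_
  have hc : (DirectSum.decompose 𝒜 c m : A) ∈ 𝒜 (m • 1) := by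
    rw [smul_eq_mul, mul_one]; exact SetLike.coe_mem _
  by_cases hmk : m ≤ k
  · rw [dmap_mul_of_le 𝒜 hf hmk hc, map_mul, ha f hf (k - m), mul_zero]
  · rw [dmap_mul_of_not_le 𝒜 hf hmk hc, map_zero]

/-- The homogeneous ideal of elements vanishing on `Z`. -/
def vanIdeal : Ideal A where
  carrier := {a | Van 𝒜 ι a}
  zero_mem' := van_zero 𝒜 ι
  add_mem' := fun ha hb => van_add 𝒜 ι ha hb
  smul_mem' := fun c _ ha => van_mul 𝒜 ι c ha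

lemma mem_vanIdeal {a : A} : a ∈ vanIdeal 𝒜 ι ↔ Van 𝒜 ι a := Iff.rfl

lemma vanIdeal_isHomogeneous : (vanIdeal 𝒜 ι).IsHomogeneous 𝒜 := by
  intro n a ha f hf k
  rw [dmap_decompose]
  split_ifs with h
  · exact ha f hf k
  · exact map_zero _

lemma mem_vanIdeal_of_homogeneous {n : ℕ} {a : A} (ha : a ∈ 𝒜 (n • 1))
    (h : ∀ (f : A) (hf : f ∈ 𝒜 1), rho 𝒜 ι f (Away.mk 𝒜 hf n a ha) = 0) :
    a ∈ vanIdeal 𝒜 ι := by
  intro f hf k
  by_cases hk : k = n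
  · subst hk
    rw [dmap_of_mem 𝒜 hf k a ha]
    exact h f hf
  · have : k • 1 ≠ n • 1 := by simpa using hk
    rw [dmap_of_mem_ne 𝒜 hf this ha, map_zero]

lemma rho_mk_eq_zero_of_mem {n : ℕ} {a : A} (ha : a ∈ 𝒜 (n • 1)) (h : a ∈ vanIdeal 𝒜 ι)
    (f : A) (hf : f ∈ 𝒜 1) : rho 𝒜 ι f (Away.mk 𝒜 hf n a ha) = 0 := by
  have := h f hf n
  rwa [dmap_of_mem 𝒜 hf n a ha] at this

end rho



section loc
variable {A σ : Type u} [CommRing A] [SetLike σ A] [AddSubgroupClass σ A] (𝒜 : ℕ → σ) [GradedRing 𝒜]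
  {Z : Scheme.{u}} (ι : Z ⟶ Proj 𝒜)

lemma preimage_mul_le_left (g f : A) :
    ι ⁻¹ᵁ Proj.basicOpen 𝒜 (g * f) ≤ ι ⁻¹ᵁ Proj.basicOpen 𝒜 g :=
  ι.preimage_mono (Proj.basicOpen_mono _ _ _ ⟨_, rfl⟩)

lemma preimage_mul_le_right (g f : A) :
    ι ⁻¹ᵁ Proj.basicOpen 𝒜 (g * f) ≤ ι ⁻¹ᵁ Proj.basicOpen 𝒜 f :=
  ι.preimage_mono (Proj.basicOpen_mono _ _ _ ⟨_, mul_comm g f⟩)

/-- `a f^n/x^n = (a g^n/x^n) (f^{2n}/x^n)` for `x = g f`. -/
lemma mk_key {f g x : A} (hf : f ∈ 𝒜 1) (hg : g ∈ 𝒜 1) (hx : x = g * f) (hx2 : x ∈ 𝒜 (1 + 1))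
    (n : ℕ) (a : A) (ha : a ∈ 𝒜 (n • 1)) :
    Away.mk 𝒜 hx2 n (a * f ^ n)
        (by rw [smul_add]; exact SetLike.mul_mem_graded ha (SetLike.pow_mem_graded n hf)) =
      Away.mk 𝒜 hx2 n (a * g ^ n)
          (by rw [smul_add]; exact SetLike.mul_mem_graded ha (SetLike.pow_mem_graded n hg)) *
        Away.mk 𝒜 hx2 n (f ^ (2 * n)) (by
          have := SetLike.pow_mem_graded (2 * n) hf
          have e : (2 * n) • 1 = n • (1 + 1) := by simp; ring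
          rwa [e] at this) := by
  subst hx
  apply HomogeneousLocalization.val_injective
  rw [HomogeneousLocalization.val_mul, Away.val_mk, Away.val_mk, Away.val_mk,
    Localization.mk_mul, Localization.mk_eq_mk_iff, Localization.r_iff_exists]
  refine ⟨1, ?_⟩
  simp only [OneMemClass.coe_one, one_mul, Submonoid.coe_mul]
  ring

/-- If `a/g^n` vanishes on `Z ∩ D₊(g)`, then `a/f^n` vanishes on `Z ∩ D₊(gf)`. -/
lemma res_rho_eq_zero {f g : A} (hf : f ∈ 𝒜 1) (hg : g ∈ 𝒜 1) (n : ℕ) (a : A) (ha : a ∈ 𝒜 (n • 1))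
    (h0 : rho 𝒜 ι g (Away.mk 𝒜 hg n a ha) = 0) :
    Z.presheaf.map (homOfLE (preimage_mul_le_right 𝒜 ι g f)).op
      (rho 𝒜 ι f (Away.mk 𝒜 hf n a ha)) = 0 := by
  have h1 := rho_awayMap 𝒜 ι hf (rfl : g * f = g * f) (Away.mk 𝒜 hg n a ha)
  have h2 := rho_awayMap 𝒜 ι hg (mul_comm g f) (Away.mk 𝒜 hf n a ha)
  rw [h0, map_zero] at h1
  rw [awayMap_mk] at h1 h2
  change _ = Z.presheaf.map (homOfLE (preimage_mul_le_right 𝒜 ι g f)).op _ at h2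
  rw [← h2]
  have hx2 : g * f ∈ 𝒜 (1 + 1) := SetLike.mul_mem_graded hg hf
  have key := mk_key 𝒜 hg hf (mul_comm g f) hx2 n a ha
  rw [key, map_mul, h1, zero_mul]

/-- **Locality**: to check that a homogeneous element vanishes on `Z` it suffices to test the degree-one charts
`D₊(g)`, `g ∈ G`, whose preimages cover `Z`. -/
theorem mem_vanIdeal_of_cover (G : Set A) (hG1 : ∀ g ∈ G, g ∈ 𝒜 1)
    (hcov : ∀ z : Z, ∃ g ∈ G, ι.base z ∈ Proj.basicOpen 𝒜 g)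
    {n : ℕ} {a : A} (ha : a ∈ 𝒜 (n • 1))
    (h : ∀ (g : A) (hg : g ∈ G), rho 𝒜 ι g (Away.mk 𝒜 (hG1 g hg) n a ha) = 0) :
    a ∈ vanIdeal 𝒜 ι := by
  refine mem_vanIdeal_of_homogeneous 𝒜 ι ha fun f hf => ?_
  refine TopCat.Sheaf.eq_of_locally_eq' Z.sheaf
    (fun g : G => ι ⁻¹ᵁ Proj.basicOpen 𝒜 (g.1 * f)) (ι ⁻¹ᵁ Proj.basicOpen 𝒜 f)
    (fun g => homOfLE (preimage_mul_le_right 𝒜 ι g.1 f)) ?_ _ _ fun g => ?_
  · intro z hz
    obtain ⟨g, hg, hzg⟩ := hcov z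
    refine Opens.mem_iSup.2 ⟨⟨g, hg⟩, ?_⟩
    change ι.base z ∈ Proj.basicOpen 𝒜 (g * f)
    rw [Proj.basicOpen_mul]
    exact ⟨hzg, hz⟩
  · refine (res_rho_eq_zero 𝒜 ι hf (hG1 g.1 g.2) n a ha (h g.1 g.2)).trans ?_
    exact (map_zero (Z.presheaf.map (homOfLE (preimage_mul_le_right 𝒜 ι g.1 f)).op).hom).symm

end loc



section scheme1
variable {A σ : Type u} [CommRing A] [SetLike σ A] [AddSubgroupClass σ A] (𝒜 : ℕ → σ) [GradedRing 𝒜]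

/-- `awayι g ⁻¹ (X.basicOpen (τ_g y)) = D(y)`. -/
lemma awayι_preimage_basicOpen_awayToSection {d : ℕ} {g : A} (hg : g ∈ 𝒜 d) (hd : 0 < d)
    (y : Away 𝒜 g) :
    Proj.awayι 𝒜 g hg hd ⁻¹ᵁ (Proj 𝒜).basicOpen (Proj.awayToSection 𝒜 g y) =
      PrimeSpectrum.basicOpen y := by
  have h1 : (Proj.basicOpenIsoSpec 𝒜 g hg hd).hom ⁻¹ᵁ
      (PrimeSpectrum.basicOpen y : (Spec (CommRingCat.of (Away 𝒜 g))).Opens) =
      (Proj.basicOpen 𝒜 g).ι ⁻¹ᵁ (Proj 𝒜).basicOpen (Proj.awayToSection 𝒜 g y) := by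
    rw [← Scheme.Opens.toSpecΓ_preimage_basicOpen]
    rfl
  have h2 : Proj.awayι 𝒜 g hg hd ⁻¹ᵁ (Proj 𝒜).basicOpen (Proj.awayToSection 𝒜 g y) =
      (Proj.basicOpenIsoSpec 𝒜 g hg hd).inv ⁻¹ᵁ ((Proj.basicOpen 𝒜 g).ι ⁻¹ᵁ
        (Proj 𝒜).basicOpen (Proj.awayToSection 𝒜 g y)) := rfl
  rw [h2, ← h1]
  have h3 := Scheme.Hom.comp_preimage (Proj.basicOpenIsoSpec 𝒜 g hg hd).inv
    (Proj.basicOpenIsoSpec 𝒜 g hg hd).hom
    (PrimeSpectrum.basicOpen y : (Spec (CommRingCat.of (Away 𝒜 g))).Opens)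
  refine h3.symm.trans ?_
  rw [Iso.inv_hom_id]
  rfl

lemma basicOpen_awayToSection_le {d e : ℕ} {g f : A} (hg : g ∈ 𝒜 d) (hd : 0 < d)
    (hf : f ∈ 𝒜 e) (he : 0 < e) :
    (Proj 𝒜).basicOpen (Proj.awayToSection 𝒜 g (Away.isLocalizationElem hg hf)) ≤
      Proj.basicOpen 𝒜 f := by
  have h1 := awayι_preimage_basicOpen_awayToSection 𝒜 hg hd (Away.isLocalizationElem hg hf)
  have h2 := Proj.awayι_preimage_basicOpen 𝒜 hg hd hf he
  have hB : (Proj 𝒜).basicOpen (Proj.awayToSection 𝒜 g (Away.isLocalizationElem hg hf)) ≤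
      (Proj.awayι 𝒜 g hg hd).opensRange := by
    rw [Proj.opensRange_awayι]
    exact Scheme.basicOpen_le _ _
  intro x hx
  obtain ⟨z, rfl⟩ := hB hx
  have h3 : z ∈ Proj.awayι 𝒜 g hg hd ⁻¹ᵁ
      (Proj 𝒜).basicOpen (Proj.awayToSection 𝒜 g (Away.isLocalizationElem hg hf)) := hx
  rw [h1, ← h2] at h3
  exact h3

end scheme1

section ev
variable {A σ : Type u} [CommRing A] [SetLike σ A] [AddSubgroupClass σ A] (𝒜 : ℕ → σ) [GradedRing 𝒜]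
  {Z : Scheme.{u}} (ι : Z ⟶ Proj 𝒜) [QuasiCompact ι]

theorem rho_eventually_zero {f g : A} (hf : f ∈ 𝒜 1) (hg : g ∈ 𝒜 1) (n : ℕ) (a : A)
    (ha : a ∈ 𝒜 (n • 1)) (h0 : rho 𝒜 ι f (Away.mk 𝒜 hf n a ha) = 0) :
    ∃ N₀ : ℕ, ∀ N, N₀ ≤ N → ∀ (h : f ^ N * a ∈ 𝒜 ((n + N) • 1)),
      rho 𝒜 ι g (Away.mk 𝒜 hg (n + N) (f ^ N * a) h) = 0 := by
  have hV : IsCompact ((ι ⁻¹ᵁ Proj.basicOpen 𝒜 g : Z.Opens) : Set Z) :=
    QuasiCompact.isCompact_preimage (f := ι) _ (Proj.basicOpen 𝒜 g).2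
      (Proj.isAffineOpen_basicOpen 𝒜 g hg one_pos).isCompact
  let y : Away 𝒜 g := Away.isLocalizationElem hg hf
  let t := rho 𝒜 ι g y
  let σ' := rho 𝒜 ι g (Away.mk 𝒜 hg n a ha)
  have hle : Z.basicOpen t ≤ ι ⁻¹ᵁ Proj.basicOpen 𝒜 (f * g) := by
    change Z.basicOpen (ι.app (Proj.basicOpen 𝒜 g) (Proj.awayToSection 𝒜 g y)) ≤ _
    rw [← Scheme.preimage_basicOpen]
    apply ι.preimage_mono
    rw [Proj.basicOpen_mul]
    exact le_inf (basicOpen_awayToSection_le 𝒜 hg one_pos hf one_pos) (Scheme.basicOpen_le _ _)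
  have hW : Z.presheaf.map (homOfLE (preimage_mul_le_right 𝒜 ι f g)).op σ' = 0 :=
    res_rho_eq_zero 𝒜 ι hg hf n a ha h0
  have H : σ' |_ (Z.basicOpen t) = 0 := by
    have h3 : Z.presheaf.map (homOfLE hle).op
        (Z.presheaf.map (homOfLE (preimage_mul_le_right 𝒜 ι f g)).op σ') = 0 := by
      rw [hW, map_zero]
    rw [← ConcreteCategory.comp_apply, ← Functor.map_comp] at h3
    exact h3
  obtain ⟨N₀, hN₀⟩ :=
    exists_pow_mul_eq_zero_of_res_basicOpen_eq_zero_of_isCompact Z hV σ' t H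
  refine ⟨N₀, fun N hN h => ?_⟩
  have e1 : Away.mk 𝒜 hg (n + N) (f ^ N * a) h = y ^ N * Away.mk 𝒜 hg n a ha := by
    apply HomogeneousLocalization.val_injective
    rw [HomogeneousLocalization.val_mul, HomogeneousLocalization.val_pow, Away.val_mk, Away.val_mk,
      Away.val_mk, Localization.mk_pow, Localization.mk_mul]
    congr 1
    · rw [pow_one]
    · apply Subtype.ext
      simp only [Submonoid.coe_mul, SubmonoidClass.coe_pow]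
      rw [pow_one, ← pow_add, add_comm]
  rw [e1, map_mul, map_pow]
  change t ^ N * σ' = 0
  obtain ⟨k, rfl⟩ := Nat.exists_eq_add_of_le hN
  rw [pow_add, mul_comm (t ^ N₀), mul_assoc, hN₀, mul_zero]

end ev



section iff
variable {A σ : Type u} [CommRing A] [SetLike σ A] [AddSubgroupClass σ A] (𝒜 : ℕ → σ) [GradedRing 𝒜]
  {Z : Scheme.{u}} (ι : Z ⟶ Proj 𝒜) [QuasiCompact ι]

/-- For a finite family of degree-one charts covering `Z`: `a/f^n` vanishes on `Z ∩ D₊(f)` iff some `f^N a` lies in the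
vanishing ideal. -/
theorem exists_pow_mul_mem_iff (G : Finset A) (hG1 : ∀ g ∈ G, g ∈ 𝒜 1)
    (hcov : ∀ z : Z, ∃ g ∈ G, ι.base z ∈ Proj.basicOpen 𝒜 g)
    (f : A) (hf : f ∈ 𝒜 1) (n : ℕ) (a : A) (ha : a ∈ 𝒜 (n • 1)) :
    (∃ N : ℕ, f ^ N * a ∈ vanIdeal 𝒜 ι) ↔ rho 𝒜 ι f (Away.mk 𝒜 hf n a ha) = 0 := by
  classical
  constructor
  · rintro ⟨N, hN⟩
    have := hN f hf (n + N)
    rwa [dmap_pow_mul, dmap_of_mem 𝒜 hf n a ha] at this
  · intro h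
    choose N₀ hN₀ using fun (g : A) (hg : g ∈ G) =>
      rho_eventually_zero 𝒜 ι hf (hG1 g hg) n a ha h
    let N : ℕ := G.attach.sup fun g => N₀ g.1 g.2
    have ha' : f ^ N * a ∈ 𝒜 ((n + N) • 1) := by
      have h1 : f ^ N ∈ 𝒜 (N • 1) := SetLike.pow_mem_graded N hf
      have h2 := SetLike.mul_mem_graded h1 ha
      have h3 : N • 1 + n • 1 = (n + N) • 1 := by rw [add_smul, add_comm]
      rwa [h3] at h2
    refine ⟨N, mem_vanIdeal_of_cover 𝒜 ι (G : Set A) (fun g hg => hG1 g hg)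
      (fun z => hcov z) ha' fun g hg => ?_⟩
    exact hN₀ g hg N (Finset.le_sup (f := fun g : {x // x ∈ G} => N₀ g.1 g.2)
      (Finset.mem_attach G ⟨g, hg⟩)) ha'

end iff

section quot
variable {A σ : Type u} [CommRing A] [SetLike σ A] [AddSubgroupClass σ A] (𝒜 : ℕ → σ) [GradedRing 𝒜]
  (I : Ideal A) [GradedRing (quotDeg 𝒜 I)]

lemma irrelevant_le_map_mkGraded :
    HomogeneousIdeal.irrelevant (quotDeg 𝒜 I) ≤
      (HomogeneousIdeal.irrelevant 𝒜).map (mkGraded 𝒜 (I := I)) := by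
  rw [HomogeneousIdeal.irrelevant_le]
  intro k hk b hb
  obtain ⟨a, ha, rfl⟩ := (mem_quotDeg 𝒜 I).1 hb
  exact Ideal.mem_map_of_mem _ (HomogeneousIdeal.mem_irrelevant_of_mem 𝒜 hk ha)

instance isClosedImmersion_map_mkGraded :
    IsClosedImmersion (Proj.map (mkGraded 𝒜 (I := I)) (irrelevant_le_map_mkGraded 𝒜 I)) :=
  Groth.Agent.Lib.ProjMapImm.isClosedImmersion_map _ _ 0
    fun _ _ _ hy => (mem_quotDeg 𝒜 I).1 hy

lemma away_map_mkGraded_eq_zero_iff {f : A} {d : ℕ} (hf : f ∈ 𝒜 d) (n : ℕ) (a : A)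
    (ha : a ∈ 𝒜 (n • d)) :
    Away.map (mkGraded 𝒜 (I := I)) f (Away.mk 𝒜 hf n a ha) = 0 ↔ ∃ N : ℕ, f ^ N * a ∈ I := by
  rw [Away.map_mk, Groth.Agent.Lib.ProjMapImm.away_mk_eq_zero_iff]
  refine exists_congr fun N => ?_
  rw [← map_pow, ← map_mul, mkGraded_eq_zero_iff]

lemma map_mkGraded_app_eq_zero_iff {f : A} (hf : f ∈ 𝒜 1) (y : Away 𝒜 f) :
    (Proj.map (mkGraded 𝒜 (I := I)) (irrelevant_le_map_mkGraded 𝒜 I)).app (Proj.basicOpen 𝒜 f)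
      (Proj.awayToSection 𝒜 f y) = 0 ↔ Away.map (mkGraded 𝒜 (I := I)) f y = 0 := by
  have h1 := congrArg (fun φ => φ.hom y)
    (Proj.awayToSection_comp_appLE (mkGraded 𝒜 (I := I)) (irrelevant_le_map_mkGraded 𝒜 I) hf)
  simp only [CommRingCat.hom_comp, RingHom.coe_comp, Function.comp_apply,
    CommRingCat.hom_ofHom] at h1
  have hinj : Function.Injective
      (Proj.awayToSection (quotDeg 𝒜 I) (mkGraded 𝒜 (I := I) f)) :=
    ((ConcreteCategory.isIso_iff_bijective _).1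
      (Proj.basicOpenIsoAway (quotDeg 𝒜 I) (mkGraded 𝒜 (I := I) f)
        (map_mem (mkGraded 𝒜 (I := I)) hf) one_pos).isIso_hom).1
  have h2 : (Proj.map (mkGraded 𝒜 (I := I)) (irrelevant_le_map_mkGraded 𝒜 I)).app
      (Proj.basicOpen 𝒜 f) (Proj.awayToSection 𝒜 f y) =
      (Proj.awayToSection (quotDeg 𝒜 I) (mkGraded 𝒜 (I := I) f)).hom
        (Away.map (mkGraded 𝒜 (I := I)) f y) := by
    rw [Scheme.Hom.app_eq_appLE]
    exact h1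
  constructor
  · intro h
    apply hinj
    rw [map_zero]
    exact h2.symm.trans h
  · intro h
    rw [h2, h, map_zero]
    rfl

end quot

section final
variable {A σ : Type u} [CommRing A] [SetLike σ A] [AddSubgroupClass σ A] (𝒜 : ℕ → σ) [GradedRing 𝒜]
  {Z : Scheme.{u}} (ι : Z ⟶ Proj 𝒜)
  [GradedRing (quotDeg 𝒜 (vanIdeal 𝒜 ι))]

theorem ker_eq [QuasiCompact ι] (T : Set A) (hT1 : ∀ f ∈ T, f ∈ 𝒜 1)
    (hT : ∀ x : Proj 𝒜, ∃ f ∈ T, x ∈ Proj.basicOpen 𝒜 f)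
    (G : Finset A) (hG1 : ∀ g ∈ G, g ∈ 𝒜 1)
    (hcov : ∀ z : Z, ∃ g ∈ G, ι.base z ∈ Proj.basicOpen 𝒜 g) :
    ι.ker = (Proj.map (mkGraded 𝒜 (I := vanIdeal 𝒜 ι))
      (irrelevant_le_map_mkGraded 𝒜 _)).ker := by
  refine Scheme.IdealSheafData.ext_of_iSup_eq_top
    (fun f : T => (⟨Proj.basicOpen 𝒜 f.1,
      Proj.isAffineOpen_basicOpen 𝒜 f.1 (hT1 f.1 f.2) one_pos⟩ : (Proj 𝒜).affineOpens))
    ?_ fun f => ?_
  · rw [eq_top_iff]
    intro x _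
    obtain ⟨f, hf, hx⟩ := hT x
    exact Opens.mem_iSup.2 ⟨⟨f, hf⟩, hx⟩
  · rw [Scheme.Hom.ker_apply, Scheme.Hom.ker_apply]
    ext x
    have hsurj : Function.Surjective (Proj.awayToSection 𝒜 f.1) :=
      ((ConcreteCategory.isIso_iff_bijective _).1
        (Proj.basicOpenIsoAway 𝒜 f.1 (hT1 f.1 f.2) one_pos).isIso_hom).2
    obtain ⟨y, rfl⟩ := hsurj x
    obtain ⟨n, a, ha, rfl⟩ := Away.mk_surjective 𝒜 (hT1 f.1 f.2) y
    rw [RingHom.mem_ker, RingHom.mem_ker]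
    refine Iff.trans ?_ (map_mkGraded_app_eq_zero_iff 𝒜 _ (hT1 f.1 f.2) _).symm
    rw [away_map_mkGraded_eq_zero_iff,
      exists_pow_mul_mem_iff 𝒜 ι G hG1 hcov f.1 (hT1 f.1 f.2) n a ha]
    rfl

theorem exists_iso [IsClosedImmersion ι] (T : Set A) (hT1 : ∀ f ∈ T, f ∈ 𝒜 1)
    (hT : ∀ x : Proj 𝒜, ∃ f ∈ T, x ∈ Proj.basicOpen 𝒜 f)
    (G : Finset A) (hG1 : ∀ g ∈ G, g ∈ 𝒜 1)
    (hcov : ∀ z : Z, ∃ g ∈ G, ι.base z ∈ Proj.basicOpen 𝒜 g) :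
    ∃ e : Z ≅ Proj (quotDeg 𝒜 (vanIdeal 𝒜 ι)),
      e.hom ≫ Proj.map (mkGraded 𝒜 (I := vanIdeal 𝒜 ι))
        (irrelevant_le_map_mkGraded 𝒜 _) = ι := by
  have h := ker_eq 𝒜 ι T hT1 hT G hG1 hcov
  have := IsClosedImmersion.isIso_lift _ ι h.symm
  exact ⟨asIso (IsClosedImmersion.lift _ ι h.symm.le), IsClosedImmersion.lift_fac _ _ _⟩

end final



section naturality
variable {A σ : Type u} [CommRing A] [SetLike σ A] [AddSubgroupClass σ A] (𝒜 : ℕ → σ) [GradedRing 𝒜]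
  {B τ : Type u} [CommRing B] [SetLike τ B] [AddSubgroupClass τ B] (ℬ : ℕ → τ) [GradedRing ℬ]
  (ψ : 𝒜 →+*ᵍ ℬ)

lemma dmap_map {f : A} (hf : f ∈ 𝒜 1) (k : ℕ) (a : A) :
    dmap ℬ (map_mem ψ hf) k (ψ a) = Away.map ψ f (dmap 𝒜 hf k a) := by
  rw [dmap_apply, dmap_apply, Away.map_mk]
  congr 1
  exact (ψ.map_directSumDecompose).symm

variable (hψ : ℬ₊ ≤ 𝒜₊.map ψ)
  {ZA ZB : Scheme.{u}} (ιA : ZA ⟶ Proj 𝒜) (ιB : ZB ⟶ Proj ℬ) (g : ZB ⟶ ZA)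
  (hg : g ≫ ιA = ιB ≫ Proj.map ψ hψ)

include hg in
lemma preimage_eq (f : A) :
    ιB ⁻¹ᵁ Proj.basicOpen ℬ (ψ f) = g ⁻¹ᵁ (ιA ⁻¹ᵁ Proj.basicOpen 𝒜 f) := by
  rw [← Proj.map_preimage_basicOpen ψ hψ f, ← Scheme.Hom.comp_preimage, ← hg,
    Scheme.Hom.comp_preimage]

include hg in
lemma preimage_le (f : A) :
    ιB ⁻¹ᵁ Proj.basicOpen ℬ (ψ f) ≤ g ⁻¹ᵁ (ιA ⁻¹ᵁ Proj.basicOpen 𝒜 f) :=
  (preimage_eq 𝒜 ℬ ψ hψ ιA ιB g hg f).le

include hg in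
lemma rho_map_cat (f : A) {d : ℕ} (hf : f ∈ 𝒜 d) :
    CommRingCat.ofHom (Away.map ψ f) ≫ Proj.awayToSection ℬ (ψ f) ≫
        ιB.app (Proj.basicOpen ℬ (ψ f)) =
      Proj.awayToSection 𝒜 f ≫ ιA.app (Proj.basicOpen 𝒜 f) ≫
        g.appLE (ιA ⁻¹ᵁ Proj.basicOpen 𝒜 f) (ιB ⁻¹ᵁ Proj.basicOpen ℬ (ψ f))
          (preimage_le 𝒜 ℬ ψ hψ ιA ιB g hg f) := by
  rw [← Proj.awayToSection_comp_appLE_assoc ψ hψ hf]
  congr 1
  rw [Scheme.Hom.app_eq_appLE, Scheme.Hom.app_eq_appLE, Scheme.Hom.appLE_comp_appLE,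
    Scheme.Hom.appLE_comp_appLE]
  simp only [hg]

include hg in
lemma rho_map (f : A) {d : ℕ} (hf : f ∈ 𝒜 d) (y : Away 𝒜 f) :
    rho ℬ ιB (ψ f) (Away.map ψ f y) =
      g.appLE (ιA ⁻¹ᵁ Proj.basicOpen 𝒜 f) (ιB ⁻¹ᵁ Proj.basicOpen ℬ (ψ f))
        (preimage_le 𝒜 ℬ ψ hψ ιA ιB g hg f) (rho 𝒜 ιA f y) :=
  congr($(rho_map_cat 𝒜 ℬ ψ hψ ιA ιB g hg f hf) y)

include hg in
/-- Naturality of the vanishing ideal: if the images of the degree-one elements of `A` give charts covering `Z_B`. -/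
theorem map_mem_vanIdeal
    (hcov : ∀ z : ZB, ∃ f ∈ 𝒜 1, ιB.base z ∈ Proj.basicOpen ℬ (ψ f)) {p : A}
    (hp : p ∈ vanIdeal 𝒜 ιA) : ψ p ∈ vanIdeal ℬ ιB := by
  classical
  rw [← DirectSum.sum_support_decompose 𝒜 p, map_sum]
  refine Ideal.sum_mem _ fun n _ => ?_
  have hpn : (DirectSum.decompose 𝒜 p n : A) ∈ vanIdeal 𝒜 ιA := vanIdeal_isHomogeneous 𝒜 ιA n hp
  have hn : (DirectSum.decompose 𝒜 p n : A) ∈ 𝒜 (n • 1) := by
    rw [smul_eq_mul, mul_one]; exact SetLike.coe_mem _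
  refine mem_vanIdeal_of_cover ℬ ιB (ψ '' {f | f ∈ 𝒜 1}) ?_ ?_ (ψ.map_mem hn) ?_
  · rintro _ ⟨f, hf, rfl⟩
    exact ψ.map_mem hf
  · intro z
    obtain ⟨f, hf, hz⟩ := hcov z
    exact ⟨ψ f, ⟨f, hf, rfl⟩, hz⟩
  · rintro _ ⟨f, hf, rfl⟩
    have hf' : f ∈ 𝒜 1 := hf
    have h1 := rho_mk_eq_zero_of_mem 𝒜 ιA hn hpn f hf'
    have h2 := rho_map 𝒜 ℬ ψ hψ ιA ιB g hg f hf' (Away.mk 𝒜 hf' n _ hn)
    rw [h1, map_zero, Away.map_mk] at h2
    exact h2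

end naturality



section zero
variable {A σ : Type u} [CommRing A] [SetLike σ A] [AddSubgroupClass σ A] (𝒜 : ℕ → σ) [GradedRing 𝒜]

/-- the class of a degree-zero element in `A_(f)` -/
noncomputable def zmk {d : ℕ} {f : A} (hf : f ∈ 𝒜 d) (r : A) (hr : r ∈ 𝒜 0) : Away 𝒜 f :=
  Away.mk 𝒜 hf 0 r (by rwa [zero_smul])

lemma val_zmk {d : ℕ} {f : A} (hf : f ∈ 𝒜 d) (r : A) (hr : r ∈ 𝒜 0) :
    (zmk 𝒜 hf r hr).val = Localization.mk r 1 := by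
  rw [zmk, Away.val_mk]
  congr 1
  exact Subtype.ext (pow_zero f)

lemma mk_pow_mul {d : ℕ} {f : A} (hf : f ∈ 𝒜 d) (r : A) (hr : r ∈ 𝒜 0) (M k : ℕ) (a : A)
    (ha : a ∈ 𝒜 (k • d)) (h : r ^ M * a ∈ 𝒜 (k • d)) :
    Away.mk 𝒜 hf k (r ^ M * a) h = zmk 𝒜 hf r hr ^ M * Away.mk 𝒜 hf k a ha := by
  apply HomogeneousLocalization.val_injective
  rw [HomogeneousLocalization.val_mul, HomogeneousLocalization.val_pow, val_zmk, Away.val_mk,
    Away.val_mk, Localization.mk_pow, Localization.mk_mul, one_pow, one_mul]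

lemma pow_mul_mem {r : A} (hr : r ∈ 𝒜 0) (M : ℕ) {n : ℕ} {a : A} (ha : a ∈ 𝒜 n) :
    r ^ M * a ∈ 𝒜 n := by
  have h1 : r ^ M ∈ 𝒜 (M • 0) := SetLike.pow_mem_graded M hr
  have h2 := SetLike.mul_mem_graded h1 ha
  rwa [smul_zero, zero_add] at h2

end zero

section naturality2
variable {A σ : Type u} [CommRing A] [SetLike σ A] [AddSubgroupClass σ A] (𝒜 : ℕ → σ) [GradedRing 𝒜]
  {B τ : Type u} [CommRing B] [SetLike τ B] [AddSubgroupClass τ B] (ℬ : ℕ → τ) [GradedRing ℬ]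
  (ψ : 𝒜 →+*ᵍ ℬ) (hψ : ℬ₊ ≤ 𝒜₊.map ψ)
  {ZA ZB : Scheme.{u}} (ιA : ZA ⟶ Proj 𝒜) (ιB : ZB ⟶ Proj ℬ) (g : ZB ⟶ ZA)
  (hg : g ≫ ιA = ιB ≫ Proj.map ψ hψ)

include hg in
/-- If `g : Z_B ⟶ Z_A` is an open immersion onto the basic open of a function `t` inducing the degree-zero element `r`
on the charts, then membership in the vanishing ideal of `Z_B` descends to `Z_A` up to a power of `r`. -/
theorem exists_pow_mul_mem_vanIdeal [QuasiCompact ιA] [IsOpenImmersion g]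
    (G : Finset A) (hG1 : ∀ f ∈ G, f ∈ 𝒜 1)
    (hcovA : ∀ z : ZA, ∃ f ∈ G, ιA.base z ∈ Proj.basicOpen 𝒜 f)
    (r : A) (hr : r ∈ 𝒜 0) (t : Γ(ZA, ⊤)) (hgr : g.opensRange = ZA.basicOpen t)
    (ht : ∀ (f : A) (hf : f ∈ G), rho 𝒜 ιA f (zmk 𝒜 (hG1 f hf) r hr) =
      ZA.presheaf.map (homOfLE (le_top : ιA ⁻¹ᵁ Proj.basicOpen 𝒜 f ≤ ⊤)).op t)
    {q : A} (hq : ψ q ∈ vanIdeal ℬ ιB) :
    ∃ M : ℕ, r ^ M * q ∈ vanIdeal 𝒜 ιA := by
  classical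
  have key : ∀ (f : A) (hf : f ∈ G) (k : ℕ), ∃ M : ℕ,
      rho 𝒜 ιA f (zmk 𝒜 (hG1 f hf) r hr) ^ M * rho 𝒜 ιA f (dmap 𝒜 (hG1 f hf) k q) = 0 := by
    intro f hf k
    have h1 := hq (ψ f) (ψ.map_mem (hG1 f hf)) k
    rw [dmap_map 𝒜 ℬ ψ (hG1 f hf) k q, rho_map 𝒜 ℬ ψ hψ ιA ιB g hg f (hG1 f hf)] at h1
    set W := ιA ⁻¹ᵁ Proj.basicOpen 𝒜 f with hW
    set W' := ιB ⁻¹ᵁ Proj.basicOpen ℬ (ψ f) with hW'
    set z := rho 𝒜 ιA f (dmap 𝒜 (hG1 f hf) k q) with hz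
    have hcomp : IsCompact (W : Set ZA) :=
      ιA.isCompact_preimage (Proj.isAffineOpen_basicOpen 𝒜 f (hG1 f hf) one_pos).isCompact
    have h2 := congr($(Scheme.Hom.appLE_appIso_inv g
      (preimage_le 𝒜 ℬ ψ hψ ιA ιB g hg f)) z)
    rw [CommRingCat.comp_apply, h1, map_zero] at h2
    rw [ht f hf]
    apply exists_pow_mul_eq_zero_of_res_basicOpen_eq_zero_of_isCompact ZA hcomp
    have hle : ZA.basicOpen (ZA.presheaf.map (homOfLE (le_top : W ≤ ⊤)).op t) ≤ g ''ᵁ W' := by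
      rw [Scheme.basicOpen_res, ← hgr, hW', preimage_eq 𝒜 ℬ ψ hψ ιA ιB g hg f,
        Scheme.Hom.image_preimage_eq_opensRange_inf, inf_comm]
    have h3 : ZA.presheaf.map (homOfLE hle).op (ZA.presheaf.map (homOfLE
      ((g.image_mono (preimage_le 𝒜 ℬ ψ hψ ιA ιB g hg f)).trans
          (g.image_preimage_eq_opensRange_inf W ▸ inf_le_right))).op z) = 0 := by
      rw [← h2, map_zero]
    rw [← CommRingCat.comp_apply, ← Functor.map_comp] at h3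
    exact h3
  choose Mf hMf using key
  let K : Finset ℕ := (DirectSum.decompose 𝒜 q).support
  let M : ℕ := (G.attach ×ˢ K).sup (fun x => Mf x.1.1 x.1.2 x.2)
  refine ⟨M, ?_⟩
  rw [← DirectSum.sum_support_decompose 𝒜 q, Finset.mul_sum]
  refine Ideal.sum_mem _ fun n hnK => ?_
  have hn : (DirectSum.decompose 𝒜 q n : A) ∈ 𝒜 (n • 1) := by
    rw [smul_eq_mul, mul_one]; exact SetLike.coe_mem _
  have hn' : r ^ M * (DirectSum.decompose 𝒜 q n : A) ∈ 𝒜 (n • 1) := pow_mul_mem 𝒜 hr M hn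
  refine mem_vanIdeal_of_cover 𝒜 ιA (G : Set A) (fun f hf => hG1 f hf) (fun z => hcovA z) hn'
    fun f hf => ?_
  rw [mk_pow_mul 𝒜 (hG1 f hf) r hr M n _ hn hn', map_mul, map_pow]
  have e1 : Away.mk 𝒜 (hG1 f hf) n (DirectSum.decompose 𝒜 q n : A) hn =
      dmap 𝒜 (hG1 f hf) n q := by
    rw [← dmap_of_mem 𝒜 (hG1 f hf) n _ hn, dmap_decompose, if_pos (by simp)]
  rw [e1]
  have hmem : ((⟨f, hf⟩, n) : {x // x ∈ G} × ℕ) ∈ G.attach ×ˢ K :=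
    Finset.mem_product.2 ⟨Finset.mem_attach G ⟨f, hf⟩, hnK⟩
  have hle : Mf f hf n ≤ M :=
    Finset.le_sup (f := fun x : {x // x ∈ G} × ℕ => Mf x.1.1 x.1.2 x.2) hmem
  obtain ⟨c, hc⟩ := Nat.exists_eq_add_of_le hle
  rw [hc, pow_add, mul_comm (_ ^ Mf f hf n), mul_assoc, hMf f hf n, mul_zero]

end naturality2


end Groth.Agent.Lib.ProjVanIdeal
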