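import Groth.Agent.Lib.SepLqfRep46c
import Groth.Agent.Lib.AlgSpProper2
import Groth.Agent.Lib.AlgSpPtwise91
import Groth.Agent.Lib.H86ZarLocBase

/-!
# Separated locally quasi-finite morphisms of algebraic spaces are representable; proper + locally quasi-finite = finite
(helper46)
-/

set_option autoImplicit false
universe u

open CategoryTheory CategoryTheory.Limits AlgebraicGeometry Opposite

namespace Groth.Agent.Lib.ProperLqfFinite46

open AlgSp Groth.Agent.Lib.AlgSpPoints Groth.Agent.Lib.H86AlgSpOpen Groth.Agent.Lib.H86AlgSpSub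

variable {S : Scheme.{u}}

/-- A separated locally quasi-finite morphism of algebraic spaces is representable (sheaf-level form of S10260). -/
theorem representable_of_sep_lqf {X Y : Sp S} (hX : IsAlgSpace X) (hY : IsAlgSpace Y) (f : X ⟶ Y)
    (hqf : LocP (@LocallyQuasiFinite ⊓ @LocallyOfFiniteType) f) (hsep : IsSeparatedMor f) :
    Representable f := by
  intro Z z
  have hZ : IsAlgSpace ((yon S).obj Z) := IsAlgSpace.yon_obj _
  have sq := IsPullback.of_hasPullback f z
  have hP : IsAlgSpace (pullback f z) :=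
    Groth.Agent.Lib.AlgSpBasic.isAlgSpace_of_isPullback hX hZ
      (fun U a => hY.representable_from_yon a) sq
  have hsep' : IsSeparatedMor (pullback.snd f z) :=
    Groth.Agent.Lib.AlgSpProper.isSeparatedMor_of_isPullback sq hsep
  have hqf' : LocP (@LocallyQuasiFinite ⊓ @LocallyOfFiniteType) (pullback.snd f z) :=
    Groth.Agent.Lib.AlgSpLocP.locP_of_isPullback Groth.Agent.Lib.AlgSpLocP.etLocalClass_lqf_lft
      hX hY hZ sq hqf
  obtain ⟨W, ⟨r⟩⟩ := Groth.Agent.Lib.SepLqfRep46.isRepresentable_of_sep_lqf hP (pullback.snd f z) hsep' hqf'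
  let e := isoOfRepresentableBy r
  obtain ⟨w, hw⟩ := (yon S).map_surjective (e.hom ≫ pullback.snd f z)
  refine ⟨W, w, e.hom ≫ pullback.fst f z, ?_⟩
  have h1 : IsPullback e.hom ((yon S).map w) (pullback.snd f z) (𝟙 _) :=
    IsPullback.of_horiz_isIso ⟨by rw [hw, Category.comp_id]⟩
  have h2 := h1.paste_horiz sq
  rwa [Category.id_comp] at h2

/-- A separated, universally closed, locally quasi-finite morphism of algebraic spaces is finite. -/
theorem isFiniteMor_of_sep_univClosed_lqf {X Y : Sp S} (hX : IsAlgSpace X) (hY : IsAlgSpace Y) (f : X ⟶ Y)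
    (hsep : IsSeparatedMor f) (huc : IsUnivClosedMor f)
    (hqf : LocP (@LocallyQuasiFinite ⊓ @LocallyOfFiniteType) f) : IsFiniteMor f := by
  have hrep := representable_of_sep_lqf hX hY f hqf hsep
  intro Z hZ g
  obtain ⟨W, i, fst, sq⟩ := hrep g
  have hZa : IsAlgSpace ((yon S).obj Z) := IsAlgSpace.yon_obj Z
  have hWa : IsAlgSpace ((yon S).obj W) := IsAlgSpace.yon_obj W
  have h1 : IsSeparatedMor ((yon S).map i) := Groth.Agent.Lib.AlgSpProper.isSeparatedMor_of_isPullback sq hsep
  have : IsSeparated i.left := ⟨(Groth.Agent.Lib.AlgSpUnram.repWith_diagonal_yon_map_iff _ i).1 h1⟩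
  have h2 : LocP (@LocallyQuasiFinite ⊓ @LocallyOfFiniteType) ((yon S).map i) :=
    Groth.Agent.Lib.AlgSpLocP.locP_of_isPullback Groth.Agent.Lib.AlgSpLocP.etLocalClass_lqf_lft
      hX hY hZa sq hqf
  have h2' := locP_yon_map h2
  have : LocallyQuasiFinite i.left := h2'.1
  have : LocallyOfFiniteType i.left := h2'.2
  have h3 : IsUnivClosedMor ((yon S).map i) := Groth.Agent.Lib.AlgSpDescent.univSp_of_isPullback sq huc
  have : UniversallyClosed i.left :=
    (repWith_yon_map_iff _ i).1
      ((Groth.Agent.Lib.AlgSpProper.repWith_universallyClosed_iff hWa hZa (representable_yon_map i)).2 h3)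
  have : IsProper i.left := {}
  have : IsFinite i.left := IsFinite.of_isProper_of_locallyQuasiFinite _
  have : IsAffine Z.left := hZ
  exact ⟨W, i, fst, sq, isAffine_of_isAffineHom i.left, inferInstance⟩

/-- The quasi-finiteness predicate used with `HasAtMor`. -/
abbrev QfAt : ∀ (U V : Scheme.{u}), (U ⟶ V) → ↥U → Prop :=
  fun U _ h u => ∃ W : U.Opens, u ∈ W ∧ LocallyQuasiFinite (W.ι ≫ h) ∧ LocallyOfFiniteType (W.ι ≫ h)

/-- **Finite over a neighbourhood.** A separated universally closed morphism locally of finite type which is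
quasi-finite at all points over `y` is finite over an open neighbourhood of `y`. -/
theorem exists_open_finite_of_qfAt_fibre {X Y : Sp S} (hX : IsAlgSpace X) (hY : IsAlgSpace Y) (f : X ⟶ Y)
    (hsep : IsSeparatedMor f) (huc : IsUnivClosedMor f) (hlft : LocP @LocallyOfFiniteType f)
    (y : Points Y) (hq : ∀ x : Points X, Points.map f x = y → HasAtMor QfAt f x) :
    ∃ (Vset : Set (Points Y)), IsOpen Vset ∧ y ∈ Vset ∧
      ∀ (P : Sp S) (fst : P ⟶ X) (snd : P ⟶ openSub Y Vset), IsPullback fst snd f (openSubι Y Vset) →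
        IsFiniteMor snd := by
  have hWo : IsOpen {x : Points X | HasAtMor QfAt f x} :=
    Groth.Agent.Lib.AlgSpPtwise91.pointwiseBC_lqf.isOpen f
  set W := {x : Points X | HasAtMor QfAt f x} with hW
  have hC : IsClosed (Points.map f '' Wᶜ) :=
    Groth.Agent.Lib.AlgSpProper.isClosedMor_of_isUnivClosedMor hY huc _ hWo.isClosed_compl
  refine ⟨(Points.map f '' Wᶜ)ᶜ, hC.isOpen_compl, ?_, ?_⟩
  · rintro ⟨x, hx, hxy⟩
    exact hx (hq x hxy)
  · intro P fst snd sq
    have hVo : IsOpen (Points.map f '' Wᶜ)ᶜ := hC.isOpen_compl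
    have hV : IsAlgSpace (openSub Y (Points.map f '' Wᶜ)ᶜ) := isAlgSpace_openSub hY hVo
    have hP : IsAlgSpace P :=
      Groth.Agent.Lib.AlgSpBasic.isAlgSpace_of_isPullback hX hV (fun U a => hY.representable_from_yon a) sq
    have hlft' : LocP @LocallyOfFiniteType snd :=
      Groth.Agent.Lib.AlgSpLocP.locP_of_isPullback Groth.Agent.Lib.AlgSpLocP.etLocalClass_lft hX hY hV sq hlft
    refine isFiniteMor_of_sep_univClosed_lqf hP hV snd
      (Groth.Agent.Lib.AlgSpProper.isSeparatedMor_of_isPullback sq hsep)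
      (Groth.Agent.Lib.AlgSpDescent.univSp_of_isPullback sq huc) ?_
    rw [Groth.Agent.Lib.AlgSpPtwise91.pointwiseBC_lqf.locP_iff hP hV snd hlft']
    intro p
    rw [Groth.Agent.Lib.AlgSpPtwise91.pointwiseBC_lqf.baseChange hX hY hP hV sq hlft p]
    by_contra hcon
    have h1 : Points.map (openSubι Y (Points.map f '' Wᶜ)ᶜ) (Points.map snd p) ∈ (Points.map f '' Wᶜ)ᶜ := by
      have : Points.map (openSubι Y (Points.map f '' Wᶜ)ᶜ) (Points.map snd p) ∈
          Set.range (Points.map (openSubι Y (Points.map f '' Wᶜ)ᶜ)) := ⟨_, rfl⟩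
      rwa [range_map_openSubι] at this
    apply h1
    refine ⟨Points.map fst p, hcon, ?_⟩
    rw [← Points.map_comp, sq.w, Points.map_comp]

end Groth.Agent.Lib.ProperLqfFinite46
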