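import Groth.Prelude.Def_ClSub2
import Mathlib.AlgebraicGeometry.Morphisms.Proper
import Mathlib.AlgebraicGeometry.Morphisms.Immersion

set_option autoImplicit false
universe u

open CategoryTheory CategoryTheory.Limits AlgebraicGeometry

namespace Groth.Agent.Lib.ProperOver

variable {X Y S T : Scheme.{u}}

/-- A morphism is universally closed if it becomes so after precomposition with each member of a
finite jointly surjective family. -/
theorem universallyClosed_of_jointly_surjective {ι : Type*} [Finite ι] (g : T ⟶ S)
    (U : ι → Scheme.{u}) (j : ∀ k, U k ⟶ T)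
    (hsurj : ∀ t : T, ∃ k, t ∈ Set.range (j k))
    (hprop : ∀ k, UniversallyClosed (j k ≫ g)) : UniversallyClosed g := by
  constructor
  intro X' Y' i₁ i₂ f' H
  have hk : ∀ k, IsClosedMap (pullback.fst i₁ (j k) ≫ f') := fun k =>
    (hprop k).universally_isClosedMap _ _ _ ((IsPullback.of_hasPullback i₁ (j k)).paste_horiz H)
  intro C hC
  have : f' '' C = ⋃ k, (pullback.fst i₁ (j k) ≫ f') '' ((pullback.fst i₁ (j k)) ⁻¹' C) := by
    ext y
    simp only [Set.mem_image, Set.mem_iUnion, Set.mem_preimage]
    constructor
    · rintro ⟨x, hx, rfl⟩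
      obtain ⟨k, hk'⟩ := hsurj (i₁ x)
      have : x ∈ Set.range (pullback.fst i₁ (j k)) := by
        rw [Scheme.Pullback.range_fst]; exact hk'
      obtain ⟨z, rfl⟩ := this
      exact ⟨k, z, hx, by simp⟩
    · rintro ⟨k, z, hz, rfl⟩
      exact ⟨_, hz, by simp⟩
  rw [this]
  exact isClosed_iUnion_of_finite fun k => hk k _ (hC.preimage (pullback.fst i₁ (j k)).continuous)

set_option backward.isDefEq.respectTransparency false in
/-- A morphism is separated if it becomes so after precomposition with each member of a
finite jointly surjective family of universally closed morphisms. -/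
theorem isSeparated_of_jointly_surjective {ι : Type*} [Finite ι] (g : T ⟶ S)
    (U : ι → Scheme.{u}) (j : ∀ k, U k ⟶ T) [∀ k, UniversallyClosed (j k)]
    (hsurj : ∀ t : T, ∃ k, t ∈ Set.range (j k))
    (hprop : ∀ k, IsSeparated (j k ≫ g)) : IsSeparated g := by
  constructor
  apply IsClosedImmersion.of_isPreimmersion
  let m : ∀ k, pullback (j k ≫ g) (j k ≫ g) ⟶ pullback g g := fun k =>
    pullback.map (j k ≫ g) (j k ≫ g) g g (j k) (j k) (𝟙 S) (by simp) (by simp)
  have hm : ∀ k, UniversallyClosed (m k) := fun k =>
    MorphismProperty.pullbackMap (P := @UniversallyClosed) inferInstance inferInstance rfl rfl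
  have hcomm : ∀ k, pullback.diagonal (j k ≫ g) ≫ m k = j k ≫ pullback.diagonal g := by
    intro k
    apply pullback.hom_ext <;> simp [m]
  have : Set.range (pullback.diagonal g) =
      ⋃ k, (m k) '' (Set.range (pullback.diagonal (j k ≫ g))) := by
    ext y
    simp only [Set.mem_range, Set.mem_iUnion, Set.mem_image]
    constructor
    · rintro ⟨t, rfl⟩
      obtain ⟨k, u, rfl⟩ := hsurj t
      refine ⟨k, _, ⟨u, rfl⟩, ?_⟩
      rw [← Scheme.Hom.comp_apply, hcomm, Scheme.Hom.comp_apply]
    · rintro ⟨k, _, ⟨u, rfl⟩, rfl⟩
      refine ⟨j k u, ?_⟩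
      rw [← Scheme.Hom.comp_apply, ← hcomm, Scheme.Hom.comp_apply]
  rw [this]
  exact isClosed_iUnion_of_finite fun k =>
    (m k).isClosedMap _ (pullback.diagonal (j k ≫ g)).isClosedEmbedding.isClosed_range

/-- A morphism locally of finite type is proper if it becomes so after precomposition with each
member of a finite jointly surjective family of universally closed morphisms. -/
theorem isProper_of_jointly_surjective {ι : Type*} [Finite ι] (g : T ⟶ S) [LocallyOfFiniteType g]
    (U : ι → Scheme.{u}) (j : ∀ k, U k ⟶ T) [∀ k, UniversallyClosed (j k)]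
    (hsurj : ∀ t : T, ∃ k, t ∈ Set.range (j k))
    (hprop : ∀ k, IsProper (j k ≫ g)) : IsProper g :=
  { toIsSeparated := isSeparated_of_jointly_surjective g U j hsurj fun _ => inferInstance
    toUniversallyClosed := universallyClosed_of_jointly_surjective g U j hsurj fun _ => inferInstance
    toLocallyOfFiniteType := inferInstance }

/-- A closed subscheme covered by the images of finitely many universally closed morphisms from
schemes proper over the base is proper over the base. -/
theorem isProper_comp_of_range_subset_iUnion {ι : Type*} [Finite ι] (f : X ⟶ S)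
    [LocallyOfFiniteType f] (i : T ⟶ X) [IsClosedImmersion i]
    (U : ι → Scheme.{u}) (a : ∀ k, U k ⟶ X) [∀ k, UniversallyClosed (a k)]
    (hsub : Set.range i ⊆ ⋃ k, Set.range (a k))
    (hprop : ∀ k, IsProper (a k ≫ f)) : IsProper (i ≫ f) := by
  refine isProper_of_jointly_surjective (i ≫ f) (fun k => pullback (a k) i)
    (fun k => pullback.snd (a k) i) ?_ ?_
  · intro t
    obtain ⟨k, hk⟩ := Set.mem_iUnion.mp (hsub ⟨t, rfl⟩)
    refine ⟨k, ?_⟩
    rw [Scheme.Pullback.range_snd]
    exact hk
  · intro k
    have : pullback.snd (a k) i ≫ i ≫ f = pullback.fst (a k) i ≫ a k ≫ f := by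
      rw [← Category.assoc, ← pullback.condition, Category.assoc]
    rw [this]
    infer_instance

/-- Single-morphism version. -/
theorem isProper_comp_of_range_subset (f : X ⟶ S)
    [LocallyOfFiniteType f] (i : T ⟶ X) [IsClosedImmersion i]
    {U : Scheme.{u}} (a : U ⟶ X) [UniversallyClosed a]
    (hsub : Set.range i ⊆ Set.range a)
    (hprop : IsProper (a ≫ f)) : IsProper (i ≫ f) :=
  isProper_comp_of_range_subset_iUnion (ι := Unit) f i (fun _ => U) (fun _ => a)
    (hsub.trans (Set.subset_iUnion (fun _ : Unit => Set.range a) ())) (fun _ => hprop)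

theorem range_vanishingIdeal_subschemeι {Z : Set X} (h : IsClosed Z) :
    Set.range (Scheme.IdealSheafData.vanishingIdeal ⟨Z, h⟩).subschemeι = Z := by
  rw [Scheme.IdealSheafData.range_subschemeι]
  simp

/-- `IsProperOver f Z` can be tested on any closed subscheme structure on `Z`. -/
theorem isProperOver_iff_of_closedImmersion (f : X ⟶ S) [LocallyOfFiniteType f] {Z : Set X}
    (i : T ⟶ X) [IsClosedImmersion i] (hi : Set.range i = Z) :
    ClSub.IsProperOver f Z ↔ IsProper (i ≫ f) := by
  constructor
  · rintro ⟨h, hp⟩
    exact isProper_comp_of_range_subset f i _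
      (by rw [range_vanishingIdeal_subschemeι h, hi]) hp
  · intro hp
    have h : IsClosed Z := hi ▸ i.isClosedEmbedding.isClosed_range
    exact ⟨h, isProper_comp_of_range_subset f _ i
      (by rw [range_vanishingIdeal_subschemeι h, hi]) hp⟩

/-- The image of a universally closed morphism from a scheme proper over the base is proper over
the base. -/
theorem isProperOver_range (f : X ⟶ S) [LocallyOfFiniteType f]
    {U : Scheme.{u}} (a : U ⟶ X) [UniversallyClosed a] (hprop : IsProper (a ≫ f)) :
    ClSub.IsProperOver f (Set.range a) := by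
  have h : IsClosed (Set.range a) := a.isClosedMap.isClosed_range
  exact ⟨h, isProper_comp_of_range_subset f _ a
      (by rw [range_vanishingIdeal_subschemeι h]) hprop⟩

/-- A closed subset of a finite union of subsets proper over the base is proper over the base. -/
theorem isProperOver_of_subset_iUnion {ι : Type*} [Finite ι] (f : X ⟶ S) [LocallyOfFiniteType f]
    (Z : ι → Set X) (hZ : ∀ k, ClSub.IsProperOver f (Z k)) {W : Set X} (hW : IsClosed W)
    (hsub : W ⊆ ⋃ k, Z k) : ClSub.IsProperOver f W := by
  refine ⟨hW, isProper_comp_of_range_subset_iUnion f _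
    (fun k => (Scheme.IdealSheafData.vanishingIdeal ⟨Z k, (hZ k).1⟩).subscheme)
    (fun k => (Scheme.IdealSheafData.vanishingIdeal ⟨Z k, (hZ k).1⟩).subschemeι) ?_
    (fun k => (hZ k).2)⟩
  rw [range_vanishingIdeal_subschemeι hW]
  simpa only [range_vanishingIdeal_subschemeι] using hsub

theorem isProperOver_of_subset (f : X ⟶ S) [LocallyOfFiniteType f]
    {Z W : Set X} (hZ : ClSub.IsProperOver f Z) (hW : IsClosed W)
    (hsub : W ⊆ Z) : ClSub.IsProperOver f W :=
  isProperOver_of_subset_iUnion (ι := Unit) f (fun _ => Z) (fun _ => hZ) hW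
    (hsub.trans (Set.subset_iUnion (fun _ : Unit => Z) ()))

end Groth.Agent.Lib.ProperOver
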