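import Groth.Agent.Lib.ValFP76B
import Groth.Agent.Lib.FlatLimTower88

/-!
# Local-to-global finite presentation for flat modules over polynomial rings (Stacks 053F)
(helper76)
-/

set_option autoImplicit false
set_option linter.style.haveILetI false

namespace Groth.Agent.Lib.ValFP76

open TensorProduct

universe u

/-- If the localization of `M` at `W` is finitely presented, the kernel of a surjection from a
finite module is, up to `W`-multiples, generated by finitely many of its elements. -/
lemma exists_finset_ker {S : Type*} [CommRing S] (W : Submonoid S) {E M : Type*}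
    [AddCommGroup E] [Module S E] [Module.Finite S E] [AddCommGroup M] [Module S M]
    (π : E →ₗ[S] M) (hπ : Function.Surjective π)
    [Module.FinitePresentation (Localization W) (LocalizedModule W M)] :
    ∃ F : Finset E, (∀ x ∈ F, π x = 0) ∧
      ∀ k, π k = 0 → ∃ w ∈ W, w • k ∈ Submodule.span S (F : Set E) := by
  classical
  let fE := LocalizedModule.mkLinearMap W E
  let fM := LocalizedModule.mkLinearMap W M
  let πW : LocalizedModule W E →ₗ[Localization W] LocalizedModule W M :=
    IsLocalizedModule.mapExtendScalars W fE fM (Localization W) π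
  have hπW : ∀ y, πW y = IsLocalizedModule.map W fE fM π y := fun y =>
    IsLocalizedModule.mapExtendScalars_apply_apply ..
  have hsurj : Function.Surjective πW := by
    intro x
    obtain ⟨y, hy⟩ := IsLocalizedModule.map_surjective W fE fM π hπ x
    exact ⟨y, by rw [hπW, hy]⟩
  obtain ⟨G, hG⟩ := Module.FinitePresentation.fg_ker πW hsurj
  have hy : ∀ y ∈ LinearMap.ker πW, ∃ k : E, π k = 0 ∧ ∃ w : W, fE k = w • y := by
    intro y hy
    obtain ⟨⟨e, w⟩, rfl⟩ := IsLocalizedModule.mk'_surjective W fE y
    rw [LinearMap.mem_ker, hπW, Function.uncurry_apply_pair, IsLocalizedModule.map_mk',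
      IsLocalizedModule.mk'_eq_zero'] at hy
    obtain ⟨u, hu⟩ := hy
    refine ⟨u • e, ?_, u * w, ?_⟩
    · rw [Submonoid.smul_def, map_smul, ← Submonoid.smul_def]
      exact hu
    · rw [Function.uncurry_apply_pair, mul_smul, IsLocalizedModule.mk'_cancel',
        Submonoid.smul_def, map_smul, Submonoid.smul_def]
  choose! kk hkk1 hkk2 using hy
  have hGker : ∀ y ∈ G, y ∈ LinearMap.ker πW := fun y hyG =>
    hG ▸ Submodule.subset_span hyG
  refine ⟨G.image kk, ?_, ?_⟩
  · intro x hx
    obtain ⟨y, hyG, rfl⟩ := Finset.mem_image.mp hx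
    exact hkk1 y (hGker y hyG)
  · intro k hk
    have hkmem : fE k ∈ LinearMap.ker πW := by
      rw [LinearMap.mem_ker, hπW, IsLocalizedModule.map_apply, hk, map_zero]
    have hle : LinearMap.ker πW ≤
        Submodule.span (Localization W) (fE '' ((G.image kk : Finset E) : Set E)) := by
      rw [← hG, Submodule.span_le]
      intro y hyG
      obtain ⟨w, hw⟩ := hkk2 y (hGker y hyG)
      have h1 : y = (IsLocalization.mk' (Localization W) (1 : S) w) • fE (kk y) := by
        rw [hw, Submonoid.smul_def, ← algebraMap_smul (Localization W) (w : S) y, smul_smul,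
          IsLocalization.mk'_spec, map_one, one_smul]
      rw [h1]
      apply Submodule.smul_mem
      apply Submodule.subset_span
      exact ⟨kk y, Finset.mem_coe.mpr (Finset.mem_image_of_mem kk hyG), rfl⟩
    obtain ⟨t, ht⟩ := multiple_mem_span_of_mem_localization_span W (Localization W) _ _
      (hle hkmem)
    rw [← Submodule.map_span] at ht
    obtain ⟨m, hm, hmeq⟩ := ht
    have hmeq' : fE m = fE ((t : S) • k) := by
      rw [hmeq, map_smul, Submonoid.smul_def]
    obtain ⟨c, hc⟩ := (IsLocalizedModule.eq_iff_exists W fE).mp hmeq'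
    refine ⟨c * t, (c * t).2, ?_⟩
    have : ((c : S) * (t : S)) • k = (c : S) • m := by
      rw [mul_smul]
      exact hc.symm
    rw [this]
    exact Submodule.smul_mem _ _ hm

/-- If `R` embeds in a finite product of its local rings, an element of a flat module killed locally
at each of these primes is zero. -/
lemma eq_zero_of_flat_of_forall_exists {R : Type*} [CommRing R] {N : Type*} [AddCommGroup N]
    [Module R N] [Module.Flat R N] (s : Finset (PrimeSpectrum R))
    (hs : Function.Injective
      fun r : R => fun p : s => algebraMap R (Localization.AtPrime p.1.asIdeal) r)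
    (y : N) (hy : ∀ q ∈ s, ∃ f : R, f ∉ q.asIdeal ∧ f • y = 0) : y = 0 := by
  classical
  let j : R →ₗ[R] (∀ p : s, Localization.AtPrime p.1.asIdeal) :=
    Algebra.linearMap R (∀ p : s, Localization.AtPrime p.1.asIdeal)
  have hj : Function.Injective j := by
    intro a b hab
    apply hs
    funext p
    have := congrFun hab p
    simpa [j] using this
  have hinj := Module.Flat.lTensor_preserves_injective_linearMap (M := N) j hj
  have h1 : y ⊗ₜ[R] (1 : ∀ p : s, Localization.AtPrime p.1.asIdeal) = 0 := by
    have hone : (1 : ∀ p : s, Localization.AtPrime p.1.asIdeal) =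
        ∑ p : s, Pi.single p (1 : Localization.AtPrime p.1.asIdeal) := by
      rw [Finset.univ_sum_single]
      rfl
    rw [hone, tmul_sum]
    apply Finset.sum_eq_zero
    intro p _
    obtain ⟨f, hf, hfy⟩ := hy p.1 p.2
    have hsingle : (Pi.single p (1 : Localization.AtPrime p.1.asIdeal) :
        ∀ p : s, Localization.AtPrime p.1.asIdeal) =
        f • Pi.single p (IsLocalization.mk' (Localization.AtPrime p.1.asIdeal) (1 : R)
          (⟨f, hf⟩ : p.1.asIdeal.primeCompl)) := by
      rw [← Pi.single_smul]
      congr 1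
      rw [Algebra.smul_def, IsLocalization.mk'_spec' (Localization.AtPrime p.1.asIdeal) (1 : R)
        (⟨f, hf⟩ : p.1.asIdeal.primeCompl), map_one]
    rw [hsingle, tmul_smul]
    have h0 : f • (y ⊗ₜ[R] (Pi.single p (IsLocalization.mk' (Localization.AtPrime p.1.asIdeal)
        (1 : R) (⟨f, hf⟩ : p.1.asIdeal.primeCompl)) :
        ∀ p : s, Localization.AtPrime p.1.asIdeal)) =
        (f • y) ⊗ₜ[R] (Pi.single p (IsLocalization.mk' (Localization.AtPrime p.1.asIdeal)
        (1 : R) (⟨f, hf⟩ : p.1.asIdeal.primeCompl)) :
        ∀ p : s, Localization.AtPrime p.1.asIdeal) := (smul_tmul' f y _)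
    rw [h0, hfy, zero_tmul]
  have h2 : (j.lTensor N) (y ⊗ₜ[R] (1 : R)) = 0 := by
    rw [LinearMap.lTensor_tmul]
    simpa [j] using h1
  have h3 : y ⊗ₜ[R] (1 : R) = 0 := hinj (by rw [h2, map_zero])
  have := congrArg (TensorProduct.rid R N) h3
  simpa using this

set_option maxHeartbeats 800000 in
/-- **Stacks 053F.** `S` a finitely presented `R`-algebra, `M` a finite `S`-module flat over `R`,
such that `M_p` is finitely presented over `S_p` for every prime `p` of `R`, and `R` embeds into
a finite product of its local rings. Then `M` is finitely presented over `S`. -/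
theorem finitePresentation_of_forall_localization {R : Type u} [CommRing R] (S : Type u)
    [CommRing S] [Algebra R S] [Algebra.FinitePresentation R S] {M : Type u} [AddCommGroup M]
    [Module S M] [Module R M] [IsScalarTower R S M] [Module.Finite S M] [Module.Flat R M]
    (s : Finset (PrimeSpectrum R))
    (hs : Function.Injective
      fun r : R => fun p : s => algebraMap R (Localization.AtPrime p.1.asIdeal) r)
    (hloc : ∀ (p : Ideal R) [p.IsPrime],
      Module.FinitePresentation
        (Localization (Algebra.algebraMapSubmonoid S p.primeCompl))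
        (LocalizedModule (Algebra.algebraMapSubmonoid S p.primeCompl) M)) :
    Module.FinitePresentation S M := by
  classical
  obtain ⟨r, π, hπ⟩ := Module.Finite.exists_fin' S M
  -- Step A: finite sets of relations for each prime
  have hA : ∀ q : PrimeSpectrum R, ∃ F : Finset (Fin r → S), (∀ x ∈ F, π x = 0) ∧
      ∀ k, π k = 0 → ∃ f : R, f ∉ q.asIdeal ∧
        (algebraMap R S f) • k ∈ Submodule.span S (F : Set (Fin r → S)) := by
    intro q
    haveI := hloc q.asIdeal
    obtain ⟨F, hF1, hF2⟩ :=
      exists_finset_ker (Algebra.algebraMapSubmonoid S q.asIdeal.primeCompl) π hπ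
    refine ⟨F, hF1, fun k hk => ?_⟩
    obtain ⟨w, ⟨f, hf, rfl⟩, hw⟩ := hF2 k hk
    exact ⟨f, hf, hw⟩
  choose FF hFF1 hFF2 using hA
  have key : ∀ (p : Ideal R) [p.IsPrime], ∃ f : R, f ∉ p ∧
      Module.FinitePresentation (Localization.Away (algebraMap R S f))
        (LocalizedModule.Away (algebraMap R S f) M) := by
    intro p hp
    let pp : PrimeSpectrum R := ⟨p, hp⟩
    let F : Finset (Fin r → S) := FF pp ∪ s.biUnion FF
    let K' : Submodule S (Fin r → S) := Submodule.span S (F : Set (Fin r → S))
    have hK' : K' ≤ LinearMap.ker π := by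
      rw [Submodule.span_le]
      intro x hx
      rw [Finset.mem_coe, Finset.mem_union, Finset.mem_biUnion] at hx
      rcases hx with hx | ⟨q, _, hx⟩
      · exact hFF1 pp x hx
      · exact hFF1 q x hx
    let θ : ((Fin r → S) ⧸ K') →ₗ[S] M := K'.liftQ π hK'
    have hθ : Function.Surjective θ := by
      intro m
      obtain ⟨e, rfl⟩ := hπ m
      exact ⟨K'.mkQ e, by simp [θ]⟩
    haveI : Module.FinitePresentation S ((Fin r → S) ⧸ K') := by
      apply Module.finitePresentation_of_surjective K'.mkQ K'.mkQ_surjective
      rw [Submodule.ker_mkQ]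
      exact Submodule.fg_span (Finset.finite_toSet F)
    -- elements of the kernel of θ are killed locally
    have hkill : ∀ x : (Fin r → S) ⧸ K', θ x = 0 → ∀ q : PrimeSpectrum R, (q = pp ∨ q ∈ s) →
        ∃ f : R, f ∉ q.asIdeal ∧ f • x = 0 := by
      intro x hx q hq
      obtain ⟨k, rfl⟩ := K'.mkQ_surjective x
      have hk : π k = 0 := by simpa [θ] using hx
      obtain ⟨f, hf, hfk⟩ := hFF2 q k hk
      refine ⟨f, hf, ?_⟩
      rw [← algebraMap_smul S f (K'.mkQ k), ← map_smul, Submodule.mkQ_apply,
        Submodule.Quotient.mk_eq_zero]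
      refine Submodule.span_mono ?_ hfk
      intro z hz
      rw [Finset.mem_coe] at hz ⊢
      rcases hq with rfl | hq
      · exact Finset.mem_union_left _ hz
      · exact Finset.mem_union_right _ (Finset.mem_biUnion.mpr ⟨q, hq, hz⟩)
    -- Step C: the quotient is flat at `p`
    have hflat_p : Module.Flat R (LocalizedModule p.primeCompl ((Fin r → S) ⧸ K')) := by
      let θR : ((Fin r → S) ⧸ K') →ₗ[R] M := θ.restrictScalars R
      let μ := IsLocalizedModule.map p.primeCompl
        (LocalizedModule.mkLinearMap p.primeCompl ((Fin r → S) ⧸ K'))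
        (LocalizedModule.mkLinearMap p.primeCompl M) θR
      have hμs : Function.Surjective μ := IsLocalizedModule.map_surjective _ _ _ θR hθ
      have hμi : Function.Injective μ := by
        rw [injective_iff_map_eq_zero]
        intro z hz
        obtain ⟨⟨x, w⟩, rfl⟩ := IsLocalizedModule.mk'_surjective p.primeCompl
          (LocalizedModule.mkLinearMap p.primeCompl ((Fin r → S) ⧸ K')) z
        rw [Function.uncurry_apply_pair, IsLocalizedModule.map_mk',
          IsLocalizedModule.mk'_eq_zero'] at hz
        obtain ⟨u, hu⟩ := hz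
        have hux : θ ((u : R) • x) = 0 := by
          have : θR ((u : R) • x) = (u : R) • θR x := map_smul θR (u : R) x
          exact this.trans hu
        obtain ⟨f, hf, hfx⟩ := hkill ((u : R) • x) hux pp (Or.inl rfl)
        rw [Function.uncurry_apply_pair, IsLocalizedModule.mk'_eq_zero']
        refine ⟨⟨f, hf⟩ * u, ?_⟩
        rw [Submonoid.smul_def, Submonoid.coe_mul, mul_smul]
        exact hfx
      let e : LocalizedModule p.primeCompl ((Fin r → S) ⧸ K') ≃ₗ[R]
          LocalizedModule p.primeCompl M := LinearEquiv.ofBijective μ ⟨hμi, hμs⟩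
      haveI : Module.Flat R (LocalizedModule p.primeCompl M) :=
        Module.Flat.trans R (Localization p.primeCompl) _
      exact Module.Flat.of_linearEquiv e
    -- Step D: openness of the flat locus
    have hopen := Groth.Agent.Lib.FlatLimTower88.isOpen_flat_locus_tower (A := R) (B := R)
      (C := S) ((Fin r → S) ⧸ K')
    obtain ⟨f, hfp, hfU⟩ : ∃ f : R, f ∉ p ∧ ∀ (Q : Ideal R) [Q.IsPrime], f ∉ Q →
        Module.Flat R (LocalizedModule Q.primeCompl ((Fin r → S) ⧸ K')) := by
      have hpU : pp ∈ {q : PrimeSpectrum R |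
          Module.Flat R (LocalizedModule q.asIdeal.primeCompl ((Fin r → S) ⧸ K'))} := hflat_p
      obtain ⟨_, ⟨f, rfl⟩, hpf, hfU⟩ :=
        PrimeSpectrum.isTopologicalBasis_basic_opens.exists_subset_of_mem_open hpU hopen
      exact ⟨f, hpf, fun Q hQ hfQ => hfU (show (⟨Q, hQ⟩ : PrimeSpectrum R) ∈
        (PrimeSpectrum.basicOpen f : Set (PrimeSpectrum R)) from hfQ)⟩
    -- Step E
    have hflat_f : Module.Flat R (LocalizedModule (Submonoid.powers f) ((Fin r → S) ⧸ K')) := by
      apply Groth.Agent.Lib.FlatLimTower88.flat_localizedModule_of_forall_prime (A := R) (C := R)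
      intro Q hQ hdis
      apply hfU Q
      intro hfQ
      exact Set.disjoint_left.mp hdis (Submonoid.mem_powers f) hfQ
    have hpow : ∀ x, θ x = 0 → ∃ n : ℕ, f ^ n • x = 0 := by
      intro x hx
      have h0 : LocalizedModule.mkLinearMap (Submonoid.powers f) ((Fin r → S) ⧸ K') x = 0 := by
        apply eq_zero_of_flat_of_forall_exists s hs
        intro q hq
        obtain ⟨g, hg, hgx⟩ := hkill x hx q (Or.inr hq)
        exact ⟨g, hg, by rw [← map_smul, hgx, map_zero]⟩
      obtain ⟨c, hc⟩ := (IsLocalizedModule.eq_zero_iff (Submonoid.powers f)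
        (LocalizedModule.mkLinearMap (Submonoid.powers f) ((Fin r → S) ⧸ K'))).mp h0
      obtain ⟨n, hn⟩ := c.2
      refine ⟨n, ?_⟩
      have hn' : f ^ n = (c : R) := hn
      rw [hn']
      exact hc
    -- Step F
    refine ⟨f, hfp, ?_⟩
    let W : Submonoid S := Submonoid.powers (algebraMap R S f)
    let f₁ := LocalizedModule.mkLinearMap W ((Fin r → S) ⧸ K')
    let f₂ := LocalizedModule.mkLinearMap W M
    let ν : LocalizedModule W ((Fin r → S) ⧸ K') →ₗ[Localization W] LocalizedModule W M :=
      IsLocalizedModule.mapExtendScalars W f₁ f₂ (Localization W) θ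
    have hν : ∀ y, ν y = IsLocalizedModule.map W f₁ f₂ θ y := fun y =>
      IsLocalizedModule.mapExtendScalars_apply_apply ..
    have hνs : Function.Surjective ν := by
      intro x
      obtain ⟨y, hy⟩ := IsLocalizedModule.map_surjective W f₁ f₂ θ hθ x
      exact ⟨y, by rw [hν, hy]⟩
    have hνi : Function.Injective ν := by
      rw [injective_iff_map_eq_zero]
      intro z hz
      obtain ⟨⟨x, w⟩, rfl⟩ := IsLocalizedModule.mk'_surjective W f₁ z
      rw [hν, Function.uncurry_apply_pair, IsLocalizedModule.map_mk',
        IsLocalizedModule.mk'_eq_zero'] at hz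
      obtain ⟨u, hu⟩ := hz
      have hux : θ ((u : S) • x) = 0 := by
        rw [map_smul]
        exact hu
      obtain ⟨n, hn⟩ := hpow _ hux
      rw [Function.uncurry_apply_pair, IsLocalizedModule.mk'_eq_zero']
      refine ⟨⟨(algebraMap R S f) ^ n, n, rfl⟩ * u, ?_⟩
      rw [Submonoid.smul_def, Submonoid.coe_mul, mul_smul]
      change (algebraMap R S f) ^ n • (u : S) • x = 0
      rw [← map_pow, algebraMap_smul]
      exact hn
    exact Module.FinitePresentation.of_equiv (LinearEquiv.ofBijective ν ⟨hνi, hνs⟩)
  -- assembly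
  let T : Set S := {g : S | (∃ f : R, g = algebraMap R S f) ∧
    Module.FinitePresentation (Localization.Away g) (LocalizedModule.Away g M)}
  have hT : Ideal.span T = ⊤ := by
    by_contra hne
    obtain ⟨𝔐, h𝔐, hle⟩ := Ideal.exists_le_maximal _ hne
    haveI : (𝔐.comap (algebraMap R S)).IsPrime := Ideal.comap_isPrime _ _
    obtain ⟨f, hf, hfp⟩ := key (𝔐.comap (algebraMap R S))
    apply hf
    rw [Ideal.mem_comap]
    exact hle (Ideal.subset_span ⟨⟨f, rfl⟩, hfp⟩)
  exact Module.FinitePresentation.of_localizationSpan T hT fun g => g.2.2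

end Groth.Agent.Lib.ValFP76
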