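import Groth.Agent.Lib.ValFP76B
import Groth.Agent.Lib.ValFP76C

/-!
# Finite torsion-free modules over f.p. algebras over a Prüfer domain are finitely presented;
f.p. algebras over Prüfer domains are coherent (helper76)
-/

set_option autoImplicit false
set_option linter.style.haveILetI false

namespace Groth.Agent.Lib.ValFP76

open TensorProduct

universe u

section Loc

variable {R : Type u} [CommRing R] [IsDomain R] (S : Type u) [CommRing S] [Algebra R S]
  (M : Type u) [AddCommGroup M] [Module S M] [Module R M] [IsScalarTower R S M]

/-- The localization of a torsion-free module is torsion-free over the local ring. -/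
lemma isTorsionFree_localizedModule_compHom [Module.IsTorsionFree R M] (p : Ideal R) [p.IsPrime] :
    letI : Module (Localization.AtPrime p)
        (LocalizedModule (Algebra.algebraMapSubmonoid S p.primeCompl) M) :=
      Module.compHom _ (algebraMap (Localization.AtPrime p)
        (Localization (Algebra.algebraMapSubmonoid S p.primeCompl)))
    Module.IsTorsionFree (Localization.AtPrime p)
      (LocalizedModule (Algebra.algebraMapSubmonoid S p.primeCompl) M) := by
  letI : Module (Localization.AtPrime p)
      (LocalizedModule (Algebra.algebraMapSubmonoid S p.primeCompl) M) :=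
    Module.compHom _ (algebraMap (Localization.AtPrime p)
      (Localization (Algebra.algebraMapSubmonoid S p.primeCompl)))
  refine ⟨fun r hr => ?_⟩
  -- reduce to: r • m = 0 → m = 0
  suffices h : ∀ m : LocalizedModule (Algebra.algebraMapSubmonoid S p.primeCompl) M,
      r • m = 0 → m = 0 by
    intro m₁ m₂ h12
    have h12' : r • m₁ = r • m₂ := h12
    have := h (m₁ - m₂) (by rw [smul_sub, h12', sub_self])
    exact sub_eq_zero.mp this
  intro m hm
  obtain ⟨a, s, rfl⟩ := IsLocalization.exists_mk'_eq p.primeCompl r
  have ha : a ≠ 0 := by
    rintro rfl
    rw [IsLocalization.mk'_zero] at hr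
    exact not_isRegular_zero hr
  -- a acts as s • r
  have h1 : algebraMap R (Localization.AtPrime p) (s : R) * IsLocalization.mk' _ a s =
      algebraMap R (Localization.AtPrime p) a := by
    rw [mul_comm, IsLocalization.mk'_spec]
  have h2 : (algebraMap R (Localization (Algebra.algebraMapSubmonoid S p.primeCompl)) a) • m
      = 0 := by
    have e : (IsLocalization.mk' (Localization.AtPrime p) a s) • m =
      (algebraMap (Localization.AtPrime p)
        (Localization (Algebra.algebraMapSubmonoid S p.primeCompl))
        (IsLocalization.mk' (Localization.AtPrime p) a s)) • m := rfl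
    rw [e] at hm
    rw [IsScalarTower.algebraMap_apply R (Localization.AtPrime p)
      (Localization (Algebra.algebraMapSubmonoid S p.primeCompl)), ← h1, map_mul, mul_smul, hm,
      smul_zero]
  induction m using LocalizedModule.induction_on with
  | h x w =>
    rw [IsScalarTower.algebraMap_apply R S
      (Localization (Algebra.algebraMapSubmonoid S p.primeCompl)), algebraMap_smul,
      LocalizedModule.smul'_mk] at h2
    rw [← LocalizedModule.zero_mk w, LocalizedModule.mk_eq] at h2 ⊢
    obtain ⟨u, hu⟩ := h2
    refine ⟨u, ?_⟩
    have h3 : a • ((u : S) • (w : S) • x) = 0 := by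
      rw [smul_zero, smul_zero] at hu
      have hu' : (u : S) • (w : S) • (algebraMap R S) a • x = 0 := hu
      rw [← algebraMap_smul S a, ← mul_smul, ← mul_smul]
      rw [← mul_smul, ← mul_smul] at hu'
      rw [← hu']
      congr 1
      ring
    have h4 := (smul_eq_zero.mp h3).resolve_left ha
    rw [smul_zero, smul_zero]
    exact h4

end Loc

/-- A finite module over a finitely presented algebra over a Prüfer domain `R`, torsion-free
over `R`, is finitely presented. -/
theorem finitePresentation_of_prufer {R : Type u} [CommRing R] [IsDomain R]
    (hR : ∀ (p : Ideal R) [p.IsPrime], ValuationRing (Localization.AtPrime p))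
    (S : Type u) [CommRing S] [Algebra R S] [Algebra.FinitePresentation R S]
    (M : Type u) [AddCommGroup M] [Module S M] [Module R M] [IsScalarTower R S M]
    [Module.Finite S M] [Module.IsTorsionFree R M] : Module.FinitePresentation S M := by
  classical
  haveI : Module.Flat R M :=
    (Module.Flat.flat_iff_torsion_eq_bot_of_valuationRing_localization_isMaximal
      (fun P _ => hR P)).mpr ((Submodule.isTorsionFree_iff_torsion_eq_bot).mp inferInstance)
  let b : PrimeSpectrum R := ⟨⊥, Ideal.isPrime_bot⟩
  refine finitePresentation_of_forall_localization S {b} ?_ ?_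
  · intro r₁ r₂ h
    have h' := congrFun h ⟨b, Finset.mem_singleton_self b⟩
    have hle : (⊥ : Ideal R).primeCompl ≤ nonZeroDivisors R := by
      intro x hx
      exact mem_nonZeroDivisors_of_ne_zero (fun h0 => hx (by simp [h0]))
    exact IsLocalization.injective (Localization.AtPrime (⊥ : Ideal R)) hle h'
  · intro p hp
    haveI := hR p
    letI : Module (Localization.AtPrime p)
        (LocalizedModule (Algebra.algebraMapSubmonoid S p.primeCompl) M) :=
      Module.compHom _ (algebraMap (Localization.AtPrime p)
        (Localization (Algebra.algebraMapSubmonoid S p.primeCompl)))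
    haveI : IsScalarTower (Localization.AtPrime p)
        (Localization (Algebra.algebraMapSubmonoid S p.primeCompl))
        (LocalizedModule (Algebra.algebraMapSubmonoid S p.primeCompl) M) :=
      ⟨fun a c m => by
        change (algebraMap (Localization.AtPrime p)
          (Localization (Algebra.algebraMapSubmonoid S p.primeCompl)) a * c) • m =
          algebraMap (Localization.AtPrime p)
          (Localization (Algebra.algebraMapSubmonoid S p.primeCompl)) a • (c • m)
        rw [mul_smul]⟩
    haveI : Module.IsTorsionFree (Localization.AtPrime p)
        (LocalizedModule (Algebra.algebraMapSubmonoid S p.primeCompl) M) :=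
      isTorsionFree_localizedModule_compHom S M p
    haveI : Algebra.EssFiniteType R
        (Localization (Algebra.algebraMapSubmonoid S p.primeCompl)) :=
      Algebra.EssFiniteType.comp R S _
    haveI : Algebra.EssFiniteType (Localization.AtPrime p)
        (Localization (Algebra.algebraMapSubmonoid S p.primeCompl)) :=
      Algebra.EssFiniteType.of_comp R (Localization.AtPrime p) _
    exact finitePresentation_of_essFiniteType (Localization.AtPrime p)
      (Localization (Algebra.algebraMapSubmonoid S p.primeCompl))
      (LocalizedModule (Algebra.algebraMapSubmonoid S p.primeCompl) M)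

/-- Finitely presented algebras over a Prüfer domain are coherent. -/
theorem finitePresentation_ideal_of_prufer {R : Type u} [CommRing R] [IsDomain R]
    (hR : ∀ (p : Ideal R) [p.IsPrime], ValuationRing (Localization.AtPrime p))
    (A : Type u) [CommRing A] [Algebra R A] [Algebra.FinitePresentation R A]
    (I : Ideal A) (hI : I.FG) : Module.FinitePresentation A I := by
  classical
  obtain ⟨n, φ, hφ, hker⟩ := Algebra.FinitePresentation.out (R := R) (A := A)
  letI : Algebra (MvPolynomial (Fin n) R) A := φ.toRingHom.toAlgebra
  haveI : IsScalarTower R (MvPolynomial (Fin n) R) A :=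
    IsScalarTower.of_algebraMap_eq' (by ext r; exact (φ.commutes r).symm)
  have hsurj : Function.Surjective (algebraMap (MvPolynomial (Fin n) R) A) := hφ
  -- the preimage ideal
  let I' : Ideal (MvPolynomial (Fin n) R) := I.comap (algebraMap (MvPolynomial (Fin n) R) A)
  have hkerP : (RingHom.ker (algebraMap (MvPolynomial (Fin n) R) A)).FG := hker
  have hI' : I'.FG := by
    apply Submodule.fg_of_fg_map_of_fg_inf_ker (Algebra.linearMap (MvPolynomial (Fin n) R) A)
    · have e : Submodule.map (Algebra.linearMap (MvPolynomial (Fin n) R) A) I' =
          I.restrictScalars (MvPolynomial (Fin n) R) := by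
        ext a
        constructor
        · rintro ⟨x, hx, rfl⟩
          exact hx
        · intro ha
          obtain ⟨x, rfl⟩ := hsurj a
          exact ⟨x, ha, rfl⟩
      rw [e]
      obtain ⟨t, ht⟩ := hI
      refine ⟨t, ?_⟩
      rw [← ht]
      exact (Submodule.restrictScalars_span (MvPolynomial (Fin n) R) A hsurj _).symm
    · have e : I' ⊓ LinearMap.ker (Algebra.linearMap (MvPolynomial (Fin n) R) A) =
          RingHom.ker (algebraMap (MvPolynomial (Fin n) R) A) := by
        ext x
        simp only [Submodule.mem_inf, LinearMap.mem_ker, Algebra.linearMap_apply,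
          RingHom.mem_ker]
        constructor
        · exact fun h => h.2
        · intro h
          refine ⟨?_, h⟩
          change algebraMap (MvPolynomial (Fin n) R) A x ∈ I
          rw [h]
          exact I.zero_mem
      rw [e]
      exact hkerP
  haveI : Module.Finite (MvPolynomial (Fin n) R) I' := Module.Finite.iff_fg.mpr hI'
  haveI : Module.FinitePresentation (MvPolynomial (Fin n) R) I' :=
    finitePresentation_of_prufer hR (MvPolynomial (Fin n) R) I'
  let l : I' →ₗ[MvPolynomial (Fin n) R] I :=
    { toFun := fun x => ⟨algebraMap (MvPolynomial (Fin n) R) A x.1, x.2⟩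
      map_add' := fun x y => by
        ext
        simp
      map_smul' := fun c x => by
        ext
        simp [Algebra.smul_def] }
  have hl : Function.Surjective l := by
    rintro ⟨y, hy⟩
    obtain ⟨x, rfl⟩ := hsurj y
    exact ⟨⟨x, hy⟩, rfl⟩
  have hkerl : (LinearMap.ker l).FG := by
    apply Submodule.fg_of_fg_map_injective I'.subtype Subtype.val_injective
    have e : (LinearMap.ker l).map I'.subtype =
        RingHom.ker (algebraMap (MvPolynomial (Fin n) R) A) := by
      ext x
      simp only [Submodule.mem_map, LinearMap.mem_ker, Submodule.subtype_apply, RingHom.mem_ker]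
      constructor
      · rintro ⟨y, hy, rfl⟩
        exact congrArg Subtype.val hy
      · intro h
        have hx : x ∈ I' := by
          change algebraMap (MvPolynomial (Fin n) R) A x ∈ I
          rw [h]
          exact I.zero_mem
        exact ⟨⟨x, hx⟩, Subtype.ext h, rfl⟩
    rw [e]
    exact hkerP
  haveI : Module.FinitePresentation (MvPolynomial (Fin n) R) I :=
    Module.finitePresentation_of_surjective l hl hkerl
  exact finitePresentation_of_surjective_algebraMap hsurj


end Groth.Agent.Lib.ValFP76
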