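import Mathlib
import Groth.Agent.Lib.ValFP76D

/-!
# Coherence of finite type torsion-free algebras over a Prüfer domain (helper76)

* `finitePresentation_of_isTorsionFree`: a finite type torsion-free algebra over a Prüfer domain is
  finitely presented;
* `KerFP C`: kernels of maps between finitely presented `C`-modules are finitely presented
  (i.e. `C` is a coherent ring);
* `kerFP_of_prufer`: finite type torsion-free algebras over a Prüfer domain are coherent;
* `fg_ker_of_isTorsionFree`: a quotient of such an algebra which is torsion-free over the base has
  finitely generated kernel.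
-/

set_option autoImplicit false
set_option linter.style.haveILetI false

namespace Groth.Agent.Lib.Prufer76

universe u

/-- Kernels of maps between finitely presented modules are finitely presented (coherent ring). -/
def KerFP (C : Type u) [CommRing C] : Prop :=
  ∀ (Q H : Type u) [AddCommGroup Q] [Module C Q] [AddCommGroup H] [Module C H]
    [Module.FinitePresentation C Q] [Module.FinitePresentation C H] (π : Q →ₗ[C] H),
    Module.FinitePresentation C (LinearMap.ker π)

section Prufer

variable {R : Type u} [CommRing R] [IsDomain R]
  (hR : ∀ (p : Ideal R) [p.IsPrime], ValuationRing (Localization.AtPrime p))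

include hR

/-- A finite type algebra over a Prüfer domain which is torsion-free is finitely presented. -/
theorem finitePresentation_of_isTorsionFree (C : Type u) [CommRing C] [Algebra R C]
    [Algebra.FiniteType R C] [Module.IsTorsionFree R C] : Algebra.FinitePresentation R C := by
  obtain ⟨n, π, hπ⟩ := Algebra.FiniteType.iff_quotient_mvPolynomial''.mp
    (inferInstance : Algebra.FiniteType R C)
  letI : Algebra (MvPolynomial (Fin n) R) C := π.toRingHom.toAlgebra
  haveI : IsScalarTower R (MvPolynomial (Fin n) R) C :=
    IsScalarTower.of_algebraMap_eq' (by
      ext v
      change algebraMap R C v = π (algebraMap R _ v)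
      rw [AlgHom.commutes])
  have hsurj : Function.Surjective (Algebra.linearMap (MvPolynomial (Fin n) R) C) := hπ
  haveI : Module.Finite (MvPolynomial (Fin n) R) C := Module.Finite.of_surjective _ hsurj
  haveI : Module.FinitePresentation (MvPolynomial (Fin n) R) C :=
    ValFP76.finitePresentation_of_prufer hR (MvPolynomial (Fin n) R) C
  have hfg := Module.FinitePresentation.fg_ker (Algebra.linearMap (MvPolynomial (Fin n) R) C) hsurj
  refine ⟨n, π, hπ, ?_⟩
  have : (RingHom.ker π.toRingHom : Ideal _) =
      LinearMap.ker (Algebra.linearMap (MvPolynomial (Fin n) R) C) := by
    ext x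
    rfl
  rw [this]
  exact hfg

/-- Over a finitely presented torsion-free algebra over a Prüfer domain, finitely generated
submodules of finitely presented modules are finitely presented. -/
theorem finitePresentation_submodule (C : Type u) [CommRing C] [Algebra R C]
    [Algebra.FinitePresentation R C] [Module.IsTorsionFree R C]
    (H : Type u) [AddCommGroup H] [Module C H] [Module.FinitePresentation C H]
    (W : Submodule C H) (hW : W.FG) : Module.FinitePresentation C W := by
  classical
  obtain ⟨m, g, hg⟩ := Module.Finite.exists_fin' C H
  have hK : (LinearMap.ker g).FG := Module.FinitePresentation.fg_ker g hg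
  let W' : Submodule C (Fin m → C) := W.comap g
  have hW' : W'.FG := by
    apply Submodule.fg_of_fg_map_of_fg_inf_ker g
    · rw [Submodule.map_comap_eq_of_surjective hg]
      exact hW
    · have e : W' ⊓ LinearMap.ker g = LinearMap.ker g := by
        apply inf_eq_right.mpr
        intro x hx
        change g x ∈ W
        rw [LinearMap.mem_ker.mp hx]
        exact W.zero_mem
      rw [e]
      exact hK
  haveI : Module.Finite C W' := Module.Finite.iff_fg.mpr hW'
  haveI : Module.IsTorsionFree R (Fin m → C) := inferInstance
  haveI : Module.IsTorsionFree R W' :=
    Function.Injective.moduleIsTorsionFree (W'.subtype) Subtype.val_injective (fun _ _ => rfl)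
  haveI : Module.FinitePresentation C W' := ValFP76.finitePresentation_of_prufer hR C W'
  let l : W' →ₗ[C] W := g.restrict (fun x hx => hx)
  have hl : Function.Surjective l := by
    rintro ⟨y, hy⟩
    obtain ⟨x, rfl⟩ := hg y
    exact ⟨⟨x, hy⟩, rfl⟩
  have hkerl : (LinearMap.ker l).FG := by
    apply Submodule.fg_of_fg_map_injective W'.subtype Subtype.val_injective
    have e : (LinearMap.ker l).map W'.subtype = LinearMap.ker g := by
      ext x
      simp only [Submodule.mem_map, LinearMap.mem_ker, Submodule.subtype_apply]
      constructor
      · rintro ⟨y, hy, rfl⟩
        exact congrArg Subtype.val hy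
      · intro h
        have hx : x ∈ W' := by
          change g x ∈ W
          rw [h]
          exact W.zero_mem
        exact ⟨⟨x, hx⟩, Subtype.ext h, rfl⟩
    rw [e]
    exact hK
  exact Module.finitePresentation_of_surjective l hl hkerl

/-- Finite type torsion-free algebras over a Prüfer domain are coherent. -/
theorem kerFP_of_prufer (C : Type u) [CommRing C] [Algebra R C]
    [Algebra.FiniteType R C] [Module.IsTorsionFree R C] : KerFP C := by
  haveI : Algebra.FinitePresentation R C := finitePresentation_of_isTorsionFree hR C
  intro Q H _ _ _ _ _ _ π
  have hIm : (LinearMap.range π).FG := by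
    rw [LinearMap.range_eq_map]
    exact (Module.Finite.fg_top (R := C) (M := Q)).map π
  haveI : Module.FinitePresentation C (LinearMap.range π) :=
    finitePresentation_submodule hR C H _ hIm
  have hker : (LinearMap.ker π.rangeRestrict).FG :=
    Module.FinitePresentation.fg_ker π.rangeRestrict π.surjective_rangeRestrict
  rw [LinearMap.ker_rangeRestrict] at hker
  exact finitePresentation_submodule hR C Q _ hker

/-- A quotient `D` of a finite type torsion-free algebra `C` over a Prüfer domain, itself
torsion-free over the base, is a finitely presented `C`-module. -/
theorem finitePresentation_quotient_of_isTorsionFree (C : Type u) [CommRing C] [Algebra R C]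
    [Algebra.FiniteType R C] [Module.IsTorsionFree R C]
    (D : Type u) [CommRing D] [Algebra C D] [Module R D] [IsScalarTower R C D]
    [Module.IsTorsionFree R D] (hsurj : Function.Surjective (algebraMap C D)) :
    Module.FinitePresentation C D := by
  haveI : Algebra.FinitePresentation R C := finitePresentation_of_isTorsionFree hR C
  haveI : Module.Finite C D := Module.Finite.of_surjective (Algebra.linearMap C D) hsurj
  exact ValFP76.finitePresentation_of_prufer hR C D

end Prufer

/-- `KerFP` transfers along ring isomorphisms. -/
theorem KerFP.of_ringEquiv {C C' : Type u} [CommRing C] [CommRing C'] (e : C ≃+* C')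
    (h : KerFP C) : KerFP C' := by
  intro Q H _ _ _ _ _ _ π
  letI : Algebra C C' := e.toRingHom.toAlgebra
  letI : Module C Q := Module.compHom Q e.toRingHom
  letI : Module C H := Module.compHom H e.toRingHom
  haveI : IsScalarTower C C' Q := ⟨fun a c m => by
    change (e a * c) • m = e a • (c • m)
    rw [mul_smul]⟩
  haveI : IsScalarTower C C' H := ⟨fun a c m => by
    change (e a * c) • m = e a • (c • m)
    rw [mul_smul]⟩
  have hsurj : Function.Surjective (algebraMap C C') := e.surjective
  haveI : Module.FinitePresentation C C' :=
    Module.finitePresentation_of_surjective (Algebra.linearMap C C') hsurj (by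
      have : LinearMap.ker (Algebra.linearMap C C') = ⊥ := by
        rw [LinearMap.ker_eq_bot]
        exact e.injective
      rw [this]
      exact Submodule.fg_bot)
  haveI : Module.FinitePresentation C Q := Module.FinitePresentation.trans C Q C'
  haveI : Module.FinitePresentation C H := Module.FinitePresentation.trans C H C'
  have h1 := h Q H (π.restrictScalars C)
  -- transfer back
  have h2 : Module.FinitePresentation C (LinearMap.ker π) := by
    have e' : LinearMap.ker (π.restrictScalars C) ≃ₗ[C] LinearMap.ker π :=
      { toFun := fun x => ⟨x.1, x.2⟩
        invFun := fun x => ⟨x.1, x.2⟩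
        map_add' := fun _ _ => rfl
        map_smul' := fun _ _ => rfl
        left_inv := fun _ => rfl
        right_inv := fun _ => rfl }
    exact Module.FinitePresentation.of_equiv e'
  exact ValFP76.finitePresentation_of_surjective_algebraMap hsurj

end Groth.Agent.Lib.Prufer76
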