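import Groth.Agent.Lib.Prufer76A
import Groth.Agent.Lib.ProjSpaceProper
import Groth.Agent.Lib.ProjSpaceCover

/-!
# Charts of projective space over a Prüfer domain are coherent (helper76)
-/

set_option autoImplicit false
set_option linter.style.haveILetI false

universe u

open AlgebraicGeometry CategoryTheory

namespace Groth.Agent.Lib.Prufer76

variable (n : ℕ) (R : Type u) [CommRing R] [IsDomain R]

open HomogeneousLocalization in
/-- The `R`-algebra structure on `R[x_0..x_n]_{(x_i)}`, compatible with the existing scalar action. -/
@[reducible] noncomputable def awayAlgebra (i : Fin (n + 1)) :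
    Algebra R (HomogeneousLocalization.Away (CohB1.polyGrading n R)
      (MvPolynomial.X i : MvPolynomial (Fin (n + 1)) R)) :=
  { toSMul := inferInstance
    algebraMap := (algebraMap (CohB1.polyGrading n R 0) (Away (CohB1.polyGrading n R)
      (MvPolynomial.X i : MvPolynomial (Fin (n + 1)) R))).comp
      (algebraMap R (CohB1.polyGrading n R 0))
    commutes' := fun r y => mul_comm _ _
    smul_def' := fun r y => by
      apply HomogeneousLocalization.val_injective
      rw [HomogeneousLocalization.val_smul, HomogeneousLocalization.val_mul, Algebra.smul_def]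
      rfl }

open HomogeneousLocalization in
/-- The degree zero localization `R[x_0..x_n]_{(x_i)}` is a coherent ring when `R` is Prüfer. -/
theorem kerFP_away (hR : ∀ (p : Ideal R) [p.IsPrime], ValuationRing (Localization.AtPrime p))
    (i : Fin (n + 1)) :
    KerFP (HomogeneousLocalization.Away (CohB1.polyGrading n R)
      (MvPolynomial.X i : MvPolynomial (Fin (n + 1)) R)) := by
  haveI := Groth.Agent.Lib.ProjSpaceProper.isScalarTower_polyGrading n R
  haveI := Groth.Agent.Lib.ProjSpaceProper.finiteType_polyGrading n R
  have hf : (MvPolynomial.X i : MvPolynomial (Fin (n + 1)) R) ∈ CohB1.polyGrading n R 1 :=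
    Groth.Agent.Lib.ProjSpaceCover.X_mem n R i
  haveI : Algebra.FiniteType (CohB1.polyGrading n R 0)
      (Away (CohB1.polyGrading n R) (MvPolynomial.X i : MvPolynomial (Fin (n + 1)) R)) :=
    HomogeneousLocalization.Away.finiteType _ 1 hf
  letI := awayAlgebra n R i
  haveI : @IsScalarTower R (CohB1.polyGrading n R 0) (Away (CohB1.polyGrading n R)
      (MvPolynomial.X i : MvPolynomial (Fin (n + 1)) R)) Algebra.toSMul Algebra.toSMul
      Algebra.toSMul := IsScalarTower.of_algebraMap_eq' rfl
  haveI : Algebra.FiniteType R (CohB1.polyGrading n R 0) :=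
    Algebra.FiniteType.of_surjective (Algebra.ofId R (CohB1.polyGrading n R 0))
      (Groth.Agent.Lib.ProjSpaceProper.bijective_algebraMap_polyGrading_zero n R).2
  haveI : Algebra.FiniteType R (Away (CohB1.polyGrading n R)
      (MvPolynomial.X i : MvPolynomial (Fin (n + 1)) R)) :=
    Algebra.FiniteType.trans (S := CohB1.polyGrading n R 0) inferInstance inferInstance
  have hX : (MvPolynomial.X i : MvPolynomial (Fin (n + 1)) R) ≠ 0 := MvPolynomial.X_ne_zero i
  have hle : Submonoid.powers (MvPolynomial.X i : MvPolynomial (Fin (n + 1)) R) ≤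
      nonZeroDivisors (MvPolynomial (Fin (n + 1)) R) :=
    Submonoid.powers_le.mpr (mem_nonZeroDivisors_of_ne_zero hX)
  haveI : IsDomain (Localization (Submonoid.powers
      (MvPolynomial.X i : MvPolynomial (Fin (n + 1)) R))) :=
    IsLocalization.isDomain_localization hle
  haveI : Module.IsTorsionFree R (Away (CohB1.polyGrading n R)
      (MvPolynomial.X i : MvPolynomial (Fin (n + 1)) R)) := by
    rw [Module.isTorsionFree_iff_smul_eq_zero]
    intro r y hry
    rw [Algebra.smul_def] at hry
    have h1 := congrArg HomogeneousLocalization.val hry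
    rw [HomogeneousLocalization.val_mul, HomogeneousLocalization.val_zero] at h1
    rcases mul_eq_zero.mp h1 with h2 | h2
    · left
      have h3 : (algebraMap R (Away (CohB1.polyGrading n R)
          (MvPolynomial.X i : MvPolynomial (Fin (n + 1)) R)) r).val =
          algebraMap (MvPolynomial (Fin (n + 1)) R) (Localization (Submonoid.powers
            (MvPolynomial.X i : MvPolynomial (Fin (n + 1)) R))) (MvPolynomial.C r) := by
        rfl
      rw [h3] at h2
      have h4 := (IsLocalization.injective _ hle) (h2.trans (map_zero _).symm)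
      exact MvPolynomial.C_injective _ _ (h4.trans MvPolynomial.C_0.symm)
    · right
      exact HomogeneousLocalization.val_injective _ (h2.trans HomogeneousLocalization.val_zero.symm)
  exact kerFP_of_prufer hR _

/-- The standard charts of `P^n_R` have coherent coordinate rings when `R` is Prüfer. -/
theorem kerFP_stdOpen (hR : ∀ (p : Ideal R) [p.IsPrime], ValuationRing (Localization.AtPrime p))
    (i : Fin (n + 1)) :
    KerFP Γ(CohB1.ProjSpace n R, Groth.Agent.Lib.ProjSpaceCover.stdOpen n R i) := by
  have e := Proj.basicOpenIsoAway (CohB1.polyGrading n R)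
    (MvPolynomial.X i : MvPolynomial (Fin (n + 1)) R)
    (Groth.Agent.Lib.ProjSpaceCover.X_mem n R i) Nat.one_pos
  exact (kerFP_away n R hR i).of_ringEquiv e.commRingCatIsoToRingEquiv

end Groth.Agent.Lib.Prufer76
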