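import Groth.Agent.Lib.Prufer76A
import Groth.Agent.Lib.H72KerFP

/-!
# Kernels of maps of finitely presented modules on a scheme with coherent charts (helper76)
-/

set_option autoImplicit false
set_option linter.style.haveILetI false
universe u

open CategoryTheory AlgebraicGeometry Limits

namespace Groth.Agent.Lib.Prufer76

open Groth.Agent.Lib.H72PullbackNat in
/-- If `X` has an affine open cover by charts with coherent coordinate rings, kernels of maps
between finitely presented `O_X`-modules are finitely presented. -/
theorem isFP_kernel_of_kerFP {X : Scheme.{u}} {ι : Type u} (U : ι → X.Opens)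
    (hcov : ⨆ i, U i = ⊤) (hA : ∀ i, IsAffineOpen (U i)) (hK : ∀ i, KerFP Γ(X, U i))
    {G H : X.Modules} (hG : CohB1.IsFP G) (hH : CohB1.IsFP H) (p : G ⟶ H) :
    CohB1.IsFP (kernel p) := by
  haveI : SheafOfModules.IsFinitePresentation (R := X.ringCatSheaf) G := hG
  haveI : SheafOfModules.IsFinitePresentation (R := X.ringCatSheaf) H := hH
  haveI : G.IsQuasicoherent := ((Groth.Agent.Lib.H90OXModFP.isFP_iff_forall_affine G).mp hG).1
  haveI : H.IsQuasicoherent := ((Groth.Agent.Lib.H90OXModFP.isFP_iff_forall_affine H).mp hH).1
  haveI := Groth.Agent.Lib.H90OXModExact.isQuasicoherent_kernel p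
  refine Groth.Agent.Lib.H90OXModAffine.isFinitePresentation_of_affine_cover (kernel p) U hcov hA
    (fun i => ?_)
  haveI : Module.FinitePresentation Γ(X, U i) Γ(G, U i) :=
    Groth.Agent.Lib.H90OXModFP.finitePresentation_sections G (hA i)
  haveI : Module.FinitePresentation Γ(X, U i) Γ(H, U i) :=
    Groth.Agent.Lib.H90OXModFP.finitePresentation_sections H (hA i)
  have hfp : Module.FinitePresentation Γ(X, U i) (LinearMap.ker (secModMap p (U i)).hom) :=
    hK i _ _ (secModMap p (U i)).hom
  obtain ⟨hinj, hker⟩ := Groth.Agent.Lib.IdealMod.kernel_sections p (U i)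
  have hrange : LinearMap.range (secModMap (kernel.ι p) (U i)).hom =
      LinearMap.ker (secModMap p (U i)).hom := by
    ext s
    rw [LinearMap.mem_ker, LinearMap.mem_range]
    exact ((hker s).symm)
  have hinj' : Function.Injective (secModMap (kernel.ι p) (U i)).hom := hinj
  have e := LinearEquiv.ofInjective (secModMap (kernel.ι p) (U i)).hom hinj'
  rw [← hrange] at hfp
  exact Module.FinitePresentation.of_equiv e.symm

end Groth.Agent.Lib.Prufer76
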