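import Groth.Agent.Lib.SerreVanAmple

/-!
# Serre vanishing from an ample invertible module, for a class of modules closed under kernels
(helper76; adaptation of helper48's `SerreVanAmple.subsingleton_HH_twist_of_ample` without
Noetherian hypotheses)
-/

set_option autoImplicit false

universe u

open CategoryTheory CategoryTheory.Limits AlgebraicGeometry CohB1
open Groth.Agent.Lib.OXModTensor Groth.Agent.Lib.CohLES Groth.Agent.Lib.CohFinAmple
open Groth.Agent.Lib.CohVanAmple Groth.Agent.Lib.TwistEquiv Groth.Agent.Lib.SerreVanAmple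

namespace Groth.Agent.Lib.Prufer76

variable {X : Scheme.{u}}

/-- **Serre vanishing for a class `P` of modules** (all of finite type and quasi-coherent) which is
closed under kernels of epimorphisms from finite sums of negative twists. -/
theorem subsingleton_HH_twist_of_class [CompactSpace X] {L L' : X.Modules}
    (hL : CohB1.IsAmple L) (e : tensorMod L L' ≅ Coh.structureModule X) (hLc : Coh.IsCoh L)
    (P : X.Modules → Prop) (hPcoh : ∀ F, P F → Coh.IsCoh F)
    (hPker : ∀ F, P F → ∀ (m : ℕ) (K : Type u) [Finite K]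
      (p : (∐ fun _ : K => tensorPow L' m) ⟶ F), Epi p → P (kernel p))
    (hO : ∃ n₀ : ℕ, ∀ n : ℕ, n₀ ≤ n → ∀ q : ℕ, 0 < q → Subsingleton (Coh.HH X (tensorPow L n) q))
    (F : X.Modules) (hF : P F) :
    ∃ n₁ : ℕ, ∀ n : ℕ, n₁ ≤ n → ∀ q : ℕ, 0 < q →
      Subsingleton (Coh.HH X (tensorMod F (tensorPow L n)) q) := by
  haveI := Groth.Agent.Lib.H78AmpleBasis.quasiSeparatedSpace_of_isAmple hL
  obtain ⟨d, hd⟩ := Groth.Agent.S0016.result X
  obtain ⟨n₀, hn₀⟩ := hO
  -- descending induction on the degree
  have H : ∀ (k q : ℕ), d ≤ q + k → 0 < q → ∀ (F : X.Modules), P F →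
      ∃ n₁ : ℕ, ∀ n : ℕ, n₁ ≤ n → Subsingleton (Coh.HH X (tensorMod F (tensorPow L n)) q) := by
    intro k
    induction k with
    | zero =>
      intro q hq _ F hF
      exact ⟨0, fun n _ =>
        hd _ (isCoh_tensorMod (hPcoh F hF) (isCoh_tensorPow hLc n)).1 q (by simpa using hq)⟩
    | succ k ih =>
      intro q hq hq0 F hF
      obtain ⟨m₁, hm⟩ := exists_finite_epi_sigma_pow hL e F (hPcoh F hF)
      obtain ⟨K, hK, p, hp⟩ := hm m₁ le_rfl
      haveI := (hPcoh F hF).1
      have hker : P (kernel p) := hPker F hF m₁ K p hp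
      let S : ShortComplex X.Modules := ShortComplex.mk (kernel.ι p) p (kernel.condition p)
      have hS : S.ShortExact :=
        { exact := ShortComplex.exact_of_f_is_kernel _ (kernelIsKernel p)
          mono_f := inferInstanceAs (Mono (kernel.ι p))
          epi_g := hp }
      obtain ⟨n₂, hn₂⟩ := ih (q + 1) (by omega) (by omega) (kernel p) hker
      refine ⟨max (m₁ + n₀) n₂, fun n hn => ?_⟩
      have hn1 : m₁ + n₀ ≤ n := le_trans (le_max_left _ _) hn
      have hn2 : n₂ ≤ n := le_trans (le_max_right _ _) hn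
      obtain ⟨j, rfl⟩ : ∃ j, n = m₁ + j := ⟨n - m₁, by omega⟩
      have hS' : (S.map (tensorRightFunctor (tensorPow L (m₁ + j)))).ShortExact :=
        shortExact_map_tensorRight (M' := tensorPow L' (m₁ + j)) (powInvIso e (m₁ + j)) hS
      haveI : Subsingleton (Coh.HH X (∐ fun _ : K => tensorPow L j) q) :=
        subsingleton_HH_sigma K (tensorPow L j) q (hn₀ j (by omega) q hq0)
      haveI : Subsingleton (Coh.HH X (S.map (tensorRightFunctor (tensorPow L (m₁ + j)))).X₂ q) :=
        subsingleton_of_iso (sigmaCancelIso e m₁ j K) q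
      haveI : Subsingleton (Coh.HH X (S.map (tensorRightFunctor (tensorPow L (m₁ + j)))).X₁ (q + 1)) :=
        hn₂ _ hn2
      exact subsingleton_right hS' q
  -- uniform bound
  choose! f hf using fun q : ℕ => H d q (Nat.le_add_left d q)
  refine ⟨(Finset.range d).sup fun q => f q F, fun n hn q hq => ?_⟩
  by_cases hqd : q < d
  · refine hf q hq F hF n (le_trans ?_ hn)
    exact Finset.le_sup (f := fun q => f q F) (Finset.mem_range.mpr hqd)
  · exact hd _ (isCoh_tensorMod (hPcoh F hF) (isCoh_tensorPow hLc n)).1 q (by omega)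

end Groth.Agent.Lib.Prufer76
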