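import Groth.Agent.Lib.Prufer76B
import Groth.Agent.Lib.Prufer76C
import Groth.Agent.Lib.Prufer76D
import Groth.Agent.Lib.SerreVanPN
import Groth.Agent.Lib.H78BiprodFree
import Groth.Agent.Lib.H78TensorGen

/-!
# Serre vanishing for finitely presented modules on projective space over a Prüfer domain
(helper76)
-/

set_option autoImplicit false
set_option linter.style.haveILetI false
universe u
open CategoryTheory CategoryTheory.Limits AlgebraicGeometry Opposite TopologicalSpace CohB1 Twist
open MvPolynomial Groth.Agent.Lib.H4Twist Groth.Agent.Lib.OXModTensor Groth.Agent.Lib.CohLES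

namespace Groth.Agent.Lib.Prufer76

variable (n : ℕ) (R : Type u) [CommRing R] [IsDomain R]

local notation "𝒜" => CohB1.polyGrading n R

/-- Finitely presented modules are quasi-coherent of finite type. -/
theorem isCoh_of_isFP {X : Scheme.{u}} (F : X.Modules) (hF : CohB1.IsFP F) : Coh.IsCoh F := by
  obtain ⟨h1, h2⟩ := (Groth.Agent.Lib.H90OXModFP.isFP_iff_forall_affine F).mp hF
  haveI := h1
  exact ⟨h1, Groth.Agent.Lib.H90OXModAffineFT.isFiniteType_of_forall_affine F fun U =>
    haveI := h2 U; inferInstance⟩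

/-- a finite coproduct of copies of a finite locally free module is finite locally free
(copy of helper43's `H43LocGlobScheme.isFinLocFree_sigma`, to keep imports light) -/
theorem isFinLocFree_sigma {X : Scheme.{u}} {N : X.Modules} (hN : FlatMod.IsFinLocFree N)
    (K : Type u) [Finite K] : FlatMod.IsFinLocFree (∐ fun _ : K => N) := by
  obtain ⟨k, ⟨e⟩⟩ := Finite.exists_equiv_fin K
  have h1 : FlatMod.IsFinLocFree (⨁ fun _ : Fin k => N) :=
    Groth.Agent.Lib.H78BiprodFree.isFinLocFree_biproduct _ (fun _ => hN)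
  have i : (⨁ fun _ : Fin k => N) ≅ ∐ fun _ : K => N :=
    biproduct.isoCoproduct _ ≪≫
      Sigma.whiskerEquiv (f := fun _ : Fin k => N) (g := fun _ : K => N) e.symm (fun _ => Iso.refl _)
  exact Groth.Agent.Lib.FinLocFree.isFinLocFree_of_iso i h1

/-- Kernels of maps between finitely presented modules on `P^n_R`, `R` Prüfer, are finitely
presented. -/
theorem isFP_kernel_projSpace
    (hR : ∀ (p : Ideal R) [p.IsPrime], ValuationRing (Localization.AtPrime p))
    {G H : (CohB1.ProjSpace n R).Modules} (hG : CohB1.IsFP G) (hH : CohB1.IsFP H) (p : G ⟶ H) :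
    CohB1.IsFP (kernel p) := by
  let U : ULift.{u} (Fin (n + 1)) → (CohB1.ProjSpace n R).Opens :=
    fun i => Groth.Agent.Lib.ProjSpaceCover.stdOpen n R i.down
  refine isFP_kernel_of_kerFP U ?_ (fun i => Groth.Agent.Lib.ProjSpaceCover.isAffineOpen_stdOpen n R _)
    (fun i => kerFP_stdOpen n R hR _) hG hH p
  rw [eq_top_iff, ← Groth.Agent.Lib.ProjSpaceCover.iSup_stdOpen n R]
  exact iSup_le fun i => le_iSup U ⟨i⟩

/-- **Serre vanishing on `P^n_R`** for finitely presented modules, `R` a Prüfer domain. -/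
theorem serre_vanishing_pow_of_isFP
    (hR : ∀ (p : Ideal R) [p.IsPrime], ValuationRing (Localization.AtPrime p))
    (F : (CohB1.ProjSpace n R).Modules) (hF : CohB1.IsFP F) :
    ∃ n₁ : ℕ, ∀ m : ℕ, n₁ ≤ m → ∀ q : ℕ, 0 < q →
      Subsingleton (Coh.HH (CohB1.ProjSpace n R)
        (tensorMod F (tensorPow (twistProjSpace n R 1) m)) q) := by
  haveI : CompactSpace (CohB1.ProjSpace n R) :=
    (Groth.Agent.Lib.ProjSpaceFin.isAmple_twist_one n R).2.1
  obtain ⟨e⟩ := Groth.Agent.Lib.ProjSpaceFin.nonempty_invIso n R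
  have hL : Coh.IsCoh (X := CohB1.ProjSpace n R) (twistProjSpace n R 1) :=
    Groth.Agent.Lib.H90Invertible.isCoh_of_isInvertible (isInvertible_twistProjSpace n R 1)
  refine subsingleton_HH_twist_of_class (X := CohB1.ProjSpace n R)
    (L := twistProjSpace n R 1) (L' := twistProjSpace n R (-1))
    (Groth.Agent.Lib.ProjSpaceFin.isAmple_twist_one n R) e hL CohB1.IsFP
    (fun F hF => isCoh_of_isFP F hF) ?_ ⟨0, fun m _ q hq => ?_⟩ F hF
  · intro F hF m K _ p _
    refine isFP_kernel_projSpace n R hR ?_ hF p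
    have h1 : PicF.IsInvertible (tensorPow (twistProjSpace n R (-1)) m) :=
      Groth.Agent.Lib.H78TensorGen.isInvertible_tensorPow (isInvertible_twistProjSpace n R (-1)) m
    exact Groth.Agent.Lib.H90Invertible.isFinitePresentation_of_isFinLocFree
      (isFinLocFree_sigma
        (Groth.Agent.Lib.H90Invertible.isFinLocFree_of_isInvertible h1) K)
  · obtain ⟨em⟩ := Groth.Agent.Lib.SerreVanPN.nonempty_powIso n R m
    haveI : Subsingleton (Coh.HH (CohB1.ProjSpace n R) (twistProjSpace n R (m : ℤ)) q) :=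
      subsingleton_HH_twist n R (m : ℤ) q hq (Or.inr (by have := Int.natCast_nonneg m; omega))
    exact subsingleton_of_iso em q

end Groth.Agent.Lib.Prufer76
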