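import Groth.Agent.Lib.Prufer76E
import Groth.Agent.Lib.SerreVanClosed
import Groth.Agent.Lib.H90OXModPushFP
import Groth.Agent.Lib.H78AtlasIso

/-!
# Serre vanishing for finitely presented modules on flat closed subschemes of projective space
over a Prüfer domain (helper76)
-/

set_option autoImplicit false
set_option linter.style.haveILetI false
universe u
open CategoryTheory CategoryTheory.Limits AlgebraicGeometry Opposite TopologicalSpace CohB1 Twist
open Groth.Agent.Lib.H4Twist Groth.Agent.Lib.OXModTensor Groth.Agent.Lib.CohLES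

namespace Groth.Agent.Lib.Prufer76

/-- A surjection from a finite type algebra onto a finitely presented algebra has finitely
generated kernel. -/
theorem fg_ker_of_finiteType_of_finitePresentation {R C D : Type u} [CommRing R] [CommRing C]
    [CommRing D] [Algebra R C] [Algebra R D] [Algebra C D] [IsScalarTower R C D]
    [Algebra.FiniteType R C] [Algebra.FinitePresentation R D]
    (hsurj : Function.Surjective (algebraMap C D)) : (RingHom.ker (algebraMap C D)).FG := by
  obtain ⟨n, g, hg⟩ := Algebra.FiniteType.iff_quotient_mvPolynomial''.mp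
    (inferInstance : Algebra.FiniteType R C)
  let f : MvPolynomial (Fin n) R →ₐ[R] D := (IsScalarTower.toAlgHom R C D).comp g
  have hf : Function.Surjective f := hsurj.comp hg
  have hK := Algebra.FinitePresentation.ker_fg_of_mvPolynomial f hf
  have h1 := hK.map g.toRingHom
  have h2 : Ideal.map g.toRingHom (RingHom.ker f.toRingHom) = RingHom.ker (algebraMap C D) := by
    have : RingHom.ker f.toRingHom = Ideal.comap g.toRingHom (RingHom.ker (algebraMap C D)) := by
      ext x
      simp only [RingHom.mem_ker, Ideal.mem_comap]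
      rfl
    rw [this, Ideal.map_comap_of_surjective g.toRingHom hg]
  rw [h2] at h1
  exact h1

section Charts

variable {R : Type u} [CommRing R] [IsDomain R]
  (hR : ∀ (p : Ideal R) [p.IsPrime], ValuationRing (Localization.AtPrime p))

include hR

/-- Chart-level kernel statement: `ι : X ⟶ P` a closed immersion of `R`-schemes with `P` locally of
finite type over `R` and `X` flat over `R`: the kernels of `Γ(P, U) → Γ(X, ι⁻¹U)` are finitely
generated for affine `U`. -/
theorem fg_ker_app_of_flat {X P : Scheme.{u}} (g : P ⟶ Spec (CommRingCat.of R))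
    [LocallyOfFiniteType g] (ι : X ⟶ P) [IsClosedImmersion ι] [Flat (ι ≫ g)]
    (U : P.Opens) (hU : IsAffineOpen U) : (RingHom.ker (ι.app U).hom).FG := by
  have hV : IsAffineOpen (ι ⁻¹ᵁ U) := hU.preimage ι
  have htop : IsAffineOpen (⊤ : (Spec (CommRingCat.of R)).Opens) := isAffineOpen_top _
  have hsurj : Function.Surjective (ι.app U).hom := ι.app_surjective U hU
  -- the structure maps
  have hle1 : U ≤ g ⁻¹ᵁ ⊤ := by simp
  have hle2 : ι ⁻¹ᵁ U ≤ (ι ≫ g) ⁻¹ᵁ ⊤ := by simp
  let σ : R →+* Γ(P, U) :=
    (g.appLE ⊤ U hle1).hom.comp (Scheme.ΓSpecIso (CommRingCat.of R)).inv.hom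
  let ρ : R →+* Γ(X, ι ⁻¹ᵁ U) :=
    ((ι ≫ g).appLE ⊤ (ι ⁻¹ᵁ U) hle2).hom.comp (Scheme.ΓSpecIso (CommRingCat.of R)).inv.hom
  have hρσ : ρ = (ι.app U).hom.comp σ := by
    have h1 : (ι ≫ g).appLE ⊤ (ι ⁻¹ᵁ U) hle2 = g.appLE ⊤ U hle1 ≫ ι.app U := by
      rw [Scheme.Hom.app_eq_appLE, Scheme.Hom.appLE_comp_appLE]
    ext r
    simp only [ρ, σ, h1, RingHom.comp_apply, CommRingCat.hom_comp]
  have hiso : Function.Bijective (Scheme.ΓSpecIso (CommRingCat.of R)).inv.hom :=
    (ConcreteCategory.isIso_iff_bijective _).mp inferInstance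
  have hσft : σ.FiniteType :=
    (g.finiteType_appLE htop hU hle1).comp (RingHom.FiniteType.of_surjective _ hiso.2)
  have hρft : ρ.FiniteType :=
    ((ι ≫ g).finiteType_appLE htop hV hle2).comp (RingHom.FiniteType.of_surjective _ hiso.2)
  have hρflat : ρ.Flat :=
    RingHom.Flat.comp (RingHom.Flat.of_bijective hiso) ((ι ≫ g).flat_appLE htop hV hle2)
  letI algC : Algebra R Γ(P, U) := σ.toAlgebra
  letI algD : Algebra R Γ(X, ι ⁻¹ᵁ U) := ρ.toAlgebra
  letI algCD : Algebra Γ(P, U) Γ(X, ι ⁻¹ᵁ U) := (ι.app U).hom.toAlgebra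
  haveI : IsScalarTower R Γ(P, U) Γ(X, ι ⁻¹ᵁ U) := IsScalarTower.of_algebraMap_eq' hρσ
  haveI : Algebra.FiniteType R Γ(P, U) := hσft
  haveI : Algebra.FiniteType R Γ(X, ι ⁻¹ᵁ U) := hρft
  haveI : Module.Flat R Γ(X, ι ⁻¹ᵁ U) := hρflat
  haveI : Algebra.FinitePresentation R Γ(X, ι ⁻¹ᵁ U) :=
    finitePresentation_of_isTorsionFree hR _
  exact fg_ker_of_finiteType_of_finitePresentation (R := R) hsurj

open Groth.Agent.Lib.H90OXModPush Groth.Agent.Lib.H90OXModAffine in
/-- Pushforward of a finitely presented module along a closed immersion of a flat `R`-scheme into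
an `R`-scheme locally of finite type is finitely presented (`R` Prüfer). -/
theorem isFP_pushforward_of_flat {X P : Scheme.{u}} (g : P ⟶ Spec (CommRingCat.of R))
    [LocallyOfFiniteType g] (ι : X ⟶ P) [IsClosedImmersion ι] [Flat (ι ≫ g)]
    (F : X.Modules) (hF : CohB1.IsFP F) :
    CohB1.IsFP ((Scheme.Modules.pushforward ι).obj F) := by
  haveI : SheafOfModules.IsFinitePresentation (R := X.ringCatSheaf) F := hF
  haveI : F.IsQuasicoherent := ((Groth.Agent.Lib.H90OXModFP.isFP_iff_forall_affine F).mp hF).1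
  haveI := isQuasicoherent_pushforward ι F
  refine isFinitePresentation_of_forall_affine _ fun V => ?_
  have hsurj : Function.Surjective (ι.app V.1).hom := ι.app_surjective V.1 V.2
  exact Groth.Agent.Lib.H90OXModPushFP.finitePresentation_sections_pushforward ι F V.1
    (RingHom.Finite.of_surjective _ hsurj)
    (RingHom.FinitePresentation.of_surjective _ hsurj (fg_ker_app_of_flat hR g ι V.1 V.2))
    (Groth.Agent.Lib.H90OXModFP.finitePresentation_sections F (V.2.preimage ι))

end Charts

section Main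

variable (n : ℕ) (R : Type u) [CommRing R] [IsDomain R]

/-- **Serre vanishing** for finitely presented modules on a closed subscheme of `P^n_R`, flat over
the Prüfer domain `R`. -/
theorem serre_vanishing_closed_of_isFP
    (hR : ∀ (p : Ideal R) [p.IsPrime], ValuationRing (Localization.AtPrime p))
    {X : Scheme.{u}} (ι : X ⟶ CohB1.ProjSpace n R) [IsClosedImmersion ι]
    [Flat (ι ≫ CohB1.ProjSpace.toSpec n R)] (F : X.Modules) (hF : CohB1.IsFP F) :
    ∃ N : ℕ, ∀ k : ℕ, N ≤ k → ∀ q : ℕ, 0 < q →
      Subsingleton (Coh.HH X (tensorMod F (tensorPow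
        ((Scheme.Modules.pullback ι).obj (twistProjSpace n R 1)) k)) q) := by
  haveI : IsProper (CohB1.ProjSpace.toSpec n R) :=
    Groth.Agent.Lib.ProjSpaceProper.isProper_toSpec n R
  have hpush := isFP_pushforward_of_flat hR (CohB1.ProjSpace.toSpec n R) ι F hF
  obtain ⟨N, hN⟩ := serre_vanishing_pow_of_isFP n R hR _ hpush
  refine ⟨N, fun k hk q hq => ?_⟩
  haveI : SheafOfModules.IsFinitePresentation (R := X.ringCatSheaf) F := hF
  haveI : F.IsQuasicoherent := ((Groth.Agent.Lib.H90OXModFP.isFP_iff_forall_affine F).mp hF).1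
  have hO1 : PicF.IsInvertible (twistProjSpace n R 1) := isInvertible_twistProjSpace n R 1
  have hOk : PicF.IsInvertible (tensorPow (twistProjSpace n R 1) k) :=
    Groth.Agent.Lib.H78TensorGen.isInvertible_tensorPow hO1 k
  haveI := hN k hk q hq
  haveI : Subsingleton (Coh.HH X (tensorMod F
      ((Scheme.Modules.pullback ι).obj (tensorPow (twistProjSpace n R 1) k))) q) :=
    Groth.Agent.Lib.SerreVanClosed.subsingleton_HH_pullback_twist ι F
      (tensorPow (twistProjSpace n R 1) k) hOk q
  obtain ⟨e₂⟩ := Groth.Agent.Lib.H78AtlasIso.nonempty_pullback_tensorPow_iso ι hO1 k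
  exact subsingleton_of_iso (tensorModIso (Iso.refl F) e₂.symm) q

end Main

end Groth.Agent.Lib.Prufer76
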