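import Groth.Agent.Lib.Prufer76F
import Groth.Agent.Lib.H4H0Nat
import Groth.Agent.Lib.H78Dual
import Groth.Agent.Lib.TwistEquiv

/-!
# Surjectivity on global sections of high twists for epimorphisms of finitely presented modules
on flat closed subschemes of projective space over a Prüfer domain (helper76)
-/

set_option autoImplicit false
set_option linter.style.haveILetI false
universe u
open CategoryTheory CategoryTheory.Limits AlgebraicGeometry Opposite TopologicalSpace CohB1 Twist
open MonoidalCategory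
open Groth.Agent.Lib.H4Twist Groth.Agent.Lib.OXModTensor Groth.Agent.Lib.CohLES
open Groth.Agent.Lib.TwistEquiv

namespace Groth.Agent.Lib.Prufer76

section Charts

variable {R : Type u} [CommRing R] [IsDomain R]
  (hR : ∀ (p : Ideal R) [p.IsPrime], ValuationRing (Localization.AtPrime p))

include hR

/-- The coordinate ring of an affine open of a flat, locally finite type scheme over a Prüfer domain
is coherent (in the `KerFP` form). -/
theorem kerFP_of_flat_of_locallyOfFiniteType {X : Scheme.{u}} (h : X ⟶ Spec (CommRingCat.of R))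
    [LocallyOfFiniteType h] [Flat h] (U : X.Opens) (hU : IsAffineOpen U) : KerFP Γ(X, U) := by
  have htop : IsAffineOpen (⊤ : (Spec (CommRingCat.of R)).Opens) := isAffineOpen_top _
  have hle : U ≤ h ⁻¹ᵁ ⊤ := by simp
  let ρ : R →+* Γ(X, U) :=
    (h.appLE ⊤ U hle).hom.comp (Scheme.ΓSpecIso (CommRingCat.of R)).inv.hom
  have hiso : Function.Bijective (Scheme.ΓSpecIso (CommRingCat.of R)).inv.hom :=
    (ConcreteCategory.isIso_iff_bijective _).mp inferInstance
  have hρft : ρ.FiniteType :=
    (h.finiteType_appLE htop hU hle).comp (RingHom.FiniteType.of_surjective _ hiso.2)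
  have hρflat : ρ.Flat :=
    RingHom.Flat.comp (RingHom.Flat.of_bijective hiso) (h.flat_appLE htop hU hle)
  letI algD : Algebra R Γ(X, U) := ρ.toAlgebra
  haveI : Algebra.FiniteType R Γ(X, U) := hρft
  haveI : Module.Flat R Γ(X, U) := hρflat
  exact kerFP_of_prufer hR _

/-- Kernels of maps of finitely presented modules on a flat closed subscheme of `P^n_R`
(`R` Prüfer) are finitely presented. -/
theorem isFP_kernel_closed (n : ℕ) {X : Scheme.{u}} (ι : X ⟶ CohB1.ProjSpace n R)
    [IsClosedImmersion ι] [Flat (ι ≫ CohB1.ProjSpace.toSpec n R)]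
    {G H : X.Modules} (hG : CohB1.IsFP G) (hH : CohB1.IsFP H) (p : G ⟶ H) :
    CohB1.IsFP (kernel p) := by
  haveI : IsProper (CohB1.ProjSpace.toSpec n R) :=
    Groth.Agent.Lib.ProjSpaceProper.isProper_toSpec n R
  haveI : LocallyOfFiniteType (ι ≫ CohB1.ProjSpace.toSpec n R) := inferInstance
  let U : ULift.{u} (Fin (n + 1)) → X.Opens :=
    fun i => ι ⁻¹ᵁ (Groth.Agent.Lib.ProjSpaceCover.stdOpen n R i.down)
  refine isFP_kernel_of_kerFP U ?_
    (fun i => (Groth.Agent.Lib.ProjSpaceCover.isAffineOpen_stdOpen n R _).preimage ι)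
    (fun i => kerFP_of_flat_of_locallyOfFiniteType hR (ι ≫ CohB1.ProjSpace.toSpec n R) _
      ((Groth.Agent.Lib.ProjSpaceCover.isAffineOpen_stdOpen n R _).preimage ι)) hG hH p
  rw [eq_top_iff]
  intro x _
  have hx : ι.base x ∈ (⊤ : (CohB1.ProjSpace n R).Opens) := trivial
  rw [← Groth.Agent.Lib.ProjSpaceCover.iSup_stdOpen n R, Opens.mem_iSup] at hx
  obtain ⟨i, hi⟩ := hx
  exact Opens.mem_iSup.mpr ⟨⟨i⟩, hi⟩

end Charts

section Main

variable (n : ℕ) (R : Type u) [CommRing R] [IsDomain R]

/-- the statement-shaped map is `tensorModMap φ (𝟙 M)` -/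
theorem tensorModMap_id_right_eq {X : Scheme.{u}} {F G : X.Modules} (φ : F ⟶ G) (M : X.Modules) :
    tensorModMap φ (𝟙 M) =
      (CohB1.sheafifyMod X).map (MonoidalCategoryStruct.whiskerRight (C := CohB1.PMod X)
        φ.val (CohB1.toPMod M)) := by
  change (Groth.Agent.Lib.OXModTensorW.sh X).map ((fg X).map φ ⊗ₘ (fg X).map (𝟙 M)) = _
  rw [(fg X).map_id, MonoidalCategory.tensorHom_id]
  rfl

/-- **Surjectivity on global sections of high twists.** -/
theorem surjective_twist_of_epi
    (hR : ∀ (p : Ideal R) [p.IsPrime], ValuationRing (Localization.AtPrime p))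
    {X : Scheme.{u}} (ι : X ⟶ CohB1.ProjSpace n R) [IsClosedImmersion ι]
    [Flat (ι ≫ CohB1.ProjSpace.toSpec n R)] (F G : X.Modules) (hF : CohB1.IsFP F)
    (hG : CohB1.IsFP G) (φ : F ⟶ G) [Epi φ] :
    ∃ N : ℕ, ∀ k : ℕ, N ≤ k →
      Function.Surjective (((CohB1.sheafifyMod X).map
        (MonoidalCategoryStruct.whiskerRight (C := CohB1.PMod X) φ.val
          (CohB1.toPMod (CohB1.tensorPow
            ((Scheme.Modules.pullback ι).obj (twistProjSpace n R 1)) k)))).val.app
              (Opposite.op ⊤)).hom := by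
  have hK : CohB1.IsFP (kernel φ) := isFP_kernel_closed hR n ι hF hG φ
  obtain ⟨N, hN⟩ := serre_vanishing_closed_of_isFP n R hR ι (kernel φ) hK
  refine ⟨N, fun k hk => ?_⟩
  set M := CohB1.tensorPow ((Scheme.Modules.pullback ι).obj (twistProjSpace n R 1)) k with hM
  have hL : PicF.IsInvertible ((Scheme.Modules.pullback ι).obj (twistProjSpace n R 1)) :=
    Groth.Agent.Lib.H90Invertible.isInvertible_pullback ι (isInvertible_twistProjSpace n R 1)
  have hMinv : PicF.IsInvertible M := Groth.Agent.Lib.H78TensorGen.isInvertible_tensorPow hL k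
  obtain ⟨M', -, ⟨e₀⟩⟩ := Groth.Agent.Lib.H78Dual.exists_tensor_inverse hMinv
  have e : tensorMod M M' ≅ Coh.structureModule X := braiding _ _ ≪≫ e₀
  let S : ShortComplex X.Modules := ShortComplex.mk (kernel.ι φ) φ (kernel.condition φ)
  have hS : S.ShortExact :=
    { exact := ShortComplex.exact_of_f_is_kernel _ (kernelIsKernel φ)
      mono_f := inferInstanceAs (Mono (kernel.ι φ))
      epi_g := inferInstanceAs (Epi φ) }
  have hS' : (S.map (tensorRightFunctor M)).ShortExact := shortExact_map_tensorRight e hS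
  haveI : Subsingleton (Coh.HH X (S.map (tensorRightFunctor M)).X₁ 1) := hN k hk 1 Nat.one_pos
  intro t
  obtain ⟨s, hs⟩ := exists_section_lift hS' t
  refine ⟨s, ?_⟩
  have hg : (S.map (tensorRightFunctor M)).g =
      (CohB1.sheafifyMod X).map (MonoidalCategoryStruct.whiskerRight (C := CohB1.PMod X)
        φ.val (CohB1.toPMod M)) := by
    change (tensorRightFunctor M).map φ = _
    rw [tensorRightFunctor_map, tensorModMap_id_right_eq]
  rw [hg] at hs
  exact hs

end Main

end Groth.Agent.Lib.Prufer76
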