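import Groth.Agent.Lib.ClosedPushPC17
import Groth.Agent.Lib.DDevissage
import Groth.Agent.Lib.DPeelTop
import Groth.Agent.Lib.DWayOut

/-!
# Pseudo-coherence from the cohomology sheaves / from the terms (helper17)

Absolute statements on `D(O_Y)`:
* `isPseudoCoherentD_of_homology`: `K ∈ D^{≤ b}` with `H^i(K)[0]` `(m-i)`-pseudo-coherent for all
  `i ≥ m` is `m`-pseudo-coherent;
* `isPseudoCoherentD_of_termwise`: a bounded above complex with `K^i[0]` `(m-i)`-pseudo-coherent
  for all `i ≥ m` is `m`-pseudo-coherent.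
-/

set_option autoImplicit false
universe u
open CategoryTheory CategoryTheory.Limits AlgebraicGeometry TopologicalSpace Opposite
  Pretriangulated
attribute [local instance] HasDerivedCategory.standard

namespace Groth.Agent.Lib.PseudoCohHomology17

open Groth.Agent.Lib.PseudoCohTriangle Groth.Agent.Lib.PseudoCohSummand
  Groth.Agent.Lib.ClosedPushPC17 DerivedCategory DerivedCategory.TStructure

variable {Y : Scheme.{u}}

/-- `m`-pseudo-coherence as an object property. -/
def pcProp (m : ℤ) : ObjectProperty (DCoh.D Y) := fun K => DCoh.IsPseudoCoherentD m K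

instance (m : ℤ) : (pcProp (Y := Y) m).IsClosedUnderIsomorphisms where
  of_iso e h := isPseudoCoherentD_of_iso e h

theorem pcProp_ext (m : ℤ) (T : Triangle (DCoh.D Y)) (hT : T ∈ distTriang (DCoh.D Y))
    (h₁ : pcProp m T.obj₁) (h₃ : pcProp m T.obj₃) : pcProp m T.obj₂ :=
  isPseudoCoherentD_obj₂ m T hT h₁ h₃

theorem pcProp_of_isZero (m : ℤ) (Z : DCoh.D Y) (hZ : IsZero Z) : pcProp m Z :=
  isPseudoCoherentD_of_isZero_homology m Z fun i _ =>
    (DerivedCategory.homologyFunctor Y.Modules i).map_isZero hZ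

/-- A module in degree `j` is `m`-pseudo-coherent if it is `(m - j)`-pseudo-coherent in degree
`0`. -/
theorem isPseudoCoherentD_single_of {M : Y.Modules} {j m : ℤ}
    (h : DCoh.IsPseudoCoherentD (m - j) (DCoh.inD Y M)) :
    DCoh.IsPseudoCoherentD m ((DerivedCategory.singleFunctor Y.Modules j).obj M) := by
  have e : ((DerivedCategory.singleFunctor Y.Modules 0).obj M)⟦-j⟧ ≅
      (DerivedCategory.singleFunctor Y.Modules j).obj M :=
    ((DerivedCategory.singleFunctors Y.Modules).shiftIso (-j) j 0 (by omega)).app M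
  exact isPseudoCoherentD_of_iso e (isPseudoCoherentD_shift h (-j) m (by omega))

theorem isPseudoCoherentD_inD_of_iso {M N : Y.Modules} (e : M ≅ N) {m : ℤ}
    (h : DCoh.IsPseudoCoherentD m (DCoh.inD Y M)) : DCoh.IsPseudoCoherentD m (DCoh.inD Y N) :=
  isPseudoCoherentD_of_iso ((DerivedCategory.singleFunctor Y.Modules 0).mapIso e) h

/-- An object of `D^{≤ b}` whose cohomology sheaves `H^i`, `i ≥ m`, are `(m - i)`-pseudo-coherent
in degree `0` is `m`-pseudo-coherent. -/
theorem isPseudoCoherentD_of_homology (K : DCoh.D Y) (b m : ℤ) [K.IsLE b]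
    (h : ∀ i : ℤ, m ≤ i → DCoh.IsPseudoCoherentD (m - i) (DCoh.inD Y (DCoh.HD K i))) :
    DCoh.IsPseudoCoherentD m K := by
  have hT := t.triangleLTGE_distinguished m K
  refine isPseudoCoherentD_obj₂ m _ hT ?_ ?_
  · -- the truncation below `m`
    apply isPseudoCoherentD_of_isZero_homology
    intro i hi
    exact isZero_of_isLE ((t.truncLT m).obj K) (m - 1) i (by omega)
  · -- the truncation above `m`, bounded
    change pcProp m ((t.truncGE m).obj K)
    apply Groth.Agent.Lib.DDevissage.devissage (pcProp m) (pcProp_ext m) (pcProp_of_isZero m)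
      ((t.truncGE m).obj K) m b
    intro j hj _
    have := Groth.Agent.Lib.DWayOut.isIso_homologyMap_truncGEπ K m j hj
    exact isPseudoCoherentD_single_of (isPseudoCoherentD_inD_of_iso
      (asIso ((DerivedCategory.homologyFunctor Y.Modules j).map ((t.truncGEπ m).app K))) (h j hj))

/-- A bounded above complex whose terms `K^i`, `i ≥ m`, are `(m - i)`-pseudo-coherent in degree
`0` is `m`-pseudo-coherent. -/
theorem isPseudoCoherentD_of_termwise (K : CochainComplex Y.Modules ℤ) (b m : ℤ)
    (hK : ∀ i : ℤ, b < i → IsZero (K.X i))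
    (h : ∀ i : ℤ, m ≤ i → DCoh.IsPseudoCoherentD (m - i) (DCoh.inD Y (K.X i))) :
    DCoh.IsPseudoCoherentD m (DCoh.toD Y K) := by
  change pcProp m (DerivedCategory.Q.obj K)
  apply Groth.Agent.Lib.DPeelTop.termwise_devissage (pcProp m) (pcProp_ext m) m ?_ K b hK
  · intro i X hi ⟨e⟩
    exact isPseudoCoherentD_single_of (isPseudoCoherentD_inD_of_iso e.symm (h i hi))
  · intro L hL
    apply isPseudoCoherentD_of_isZero_homology
    intro i hi
    have hz : IsZero (L.homology i) :=
      (L.sc i).isZero_homology_of_isZero_X₂ (hL i hi)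
    exact hz.of_iso ((DerivedCategory.homologyFunctorFactors Y.Modules i).app L)

end Groth.Agent.Lib.PseudoCohHomology17
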