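import Groth.Agent.Lib.GrpAction
import Groth.Prelude.Def_NonAbH2
import Mathlib.CategoryTheory.Monoidal.Cartesian.Over
import Mathlib.CategoryTheory.Monoidal.Grp

/-!
# Pseudo-torsors on points (helper21)

For `a : AlgGrp.Action G X` in `Over S` and `s : T ⟶ X`, the morphism
`trivMap a s = lift ((G ◁ s) ≫ a.act) (snd G T) : G ⊗ T ⟶ X ⊗ T`, `(g, t) ↦ (g • s t, t)`.

* `isIso_trivMap_iff` : it is an isomorphism iff for all `t : W ⟶ T`, `y : W ⟶ X` there is a unique
  `g : W ⟶ G` with `g • s(t) = y`;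
* `isPseudoTorsorSch_iff` : `a` is a pseudo-torsor iff `G(W)` acts simply transitively on `X(W)`
  for every `W`;
* `simplyTrans_of_basePoint` : simple transitivity through one base point gives it everywhere;
* `isIso_shear_whiskerRight` : if `G(W)` acts simply transitively on `X(W)` for every `W` admitting a
  morphism to `T`, then `(shear map) ▷ T` is an isomorphism.
-/

universe u

open CategoryTheory MonoidalCategory CartesianMonoidalCategory MonObj AlgebraicGeometry

namespace Groth.Agent.Lib.PseudoTorsorPts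

open Groth.Agent.Lib.GrpAction

variable {S : Scheme.{u}} {G X : Over S} [GrpObj G] (a : AlgGrp.Action G X)

/-- `(g, t) ↦ (g • s t, t)`. -/
noncomputable def trivMap {T : Over S} (s : T ⟶ X) : G ⊗ T ⟶ X ⊗ T :=
  lift ((G ◁ s) ≫ a.act) (snd G T)

lemma lift_trivMap {T W : Over S} (s : T ⟶ X) (g : W ⟶ G) (t : W ⟶ T) :
    lift g t ≫ trivMap a s = lift (lift g (t ≫ s) ≫ a.act) t := by
  unfold trivMap
  rw [comp_lift, lift_snd, lift_whiskerLeft_assoc]

lemma trivMap_id : trivMap a (𝟙 X) = lift a.act (snd G X) := by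
  unfold trivMap
  rw [MonoidalCategory.whiskerLeft_id, Category.id_comp]

theorem isIso_trivMap_iff {T : Over S} (s : T ⟶ X) :
    IsIso (trivMap a s) ↔
      ∀ (W : Over S) (t : W ⟶ T) (y : W ⟶ X), ∃! g : W ⟶ G, lift g (t ≫ s) ≫ a.act = y := by
  constructor
  · intro h W t y
    have hb := (isIso_iff_yoneda_map_bijective (trivMap a s)).mp h W
    obtain ⟨p, hp⟩ := hb.2 (lift y t)
    change p ≫ trivMap a s = lift y t at hp
    have hp' : p = lift (p ≫ fst G T) (p ≫ snd G T) := by
      apply CartesianMonoidalCategory.hom_ext <;> simp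
    have h2 : p ≫ snd G T = t := by
      have := congrArg (fun k => k ≫ snd X T) hp
      simpa [trivMap] using this
    refine ⟨p ≫ fst G T, ?_, ?_⟩
    · have := congrArg (fun k => k ≫ fst X T) hp
      simp only [lift_fst] at this
      rw [← this, hp', lift_trivMap, lift_fst, ← hp', h2]
    · intro g' hg'
      have : lift g' t = p := by
        apply hb.1
        change lift g' t ≫ trivMap a s = p ≫ trivMap a s
        rw [hp, lift_trivMap, hg']
      rw [← this, lift_fst]
  · intro h
    refine isIso_of_yoneda_map_bijective _ fun W => ⟨?_, ?_⟩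
    · intro p p' hpp
      change p ≫ trivMap a s = p' ≫ trivMap a s at hpp
      have hp : p = lift (p ≫ fst G T) (p ≫ snd G T) := by
        apply CartesianMonoidalCategory.hom_ext <;> simp
      have hp' : p' = lift (p' ≫ fst G T) (p' ≫ snd G T) := by
        apply CartesianMonoidalCategory.hom_ext <;> simp
      rw [hp, hp', lift_trivMap, lift_trivMap] at hpp
      have e2 : p ≫ snd G T = p' ≫ snd G T := by
        simpa using congrArg (fun k => k ≫ snd X T) hpp
      have e1 := congrArg (fun k => k ≫ fst X T) hpp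
      simp only [lift_fst] at e1
      rw [← e2] at e1
      have := (h W (p ≫ snd G T) _).unique rfl e1.symm
      rw [hp, hp', this, e2]
    · intro q
      obtain ⟨g, hg, -⟩ := h W (q ≫ snd X T) (q ≫ fst X T)
      refine ⟨lift g (q ≫ snd X T), ?_⟩
      change lift g (q ≫ snd X T) ≫ trivMap a s = q
      rw [lift_trivMap, hg]
      apply CartesianMonoidalCategory.hom_ext <;> simp

theorem isPseudoTorsorSch_iff :
    NonAbH1.IsPseudoTorsorSch a ↔
      ∀ (W : Over S) (x y : W ⟶ X), ∃! g : W ⟶ G, lift g x ≫ a.act = y := by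
  unfold NonAbH1.IsPseudoTorsorSch
  rw [← trivMap_id, isIso_trivMap_iff]
  simp only [Category.comp_id]

/-- Simple transitivity through one base point gives simple transitivity on all of `X(W)`. -/
theorem simplyTrans_of_basePoint {W : Over S} (x₀ : W ⟶ X)
    (h : ∀ y : W ⟶ X, ∃! g : W ⟶ G, lift g x₀ ≫ a.act = y) (x y : W ⟶ X) :
    ∃! g : W ⟶ G, lift g x ≫ a.act = y := by
  obtain ⟨hx, hhx, -⟩ := h x
  obtain ⟨k, hk, -⟩ := h y
  have key : ∀ g : W ⟶ G, lift g x ≫ a.act = lift (g * hx) x₀ ≫ a.act := by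
    intro g
    rw [mul_act, hhx]
  refine ⟨k * hx⁻¹, ?_, ?_⟩
  · change lift (k * hx⁻¹) x ≫ a.act = y
    rw [key, inv_mul_cancel_right, hk]
  · intro g' hg'
    change lift g' x ≫ a.act = y at hg'
    rw [key] at hg'
    have := (h y).unique hg' hk
    rw [← this, mul_inv_cancel_right]

/-- If `G(W)` acts simply transitively on `X(W)` whenever `W` maps to `T`, then the shear map
whiskered with `T` is an isomorphism. -/
theorem isIso_shear_whiskerRight (T : Over S)
    (h : ∀ (W : Over S) (_ : W ⟶ T) (x y : W ⟶ X), ∃! g : W ⟶ G, lift g x ≫ a.act = y) :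
    IsIso (lift a.act (snd G X) ▷ T) := by
  refine isIso_of_yoneda_map_bijective _ fun W => ⟨?_, ?_⟩
  · intro p p' hpp
    change p ≫ (lift a.act (snd G X) ▷ T) = p' ≫ (lift a.act (snd G X) ▷ T) at hpp
    have e3 : p ≫ snd _ T = p' ≫ snd _ T := by
      simpa using congrArg (fun k => k ≫ snd _ T) hpp
    have e12 : (p ≫ fst _ T) ≫ lift a.act (snd G X) = (p' ≫ fst _ T) ≫ lift a.act (snd G X) := by
      simpa using congrArg (fun k => k ≫ fst _ T) hpp
    have e2 : (p ≫ fst _ T) ≫ snd G X = (p' ≫ fst _ T) ≫ snd G X := by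
      simpa using congrArg (fun k => k ≫ snd X X) e12
    have e1 : (p ≫ fst _ T) ≫ a.act = (p' ≫ fst _ T) ≫ a.act := by
      simpa using congrArg (fun k => k ≫ fst X X) e12
    have hq : ∀ q : W ⟶ G ⊗ X, q = lift (q ≫ fst G X) (q ≫ snd G X) := fun q => by
      apply CartesianMonoidalCategory.hom_ext <;> simp
    have e0 : (p ≫ fst _ T) ≫ fst G X = (p' ≫ fst _ T) ≫ fst G X := by
      rw [hq (p ≫ fst _ T), hq (p' ≫ fst _ T), ← e2] at e1
      exact (h W (p ≫ snd _ T) _ _).unique rfl e1.symm
    have e : p ≫ fst _ T = p' ≫ fst _ T := by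
      rw [hq (p ≫ fst _ T), hq (p' ≫ fst _ T), e0, e2]
    apply CartesianMonoidalCategory.hom_ext _ _ e e3
  · intro q
    obtain ⟨g, hg, -⟩ := h W (q ≫ snd _ T) (q ≫ fst _ T ≫ snd X X) (q ≫ fst _ T ≫ fst X X)
    refine ⟨lift (lift g (q ≫ fst _ T ≫ snd X X)) (q ≫ snd _ T), ?_⟩
    change lift (lift g (q ≫ fst _ T ≫ snd X X)) (q ≫ snd _ T) ≫ (lift a.act (snd G X) ▷ T) = q
    rw [lift_whiskerRight, comp_lift, lift_snd, hg]
    apply CartesianMonoidalCategory.hom_ext
    · rw [lift_fst]
      apply CartesianMonoidalCategory.hom_ext <;> simp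
    · simp

end Groth.Agent.Lib.PseudoTorsorPts
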