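import Mathlib
import Groth.Agent.Lib.DvrDominating
import Groth.Agent.Lib.DvrDominating2
import Groth.Agent.Lib.NormalTotFrac97

/-!
# Pointwise functions on a normal Noetherian ring varying along DVRs (algebraic core, helper51)

A "pointwise function" on `Spec A` is encoded by numerators `b q` and denominators `s q ∉ q`
(the value at `q` being `b q / s q` in `κ(q)`).  `DVRCond b s` says that along every ring map
`φ : A → R` to a DVR there is `r : R` with the prescribed values at the two points of `Spec R`.
`exists_section`: for `A` reduced, Noetherian and integrally closed in its total ring of fractions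
there is `a : A` with value `b q / s q` at every `q`.
-/

set_option autoImplicit false
universe u

open IsLocalRing

namespace Groth.Agent.Lib.PtFunNormal51

variable {A : Type u} [CommRing A]

/-- The algebraic form of "varies algebraically along discrete valuation rings". -/
def DVRCond (b s : PrimeSpectrum A → A) : Prop :=
  ∀ (R : Type u) [CommRing R] [IsDomain R] [IsDiscreteValuationRing R] (φ : A →+* R)
    (q₁ q₀ : PrimeSpectrum A), q₁.asIdeal = RingHom.ker φ →
    q₀.asIdeal = (maximalIdeal R).comap φ →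
    ∃ r : R, r * φ (s q₁) = φ (b q₁) ∧ r * φ (s q₀) - φ (b q₀) ∈ maximalIdeal R

/-- If the local ring at `m` is a domain, the kernel of `A → A_m` is the minimal prime below `m`. -/
theorem ker_algebraMap_localization {p m : Ideal A} [m.IsPrime] (hp : p ∈ minimalPrimes A)
    (hpm : p ≤ m) [IsDomain (Localization.AtPrime m)] :
    RingHom.ker (algebraMap A (Localization.AtPrime m)) = p := by
  have hpp : p.IsPrime := Ideal.IsMinimalPrime.isPrime hp
  have hle : RingHom.ker (algebraMap A (Localization.AtPrime m)) ≤ p := by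
    intro x hx
    rw [RingHom.mem_ker, IsLocalization.map_eq_zero_iff m.primeCompl] at hx
    obtain ⟨t, ht⟩ := hx
    have h1 : (t : A) * x ∈ p := by rw [ht]; exact p.zero_mem
    exact (hpp.mem_or_mem h1).resolve_left (fun h => t.2 (hpm h))
  have hprime : (RingHom.ker (algebraMap A (Localization.AtPrime m))).IsPrime :=
    RingHom.ker_isPrime _
  exact le_antisymm hle (hp.2 ⟨hprime, bot_le⟩ hle)

section Core

variable [IsNoetherianRing A]
  (hloc : ∀ (p : Ideal A) [p.IsPrime],
    IsDomain (Localization.AtPrime p) ∧ IsIntegrallyClosed (Localization.AtPrime p))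
  (b s : PrimeSpectrum A → A) (hs : ∀ q, s q ∉ q.asIdeal) (H : DVRCond b s)

include hloc hs H

/-- **Step 1.** At a minimal prime the value is the class of a global element. -/
theorem exists_at_minimal (P : PrimeSpectrum A) (hP : P.asIdeal ∈ minimalPrimes A) :
    ∃ a : A, a * s P - b P ∈ P.asIdeal := by
  classical
  let D : Ideal A :=
    { carrier := {d | ∃ a, d * b P - a * s P ∈ P.asIdeal}
      add_mem' := by
        rintro d₁ d₂ ⟨a₁, h₁⟩ ⟨a₂, h₂⟩
        refine ⟨a₁ + a₂, ?_⟩
        have : (d₁ + d₂) * b P - (a₁ + a₂) * s P =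
            (d₁ * b P - a₁ * s P) + (d₂ * b P - a₂ * s P) := by ring
        rw [this]
        exact Ideal.add_mem _ h₁ h₂
      zero_mem' := ⟨0, by simp⟩
      smul_mem' := by
        rintro c d ⟨a, h⟩
        refine ⟨c * a, ?_⟩
        have : c • d * b P - c * a * s P = c * (d * b P - a * s P) := by
          rw [smul_eq_mul]; ring
        rw [this]
        exact Ideal.mul_mem_left _ _ h }
  have hD : ∀ d, d ∈ D ↔ ∃ a, d * b P - a * s P ∈ P.asIdeal := fun d => Iff.rfl
  by_contra hcon
  have hne : D ≠ ⊤ := by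
    intro htop
    have h1 : (1 : A) ∈ D := htop ▸ Submodule.mem_top
    obtain ⟨a, ha⟩ := (hD 1).mp h1
    apply hcon
    refine ⟨a, ?_⟩
    have : a * s P - b P = -(1 * b P - a * s P) := by ring
    rw [this]
    exact Ideal.neg_mem_iff _ |>.mpr ha
  obtain ⟨m, hm, hDm⟩ := Ideal.exists_le_maximal D hne
  haveI : m.IsPrime := hm.isPrime
  have hPD : P.asIdeal ≤ D := fun d hd => (hD d).mpr ⟨0, by
    rw [zero_mul, sub_zero]; exact Ideal.mul_mem_right _ _ hd⟩
  have hPm : P.asIdeal ≤ m := hPD.trans hDm
  obtain ⟨hdom, hic⟩ := hloc m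
  haveI := hdom
  haveI := hic
  haveI : IsNoetherianRing (Localization.AtPrime m) :=
    IsLocalization.isNoetherianRing m.primeCompl _ inferInstance
  let K' := FractionRing (Localization.AtPrime m)
  let ι : A →+* K' := (algebraMap (Localization.AtPrime m) K').comp
    (algebraMap A (Localization.AtPrime m))
  have hker : ∀ x, ι x = 0 ↔ x ∈ P.asIdeal := by
    intro x
    rw [← ker_algebraMap_localization hP hPm, RingHom.mem_ker]
    exact (map_eq_zero_iff _ (IsFractionRing.injective (Localization.AtPrime m) K'))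
  have hs0 : ι (s P) ≠ 0 := fun h => hs P ((hker _).mp h)
  let k : K' := ι (b P) / ι (s P)
  have hk : k ∉ (algebraMap (Localization.AtPrime m) K').range := by
    rintro ⟨x, hx⟩
    obtain ⟨a, t, rfl⟩ := IsLocalization.exists_mk'_eq m.primeCompl x
    have hι : ∀ y, ι y = algebraMap (Localization.AtPrime m) K'
        (algebraMap A (Localization.AtPrime m) y) := fun _ => rfl
    have h1 : algebraMap (Localization.AtPrime m) K' (IsLocalization.mk' _ a t) * ι t = ι a := by
      rw [hι, hι, ← map_mul, IsLocalization.mk'_spec]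
    have h2 : ι (b P) * ι t = ι a * ι (s P) := by
      have h3 : ι (b P) = k * ι (s P) := (div_mul_cancel₀ _ hs0).symm
      rw [h3, ← hx, ← h1]; ring
    have h4 : (t : A) * b P - a * s P ∈ P.asIdeal := by
      rw [← hker, map_sub, map_mul, map_mul, mul_comm, h2, sub_self]
    exact t.2 (hDm ((hD _).mpr ⟨a, h4⟩))
  obtain ⟨V, hV, hkV, hmem, -⟩ :=
    Groth.Agent.Lib.DvrDominating.exists_dvr_dominating_not_mem (Localization.AtPrime m) K' k hk
  let φ : A →+* V := ι.codRestrict V (fun x => hmem _)
  have hφ : ∀ x, ((φ x : V) : K') = ι x := fun x => rfl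
  have hkerφ : P.asIdeal = RingHom.ker φ := by
    ext x
    rw [RingHom.mem_ker, ← hker, ← hφ]
    constructor
    · intro h; exact Subtype.ext h
    · intro h; rw [h]; rfl
  obtain ⟨r, hr, -⟩ := H V φ P ⟨(maximalIdeal V).comap φ, inferInstance⟩ hkerφ rfl
  apply hkV
  have h5 : (r : K') * ι (s P) = ι (b P) := congrArg (fun z : V => (z : K')) hr
  have h6 : (r : K') = k := eq_div_of_mul_eq hs0 h5
  rw [← h6]
  exact r.2

/-- **Step 2.** The element found at a minimal prime has the right value at every prime above it. -/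
theorem mem_of_minimal_le (P q : PrimeSpectrum A) (hP : P.asIdeal ∈ minimalPrimes A)
    (hPq : P.asIdeal ≤ q.asIdeal) (a : A) (ha : a * s P - b P ∈ P.asIdeal) :
    a * s q - b q ∈ q.asIdeal := by
  classical
  by_cases hne : P.asIdeal = q.asIdeal
  · have : P = q := PrimeSpectrum.ext hne
    subst this
    exact ha
  obtain ⟨x, hxq, hxP⟩ := SetLike.exists_of_lt (lt_of_le_of_ne hPq hne)
  obtain ⟨hdom, -⟩ := hloc q.asIdeal
  haveI := hdom
  haveI : IsNoetherianRing (Localization.AtPrime q.asIdeal) :=
    IsLocalization.isNoetherianRing q.asIdeal.primeCompl _ inferInstance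
  let K' := FractionRing (Localization.AtPrime q.asIdeal)
  let ι : A →+* K' := (algebraMap (Localization.AtPrime q.asIdeal) K').comp
    (algebraMap A (Localization.AtPrime q.asIdeal))
  have hker : ∀ x, ι x = 0 ↔ x ∈ P.asIdeal := by
    intro x
    rw [← ker_algebraMap_localization hP hPq, RingHom.mem_ker]
    exact (map_eq_zero_iff _ (IsFractionRing.injective (Localization.AtPrime q.asIdeal) K'))
  have hs0 : ι (s P) ≠ 0 := fun h => hs P ((hker _).mp h)
  haveI : Algebra.EssFiniteType (Localization.AtPrime q.asIdeal) K' :=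
    Algebra.EssFiniteType.of_isLocalization _ (nonZeroDivisors (Localization.AtPrime q.asIdeal))
  have hR : ∃ t ∈ maximalIdeal (Localization.AtPrime q.asIdeal),
      algebraMap (Localization.AtPrime q.asIdeal) K' t ≠ 0 :=
    ⟨algebraMap A _ x,
      (IsLocalization.AtPrime.to_map_mem_maximal_iff _ q.asIdeal x).mpr hxq,
      fun h => hxP ((hker x).mp h)⟩
  obtain ⟨V, hV, hmem, hlocal⟩ := Groth.Agent.Lib.DvrDominating.exists_dvr_dominating
    (Localization.AtPrime q.asIdeal) K' hR
  let ψ : Localization.AtPrime q.asIdeal →+* V :=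
    (algebraMap (Localization.AtPrime q.asIdeal) K').codRestrict V.toSubring hmem
  let φ : A →+* V := ψ.comp (algebraMap A (Localization.AtPrime q.asIdeal))
  have hφ : ∀ x, ((φ x : V) : K') = ι x := fun x => rfl
  have hkerφ : P.asIdeal = RingHom.ker φ := by
    ext x
    rw [RingHom.mem_ker, ← hker, ← hφ]
    constructor
    · intro h; exact Subtype.ext h
    · intro h; rw [h]; rfl
  have hcomap : q.asIdeal = (maximalIdeal V).comap φ := by
    have h1 : (maximalIdeal V).comap ψ = maximalIdeal (Localization.AtPrime q.asIdeal) :=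
      ((IsLocalRing.local_hom_TFAE ψ).out 0 4).mp hlocal
    have h2 : (maximalIdeal V).comap φ =
        ((maximalIdeal V).comap ψ).comap (algebraMap A (Localization.AtPrime q.asIdeal)) := rfl
    rw [h2, h1]
    exact (IsLocalization.AtPrime.comap_maximalIdeal (Localization.AtPrime q.asIdeal)
      q.asIdeal).symm
  obtain ⟨r, hr1, hr0⟩ := H V φ P q hkerφ hcomap
  have h5 : (r : K') * ι (s P) = ι (b P) := congrArg (fun z : V => (z : K')) hr1
  have h7 : ι a * ι (s P) = ι (b P) := by
    have := (hker _).mpr ha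
    rw [map_sub, map_mul, sub_eq_zero] at this
    exact this
  have h8 : (r : K') = ι a := mul_right_cancel₀ hs0 (h5.trans h7.symm)
  have h9 : r = φ a := Subtype.ext h8
  rw [h9, ← map_mul, ← map_sub] at hr0
  rw [hcomap]
  exact hr0

end Core

/-- **Main algebraic theorem.** Over a reduced Noetherian ring integrally closed in its total ring
of fractions, a pointwise function varying algebraically along discrete valuation rings is given
by a global element. -/
theorem exists_section [IsReduced A] [IsNoetherianRing A] [IsIntegrallyClosed A]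
    (b s : PrimeSpectrum A → A) (hs : ∀ q, s q ∉ q.asIdeal) (H : DVRCond b s) :
    ∃ a : A, ∀ q : PrimeSpectrum A, a * s q - b q ∈ q.asIdeal := by
  classical
  have hfin : (minimalPrimes A).Finite := minimalPrimes.finite_of_isNoetherianRing A
  have hloc : ∀ (p : Ideal A) [p.IsPrime],
      IsDomain (Localization.AtPrime p) ∧ IsIntegrallyClosed (Localization.AtPrime p) :=
    fun p _ => Groth.Agent.Lib.NormalTotFrac97.normal_of_isIntegrallyClosedIn (FractionRing A)
      hfin inferInstance p
  haveI : Finite ↥(minimalPrimes A) := hfin.to_subtype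
  have hprime : ∀ P : ↥(minimalPrimes A), (P : Ideal A).IsPrime :=
    fun P => Ideal.IsMinimalPrime.isPrime P.2
  have hcop : Pairwise (Function.onFun IsCoprime fun P : ↥(minimalPrimes A) => (P : Ideal A)) := by
    intro P P' hne
    rw [Function.onFun, Ideal.isCoprime_iff_sup_eq]
    by_contra hcon
    obtain ⟨m, hm, hle⟩ := Ideal.exists_le_maximal _ hcon
    haveI : m.IsPrime := hm.isPrime
    haveI := (hloc m).1
    apply hne
    apply Subtype.ext
    rw [← ker_algebraMap_localization P.2 (le_sup_left.trans hle),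
      ← ker_algebraMap_localization P'.2 (le_sup_right.trans hle)]
  choose a₀ ha₀ using fun P : ↥(minimalPrimes A) =>
    exists_at_minimal hloc b s hs H ⟨P, hprime P⟩ P.2
  obtain ⟨a, ha⟩ := Ideal.exists_forall_sub_mem_ideal hcop a₀
  refine ⟨a, fun q => ?_⟩
  obtain ⟨P, hP, hPq⟩ := Ideal.exists_minimalPrimes_le (bot_le : (⊥ : Ideal A) ≤ q.asIdeal)
  have hP' : P ∈ minimalPrimes A := hP
  refine mem_of_minimal_le hloc b s hs H ⟨P, hprime ⟨P, hP'⟩⟩ q hP' hPq a ?_
  have h1 : a * s ⟨P, hprime ⟨P, hP'⟩⟩ - b ⟨P, hprime ⟨P, hP'⟩⟩ =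
      (a - a₀ ⟨P, hP'⟩) * s ⟨P, hprime ⟨P, hP'⟩⟩ +
        (a₀ ⟨P, hP'⟩ * s ⟨P, hprime ⟨P, hP'⟩⟩ - b ⟨P, hprime ⟨P, hP'⟩⟩) := by ring
  rw [h1]
  exact Ideal.add_mem _ (Ideal.mul_mem_right _ _ (ha ⟨P, hP'⟩)) (ha₀ ⟨P, hP'⟩)

end Groth.Agent.Lib.PtFunNormal51
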