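import Mathlib
import Groth.Prelude.Def_W4c5quivmodgenus0Quiv

/-!
# Helper lemmas for the quiver-representation (semi)stability comparison S18562 / S18563
-/

set_option autoImplicit false
set_option linter.unusedSectionVars false
universe u v

namespace Groth.Agent.Lib.PtQuiv97

open PtQuiv

variable {K : Type u} [Field K] {κ : Type v} [Fintype κ] [DecidableEq κ] {a b : κ}

/-- The "inner" weight of a `P`-subrepresentation (before multiplying by the constant `c`). -/
noncomputable def inner (θ : κ → ℚ) (a b : κ) (U : Fin 2 → Submodule K K)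
    (I : Finset {i : κ // i ≠ a ∧ i ≠ b}) : ℚ :=
  (θ a - 1) * (Module.finrank K (U 0) : ℚ) + (θ b - 1) * (Module.finrank K (U 1) : ℚ) +
    ∑ i ∈ I, θ i.1

lemma PWt_eq (θ : κ → ℚ) (c : ℚ) (U : Fin 2 → Submodule K K)
    (I : Finset {i : κ // i ≠ a ∧ i ≠ b}) :
    PWt K ![c * (θ a - 1), c * (θ b - 1)] (fun i : {i : κ // i ≠ a ∧ i ≠ b} => c * θ i.1) U I =
      c * inner θ a b U I := by
  unfold PWt inner
  rw [Fin.sum_univ_two, ← Finset.mul_sum]
  simp only [Matrix.cons_val_zero, Matrix.cons_val_one]
  ring

lemma inner_eq (θ : κ → ℚ) (U : Fin 2 → Submodule K K)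
    (I : Finset {i : κ // i ≠ a ∧ i ≠ b}) (d0 d1 : ℕ)
    (h0 : Module.finrank K (U 0) = d0) (h1 : Module.finrank K (U 1) = d1) :
    inner θ a b U I = (θ a - 1) * (d0 : ℚ) + (θ b - 1) * (d1 : ℚ) + ∑ i ∈ I, θ i.1 := by
  unfold inner
  rw [h0, h1]

lemma finrank_sub_cases (V : Submodule K K) :
    (V = ⊥ ∧ Module.finrank K V = 0) ∨ (V = ⊤ ∧ Module.finrank K V = 1) := by
  rcases eq_bot_or_eq_top V with h | h
  · left; exact ⟨h, by rw [h]; simp⟩
  · right; exact ⟨h, by rw [h]; simp⟩

lemma sum_split (hab : a ≠ b) (θ : κ → ℚ) (I : Finset κ) :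
    ∑ i ∈ I, θ i = ∑ i ∈ I.subtype (fun i => i ≠ a ∧ i ≠ b), θ i.1 +
      (if a ∈ I then θ a else 0) + (if b ∈ I then θ b else 0) := by
  rw [Finset.sum_subtype_eq_sum_filter,
    ← Finset.sum_filter_add_sum_filter_not I (fun i => i ≠ a ∧ i ≠ b) θ, add_assoc]
  congr 1
  have hfil : I.filter (fun i => ¬ (i ≠ a ∧ i ≠ b)) =
      (if a ∈ I then {a} else ∅) ∪ (if b ∈ I then {b} else ∅) := by
    ext x
    by_cases ha : a ∈ I <;> by_cases hb : b ∈ I <;>
      simp only [ha, hb, if_true, if_false, Finset.mem_filter, Finset.mem_union,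
        Finset.mem_singleton, Finset.notMem_empty, or_false, false_or] <;>
      constructor
    · rintro ⟨-, h⟩; by_contra hx; push Not at hx; exact h ⟨hx.1, hx.2⟩
    · rintro (rfl | rfl)
      · exact ⟨ha, fun h => h.1 rfl⟩
      · exact ⟨hb, fun h => h.2 rfl⟩
    · rintro ⟨hx, h⟩
      by_contra hxa
      apply h
      refine ⟨hxa, ?_⟩
      rintro rfl; exact hb hx
    · rintro rfl; exact ⟨ha, fun h => h.1 rfl⟩
    · rintro ⟨hx, h⟩
      by_contra hxb
      apply h
      refine ⟨?_, hxb⟩
      rintro rfl; exact ha hx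
    · rintro rfl; exact ⟨hb, fun h => h.2 rfl⟩
    · rintro ⟨hx, h⟩
      apply h
      constructor
      · rintro rfl; exact ha hx
      · rintro rfl; exact hb hx
    · exact fun h => h.elim
  rw [hfil, Finset.sum_union]
  · by_cases ha : a ∈ I <;> by_cases hb : b ∈ I <;> simp [ha, hb]
  · by_cases ha : a ∈ I <;> by_cases hb : b ∈ I <;> simp [ha, hb, hab]

/-- total of the weights off `a, b`. -/
lemma sum_off (hab : a ≠ b) (θ : κ → ℚ) (h2 : ∑ i, θ i = 2) :
    ∑ i : {i : κ // i ≠ a ∧ i ≠ b}, θ i.1 = 2 - θ a - θ b := by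
  have := sum_split hab θ Finset.univ
  rw [h2] at this
  simp only [Finset.mem_univ, if_true] at this
  have e : (Finset.univ : Finset κ).subtype (fun i => i ≠ a ∧ i ≠ b) = Finset.univ := by
    ext x; simp
  rw [e] at this
  linarith

lemma finrank_plane_le (L : Submodule K (Fin 2 → K)) : Module.finrank K L ≤ 2 := by
  have := Submodule.finrank_le L
  simpa using this

lemma line_eq_span (L : Submodule K (Fin 2 → K))
    (hL : Module.finrank K L = 1) (v : Fin 2 → K) (hv : v ≠ 0) (hvL : v ∈ L) :
    L = K ∙ v := by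
  symm
  apply Submodule.eq_of_le_of_finrank_eq
  · rwa [Submodule.span_singleton_le_iff_mem]
  · rw [hL]; exact finrank_span_singleton hv

section LI

variable {s : κ → (Fin 2 → K)} (hli : LinearIndependent K ![s a, s b])
include hli

lemma li_zero {x y : K} (h : x • s a + y • s b = 0) : x = 0 ∧ y = 0 :=
  (LinearIndependent.pair_iff.mp hli) x y h

lemma sa_ne : s a ≠ 0 := by
  intro h
  have := li_zero hli (x := 1) (y := 0) (by rw [h]; simp)
  exact one_ne_zero this.1

lemma sb_ne : s b ≠ 0 := by
  intro h
  have := li_zero hli (x := 0) (y := 1) (by rw [h]; simp)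
  exact one_ne_zero this.2

lemma snd_zero_of_mem {x y : K} (h : x • s a + y • s b ∈ K ∙ s a) : y = 0 := by
  rw [Submodule.mem_span_singleton] at h
  obtain ⟨c, hc⟩ := h
  have : (x - c) • s a + y • s b = 0 := by
    rw [sub_smul, hc]; abel
  exact (li_zero hli this).2

lemma fst_zero_of_mem {x y : K} (h : x • s a + y • s b ∈ K ∙ s b) : x = 0 := by
  rw [Submodule.mem_span_singleton] at h
  obtain ⟨c, hc⟩ := h
  have : x • s a + (y - c) • s b = 0 := by
    rw [sub_smul, hc]; abel
  exact (li_zero hli this).1

lemma exists_coords (v : Fin 2 → K) : ∃ x y : K, v = x • s a + y • s b := by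
  have hspan : Submodule.span K (Set.range ![s a, s b]) = ⊤ := by
    apply hli.span_eq_top_of_card_eq_finrank'
    simp
  have hv : v ∈ Submodule.span K (Set.range ![s a, s b]) := by rw [hspan]; trivial
  rw [Matrix.range_cons, Matrix.range_cons, Matrix.range_empty, Set.union_empty] at hv
  have hv' : v ∈ Submodule.span K ({s a, s b} : Set (Fin 2 → K)) := by
    rwa [Set.singleton_union] at hv
  rw [Submodule.mem_span_pair] at hv'
  obtain ⟨x, y, h⟩ := hv'
  exact ⟨x, y, h.symm⟩

end LI

/-- Linear independence of `s a, s b` from `Q`-semistability. -/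
theorem li_of_qss (s : κ → (Fin 2 → K)) (θ : κ → ℚ) (hab : a ≠ b) (hθ : 1 < θ a + θ b)
    (hq : QSemistable (-1) θ s) : LinearIndependent K ![s a, s b] := by
  by_contra hnli
  set L : Submodule K (Fin 2 → K) := Submodule.span K (Set.range ![s a, s b]) with hL
  have hle : Module.finrank K L ≤ 1 := by
    have h1 : Module.finrank K L ≤ 2 := by
      have := finrank_range_le_card (R := K) ![s a, s b]
      simpa [Set.finrank] using this
    have h2 : Module.finrank K L ≠ 2 := by
      intro h
      apply hnli
      rw [linearIndependent_iff_card_eq_finrank_span]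
      simp only [Fintype.card_fin, Set.finrank]
      exact h.symm
    omega
  have hsub : QSubrep s L {a, b} := by
    intro i hi
    simp only [Finset.mem_insert, Finset.mem_singleton] at hi
    rcases hi with rfl | rfl
    · exact Submodule.subset_span ⟨0, by simp⟩
    · exact Submodule.subset_span ⟨1, by simp⟩
  have := hq.2 L {a, b} hsub
  rw [QWt, Finset.sum_pair hab] at this
  have hle' : (Module.finrank K L : ℚ) ≤ 1 := by exact_mod_cast hle
  linarith

variable (s : κ → (Fin 2 → K)) (θ : κ → ℚ)

/-- From a `P`-subrepresentation build a `Q`-subrepresentation of the same (inner) weight. -/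
theorem exists_qsubrep (hab : a ≠ b) (hli : LinearIndependent K ![s a, s b])
    (t : {i : κ // i ≠ a ∧ i ≠ b} → (Fin 2 → K))
    (ht : ∀ i, s i.1 = t i 0 • s a + t i 1 • s b)
    (U : Fin 2 → Submodule K K) (I : Finset {i : κ // i ≠ a ∧ i ≠ b})
    (hsub : PSubrep t U I) :
    ∃ (L : Submodule K (Fin 2 → K)) (J : Finset κ), QSubrep s L J ∧
      QWt K (-1) θ L J = inner θ a b U I ∧
      Module.finrank K L = Module.finrank K (U 0) + Module.finrank K (U 1) ∧
      (J = ∅ → I = ∅) ∧ (J = Finset.univ → I = Finset.univ) := by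
  set emb : {i : κ // i ≠ a ∧ i ≠ b} ↪ κ := Function.Embedding.subtype _ with hemb
  have hsum : ∑ i ∈ I.map emb, θ i = ∑ i ∈ I, θ i.1 := by
    rw [Finset.sum_map]; rfl
  have ha_not : a ∉ I.map emb := by
    simp only [Finset.mem_map, not_exists, not_and]
    rintro ⟨x, hx⟩ _ h
    exact hx.1 h
  have hb_not : b ∉ I.map emb := by
    simp only [Finset.mem_map, not_exists, not_and]
    rintro ⟨x, hx⟩ _ h
    exact hx.2 h
  have hempty : ∀ J : Finset κ, I.map emb ⊆ J → J = ∅ → I = ∅ := by
    intro J hJ h
    rw [h, Finset.subset_empty, Finset.map_eq_empty] at hJ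
    exact hJ
  have huniv : ∀ J : Finset κ, (∀ x ∈ J, x ∈ I.map emb ∨ x = a ∨ x = b) → J = Finset.univ →
      I = Finset.univ := by
    intro J hJ h
    rw [Finset.eq_univ_iff_forall]
    intro x
    have := hJ x.1 (by rw [h]; exact Finset.mem_univ _)
    rcases this with h' | h' | h'
    · simp only [Finset.mem_map] at h'
      obtain ⟨y, hy, hyx⟩ := h'
      have : y = x := Subtype.ext hyx
      rwa [← this]
    · exact (x.2.1 h').elim
    · exact (x.2.2 h').elim
  rcases finrank_sub_cases (U 0) with ⟨hU0, hd0⟩ | ⟨hU0, hd0⟩ <;>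
    rcases finrank_sub_cases (U 1) with ⟨hU1, hd1⟩ | ⟨hU1, hd1⟩
  · -- (⊥, ⊥)
    refine ⟨⊥, I.map emb, ?_, ?_, ?_, hempty _ subset_rfl, huniv _ (fun x hx => Or.inl hx)⟩
    · intro i hi
      simp only [Finset.mem_map] at hi
      obtain ⟨x, hx, rfl⟩ := hi
      have h0 := hsub x hx 0
      have h1 := hsub x hx 1
      rw [hU0, Submodule.mem_bot] at h0
      rw [hU1, Submodule.mem_bot] at h1
      show s x.1 ∈ (⊥ : Submodule K (Fin 2 → K))
      rw [ht x, h0, h1]; simp
    · unfold QWt inner
      rw [hsum, hd0, hd1]; simp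
    · rw [hd0, hd1]; simp
  · -- (⊥, ⊤)
    refine ⟨K ∙ s b, insert b (I.map emb), ?_, ?_, ?_, ?_, huniv _ ?_⟩
    · intro i hi
      rw [Finset.mem_insert] at hi
      rcases hi with rfl | hi
      · exact Submodule.mem_span_singleton_self _
      · simp only [Finset.mem_map] at hi
        obtain ⟨x, hx, rfl⟩ := hi
        have h0 := hsub x hx 0
        rw [hU0, Submodule.mem_bot] at h0
        show s x.1 ∈ K ∙ s b
        rw [ht x, h0, zero_smul, zero_add]
        exact Submodule.smul_mem _ _ (Submodule.mem_span_singleton_self _)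
    · unfold QWt inner
      rw [Finset.sum_insert hb_not, hsum, hd0, hd1, finrank_span_singleton (sb_ne hli)]
      push_cast; ring
    · rw [hd0, hd1, finrank_span_singleton (sb_ne hli)]
    · intro h
      exact (Finset.insert_ne_empty _ _ h).elim
    · intro x hx
      rw [Finset.mem_insert] at hx
      rcases hx with rfl | hx
      · exact Or.inr (Or.inr rfl)
      · exact Or.inl hx
  · -- (⊤, ⊥)
    refine ⟨K ∙ s a, insert a (I.map emb), ?_, ?_, ?_, ?_, huniv _ ?_⟩
    · intro i hi
      rw [Finset.mem_insert] at hi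
      rcases hi with rfl | hi
      · exact Submodule.mem_span_singleton_self _
      · simp only [Finset.mem_map] at hi
        obtain ⟨x, hx, rfl⟩ := hi
        have h1 := hsub x hx 1
        rw [hU1, Submodule.mem_bot] at h1
        show s x.1 ∈ K ∙ s a
        rw [ht x, h1, zero_smul, add_zero]
        exact Submodule.smul_mem _ _ (Submodule.mem_span_singleton_self _)
    · unfold QWt inner
      rw [Finset.sum_insert ha_not, hsum, hd0, hd1, finrank_span_singleton (sa_ne hli)]
      push_cast; ring
    · rw [hd0, hd1, finrank_span_singleton (sa_ne hli)]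
    · intro h
      exact (Finset.insert_ne_empty _ _ h).elim
    · intro x hx
      rw [Finset.mem_insert] at hx
      rcases hx with rfl | hx
      · exact Or.inr (Or.inl rfl)
      · exact Or.inl hx
  · -- (⊤, ⊤)
    have hb_not' : b ∉ insert a (I.map emb) := by
      rw [Finset.mem_insert]; push Not
      exact ⟨fun h => hab h.symm, hb_not⟩
    refine ⟨⊤, insert b (insert a (I.map emb)), ?_, ?_, ?_, ?_, huniv _ ?_⟩
    · intro i _; trivial
    · unfold QWt inner
      rw [Finset.sum_insert hb_not', Finset.sum_insert ha_not, hsum, hd0, hd1]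
      simp only [finrank_top, Module.finrank_pi, Fintype.card_fin]
      push_cast; ring
    · rw [hd0, hd1]; simp
    · intro h
      exact (Finset.insert_ne_empty _ _ h).elim
    · intro x hx
      rw [Finset.mem_insert, Finset.mem_insert] at hx
      rcases hx with rfl | rfl | hx
      · exact Or.inr (Or.inr rfl)
      · exact Or.inr (Or.inl rfl)
      · exact Or.inl hx

/-- From a `Q`-subrepresentation: either its weight is negative, or it is bounded by the inner
weight of a `P`-subrepresentation, with control of the trivial cases. -/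
theorem q_to_p (hab : a ≠ b) (h0 : ∀ i, 0 ≤ θ i) (h1 : ∀ i, θ i ≤ 1) (h2 : ∑ i, θ i = 2)
    (hθ : 1 < θ a + θ b) (hli : LinearIndependent K ![s a, s b])
    (t : {i : κ // i ≠ a ∧ i ≠ b} → (Fin 2 → K))
    (ht : ∀ i, s i.1 = t i 0 • s a + t i 1 • s b)
    (L : Submodule K (Fin 2 → K)) (I : Finset κ) (hsub : QSubrep s L I) :
    QWt K (-1) θ L I < 0 ∨
      ∃ (U : Fin 2 → Submodule K K) (I' : Finset {i : κ // i ≠ a ∧ i ≠ b}), PSubrep t U I' ∧
        QWt K (-1) θ L I ≤ inner θ a b U I' ∧
        (QWt K (-1) θ L I = 0 → U = ⊥ → I' = ∅ → L = ⊥ ∧ I = ∅) ∧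
        (QWt K (-1) θ L I = 0 → U = ⊤ → I' = Finset.univ → L = ⊤ ∧ I = Finset.univ) := by
  have hθa : 0 < θ a := by linarith [h1 b]
  have hθb : 0 < θ b := by linarith [h1 a]
  have hsplit := sum_split hab θ I
  have hoff := sum_off hab θ h2
  have hbt : (⊥ : Submodule K K) ≠ ⊤ := bot_ne_top
  have hmemI' : ∀ i : {i : κ // i ≠ a ∧ i ≠ b},
      i ∈ I.subtype (fun i => i ≠ a ∧ i ≠ b) → i.1 ∈ I := by
    intro i hi
    simpa using hi
  have h2L := finrank_plane_le L
  interval_cases hL : Module.finrank K L
  · -- L = ⊥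
    right
    have hLb : L = ⊥ := Submodule.finrank_eq_zero.mp hL
    have haI : a ∉ I := by
      intro h
      have := hsub a h
      rw [hLb, Submodule.mem_bot] at this
      exact sa_ne hli this
    have hbI : b ∉ I := by
      intro h
      have := hsub b h
      rw [hLb, Submodule.mem_bot] at this
      exact sb_ne hli this
    refine ⟨fun _ => ⊥, I.subtype (fun i => i ≠ a ∧ i ≠ b), ?_, ?_, ?_, ?_⟩
    · intro i hi j
      have := hsub i.1 (hmemI' i hi)
      rw [hLb, Submodule.mem_bot, ht i] at this
      have h' := li_zero hli this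
      rw [Submodule.mem_bot]
      fin_cases j
      · exact h'.1
      · exact h'.2
    · unfold QWt inner
      rw [hL, hsplit, if_neg haI, if_neg hbI]
      simp
    · intro _ _ hI'
      refine ⟨hLb, ?_⟩
      rw [Finset.eq_empty_iff_forall_notMem]
      intro x hx
      have hxa : x ≠ a := by rintro rfl; exact haI hx
      have hxb : x ≠ b := by rintro rfl; exact hbI hx
      have : (⟨x, hxa, hxb⟩ : {i : κ // i ≠ a ∧ i ≠ b}) ∈
          I.subtype (fun i => i ≠ a ∧ i ≠ b) := by simpa using hx
      rw [hI'] at this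
      exact (Finset.notMem_empty _ this).elim
    · intro _ hU _
      exact (hbt (congrFun hU 0)).elim
  · -- L a line
    by_cases haI : a ∈ I
    · right
      have hLa : L = K ∙ s a := line_eq_span L hL _ (sa_ne hli) (hsub a haI)
      have hbI : b ∉ I := by
        intro h
        have := hsub b h
        rw [hLa] at this
        have h' : (0 : K) • s a + (1 : K) • s b ∈ K ∙ s a := by simpa using this
        exact one_ne_zero (snd_zero_of_mem hli h')
      refine ⟨![⊤, ⊥], I.subtype (fun i => i ≠ a ∧ i ≠ b), ?_, ?_, ?_, ?_⟩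
      · intro i hi j
        fin_cases j
        · simp
        · have := hsub i.1 (hmemI' i hi)
          rw [hLa, ht i] at this
          have h' := snd_zero_of_mem hli this
          simp [h']
      · rw [inner_eq θ ![⊤, ⊥] _ 1 0 (by show Module.finrank K (⊤ : Submodule K K) = 1; simp)
          (by show Module.finrank K (⊥ : Submodule K K) = 0; simp)]
        unfold QWt
        rw [hL, hsplit, if_pos haI, if_neg hbI]
        push_cast; linarith
      · intro _ hU _
        exact (hbt (congrFun hU 0).symm).elim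
      · intro _ hU _
        exact (hbt (congrFun hU 1)).elim
    · by_cases hbI : b ∈ I
      · right
        have hLb : L = K ∙ s b := line_eq_span L hL _ (sb_ne hli) (hsub b hbI)
        refine ⟨![⊥, ⊤], I.subtype (fun i => i ≠ a ∧ i ≠ b), ?_, ?_, ?_, ?_⟩
        · intro i hi j
          fin_cases j
          · have := hsub i.1 (hmemI' i hi)
            rw [hLb, ht i] at this
            have h' := fst_zero_of_mem hli this
            simp [h']
          · simp
        · rw [inner_eq θ ![⊥, ⊤] _ 0 1 (by show Module.finrank K (⊥ : Submodule K K) = 0; simp)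
            (by show Module.finrank K (⊤ : Submodule K K) = 1; simp)]
          unfold QWt
          rw [hL, hsplit, if_neg haI, if_pos hbI]
          push_cast; linarith
        · intro _ hU _
          exact (hbt (congrFun hU 1).symm).elim
        · intro _ hU _
          exact (hbt (congrFun hU 0)).elim
      · left
        unfold QWt
        rw [hL, hsplit, if_neg haI, if_neg hbI]
        have hle : ∑ i ∈ I.subtype (fun i => i ≠ a ∧ i ≠ b), θ i.1 ≤
            ∑ i : {i : κ // i ≠ a ∧ i ≠ b}, θ i.1 :=
          Finset.sum_le_sum_of_subset_of_nonneg (Finset.subset_univ _) (fun i _ _ => h0 i.1)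
        rw [hoff] at hle
        push_cast; linarith
  · -- L = ⊤
    right
    have hLt : L = ⊤ := Submodule.eq_top_of_finrank_eq (by rw [hL]; simp)
    refine ⟨fun _ => ⊤, I.subtype (fun i => i ≠ a ∧ i ≠ b), ?_, ?_, ?_, ?_⟩
    · intro i _ j; trivial
    · unfold QWt inner
      rw [hL, hsplit]
      simp only [finrank_top, Module.finrank_self]
      have e1 : (if a ∈ I then θ a else 0) ≤ θ a := by split_ifs <;> linarith
      have e2 : (if b ∈ I then θ b else 0) ≤ θ b := by split_ifs <;> linarith
      push_cast; linarith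
    · intro _ hU _
      exact (hbt (congrFun hU 0).symm).elim
    · intro hw _ hI'
      refine ⟨hLt, ?_⟩
      unfold QWt at hw
      rw [hL, hsplit, hI', hoff] at hw
      push_cast at hw
      have haI : a ∈ I := by
        by_contra h
        rw [if_neg h] at hw
        have e2 : (if b ∈ I then θ b else 0) ≤ θ b := by split_ifs <;> linarith
        linarith
      have hbI : b ∈ I := by
        by_contra h
        rw [if_neg h, if_pos haI] at hw
        linarith
      rw [Finset.eq_univ_iff_forall]
      intro x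
      by_cases hxa : x = a
      · rw [hxa]; exact haI
      · by_cases hxb : x = b
        · rw [hxb]; exact hbI
        · have : (⟨x, hxa, hxb⟩ : {i : κ // i ≠ a ∧ i ≠ b}) ∈
              I.subtype (fun i => i ≠ a ∧ i ≠ b) := by rw [hI']; exact Finset.mem_univ _
          simpa using this

end Groth.Agent.Lib.PtQuiv97
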