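import Mathlib.RingTheory.Etale.Basic
import Mathlib.RingTheory.Unramified.Field
import Mathlib.RingTheory.TensorProduct.IncludeLeftSubRight
import Mathlib.RingTheory.Flat.FaithfullyFlat.Algebra
import Mathlib.Algebra.CharP.Lemmas
import Mathlib.Algebra.CharP.Algebra
import Mathlib.RingTheory.Localization.FractionRing

/-!
# helper42: `p`-th roots descend along faithfully flat étale algebras (namespace `Groth.Agent.Lib.PthRootDescent42`)

* `isReduced_of_unramified_of_isDomain`: a flat unramified algebra of finite type over a domain is reduced.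
* `exists_algebraMap_eq_of_pow_char`: `A` a domain of characteristic `p`, `B` étale and faithfully flat over `A`,
  `b ∈ B` with `b ^ p ∈ A`: then `b ∈ A`.
-/

set_option autoImplicit false
universe u

namespace Groth.Agent.Lib.PthRootDescent42

open TensorProduct

/-- a flat unramified algebra of finite type over a domain is reduced -/
theorem isReduced_of_unramified_of_isDomain (A C : Type u) [CommRing A] [IsDomain A] [CommRing C] [Algebra A C]
    [Module.Flat A C] [Algebra.FormallyUnramified A C] [Algebra.FiniteType A C] : IsReduced C := by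
  let K := FractionRing A
  have h1 : IsReduced (K ⊗[A] C) := Algebra.FormallyUnramified.isReduced_of_field K (K ⊗[A] C)
  have h2 : Function.Injective (Algebra.TensorProduct.includeRight : C →ₐ[A] K ⊗[A] C) :=
    Algebra.TensorProduct.includeRight_injective (IsFractionRing.injective A K)
  exact isReduced_of_injective (Algebra.TensorProduct.includeRight : C →ₐ[A] K ⊗[A] C) h2

/-- `p`-th roots descend along a faithfully flat étale algebra over a domain of characteristic `p` -/
theorem exists_algebraMap_eq_of_pow_char (A B : Type u) [CommRing A] [IsDomain A] [CommRing B] [Algebra A B]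
    [Algebra.Etale A B] [Module.FaithfullyFlat A B] (p : ℕ) [Fact p.Prime] [CharP A p]
    (b : B) (c : A) (h : b ^ p = algebraMap A B c) : ∃ a : A, algebraMap A B a = b := by
  have : Algebra.Etale A (B ⊗[A] B) := Algebra.Etale.comp A B (B ⊗[A] B)
  have hred : IsReduced (B ⊗[A] B) := isReduced_of_unramified_of_isDomain A (B ⊗[A] B)
  have : Module.FaithfullyFlat A (B ⊗[A] B) := Module.FaithfullyFlat.trans A B (B ⊗[A] B)
  have hchar : CharP (B ⊗[A] B) p :=
    charP_of_injective_algebraMap (FaithfulSMul.algebraMap_injective A (B ⊗[A] B)) p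
  have h0 : (b ⊗ₜ[A] (1 : B) - (1 : B) ⊗ₜ[A] b) ^ p = 0 := by
    rw [sub_pow_char, Algebra.TensorProduct.tmul_pow, Algebra.TensorProduct.tmul_pow, one_pow, h,
      Algebra.TensorProduct.tmul_one_eq_one_tmul, sub_self]
  have h1 : b ⊗ₜ[A] (1 : B) - (1 : B) ⊗ₜ[A] b = 0 := by
    have hnil : IsNilpotent (b ⊗ₜ[A] (1 : B) - (1 : B) ⊗ₜ[A] b) := ⟨p, h0⟩
    exact hnil.eq_zero
  have heff := Algebra.IsEffective.of_faithfullyFlat A B
  obtain ⟨a, ha⟩ := (heff b).mp (by
    rw [Algebra.TensorProduct.includeLeftSubRight_apply]
    exact h1)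
  exact ⟨a, ha⟩

end Groth.Agent.Lib.PthRootDescent42
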