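/-
helper14: polynomial / differential algebra for `S7340`
(trace Ω_{R[x]/(x^p-a) / R} → Ω_R is compatible with R-algebra maps).
-/
import Mathlib
open Polynomial
set_option autoImplicit false

namespace Groth.Agent.PthRootTrace

theorem coeff_pow_char {R : Type*} [CommRing R] (p : ℕ) [Fact p.Prime] [CharP R p] (F : R[X]) (j : ℕ) :
    (F ^ p).coeff (p * j) = (F.coeff j) ^ p := by
  rw [← Polynomial.map_frobenius_expand (p := p) F]
  rw [Polynomial.coeff_map, Polynomial.coeff_expand_mul' (Nat.Prime.pos Fact.out)]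
  rfl

theorem key_U {R : Type*} [CommRing R] (p : ℕ) [Fact p.Prime] [CharP R p] (F : R[X]) (m : ℕ) :
    (F ^ (p - 1) * derivative F).coeff (p - 1 + p * m) = ((m + 1 : ℕ) : R) * (F.coeff (m + 1)) ^ p := by
  have hp : p.Prime := Fact.out
  let π : MvPolynomial R ℤ →+* R := MvPolynomial.eval₂Hom (Int.castRingHom R) id
  have hπ : Function.Surjective π := fun c => ⟨MvPolynomial.X c, by simp [π]⟩
  obtain ⟨G, rfl⟩ := Polynomial.map_surjective π hπ F
  have h1 : derivative (G ^ p) = C (p : MvPolynomial R ℤ) * (G ^ (p - 1) * derivative G) := by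
    rw [Polynomial.derivative_pow]
    ring
  have h2 := congrArg (fun Q => Q.coeff (p - 1 + p * m)) h1
  simp only [Polynomial.coeff_derivative, Polynomial.coeff_C_mul] at h2
  have h3 : p - 1 + p * m + 1 = p * (m + 1) := by
    have := hp.one_lt
    rw [Nat.mul_succ]
    omega
  have hc : ((p - 1 + p * m : ℕ) : MvPolynomial R ℤ) + 1 = (p : MvPolynomial R ℤ) * ((m + 1 : ℕ) : MvPolynomial R ℤ) := by
    rw [← Nat.cast_succ, Nat.succ_eq_add_one, h3]
    push_cast
    ring
  rw [h3, hc] at h2
  have h4 : (G ^ (p - 1) * derivative G).coeff (p - 1 + p * m) =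
      ((m + 1 : ℕ) : MvPolynomial R ℤ) * (G ^ p).coeff (p * (m + 1)) := by
    have hp0 : (p : MvPolynomial R ℤ) ≠ 0 := Nat.cast_ne_zero.mpr hp.ne_zero
    apply mul_left_cancel₀ hp0
    rw [← h2]
    ring
  have h5 := congrArg π h4
  rw [map_mul, map_natCast] at h5
  rw [← Polynomial.coeff_map, ← Polynomial.coeff_map] at h5
  simp only [Polynomial.map_mul, Polynomial.map_pow] at h5
  rw [← Polynomial.derivative_map] at h5
  rw [h5, coeff_pow_char]

/-- the "x^{p-1}-section": `sec p G = Σ_m G.coeff (p-1+pm) X^m`. -/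
noncomputable def sec {R : Type*} [CommRing R] (p : ℕ) (G : R[X]) : R[X] :=
  divX (contract p (X * G))

theorem coeff_sec {R : Type*} [CommRing R] (p : ℕ) (hp : 1 ≤ p) (G : R[X]) (m : ℕ) :
    (sec p G).coeff m = G.coeff (p - 1 + p * m) := by
  unfold sec
  rw [coeff_divX, coeff_contract (by omega)]
  have : (m + 1) * p = (p - 1 + p * m) + 1 := by
    rw [Nat.succ_mul, Nat.mul_comm]; omega
  rw [this, coeff_X_mul]

theorem sec_add {R : Type*} [CommRing R] (p : ℕ) (hp : 1 ≤ p) (G H : R[X]) :
    sec p (G + H) = sec p G + sec p H := by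
  ext m; simp [coeff_sec p hp]

theorem sec_C_mul {R : Type*} [CommRing R] (p : ℕ) (hp : 1 ≤ p) (c : R) (G : R[X]) :
    sec p (C c * G) = C c * sec p G := by
  ext m; simp [coeff_sec p hp]

theorem sec_X_pow {R : Type*} [CommRing R] (p : ℕ) (hp : 1 ≤ p) (k : ℕ) :
    sec p (X ^ k : R[X]) = if k % p = p - 1 then X ^ (k / p) else 0 := by
  ext m
  rw [coeff_sec p hp, coeff_X_pow]
  split_ifs with h1 h2 h2
  · subst h1
    rw [coeff_X_pow]
    have : (p - 1 + p * m) / p = m := by
      rw [Nat.add_mul_div_left _ _ (by omega : 0 < p), Nat.div_eq_of_lt (by omega)]; simp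
    simp [this]
  · exfalso; apply h2; subst h1
    rw [Nat.add_mul_mod_self_left, Nat.mod_eq_of_lt (by omega)]
  · rw [coeff_X_pow]
    have : ¬ (m = k / p) := by
      intro hm; apply h1
      have := Nat.div_add_mod k p
      rw [h2, ← hm] at this; omega
    simp [this]
  · simp

theorem sec_derivative {R : Type*} [CommRing R] (p : ℕ) [Fact p.Prime] [CharP R p] (H : R[X]) :
    sec p (derivative H) = 0 := by
  have hp : p.Prime := Fact.out
  ext m
  rw [coeff_sec p hp.one_lt.le, coeff_derivative]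
  have h3 : p - 1 + p * m + 1 = p * (m + 1) := by
    have := hp.one_lt
    rw [Nat.mul_succ]
    omega
  have : ((p - 1 + p * m : ℕ) : R) + 1 = 0 := by
    rw [← Nat.cast_succ, Nat.succ_eq_add_one, h3]
    push_cast
    rw [CharP.cast_eq_zero R p, zero_mul]
  rw [this, mul_zero, coeff_zero]

theorem sec_pow_mul_derivative {R : Type*} [CommRing R] (p : ℕ) [Fact p.Prime] [CharP R p] (F : R[X]) :
    sec p (F ^ (p - 1) * derivative F) = derivative (F.map (frobenius R p)) := by
  have hp : p.Prime := Fact.out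
  ext m
  rw [coeff_sec p hp.one_lt.le, key_U, coeff_derivative, coeff_map]
  simp [frobenius_def, mul_comm]

theorem sec_pow_mul_derivative_lt {R : Type*} [CommRing R] (p : ℕ) [Fact p.Prime] [CharP R p] (F : R[X])
    (r : ℕ) (hr : r + 2 ≤ p) :
    sec p (F ^ r * derivative F) = 0 := by
  have hp : p.Prime := Fact.out
  have h1 : derivative (F ^ (r + 1)) = C ((r + 1 : ℕ) : R) * (F ^ r * derivative F) := by
    rw [derivative_pow]; simp [mul_assoc]
  have h2 := sec_derivative p (F ^ (r + 1))
  rw [h1, sec_C_mul p hp.one_lt.le] at h2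
  have hu : IsUnit ((r + 1 : ℕ) : R) := by
    have hcop : (r + 1).Coprime p :=
      (Nat.Coprime.symm ((Nat.Prime.coprime_iff_not_dvd hp).mpr
        (Nat.not_dvd_of_pos_of_lt (by omega) (by omega))))
    have h := (ZMod.isUnit_iff_coprime (r + 1) p).mpr hcop
    have h' := h.map (ZMod.castHom (dvd_refl p) R)
    rwa [map_natCast] at h'
  obtain ⟨u, hu⟩ := hu
  have h3 : C ((u⁻¹ : Rˣ) : R) * (C ((r + 1 : ℕ) : R) * sec p (F ^ r * derivative F)) = 0 := by
    rw [h2, mul_zero]
  rw [← mul_assoc, ← C_mul, ← hu, Units.inv_mul, C_1, one_mul] at h3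
  exact h3

theorem D_eval_frob {R : Type*} [CommRing R] (p : ℕ) [Fact p.Prime] [CharP R p]
    {M : Type*} [AddCommGroup M] [Module R M] (d : Derivation ℤ R M) (b : R) (F : R[X]) :
    d (eval b (F.map (frobenius R p))) = eval b (derivative (F.map (frobenius R p))) • d b := by
  induction F using Polynomial.induction_on' with
  | add G H hG hH =>
    rw [Polynomial.map_add, eval_add, map_add, hG, hH, derivative_add, eval_add, add_smul]
  | monomial n c =>
    rw [Polynomial.map_monomial, eval_monomial, derivative_monomial, eval_monomial,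
      Derivation.leibniz, frobenius_def, Derivation.leibniz_pow, Derivation.leibniz_pow]
    have : ((p : ℕ) • (c ^ (p - 1) • d c) : M) = 0 := by
      rw [← Nat.cast_smul_eq_nsmul R, CharP.cast_eq_zero R p, zero_smul]
    rw [this, smul_zero, add_zero, ← Nat.cast_smul_eq_nsmul R, smul_smul, smul_smul]

theorem of_injective {R : Type*} [CommRing R] (g : R[X]) (hg : g.Monic) (hd : 0 < g.degree) :
    Function.Injective (AdjoinRoot.of g) := by
  intro a a' h
  rcases subsingleton_or_nontrivial R with hs | hn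
  · exact Subsingleton.elim _ _
  rw [← AdjoinRoot.mk_C, ← AdjoinRoot.mk_C] at h
  have h2 := congrArg (AdjoinRoot.modByMonicHom hg) h
  rw [AdjoinRoot.modByMonicHom_mk, AdjoinRoot.modByMonicHom_mk,
    (modByMonic_eq_self_iff hg).mpr (lt_of_le_of_lt degree_C_le hd),
    (modByMonic_eq_self_iff hg).mpr (lt_of_le_of_lt degree_C_le hd)] at h2
  exact C_injective h2

theorem eq_eval_frob {R : Type*} [CommRing R] (p : ℕ) [Fact p.Prime] [CharP R p] (a b : R) (F : R[X])
    (h : (AdjoinRoot.mk (X ^ p - C b : R[X]) F) ^ p = AdjoinRoot.of (X ^ p - C b : R[X]) a) :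
    a = eval b (F.map (frobenius R p)) := by
  have hp : p.Prime := Fact.out
  have hmonic : (X ^ p - C b : R[X]).Monic := monic_X_pow_sub_C b hp.ne_zero
  have : Nontrivial R := CharP.nontrivial_of_char_ne_one (R := R) hp.ne_one
  have hdeg : 0 < (X ^ p - C b : R[X]).degree := by
    rw [degree_X_pow_sub_C hp.pos]; exact_mod_cast hp.pos
  apply of_injective _ hmonic hdeg
  have hroot : (AdjoinRoot.root (X ^ p - C b : R[X])) ^ p = AdjoinRoot.of (X ^ p - C b : R[X]) b := by
    have := AdjoinRoot.mk_self (f := (X ^ p - C b : R[X]))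
    rw [map_sub, map_pow, AdjoinRoot.mk_X, AdjoinRoot.mk_C, sub_eq_zero] at this
    exact this
  rw [← h, ← map_pow, ← Polynomial.map_frobenius_expand (p := p) F, Polynomial.map_expand, ← AdjoinRoot.aeval_eq,
    Polynomial.expand_aeval, hroot, ← AdjoinRoot.algebraMap_eq, Polynomial.aeval_algebraMap_apply,
    Polynomial.aeval_def]
  rfl

section generic

universe u
variable {R : Type u} [CommRing R] (p : ℕ) [Fact p.Prime] [CharP R p] (c : R)

omit [Fact p.Prime] [CharP R p] in
theorem root_pow : (AdjoinRoot.root (X ^ p - C c : R[X])) ^ p = algebraMap R _ c := by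
  have := AdjoinRoot.mk_self (f := (X ^ p - C c : R[X]))
  rw [map_sub, map_pow, AdjoinRoot.mk_X, AdjoinRoot.mk_C, sub_eq_zero] at this
  exact this

omit [Fact p.Prime] [CharP R p] in
theorem pow_reduce {S : Type*} [CommRing S] [Algebra R S] (z : S) (a : R) (hz : z ^ p = algebraMap R S a)
    (k : ℕ) : z ^ k = algebraMap R S (a ^ (k / p)) * z ^ (k % p) := by
  conv_lhs => rw [← Nat.div_add_mod k p]
  rw [pow_add, pow_mul, hz, map_pow]

theorem D_mk (f : R[X]) (h : R[X]) :
    KaehlerDifferential.D R (AdjoinRoot f) (AdjoinRoot.mk f h) =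
      AdjoinRoot.mk f (derivative h) • KaehlerDifferential.D R (AdjoinRoot f) (AdjoinRoot.root f) := by
  rw [← AdjoinRoot.aeval_eq, Derivation.map_aeval, AdjoinRoot.aeval_eq]

variable (T : Ω[AdjoinRoot (X ^ p - C c : R[X])⁄R] →ₗ[R] Ω[R⁄ℤ])
  (hT : ∀ i : ℕ, i + 2 ≤ p →
      T (AdjoinRoot.root (X ^ p - C c) ^ i • KaehlerDifferential.D R _ (AdjoinRoot.root (X ^ p - C c))) = 0)
  (hT' : T (AdjoinRoot.root (X ^ p - C c) ^ (p - 1) • KaehlerDifferential.D R _ (AdjoinRoot.root (X ^ p - C c))) =
      KaehlerDifferential.D ℤ R c)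

omit [CharP R p] in
include hT hT' in
theorem T_root_pow (k : ℕ) :
    T (AdjoinRoot.root (X ^ p - C c) ^ k • KaehlerDifferential.D R _ (AdjoinRoot.root (X ^ p - C c))) =
      if k % p = p - 1 then c ^ (k / p) • KaehlerDifferential.D ℤ R c else 0 := by
  have hp : p.Prime := Fact.out
  rw [pow_reduce p _ c (root_pow p c) k, mul_smul, algebraMap_smul, map_smul]
  split_ifs with h
  · rw [h, hT']
  · have hlt : k % p < p := Nat.mod_lt _ hp.pos
    rw [hT (k % p) (by omega), smul_zero]

omit [CharP R p] in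
include hT hT' in
theorem T_mk (G : R[X]) :
    T (AdjoinRoot.mk (X ^ p - C c) G • KaehlerDifferential.D R _ (AdjoinRoot.root (X ^ p - C c))) =
      eval c (sec p G) • KaehlerDifferential.D ℤ R c := by
  have hp : p.Prime := Fact.out
  induction G using Polynomial.induction_on' with
  | add G H hG hH =>
    rw [map_add, add_smul, map_add, hG, hH, sec_add p hp.one_lt.le, eval_add, add_smul]
  | monomial k r =>
    rw [← C_mul_X_pow_eq_monomial, map_mul, map_pow, AdjoinRoot.mk_C, AdjoinRoot.mk_X,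
      ← AdjoinRoot.algebraMap_eq, mul_smul, algebraMap_smul, map_smul, T_root_pow p c T hT hT' k,
      sec_C_mul p hp.one_lt.le, sec_X_pow p hp.one_lt.le]
    split_ifs with h
    · rw [eval_mul, eval_C, eval_pow, eval_X, mul_smul]
    · rw [mul_zero, eval_zero, zero_smul, smul_zero]

end generic

end Groth.Agent.PthRootTrace
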