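import Mathlib

/-!
# Pullback squares from points (helper18)

`isPullback_of_points` : a commutative square is cartesian as soon as every pair of compatible
`T`-points lifts and lifts are unique (stated as existence + separate uniqueness).
-/

set_option autoImplicit false
universe v u
open CategoryTheory CategoryTheory.Limits

namespace Groth.Agent.Lib.PtsPullback18

variable {C : Type u} [Category.{v} C]

lemma isPullback_of_points {P X Y Z : C} {fst : P ⟶ X} {snd : P ⟶ Y} {f : X ⟶ Z} {g : Y ⟶ Z}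
    (w : fst ≫ f = snd ≫ g)
    (hex : ∀ (T : C) (x : T ⟶ X) (y : T ⟶ Y), x ≫ f = y ≫ g →
      ∃ p : T ⟶ P, p ≫ fst = x ∧ p ≫ snd = y)
    (huniq : ∀ (T : C) (p₁ p₂ : T ⟶ P), p₁ ≫ fst = p₂ ≫ fst → p₁ ≫ snd = p₂ ≫ snd → p₁ = p₂) :
    IsPullback fst snd f g := by
  refine ⟨⟨w⟩, ⟨PullbackCone.IsLimit.mk _
    (fun s => (hex s.pt s.fst s.snd s.condition).choose) ?_ ?_ ?_⟩⟩
  · intro s
    exact (hex s.pt s.fst s.snd s.condition).choose_spec.1
  · intro s
    exact (hex s.pt s.fst s.snd s.condition).choose_spec.2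
  · intro s m h1 h2
    apply huniq
    · rw [h1, (hex s.pt s.fst s.snd s.condition).choose_spec.1]
    · rw [h2, (hex s.pt s.fst s.snd s.condition).choose_spec.2]

end Groth.Agent.Lib.PtsPullback18
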