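import Groth.Agent.Lib.HomDualH44
import Groth.Agent.Lib.PullTensor81D
import Groth.Prelude.Def_DCoh4

/-!
# Pullback of the dual of a finite locally free module (helper44)

For `f : X ⟶ Y` and `E` finite locally free on `Y`, the pullback of the evaluation pairing is a perfect pairing
`f^*(E^∨) × f^*E → O_X`; hence `- ⊗ f^*E ⊣ - ⊗ f^*(E^∨)` (`adjPull`), and the (abstract) sheaf Hom
`DCoh.sheafHom (f^*E)` is `- ⊗ f^*(E^∨)` (`sheafHomIso`); in particular
`Hom(f^*E, f^*G) ≅ f^*(G ⊗ E^∨)` (`nonempty_sheafHom_iso`).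
-/

set_option autoImplicit false
universe u
open CategoryTheory CategoryTheory.Limits AlgebraicGeometry TopologicalSpace Opposite
open Groth.Agent.Lib.OXModTensor Groth.Agent.Lib.TwistEquiv Groth.Agent.Lib.H78SecCoord
open Groth.Agent.Lib.SheafHom23 Groth.Agent.Lib.DualPair23 Groth.Agent.Lib.DualFLF23
open Groth.Agent.Lib.H4TensorPair Groth.Agent.Lib.H78TensorGen Groth.Agent.Lib.H78PullSec
open Groth.Agent.Lib.PullTensor81 Groth.Agent.Lib.TensorBasis23 Groth.Agent.Lib.StructureModule

namespace Groth.Agent.Lib.PullDualH44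

section OfHom

variable {X : Scheme.{u}} {L L' N : X.Modules}

/-- the pairing defined by a morphism out of the tensor product -/
noncomputable def pairingOfHom (g : CohB1.tensorMod L L' ⟶ N) : Pairing L L' N where
  toFun U a b := g.app U (tmul a b)
  add_left U a a' b := by rw [tmul_add_left, map_add]
  add_right U a b b' := by rw [tmul_add_right, map_add]
  smul_left U r a b := by rw [smul_tmul, Scheme.Modules.Hom.app_smul]
  smul_right U r a b := by rw [tmul_smul, Scheme.Modules.Hom.app_smul]
  map {U V} h a b := by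
    have h1 := app_rs g h (tmul a b)
    rw [tmul_rs] at h1
    exact h1.symm

end OfHom

section Pull

variable {X Y : Scheme.{u}} (f : X ⟶ Y) {A B : Y.Modules} (β : Pairing B A (Coh.structureModule Y))

/-- the pulled back pairing, as a morphism -/
noncomputable def pullPairHom :
    CohB1.tensorMod ((Scheme.Modules.pullback f).obj B) ((Scheme.Modules.pullback f).obj A) ⟶
      Coh.structureModule X :=
  (pullbackTensorIso f B A).inv ≫ (Scheme.Modules.pullback f).map β.hom ≫ unitHom f

theorem pullPairHom_pb_tmul (V : Y.Opens) (b : Γ(B, V)) (a : Γ(A, V)) :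
    (pullPairHom f β).app (f ⁻¹ᵁ V) (tmul (pb f B b) (pb f A a)) =
      toSec (f ⁻¹ᵁ V) (f.app V (sval β b a)) := by
  have h1 : (pullbackTensorIso f B A).inv.app (f ⁻¹ᵁ V) (tmul (pb f B b) (pb f A a)) =
      pb f _ (tmul b a) := by
    rw [← theta_pb_tmul]
    exact iso_inv_hom_app (pullbackTensorIso f B A) _ _
  change (unitHom f).app (f ⁻¹ᵁ V) (((Scheme.Modules.pullback f).map β.hom).app (f ⁻¹ᵁ V)
    ((pullbackTensorIso f B A).inv.app (f ⁻¹ᵁ V) (tmul (pb f B b) (pb f A a)))) = _
  rw [h1, pb_map, pairing_hom_app_tmul]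
  exact unitHom_pb f V (sval β b a)

/-- the pulled back pairing -/
noncomputable def pullPairing :
    Pairing ((Scheme.Modules.pullback f).obj B) ((Scheme.Modules.pullback f).obj A)
      (Coh.structureModule X) :=
  pairingOfHom (pullPairHom f β)

theorem sval_pullPairing (V : Y.Opens) (b : Γ(B, V)) (a : Γ(A, V)) :
    sval (pullPairing f β) (pb f B b) (pb f A a) = f.app V (sval β b a) :=
  congrArg (ofSec X (f ⁻¹ᵁ V)) (pullPairHom_pb_tmul f β V b a)

variable {β}

/-- the pullback of a perfect pairing is perfect -/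
theorem isPerfect_pullPairing (hβ : IsPerfect β) : IsPerfect (pullPairing f β) := by
  intro x
  obtain ⟨V, n, hxV, ⟨D⟩⟩ := hβ (f x)
  refine ⟨f ⁻¹ᵁ V, n, hxV, ⟨?_⟩⟩
  have ha : Groth.Agent.Lib.LocFreeBasis48.IsBasis A V D.a := fun W h => D.ha W h
  have hb : Groth.Agent.Lib.LocFreeBasis48.IsBasis B V D.b := fun W h => D.hb W h
  exact
    { a := fun i => pb f A (D.a i)
      b := fun i => pb f B (D.b i)
      ha := fun W h => Groth.Agent.Lib.LocFreeBasis48.isBasis_pb f ha W h
      hb := fun W h => Groth.Agent.Lib.LocFreeBasis48.isBasis_pb f hb W h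
      dual := fun i j => by
        rw [sval_pullPairing, D.dual]
        by_cases hij : i = j
        · rw [if_pos hij, if_pos hij, map_one]
        · rw [if_neg hij, if_neg hij, map_zero] }

end Pull

section Adj

variable {X Y : Scheme.{u}} (f : X ⟶ Y) {E : Y.Modules} (hE : FlatMod.IsFinLocFree E)

/-- `- ⊗ f^*E ⊣ - ⊗ f^*(E^∨)` -/
noncomputable def adjPull :
    tensorRightFunctor ((Scheme.Modules.pullback f).obj E) ⊣
      tensorRightFunctor ((Scheme.Modules.pullback f).obj (dual E)) :=
  dualAdj (isPerfect_pullPairing f (isPerfect_evPairing hE))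

theorem tensorMap_eq {Z : Scheme.{u}} {M M' N N' : Z.Modules} (g : M ⟶ M') (h : N ⟶ N') :
    KoszTw.tensorMap g h = tensorModMap g h :=
  (KoszTw.tensorMap_eq_sheafify g h).trans rfl

/-- `M ⊗ -` in the prelude's notation is `- ⊗ M` up to the braiding -/
noncomputable def tensorBiIso {Z : Scheme.{u}} (M : Z.Modules) :
    (DCoh.tensorBi (X := Z)).obj M ≅ tensorRightFunctor M :=
  (NatIso.ofComponents (fun N => Iso.refl _) (by
    intro N N' g
    simp only [Iso.refl_hom]
    refine (Category.comp_id _).trans (Eq.trans ?_ (Category.id_comp _).symm)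
    rw [KoszTw.tensorBi_obj_map, tensorMap_eq, tensorLeftFunctor_map]) :
      (DCoh.tensorBi (X := Z)).obj M ≅ tensorLeftFunctor M) ≪≫ (tensorRightIsoLeft M).symm

/-- the abstract sheaf Hom out of `f^*E` is `- ⊗ f^*(E^∨)` -/
noncomputable def sheafHomIso [DCoh.HasSheafHom ((Scheme.Modules.pullback f).obj E)] :
    DCoh.sheafHom ((Scheme.Modules.pullback f).obj E) ≅
      tensorRightFunctor ((Scheme.Modules.pullback f).obj (dual E)) :=
  ((DCoh.sheafHomAdj ((Scheme.Modules.pullback f).obj E)).ofNatIsoLeft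
    (tensorBiIso ((Scheme.Modules.pullback f).obj E))).rightAdjointUniq (adjPull f hE)

include hE in
/-- `Hom(f^*E, f^*G) ≅ f^*(G ⊗ E^∨)` -/
theorem nonempty_sheafHom_iso [DCoh.HasSheafHom ((Scheme.Modules.pullback f).obj E)] (G : Y.Modules) :
    Nonempty ((DCoh.sheafHom ((Scheme.Modules.pullback f).obj E)).obj
        ((Scheme.Modules.pullback f).obj G) ≅
      (Scheme.Modules.pullback f).obj (CohB1.tensorMod G (dual E))) :=
  ⟨(sheafHomIso f hE).app _ ≪≫ (pullbackTensorIso f G (dual E)).symm⟩

end Adj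

end Groth.Agent.Lib.PullDualH44
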