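import Groth.Agent.Lib.FreeSheaf31
import Groth.Prelude.Def_CohTop

/-!
# Inverse image of free abelian sheaves on opens (helper31)

For a continuous map `f : X ⟶ Y`, `f⁻¹ ℤ_V ≅ ℤ_{f⁻¹ V}` naturally in the open `V` of `Y`.
-/

set_option autoImplicit false

open CategoryTheory CategoryTheory.Limits Opposite TopologicalSpace

universe u

namespace Groth.Agent.PullFree31

open Groth.Agent.FreeSheaf31

variable {X Y : TopCat.{u}} (f : X ⟶ Y)

/-- the adjunction `f⁻¹ ⊣ f_*` on abelian sheaves -/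
noncomputable abbrev adj : CohTop.pull f ⊣ CohTop.push f :=
  TopCat.Sheaf.pullbackPushforwardAdjunction AddCommGrpCat.{u} f

/-- maps out of `f⁻¹ ℤ_V` are maps out of `ℤ_{f⁻¹V}` -/
noncomputable def e (V : Opens Y) (G : CohTop.Ab X) :
    ((CohTop.pull f).obj ((Zf (Opens.grothendieckTopology Y)).obj V) ⟶ G) ≃
      ((Zf (Opens.grothendieckTopology X)).obj ((Opens.map f).obj V) ⟶ G) :=
  ((adj f).homEquiv _ _).trans
    ((homEquiv V ((CohTop.push f).obj G)).trans (homEquiv ((Opens.map f).obj V) G).symm)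

lemma e_comp (V : Opens Y) {G G' : CohTop.Ab X}
    (h : (CohTop.pull f).obj ((Zf (Opens.grothendieckTopology Y)).obj V) ⟶ G) (φ : G ⟶ G') :
    e f V G' (h ≫ φ) = e f V G h ≫ φ := by
  simp only [e, Equiv.trans_apply]
  rw [Adjunction.homEquiv_naturality_right, homEquiv_comp]
  apply (homEquiv ((Opens.map f).obj V) G').injective
  refine (Equiv.apply_symm_apply _ _).trans ?_
  rw [homEquiv_comp]
  exact congrArg _ (Equiv.apply_symm_apply (homEquiv ((Opens.map f).obj V) G) _).symm

lemma e_map {V V' : Opens Y} (i : V' ⟶ V) {G : CohTop.Ab X}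
    (h : (CohTop.pull f).obj ((Zf (Opens.grothendieckTopology Y)).obj V) ⟶ G) :
    e f V' G ((CohTop.pull f).map ((Zf (Opens.grothendieckTopology Y)).map i) ≫ h) =
      (Zf (Opens.grothendieckTopology X)).map ((Opens.map f).map i) ≫ e f V G h := by
  simp only [e, Equiv.trans_apply]
  rw [Adjunction.homEquiv_naturality_left, homEquiv_map]
  apply (homEquiv ((Opens.map f).obj V') G).injective
  refine (Equiv.apply_symm_apply _ _).trans ?_
  rw [homEquiv_map]
  exact congrArg _ (Equiv.apply_symm_apply (homEquiv ((Opens.map f).obj V) G) _).symm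

/-- the comparison `ℤ_{f⁻¹V} ⟶ f⁻¹ ℤ_V` -/
noncomputable def ι (V : Opens Y) :
    (Zf (Opens.grothendieckTopology X)).obj ((Opens.map f).obj V) ⟶
      (CohTop.pull f).obj ((Zf (Opens.grothendieckTopology Y)).obj V) :=
  e f V _ (𝟙 _)

lemma e_eq (V : Opens Y) {G : CohTop.Ab X}
    (h : (CohTop.pull f).obj ((Zf (Opens.grothendieckTopology Y)).obj V) ⟶ G) :
    e f V G h = ι f V ≫ h := by
  have := e_comp f V (𝟙 _) h
  rwa [Category.id_comp] at this

/-- `f⁻¹ ℤ_V ≅ ℤ_{f⁻¹V}` -/
noncomputable def iso (V : Opens Y) :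
    (Zf (Opens.grothendieckTopology X)).obj ((Opens.map f).obj V) ≅
      (CohTop.pull f).obj ((Zf (Opens.grothendieckTopology Y)).obj V) where
  hom := ι f V
  inv := (e f V _).symm (𝟙 _)
  hom_inv_id := by
    rw [← e_eq, Equiv.apply_symm_apply]
  inv_hom_id := by
    apply (e f V _).injective
    rw [e_eq, ← Category.assoc, ← e_eq f V ((e f V _).symm (𝟙 _)), Equiv.apply_symm_apply,
      Category.id_comp, e_eq, Category.comp_id]

lemma ι_naturality {V V' : Opens Y} (i : V' ⟶ V) :
    (Zf (Opens.grothendieckTopology X)).map ((Opens.map f).map i) ≫ ι f V =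
      ι f V' ≫ (CohTop.pull f).map ((Zf (Opens.grothendieckTopology Y)).map i) := by
  have := e_map f i (𝟙 _)
  rw [Category.comp_id, e_eq] at this
  rw [this]
  rfl

/-- the natural isomorphism `ℤ_{f⁻¹(-)} ≅ f⁻¹ ℤ_(-)` -/
noncomputable def natIso :
    Opens.map f ⋙ Zf (Opens.grothendieckTopology X) ≅
      Zf (Opens.grothendieckTopology Y) ⋙ CohTop.pull f :=
  NatIso.ofComponents (fun V => iso f V) (fun i => ι_naturality f i)

end Groth.Agent.PullFree31
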