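import Groth.Agent.Lib.TorsColim34
import Groth.Agent.Lib.EtConstr22f
import Groth.Agent.Lib.EtAbStalk2
import Groth.Agent.Lib.EtStalkPull

/-!
# Constructibility descends along surjective morphisms of qcqs schemes (helper34)

* `homColim_R_big`, `homColim_of_isConstructible_big`: compactness of constructible sheaves for
  filtered index categories in `Type (u+1)`;
* `stalk_torsion`, `isTorsion_of_pull`, `epi_of_epi_pull` (`f` surjective);
* `exists_epi_of_pull_constructible`, `isConstructible_of_pull` (= S0135, converse direction).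
-/

set_option autoImplicit false
universe u

open CategoryTheory CategoryTheory.Limits AlgebraicGeometry Opposite

namespace Groth.Agent.Lib.PullSurjConstr34

open Groth.Agent.Lib.ExtZeroMV34 Groth.Agent.Lib.TorsNoeth34 Groth.Agent.Lib.EtSecColim34
  Groth.Agent.Lib.ConstrPres34 Groth.Agent.Lib.ConstrCompact34 Groth.Agent.Lib.EtGerm
  Groth.Agent.Lib.EtStalkConservative Groth.Agent.Lib.EtAbStalk Groth.Agent.Lib.EtStalkPull
  Groth.Agent.Lib.EtConstr22

section big

variable {X : Scheme.{u}}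

/-- `j_{U!}(ℤ/n)` is compact for `U` qcqs (big index categories) -/
theorem homColim_R_big (n : ℕ) [NeZero n] (U : X.Etale) [CompactSpace U.left]
    [QuasiSeparatedSpace U.left] {J : Type (u + 1)} [SmallCategory J] [IsFiltered J]
    (D : J ⥤ EtCoh.Ab X) (c : Cocone D) (hc : IsColimit c) :
    HomColim (R (ZMod n) U) D c := by
  have hS := secColim_et D c hc U
  constructor
  · intro φ
    set s := φ.hom.app (op U) (univ (ZMod n) U (ULift.up 1)) with hs
    have hns : n • s = 0 := by rw [hs, ← map_nsmul, univ_nsmul, map_zero]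
    obtain ⟨i, t, ht⟩ := hS.surj s
    obtain ⟨j, a, ha⟩ := hS.inj i (n • t) (by rw [map_nsmul, ht, hns])
    have hnt : n • ((D.map a).hom.app (op U) t) = 0 := by rw [← map_nsmul, ha]
    refine ⟨j, secMap (D.obj j) U n _ hnt, ?_⟩
    apply R_hom_ext
    show (c.ι.app j).hom.app (op U) ((secMap (D.obj j) U n _ hnt).hom.app (op U) _) = s
    rw [secMap_univ]
    have h2 : D.map a ≫ c.ι.app j = c.ι.app i := c.w a
    rw [← ht, ← h2]
    rfl
  · intro i ψ hψ
    have h1 : (c.ι.app i).hom.app (op U) (ψ.hom.app (op U) (univ (ZMod n) U (ULift.up 1))) = 0 := by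
      have : (ψ ≫ c.ι.app i).hom.app (op U) (univ (ZMod n) U (ULift.up 1)) = 0 := by
        rw [hψ]; rfl
      exact this
    obtain ⟨j, g, hg⟩ := hS.inj i _ h1
    refine ⟨j, g, ?_⟩
    apply R_hom_ext
    show (D.map g).hom.app (op U) (ψ.hom.app (op U) _) = (0 : R (ZMod n) U ⟶ D.obj j).hom.app (op U) _
    rw [hg]
    rfl

variable [CompactSpace X] [QuasiSeparatedSpace X]

/-- constructible sheaves on a qcqs scheme are compact (elementwise form, big index categories) -/
theorem homColim_of_isConstructible_big {F : EtCoh.Ab X} (hF : EtPBC.IsConstructible F)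
    {J : Type (u + 1)} [SmallCategory J] [IsFiltered J] (D : J ⥤ EtCoh.Ab X) (c : Cocone D)
    (hc : IsColimit c) : HomColim F D c := by
  obtain ⟨a, b, U, V, n, m, hU, hV, φ, ⟨e⟩⟩ := exists_presentationV F hF
  have h0 : HomColim (⨁ fun i => EtPBC.extZeroConst (U i) (ZMod (n i))) D c :=
    HomColim.biproduct _ (fun i => by
      haveI := (hU i).2
      haveI : NeZero (n i) := ⟨(hU i).1.ne'⟩
      exact homColim_R_big (n i) (U i) D c hc)
  have h1 : HomColim (⨁ fun j => EtPBC.extZeroConst (V j) (ZMod (m j))) D c :=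
    HomColim.biproduct _ (fun j => by
      haveI := (hV j).2
      haveI : NeZero (m j) := ⟨(hV j).1.ne'⟩
      exact homColim_R_big (m j) (V j) D c hc)
  exact (HomColim.cokernel φ h0 h1).of_iso e.symm

end big

section stalks

variable {X : Scheme.{u}} {Ω : Type u} [Field Ω] [IsSepClosed Ω] (ξ : Spec (CommRingCat.of Ω) ⟶ X)

/-- stalks of torsion sheaves are torsion groups -/
lemma stalk_torsion {T : EtCoh.Ab X} (hT : EtCoh.IsTorsion T) (p : (EtCoh.stalk ξ).obj T) :
    ∃ n : ℕ, 0 < n ∧ n • p = 0 := by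
  obtain ⟨U, y, t, rfl⟩ := germ_jointly_surjective ξ T p
  obtain ⟨V, g, ⟨v, hv⟩, hfin⟩ := hT U t (Nbhd.pt ξ y)
  obtain ⟨n, hn, hnt⟩ := hfin.exists_nsmul_eq_zero
  obtain ⟨z, hz, -⟩ := exists_nbhd_lift ξ g y v hv
  refine ⟨n, hn, ?_⟩
  rw [← hz, ← germ_res, ← map_nsmul, hnt, map_zero]

end stalks

variable {X Y : Scheme.{u}} (f : X ⟶ Y) [Surjective f] [EtCoh.BCCont f]

/-- a sheaf whose inverse image along a surjective morphism is torsion is torsion -/
theorem isTorsion_of_pull (F : EtCoh.Ab Y) (h : EtCoh.IsTorsion ((EtCoh.pull f).obj F)) :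
    EtCoh.IsTorsion F := by
  intro U s x
  obtain ⟨x', hx'⟩ := f.surjective (U.hom x)
  have hd : (stdPt x' ≫ f) default = U.hom x := by
    rw [Scheme.Hom.comp_apply, stdPt_default, hx']
  obtain ⟨w, hw⟩ := exists_nbhd_of_pt (stdPt x' ≫ f) U x hd.symm
  let e := (stalkPullIso f (stdPt x')).app F
  obtain ⟨n, hn, hnp⟩ := stalk_torsion (stdPt x') h (e.inv (germ (stdPt x' ≫ f) F w s))
  have h1 : n • germ (stdPt x' ≫ f) F w s = 0 := by
    have h2 : e.hom (e.inv (germ (stdPt x' ≫ f) F w s)) = germ (stdPt x' ≫ f) F w s := by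
      rw [← ConcreteCategory.comp_apply, e.inv_hom_id]; rfl
    rw [← h2, ← map_nsmul, hnp, map_zero]
  rw [← map_nsmul] at h1
  obtain ⟨V, g, z, hz, hzs⟩ := (germ_eq_zero_iff (stdPt x' ≫ f) F w _).1 h1
  refine ⟨V, g, ⟨Nbhd.pt (stdPt x' ≫ f) z, ?_⟩, ?_⟩
  · rw [← hw, ← hz]; rfl
  · rw [isOfFinAddOrder_iff_nsmul_eq_zero]
    exact ⟨n, hn, by rw [← map_nsmul]; exact hzs⟩

/-- epimorphisms are detected after inverse image along a surjective morphism -/
theorem epi_of_epi_pull {F G : EtCoh.Ab Y} (φ : F ⟶ G) [Epi ((EtCoh.pull f).map φ)] : Epi φ := by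
  apply Groth.Agent.Lib.EtAbStalk2.epi_of_forall_exists_geomPt
  intro y
  obtain ⟨x', hx'⟩ := f.surjective y
  refine ⟨_, inferInstance, inferInstance, stdPt x' ≫ f, ?_, ?_⟩
  · rw [Scheme.Hom.comp_apply, stdPt_default, hx']
  · have h1 : Epi ((EtCoh.stalk (stdPt x')).map ((EtCoh.pull f).map φ)) := inferInstance
    have h2 := (stalkPullIso f (stdPt x')).hom.naturality φ
    have h3 : Epi ((stalkPullIso f (stdPt x')).hom.app F ≫
        (EtCoh.stalk (stdPt x' ≫ f)).map φ) := by
      rw [← h2]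
      haveI : Epi ((EtCoh.pull f ⋙ EtCoh.stalk (stdPt x')).map φ) := h1
      exact epi_comp _ _
    have h4 : Epi ((EtCoh.stalk (stdPt x' ≫ f)).map φ) :=
      epi_of_epi ((stalkPullIso f (stdPt x')).hom.app F) _
    exact (AddCommGrpCat.epi_iff_surjective _).1 h4

variable [CompactSpace X] [QuasiSeparatedSpace X] [CompactSpace Y] [QuasiSeparatedSpace Y]

/-- a sheaf with constructible inverse image is a quotient of a constructible sheaf -/
theorem exists_epi_of_pull_constructible (G : EtCoh.Ab Y)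
    (hG : EtPBC.IsConstructible ((EtCoh.pull f).obj G)) :
    ∃ (C : EtCoh.Ab Y) (_ : EtPBC.IsConstructible C) (φ : C ⟶ G), Epi φ := by
  have hGt : EtCoh.IsTorsion G := isTorsion_of_pull f G (isTorsion_of_isConstructible _ hG)
  obtain ⟨J, _, _, D, c, hc, hD, ⟨e⟩⟩ :=
    Groth.Agent.Lib.TorsColim34.exists_filtered_colimit G hGt
  haveI : PreservesColimits (EtCoh.pull f) := (EtCoh.pullPushAdj f).leftAdjoint_preservesColimits
  have hc' : IsColimit ((EtCoh.pull f).mapCocone c) := isColimitOfPreserves (EtCoh.pull f) hc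
  have h := homColim_of_isConstructible_big hG (D ⋙ EtCoh.pull f) _ hc'
  obtain ⟨j, s, hs⟩ := h.surj ((EtCoh.pull f).map e.inv)
  refine ⟨D.obj j, hD j, c.ι.app j ≫ e.hom, ?_⟩
  have h1 : s ≫ (EtCoh.pull f).map (c.ι.app j ≫ e.hom) = 𝟙 _ := by
    rw [Functor.map_comp, ← Category.assoc]
    have hs' : s ≫ (EtCoh.pull f).map (c.ι.app j) = (EtCoh.pull f).map e.inv := hs
    rw [hs', ← Functor.map_comp, e.inv_hom_id, CategoryTheory.Functor.map_id]
  haveI : Epi ((EtCoh.pull f).map (c.ι.app j ≫ e.hom)) := epi_of_epi_fac h1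
  exact epi_of_epi_pull f _

/-- **Constructibility descends along surjective morphisms of qcqs schemes.** -/
theorem isConstructible_of_pull (F : EtCoh.Ab Y)
    (hF : EtPBC.IsConstructible ((EtCoh.pull f).obj F)) : EtPBC.IsConstructible F := by
  obtain ⟨C, hC, φ, hφ⟩ := exists_epi_of_pull_constructible f F hF
  have hK : EtPBC.IsConstructible ((EtCoh.pull f).obj (kernel φ)) := by
    have e1 : (EtCoh.pull f).obj (kernel φ) ≅ kernel ((EtCoh.pull f).map φ) :=
      PreservesKernel.iso (EtCoh.pull f) φ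
    exact isConstructible_of_iso e1.symm
      (isConstructible_ker_coker _ (isConstructible_pull f hC) hF).1
  obtain ⟨C', hC', ψ, hψ⟩ := exists_epi_of_pull_constructible f (kernel φ) hK
  exact isConstructible_of_iso (cokernelIsoOfEpi φ ψ).symm
    (isConstructible_ker_coker (ψ ≫ kernel.ι φ) hC' hC).2

end Groth.Agent.Lib.PullSurjConstr34
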