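import Mathlib.AlgebraicGeometry.Restrict
import Mathlib.AlgebraicGeometry.Morphisms.Affine

/-!
# Restricting a cartesian square of schemes to opens of the bases (helper10)

For a cartesian square `X' = X ×_Y Y'` and opens `V ⊆ Y`, `W' ⊆ g⁻¹ V ⊆ Y'`, the square
`f'⁻¹W' ⟶ f⁻¹V`, `W' ⟶ V` is cartesian (`isPullback_resLE`); in particular `f'⁻¹W' ⟶ f⁻¹V` is
affine when `V` and `W'` are affine (`isAffineHom_resLE`).
-/

set_option autoImplicit false

open AlgebraicGeometry CategoryTheory CategoryTheory.Limits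

universe u

namespace Groth.Agent.Lib.PullbackRestrict

variable {X Y X' Y' : Scheme.{u}} {f : X ⟶ Y} {g : Y' ⟶ Y} {g' : X' ⟶ X} {f' : X' ⟶ Y'}

theorem preimage_le (sq : IsPullback g' f' f g) (V : Y.Opens) (W' : Y'.Opens)
    (e : W' ≤ g ⁻¹ᵁ V) : f' ⁻¹ᵁ W' ≤ g' ⁻¹ᵁ (f ⁻¹ᵁ V) := by
  intro x hx
  have h1 : g (f' x) ∈ V := e hx
  have h2 : f (g' x) = g (f' x) := by
    rw [← Scheme.Hom.comp_apply, ← Scheme.Hom.comp_apply, sq.w]
  change f (g' x) ∈ V
  rw [h2]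
  exact h1

/-- the restriction of a cartesian square to opens of the bases is cartesian -/
theorem isPullback_resLE (sq : IsPullback g' f' f g) (V : Y.Opens) (W' : Y'.Opens)
    (e : W' ≤ g ⁻¹ᵁ V) :
    IsPullback (g'.resLE (f ⁻¹ᵁ V) (f' ⁻¹ᵁ W') (preimage_le sq V W' e)) (f' ∣_ W') (f ∣_ V)
      (g.resLE V W' e) := by
  have outer : IsPullback ((f' ⁻¹ᵁ W').ι ≫ g') (f' ∣_ W') f (W'.ι ≫ g) :=
    (isPullback_morphismRestrict f' W').flip.paste_horiz sq
  have t : IsPullback (f ⁻¹ᵁ V).ι (f ∣_ V) f V.ι := (isPullback_morphismRestrict f V).flip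
  have e1 : g'.resLE (f ⁻¹ᵁ V) (f' ⁻¹ᵁ W') (preimage_le sq V W' e) ≫ (f ⁻¹ᵁ V).ι =
      (f' ⁻¹ᵁ W').ι ≫ g' := Scheme.Hom.resLE_comp_ι _ _
  have e2 : g.resLE V W' e ≫ V.ι = W'.ι ≫ g := Scheme.Hom.resLE_comp_ι _ _
  rw [← e1, ← e2] at outer
  refine IsPullback.of_right outer ?_ t
  rw [← cancel_mono V.ι, Category.assoc, Category.assoc, e2, morphismRestrict_ι,
    morphismRestrict_ι_assoc, reassoc_of% e1, sq.w]

theorem isAffineHom_resLE (sq : IsPullback g' f' f g) (V : Y.Opens) (W' : Y'.Opens)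
    (e : W' ≤ g ⁻¹ᵁ V) (hV : IsAffineOpen V) (hW' : IsAffineOpen W') :
    IsAffineHom (g'.resLE (f ⁻¹ᵁ V) (f' ⁻¹ᵁ W') (preimage_le sq V W' e)) := by
  have : IsAffine V.toScheme := hV
  have : IsAffine W'.toScheme := hW'
  have h : IsAffineHom (g.resLE V W' e) := inferInstance
  exact MorphismProperty.of_isPullback (isPullback_resLE sq V W' e).flip h

end Groth.Agent.Lib.PullbackRestrict
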