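/-
helper23: pullback of O-modules preserves short exact sequences with flat third term (stalkwise, via
`LinearMap.lTensor_injective_of_exact_of_flat`); the pull-back `pull f : Kvb Y →+ Kvb X` on K₀ of finite locally
free modules with `pull_cl`; existence and uniqueness of `f^K` on models (`existsUnique_isPull`).
-/
import Groth.Agent.Lib.PullbackStalk81
import Groth.Agent.Lib.ModStalkLin
import Groth.Agent.Lib.ModStalkIso
import Groth.Agent.Lib.FinLocFree2
import Groth.Agent.Lib.FlatModClosure
import Groth.Agent.Lib.H90K0Coh5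
import Groth.Prelude.Def_KRR
import Mathlib.RingTheory.Flat.Equalizer

set_option autoImplicit false
set_option linter.style.haveILetI false
universe v u
open CategoryTheory CategoryTheory.Limits AlgebraicGeometry

namespace Groth.Agent.Lib.PullbackSES23

open Groth.Agent.Lib.PullbackStalk81 Groth.Agent.Lib.ModStalkLin Groth.Agent.Lib.SkyMod81

section Alg

theorem injective_extendScalars_map_of_flat_coker {R S : Type u} [CommRing R] [CommRing S] (f : R →+* S)
    {M M' C : ModuleCat.{u} R} (l : M ⟶ M') (π : M' ⟶ C) (hl : Function.Injective l.hom)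
    (hex : Function.Exact l.hom π.hom) (hπ : Function.Surjective π.hom) [Module.Flat R C] :
    Function.Injective ((ModuleCat.extendScalars.{u, u, u} f).map l).hom := by
  letI := f.toAlgebra
  change Function.Injective (LinearMap.baseChange S l.hom)
  rw [LinearMap.baseChange_eq_ltensor]
  exact LinearMap.lTensor_injective_of_exact_of_flat π.hom hπ l.hom hl hex S

end Alg

variable {X Y : Scheme.{u}} (f : X ⟶ Y)

/-- pullback preserves monomorphisms with flat cokernel -/
theorem mono_pullback_of_flat_coker {S : ShortComplex Y.Modules} (hS : S.ShortExact)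
    (h3 : FlatMod.IsFlat S.X₃) : Mono ((Scheme.Modules.pullback f).map S.f) := by
  apply Groth.Agent.Lib.ModStalkIso.mono_of_stalk_injective
  intro x
  obtain ⟨hi, he, hs⟩ := stalkLin_exact hS (f x)
  have h1 : Function.Injective ((stalkMod x).map ((Scheme.Modules.pullback f).map S.f)).hom := by
    rw [stalkMod_map_pullback]
    haveI : Module.Flat (Y.presheaf.stalk (f x)) ((stalkMod (f x)).obj S.X₃) := h3 (f x)
    have hinj := injective_extendScalars_map_of_flat_coker (f.stalkMap x).hom
      ((stalkMod (f x)).map S.f) ((stalkMod (f x)).map S.g) hi he hs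
    have e1 : Function.Injective ((pullbackStalkIso f x).hom.app S.X₁).hom :=
      ((pullbackStalkIso f x).app S.X₁).toLinearEquiv.injective
    have e2 : Function.Injective ((pullbackStalkIso f x).inv.app S.X₂).hom :=
      ((pullbackStalkIso f x).symm.app S.X₂).toLinearEquiv.injective
    exact e2.comp (hinj.comp e1)
  exact h1

/-- pullback preserves short exact sequences whose third term is flat -/
theorem shortExact_map_pullback {S : ShortComplex Y.Modules} (hS : S.ShortExact)
    (h3 : FlatMod.IsFlat S.X₃) : (S.map (Scheme.Modules.pullback f)).ShortExact := by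
  haveI : (Scheme.Modules.pullback f).IsLeftAdjoint :=
    (Scheme.Modules.pullbackPushforwardAdjunction f).isLeftAdjoint
  haveI := hS.epi_g
  haveI : Mono (S.map (Scheme.Modules.pullback f)).f := mono_pullback_of_flat_coker f hS h3
  haveI : Epi (S.map (Scheme.Modules.pullback f)).g := by
    change Epi ((Scheme.Modules.pullback f).map S.g)
    infer_instance
  exact ShortComplex.ShortExact.mk' (hS.exact.map_of_epi_of_preservesCokernel _ hS.epi_g inferInstance)
    inferInstance inferInstance

/-- the pull-back on `K₀` of finite locally free modules -/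
noncomputable def pull : SGA6.Kvb Y →+ SGA6.Kvb X :=
  Groth.Agent.Lib.H90K0Coh.liftK0 (KRR.vbP Y)
    (fun E => KRR.cl X ((Scheme.Modules.pullback f).obj E.1))
    (fun S h₁ h₂ h₃ hS =>
      Groth.Agent.Lib.KZeroSub.clSub_shortExact (KRR.vbP X) (S.map (Scheme.Modules.pullback f))
        (shortExact_map_pullback f hS (Groth.Agent.Lib.FlatModClosure.isFlat_of_isFinLocFree h₃))
        (Groth.Agent.Lib.FinLocFree2.isFinLocFree_pullback f h₁)
        (Groth.Agent.Lib.FinLocFree2.isFinLocFree_pullback f h₂)
        (Groth.Agent.Lib.FinLocFree2.isFinLocFree_pullback f h₃))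

theorem pull_cl (E : Y.Modules) (hE : FlatMod.IsFinLocFree E) :
    pull f (KRR.cl Y E) = KRR.cl X ((Scheme.Modules.pullback f).obj E) :=
  Groth.Agent.Lib.H90K0Coh.liftK0_clSub (KRR.vbP Y) _ _ E hE

/-- existence and uniqueness of the pull-back on models of `K` -/
theorem existsUnique_isPull {KX : Type v} [CommRing KX] {KY : Type v} [CommRing KY]
    (φX : SGA6.Kvb X →+ KX) (φY : SGA6.Kvb Y →+ KY) (hφY : Function.Bijective φY) :
    ∃! g : KY →+ KX, KRR.IsPull f φY φX g := by
  let e : SGA6.Kvb Y ≃+ KY := AddEquiv.ofBijective φY hφY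
  refine ⟨(φX.comp (pull f)).comp e.symm.toAddMonoidHom, ?_, ?_⟩
  · intro E hE
    have h1 : e.symm (φY (KRR.cl Y E)) = KRR.cl Y E := e.symm_apply_apply _
    change φX (pull f (e.symm (φY (KRR.cl Y E)))) = _
    rw [h1, pull_cl f E hE]
  · intro g hg
    have h2 : g.comp φY = φX.comp (pull f) := by
      apply Groth.Agent.Lib.H90K0Coh.K0sub_hom_ext
      intro M hM
      change g (φY (KRR.cl Y M)) = φX (pull f (KRR.cl Y M))
      rw [hg M hM, pull_cl f M hM]
    refine DFunLike.ext _ _ fun y => ?_
    obtain ⟨x, rfl⟩ := hφY.2 y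
    have h1 : e.symm (φY x) = x := e.symm_apply_apply _
    change g (φY x) = φX (pull f (e.symm (φY x)))
    rw [h1]
    exact DFunLike.congr_fun h2 x

end Groth.Agent.Lib.PullbackSES23
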