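import Groth.Agent.Lib.PushStalk
import Groth.Agent.Lib.SkyMod81
import Groth.Agent.Lib.ModStalkLin
import Groth.Agent.Lib.H90InvertiblePullback
import Groth.Agent.Lib.H90PushStalkLocal

set_option autoImplicit false
universe u
open AlgebraicGeometry CategoryTheory TopologicalSpace Opposite

/-!
# The natural map `G_{f x} → (f^* G)_x` and generators of pullbacks of invertible modules
-/

namespace Groth.Agent.Lib.PullbackStalkGen

open Groth.Agent.Lib.PushStalk Groth.Agent.Lib.ModStalkLin Groth.Agent.Lib.SkyMod81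

variable {X Y : Scheme.{u}} (f : X ⟶ Y) (G : Y.Modules)

/-- the adjunction unit on sections: `Γ(G, V) → Γ(f^* G, f⁻¹ V)`. -/
noncomputable def unitSec (V : Y.Opens) (σ : Γ(G, V)) :
    Γ((Scheme.Modules.pullback f).obj G, f ⁻¹ᵁ V) :=
  ((Scheme.Modules.pullbackPushforwardAdjunction f).unit.app G).app V σ

/-- the natural map `G_{f x} → (f^* G)_x`. -/
noncomputable def tau (x : X) :
    G.presheaf.stalk (f x) →+ ((Scheme.Modules.pullback f).obj G).presheaf.stalk x :=
  (pushStalkHom f ((Scheme.Modules.pullback f).obj G) x).comp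
    (stalkLin ((Scheme.Modules.pullbackPushforwardAdjunction f).unit.app G) (f x)).toAddMonoidHom

theorem tau_germ (x : X) (V : Y.Opens) (hx : f x ∈ V) (σ : Γ(G, V)) :
    tau f G x (G.presheaf.germ V (f x) hx σ) =
      ((Scheme.Modules.pullback f).obj G).presheaf.germ (f ⁻¹ᵁ V) x
        (show x ∈ f ⁻¹ᵁ V from hx) (unitSec f G V σ) := by
  have h1 : stalkLin ((Scheme.Modules.pullbackPushforwardAdjunction f).unit.app G) (f x)
      (G.presheaf.germ V (f x) hx σ) =
      ((Scheme.Modules.pushforward f).obj ((Scheme.Modules.pullback f).obj G)).presheaf.germ V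
        (f x) hx (((Scheme.Modules.pullbackPushforwardAdjunction f).unit.app G).app V σ) :=
    stalkLin_germ _ (f x) V hx σ
  have h2 := pushStalkHom_germ f ((Scheme.Modules.pullback f).obj G) x V hx
    (((Scheme.Modules.pullbackPushforwardAdjunction f).unit.app G).app V σ)
  exact (congrArg (pushStalkHom f ((Scheme.Modules.pullback f).obj G) x) h1).trans h2

theorem tau_smul (x : X) (r : Y.presheaf.stalk (f x)) (m : G.presheaf.stalk (f x)) :
    tau f G x (r • m) = f.stalkMap x r • tau f G x m := by
  have h1 : stalkLin ((Scheme.Modules.pullbackPushforwardAdjunction f).unit.app G) (f x) (r • m) =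
      r • stalkLin ((Scheme.Modules.pullbackPushforwardAdjunction f).unit.app G) (f x) m :=
    map_smul _ r m
  have h2 := pushStalkHom_smul f ((Scheme.Modules.pullback f).obj G) x r
    (stalkLin ((Scheme.Modules.pullbackPushforwardAdjunction f).unit.app G) (f x) m)
  exact (congrArg (pushStalkHom f ((Scheme.Modules.pullback f).obj G) x) h1).trans h2

theorem tau_specializes {ξ x : X} (h : ξ ⤳ x) (m : G.presheaf.stalk (f x)) :
    ((Scheme.Modules.pullback f).obj G).presheaf.stalkSpecializes h (tau f G x m) =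
      tau f G ξ (G.presheaf.stalkSpecializes (h.map f.continuous) m) := by
  obtain ⟨V, hxV, σ, rfl⟩ := TopCat.Presheaf.exists_germ_eq G.presheaf m
  have hξV : f ξ ∈ V := (h.map f.continuous).mem_open V.isOpen hxV
  have e1 : (G.presheaf.stalkSpecializes (h.map f.continuous)) (G.presheaf.germ V (f x) hxV σ) =
      G.presheaf.germ V (f ξ) hξV σ :=
    ConcreteCategory.congr_hom
      (G.presheaf.germ_stalkSpecializes (U := V) hxV (h.map f.continuous)) σ
  rw [tau_germ, e1, tau_germ]
  exact ConcreteCategory.congr_hom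
    (((Scheme.Modules.pullback f).obj G).presheaf.germ_stalkSpecializes (U := f ⁻¹ᵁ V) hxV h) _

/-- the image of `G_{f x}` spans `(f^* G)_x` over `O_{X,x}`. -/
theorem span_range_tau (x : X) :
    Submodule.span (X.presheaf.stalk x) (Set.range (tau f G x)) = ⊤ := by
  set F := (Scheme.Modules.pullback f).obj G with hF
  let S : Submodule (X.presheaf.stalk x) (F.presheaf.stalk x) :=
    Submodule.span (X.presheaf.stalk x) (Set.range (tau f G x))
  let π : F.presheaf.stalk x →ₗ[X.presheaf.stalk x] (F.presheaf.stalk x ⧸ S) := S.mkQ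
  let q : F ⟶ skyObj x (F.presheaf.stalk x ⧸ S) := unitApp x F ≫ skyMap x π
  have hq : q = 0 := by
    apply ((Scheme.Modules.pullbackPushforwardAdjunction f).homEquiv G _).injective
    rw [Adjunction.homEquiv_unit, Adjunction.homEquiv_unit]
    apply Scheme.Modules.hom_ext
    intro V
    ext σ
    funext h
    change π (F.presheaf.germ (f ⁻¹ᵁ V) x h.down (unitSec f G V σ)) = 0
    rw [← tau_germ f G x V h.down σ]
    exact (Submodule.Quotient.mk_eq_zero _).mpr (Submodule.subset_span ⟨_, rfl⟩)
  rw [eq_top_iff]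
  intro m _
  obtain ⟨U, hxU, s, rfl⟩ := TopCat.Presheaf.exists_germ_eq F.presheaf m
  have h1 : π (F.presheaf.germ U x hxU s) = toFn x _ U (q.app U s) ⟨hxU⟩ := rfl
  rw [hq] at h1
  exact (Submodule.Quotient.mk_eq_zero _).mp h1

/-- **generators pull back to generators**: if `t` freely generates `L_{f x}` (with `L`
invertible) then `τ(t)` freely generates `(f^* L)_x`. -/
theorem bijective_smul_tau {L : Y.Modules} (hL : PicF.IsInvertible L) (x : X)
    (t : L.presheaf.stalk (f x))
    (bij : Function.Bijective (fun a : Y.presheaf.stalk (f x) => a • t)) :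
    Function.Bijective (fun a : X.presheaf.stalk x => a • tau f L x t) := by
  have hsurj : Function.Surjective (fun a : X.presheaf.stalk x => a • tau f L x t) := by
    intro m
    have hm : m ∈ Submodule.span (X.presheaf.stalk x) (Set.range (tau f L x)) := by
      rw [span_range_tau]; trivial
    induction hm using Submodule.span_induction with
    | mem m hm =>
      obtain ⟨l, rfl⟩ := hm
      obtain ⟨b, rfl⟩ := bij.2 l
      exact ⟨f.stalkMap x b, (tau_smul f L x b t).symm⟩
    | zero => exact ⟨0, zero_smul _ _⟩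
    | add m m' _ _ hm hm' =>
      obtain ⟨a, rfl⟩ := hm
      obtain ⟨a', rfl⟩ := hm'
      exact ⟨a + a', add_smul _ _ _⟩
    | smul c m _ hm =>
      obtain ⟨a, rfl⟩ := hm
      exact ⟨c * a, mul_smul _ _ _⟩
  refine ⟨?_, hsurj⟩
  obtain ⟨m₀, bij₀⟩ := Groth.Agent.Lib.H90PushStalkLocal.exists_stalk_bijective_of_isInvertible
    (Groth.Agent.Lib.H90Invertible.isInvertible_pullback f hL) x
  obtain ⟨c, hc⟩ := bij₀.2 (tau f L x t)
  obtain ⟨d, hd⟩ := hsurj m₀
  simp only at hc hd
  have hdc : d * c = 1 := by
    apply bij₀.1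
    simp only
    rw [mul_smul, hc, hd, one_smul]
  intro a a' haa'
  change a • tau f L x t = a' • tau f L x t at haa'
  rw [← hc, ← mul_smul, ← mul_smul] at haa'
  have h1 : a * c = a' * c := bij₀.1 haa'
  have h2 : a * c * d = a' * c * d := congrArg (· * d) h1
  rwa [mul_assoc, mul_assoc, mul_comm c d, hdc, mul_one, mul_one] at h2

/-- the induced map on fibres `L(f x) → (f^* L)(x)`. -/
theorem tau_mem_smul_top (x : X) (m : G.presheaf.stalk (f x))
    (hm : m ∈ IsLocalRing.maximalIdeal (Y.presheaf.stalk (f x)) •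
      (⊤ : Submodule (Y.presheaf.stalk (f x)) (G.presheaf.stalk (f x)))) :
    tau f G x m ∈ IsLocalRing.maximalIdeal (X.presheaf.stalk x) •
      (⊤ : Submodule (X.presheaf.stalk x)
        (((Scheme.Modules.pullback f).obj G).presheaf.stalk x)) := by
  refine Submodule.smul_induction_on hm ?_ ?_
  · intro r hr n _
    rw [tau_smul]
    refine Submodule.smul_mem_smul ?_ Submodule.mem_top
    have : IsLocalHom (f.stalkMap x).hom := inferInstance
    by_contra hnot
    have hu : IsUnit ((f.stalkMap x).hom r) := by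
      by_contra hnu
      exact hnot ((IsLocalRing.mem_maximalIdeal _).mpr hnu)
    exact ((IsLocalRing.mem_maximalIdeal _).mp hr) (isUnit_of_map_unit (f.stalkMap x).hom r hu)
  · intro a b ha hb
    rw [map_add]
    exact Submodule.add_mem _ ha hb

end Groth.Agent.Lib.PullbackStalkGen
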