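import Groth.Agent.Lib.Krull96E

/-!
# A Hartogs-type lemma for the integral closure of a Noetherian local domain

Let `C` be a Noetherian local domain of dimension `≥ 2` whose integral closure `C'` (in the
fraction field `K`) is local.  If `x ∈ K` and for generators `c` of the maximal ideal some power
`c ^ n` multiplies `x` into `C'`, then `x ∈ C'`  (Mori–Nagata: `C'` is a Krull domain, so `x ∉ C'`
would be detected at a height-one prime of `C'`, which cannot contain the maximal ideal).
-/

set_option autoImplicit false
set_option linter.style.haveILetI false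
universe u

open IsLocalRing

namespace Groth.Agent.Lib.PunctConn96

open Groth.Agent.Lib.Krull96

variable (C : Type u) [CommRing C] [IsDomain C] [IsNoetherianRing C] [IsLocalRing C]

theorem mem_integralClosure_of_pow_mul_mem
    [IsLocalRing (integralClosure C (FractionRing C))] (hdim : ¬ Ring.KrullDimLE 1 C)
    (S : Finset C) (hS : Ideal.span (S : Set C) = maximalIdeal C) (n : C → ℕ) (x : FractionRing C)
    (hx : ∀ c ∈ S, algebraMap C (FractionRing C) c ^ n c * x ∈
      integralClosure C (FractionRing C)) :
    x ∈ integralClosure C (FractionRing C) := by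
  classical
  by_contra hx'
  obtain ⟨D⟩ := nonempty_kdata_integralClosure C
  set B : Subring (FractionRing C) := (integralClosure C (FractionRing C)).toSubring with hB
  have hBmem : ∀ z : FractionRing C, z ∈ B ↔ IsIntegral C z := fun z => Iff.rfl
  have hfrac : ∀ y : FractionRing C, ∃ b : B, b ≠ 0 ∧ (b : FractionRing C) * y ∈ B := by
    intro y
    obtain ⟨a, b, rfl⟩ := IsLocalization.exists_mk'_eq (nonZeroDivisors C) y
    refine ⟨⟨algebraMap C (FractionRing C) b.1, isIntegral_algebraMap⟩, ?_, ?_⟩
    · intro h
      have h' : algebraMap C (FractionRing C) b.1 = 0 :=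
        congrArg (fun t : B => (t : FractionRing C)) h
      exact (IsFractionRing.to_map_ne_zero_of_mem_nonZeroDivisors b.2) h'
    · show algebraMap C (FractionRing C) b.1 * IsLocalization.mk' (FractionRing C) a b ∈ B
      rw [mul_comm, IsLocalization.mk'_spec]
      exact isIntegral_algebraMap
  have hxB : x ∉ B := hx'
  obtain ⟨P, y, π, hP, -, hxP, -, -, -, hP1⟩ := D.exists_prime hfrac (x := x) hxB
  haveI := hP
  -- `B` is local
  let e : integralClosure C (FractionRing C) →+* B :=
    RingHom.codRestrict (integralClosure C (FractionRing C)).val.toRingHom B (fun x => x.2)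
  have hebij : Function.Bijective e :=
    ⟨fun a b h => Subtype.ext (congrArg (fun t : B => (t : FractionRing C)) h),
      fun y => ⟨⟨y.1, y.2⟩, rfl⟩⟩
  haveI : IsLocalRing B := (RingEquiv.ofBijective e hebij).symm.isLocalRing
  -- the ring map `C → B`
  let g : C →+* B := RingHom.codRestrict (algebraMap C (FractionRing C)) B
    (fun c => isIntegral_algebraMap)
  letI : Algebra C B := g.toAlgebra
  have halg : ∀ c : C, ((algebraMap C B c : B) : FractionRing C) =
      algebraMap C (FractionRing C) c := fun c => rfl
  have hginj : Function.Injective (algebraMap C B) := by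
    intro c c' h
    have := congrArg (fun t : B => (t : FractionRing C)) h
    exact IsFractionRing.injective C (FractionRing C) this
  haveI : Algebra.IsIntegral C B := by
    refine ⟨fun y => ?_⟩
    have hy : IsIntegral C (y : FractionRing C) := y.2
    let f : B →ₐ[C] FractionRing C := { B.subtype with commutes' := fun c => rfl }
    exact (isIntegral_algHom_iff f Subtype.val_injective).mp hy
  -- the maximal ideal of `C` is contained in `P ∩ C`
  have hmP : maximalIdeal C ≤ P.comap (algebraMap C B) := by
    rw [← hS, Ideal.span_le]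
    intro c hc
    have h1 : (algebraMap C B c) ^ n c ∈ cond B x := by
      rw [mem_cond]
      have h2 : algebraMap C (FractionRing C) c ^ n c * x ∈ B := hx c hc
      simpa [halg] using h2
    exact hP.mem_of_pow_mem _ (hxP h1)
  have hPcomap : P.comap (algebraMap C B) = maximalIdeal C := by
    refine le_antisymm (le_maximalIdeal ?_) hmP
    exact (Ideal.comap_isPrime (algebraMap C B) P).ne_top
  have hPmax : P.IsMaximal := by
    have h1 : (P.comap (algebraMap C B)).IsMaximal := hPcomap ▸ maximalIdeal.isMaximal C
    exact Ideal.isMaximal_of_isIntegral_of_isMaximal_comap (R := C) P h1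
  have hPeq : P = maximalIdeal B := IsLocalRing.eq_maximalIdeal hPmax
  apply hdim
  refine Ring.KrullDimLE.mk₁' fun I hI0 hI => ?_
  haveI := hI
  have hbot : (⊥ : Ideal B).comap (algebraMap C B) ≤ I := by
    intro z hz
    rw [Ideal.mem_comap, Ideal.mem_bot] at hz
    have : z = 0 := hginj (by rw [hz, map_zero])
    rw [this]; exact I.zero_mem
  obtain ⟨Q, -, hQ, hQI⟩ := Ideal.exists_ideal_over_prime_of_isIntegral I (⊥ : Ideal B) hbot
  have hQ0 : Q ≠ ⊥ := by
    rintro rfl
    apply hI0
    rw [← hQI]
    ext z
    rw [Ideal.mem_comap, Ideal.mem_bot, Ideal.mem_bot]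
    exact ⟨fun h => hginj (by rw [h, map_zero]), fun h => by rw [h, map_zero]⟩
  have hQP : Q ≤ P := hPeq ▸ IsLocalRing.le_maximalIdeal hQ.ne_top
  have hPQ : P ≤ Q := hP1 Q hQ hQP hQ0
  have : Q = P := le_antisymm hQP hPQ
  rw [← hQI, this, hPcomap]
  exact maximalIdeal.isMaximal C

end Groth.Agent.Lib.PunctConn96
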