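import Groth.Agent.Lib.PunctConn96A
import Groth.Agent.Lib.Krull96H

/-!
# Flat base change of the Hartogs-type lemma

`C` Noetherian local domain of dimension `≥ 2` with local integral closure `C'`, `E` a flat
`C`-algebra.  If `t ∈ K ⊗ E` and, for generators `c` of the maximal ideal, `c ^ n • t` lies in the
image of `C' ⊗ E`, then `t` lies in the image of `C' ⊗ E`.
-/

set_option autoImplicit false
set_option linter.style.haveILetI false
universe u

open IsLocalRing TensorProduct

namespace Groth.Agent.Lib.PunctConn96

open Groth.Agent.Lib.Krull96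

variable (C : Type u) [CommRing C] [IsDomain C] [IsNoetherianRing C] [IsLocalRing C]
  (E : Type u) [CommRing E] [Algebra C E]

/-- The natural map `C' ⊗ E → K ⊗ E`. -/
noncomputable def ιhom :
    integralClosure C (FractionRing C) ⊗[C] E →ₐ[C] FractionRing C ⊗[C] E :=
  Algebra.TensorProduct.map (integralClosure C (FractionRing C)).val (AlgHom.id C E)

omit [IsDomain C] [IsNoetherianRing C] [IsLocalRing C] in
theorem ιhom_toLinearMap :
    (ιhom C E).toLinearMap =
      (integralClosure C (FractionRing C)).val.toLinearMap.rTensor E := by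
  apply TensorProduct.ext'
  intro x y
  simp [ιhom]

omit [IsDomain C] [IsNoetherianRing C] [IsLocalRing C] in
theorem ιhom_apply (y : integralClosure C (FractionRing C) ⊗[C] E) :
    ιhom C E y = (integralClosure C (FractionRing C)).val.toLinearMap.rTensor E y := by
  rw [← ιhom_toLinearMap]
  rfl

omit [IsDomain C] [IsNoetherianRing C] [IsLocalRing C] in
theorem ιhom_injective [Module.Flat C E] : Function.Injective (ιhom C E) := by
  have h : Function.Injective
      ((integralClosure C (FractionRing C)).val.toLinearMap.rTensor E) :=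
    Module.Flat.rTensor_preserves_injective_linearMap _ Subtype.val_injective
  intro a b hab
  apply h
  rw [← ιhom_apply, ← ιhom_apply, hab]

omit [IsDomain C] [IsNoetherianRing C] [IsLocalRing C] in
theorem mulLeft_rTensor (a : FractionRing C) (z : FractionRing C ⊗[C] E) :
    (LinearMap.mulLeft C a).rTensor E z = (a ⊗ₜ[C] (1 : E)) * z := by
  induction z using TensorProduct.induction_on with
  | zero => simp
  | tmul x y => simp [Algebra.TensorProduct.tmul_mul_tmul]
  | add x y hx hy => rw [map_add, hx, hy, mul_add]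

theorem mem_range_ιhom [Module.Flat C E]
    [IsLocalRing (integralClosure C (FractionRing C))] (hdim : ¬ Ring.KrullDimLE 1 C)
    (S : Finset C) (hS : Ideal.span (S : Set C) = maximalIdeal C) (hS0 : ∀ c ∈ S, c ≠ 0)
    (n : C → ℕ) (t : FractionRing C ⊗[C] E)
    (ht : ∀ c ∈ S, ∃ y : integralClosure C (FractionRing C) ⊗[C] E,
      algebraMap C (FractionRing C ⊗[C] E) (c ^ n c) * t = ιhom C E y) :
    t ∈ Set.range (ιhom C E) := by
  classical
  set B : Submodule C (FractionRing C) :=
    Subalgebra.toSubmodule (integralClosure C (FractionRing C)) with hB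
  have hsub : B.subtype = (integralClosure C (FractionRing C)).val.toLinearMap := rfl
  -- the submodules `V c = (c ^ n)⁻¹ • C'`
  let ν : C → (B →ₗ[C] FractionRing C) := fun c =>
    (LinearMap.mulLeft C ((algebraMap C (FractionRing C) (c ^ n c))⁻¹)) ∘ₗ B.subtype
  let V : S → Submodule C (FractionRing C) := fun c => LinearMap.range (ν c.1)
  have hk : ∀ c ∈ S, algebraMap C (FractionRing C) (c ^ n c) ≠ 0 := by
    intro c hc
    rw [map_pow]
    exact pow_ne_zero _ ((map_ne_zero_iff _ (IsFractionRing.injective C _)).mpr (hS0 c hc))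
  have hinter : ∀ x : FractionRing C, (∀ i, x ∈ V i) → x ∈ B := by
    intro x hx
    refine mem_integralClosure_of_pow_mul_mem C hdim S hS n x (fun c hc => ?_)
    obtain ⟨b, hb⟩ := hx ⟨c, hc⟩
    have hb' : (algebraMap C (FractionRing C) (c ^ n c))⁻¹ * (b : FractionRing C) = x := hb
    rw [← hb', ← map_pow, ← mul_assoc, mul_inv_cancel₀ (hk c hc), one_mul]
    exact b.2
  have hfin : ∀ x : FractionRing C, {i | x ∉ V i}.Finite := fun x => Set.toFinite _
  have hmem := mem_range_rTensor_of_forall (E := E) B V hinter hfin t (fun i => ?_)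
  · obtain ⟨y, hy⟩ := hmem
    refine ⟨y, ?_⟩
    rw [ιhom_apply, ← hsub]
    exact hy
  · obtain ⟨y, hy⟩ := ht i.1 i.2
    have h1 : (ν i.1).rTensor E y = t := by
      show ((LinearMap.mulLeft C ((algebraMap C (FractionRing C) (i.1 ^ n i.1))⁻¹)) ∘ₗ
        B.subtype).rTensor E y = t
      rw [LinearMap.rTensor_comp, LinearMap.comp_apply, hsub, ← ιhom_apply, ← hy,
        mulLeft_rTensor, Algebra.TensorProduct.algebraMap_apply, ← mul_assoc,
        Algebra.TensorProduct.tmul_mul_tmul, inv_mul_cancel₀ (hk i.1 i.2), one_mul]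
      exact one_mul t
    have h2 : ν i.1 = (V i).subtype ∘ₗ (ν i.1).rangeRestrict := by
      ext b
      rfl
    rw [h2, LinearMap.rTensor_comp, LinearMap.comp_apply] at h1
    exact ⟨_, h1⟩

end Groth.Agent.Lib.PunctConn96
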