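import Groth.Agent.Lib.PunctConn96B
import Groth.Agent.Lib.GenFibreConn96A

/-!
# Connectedness of the punctured spectrum of `C' ⊗ E`

`C` Noetherian local domain of dimension `≥ 2` with local integral closure `C'`, `E` flat over `C`
with `C' ⊗ E` local.  Then `Spec (C' ⊗ E) ∖ V(𝔪)` is preconnected.
-/

set_option autoImplicit false
set_option linter.style.haveILetI false
universe u

open IsLocalRing TensorProduct

namespace Groth.Agent.Lib.PunctConn96

section Generic

variable {F G H : Type*} [CommRing F] [CommRing G] [CommRing H]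

/-- If the image of `Spec G → Spec F` lies in a set `s` covered by two opens `u`, `v` which are
disjoint on `s`, the preimage of `u` is the basic open set of an idempotent. -/
theorem exists_idem_of_cover (φ : F →+* G) (s u v : Set (PrimeSpectrum F)) (hu : IsOpen u)
    (hv : IsOpen v) (hsuv : s ⊆ u ∪ v) (hdisj : s ∩ (u ∩ v) = ∅)
    (hφ : ∀ P : PrimeSpectrum G, PrimeSpectrum.comap φ P ∈ s) :
    ∃ e : G, IsIdempotentElem e ∧
      PrimeSpectrum.comap φ ⁻¹' u = (PrimeSpectrum.basicOpen e : Set (PrimeSpectrum G)) := by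
  have hclopen : IsClopen (PrimeSpectrum.comap φ ⁻¹' u) := by
    refine isClopen_of_disjoint_cover_open (b := PrimeSpectrum.comap φ ⁻¹' v) ?_
      (hu.preimage (PrimeSpectrum.continuous_comap φ))
      (hv.preimage (PrimeSpectrum.continuous_comap φ)) ?_
    · intro P _
      exact hsuv (hφ P)
    · rw [Set.disjoint_left]
      intro P hPu hPv
      have : PrimeSpectrum.comap φ P ∈ s ∩ (u ∩ v) := ⟨hφ P, hPu, hPv⟩
      rw [hdisj] at this
      exact this
  exact PrimeSpectrum.isClopen_iff.mp hclopen

/-- Compatibility of the idempotents. -/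
theorem map_idem_eq (φ : F →+* G) (ψ : G →+* H) (u : Set (PrimeSpectrum F))
    (eG : G) (heG : IsIdempotentElem eG)
    (hG : PrimeSpectrum.comap φ ⁻¹' u = (PrimeSpectrum.basicOpen eG : Set (PrimeSpectrum G)))
    (eH : H) (heH : IsIdempotentElem eH)
    (hH : PrimeSpectrum.comap (ψ.comp φ) ⁻¹' u =
      (PrimeSpectrum.basicOpen eH : Set (PrimeSpectrum H))) :
    ψ eG = eH := by
  have h1 : IsIdempotentElem (ψ eG) := heG.map ψ
  refine PrimeSpectrum.basicOpen_injOn_isIdempotentElem h1 heH ?_
  apply TopologicalSpace.Opens.ext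
  rw [← hH]
  ext P
  have h2 : P ∈ (PrimeSpectrum.basicOpen (ψ eG) : Set (PrimeSpectrum H)) ↔
      PrimeSpectrum.comap ψ P ∈ (PrimeSpectrum.basicOpen eG : Set (PrimeSpectrum G)) := Iff.rfl
  rw [h2, ← hG]
  rfl

end Generic

variable (C : Type u) [CommRing C] [IsDomain C] [IsNoetherianRing C] [IsLocalRing C]
  (E : Type u) [CommRing E] [Algebra C E]

theorem isPreconnected_punctured_tensor [Module.Flat C E]
    [IsLocalRing (integralClosure C (FractionRing C))] (hdim : ¬ Ring.KrullDimLE 1 C)
    [hloc : IsLocalRing (integralClosure C (FractionRing C) ⊗[C] E)] :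
    IsPreconnected {Q : PrimeSpectrum (integralClosure C (FractionRing C) ⊗[C] E) |
      ¬ (maximalIdeal C).map
        (algebraMap C (integralClosure C (FractionRing C) ⊗[C] E)) ≤ Q.asIdeal} := by
  classical
  -- notation
  set F := integralClosure C (FractionRing C) ⊗[C] E with hF
  set FK := FractionRing C ⊗[C] E with hFK
  set ι : F →+* FK := (ιhom C E).toRingHom with hι
  have hιinj : Function.Injective ι := ιhom_injective C E
  have hιalg : ∀ c : C, ι (algebraMap C F c) = algebraMap C FK c := fun c =>
    (ιhom C E).commutes c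
  -- nonzero generators of the maximal ideal
  obtain ⟨S₀, hS₀⟩ := (isNoetherianRing_iff_ideal_fg C).mp inferInstance (maximalIdeal C)
  set S : Finset C := S₀.erase 0 with hSdef
  have hS : Ideal.span (S : Set C) = maximalIdeal C := by
    rw [hSdef, Finset.coe_erase, Ideal.span_sdiff_singleton_zero, hS₀]
  have hS0 : ∀ c ∈ S, c ≠ 0 := fun c hc => (Finset.mem_erase.mp hc).1
  have hSm : ∀ c ∈ S, c ∈ maximalIdeal C := fun c hc => hS ▸ Ideal.subset_span hc
  -- units in `FK`
  have hunit : ∀ c : C, c ≠ 0 → IsUnit (algebraMap C FK c) := by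
    intro c hc
    have h1 : IsUnit (algebraMap C (FractionRing C) c) :=
      (map_ne_zero_iff _ (IsFractionRing.injective C _)).mpr hc |>.isUnit
    rw [Algebra.TensorProduct.algebraMap_apply]
    exact h1.map (Algebra.TensorProduct.includeLeftRingHom (R := C) (A := FractionRing C) (B := E))
  -- a point of the punctured spectrum contains no generator
  have hmem_s : ∀ (Q : PrimeSpectrum F) (c : C), c ∈ maximalIdeal C → algebraMap C F c ∉ Q.asIdeal →
      ¬ (maximalIdeal C).map (algebraMap C F) ≤ Q.asIdeal :=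
    fun Q c hc hcQ hle => hcQ (hle (Ideal.mem_map_of_mem _ hc))
  rw [isPreconnected_iff_subset_of_disjoint]
  intro u v hu hv hsuv hdisj
  set s : Set (PrimeSpectrum F) :=
    {Q | ¬ (maximalIdeal C).map (algebraMap C F) ≤ Q.asIdeal} with hs
  -- the case `S = ∅`
  by_cases hSne : S.Nonempty
  swap
  · left
    intro Q hQ
    exfalso
    apply hQ
    rw [Finset.not_nonempty_iff_eq_empty] at hSne
    rw [← hS, hSne, Finset.coe_empty, Ideal.span_empty, Ideal.map_bot]
    exact bot_le
  obtain ⟨c₀, hc₀⟩ := hSne
  -- the generic fibre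
  have hφK : ∀ P : PrimeSpectrum FK, PrimeSpectrum.comap ι P ∈ s := by
    intro P
    refine hmem_s _ c₀ (hSm c₀ hc₀) ?_
    intro hmem
    have h1 : ι (algebraMap C F c₀) ∈ P.asIdeal := hmem
    rw [hιalg] at h1
    exact P.isPrime.ne_top (Ideal.eq_top_of_isUnit_mem _ h1 (hunit c₀ (hS0 c₀ hc₀)))
  obtain ⟨eK, heK, huK⟩ := exists_idem_of_cover (F := F) (G := FK) ι s u v hu hv hsuv hdisj hφK
  -- the localizations
  have key : ∀ c ∈ S, ∃ (e : Localization.Away (algebraMap C F c)),
      IsIdempotentElem e ∧
      PrimeSpectrum.comap (algebraMap F (Localization.Away (algebraMap C F c))) ⁻¹' u =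
        (PrimeSpectrum.basicOpen e : Set _) ∧
      (∃ (n : ℕ) (y : F), algebraMap C FK (c ^ n) * eK = ι y) ∧
      (eK = 0 → e = 0) ∧ (eK = 1 → e = 1) := by
    intro c hc
    set Fc := Localization.Away (algebraMap C F c) with hFc
    have hφc : ∀ P : PrimeSpectrum Fc, PrimeSpectrum.comap (algebraMap F Fc) P ∈ s := by
      intro P
      refine hmem_s _ c (hSm c hc) ?_
      intro hmem
      have h1 : algebraMap F Fc (algebraMap C F c) ∈ P.asIdeal := hmem
      exact P.isPrime.ne_top (Ideal.eq_top_of_isUnit_mem _ h1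
        (IsLocalization.Away.algebraMap_isUnit (algebraMap C F c)))
    obtain ⟨e, he, hue⟩ := exists_idem_of_cover (F := F) (G := Fc) (algebraMap F Fc) s u v hu hv hsuv hdisj hφc
    have hu' : IsUnit (ι (algebraMap C F c)) := by
      rw [hιalg]
      exact hunit c (hS0 c hc)
    set lam : Fc →+* FK := IsLocalization.Away.lift (algebraMap C F c) hu' with hlam
    have hlamcomp : lam.comp (algebraMap F Fc) = ι := IsLocalization.Away.lift_comp _ hu'
    have hlame : lam e = eK :=
      map_idem_eq (F := F) (G := Fc) (H := FK) (algebraMap F Fc) lam u e he hue eK heK (by rw [hlamcomp]; exact huK)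
    have hlaminj : Function.Injective lam := by
      rw [injective_iff_map_eq_zero]
      intro z hz
      obtain ⟨n, a, ha⟩ := IsLocalization.Away.surj (algebraMap C F c) z
      have h1 : ι a = 0 := by
        rw [← hlamcomp, RingHom.comp_apply, ← ha, map_mul, hz, zero_mul]
      have h2 : a = 0 := hιinj (by rw [h1, map_zero])
      rw [h2, map_zero] at ha
      exact ((IsLocalization.Away.algebraMap_isUnit (algebraMap C F c)).pow n).mul_left_eq_zero.mp ha
    refine ⟨e, he, hue, ?_, ?_, ?_⟩
    · obtain ⟨n, a, ha⟩ := IsLocalization.Away.surj (algebraMap C F c) e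
      refine ⟨n, a, ?_⟩
      have hl : ∀ z : F, lam (algebraMap F Fc z) = ι z :=
        fun z => IsLocalization.Away.lift_eq _ hu' z
      have h1 := congrArg lam ha
      rw [map_mul, map_pow, hlame, hl, hl] at h1
      rw [map_pow, ← hιalg, mul_comm]
      exact h1
    · intro h0
      apply hlaminj
      rw [hlame, h0, map_zero]
    · intro h1
      apply hlaminj
      rw [hlame, h1, map_one]
  choose! ec hec huc hyc h0c h1c using key
  choose! n y hy using hyc
  -- `eK` comes from `F`
  obtain ⟨ε, hε⟩ := mem_range_ιhom C E hdim S hS hS0 n eK (fun c hc => ⟨y c, hy c hc⟩)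
  have hε' : ι ε = eK := hε
  have hεidem : ε * ε = ε := by
    apply hιinj
    rw [map_mul, hε']
    exact heK
  -- every point of `s` lies in some `D(c)`
  have hcover : ∀ Q ∈ s, ∃ c ∈ S, ∃ P : PrimeSpectrum (Localization.Away (algebraMap C F c)),
      PrimeSpectrum.comap (algebraMap F (Localization.Away (algebraMap C F c))) P = Q := by
    intro Q hQ
    by_contra hcon
    push Not at hcon
    apply hQ
    rw [← hS, Ideal.map_span, Ideal.span_le]
    rintro _ ⟨c, hc, rfl⟩
    by_contra hcQ
    have h1 : Q ∈ (PrimeSpectrum.basicOpen (algebraMap C F c) : Set (PrimeSpectrum F)) := hcQ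
    rw [← PrimeSpectrum.localization_away_comap_range
      (Localization.Away (algebraMap C F c)) (algebraMap C F c)] at h1
    obtain ⟨P, hP⟩ := h1
    exact hcon c hc P hP
  rcases Groth.Agent.Lib.GenFibreConn96.eq_zero_or_eq_one_of_isLocalRing (T := F) (e := ε) hεidem with h | h
  · -- `ε = 0`
    right
    have heK0 : eK = 0 := by rw [← hε', h, map_zero]
    intro Q hQ
    obtain ⟨c, hc, P, rfl⟩ := hcover Q hQ
    rcases hsuv hQ with hQu | hQv
    · exfalso
      have h1 : P ∈ PrimeSpectrum.comap
          (algebraMap F (Localization.Away (algebraMap C F c))) ⁻¹' u := hQu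
      rw [huc c hc, h0c c hc heK0] at h1
      simp at h1
    · exact hQv
  · left
    have heK1 : eK = 1 := by rw [← hε', h, map_one]
    intro Q hQ
    obtain ⟨c, hc, P, rfl⟩ := hcover Q hQ
    have h1 : P ∈ PrimeSpectrum.comap
        (algebraMap F (Localization.Away (algebraMap C F c))) ⁻¹' u := by
      rw [huc c hc, h1c c hc heK1]
      simp
    exact h1

end Groth.Agent.Lib.PunctConn96
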