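import Groth.Agent.Lib.PunctConn96C

/-!
# Connectedness of the punctured spectrum of a flat algebra over a unibranch base of dim ≥ 2

`C` Noetherian local domain of dimension `≥ 2` with local integral closure `C'`, `E` flat over `C`
with `C' ⊗ E` local.  Then `Spec E ∖ V(𝔪 E)` is preconnected and, for every `T ⊆ V(𝔪 E)`,
`Spec E ∖ T` is connected.
-/

set_option autoImplicit false
set_option linter.style.haveILetI false
universe u

open IsLocalRing TensorProduct

namespace Groth.Agent.Lib.PunctConn96

variable (C : Type u) [CommRing C] [IsDomain C] [IsNoetherianRing C] [IsLocalRing C]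
  (E : Type u) [CommRing E] [Algebra C E]

omit [IsDomain C] [IsNoetherianRing C] [IsLocalRing C] in
theorem includeRight_isIntegral (C' : Type u) [CommRing C'] [Algebra C C']
    [Algebra.IsIntegral C C'] :
    (Algebra.TensorProduct.includeRight : E →ₐ[C] C' ⊗[C] E).toRingHom.IsIntegral := by
  have h1 : (algebraMap E (E ⊗[C] C')).IsIntegral :=
    algebraMap_isIntegral_iff.mpr inferInstance
  have h2 : ((Algebra.TensorProduct.includeRight : E →ₐ[C] C' ⊗[C] E).toRingHom : E →+* C' ⊗[C] E) =
      (Algebra.TensorProduct.comm C E C').toRingEquiv.toRingHom.comp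
        (algebraMap E (E ⊗[C] C')) := by
    ext x
    simp
  rw [h2]
  exact RingHom.IsIntegral.trans _ _ h1
    (RingHom.isIntegral_of_surjective _ (Algebra.TensorProduct.comm C E C').surjective)

omit [IsDomain C] [IsNoetherianRing C] [IsLocalRing C] in
theorem includeRight_injective [Module.Flat C E] (C' : Type u) [CommRing C'] [Algebra C C']
    (hinj : Function.Injective (algebraMap C C')) :
    Function.Injective (Algebra.TensorProduct.includeRight : E →ₐ[C] C' ⊗[C] E) := by
  have h1 : Function.Injective ((Algebra.linearMap C C').rTensor E) :=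
    Module.Flat.rTensor_preserves_injective_linearMap _ hinj
  intro a b hab
  have h2 : (Algebra.linearMap C C').rTensor E ((1 : C) ⊗ₜ[C] a) =
      (Algebra.linearMap C C').rTensor E ((1 : C) ⊗ₜ[C] b) := by
    simpa using hab
  have h3 := h1 h2
  have h4 := congrArg (TensorProduct.lid C E) h3
  simpa using h4

theorem isPreconnected_punctured [Module.Flat C E]
    [IsLocalRing (integralClosure C (FractionRing C))] (hdim : ¬ Ring.KrullDimLE 1 C)
    [hloc : IsLocalRing (integralClosure C (FractionRing C) ⊗[C] E)] :
    IsPreconnected {q : PrimeSpectrum E |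
      ¬ (maximalIdeal C).map (algebraMap C E) ≤ q.asIdeal} := by
  set F := integralClosure C (FractionRing C) ⊗[C] E with hF
  set jE : E →+* F :=
    (Algebra.TensorProduct.includeRight :
      E →ₐ[C] integralClosure C (FractionRing C) ⊗[C] E).toRingHom with hjE
  have hjint0 := includeRight_isIntegral C E (integralClosure C (FractionRing C))
  have hjint : RingHom.IsIntegral (R := E) (A := F) jE := hjint0
  have hjinj : Function.Injective jE :=
    includeRight_injective C E (integralClosure C (FractionRing C))
      (FaithfulSMul.algebraMap_injective C _)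
  have hsurj : Function.Surjective (PrimeSpectrum.comap jE) :=
    RingHom.IsIntegral.comap_surjective (R := E) (S := F) (f := jE) hjint hjinj
  have hcomp : (algebraMap C F) = jE.comp (algebraMap C E) := by
    ext c
    exact ((Algebra.TensorProduct.includeRight :
      E →ₐ[C] integralClosure C (FractionRing C) ⊗[C] E).commutes c).symm
  have hpre := isPreconnected_punctured_tensor C E hdim
  have himage : PrimeSpectrum.comap jE '' {Q : PrimeSpectrum F |
      ¬ (maximalIdeal C).map (algebraMap C F) ≤ Q.asIdeal} =
      {q : PrimeSpectrum E | ¬ (maximalIdeal C).map (algebraMap C E) ≤ q.asIdeal} := by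
    have hiff : ∀ Q : PrimeSpectrum F, (maximalIdeal C).map (algebraMap C F) ≤ Q.asIdeal ↔
        (maximalIdeal C).map (algebraMap C E) ≤ (PrimeSpectrum.comap jE Q).asIdeal := by
      intro Q
      rw [hcomp, ← Ideal.map_map, Ideal.map_le_iff_le_comap]
      rfl
    ext q
    constructor
    · rintro ⟨Q, hQ, rfl⟩
      exact fun h => hQ ((hiff Q).mpr h)
    · intro hq
      obtain ⟨Q, rfl⟩ := hsurj q
      exact ⟨Q, fun h => hq ((hiff Q).mp h), rfl⟩
  rw [← himage]
  exact hpre.image _ (PrimeSpectrum.continuous_comap jE).continuousOn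

theorem isConnected_compl_of_subset_zeroLocus [Module.Flat C E] [Nontrivial E]
    [IsLocalRing (integralClosure C (FractionRing C))] (hdim : ¬ Ring.KrullDimLE 1 C)
    [hloc : IsLocalRing (integralClosure C (FractionRing C) ⊗[C] E)]
    (T : Set (PrimeSpectrum E))
    (hTm : ∀ q ∈ T, (maximalIdeal C).map (algebraMap C E) ≤ q.asIdeal) :
    IsConnected Tᶜ := by
  set U : Set (PrimeSpectrum E) :=
    {q | ¬ (maximalIdeal C).map (algebraMap C E) ≤ q.asIdeal} with hU
  have hUpre : IsPreconnected U := isPreconnected_punctured C E hdim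
  have hUT : U ⊆ Tᶜ := fun q hq hqT => hq (hTm q hqT)
  -- a nonzero element of the maximal ideal
  obtain ⟨c, hcm, hc0⟩ : ∃ c ∈ maximalIdeal C, c ≠ 0 := by
    by_contra hcon
    push Not at hcon
    apply hdim
    have hbot : maximalIdeal C = ⊥ := by
      rw [eq_bot_iff]
      intro x hx
      exact (Ideal.mem_bot).mpr (hcon x hx)
    refine Ring.KrullDimLE.mk₁' fun I hI0 hI => ?_
    exfalso
    apply hI0
    rw [eq_bot_iff, ← hbot]
    exact IsLocalRing.le_maximalIdeal hI.ne_top
  -- `c` is a nonzerodivisor on `E`
  have hreg : algebraMap C E c ∈ nonZeroDivisors E := by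
    have h1 : IsSMulRegular E c :=
      Module.Flat.isSMulRegular_of_nonZeroDivisors (mem_nonZeroDivisors_of_ne_zero hc0)
    rw [mem_nonZeroDivisors_iff_right]
    intro x hx
    have h2 : c • x = c • (0 : E) := by
      rw [smul_zero, Algebra.smul_def, mul_comm]
      exact hx
    exact h1 h2
  -- every point has a generization in `U`
  have hgen : ∀ q : PrimeSpectrum E, ∃ q₀ ∈ U, q₀ ⤳ q := by
    intro q
    obtain ⟨p, hp, hpq⟩ := Ideal.exists_minimalPrimes_le (I := ⊥) (J := q.asIdeal) bot_le
    have hpprime : p.IsPrime := hp.1.1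
    refine ⟨⟨p, hpprime⟩, ?_, (PrimeSpectrum.le_iff_specializes _ q).mp hpq⟩
    intro hle
    have h1 : algebraMap C E c ∈ p := hle (Ideal.mem_map_of_mem _ hcm)
    have h2 : p ∈ minimalPrimes E := hp
    exact (Set.disjoint_left.mp (Ideal.disjoint_nonZeroDivisors_of_mem_minimalPrimes h2)) h1 hreg
  have hsub : Tᶜ ⊆ closure U := by
    intro q _
    obtain ⟨q₀, hq₀, hsp⟩ := hgen q
    exact hsp.mem_closed isClosed_closure (subset_closure hq₀)
  refine ⟨?_, hUpre.subset_closure hUT hsub⟩
  obtain ⟨q⟩ := (inferInstance : Nonempty (PrimeSpectrum E))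
  obtain ⟨q₀, hq₀, -⟩ := hgen q
  exact ⟨q₀, hUT hq₀⟩

end Groth.Agent.Lib.PunctConn96
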