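import Groth.Agent.Lib.PunctConn96D
import Groth.Agent.Lib.GenFibreConn96C
import Groth.Agent.Lib.QuotFormalFibres98

/-!
# EGA IV 15.6.x-type connectedness: flat local algebra over a geometrically unibranch base of
dimension `≥ 2`; the complement of a closed subset of the closed fibre is connected.
-/

set_option autoImplicit false
set_option linter.style.haveILetI false
set_option linter.unusedSectionVars false
universe u

open IsLocalRing TensorProduct

namespace Groth.Agent.Lib.PunctConn96

open CAlg2 Groth.Agent.Lib.GenFibreConn96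

variable (A B : Type u) [CommRing A] [IsLocalRing A] [IsNoetherianRing A]
  [CommRing B] [IsLocalRing B] [Algebra A B] [IsLocalHom (algebraMap A B)] [Module.Flat A B]

/-- `Spec (red A ⊗ B) → Spec B` is surjective. -/
theorem comap_includeRight_red_surjective :
    Function.Surjective (PrimeSpectrum.comap
      (Algebra.TensorProduct.includeRight : B →ₐ[A] red A ⊗[A] B).toRingHom) := by
  set j : B →+* red A ⊗[A] B :=
    (Algebra.TensorProduct.includeRight : B →ₐ[A] red A ⊗[A] B).toRingHom with hj
  have hjsurj : Function.Surjective j := by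
    intro x
    induction x using TensorProduct.induction_on with
    | zero => exact ⟨0, map_zero _⟩
    | tmul c b =>
      obtain ⟨a, rfl⟩ := Ideal.Quotient.mk_surjective c
      refine ⟨a • b, ?_⟩
      show (1 : red A) ⊗ₜ[A] (a • b) = _
      rw [← TensorProduct.smul_tmul, Algebra.smul_def, mul_one]
      rfl
    | add x y hx hy =>
      obtain ⟨u, hu⟩ := hx
      obtain ⟨v, hv⟩ := hy
      exact ⟨u + v, by rw [map_add, hu, hv]⟩
  have hker : RingHom.ker j ≤ nilradical B := by
    intro b hb
    have h1 : (1 : red A) ⊗ₜ[A] b = 0 := hb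
    have h2 := congrArg (TensorProduct.quotTensorEquivQuotSMul B (nilradical A)) h1
    rw [← map_one (Ideal.Quotient.mk (nilradical A)),
      TensorProduct.quotTensorEquivQuotSMul_mk_tmul, map_zero,
      one_smul, Submodule.Quotient.mk_eq_zero] at h2
    exact mem_nilradical.mpr
      (Groth.Agent.Lib.QuotFormalFibres98.isNilpotent_of_mem_smul_top (nilradical A) le_rfl b h2)
  intro q
  have hkq : RingHom.ker j ≤ q.asIdeal := hker.trans (nilradical_le_prime q.asIdeal)
  haveI : (q.asIdeal.map j).IsPrime := Ideal.map_isPrime_of_surjective hjsurj hkq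
  refine ⟨⟨q.asIdeal.map j, inferInstance⟩, ?_⟩
  apply PrimeSpectrum.ext
  show (q.asIdeal.map j).comap j = q.asIdeal
  rw [Ideal.comap_map_of_surjective j hjsurj, ← RingHom.ker_eq_comap_bot, sup_eq_left]
  exact hkq

theorem isConnected_compl_of_isGeomUnibranch_of_dim (hA : IsGeomUnibranch A)
    (hdim : 2 ≤ ringKrullDim A) (T : Set (PrimeSpectrum B))
    (hTm : ∀ q ∈ T, (maximalIdeal A).map (algebraMap A B) ≤ q.asIdeal) :
    IsConnected Tᶜ := by
  haveI : IsDomain (red A) := hA.1.1
  haveI : IsLocalRing (normRed A) := hA.1.2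
  haveI : IsLocalRing (red A ⊗[A] B) := isLocalRing_red_tensor A B
  haveI : Module.FaithfullyFlat A B := Module.FaithfullyFlat.of_flat_of_isLocalHom
  haveI : Module.FaithfullyFlat (red A) (red A ⊗[A] B) := inferInstance
  haveI := isPurelyInseparable_residueField_normRed A hA
  haveI : Nontrivial (normRed A ⊗[red A] (red A ⊗[A] B)) :=
    nontrivial_tensor_of_faithfullyFlat (red A) (normRed A) (red A ⊗[A] B)
  haveI : Nontrivial ((red A ⊗[A] B) ⊗[red A] normRed A) :=
    nontrivial_tensor_comm (red A) (normRed A) (red A ⊗[A] B)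
  have hloc' : IsLocalRing ((red A ⊗[A] B) ⊗[red A] normRed A) :=
    isLocalRing_tensor_of_isPurelyInseparable (red A) (normRed A) (red A ⊗[A] B)
  haveI := hloc'
  have hloc : IsLocalRing (normRed A ⊗[red A] (red A ⊗[A] B)) :=
    isLocalRing_tensor_comm (red A) (normRed A) (red A ⊗[A] B)
  have hdim' : ¬ Ring.KrullDimLE 1 (red A) := by
    rw [Ring.krullDimLE_iff,
      Groth.Agent.Lib.QuotFormalFibres98.ringKrullDim_quotient_of_le_nilradical (nilradical A)
        le_rfl]
    intro h
    have h2 : (2 : WithBot ℕ∞) ≤ ((1 : ℕ) : WithBot ℕ∞) := hdim.trans h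
    norm_cast at h2
  set j : B →+* red A ⊗[A] B :=
    (Algebra.TensorProduct.includeRight : B →ₐ[A] red A ⊗[A] B).toRingHom with hj
  have hsurj : Function.Surjective (PrimeSpectrum.comap j) :=
    comap_includeRight_red_surjective A B
  set T' : Set (PrimeSpectrum (red A ⊗[A] B)) := PrimeSpectrum.comap j ⁻¹' T with hT'
  have hT'm : ∀ Q ∈ T', (maximalIdeal (red A)).map (algebraMap (red A) (red A ⊗[A] B)) ≤
      Q.asIdeal := by
    intro Q hQ
    have h1 : (maximalIdeal A).map (algebraMap A B) ≤ (PrimeSpectrum.comap j Q).asIdeal :=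
      hTm _ hQ
    rw [Groth.Agent.Lib.QuotFormalFibres98.maximalIdeal_quotient A (nilradical A), Ideal.map_map,
      Ideal.map_le_iff_le_comap]
    intro a ha
    have h2 : algebraMap A B a ∈ (PrimeSpectrum.comap j Q).asIdeal :=
      h1 (Ideal.mem_map_of_mem _ ha)
    have h3 : j (algebraMap A B a) ∈ Q.asIdeal := h2
    have h4 : j (algebraMap A B a) =
        ((algebraMap (red A) (red A ⊗[A] B)).comp (algebraMap A (red A))) a := by
      show (1 : red A) ⊗ₜ[A] (algebraMap A B a) = (algebraMap A (red A) a) ⊗ₜ[A] (1 : B)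
      rw [Algebra.algebraMap_eq_smul_one, Algebra.algebraMap_eq_smul_one,
        TensorProduct.tmul_smul, TensorProduct.smul_tmul']
    rw [Ideal.mem_comap, ← h4]
    exact h3
  have hconn := isConnected_compl_of_subset_zeroLocus (red A) (red A ⊗[A] B) hdim' T' hT'm
  have himage : PrimeSpectrum.comap j '' T'ᶜ = Tᶜ := by
    ext q
    constructor
    · rintro ⟨Q, hQ, rfl⟩
      exact hQ
    · intro hq
      obtain ⟨Q, rfl⟩ := hsurj q
      exact ⟨Q, hq, rfl⟩
  rw [← himage]
  exact hconn.image _ (PrimeSpectrum.continuous_comap j).continuousOn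

end Groth.Agent.Lib.PunctConn96
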