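import Groth.Agent.Lib.FinLocFreeAnn92

/-!
# Annihilators of `Hᵖ(U, F)` for `F` finite locally free on a quasi-compact open of `Spec A` (helper92)

`exists_pow_mul_smul_eq_zero` : for every point `x` of a quasi-compact open `U ⊆ Spec A` there are
`f ∈ A`, `f ∉ x`, and `K` such that `f ^ K * d` kills `Hᵖ(U, F)` whenever `d` kills `Hᵖ(U, O_U)`.
-/

set_option autoImplicit false
universe u

open CategoryTheory CategoryTheory.Limits AlgebraicGeometry TopologicalSpace Opposite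

namespace Groth.Agent.Lib.PuncturedAnn92

open Groth.Agent.Lib.MulHom92 Groth.Agent.Lib.FreeModSch Groth.Agent.Lib.FinLocFreeAnn92

variable {A : Type u} [CommRing A] (U : (Spec (CommRingCat.of A)).Opens)

theorem exists_pow_mul_smul_eq_zero [CompactSpace ↥(U : Scheme.{u})]
    [QuasiSeparatedSpace ↥(U : Scheme.{u})] (p : ℕ)
    (F : (U : Scheme.{u}).Modules) (hF : FlatMod.IsFinLocFree F) (x : (U : Scheme.{u})) :
    ∃ (f : A) (K : ℕ), f ∉ (U.ι x).asIdeal ∧
      ∀ d : A, (∀ y : Coh.HH (↑U) (Coh.structureModule (↑U)) p, d • y = 0) →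
        ∀ z : Coh.HH (↑U) F p, (f ^ K * d) • z = 0 := by
  obtain ⟨V, r, hxV, ⟨e⟩⟩ := hF x
  -- a basic open of `Spec A` around `x` inside `V`
  have hx' : U.ι x ∈ U.ι ''ᵁ V := ⟨x, hxV, rfl⟩
  obtain ⟨_, ⟨fA, rfl⟩, hxf, hfV⟩ :=
    Opens.isBasis_iff_nbhd.mp (PrimeSpectrum.isBasis_basic_opens (R := A)) hx'
  let g : Γ((U : Scheme.{u}), ⊤) := Coh.toGlobal U.ι fA
  have hD : (Spec (CommRingCat.of A)).basicOpen ((Scheme.ΓSpecIso (CommRingCat.of A)).inv fA) =
      PrimeSpectrum.basicOpen (R := ↑(CommRingCat.of A)) fA :=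
    basicOpen_eq_of_affine (R := CommRingCat.of A) fA
  have hg : (U : Scheme.{u}).basicOpen g = U.ι ⁻¹ᵁ ((Spec (CommRingCat.of A)).basicOpen
      ((Scheme.ΓSpecIso (CommRingCat.of A)).inv fA)) := by
    rw [Scheme.preimage_basicOpen_top]
    rfl
  have hgV : (U : Scheme.{u}).basicOpen g ≤ V := by
    rw [hg, ← Scheme.Hom.preimage_image_eq U.ι V]
    exact Scheme.Hom.preimage_mono U.ι (hD.le.trans hfV)
  let e' : F.restrict ((U : Scheme.{u}).basicOpen g).ι ≅
      FlatMod.freeMod ↑((U : Scheme.{u}).basicOpen g) r :=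
    (restrictRestrictIso hgV).symm.app F ≪≫
      (Scheme.Modules.restrictFunctor ((U : Scheme.{u}).homOfLE hgV)).mapIso e ≪≫
      Groth.Agent.Lib.FinLocFree.restrictFreeModIso ((U : Scheme.{u}).homOfLE hgV) r
  obtain ⟨K, a, b, hab⟩ := exists_maps g F hF r e'
  refine ⟨fA, K, hxf, fun d hd z => ?_⟩
  have hab' : b ≫ a = mulHom F (Coh.toGlobal
      ((U : Scheme.{u}) ↘ Spec (CommRingCat.of A)) (fA ^ K)) := by
    rw [hab, map_pow]
    rfl
  exact smul_eq_zero_of_factor A p a b (fA ^ K) d hab' (smul_freeMod_eq_zero A p r d hd) z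

end Groth.Agent.Lib.PuncturedAnn92
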