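import Groth.Agent.Lib.KoszulLim9b
import Groth.Agent.Lib.TildePunct97
import Groth.Agent.S5169
import Groth.Agent.Lib.FlasqueAcyclic
import Groth.Prelude.Def_Coh
import Groth.Agent.Lib.H60TildeExact
import Groth.Agent.Lib.RestrictExact
import Groth.Agent.Lib.CohLESExact
import Groth.Agent.Lib.H4H0Nat
import Groth.Agent.Lib.LocCohLES
import Groth.Agent.Lib.LocCohTorsion
import Groth.Agent.S5173

/-!
# Cohomology of `M~` on opens of `Spec R` versus local cohomology (helper9)

* `transformSpec` : for `V = ⋃ D(f_i) ⊆ Spec R` (any commutative ring), the kernel and cokernel of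
  `M → Γ(V, M~)` are `koszulHLim fs M 0` and `koszulHLim fs M 1` (ideal transform);
  `eps_surjective_iff`.
* `exists_list_of_isCompact` : a quasi-compact open of `Spec R` is a finite union of basic opens.
* Noetherian `R`, injective `E`: `eps_surjective_of_injective` (`E → Γ(V, E~)` onto for every open `V`),
  `res_surjective_of_injective`, `isFlasque_tilde`, `isFlasque_restrict`, `subsingleton_HH_restrict`
  (`H^{n+1}(W, E~|_W) = 0`).
* `sesUG`, `sesU`, `sesU_shortExact` : `M ↦ M~|_W` is exact; `app_eps`, `sesU_g_app`.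
* `main` : `H^{p+1}(W, M~|_W) ≃+ H^{p+2}_I(M)` for `W = ⋃ D(f_i)`, `I = (f_i)`, `R` Noetherian.
-/

set_option autoImplicit false
universe u

namespace Groth.Agent.Lib.PuncturedCoh9

open AlgebraicGeometry CategoryTheory TopologicalSpace Opposite CohIII
open Groth.Agent.Lib.TildePunct97 Groth.Agent.Lib.KoszulLim9
open Groth.Agent.Lib.LocCohLES Groth.Agent.Lib.LocCohTorsion Groth.Agent.Lib.CohLES
open Groth.Agent.Lib.H4Twist



section part1

variable {R : Type u} [CommRing R] (M : Type u) [AddCommGroup M] [Module R M]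
variable (fs : List R) (V : (Spec (CommRingCat.of R)).Opens)
  (hle : ∀ i : Fin fs.length, PrimeSpectrum.basicOpen (fs.get i) ≤ V)
  (hcov : V ≤ ⨆ i : Fin fs.length, PrimeSpectrum.basicOpen (fs.get i))

theorem smul_bijective_basicOpen (f : R) :
    Function.Bijective (fun x : ↑((F M).presheaf.obj (op (PrimeSpectrum.basicOpen f))) => f • x) := by
  have h := IsLocalizedModule.map_units (S := Submonoid.powers f)
    (eps M (PrimeSpectrum.basicOpen f)) ⟨f, Submonoid.mem_powers f⟩
  rw [Module.End.isUnit_iff] at h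
  exact h

theorem smul_injective_of_le (f : R) (U : (Spec (CommRingCat.of R)).Opens)
    (h : U ≤ PrimeSpectrum.basicOpen f) :
    Function.Injective (fun x : ↑((F M).presheaf.obj (op U)) => f • x) := by
  have h := @Scheme.Modules.isSMulRegular_of_le_basicOpen (CommRingCat.of R)
    (tilde (R := CommRingCat.of R) (ModuleCat.of R M)) U f h
  exact h

theorem pow_smul_injective_of_le (f : R) (U : (Spec (CommRingCat.of R)).Opens)
    (h : U ≤ PrimeSpectrum.basicOpen f) (k : ℕ) :
    Function.Injective (fun x : ↑((F M).presheaf.obj (op U)) => f ^ k • x) := by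
  induction k with
  | zero => intro x y hxy; simpa using hxy
  | succ k ih =>
    intro x y hxy
    apply ih
    apply smul_injective_of_le M f U h
    show f • f ^ k • x = f • f ^ k • y
    rw [← mul_smul, ← mul_smul, ← pow_succ']
    exact hxy

include hcov in
theorem sec_ext_cover (s t : ↑((F M).presheaf.obj (op V)))
    (h : ∀ i, res M (hle i) s = res M (hle i) t) : s = t :=
  TopCat.Sheaf.eq_of_locally_eq' (F M) (fun i : Fin fs.length => PrimeSpectrum.basicOpen (fs.get i))
    V (fun i => homOfLE (hle i)) hcov s t h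

include hcov in
theorem exists_glue_cover (x : ∀ i : Fin fs.length,
      ↑((F M).presheaf.obj (op (PrimeSpectrum.basicOpen (fs.get i)))))
    (hc : ∀ i j : Fin fs.length,
      res M (inf_le_left : PrimeSpectrum.basicOpen (fs.get i) ⊓ PrimeSpectrum.basicOpen (fs.get j) ≤ _)
        (x i) =
      res M (inf_le_right : PrimeSpectrum.basicOpen (fs.get i) ⊓ PrimeSpectrum.basicOpen (fs.get j) ≤ _)
        (x j)) :
    ∃ s : ↑((F M).presheaf.obj (op V)), ∀ i, res M (hle i) s = x i := by
  obtain ⟨s, hs, -⟩ := TopCat.Sheaf.existsUnique_gluing' (F M)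
    (fun i : Fin fs.length => PrimeSpectrum.basicOpen (fs.get i))
    V (fun i => homOfLE (hle i)) hcov x (fun i j => hc i j)
  exact ⟨s, hs⟩

include hcov in
theorem hyp3 (x : ∀ i : Fin fs.length,
      ↑((F M).presheaf.obj (op (PrimeSpectrum.basicOpen (fs.get i)))))
    (h : ∀ j : Fin fs.length, ∃ (k : ℕ) (s : ↑((F M).presheaf.obj (op V))), ∀ i,
      fs.get j ^ k • x i = res M (hle i) s) :
    ∃ s : ↑((F M).presheaf.obj (op V)), ∀ i, res M (hle i) s = x i := by
  apply exists_glue_cover M fs V hle hcov x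
  intro i j
  obtain ⟨k, s, hs⟩ := h j
  have e1 := congrArg (res M (inf_le_left :
    PrimeSpectrum.basicOpen (fs.get i) ⊓ PrimeSpectrum.basicOpen (fs.get j) ≤ _)) (hs i)
  have e2 := congrArg (res M (inf_le_right :
    PrimeSpectrum.basicOpen (fs.get i) ⊓ PrimeSpectrum.basicOpen (fs.get j) ≤ _)) (hs j)
  rw [map_smul, res_res] at e1 e2
  exact pow_smul_injective_of_le M (fs.get j) _ inf_le_right k (e1.trans e2.symm)

include hle in
theorem hyp4 (m : M) (hm : eps M V m = 0) (i : Fin fs.length) :
    ∃ n : ℕ, fs.get i ^ n • m = 0 := by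
  have h1 : eps M (PrimeSpectrum.basicOpen (fs.get i)) m = 0 := by
    rw [← res_eps M (hle i), hm, map_zero]
  obtain ⟨⟨c, n, rfl⟩, hc⟩ := (IsLocalizedModule.eq_zero_iff (Submonoid.powers (fs.get i))
    (eps M (PrimeSpectrum.basicOpen (fs.get i)))).mp h1
  exact ⟨n, hc⟩

open Classical in
include hle hcov in
theorem coe_eq_zeroLocus_compl :
    (V : Set ↥(Spec (CommRingCat.of R))) =
      (PrimeSpectrum.zeroLocus (R := R) ((fs.toFinset : Finset R) : Set R))ᶜ := by
  ext x
  constructor
  · intro hx hx'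
    have := hcov hx
    obtain ⟨i, hi⟩ := Opens.mem_iSup.mp this
    exact hi (hx' (by simp))
  · intro hx
    have hx' : ¬ (((fs.toFinset : Finset R) : Set R) ⊆ (PrimeSpectrum.asIdeal x : Set R)) := hx
    rw [Set.not_subset] at hx'
    obtain ⟨f, hf, hfx⟩ := hx'
    have hf' : f ∈ fs := by simpa using hf
    obtain ⟨i, rfl⟩ := List.mem_iff_get.mp hf'
    exact hle i hfx

include hle hcov in
theorem hyp5 (s : ↑((F M).presheaf.obj (op V))) (i : Fin fs.length) :
    ∃ (n : ℕ) (m : M), fs.get i ^ n • s = eps M V m := by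
  classical
  obtain ⟨⟨m, ⟨c, n, rfl⟩⟩, hc⟩ := IsLocalizedModule.surj (Submonoid.powers (fs.get i))
    (eps M (PrimeSpectrum.basicOpen (fs.get i))) (res M (hle i) s)
  have hc' : fs.get i ^ n • res M (hle i) s = eps M (PrimeSpectrum.basicOpen (fs.get i)) m := hc
  have hW := coe_eq_zeroLocus_compl fs V hle hcov
  obtain ⟨l, hl⟩ := exists_pow_smul_eq_zero (M := M) V fs.toFinset hW (fs.get i)
    (fs.get i ^ n • s - eps M V m) (by
      intro g hg
      have h1 : res M (hle i) (fs.get i ^ n • s - eps M V m) = 0 := by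
        rw [map_sub, map_smul, hc', res_eps, sub_self]
      have := congrArg (res M (basicOpen_mul_le_left (fs.get i) g)) h1
      rw [res_res, map_zero] at this
      exact this)
  refine ⟨l + n, fs.get i ^ l • m, ?_⟩
  rw [smul_sub, sub_eq_zero, ← mul_smul, ← pow_add] at hl
  rw [hl, map_smul]

include hle hcov in
/-- Ideal transform on `Spec R`: kernel and cokernel of `M → Γ(V, M~)` for `V = ⋃ D(f_i)`. -/
theorem transformSpec :
    Nonempty (LinearMap.ker (eps M V) ≃ₗ[R] koszulHLim fs (ModuleCat.of R M) 0) ∧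
    Nonempty ((↑((F M).presheaf.obj (op V)) ⧸ LinearMap.range (eps M V)) ≃ₗ[R]
      koszulHLim fs (ModuleCat.of R M) 1) :=
  transform fs M ↑((F M).presheaf.obj (op V))
    (fun i => ↑((F M).presheaf.obj (op (PrimeSpectrum.basicOpen (fs.get i)))))
    (eps M V) (fun i => res M (hle i))
    (fun i => smul_bijective_basicOpen M (fs.get i))
    (fun s hs => sec_ext_cover M fs V hle hcov s 0 (fun i => by rw [hs i, map_zero]))
    (hyp3 M fs V hle hcov) (fun m hm i => hyp4 M fs V hle m hm i) (hyp5 M fs V hle hcov)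

include hle hcov in
theorem eps_surjective_iff :
    Function.Surjective (eps M V) ↔ Subsingleton (koszulHLim fs (ModuleCat.of R M) 1) := by
  obtain ⟨-, ⟨e⟩⟩ := transformSpec M fs V hle hcov
  rw [← LinearMap.range_eq_top, ← Submodule.Quotient.subsingleton_iff]
  exact e.toEquiv.subsingleton_congr

/-- basic open as an open of the scheme `Spec R`. -/
abbrev D (f : R) : (Spec (CommRingCat.of R)).Opens := PrimeSpectrum.basicOpen f

/-- Every quasi-compact open of `Spec R` is a finite union of basic opens. -/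
theorem exists_list_of_isCompact (hV : IsCompact (V : Set ↥(Spec (CommRingCat.of R)))) :
    ∃ fs : List R, (∀ i : Fin fs.length, PrimeSpectrum.basicOpen (fs.get i) ≤ V) ∧
      V ≤ ⨆ i : Fin fs.length, PrimeSpectrum.basicOpen (fs.get i) := by
  obtain ⟨s, hs⟩ := (PrimeSpectrum.isOpen_iff _).mp V.2
  have hmem : ∀ x : ↥(Spec (CommRingCat.of R)), x ∈ V ↔ ∃ f ∈ s, f ∉ PrimeSpectrum.asIdeal x := by
    intro x
    constructor
    · intro hx
      have : x ∉ PrimeSpectrum.zeroLocus s := by rw [← hs]; exact fun h => h hx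
      have h2 : ¬ (s ⊆ (PrimeSpectrum.asIdeal x : Set R)) := this
      rw [Set.not_subset] at h2
      obtain ⟨f, hf, hfx⟩ := h2
      exact ⟨f, hf, hfx⟩
    · rintro ⟨f, hf, hfx⟩
      by_contra hx
      have : x ∈ PrimeSpectrum.zeroLocus s := by rw [← hs]; exact hx
      exact hfx (this hf)
  have hV' : (V : Set ↥(Spec (CommRingCat.of R))) ⊆
      ⋃ f : s, ((D (f : R) : (Spec (CommRingCat.of R)).Opens) :
        Set ↥(Spec (CommRingCat.of R))) := by
    intro x hx
    obtain ⟨f, hf, hfx⟩ := (hmem x).mp hx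
    exact Set.mem_iUnion.mpr ⟨⟨f, hf⟩, hfx⟩
  obtain ⟨t, ht⟩ := hV.elim_finite_subcover
    (fun f : s => ((D (f : R) : (Spec (CommRingCat.of R)).Opens) :
        Set ↥(Spec (CommRingCat.of R))))
    (fun f => (D (f : R)).2) hV'
  refine ⟨t.toList.map (fun f : s => (f : R)), ?_, ?_⟩
  · intro i x hx
    have hm : (t.toList.map (fun f : s => (f : R))).get i ∈ t.toList.map (fun f : s => (f : R)) :=
      List.get_mem _ _
    rw [List.mem_map] at hm
    obtain ⟨f, -, hf⟩ := hm
    rw [← hf] at hx
    exact (hmem x).mpr ⟨f, f.2, hx⟩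
  · intro x hx
    obtain ⟨f, hf, hxf⟩ := Set.mem_iUnion₂.mp (ht hx)
    have hm : (f : R) ∈ t.toList.map (fun f : s => (f : R)) :=
      List.mem_map.mpr ⟨f, Finset.mem_toList.mpr hf, rfl⟩
    obtain ⟨i, hi⟩ := List.mem_iff_get.mp hm
    exact Opens.mem_iSup.mpr ⟨i, by rw [hi]; exact hxf⟩

end part1

section part2

variable {R : Type u} [CommRing R] [IsNoetherianRing R] (E : Type u) [AddCommGroup E] [Module R E]

theorem isCompact_opens (V : (Spec (CommRingCat.of R)).Opens) :
    IsCompact (V : Set ↥(Spec (CommRingCat.of R))) := by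
  haveI : NoetherianSpace ↥(Spec (CommRingCat.of R)) :=
    inferInstanceAs (NoetherianSpace (PrimeSpectrum R))
  exact NoetherianSpace.isCompact _

theorem eps_surjective_of_injective (hE : Module.Injective R E)
    (V : (Spec (CommRingCat.of R)).Opens) : Function.Surjective (eps E V) := by
  obtain ⟨fs, hle, hcov⟩ := exists_list_of_isCompact V (isCompact_opens V)
  rw [eps_surjective_iff E fs V hle hcov]
  exact Groth.Agent.S5169.result R fs E hE 1 one_pos

theorem res_surjective_of_injective (hE : Module.Injective R E)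
    {U V : (Spec (CommRingCat.of R)).Opens} (h : V ≤ U) : Function.Surjective (res E h) := by
  intro y
  obtain ⟨m, rfl⟩ := eps_surjective_of_injective E hE V y
  exact ⟨eps E U m, res_eps E h m⟩

theorem isFlasque_tilde (hE : Module.Injective R E) :
    TopCat.Sheaf.IsFlasque (Coh.toAb (tilde (R := CommRingCat.of R) (ModuleCat.of R E))) := by
  constructor
  intro U V i
  rw [AddCommGrpCat.epi_iff_surjective]
  exact res_surjective_of_injective E hE (leOfHom i.unop)

theorem isFlasque_restrict (hE : Module.Injective R E) (W : (Spec (CommRingCat.of R)).Opens) :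
    TopCat.Sheaf.IsFlasque
      (Coh.toAb ((tilde (R := CommRingCat.of R) (ModuleCat.of R E)).restrict W.ι)) := by
  constructor
  intro U V i
  rw [AddCommGrpCat.epi_iff_surjective]
  exact res_surjective_of_injective E hE (Scheme.Hom.image_mono W.ι (leOfHom i.unop))

theorem subsingleton_HH_restrict (hE : Module.Injective R E) (W : (Spec (CommRingCat.of R)).Opens)
    (n : ℕ) :
    Subsingleton (Coh.HH ↑W ((tilde (R := CommRingCat.of R) (ModuleCat.of R E)).restrict W.ι)
      (n + 1)) := by
  haveI := isFlasque_restrict E hE W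
  exact Groth.Agent.Lib.FlasqueAcyclic.subsingleton_H
    (Coh.toAb ((tilde (R := CommRingCat.of R) (ModuleCat.of R E)).restrict W.ι)) n

end part2




/-- comparing a cokernel with a quotient, for additive groups. -/
theorem nonempty_addEquiv_quotient {Y Z Y' : Type*} [AddCommGroup Y] [AddCommGroup Z]
    [AddCommGroup Y'] (d : Y →+ Z) (hd : Function.Surjective d) (e : Y ≃+ Y') (K' : AddSubgroup Y')
    (hK : ∀ y, d y = 0 ↔ e y ∈ K') : Nonempty (Z ≃+ Y' ⧸ K') := by
  have h1 : (d.ker).map e.toAddMonoidHom = K' := by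
    ext y'
    constructor
    · rintro ⟨y, hy, rfl⟩
      exact (hK y).mp hy
    · intro hy'
      refine ⟨e.symm y', ?_, by simp⟩
      show d (e.symm y') = 0
      rw [hK]
      simpa using hy'
  exact ⟨(QuotientAddGroup.quotientKerEquivOfSurjective d hd).symm.trans
    (QuotientAddGroup.congr _ _ e h1)⟩

section generic

variable (R' : CommRingCat.{u}) (S : ShortComplex (ModuleCat.{u} R'))
  (W : (Spec (CommRingCat.of R')).Opens)

/-- the short complex `S~|_W`. -/
noncomputable def sesUG : ShortComplex (↑W : Scheme.{u}).Modules :=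
  (S.map (tilde.functor R')).map (Scheme.Modules.restrictFunctor W.ι)

theorem sesUG_shortExact (hS : S.ShortExact) : (sesUG R' S W).ShortExact :=
  (hS.map_of_exact (tilde.functor R')).map_of_exact (Scheme.Modules.restrictFunctor W.ι)

end generic

section part3

variable {R : Type u} [CommRing R]
variable {M₁ M₂ M₃ : Type u} [AddCommGroup M₁] [Module R M₁] [AddCommGroup M₂] [Module R M₂]
  [AddCommGroup M₃] [Module R M₃]
  (f : M₁ →ₗ[R] M₂) (g : M₂ →ₗ[R] M₃)
  (W : (Spec (CommRingCat.of R)).Opens)

/-- The sheaf `M~|_W`. -/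
noncomputable abbrev G (M : Type u) [AddCommGroup M] [Module R M] : (↑W : Scheme.{u}).Modules :=
  (tilde (R := CommRingCat.of R) (ModuleCat.of R M)).restrict W.ι

/-- the short complex `M₁~|_W → M₂~|_W → M₃~|_W`. -/
noncomputable abbrev sesU (hfg : Function.Exact f g) : ShortComplex (↑W : Scheme.{u}).Modules :=
  sesUG (CommRingCat.of R) (ses f g hfg) W

variable (hf : Function.Injective f) (hfg : Function.Exact f g) (hg : Function.Surjective g)

include hf hg in
theorem sesU_shortExact : (sesU f g W hfg).ShortExact :=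
  sesUG_shortExact (CommRingCat.of R) (ses f g hfg) W (ses_shortExact f g hf hfg hg)

example (hfg : Function.Exact f g) : (sesU f g W hfg).X₁ = G W M₁ := rfl
example (hfg : Function.Exact f g) : (sesU f g W hfg).X₂ = G W M₂ := rfl
example (hfg : Function.Exact f g) : (sesU f g W hfg).X₃ = G W M₃ := rfl

end part3




section part4

variable {R : Type u} [CommRing R]
variable {M₁ M₂ M₃ : Type u} [AddCommGroup M₁] [Module R M₁] [AddCommGroup M₂] [Module R M₂]
  [AddCommGroup M₃] [Module R M₃]
  (f : M₁ →ₗ[R] M₂) (g : M₂ →ₗ[R] M₃)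
  (W : (Spec (CommRingCat.of R)).Opens)

theorem app_eps (φ : M₂ →ₗ[R] M₃) (V : (Spec (CommRingCat.of R)).Opens) (e : M₂) :
    (tilde.map (R := CommRingCat.of R) (ModuleCat.ofHom φ)).app V (eps M₂ V e) = eps M₃ V (φ e) := by
  have := tilde.toOpen_map_app (R := CommRingCat.of R) (ModuleCat.ofHom φ) V
  exact congr($this e)

theorem sesU_g_app (hfg : Function.Exact f g) (U : (↑W : Scheme.{u}).Opens) (e : M₂) :
    (sesU f g W hfg).g.app U (eps M₂ (W.ι ''ᵁ U) e) = eps M₃ (W.ι ''ᵁ U) (g e) :=
  app_eps g (W.ι ''ᵁ U) e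

variable [IsNoetherianRing R] (fs : List R)
  (hle : ∀ i : Fin fs.length, PrimeSpectrum.basicOpen (fs.get i) ≤ W.ι ''ᵁ ⊤)
  (hcov : W.ι ''ᵁ ⊤ ≤ ⨆ i : Fin fs.length, PrimeSpectrum.basicOpen (fs.get i))

include hle hcov in
theorem main : ∀ (p : ℕ) (M : Type u) [AddCommGroup M] [Module R M],
    Nonempty (Coh.HH ↑W (G W M) (p + 1) ≃+ LocCoh.H (Ideal.span {a : R | a ∈ fs}) (p + 2) M) := by
  intro p
  induction p with
  | zero =>
    intro M _ _
    set I : Ideal R := Ideal.span {a : R | a ∈ fs} with hI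
    let X : ModuleCat.{u} R := ModuleCat.of R M
    let E : ModuleCat.{u} R := Injective.under X
    have hinj : CategoryTheory.Injective (ModuleCat.of R ↑E) := Injective.injective_under X
    have hE : Module.Injective R ↑E :=
      @Module.injective_module_of_injective_object R ↑E _ _ _ hinj
    let f : M →ₗ[R] E := (Injective.ι X).hom
    have hf : Function.Injective f := (ModuleCat.mono_iff_injective (Injective.ι X)).mp inferInstance
    let g : E →ₗ[R] (E ⧸ LinearMap.range f) := (LinearMap.range f).mkQ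
    have hg : Function.Surjective g := Submodule.mkQ_surjective _
    have hfg : Function.Exact f g := LinearMap.exact_iff.mpr (by rw [Submodule.ker_mkQ])
    have hS : (sesU f g W hfg).ShortExact := sesU_shortExact f g W hf hfg hg
    haveI h1 : Subsingleton (Coh.HH ↑W (sesU f g W hfg).X₂ 1) := subsingleton_HH_restrict E hE W 0
    have hδ : Function.Surjective (δ hS 0) := δ_surjective_zero hS
    obtain ⟨-, ⟨eT⟩⟩ := transformSpec (E ⧸ LinearMap.range f) fs (W.ι ''ᵁ ⊤) hle hcov
    let e0 : Coh.HH ↑W (sesU f g W hfg).X₃ 0 ≃+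
        ↑((F (E ⧸ LinearMap.range f)).presheaf.obj (op (W.ι ''ᵁ ⊤))) := h0Equiv (sesU f g W hfg).X₃
    have hK : ∀ y, δ hS 0 y = 0 ↔
        e0 y ∈ (LinearMap.range (eps (E ⧸ LinearMap.range f) (W.ι ''ᵁ ⊤))).toAddSubgroup := by
      intro y
      constructor
      · intro hy
        obtain ⟨x, rfl⟩ := exact₃ hS 0 y hy
        obtain ⟨e, he⟩ := eps_surjective_of_injective E hE (W.ι ''ᵁ ⊤)
          (h0Equiv (sesU f g W hfg).X₂ x)
        refine ⟨g e, ?_⟩
        show _ = h0Equiv (sesU f g W hfg).X₃ (map (sesU f g W hfg).g 0 x)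
        rw [h0Equiv_map, ← he]
        exact (sesU_g_app f g W hfg ⊤ e).symm
      · rintro ⟨q, hq⟩
        obtain ⟨e, rfl⟩ := hg q
        have h2 : y = map (sesU f g W hfg).g 0
            ((h0Equiv (sesU f g W hfg).X₂).symm (eps E (W.ι ''ᵁ ⊤) e)) := by
          apply (h0Equiv (sesU f g W hfg).X₃).injective
          rw [h0Equiv_map, AddEquiv.apply_symm_apply]
          exact hq.symm.trans (sesU_g_app f g W hfg ⊤ e).symm
        rw [h2, δ_map_g]
    obtain ⟨e1⟩ := nonempty_addEquiv_quotient (δ hS 0) hδ e0 _ hK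
    obtain ⟨e2⟩ := Groth.Agent.S5173.result R fs (E ⧸ LinearMap.range f) 1
    haveI : Subsingleton (LocCoh.H I 1 E) := subsingleton_H_of_injective I E hE 1 one_pos
    haveI : Subsingleton (LocCoh.H I (1 + 1) E) := subsingleton_H_of_injective I E hE 2 two_pos
    let e3 := LinearEquiv.ofBijective (Hδ I f g hf hfg hg 1)
      (Hδ_bijective_of_subsingleton_middle I f g hf hfg hg 1)
    exact ⟨e1.trans (eT.toAddEquiv.trans (e2.symm.toAddEquiv.trans e3.toAddEquiv))⟩
  | succ p ih =>
    intro M _ _
    set I : Ideal R := Ideal.span {a : R | a ∈ fs} with hI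
    let X : ModuleCat.{u} R := ModuleCat.of R M
    let E : ModuleCat.{u} R := Injective.under X
    have hinj : CategoryTheory.Injective (ModuleCat.of R ↑E) := Injective.injective_under X
    have hE : Module.Injective R ↑E :=
      @Module.injective_module_of_injective_object R ↑E _ _ _ hinj
    let f : M →ₗ[R] E := (Injective.ι X).hom
    have hf : Function.Injective f := (ModuleCat.mono_iff_injective (Injective.ι X)).mp inferInstance
    let g : E →ₗ[R] (E ⧸ LinearMap.range f) := (LinearMap.range f).mkQ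
    have hg : Function.Surjective g := Submodule.mkQ_surjective _
    have hfg : Function.Exact f g := LinearMap.exact_iff.mpr (by rw [Submodule.ker_mkQ])
    have hS : (sesU f g W hfg).ShortExact := sesU_shortExact f g W hf hfg hg
    haveI h1 : Subsingleton (Coh.HH ↑W (sesU f g W hfg).X₂ (p + 1)) :=
      subsingleton_HH_restrict E hE W p
    haveI h2 : Subsingleton (Coh.HH ↑W (sesU f g W hfg).X₂ (p + 2)) :=
      subsingleton_HH_restrict E hE W (p + 1)
    let e1 : Coh.HH ↑W (sesU f g W hfg).X₃ (p + 1) ≃+ Coh.HH ↑W (sesU f g W hfg).X₁ (p + 2) :=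
      AddEquiv.ofBijective (δ hS (p + 1)) (δ_bijective hS p)
    obtain ⟨e2⟩ := ih (E ⧸ LinearMap.range f)
    haveI : Subsingleton (LocCoh.H I (p + 2) E) :=
      subsingleton_H_of_injective I E hE (p + 2) (Nat.succ_pos _)
    haveI : Subsingleton (LocCoh.H I (p + 2 + 1) E) :=
      subsingleton_H_of_injective I E hE (p + 3) (Nat.succ_pos _)
    let e3 := LinearEquiv.ofBijective (Hδ I f g hf hfg hg (p + 2))
      (Hδ_bijective_of_subsingleton_middle I f g hf hfg hg (p + 2))
    exact ⟨e1.symm.trans (e2.trans e3.toAddEquiv)⟩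

end part4


end Groth.Agent.Lib.PuncturedCoh9
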