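import Groth.Agent.Lib.PuncturedCoh9
import Groth.Agent.Lib.TildePullback
import Groth.Agent.S0012
import Groth.Agent.S0007

/-!
# `H^q(W, M~|_W)` versus the colimit of Koszul cohomology, for arbitrary commutative rings (helper9)

Continuation of `Lib/PuncturedCoh9` (same namespace).  No Noetherian hypothesis.

* `tildeRestrictScalarsIso φ N' : ((restrictScalars φ) N')~ ≅ (Spec φ)_* (N'~)`;
  `subsingleton_HH_restrict_pushforward`; `isoRestrictScalars`.
* `Acyc W N` (`N~|_W` has no higher cohomology): `Acyc.of_equiv`, `Acyc.of_exact`,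
  `acyc_localizedModule` (`M_f` for `D(f) ≤ W`), `acyc_of_subsingleton`, `acyc_pi`, `acyc_of_torsion`.
* `eq_zero_of_torsion` : sections of `T~` over opens inside `⋃ D(f_i)` vanish for `(f_i)`-torsion `T`.
* `Kδ_bijective`, `Kmap_g_bijective`, `map_g_bijective`; dimension shifting steps `step_zero`,
  `step_succ`, `step_quot`.
* `main2` : `H^{q+1}(W, M~|_W) ≃+ koszulHLim fs M (q+2)` for `W = ⋃ D(f_i) ⊆ Spec R`, any ring `R`.
-/

set_option autoImplicit false
universe u

namespace Groth.Agent.Lib.PuncturedCoh9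

open AlgebraicGeometry CategoryTheory TopologicalSpace Opposite CohIII
open Groth.Agent.Lib.TildePunct97 Groth.Agent.Lib.KoszulLim9
open Groth.Agent.Lib.LocCohLES Groth.Agent.Lib.CohLES
open Groth.Agent.Lib.H4Twist



section pushA

variable {A B : CommRingCat.{u}} (φ : A ⟶ B)

/-- `(restrictScalars N')~ ≅ (Spec φ)_* (N'~)`. -/
noncomputable def tildeRestrictScalarsIso (N' : ModuleCat.{u} B) :
    tilde ((ModuleCat.restrictScalars φ.hom).obj N') ≅
      (Scheme.Modules.pushforward (Spec.map φ)).obj (tilde N') := by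
  let P : (Spec (CommRingCat.of A)).Modules := (Scheme.Modules.pushforward (Spec.map φ)).obj (tilde N')
  have hP : IsIso P.fromTildeΓ := isIso_fromTildeΓ_pushforward φ (tilde N')
  let e0 : moduleSpecΓFunctor.obj P ≅ (ModuleCat.restrictScalars φ.hom).obj N' :=
    (Groth.Agent.Lib.TildePullback.pushforwardΓIso φ).app (tilde N') ≪≫
      (ModuleCat.restrictScalars φ.hom).mapIso ((tilde.toTildeΓNatIso (R := B)).app N').symm
  exact (tilde.functor A).mapIso e0.symm ≪≫ (@asIso _ _ _ _ P.fromTildeΓ hP)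

/-- cohomology on `W` of the restriction of a pushforward from an affine scheme mapping into `W`. -/
theorem subsingleton_HH_restrict_pushforward (W : (Spec A).Opens)
    (hW : Set.range (Spec.map φ).base ⊆ (W : Set ↥(Spec A)))
    (K : (Spec B).Modules) [K.IsQuasicoherent] (q : ℕ) :
    Subsingleton (Coh.HH ↑W (((Scheme.Modules.pushforward (Spec.map φ)).obj K).restrict W.ι)
      (q + 1)) := by
  let j : Spec B ⟶ ↑W := IsOpenImmersion.lift W.ι (Spec.map φ) (by
    rw [Scheme.Opens.range_ι]; exact hW)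
  have hj : j ≫ W.ι = Spec.map φ := IsOpenImmersion.lift_fac _ _ _
  haveI : IsAffineHom (j ≫ W.ι) := by rw [hj]; infer_instance
  haveI : IsAffineHom j := IsAffineHom.of_comp j W.ι
  let e : ((Scheme.Modules.pushforward (Spec.map φ)).obj K).restrict W.ι ≅
      (Scheme.Modules.pushforward j).obj K :=
    (Scheme.Modules.restrictFunctor W.ι).mapIso
      (((Scheme.Modules.pushforwardCongr hj).symm.app K) ≪≫
        ((Scheme.Modules.pushforwardComp j W.ι).symm.app K)) ≪≫
      (Scheme.Modules.restrictFunctorAdjCounitIso W.ι).app _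
  haveI : Coh.IsQCoh K := ‹K.IsQuasicoherent›
  obtain ⟨e2⟩ := Groth.Agent.S0012.result j K (q + 1)
  haveI := Groth.Agent.S0007.result (Spec B) K (q + 1) (Nat.succ_pos q)
  haveI : Subsingleton (Coh.HH ↑W ((Scheme.Modules.pushforward j).obj K) (q + 1)) :=
    e2.symm.toEquiv.subsingleton
  exact subsingleton_of_iso e (q + 1)

end pushA

set_option backward.isDefEq.respectTransparency false in
/-- a module over an `R`-algebra `B`, viewed over `R`, is its restriction of scalars. -/
noncomputable def isoRestrictScalars {R B : Type u} [CommRing R] [CommRing B] [Algebra R B]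
    (X : Type u) [AddCommGroup X] [Module R X] [Module B X] [IsScalarTower R B X] :
    ModuleCat.of R X ≅ (ModuleCat.restrictScalars (algebraMap R B)).obj (ModuleCat.of B X) :=
  LinearEquiv.toModuleIso (X₁ := ModuleCat.of R X)
    (X₂ := (ModuleCat.restrictScalars (algebraMap R B)).obj (ModuleCat.of B X))
    { __ := AddEquiv.refl _
      map_smul' := fun r x => (algebraMap_smul B r x).symm }

section acyc

variable {R : Type u} [CommRing R] (W : (Spec (CommRingCat.of R)).Opens)

/-- `N~|_W` has no higher cohomology. -/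
def Acyc (N : Type u) [AddCommGroup N] [Module R N] : Prop :=
  ∀ q : ℕ, Subsingleton (Coh.HH ↑W (G W N) (q + 1))

variable {W}

theorem Acyc.of_equiv {N N' : Type u} [AddCommGroup N] [Module R N] [AddCommGroup N'] [Module R N']
    (e : N ≃ₗ[R] N') (h : Acyc W N') : Acyc W N := by
  intro q
  exact @subsingleton_of_iso _ _ _ ((Scheme.Modules.restrictFunctor W.ι).mapIso
    ((tilde.functor (CommRingCat.of R)).mapIso e.toModuleIso)) (q + 1) (h q)

theorem Acyc.of_exact {M₁ M₂ M₃ : Type u} [AddCommGroup M₁] [Module R M₁] [AddCommGroup M₂]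
    [Module R M₂] [AddCommGroup M₃] [Module R M₃] (f : M₁ →ₗ[R] M₂) (g : M₂ →ₗ[R] M₃)
    (hf : Function.Injective f) (hfg : Function.Exact f g) (hg : Function.Surjective g)
    (h1 : Acyc W M₁) (h3 : Acyc W M₃) : Acyc W M₂ := by
  intro q
  have hS := sesU_shortExact f g W hf hfg hg
  haveI : Subsingleton (Coh.HH ↑W (sesU f g W hfg).X₁ (q + 1)) := h1 q
  haveI : Subsingleton (Coh.HH ↑W (sesU f g W hfg).X₃ (q + 1)) := h3 q
  exact subsingleton_mid hS (q + 1)

theorem acyc_localizedModule (f : R) (hf : PrimeSpectrum.basicOpen f ≤ W)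
    (M : Type u) [AddCommGroup M] [Module R M] :
    Acyc W (LocalizedModule (Submonoid.powers f) M) := by
  intro q
  let B := Localization (Submonoid.powers f)
  let φ : CommRingCat.of R ⟶ CommRingCat.of B := CommRingCat.ofHom (algebraMap R B)
  let N' : ModuleCat.{u} (CommRingCat.of B) :=
    ModuleCat.of B (LocalizedModule (Submonoid.powers f) M)
  have hW : Set.range (Spec.map φ).base ⊆ (W : Set ↥(Spec (CommRingCat.of R))) := by
    have : Set.range (Spec.map φ).base =
        ((D f : (Spec (CommRingCat.of R)).Opens) : Set ↥(Spec (CommRingCat.of R))) :=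
      PrimeSpectrum.localization_away_comap_range B f
    rw [this]
    exact hf
  have hsub := subsingleton_HH_restrict_pushforward φ W hW (tilde N') q
  let e0 : ModuleCat.of R (LocalizedModule (Submonoid.powers f) M) ≅
      (ModuleCat.restrictScalars φ.hom).obj N' :=
    isoRestrictScalars (R := R) (B := B) (LocalizedModule (Submonoid.powers f) M)
  exact @subsingleton_of_iso _ _ _ ((Scheme.Modules.restrictFunctor W.ι).mapIso
    ((tilde.functor (CommRingCat.of R)).mapIso e0 ≪≫ tildeRestrictScalarsIso φ N')) (q + 1) hsub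

end acyc




section generic2

theorem tilde_map_zero (R' : CommRingCat.{u}) (X Y : ModuleCat.{u} R') :
    (tilde.functor R').map (0 : X ⟶ Y) = 0 := Functor.map_zero _ _ _

end generic2

section acyc2

variable {R : Type u} [CommRing R] {W : (Spec (CommRingCat.of R)).Opens}

theorem subsingleton_HH_of_id_eq_zero {X : Scheme.{u}} (F : X.Modules) (h : 𝟙 F = 0) (q : ℕ) :
    Subsingleton (Coh.HH X F q) := by
  refine subsingleton_of_forall_eq 0 fun x => ?_
  rw [← map_id F q x, h, map_zero']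

theorem acyc_of_subsingleton (N : Type u) [AddCommGroup N] [Module R N] [Subsingleton N] :
    Acyc W N := by
  intro q
  apply subsingleton_HH_of_id_eq_zero
  have h1 : 𝟙 (ModuleCat.of R N) = 0 := by
    apply ModuleCat.hom_ext
    ext z
    exact Subsingleton.elim _ _
  have h2 : 𝟙 (tilde (R := CommRingCat.of R) (ModuleCat.of R N)) = 0 := by
    have e1 := (tilde.functor (CommRingCat.of R)).map_id (ModuleCat.of R N)
    have e2 := tilde_map_zero (CommRingCat.of R) (ModuleCat.of R N) (ModuleCat.of R N)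
    rw [h1] at e1
    exact e1.symm.trans e2
  show 𝟙 ((Scheme.Modules.restrictFunctor W.ι).obj _) = 0
  rw [← (Scheme.Modules.restrictFunctor W.ι).map_id, h2, Functor.map_zero]

theorem acyc_pi : ∀ (r : ℕ) (N : Fin r → Type u) [∀ i, AddCommGroup (N i)]
    [∀ i, Module R (N i)], (∀ i, Acyc W (N i)) → Acyc W (∀ i, N i)
  | 0, N, _, _, _ => acyc_of_subsingleton _
  | r + 1, N, _, _, h => by
    let π : (∀ i, N i) →ₗ[R] (∀ i : Fin r, N i.succ) :=
      { toFun := fun x i => x i.succ
        map_add' := fun _ _ => rfl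
        map_smul' := fun _ _ => rfl }
    have hπ : Function.Surjective π := fun y => ⟨Fin.cons 0 y, by ext i; simp [π]⟩
    let e : LinearMap.ker π ≃ₗ[R] N 0 :=
      { toFun := fun x => x.1 0
        map_add' := fun _ _ => rfl
        map_smul' := fun _ _ => rfl
        invFun := fun z => ⟨Fin.cons z 0, by ext i; simp [π]⟩
        left_inv := fun x => by
          apply Subtype.ext
          funext i
          refine Fin.cases ?_ (fun j => ?_) i
          · simp
          · have hx : π x.1 = 0 := x.2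
            have h0 : x.1 j.succ = 0 := congrFun hx j
            show (Fin.cons (x.1 0) 0 : ∀ i, N i) j.succ = x.1 j.succ
            rw [h0, Fin.cons_succ]
            rfl
        right_inv := fun z => by simp }
    exact Acyc.of_exact (LinearMap.ker π).subtype π (Submodule.injective_subtype _)
      (LinearMap.exact_subtype_ker_map π) hπ (Acyc.of_equiv e (h 0))
      (acyc_pi r (fun i => N i.succ) (fun i => h i.succ))

end acyc2




section torsion

variable {R : Type u} [CommRing R] (T : Type u) [AddCommGroup T] [Module R T]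

/-- sections of `T~` over an open inside `D(f)` vanish when `T` is `f`-power torsion. -/
theorem eq_zero_of_torsion_of_le (f : R) (hT : ∀ t : T, ∃ k : ℕ, f ^ k • t = 0)
    (V : (Spec (CommRingCat.of R)).Opens) (hV : V ≤ PrimeSpectrum.basicOpen f)
    (s : ↑((F T).presheaf.obj (op V))) : s = 0 := by
  apply sec_ext T s 0
  intro g hg
  rw [map_zero]
  set y := res T hg s with hy
  obtain ⟨⟨t, ⟨c, n, rfl⟩⟩, hc⟩ := IsLocalizedModule.surj (Submonoid.powers g)
    (eps T (PrimeSpectrum.basicOpen g)) y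
  have hc' : g ^ n • y = eps T (PrimeSpectrum.basicOpen g) t := hc
  obtain ⟨k, hk⟩ := hT t
  have h1 : f ^ k • (g ^ n • y) = 0 := by
    rw [hc', ← map_smul, hk, map_zero]
  have h2 : g ^ n • y = 0 := by
    apply pow_smul_injective_of_le T f _ (hg.trans hV) k
    show f ^ k • (g ^ n • y) = f ^ k • 0
    rw [h1, smul_zero]
  apply pow_smul_injective_of_le T g _ le_rfl n
  show g ^ n • y = g ^ n • 0
  rw [h2, smul_zero]

theorem eq_zero_of_torsion (fs : List R) (hT : ∀ g ∈ fs, ∀ t : T, ∃ k : ℕ, g ^ k • t = 0)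
    (V : (Spec (CommRingCat.of R)).Opens)
    (hV : V ≤ ⨆ i : Fin fs.length, PrimeSpectrum.basicOpen (fs.get i))
    (s : ↑((F T).presheaf.obj (op V))) : s = 0 := by
  apply TopCat.Sheaf.eq_of_locally_eq' (F T)
    (fun i : Fin fs.length => V ⊓ PrimeSpectrum.basicOpen (fs.get i)) V
    (fun i => homOfLE inf_le_left) ?_ s 0
  · intro i
    rw [map_zero]
    exact eq_zero_of_torsion_of_le T (fs.get i) (hT _ (List.get_mem fs i)) _ inf_le_right _
  · intro x hx
    obtain ⟨i, hi⟩ := Opens.mem_iSup.mp (hV hx)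
    exact Opens.mem_iSup.mpr ⟨i, ⟨hx, hi⟩⟩

theorem acyc_of_torsion (fs : List R) (hT : ∀ g ∈ fs, ∀ t : T, ∃ k : ℕ, g ^ k • t = 0)
    (W : (Spec (CommRingCat.of R)).Opens)
    (hcov : W.ι ''ᵁ ⊤ ≤ ⨆ i : Fin fs.length, PrimeSpectrum.basicOpen (fs.get i)) :
    Acyc W T := by
  intro q
  apply subsingleton_HH_of_id_eq_zero
  apply Scheme.Modules.hom_ext
  intro U
  rw [Scheme.Modules.Hom.id_app, Scheme.Modules.Hom.zero_app]
  ext x
  have hU : W.ι ''ᵁ U ≤ ⨆ i : Fin fs.length, PrimeSpectrum.basicOpen (fs.get i) :=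
    (Scheme.Hom.image_mono W.ι le_top).trans hcov
  have h1 := eq_zero_of_torsion T fs hT (W.ι ''ᵁ U) hU x
  have h2 := eq_zero_of_torsion T fs hT (W.ι ''ᵁ U) hU 0
  exact h1.trans h2.symm

end torsion




section Kside

variable {A : Type u} [CommRing A] (fs : List A)
variable {M₁ M₂ M₃ : Type u} [AddCommGroup M₁] [Module A M₁] [AddCommGroup M₂] [Module A M₂]
  [AddCommGroup M₃] [Module A M₃]
  (f : M₁ →ₗ[A] M₂) (g : M₂ →ₗ[A] M₃)
  (hf : Function.Injective f) (hfg : Function.Exact f g) (hg : Function.Surjective g)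

theorem Kδ_bijective (p : ℕ) (h1 : Subsingleton (koszulHLim fs (ModuleCat.of A M₂) p))
    (h2 : Subsingleton (koszulHLim fs (ModuleCat.of A M₂) (p + 1))) :
    Function.Bijective (Kδ fs (sesL f g hfg) (sesL_shortExact f g hf hfg hg) p) := by
  constructor
  · rw [injective_iff_map_eq_zero]
    intro y hy
    obtain ⟨z, rfl⟩ := (KoszulLim9.exact₃ fs (sesL f g hfg) (sesL_shortExact f g hf hfg hg) p y).mp hy
    rw [Subsingleton.elim z 0, map_zero]
  · intro y
    exact (KoszulLim9.exact₁ fs (sesL f g hfg) (sesL_shortExact f g hf hfg hg) p y).mp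
      (Subsingleton.elim _ _)

include hf hfg hg in
theorem Kmap_g_bijective (p : ℕ) (h1 : Subsingleton (koszulHLim fs (ModuleCat.of A M₁) p))
    (h2 : Subsingleton (koszulHLim fs (ModuleCat.of A M₁) (p + 1))) :
    Function.Bijective (Kmap fs (ModuleCat.ofHom g) p) := by
  constructor
  · rw [injective_iff_map_eq_zero]
    intro y hy
    obtain ⟨z, rfl⟩ := (exact₂' fs f g hf hfg hg p y).mp hy
    rw [Subsingleton.elim z 0, map_zero]
  · intro y
    exact (KoszulLim9.exact₃ fs (sesL f g hfg) (sesL_shortExact f g hf hfg hg) p y).mp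
      (Subsingleton.elim _ _)

end Kside

section Hside

variable {X : Scheme.{u}} {S : ShortComplex X.Modules}

theorem map_g_bijective (hS : S.ShortExact) (q : ℕ) [Subsingleton (Coh.HH X S.X₁ (q + 1))]
    [Subsingleton (Coh.HH X S.X₁ (q + 2))] : Function.Bijective (map S.g (q + 1)) := by
  constructor
  · rw [injective_iff_map_eq_zero]
    intro y hy
    obtain ⟨z, rfl⟩ := CohLES.exact₂ hS (q + 1) y hy
    rw [Subsingleton.elim z 0, map_zero]
  · exact map_g_surjective hS (q + 1)

end Hside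

section steps

variable {R : Type u} [CommRing R] (W : (Spec (CommRingCat.of R)).Opens)
variable {M₁ M₂ M₃ : Type u} [AddCommGroup M₁] [Module R M₁] [AddCommGroup M₂] [Module R M₂]
  [AddCommGroup M₃] [Module R M₃]
  (f : M₁ →ₗ[R] M₂) (g : M₂ →ₗ[R] M₃)
  (hf : Function.Injective f) (hfg : Function.Exact f g) (hg : Function.Surjective g)

include hf hfg hg in
/-- base step of dimension shifting: `H^1(W, M₁~) = Γ(W, M₃~)/im M₃` when `M₂~|_W` has no `H^1` and
`M₂ → Γ(W, M₂~)` is onto. -/
theorem step_zero (h1 : Subsingleton (Coh.HH ↑W (G W M₂) 1))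
    (hsurj : Function.Surjective (eps M₂ (W.ι ''ᵁ ⊤))) :
    Nonempty (Coh.HH ↑W (G W M₁) 1 ≃+
      (↑((F M₃).presheaf.obj (op (W.ι ''ᵁ ⊤))) ⧸ LinearMap.range (eps M₃ (W.ι ''ᵁ ⊤)))) := by
  have hS : (sesU f g W hfg).ShortExact := sesU_shortExact f g W hf hfg hg
  haveI : Subsingleton (Coh.HH ↑W (sesU f g W hfg).X₂ 1) := h1
  have hδ : Function.Surjective (δ hS 0) := δ_surjective_zero hS
  let e0 : Coh.HH ↑W (sesU f g W hfg).X₃ 0 ≃+
      ↑((F M₃).presheaf.obj (op (W.ι ''ᵁ ⊤))) := h0Equiv (sesU f g W hfg).X₃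
  have hK : ∀ y, δ hS 0 y = 0 ↔
      e0 y ∈ (LinearMap.range (eps M₃ (W.ι ''ᵁ ⊤))).toAddSubgroup := by
    intro y
    constructor
    · intro hy
      obtain ⟨x, rfl⟩ := CohLES.exact₃ hS 0 y hy
      obtain ⟨e, he⟩ := hsurj (h0Equiv (sesU f g W hfg).X₂ x)
      refine ⟨g e, ?_⟩
      show _ = h0Equiv (sesU f g W hfg).X₃ (map (sesU f g W hfg).g 0 x)
      rw [h0Equiv_map, ← he]
      exact (sesU_g_app f g W hfg ⊤ e).symm
    · rintro ⟨q, hq⟩
      obtain ⟨e, rfl⟩ := hg q
      have h2 : y = map (sesU f g W hfg).g 0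
          ((h0Equiv (sesU f g W hfg).X₂).symm (eps M₂ (W.ι ''ᵁ ⊤) e)) := by
        apply (h0Equiv (sesU f g W hfg).X₃).injective
        rw [h0Equiv_map, AddEquiv.apply_symm_apply]
        exact hq.symm.trans (sesU_g_app f g W hfg ⊤ e).symm
      rw [h2, δ_map_g]
  exact nonempty_addEquiv_quotient (δ hS 0) hδ e0 _ hK

include hf hfg hg in
theorem step_succ (p : ℕ) (h1 : Subsingleton (Coh.HH ↑W (G W M₂) (p + 1)))
    (h2 : Subsingleton (Coh.HH ↑W (G W M₂) (p + 2))) :
    Nonempty (Coh.HH ↑W (G W M₁) (p + 2) ≃+ Coh.HH ↑W (G W M₃) (p + 1)) := by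
  have hS : (sesU f g W hfg).ShortExact := sesU_shortExact f g W hf hfg hg
  haveI : Subsingleton (Coh.HH ↑W (sesU f g W hfg).X₂ (p + 1)) := h1
  haveI : Subsingleton (Coh.HH ↑W (sesU f g W hfg).X₂ (p + 2)) := h2
  let e1 : Coh.HH ↑W (sesU f g W hfg).X₃ (p + 1) ≃+ Coh.HH ↑W (sesU f g W hfg).X₁ (p + 2) :=
    AddEquiv.ofBijective (δ hS (p + 1)) (δ_bijective hS p)
  exact ⟨e1.symm⟩

include hf hfg hg in
/-- killing a kernel with acyclic `~`. -/
theorem step_quot (p : ℕ) (h1 : Subsingleton (Coh.HH ↑W (G W M₁) (p + 1)))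
    (h2 : Subsingleton (Coh.HH ↑W (G W M₁) (p + 2))) :
    Nonempty (Coh.HH ↑W (G W M₂) (p + 1) ≃+ Coh.HH ↑W (G W M₃) (p + 1)) := by
  have hS : (sesU f g W hfg).ShortExact := sesU_shortExact f g W hf hfg hg
  haveI : Subsingleton (Coh.HH ↑W (sesU f g W hfg).X₁ (p + 1)) := h1
  haveI : Subsingleton (Coh.HH ↑W (sesU f g W hfg).X₁ (p + 2)) := h2
  exact ⟨AddEquiv.ofBijective (map (sesU f g W hfg).g (p + 1)) (map_g_bijective hS p)⟩

end steps




section main2

variable {R : Type u} [CommRing R] (W : (Spec (CommRingCat.of R)).Opens) (fs : List R)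
  (hle : ∀ i : Fin fs.length, PrimeSpectrum.basicOpen (fs.get i) ≤ W.ι ''ᵁ ⊤)
  (hcov : W.ι ''ᵁ ⊤ ≤ ⨆ i : Fin fs.length, PrimeSpectrum.basicOpen (fs.get i))

/-- the product of the localizations `M_{f_i}`. -/
abbrev CC (M : Type u) [AddCommGroup M] [Module R M] : Type u :=
  ∀ i : Fin fs.length, LocalizedModule (Submonoid.powers (fs.get i)) M

/-- the diagonal map `M → ∏ M_{f_i}`. -/
noncomputable def φC (M : Type u) [AddCommGroup M] [Module R M] : M →ₗ[R] CC fs M :=
  LinearMap.pi (fun i => LocalizedModule.mkLinearMap (Submonoid.powers (fs.get i)) M)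

variable (M : Type u) [AddCommGroup M] [Module R M]

theorem torsion_ker : ∀ g ∈ fs, ∀ t : LinearMap.ker (φC fs M), ∃ k : ℕ, g ^ k • t = 0 := by
  intro g hg t
  obtain ⟨i, rfl⟩ := List.mem_iff_get.mp hg
  have h1 : LocalizedModule.mkLinearMap (Submonoid.powers (fs.get i)) M t.1 = 0 :=
    congrFun t.2 i
  obtain ⟨⟨c, k, rfl⟩, hc⟩ := (IsLocalizedModule.eq_zero_iff (Submonoid.powers (fs.get i))
    (LocalizedModule.mkLinearMap (Submonoid.powers (fs.get i)) M)).mp h1
  exact ⟨k, Subtype.ext hc⟩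

theorem smul_bijective_localizedModule (f : R) :
    Function.Bijective (fun x : LocalizedModule (Submonoid.powers f) M => f • x) := by
  have h := IsLocalizedModule.map_units (S := Submonoid.powers f)
    (LocalizedModule.mkLinearMap (Submonoid.powers f) M) ⟨f, Submonoid.mem_powers f⟩
  rw [Module.End.isUnit_iff] at h
  exact h

theorem subsingleton_K_CC (p : ℕ) :
    Subsingleton (koszulHLim fs (ModuleCat.of R (CC fs M)) p) :=
  subsingleton_pi fs fs.length
    (fun i => LocalizedModule (Submonoid.powers (fs.get i)) M)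
    (fun i => ⟨fs.get i, List.get_mem fs i, smul_bijective_localizedModule M (fs.get i)⟩) p

include hle in
theorem acyc_CC : Acyc W (CC fs M) := by
  apply acyc_pi
  intro i
  apply acyc_localizedModule
  have := hle i
  rwa [Scheme.Opens.ι_image_top] at this

include hle hcov in
theorem eps_CC_surjective : Function.Surjective (eps (CC fs M) (W.ι ''ᵁ ⊤)) := by
  rw [eps_surjective_iff (CC fs M) fs (W.ι ''ᵁ ⊤) hle hcov]
  exact subsingleton_K_CC fs M 1

include hle hcov in
/-- **`H^{q+1}(W, M~|_W) ≃ colim Koszul H^{q+2}`** for an arbitrary commutative ring `R` and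
`W = ⋃ D(f_i)`. -/
theorem main2 : ∀ (q : ℕ) (M : Type u) [AddCommGroup M] [Module R M],
    Nonempty (Coh.HH ↑W (G W M) (q + 1) ≃+ koszulHLim fs (ModuleCat.of R M) (q + 2)) := by
  intro q
  induction q with
  | zero =>
    intro M _ _
    -- the torsion kernel
    let T := LinearMap.ker (φC fs M)
    have hT := torsion_ker fs M
    have hAT : Acyc W T := acyc_of_torsion T fs hT W hcov
    have hKT : ∀ p, 0 < p → Subsingleton (koszulHLim fs (ModuleCat.of R T) p) :=
      fun p hp => subsingleton_of_torsion fs T hT p hp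
    let f₀ : T →ₗ[R] M := T.subtype
    let g₀ : M →ₗ[R] (M ⧸ T) := T.mkQ
    have hf₀ : Function.Injective f₀ := Submodule.injective_subtype _
    have hg₀ : Function.Surjective g₀ := Submodule.mkQ_surjective _
    have hfg₀ : Function.Exact f₀ g₀ := LinearMap.exact_subtype_mkQ T
    let f₁ : (M ⧸ T) →ₗ[R] CC fs M := T.liftQ (φC fs M) le_rfl
    have hf₁ : Function.Injective f₁ := by
      rw [← LinearMap.ker_eq_bot]
      exact Submodule.ker_liftQ_eq_bot _ _ _ le_rfl
    let g₁ : CC fs M →ₗ[R] (CC fs M ⧸ LinearMap.range f₁) := (LinearMap.range f₁).mkQ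
    have hg₁ : Function.Surjective g₁ := Submodule.mkQ_surjective _
    have hfg₁ : Function.Exact f₁ g₁ := LinearMap.exact_iff.mpr (by rw [Submodule.ker_mkQ])
    obtain ⟨eH0⟩ := step_quot W f₀ g₀ hf₀ hfg₀ hg₀ 0 (hAT 0) (hAT 1)
    obtain ⟨eH1⟩ := step_zero W f₁ g₁ hf₁ hfg₁ hg₁ (acyc_CC W fs hle M 0)
      (eps_CC_surjective W fs hle hcov M)
    obtain ⟨-, ⟨eT⟩⟩ := transformSpec (CC fs M ⧸ LinearMap.range f₁) fs (W.ι ''ᵁ ⊤) hle hcov
    let eK1 := LinearEquiv.ofBijective _ (Kδ_bijective fs f₁ g₁ hf₁ hfg₁ hg₁ 1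
      (subsingleton_K_CC fs M 1) (subsingleton_K_CC fs M 2))
    let eK0 := LinearEquiv.ofBijective _ (Kmap_g_bijective fs f₀ g₀ hf₀ hfg₀ hg₀ 2
      (hKT 2 two_pos) (hKT 3 (by omega)))
    exact ⟨eH0.trans (eH1.trans (eT.toAddEquiv.trans (eK1.toAddEquiv.trans eK0.symm.toAddEquiv)))⟩
  | succ q ih =>
    intro M _ _
    let T := LinearMap.ker (φC fs M)
    have hT := torsion_ker fs M
    have hAT : Acyc W T := acyc_of_torsion T fs hT W hcov
    have hKT : ∀ p, 0 < p → Subsingleton (koszulHLim fs (ModuleCat.of R T) p) :=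
      fun p hp => subsingleton_of_torsion fs T hT p hp
    let f₀ : T →ₗ[R] M := T.subtype
    let g₀ : M →ₗ[R] (M ⧸ T) := T.mkQ
    have hf₀ : Function.Injective f₀ := Submodule.injective_subtype _
    have hg₀ : Function.Surjective g₀ := Submodule.mkQ_surjective _
    have hfg₀ : Function.Exact f₀ g₀ := LinearMap.exact_subtype_mkQ T
    let f₁ : (M ⧸ T) →ₗ[R] CC fs M := T.liftQ (φC fs M) le_rfl
    have hf₁ : Function.Injective f₁ := by
      rw [← LinearMap.ker_eq_bot]
      exact Submodule.ker_liftQ_eq_bot _ _ _ le_rfl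
    let g₁ : CC fs M →ₗ[R] (CC fs M ⧸ LinearMap.range f₁) := (LinearMap.range f₁).mkQ
    have hg₁ : Function.Surjective g₁ := Submodule.mkQ_surjective _
    have hfg₁ : Function.Exact f₁ g₁ := LinearMap.exact_iff.mpr (by rw [Submodule.ker_mkQ])
    obtain ⟨eH0⟩ := step_quot W f₀ g₀ hf₀ hfg₀ hg₀ (q + 1) (hAT (q + 1)) (hAT (q + 2))
    obtain ⟨eH1⟩ := step_succ W f₁ g₁ hf₁ hfg₁ hg₁ q (acyc_CC W fs hle M q)
      (acyc_CC W fs hle M (q + 1))
    obtain ⟨eIH⟩ := ih (CC fs M ⧸ LinearMap.range f₁)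
    let eK1 := LinearEquiv.ofBijective _ (Kδ_bijective fs f₁ g₁ hf₁ hfg₁ hg₁ (q + 2)
      (subsingleton_K_CC fs M (q + 2)) (subsingleton_K_CC fs M (q + 3)))
    let eK0 := LinearEquiv.ofBijective _ (Kmap_g_bijective fs f₀ g₀ hf₀ hfg₀ hg₀ (q + 3)
      (hKT (q + 3) (by omega)) (hKT (q + 4) (by omega)))
    exact ⟨eH0.trans (eH1.trans (eIH.trans (eK1.toAddEquiv.trans eK0.symm.toAddEquiv)))⟩

end main2


end Groth.Agent.Lib.PuncturedCoh9
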