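import Groth.Agent.Lib.PuncturedCoh9
import Groth.Agent.Lib.CohLESLinear
import Groth.Agent.Lib.H4TwistGamma

/-!
# `H^{p+1}(W, M~|_W) ≃ₗ[R] H^{p+2}_I(M)`: the `R`-linear version (helper9)

The comparison of `PuncturedCoh9.main` is `R`-linear for the `R`-module structure
`Coh.moduleOver R ↑W` on the cohomology of the open subscheme `W ⊆ Spec R`.

* `h0EquivL` : `H^0(W, M~|_W) ≃ₗ[R] Γ(W, M~)`.
* `main_linear`.
-/

set_option autoImplicit false
universe u

namespace Groth.Agent.Lib.PuncturedCoh9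

open AlgebraicGeometry CategoryTheory TopologicalSpace Opposite CohIII
open Groth.Agent.Lib.TildePunct97 Groth.Agent.Lib.KoszulLim9
open Groth.Agent.Lib.LocCohLES Groth.Agent.Lib.LocCohTorsion Groth.Agent.Lib.CohLES
open Groth.Agent.Lib.H4Twist

section h0

variable {R : Type u} [CommRing R] (W : (Spec (CommRingCat.of R)).Opens)
  (M : Type u) [AddCommGroup M] [Module R M]

/-- sections of `M~|_W` over the whole of `W`, as sections of `M~` over `W`. -/
noncomputable def toSec (s : Γ(G W M, ⊤)) : ↑((F M).presheaf.obj (op (W.ι ''ᵁ ⊤))) := s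

theorem toGlobal_eq (r : R) :
    (Coh.toGlobal ((↑W : Scheme.{u}) ↘ Spec (CommRingCat.of R)) r : Γ((↑W : Scheme.{u}), ⊤)) =
      ((Spec (CommRingCat.of R)).presheaf.map (W.ι ''ᵁ ⊤).leTop.op)
        ((Scheme.ΓSpecIso (CommRingCat.of R)).inv r) := by
  have h : (↑W : Scheme.{u}) ↘ Spec (CommRingCat.of R) = W.ι := by
    show W.ι ≫ 𝟙 _ = W.ι
    simp
  rw [h]
  unfold Coh.toGlobal
  rfl

theorem smul_restrict (ρ : Γ((↑W : Scheme.{u}), ⊤)) (s : Γ(G W M, ⊤)) :
    ρ • s = (show Γ(Spec (CommRingCat.of R), W.ι ''ᵁ ⊤) from ρ) •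
      (show Γ(tilde (R := CommRingCat.of R) (ModuleCat.of R M), W.ι ''ᵁ ⊤) from s) := by
  have h := Scheme.Modules.smul_restrictAppIso_hom_apply W.ι
    (tilde (R := CommRingCat.of R) (ModuleCat.of R M)) ⊤ ρ s
  rw [Scheme.Opens.ι_appIso] at h
  exact h

theorem h0Equiv_smul_R (r : R) (x : Coh.HH ↑W (G W M) 0) :
    toSec W M (h0Equiv (G W M) (r • x)) = r • toSec W M (h0Equiv (G W M) x) := by
  rw [smul_over_def, h0Equiv_smul]
  unfold toSec
  rw [toGlobal_eq, smul_restrict]
  rfl

/-- `H^0(W, M~|_W) ≃ₗ[R] Γ(W, M~)`. -/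
noncomputable def h0EquivL :
    Coh.HH ↑W (G W M) 0 ≃ₗ[R] ↑((F M).presheaf.obj (op (W.ι ''ᵁ ⊤))) where
  toFun x := toSec W M (h0Equiv (G W M) x)
  invFun s := (h0Equiv (G W M)).symm s
  map_add' x y := by
    show toSec W M (h0Equiv (G W M) (x + y)) = _
    rw [map_add]
    rfl
  map_smul' r x := h0Equiv_smul_R W M r x
  left_inv x := (h0Equiv (G W M)).symm_apply_apply x
  right_inv s := (h0Equiv (G W M)).apply_symm_apply s

theorem h0EquivL_apply (x : Coh.HH ↑W (G W M) 0) :
    h0EquivL W M x = h0Equiv (G W M) x := rfl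

end h0

/-- comparing a cokernel with a quotient, linear version. -/
theorem nonempty_linearEquiv_quotient {R : Type*} [CommRing R] {Y Z Y' : Type*} [AddCommGroup Y]
    [AddCommGroup Z] [AddCommGroup Y'] [Module R Y] [Module R Z] [Module R Y']
    (d : Y →ₗ[R] Z) (hd : Function.Surjective d) (e : Y ≃ₗ[R] Y') (K' : Submodule R Y')
    (hK : ∀ y, d y = 0 ↔ e y ∈ K') : Nonempty (Z ≃ₗ[R] Y' ⧸ K') := by
  have h1 : (LinearMap.ker d).map e.toLinearMap = K' := by
    ext y'
    constructor
    · rintro ⟨y, hy, rfl⟩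
      exact (hK y).mp hy
    · intro hy'
      refine ⟨e.symm y', ?_, by simp⟩
      show d (e.symm y') = 0
      rw [hK]
      simpa using hy'
  exact ⟨(d.quotKerEquivOfSurjective hd).symm.trans (Submodule.Quotient.equiv _ _ e h1)⟩

section part5

variable {R : Type u} [CommRing R]
variable (W : (Spec (CommRingCat.of R)).Opens)
variable [IsNoetherianRing R] (fs : List R)
  (hle : ∀ i : Fin fs.length, PrimeSpectrum.basicOpen (fs.get i) ≤ W.ι ''ᵁ ⊤)
  (hcov : W.ι ''ᵁ ⊤ ≤ ⨆ i : Fin fs.length, PrimeSpectrum.basicOpen (fs.get i))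

include hle hcov in
/-- **`H^{p+1}(W, M~|_W) ≃ₗ[R] H^{p+2}_I(M)`** for `W = ⋃ D(f_i)`, `I = (f_i)`, `R` Noetherian. -/
theorem main_linear : ∀ (p : ℕ) (M : Type u) [AddCommGroup M] [Module R M],
    Nonempty (Coh.HH ↑W (G W M) (p + 1) ≃ₗ[R] LocCoh.H (Ideal.span {a : R | a ∈ fs}) (p + 2) M) := by
  intro p
  induction p with
  | zero =>
    intro M _ _
    set I : Ideal R := Ideal.span {a : R | a ∈ fs} with hI
    let X : ModuleCat.{u} R := ModuleCat.of R M
    let E : ModuleCat.{u} R := Injective.under X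
    have hinj : CategoryTheory.Injective (ModuleCat.of R ↑E) := Injective.injective_under X
    have hE : Module.Injective R ↑E :=
      @Module.injective_module_of_injective_object R ↑E _ _ _ hinj
    let f : M →ₗ[R] E := (Injective.ι X).hom
    have hf : Function.Injective f := (ModuleCat.mono_iff_injective (Injective.ι X)).mp inferInstance
    let g : E →ₗ[R] (E ⧸ LinearMap.range f) := (LinearMap.range f).mkQ
    have hg : Function.Surjective g := Submodule.mkQ_surjective _
    have hfg : Function.Exact f g := LinearMap.exact_iff.mpr (by rw [Submodule.ker_mkQ])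
    have hS : (sesU f g W hfg).ShortExact := sesU_shortExact f g W hf hfg hg
    haveI h1 : Subsingleton (Coh.HH ↑W (sesU f g W hfg).X₂ 1) := subsingleton_HH_restrict E hE W 0
    have hδ : Function.Surjective (δₗ R hS 0) := δ_surjective_zero hS
    obtain ⟨-, ⟨eT⟩⟩ := transformSpec (E ⧸ LinearMap.range f) fs (W.ι ''ᵁ ⊤) hle hcov
    let e0 : Coh.HH ↑W (sesU f g W hfg).X₃ 0 ≃ₗ[R]
        ↑((F (E ⧸ LinearMap.range f)).presheaf.obj (op (W.ι ''ᵁ ⊤))) :=
      h0EquivL W (E ⧸ LinearMap.range f)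
    have hK : ∀ y, δₗ R hS 0 y = 0 ↔
        e0 y ∈ LinearMap.range (eps (E ⧸ LinearMap.range f) (W.ι ''ᵁ ⊤)) := by
      intro y
      constructor
      · intro hy
        obtain ⟨x, rfl⟩ := exact₃ hS 0 y hy
        obtain ⟨e, he⟩ := eps_surjective_of_injective E hE (W.ι ''ᵁ ⊤)
          (h0Equiv (sesU f g W hfg).X₂ x)
        refine ⟨g e, ?_⟩
        show _ = h0Equiv (sesU f g W hfg).X₃ (map (sesU f g W hfg).g 0 x)
        rw [h0Equiv_map, ← he]
        exact (sesU_g_app f g W hfg ⊤ e).symm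
      · rintro ⟨q, hq⟩
        obtain ⟨e, rfl⟩ := hg q
        have h2 : y = map (sesU f g W hfg).g 0
            ((h0Equiv (sesU f g W hfg).X₂).symm (eps E (W.ι ''ᵁ ⊤) e)) := by
          apply (h0Equiv (sesU f g W hfg).X₃).injective
          rw [h0Equiv_map, AddEquiv.apply_symm_apply]
          exact hq.symm.trans (sesU_g_app f g W hfg ⊤ e).symm
        rw [h2]
        exact δ_map_g hS 0 _
    obtain ⟨e1⟩ := nonempty_linearEquiv_quotient (δₗ R hS 0) hδ e0 _ hK
    obtain ⟨e2⟩ := Groth.Agent.S5173.result R fs (E ⧸ LinearMap.range f) 1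
    haveI : Subsingleton (LocCoh.H I 1 E) := subsingleton_H_of_injective I E hE 1 one_pos
    haveI : Subsingleton (LocCoh.H I (1 + 1) E) := subsingleton_H_of_injective I E hE 2 two_pos
    let e3 := LinearEquiv.ofBijective (Hδ I f g hf hfg hg 1)
      (Hδ_bijective_of_subsingleton_middle I f g hf hfg hg 1)
    exact ⟨e1.trans (eT.trans (e2.symm.trans e3))⟩
  | succ p ih =>
    intro M _ _
    set I : Ideal R := Ideal.span {a : R | a ∈ fs} with hI
    let X : ModuleCat.{u} R := ModuleCat.of R M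
    let E : ModuleCat.{u} R := Injective.under X
    have hinj : CategoryTheory.Injective (ModuleCat.of R ↑E) := Injective.injective_under X
    have hE : Module.Injective R ↑E :=
      @Module.injective_module_of_injective_object R ↑E _ _ _ hinj
    let f : M →ₗ[R] E := (Injective.ι X).hom
    have hf : Function.Injective f := (ModuleCat.mono_iff_injective (Injective.ι X)).mp inferInstance
    let g : E →ₗ[R] (E ⧸ LinearMap.range f) := (LinearMap.range f).mkQ
    have hg : Function.Surjective g := Submodule.mkQ_surjective _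
    have hfg : Function.Exact f g := LinearMap.exact_iff.mpr (by rw [Submodule.ker_mkQ])
    have hS : (sesU f g W hfg).ShortExact := sesU_shortExact f g W hf hfg hg
    haveI h1 : Subsingleton (Coh.HH ↑W (sesU f g W hfg).X₂ (p + 1)) :=
      subsingleton_HH_restrict E hE W p
    haveI h2 : Subsingleton (Coh.HH ↑W (sesU f g W hfg).X₂ (p + 2)) :=
      subsingleton_HH_restrict E hE W (p + 1)
    let e1 : Coh.HH ↑W (sesU f g W hfg).X₃ (p + 1) ≃ₗ[R] Coh.HH ↑W (sesU f g W hfg).X₁ (p + 2) :=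
      LinearEquiv.ofBijective (δₗ R hS (p + 1)) (δ_bijective hS p)
    obtain ⟨e2⟩ := ih (E ⧸ LinearMap.range f)
    haveI : Subsingleton (LocCoh.H I (p + 2) E) :=
      subsingleton_H_of_injective I E hE (p + 2) (Nat.succ_pos _)
    haveI : Subsingleton (LocCoh.H I (p + 2 + 1) E) :=
      subsingleton_H_of_injective I E hE (p + 3) (Nat.succ_pos _)
    let e3 := LinearEquiv.ofBijective (Hδ I f g hf hfg hg (p + 2))
      (Hδ_bijective_of_subsingleton_middle I f g hf hfg hg (p + 2))
    exact ⟨e1.symm.trans (e2.trans e3)⟩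

end part5

end Groth.Agent.Lib.PuncturedCoh9
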