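import Groth.Agent.Lib.PuncturedCoh9c
import Groth.Agent.S2252
import Groth.Agent.S0817
import Groth.Agent.Lib.CohFinite
import Groth.Agent.Lib.H90OXModAffine
import Groth.Agent.Lib.H90OXModTilde

/-!
# Cohomology of coherent sheaves on the punctured spectrum is Artinian (helper9)

* `punctured_linear` : `H^p(U, M~|_U) ≃ₗ[R] H^{p+1}_I(M)` for `U = Spec R ∖ V(I)`, `p ≥ 1`.
* `exists_iso_tilde_restrict` : a coherent module on an open `U` of `Spec A` (`A` Noetherian) is
  `M~|_U` for a finite `A`-module `M`.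
* `isArtinian_HH_punctured` : for `(A, m)` Noetherian local, `F` coherent on the punctured
  spectrum and `i > 0`, `H^i(U, F)` is an Artinian `A`-module.
-/

set_option autoImplicit false
universe u

namespace Groth.Agent.Lib.PuncturedCoh9

open AlgebraicGeometry CategoryTheory TopologicalSpace Opposite CohIII
open Groth.Agent.Lib.TildePunct97 Groth.Agent.Lib.CohLES Groth.Agent.Lib.H90OXModAffine

theorem punctured_linear (R : Type u) [CommRing R] [IsNoetherianRing R] (I : Ideal R) (M : Type u)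
    [AddCommGroup M] [Module R M] (p : ℕ) (hp : 1 ≤ p) :
    Nonempty (Coh.HH (↑(LocCoh.puncturedOpen R I))
      ((AlgebraicGeometry.tilde (R := CommRingCat.of R) (ModuleCat.of R M)).restrict
        (LocCoh.puncturedOpen R I).ι) p ≃ₗ[R] LocCoh.H I (p + 1) M) := by
  obtain ⟨q, rfl⟩ := Nat.exists_eq_add_of_le' hp
  obtain ⟨s, hs⟩ := (IsNoetherian.noetherian I : I.FG)
  have hset : {a : R | a ∈ s.toList} = (s : Set R) := by
    ext a
    simp
  have hI : Ideal.span {a : R | a ∈ s.toList} = I := by rw [hset]; exact hs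
  have htop : (LocCoh.puncturedOpen R I).ι ''ᵁ ⊤ = LocCoh.puncturedOpen R I :=
    Scheme.Opens.ι_image_top _
  have hle : ∀ i : Fin s.toList.length, PrimeSpectrum.basicOpen (s.toList.get i) ≤
      (LocCoh.puncturedOpen R I).ι ''ᵁ ⊤ := by
    intro i
    rw [htop]
    intro x hx hx'
    have hmem : s.toList.get i ∈ s := Finset.mem_toList.mp (List.get_mem _ _)
    have : s.toList.get i ∈ I := by
      rw [← hs]; exact Ideal.subset_span hmem
    exact hx (hx' this)
  have hcov : (LocCoh.puncturedOpen R I).ι ''ᵁ ⊤ ≤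
      ⨆ i : Fin s.toList.length, PrimeSpectrum.basicOpen (s.toList.get i) := by
    rw [htop]
    intro x hx
    have h1 : ¬ ((I : Set R) ⊆ (PrimeSpectrum.asIdeal x : Set R)) := hx
    have h2 : ∃ f ∈ s, f ∉ PrimeSpectrum.asIdeal x := by
      by_contra hcon
      apply h1
      rw [← hs]
      exact (Submodule.span_le.mpr (fun f hf => by
        by_contra hfx
        exact hcon ⟨f, hf, hfx⟩))
    obtain ⟨f, hf, hfx⟩ := h2
    obtain ⟨i, hi⟩ := List.mem_iff_get.mp (Finset.mem_toList.mpr hf)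
    exact TopologicalSpace.Opens.mem_iSup.mpr ⟨i, by rw [hi]; exact hfx⟩
  have := main_linear (LocCoh.puncturedOpen R I) s.toList hle hcov q M
  rw [hI] at this
  exact this

theorem isIso_fromTildeΓ_of_isCoh (R : CommRingCat.{u})
    (G' : (Spec R).Modules) (hG' : Coh.IsCoh G') : IsIso G'.fromTildeΓ := by
  haveI : G'.IsQuasicoherent := hG'.1
  exact Scheme.Modules.isIso_fromTildeΓ_of_isQuasicoherent G'

theorem finite_ΓSpec_of_isCoh (R : CommRingCat.{u})
    (G' : (Spec R).Modules) (hG' : Coh.IsCoh G') : Module.Finite R (ΓSpec G') := by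
  have hfin0 : Module.Finite Γ(Spec R, ⊤) Γ(G', ⊤) :=
    Groth.Agent.Lib.CohFinite.finite_sections_of_isCoh G' hG' (isAffineOpen_top _)
  exact Groth.Agent.Lib.H90OXModTilde.finite_ΓSpec_of_finite G' hfin0

theorem exists_iso_tilde_of_isCoh (R : CommRingCat.{u})
    (G' : (Spec R).Modules) (hG' : Coh.IsCoh G') :
    ∃ (M : ModuleCat.{u} R), Module.Finite R M ∧ Nonempty (tilde M ≅ G') := by
  haveI := isIso_fromTildeΓ_of_isCoh R G' hG'
  exact ⟨ΓSpec G', finite_ΓSpec_of_isCoh R G' hG', ⟨asIso G'.fromTildeΓ⟩⟩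

/-- A coherent module on `Spec A` is `M~` for a finite `A`-module `M`. -/
theorem exists_iso_tilde_of_isCoh' (A : Type u) [CommRing A]
    (G' : (Spec (CommRingCat.of A)).Modules) (hG' : Coh.IsCoh G') :
    ∃ (M : Type u) (_ : AddCommGroup M) (_ : Module A M), Module.Finite A M ∧
      Nonempty (tilde (R := CommRingCat.of A) (ModuleCat.of A M) ≅ G') := by
  obtain ⟨M, hM, ⟨e⟩⟩ := exists_iso_tilde_of_isCoh (CommRingCat.of A) G' hG'
  exact ⟨↑M, inferInstance, inferInstance, hM, ⟨e⟩⟩

/-- A coherent module on an open of a Noetherian affine scheme extends to a coherent module. -/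
theorem exists_coh_extension (A : Type u) [CommRing A] [IsNoetherianRing A]
    (U : (Spec (CommRingCat.of A)).Opens) (F : (↑U : Scheme.{u}).Modules) (hF : Coh.IsCoh F) :
    ∃ G' : (Spec (CommRingCat.of A)).Modules, Coh.IsCoh G' ∧ Nonempty (G'.restrict U.ι ≅ F) := by
  haveI : Coh.IsQCoh F := hF.1
  have hX : ∀ x : ↥(Spec (CommRingCat.of A)), ∃ V : (Spec (CommRingCat.of A)).Opens,
      x ∈ V ∧ TopologicalSpace.NoetherianSpace (V : Set ↥(Spec (CommRingCat.of A))) := by
    intro x
    haveI : TopologicalSpace.NoetherianSpace ↥(Spec (CommRingCat.of A)) :=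
      inferInstanceAs (TopologicalSpace.NoetherianSpace (PrimeSpectrum A))
    exact ⟨⊤, trivial, inferInstance⟩
  obtain ⟨G', hG'q, hG'ft, ⟨e⟩⟩ := Groth.Agent.S2252.result hX U F hF.2
  exact ⟨G', ⟨hG'q, hG'ft⟩, ⟨e⟩⟩

/-- A coherent module on an open `U` of `Spec A`, `A` Noetherian, is the restriction of `M~` for a
finite `A`-module `M`. -/
theorem exists_iso_tilde_restrict (A : Type u) [CommRing A] [IsNoetherianRing A]
    (U : (Spec (CommRingCat.of A)).Opens) (F : (↑U : Scheme.{u}).Modules) (hF : Coh.IsCoh F) :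
    ∃ (M : Type u) (_ : AddCommGroup M) (_ : Module A M), Module.Finite A M ∧
      Nonempty (F ≅ (tilde (R := CommRingCat.of A) (ModuleCat.of A M)).restrict U.ι) := by
  obtain ⟨G', hG', ⟨e⟩⟩ := exists_coh_extension A U F hF
  obtain ⟨M, i1, i2, hM, ⟨e'⟩⟩ := exists_iso_tilde_of_isCoh' A G' hG'
  exact ⟨M, i1, i2, hM, ⟨e.symm ≪≫ (Scheme.Modules.restrictFunctor U.ι).mapIso e'.symm⟩⟩

/-- For a Noetherian local ring `(A, m)`, a coherent module `F` on the punctured spectrum `U` and
`i > 0`, the `A`-module `H^i(U, F)` is Artinian. -/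
theorem isArtinian_HH_punctured (A : Type u) [CommRing A] [IsNoetherianRing A] [IsLocalRing A]
    (F : (↑(LocCoh.puncturedOpen A (IsLocalRing.maximalIdeal A)) : Scheme.{u}).Modules)
    (hF : Coh.IsCoh F) (i : ℕ) (hi : 0 < i) :
    IsArtinian A (Coh.HH (↑(LocCoh.puncturedOpen A (IsLocalRing.maximalIdeal A)) : Scheme.{u}) F i) := by
  obtain ⟨M, _, _, hfin, ⟨eF⟩⟩ := exists_iso_tilde_restrict A _ F hF
  obtain ⟨eL⟩ := punctured_linear A (IsLocalRing.maximalIdeal A) M i hi
  haveI : IsArtinian A (LocCoh.H (IsLocalRing.maximalIdeal A) (i + 1) M) :=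
    Groth.Agent.S0817.result A M (i + 1)
  exact isArtinian_of_linearEquiv ((mapEquivₗ A eF i).trans eL).symm

end Groth.Agent.Lib.PuncturedCoh9
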