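import Mathlib
import Groth.Agent.Lib.IntClosRadicial96

/-!
# helper96: integral closure of a geometrically unibranch domain in a purely inseparable extension
is radicial over it (ring level)

`radicial_of_pow`: `B` a domain whose localizations are geometrically unibranch, `R` a `B`-algebra
receiving the fraction field `κ : Frac B → R` such that every element of `R` has a `q^n`-th power
in the image of `κ` (`q` the characteristic exponent). Then two ring maps from the integral closure
of `B` in `R` to a field that agree on `B` are equal.
-/

set_option autoImplicit false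
set_option linter.style.haveILetI false
universe u

namespace Groth.Agent.Lib.PurInsepNorm96

open Groth.Agent.Lib.IntClosRadicial96

theorem pow_expChar_pow_injective_of_cast_eq_zero (K' : Type*) [Field K'] (q : ℕ)
    (hq : q = 1 ∨ (q.Prime ∧ (q : K') = 0)) (n : ℕ) (x y : K') (h : x ^ (q ^ n) = y ^ (q ^ n)) :
    x = y := by
  rcases hq with rfl | ⟨hqp, hq0⟩
  · simpa using h
  · haveI : Fact q.Prime := ⟨hqp⟩
    haveI : CharP K' q := (CharP.charP_iff_prime_eq_zero hqp).mpr hq0
    exact iterateFrobenius_inj K' q n h

theorem radicial_of_pow {B R : Type u} [CommRing B] [IsDomain B] [CommRing R] [Algebra B R]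
    (κ : FractionRing B →+* R) (hκ : κ.comp (algebraMap B (FractionRing B)) = algebraMap B R)
    (hκinj : Function.Injective κ)
    (q : ℕ) [ExpChar (FractionRing B) q] (hpow : ∀ c : R, ∃ n : ℕ, c ^ (q ^ n) ∈ κ.range)
    (hB : ∀ (p : Ideal B) [p.IsPrime], CAlg2.IsGeomUnibranch (Localization.AtPrime p))
    (K' : Type u) [Field K'] (χ₁ χ₂ : integralClosure B R →+* K')
    (h12 : χ₁.comp (algebraMap B (integralClosure B R)) =
      χ₂.comp (algebraMap B (integralClosure B R))) :
    χ₁ = χ₂ := by
  let κa : FractionRing B →ₐ[B] R :=
    { κ with commutes' := fun b => RingHom.congr_fun hκ b }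
  let ι : integralClosure B (FractionRing B) →ₐ[B] integralClosure B R := κa.mapIntegralClosure
  have hι : (χ₁.comp (ι : integralClosure B (FractionRing B) →+* integralClosure B R)) =
      χ₂.comp (ι : integralClosure B (FractionRing B) →+* integralClosure B R) := by
    apply (injective_comp_iff B).mpr hB K'
    ext b
    simp only [RingHom.comp_apply, RingHom.coe_coe, AlgHom.commutes]
    exact RingHom.congr_fun h12 b
  -- characteristic of `K'`
  have hq : q = 1 ∨ (q.Prime ∧ (q : K') = 0) := by
    rcases ‹ExpChar (FractionRing B) q› with _ | ⟨hqp⟩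
    · exact Or.inl rfl
    · right
      refine ⟨hqp, ?_⟩
      have h0 : (q : FractionRing B) = 0 := CharP.cast_eq_zero (FractionRing B) q
      have h1 : (q : B) = 0 :=
        (IsFractionRing.injective B (FractionRing B)) (by rw [map_natCast, map_zero]; exact h0)
      have h2 : (q : K') = χ₁ (algebraMap B (integralClosure B R) (q : B)) := by
        rw [map_natCast, map_natCast]
      rw [h2, h1, map_zero, map_zero]
  ext c
  obtain ⟨n, k, hk⟩ := hpow c.1
  have hkint : IsIntegral B k := by
    have h1 : IsIntegral B (κa k) := by
      show IsIntegral B (κ k)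
      rw [hk]
      exact c.2.pow _
    exact (isIntegral_algHom_iff κa hκinj).mp h1
  have hιk : ι ⟨k, hkint⟩ = c ^ (q ^ n) := Subtype.ext (by
    rw [AlgHom.coe_mapIntegralClosure]
    exact hk)
  have h3 := RingHom.congr_fun hι ⟨k, hkint⟩
  simp only [RingHom.comp_apply, RingHom.coe_coe] at h3
  rw [hιk, map_pow, map_pow] at h3
  exact pow_expChar_pow_injective_of_cast_eq_zero K' q hq n _ _ h3

end Groth.Agent.Lib.PurInsepNorm96
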