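import Mathlib
import Groth.Agent.Lib.NormBranchesS96
import Groth.Agent.Lib.UnivHomeo

/-!
# helper96: chartwise criterion for the relative normalization to be a universal homeomorphism

`isUnivHomeo_fromNormalization`: if for every non-empty affine open `U` of `Y` the chart ring map
`φ_U : Γ(Y,U) → (integral closure of Γ(Y,U) in Γ(X, f⁻¹U))` is injective and radicial (field-valued
points of the target are determined by their restriction along `φ_U`), then
`f.fromNormalization` is a universal homeomorphism.
-/

set_option autoImplicit false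
set_option linter.style.haveILetI false
universe u

namespace Groth.Agent.Lib.PurInsepNorm96

open AlgebraicGeometry CategoryTheory Opposite Groth.Agent.Lib.NormBranches96

variable {X Y : Scheme.{u}} (f : X ⟶ Y) [QuasiCompact f] [QuasiSeparated f]

theorem exists_affine_mem (y : Y) : ∃ U : Y.Opens, IsAffineOpen U ∧ y ∈ U := by
  obtain ⟨_, ⟨U, hU, rfl⟩, hyU, -⟩ :=
    Y.isBasis_affineOpens.exists_subset_of_mem_open (Set.mem_univ y) isOpen_univ
  exact ⟨U, hU, hyU⟩

theorem surjective_fromNormalization
    (h : ∀ (U : Y.Opens) (_ : IsAffineOpen U), (U : Set Y).Nonempty →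
      Function.Injective (f.normalizationDiagramMap.app (op U)).hom) :
    Function.Surjective f.fromNormalization := by
  intro y
  obtain ⟨U, hU, hyU⟩ := exists_affine_mem y
  have hinj := h U hU ⟨y, hyU⟩
  have hint : (f.normalizationDiagramMap.app (op U)).hom.IsIntegral := by
    letI := (f.app U).hom.toAlgebra
    change (algebraMap Γ(Y, U) (integralClosure Γ(Y, U) Γ(X, f ⁻¹ᵁ U))).IsIntegral
    exact algebraMap_isIntegral_iff.mpr inferInstance
  algebraize [(f.normalizationDiagramMap.app (op U)).hom]
  haveI : Algebra.IsIntegral Γ(Y, U) (f.normalizationDiagram.obj (op U)) :=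
    algebraMap_isIntegral_iff.mp hint
  obtain ⟨Q, -, hQ, hQP⟩ := Ideal.exists_ideal_over_prime_of_isIntegral
    (hU.primeIdealOf ⟨y, hyU⟩).asIdeal (⊥ : Ideal (f.normalizationDiagram.obj (op U))) (by
      rw [← RingHom.ker_eq_comap_bot]
      have h0 : RingHom.ker (algebraMap Γ(Y, U) (f.normalizationDiagram.obj (op U))) = ⊥ :=
        (RingHom.injective_iff_ker_eq_bot _).mp hinj
      rw [h0]
      exact bot_le)
  let P : Spec (f.normalizationDiagram.obj (op U)) := ⟨Q, hQ⟩
  refine ⟨chart f U hU P, ?_⟩
  rw [fromNormalization_chart_apply]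
  have h1 : Spec.map (f.normalizationDiagramMap.app (op U)) P =
      hU.primeIdealOf ⟨y, hyU⟩ := PrimeSpectrum.ext hQP
  rw [h1, hU.fromSpec_primeIdealOf]

theorem universallyInjective_fromNormalization
    (h : ∀ (U : Y.Opens) (_ : IsAffineOpen U), (U : Set Y).Nonempty →
      ∀ (K' : Type u) [Field K'] (χ₁ χ₂ : f.normalizationDiagram.obj (op U) →+* K'),
        χ₁.comp (f.normalizationDiagramMap.app (op U)).hom =
          χ₂.comp (f.normalizationDiagramMap.app (op U)).hom → χ₁ = χ₂) :
    UniversallyInjective f.fromNormalization := by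
  have htfae := (tfae_universallyInjective f.fromNormalization).out 0 1
  rw [htfae]
  intro K' _ g₁ g₂ h12
  simp only at h12
  -- the closed point
  let pt : Spec (.of K') := IsLocalRing.closedPoint K'
  have huniq : ∀ z : Spec (.of K'), z = pt := fun z => Subsingleton.elim _ _
  obtain ⟨U, hU, hyU⟩ := exists_affine_mem (f.fromNormalization (g₁ pt))
  have hrange : ∀ g : Spec (.of K') ⟶ f.normalization, f.fromNormalization (g pt) ∈ U →
      Set.range g ⊆ Set.range (chart f U hU) := by
    rintro g hg _ ⟨z, rfl⟩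
    rw [huniq z]
    exact mem_range_chart f U hU _ hg
  have hg₂ : f.fromNormalization (g₂ pt) ∈ U := by
    have : f.fromNormalization (g₂ pt) = f.fromNormalization (g₁ pt) := by
      have := congrArg (fun k : Spec (.of K') ⟶ Y => k pt) h12
      exact this.symm
    rw [this]
    exact hyU
  let l₁ := IsOpenImmersion.lift (chart f U hU) g₁ (hrange g₁ hyU)
  let l₂ := IsOpenImmersion.lift (chart f U hU) g₂ (hrange g₂ hg₂)
  have hl₁ : l₁ ≫ chart f U hU = g₁ := IsOpenImmersion.lift_fac _ _ _
  have hl₂ : l₂ ≫ chart f U hU = g₂ := IsOpenImmersion.lift_fac _ _ _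
  obtain ⟨χ₁, hχ₁⟩ := Spec.map_surjective l₁
  obtain ⟨χ₂, hχ₂⟩ := Spec.map_surjective l₂
  have h3 : Spec.map χ₁ ≫ Spec.map (f.normalizationDiagramMap.app (op U)) =
      Spec.map χ₂ ≫ Spec.map (f.normalizationDiagramMap.app (op U)) := by
    rw [← cancel_mono hU.fromSpec, Category.assoc, Category.assoc,
      ← chart_fromNormalization f U hU, hχ₁, hχ₂, ← Category.assoc, ← Category.assoc, hl₁, hl₂]
    exact h12
  rw [← Spec.map_comp, ← Spec.map_comp] at h3
  have h4 := Spec.map_injective h3
  have h5 : χ₁.hom.comp (f.normalizationDiagramMap.app (op U)).hom =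
      χ₂.hom.comp (f.normalizationDiagramMap.app (op U)).hom := congrArg CommRingCat.Hom.hom h4
  have h6 := h U hU ⟨_, hyU⟩ K' χ₁.hom χ₂.hom h5
  have h7 : χ₁ = χ₂ := CommRingCat.hom_ext h6
  rw [← hl₁, ← hl₂, ← hχ₁, ← hχ₂, h7]

theorem isUnivHomeo_fromNormalization
    (h : ∀ (U : Y.Opens) (_ : IsAffineOpen U), (U : Set Y).Nonempty →
      Function.Injective (f.normalizationDiagramMap.app (op U)).hom ∧
      ∀ (K' : Type u) [Field K'] (χ₁ χ₂ : f.normalizationDiagram.obj (op U) →+* K'),
        χ₁.comp (f.normalizationDiagramMap.app (op U)).hom =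
          χ₂.comp (f.normalizationDiagramMap.app (op U)).hom → χ₁ = χ₂) :
    FlatMor.IsUnivHomeo f.fromNormalization := by
  rw [Groth.Agent.Lib.UnivHomeo.iff_isIntegralHom_universallyInjective_surjective]
  exact ⟨inferInstance,
    universallyInjective_fromNormalization f fun U hU hne => (h U hU hne).2,
    ⟨surjective_fromNormalization f fun U hU hne => (h U hU hne).1⟩⟩

end Groth.Agent.Lib.PurInsepNorm96
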