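import Mathlib
import Groth.Agent.Lib.PurInsepNormA96
import Groth.Agent.Lib.PurInsepNormB96
import Groth.Agent.Lib.NormBranchesF96
import Groth.Agent.Lib.GeomUnibranchEquiv96

/-!
# helper96: normalization of a geometrically unibranch integral scheme in a purely inseparable
extension of its function field is a universal homeomorphism
-/

set_option autoImplicit false
set_option linter.style.haveILetI false
universe u

namespace Groth.Agent.Lib.PurInsepNorm96

open AlgebraicGeometry CategoryTheory Opposite Groth.Agent.Lib.NormBranches96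

section Loc

variable (Y : Scheme.{u}) [IsIntegral Y] (U : Y.Opens) (hU : IsAffineOpen U)

omit [IsIntegral Y] in
include hU in
theorem isGeomUnibranch_localization
    (hY : ∀ y : Y, CAlg2.IsGeomUnibranch (Y.presheaf.stalk y))
    (p : Ideal Γ(Y, U)) [hp : p.IsPrime] :
    CAlg2.IsGeomUnibranch (Localization.AtPrime p) := by
  let P : Spec Γ(Y, U) := ⟨p, hp⟩
  let y : Y := hU.fromSpec P
  have hy : y ∈ U := by
    have h0 : y ∈ Set.range hU.fromSpec := Set.mem_range_self P
    rw [hU.range_fromSpec] at h0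
    exact h0
  have hP : hU.primeIdealOf ⟨y, hy⟩ = P := by
    apply hU.fromSpec.isOpenEmbedding.injective
    rw [hU.fromSpec_primeIdealOf]
  letI : Algebra Γ(Y, U) (Y.presheaf.stalk y) := Y.presheaf.algebra_section_stalk ⟨y, hy⟩
  haveI h1 : IsLocalization.AtPrime (Y.presheaf.stalk y) (hU.primeIdealOf ⟨y, hy⟩).asIdeal :=
    hU.isLocalization_stalk ⟨y, hy⟩
  rw [hP] at h1
  haveI h2 : IsLocalization.AtPrime (Y.presheaf.stalk y) p := h1
  let e : Localization.AtPrime p ≃ₐ[Γ(Y, U)] Y.presheaf.stalk y :=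
    IsLocalization.algEquiv p.primeCompl _ _
  exact Groth.Agent.Lib.GeomUnibranchEquiv96.isGeomUnibranch_of_ringEquiv e.toRingEquiv (hY y)

end Loc

section Main

variable (Y : Scheme.{u}) [IsIntegral Y] (L : Type u) [Field L] [Algebra Y.functionField L]

/-- The morphism `Spec L ⟶ Spec K(Y) ⟶ Y`. -/
noncomputable abbrev specL : Spec (.of L) ⟶ Y :=
  Spec.map (CommRingCat.ofHom (algebraMap Y.functionField L)) ≫ Y.fromSpecStalk (genericPoint Y)

variable (U : Y.Opens) [Nonempty U]

theorem preimage_specL_eq_top : (specL Y L) ⁻¹ᵁ U = ⊤ := by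
  rw [eq_top_iff]
  intro z _
  have h1 : Spec.map (CommRingCat.ofHom (algebraMap Y.functionField L)) z ∈
      (Y.fromSpecStalk (genericPoint Y)) ⁻¹ᵁ U := by
    rw [preimage_eq_top Y U]
    trivial
  exact h1

/-- `L → Γ(Spec L, f⁻¹ U)`. -/
noncomputable def epsL : CommRingCat.of L ⟶ Γ(Spec (.of L), (specL Y L) ⁻¹ᵁ U) :=
  (Scheme.ΓSpecIso (.of L)).inv ≫ (Spec (.of L)).presheaf.map (homOfLE le_top).op

instance : IsIso (epsL Y L U) := by
  have heq := preimage_specL_eq_top Y L U
  have hiso : IsIso (homOfLE (le_top : (specL Y L) ⁻¹ᵁ U ≤ ⊤)) := by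
    have : homOfLE (le_top : (specL Y L) ⁻¹ᵁ U ≤ ⊤) = eqToHom heq := Subsingleton.elim _ _
    rw [this]
    infer_instance
  unfold epsL
  infer_instance

theorem specL_app : (specL Y L).app U = Y.germToFunctionField U ≫
    CommRingCat.ofHom (algebraMap Y.functionField L) ≫ epsL Y L U := by
  unfold epsL specL
  rw [Scheme.Hom.comp_app, Scheme.fromSpecStalk_app (genericPoint_mem Y U)]
  simp only [Category.assoc]
  show Y.germToFunctionField U ≫ _ = _
  congr 1
  have hnat := Scheme.ΓSpecIso_inv_naturality_assoc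
    (CommRingCat.ofHom (algebraMap Y.functionField L))
    ((Spec (CommRingCat.of L)).presheaf.map (homOfLE (le_top : (specL Y L) ⁻¹ᵁ U ≤ ⊤)).op)
  refine Eq.trans ?_ hnat.symm
  congr 1

theorem chart_radicial [IsPurelyInseparable Y.functionField L]
    (hY : ∀ y : Y, CAlg2.IsGeomUnibranch (Y.presheaf.stalk y)) (hU : IsAffineOpen U) :
    Function.Injective ((specL Y L).normalizationDiagramMap.app (op U)).hom ∧
      ∀ (K' : Type u) [Field K'] (χ₁ χ₂ : (specL Y L).normalizationDiagram.obj (op U) →+* K'),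
        χ₁.comp ((specL Y L).normalizationDiagramMap.app (op U)).hom =
          χ₂.comp ((specL Y L).normalizationDiagramMap.app (op U)).hom → χ₁ = χ₂ := by
  letI algBR : Algebra Γ(Y, U) Γ(Spec (.of L), (specL Y L) ⁻¹ᵁ U) :=
    ((specL Y L).app U).hom.toAlgebra
  haveI := functionField_isFractionRing_of_isAffineOpen Y U hU
  let eε : L ≃+* Γ(Spec (.of L), (specL Y L) ⁻¹ᵁ U) :=
    (asIso (epsL Y L U)).commRingCatIsoToRingEquiv
  let κ₀ : Y.functionField →+* Γ(Spec (.of L), (specL Y L) ⁻¹ᵁ U) :=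
    (eε : L →+* _).comp (algebraMap Y.functionField L)
  have hκ₀ : κ₀.comp (algebraMap Γ(Y, U) Y.functionField) =
      algebraMap Γ(Y, U) Γ(Spec (.of L), (specL Y L) ⁻¹ᵁ U) := by
    have h1 := specL_app Y L U
    ext b
    exact (congrArg (fun k => k.hom b) h1).symm
  let eK : FractionRing Γ(Y, U) ≃ₐ[Γ(Y, U)] Y.functionField := FractionRing.algEquiv _ _
  let κ : FractionRing Γ(Y, U) →+* Γ(Spec (.of L), (specL Y L) ⁻¹ᵁ U) :=
    κ₀.comp (eK : FractionRing Γ(Y, U) →+* Y.functionField)
  have hκ : κ.comp (algebraMap Γ(Y, U) (FractionRing Γ(Y, U))) =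
      algebraMap Γ(Y, U) Γ(Spec (.of L), (specL Y L) ⁻¹ᵁ U) := by
    rw [← hκ₀]
    ext b
    simp only [κ, RingHom.comp_apply, RingHom.coe_coe, AlgEquiv.commutes]
  have hκinj : Function.Injective κ := by
    intro a b hab
    simp only [κ, κ₀, RingHom.comp_apply, RingHom.coe_coe] at hab
    exact eK.injective ((algebraMap Y.functionField L).injective (eε.injective hab))
  obtain ⟨q, hq⟩ := ExpChar.exists Y.functionField
  haveI : ExpChar (FractionRing Γ(Y, U)) q :=
    RingHom.expChar (eK : FractionRing Γ(Y, U) →+* Y.functionField) eK.injective q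
  have hpow : ∀ c : Γ(Spec (.of L), (specL Y L) ⁻¹ᵁ U), ∃ n : ℕ, c ^ (q ^ n) ∈ κ.range := by
    intro c
    obtain ⟨l, rfl⟩ := eε.surjective c
    obtain ⟨n, k, hk⟩ := IsPurelyInseparable.pow_mem Y.functionField q l
    refine ⟨n, eK.symm k, ?_⟩
    simp only [κ, κ₀, RingHom.comp_apply, RingHom.coe_coe, AlgEquiv.apply_symm_apply, hk, map_pow]
  constructor
  · intro b₁ b₂ hb
    have h1 : algebraMap Γ(Y, U) Γ(Spec (.of L), (specL Y L) ⁻¹ᵁ U) b₁ =
        algebraMap Γ(Y, U) Γ(Spec (.of L), (specL Y L) ⁻¹ᵁ U) b₂ := congrArg Subtype.val hb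
    rw [← hκ] at h1
    exact IsFractionRing.injective Γ(Y, U) (FractionRing Γ(Y, U)) (hκinj h1)
  · intro K' _ χ₁ χ₂ h12
    exact radicial_of_pow κ hκ hκinj q hpow
      (fun p _ => isGeomUnibranch_localization Y U hU hY p) K' χ₁ χ₂ h12

theorem isUnivHomeo_fromNormalization_specL [IsPurelyInseparable Y.functionField L]
    [QuasiCompact (specL Y L)] [QuasiSeparated (specL Y L)]
    (hY : ∀ y : Y, CAlg2.IsGeomUnibranch (Y.presheaf.stalk y)) :
    FlatMor.IsUnivHomeo (specL Y L).fromNormalization := by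
  apply isUnivHomeo_fromNormalization
  intro U hU hne
  haveI : Nonempty U := hne.to_subtype
  exact chart_radicial Y L U hY hU

end Main

end Groth.Agent.Lib.PurInsepNorm96
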