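import Mathlib

/-!
# Isolating a minimal prime (helper97)

`exists_notMem_forall_le`: for `p` a minimal prime over an ideal `I` of a Noetherian ring there is `g ∉ p` such that
every prime containing `I` and not containing `g` contains `p`.
-/

set_option autoImplicit false

namespace Groth.Agent.Lib.PureAnn97

theorem exists_notMem_forall_le {A : Type*} [CommRing A] [IsNoetherianRing A] (I : Ideal A) (p : Ideal A)
    (hp : p ∈ I.minimalPrimes) :
    ∃ g : A, g ∉ p ∧ ∀ q : Ideal A, q.IsPrime → I ≤ q → g ∉ q → p ≤ q := by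
  classical
  have hfin : (I.minimalPrimes).Finite := Ideal.finite_minimalPrimes_of_isNoetherianRing A I
  haveI hpp : p.IsPrime := hp.1.1
  -- for each other minimal prime an element outside `p`
  have hex : ∀ q' ∈ I.minimalPrimes, q' ≠ p → ∃ a : A, a ∈ q' ∧ a ∉ p := by
    intro q' hq' hne
    by_contra hcon
    push Not at hcon
    have hle : q' ≤ p := fun a ha => hcon a ha
    exact hne (le_antisymm hle (hp.2 hq'.1 hle))
  choose! a ha using hex
  let S : Finset (Ideal A) := hfin.toFinset.erase p
  refine ⟨∏ q' ∈ S, a q', ?_, ?_⟩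
  · intro hmem
    obtain ⟨q', hq'S, hq'⟩ := (hpp.prod_mem_iff).mp hmem
    rw [Finset.mem_erase, Set.Finite.mem_toFinset] at hq'S
    exact (ha q' hq'S.2 hq'S.1).2 hq'
  · intro q hq hIq hg
    obtain ⟨q', hq', hq'q⟩ := Ideal.exists_minimalPrimes_le hIq
    by_cases hne : q' = p
    · rw [← hne]; exact hq'q
    · exfalso
      apply hg
      have hq'S : q' ∈ S := by
        rw [Finset.mem_erase, Set.Finite.mem_toFinset]
        exact ⟨hne, hq'⟩
      have : ∏ q'' ∈ S, a q'' ∈ q' := by
        rw [← Finset.mul_prod_erase S a hq'S]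
        exact Ideal.mul_mem_right _ _ (ha q' hq' hne).1
      exact hq'q this

end Groth.Agent.Lib.PureAnn97
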