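import Groth.Agent.Lib.RFPlusSerre92
import Groth.Agent.Lib.RestrictExact
import Groth.Agent.Lib.ModStalk
import Groth.Agent.Lib.H90DevHub2
import Groth.Prelude.Def_DCoh2

/-!
# The derived functors of `Γ_Z` vanish on the open complement (helper92)

* `isZero_map_rightDerived` : if `G` is exact and `G ∘ F` is objectwise zero then `G ∘ RⁿF` is
  objectwise zero.
* `isZero_restrict_gammaZ` : `Γ_Z(N)|_U = 0`.
* `isZero_restrict_HZshM` : `(RⁿΓ_Z N)|_U = 0`.
* `restrictZero U` : the (weak) Serre class of `O_X`-modules with zero restriction to `U`.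
* `support_subset_compl` : modules in `restrictZero U` are supported on the complement of `U`.
-/

set_option autoImplicit false

open CategoryTheory Limits AlgebraicGeometry

namespace Groth.Agent.Lib.RgammaZPlusSupp92

universe v u

section General

variable {C D E : Type*} [Category* C] [Category* D] [Category* E] [Abelian C] [Abelian D]
  [Abelian E] [HasInjectiveResolutions C]

lemma isZero_map_rightDerived (F : C ⥤ D) [F.Additive] (G : D ⥤ E) [G.Additive]
    [G.PreservesHomology] (h : ∀ N, IsZero (G.obj (F.obj N))) (M : C) (n : ℕ) :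
    IsZero (G.obj ((F.rightDerived n).obj M)) := by
  let I := injectiveResolution M
  let K := (F.mapHomologicalComplex _).obj I.cocomplex
  have e : (F.rightDerived n).obj M ≅ K.homology n := I.isoRightDerivedObj F n
  refine IsZero.of_iso ?_ (G.mapIso e)
  refine IsZero.of_iso ?_ ((K.sc n).mapHomologyIso G).symm
  exact ShortComplex.isZero_homology_of_isZero_X₂ _ (h _)

end General

section Scheme

variable {U X : Scheme.{u}} (j : U ⟶ X) [IsOpenImmersion j]

lemma isZero_restrict_gammaZ (N : X.Modules) :
    IsZero ((Scheme.Modules.restrictFunctor j).obj ((DCoh.gammaZ j).obj N)) := by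
  have : Mono ((Scheme.Modules.restrictFunctor j).map
      ((Scheme.Modules.restrictAdjunction j).unit.app N)) :=
    mono_of_mono_fac ((Scheme.Modules.restrictAdjunction j).left_triangle_components N)
  exact (isZero_kernel_of_mono _).of_iso
    (PreservesKernel.iso (Scheme.Modules.restrictFunctor j)
      ((Scheme.Modules.restrictAdjunction j).unit.app N))

lemma isZero_restrict_rightDerived_gammaZ [HasInjectiveResolutions X.Modules] (N : X.Modules)
    (n : ℕ) :
    IsZero ((Scheme.Modules.restrictFunctor j).obj (((DCoh.gammaZ j).rightDerived n).obj N)) :=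
  isZero_map_rightDerived (DCoh.gammaZ j) (Scheme.Modules.restrictFunctor j)
    (isZero_restrict_gammaZ j) N n

/-- The class of `O_X`-modules whose restriction to `U` is zero. -/
abbrev restrictZero : ObjectProperty X.Modules :=
  ObjectProperty.inverseImage (IsZero (C := U.Modules)) (Scheme.Modules.restrictFunctor j)

instance : WSerre.IsWeakSerre (restrictZero j) := inferInstance

end Scheme

lemma support_subset_compl {X : Scheme.{u}} (U : X.Opens) (M : X.Modules)
    (h : restrictZero U.ι M) : CohB1.support M ⊆ (U : Set X)ᶜ := by
  intro x hx hxU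
  apply hx
  have h1 : Subsingleton ((M.restrict U.ι).presheaf.stalk ⟨x, hxU⟩) :=
    Groth.Agent.Lib.H90DevHub2.subsingleton_stalk_of_isZero h _
  exact (Groth.Agent.Lib.ModStalk.subsingleton_stalk_restrict_iff M U ⟨x, hxU⟩).1 h1

end Groth.Agent.Lib.RgammaZPlusSupp92
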