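import Groth.Agent.Lib.ZClos5H
import Groth.Agent.Lib.HartogsConverse

/-!
# ZClos cluster, part J: depth of the Z-closure (S5857)
-/

set_option autoImplicit false
universe u

open CategoryTheory CategoryTheory.Limits AlgebraicGeometry TopologicalSpace Opposite

namespace Groth.Agent.Lib.ZClos5

open Groth.Agent.Lib.QCohStalk Groth.Agent.Lib.H90OXModQcqs Groth.Agent.Lib.H90OXModSections
  Groth.Agent.Lib.H90OXModExt Groth.Agent.Lib.H90OXModExact

variable {X : Scheme.{u}} (Z : Set X)

/-- the closure of a point of a specialization-stable set, as an index of the Z-closure -/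
def clPoint (hZ : StableUnderSpecialization Z) (x : X) (hx : x ∈ Z) : ZClos.Cl Z :=
  ⟨⟨closure {x}, isClosed_closure⟩, fun _ hy => hZ (specializes_iff_mem_closure.mpr hy) hx⟩

lemma not_mem_clPoint_U (hZ : StableUnderSpecialization Z) (x : X) (hx : x ∈ Z) :
    x ∉ (clPoint Z hZ x hx).U := fun h => h (subset_closure rfl)

variable [IsLocallyNoetherian X]

/-- restriction maps of a Z-closed module along `V ⊓ T.U ≤ V` are bijective for all opens `V` -/
theorem res_bijective_of_isZClosed (G : X.Modules) (hG : ZClos.IsZClosed Z G) (T : ZClos.Cl Z)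
    (V : X.Opens) : Function.Bijective (res G (inf_le_left : V ⊓ T.U ≤ V)) := by
  have : IsIso ((ZClos.resPushUnit T.U).app G) := (isZClosed_iff Z G).mp hG T
  have h0 : IsIso (((ZClos.resPushUnit T.U).app G).app V) := inferInstance
  have h1 : Function.Bijective (res G (UV_le_right T.U V)) :=
    (ConcreteCategory.isIso_iff_bijective _).mp h0
  exact (res_bij_congr G _ _ (UV_eq' T.U V)).mp h1

/-- a coherent Z-closed module has depth at least 2 at the points of `Z` -/
theorem two_le_depth_of_isZClosed (hZ : StableUnderSpecialization Z) (G : X.Modules)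
    (hG : Coh.IsCoh G) (hc : ZClos.IsZClosed Z G) (x : X) (hx : x ∈ Z) :
    (2 : ℕ∞) ≤ LocCoh.depth (X.presheaf.stalk x) (G.presheaf.stalk x) :=
  Groth.Agent.Lib.HartogsConverse.two_le_depth_of_res_bijective G hG (clPoint Z hZ x hx).U
    (fun V => res_bijective_of_isZClosed Z G hc _ V) x (not_mem_clPoint_U Z hZ x hx)

/-- **S5857**. -/
theorem two_le_depth_H0 (hZ : StableUnderSpecialization Z) (F : X.Modules)
    (hH : Coh.IsCoh ((ZClos.H0 Z).obj F)) (x : X) (hx : x ∈ Z) :
    (2 : ℕ∞) ≤ LocCoh.depth (X.presheaf.stalk x) (((ZClos.H0 Z).obj F).presheaf.stalk x) :=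
  two_le_depth_of_isZClosed Z hZ _ hH (isZClosed_H0 Z F) x hx

end Groth.Agent.Lib.ZClos5
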