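import Groth.Agent.Lib.ZClos5I
import Groth.Agent.Lib.ZClos5J
import Groth.Agent.Lib.Hartogs
import Groth.Prelude.Def_FDesc

/-!
# ZClos cluster, part K: coherence of `j_*(F|_{X∖T})` from coherence of the Z-closure (S5867)
-/

set_option autoImplicit false
universe u

open CategoryTheory CategoryTheory.Limits AlgebraicGeometry TopologicalSpace Opposite

namespace Groth.Agent.Lib.ZClos5

open Groth.Agent.Lib.QCohStalk Groth.Agent.Lib.H90OXModQcqs Groth.Agent.Lib.H90OXModSections
  Groth.Agent.Lib.H90OXModExt Groth.Agent.Lib.H90OXModExact Groth.Agent.Lib.AssPush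
  Groth.Agent.Lib.H90OXModPush Groth.Agent.Lib.H90OXModAffineFT

variable {X : Scheme.{u}}

/-- `j_*(F|_U)` is localizing on `V` if `F` is localizing on `U ∩ V`. -/
theorem isLocalizingOn_resPush (U V : X.Opens) (F : X.Modules) (h : IsLocalizingOn F (UV U V)) :
    IsLocalizingOn ((ZClos.resPush U).obj F) V := by
  have hWV : UV U V ≤ V := UV_le_right U V
  constructor
  · intro f (t : Γ(F, UV U (X.basicOpen f)))
    have e : X.basicOpen (resO X hWV f) = UV U (X.basicOpen f) := by
      rw [basicOpen_resO, UV_eq, UV_eq, inf_assoc, inf_eq_right.mpr (X.basicOpen_le f)]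
    obtain ⟨n, s₀, hs₀⟩ := h.surj (resO X hWV f) (res F e.le t)
    refine ⟨n, s₀, ?_⟩
    rw [resPush_res, resPush_smul]
    apply res_injective_of_eq F e
    rw [res_smul, res_res, resO_pow, resO_pow, resO_resO, resO_resO]
    rw [resO_resO] at hs₀
    exact hs₀
  · intro f (s : Γ(F, UV U V)) hs
    replace hs : res F (UV_mono le_rfl (X.basicOpen_le f)) s = 0 := hs
    have hle : X.basicOpen (resO X hWV f) ≤ UV U (X.basicOpen f) := by
      rw [basicOpen_resO, UV_eq, UV_eq, inf_assoc]
      exact inf_le_inf_left _ inf_le_right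
    obtain ⟨n, hn⟩ := h.inj (resO X hWV f) s (by
      have := congrArg (res F hle) hs
      rw [res_res, res_zero] at this
      exact this)
    refine ⟨n, ?_⟩
    rw [resPush_smul, resO_pow]
    exact hn

variable [IsLocallyNoetherian X]

/-- on a locally Noetherian scheme `j_*(F|_U)` is quasi-coherent for quasi-coherent `F` -/
theorem isQuasicoherent_resPush (U : X.Opens) (F : X.Modules) [F.IsQuasicoherent] :
    ((ZClos.resPush U).obj F).IsQuasicoherent := by
  rw [isQuasicoherent_iff_forall_isLocalizingOn]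
  intro V
  exact isLocalizingOn_resPush U V.1 F (isLocalizingOn_of_qcqs F
    (mem_noethOpens_of_isCompact V.1 V.2.isCompact _ (UV_le_right U V.1))
    (IsQuasiSeparated.of_quasiSeparatedSpace _))

theorem one_le_depth_of_not_isAssPoint (F : X.Modules) (hF : Coh.IsCoh F) (y : X)
    (h : ¬ Curv2.IsAssPoint F y) :
    (1 : ℕ∞) ≤ LocCoh.depth (X.presheaf.stalk y) (F.presheaf.stalk y) := by
  have := Groth.Agent.Lib.CohFinite.finite_stalk_of_isCoh F hF y
  rcases subsingleton_or_nontrivial (F.presheaf.stalk y) with hs | hn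
  · rw [DepthFlat33.depth_eq_top_of_subsingleton]; exact le_top
  · by_contra hlt
    rw [not_le, Order.lt_one_iff] at hlt
    exact h ((DepthFlat33.depth_eq_zero_iff (F.presheaf.stalk y)).mp hlt)

variable (Z : Set X)

/-- if no associated point of the coherent module `F` lies in `Z`, the transition maps into the
Z-closure are injective -/
theorem mono_ιH_of_ass_disjoint (F : X.Modules) (hF : Coh.IsCoh F)
    (hass : ∀ x ∈ AssSch.Ass F, x ∉ Z) (T : ZClos.Cl Z) : Mono (ιH Z F T) := by
  rw [mono_iff_forall_affine]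
  intro V
  rw [injective_iff_map_eq_zero]
  intro (y : Γ(F, UV T.U V.1)) hy
  obtain ⟨T', hT, h2⟩ := H0_sec_inj Z F V.1 V.2.isCompact T y hy
  refine Groth.Agent.Lib.Hartogs.eq_zero_of_res_eq_zero F hF T'.U (fun x hx => ?_)
    (UV_mono (ZClos.Cl.U_anti hT) le_rfl) ?_ y h2
  · apply one_le_depth_of_not_isAssPoint F hF x
    intro hx'
    apply hass x hx'
    by_contra hxZ
    exact hx (mem_U_of_not_mem Z hxZ T')
  · rw [UV_eq, UV_eq]
    exact le_inf inf_le_right (inf_le_left.trans inf_le_right)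

/-- **S5867**. -/
theorem isCoh_resPush_of_isCoh_H0 (F : X.Modules) (hF : Coh.IsCoh F)
    (hass : ∀ x ∈ AssSch.Ass F, x ∉ Z) (hH : Coh.IsCoh ((ZClos.H0 Z).obj F)) (T : ZClos.Cl Z) :
    Coh.IsCoh ((ZClos.resPush T.U).obj F) := by
  haveI : F.IsQuasicoherent := hF.1
  haveI := isQuasicoherent_resPush T.U F
  haveI := mono_ιH_of_ass_disjoint Z F hF hass T
  haveI : ((ZClos.H0 Z).obj F).IsQuasicoherent := hH.1
  rw [isCoh_iff_forall_affine]
  refine ⟨inferInstance, fun U => ?_⟩
  haveI : IsNoetherianRing Γ(X, U.1) := IsLocallyNoetherian.component_noetherian U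
  haveI : Module.Finite Γ(X, U.1) Γ((ZClos.H0 Z).obj F, U.1) :=
    Groth.Agent.Lib.CohFinite.finite_sections_of_isCoh _ hH U.2
  haveI : _root_.IsNoetherian Γ(X, U.1) Γ((ZClos.H0 Z).obj F, U.1) :=
    isNoetherian_of_isNoetherianRing_of_finite _ _
  exact Module.Finite.of_injective (appLin (ιH Z F T) U.1)
    (injective_appLin_of_mono (ιH Z F T) U.1)

end Groth.Agent.Lib.ZClos5
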