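import Groth.Agent.Lib.PureAnn97a
import Groth.Agent.Lib.AssPoints
import Groth.Agent.Lib.ZClos5K
import Groth.Agent.Lib.RgammaZPlusSupp92
import Groth.Agent.Lib.H90QCohLocalization
import Groth.Agent.Lib.H90OXModExact
import Groth.Agent.Lib.H90OXModSections
import Groth.Agent.Lib.RegMero82

/-!
# Coherent submodules supported on the closure of a weakly associated point (helper97)

`exists_coh_sub_of_isWeakAssPoint`: on a locally Noetherian scheme, for a weakly associated point `y` of a coherent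
module `J` the module `Γ_Z(J)`, `Z` the closure of `y`, is a nonzero coherent submodule of `J` with support in `Z`.
-/

set_option autoImplicit false
set_option maxHeartbeats 400000
set_option linter.style.haveILetI false
universe u
open CategoryTheory CategoryTheory.Limits AlgebraicGeometry TopologicalSpace

namespace Groth.Agent.Lib.PureAnn97

open Groth.Agent.Lib Groth.Agent.Lib.QCohStalk Groth.Agent.Lib.AssPoints Groth.Agent.Lib.H90OXModSections

variable {X : Scheme.{u}}

theorem ann_le_of_germ_ne_zero (F : X.Modules) {V : X.Opens} (hV : IsAffineOpen V) (μ : Γ(F, V)) (z : V)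
    (hz : F.presheaf.germ V z.1 z.2 μ ≠ 0) : ann Γ(X, V) μ ≤ (hV.primeIdealOf z).asIdeal := by
  intro a ha
  by_contra hap
  have hu : IsUnit (X.presheaf.germ V z.1 z.2 a) := (isUnit_germ_iff hV z a).mpr hap
  rw [mem_ann] at ha
  have h0 : X.presheaf.germ V z.1 z.2 a • F.presheaf.germ V z.1 z.2 μ = 0 := by
    rw [← germ_smul, ha, map_zero]
  exact hz (hu.smul_eq_zero.mp h0)

theorem germ_ne_zero_of_ann_le (F : X.Modules) [F.IsQuasicoherent] {V : X.Opens} (hV : IsAffineOpen V)
    (μ : Γ(F, V)) (y : V) (h : ann Γ(X, V) μ ≤ (hV.primeIdealOf y).asIdeal) :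
    F.presheaf.germ V y.1 y.2 μ ≠ 0 := by
  intro h0
  obtain ⟨g, hgu, hgμ⟩ := exists_smul_eq_zero_of_germ_eq_zero F hV y.1 y.2 μ h0
  exact (isUnit_germ_iff hV y g).mp hgu (h ((mem_ann μ g).mpr hgμ))

theorem section_ext' (F : X.Modules) (W : X.Opens) (t t' : Γ(F, W))
    (h : ∀ (z : X) (hz : z ∈ W), F.presheaf.germ W z hz t = F.presheaf.germ W z hz t') : t = t' :=
  TopCat.Presheaf.section_ext ⟨F.presheaf, F.isSheaf⟩ W t t' h

theorem exists_coh_sub_of_isWeakAssPoint [IsLocallyNoetherian X] (J : X.Modules) (hJ : Coh.IsCoh J) (y : X)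
    (hy : Curv2.IsWeakAssPoint J y) :
    ∃ (K : X.Modules) (ι : K ⟶ J), Mono ι ∧ Coh.IsCoh K ∧ ¬ IsZero K ∧
      CohB1.support K ⊆ closure ({y} : Set X) := by
  haveI : J.IsQuasicoherent := hJ.1
  obtain ⟨V, hV, hyV, -⟩ :=
    Opens.isBasis_iff_nbhd.mp X.isBasis_affineOpens (show y ∈ (⊤ : X.Opens) from trivial)
  obtain ⟨μ, hμ⟩ := exists_minimal_of_isWeakAssPoint J hV ⟨y, hyV⟩ (isLocAt_of_isQuasicoherent J hV _) hy
  haveI : IsNoetherianRing Γ(X, V) := IsLocallyNoetherian.component_noetherian ⟨V, hV⟩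
  obtain ⟨g, hgp, hg⟩ := exists_notMem_forall_le _ _ hμ
  let W : X.Opens := ⟨(closure ({y} : Set X))ᶜ, isClosed_closure.isOpen_compl⟩
  haveI := ZClos5.isQuasicoherent_resPush W J
  refine ⟨(DCoh.gammaZ W.ι).obj J, kernel.ι ((Scheme.Modules.restrictAdjunction W.ι).unit.app J),
    equalizer.ι_mono, H90OXModExact.isCoh_kernel _ hJ, ?_, ?_⟩
  · intro hz
    haveI : Mono ((Scheme.Modules.restrictAdjunction W.ι).unit.app J) :=
      Preadditive.mono_of_isZero_kernel _ hz
    have hinj := injective_app_of_mono ((Scheme.Modules.restrictAdjunction W.ι).unit.app J) (X.basicOpen g)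
    have hyg : y ∈ X.basicOpen g := by
      rw [X.mem_basicOpen g y hyV]
      exact (isUnit_germ_iff hV ⟨y, hyV⟩ g).mpr hgp
    have hμ' : res J (X.basicOpen_le g) μ ≠ 0 := by
      intro h0
      have h1 := germ_ne_zero_of_ann_le J hV μ ⟨y, hyV⟩ hμ.1.2
      apply h1
      rw [← germ_res J (X.basicOpen_le g) y hyg μ, h0, map_zero]
    apply hμ'
    apply hinj
    rw [map_zero, Scheme.Modules.restrictAdjunction_unit_app_app]
    have key : res J (W.ι.image_preimage_le (X.basicOpen g)) (res J (X.basicOpen_le g) μ) = 0 := by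
      refine section_ext' J _ _ 0 ?_
      intro z hz
      rw [map_zero]
      by_contra hne
      have hzW : z ∈ W ⊓ X.basicOpen g := by
        rw [← ZClos.ι_image_preimage]; exact hz
      have hzV : z ∈ V := X.basicOpen_le g hzW.2
      have hne' : J.presheaf.germ V z hzV μ ≠ 0 := by
        intro h0
        apply hne
        rw [germ_res, germ_res, h0]
      have h1 := ann_le_of_germ_ne_zero J hV μ ⟨z, hzV⟩ hne'
      have hgz : g ∉ (hV.primeIdealOf ⟨z, hzV⟩).asIdeal := by
        rw [← isUnit_germ_iff hV ⟨z, hzV⟩ g]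
        exact (X.mem_basicOpen g z hzV).mp hzW.2
      have h2 := hg _ (hV.primeIdealOf ⟨z, hzV⟩).isPrime h1 hgz
      have h3 : y ⤳ z := RegMero82.specializes_of_primeIdealOf_le hV ⟨z, hzV⟩ ⟨y, hyV⟩ h2
      exact hzW.1 (specializes_iff_mem_closure.mp h3)
    exact key
  · have h1 := RgammaZPlusSupp92.isZero_restrict_gammaZ W.ι J
    have h2 := (H90QCohLocalization.isZero_restrict_iff _ W).mp h1
    intro z hz
    have := h2 hz
    simpa [W] using this

end Groth.Agent.Lib.PureAnn97
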