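import Groth.Agent.Lib.PureAnn97b
import Groth.Agent.Lib.DimDrop
import Groth.Prelude.Def_ShStab

/-!
# Functions vanishing on the support of a pure sheaf on a reduced curve kill it (helper97)

* `maximalIdeal_eq_bot_of_maximal` : the local ring of a reduced scheme at a maximal point is a field.
* `smul_eq_zero_of_vanishing` : S17178.
-/

set_option autoImplicit false
set_option maxHeartbeats 400000
set_option linter.style.haveILetI false
universe u
open CategoryTheory CategoryTheory.Limits AlgebraicGeometry TopologicalSpace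

namespace Groth.Agent.Lib.PureAnn97

open Groth.Agent.Lib Groth.Agent.Lib.QCohStalk Groth.Agent.Lib.AssPoints

variable {X : Scheme.{u}}

theorem maximalIdeal_eq_bot_of_maximal [IsReduced X] (y : X) (hgen : ∀ y' : X, y' ⤳ y → y' = y) :
    IsLocalRing.maximalIdeal (X.presheaf.stalk y) = ⊥ := by
  have hprime : ∀ P : Ideal (X.presheaf.stalk y), P.IsPrime →
      P = IsLocalRing.maximalIdeal (X.presheaf.stalk y) := by
    intro P hP
    have h1 : X.fromSpecStalk y ⟨P, hP⟩ ∈ Set.range (X.fromSpecStalk y) := ⟨_, rfl⟩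
    rw [Scheme.range_fromSpecStalk] at h1
    have h2 := hgen _ h1
    have h3 : X.fromSpecStalk y ⟨P, hP⟩ =
        X.fromSpecStalk y (IsLocalRing.closedPoint (X.presheaf.stalk y)) := by
      rw [h2, Scheme.fromSpecStalk_closedPoint]
    have h4 := (X.fromSpecStalk y).isEmbedding.injective h3
    exact congrArg PrimeSpectrum.asIdeal h4
  have h5 : IsLocalRing.maximalIdeal (X.presheaf.stalk y) ≤ nilradical (X.presheaf.stalk y) := by
    rw [nilradical_eq_sInf]
    apply le_sInf
    intro P hP
    rw [hprime P hP]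
  rw [nilradical_eq_zero] at h5
  exact le_bot_iff.mp h5

theorem dim_closure_le_one (hequi : ∀ Z ∈ irreducibleComponents (X : Type u), topologicalKrullDim Z = 1)
    (y : X) : topologicalKrullDim (closure ({y} : Set X)) ≤ 1 := by
  have h1 : closure ({y} : Set X) ⊆ irreducibleComponent y :=
    isClosed_irreducibleComponent.closure_subset_iff.mpr
      (Set.singleton_subset_iff.mpr mem_irreducibleComponent)
  have h2 := hequi _ (irreducibleComponent_mem_irreducibleComponents y)
  exact (DimDrop.topologicalKrullDim_mono h1).trans h2.le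

theorem maximal_of_dim_closure (hequi : ∀ Z ∈ irreducibleComponents (X : Type u), topologicalKrullDim Z = 1)
    (y : X) (hy : topologicalKrullDim (closure ({y} : Set X)) = 1) (y' : X) (h : y' ⤳ y) : y' = y := by
  by_contra hne
  have hsub : closure ({y} : Set X) ⊆ closure ({y'} : Set X) :=
    isClosed_closure.closure_subset_iff.mpr
      (Set.singleton_subset_iff.mpr (specializes_iff_mem_closure.mp h))
  have hne' : closure ({y} : Set X) ≠ closure ({y'} : Set X) := by
    intro heq
    apply hne
    have h1 : y ⤳ y' := by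
      rw [specializes_iff_mem_closure, heq]
      exact subset_closure rfl
    exact (h.antisymm h1).eq
  have h1 := DimDrop.topologicalKrullDim_add_one_le_of_ssubset
    (S := closure ({y} : Set X)) (T := closure ({y'} : Set X)) isClosed_closure
    isIrreducible_singleton.closure hsub hne'
  rw [hy] at h1
  have h2 := dim_closure_le_one hequi y'
  have h3 : ((1 : WithBot ℕ∞) + 1) ≤ 1 := h1.trans h2
  exact absurd h3 (by decide)

theorem smul_eq_zero_of_vanishing [IsLocallyNoetherian X] [IsReduced X]
    (hequi : ∀ Z ∈ irreducibleComponents (X : Type u), topologicalKrullDim Z = 1)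
    (J : X.Modules) (hJc : Coh.IsCoh J) (hJp : ShStab.IsPure X J 1)
    (U : X.Opens) (f : Γ(X, U))
    (hf : ∀ x : X, x ∈ U → x ∈ CohB1.support J → x ∉ X.basicOpen f)
    (x : X) (hx : x ∈ U) (t : J.presheaf.stalk x) :
    (X.presheaf.germ U x hx f) • t = 0 := by
  haveI : J.IsQuasicoherent := hJc.1
  by_contra hne
  obtain ⟨V0, hxV0, τ0, rfl⟩ := TopCat.Presheaf.exists_germ_eq J.presheaf t
  have hxW : x ∈ U ⊓ V0 := ⟨hx, hxV0⟩
  set σ : Γ(J, U ⊓ V0) := resO X (inf_le_left : U ⊓ V0 ≤ U) f • res J (inf_le_right : U ⊓ V0 ≤ V0) τ0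
    with hσ
  have hσx : J.presheaf.germ (U ⊓ V0) x hxW σ ≠ 0 := by
    rw [hσ, germ_smul, germO_res, germ_res]
    exact hne
  obtain ⟨y, hyW, hyx, hyass, hσy⟩ := exists_isWeakAssPoint_of_germ_ne_zero J σ x hxW hσx
  -- `y` lies in the support
  have hysupp : y ∈ CohB1.support J := by
    intro hsub
    exact hσy (Subsingleton.elim _ _)
  -- the closure of `y` has dimension one
  obtain ⟨K, ι, hι, hKc, hK0, hKs⟩ := exists_coh_sub_of_isWeakAssPoint J hJc y hyass
  have hdK := hJp K ι hι hKc hK0
  have hdy : topologicalKrullDim (closure ({y} : Set X)) = 1 := by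
    apply le_antisymm (dim_closure_le_one hequi y)
    have := DimDrop.topologicalKrullDim_mono hKs
    rw [hdK] at this
    exact_mod_cast this
  have hmax := maximalIdeal_eq_bot_of_maximal y (maximal_of_dim_closure hequi y hdy)
  -- `f` vanishes at `y`
  have hfy : X.presheaf.germ U y hyW.1 f = 0 := by
    have h1 := hf y hyW.1 hysupp
    rw [X.mem_basicOpen f y hyW.1] at h1
    have h2 : X.presheaf.germ U y hyW.1 f ∈ IsLocalRing.maximalIdeal (X.presheaf.stalk y) :=
      (IsLocalRing.mem_maximalIdeal _).mpr h1
    rw [hmax] at h2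
    exact h2
  apply hσy
  rw [hσ, germ_smul, germO_res, hfy, zero_smul]

end Groth.Agent.Lib.PureAnn97
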