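import Mathlib
import Groth.Agent.Lib.H8CM3

/-!
# Cohen–Macaulayness descends along cyclically pure local maps with `rad(𝔪_R S) = 𝔪_S` (helper33)

Let `φ : R → S` be a ring homomorphism with `R` local and `S` a Cohen–Macaulay local ring such that
* `φ` is *cyclically pure*: `φ⁻¹(I S) = I` for every ideal `I` of `R`;
* `𝔪_S ⊆ rad(𝔪_R S)`.
Then `R` is a Cohen–Macaulay local ring (`isCohenMacaulayLocalRing_of_cycPure`).

This is applied to `A_(p) → A_p` for a graded ring `A` and a relevant homogeneous prime `p`.
-/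

set_option autoImplicit false
set_option linter.unusedSectionVars false
universe u

namespace Groth.Agent.Lib.PureCM33

open RingTheory.Sequence IsLocalRing Module LocCoh Groth.Agent.Lib.H8CM Groth.Agent.Lib.DepthRees

variable {R S : Type u} [CommRing R] [CommRing S] (φ : R →+* S)

/-- Cyclic purity of a ring homomorphism: every ideal is contracted. -/
def CycPure : Prop := ∀ I : Ideal R, (I.map φ).comap φ ≤ I

variable {φ}

theorem CycPure.comap_map (h : CycPure φ) (I : Ideal R) : (I.map φ).comap φ = I :=
  le_antisymm (h I) Ideal.le_comap_map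

theorem CycPure.injective (h : CycPure φ) : Function.Injective φ := by
  rw [injective_iff_map_eq_zero]
  intro x hx
  have : x ∈ ((⊥ : Ideal R).map φ).comap φ := by
    rw [Ideal.map_bot, Ideal.mem_comap, hx]
    exact Ideal.zero_mem _
  simpa using h ⊥ this

theorem CycPure.isUnit_of_map (h : CycPure φ) {x : R} (hx : IsUnit (φ x)) : IsUnit x := by
  have h1 : (Ideal.span {x}).map φ = ⊤ := by
    rw [Ideal.map_span, Set.image_singleton, Ideal.span_singleton_eq_top]
    exact hx
  have h2 := h.comap_map (Ideal.span {x})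
  rw [h1, Ideal.comap_top] at h2
  exact Ideal.span_singleton_eq_top.mp h2.symm

theorem CycPure.map_mem_maximalIdeal [IsLocalRing R] [IsLocalRing S] (h : CycPure φ) {x : R}
    (hx : x ∈ maximalIdeal R) : φ x ∈ maximalIdeal S := by
  rw [mem_maximalIdeal, mem_nonunits_iff] at hx ⊢
  exact fun hu => hx (h.isUnit_of_map hu)

theorem CycPure.isNoetherianRing [IsNoetherianRing S] (h : CycPure φ) : IsNoetherianRing R := by
  have hmono : StrictMono (Ideal.map φ : Ideal R → Ideal S) := by
    refine Monotone.strictMono_of_injective (fun I J hIJ => Ideal.map_mono hIJ) ?_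
    intro I J hIJ
    rw [← h.comap_map I, ← h.comap_map J, hIJ]
  have : WellFoundedGT (Ideal S) := (isNoetherian_iff' (R := S) (M := S)).mp inferInstance
  have : WellFoundedGT (Ideal R) := hmono.wellFoundedGT
  exact (isNoetherian_iff' (R := R) (M := R)).mpr this

/-- A sequence in `R` whose image is weakly regular on `S` is weakly regular on `R`. -/
theorem CycPure.isWeaklyRegular (h : CycPure φ) (ys : List R)
    (hreg : IsWeaklyRegular S (ys.map φ)) : IsWeaklyRegular R ys := by
  rw [isWeaklyRegular_iff_Fin] at hreg ⊢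
  intro i
  have hi := hreg ⟨i, by simp⟩
  rw [isSMulRegular_on_quot_iff_lsmul_comap_le] at hi ⊢
  intro r hr
  rw [Submodule.mem_comap, LinearMap.lsmul_apply, smul_eq_mul, smul_eq_mul, Ideal.mul_top] at hr
  rw [smul_eq_mul, Ideal.mul_top]
  apply h (Ideal.ofList (ys.take i))
  rw [Ideal.mem_comap, Ideal.map_ofList, List.map_take]
  have hmem : φ r ∈ Submodule.comap (LinearMap.lsmul S S ((ys.map φ)[(i : ℕ)]'(by simp)))
      (Ideal.ofList ((ys.map φ).take i) • (⊤ : Submodule S S)) := by
    rw [Submodule.mem_comap, LinearMap.lsmul_apply, smul_eq_mul, smul_eq_mul, Ideal.mul_top,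
      List.getElem_map, ← map_mul, ← List.map_take, ← Ideal.map_ofList]
    exact Ideal.mem_map_of_mem φ hr
  have := hi hmem
  rwa [smul_eq_mul, Ideal.mul_top] at this

section local_

variable [IsLocalRing R] [IsLocalRing S] [IsNoetherianRing S]

/-- Prime avoidance pulled back along `φ`: a CM `S`-module of positive dimension admits a regular
element of the form `φ y` with `y ∈ 𝔪_R`. -/
theorem exists_mem_isSMulRegular
    (hrad : maximalIdeal S ≤ ((maximalIdeal R).map φ).radical)
    {M : Type u} [AddCommGroup M] [Module S M] [Module.Finite S M]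
    (hM : IsCohenMacaulayModule S M) (hdim : supportDim S M ≠ 0) :
    ∃ y ∈ maximalIdeal R, IsSMulRegular M (φ y) := by
  by_contra hcon
  push Not at hcon
  have hsub : ((maximalIdeal R : Ideal R) : Set R) ⊆
      ⋃ P ∈ associatedPrimes S M, ((P.comap φ : Ideal R) : Set R) := by
    intro y hy
    have h1 : φ y ∈ ⋃ P ∈ associatedPrimes S M, (P : Set S) := by
      rw [biUnion_associatedPrimes_eq_compl_regular S M]
      exact hcon y hy
    simp only [Set.mem_iUnion, SetLike.mem_coe, exists_prop] at h1 ⊢
    obtain ⟨P, hP, hyP⟩ := h1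
    exact ⟨P, hP, hyP⟩
  obtain ⟨P, hP, hle⟩ := (Ideal.subset_union_prime_finite (associatedPrimes.finite S M)
    (f := fun P => P.comap φ) 0 0 fun P h _ _ ↦
      (have := h.isPrime; Ideal.comap_isPrime φ P)).1 hsub
  have hPprime : P.IsPrime := hP.isPrime
  have h2 : (maximalIdeal R).map φ ≤ P := Ideal.map_le_iff_le_comap.mpr hle
  have h3 : maximalIdeal S ≤ P := hrad.trans (hPprime.radical_le_iff.mpr h2)
  have h4 : P = maximalIdeal S :=
    ((IsLocalRing.maximalIdeal.isMaximal S).eq_of_le hPprime.ne_top h3).symm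
  have h5 := ringKrullDim_quotient_eq_of_isCM hM hP
  rw [h4] at h5
  have h6 : ringKrullDim (S ⧸ maximalIdeal S) = 0 :=
    ringKrullDim_eq_zero_of_isField
      ((Ideal.Quotient.maximal_ideal_iff_isField_quotient _).mp inferInstance)
  exact hdim (h5.symm.trans h6)

/-- In a CM local ring `S`, for every `i ≤ dim S` there is a sequence of length `i` in `𝔪_R` whose
image is `S`-regular. -/
theorem exists_list (hS : IsCohenMacaulayModule S S) (hp : CycPure φ)
    (hrad : maximalIdeal S ≤ ((maximalIdeal R).map φ).radical)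
    (d : ℕ) (hd : supportDim S S = (d : WithBot ℕ∞)) :
    ∀ i ≤ d, ∃ ys : List R, ys.length = i ∧ (∀ y ∈ ys, y ∈ maximalIdeal R) ∧
      IsWeaklyRegular S (ys.map φ) := by
  intro i
  induction i with
  | zero => exact fun _ => ⟨[], rfl, by simp, IsWeaklyRegular.nil S S⟩
  | succ i ih =>
    intro hi
    obtain ⟨ys, hlen, hmem, hreg⟩ := ih (by omega)
    have hmemS : ∀ x ∈ ys.map φ, x ∈ maximalIdeal S := by
      intro x hx
      obtain ⟨y, hy, rfl⟩ := List.mem_map.mp hx
      exact hp.map_mem_maximalIdeal (hmem y hy)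
    obtain ⟨hiff, hCM⟩ := isWeaklyRegular_iff_of_isCM (ys.map φ) (M := S) hS hmemS
    have hdim := hiff.mp hreg
    have hCMQ := hCM hreg
    have hne : supportDim S (S ⧸ Ideal.ofList (ys.map φ) • (⊤ : Submodule S S)) ≠ 0 := by
      intro h0
      rw [h0, hd, List.length_map, hlen, zero_add] at hdim
      have : i = d := by exact_mod_cast hdim
      omega
    obtain ⟨y, hy, hyreg⟩ := exists_mem_isSMulRegular hrad hCMQ hne
    refine ⟨ys ++ [y], by simp [hlen], ?_, ?_⟩
    · intro z hz
      rcases List.mem_append.mp hz with hz | hz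
      · exact hmem z hz
      · rw [List.mem_singleton] at hz
        exact hz ▸ hy
    · rw [List.map_append, isWeaklyRegular_append_iff]
      exact ⟨hreg, by simpa [isWeaklyRegular_singleton_iff] using hyreg⟩

omit [IsLocalRing R] in
/-- Primes containing an ideal `I` with `dim S/I = 0` contain the maximal ideal. -/
theorem maximalIdeal_le_radical_of_supportDim_eq_zero (I : Ideal S)
    (h0 : supportDim S (S ⧸ I • (⊤ : Submodule S S)) = 0) : maximalIdeal S ≤ I.radical := by
  rw [Ideal.radical_eq_sInf]
  refine le_sInf ?_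
  rintro P ⟨hIP, hP⟩
  have hsupp : (⟨P, hP⟩ : PrimeSpectrum S) ∈ Module.support S (S ⧸ I • (⊤ : Submodule S S)) := by
    apply mem_support_quotient_of_le I _ hIP
    rw [Module.support_eq_zeroLocus, Module.annihilator_eq_bot.mpr inferInstance]
    simp
  have h1 := ringKrullDim_quotient_le_supportDim (⟨P, hP⟩ : PrimeSpectrum S) hsupp
  rw [h0] at h1
  have : Ring.KrullDimLE 0 (S ⧸ P) := Ring.krullDimLE_iff.mpr h1
  have hfield : IsField (S ⧸ P) := Ring.KrullDimLE.isField_of_isDomain
  have hmax : P.IsMaximal := Ideal.Quotient.maximal_of_isField P hfield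
  exact (IsLocalRing.eq_maximalIdeal hmax).ge

end local_

/-- **Descent of Cohen–Macaulayness** along a cyclically pure map `φ : R → S` of local rings with
`𝔪_S ⊆ rad(𝔪_R S)`. -/
theorem isCohenMacaulayLocalRing_of_cycPure [IsLocalRing R] [hS : IsCohenMacaulayLocalRing S] (hp : CycPure φ)
    (hrad : maximalIdeal S ≤ ((maximalIdeal R).map φ).radical) :
    IsCohenMacaulayLocalRing R := by
  have hN : IsNoetherianRing R := hp.isNoetherianRing
  have hSM : IsCohenMacaulayModule S S := hS.supportDim_eq_depth
  obtain ⟨d, hd⟩ := exists_nat_supportDim (R := S) (M := S)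
  obtain ⟨ys, hlen, hmem, hreg⟩ := exists_list hSM hp hrad d hd d le_rfl
  have hregR : IsWeaklyRegular R ys := hp.isWeaklyRegular ys hreg
  have hdepth : (d : ℕ∞) ≤ LocCoh.depth R R :=
    (natCast_le_depth_iff R d).mpr ⟨ys, hlen, hmem, hregR⟩
  -- the dimension
  have hmemS : ∀ x ∈ ys.map φ, x ∈ maximalIdeal S := by
    intro x hx
    obtain ⟨y, hy, rfl⟩ := List.mem_map.mp hx
    exact hp.map_mem_maximalIdeal (hmem y hy)
  obtain ⟨hiff, -⟩ := isWeaklyRegular_iff_of_isCM (ys.map φ) (M := S) hSM hmemS
  have hdim := hiff.mp hreg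
  have hntQ := nontrivial_quotient_ofList (M := S) hmemS
  obtain ⟨a, ha⟩ := exists_nat_supportDim (R := S)
    (M := S ⧸ Ideal.ofList (ys.map φ) • (⊤ : Submodule S S))
  have ha0 : a = 0 := by
    rw [ha, hd, List.length_map, hlen] at hdim
    have : a + d = d := by exact_mod_cast hdim
    omega
  rw [ha0] at ha
  have hradS := maximalIdeal_le_radical_of_supportDim_eq_zero _ ha
  have hheight : (maximalIdeal R).height ≤ (d : ℕ∞) := by
    classical
    have hmin : maximalIdeal R ∈ (Ideal.span ((ys.toFinset : Finset R) : Set R)).minimalPrimes := by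
      have hspan : Ideal.span ((ys.toFinset : Finset R) : Set R) = Ideal.ofList ys := by
        unfold Ideal.ofList
        congr 1
        ext x
        simp
      rw [hspan]
      refine ⟨⟨inferInstance, ?_⟩, ?_⟩
      · unfold Ideal.ofList
        rw [Ideal.span_le]
        exact fun y hy => hmem y hy
      · rintro q ⟨hq, hle⟩ -
        intro x hx
        have h1 : φ x ∈ (Ideal.ofList (ys.map φ)).radical := hradS (hp.map_mem_maximalIdeal hx)
        obtain ⟨N, hN⟩ := h1
        rw [← Ideal.map_ofList, ← map_pow] at hN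
        have h2 : x ^ N ∈ Ideal.ofList ys := hp (Ideal.ofList ys) hN
        exact hq.mem_of_pow_mem N (hle h2)
    have h1 := Ideal.height_le_card_of_mem_minimalPrimes_span_finset hmin
    have h2 : (ys.toFinset.card : ℕ∞) ≤ (d : ℕ∞) := by
      rw [← hlen]
      exact_mod_cast List.toFinset_card_le ys
    exact h1.trans h2
  refine { hN, (inferInstance : IsLocalRing R) with supportDim_eq_depth := ?_ }
  refine le_antisymm ?_ (depth_le_supportDim (R := R) R)
  rw [Module.supportDim_self_eq_ringKrullDim, ← IsLocalRing.maximalIdeal_height_eq_ringKrullDim]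
  calc ((maximalIdeal R).height : WithBot ℕ∞) ≤ ((d : ℕ∞) : WithBot ℕ∞) := by exact_mod_cast hheight
    _ ≤ ((LocCoh.depth R R : ℕ∞) : WithBot ℕ∞) := by exact_mod_cast hdepth

end Groth.Agent.Lib.PureCM33
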