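import Mathlib
import Groth.Agent.Lib.PureCM33a

/-!
# `A_(p) → A_p` is cyclically pure, and `rad(𝔪_{A_(p)} A_p) = 𝔪_{A_p}` for relevant `p` (helper33)

`A` an `ℕ`-graded commutative ring, `p` a prime ideal.
* `cycPure_val` : every ideal of the homogeneous localization `A_(p)` is contracted from `A_p`.
* `maximalIdeal_le_radical` : if `p` is homogeneous and misses a homogeneous element of positive
  degree, then `𝔪_{A_p} ⊆ rad(𝔪_{A_(p)} A_p)`.
* `isCohenMacaulayLocalRing_atPrime` : hence `A_(p)` is CM when `A_p` is.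
-/

set_option autoImplicit false
set_option linter.unusedSectionVars false
universe u

namespace Groth.Agent.Lib.PureCM33

open DirectSum HomogeneousLocalization IsLocalRing

variable {A : Type u} [CommRing A] (𝒜 : ℕ → AddSubgroup A) [GradedRing 𝒜]
  (p : Ideal A) [hpp : p.IsPrime]

/-- The element `a/t` of `A_(p)`, for `a, t ∈ A_n`, `t ∉ p`. -/
noncomputable def mkR (n : ℕ) (a t : A) (ha : a ∈ 𝒜 n) (ht : t ∈ 𝒜 n) (htp : t ∉ p) :
    AtPrime 𝒜 p :=
  HomogeneousLocalization.mk ⟨n, ⟨a, ha⟩, ⟨t, ht⟩, htp⟩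

theorem val_mkR (n : ℕ) (a t : A) (ha : a ∈ 𝒜 n) (ht : t ∈ 𝒜 n) (htp : t ∉ p) :
    (mkR 𝒜 p n a t ha ht htp).val = Localization.mk a ⟨t, htp⟩ :=
  HomogeneousLocalization.val_mk _

variable {𝒜 p}

theorem mem_of_val_eq {I : Ideal (AtPrime 𝒜 p)} {r r' : AtPrime 𝒜 p} (h : r.val = r'.val)
    (hr' : r' ∈ I) : r ∈ I := by
  rwa [HomogeneousLocalization.val_injective _ h]

theorem mul_decompose_mem {d m : ℕ} {c : A} (hc : c ∈ 𝒜 m) (x : A) :
    c * (decompose 𝒜 x d : A) ∈ 𝒜 (d + m) := by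
  rw [add_comm]
  exact SetLike.GradedMul.mul_mem hc (decompose 𝒜 x d).2

variable (𝒜 p)

/-- The homogeneous ideal of `A` of all "numerators" of an ideal `I` of `A_(p)`. -/
noncomputable def numIdeal (I : Ideal (AtPrime 𝒜 p)) : Ideal A where
  carrier := {x | ∀ (d m : ℕ) (c t : A) (hc : c ∈ 𝒜 m) (ht : t ∈ 𝒜 (d + m)) (htp : t ∉ p),
    mkR 𝒜 p (d + m) (c * (decompose 𝒜 x d : A)) t (mul_decompose_mem hc x) ht htp ∈ I}
  zero_mem' := by
    intro d m c t hc ht htp
    refine mem_of_val_eq (r' := 0) ?_ I.zero_mem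
    rw [val_mkR, HomogeneousLocalization.val_zero, decompose_zero, DirectSum.zero_apply,
      ZeroMemClass.coe_zero, mul_zero, Localization.mk_zero]
  add_mem' := by
    intro x y hx hy d m c t hc ht htp
    refine mem_of_val_eq ?_ (I.add_mem (hx d m c t hc ht htp) (hy d m c t hc ht htp))
    rw [HomogeneousLocalization.val_add, val_mkR, val_mkR, val_mkR, Localization.add_mk_self,
      decompose_add, DirectSum.add_apply, AddSubgroup.coe_add, mul_add]
  smul_mem' := by
    intro y x hx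
    rw [smul_eq_mul]
    induction y using DirectSum.Decomposition.inductionOn 𝒜 with
    | zero =>
      intro d m c t hc ht htp
      refine mem_of_val_eq (r' := 0) ?_ I.zero_mem
      rw [val_mkR, HomogeneousLocalization.val_zero, zero_mul, decompose_zero,
        DirectSum.zero_apply, ZeroMemClass.coe_zero, mul_zero, Localization.mk_zero]
    | @homogeneous i y =>
      intro d m c t hc ht htp
      by_cases hid : i ≤ d
      · have hnum : c * (decompose 𝒜 ((y : A) * x) d : A) =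
            (c * (y : A)) * (decompose 𝒜 x (d - i) : A) := by
          rw [DirectSum.coe_decompose_mul_of_left_mem_of_le 𝒜 y.2 hid, mul_assoc]
        have hcy : c * (y : A) ∈ 𝒜 (m + i) := SetLike.GradedMul.mul_mem hc y.2
        have ht' : t ∈ 𝒜 ((d - i) + (m + i)) := by
          rw [show (d - i) + (m + i) = d + m by omega]
          exact ht
        refine mem_of_val_eq ?_ (hx (d - i) (m + i) (c * (y : A)) t hcy ht' htp)
        rw [val_mkR, val_mkR, hnum]
      · refine mem_of_val_eq (r' := 0) ?_ I.zero_mem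
        rw [val_mkR, HomogeneousLocalization.val_zero,
          DirectSum.coe_decompose_mul_of_left_mem_of_not_le 𝒜 y.2 hid, mul_zero,
          Localization.mk_zero]
    | add y y' hy hy' =>
      intro d m c t hc ht htp
      refine mem_of_val_eq ?_ (I.add_mem (hy d m c t hc ht htp) (hy' d m c t hc ht htp))
      rw [HomogeneousLocalization.val_add, val_mkR, val_mkR, val_mkR, Localization.add_mk_self,
        add_mul, decompose_add, DirectSum.add_apply, AddSubgroup.coe_add, mul_add]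

variable {𝒜 p}

theorem mem_numIdeal_iff {I : Ideal (AtPrime 𝒜 p)} {x : A} :
    x ∈ numIdeal 𝒜 p I ↔ ∀ (d m : ℕ) (c t : A) (hc : c ∈ 𝒜 m) (ht : t ∈ 𝒜 (d + m)) (htp : t ∉ p),
      mkR 𝒜 p (d + m) (c * (decompose 𝒜 x d : A)) t (mul_decompose_mem hc x) ht htp ∈ I :=
  Iff.rfl

/-- Numerators of elements of `I` lie in `numIdeal I`. -/
theorem num_mem_numIdeal {I : Ideal (AtPrime 𝒜 p)} (n : ℕ) (a b : A) (ha : a ∈ 𝒜 n)
    (hb : b ∈ 𝒜 n) (hbp : b ∉ p) (hI : mkR 𝒜 p n a b ha hb hbp ∈ I) : a ∈ numIdeal 𝒜 p I := by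
  intro d m c t hc ht htp
  by_cases hdn : d = n
  · subst hdn
    have hcb : c * b ∈ 𝒜 (d + m) := by
      rw [add_comm]; exact SetLike.GradedMul.mul_mem hc hb
    refine mem_of_val_eq ?_ (I.mul_mem_right (mkR 𝒜 p (d + m) (c * b) t hcb ht htp) hI)
    rw [HomogeneousLocalization.val_mul, val_mkR, val_mkR, val_mkR, Localization.mk_mul,
      DirectSum.decompose_of_mem_same 𝒜 ha, Localization.mk_eq_mk_iff, Localization.r_iff_exists]
    refine ⟨1, ?_⟩
    simp only [OneMemClass.coe_one, one_mul, Submonoid.coe_mul]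
    ring
  · refine mem_of_val_eq (r' := 0) ?_ I.zero_mem
    rw [val_mkR, HomogeneousLocalization.val_zero,
      DirectSum.decompose_of_mem_ne 𝒜 ha (Ne.symm hdn), mul_zero, Localization.mk_zero]

theorem exists_component_notMem {u : A} (hu : u ∉ p) : ∃ i : ℕ, (decompose 𝒜 u i : A) ∉ p := by
  classical
  by_contra hcon
  push Not at hcon
  apply hu
  rw [← DirectSum.sum_support_decompose 𝒜 u]
  exact p.sum_mem fun i _ => hcon i

/-- **Cyclic purity** of `A_(p) → A_p`. -/
theorem cycPure_val : CycPure (algebraMap (AtPrime 𝒜 p) (Localization.AtPrime p)) := by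
  intro I r hr
  rw [Ideal.mem_comap] at hr
  -- `I S ⊆ J S`
  have hle : I.map (algebraMap (AtPrime 𝒜 p) (Localization.AtPrime p)) ≤
      (numIdeal 𝒜 p I).map (algebraMap A (Localization.AtPrime p)) := by
    rw [Ideal.map_le_iff_le_comap]
    intro r' hr'
    rw [Ideal.mem_comap]
    obtain ⟨⟨n, ⟨a, ha⟩, ⟨b, hb⟩, hbp⟩, rfl⟩ := HomogeneousLocalization.mk_surjective r'
    have haJ : a ∈ numIdeal 𝒜 p I := num_mem_numIdeal n a b ha hb hbp hr'
    rw [HomogeneousLocalization.algebraMap_apply, HomogeneousLocalization.val_mk,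
      Localization.mk_eq_mk', IsLocalization.mk'_eq_mul_mk'_one]
    exact Ideal.mul_mem_right _ _ (Ideal.mem_map_of_mem _ haJ)
  have hr2 := hle hr
  obtain ⟨⟨n, ⟨a, ha⟩, ⟨b, hb⟩, hbp⟩, rfl⟩ := HomogeneousLocalization.mk_surjective r
  rw [HomogeneousLocalization.algebraMap_apply, HomogeneousLocalization.val_mk] at hr2
  -- `a/1 ∈ J S`
  have ha1 : algebraMap A (Localization.AtPrime p) a ∈
      (numIdeal 𝒜 p I).map (algebraMap A (Localization.AtPrime p)) := by
    have h : algebraMap A (Localization.AtPrime p) a =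
        Localization.mk a ⟨b, hbp⟩ * algebraMap A (Localization.AtPrime p) b := by
      rw [Localization.mk_eq_mk']
      exact (IsLocalization.mk'_spec _ a ⟨b, hbp⟩).symm
    rw [h]
    exact Ideal.mul_mem_right _ _ hr2
  rw [IsLocalization.mem_map_algebraMap_iff p.primeCompl] at ha1
  obtain ⟨⟨⟨j, hj⟩, ⟨u, hu⟩⟩, hju⟩ := ha1
  rw [← map_mul, IsLocalization.eq_iff_exists p.primeCompl] at hju
  obtain ⟨⟨w, hw⟩, hwe⟩ := hju
  have hv : w * u ∉ p := fun h => (hpp.mem_or_mem h).elim hw hu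
  have hvJ : (w * u) * a ∈ numIdeal 𝒜 p I := by
    have : (w * u) * a = w * j := by
      simp only at hwe
      rw [← hwe]; ring
    rw [this]
    exact Ideal.mul_mem_left _ _ hj
  obtain ⟨k, hk⟩ := exists_component_notMem (𝒜 := 𝒜) hv
  have hcomp : (decompose 𝒜 ((w * u) * a) (k + n) : A) = (decompose 𝒜 (w * u) k : A) * a := by
    rw [DirectSum.coe_decompose_mul_of_right_mem_of_le 𝒜 ha (Nat.le_add_left n k),
      Nat.add_sub_cancel]
  have ht : (decompose 𝒜 (w * u) k : A) * b ∈ 𝒜 (k + n + 0) := by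
    rw [add_zero]
    exact SetLike.GradedMul.mul_mem (decompose 𝒜 (w * u) k).2 hb
  have htp : (decompose 𝒜 (w * u) k : A) * b ∉ p := fun h => (hpp.mem_or_mem h).elim hk hbp
  have key := hvJ (k + n) 0 1 ((decompose 𝒜 (w * u) k : A) * b) SetLike.GradedOne.one_mem ht htp
  refine mem_of_val_eq ?_ key
  rw [HomogeneousLocalization.val_mk, val_mkR, hcomp, one_mul, Localization.mk_eq_mk_iff,
    Localization.r_iff_exists]
  refine ⟨1, ?_⟩
  simp only [OneMemClass.coe_one, one_mul]
  ring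

/-- `𝔪_{A_p} ⊆ rad(𝔪_{A_(p)} A_p)` for a homogeneous prime `p` missing a homogeneous element of
positive degree. -/
theorem maximalIdeal_le_radical (hp : p.IsHomogeneous 𝒜) {e : ℕ} (he : 0 < e) {t : A}
    (ht : t ∈ 𝒜 e) (htp : t ∉ p) :
    maximalIdeal (Localization.AtPrime p) ≤
      ((maximalIdeal (AtPrime 𝒜 p)).map
        (algebraMap (AtPrime 𝒜 p) (Localization.AtPrime p))).radical := by
  classical
  rw [← Localization.AtPrime.map_eq_maximalIdeal, Ideal.map_le_iff_le_comap]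
  intro a ha
  rw [Ideal.mem_comap, ← DirectSum.sum_support_decompose 𝒜 a, map_sum]
  refine Ideal.sum_mem _ fun d _ => ?_
  have had : (decompose 𝒜 a d : A) ∈ p := hp d ha
  generalize hx : (decompose 𝒜 a d : A) = x at had
  have hxd : x ∈ 𝒜 d := hx ▸ (decompose 𝒜 a d).2
  have hnum : x ^ e ∈ 𝒜 (e * d) := by simpa using SetLike.pow_mem_graded e hxd
  have hden : t ^ d ∈ 𝒜 (e * d) := by
    rw [mul_comm]; simpa using SetLike.pow_mem_graded d ht
  have hdenp : t ^ d ∉ p := fun h => htp (hpp.mem_of_pow_mem d h)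
  have hr0 : mkR 𝒜 p (e * d) (x ^ e) (t ^ d) hnum hden hdenp ∈ maximalIdeal (AtPrime 𝒜 p) := by
    rw [mem_maximalIdeal, mem_nonunits_iff, ← HomogeneousLocalization.isUnit_iff_isUnit_val,
      val_mkR, Localization.mk_eq_mk', IsLocalization.AtPrime.isUnit_mk'_iff _ p]
    exact fun h => h (Ideal.pow_mem_of_mem p had e he)
  refine ⟨e, ?_⟩
  have h1 : (algebraMap A (Localization.AtPrime p) x) ^ e =
      algebraMap (AtPrime 𝒜 p) (Localization.AtPrime p)
        (mkR 𝒜 p (e * d) (x ^ e) (t ^ d) hnum hden hdenp) *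
      algebraMap A (Localization.AtPrime p) (t ^ d) := by
    rw [HomogeneousLocalization.algebraMap_apply, val_mkR, Localization.mk_eq_mk', ← map_pow]
    exact (IsLocalization.mk'_spec _ (x ^ e) ⟨t ^ d, hdenp⟩).symm
  rw [h1]
  exact Ideal.mul_mem_right _ _ (Ideal.mem_map_of_mem _ hr0)

/-- **`A_(p)` is Cohen–Macaulay when `A_p` is**, for `p` a relevant homogeneous prime. -/
theorem isCohenMacaulayLocalRing_atPrime
    [LocCoh.IsCohenMacaulayLocalRing (Localization.AtPrime p)]
    (hp : p.IsHomogeneous 𝒜) {e : ℕ} (he : 0 < e) {t : A} (ht : t ∈ 𝒜 e) (htp : t ∉ p) :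
    LocCoh.IsCohenMacaulayLocalRing (AtPrime 𝒜 p) :=
  isCohenMacaulayLocalRing_of_cycPure cycPure_val (maximalIdeal_le_radical hp he ht htp)

end Groth.Agent.Lib.PureCM33
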