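import Mathlib
import Groth.Agent.Lib.PureCM33a

/-!
# `(S_1)`-type descent along cyclically pure local maps with `rad(𝔪_R S) = 𝔪_S` (helper33)

`min_one_le_depth_of_cycPure` : for `φ : R → S` cyclically pure, `R`, `S` local, `S` Noetherian,
`𝔪_S ⊆ rad(𝔪_R S)`: if `depth S ≥ min(1, dim S)` then `depth R ≥ min(1, dim R)`.
-/

set_option autoImplicit false
set_option linter.unusedSectionVars false
universe u

namespace Groth.Agent.Lib.PureCM33

open RingTheory.Sequence IsLocalRing Module LocCoh Groth.Agent.Lib.H8CM Groth.Agent.Lib.DepthRees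

variable {R S : Type u} [CommRing R] [CommRing S] {φ : R →+* S}
  [IsLocalRing R] [IsLocalRing S]

/-- If `dim S ≤ 0` then `dim R ≤ 0`. -/
theorem CycPure.krullDimLE_zero (hp : CycPure φ) [Ring.KrullDimLE 0 S] : Ring.KrullDimLE 0 R := by
  have hS := ((Ring.krullDimLE_zero_and_isLocalRing_tfae S).out 0 2 rfl rfl).mp
    ⟨inferInstance, inferInstance⟩
  have hR : ∀ y : R, IsNilpotent y ↔ ¬ IsUnit y := by
    intro y
    constructor
    · intro hn hu
      obtain ⟨N, hN⟩ := hn
      have := hu.pow N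
      rw [hN] at this
      exact not_isUnit_zero this
    · intro hu
      have h1 : ¬ IsUnit (φ y) := fun h => hu (hp.isUnit_of_map h)
      obtain ⟨N, hN⟩ := (hS (φ y)).mpr h1
      refine ⟨N, hp.injective ?_⟩
      rw [map_pow, hN, map_zero]
  exact (((Ring.krullDimLE_zero_and_isLocalRing_tfae R).out 0 2 rfl rfl).mpr hR).1

variable [IsNoetherianRing S]

/-- Prime avoidance pulled back along `φ`: if `𝔪_S` is not an associated prime of `M`, there is
`y ∈ 𝔪_R` with `φ y` regular on `M`. -/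
theorem exists_mem_isSMulRegular_of_notMem
    (hrad : maximalIdeal S ≤ ((maximalIdeal R).map φ).radical)
    {M : Type u} [AddCommGroup M] [Module S M] [Module.Finite S M]
    (hM : maximalIdeal S ∉ associatedPrimes S M) :
    ∃ y ∈ maximalIdeal R, IsSMulRegular M (φ y) := by
  by_contra hcon
  push Not at hcon
  have hsub : ((maximalIdeal R : Ideal R) : Set R) ⊆
      ⋃ P ∈ associatedPrimes S M, ((P.comap φ : Ideal R) : Set R) := by
    intro y hy
    have h1 : φ y ∈ ⋃ P ∈ associatedPrimes S M, (P : Set S) := by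
      rw [biUnion_associatedPrimes_eq_compl_regular S M]
      exact hcon y hy
    simp only [Set.mem_iUnion, SetLike.mem_coe, exists_prop] at h1 ⊢
    obtain ⟨P, hP, hyP⟩ := h1
    exact ⟨P, hP, hyP⟩
  obtain ⟨P, hP, hle⟩ := (Ideal.subset_union_prime_finite (associatedPrimes.finite S M)
    (f := fun P => P.comap φ) 0 0 fun P h _ _ ↦
      (have := h.isPrime; Ideal.comap_isPrime φ P)).1 hsub
  have hPprime : P.IsPrime := hP.isPrime
  have h2 : (maximalIdeal R).map φ ≤ P := Ideal.map_le_iff_le_comap.mpr hle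
  have h3 : maximalIdeal S ≤ P := hrad.trans (hPprime.radical_le_iff.mpr h2)
  have h4 : P = maximalIdeal S :=
    ((IsLocalRing.maximalIdeal.isMaximal S).eq_of_le hPprime.ne_top h3).symm
  exact hM (h4 ▸ hP)

/-- **`(S_1)`-descent.** -/
theorem min_one_le_depth_of_cycPure (hp : CycPure φ)
    (hrad : maximalIdeal S ≤ ((maximalIdeal R).map φ).radical)
    (hS : min (1 : WithBot ℕ∞) (ringKrullDim S) ≤ ((LocCoh.depth S S : ℕ∞) : WithBot ℕ∞)) :
    min (1 : WithBot ℕ∞) (ringKrullDim R) ≤ ((LocCoh.depth R R : ℕ∞) : WithBot ℕ∞) := by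
  have hN : IsNoetherianRing R := hp.isNoetherianRing
  by_cases hR0 : ringKrullDim R ≤ 0
  · refine (min_le_right _ _).trans (hR0.trans ?_)
    have h0 : (0 : ℕ∞) ≤ LocCoh.depth R R := zero_le
    exact_mod_cast h0
  refine (min_le_left _ _).trans ?_
  -- `dim S ≥ 1`
  have hS1 : ¬ ringKrullDim S ≤ 0 := by
    intro h
    have : Ring.KrullDimLE 0 S := Ring.krullDimLE_iff.mpr h
    have : Ring.KrullDimLE 0 R := hp.krullDimLE_zero
    exact hR0 (Ring.krullDimLE_iff.mp this)
  have hS1' : (1 : WithBot ℕ∞) ≤ ringKrullDim S := by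
    rw [not_le] at hS1
    have h0 : ringKrullDim S ≠ ⊥ := ringKrullDim_ne_bot
    obtain ⟨d, hd⟩ := WithBot.ne_bot_iff_exists.mp h0
    rw [← hd] at hS1 ⊢
    have : (0 : ℕ∞) < d := by exact_mod_cast hS1
    exact_mod_cast Order.one_le_iff_pos.mpr this
  have hdS : (1 : ℕ∞) ≤ LocCoh.depth S S := by
    have := (le_min le_rfl hS1').trans hS
    exact_mod_cast this
  obtain ⟨rs, hlen, hmem, hreg⟩ := (natCast_le_depth_iff S 1).mp (by exact_mod_cast hdS)
  obtain ⟨s, rfl⟩ := List.length_eq_one_iff.mp hlen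
  have hsm : s ∈ maximalIdeal S := hmem s (by simp)
  have hsreg : IsSMulRegular S s := (isWeaklyRegular_singleton_iff S s).mp hreg
  have hnot : maximalIdeal S ∉ associatedPrimes S S := by
    intro hass
    have hmem' : s ∈ ⋃ P ∈ associatedPrimes S S, (P : Set S) := Set.mem_biUnion hass hsm
    rw [biUnion_associatedPrimes_eq_compl_regular] at hmem'
    exact hmem' hsreg
  obtain ⟨y, hy, hyreg⟩ := exists_mem_isSMulRegular_of_notMem hrad hnot
  have hyR : IsSMulRegular R y := by
    intro a b hab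
    apply hp.injective
    apply hyreg
    simp only [smul_eq_mul] at hab ⊢
    rw [← map_mul, ← map_mul, hab]
  exact_mod_cast (natCast_le_depth_iff R 1).mpr
    ⟨[y], rfl, by simpa using hy, (isWeaklyRegular_singleton_iff R y).mpr hyR⟩

end Groth.Agent.Lib.PureCM33
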