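import Mathlib

/-!
# Localizations of stalks of a scheme are stalks (helper33)

`exists_stalk_equiv_localization` : for a scheme `X`, a point `x` and a prime `Q` of `𝒪_{X,x}`, the
localization `(𝒪_{X,x})_Q` is isomorphic to the stalk `𝒪_{X,x'}` at some point `x'`.
-/

set_option autoImplicit false
universe u

open AlgebraicGeometry CategoryTheory

namespace Groth.Agent.Lib.StalkLoc33

theorem exists_stalk_equiv_localization (X : Scheme.{u}) (x : X)
    (Q : Ideal (X.presheaf.stalk x)) [Q.IsPrime] :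
    ∃ x' : X, Nonempty (Localization.AtPrime Q ≃+* X.presheaf.stalk x') := by
  obtain ⟨_, ⟨U, hU, rfl⟩, hxU, -⟩ :=
    X.isBasis_affineOpens.exists_subset_of_mem_open (Set.mem_univ x) isOpen_univ
  replace hU : IsAffineOpen U := hU
  let alg1 : Algebra Γ(X, U) (X.presheaf.stalk x) :=
    TopCat.Presheaf.algebra_section_stalk X.presheaf ⟨x, hxU⟩
  have hloc : IsLocalization.AtPrime (X.presheaf.stalk x) (hU.primeIdealOf ⟨x, hxU⟩).asIdeal :=
    hU.isLocalization_stalk ⟨x, hxU⟩
  have tower : IsScalarTower Γ(X, U) (X.presheaf.stalk x) (Localization.AtPrime Q) :=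
    inferInstance
  have hq' : (Q.comap (algebraMap Γ(X, U) (X.presheaf.stalk x))).IsPrime :=
    Ideal.comap_isPrime _ _
  have hlocT : IsLocalization.AtPrime (Localization.AtPrime Q)
      (Q.comap (algebraMap Γ(X, U) (X.presheaf.stalk x))) :=
    IsLocalization.isLocalization_isLocalization_atPrime_isLocalization
      (hU.primeIdealOf ⟨x, hxU⟩).asIdeal.primeCompl (Localization.AtPrime Q) Q
  set y : PrimeSpectrum Γ(X, U) := ⟨Q.comap (algebraMap Γ(X, U) (X.presheaf.stalk x)), hq'⟩ with hy
  have hyU : hU.fromSpec y ∈ U := by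
    rw [← SetLike.mem_coe, ← hU.range_fromSpec]
    exact Set.mem_range_self y
  let alg3 : Algebra Γ(X, U) (X.presheaf.stalk (hU.fromSpec y)) :=
    TopCat.Presheaf.algebra_section_stalk X.presheaf ⟨hU.fromSpec y, hyU⟩
  have hloc' : IsLocalization.AtPrime (X.presheaf.stalk (hU.fromSpec y)) y.asIdeal :=
    hU.isLocalization_stalk' y hyU
  exact ⟨hU.fromSpec y, ⟨(IsLocalization.algEquiv y.asIdeal.primeCompl (Localization.AtPrime Q)
    (X.presheaf.stalk (hU.fromSpec y))).toRingEquiv⟩⟩

end Groth.Agent.Lib.StalkLoc33
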