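import Mathlib
import Groth.Agent.Lib.PureCM33b
import Groth.Agent.Lib.PureCM33c
import Groth.Agent.Lib.H8CM9
import Groth.Agent.Lib.CMRingEquiv96
import Groth.Agent.Lib.StalkLoc33

/-!
# `(S_1)` for the local rings of `Proj A` (helper33)
-/

set_option autoImplicit false
set_option linter.unusedSectionVars false
universe u

namespace Groth.Agent.Lib.PureCM33

open DirectSum HomogeneousLocalization IsLocalRing LocCoh AlgebraicGeometry

variable {A : Type u} [CommRing A] {𝒜 : ℕ → AddSubgroup A} [GradedRing 𝒜]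
  {p : Ideal A} [hpp : p.IsPrime]

theorem isNoetherianRing_atPrime [IsNoetherianRing A] : IsNoetherianRing (AtPrime 𝒜 p) :=
  (cycPure_val (𝒜 := 𝒜) (p := p)).isNoetherianRing

theorem min_one_le_depth_atPrime [IsNoetherianRing A] (hA : HasSk 1 A A)
    (hp : p.IsHomogeneous 𝒜) {e : ℕ} (he : 0 < e) {t : A} (ht : t ∈ 𝒜 e) (htp : t ∉ p) :
    min (1 : WithBot ℕ∞) (ringKrullDim (AtPrime 𝒜 p)) ≤
      ((depth (AtPrime 𝒜 p) (AtPrime 𝒜 p) : ℕ∞) : WithBot ℕ∞) := by
  apply min_one_le_depth_of_cycPure cycPure_val (maximalIdeal_le_radical hp he ht htp)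
  have h1 := (Groth.Agent.Lib.H8CM.hasSk_self_iff 1).mp hA p
  rw [IsLocalization.AtPrime.ringKrullDim_eq_height p (Localization.AtPrime p)]
  exact_mod_cast h1

/-- A relevant homogeneous prime misses a homogeneous element of positive degree. -/
theorem exists_pos_notMem (x : Proj 𝒜) : ∃ (t : A) (e : ℕ) (_ : t ∈ 𝒜 e) (_ : 0 < e),
    t ∉ x.asHomogeneousIdeal.toIdeal := by
  classical
  by_contra! hcon
  refine x.not_irrelevant_le fun z hz ↦ ?_
  change z ∈ x.asHomogeneousIdeal.toIdeal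
  rw [← DirectSum.sum_support_decompose 𝒜 z]
  refine x.asHomogeneousIdeal.toIdeal.sum_mem fun k hk ↦ ?_
  rcases Nat.eq_zero_or_pos k with rfl | hk0
  · have h1 : (DirectSum.decompose 𝒜 z 0 : A) = 0 := hz
    rw [h1]
    exact zero_mem _
  · exact hcon _ k (SetLike.coe_mem _) hk0

/-- **Proj of an `(S_1)` Noetherian graded ring has `(S_1)` local rings.** -/
theorem hasSk_one_stalk_proj [IsNoetherianRing A] (hA : HasSk 1 A A) (x : Proj 𝒜) :
    HasSk 1 ((Proj 𝒜).presheaf.stalk x) ((Proj 𝒜).presheaf.stalk x) := by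
  have hprime : x.asHomogeneousIdeal.toIdeal.IsPrime := x.isPrime
  let e0 : (Proj 𝒜).presheaf.stalk x ≃+*
      HomogeneousLocalization.AtPrime 𝒜 x.asHomogeneousIdeal.toIdeal := Proj.stalkIso' 𝒜 x
  have hN0 : IsNoetherianRing (AtPrime 𝒜 x.asHomogeneousIdeal.toIdeal) := isNoetherianRing_atPrime
  have hNO : IsNoetherianRing ((Proj 𝒜).presheaf.stalk x) :=
    isNoetherianRing_of_ringEquiv _ e0.symm
  rw [Groth.Agent.Lib.H8CM.hasSk_self_iff]
  intro Q _
  obtain ⟨x', ⟨e⟩⟩ := Groth.Agent.Lib.StalkLoc33.exists_stalk_equiv_localization (Proj 𝒜) x Q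
  have hprime' : x'.asHomogeneousIdeal.toIdeal.IsPrime := x'.isPrime
  let e1 : Localization.AtPrime Q ≃+*
      HomogeneousLocalization.AtPrime 𝒜 x'.asHomogeneousIdeal.toIdeal :=
    e.trans (Proj.stalkIso' 𝒜 x')
  obtain ⟨t, d, ht, hd, htp⟩ := exists_pos_notMem x'
  have key := min_one_le_depth_atPrime hA x'.asHomogeneousIdeal.isHomogeneous hd ht htp
  rw [← ringKrullDim_eq_of_ringEquiv e1, ← Groth.Agent.Lib.CMRingEquiv96.depth_eq e1,
    IsLocalization.AtPrime.ringKrullDim_eq_height Q (Localization.AtPrime Q)] at key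
  exact_mod_cast key

end Groth.Agent.Lib.PureCM33
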