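import Groth.Agent.Lib.DirLimFP35
import Mathlib.LinearAlgebra.TensorProduct.DirectLimit
import Mathlib.Algebra.Exact

/-!
# Exactness after tensoring: from finitely presented modules to all modules (helper35)

If `X ⊗ A → X ⊗ B → X ⊗ C` is exact for every finitely presented `X`, it is exact for every `X`
(every module is a direct limit of finitely presented modules, `Lib/DirLimFP35`).
-/

set_option autoImplicit false

universe u

namespace Groth.Agent.Lib.PureExact35

open TensorProduct Module

variable {R : Type u} [CommRing R] {A B C : Type u} [AddCommGroup A] [Module R A]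
  [AddCommGroup B] [Module R B] [AddCommGroup C] [Module R C]
  (f : A →ₗ[R] B) (g : B →ₗ[R] C)

lemma lTensor_rTensor_apply {X Y : Type u} [AddCommGroup X] [Module R X] [AddCommGroup Y]
    [Module R Y] (h : X →ₗ[R] Y) (x : X ⊗[R] A) :
    f.lTensor Y (h.rTensor A x) = h.rTensor B (f.lTensor X x) := by
  rw [← LinearMap.comp_apply, ← LinearMap.comp_apply, LinearMap.lTensor_comp_rTensor,
    LinearMap.rTensor_comp_lTensor]

section DirLim

variable {ι : Type u} [Preorder ι] [IsDirected ι (· ≤ ·)] [Nonempty ι] [DecidableEq ι]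
  {G : ι → Type u} [∀ i, AddCommGroup (G i)] [∀ i, Module R (G i)]
  (t : ∀ i j, i ≤ j → G i →ₗ[R] G j) [DirectedSystem G fun i j h => t i j h]
  {M : Type u} [AddCommGroup M] [Module R M] (e : Module.DirectLimit G t ≃ₗ[R] M)

/-- The structure map `G i → M`. -/
noncomputable def φ (i : ι) : G i →ₗ[R] M := e.toLinearMap ∘ₗ Module.DirectLimit.of R ι G t i

lemma φ_t (i j : ι) (h : i ≤ j) (x : G i) : φ t e j (t i j h x) = φ t e i x := by
  simp [φ, Module.DirectLimit.of_f]

lemma φ_t' (i j : ι) (h : i ≤ j) : φ t e j ∘ₗ t i j h = φ t e i :=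
  LinearMap.ext (φ_t t e i j h)

variable (B) in
lemma exists_rTensor_φ (y : M ⊗[R] B) : ∃ (i : ι) (yi : G i ⊗[R] B), (φ t e i).rTensor B yi = y := by
  set y' := (e.symm.toLinearMap.rTensor B) y with hy'
  obtain ⟨i, yi, hyi⟩ := Module.DirectLimit.exists_of (TensorProduct.directLimitLeft t B y')
  refine ⟨i, yi, ?_⟩
  have h1 : (Module.DirectLimit.of R ι G t i).rTensor B yi = y' := by
    apply (TensorProduct.directLimitLeft t B).injective
    rw [TensorProduct.directLimitLeft_rTensor_of, hyi]
  rw [φ, LinearMap.rTensor_comp, LinearMap.comp_apply, h1, hy', ← LinearMap.comp_apply,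
    ← LinearMap.rTensor_comp]
  simp

variable (C) in
lemma exists_rTensor_t_eq_zero (i : ι) (c : G i ⊗[R] C) (hc : (φ t e i).rTensor C c = 0) :
    ∃ (k : ι) (h : i ≤ k), (t i k h).rTensor C c = 0 := by
  have h1 : (Module.DirectLimit.of R ι G t i).rTensor C c = 0 := by
    rw [φ, LinearMap.rTensor_comp, LinearMap.comp_apply] at hc
    have := congrArg (e.symm.toLinearMap.rTensor C) hc
    rw [← LinearMap.comp_apply, ← LinearMap.rTensor_comp, map_zero] at this
    simpa using this
  have h2 := TensorProduct.directLimitLeft_rTensor_of t C c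
  rw [h1, map_zero] at h2
  exact Module.DirectLimit.of.zero_exact h2.symm

include e in
theorem exact_lTensor_of_directLimit
    (hG : ∀ i, Function.Exact (f.lTensor (G i)) (g.lTensor (G i))) :
    Function.Exact (f.lTensor M) (g.lTensor M) := by
  intro y
  constructor
  · intro hy
    obtain ⟨i, yi, rfl⟩ := exists_rTensor_φ B t e y
    have h1 : (φ t e i).rTensor C (g.lTensor (G i) yi) = 0 := by
      rw [← lTensor_rTensor_apply, hy]
    obtain ⟨k, hk, h2⟩ := exists_rTensor_t_eq_zero C t e i _ h1
    rw [← lTensor_rTensor_apply] at h2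
    obtain ⟨xk, hxk⟩ := (hG k _).1 h2
    refine ⟨(φ t e k).rTensor A xk, ?_⟩
    rw [lTensor_rTensor_apply, hxk, ← LinearMap.comp_apply, ← LinearMap.rTensor_comp, φ_t']
  · rintro ⟨x, rfl⟩
    obtain ⟨i, xi, rfl⟩ := exists_rTensor_φ A t e x
    have h0 : g.lTensor (G i) (f.lTensor (G i) xi) = 0 := (hG i).apply_apply_eq_zero xi
    rw [lTensor_rTensor_apply, lTensor_rTensor_apply, h0, map_zero]

end DirLim

/-- If `X ⊗ A → X ⊗ B → X ⊗ C` is exact for every finitely presented `X`, then it is exact for every
module `M`. -/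
theorem exact_lTensor_of_finitePresentation
    (hfp : ∀ (X : Type u) [AddCommGroup X] [Module R X], Module.FinitePresentation R X →
      Function.Exact (f.lTensor X) (g.lTensor X))
    (M : Type u) [AddCommGroup M] [Module R M] : Function.Exact (f.lTensor M) (g.lTensor M) := by
  obtain ⟨ι, _, _, _, _, G, _, _, t, _, hG, ⟨e⟩⟩ := Groth.Agent.Lib.DirLimFP35.main R M
  exact exact_lTensor_of_directLimit f g t e (fun i => hfp (G i) (hG i))

end Groth.Agent.Lib.PureExact35
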