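import Mathlib.RingTheory.Ideal.Pure
import Mathlib.RingTheory.Spectrum.Prime.Topology
import Mathlib.Topology.Inseparable

/-!
# The pure ideal of a closed, generalization-stable subset of a spectrum (helper45)

For `Z ⊆ Spec A`, `pureIdeal Z = {a | ∀ p ∈ Z, a = 0 in A_p}`. If `Z` is closed and stable under
generalization then `V(pureIdeal Z) = Z`, `A ⧸ pureIdeal Z` is flat over `A`, and formation of
`pureIdeal` commutes with arbitrary base change `A → B` (Stacks 04PS/04PU).
-/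

set_option autoImplicit false
open PrimeSpectrum

namespace Groth.Agent.Lib.PureIdeal45

variable {A : Type*} [CommRing A]

/-- The ideal of elements whose germ vanishes at every point of `Z`. -/
def pureIdeal (Z : Set (PrimeSpectrum A)) : Ideal A where
  carrier := {a | ∀ p ∈ Z, ∃ s : A, s ∉ p.asIdeal ∧ s * a = 0}
  zero_mem' := fun p _ => ⟨1, p.isPrime.one_notMem, mul_zero 1⟩
  add_mem' := by
    intro a b ha hb p hp
    obtain ⟨s, hs, hsa⟩ := ha p hp
    obtain ⟨t, ht, htb⟩ := hb p hp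
    refine ⟨s * t, fun h => (p.isPrime.mem_or_mem h).elim hs ht, ?_⟩
    have : s * t * (a + b) = t * (s * a) + s * (t * b) := by ring
    rw [this, hsa, htb, mul_zero, mul_zero, add_zero]
  smul_mem' := by
    intro c a ha p hp
    obtain ⟨s, hs, hsa⟩ := ha p hp
    refine ⟨s, hs, ?_⟩
    have : s * (c • a) = c * (s * a) := by rw [smul_eq_mul]; ring
    rw [this, hsa, mul_zero]

lemma mem_pureIdeal_iff {Z : Set (PrimeSpectrum A)} {a : A} :
    a ∈ pureIdeal Z ↔ ∀ p ∈ Z, ∃ s : A, s ∉ p.asIdeal ∧ s * a = 0 := Iff.rfl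

lemma pureIdeal_le_of_mem {Z : Set (PrimeSpectrum A)} {p : PrimeSpectrum A} (hp : p ∈ Z) :
    pureIdeal Z ≤ p.asIdeal := by
  intro a ha
  obtain ⟨s, hs, hsa⟩ := ha p hp
  have : s * a ∈ p.asIdeal := hsa ▸ p.asIdeal.zero_mem
  exact (p.isPrime.mem_or_mem this).resolve_left hs

/-- An element vanishing on a generalization-stable set `Z` is nilpotent in the local ring of each
point of `Z`. -/
lemma exists_mul_pow_eq_zero {Z : Set (PrimeSpectrum A)} (hg : StableUnderGeneralization Z)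
    {p : PrimeSpectrum A} (hp : p ∈ Z) {x : A} (hx : x ∈ vanishingIdeal Z) :
    ∃ s : A, s ∉ p.asIdeal ∧ ∃ n : ℕ, s * x ^ n = 0 := by
  by_cases h0 : (0 : A) ∈ (p.asIdeal.primeCompl ⊔ Submonoid.powers x : Submonoid A)
  · obtain ⟨y, hy, z, ⟨n, rfl⟩, hyz⟩ := Submonoid.mem_sup.mp h0
    exact ⟨y, hy, n, hyz⟩
  · exfalso
    have hdisj : Disjoint ((⊥ : Ideal A) : Set A)
        (p.asIdeal.primeCompl ⊔ Submonoid.powers x : Submonoid A) := by
      rw [Set.disjoint_left]
      intro r hr hrS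
      rw [SetLike.mem_coe, Ideal.mem_bot] at hr
      exact h0 (hr ▸ hrS)
    obtain ⟨q, hq, -, hqS⟩ := Ideal.exists_le_prime_disjoint _ _ hdisj
    have hqp : q ≤ p.asIdeal := by
      intro r hr
      by_contra hrp
      exact Set.disjoint_left.mp hqS hr (SetLike.mem_coe.mpr
        ((le_sup_left : p.asIdeal.primeCompl ≤ _) hrp))
    have hqZ : (⟨q, hq⟩ : PrimeSpectrum A) ∈ Z :=
      hg ((PrimeSpectrum.le_iff_specializes ⟨q, hq⟩ p).mp hqp) hp
    have hxq : x ∈ q := (PrimeSpectrum.mem_vanishingIdeal Z x).mp hx ⟨q, hq⟩ hqZ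
    exact Set.disjoint_left.mp hqS hxq (SetLike.mem_coe.mpr
      ((le_sup_right : Submonoid.powers x ≤ _) (Submonoid.mem_powers x)))

/-- For a closed, generalization-stable `Z` and `q ∉ Z`, some element of `pureIdeal Z` is not in
`q`. -/
theorem exists_mem_pureIdeal_notMem {Z : Set (PrimeSpectrum A)} (hZ : IsClosed Z)
    (hg : StableUnderGeneralization Z) {q : PrimeSpectrum A} (hq : q ∉ Z) :
    ∃ g ∈ pureIdeal Z, g ∉ q.asIdeal := by
  have hZeq : zeroLocus (vanishingIdeal Z : Set A) = Z := by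
    rw [PrimeSpectrum.zeroLocus_vanishingIdeal_eq_closure, hZ.closure_eq]
  have hq' : ¬ ((vanishingIdeal Z : Set A) ⊆ q.asIdeal) := by
    intro h
    apply hq
    rw [← hZeq]
    exact (PrimeSpectrum.mem_zeroLocus q _).mpr h
  obtain ⟨x, hxv, hxq⟩ := Set.not_subset.mp hq'
  -- local nilpotency data
  choose! s hs n hsn using fun (p : PrimeSpectrum A) (hp : p ∈ Z) =>
    exists_mul_pow_eq_zero hg hp hxv
  have hcpt : IsCompact Z := hZ.isCompact
  obtain ⟨t, htZ, htfin, htcov⟩ := hcpt.elim_finite_subcover_image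
    (b := Z) (c := fun p => (PrimeSpectrum.basicOpen (s p) : Set (PrimeSpectrum A)))
    (fun p _ => (PrimeSpectrum.basicOpen (s p)).isOpen)
    (fun p hp => Set.mem_biUnion hp ((PrimeSpectrum.mem_basicOpen _ _).mpr (hs p hp)))
  let N : ℕ := htfin.toFinset.sup n
  refine ⟨x ^ N, ?_, fun h => hxq (q.isPrime.mem_of_pow_mem N h)⟩
  intro p hp
  obtain ⟨p₀, hp₀t, hp₀⟩ := Set.mem_iUnion₂.mp (htcov hp)
  refine ⟨s p₀, (PrimeSpectrum.mem_basicOpen _ _).mp hp₀, ?_⟩
  have hle : n p₀ ≤ N := Finset.le_sup (f := n) (htfin.mem_toFinset.mpr hp₀t)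
  obtain ⟨d, hd⟩ := Nat.exists_eq_add_of_le hle
  rw [hd, pow_add, ← mul_assoc, hsn p₀ (htZ hp₀t), zero_mul]

/-- `V(pureIdeal Z) = Z` for closed generalization-stable `Z`. -/
theorem zeroLocus_pureIdeal {Z : Set (PrimeSpectrum A)} (hZ : IsClosed Z)
    (hg : StableUnderGeneralization Z) : zeroLocus (pureIdeal Z : Set A) = Z := by
  ext q
  constructor
  · intro hq
    by_contra hqZ
    obtain ⟨g, hgI, hgq⟩ := exists_mem_pureIdeal_notMem hZ hg hqZ
    exact hgq ((PrimeSpectrum.mem_zeroLocus q _).mp hq hgI)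
  · intro hq
    exact (PrimeSpectrum.mem_zeroLocus q _).mpr (pureIdeal_le_of_mem hq)

/-- Every element `a` of `pureIdeal Z` satisfies `a = a * b` for some `b ∈ pureIdeal Z`. -/
theorem exists_eq_mul_of_mem {Z : Set (PrimeSpectrum A)} (hZ : IsClosed Z)
    (hg : StableUnderGeneralization Z) {a : A} (ha : a ∈ pureIdeal Z) :
    ∃ b ∈ pureIdeal Z, a = a * b := by
  -- `Ann(a) + I = ⊤`
  let Ann : Ideal A := LinearMap.ker (LinearMap.toSpanSingleton A A a)
  have hAnn : ∀ s : A, s ∈ Ann ↔ s * a = 0 := fun s => by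
    rw [LinearMap.mem_ker, LinearMap.toSpanSingleton_apply, smul_eq_mul]
  have htop : Ann ⊔ pureIdeal Z = ⊤ := by
    by_contra hne
    obtain ⟨m, hm, hle⟩ := Ideal.exists_le_maximal _ hne
    let q : PrimeSpectrum A := ⟨m, hm.isPrime⟩
    by_cases hq : q ∈ Z
    · obtain ⟨s, hs, hsa⟩ := ha q hq
      exact hs (hle (Ideal.mem_sup_left ((hAnn s).mpr hsa)))
    · obtain ⟨g, hgI, hgq⟩ := exists_mem_pureIdeal_notMem hZ hg hq
      exact hgq (hle (Ideal.mem_sup_right hgI))
  obtain ⟨s, hs, b, hb, hsb⟩ := Submodule.mem_sup.mp (htop ▸ Submodule.mem_top (x := (1 : A)))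
  refine ⟨b, hb, ?_⟩
  rw [hAnn] at hs
  calc a = a * (s + b) := by rw [hsb, mul_one]
    _ = s * a + a * b := by ring
    _ = a * b := by rw [hs, zero_add]

/-- `A ⧸ pureIdeal Z` is flat over `A`. -/
theorem pure_pureIdeal {Z : Set (PrimeSpectrum A)} (hZ : IsClosed Z)
    (hg : StableUnderGeneralization Z) : (pureIdeal Z).Pure := by
  apply Ideal.Pure.of_inf_eq_mul
  intro J _
  refine le_antisymm ?_ Ideal.mul_le_inf
  rintro x ⟨hxI, hxJ⟩
  obtain ⟨b, hb, hxb⟩ := exists_eq_mul_of_mem hZ hg hxI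
  have h1 : b * x ∈ pureIdeal Z * J := Ideal.mul_mem_mul hb hxJ
  rw [mul_comm b x] at h1
  rw [hxb]
  exact h1

/-- Formation of `pureIdeal` commutes with base change. -/
theorem map_pureIdeal {B : Type*} [CommRing B] (φ : A →+* B) {Z : Set (PrimeSpectrum A)}
    (hZ : IsClosed Z) (hg : StableUnderGeneralization Z) :
    (pureIdeal Z).map φ = pureIdeal (PrimeSpectrum.comap φ ⁻¹' Z) := by
  apply le_antisymm
  · rw [Ideal.map_le_iff_le_comap]
    intro a ha q hq
    obtain ⟨s, hs, hsa⟩ := ha _ hq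
    exact ⟨φ s, hs, by rw [← map_mul, hsa, map_zero]⟩
  · intro b hb
    let Col : Ideal B := Submodule.comap (LinearMap.toSpanSingleton B B b) ((pureIdeal Z).map φ)
    have hCol : ∀ t : B, t ∈ Col ↔ t * b ∈ (pureIdeal Z).map φ := fun t => by
      rw [Submodule.mem_comap, LinearMap.toSpanSingleton_apply, smul_eq_mul]
    have htop : Col = ⊤ := by
      by_contra hne
      obtain ⟨m, hm, hle⟩ := Ideal.exists_le_maximal _ hne
      let q : PrimeSpectrum B := ⟨m, hm.isPrime⟩
      by_cases hq : PrimeSpectrum.comap φ q ∈ Z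
      · obtain ⟨t, ht, htb⟩ := hb q hq
        apply ht
        apply hle
        rw [hCol, htb]
        exact Ideal.zero_mem _
      · obtain ⟨g, hgI, hgq⟩ := exists_mem_pureIdeal_notMem hZ hg hq
        apply hgq
        change φ g ∈ m
        apply hle
        rw [hCol]
        exact Ideal.mul_mem_right _ _ (Ideal.mem_map_of_mem φ hgI)
    have h1 : (1 : B) ∈ Col := htop ▸ Submodule.mem_top
    rw [hCol, one_mul] at h1
    exact h1

end Groth.Agent.Lib.PureIdeal45
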