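import Groth.Agent.Lib.UnivInj
import Mathlib.Algebra.Module.FinitePresentation

set_option autoImplicit false
universe u

namespace Groth.Agent.Lib.PureSplit

open Groth.Agent.Lib.UnivInj

variable {R : Type u} [CommRing R] {K E M : Type u} [AddCommGroup K] [Module R K]
  [AddCommGroup E] [Module R E] [AddCommGroup M] [Module R M]

/-- A pure (equational) exact sequence `K → E → M → 0` with `M` finitely presented splits. -/
theorem exists_section_of_equational (k : K →ₗ[R] E) (p : E →ₗ[R] M)
    (hp : Function.Surjective p) (hex : Function.Exact k p) (hk : Equational k)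
    [Module.FinitePresentation R M] : ∃ s : M →ₗ[R] E, p ∘ₗ s = LinearMap.id := by
  classical
  obtain ⟨m, φ, hφ⟩ := Module.Finite.exists_fin' R M
  have hker : (LinearMap.ker φ).FG := Module.FinitePresentation.fg_ker φ hφ
  obtain ⟨n, a, ha⟩ := Submodule.fg_iff_exists_fin_generating_family.mp hker
  -- lifts of generators
  choose y hy using fun j : Fin m => hp (φ (Pi.single j 1))
  have hφsum : ∀ v : Fin m → R, φ v = ∑ j, v j • φ (Pi.single j 1) := by
    intro v
    conv_lhs => rw [← Finset.univ_sum_single v]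
    rw [map_sum]
    refine Finset.sum_congr rfl fun j _ => ?_
    rw [← map_smul]
    congr 1
    ext i
    simp [Pi.single_apply]
  have hamem : ∀ i, a i ∈ LinearMap.ker φ := fun i => by
    rw [← ha]
    exact Submodule.subset_span ⟨i, rfl⟩
  have hx : ∀ i, ∃ x' : K, k x' = ∑ j, a i j • y j := by
    intro i
    apply (hex _).mp
    rw [map_sum]
    simp only [map_smul, hy]
    rw [← hφsum]
    exact hamem i
  choose x' hx' using hx
  obtain ⟨z, hz⟩ := hk n m x' y a hx'
  let y' : Fin m → E := fun j => y j - k (z j)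
  have hy' : ∀ i, ∑ j, a i j • y' j = 0 := by
    intro i
    simp only [y', smul_sub, Finset.sum_sub_distrib]
    rw [← hx' i, hz i, map_sum]
    simp only [map_smul, sub_self]
  let σ₀ : (Fin m → R) →ₗ[R] E := Fintype.linearCombination R y'
  have hσ₀ : ∀ v, σ₀ v = ∑ j, v j • y' j := fun v => Fintype.linearCombination_apply R y' v
  have hle : LinearMap.ker φ ≤ LinearMap.ker σ₀ := by
    rw [← ha, Submodule.span_le]
    rintro _ ⟨i, rfl⟩
    change σ₀ (a i) = 0
    rw [hσ₀]
    exact hy' i
  let s : M →ₗ[R] E :=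
    (LinearMap.ker φ).liftQ σ₀ hle ∘ₗ (φ.quotKerEquivOfSurjective hφ).symm.toLinearMap
  refine ⟨s, ?_⟩
  apply LinearMap.ext
  intro x
  obtain ⟨v, rfl⟩ := hφ x
  have h1 : (φ.quotKerEquivOfSurjective hφ).symm (φ v) = Submodule.Quotient.mk v := by
    rw [LinearEquiv.symm_apply_eq]
    rfl
  change p (s (φ v)) = φ v
  change p ((LinearMap.ker φ).liftQ σ₀ hle ((φ.quotKerEquivOfSurjective hφ).symm (φ v))) = φ v
  rw [h1, Submodule.liftQ_apply, hσ₀, map_sum]
  have h2 : ∀ j, p (v j • y' j) = v j • φ (Pi.single j 1) := by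
    intro j
    simp only [y', map_smul, map_sub, hy]
    rw [hex.apply_apply_eq_zero, sub_zero]
  rw [Finset.sum_congr rfl fun j _ => h2 j, ← hφsum]

end Groth.Agent.Lib.PureSplit
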