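import Groth.Agent.Lib.ZMTBir
import Mathlib.RingTheory.DiscreteValuationRing.TFAE
import Mathlib.RingTheory.KrullDimension.Basic

/-! # Birational ZMT, part 2 (helper34): isomorphism locus, valuation-ring domination -/

universe u
open CategoryTheory AlgebraicGeometry Limits

namespace Groth.Agent.Lib.ZMTBir

set_option backward.isDefEq.respectTransparency false in
theorem isIso_morphismRestrict_iSup {X Y : Scheme.{u}} (f : X ⟶ Y) {ι : Type*} (V : ι → Y.Opens)
    (hV : ∀ i, IsIso (f ∣_ V i)) : IsIso (f ∣_ ⨆ i, V i) := by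
  let 𝒰 := Scheme.Opens.iSupOpenCover V
  refine (IsZariskiLocalAtTarget.iff_of_openCover (P := .isomorphisms _) 𝒰).mpr fun x ↦ ?_
  refine (MorphismProperty.arrow_mk_iso_iff (.isomorphisms _)
    ((morphismRestrictRestrict ..).symm ≪≫ morphismRestrictOpensRange ..)).mp ?_
  have : Scheme.Opens.ι _ ''ᵁ (𝒰.f x).opensRange = V x := by
    simp only [Scheme.Opens.iSupOpenCover, 𝒰, ← Scheme.Hom.opensRange_comp, Scheme.homOfLE_ι,
      Scheme.Opens.opensRange_ι]
  convert! hV x

theorem bijective_of_valuationRing {C B KY KX : Type*} [CommRing C] [IsDomain C]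
    [ValuationRing C] [CommRing B] [Field KY] [Field KX] [Algebra C KY] [IsFractionRing C KY]
    (g : C →+* B) [IsLocalHom g] (ιB : B →+* KX) (hιB : Function.Injective ιB) (ψ : KY →+* KX)
    (hψ : Function.Surjective ψ) (hcomm : ιB.comp g = ψ.comp (algebraMap C KY)) :
    Function.Bijective g := by
  have hcomm' : ∀ c, ιB (g c) = ψ (algebraMap C KY c) := fun c => congr($hcomm c)
  constructor
  · intro a b hab
    apply IsFractionRing.injective C KY
    apply ψ.injective
    rw [← hcomm', ← hcomm', hab]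
  · intro b
    obtain ⟨k, hk⟩ := hψ (ιB b)
    have h1 : ∀ c : C, algebraMap C KY c = k → ∃ a, g a = b := fun c hc =>
      ⟨c, hιB (by rw [hcomm', hc, hk])⟩
    rcases ValuationRing.isInteger_or_isInteger C k with ⟨c, hc⟩ | ⟨c, hc⟩
    · exact h1 c hc
    · by_cases hk0 : k = 0
      · exact h1 0 (by rw [map_zero, hk0])
      · have hu : IsUnit (g c) := by
          refine IsUnit.of_mul_eq_one b (hιB ?_)
          rw [map_mul, hcomm', hc, ← hk, ← map_mul, inv_mul_cancel₀ hk0, map_one, map_one]
        obtain ⟨u, hu'⟩ := (isUnit_of_map_unit g c hu)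
        refine h1 (u⁻¹ : Cˣ) ?_
        have : algebraMap C KY (u : C) = k⁻¹ := by rw [hu', hc]
        rw [← inv_inv k, ← this, ← map_units_inv]

lemma le_one_of_not_two_le (d : WithBot ℕ∞) (h : ¬ (2 : WithBot ℕ∞) ≤ d) : d ≤ 1 := by
  rw [not_le] at h
  induction d using WithBot.recBotCoe with
  | bot => exact bot_le
  | coe d =>
    induction d using ENat.recTopCoe with
    | top => exact absurd h (by simp)
    | coe n =>
      rw [show (2 : WithBot ℕ∞) = ((2 : ℕ∞) : WithBot ℕ∞) from rfl, WithBot.coe_lt_coe] at h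
      rw [show (1 : WithBot ℕ∞) = ((1 : ℕ∞) : WithBot ℕ∞) from rfl, WithBot.coe_le_coe]
      have h' : n < 2 := by exact_mod_cast h
      have h'' : n ≤ 1 := by omega
      exact_mod_cast h''

theorem exists_isoLocus {X Y : Scheme.{u}} [IsIntegral X] [IsIntegral Y] (f : X ⟶ Y)
    [IsSeparated f] [LocallyOfFiniteType f]
    (hgen : f (genericPoint X) = genericPoint Y) (hbir : IsIso (f.stalkMap (genericPoint X))) :
    ∃ V : Y.Opens, IsIso (f ∣_ V) ∧ ∀ x₀ : X, f.QuasiFiniteAt x₀ →
      IsIntegrallyClosed (Y.presheaf.stalk (f x₀)) → f x₀ ∈ V := by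
  refine ⟨⨆ i : {U : Y.Opens // IsIso (f ∣_ U)}, i.1,
    isIso_morphismRestrict_iSup f _ (fun i => i.2), fun x₀ hq hic => ?_⟩
  obtain ⟨U, hU, hiso⟩ := exists_isIso_morphismRestrict_of_quasiFiniteAt f hgen hbir x₀ hic hq
  exact TopologicalSpace.Opens.mem_iSup.mpr ⟨⟨U, hiso⟩, hU⟩

theorem bijective_stalkMap_of_valuationRing {X Y : Scheme.{u}} [IsIntegral X] [IsIntegral Y]
    (f : X ⟶ Y) (hgen : f (genericPoint X) = genericPoint Y)
    (hbir : IsIso (f.stalkMap (genericPoint X))) (x : X)
    [ValuationRing (Y.presheaf.stalk (f x))] : Function.Bijective (f.stalkMap x).hom := by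
  have hsp : IsIso (Y.presheaf.stalkSpecializes (specializes_of_eq hgen)) :=
    (Y.presheaf.stalkCongr (.of_eq hgen)).isIso_inv
  let ψ : Y.functionField ⟶ X.functionField :=
    Y.presheaf.stalkSpecializes (specializes_of_eq hgen) ≫ f.stalkMap (genericPoint X)
  have hψ : IsIso ψ := inferInstance
  refine bijective_of_valuationRing (KY := Y.functionField) (KX := X.functionField)
    (f.stalkMap x).hom (algebraMap (X.presheaf.stalk x) X.functionField)
    (IsFractionRing.injective _ _) ψ.hom (ConcreteCategory.bijective_of_isIso ψ).2 ?_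
  have hx : genericPoint X ⤳ x := (genericPoint_spec X).specializes trivial
  have h1 := Scheme.Hom.stalkSpecializes_stalkMap f (genericPoint X) x hx
  simp only [RingHom.algebraMap_toAlgebra, ← CommRingCat.hom_comp]
  congr 1
  dsimp only [ψ]
  rw [← h1, ← Category.assoc, TopCat.Presheaf.stalkSpecializes_comp]

end Groth.Agent.Lib.ZMTBir
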