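import Mathlib
import Groth.Agent.Lib.PurityBC7

set_option autoImplicit false
universe u

namespace Groth.Agent.Lib.PurityQF7

open scoped TensorProduct
open Groth.Agent.Lib.PurityBC7

section AssFree

variable {R S : Type u} [CommRing R] [CommRing S] [Algebra R S]

/-- Associated primes descend along a free base change: the contraction of an associated prime of
the base change `M₂` is an associated prime of `M₁`. -/
theorem comap_mem_associatedPrimes_of_free [IsNoetherianRing R] [IsNoetherianRing S]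
    [Module.Free R S]
    {M₁ M₂ : Type u} [AddCommGroup M₁] [Module R M₁] [AddCommGroup M₂] [Module S M₂] [Module R M₂]
    [IsScalarTower R S M₂] (h : M₁ →ₗ[R] M₂) (hbc : IsBaseChange S h)
    (𝔮 : Ideal S) (h𝔮 : 𝔮 ∈ associatedPrimes S M₂) :
    𝔮.comap (algebraMap R S) ∈ associatedPrimes R M₁ := by
  classical
  obtain ⟨hprime, y, hy⟩ := (isAssociatedPrime_iff).mp h𝔮
  haveI := hprime
  have hy0 : y ≠ 0 := by
    rintro rfl
    apply hprime.ne_top
    rw [hy, eq_top_iff]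
    intro z _
    rw [Submodule.mem_colon_singleton, smul_zero]
    exact Submodule.zero_mem _
  let b := Module.Free.chooseBasis R S
  let e : M₂ ≃ₗ[R] (Module.Free.ChooseBasisIndex R S →₀ M₁) :=
    (hbc.equiv.symm.restrictScalars R) ≪≫ₗ TensorProduct.equivFinsuppOfBasisLeft b
  set c := e y with hc
  have hc0 : c ≠ 0 := by
    intro h0
    exact hy0 (e.map_eq_zero_iff.mp h0)
  have hmem : ∀ r : R, r ∈ 𝔮.comap (algebraMap R S) ↔ ∀ i ∈ c.support, r • c i = 0 := by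
    intro r
    rw [Ideal.mem_comap, hy, Submodule.mem_colon_singleton, Submodule.mem_bot, algebraMap_smul,
      ← e.map_eq_zero_iff, map_smul, ← hc]
    constructor
    · intro h0 i _
      have := congrArg (fun f => f i) h0
      simpa using this
    · intro h0
      ext i
      by_cases hi : i ∈ c.support
      · simpa using h0 i hi
      · rw [Finsupp.notMem_support_iff] at hi
        simp [hi]
  have hle : c.support.inf (fun i => (Submodule.colon (⊥ : Submodule R M₁) {c i})) ≤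
      𝔮.comap (algebraMap R S) := by
    intro r hr
    rw [hmem]
    intro i hi
    have := (Finset.inf_le hi : c.support.inf (fun i => (Submodule.colon (⊥ : Submodule R M₁) {c i})) ≤ _) hr
    rwa [Submodule.mem_colon_singleton, Submodule.mem_bot] at this
  obtain ⟨i, hi, hile⟩ := (Ideal.IsPrime.inf_le' (Ideal.comap_isPrime _ 𝔮)).mp hle
  rw [AssociatedPrimes.mem_iff, isAssociatedPrime_iff]
  refine ⟨Ideal.comap_isPrime _ 𝔮, c i, le_antisymm ?_ hile⟩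
  intro r hr
  rw [Submodule.mem_colon_singleton, Submodule.mem_bot]
  exact (hmem r).mp hr i hi

end AssFree

section Generic

variable {A₁ A₂ B₁ B₂ K₁ K₂ F₁ F₂ : Type u}
  [CommRing A₁] [CommRing A₂] [CommRing B₁] [CommRing B₂] [Field K₁] [Field K₂]
  [CommRing F₁] [CommRing F₂]
  [Algebra A₁ A₂] [Algebra A₁ B₁] [Algebra A₂ B₂] [Algebra B₁ B₂] [Algebra A₁ B₂]
  [aA₁K₁ : Algebra A₁ K₁] [aA₂K₂ : Algebra A₂ K₂] [aA₁K₂ : Algebra A₁ K₂] [aK₁K₂ : Algebra K₁ K₂]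
  [aK₁F₁ : Algebra K₁ F₁] [aB₁F₁ : Algebra B₁ F₁] [aA₁F₁ : Algebra A₁ F₁]
  [aK₂F₂ : Algebra K₂ F₂] [aB₂F₂ : Algebra B₂ F₂] [aA₂F₂ : Algebra A₂ F₂]
  [aA₁F₂ : Algebra A₁ F₂] [aB₁F₂ : Algebra B₁ F₂] [aK₁F₂ : Algebra K₁ F₂] [aF₁F₂ : Algebra F₁ F₂]
  [IsScalarTower A₁ B₁ B₂] [IsScalarTower A₁ A₂ B₂] [t1 : IsScalarTower A₁ A₂ K₂]
  [t2 : IsScalarTower A₁ K₁ K₂] [t3 : IsScalarTower A₁ K₁ F₁] [t4 : IsScalarTower A₁ B₁ F₁]
  [t5 : IsScalarTower A₂ K₂ F₂] [t6 : IsScalarTower A₂ B₂ F₂] [t7 : IsScalarTower A₁ A₂ F₂]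
  [t8 : IsScalarTower A₁ K₂ F₂] [t9 : IsScalarTower A₁ B₂ F₂] [t10 : IsScalarTower A₁ B₁ F₂]
  [t11 : IsScalarTower B₁ B₂ F₂] [t12 : IsScalarTower A₁ K₁ F₂] [t13 : IsScalarTower K₁ K₂ F₂]
  [t14 : IsScalarTower K₁ F₁ F₂] [t15 : IsScalarTower B₁ F₁ F₂] [t16 : IsScalarTower A₁ F₁ F₂]

variable {N₁ N₂ M₁ M₂ : Type u} [AddCommGroup N₁] [Module B₁ N₁]
  [AddCommGroup N₂] [Module B₂ N₂] [Module B₁ N₂] [IsScalarTower B₁ B₂ N₂]
  [AddCommGroup M₁] [mF₁M₁ : Module F₁ M₁] [mB₁M₁ : Module B₁ M₁] [t17 : IsScalarTower B₁ F₁ M₁]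
  [AddCommGroup M₂] [mF₂M₂ : Module F₂ M₂] [mB₂M₂ : Module B₂ M₂] [t18 : IsScalarTower B₂ F₂ M₂]

include A₁ A₂ B₁ B₂ K₁ K₂ in
/-- Generic descent of associated primes of fibre modules along a base change of the base. -/
theorem comap_ass_fiber_generic [IsNoetherianRing F₁] [IsNoetherianRing F₂]
    (h₀ : Algebra.IsPushout A₁ B₁ A₂ B₂) (h₁ : Algebra.IsPushout A₁ K₁ B₁ F₁)
    (h₂ : Algebra.IsPushout A₂ K₂ B₂ F₂)
    (g : N₁ →ₗ[B₁] N₂) (hg : IsBaseChange B₂ g)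
    (m₁ : N₁ →ₗ[B₁] M₁) (hm₁ : IsBaseChange F₁ m₁)
    (m₂ : N₂ →ₗ[B₂] M₂) (hm₂ : IsBaseChange F₂ m₂)
    (𝔮 : Ideal F₂) (h𝔮 : 𝔮 ∈ associatedPrimes F₂ M₂) :
    𝔮.comap (algebraMap F₁ F₂) ∈ associatedPrimes F₁ M₁ := by
  have hP : Algebra.IsPushout K₁ F₁ K₂ F₂ := (isPushout_fiber h₀ h₁ h₂).symm
  haveI : Module.Free F₁ F₂ := Module.Free.of_equiv
    (Algebra.IsPushout.equiv K₁ F₁ K₂ F₂).toLinearEquiv
  letI : Module B₁ M₂ := Module.compHom M₂ (algebraMap B₁ B₂)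
  haveI : IsScalarTower B₁ B₂ M₂ := ⟨fun b b' m => by
    change (b • b') • m = algebraMap B₁ B₂ b • (b' • m)
    rw [Algebra.smul_def, mul_smul]⟩
  letI : Module F₁ M₂ := Module.compHom M₂ (algebraMap F₁ F₂)
  haveI : IsScalarTower F₁ F₂ M₂ := ⟨fun b b' m => by
    change (b • b') • m = algebraMap F₁ F₂ b • (b' • m)
    rw [Algebra.smul_def, mul_smul]⟩
  have hB₁ : ∀ (b : B₁) (m : M₂), b • m = algebraMap B₁ F₂ b • m := by
    intro b m
    rw [IsScalarTower.algebraMap_apply B₁ B₂ F₂, algebraMap_smul F₂ (algebraMap B₁ B₂ b) m]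
    rfl
  haveI : IsScalarTower B₁ F₂ M₂ := ⟨fun b f m => by
    rw [hB₁, Algebra.smul_def, mul_smul]⟩
  haveI : IsScalarTower B₁ F₁ M₂ := ⟨fun b f m => by
    change algebraMap F₁ F₂ (b • f) • m = b • (algebraMap F₁ F₂ f • m)
    rw [hB₁, Algebra.smul_def, map_mul, mul_smul, ← IsScalarTower.algebraMap_apply B₁ F₁ F₂]⟩
  let c : N₁ →ₗ[B₁] M₂ := (m₂.restrictScalars B₁).comp g
  have hc : IsBaseChange F₂ c := IsBaseChange.comp hg hm₂
  let h : M₁ →ₗ[F₁] M₂ := hm₁.lift c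
  have hh : (h.restrictScalars B₁) ∘ₗ m₁ = c := hm₁.lift_comp c
  have hbc : IsBaseChange F₂ h := by
    apply IsBaseChange.of_comp hm₁
    rw [hh]
    exact hc
  exact comap_mem_associatedPrimes_of_free h hbc 𝔮 h𝔮

end Generic

section Transfer

attribute [local instance] Algebra.TensorProduct.rightAlgebra

theorem transfer_down {A₁ A₂ B₁ B₂ : Type u} [CommRing A₁] [CommRing A₂] [CommRing B₁] [CommRing B₂]
    [Algebra A₁ A₂] [Algebra A₁ B₁] [Algebra A₂ B₂] [Algebra B₁ B₂] [Algebra A₁ B₂]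
    [IsScalarTower A₁ B₁ B₂] [IsScalarTower A₁ A₂ B₂]
    [Algebra.FiniteType A₁ B₁] [Algebra.FiniteType A₂ B₂]
    (hpush : Algebra.IsPushout A₁ B₁ A₂ B₂)
    {N₁ N₂ : Type u} [AddCommGroup N₁] [Module B₁ N₁] [AddCommGroup N₂] [Module B₂ N₂]
    [Module B₁ N₂] [IsScalarTower B₁ B₂ N₂] (g : N₁ →ₗ[B₁] N₂) (hg : IsBaseChange B₂ g)
    (t₁ : Ideal A₁) [t₁.IsPrime] (t₂ : Ideal A₂) [t₂.IsPrime] [ht : t₂.LiesOver t₁]
    (P₂ : Ideal B₂) [P₂.IsPrime] [P₂.LiesOver t₂]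
    (hass : FlatCA.fiberIdeal t₂ P₂ ∈
      associatedPrimes (t₂.Fiber B₂) (FlatCA.fiberMod t₂ B₂ N₂)) :
    FlatCA.fiberIdeal t₁ (P₂.comap (algebraMap B₁ B₂)) ∈
      associatedPrimes (t₁.Fiber B₁) (FlatCA.fiberMod t₁ B₁ N₁) := by
  letI aA₁K₂ : Algebra A₁ t₂.ResidueField :=
    ((algebraMap A₂ t₂.ResidueField).comp (algebraMap A₁ A₂)).toAlgebra
  have t1 : IsScalarTower A₁ A₂ t₂.ResidueField := .of_algebraMap_eq fun _ => rfl
  letI aK₁K₂ : Algebra t₁.ResidueField t₂.ResidueField :=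
    (Ideal.ResidueField.map t₁ t₂ (algebraMap A₁ A₂) ht.over).toAlgebra
  have t2 : IsScalarTower A₁ t₁.ResidueField t₂.ResidueField := .of_algebraMap_eq fun r =>
    (Ideal.ResidueField.map_algebraMap t₁ t₂ (algebraMap A₁ A₂) ht.over r).symm
  have t3 : IsScalarTower A₁ t₁.ResidueField (t₁.Fiber B₁) := inferInstance
  have t4 : IsScalarTower A₁ B₁ (t₁.Fiber B₁) := inferInstance
  have t5 : IsScalarTower A₂ t₂.ResidueField (t₂.Fiber B₂) := inferInstance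
  have t6 : IsScalarTower A₂ B₂ (t₂.Fiber B₂) := inferInstance
  letI aA₁F₂ : Algebra A₁ (t₂.Fiber B₂) := Algebra.TensorProduct.leftAlgebra
  have t7 := @IsScalarTower.of_algebraMap_eq A₁ A₂ (t₂.Fiber B₂) _ _ _ _ _ aA₁F₂ (fun _ => rfl)
  have t8 := @IsScalarTower.of_algebraMap_eq A₁ t₂.ResidueField (t₂.Fiber B₂) _ _ _ aA₁K₂ _ aA₁F₂
    (fun x => by
      change algebraMap A₂ (t₂.Fiber B₂) (algebraMap A₁ A₂ x) =
        algebraMap t₂.ResidueField (t₂.Fiber B₂) (algebraMap A₂ t₂.ResidueField (algebraMap A₁ A₂ x))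
      rw [← IsScalarTower.algebraMap_apply A₂ t₂.ResidueField (t₂.Fiber B₂)])
  have t9 := @IsScalarTower.of_algebraMap_eq A₁ B₂ (t₂.Fiber B₂) _ _ _ _ _ aA₁F₂
    (fun x => by
      change algebraMap A₂ (t₂.Fiber B₂) (algebraMap A₁ A₂ x) =
        algebraMap B₂ (t₂.Fiber B₂) (algebraMap A₁ B₂ x)
      rw [IsScalarTower.algebraMap_apply A₁ A₂ B₂,
        ← IsScalarTower.algebraMap_apply A₂ B₂ (t₂.Fiber B₂)])
  letI aB₁F₂ : Algebra B₁ (t₂.Fiber B₂) :=
    ((algebraMap B₂ (t₂.Fiber B₂)).comp (algebraMap B₁ B₂)).toAlgebra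
  have t11 := @IsScalarTower.of_algebraMap_eq B₁ B₂ (t₂.Fiber B₂) _ _ _ _ _ aB₁F₂ (fun _ => rfl)
  have t10 := @IsScalarTower.of_algebraMap_eq A₁ B₁ (t₂.Fiber B₂) _ _ _ _ aB₁F₂ aA₁F₂
    (fun x => by
      change algebraMap A₂ (t₂.Fiber B₂) (algebraMap A₁ A₂ x) =
        algebraMap B₂ (t₂.Fiber B₂) (algebraMap B₁ B₂ (algebraMap A₁ B₁ x))
      rw [← IsScalarTower.algebraMap_apply A₁ B₁ B₂, IsScalarTower.algebraMap_apply A₁ A₂ B₂,
        ← IsScalarTower.algebraMap_apply A₂ B₂ (t₂.Fiber B₂)])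
  letI aK₁F₂ : Algebra t₁.ResidueField (t₂.Fiber B₂) :=
    ((algebraMap t₂.ResidueField (t₂.Fiber B₂)).comp (algebraMap t₁.ResidueField t₂.ResidueField)).toAlgebra
  have t13 := @IsScalarTower.of_algebraMap_eq t₁.ResidueField t₂.ResidueField (t₂.Fiber B₂) _ _ _
    aK₁K₂ _ aK₁F₂ (fun _ => rfl)
  have t12 := @IsScalarTower.of_algebraMap_eq A₁ t₁.ResidueField (t₂.Fiber B₂) _ _ _ _ aK₁F₂ aA₁F₂
    (fun x => by
      change algebraMap A₂ (t₂.Fiber B₂) (algebraMap A₁ A₂ x) =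
        algebraMap t₂.ResidueField (t₂.Fiber B₂)
          (algebraMap t₁.ResidueField t₂.ResidueField (algebraMap A₁ t₁.ResidueField x))
      rw [← @IsScalarTower.algebraMap_apply A₁ t₁.ResidueField t₂.ResidueField _ _ _ _ aK₁K₂ aA₁K₂ t2]
      change _ = algebraMap t₂.ResidueField (t₂.Fiber B₂)
          (algebraMap A₂ t₂.ResidueField (algebraMap A₁ A₂ x))
      rw [← IsScalarTower.algebraMap_apply A₂ t₂.ResidueField (t₂.Fiber B₂)])
  let φK : t₁.ResidueField →ₐ[A₁] t₂.Fiber B₂ :=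
    { toRingHom := algebraMap t₁.ResidueField (t₂.Fiber B₂)
      commutes' := fun x =>
        (@IsScalarTower.algebraMap_apply A₁ t₁.ResidueField (t₂.Fiber B₂) _ _ _ _ aK₁F₂ aA₁F₂ t12 x).symm }
  let φB : B₁ →ₐ[A₁] t₂.Fiber B₂ :=
    { toRingHom := algebraMap B₁ (t₂.Fiber B₂)
      commutes' := fun x =>
        (@IsScalarTower.algebraMap_apply A₁ B₁ (t₂.Fiber B₂) _ _ _ _ aB₁F₂ aA₁F₂ t10 x).symm }
  let ψ : t₁.Fiber B₁ →ₐ[A₁] t₂.Fiber B₂ :=
    Algebra.TensorProduct.lift φK φB (fun _ _ => Commute.all _ _)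
  letI aF₁F₂ : Algebra (t₁.Fiber B₁) (t₂.Fiber B₂) := ψ.toRingHom.toAlgebra
  have t14 := @IsScalarTower.of_algebraMap_eq t₁.ResidueField (t₁.Fiber B₁) (t₂.Fiber B₂) _ _ _
    _ aF₁F₂ aK₁F₂ (fun k => by
      change _ = ψ (algebraMap t₁.ResidueField (t₁.Fiber B₁) k)
      rw [Algebra.TensorProduct.algebraMap_apply, Algebra.TensorProduct.lift_tmul, map_one, mul_one]
      rfl)
  have t15 := @IsScalarTower.of_algebraMap_eq B₁ (t₁.Fiber B₁) (t₂.Fiber B₂) _ _ _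
    _ aF₁F₂ aB₁F₂ (fun b => by
      change _ = ψ ((1 : t₁.ResidueField) ⊗ₜ[A₁] b)
      rw [Algebra.TensorProduct.lift_tmul, map_one, one_mul]
      rfl)
  have t16 := @IsScalarTower.of_algebraMap_eq A₁ (t₁.Fiber B₁) (t₂.Fiber B₂) _ _ _
    _ aF₁F₂ aA₁F₂ (fun x => (ψ.commutes x).symm)
  haveI : IsNoetherianRing (t₁.Fiber B₁) :=
    Algebra.FiniteType.isNoetherianRing t₁.ResidueField (t₁.Fiber B₁)
  haveI : IsNoetherianRing (t₂.Fiber B₂) :=
    Algebra.FiniteType.isNoetherianRing t₂.ResidueField (t₂.Fiber B₂)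
  have h₁ : Algebra.IsPushout A₁ t₁.ResidueField B₁ (t₁.Fiber B₁) := inferInstance
  have h₂ : Algebra.IsPushout A₂ t₂.ResidueField B₂ (t₂.Fiber B₂) := inferInstance
  have hm₁ : IsBaseChange (t₁.Fiber B₁) (TensorProduct.mk B₁ (t₁.Fiber B₁) N₁ 1) :=
    TensorProduct.isBaseChange B₁ N₁ (t₁.Fiber B₁)
  have hm₂ : IsBaseChange (t₂.Fiber B₂) (TensorProduct.mk B₂ (t₂.Fiber B₂) N₂ 1) :=
    TensorProduct.isBaseChange B₂ N₂ (t₂.Fiber B₂)
  have h𝔮₁ := comap_ass_fiber_generic (K₁ := t₁.ResidueField) (K₂ := t₂.ResidueField)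
    (F₁ := t₁.Fiber B₁) (F₂ := t₂.Fiber B₂) (M₁ := (t₁.Fiber B₁) ⊗[B₁] N₁)
    (M₂ := (t₂.Fiber B₂) ⊗[B₂] N₂) hpush h₁ h₂ g hg _ hm₁ _ hm₂ _ hass
  obtain ⟨hP₂prime, hP₂comap⟩ := fiberIdeal_isPrime_comap t₂ P₂
  haveI := hP₂prime
  haveI h𝔮₁prime : ((FlatCA.fiberIdeal t₂ P₂).comap
      (algebraMap (t₁.Fiber B₁) (t₂.Fiber B₂))).IsPrime := Ideal.comap_isPrime _ _
  have hcomap : ((FlatCA.fiberIdeal t₂ P₂).comap
      (algebraMap (t₁.Fiber B₁) (t₂.Fiber B₂))).comap (fiberIncl (B := B₁) t₁) =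
      P₂.comap (algebraMap B₁ B₂) := by
    ext x
    rw [Ideal.mem_comap, Ideal.mem_comap, Ideal.mem_comap]
    have : algebraMap (t₁.Fiber B₁) (t₂.Fiber B₂) (fiberIncl (B := B₁) t₁ x) =
        fiberIncl (B := B₂) t₂ (algebraMap B₁ B₂ x) := by
      change ψ ((1 : t₁.ResidueField) ⊗ₜ[A₁] x) = _
      rw [Algebra.TensorProduct.lift_tmul, map_one, one_mul]
      rfl
    rw [this, ← Ideal.mem_comap, hP₂comap]
  rw [← hcomap, fiberIdeal_comap]
  exact h𝔮₁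

end Transfer

section Pushdown

/-- Push an impurity down along an integral map `R' → V` of base rings, when `v` is the only prime
of `V` over `P`. -/
theorem pushdown_generic {A B : Type u} [CommRing A] [CommRing B] [Algebra A B]
    [Algebra.FiniteType A B]
    (N : Type u) [AddCommGroup N] [Module B N] (p : Ideal A) [p.IsPrime]
    (R' B' N' : Type u) [CommRing R'] [CommRing B'] [Algebra A R'] [Algebra B B'] [Algebra R' B']
    [Algebra A B'] [IsScalarTower A B B'] [IsScalarTower A R' B']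
    (hpushR' : Algebra.IsPushout A B R' B')
    [AddCommGroup N'] [Module B' N'] [Module B N'] [IsScalarTower B B' N'] [Module R' N']
    [IsScalarTower R' B' N'] (k : N →ₗ[B] N') (hk : IsBaseChange B' k)
    (V BV NV : Type u) [CommRing V] [CommRing BV] [Algebra A V] [Algebra B BV]
    [Algebra V BV] [Algebra A BV] [IsScalarTower A B BV] [IsScalarTower A V BV]
    [AddCommGroup NV] [Module BV NV] [Module B NV] [IsScalarTower B BV NV] [Module V NV]
    [IsScalarTower V BV NV] (fV : N →ₗ[B] NV) (v' v : Ideal V) [v'.IsPrime] [v.IsPrime]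
    (PV : Ideal BV) [PV.IsPrime] (himp : FlatCA.IsImpurity A B N p V BV NV fV v' v PV)
    [Algebra R' V] [IsScalarTower A R' V] [Algebra.IsIntegral R' V]
    (P : Ideal R') [P.IsPrime] [hPp : P.LiesOver p] [hvP : v.LiesOver P]
    (huniq : ∀ w : Ideal V, w.IsPrime → w.LiesOver P → w = v) :
    ∃ (s : Ideal R') (_ : s.IsPrime) (P'' : Ideal B') (_ : P''.IsPrime),
      FlatCA.IsImpurity A B N p R' B' N' k s P P'' := by
  obtain ⟨hpushV, hbcV, hle, hover, hPVover, hassV, hclV⟩ := himp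
  haveI := hover
  haveI := hPVover
  letI aR'BV : Algebra R' BV := ((algebraMap V BV).comp (algebraMap R' V)).toAlgebra
  haveI tR'VBV : IsScalarTower R' V BV := .of_algebraMap_eq fun _ => rfl
  obtain ⟨aB'BV, tw1, tw2, hpush₂⟩ := exists_algebra_isPushout (A := A) (B := B) (A' := R')
    (B' := B') (A₂ := V) (B₂ := BV) hpushR' hpushV
  letI mB'NV : Module B' NV := Module.compHom NV (algebraMap B' BV)
  haveI tB'BVNV : IsScalarTower B' BV NV := ⟨fun b b₂ n => by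
    change (b • b₂) • n = algebraMap B' BV b • (b₂ • n)
    rw [Algebra.smul_def, mul_smul]⟩
  haveI tBB'NV : IsScalarTower B B' NV := ⟨fun b b' n => by
    change algebraMap B' BV (b • b') • n = b • (algebraMap B' BV b' • n)
    rw [Algebra.smul_def, map_mul, mul_smul, ← IsScalarTower.algebraMap_apply B B' BV,
      algebraMap_smul]⟩
  obtain ⟨g, hg, -⟩ := exists_isBaseChange k hk fV hbcV
  haveI : Algebra.FiniteType R' B' :=
    Algebra.FiniteType.equiv (inferInstance : Algebra.FiniteType R' (R' ⊗[A] B))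
      (Algebra.IsPushout.equiv A R' B B' (h := hpushR'.symm))
  haveI : Algebra.FiniteType V BV :=
    Algebra.FiniteType.equiv (inferInstance : Algebra.FiniteType V (V ⊗[A] B))
      (Algebra.IsPushout.equiv A V B BV (h := hpushV.symm))
  haveI hsv' : v'.LiesOver (v'.under R') := ⟨rfl⟩
  have hass := transfer_down hpush₂ g hg (v'.under R') v' PV hassV
  refine ⟨v'.under R', inferInstance, PV.comap (algebraMap B' BV), Ideal.comap_isPrime _ _,
    hpushR', hk, ?_, hPp, ⟨?_⟩, hass, ?_⟩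
  · rw [hvP.over]
    exact Ideal.comap_mono hle
  · rw [Ideal.under_def, Ideal.under_def, Ideal.comap_comap,
      ← IsScalarTower.algebraMap_eq R' B' BV, IsScalarTower.algebraMap_eq R' V BV,
      ← Ideal.comap_comap, ← Ideal.under_def (A := V) PV, ← hPVover.over]
  · intro Q hQ hleQ hQover
    haveI : Algebra.IsIntegral B' BV := Algebra.IsPushout.isIntegral' R' B' V BV
    obtain ⟨QV, hQVle, hQVprime, hQVcomap⟩ :=
      Ideal.exists_ideal_over_prime_of_isIntegral_of_isPrime Q PV hleQ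
    haveI := hQVprime
    refine hclV QV hQVle ?_
    have hw : QV.under V = v := by
      apply huniq _ inferInstance
      constructor
      rw [Ideal.under_def, Ideal.under_def, Ideal.comap_comap,
        ← IsScalarTower.algebraMap_eq R' V BV, IsScalarTower.algebraMap_eq R' B' BV,
        ← Ideal.comap_comap, hQVcomap, ← Ideal.under_def, ← hQover.over]
    exact ⟨hw.symm⟩

end Pushdown

end Groth.Agent.Lib.PurityQF7
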