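import Mathlib
import Groth.Agent.S9005
import Groth.Agent.S1217
import Groth.Agent.Lib.PurityQF7
import Groth.Agent.Lib.H77FibreExact
import Groth.Agent.Lib.H77GenImage

/-!
# Purity: generic associated points, curve selection, quasi-finiteness (helper7)

Pieces for S1247 (impurity over a Noetherian base => impurity with finite type base change
quasi-finite at the point).

* `genAss_domain`, `genAss_rel`: an associated point of the generic fibre spreads out to associated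
  points of the fibres over a nonempty open of the base (which contain the given point in their
  closure).
* `exists_prime_between`: curve selection in a Noetherian ring (prime avoidance + Krull).
* `quasiFiniteAt_of_isolated`: a point isolated in its fibre is a quasi-finite point.
* `not_isImpurity_of_liesOver`: there is no impurity inside a single fibre.
-/

set_option autoImplicit false
universe u

namespace Groth.Agent.Lib.PurityGen7

open scoped TensorProduct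
open Groth.Agent.Lib.PurityBC7

attribute [local instance] Algebra.TensorProduct.rightAlgebra

section Domain

variable {D B N : Type u} [CommRing D] [CommRing B] [Algebra D B]
  [AddCommGroup N] [Module B N] [Module D N] [IsScalarTower D B N]

/-- `1 ⊗ n = 0` in the fibre module over `𝔮` iff `1 ⊗ n = 0` in `κ(𝔮) ⊗[D] N`. -/
theorem one_tmul_eq_zero_iff (𝔮 : Ideal D) [𝔮.IsPrime] (n : N) :
    (1 : 𝔮.Fiber B) ⊗ₜ[B] n = 0 ↔ (1 : 𝔮.ResidueField) ⊗ₜ[D] n = 0 := by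
  haveI : Algebra.IsPushout D 𝔮.ResidueField B (𝔮.Fiber B) := TensorProduct.isPushout
  have := Algebra.IsPushout.cancelBaseChange_tmul D 𝔮.ResidueField B (𝔮.Fiber B) N n
  constructor
  · intro h
    rw [h, map_zero] at this
    exact this.symm
  · intro h
    rw [h] at this
    exact (LinearEquiv.map_eq_zero_iff _).mp this

theorem fiberIncl_smul_one_tmul (𝔮 : Ideal D) [𝔮.IsPrime] (b : B) (n : N) :
    fiberIncl (B := B) 𝔮 b • ((1 : 𝔮.Fiber B) ⊗ₜ[B] n) = (1 : 𝔮.Fiber B) ⊗ₜ[B] (b • n) := by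
  change ((1 : 𝔮.ResidueField) ⊗ₜ[D] b : 𝔮.Fiber B) • ((1 : 𝔮.Fiber B) ⊗ₜ[B] n) = _
  have : ((1 : 𝔮.ResidueField) ⊗ₜ[D] b : 𝔮.Fiber B) = b • (1 : 𝔮.Fiber B) := by
    rw [Algebra.smul_def, mul_one]
    rfl
  rw [this, TensorProduct.smul_tmul', smul_eq_mul, mul_one, TensorProduct.smul_tmul]

theorem exists_smul_eq_zero_iff [IsDomain D] [IsNoetherianRing D] [Algebra.FiniteType D B]
    (P : Ideal B) [P.IsPrime] [P.LiesOver (⊥ : Ideal D)]
    (hass : FlatCA.fiberIdeal (⊥ : Ideal D) P ∈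
      associatedPrimes ((⊥ : Ideal D).Fiber B) (FlatCA.fiberMod (⊥ : Ideal D) B N)) :
    ∃ x' : N, ∀ b : B, b • x' = 0 ↔ b ∈ P := by
  classical
  obtain ⟨h𝔓prime, h𝔓comap⟩ := fiberIdeal_isPrime_comap (⊥ : Ideal D) P
  obtain ⟨z, hz⟩ := Groth.Agent.S9005.exists_ann_eq (⊥ : Ideal D) P hass
  obtain ⟨r, hr, x, hx⟩ := Groth.Agent.S9005.exists_smul_eq_one_tmul (⊥ : Ideal D) z
  have hru := isUnit_algebraMap_fiber (B := B) (⊥ : Ideal D) hr
  have hann : ∀ f : (⊥ : Ideal D).Fiber B, f • ((1 : (⊥ : Ideal D).Fiber B) ⊗ₜ[B] x) = 0 ↔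
      f ∈ FlatCA.fiberIdeal (⊥ : Ideal D) P := by
    intro f
    rw [← hz, ← hx, smul_comm]
    constructor
    · intro h
      obtain ⟨v, hv⟩ := hru
      have := congrArg (fun w => (↑v⁻¹ : (⊥ : Ideal D).Fiber B) • w) h
      simp only [smul_zero] at this
      rwa [← hv, smul_smul, Units.inv_mul, one_smul] at this
    · intro h
      rw [h, smul_zero]
  haveI : IsNoetherianRing B := Algebra.FiniteType.isNoetherianRing D B
  obtain ⟨T, hT⟩ := (isNoetherianRing_iff_ideal_fg B).mp inferInstance P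
  have hu : ∀ y ∈ P, ∃ u : D, u ≠ 0 ∧ u • (y • x) = 0 := by
    intro y hy
    have h1 : fiberIncl (B := B) (⊥ : Ideal D) y ∈ FlatCA.fiberIdeal (⊥ : Ideal D) P :=
      Ideal.mem_map_of_mem _ hy
    have h2 := (hann _).mpr h1
    rw [fiberIncl_smul_one_tmul] at h2
    have h3 := (one_tmul_eq_zero_iff (⊥ : Ideal D) _).mp h2
    obtain ⟨t, ht, hth⟩ :=
      Groth.Agent.Lib.H77FibreExact.exists_smul_mem_of_one_tmul_eq_zero (⊥ : Ideal D) _ h3
    refine ⟨t, fun h => ht (by rw [h]; exact Ideal.zero_mem _), ?_⟩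
    rw [Submodule.bot_smul] at hth
    exact (Submodule.mem_bot D).mp hth
  choose! u hu0 hu1 using hu
  have hTP : ∀ y ∈ T, y ∈ P := fun y hy => hT ▸ Ideal.subset_span hy
  let U : D := ∏ y ∈ T, u y
  have hU : U ≠ 0 := Finset.prod_ne_zero_iff.mpr fun y hy => hu0 y (hTP y hy)
  refine ⟨U • x, fun b => ⟨fun hb => ?_, fun hb => ?_⟩⟩
  · have h1 : (fiberIncl (B := B) (⊥ : Ideal D) b * algebraMap D ((⊥ : Ideal D).Fiber B) U) •
        ((1 : (⊥ : Ideal D).Fiber B) ⊗ₜ[B] x) = 0 := by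
      rw [mul_smul, Groth.Agent.S9005.algebraMap_smul_one_tmul, fiberIncl_smul_one_tmul, hb,
        TensorProduct.tmul_zero]
    have h2 := (hann _).mp h1
    rcases h𝔓prime.mem_or_mem h2 with h3 | h3
    · rw [← h𝔓comap]
      exact Ideal.mem_comap.mpr h3
    · exfalso
      have hUu := isUnit_algebraMap_fiber (B := B) (⊥ : Ideal D) (r := U)
        (fun h => hU ((Submodule.mem_bot D).mp h))
      exact h𝔓prime.ne_top (Ideal.eq_top_of_isUnit_mem _ h3 hUu)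
  · have hle : P ≤ (⊥ : Submodule B N).colon {U • x} := by
      rw [← hT, Ideal.span_le]
      intro y hy
      rw [SetLike.mem_coe, Submodule.mem_colon_singleton, Submodule.mem_bot]
      have h1 : U = (∏ y' ∈ T.erase y, u y') * u y := by
        rw [Finset.prod_erase_mul _ _ hy]
      rw [smul_comm, h1, mul_smul, hu1 y (hTP y hy), smul_zero]
    have := hle hb
    rwa [Submodule.mem_colon_singleton, Submodule.mem_bot] at this

theorem genAss_domain [IsDomain D] [IsNoetherianRing D] [Algebra.FiniteType D B]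
    [Module.Finite B N]
    (P : Ideal B) [P.IsPrime] [P.LiesOver (⊥ : Ideal D)]
    (hass : FlatCA.fiberIdeal (⊥ : Ideal D) P ∈
      associatedPrimes ((⊥ : Ideal D).Fiber B) (FlatCA.fiberMod (⊥ : Ideal D) B N)) :
    ∃ G : D, G ≠ 0 ∧ ∀ (𝔮 : Ideal D) [𝔮.IsPrime], G ∉ 𝔮 →
      ∃ (P₁ : Ideal B) (_ : P₁.IsPrime), P ≤ P₁ ∧ P₁.LiesOver 𝔮 ∧
        FlatCA.fiberIdeal 𝔮 P₁ ∈ associatedPrimes (𝔮.Fiber B) (FlatCA.fiberMod 𝔮 B N) := by
  classical
  obtain ⟨x', hx'⟩ := exists_smul_eq_zero_iff (N := N) P hass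
  have hker : P ≤ LinearMap.ker (LinearMap.toSpanSingleton B N x') := by
    intro y hy
    rw [LinearMap.mem_ker, LinearMap.toSpanSingleton_apply]
    exact (hx' y).mpr hy
  let ι : B ⧸ P →ₗ[B] N := Submodule.liftQ P (LinearMap.toSpanSingleton B N x') hker
  have hι1 : ι (Submodule.Quotient.mk 1) = x' := by
    rw [Submodule.liftQ_apply, LinearMap.toSpanSingleton_apply, one_smul]
  have hιinj : Function.Injective ι := by
    rw [← LinearMap.ker_eq_bot]
    apply Submodule.ker_liftQ_eq_bot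
    intro y hy
    rw [LinearMap.mem_ker, LinearMap.toSpanSingleton_apply] at hy
    exact (hx' y).mp hy
  -- generic injectivity
  have hgen : Function.Exact
      (((0 : B ⧸ P →ₗ[B] B ⧸ P).restrictScalars D).baseChange (FractionRing D))
      ((ι.restrictScalars D).baseChange (FractionRing D)) := by
    have h0 : ((0 : B ⧸ P →ₗ[B] B ⧸ P).restrictScalars D).baseChange (FractionRing D) = 0 := by
      ext
      simp
    rw [h0, LinearMap.exact_zero_iff_injective]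
    have := Module.Flat.lTensor_preserves_injective_linearMap (M := FractionRing D)
      (ι.restrictScalars D) hιinj
    exact this
  obtain ⟨f₁, hf₁, hex⟩ := Groth.Agent.Lib.H77FibreExact.exists_forall_fibre_exact
    (R := D) (B := B) (0 : B ⧸ P →ₗ[B] B ⧸ P) ι hgen
  -- image
  haveI : (⊥ : Ideal (B ⧸ P)).IsPrime := Ideal.isPrime_bot
  have hQ₀ : (PrimeSpectrum.comap (algebraMap D (B ⧸ P)) ⟨⊥, inferInstance⟩).asIdeal = ⊥ := by
    ext a
    rw [PrimeSpectrum.comap_asIdeal, Ideal.mem_comap, Ideal.mem_bot, Ideal.mem_bot,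
      IsScalarTower.algebraMap_apply D B (B ⧸ P), Ideal.Quotient.algebraMap_eq,
      Ideal.Quotient.eq_zero_iff_mem]
    have h1 := (‹P.LiesOver (⊥ : Ideal D)›).over
    constructor
    · intro h
      have : a ∈ P.under D := Ideal.mem_comap.mpr h
      rw [← h1] at this
      exact (Submodule.mem_bot D).mp this
    · intro h
      rw [h, map_zero]
      exact P.zero_mem
  obtain ⟨g₁, hg₁, hrange⟩ := Groth.Agent.Lib.H77GenImage.exists_basicOpen_subset_range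
    (R := D) (A := B ⧸ P) ⟨⊥, inferInstance⟩ hQ₀
  refine ⟨f₁ * g₁, mul_ne_zero hf₁ hg₁, fun 𝔮 _ hG => ?_⟩
  have hf₁' : f₁ ∉ 𝔮 := fun h => hG (𝔮.mul_mem_right _ h)
  have hg₁' : g₁ ∉ 𝔮 := fun h => hG (𝔮.mul_mem_left _ h)
  have hinj : Function.Injective ((ι.restrictScalars D).baseChange 𝔮.ResidueField) := by
    have h1 := hex ⟨𝔮, inferInstance⟩ hf₁'
    have h0 : ((0 : B ⧸ P →ₗ[B] B ⧸ P).restrictScalars D).baseChange 𝔮.ResidueField = 0 := by
      ext
      simp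
    rw [h0, LinearMap.exact_zero_iff_injective] at h1
    exact h1
  haveI : Nontrivial (𝔮.ResidueField ⊗[D] (B ⧸ P)) :=
    (PrimeSpectrum.nontrivial_iff_mem_rangeComap ⟨𝔮, inferInstance⟩).mpr (hrange _ hg₁')
  have hw' : (1 : 𝔮.ResidueField) ⊗ₜ[D] x' ≠ 0 := by
    have h1 : ((ι.restrictScalars D).baseChange 𝔮.ResidueField)
        ((1 : 𝔮.ResidueField) ⊗ₜ[D] (Submodule.Quotient.mk 1 : B ⧸ P)) =
        (1 : 𝔮.ResidueField) ⊗ₜ[D] x' := by
      rw [LinearMap.baseChange_tmul]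
      change (1 : 𝔮.ResidueField) ⊗ₜ[D] ι (Submodule.Quotient.mk 1) = _
      rw [hι1]
    rw [← h1]
    intro h
    have h2 := hinj (h.trans (map_zero _).symm)
    have h3 : ((1 : 𝔮.ResidueField) ⊗ₜ[D] (Submodule.Quotient.mk 1 : B ⧸ P)) =
        (1 : 𝔮.ResidueField ⊗[D] (B ⧸ P)) := rfl
    rw [h3] at h2
    exact one_ne_zero h2
  have hw : (1 : 𝔮.Fiber B) ⊗ₜ[B] x' ≠ 0 := fun h => hw' ((one_tmul_eq_zero_iff 𝔮 x').mp h)
  haveI : IsNoetherianRing (𝔮.Fiber B) :=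
    Algebra.FiniteType.isNoetherianRing 𝔮.ResidueField (𝔮.Fiber B)
  obtain ⟨𝔓₁, h𝔓₁, hle⟩ := exists_le_isAssociatedPrime_of_isNoetherianRing (𝔮.Fiber B)
    ((1 : 𝔮.Fiber B) ⊗ₜ[B] x' : (𝔮.Fiber B) ⊗[B] N) hw
  haveI h𝔓₁prime : 𝔓₁.IsPrime := h𝔓₁.isPrime
  have hPle : FlatCA.fiberIdeal 𝔮 P ≤ 𝔓₁ := by
    refine le_trans ?_ hle
    rw [fiberIdeal_def, Ideal.map_le_iff_le_comap]
    intro y hy
    rw [Ideal.mem_comap, Submodule.mem_colon_singleton, Submodule.mem_bot,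
      fiberIncl_smul_one_tmul, (hx' y).mpr hy, TensorProduct.tmul_zero]
  refine ⟨𝔓₁.comap (fiberIncl (B := B) 𝔮), Ideal.comap_isPrime _ _, ?_, ?_, ?_⟩
  · intro y hy
    rw [Ideal.mem_comap]
    exact hPle (Ideal.mem_map_of_mem _ hy)
  · have h3 := ((PrimeSpectrum.primesOverOrderIsoFiber D B 𝔮).symm ⟨𝔓₁, inferInstance⟩).2.2
    rw [PrimeSpectrum.coe_primesOverOrderIsoFiber_symm_apply] at h3
    exact h3
  · rw [fiberIdeal_comap]
    exact h𝔓₁

end Domain

section Relative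

open Groth.Agent.Lib.PurityQF7

theorem genAss_rel_aux {A' B' N' D BD ND : Type u} [CommRing A'] [CommRing B'] [Algebra A' B']
    [Algebra.FiniteType A' B'] [AddCommGroup N'] [Module B' N'] [Module.Finite B' N']
    [CommRing D] [IsDomain D] [IsNoetherianRing D] [Algebra A' D]
    [CommRing BD] [Algebra D BD] [Algebra B' BD] [Algebra A' BD] [IsScalarTower A' B' BD]
    [IsScalarTower A' D BD] (hpush : Algebra.IsPushout A' B' D BD)
    [AddCommGroup ND] [Module BD ND] [Module B' ND] [IsScalarTower B' BD ND] [Module D ND]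
    [IsScalarTower D BD ND] (g : N' →ₗ[B'] ND) (hg : IsBaseChange BD g)
    (hsurj : Function.Surjective (algebraMap A' D))
    (t' : Ideal A') [t'.IsPrime] (hker : RingHom.ker (algebraMap A' D) = t')
    (P : Ideal B') [P.IsPrime] [P.LiesOver t']
    (hass : FlatCA.fiberIdeal t' P ∈ associatedPrimes (t'.Fiber B') (FlatCA.fiberMod t' B' N')) :
    ∃ G : A', G ∉ t' ∧ ∀ (𝔮 : Ideal A') [𝔮.IsPrime], t' ≤ 𝔮 → G ∉ 𝔮 →
      ∃ (P₁ : Ideal B') (_ : P₁.IsPrime), P ≤ P₁ ∧ P₁.LiesOver 𝔮 ∧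
        FlatCA.fiberIdeal 𝔮 P₁ ∈ associatedPrimes (𝔮.Fiber B') (FlatCA.fiberMod 𝔮 B' N') := by
  haveI : Algebra.FiniteType D BD :=
    Algebra.FiniteType.equiv (inferInstance : Algebra.FiniteType D (D ⊗[A'] B'))
      (Algebra.IsPushout.equiv A' D B' BD (h := hpush.symm))
  haveI : Module.Finite BD ND := Module.Finite.equiv hg.equiv
  haveI : (⊥ : Ideal D).LiesOver t' := ⟨by
    rw [Ideal.under_def, ← RingHom.ker_eq_comap_bot, hker]⟩
  obtain ⟨PD, hPDprime, hPDover, hPDcomap, hassD⟩ :=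
    transfer hpush g hg t' (⊥ : Ideal D) P hass
  haveI := hPDprime
  haveI := hPDover
  obtain ⟨GD, hGD, hall⟩ := genAss_domain (N := ND) PD hassD
  obtain ⟨G, rfl⟩ := hsurj GD
  refine ⟨G, ?_, ?_⟩
  · intro h
    apply hGD
    rw [← hker] at h
    exact h
  · intro 𝔮 _ hle hG
    have hker𝔮 : RingHom.ker (algebraMap A' D) ≤ 𝔮 := hker ▸ hle
    haveI : (𝔮.map (algebraMap A' D)).IsPrime := Ideal.map_isPrime_of_surjective hsurj hker𝔮
    have hcomap : (𝔮.map (algebraMap A' D)).comap (algebraMap A' D) = 𝔮 := by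
      rw [Ideal.comap_map_of_surjective _ hsurj, ← RingHom.ker_eq_comap_bot, sup_eq_left]
      exact hker𝔮
    haveI : (𝔮.map (algebraMap A' D)).LiesOver 𝔮 := ⟨hcomap.symm⟩
    have hG' : algebraMap A' D G ∉ 𝔮.map (algebraMap A' D) := fun h =>
      hG (hcomap ▸ Ideal.mem_comap.mpr h)
    obtain ⟨P₁D, hP₁Dprime, hPle, hP₁Dover, hass₁⟩ := hall (𝔮.map (algebraMap A' D)) hG'
    haveI := hP₁Dprime
    haveI := hP₁Dover
    have hdown := transfer_down hpush g hg 𝔮 (𝔮.map (algebraMap A' D)) P₁D hass₁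
    refine ⟨P₁D.comap (algebraMap B' BD), Ideal.comap_isPrime _ _, ?_, ?_, hdown⟩
    · rw [← hPDcomap]
      exact Ideal.comap_mono hPle
    · refine ⟨?_⟩
      rw [Ideal.under_def, Ideal.comap_comap, ← IsScalarTower.algebraMap_eq,
        IsScalarTower.algebraMap_eq A' D BD, ← Ideal.comap_comap, ← Ideal.under_def (A := D) P₁D,
        ← hP₁Dover.over, hcomap]

theorem exists_quotient_data {A' B' N' : Type u} [CommRing A'] [IsNoetherianRing A'] [CommRing B']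
    [Algebra A' B'] [AddCommGroup N'] [Module B' N'] (t' : Ideal A') [t'.IsPrime] :
    ∃ (D BD ND : Type u) (_ : CommRing D) (_ : IsDomain D) (_ : IsNoetherianRing D)
      (_ : Algebra A' D) (_ : CommRing BD) (_ : Algebra D BD) (_ : Algebra B' BD)
      (_ : Algebra A' BD) (_ : IsScalarTower A' B' BD) (_ : IsScalarTower A' D BD)
      (_ : AddCommGroup ND) (_ : Module BD ND) (_ : Module B' ND) (_ : IsScalarTower B' BD ND)
      (_ : Module D ND) (_ : IsScalarTower D BD ND) (g : N' →ₗ[B'] ND),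
      Algebra.IsPushout A' B' D BD ∧ IsBaseChange BD g ∧
        Function.Surjective (algebraMap A' D) ∧ RingHom.ker (algebraMap A' D) = t' := by
  refine ⟨A' ⧸ t', (A' ⧸ t') ⊗[A'] B', ((A' ⧸ t') ⊗[A'] B') ⊗[B'] N', inferInstance,
    inferInstance, inferInstance, inferInstance, inferInstance, inferInstance, inferInstance,
    inferInstance, inferInstance, inferInstance, inferInstance, inferInstance, inferInstance,
    inferInstance, inferInstance, inferInstance,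
    TensorProduct.mk B' ((A' ⧸ t') ⊗[A'] B') N' 1, TensorProduct.isPushout',
    TensorProduct.isBaseChange B' N' ((A' ⧸ t') ⊗[A'] B'), Ideal.Quotient.mk_surjective, ?_⟩
  rw [Ideal.Quotient.algebraMap_eq]
  exact Ideal.mk_ker

theorem genAss_rel {A' B' N' : Type u} [CommRing A'] [IsNoetherianRing A'] [CommRing B']
    [Algebra A' B'] [Algebra.FiniteType A' B'] [AddCommGroup N'] [Module B' N']
    [Module.Finite B' N'] (t' : Ideal A') [t'.IsPrime] (P : Ideal B') [P.IsPrime] [P.LiesOver t']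
    (hass : FlatCA.fiberIdeal t' P ∈ associatedPrimes (t'.Fiber B') (FlatCA.fiberMod t' B' N')) :
    ∃ G : A', G ∉ t' ∧ ∀ (𝔮 : Ideal A') [𝔮.IsPrime], t' ≤ 𝔮 → G ∉ 𝔮 →
      ∃ (P₁ : Ideal B') (_ : P₁.IsPrime), P ≤ P₁ ∧ P₁.LiesOver 𝔮 ∧
        FlatCA.fiberIdeal 𝔮 P₁ ∈ associatedPrimes (𝔮.Fiber B') (FlatCA.fiberMod 𝔮 B' N') := by
  obtain ⟨D, BD, ND, _, _, _, _, _, _, _, _, _, _, _, _, _, _, _, _, g, hpush, hg, hsurj, hker⟩ :=
    exists_quotient_data (B' := B') (N' := N') t'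
  exact genAss_rel_aux hpush g hg hsurj t' hker P hass

end Relative

section Curve

variable {A' : Type u} [CommRing A']

theorem not_height_le_one (t' J₁ J₂ : Ideal A') [t'.IsPrime] [J₁.IsPrime] [J₂.IsPrime]
    (h1 : t' < J₁) (h2 : J₁ < J₂) : ¬ (J₂.map (Ideal.Quotient.mk t')).height ≤ 1 := by
  intro hh
  have hsurj : Function.Surjective (Ideal.Quotient.mk t') := Ideal.Quotient.mk_surjective
  have hker : RingHom.ker (Ideal.Quotient.mk t') = t' := Ideal.mk_ker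
  have hk₁ : RingHom.ker (Ideal.Quotient.mk t') ≤ J₁ := hker.le.trans h1.le
  have hk₂ : RingHom.ker (Ideal.Quotient.mk t') ≤ J₂ := hker.le.trans (h1.le.trans h2.le)
  haveI : (J₁.map (Ideal.Quotient.mk t')).IsPrime := Ideal.map_isPrime_of_surjective hsurj hk₁
  haveI : (J₂.map (Ideal.Quotient.mk t')).IsPrime := Ideal.map_isPrime_of_surjective hsurj hk₂
  have hc : ∀ J : Ideal A', t' ≤ J →
      (J.map (Ideal.Quotient.mk t')).comap (Ideal.Quotient.mk t') = J := by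
    intro J hJ
    rw [Ideal.comap_map_of_surjective _ hsurj, ← RingHom.ker_eq_comap_bot, hker, sup_eq_left]
    exact hJ
  have hlt₁ : (⊥ : Ideal (A' ⧸ t')) < J₁.map (Ideal.Quotient.mk t') := by
    rw [bot_lt_iff_ne_bot]
    intro h
    have := hc J₁ h1.le
    rw [h, ← RingHom.ker_eq_comap_bot, hker] at this
    exact h1.ne this
  have hlt₂ : J₁.map (Ideal.Quotient.mk t') < J₂.map (Ideal.Quotient.mk t') := by
    refine lt_of_le_of_ne (Ideal.map_mono h2.le) fun h => ?_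
    have e1 := hc J₁ h1.le
    rw [h, hc J₂ (h1.le.trans h2.le)] at e1
    exact h2.ne e1.symm
  have a1 := Ideal.height_add_one_le_of_lt_of_isPrime hlt₁
  have a2 := Ideal.height_add_one_le_of_lt_of_isPrime hlt₂
  have a3 : (1 : ℕ∞) + 1 ≤ 1 := by
    calc (1 : ℕ∞) + 1 ≤ ((⊥ : Ideal (A' ⧸ t')).height + 1) + 1 := by
            gcongr
            exact le_add_self
      _ ≤ (J₁.map (Ideal.Quotient.mk t')).height + 1 := by gcongr
      _ ≤ (J₂.map (Ideal.Quotient.mk t')).height := a2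
      _ ≤ 1 := hh
  exact absurd a3 (by decide)

theorem exists_prime_between [IsNoetherianRing A'] (t' 𝔯 t : Ideal A') [t'.IsPrime] [𝔯.IsPrime]
    [t.IsPrime] (h1 : t' < 𝔯) (h2 : 𝔯 < t) (G : A') (hG : G ∉ t') :
    ∃ (𝔮₁ : Ideal A') (_ : 𝔮₁.IsPrime), t' < 𝔮₁ ∧ 𝔮₁ ≤ t ∧ G ∉ 𝔮₁ := by
  classical
  have hfin : (t' ⊔ Ideal.span {G}).minimalPrimes.Finite :=
    Ideal.finite_minimalPrimes_of_isNoetherianRing A' _
  let s : Finset (Ideal A') := insert t' hfin.toFinset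
  have hprime : ∀ i ∈ s, i ≠ t' → i ≠ t' → (id i : Ideal A').IsPrime := by
    intro i hi hne _
    rcases Finset.mem_insert.mp hi with rfl | hi
    · exact absurd rfl hne
    · exact ((Set.Finite.mem_toFinset hfin).mp hi).1.1
  have hnot : ¬ ((t : Set A') ⊆ ⋃ i ∈ (↑s : Set (Ideal A')), (id i : Ideal A')) := by
    rw [Ideal.subset_union_prime t' t' hprime]
    rintro ⟨i, hi, hti⟩
    rcases Finset.mem_insert.mp hi with rfl | hi
    · exact (lt_irrefl _ (lt_of_lt_of_le (h1.trans h2) hti))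
    · have himin := (Set.Finite.mem_toFinset hfin).mp hi
      haveI : i.IsPrime := himin.1.1
      exact not_height_le_one t' 𝔯 i h1 (lt_of_lt_of_le h2 hti)
        (Ideal.map_height_le_one_of_mem_minimalPrimes himin)
  obtain ⟨x, hxt, hx⟩ := Set.not_subset.mp hnot
  have hxt' : x ∉ t' := fun h => hx (Set.mem_biUnion (Finset.mem_coe.mpr (Finset.mem_insert_self _ _)) h)
  have hxmin : ∀ 𝔮 ∈ (t' ⊔ Ideal.span {G}).minimalPrimes, x ∉ 𝔮 := fun 𝔮 h𝔮 h =>
    hx (Set.mem_biUnion (Finset.mem_coe.mpr (Finset.mem_insert_of_mem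
      ((Set.Finite.mem_toFinset hfin).mpr h𝔮))) h)
  have hJ't : t' ⊔ Ideal.span {x} ≤ t :=
    sup_le (h1.le.trans h2.le) ((Ideal.span_singleton_le_iff_mem _).mpr hxt)
  obtain ⟨𝔮₁, h𝔮₁min, h𝔮₁le⟩ := Ideal.exists_minimalPrimes_le hJ't
  haveI h𝔮₁prime : 𝔮₁.IsPrime := h𝔮₁min.1.1
  have ht'𝔮₁ : t' ≤ 𝔮₁ := le_sup_left.trans h𝔮₁min.1.2
  have hx𝔮₁ : x ∈ 𝔮₁ := h𝔮₁min.1.2 (Ideal.mem_sup_right (Ideal.mem_span_singleton_self x))
  refine ⟨𝔮₁, h𝔮₁prime, lt_of_le_of_ne ht'𝔮₁ (fun h => hxt' (h ▸ hx𝔮₁)), h𝔮₁le, fun hG𝔮₁ => ?_⟩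
  have hJ𝔮₁ : t' ⊔ Ideal.span {G} ≤ 𝔮₁ :=
    sup_le ht'𝔮₁ ((Ideal.span_singleton_le_iff_mem _).mpr hG𝔮₁)
  obtain ⟨𝔮, h𝔮min, h𝔮le⟩ := Ideal.exists_minimalPrimes_le hJ𝔮₁
  haveI : 𝔮.IsPrime := h𝔮min.1.1
  have ht'𝔮 : t' < 𝔮 := by
    refine lt_of_le_of_ne (le_sup_left.trans h𝔮min.1.2) fun h => hG ?_
    rw [h]
    exact h𝔮min.1.2 (Ideal.mem_sup_right (Ideal.mem_span_singleton_self G))
  rcases eq_or_lt_of_le h𝔮le with h | h
  · exact hxmin 𝔮 h𝔮min (h ▸ hx𝔮₁)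
  · exact not_height_le_one t' 𝔮 𝔮₁ ht'𝔮 h (Ideal.map_height_le_one_of_mem_minimalPrimes h𝔮₁min)

end Curve

section QF

variable {A D : Type u} [CommRing A] [CommRing D] [Algebra A D]

theorem comap_fiberIncl_liesOver (p : Ideal A) [p.IsPrime] (𝔔 : Ideal (p.Fiber D)) [𝔔.IsPrime] :
    (𝔔.comap (fiberIncl (B := D) p)).LiesOver p := by
  have h3 := ((PrimeSpectrum.primesOverOrderIsoFiber A D p).symm ⟨𝔔, inferInstance⟩).2.2
  rw [PrimeSpectrum.coe_primesOverOrderIsoFiber_symm_apply] at h3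
  exact h3

/-- maximality of the fibre ideal in terms of primes. -/
theorem eq_of_fiberIdeal_isMaximal (p : Ideal A) [p.IsPrime] (t : Ideal D) [t.IsPrime]
    [t.LiesOver p] (hmax : (FlatCA.fiberIdeal p t).IsMaximal)
    (t₁ : Ideal D) [t₁.IsPrime] (hle : t ≤ t₁) (hover : t₁.LiesOver p) : t₁ = t := by
  obtain ⟨-, h1⟩ := fiberIdeal_isPrime_comap p t
  obtain ⟨h2prime, h2⟩ := fiberIdeal_isPrime_comap p t₁
  have hle' : FlatCA.fiberIdeal p t ≤ FlatCA.fiberIdeal p t₁ := Ideal.map_mono hle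
  have := hmax.eq_of_le h2prime.ne_top hle'
  rw [← h1, ← h2, this]

theorem quasiFiniteAt_of_isolated [Algebra.FiniteType A D]
    (p : Ideal A) [p.IsPrime] (𝔪 : Ideal D) [𝔪.IsPrime] [𝔪.LiesOver p]
    (hmax : ∀ (𝔮 : Ideal D) [𝔮.IsPrime], 𝔪 ≤ 𝔮 → 𝔮.LiesOver p → 𝔮 = 𝔪)
    (hmin : ∀ (𝔮 : Ideal D) [𝔮.IsPrime], 𝔮 ≤ 𝔪 → 𝔮.LiesOver p → 𝔮 = 𝔪) :
    Algebra.QuasiFiniteAt A 𝔪 := by
  obtain ⟨h𝔐prime, h𝔐comap⟩ := fiberIdeal_isPrime_comap p 𝔪
  haveI : IsNoetherianRing (p.Fiber D) :=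
    Algebra.FiniteType.isNoetherianRing p.ResidueField (p.Fiber D)
  haveI : IsJacobsonRing (p.Fiber D) := isJacobsonRing_of_finiteType (A := p.ResidueField)
  let x : PrimeSpectrum (p.Fiber D) := ⟨FlatCA.fiberIdeal p 𝔪, h𝔐prime⟩
  have hopen : IsOpen ({x} : Set (PrimeSpectrum (p.Fiber D))) := by
    rw [(PrimeSpectrum.isOpen_singleton_tfae_of_isNoetherian_of_isJacobsonRing x).out 0 2 rfl rfl]
    constructor
    · rw [PrimeSpectrum.isClosed_singleton_iff_isMaximal]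
      obtain ⟨𝔐', hmax', hle⟩ := Ideal.exists_le_maximal (FlatCA.fiberIdeal p 𝔪) h𝔐prime.ne_top
      haveI := hmax'.isPrime
      have h1 : 𝔪 ≤ 𝔐'.comap (fiberIncl (B := D) p) := by
        rw [← h𝔐comap]
        exact Ideal.comap_mono hle
      have h2 := hmax (𝔐'.comap (fiberIncl (B := D) p)) h1 (comap_fiberIncl_liesOver p 𝔐')
      have h3 := fiberIdeal_comap p 𝔐'
      rw [h2] at h3
      change (FlatCA.fiberIdeal p 𝔪).IsMaximal
      rw [h3]
      exact hmax'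
    · rw [PrimeSpectrum.stableUnderGeneralization_singleton]
      refine ⟨⟨h𝔐prime, bot_le⟩, ?_⟩
      rintro 𝔔 ⟨h𝔔prime, -⟩ hle
      haveI := h𝔔prime
      have h1 : 𝔔.comap (fiberIncl (B := D) p) ≤ 𝔪 := by
        rw [← h𝔐comap]
        exact Ideal.comap_mono hle
      have h2 := hmin (𝔔.comap (fiberIncl (B := D) p)) h1 (comap_fiberIncl_liesOver p 𝔔)
      have h3 := fiberIdeal_comap p 𝔔
      rw [h2] at h3
      exact h3.le
  haveI : Algebra.QuasiFiniteAt p.ResidueField (FlatCA.fiberIdeal p 𝔪) :=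
    Algebra.QuasiFiniteAt.of_isOpen_singleton (R := p.ResidueField) x hopen
  exact Algebra.QuasiFiniteAt.of_quasiFiniteAt_residueField p 𝔪 (FlatCA.fiberIdeal p 𝔪) h𝔐comap

end QF

section Degenerate

theorem not_isImpurity_generic {A B : Type u} [CommRing A] [CommRing B] [Algebra A B]
    [Algebra.FiniteType A B] (N : Type u) [AddCommGroup N] [Module B N] [Module.Finite B N]
    (p : Ideal A) [p.IsPrime]
    (k Bk Nk : Type u) [Field k] [Algebra A k] [CommRing Bk] [Algebra B Bk] [Algebra k Bk]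
    [Algebra A Bk] [IsScalarTower A B Bk] [IsScalarTower A k Bk]
    (hpush : Algebra.IsPushout A B k Bk)
    [AddCommGroup Nk] [Module Bk Nk] [Module B Nk] [IsScalarTower B Bk Nk] [Module k Nk]
    [IsScalarTower k Bk Nk] (fk : N →ₗ[B] Nk) (hfk : IsBaseChange Bk fk)
    (A₁ B₁ N₁ : Type u) [CommRing A₁] [CommRing B₁] [Algebra A A₁] [Algebra B B₁]
    [Algebra A₁ B₁] [Algebra A B₁] [IsScalarTower A B B₁] [IsScalarTower A A₁ B₁]
    [AddCommGroup N₁] [Module B₁ N₁] [Module B N₁] [IsScalarTower B B₁ N₁] [Module A₁ N₁]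
    [IsScalarTower A₁ B₁ N₁] (f₁ : N →ₗ[B] N₁) (t₁' t₁ : Ideal A₁) [t₁'.IsPrime] [t₁.IsPrime]
    (P₁ : Ideal B₁) [P₁.IsPrime] (himp : FlatCA.IsImpurity A B N p A₁ B₁ N₁ f₁ t₁' t₁ P₁)
    (A₂ : Type u) [CommRing A₂] [Algebra k A₂] [Algebra A₁ A₂] [Algebra A A₂]
    [IsScalarTower A k A₂] [IsScalarTower A A₁ A₂]
    (t₂' t₂ : Ideal A₂) [t₂'.IsPrime] [t₂.IsPrime] (hle₂ : t₂' ≤ t₂)
    [ht₂t₁ : t₂.LiesOver t₁] [ht₂'t₁' : t₂'.LiesOver t₁'] : False := by
  haveI : t₂.LiesOver (⊥ : Ideal k) := ⟨(Ideal.eq_bot_of_prime _).symm⟩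
  haveI : Algebra.FiniteType k Bk :=
    Algebra.FiniteType.equiv (inferInstance : Algebra.FiniteType k (k ⊗[A] B))
      (Algebra.IsPushout.equiv A k B Bk (h := hpush.symm))
  haveI : Module.Finite Bk Nk := Module.Finite.equiv hfk.equiv
  apply Groth.Agent.S1217.key_mid N p k Bk Nk hpush fk hfk (⊥ : Ideal k) A₁ B₁ N₁ f₁ t₁' t₁ P₁
    himp A₂ t₂' t₂ hle₂
  intro B₂ N₂ _ _ _ _ _ _ _ _ _ _ _ _ f₂ P₂ _ himp₂
  exact Groth.Agent.S9005.result (A := k) (B := Bk) Nk ⊥ A₂ B₂ N₂ f₂ t₂' t₂ P₂ himp₂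

theorem fiberIdeal_liesOver {A A₁ : Type u} [CommRing A] [CommRing A₁] [Algebra A A₁]
    (p : Ideal A) [p.IsPrime] (t : Ideal A₁) [t.IsPrime] [t.LiesOver p] :
    (FlatCA.fiberIdeal p t).LiesOver t := by
  obtain ⟨-, h⟩ := fiberIdeal_isPrime_comap p t
  exact ⟨h.symm⟩

theorem not_isImpurity_of_liesOver {A B : Type u} [CommRing A] [CommRing B] [Algebra A B]
    [Algebra.FiniteType A B] (N : Type u) [AddCommGroup N] [Module B N] [Module.Finite B N]
    (p : Ideal A) [p.IsPrime]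
    (A₁ B₁ N₁ : Type u) [CommRing A₁] [CommRing B₁] [Algebra A A₁] [Algebra B B₁]
    [Algebra A₁ B₁] [Algebra A B₁] [IsScalarTower A B B₁] [IsScalarTower A A₁ B₁]
    [AddCommGroup N₁] [Module B₁ N₁] [Module B N₁] [IsScalarTower B B₁ N₁] [Module A₁ N₁]
    [IsScalarTower A₁ B₁ N₁] (f₁ : N →ₗ[B] N₁) (t₁' t₁ : Ideal A₁) [t₁'.IsPrime] [t₁.IsPrime]
    (P₁ : Ideal B₁) [P₁.IsPrime] (himp : FlatCA.IsImpurity A B N p A₁ B₁ N₁ f₁ t₁' t₁ P₁)
    [t₁'.LiesOver p] : False := by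
  haveI : t₁.LiesOver p := himp.2.2.2.1
  have hle := himp.2.2.1
  obtain ⟨hprime', -⟩ := fiberIdeal_isPrime_comap p t₁'
  obtain ⟨hprime, -⟩ := fiberIdeal_isPrime_comap p t₁
  haveI := fiberIdeal_liesOver p t₁'
  haveI := fiberIdeal_liesOver p t₁
  have hpush : Algebra.IsPushout A B p.ResidueField (p.ResidueField ⊗[A] B) :=
    TensorProduct.isPushout'
  have hfk : IsBaseChange (p.ResidueField ⊗[A] B)
      (TensorProduct.mk B (p.ResidueField ⊗[A] B) N 1) :=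
    TensorProduct.isBaseChange B N _
  exact not_isImpurity_generic N p p.ResidueField (p.ResidueField ⊗[A] B)
    ((p.ResidueField ⊗[A] B) ⊗[B] N) hpush _ hfk A₁ B₁ N₁ f₁ t₁' t₁ P₁ himp
    (p.ResidueField ⊗[A] A₁) (FlatCA.fiberIdeal p t₁') (FlatCA.fiberIdeal p t₁)
    (Ideal.map_mono hle)

end Degenerate

end Groth.Agent.Lib.PurityGen7
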