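/-
helper66: image of a weak Serre class under a fully faithful right adjoint.

`G : C₁ ⥤ C₂` exact with fully faithful right adjoint `P` (`adj₀ : G ⊣ P`), a right adjoint `R` of
`G.mapDerivedCategory` (`adj`), `A ⊂ C₂` a weak Serre class such that the derived unit is invertible at
`(P F)[0]` for `F ∈ A`.  Then `A.map P ⊂ C₁` is a weak Serre class, and
`A.map P M ↔ A (G M) ∧ IsIso (adj.unit.app M[0])`.
-/
import Groth.Agent.Lib.DAdjEquiv11
import Mathlib.Algebra.Homology.DerivedCategory.SingleTriangle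

set_option autoImplicit false
universe u
open CategoryTheory CategoryTheory.Limits Pretriangulated Triangulated

namespace Groth.Agent.Lib.WeakSerreImage66

set_option linter.unusedSectionVars false

attribute [local instance] HasDerivedCategory.standard

open DerivedCategory Groth.Agent.Lib.DWayOut

variable {C₁ C₂ : Type (u+1)} [Category.{u} C₁] [Category.{u} C₂] [Abelian C₁] [Abelian C₂]
  (G : C₁ ⥤ C₂) [G.Additive] [PreservesFiniteLimits G] [PreservesFiniteColimits G]
  (P : C₂ ⥤ C₁) (adj₀ : G ⊣ P) [P.Full] [P.Faithful]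
  (R : DerivedCategory C₂ ⥤ DerivedCategory C₁) (adj : G.mapDerivedCategory ⊣ R)
  (A : ObjectProperty C₂) [WSerre.IsWeakSerre A]

section TwoOfThree

include adj

/-- the derived unit is invertible at the middle term of a short exact sequence if it is at the outer terms -/
lemma isIso_unit_X₂ {S : ShortComplex C₁} (hS : S.ShortExact)
    (h₁ : IsIso (adj.unit.app ((singleFunctor C₁ 0).obj S.X₁)))
    (h₃ : IsIso (adj.unit.app ((singleFunctor C₁ 0).obj S.X₃))) :
    IsIso (adj.unit.app ((singleFunctor C₁ 0).obj S.X₂)) := by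
  let _ : R.CommShift ℤ := adj.rightAdjointCommShift ℤ
  have : adj.CommShift ℤ := adj.commShift_of_leftAdjoint ℤ
  have : R.IsTriangulated := adj.isTriangulated_rightAdjoint
  exact isIso_app₂_of_distTriang (𝟭 _) (G.mapDerivedCategory ⋙ R) adj.unit hS.singleTriangle
    hS.singleTriangle_distinguished h₁ h₃

/-- the derived unit is invertible at the last term of a short exact sequence if it is at the first two -/
lemma isIso_unit_X₃ {S : ShortComplex C₁} (hS : S.ShortExact)
    (h₁ : IsIso (adj.unit.app ((singleFunctor C₁ 0).obj S.X₁)))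
    (h₂ : IsIso (adj.unit.app ((singleFunctor C₁ 0).obj S.X₂))) :
    IsIso (adj.unit.app ((singleFunctor C₁ 0).obj S.X₃)) := by
  let _ : R.CommShift ℤ := adj.rightAdjointCommShift ℤ
  have : adj.CommShift ℤ := adj.commShift_of_leftAdjoint ℤ
  have : R.IsTriangulated := adj.isTriangulated_rightAdjoint
  exact isIso_app₂_of_distTriang (𝟭 _) (G.mapDerivedCategory ⋙ R) adj.unit hS.singleTriangle.rotate
    (rot_of_distTriang _ hS.singleTriangle_distinguished) h₂
    (isIso_app_shift (𝟭 _) (G.mapDerivedCategory ⋙ R) adj.unit _ (1 : ℤ) h₁)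

end TwoOfThree

section Level0

include adj₀

/-- the counit of `G ⊣ P` is invertible (`P` fully faithful) -/
lemma isIso_counit₀ (F : C₂) : IsIso (adj₀.counit.app F) := inferInstance

/-- `G P F ≅ F` -/
noncomputable def counitIso₀ (F : C₂) : G.obj (P.obj F) ≅ F :=
  haveI := isIso_counit₀ G P adj₀ F
  asIso (adj₀.counit.app F)

lemma prop_G_of_map (M : C₁) (hM : A.map P M) : A (G.obj M) := by
  obtain ⟨F, hF, ⟨e⟩⟩ := hM
  exact A.prop_of_iso ((counitIso₀ G P adj₀ F).symm ≪≫ G.mapIso e) hF

lemma exists_map_of_prop (F : C₂) (hF : A F) : ∃ M, A.map P M ∧ Nonempty (G.obj M ≅ F) :=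
  ⟨P.obj F, A.prop_map_obj P hF, ⟨counitIso₀ G P adj₀ F⟩⟩

/-- the unit of `G ⊣ P` is invertible on the essential image of `P` -/
lemma isIso_unit₀_of_iso (M : C₁) (F : C₂) (e : P.obj F ≅ M) : IsIso (adj₀.unit.app M) := by
  have h1 : IsIso (adj₀.unit.app (P.obj F)) := by
    have h := adj₀.right_triangle_components F
    have h2 : IsIso (adj₀.unit.app (P.obj F) ≫ P.map (adj₀.counit.app F)) := by
      rw [h]; exact IsIso.id _
    exact IsIso.of_isIso_comp_right _ (P.map (adj₀.counit.app F))
  exact isIso_app_of_iso (𝟭 _) (G ⋙ P) adj₀.unit e h1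

/-- `G` is bijective on morphisms into an object at which the unit is invertible -/
lemma bijective_map_of_isIso_unit₀ (X M : C₁) (hM : IsIso (adj₀.unit.app M)) :
    Function.Bijective (fun φ : X ⟶ M => G.map φ) := by
  have h : (fun φ : X ⟶ M => G.map φ) =
      (adj₀.homEquiv X (G.obj M)).symm ∘ (fun φ : X ⟶ M => φ ≫ adj₀.unit.app M) := by
    funext φ
    simp only [Function.comp_apply, Adjunction.homEquiv_counit, Functor.map_comp, Category.assoc,
      Adjunction.left_triangle_components, Category.comp_id]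
  rw [h]
  refine (Equiv.bijective _).comp ⟨fun a b hab => ?_, fun c => ⟨c ≫ inv (adj₀.unit.app M), ?_⟩⟩
  · exact (cancel_mono (adj₀.unit.app M)).1 hab
  · simp

omit adj₀ in
/-- bijectivity of `G` on `Hom(X, M)` passes to `Hom_D(X[0], M[0])` -/
lemma bijective_mapDerived_single (X M : C₁)
    (h : Function.Bijective (fun φ : X ⟶ M => G.map φ)) :
    Function.Bijective (fun φ : (singleFunctor C₁ 0).obj X ⟶ (singleFunctor C₁ 0).obj M =>
      G.mapDerivedCategory.map φ) := by
  have hnat : ∀ a : X ⟶ M, G.mapDerivedCategory.map ((singleFunctor C₁ 0).map a) =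
      ((G.mapDerivedCategorySingleFunctor 0).app X).hom ≫ (singleFunctor C₂ 0).map (G.map a) ≫
        ((G.mapDerivedCategorySingleFunctor 0).app M).inv := by
    intro a
    have := (G.mapDerivedCategorySingleFunctor 0).hom.naturality a
    simp only [Functor.comp_map] at this
    rw [← Category.assoc, Iso.eq_comp_inv]
    exact this
  constructor
  · intro φ φ' hφ
    obtain ⟨a, rfl⟩ := (singleFunctor C₁ 0).map_surjective φ
    obtain ⟨b, rfl⟩ := (singleFunctor C₁ 0).map_surjective φ'
    have h1 : G.mapDerivedCategory.map ((singleFunctor C₁ 0).map a) =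
      G.mapDerivedCategory.map ((singleFunctor C₁ 0).map b) := hφ
    rw [hnat, hnat, Iso.cancel_iso_hom_left, Iso.cancel_iso_inv_right] at h1
    have h2 : G.map a = G.map b := (singleFunctor C₂ 0).map_injective h1
    rw [h.1 h2]
  · intro ψ
    obtain ⟨c, hc⟩ := (singleFunctor C₂ 0).map_surjective
      (((G.mapDerivedCategorySingleFunctor 0).app X).inv ≫ ψ ≫
        ((G.mapDerivedCategorySingleFunctor 0).app M).hom)
    obtain ⟨a, ha⟩ := h.2 c
    refine ⟨(singleFunctor C₁ 0).map a, ?_⟩
    change G.mapDerivedCategory.map ((singleFunctor C₁ 0).map a) = ψ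
    have ha' : G.map a = c := ha
    rw [hnat, ha', hc]
    simp

end Level0

variable (hKF : ∀ F, A F → IsIso (adj.unit.app ((singleFunctor C₁ 0).obj (P.obj F))))

include hKF in
lemma isIso_unit_of_map (M : C₁) (hM : A.map P M) :
    IsIso (adj.unit.app ((singleFunctor C₁ 0).obj M)) := by
  obtain ⟨F, hF, ⟨e⟩⟩ := hM
  exact isIso_app_of_iso (𝟭 _) (G.mapDerivedCategory ⋙ R) adj.unit
    ((singleFunctor C₁ 0).mapIso e) (hKF F hF)

include adj₀ hKF in
/-- characterisation of the essential image of `A` under `P` -/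
lemma map_of_unit (M : C₁) (hGM : A (G.obj M))
    (hM : IsIso (adj.unit.app ((singleFunctor C₁ 0).obj M))) : A.map P M := by
  have h2 := hKF _ hGM
  let e₁ : (singleFunctor C₁ 0).obj M ≅
      R.obj (G.mapDerivedCategory.obj ((singleFunctor C₁ 0).obj M)) :=
    @asIso _ _ _ _ (adj.unit.app _) hM
  let e₂ : (singleFunctor C₁ 0).obj (P.obj (G.obj M)) ≅
      R.obj (G.mapDerivedCategory.obj ((singleFunctor C₁ 0).obj (P.obj (G.obj M)))) :=
    @asIso _ _ _ _ (adj.unit.app _) h2
  let e₃ : G.mapDerivedCategory.obj ((singleFunctor C₁ 0).obj (P.obj (G.obj M))) ≅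
      G.mapDerivedCategory.obj ((singleFunctor C₁ 0).obj M) :=
    (G.mapDerivedCategorySingleFunctor 0).app _ ≪≫
      (singleFunctor C₂ 0).mapIso (counitIso₀ G P adj₀ (G.obj M)) ≪≫
      ((G.mapDerivedCategorySingleFunctor 0).app _).symm
  let e : (singleFunctor C₁ 0).obj (P.obj (G.obj M)) ≅ (singleFunctor C₁ 0).obj M :=
    e₂ ≪≫ R.mapIso e₃ ≪≫ e₁.symm
  exact ⟨G.obj M, hGM, ⟨(singleFunctor C₁ 0).preimageIso e⟩⟩

include adj₀ adj hKF in
/-- **the essential image of a weak Serre class under a fully faithful right adjoint with vanishing higher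
derived images is a weak Serre class** -/
theorem isWeakSerre_map : WSerre.IsWeakSerre (A.map P) := by
  have hPadd : P.Additive := adj₀.right_adjoint_additive
  have hPlim : PreservesLimitsOfSize.{0, 0} P := adj₀.rightAdjoint_preservesLimits
  have hker : ∀ {M N : C₁} (f : M ⟶ N), A.map P M → A.map P N → A.map P (kernel f) := by
    intro M N f hM hN
    obtain ⟨F, hF, ⟨eM⟩⟩ := hM
    obtain ⟨H, hH, ⟨eN⟩⟩ := hN
    let ψ : F ⟶ H := P.preimage (eM.hom ≫ f ≫ eN.inv)
    have hψ : P.map ψ = eM.hom ≫ f ≫ eN.inv := P.map_preimage _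
    have e : P.obj (kernel ψ) ≅ kernel f :=
      PreservesKernel.iso P ψ ≪≫ kernel.mapIso (P.map ψ) f eM eN (by
        rw [hψ, Category.assoc, Category.assoc, eN.inv_hom_id, Category.comp_id])
    exact ⟨kernel ψ, A.prop_kernel ψ hF hH, ⟨e⟩⟩
  have hGS : ∀ {S : ShortComplex C₁}, S.ShortExact → (S.map G).ShortExact := fun hS =>
    hS.map_of_exact G
  -- last term of a short exact sequence
  have hX₃ : ∀ {S : ShortComplex C₁}, S.ShortExact → A.map P S.X₁ → A.map P S.X₂ →
      A.map P S.X₃ := by
    intro S hS h₁ h₂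
    have hG₃ : A (G.obj S.X₃) :=
      A.prop_of_isColimit_cokernelCofork (hGS hS).gIsCokernel
        (prop_G_of_map G P adj₀ A _ h₁) (prop_G_of_map G P adj₀ A _ h₂)
    exact map_of_unit G P adj₀ R adj A hKF _ hG₃
      (isIso_unit_X₃ G R adj hS (isIso_unit_of_map G P R adj A hKF _ h₁)
        (isIso_unit_of_map G P R adj A hKF _ h₂))
  refine
    { toContainsZero := ⟨?_⟩
      toIsClosedUnderKernels := ⟨?_⟩
      toIsClosedUnderCokernels := ⟨?_⟩
      toIsClosedUnderExtensions := ⟨?_⟩ }
  · obtain ⟨Z, hZ, hAZ⟩ := A.exists_prop_of_containsZero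
    exact ⟨P.obj Z, P.map_isZero hZ, A.prop_map_obj P hAZ⟩
  · rintro _ ⟨f, k, hk, ⟨hM, hN⟩⟩
    exact (A.map P).prop_of_iso (IsLimit.conePointUniqueUpToIso (kernelIsKernel f) hk)
      (hker f hM hN)
  · rintro _ ⟨f, k, hk, ⟨hM, hN⟩⟩
    refine (A.map P).prop_of_iso (IsColimit.coconePointUniqueUpToIso (cokernelIsCokernel f) hk) ?_
    -- image factorisation
    have hK := hker f hM hN
    let S₁ : ShortComplex C₁ := ShortComplex.mk (kernel.ι f) (Abelian.factorThruImage f) (by
      rw [← cancel_mono (Abelian.image.ι f), Category.assoc, Abelian.image.fac, kernel.condition,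
        zero_comp])
    have hS₁ : S₁.ShortExact := by
      refine ShortComplex.ShortExact.mk' ?_ (inferInstance : Mono (kernel.ι f))
        (inferInstance : Epi (Abelian.factorThruImage f))
      exact ShortComplex.exact_of_f_is_kernel _
        (isKernelOfComp (f := Abelian.factorThruImage f) (Abelian.image.ι f) f (kernelIsKernel f) _
          (Abelian.image.fac f))
    let S₂ : ShortComplex C₁ := ShortComplex.mk (Abelian.image.ι f) (cokernel.π f) (by
      exact kernel.condition _)
    have hS₂ : S₂.ShortExact := by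
      refine ShortComplex.ShortExact.mk' ?_ (inferInstance : Mono (Abelian.image.ι f))
        (inferInstance : Epi (cokernel.π f))
      exact ShortComplex.exact_of_f_is_kernel _ (kernelIsKernel (cokernel.π f))
    have hI : A.map P (Abelian.image f) := hX₃ hS₁ hK hM
    exact hX₃ hS₂ hI hN
  · intro S hS h₁ h₃
    have hG₂ : A (G.obj S.X₂) :=
      A.prop_X₂_of_shortExact (hGS hS) (prop_G_of_map G P adj₀ A _ h₁)
        (prop_G_of_map G P adj₀ A _ h₃)
    exact map_of_unit G P adj₀ R adj A hKF _ hG₂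
      (isIso_unit_X₂ G R adj hS (isIso_unit_of_map G P R adj A hKF _ h₁)
        (isIso_unit_of_map G P R adj A hKF _ h₃))

end Groth.Agent.Lib.WeakSerreImage66
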