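/-
helper66: for a flat morphism of ringed sites `f : (C, O_C) → (D, O_D)` with fully faithful direct image `f_*`,
a right adjoint `R` of `f^*` on derived categories, a covering class `B` of objects of `D` and an `O_C`-module `F`
with `H^k(u V, F) = 0` for `V ∈ B`, `k > 0`: the derived unit `f_*F[0] ⟶ R f^* (f_*F[0])` is invertible
(i.e. `R(F[0]) = f_*F[0]`: the higher direct images of `F` vanish).
-/
import Groth.Agent.Lib.UnitIsoLocal66
import Groth.Agent.Lib.WeakSerreImage66
import Groth.Agent.Lib.HUPull66
import Groth.Agent.Lib.LocGenRlim31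

set_option autoImplicit false
universe u
open CategoryTheory CategoryTheory.Limits Opposite Pretriangulated

namespace Groth.Agent.Lib.PushAcyclic66

attribute [local instance] HasDerivedCategory.standard

open DerivedCategory Groth.Agent.LocGen31 Groth.Agent.HomologySheafLocal31

variable {C : Type u} [SmallCategory C] {J : GrothendieckTopology C} {O_C : Sheaf J CommRingCat.{u}}
  {D : Type u} [SmallCategory D] {K : GrothendieckTopology D} {O_D : Sheaf K CommRingCat.{u}}
  (f : ModSite.RMor O_C O_D) [PreservesFiniteLimits f.pull] [f.push.Full] [f.push.Faithful]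
  (R : DerivedCategory (ModSite.Mod O_C) ⥤ DerivedCategory (ModSite.Mod O_D))
  (adj : f.pull.mapDerivedCategory ⊣ R)

include adj in
theorem isIso_unit_push {B : Set D} (hB : Covers K B) (F : ModSite.Mod O_C)
    (hF : ∀ V ∈ B, ∀ k : ℕ, 0 < k → Subsingleton (ModSite.HU O_C F k (f.fn.obj V))) :
    IsIso (adj.unit.app ((singleFunctor (ModSite.Mod O_D) 0).obj (f.push.obj F))) := by
  have := Groth.Agent.ModGen31.enoughInjectives O_C
  refine Groth.Agent.Lib.UnitIsoLocal66.isIso_unit_of_local (Groth.Agent.ModGen31.gen O_D) f.pull R adj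
    (f.push.obj F) hB ?_ ?_
  · intro V hV m hm ξ
    let eZ : f.pull.mapDerivedCategory.obj ((Groth.Agent.ModGen31.gen O_D).ZD V) ≅
        (Groth.Agent.ModGen31.gen O_C).ZD (f.fn.obj V) :=
      (f.pull.mapDerivedCategorySingleFunctor 0).app (ModSite.freeOn O_D V) ≪≫
        (singleFunctor (ModSite.Mod O_C) 0).mapIso (Groth.Agent.Lib.PullFreeOn66.pullFreeOnIso f V)
    let eT : (shiftFunctor _ m).obj (f.pull.mapDerivedCategory.obj
        ((singleFunctor (ModSite.Mod O_D) 0).obj (f.push.obj F))) ≅
        (shiftFunctor _ m).obj ((singleFunctor (ModSite.Mod O_C) 0).obj F) :=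
      (shiftFunctor _ m).mapIso ((f.pull.mapDerivedCategorySingleFunctor 0).app (f.push.obj F) ≪≫
        (singleFunctor (ModSite.Mod O_C) 0).mapIso
          (Groth.Agent.Lib.WeakSerreImage66.counitIso₀ f.pull f.push f.adj F))
    have h0 : eZ.inv ≫ ξ ≫ eT.hom = 0 := by
      rcases lt_or_gt_of_ne hm with h | h
      · exact (Groth.Agent.ModGen31.gen O_C).hom_ZD_single_neg (f.fn.obj V) F m h _
      · obtain ⟨k, rfl⟩ := Int.eq_ofNat_of_zero_le h.le
        have := (Groth.Agent.ModGen31.gen O_C).subsingleton_hom_ZD_single_nat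
          (Groth.Agent.ModGen31.hacyc O_C) (f.fn.obj V) F k (hF V hV k (by exact_mod_cast h))
        exact Subsingleton.elim _ _
    rw [← cancel_epi eZ.inv, ← cancel_mono eT.hom, Category.assoc, h0, comp_zero, zero_comp]
  · intro V hV
    exact Groth.Agent.Lib.WeakSerreImage66.bijective_mapDerived_single f.pull _ _
      (Groth.Agent.Lib.WeakSerreImage66.bijective_map_of_isIso_unit₀ f.pull f.push f.adj _ _
        (Groth.Agent.Lib.WeakSerreImage66.isIso_unit₀_of_iso f.pull f.push f.adj _ F (Iso.refl _)))

end Groth.Agent.Lib.PushAcyclic66
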