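import Groth.Agent.Lib.RFBdd31
import Groth.Agent.Lib.DerivedAdjunction
import Groth.Agent.Lib.DProd31

/-!
# Derived adjunction on Hom sets out of "local" complexes (helper31)

`adj : G ⊣ F`, `RF` the unbounded right derived functor of `F`.  Let `Y₀` be a complex in the
target such that `Hom_K(Y₀, F I) ⟶ Hom_D(Y₀, F I)` is bijective for all K-injective `I`.  Then
`ξ ↦ cmp ≫ RF(ξ)` is a bijection `Hom_D(G Y₀, E) ≃ Hom_D(Y₀, RF E)` for all `E`, natural in `E`.
No exactness of `G` is needed.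
-/

set_option autoImplicit false

open CategoryTheory Limits Pretriangulated DerivedCategory

namespace Groth.Agent.PushAdjHom31

open Groth.Agent.RlimRFVia31 Groth.Agent.RFBdd31 Groth.Agent.Lib.DerivedAdjunction

universe w w' v v' u u'

variable {A : Type u} [Category.{v} A] [Abelian A] [IsGrothendieckAbelian.{v} A]
  [HasDerivedCategory.{w} A]
  {B : Type u'} [Category.{v'} B] [Abelian B] [HasDerivedCategory.{w'} B]
  {G : B ⥤ A} {F : A ⥤ B} [G.Additive] [F.Additive] (adj : G ⊣ F)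
  [(Φ F).HasRightDerivedFunctor (HomotopyCategory.quasiIso A (ComplexShape.up ℤ))]

/-- the adjunction on complexes -/
abbrev adjC : G.mapHomologicalComplex (ComplexShape.up ℤ) ⊣
    F.mapHomologicalComplex (ComplexShape.up ℤ) :=
  mapHomologicalComplexAdj adj (ComplexShape.up ℤ)

/-- the comparison map `Q Y₀ ⟶ RF (Q (G Y₀))` -/
noncomputable def cmp (Y₀ : CochainComplex B ℤ) :
    Q.obj Y₀ ⟶ (RF F).obj (Q.obj ((G.mapHomologicalComplex (ComplexShape.up ℤ)).obj Y₀)) :=
  Q.map ((adjC adj).unit.app Y₀) ≫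
    (η F).app ((HomotopyCategory.quotient A (ComplexShape.up ℤ)).obj
      ((G.mapHomologicalComplex (ComplexShape.up ℤ)).obj Y₀))

/-- the key computation: `cmp ≫ RF(Q x) = Q(x^♭) ≫ ρ` -/
lemma cmp_comp_map (Y₀ : CochainComplex B ℤ) (I : CochainComplex A ℤ) [I.IsKInjective]
    (x : (G.mapHomologicalComplex (ComplexShape.up ℤ)).obj Y₀ ⟶ I) :
    cmp adj Y₀ ≫ (RF F).map (Q.map x) =
      Q.map ((adjC adj).homEquiv Y₀ I x) ≫ (ρ F I).hom := by
  have hn := (η F).naturality ((HomotopyCategory.quotient A (ComplexShape.up ℤ)).map x)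
  have h1 : (adjC adj).homEquiv Y₀ I x =
      (adjC adj).unit.app Y₀ ≫ (F.mapHomologicalComplex (ComplexShape.up ℤ)).map x :=
    (adjC adj).homEquiv_unit Y₀ I x
  rw [h1, Functor.map_comp, Category.assoc, cmp, Category.assoc]
  congr 1
  exact hn.symm

variable (Y₀ : CochainComplex B ℤ)
  (hsurj : ∀ (I : CochainComplex A ℤ), I.IsKInjective →
    ∀ ζ : Q.obj Y₀ ⟶ Q.obj ((F.mapHomologicalComplex (ComplexShape.up ℤ)).obj I),
      ∃ y : Y₀ ⟶ (F.mapHomologicalComplex (ComplexShape.up ℤ)).obj I, Q.map y = ζ)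
  (hinj : ∀ (I : CochainComplex A ℤ), I.IsKInjective →
    ∀ y : Y₀ ⟶ (F.mapHomologicalComplex (ComplexShape.up ℤ)).obj I, Q.map y = 0 →
      Nonempty (Homotopy y 0))

include hsurj hinj in
lemma bijective_cmp_Q (I : CochainComplex A ℤ) [I.IsKInjective] :
    Function.Bijective (fun ξ : Q.obj ((G.mapHomologicalComplex (ComplexShape.up ℤ)).obj Y₀) ⟶
      Q.obj I => cmp adj Y₀ ≫ (RF F).map ξ) := by
  constructor
  · intro ξ₁ ξ₂ h
    obtain ⟨x₁, rfl⟩ := Groth.Agent.DProd31.exists_Q_map_eq _ I ξ₁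
    obtain ⟨x₂, rfl⟩ := Groth.Agent.DProd31.exists_Q_map_eq _ I ξ₂
    change cmp adj Y₀ ≫ (RF F).map (Q.map x₁) = cmp adj Y₀ ≫ (RF F).map (Q.map x₂) at h
    rw [cmp_comp_map, cmp_comp_map, cancel_mono] at h
    have h0 : Q.map ((adjC adj).homEquiv Y₀ I x₁ - (adjC adj).homEquiv Y₀ I x₂) = 0 := by
      rw [Functor.map_sub, h, sub_self]
    obtain ⟨H⟩ := hinj I inferInstance _ h0
    have H' : Homotopy ((adjC adj).homEquiv Y₀ I x₁) ((adjC adj).homEquiv Y₀ I x₂) :=
      Homotopy.equivSubZero.symm H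
    have H'' : Homotopy
        ((G.mapHomologicalComplex (ComplexShape.up ℤ)).map ((adjC adj).homEquiv Y₀ I x₁) ≫
          (adjC adj).counit.app I)
        ((G.mapHomologicalComplex (ComplexShape.up ℤ)).map ((adjC adj).homEquiv Y₀ I x₂) ≫
          (adjC adj).counit.app I) :=
      (G.mapHomotopy H').compRight _
    have e₁ : (G.mapHomologicalComplex (ComplexShape.up ℤ)).map ((adjC adj).homEquiv Y₀ I x₁) ≫
        (adjC adj).counit.app I = x₁ :=
      (Adjunction.homEquiv_counit (adjC adj) Y₀ I _).symm.trans (Equiv.symm_apply_apply _ _)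
    have e₂ : (G.mapHomologicalComplex (ComplexShape.up ℤ)).map ((adjC adj).homEquiv Y₀ I x₂) ≫
        (adjC adj).counit.app I = x₂ :=
      (Adjunction.homEquiv_counit (adjC adj) Y₀ I _).symm.trans (Equiv.symm_apply_apply _ _)
    rw [e₁, e₂] at H''
    exact Q_map_eq_of_homotopy A H''
  · intro ζ
    obtain ⟨y, hy⟩ := hsurj I inferInstance (ζ ≫ (ρ F I).inv)
    refine ⟨Q.map (((adjC adj).homEquiv Y₀ I).symm y), ?_⟩
    change cmp adj Y₀ ≫ (RF F).map (Q.map (((adjC adj).homEquiv Y₀ I).symm y)) = ζ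
    rw [cmp_comp_map, Equiv.apply_symm_apply, hy, Category.assoc, Iso.inv_hom_id,
      Category.comp_id]

include hsurj hinj in
/-- **the derived adjunction bijection on `Hom(Y₀, -)`** -/
theorem bijective_cmp (E : DerivedCategory A) :
    Function.Bijective (fun ξ : Q.obj ((G.mapHomologicalComplex (ComplexShape.up ℤ)).obj Y₀) ⟶
      E => cmp adj Y₀ ≫ (RF F).map ξ) := by
  obtain ⟨I, hI, ⟨e⟩⟩ := exists_kinj_model E
  have hb := bijective_cmp_Q adj Y₀ hsurj hinj I
  constructor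
  · intro ξ₁ ξ₂ h
    have h' : cmp adj Y₀ ≫ (RF F).map (ξ₁ ≫ e.hom) = cmp adj Y₀ ≫ (RF F).map (ξ₂ ≫ e.hom) := by
      rw [Functor.map_comp, Functor.map_comp, ← Category.assoc, ← Category.assoc]
      exact congrArg (fun z => z ≫ (RF F).map e.hom) h
    have := hb.1 h'
    exact (cancel_mono e.hom).1 this
  · intro ζ
    obtain ⟨ξ, hξ⟩ := hb.2 (ζ ≫ (RF F).map e.hom)
    refine ⟨ξ ≫ e.inv, ?_⟩
    change cmp adj Y₀ ≫ (RF F).map ξ = ζ ≫ (RF F).map e.hom at hξ
    change cmp adj Y₀ ≫ (RF F).map (ξ ≫ e.inv) = ζ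
    rw [Functor.map_comp, ← Category.assoc, hξ, Category.assoc, ← Functor.map_comp,
      Iso.hom_inv_id, CategoryTheory.Functor.map_id, Category.comp_id]

include adj hsurj hinj in
/-- composition with `RF t` on `Hom(Y₀, RF -)` versus composition with `t` on `Hom(G Y₀, -)` -/
theorem bijective_comp_iff {E' E : DerivedCategory A} (t : E' ⟶ E) :
    Function.Bijective (fun ξ : Q.obj Y₀ ⟶ (RF F).obj E' => ξ ≫ (RF F).map t) ↔
      Function.Bijective (fun ξ : Q.obj ((G.mapHomologicalComplex (ComplexShape.up ℤ)).obj Y₀) ⟶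
        E' => ξ ≫ t) := by
  have hE' := bijective_cmp adj Y₀ hsurj hinj E'
  have hE := bijective_cmp adj Y₀ hsurj hinj E
  have h : (fun ξ : Q.obj Y₀ ⟶ (RF F).obj E' => ξ ≫ (RF F).map t) ∘
      (fun ξ : Q.obj ((G.mapHomologicalComplex (ComplexShape.up ℤ)).obj Y₀) ⟶ E' =>
        cmp adj Y₀ ≫ (RF F).map ξ) =
      (fun ξ : Q.obj ((G.mapHomologicalComplex (ComplexShape.up ℤ)).obj Y₀) ⟶ E =>
        cmp adj Y₀ ≫ (RF F).map ξ) ∘
      (fun ξ : Q.obj ((G.mapHomologicalComplex (ComplexShape.up ℤ)).obj Y₀) ⟶ E' => ξ ≫ t) := by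
    funext ξ
    change (cmp adj Y₀ ≫ (RF F).map ξ) ≫ (RF F).map t = cmp adj Y₀ ≫ (RF F).map (ξ ≫ t)
    rw [Functor.map_comp, Category.assoc]
  constructor
  · intro hb
    have h1 := hb.comp hE'
    rw [h] at h1
    exact (Function.Bijective.of_comp_iff' hE _).1 h1
  · intro hb
    have h1 := hE.comp hb
    rw [← h] at h1
    exact (Function.Bijective.of_comp_iff _ hE').1 h1

end Groth.Agent.PushAdjHom31
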