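import Groth.Agent.Lib.PushAdjHom31
import Groth.Agent.Lib.PushLocalF31
import Groth.Agent.Lib.LocGenTest31
import Groth.Agent.Lib.PullFreeOn66

/-!
# `Hom(j_!O_{V}[0], Rf_* E [m]) = Hom(j_!O_{uV}[0], E[m])` on ringed sites (helper31)

For a morphism of ringed sites `f` with underlying functor `u`, composition with `(Rf_* t)⟦m⟧` is
bijective on `Hom(Z V[0], -)` iff composition with `t⟦m⟧` is bijective on `Hom(Z (u V)[0], -)`.
No flatness of `f` is needed.
-/

set_option autoImplicit false

open CategoryTheory Limits Pretriangulated DerivedCategory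

universe w w' u

namespace Groth.Agent.PushAdjHomSite31

open Groth.Agent.RlimRFVia31 Groth.Agent.PushLocalB31 Groth.Agent.PushLocalE31
  Groth.Agent.LocGen31

variable {C : Type u} [SmallCategory C] {J : GrothendieckTopology C} {O_C : Sheaf J CommRingCat.{u}}
  {D : Type u} [SmallCategory D] {K : GrothendieckTopology D} {O_D : Sheaf K CommRingCat.{u}}
  (f : ModSite.RMor O_C O_D)

/-- `f^*` of the test complex is the test complex -/
noncomputable def pullTestIso (V : D) (n : ℤ) :
    (f.pull.mapHomologicalComplex (ComplexShape.up ℤ)).obj ((Groth.Agent.ModGen31.gen O_D).test V n) ≅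
      (Groth.Agent.ModGen31.gen O_C).test (f.fn.obj V) n :=
  ((f.pull.mapHomologicalComplex (ComplexShape.up ℤ)).commShiftIso n).app _ ≪≫
    (shiftFunctor (CochainComplex (ModSite.Mod O_C) ℤ) n).mapIso
      ((HomologicalComplex.singleMapHomologicalComplex f.pull (ComplexShape.up ℤ) 0).app
          (ModSite.freeOn O_D V) ≪≫
        (CochainComplex.singleFunctor (ModSite.Mod O_C) 0).mapIso
          (Groth.Agent.Lib.PullFreeOn66.pullFreeOnIso f V))

variable [HasDerivedCategory.{w} (ModSite.Mod O_C)] [HasDerivedCategory.{w'} (ModSite.Mod O_D)]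
  [(f.push.mapHomotopyCategory (ComplexShape.up ℤ) ⋙ DerivedCategory.Qh).HasRightDerivedFunctor
    (HomotopyCategory.quasiIso (ModSite.Mod O_C) (ComplexShape.up ℤ))]

theorem bijective_RpushD_iff (V : D) (m : ℤ) {E' E : DerivedCategory (ModSite.Mod O_C)}
    (t : E' ⟶ E) :
    Function.Bijective (fun ξ : (Groth.Agent.ModGen31.gen O_D).ZD V ⟶
        (shiftFunctor _ m).obj ((RF f.push).obj E') =>
      ξ ≫ (shiftFunctor _ m).map ((RF f.push).map t)) ↔
    Function.Bijective (fun ξ : (Groth.Agent.ModGen31.gen O_C).ZD (f.fn.obj V) ⟶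
        (shiftFunctor _ m).obj E' => ξ ≫ (shiftFunctor _ m).map t) := by
  haveI : IsGrothendieckAbelian.{u} (ModSite.Mod O_C) :=
    Groth.Agent.S0484.result J (ModSite.ringSh O_C)
  haveI := Groth.Agent.ModGen31.enoughInjectives O_C
  haveI := Groth.Agent.ModGen31.enoughInjectives O_D
  have h1 := (Groth.Agent.ModGen31.gen O_D).bijective_ZD_shift_iff_test V m ((RF f.push).map t)
  have hb : ((Groth.Agent.ModGen31.gen O_D).test V (-m)).IsStrictlyLE (-(-m)) :=
    isStrictlyLE_test _ V (-m)
  have hP : ∀ i, P₀.{w'} f (((Groth.Agent.ModGen31.gen O_D).test V (-m)).X i) :=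
    P₀_test (Groth.Agent.ModGen31.gen O_D) (P₀_zero f) (P₀_iso f) (P₀_freeOn f) V (-m)
  have h2 := Groth.Agent.PushAdjHom31.bijective_comp_iff f.adj
    ((Groth.Agent.ModGen31.gen O_D).test V (-m))
    (fun I hI ζ => exists_Q_map_eq_of_isLocal (P₀_zero f) (P₀_epi f) (P₀_iso f) (P₀_biprod f)
      (isLocal_push f I) _ _ hb hP ζ)
    (fun I hI y hy => nonempty_homotopy_zero_of_isLocal (P₀_zero f) (P₀_epi f) (P₀_iso f)
      (P₀_biprod f) (isLocal_push f I) _ _ hb hP y hy) t
  have h3 := bijective_precomp_iso_iff (Q.mapIso (pullTestIso f V (-m))) t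
  have h4 := (Groth.Agent.ModGen31.gen O_C).bijective_ZD_shift_iff_test (f.fn.obj V) m t
  exact h1.trans (h2.trans (h3.trans h4.symm))

end Groth.Agent.PushAdjHomSite31
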