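import Groth.Agent.Lib.ZClosed58

/-!
# Sections of `M~` over the complement of `V(J)`: injectivity and surjectivity of `M → Γ(D(J), M~)`

(helper58.)
-/

set_option autoImplicit false
universe u

open EGA4 AlgebraicGeometry CategoryTheory Opposite TopologicalSpace

namespace Groth.Agent.Lib.ZClosed58

open Groth.Agent.Lib.TildePunct97 Groth.Agent.Lib.H47Reflexive

section Sections

variable {A : Type u} [CommRing A] (J : Ideal A) (M : Type u) [AddCommGroup M] [Module A M]

theorem eps_top_bijective : Function.Bijective (eps M (⊤ : (Spec (CommRingCat.of A)).Opens)) :=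
  StructureSheaf.toOpenₗ_top_bijective (R := CommRingCat.of A)
    (M := ModuleCat.of (CommRingCat.of A) M)

theorem injective_restrCompl_iff :
    Function.Injective (EGA4.restrCompl A J M) ↔ Function.Injective (eps M (EGA4.openCompl A J)) := by
  have h : (eps M (EGA4.openCompl A J) : M → _) =
      (res M (le_top : EGA4.openCompl A J ≤ ⊤)) ∘ (eps M ⊤) := rfl
  rw [h]
  change Function.Injective (res M (le_top : EGA4.openCompl A J ≤ ⊤)) ↔ _
  constructor
  · intro hi
    exact hi.comp (eps_top_bijective M).1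
  · intro hi
    exact (Function.Injective.of_comp_iff' _ (eps_top_bijective M)).1 hi

theorem surjective_restrCompl_iff :
    Function.Surjective (EGA4.restrCompl A J M) ↔
      Function.Surjective (eps M (EGA4.openCompl A J)) := by
  have h : (eps M (EGA4.openCompl A J) : M → _) =
      (res M (le_top : EGA4.openCompl A J ≤ ⊤)) ∘ (eps M ⊤) := rfl
  rw [h]
  change Function.Surjective (res M (le_top : EGA4.openCompl A J ≤ ⊤)) ↔ _
  constructor
  · intro hs
    exact hs.comp (eps_top_bijective M).2
  · intro hs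
    exact Function.Surjective.of_comp hs

theorem basicOpen_le_openCompl {f : A} (hf : f ∈ J) :
    PrimeSpectrum.basicOpen f ≤ EGA4.openCompl A J := by
  intro x hx hxJ
  exact hx (hxJ hf)

theorem exists_mem_basicOpen_of_mem_openCompl {x : ↥(Spec (CommRingCat.of A))}
    (hx : x ∈ EGA4.openCompl A J) : ∃ f ∈ J, x ∈ PrimeSpectrum.basicOpen (R := A) f := by
  by_contra hcon
  apply hx
  intro f hf
  by_contra hfx
  exact hcon ⟨f, hf, hfx⟩

/-- Sections over `D(J)` are determined by their restrictions to the `D(f)`, `f ∈ J`. -/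
theorem sec_ext_openCompl (s t : ↑((F M).presheaf.obj (op (EGA4.openCompl A J))))
    (h : ∀ (f : A) (hf : f ∈ J), res M (basicOpen_le_openCompl J hf) s =
      res M (basicOpen_le_openCompl J hf) t) : s = t := by
  apply TopCat.Presheaf.IsSheaf.section_ext (F M).2
  intro x hxW
  obtain ⟨f, hf, hxf⟩ := exists_mem_basicOpen_of_mem_openCompl J hxW
  exact ⟨PrimeSpectrum.basicOpen f, basicOpen_le_openCompl J hf, hxf, h f hf⟩

/-- P3: if `M → Γ(D(J), M~)` is injective then no nonzero element of `M` is killed by `J`. -/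
theorem tf_of_injective (hinj : Function.Injective (eps M (EGA4.openCompl A J))) : TF J M := by
  intro m hm
  apply hinj
  rw [map_zero]
  apply sec_ext_openCompl J M
  intro f hf
  rw [res_eps, map_zero, eps_basicOpen_eq_zero_iff]
  exact ⟨1, by rw [pow_one]; exact hm f hf⟩

/-- P1: if no nonzero element of `M` is killed by a power of `J` (`J` finitely generated) then
`M → Γ(D(J), M~)` is injective. -/
theorem injective_of_tf (hJ : J.FG) (h : ∀ n : ℕ, TF (J ^ n) M) :
    Function.Injective (eps M (EGA4.openCompl A J)) := by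
  rw [injective_iff_map_eq_zero]
  intro m hm
  have h1 : ∀ f ∈ J, ∃ k : ℕ, f ^ k • m = 0 := by
    intro f hf
    rw [← eps_basicOpen_eq_zero_iff, ← res_eps M (basicOpen_le_openCompl J hf), hm, map_zero]
  obtain ⟨n, hn⟩ := exists_mem_torsionBySet_pow J hJ m h1
  apply h n
  intro a ha
  exact (Submodule.mem_torsionBySet_iff _ _).1 hn ⟨a, ha⟩


/-- P2: if `M → Γ(D(J), M~)` is injective and every linear map `J^n → M` is a homothety, then
`M → Γ(D(J), M~)` is surjective. -/
theorem surjective_of_e1 (hJ : J.FG) (hinj : Function.Injective (eps M (EGA4.openCompl A J)))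
    (h : ∀ n : ℕ, E1 (J ^ n) M) : Function.Surjective (eps M (EGA4.openCompl A J)) := by
  classical
  obtain ⟨G, hG⟩ := hJ
  have hGJ : ∀ g ∈ G, g ∈ J := fun g hg => hG ▸ Ideal.subset_span hg
  have hW : ((EGA4.openCompl A J : (Spec (CommRingCat.of A)).Opens) :
      Set ↥(Spec (CommRingCat.of A))) = (PrimeSpectrum.zeroLocus (R := A) (G : Set A))ᶜ := by
    show (PrimeSpectrum.zeroLocus (J : Set A))ᶜ = _
    rw [← hG, PrimeSpectrum.zeroLocus_span]
  intro s
  set K : Ideal A := (LinearMap.range (eps M (EGA4.openCompl A J))).colon {s} with hK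
  have hrad : J ≤ K.radical := by
    rw [← hG, Ideal.span_le]
    intro g hg
    obtain ⟨k, m, hkm⟩ := exists_pow_smul_eq_eps M g
      (res M (basicOpen_le_of_mem (EGA4.openCompl A J) G hW hg) s)
    set t := g ^ k • s - eps M (EGA4.openCompl A J) m with ht
    have ht0 : res M (basicOpen_le_of_mem (EGA4.openCompl A J) G hW hg) t = 0 := by
      rw [ht, map_sub, map_smul, hkm, res_eps, sub_self]
    obtain ⟨l, hl⟩ := exists_pow_smul_eq_zero (EGA4.openCompl A J) G hW g t (by
      intro g' hg'
      have := congrArg (res M (basicOpen_mul_le_left g g')) ht0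
      rw [res_res, map_zero] at this
      exact this)
    refine ⟨l + k, ?_⟩
    show g ^ (l + k) ∈ K
    rw [hK, Submodule.mem_colon_singleton]
    refine ⟨g ^ l • m, ?_⟩
    rw [ht, smul_sub, sub_eq_zero] at hl
    rw [map_smul, ← hl, pow_add, mul_smul]
  obtain ⟨n, hn⟩ := Ideal.exists_pow_le_of_le_radical_of_fg hrad ⟨G, hG⟩
  set φ : ↥(J ^ n) →ₗ[A] ↑((F M).presheaf.obj (op (EGA4.openCompl A J))) :=
    (LinearMap.toSpanSingleton A _ s).comp (J ^ n).subtype with hφ
  have hφmem : ∀ a, φ a ∈ LinearMap.range (eps M (EGA4.openCompl A J)) := by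
    intro a
    have := hn a.2
    rw [hK, Submodule.mem_colon_singleton] at this
    exact this
  set ψ : ↥(J ^ n) →ₗ[A] M :=
    (LinearEquiv.ofInjective (eps M (EGA4.openCompl A J)) hinj).symm.toLinearMap.comp
      (φ.codRestrict _ hφmem) with hψ
  have hψeps : ∀ a : ↥(J ^ n), eps M (EGA4.openCompl A J) (ψ a) = (a : A) • s := by
    intro a
    have := (LinearEquiv.ofInjective (eps M (EGA4.openCompl A J)) hinj).apply_symm_apply
      (φ.codRestrict _ hφmem a)
    have h2 := congrArg Subtype.val this
    exact h2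
  obtain ⟨m₀, hm₀⟩ := h n ψ
  refine ⟨m₀, ?_⟩
  symm
  apply sec_ext_finset (EGA4.openCompl A J) G hW
  intro g hg
  rw [res_eps]
  have hgn : g ^ n ∈ J ^ n := Ideal.pow_mem_pow (hGJ g hg) n
  rw [← sub_eq_zero]
  apply eq_zero_of_pow_smul_eq_zero M g n
  rw [smul_sub, ← map_smul, ← map_smul]
  have h1 := hψeps ⟨g ^ n, hgn⟩
  have h2 := hm₀ ⟨g ^ n, hgn⟩
  simp only at h1 h2
  rw [← h1, h2, res_eps, sub_self]


/-- The section `h f / f` over `D(f)` attached to a linear map `h : J → M`. -/
noncomputable def fracSec (h : ↥J →ₗ[A] M) (f : ↥J) :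
    ↑((F M).presheaf.obj (op (PrimeSpectrum.basicOpen (f : A)))) :=
  IsLocalizedModule.mk' (eps M (PrimeSpectrum.basicOpen (f : A))) (h f)
    (⟨(f : A), 1, pow_one _⟩ : Submonoid.powers (f : A))

theorem smul_fracSec (h : ↥J →ₗ[A] M) (f : ↥J) :
    (f : A) • fracSec J M h f = eps M (PrimeSpectrum.basicOpen (f : A)) (h f) := by
  have := IsLocalizedModule.mk'_cancel' (eps M (PrimeSpectrum.basicOpen (f : A))) (h f)
    (⟨(f : A), 1, pow_one _⟩ : Submonoid.powers (f : A))
  exact this

/-- P4: if `M → Γ(D(J), M~)` is bijective then every linear map `J → M` is a homothety. -/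
theorem e1_of_bijective (hbij : Function.Bijective (eps M (EGA4.openCompl A J))) : E1 J M := by
  intro h
  -- compatibility of the local sections
  have hcompat : TopCat.Presheaf.IsCompatible (F M).1
      (fun f : ↥J => PrimeSpectrum.basicOpen (f : A)) (fracSec J M h) := by
    intro i j
    set V : (Spec (CommRingCat.of A)).Opens :=
      PrimeSpectrum.basicOpen (i : A) ⊓ PrimeSpectrum.basicOpen (j : A) with hV
    have hVi : V ≤ PrimeSpectrum.basicOpen (i : A) := inf_le_left
    have hVj : V ≤ PrimeSpectrum.basicOpen (j : A) := inf_le_right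
    show res M hVi (fracSec J M h i) = res M hVj (fracSec J M h j)
    have hregi : IsSMulRegular (↑((F M).presheaf.obj (op V))) (i : A) :=
      Scheme.Modules.isSMulRegular_of_le_basicOpen
        (M := tilde (R := CommRingCat.of A) (ModuleCat.of A M)) hVi
    have hregj : IsSMulRegular (↑((F M).presheaf.obj (op V))) (j : A) :=
      Scheme.Modules.isSMulRegular_of_le_basicOpen
        (M := tilde (R := CommRingCat.of A) (ModuleCat.of A M)) hVj
    apply hregi
    apply hregj
    show (j : A) • (i : A) • res M hVi (fracSec J M h i) =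
      (j : A) • (i : A) • res M hVj (fracSec J M h j)
    rw [← map_smul, smul_fracSec, res_eps, smul_comm (j : A) (i : A), ← map_smul (res M hVj),
      smul_fracSec, res_eps, ← map_smul, ← map_smul, ← map_smul, ← map_smul]
    congr 2
    apply Subtype.ext
    show (j : A) * (i : A) = (i : A) * (j : A)
    exact mul_comm _ _
  have hcover : EGA4.openCompl A J ≤ ⨆ f : ↥J, PrimeSpectrum.basicOpen (f : A) := by
    intro x hx
    obtain ⟨f, hf, hxf⟩ := exists_mem_basicOpen_of_mem_openCompl J hx
    exact Opens.mem_iSup.2 ⟨⟨f, hf⟩, hxf⟩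
  obtain ⟨s, hs, -⟩ := (F M).existsUnique_gluing' (fun f : ↥J => PrimeSpectrum.basicOpen (f : A))
    (EGA4.openCompl A J) (fun f => homOfLE (basicOpen_le_openCompl J f.2)) hcover
    (fracSec J M h) hcompat
  have hs' : ∀ f : ↥J, res M (basicOpen_le_openCompl J f.2) s = fracSec J M h f := hs
  obtain ⟨m₀, hm₀⟩ := hbij.2 s
  refine ⟨m₀, fun a => ?_⟩
  -- x_f := f m₀ - h f is zero
  have hx : ∀ f g : ↥J, eps M (PrimeSpectrum.basicOpen (g : A)) ((f : A) • m₀ - h f) = 0 := by
    intro f g
    have hregg : IsSMulRegular (↑((F M).presheaf.obj (op (PrimeSpectrum.basicOpen (g : A)))))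
        (g : A) :=
      Scheme.Modules.isSMulRegular_of_le_basicOpen
        (M := tilde (R := CommRingCat.of A) (ModuleCat.of A M)) le_rfl
    apply hregg
    show (g : A) • _ = (g : A) • 0
    rw [smul_zero, ← map_smul, smul_sub, smul_comm, ← map_smul h]
    have h1 : (g : A) • f = (f : A) • g := by
      apply Subtype.ext
      show (g : A) * (f : A) = (f : A) * (g : A)
      exact mul_comm _ _
    rw [h1, map_smul h, ← smul_sub, map_smul]
    have h2 : eps M (PrimeSpectrum.basicOpen (g : A)) ((g : A) • m₀ - h g) = 0 := by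
      rw [map_sub, map_smul, ← smul_fracSec, ← hs' g, ← hm₀, res_eps, sub_self]
    rw [h2, smul_zero]
  symm
  rw [← sub_eq_zero]
  apply hbij.1
  rw [map_zero]
  apply sec_ext_openCompl J M
  intro g hg
  rw [res_eps, map_zero]
  exact hx a ⟨g, hg⟩

end Sections

end Groth.Agent.Lib.ZClosed58
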