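import Groth.Agent.Lib.PuncturedCoh9
import Groth.Agent.Lib.ZClosed58b
import Groth.Prelude.Def_EGA4c

/-!
# `i_*(M~|U)` coherent iff `H^1_J(M)` finite (helper53)
-/

set_option maxHeartbeats 400000
set_option linter.unusedSectionVars false
universe u

open AlgebraicGeometry CategoryTheory TopologicalSpace Opposite

namespace Groth.Agent.Lib.PushCompl53
open Groth.Agent.Lib.TildePunct97

section abstract

theorem finite_iff_of_surjective {A S X : Type*} [CommRing A] [Ring S] [AddCommGroup X]
    [Module S X] [Module A X] (e : A →+* S) (he : Function.Surjective e)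
    (hsmul : ∀ (a : A) (x : X), a • x = e a • x) : Module.Finite S X ↔ Module.Finite A X := by
  constructor
  · rintro ⟨G, hG⟩
    refine ⟨G, ?_⟩
    have key : ∀ x ∈ Submodule.span S (G : Set X), x ∈ Submodule.span A (G : Set X) := by
      intro x hx
      induction hx using Submodule.span_induction with
      | mem y hy => exact Submodule.subset_span hy
      | zero => exact Submodule.zero_mem _
      | add y z _ _ hy hz => exact Submodule.add_mem _ hy hz
      | smul s y _ hy =>
        obtain ⟨a, rfl⟩ := he s
        rw [← hsmul]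
        exact Submodule.smul_mem _ a hy
    rw [eq_top_iff]
    intro x _
    exact key x (hG ▸ Submodule.mem_top)
  · rintro ⟨G, hG⟩
    refine ⟨G, ?_⟩
    have key : ∀ x ∈ Submodule.span A (G : Set X), x ∈ Submodule.span S (G : Set X) := by
      intro x hx
      induction hx using Submodule.span_induction with
      | mem y hy => exact Submodule.subset_span hy
      | zero => exact Submodule.zero_mem _
      | add y z _ _ hy hz => exact Submodule.add_mem _ hy hz
      | smul a y _ hy =>
        rw [hsmul]
        exact Submodule.smul_mem _ (e a) hy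
    rw [eq_top_iff]
    intro x _
    exact key x (hG ▸ Submodule.mem_top)

end abstract

section B1
variable (A : Type u) [CommRing A] (J : Ideal A) (M : Type u) [AddCommGroup M] [Module A M]

theorem isCoherentPushCompl_iff :
    EGA4.IsCoherentPushCompl A J M ↔
      Module.Finite A ↑((F M).presheaf.obj (op (EGA4.openCompl A J))) := by
  unfold EGA4.IsCoherentPushCompl
  letI instA : Module A ((ModuleCat.restrictScalars
      ((Spec (CommRingCat.of A)).ringCatSheaf.obj.map
        (homOfLE (le_top : EGA4.openCompl A J ≤ ⊤)).op).hom).obj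
      ((EGA4.tildeOf A M).val.obj (op (EGA4.openCompl A J)))).carrier :=
    (inferInstance : Module A ((F M).presheaf.obj (op (EGA4.openCompl A J))).carrier)
  exact finite_iff_of_surjective
    (X := ((ModuleCat.restrictScalars
      ((Spec (CommRingCat.of A)).ringCatSheaf.obj.map
        (homOfLE (le_top : EGA4.openCompl A J ≤ ⊤)).op).hom).obj
      ((EGA4.tildeOf A M).val.obj (op (EGA4.openCompl A J)))).carrier)
    (Scheme.ΓSpecIso (CommRingCat.of A)).inv.hom
    (ConcreteCategory.bijective_of_isIso (Scheme.ΓSpecIso (CommRingCat.of A)).inv).2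
    (fun a x => rfl)

end B1

section B2
variable (A : Type u) [CommRing A] [IsNoetherianRing A] (J : Ideal A)
  (M : Type u) [AddCommGroup M] [Module A M] [Module.Finite A M]

theorem exists_list : ∃ fs : List A, Ideal.span {a | a ∈ fs} = J := by
  obtain ⟨s, hs⟩ := (IsNoetherian.noetherian J : J.FG)
  refine ⟨s.toList, ?_⟩
  rw [← hs]
  congr 1
  ext a
  simp

theorem finite_sections_iff :
    Module.Finite A ↑((F M).presheaf.obj (op (EGA4.openCompl A J))) ↔
      Module.Finite A (LocCoh.H J 1 M) := by
  obtain ⟨fs, hfs⟩ := exists_list A J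
  have hle : ∀ i : Fin fs.length,
      PrimeSpectrum.basicOpen (fs.get i) ≤ EGA4.openCompl A J := fun i =>
    Groth.Agent.Lib.ZClosed58.basicOpen_le_openCompl J
      (hfs ▸ Ideal.subset_span (List.get_mem fs i))
  have hcov : EGA4.openCompl A J ≤ ⨆ i : Fin fs.length, PrimeSpectrum.basicOpen (fs.get i) := by
    intro x hx
    have hex : ∃ i : Fin fs.length, fs.get i ∉ x.asIdeal := by
      by_contra hcon
      push Not at hcon
      apply hx
      change (J : Set A) ⊆ x.asIdeal
      rw [← hfs]
      change Ideal.span {a | a ∈ fs} ≤ x.asIdeal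
      rw [Ideal.span_le]
      intro a ha
      obtain ⟨i, rfl⟩ := List.mem_iff_get.1 ha
      exact hcon i
    obtain ⟨i, hi⟩ := hex
    exact Opens.mem_iSup.mpr ⟨i, hi⟩
  obtain ⟨-, ⟨e1⟩⟩ := Groth.Agent.Lib.PuncturedCoh9.transformSpec M fs _ hle hcov
  obtain ⟨e2⟩ := Groth.Agent.S5173.result A fs M 1
  rw [hfs] at e2
  constructor
  · intro h
    exact Module.Finite.equiv (e1.trans e2.symm)
  · intro h
    haveI : Module.Finite A (LinearMap.range (eps M (EGA4.openCompl A J))) :=
      Module.Finite.range _
    haveI : Module.Finite A (↑((F M).presheaf.obj (op (EGA4.openCompl A J))) ⧸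
        LinearMap.range (eps M (EGA4.openCompl A J))) :=
      Module.Finite.equiv (e1.trans e2.symm).symm
    exact Module.Finite.of_submodule_quotient (LinearMap.range (eps M (EGA4.openCompl A J)))

/-- `i_*(M~|U)` is coherent iff `H^1_J(M)` is finite. -/
theorem isCoherentPushCompl_iff_finite_H1 :
    EGA4.IsCoherentPushCompl A J M ↔ Module.Finite A (LocCoh.H J 1 M) :=
  (isCoherentPushCompl_iff A J M).trans (finite_sections_iff A J M)

end B2

end Groth.Agent.Lib.PushCompl53
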