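import Groth.Prelude.Def_CohPull
import Groth.Agent.Lib.EdgeShift23
import Groth.Agent.Lib.CohLES

/-!
# The edge map `H^p(Y, f_* G) → H^p(X, G)` (helper23)
-/

set_option autoImplicit false
universe u

open CategoryTheory CategoryTheory.Limits TopologicalSpace Opposite AlgebraicGeometry

namespace Groth.Agent.Lib.PushEdge23

open Groth.Agent.Lib.EdgeShift23 Groth.Agent.Lib.ExtCompare23

variable {X Y : Scheme.{u}} (f : X ⟶ Y)

open Groth.Agent.Lib.CohLES

theorem push_toAb_map {G G' : X.Modules} (ψ : G ⟶ G') :
    (CohTop.push f.base).map ((toAbF X).map ψ) =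
      (toAbF Y).map ((Scheme.Modules.pushforward f).map ψ) := rfl

/-- The morphism `f⁻¹ f_* G ⟶ G` on underlying abelian sheaves through which `pushEdge` is defined. -/
noncomputable def eps (G : X.Modules) :
    (CohPull.inv f.base).obj (Coh.toAb ((Scheme.Modules.pushforward f).obj G)) ⟶ Coh.toAb G :=
  CohPull.theta f ((Scheme.Modules.pushforward f).obj G) ≫
    (toAbF X).map ((Scheme.Modules.pullbackPushforwardAdjunction f).counit.app G)

theorem eps_eq_counit (G : X.Modules) :
    eps f G = (CohPull.invPushAdj f.base).counit.app (Coh.toAb G) := by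
  have h : (toAbF Y).map
      ((Scheme.Modules.pullbackPushforwardAdjunction f).unit.app
        ((Scheme.Modules.pushforward f).obj G)) ≫
      (CohTop.push f.base).map ((toAbF X).map
        ((Scheme.Modules.pullbackPushforwardAdjunction f).counit.app G)) =
      𝟙 ((CohTop.push f.base).obj (Coh.toAb G)) := by
    have h1 := (Scheme.Modules.pullbackPushforwardAdjunction f).right_triangle_components G
    rw [push_toAb_map]
    exact ((toAbF Y).map_comp _ _).symm.trans
      ((congrArg (toAbF Y).map h1).trans ((toAbF Y).map_id _))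
  refine (Adjunction.homEquiv_naturality_right_symm (CohPull.invPushAdj f.base)
    ((toAbF Y).map
      ((Scheme.Modules.pullbackPushforwardAdjunction f).unit.app
        ((Scheme.Modules.pushforward f).obj G)))
    ((toAbF X).map
      ((Scheme.Modules.pullbackPushforwardAdjunction f).counit.app G))).symm.trans ?_
  refine (congrArg (((CohPull.invPushAdj f.base).homEquiv _ _).symm) h).trans ?_
  exact Adjunction.homEquiv_symm_id _ _

theorem pushEdge_eq_edge (G : X.Modules) (p : ℕ) :
    CohPull.pushEdge f G p =
      edge (CohPull.inv f.base) (CohPull.oneTo f.base) (eps f G) p := by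
  ext x
  simp only [CohPull.pushEdge, CohPull.pullMod, CohPull.mapH, AddMonoidHom.coe_comp,
    Function.comp_apply, Sheaf.H.map_apply]
  rw [edge_apply, eps, ← Abelian.Ext.mk₀_comp_mk₀, Abelian.Ext.comp_assoc_of_third_deg_zero]
  rfl

end Groth.Agent.Lib.PushEdge23
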