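import Groth.Agent.Lib.PushEdge23

set_option autoImplicit false
universe u

open CategoryTheory CategoryTheory.Limits TopologicalSpace Opposite AlgebraicGeometry

namespace Groth.Agent.Lib.PushEdge23

open Groth.Agent.Lib.EdgeShift23 Groth.Agent.Lib.ExtCompare23 Groth.Agent.Lib.CohLES

variable {X Y : Scheme.{u}} (f : X ⟶ Y)

theorem counit_app_unit_app (G : X.Modules) (z : Γ((Scheme.Modules.pushforward f).obj G, ⊤)) :
    ((Scheme.Modules.pullbackPushforwardAdjunction f).counit.app G).app (f ⁻¹ᵁ ⊤)
      (((Scheme.Modules.pullbackPushforwardAdjunction f).unit.app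
        ((Scheme.Modules.pushforward f).obj G)).app ⊤ z) = z := by
  have h1 := (Scheme.Modules.pullbackPushforwardAdjunction f).right_triangle_components G
  have h2 := congrArg (fun t => Scheme.Modules.Hom.app t ⊤) h1
  simp only [Scheme.Modules.Hom.comp_app, Scheme.Modules.Hom.id_app,
    Scheme.Modules.pushforward_map_app] at h2
  exact ConcreteCategory.congr_hom h2 z

theorem equiv₀_pushEdge (G : X.Modules) (s : Coh.HH Y ((Scheme.Modules.pushforward f).obj G) 0) :
    Sheaf.H.equiv₀ (Coh.toAb G) isTerminalTop (CohPull.pushEdge f G 0 s) =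
      Sheaf.H.equiv₀ (Coh.toAb ((Scheme.Modules.pushforward f).obj G)) isTerminalTop s := by
  refine (Sheaf.H.equiv₀_naturality (hT := isTerminalTop)
    ((toAbF X).map ((Scheme.Modules.pullbackPushforwardAdjunction f).counit.app G))
    (CohPull.pullMod f ((Scheme.Modules.pushforward f).obj G) 0 s)).symm.trans ?_
  refine (congrArg (fun t => ((toAbF X).map
    ((Scheme.Modules.pullbackPushforwardAdjunction f).counit.app G)).hom.app (op ⊤) t)
    (CohPull.equiv₀_pullMod f ((Scheme.Modules.pushforward f).obj G) s)).trans ?_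
  exact counit_app_unit_app f G _

theorem pushEdge_zero_bijective (G : X.Modules) : Function.Bijective (CohPull.pushEdge f G 0) := by
  constructor
  · intro s s' h
    apply (Sheaf.H.equiv₀ (Coh.toAb ((Scheme.Modules.pushforward f).obj G)) isTerminalTop).injective
    rw [← equiv₀_pushEdge, ← equiv₀_pushEdge, h]
  · intro t
    refine ⟨(Sheaf.H.equiv₀ (Coh.toAb ((Scheme.Modules.pushforward f).obj G)) isTerminalTop).symm
      (Sheaf.H.equiv₀ (Coh.toAb G) isTerminalTop t), ?_⟩
    apply (Sheaf.H.equiv₀ (Coh.toAb G) isTerminalTop).injective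
    refine (equiv₀_pushEdge f G _).trans ?_
    exact AddEquiv.apply_symm_apply _ _

end Groth.Agent.Lib.PushEdge23
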