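/-
helper49: on a ringed site, the internal hom `ℋom_O(-, I)` into an injective module `I` is exact:
for a short exact sequence `0 → X₁ → X₂ → X₃ → 0` of `O`-modules the sequence
`0 → ℋom(X₃, I) → ℋom(X₂, I) → ℋom(X₁, I) → 0` (maps `ExtSupp.sheafHomMap`) is short exact.
-/
import Groth.Agent.Lib.ModSiteEnoughFlat
import Groth.Prelude.Def_ExtSupp

set_option autoImplicit false
universe u
open CategoryTheory CategoryTheory.Limits Opposite

namespace Groth.Agent.Lib.SheafHomExact

section Abstract

variable {C D : Type*} [Category C] [Category D] {L₁ L₂ : C ⥤ D} {R₁ R₂ : D ⥤ C}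
  (adj₁ : L₁ ⊣ R₁) (adj₂ : L₂ ⊣ R₂) (α : L₂ ⟶ L₁)

/-- compatibility of the conjugate of `α` with the hom-set bijections of the two adjunctions -/
lemma homEquiv_symm_comp_conjugateEquiv {T : C} {I : D} (t : T ⟶ R₁.obj I) :
    (adj₂.homEquiv T I).symm (t ≫ (conjugateEquiv adj₁ adj₂ α).app I) =
      α.app T ≫ (adj₁.homEquiv T I).symm t := by
  rw [Adjunction.homEquiv_counit, Adjunction.homEquiv_counit, Functor.map_comp, Category.assoc,
    conjugateEquiv_counit, ← Category.assoc, α.naturality, Category.assoc]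

lemma homEquiv_comp_conjugateEquiv {T : C} {I : D} (s : L₁.obj T ⟶ I) :
    adj₂.homEquiv T I (α.app T ≫ s) =
      adj₁.homEquiv T I s ≫ (conjugateEquiv adj₁ adj₂ α).app I := by
  apply (adj₂.homEquiv T I).symm.injective
  rw [homEquiv_symm_comp_conjugateEquiv, Equiv.symm_apply_apply, Equiv.symm_apply_apply]

end Abstract

open Groth.Agent.Lib.ModSiteFlat Groth.Agent.Lib.ModSiteFreeOn

variable {C : Type u} [SmallCategory C] {J : GrothendieckTopology C} {O : Sheaf J CommRingCat.{u}}

/-- the transposition rule for `sheafHomMap` -/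
lemma homEquiv_symm_comp_sheafHomMap {M M' : ModSite.Mod O} [ModSite.HasSheafHom M]
    [ModSite.HasSheafHom M'] (g : M' ⟶ M) {T I : ModSite.Mod O}
    (t : T ⟶ (ModSite.sheafHom M).obj I) :
    ((ModSite.sheafHomAdj M').homEquiv T I).symm (t ≫ (ExtSupp.sheafHomMap g).app I) =
      ((ModSite.tensorBi O).obj T).map g ≫ ((ModSite.sheafHomAdj M).homEquiv T I).symm t :=
  homEquiv_symm_comp_conjugateEquiv (ModSite.sheafHomAdj M) (ModSite.sheafHomAdj M')
    ((ModSite.tensorBi O).flip.map g) t

/-- a morphism of modules is an epimorphism as soon as every section of the target (viewed as a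
map from `j_{U!} O_U`) lifts. -/
lemma epi_of_forall_freeOn_lift {B Q : ModSite.Mod O} (g : B ⟶ Q)
    (h : ∀ (U : C) (c : ModSite.freeOn O U ⟶ Q), ∃ b : ModSite.freeOn O U ⟶ B, b ≫ g = c) :
    Epi g := by
  choose b hb using h
  let d : (∐ fun s : Sec O Q => ModSite.freeOn O s.1) ⟶ B :=
    Sigma.desc (fun s : Sec O Q => b s.1 ((freeOnHomEquiv O s.1 Q).symm s.2))
  have e : freeCover O Q = d ≫ g := by
    apply Sigma.hom_ext
    intro s
    simp only [d, freeCover, Sigma.ι_desc, Sigma.ι_desc_assoc, hb]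
  have : Epi (d ≫ g) := by
    rw [← e]; infer_instance
  exact epi_of_epi d g

/-- **`ℋom_O(-, I)` is exact for `I` injective.** -/
theorem shortExact_sheafHomMap (S : ShortComplex (ModSite.Mod O)) (hS : S.ShortExact)
    [ModSite.HasSheafHom S.X₁] [ModSite.HasSheafHom S.X₂] [ModSite.HasSheafHom S.X₃]
    (I : ModSite.Mod O) [Injective I] :
    ∃ w : (ExtSupp.sheafHomMap S.g).app I ≫ (ExtSupp.sheafHomMap S.f).app I = 0,
      (ShortComplex.mk _ _ w).ShortExact := by
  have hSm := hS.mono_f
  have hSe := hS.epi_g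
  -- `T ⊗ S` is right exact
  have hT : ∀ T : ModSite.Mod O, (S.map ((ModSite.tensorBi O).obj T)).Exact := fun T =>
    hS.exact.map_of_epi_of_preservesCokernel _ hSe inferInstance
  have hTe : ∀ T : ModSite.Mod O, Epi (S.map ((ModSite.tensorBi O).obj T)).g := fun T => by
    change Epi (((ModSite.tensorBi O).obj T).map S.g)
    infer_instance
  have hz : ∀ (M : ModSite.Mod O) [ModSite.HasSheafHom M] (T : ModSite.Mod O),
      ((ModSite.sheafHomAdj M).homEquiv T I).symm 0 = 0 := fun M _ T => by
    rw [Adjunction.homEquiv_counit, Functor.map_zero, zero_comp]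
  have w : (ExtSupp.sheafHomMap S.g).app I ≫ (ExtSupp.sheafHomMap S.f).app I = 0 := by
    apply ((ModSite.sheafHomAdj S.X₁).homEquiv _ I).symm.injective
    rw [homEquiv_symm_comp_sheafHomMap, ← Category.id_comp ((ExtSupp.sheafHomMap S.g).app I),
      homEquiv_symm_comp_sheafHomMap, ← Category.assoc, ← Functor.map_comp, S.zero,
      Functor.map_zero, zero_comp, hz]
  refine ⟨w, ?_⟩
  -- the candidate lift
  have key : ∀ {T : ModSite.Mod O} (t : T ⟶ (ModSite.sheafHom S.X₂).obj I)
      (_ : t ≫ (ExtSupp.sheafHomMap S.f).app I = 0),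
      ∃ s : T ⟶ (ModSite.sheafHom S.X₃).obj I, s ≫ (ExtSupp.sheafHomMap S.g).app I = t := by
    intro T t ht
    have h0 : (S.map ((ModSite.tensorBi O).obj T)).f ≫
        ((ModSite.sheafHomAdj S.X₂).homEquiv T I).symm t = 0 := by
      have := homEquiv_symm_comp_sheafHomMap S.f t
      rw [ht, hz] at this
      exact this.symm
    have := hTe T
    refine ⟨(ModSite.sheafHomAdj S.X₃).homEquiv T I ((hT T).desc _ h0), ?_⟩
    apply ((ModSite.sheafHomAdj S.X₂).homEquiv _ I).symm.injective
    rw [homEquiv_symm_comp_sheafHomMap, Equiv.symm_apply_apply]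
    exact (hT T).g_desc _ h0
  have hmono : Mono ((ExtSupp.sheafHomMap S.g).app I) := by
    refine ⟨fun {T} a b hab => ?_⟩
    have h1 := congrArg ((ModSite.sheafHomAdj S.X₂).homEquiv _ I).symm hab
    rw [homEquiv_symm_comp_sheafHomMap, homEquiv_symm_comp_sheafHomMap] at h1
    have : Epi (((ModSite.tensorBi O).obj T).map S.g) := hTe T
    exact ((ModSite.sheafHomAdj S.X₃).homEquiv _ I).symm.injective ((cancel_epi _).1 h1)
  have hker : IsLimit (KernelFork.ofι ((ExtSupp.sheafHomMap S.g).app I) w) :=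
    KernelFork.IsLimit.ofι' _ _ (fun {T} t ht => ⟨(key t ht).choose, (key t ht).choose_spec⟩)
  have hepi : Epi ((ExtSupp.sheafHomMap S.f).app I) := by
    apply epi_of_forall_freeOn_lift
    intro U c
    have hfl : ((ModSite.tensorBi O).obj (ModSite.freeOn O U)).PreservesMonomorphisms :=
      (isFlat_iff_preservesMono _).1 (isFlat_freeOn U)
    have : Mono (((ModSite.tensorBi O).obj (ModSite.freeOn O U)).map S.f) := inferInstance
    refine ⟨(ModSite.sheafHomAdj S.X₂).homEquiv _ I
      (Injective.factorThru (((ModSite.sheafHomAdj S.X₁).homEquiv _ I).symm c)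
        (((ModSite.tensorBi O).obj (ModSite.freeOn O U)).map S.f)), ?_⟩
    apply ((ModSite.sheafHomAdj S.X₁).homEquiv _ I).symm.injective
    rw [homEquiv_symm_comp_sheafHomMap, Equiv.symm_apply_apply, Injective.comp_factorThru]
  exact { exact := ShortComplex.exact_of_f_is_kernel _ hker
          mono_f := hmono
          epi_g := hepi }

end Groth.Agent.Lib.SheafHomExact
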