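import Groth.Agent.Lib.PushEdge23b
import Groth.Agent.Lib.RelExtLES
import Groth.Agent.Lib.ModAcyc
import Groth.Agent.Lib.ModUnitH
import Groth.Agent.Lib.CechAcyc5
import Groth.Agent.Lib.DerivedLES
import Groth.Agent.S0485

set_option autoImplicit false
universe u

open CategoryTheory CategoryTheory.Limits TopologicalSpace Opposite AlgebraicGeometry

namespace Groth.Agent.Lib.PushEdge23

open Groth.Agent.Lib.EdgeShift23 Groth.Agent.Lib.ExtCompare23 Groth.Agent.Lib.CohLES

variable {X Y : Scheme.{u}} (f : X ⟶ Y)

theorem eps_naturality {G G' : X.Modules} (ψ : G ⟶ G') :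
    eps f G ≫ (toAbF X).map ψ =
      (CohPull.inv f.base).map ((toAbF Y).map ((Scheme.Modules.pushforward f).map ψ)) ≫ eps f G' := by
  rw [eps_eq_counit, eps_eq_counit, ← push_toAb_map]
  exact ((CohPull.invPushAdj f.base).counit.naturality ((toAbF X).map ψ)).symm

theorem subsingleton_HH_injective (I : X.Modules) (hI : Injective I) (p : ℕ) :
    Subsingleton (Coh.HH X I (p + 1)) := by
  have hI' : @Injective (SheafOfModules.{u} X.ringCatSheaf) _ I := hI
  exact Groth.Agent.Lib.ModUnitH.subsingleton_ext_Zc_of_isTotallyAcyclic _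
    (Groth.Agent.Lib.ModAcyc.isTotallyAcyclic_of_injective X.ringCatSheaf I) p

theorem subsingleton_HH_push_injective (I : X.Modules) (hI : Injective I) (p : ℕ) :
    Subsingleton (Coh.HH Y ((Scheme.Modules.pushforward f).obj I) (p + 1)) := by
  have hI' : @Injective (SheafOfModules.{u} X.ringCatSheaf) _ I := hI
  have hacyc := Groth.Agent.Lib.ModAcyc.isTotallyAcyclic_of_injective X.ringCatSheaf I
  have : PreservesFiniteLimits (Groth.Agent.Lib.CechAcyc5.us (Opens.grothendieckTopology X)
      (Opens.grothendieckTopology Y) (TopologicalSpace.Opens.map f.base)) := by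
    apply Functor.sheafPullbackConstruction.preservesFiniteLimits
  have hpush : CohCx.IsTotallyAcyclic
      ((CohSite.push (Opens.grothendieckTopology X) (Opens.grothendieckTopology Y)
        (TopologicalSpace.Opens.map f.base)).obj (Coh.toAb I)) :=
    Groth.Agent.Lib.CechAcyc5.isTotallyAcyclic_push _ _ _ _ hacyc
  exact Groth.Agent.Lib.ModUnitH.subsingleton_ext_Zc_of_isTotallyAcyclic _ hpush p


theorem isZero_Rpush_X₃ [HasInjectiveResolutions X.Modules] {S : ShortComplex X.Modules}
    (hS : S.ShortExact) (hI : Injective S.X₂)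
    (hG : ∀ q : ℕ, 0 < q → IsZero ((Coh.Rpush f q).obj S.X₁)) (q : ℕ) (hq : 0 < q) :
    IsZero ((Coh.Rpush f q).obj S.X₃) := by
  obtain ⟨T⟩ := Groth.Agent.Lib.Horseshoe.nonempty_sesRes hS
  obtain ⟨n, rfl⟩ : ∃ n, q = n + 1 := ⟨q - 1, by omega⟩
  have hex := Groth.Agent.Lib.DerivedLES.exact₃ (Scheme.Modules.pushforward f) T (n + 1) (n + 2) rfl
  exact hex.isZero_of_both_isZero
    (Functor.isZero_rightDerived_obj_injective_succ (Scheme.Modules.pushforward f) n S.X₂)
    (hG (n + 2) (by omega))

theorem pushEdge_bijective [HasInjectiveResolutions X.Modules] (p : ℕ) :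
    ∀ (G : X.Modules), (∀ q : ℕ, 0 < q → IsZero ((Coh.Rpush f q).obj G)) →
      Function.Bijective (CohPull.pushEdge f G p) := by
  induction p with
  | zero => exact fun G _ => pushEdge_zero_bijective f G
  | succ p ih =>
    intro G hG
    have hEI : EnoughInjectives X.Modules :=
      Groth.Agent.S0485.result (Opens.grothendieckTopology X) X.ringCatSheaf
    let I : InjectivePresentation G := Classical.arbitrary _
    let S : ShortComplex X.Modules := ShortComplex.mk _ _ (cokernel.condition I.f)
    have hIinj : Injective S.X₂ := I.injective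
    have hS : S.ShortExact := { exact := ShortComplex.exact_cokernel I.f }
    have hS' : (S.map (Scheme.Modules.pushforward f)).ShortExact :=
      Groth.Agent.Lib.RelExtLES.shortExact_map_pushforward f S hS (hG 1 Nat.one_pos)
    have hSC : (S.map (toAbF X)).ShortExact := hS.map_of_exact (toAbF X)
    have hSD : ((S.map (Scheme.Modules.pushforward f)).map (toAbF Y)).ShortExact :=
      hS'.map_of_exact (toAbF Y)
    have hQ := isZero_Rpush_X₃ f hS hIinj hG
    have h₃ : Function.Bijective (edge (CohPull.inv f.base) (CohPull.oneTo f.base) (eps f S.X₃) p) := by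
      rw [← pushEdge_eq_edge]
      exact ih S.X₃ hQ
    have h₂ : Function.Surjective (edge (CohPull.inv f.base) (CohPull.oneTo f.base) (eps f S.X₂) p) := by
      rw [← pushEdge_eq_edge]
      cases p with
      | zero => exact (pushEdge_zero_bijective f S.X₂).surjective
      | succ n =>
        have := subsingleton_HH_injective S.X₂ hIinj n
        intro y
        exact ⟨0, Subsingleton.elim _ _⟩
    rw [pushEdge_eq_edge]
    exact edge_succ_bijective (CohPull.inv f.base) (CohPull.oneTo f.base) hSD hSC
      (eps f S.X₁) (eps f S.X₂) (eps f S.X₃) (eps_naturality f S.f) (eps_naturality f S.g) p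
      (subsingleton_HH_push_injective f S.X₂ hIinj p) (subsingleton_HH_injective S.X₂ hIinj p)
      h₃ h₂

end Groth.Agent.Lib.PushEdge23
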