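import Mathlib
import Groth.Agent.Lib.ModToSheafColim

set_option autoImplicit false
universe u
open CategoryTheory CategoryTheory.Limits AlgebraicGeometry TopologicalSpace Opposite

namespace Groth.Agent.Lib.PushHomeoColim81

section ToSheaf

variable {C : Type*} [Category C] {J : GrothendieckTopology C} (R : Sheaf J RingCat.{u})

instance : (SheafOfModules.toSheaf.{u} R).ReflectsIsomorphisms := by
  have : (SheafOfModules.toSheaf.{u} R ⋙ sheafToPresheaf J AddCommGrpCat.{u}).ReflectsIsomorphisms := by
    have : (SheafOfModules.forget.{u} R ⋙ PresheafOfModules.toPresheaf R.obj).ReflectsIsomorphisms :=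
      reflectsIsomorphisms_comp _ _
    exact reflectsIsomorphisms_of_iso (SheafOfModules.toSheafCompSheafToPresheafIso.{u} R).symm
  exact reflectsIsomorphisms_of_comp _ (sheafToPresheaf J AddCommGrpCat.{u})

end ToSheaf

section Homeo

variable {N X : Scheme.{u}} (p : N ⟶ X) (s : X ⟶ N)

/-- The adjunction between the preimage functors of two mutually inverse maps. -/
noncomputable def opensAdj (h1 : ∀ x, p (s x) = x) (h2 : ∀ y, s (p y) = y) :
    Opens.map p.base ⊣ Opens.map s.base :=
  Adjunction.mkOfUnitCounit
    { unit := { app := fun U => homOfLE (by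
        intro x hx
        change p (s x) ∈ U
        rw [h1]; exact hx) }
      counit := { app := fun V => homOfLE (by
        intro x hx
        change s (p x) ∈ V at hx
        rw [h2] at hx; exact hx) } }

/-- The pushforward of abelian sheaves along a homeomorphism is a left adjoint. -/
theorem isLeftAdjoint_abPush (h1 : ∀ x, p (s x) = x) (h2 : ∀ y, s (p y) = y) :
    ((Opens.map p.base).sheafPushforwardContinuous AddCommGrpCat.{u}
      (Opens.grothendieckTopology X) (Opens.grothendieckTopology N)).IsLeftAdjoint :=
  ((opensAdj p s h1 h2).sheafPushforwardContinuous (E := AddCommGrpCat.{u})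
    (Opens.grothendieckTopology X) (Opens.grothendieckTopology N)).isLeftAdjoint

/-- Pushforward of modules then forgetting to abelian sheaves is forgetting and then pushing
forward. -/
noncomputable def pushToSheafIso :
    Scheme.Modules.pushforward p ⋙ SheafOfModules.toSheaf.{u} X.ringCatSheaf ≅
      SheafOfModules.toSheaf.{u} N.ringCatSheaf ⋙
        (Opens.map p.base).sheafPushforwardContinuous AddCommGrpCat.{u}
          (Opens.grothendieckTopology X) (Opens.grothendieckTopology N) :=
  Iso.refl _

end Homeo

end Groth.Agent.Lib.PushHomeoColim81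

namespace Groth.Agent.Lib.PushHomeoColim81

section Main

variable {N X : Scheme.{u}} (p : N ⟶ X) (s : X ⟶ N)

theorem preservesColimits_pushforward_of_homeo (h1 : ∀ x, p (s x) = x) (h2 : ∀ y, s (p y) = y) :
    PreservesColimitsOfSize.{u, u} (Scheme.Modules.pushforward p) := by
  constructor
  intro K _
  have := isLeftAdjoint_abPush p s h1 h2
  have h3 : PreservesColimitsOfShape K (SheafOfModules.toSheaf.{u} N.ringCatSheaf ⋙
      (Opens.map p.base).sheafPushforwardContinuous AddCommGrpCat.{u}
        (Opens.grothendieckTopology X) (Opens.grothendieckTopology N)) := by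
    have a1 : PreservesColimitsOfShape K (SheafOfModules.toSheaf.{u} N.ringCatSheaf) := inferInstance
    have a2 : PreservesColimitsOfShape K ((Opens.map p.base).sheafPushforwardContinuous AddCommGrpCat.{u}
        (Opens.grothendieckTopology X) (Opens.grothendieckTopology N)) := inferInstance
    exact comp_preservesColimitsOfShape _ _
  have h4 : PreservesColimitsOfShape K
      (Scheme.Modules.pushforward p ⋙ SheafOfModules.toSheaf.{u} X.ringCatSheaf) :=
    @preservesColimitsOfShape_of_natIso _ _ _ _ _ _ _ _ (pushToSheafIso p).symm h3
  have h6 : PreservesColimitsOfShape K (SheafOfModules.toSheaf.{u} X.ringCatSheaf) := inferInstance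
  have h7 : HasColimitsOfShape K (SheafOfModules.{u} X.ringCatSheaf) := inferInstance
  have h5 : ReflectsColimitsOfShape K (SheafOfModules.toSheaf.{u} X.ringCatSheaf) :=
    @reflectsColimitsOfShape_of_reflectsIsomorphisms _ _ _ _ _ _ _ inferInstance h7 h6
  exact @preservesColimitsOfShape_of_reflects_of_preserves _ _ _ _ _ _ _ _ _
    (SheafOfModules.toSheaf.{u} X.ringCatSheaf) h4 h5

end Main

end Groth.Agent.Lib.PushHomeoColim81
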