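import Mathlib.Algebra.Homology.DerivedCategory.KInjective
import Mathlib.CategoryTheory.EssentiallySmall
import Mathlib.CategoryTheory.Localization.Equivalence

/-!
# A derived category with small Hom-types from K-injective resolutions (helper31)

If every cochain complex of the abelian category `A` (morphisms in `Type v`) admits a
quasi-isomorphism to a K-injective complex, then the derived category of `A` is locally
`v`-small, and we obtain an instance of `HasDerivedCategory.{v} A`.
-/

set_option autoImplicit false

open CategoryTheory CategoryTheory.Limits DerivedCategory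

universe w v u

namespace Groth.Agent.SmallDerived31

variable (A : Type u) [Category.{v} A] [Abelian A]

/-- enough K-injective resolutions -/
def EnoughKInj : Prop :=
  ∀ K : CochainComplex A ℤ, ∃ (I : CochainComplex A ℤ) (f : K ⟶ I),
    I.IsKInjective ∧ QuasiIso f

variable {A}

theorem locallySmall (hA : EnoughKInj A) [HasDerivedCategory.{w} A] :
    LocallySmall.{v} (DerivedCategory A) where
  hom_small X Y := by
    let K := Q.objPreimage X
    let eK : Q.obj K ≅ X := Q.objObjPreimageIso X
    let L := Q.objPreimage Y
    let eL : Q.obj L ≅ Y := Q.objObjPreimageIso Y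
    obtain ⟨I, f, hI, hf⟩ := hA L
    have : IsIso (Q.map f) := by
      rw [isIso_Q_map_iff_quasiIso]; exact hf
    let eI : Q.obj I ≅ Y := (asIso (Q.map f)).symm ≪≫ eL
    have e1 : (X ⟶ Y) ≃ (Q.obj K ⟶ Q.obj I) := (Iso.homCongr eK eI).symm
    have e2 : ((HomotopyCategory.quotient A (ComplexShape.up ℤ)).obj K ⟶
        (HomotopyCategory.quotient A (ComplexShape.up ℤ)).obj I) ≃ (Q.obj K ⟶ Q.obj I) :=
      Equiv.ofBijective _ (CochainComplex.IsKInjective.Qh_map_bijective
        ((HomotopyCategory.quotient A (ComplexShape.up ℤ)).obj K) I)
    exact small_map (e1.trans e2.symm)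

/-- the derived category with small Hom-types -/
@[instance_reducible]
noncomputable def hasDerivedCategory (hA : EnoughKInj A) : HasDerivedCategory.{v} A := by
  letI : HasDerivedCategory.{max u v} A := HasDerivedCategory.standard A
  haveI := locallySmall.{max u v} hA
  exact
    { D := ShrinkHoms (DerivedCategory A)
      L := Q ⋙ ShrinkHoms.functor _
      hL := Functor.IsLocalization.of_equivalence_target Q _ _
        (ShrinkHoms.equivalence (DerivedCategory A)) (Iso.refl _) }

end Groth.Agent.SmallDerived31
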