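import Groth.Agent.Lib.ThetaBij31
import Groth.Agent.Lib.DWayOut

/-!
# Hypercohomology of objects of `D^{≥0}` of abelian sheaves (helper31)

For `K` in `D^{≥ 0}(Sheaf J Ab)`, the comparison `Hom_D(ℤ_U[0], K) ⟶ H⁰(K)(U)` is bijective for
every `U`; hence `U ↦ Hom_D(ℤ_U[0], K)` is a sheaf.
-/

set_option autoImplicit false
set_option linter.unusedSectionVars false

open CategoryTheory CategoryTheory.Limits Opposite Pretriangulated DerivedCategory
  DerivedCategory.TStructure

universe u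

namespace Groth.Agent.ThetaGE31

open Groth.Agent.FreeSheaf31 Groth.Agent.SingleMaps31 Groth.Agent.HomologySheafLocal31
  Groth.Agent.HyperLocal31 Groth.Agent.ThetaBij31 Groth.Agent.TruncStep31

variable {C : Type u} [SmallCategory C] {J : GrothendieckTopology C}
  [HasDerivedCategory.{u} (Sheaf J AddCommGrpCat.{u})]

lemma isLE_ZD (U : C) : (ZD J U).IsLE 0 :=
  inferInstanceAs (((singleFunctor (Sheaf J AddCommGrpCat.{u}) 0).obj ((Zf J).obj U)).IsLE 0)

/-- for `K ∈ D^{≥0}`, `Hom_D(ℤ_U[0], K) ≃ H⁰(K)(U)` for every `U` -/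
theorem θfun_bijective_of_isGE (K : DerivedCategory (Sheaf J AddCommGrpCat.{u})) [K.IsGE 0]
    (U : C) : Function.Bijective (θfun U K) := by
  let T := (t.truncLE 0).obj K
  let ι : T ⟶ K := (t.truncLEι 0).app K
  haveI : T.IsGE 0 := by dsimp [T]; infer_instance
  haveI : T.IsLE 0 := by dsimp [T]; infer_instance
  obtain ⟨e⟩ := nonempty_iso_single_homology T 0
  have h1 : Function.Bijective (θfun U T) := (transfer_iso e U).2 (θfun_single_bijective U _)
  haveI : IsIso ((homologyFunctor (Sheaf J AddCommGrpCat.{u}) 0).map ι) :=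
    Groth.Agent.Lib.DWayOut.isIso_homologyMap_truncLEι K 0 0 le_rfl
  refine (transfer ι U ?_).1 h1
  have hT := t.triangleLEGE_distinguished 0 1 rfl K
  let R := (t.truncGE 1).obj K
  haveI : R.IsGE 1 := by dsimp [R]; infer_instance
  haveI := isLE_ZD (J := J) U
  constructor
  · intro ξ ξ' h
    have h0 : (ξ - ξ') ≫ ((t.triangleLEGE 0 1 rfl).obj K).invRotate.mor₂ = 0 := by
      change (ξ - ξ') ≫ ι = 0
      rw [Preadditive.sub_comp]
      exact sub_eq_zero.2 h
    obtain ⟨g, hg⟩ := Triangle.coyoneda_exact₂ _ (inv_rot_of_distTriang _ hT) (ξ - ξ') h0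
    have hR : (R⟦(-1 : ℤ)⟧).IsGE 2 := t.isGE_shift R 1 (-1) 2 (by omega)
    have hg0 : g = 0 := t.zero_of_isLE_of_isGE g 0 2 (by omega) inferInstance hR
    rw [hg0, zero_comp] at hg
    exact sub_eq_zero.1 hg
  · intro y
    have h0 : y ≫ ((t.triangleLEGE 0 1 rfl).obj K).mor₂ = 0 :=
      t.zero_of_isLE_of_isGE _ 0 1 (by omega) inferInstance (inferInstanceAs (R.IsGE 1))
    obtain ⟨g, hg⟩ := Triangle.coyoneda_exact₂ _ hT y h0
    exact ⟨g, hg.symm⟩

/-- for `K ∈ D^{≥0}`, the presheaf `U ↦ Hom_D(ℤ_U[0], K)` is a sheaf -/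
theorem isSheaf_HP_of_isGE (K : DerivedCategory (Sheaf J AddCommGrpCat.{u})) [K.IsGE 0] :
    Presheaf.IsSheaf J (HP K) := by
  haveI : ∀ X, IsIso ((θ K).app X) := fun X => by
    rw [ConcreteCategory.isIso_iff_bijective]
    exact θfun_bijective_of_isGE K X.unop
  haveI : IsIso (θ K) := NatIso.isIso_of_isIso_app _
  exact (Presheaf.isSheaf_of_iso_iff (asIso (θ K))).2
    ((homologyFunctor (Sheaf J AddCommGrpCat.{u}) 0).obj K).cond

end Groth.Agent.ThetaGE31
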