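import Groth.Agent.Lib.PullFree31
import Groth.Agent.Lib.ThetaGE31
import Groth.Agent.Lib.DerivedAdj66
import Groth.Agent.Lib.KInjMain31
import Groth.Agent.Lib.KInjDerived31
import Groth.Agent.Lib.SmallDerived31
import Groth.Prelude.Def_CohCx

/-!
# Hypercohomology over preimages of opens via `Rf_*` (helper31)

For a continuous map `f : X ⟶ Y` and `K ∈ D(Ab X)`:
`Hom_{D(X)}(ℤ_{f⁻¹V}[0], K) ≃ Hom_{D(Y)}(ℤ_V[0], Rf_* K)` naturally in the open `V` of `Y`
(derived adjunction `f⁻¹ ⊣ Rf_*` on unbounded derived categories).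
-/

set_option autoImplicit false

open CategoryTheory CategoryTheory.Limits Opposite TopologicalSpace DerivedCategory
  DerivedCategory.TStructure

universe u

namespace Groth.Agent.PushHyper31

open Groth.Agent.FreeSheaf31 Groth.Agent.HyperLocal31 Groth.Agent.PullFree31

variable {X Y : TopCat.{u}} (f : X ⟶ Y)

instance preservesFiniteLimits_pull : PreservesFiniteLimits (CohTop.pull f) :=
  Functor.SmallCategories.instPreservesFiniteLimitsSheafSheafPullbackOfRepresentablyFlat _ _ _ _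

instance preservesFiniteColimits_pull : PreservesFiniteColimits (CohTop.pull f) :=
  have := (PullFree31.adj f).leftAdjoint_preservesColimits
  inferInstance

instance additive_pull : (CohTop.pull f).Additive :=
  (PullFree31.adj f).left_adjoint_additive

lemma enoughKInj (X : TopCat.{u}) : Groth.Agent.SmallDerived31.EnoughKInj (CohTop.Ab X) := fun K => by
  obtain ⟨I, g, h1, h2, -, -⟩ := Groth.Agent.KInjMain31.exists_kinjective_resolution K
  exact ⟨I, g, h1, h2⟩

variable [HasDerivedCategory.{u} (CohTop.Ab X)] [HasDerivedCategory.{u} (CohTop.Ab Y)]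

instance hasRightDerivedFunctor_push :
    ((CohTop.push f).mapHomotopyCategory (ComplexShape.up ℤ) ⋙ DerivedCategory.Qh).HasRightDerivedFunctor
      (HomotopyCategory.quasiIso (CohTop.Ab X) (ComplexShape.up ℤ)) := by
  have := Groth.Agent.KInjDerived31.hasPointwiseRightDerivedFunctor
    ((CohTop.push f).mapHomotopyCategory (ComplexShape.up ℤ) ⋙ DerivedCategory.Qh) (enoughKInj X)
  infer_instance

/-- `f⁻¹` on derived categories -/
noncomputable abbrev DL : DerivedCategory (CohTop.Ab Y) ⥤ DerivedCategory (CohTop.Ab X) :=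
  (CohTop.pull f).mapDerivedCategory

/-- `Rf_*` on unbounded derived categories -/
noncomputable abbrev RR : DerivedCategory (CohTop.Ab X) ⥤ DerivedCategory (CohTop.Ab Y) :=
  Groth.Agent.Lib.DerivedAdj66.RR (R := CohTop.push f)

/-- the derived adjunction `f⁻¹ ⊣ Rf_*` -/
noncomputable def dadj : DL f ⊣ RR f :=
  (Groth.Agent.Lib.DerivedAdj66.nonempty_derivedAdjunction (PullFree31.adj f) (enoughKInj X)).some

/-- `V ↦ ℤ_V[0]` -/
noncomputable abbrev ZDfun (X : TopCat.{u}) [HasDerivedCategory.{u} (CohTop.Ab X)] :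
    Opens X ⥤ DerivedCategory (CohTop.Ab X) :=
  Zf (Opens.grothendieckTopology X) ⋙ singleFunctor (CohTop.Ab X) 0

/-- `f⁻¹ (ℤ_V[0]) ≅ ℤ_{f⁻¹V}[0]` naturally in `V` -/
noncomputable def N : ZDfun Y ⋙ DL f ≅ Opens.map f ⋙ ZDfun X :=
  Functor.associator _ _ _ ≪≫
    Functor.isoWhiskerLeft _ ((CohTop.pull f).mapDerivedCategorySingleFunctor 0) ≪≫
    (Functor.associator _ _ _).symm ≪≫
    Functor.isoWhiskerRight (PullFree31.natIso f).symm _ ≪≫
    Functor.associator _ _ _

/-- `Hom(ℤ_{f⁻¹V}[0], K) ≃ Hom(ℤ_V[0], Rf_* K)` -/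
noncomputable def homEquiv (V : Opens Y) (K : DerivedCategory (CohTop.Ab X)) :
    ((ZDfun X).obj ((Opens.map f).obj V) ⟶ K) ≃+ ((ZDfun Y).obj V ⟶ (RR f).obj K) where
  toFun ξ := (dadj f).homEquiv _ _ ((N f).hom.app V ≫ ξ)
  invFun η := (N f).inv.app V ≫ ((dadj f).homEquiv _ _).symm η
  left_inv ξ := by
    dsimp only
    rw [Equiv.symm_apply_apply, ← Category.assoc, Iso.inv_hom_id_app]
    exact Category.id_comp _
  right_inv η := by
    dsimp only
    rw [← Category.assoc, Iso.hom_inv_id_app]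
    erw [Category.id_comp]
    rw [Equiv.apply_symm_apply]
  map_add' ξ ξ' := by
    rw [Preadditive.comp_add, Adjunction.homAddEquiv_add]

lemma homEquiv_naturality {V V' : Opens Y} (i : V' ⟶ V) (K : DerivedCategory (CohTop.Ab X))
    (ξ : (ZDfun X).obj ((Opens.map f).obj V) ⟶ K) :
    homEquiv f V' K ((ZDfun X).map ((Opens.map f).map i) ≫ ξ) =
      (ZDfun Y).map i ≫ homEquiv f V K ξ := by
  change (dadj f).homEquiv _ _ ((N f).hom.app V' ≫ (ZDfun X).map ((Opens.map f).map i) ≫ ξ) =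
    (ZDfun Y).map i ≫ (dadj f).homEquiv _ _ ((N f).hom.app V ≫ ξ)
  rw [← Adjunction.homEquiv_naturality_left]
  congr 1
  have := (N f).hom.naturality i
  calc (N f).hom.app V' ≫ (ZDfun X).map ((Opens.map f).map i) ≫ ξ
      = ((N f).hom.app V' ≫ (Opens.map f ⋙ ZDfun X).map i) ≫ ξ := (Category.assoc _ _ _).symm
    _ = ((ZDfun Y ⋙ DL f).map i ≫ (N f).hom.app V) ≫ ξ := by rw [this]
    _ = _ := Category.assoc _ _ _

/-- the presheaf `V ↦ Hom(ℤ_{f⁻¹V}[0], K)` on `Y` is `V ↦ Hom(ℤ_V[0], Rf_* K)` -/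
noncomputable def presheafIso (K : DerivedCategory (CohTop.Ab X)) :
    (Opens.map f).op ⋙ HP K ≅ HP ((RR f).obj K) :=
  NatIso.ofComponents (fun V => (homEquiv f V.unop K).toAddCommGrpIso) (fun {V V'} i => by
    ext ξ
    exact homEquiv_naturality f i.unop K ξ)

end Groth.Agent.PushHyper31
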