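import Groth.Agent.Lib.PushHyper31
import Mathlib.CategoryTheory.Shift.Adjunction

/-!
# Negative vanishing and the sheaf of `H⁰` over preimages of opens (helper31)
-/

set_option autoImplicit false

open CategoryTheory CategoryTheory.Limits Opposite TopologicalSpace DerivedCategory
  DerivedCategory.TStructure

universe u

namespace Groth.Agent.PushHyperMain31

open Groth.Agent.FreeSheaf31 Groth.Agent.HyperLocal31 Groth.Agent.PullFree31
  Groth.Agent.PushHyper31 Groth.Agent.RlimSheaf31 Groth.Agent.ThetaBij31 Groth.Agent.ThetaGE31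

variable {X Y : TopCat.{u}} (f : X ⟶ Y)
  [HasDerivedCategory.{u} (CohTop.Ab X)] [HasDerivedCategory.{u} (CohTop.Ab Y)]

/-- `Rf_*` commutes with shifts -/
noncomputable def shiftIso (K : DerivedCategory (CohTop.Ab X)) (i : ℤ) :
    (RR f).obj ((shiftFunctor _ i).obj K) ≅ (shiftFunctor _ i).obj ((RR f).obj K) :=
  (Adjunction.RightAdjointCommShift.iso (dadj f) i).app K

/-- `H^i(f⁻¹V, K) ≃ Hom(ℤ_V[0], (Rf_* K)[i])` -/
noncomputable def hdEquiv (V : Opens Y) (K : DerivedCategory (CohTop.Ab X)) (i : ℤ) :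
    CohCx.HDU K i ((Opens.map f).obj V) ≃
      (ZD (Opens.grothendieckTopology Y) V ⟶ (shiftFunctor _ i).obj ((RR f).obj K)) :=
  (PushHyper31.homEquiv f V ((shiftFunctor _ i).obj K)).toEquiv.trans
    (Iso.homCongr (Iso.refl _) (shiftIso f K i))

variable {f} in
theorem isGE_RR {B : Set (Opens Y)} (hB : Opens.IsBasis B) (K : DerivedCategory (CohTop.Ab X))
    (h : ∀ V ∈ B, ∀ i : ℤ, i < 0 → Subsingleton (CohCx.HDU K i ((Opens.map f).obj V))) :
    ((RR f).obj K).IsGE 0 := by
  rw [isGE_iff]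
  intro j hj
  refine isZero_homology_of_vanish _ j (covers_of_isBasis hB) (fun V hV ξ => ?_)
  have := h V hV j hj
  exact (hdEquiv f V K j).symm.injective (Subsingleton.elim _ _)

theorem main {B : Set (Opens Y)} (hB : Opens.IsBasis B) (K : DerivedCategory (CohTop.Ab X))
    (h : ∀ V ∈ B, ∀ i : ℤ, i < 0 → Subsingleton (CohCx.HDU K i ((Opens.map f).obj V))) :
    (∀ (V : Opens Y) (i : ℤ), i < 0 → Subsingleton (CohCx.HDU K i ((Opens.map f).obj V))) ∧
    Presheaf.IsSheaf (Opens.grothendieckTopology Y)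
      ((Opens.map f).op ⋙ CohCx.HDUPresheaf K 0) := by
  haveI hM : ((RR f).obj K).IsGE 0 := isGE_RR hB K h
  constructor
  · intro V i hi
    haveI : Subsingleton (ZD (Opens.grothendieckTopology Y) V ⟶
        (shiftFunctor _ i).obj ((RR f).obj K)) :=
      ⟨fun a b => by
        rw [hom_ZD_eq_zero_of_isGE V ((RR f).obj K) 0 i hi a,
          hom_ZD_eq_zero_of_isGE V ((RR f).obj K) 0 i hi b]⟩
    exact (hdEquiv f V K i).subsingleton
  · let K₀ : DerivedCategory (CohTop.Ab X) := (shiftFunctor _ (0 : ℤ)).obj K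
    have e : (RR f).obj K ≅ (RR f).obj K₀ :=
      (RR f).mapIso ((shiftFunctorZero _ ℤ).app K).symm
    haveI : ((RR f).obj K₀).IsGE 0 := t.isGE_of_iso e 0
    have h1 : Presheaf.IsSheaf (Opens.grothendieckTopology Y) (HP ((RR f).obj K₀)) :=
      isSheaf_HP_of_isGE _
    exact (Presheaf.isSheaf_of_iso_iff (presheafIso f K₀)).2 h1

end Groth.Agent.PushHyperMain31
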