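import Groth.Agent.Lib.RDPlus31
import Mathlib.CategoryTheory.Abelian.RightDerived
import Mathlib.CategoryTheory.Abelian.Injective.Extend
import Mathlib.Algebra.Homology.Embedding.ExtendHomology

/-!
# `R⁺F` on single objects versus the classical right derived functors (helper31)
-/

set_option autoImplicit false

open CategoryTheory Limits

namespace Groth.Agent.RDPlus31

section MapExtend

variable {ι ι' : Type*} {c : ComplexShape ι} {c' : ComplexShape ι'}
  {C D : Type*} [Category* C] [Category* D] [HasZeroObject C] [HasZeroObject D]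
  [HasZeroMorphisms C] [HasZeroMorphisms D] (F : C ⥤ D) [F.PreservesZeroMorphisms]
  (K L : HomologicalComplex C c) (φ : K ⟶ L) (e : c.Embedding c')

/-- Auxiliary isomorphism for `mapExtendIso`. -/
noncomputable def extendXMapIso : ∀ o : Option ι,
    F.obj (HomologicalComplex.extend.X K o) ≅
      HomologicalComplex.extend.X ((F.mapHomologicalComplex c).obj K) o
  | some _ => Iso.refl _
  | none => F.mapZeroObject

lemma extendXMapIso_d (o o' : Option ι) :
    F.map (HomologicalComplex.extend.d K o o') ≫ (extendXMapIso F K o').hom =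
      (extendXMapIso F K o).hom ≫
        HomologicalComplex.extend.d ((F.mapHomologicalComplex c).obj K) o o' := by
  match o, o' with
  | none, _ =>
      rw [HomologicalComplex.extend.d_none_eq_zero _ _ _ rfl,
        HomologicalComplex.extend.d_none_eq_zero _ _ _ rfl, F.map_zero, zero_comp, comp_zero]
  | some i, some j =>
      show F.map (K.d i j) ≫ 𝟙 (F.obj (K.X j)) = 𝟙 (F.obj (K.X i)) ≫ F.map (K.d i j)
      rw [Category.comp_id, Category.id_comp]
  | some i, none =>
      rw [HomologicalComplex.extend.d_none_eq_zero' _ _ _ rfl,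
        HomologicalComplex.extend.d_none_eq_zero' _ _ _ rfl, F.map_zero, zero_comp, comp_zero]

/-- `F` commutes with the extension of homological complexes along an embedding of complex
shapes. -/
noncomputable def mapExtendIso :
    (F.mapHomologicalComplex c').obj (K.extend e) ≅
      ((F.mapHomologicalComplex c).obj K).extend e :=
  HomologicalComplex.Hom.isoOfComponents (fun i' => extendXMapIso F K (e.r i'))
    (fun i' j' _ => (extendXMapIso_d F K (e.r i') (e.r j')).symm)

variable {K L}

lemma extendXMapIso_mapX (o : Option ι) :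
    F.map (HomologicalComplex.extend.mapX φ o) ≫ (extendXMapIso F L o).hom =
      (extendXMapIso F K o).hom ≫
        HomologicalComplex.extend.mapX ((F.mapHomologicalComplex c).map φ) o := by
  match o with
  | none =>
      rw [HomologicalComplex.extend.mapX_none _ rfl, HomologicalComplex.extend.mapX_none _ rfl,
        F.map_zero, zero_comp, comp_zero]
  | some i =>
      show F.map (φ.f i) ≫ 𝟙 (F.obj (L.X i)) = 𝟙 (F.obj (K.X i)) ≫ F.map (φ.f i)
      rw [Category.comp_id, Category.id_comp]

lemma mapExtendIso_hom_naturality :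
    (F.mapHomologicalComplex c').map (HomologicalComplex.extendMap φ e) ≫
        (mapExtendIso F L e).hom =
      (mapExtendIso F K e).hom ≫
        HomologicalComplex.extendMap ((F.mapHomologicalComplex c).map φ) e := by
  ext i'
  exact extendXMapIso_mapX F φ (e.r i')

end MapExtend

section NatLevel

variable {A B : Type*} [Category* A] [Category* B] [Abelian A] [Abelian B]
  (F : A ⥤ B) [F.Additive] {X : A} (R : InjectiveResolution X)

lemma isIso_toRightDerivedZero_app_iff [EnoughInjectives A] :
    IsIso (F.toRightDerivedZero.app X) ↔ IsIso (R.toRightDerivedZero' F) := by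
  rw [R.toRightDerivedZero_eq F]
  constructor
  · intro h
    exact IsIso.of_isIso_comp_right _
      ((CochainComplex.isoHomologyπ₀ _).hom ≫ (R.isoRightDerivedObj F 0).inv)
  · intro h
    infer_instance

/-- `F(X)[0] ⟶ F(R)` is a quasi-isomorphism in degree `0` iff `F X ⟶ R⁰F X` is an iso. -/
lemma quasiIsoAt_zero_iff :
    QuasiIsoAt ((F.mapHomologicalComplex (.up ℕ)).map R.ι) 0 ↔
      IsIso (R.toRightDerivedZero' F) := by
  rw [quasiIsoAt_iff_isIso_homologyMap]
  let FS : CochainComplex B ℕ :=
    (F.mapHomologicalComplex (.up ℕ)).obj ((CochainComplex.single₀ A).obj X)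
  let FR : CochainComplex B ℕ := (F.mapHomologicalComplex (.up ℕ)).obj R.cocomplex
  let Fι : FS ⟶ FR := (F.mapHomologicalComplex (.up ℕ)).map R.ι
  let t : FS.X 0 ⟶ FR.cycles 0 := R.toRightDerivedZero' F
  have ht : t ≫ FR.iCycles 0 = Fι.f 0 := R.toRightDerivedZero'_comp_iCycles F
  show IsIso (HomologicalComplex.homologyMap Fι 0) ↔ IsIso t
  have h1 : IsIso (FS.iCycles 0) := by
    refine FS.isIso_iCycles 0 1 (by simp) ?_
    show F.map (((CochainComplex.single₀ A).obj X).d 0 1) = 0
    rw [HomologicalComplex.single_obj_d, F.map_zero]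
  have h2 : FS.iCycles 0 ≫ t = HomologicalComplex.cyclesMap Fι 0 := by
    rw [← cancel_mono (FR.iCycles 0), Category.assoc, HomologicalComplex.cyclesMap_i, ht]
  have h3 : HomologicalComplex.cyclesMap Fι 0 ≫ FR.homologyπ 0 =
      FS.homologyπ 0 ≫ HomologicalComplex.homologyMap Fι 0 :=
    (HomologicalComplex.homologyπ_naturality Fι 0).symm
  have h4 : IsIso (FS.homologyπ 0) := FS.isIso_homologyπ 0 0 (by simp) (by simp)
  have h5 : IsIso (FR.homologyπ 0) := FR.isIso_homologyπ 0 0 (by simp) (by simp)
  constructor
  · intro h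
    have h6 : IsIso (HomologicalComplex.cyclesMap Fι 0) := by
      have : HomologicalComplex.cyclesMap Fι 0 =
          FS.homologyπ 0 ≫ HomologicalComplex.homologyMap Fι 0 ≫ inv (FR.homologyπ 0) := by
        rw [← Category.assoc, ← h3, Category.assoc, IsIso.hom_inv_id, Category.comp_id]
      rw [this]
      infer_instance
    rw [← h2] at h6
    exact IsIso.of_isIso_comp_left (FS.iCycles 0) t
  · intro h
    have h6 : IsIso (HomologicalComplex.cyclesMap Fι 0) := by
      rw [← h2]
      infer_instance
    have : HomologicalComplex.homologyMap Fι 0 =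
        inv (FS.homologyπ 0) ≫ HomologicalComplex.cyclesMap Fι 0 ≫ FR.homologyπ 0 := by
      rw [h3, IsIso.inv_hom_id_assoc]
    rw [this]
    infer_instance

lemma quasiIsoAt_succ_iff [EnoughInjectives A] (k : ℕ) :
    QuasiIsoAt ((F.mapHomologicalComplex (.up ℕ)).map R.ι) (k + 1) ↔
      IsZero ((F.rightDerived (k + 1)).obj X) := by
  have hFS : ((F.mapHomologicalComplex (.up ℕ)).obj
      ((CochainComplex.single₀ A).obj X)).ExactAt (k + 1) := by
    rw [HomologicalComplex.exactAt_iff]
    apply ShortComplex.exact_of_isZero_X₂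
    exact F.map_isZero (HomologicalComplex.isZero_single_obj_X (.up ℕ) 0 X (k + 1) (by simp))
  rw [quasiIsoAt_iff_exactAt _ _ hFS, HomologicalComplex.exactAt_iff_isZero_homology]
  exact (R.isoRightDerivedObj F (k + 1)).isZero_iff.symm

/-- `F(X)[0] ⟶ F(R)` is a quasi-isomorphism iff `F X ≅ R⁰F X` and `RⁱF X = 0` for `i > 0`. -/
lemma quasiIso_map_ι_iff [EnoughInjectives A] :
    QuasiIso ((F.mapHomologicalComplex (.up ℕ)).map R.ι) ↔
      (IsIso (F.toRightDerivedZero.app X) ∧
        ∀ i : ℕ, 0 < i → IsZero ((F.rightDerived i).obj X)) := by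
  rw [quasiIso_iff, isIso_toRightDerivedZero_app_iff F R, ← quasiIsoAt_zero_iff]
  constructor
  · intro h
    refine ⟨h 0, fun i hi => ?_⟩
    obtain ⟨k, rfl⟩ := Nat.exists_eq_succ_of_ne_zero hi.ne'
    exact (quasiIsoAt_succ_iff F R k).1 (h (k + 1))
  · rintro ⟨h0, h⟩ i
    cases i with
    | zero => exact h0
    | succ k => exact (quasiIsoAt_succ_iff F R k).2 (h (k + 1) (Nat.succ_pos k))

/-- Transfer from `ℕ`-indexed to `ℤ`-indexed complexes. -/
lemma quasiIso_map_ι'_iff :
    QuasiIso ((F.mapHomologicalComplex (.up ℤ)).map R.ι') ↔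
      QuasiIso ((F.mapHomologicalComplex (.up ℕ)).map R.ι) := by
  let e := ComplexShape.embeddingUpNat
  let S₀ : CochainComplex A ℕ := (CochainComplex.single₀ A).obj X
  let a : (F.mapHomologicalComplex (.up ℤ)).obj ((CochainComplex.singleFunctor A 0).obj X) ⟶
      (F.mapHomologicalComplex (.up ℤ)).obj (S₀.extend e) :=
    (F.mapHomologicalComplex (.up ℤ)).map
      (HomologicalComplex.extendSingleIso e X 0 0 rfl).inv
  let b : (F.mapHomologicalComplex (.up ℤ)).obj (S₀.extend e) ⟶
      (F.mapHomologicalComplex (.up ℤ)).obj R.cochainComplex :=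
    (F.mapHomologicalComplex (.up ℤ)).map (HomologicalComplex.extendMap R.ι e)
  have hab : (F.mapHomologicalComplex (.up ℤ)).map R.ι' = a ≫ b :=
    (F.mapHomologicalComplex (.up ℤ)).map_comp _ _
  have : IsIso a := by dsimp only [a]; infer_instance
  rw [hab, quasiIso_iff_comp_left a b]
  rw [← HomologicalComplex.quasiIso_extendMap_iff
    ((F.mapHomologicalComplex (.up ℕ)).map R.ι) e]
  refine quasiIso_iff_of_arrow_mk_iso _ _ (Arrow.isoMk
    (mapExtendIso F S₀ e) (mapExtendIso F R.cocomplex e) ?_)
  exact (mapExtendIso_hom_naturality F R.ι e).symm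

omit [Abelian A] in
lemma quasiIsoAt_iff_of_iso {ι : Type*} {c : ComplexShape ι}
    {K L K' L' : HomologicalComplex B c} (φ : K ⟶ L) (φ' : K' ⟶ L')
    (e₁ : K ≅ K') (e₂ : L ≅ L') (comm : φ ≫ e₂.hom = e₁.hom ≫ φ') (i : ι) :
    QuasiIsoAt φ i ↔ QuasiIsoAt φ' i := by
  rw [← quasiIsoAt_iff_comp_right φ e₂.hom i, comm, quasiIsoAt_iff_comp_left e₁.hom φ' i]

/-- Degreewise transfer from `ℕ`-indexed to `ℤ`-indexed complexes. -/
lemma quasiIsoAt_map_ι'_iff (k : ℕ) :
    QuasiIsoAt ((F.mapHomologicalComplex (.up ℤ)).map R.ι') (k : ℤ) ↔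
      QuasiIsoAt ((F.mapHomologicalComplex (.up ℕ)).map R.ι) k := by
  let e := ComplexShape.embeddingUpNat
  let S₀ : CochainComplex A ℕ := (CochainComplex.single₀ A).obj X
  let a : (F.mapHomologicalComplex (.up ℤ)).obj ((CochainComplex.singleFunctor A 0).obj X) ⟶
      (F.mapHomologicalComplex (.up ℤ)).obj (S₀.extend e) :=
    (F.mapHomologicalComplex (.up ℤ)).map
      (HomologicalComplex.extendSingleIso e X 0 0 rfl).inv
  let b : (F.mapHomologicalComplex (.up ℤ)).obj (S₀.extend e) ⟶
      (F.mapHomologicalComplex (.up ℤ)).obj R.cochainComplex :=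
    (F.mapHomologicalComplex (.up ℤ)).map (HomologicalComplex.extendMap R.ι e)
  have hab : (F.mapHomologicalComplex (.up ℤ)).map R.ι' = a ≫ b :=
    (F.mapHomologicalComplex (.up ℤ)).map_comp _ _
  have : IsIso a := by dsimp only [a]; infer_instance
  rw [hab, quasiIsoAt_iff_comp_left a b]
  rw [← HomologicalComplex.quasiIsoAt_extendMap_iff
    ((F.mapHomologicalComplex (.up ℕ)).map R.ι) e (j := k) (j' := (k : ℤ)) rfl]
  exact quasiIsoAt_iff_of_iso _ _ (mapExtendIso F S₀ e) (mapExtendIso F R.cocomplex e)
    (mapExtendIso_hom_naturality F R.ι e) _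

end NatLevel

section Derived

variable {A B : Type*} [Category* A] [Category* B] [Abelian A] [Abelian B]
  [HasDerivedCategory A] [HasDerivedCategory B] [EnoughInjectives A]
  (F : A ⥤ B) [F.Additive]

omit [HasDerivedCategory A] [EnoughInjectives A] in
/-- `Q⁺ ∘ F` applied to (the class of) a morphism of bounded below complexes is an isomorphism
iff `F` of this morphism is a quasi-isomorphism. -/
lemma isIso_Qh_map_mapHomotopyCategoryPlus_iff {K L : CochainComplex.Plus A} (f : K ⟶ L) :
    IsIso (DerivedCategory.Plus.Qh.map (F.mapHomotopyCategoryPlus.map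
      ((HomotopyCategory.Plus.quotient A).map f))) ↔
      QuasiIso ((F.mapHomologicalComplex (.up ℤ)).map f.hom) := by
  rw [← isIso_iff_of_reflects_iso _ DerivedCategory.Plus.ι]
  show IsIso (DerivedCategory.Qh.map ((HomotopyCategory.quotient B (.up ℤ)).map
    ((F.mapHomologicalComplex (.up ℤ)).map f.hom))) ↔ _
  rw [DerivedCategory.isIso_Qh_map_iff, HomotopyCategory.quotient_map_mem_quasiIso_iff,
    HomologicalComplex.mem_quasiIso_iff]

/-- The unit of `R⁺F` at a bounded below complex `K` is an isomorphism iff `F` sends a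
quasi-isomorphism from `K` to a bounded below complex with injective terms to a quasi-iso. -/
lemma isIso_unit_app_iff {K L : CochainComplex.Plus A} (s : K ⟶ L) [QuasiIso s.hom]
    [∀ n, Injective (L.obj.X n)] :
    IsIso (F.rightDerivedFunctorPlusUnit.app ((HomotopyCategory.Plus.quotient A).obj K)) ↔
      QuasiIso ((F.mapHomologicalComplex (.up ℤ)).map s.hom) := by
  rw [← isIso_Qh_map_mapHomotopyCategoryPlus_iff]
  have hs : IsIso (DerivedCategory.Plus.Qh.map ((HomotopyCategory.Plus.quotient A).map s)) := by
    apply Localization.inverts DerivedCategory.Plus.Qh (HomotopyCategory.Plus.quasiIso A)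
    show HomotopyCategory.quasiIso A _ ((HomotopyCategory.quotient A (.up ℤ)).map s.hom)
    rw [HomotopyCategory.quotient_map_mem_quasiIso_iff, HomologicalComplex.mem_quasiIso_iff]
    infer_instance
  have hL : IsIso (F.rightDerivedFunctorPlusUnit.app
      ((HomotopyCategory.Plus.quotient A).obj L)) := inferInstance
  have nat := F.rightDerivedFunctorPlusUnit.naturality ((HomotopyCategory.Plus.quotient A).map s)
  dsimp only [Functor.comp_map] at nat
  constructor
  · intro h
    have : IsIso (DerivedCategory.Plus.Qh.map (F.mapHomotopyCategoryPlus.map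
        ((HomotopyCategory.Plus.quotient A).map s)) ≫
        F.rightDerivedFunctorPlusUnit.app ((HomotopyCategory.Plus.quotient A).obj L)) := by
      rw [nat]
      infer_instance
    exact IsIso.of_isIso_comp_right _
      (F.rightDerivedFunctorPlusUnit.app ((HomotopyCategory.Plus.quotient A).obj L))
  · intro h
    have : IsIso (F.rightDerivedFunctorPlusUnit.app ((HomotopyCategory.Plus.quotient A).obj K) ≫
        F.rightDerivedFunctorPlus.map (DerivedCategory.Plus.Qh.map
          ((HomotopyCategory.Plus.quotient A).map s))) := by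
      rw [← nat]
      infer_instance
    exact IsIso.of_isIso_comp_right _
      (F.rightDerivedFunctorPlus.map (DerivedCategory.Plus.Qh.map
          ((HomotopyCategory.Plus.quotient A).map s)))

/-- The single complex `X[0]` as an object of `CochainComplex.Plus A`. -/
noncomputable def singlePlus (X : A) : CochainComplex.Plus A :=
  ⟨(CochainComplex.singleFunctor A 0).obj X, ⟨0, inferInstance⟩⟩

/-- The `ℤ`-indexed cochain complex of an injective resolution, as an object of
`CochainComplex.Plus A`. -/
noncomputable def resPlus {X : A} (R : InjectiveResolution X) : CochainComplex.Plus A :=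
  ⟨R.cochainComplex, ⟨0, inferInstance⟩⟩

/-- The quasi-isomorphism `X[0] ⟶ R` in `CochainComplex.Plus A`. -/
noncomputable def ιPlus {X : A} (R : InjectiveResolution X) : singlePlus X ⟶ resPlus R :=
  ObjectProperty.homMk R.ι'

omit [HasDerivedCategory A] [EnoughInjectives A] in
lemma singleFunctor_obj_eq (X : A) :
    (HomotopyCategory.Plus.singleFunctor A 0).obj X =
      (HomotopyCategory.Plus.quotient A).obj (singlePlus X) := rfl

/-- `X` is right acyclic for `F` (the unit of `R⁺F` at `X[0]` is an iso) iff `F X ≅ R⁰F X`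
and `RⁱF X = 0` for `i > 0`. -/
theorem isIso_unit_single_iff (X : A) :
    IsIso (F.rightDerivedFunctorPlusUnit.app ((HomotopyCategory.Plus.singleFunctor A 0).obj X)) ↔
      (IsIso (F.toRightDerivedZero.app X) ∧
        ∀ i : ℕ, 0 < i → IsZero ((F.rightDerived i).obj X)) := by
  let R := injectiveResolution X
  have : QuasiIso (ιPlus R).hom := inferInstanceAs (QuasiIso R.ι')
  have : ∀ n, Injective ((resPlus R).obj.X n) := fun n =>
    inferInstanceAs (Injective (R.cochainComplex.X n))
  rw [singleFunctor_obj_eq, isIso_unit_app_iff F (ιPlus R)]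
  exact (quasiIso_map_ι'_iff F R).trans (quasiIso_map_ι_iff F R)

end Derived

end Groth.Agent.RDPlus31
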