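import Groth.Agent.Lib.PushHyperMain31
import Groth.Agent.Lib.RFBdd31
import Groth.Agent.Lib.RDLES31
import Groth.Agent.Lib.RDPlusSingle31

/-!
# Cohomology sheaves of `Rf_* K` as sheafified hypercohomology presheaves (helper31)

For a continuous map `f : X ⟶ Y` and `K ∈ D(Ab(X))`:
`H^p(Rf_* K) ≅ a (V ↦ H^p(f⁻¹V, K))` (`homologyRRIso`, unbounded `Rf_*`).  For a bounded below
complex `K` the bounded below derived functor `R⁺f_*` has the same cohomology sheaves
(`nonempty_homology_plus_iso`), which gives `S8351`.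
-/

set_option autoImplicit false

open CategoryTheory CategoryTheory.Limits Opposite TopologicalSpace DerivedCategory

universe u

namespace Groth.Agent.PushHyperSheaf31

open Groth.Agent.HyperLocal31 Groth.Agent.PushHyper31 Groth.Agent.PushHyperMain31
  Groth.Agent.HomologySheafLocal31

variable {X Y : TopCat.{u}} (f : X ⟶ Y)
  [HasDerivedCategory.{u} (CohTop.Ab X)] [HasDerivedCategory.{u} (CohTop.Ab Y)]

/-- `H^p(Rf_* K) ≅ a (V ↦ H^p(f⁻¹V, K))` for the unbounded derived direct image -/
noncomputable def homologyRRIso (K : DerivedCategory (CohTop.Ab X)) (p : ℤ) :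
    (homologyFunctor (CohTop.Ab Y) p).obj ((RR f).obj K) ≅
      (presheafToSheaf (Opens.grothendieckTopology Y) AddCommGrpCat.{u}).obj
        ((Opens.map f).op ⋙ CohCx.HDUPresheaf K p) :=
  (((homologyFunctor (CohTop.Ab Y) 0).shiftIso p 0 p (by omega)).app ((RR f).obj K)).symm ≪≫
    (homologyFunctor (CohTop.Ab Y) 0).mapIso (shiftIso f K p).symm ≪≫
    (sheafifyHPIso ((RR f).obj ((shiftFunctor _ p).obj K))).symm ≪≫
    (a (Opens.grothendieckTopology Y)).mapIso (presheafIso f ((shiftFunctor _ p).obj K)).symm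

/-- the bounded below derived functor has the same cohomology sheaves as the unbounded one -/
theorem nonempty_homology_plus_iso (K : CochainComplex.Plus (CohTop.Ab X)) (p : ℤ) :
    Nonempty ((DerivedCategory.Plus.homologyFunctor (CohTop.Ab Y) p).obj
        ((CohTop.push f).rightDerivedFunctorPlus.obj
          (DerivedCategory.Plus.Qh.obj ((HomotopyCategory.Plus.quotient (CohTop.Ab X)).obj K))) ≅
      (homologyFunctor (CohTop.Ab Y) p).obj ((RR f).obj (Q.obj K.obj))) := by
  obtain ⟨n, hn⟩ := K.property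
  obtain ⟨J, i, hi, hJ, hJb⟩ :=
    CochainComplex.Plus.modelCategoryQuillen.exists_quasiIso_injective K.obj n
  let L : CochainComplex.Plus (CohTop.Ab X) := ⟨J, ⟨n, hJb⟩⟩
  let s : K ⟶ L := ObjectProperty.homMk i
  haveI : QuasiIso s.hom := hi
  haveI : ∀ k, Injective (L.obj.X k) := hJ
  haveI : J.IsKInjective := CochainComplex.isKInjective_of_injective J n
  -- the `D⁺` side
  let e₁ := (CohTop.push f).rightDerivedFunctorPlus.mapIso
    (asIso (DerivedCategory.Plus.Qh.map ((HomotopyCategory.Plus.quotient (CohTop.Ab X)).map s)))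
  let e₂ := asIso ((CohTop.push f).rightDerivedFunctorPlusUnit.app
    ((HomotopyCategory.Plus.quotient (CohTop.Ab X)).obj L))
  let e₃ := Groth.Agent.RDPlus31.homIso (CohTop.push f) L p
  -- the unbounded side
  have : IsIso (Q.map i) := by rw [isIso_Q_map_iff_quasiIso]; exact hi
  let e₄ : (RR f).obj (Q.obj K.obj) ≅
      Q.obj (((CohTop.push f).mapHomologicalComplex (ComplexShape.up ℤ)).obj J) :=
    (RR f).mapIso (asIso (Q.map i)) ≪≫ Groth.Agent.RFBdd31.RFQIso (CohTop.push f) J
  let e₅ := (homologyFunctorFactors (CohTop.Ab Y) p).app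
    (((CohTop.push f).mapHomologicalComplex (ComplexShape.up ℤ)).obj J)
  exact ⟨(DerivedCategory.Plus.homologyFunctor (CohTop.Ab Y) p).mapIso (e₁ ≪≫ e₂.symm) ≪≫ e₃ ≪≫
    e₅.symm ≪≫ (homologyFunctor (CohTop.Ab Y) p).mapIso e₄.symm⟩

/-- `S8351` -/
theorem nonempty_iso (K : CochainComplex.Plus (CohTop.Ab X)) (p : ℤ) :
    Nonempty ((DerivedCategory.Plus.homologyFunctor (CohTop.Ab Y) p).obj
        ((CohTop.push f).rightDerivedFunctorPlus.obj
          (DerivedCategory.Plus.Qh.obj ((HomotopyCategory.Plus.quotient (CohTop.Ab X)).obj K))) ≅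
      (presheafToSheaf (Opens.grothendieckTopology Y) AddCommGrpCat.{u}).obj
        ((Opens.map f).op ⋙ CohCx.HDUPresheaf (DerivedCategory.Q.obj K.obj) p)) := by
  obtain ⟨e⟩ := nonempty_homology_plus_iso f K p
  exact ⟨e ≪≫ homologyRRIso f (Q.obj K.obj) p⟩

end Groth.Agent.PushHyperSheaf31
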