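import Groth.Agent.Lib.RelPCChart17

/-!
# Direct image and restriction along isomorphisms; base change of `i_*` along open immersions (helper17)
-/

set_option autoImplicit false
universe w₁ w₂ v₁ v₂ u₁ u₂ u
open CategoryTheory CategoryTheory.Limits AlgebraicGeometry TopologicalSpace Opposite

namespace Groth.Agent.Lib.PushIso17

section General

variable {C₁ : Type u₁} [Category.{v₁} C₁] [Abelian C₁] [HasDerivedCategory.{w₁} C₁]
  {C₂ : Type u₂} [Category.{v₂} C₂] [Abelian C₂] [HasDerivedCategory.{w₂} C₂]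
  (F : C₁ ⥤ C₂) [F.Additive] [PreservesFiniteLimits F] [PreservesFiniteColimits F]
  (G : C₂ ⥤ C₁) [G.Additive] [PreservesFiniteLimits G] [PreservesFiniteColimits G]

open Groth.Agent.Lib.PerfectD in
/-- If `F ⋙ G ≅ 𝟭` for exact functors, the same holds on derived categories. -/
noncomputable def mapDerivedCategoryCompIdIso (e : F ⋙ G ≅ 𝟭 C₁) :
    F.mapDerivedCategory ⋙ G.mapDerivedCategory ≅ 𝟭 (DerivedCategory C₁) :=
  letI := compLifting F G
  Localization.liftNatIso DerivedCategory.Q (HomologicalComplex.quasiIso C₁ (ComplexShape.up ℤ))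
    ((F.mapHomologicalComplex (ComplexShape.up ℤ) ⋙ G.mapHomologicalComplex (ComplexShape.up ℤ)) ⋙
        DerivedCategory.Q)
    DerivedCategory.Q _ _
    (Functor.isoWhiskerRight (Functor.mapHomologicalComplexCompIso e (ComplexShape.up ℤ) ≪≫
      Functor.mapHomologicalComplexIdIso C₁ (ComplexShape.up ℤ)) DerivedCategory.Q ≪≫
      Functor.leftUnitor _)

end General

section Scheme

attribute [local instance] HasDerivedCategory.standard

open Groth.Agent.Lib.ClosedPushPC17 Groth.Agent.Lib.PerfectD Groth.Agent.Lib.RelPCChart17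
  Groth.Agent.Lib.PseudoCohTriangle

variable {W₁ W₂ : Scheme.{u}}

theorem isIso_map_homOfLE (M : W₂.Modules) {a b : W₂.Opens} (h : a = b) (hle : a ≤ b) :
    IsIso (M.presheaf.map (homOfLE hle).op) := by
  subst h
  have : homOfLE hle = 𝟙 a := rfl
  rw [this, op_id, M.presheaf.map_id]
  infer_instance

theorem isIso_unit_app (θ : W₁ ⟶ W₂) [IsIso θ] (M : W₂.Modules) :
    IsIso ((Scheme.Modules.restrictAdjunction θ).unit.app M) := by
  rw [Scheme.Modules.Hom.isIso_iff_isIso_app]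
  intro U
  rw [Scheme.Modules.restrictAdjunction_unit_app_app]
  have h : θ ''ᵁ (θ ⁻¹ᵁ U) = U := by
    rw [Scheme.Hom.image_preimage_eq_opensRange_inf]
    have : θ.opensRange = ⊤ := by
      ext x
      simp only [Scheme.Hom.coe_opensRange, Opens.coe_top, Set.mem_univ, iff_true]
      exact (ConcreteCategory.bijective_of_isIso θ.base).surjective x
    rw [this, top_inf_eq]
  exact isIso_map_homOfLE M h _

/-- For an isomorphism `θ`, `θ_* θ^* ≅ id`. -/
noncomputable def restrictPushIso (θ : W₁ ⟶ W₂) [IsIso θ] :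
    Scheme.Modules.restrictFunctor θ ⋙ Scheme.Modules.pushforward θ ≅ 𝟭 _ :=
  haveI : ∀ M, IsIso ((Scheme.Modules.restrictAdjunction θ).unit.app M) := isIso_unit_app θ
  haveI : IsIso (Scheme.Modules.restrictAdjunction θ).unit := NatIso.isIso_of_isIso_app _
  (asIso (Scheme.Modules.restrictAdjunction θ).unit).symm

/-- For an isomorphism `θ`, `θ_* θ^* ≅ id` on derived categories. -/
noncomputable def restrictPushDIso (θ : W₁ ⟶ W₂) [IsIso θ] :
    DCoh.restrictD θ ⋙ pushD θ ≅ 𝟭 _ :=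
  mapDerivedCategoryCompIdIso _ _ (restrictPushIso θ)

/-- For a morphism which is both an open and a closed immersion, `θ^* θ_* ≅ id` on derived
categories. -/
noncomputable def pushRestrictDIso (θ : W₁ ⟶ W₂) [IsOpenImmersion θ] [IsClosedImmersion θ] :
    pushD θ ⋙ DCoh.restrictD θ ≅ 𝟭 _ :=
  mapDerivedCategoryCompIdIso _ _ (Scheme.Modules.restrictFunctorAdjCounitIso θ)

section BaseChange

open Groth.Agent.Lib.LocalFlex

variable {Z A A' Z' : Scheme.{u}} (c : Z ⟶ A) [IsClosedImmersion c] (j : A' ⟶ A) [IsOpenImmersion j]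
  (c' : Z' ⟶ A') [IsClosedImmersion c'] (j' : Z' ⟶ Z) [IsOpenImmersion j']

/-- Base change of the direct image along a closed immersion to an open immersion. -/
noncomputable def baseChangeIso (sq : IsPullback j' c' c j) (K : DCoh.D Z) :
    (DCoh.restrictD j).obj ((pushD c).obj K) ≅ (pushD c').obj ((DCoh.restrictD j').obj K) := by
  let D : A.Opens := j.opensRange
  let r : (D : Scheme.{u}) ⟶ A' := rangeLift j
  have hr : r ≫ j = D.ι := rangeLift_fac j
  let O : Z.Opens := c ⁻¹ᵁ D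
  have hsq1 : IsPullback O.ι (c ∣_ D) c D.ι := (isPullback_morphismRestrict c D).flip
  have hsq2 : IsPullback O.ι (c ∣_ D ≫ r) c j :=
    hsq1.of_iso (Iso.refl _) (Iso.refl _) (asIso r) (Iso.refl _) (by simp) (by simp) (by simp)
      (by simp [hr])
  let θ : (O : Scheme.{u}) ≅ Z' := hsq2.isoIsPullback _ _ sq
  have hθj : θ.hom ≫ j' = O.ι := hsq2.isoIsPullback_hom_fst _ _ sq
  have hθc : θ.hom ≫ c' = c ∣_ D ≫ r := hsq2.isoIsPullback_hom_snd _ _ sq
  let X₀ := (pushD c).obj K
  let s1 : (DCoh.restrictD j).obj X₀ ≅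
      (pushD r).obj ((DCoh.restrictD r).obj ((DCoh.restrictD j).obj X₀)) :=
    ((restrictPushDIso r).app _).symm
  let s2 : (DCoh.restrictD r).obj ((DCoh.restrictD j).obj X₀) ≅ (DCoh.restrictD D.ι).obj X₀ :=
    (restrictDCompIso r j D.ι hr).app X₀
  let s3 : (DCoh.restrictD D.ι).obj X₀ ≅ (pushD (c ∣_ D)).obj ((DCoh.restrictD O.ι).obj K) :=
    (pushRestrictD c D).app K
  let Y₀ := (DCoh.restrictD O.ι).obj K
  let s4 : (pushD r).obj ((pushD (c ∣_ D)).obj Y₀) ≅ (pushD (c ∣_ D ≫ r)).obj Y₀ :=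
    (pushDCompIso (c ∣_ D) r _ rfl).app Y₀
  let s5 : (pushD c').obj ((pushD θ.hom).obj Y₀) ≅ (pushD (c ∣_ D ≫ r)).obj Y₀ :=
    (pushDCompIso θ.hom c' _ hθc).app Y₀
  let s6 : Y₀ ≅ (DCoh.restrictD θ.hom).obj ((DCoh.restrictD j').obj K) :=
    ((restrictDCompIso θ.hom j' O.ι hθj).app K).symm
  let s7 : (pushD θ.hom).obj ((DCoh.restrictD θ.hom).obj ((DCoh.restrictD j').obj K)) ≅
      (DCoh.restrictD j').obj K := (restrictPushDIso θ.hom).app _
  exact s1 ≪≫ (pushD r).mapIso (s2 ≪≫ s3) ≪≫ s4 ≪≫ s5.symm ≪≫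
    (pushD c').mapIso ((pushD θ.hom).mapIso s6 ≪≫ s7)

end BaseChange

end Scheme

end Groth.Agent.Lib.PushIso17
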