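import Groth.Agent.Lib.KInjAdj
import Mathlib.Algebra.Homology.DerivedCategory.Ext.ExactSequences
import Mathlib.Algebra.Homology.DerivedCategory.Ext.EnoughInjectives
import Mathlib.Algebra.Homology.Embedding.CochainComplex
import Mathlib.CategoryTheory.Preadditive.Injective.Basic
import Mathlib.CategoryTheory.Adjunction.Additive

/-!
# Left adjoints preserve acyclicity of bounded above complexes of "coacyclic" objects (helper31)

Let `G ⊣ F` be an adjunction of additive functors between abelian categories `G : B ⥤ A`,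
`F : A ⥤ B`, with `A` having enough injectives.  Let `P` be a bounded above acyclic complex in `B`
such that `Ext^k(P^i, F W) = 0` for all `k ≥ 1`, all `i` and all injective objects `W` of `A`.  Then
`G(P)` is acyclic (`acyclic_map_of_ext_vanishing`).  Consequently, for every K-injective complex `I`
in `A`, every morphism of complexes `P ⟶ F(I)` is homotopic to zero
(`nonempty_homotopy_zero_of_ext_vanishing`).

This replaces the theory of K-flat complexes in the proof that `Rf_*` (for a morphism of ringed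
sites) has a partial left adjoint on the free modules: the role of `P` is played by bounded above
complexes of direct sums of free modules `j_! O_V`, and the `Ext`-vanishing is the total
acyclicity of `f_*` of an injective module.
-/

set_option autoImplicit false

open CategoryTheory CategoryTheory.Limits Abelian

universe w v v' u u'

namespace Groth.Agent.PushLocalA31

section Cycles

variable {𝒜 : Type u} [Category.{v} 𝒜] [Abelian 𝒜] (K : CochainComplex 𝒜 ℤ)

lemma iCycles_toCycles (i j : ℤ) : K.iCycles i ≫ K.toCycles i j = 0 := by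
  rw [← cancel_mono (K.iCycles j), Category.assoc, HomologicalComplex.toCycles_i,
    HomologicalComplex.iCycles_d, zero_comp]

lemma epi_toCycles (i j : ℤ) (hij : i + 1 = j) (h : K.ExactAt j) : Epi (K.toCycles i j) := by
  have hex : (K.sc' i j (j + 1)).Exact :=
    (K.exactAt_iff' i j (j + 1) (by simp; omega) (by simp)).1 h
  rw [epi_iff_surjective_up_to_refinements]
  intro T₀ y
  obtain ⟨T₁, π₁, hπ₁, x, hx⟩ := hex.exact_up_to_refinements (y ≫ K.iCycles j)
    (by
      change (y ≫ K.iCycles j) ≫ K.d j (j + 1) = 0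
      rw [Category.assoc, HomologicalComplex.iCycles_d, comp_zero])
  refine ⟨T₁, π₁, hπ₁, x, ?_⟩
  rw [← cancel_mono (K.iCycles j), Category.assoc, Category.assoc, HomologicalComplex.toCycles_i]
  exact hx

/-- the short exact sequence `0 → Zⁱ → Kⁱ → Zⁱ⁺¹ → 0` of a complex exact in degree `i + 1` -/
lemma cycles_shortExact (i : ℤ) (h : K.ExactAt (i + 1)) :
    (ShortComplex.mk (K.iCycles i) (K.toCycles i (i + 1))
      (iCycles_toCycles K i (i + 1))).ShortExact := by
  have := epi_toCycles K i (i + 1) rfl h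
  refine ShortComplex.ShortExact.mk' ?_ (inferInstanceAs (Mono (K.iCycles i)))
    (inferInstanceAs (Epi (K.toCycles i (i + 1))))
  rw [ShortComplex.exact_iff_exact_up_to_refinements]
  intro T₀ x hx
  have hx' : x ≫ K.toCycles i (i + 1) = 0 := hx
  refine ⟨T₀, 𝟙 T₀, inferInstance, K.liftCycles x (i + 1) (by simp) ?_, ?_⟩
  · rw [← HomologicalComplex.toCycles_i K i (i + 1), ← Category.assoc, hx', zero_comp]
  · dsimp
    rw [Category.id_comp, HomologicalComplex.liftCycles_i]

lemma isZero_cycles_of_isZero (i : ℤ) (h : IsZero (K.X i)) : IsZero (K.cycles i) := by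
  rw [IsZero.iff_id_eq_zero, ← cancel_mono (K.iCycles i)]
  exact h.eq_of_tgt _ _

end Cycles

section Ext

variable {ℬ : Type u} [Category.{v} ℬ] [Abelian ℬ] [HasExt.{w} ℬ]

lemma ext_eq_zero_of_isZero_left {X Y : ℬ} (hX : IsZero X) {n : ℕ} (x : Ext X Y n) : x = 0 := by
  have h : (Ext.mk₀ (𝟙 X)).comp x (zero_add n) = x := Ext.mk₀_id_comp x
  rw [← h, hX.eq_of_src (𝟙 X) 0, Ext.mk₀_zero, Ext.zero_comp]

variable (P : CochainComplex ℬ ℤ) (E : ℬ)

/-- dimension shifting: `Ext^{k+1}(Zⁱ(P), E) = 0` for a bounded above acyclic complex `P` whose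
terms have no higher `Ext` into `E`. -/
lemma ext_cycles_eq_zero (b : ℤ) [P.IsStrictlyLE b] (hP : ∀ i, P.ExactAt i)
    (hE : ∀ (i : ℤ) (k : ℕ) (x : Ext (P.X i) E (k + 1)), x = 0) :
    ∀ (i : ℤ) (k : ℕ) (x : Ext (P.cycles i) E (k + 1)), x = 0 := by
  have key : ∀ (n : ℕ) (i : ℤ), b + 1 ≤ i + n →
      ∀ (k : ℕ) (x : Ext (P.cycles i) E (k + 1)), x = 0 := by
    intro n
    induction n with
    | zero =>
      intro i hi k x
      exact ext_eq_zero_of_isZero_left
        (isZero_cycles_of_isZero P i (P.isZero_of_isStrictlyLE b i (by simp at hi; omega))) x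
    | succ n ih =>
      intro i hi k x
      have hS := cycles_shortExact P i (hP (i + 1))
      have h1 : hS.extClass.comp x (show 1 + (k + 1) = (k + 1) + 1 by omega) = 0 :=
        ih (i + 1) (by push_cast at hi ⊢; omega) (k + 1) _
      obtain ⟨x₂, hx₂⟩ := Ext.contravariant_sequence_exact₁ hS E x _ h1
      rw [← hx₂, hE i k x₂, Ext.comp_zero]
  intro i k x
  exact key (b + 1 - i).toNat i (by omega) k x

/-- the complex `Hom(P, E)` is exact: every `φ : Pⁱ ⟶ E` killing the boundaries extends along the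
differential. -/
lemma exists_extension (b : ℤ) [P.IsStrictlyLE b] (hP : ∀ i, P.ExactAt i)
    (hE : ∀ (i : ℤ) (k : ℕ) (x : Ext (P.X i) E (k + 1)), x = 0)
    (i : ℤ) (φ : P.X i ⟶ E) (hφ : P.d (i - 1) i ≫ φ = 0) :
    ∃ ψ : P.X (i + 1) ⟶ E, P.d i (i + 1) ≫ ψ = φ := by
  -- `φ` kills the cycles
  have h0 : P.iCycles i ≫ φ = 0 := by
    have := epi_toCycles P (i - 1) i (by omega) (hP i)
    rw [← cancel_epi (P.toCycles (i - 1) i), comp_zero, ← Category.assoc,
      HomologicalComplex.toCycles_i, hφ]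
  have hS := cycles_shortExact P i (hP (i + 1))
  have : Epi (P.toCycles i (i + 1)) := hS.epi_g
  let φ' : P.cycles (i + 1) ⟶ E := hS.exact.desc φ h0
  have hφ' : P.toCycles i (i + 1) ≫ φ' = φ := hS.exact.g_desc φ h0
  -- extend `φ'` along `Z^{i+1} ⟶ P^{i+1}`
  have hS' := cycles_shortExact P (i + 1) (hP (i + 1 + 1))
  have h1 : hS'.extClass.comp (Ext.mk₀ φ') (show 1 + 0 = 0 + 1 by omega) = 0 :=
    ext_cycles_eq_zero P E b hP hE (i + 1 + 1) 0 _
  obtain ⟨x₂, hx₂⟩ := Ext.contravariant_sequence_exact₁ hS' E (Ext.mk₀ φ') _ h1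
  obtain ⟨ψ, rfl⟩ := (Ext.mk₀_bijective _ _).2 x₂
  refine ⟨ψ, ?_⟩
  have h2 : P.iCycles (i + 1) ≫ ψ = φ' := by
    apply (Ext.mk₀_bijective _ _).1
    rw [← hx₂, Ext.mk₀_comp_mk₀]
  rw [← HomologicalComplex.toCycles_i P i (i + 1), Category.assoc, h2, hφ']

end Ext

section Criterion

variable {𝒜 : Type u} [Category.{v} 𝒜] [Abelian 𝒜] [EnoughInjectives 𝒜]

/-- a complex is exact in degree `i` if morphisms to injective objects killing the boundaries
extend along the differential. -/
lemma exactAt_of_forall_injective (Q : CochainComplex 𝒜 ℤ) (i : ℤ)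
    (h : ∀ (W : 𝒜), Injective W → ∀ (φ : Q.X i ⟶ W), Q.d (i - 1) i ≫ φ = 0 →
      ∃ ψ : Q.X (i + 1) ⟶ W, Q.d i (i + 1) ≫ ψ = φ) : Q.ExactAt i := by
  rw [Q.exactAt_iff' (i - 1) i (i + 1) (by simp) (by simp)]
  let S := Q.sc' (i - 1) i (i + 1)
  change S.Exact
  rw [S.exact_iff_mono_fromOpcycles]
  let W := Injective.under S.opcycles
  let j : S.opcycles ⟶ W := Injective.ι S.opcycles
  obtain ⟨ψ, hψ⟩ := h W inferInstance (S.pOpcycles ≫ j) (by
    change S.f ≫ S.pOpcycles ≫ j = 0
    rw [← Category.assoc, S.f_pOpcycles, zero_comp])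
  have h1 : S.fromOpcycles ≫ ψ = j := by
    rw [← cancel_epi S.pOpcycles, ← Category.assoc, S.p_fromOpcycles]
    exact hψ
  exact mono_of_mono_fac h1

end Criterion

section Main

variable {A : Type u} [Category.{v} A] [Abelian A] [EnoughInjectives A]
  {B : Type u'} [Category.{v'} B] [Abelian B] [HasExt.{w} B]
  {G : B ⥤ A} {F : A ⥤ B} [G.Additive] [F.Additive] (adj : G ⊣ F)

include adj in
/-- **`G` preserves acyclicity of bounded above complexes of coacyclic objects.** -/
theorem acyclic_map_of_ext_vanishing (P : CochainComplex B ℤ) (b : ℤ) [P.IsStrictlyLE b]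
    (hP : ∀ i, P.ExactAt i)
    (hE : ∀ (W : A), Injective W → ∀ (i : ℤ) (k : ℕ) (x : Ext (P.X i) (F.obj W) (k + 1)), x = 0) :
    ((G.mapHomologicalComplex (ComplexShape.up ℤ)).obj P).Acyclic := by
  intro i
  apply exactAt_of_forall_injective
  intro W hW φ hφ
  change G.obj (P.X i) ⟶ W at φ
  have hφ' : G.map (P.d (i - 1) i) ≫ φ = 0 := hφ
  obtain ⟨ψ, hψ⟩ := exists_extension P (F.obj W) b hP (hE W hW) i (adj.homEquiv _ _ φ) (by
    rw [← adj.homEquiv_naturality_left, hφ']
    exact adj.homAddEquiv_zero _ _)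
  refine ⟨(adj.homEquiv _ _).symm ψ, ?_⟩
  change G.map (P.d i (i + 1)) ≫ (adj.homEquiv _ _).symm ψ = φ
  rw [← adj.homEquiv_naturality_left_symm, hψ, Equiv.symm_apply_apply]

include adj in
/-- morphisms from a bounded above acyclic complex of coacyclic objects to `F(I)`, `I`
K-injective, are homotopic to zero. -/
theorem nonempty_homotopy_zero_of_ext_vanishing (P : CochainComplex B ℤ) (b : ℤ)
    [P.IsStrictlyLE b] (hP : ∀ i, P.ExactAt i)
    (hE : ∀ (W : A), Injective W → ∀ (i : ℤ) (k : ℕ) (x : Ext (P.X i) (F.obj W) (k + 1)), x = 0)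
    (I : CochainComplex A ℤ) [I.IsKInjective]
    (φ : P ⟶ (F.mapHomologicalComplex (ComplexShape.up ℤ)).obj I) : Nonempty (Homotopy φ 0) :=
  ⟨Groth.Agent.Lib.KInjAdj.adjHomotopy adj P I φ
    (CochainComplex.IsKInjective.homotopyZero (Groth.Agent.Lib.KInjAdj.adjHom adj P I φ)
      (acyclic_map_of_ext_vanishing adj P b hP hE))⟩

end Main

end Groth.Agent.PushLocalA31
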