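import Groth.Agent.Lib.ClassResolutionOp
import Mathlib.Algebra.Homology.DerivedCategory.Fractions
import Mathlib.Algebra.Homology.HomotopyCategory.Acyclic
import Mathlib.Algebra.Homology.HomotopyCategory.MappingCone
import Mathlib.Algebra.Homology.HomotopyCategory.Triangulated
import Mathlib.CategoryTheory.Localization.CalculusOfFractions

/-!
# Complexes local with respect to bounded above acyclic complexes of a class (helper31)

`ℬ` abelian, `P₀` a class of objects containing a zero object, stable under isomorphisms and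
binary biproducts and such that every object is a quotient of a member.  A complex `N` is *local*
(`IsLocal P₀ N`) if every morphism `P ⟶ N` from a bounded above acyclic complex with terms in `P₀` is
homotopic to zero.  Then, for every bounded above complex `Y₀` with terms in `P₀`, the map
`Hom_{K(ℬ)}(Y₀, N) ⟶ Hom_{D(ℬ)}(Y₀, N)` is bijective
(`exists_Q_map_eq_of_isLocal`, `nonempty_homotopy_zero_of_isLocal`).
-/

set_option autoImplicit false

open CategoryTheory CategoryTheory.Limits Pretriangulated DerivedCategory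

universe w v u

namespace Groth.Agent.PushLocalB31

variable {ℬ : Type u} [Category.{v} ℬ] [Abelian ℬ]

/-- `N` is local with respect to bounded above acyclic complexes with terms in `P₀`. -/
def IsLocal (P₀ : ℬ → Prop) (N : CochainComplex ℬ ℤ) : Prop :=
  ∀ (P : CochainComplex ℬ ℤ) (b : ℤ), P.IsStrictlyLE b → P.Acyclic → (∀ i, P₀ (P.X i)) →
    ∀ φ : P ⟶ N, Nonempty (Homotopy φ 0)

theorem quasiIso_iff_acyclic_mappingCone {K L : CochainComplex ℬ ℤ} (φ : K ⟶ L) :
    QuasiIso φ ↔ (CochainComplex.mappingCone φ).Acyclic := by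
  rw [← HomologicalComplex.mem_quasiIso_iff, ← HomotopyCategory.quotient_map_mem_quasiIso_iff,
    HomotopyCategory.quasiIso_eq_trW_subcategoryAcyclic,
    ← HomotopyCategory.quotient_obj_mem_subcategoryAcyclic_iff_acyclic]
  exact (HomotopyCategory.subcategoryAcyclic ℬ).trW_iff_of_distinguished
    (CochainComplex.mappingCone.triangleh φ)
    (HomotopyCategory.mappingCone_triangleh_distinguished φ)

lemma acyclic_shift (K : CochainComplex ℬ ℤ) (hK : K.Acyclic) (n : ℤ) : (K⟦n⟧).Acyclic := by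
  rw [← HomotopyCategory.quotient_obj_mem_subcategoryAcyclic_iff_acyclic] at hK ⊢
  exact (HomotopyCategory.subcategoryAcyclic ℬ).prop_of_iso
    (((HomotopyCategory.quotient ℬ (ComplexShape.up ℤ)).commShiftIso n).app K).symm
    ((HomotopyCategory.subcategoryAcyclic ℬ).le_shift n _ hK)

section Cone

variable {P₀ : ℬ → Prop} (hiso : ∀ ⦃X Y : ℬ⦄, (X ≅ Y) → P₀ X → P₀ Y)
  (hbiprod : ∀ ⦃X Y : ℬ⦄, P₀ X → P₀ Y → P₀ (X ⊞ Y))
  {Y' Y₀ : CochainComplex ℬ ℤ} (s' : Y' ⟶ Y₀) (b : ℤ) (hbY' : Y'.IsStrictlyLE b)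
  (hbY₀ : Y₀.IsStrictlyLE b)
  (hY' : ∀ i, P₀ (Y'.X i)) (hY₀ : ∀ i, P₀ (Y₀.X i))

include hiso hbiprod hY' hY₀ in
lemma P₀_mappingCone (i : ℤ) : P₀ ((CochainComplex.mappingCone s').X i) :=
  hiso (HomologicalComplex.homotopyCofiber.XIsoBiprod s' i (i + 1) rfl).symm
    (hbiprod (hY' (i + 1)) (hY₀ i))

include hbY' hbY₀ in
lemma isStrictlyLE_mappingCone : (CochainComplex.mappingCone s').IsStrictlyLE b := by
  rw [CochainComplex.isStrictlyLE_iff]
  intro i hi
  refine IsZero.of_iso ?_ (HomologicalComplex.homotopyCofiber.XIsoBiprod s' i (i + 1) rfl)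
  rw [IsZero.iff_id_eq_zero]
  apply biprod.hom_ext
  · exact (Y'.isZero_of_isStrictlyLE b (i + 1) (by omega)).eq_of_tgt _ _
  · exact (Y₀.isZero_of_isStrictlyLE b i hi).eq_of_tgt _ _

variable {N : CochainComplex ℬ ℤ} (hN : IsLocal P₀ N) [QuasiIso s']

include hiso hbiprod hY' hY₀ hN hbY' hbY₀ in
lemma hom_mappingCone_eq_zero
    (φ : (HomotopyCategory.quotient ℬ (ComplexShape.up ℤ)).obj (CochainComplex.mappingCone s') ⟶
      (HomotopyCategory.quotient ℬ (ComplexShape.up ℤ)).obj N) : φ = 0 := by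
  obtain ⟨φ₀, rfl⟩ := (HomotopyCategory.quotient ℬ (ComplexShape.up ℤ)).map_surjective φ
  obtain ⟨h⟩ := hN _ b (isStrictlyLE_mappingCone s' b hbY' hbY₀)
    ((quasiIso_iff_acyclic_mappingCone s').1 inferInstance)
    (P₀_mappingCone hiso hbiprod s' hY' hY₀) φ₀
  rw [HomotopyCategory.eq_of_homotopy _ _ h, Functor.map_zero]

include hiso hbiprod hY' hY₀ hN hbY' hbY₀ in
lemma hom_mappingCone_shift_eq_zero
    (φ : ((HomotopyCategory.quotient ℬ (ComplexShape.up ℤ)).obj
      (CochainComplex.mappingCone s'))⟦(-1 : ℤ)⟧ ⟶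
      (HomotopyCategory.quotient ℬ (ComplexShape.up ℤ)).obj N) : φ = 0 := by
  let e := ((HomotopyCategory.quotient ℬ (ComplexShape.up ℤ)).commShiftIso (-1 : ℤ)).app
    (CochainComplex.mappingCone s')
  rw [← cancel_epi e.hom, comp_zero]
  generalize e.hom ≫ φ = ψ
  change (HomotopyCategory.quotient ℬ (ComplexShape.up ℤ)).obj
    ((CochainComplex.mappingCone s')⟦(-1 : ℤ)⟧) ⟶ _ at ψ
  obtain ⟨φ₀, rfl⟩ := (HomotopyCategory.quotient ℬ (ComplexShape.up ℤ)).map_surjective ψ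
  have h1 : ((CochainComplex.mappingCone s')⟦(-1 : ℤ)⟧).IsStrictlyLE (b + 1) := by
    have := isStrictlyLE_mappingCone s' b hbY' hbY₀
    exact CochainComplex.isStrictlyLE_shift _ b (-1) (b + 1) (by omega)
  obtain ⟨h⟩ := hN _ (b + 1) h1
    (acyclic_shift _ ((quasiIso_iff_acyclic_mappingCone s').1 inferInstance) (-1))
    (fun i => P₀_mappingCone hiso hbiprod s' hY' hY₀ (i + -1)) φ₀
  rw [HomotopyCategory.eq_of_homotopy _ _ h, Functor.map_zero]

include hiso hbiprod hY' hY₀ hN hbY' hbY₀ in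
/-- uniqueness of extensions along `s'` -/
lemma nonempty_homotopy_zero_of_comp (γ : Y₀ ⟶ N) (h : Nonempty (Homotopy (s' ≫ γ) 0)) :
    Nonempty (Homotopy γ 0) := by
  obtain ⟨h⟩ := h
  have hT := HomotopyCategory.mappingCone_triangleh_distinguished s'
  have h0 : (CochainComplex.mappingCone.triangleh s').mor₁ ≫
      (HomotopyCategory.quotient ℬ (ComplexShape.up ℤ)).map γ = 0 := by
    change (HomotopyCategory.quotient ℬ (ComplexShape.up ℤ)).map s' ≫
      (HomotopyCategory.quotient ℬ (ComplexShape.up ℤ)).map γ = 0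
    rw [← Functor.map_comp, HomotopyCategory.eq_of_homotopy _ _ h, Functor.map_zero]
  obtain ⟨g, hg⟩ := Triangle.yoneda_exact₂ _ hT _ h0
  have hg0 : g = 0 := hom_mappingCone_eq_zero hiso hbiprod s' b hbY' hbY₀ hY' hY₀ hN g
  rw [hg0, comp_zero] at hg
  refine ⟨HomotopyCategory.homotopyOfEq _ _ ?_⟩
  rw [Functor.map_zero]
  exact hg

include hiso hbiprod hY' hY₀ hN hbY' hbY₀ in
/-- existence of extensions along `s'` -/
lemma exists_extension (γ' : Y' ⟶ N) : ∃ γ : Y₀ ⟶ N, Nonempty (Homotopy (s' ≫ γ) γ') := by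
  have hT := inv_rot_of_distTriang _ (HomotopyCategory.mappingCone_triangleh_distinguished s')
  have h0 : (CochainComplex.mappingCone.triangleh s').invRotate.mor₁ ≫
      (HomotopyCategory.quotient ℬ (ComplexShape.up ℤ)).map γ' = 0 :=
    hom_mappingCone_shift_eq_zero hiso hbiprod s' b hbY' hbY₀ hY' hY₀ hN _
  obtain ⟨g, hg⟩ := Triangle.yoneda_exact₂ _ hT _ h0
  change (HomotopyCategory.quotient ℬ (ComplexShape.up ℤ)).obj Y₀ ⟶ _ at g
  obtain ⟨γ, rfl⟩ := (HomotopyCategory.quotient ℬ (ComplexShape.up ℤ)).map_surjective g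
  refine ⟨γ, ⟨HomotopyCategory.homotopyOfEq _ _ ?_⟩⟩
  rw [Functor.map_comp]
  exact hg.symm

end Cone

section Main

variable [HasDerivedCategory.{w} ℬ] {P₀ : ℬ → Prop}
  (hzero : ∃ Z : ℬ, IsZero Z ∧ P₀ Z) (hepi : ∀ X : ℬ, ∃ (Y : ℬ) (π : Y ⟶ X), P₀ Y ∧ Epi π)
  (hiso : ∀ ⦃X Y : ℬ⦄, (X ≅ Y) → P₀ X → P₀ Y)
  (hbiprod : ∀ ⦃X Y : ℬ⦄, P₀ X → P₀ Y → P₀ (X ⊞ Y))
  {N : CochainComplex ℬ ℤ} (hN : IsLocal P₀ N)
  (Y₀ : CochainComplex ℬ ℤ) (b : ℤ) (hbY₀ : Y₀.IsStrictlyLE b) (hY₀ : ∀ i, P₀ (Y₀.X i))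

include hzero hepi hiso hbiprod hN hY₀ hbY₀ in
/-- every morphism `Y₀ ⟶ N` in the derived category comes from a morphism of complexes -/
theorem exists_Q_map_eq_of_isLocal (g : Q.obj Y₀ ⟶ Q.obj N) : ∃ γ : Y₀ ⟶ N, Q.map γ = g := by
  obtain ⟨X', hX', s, hs, γ₀, hg⟩ := right_fac_of_isStrictlyLE g b
  obtain ⟨Y', r, hY'b, hY', -, hr⟩ :=
    Groth.Agent.Lib.ClassResolution.exists_left_resolution hzero hepi X' b
  have hs' : QuasiIso s := by rwa [← isIso_Q_map_iff_quasiIso]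
  have : QuasiIso (r ≫ s) := quasiIso_comp r s
  obtain ⟨γ, ⟨h⟩⟩ := exists_extension hiso hbiprod (r ≫ s) b hY'b hbY₀ hY' hY₀ hN (r ≫ γ₀)
  refine ⟨γ, ?_⟩
  have h1 : Q.map ((r ≫ s) ≫ γ) = Q.map (r ≫ γ₀) := Q_map_eq_of_homotopy ℬ h
  have hr' : IsIso (Q.map r) := by rwa [isIso_Q_map_iff_quasiIso]
  rw [Functor.map_comp, Functor.map_comp, Functor.map_comp, Category.assoc,
    cancel_epi (Q.map r)] at h1
  rw [hg, ← h1, IsIso.inv_hom_id_assoc]

include hzero hepi hiso hbiprod hN hY₀ hbY₀ in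
/-- a morphism of complexes `Y₀ ⟶ N` which vanishes in the derived category is homotopic to `0` -/
theorem nonempty_homotopy_zero_of_isLocal (γ : Y₀ ⟶ N) (hγ : Q.map γ = 0) :
    Nonempty (Homotopy γ 0) := by
  have h1 : Qh.map ((HomotopyCategory.quotient ℬ (ComplexShape.up ℤ)).map γ) =
      Qh.map (0 : (HomotopyCategory.quotient ℬ (ComplexShape.up ℤ)).obj Y₀ ⟶
        (HomotopyCategory.quotient ℬ (ComplexShape.up ℤ)).obj N) := by
    rw [Functor.map_zero]
    exact hγ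
  rw [MorphismProperty.map_eq_iff_precomp Qh
    (HomotopyCategory.quasiIso ℬ (ComplexShape.up ℤ))] at h1
  obtain ⟨Z, s, hs, hs0⟩ := h1
  obtain ⟨X', rfl⟩ := HomotopyCategory.quotient_obj_surjective Z
  obtain ⟨s, rfl⟩ := (HomotopyCategory.quotient ℬ (ComplexShape.up ℤ)).map_surjective s
  rw [HomotopyCategory.quotient_map_mem_quasiIso_iff, HomologicalComplex.mem_quasiIso_iff] at hs
  rw [comp_zero] at hs0
  have hX' : ∀ n : ℤ, b < n → IsZero (X'.homology n) := by
    intro n hn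
    have : IsIso (HomologicalComplex.homologyMap s n) := inferInstance
    exact IsZero.of_iso (CochainComplex.isZero_of_isLE Y₀ b n hn)
      (asIso (HomologicalComplex.homologyMap s n))
  obtain ⟨Y', r, hY'b, hY', hr⟩ :=
    Groth.Agent.Lib.ClassResolution.exists_left_resolution_of_isLE hzero hepi X' b hX'
  have : QuasiIso (r ≫ s) := quasiIso_comp r s
  refine nonempty_homotopy_zero_of_comp hiso hbiprod (r ≫ s) b hY'b hbY₀ hY' hY₀ hN γ
    ⟨HomotopyCategory.homotopyOfEq _ _ ?_⟩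
  rw [Functor.map_comp, Functor.map_comp, Category.assoc, hs0, comp_zero, Functor.map_zero]

end Main

end Groth.Agent.PushLocalB31
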