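import Groth.Agent.Lib.LocGenRlim31
import Groth.Agent.Lib.LocGenEpi31
import Groth.Agent.Lib.PushLocalB31
import Groth.Agent.Lib.DProd31

/-!
# Local generators detect isomorphisms; products of local complexes (helper31)

In the setting of `LocGen31` (an abelian category `𝒜` over a site with local generators `Z V`):
* `Gen.isIso_of_forall_ZD` : a morphism `α` of `D(𝒜)` is an isomorphism as soon as
  `Hom(Z V, α[m])` is bijective for all `V`, `m`;
* `Gen.isIso_of_forall_test` : the same with the test objects `Q((Z V)[0][n])`;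
* `Gen.isIso_piLift_of_isLocal` : for complexes `M i` local with respect to a class `P₀` containing
  the generators, `Q(∏ M i)` is the product of the `Q(M i)` in `D(𝒜)`.
-/

set_option autoImplicit false
set_option linter.unusedSectionVars false

open CategoryTheory CategoryTheory.Limits Opposite DerivedCategory

universe w w' u

namespace Groth.Agent.LocGen31

open Groth.Agent.HomologySheafLocal31 Groth.Agent.PushLocalB31 Groth.Agent.DProd31

variable {C : Type u} [SmallCategory C] {J : GrothendieckTopology C}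
  {𝒜 : Type (u + 1)} [Category.{u} 𝒜] [Abelian 𝒜] [HasDerivedCategory.{w} 𝒜]
  {Γ : 𝒜 ⥤ Sheaf J AddCommGrpCat.{u}} [Γ.Additive] [PreservesFiniteLimits Γ]
  [PreservesFiniteColimits Γ] [Γ.Faithful] [EnoughInjectives 𝒜] (𝒢 : Gen Γ)

lemma covers_univ : Covers J (Set.univ : Set C) := by
  intro U
  refine ⟨PUnit.{u + 1}, fun _ => U, fun _ => 𝟙 U, ?_, fun _ => Set.mem_univ _⟩
  refine J.superset_covering ?_ (J.top_mem U)
  intro W g _
  exact ⟨U, g, 𝟙 U, ⟨PUnit.unit⟩, Category.comp_id g⟩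

namespace Gen

include 𝒢 in
/-- **the local generators detect isomorphisms in `D(𝒜)`** -/
theorem isIso_of_forall_ZD {X X' : DerivedCategory 𝒜} (α : X ⟶ X')
    (hinj : ∀ (V : C) (m : ℤ) (ξ : 𝒢.ZD V ⟶ (shiftFunctor _ m).obj X),
      ξ ≫ (shiftFunctor _ m).map α = 0 → ξ = 0)
    (hsurj : ∀ (V : C) (m : ℤ) (ξ : 𝒢.ZD V ⟶ (shiftFunctor _ m).obj X'),
      ∃ ζ : 𝒢.ZD V ⟶ (shiftFunctor _ m).obj X, ζ ≫ (shiftFunctor _ m).map α = ξ) : IsIso α := by
  rw [DerivedCategory.isIso_iff]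
  intro m
  have hmono : Mono ((homologyFunctor 𝒜 m).map α) := by
    apply Gen.mono_of_injective_on (Γ := Γ) covers_univ
    intro V _
    refine 𝒢.injective_of_local_shift α m V (fun T hT => ?_)
    obtain ⟨ι, Y, f, hf, hcov, -⟩ := exists_family_of_covers covers_univ V T hT
    exact ⟨ι, Y, f, hf, hcov, fun i ξ hξ => hinj (Y i) m ξ hξ⟩
  have hepi : Epi ((homologyFunctor 𝒜 m).map α) := by
    refine 𝒢.epi_of_local_shift α m covers_univ (fun V _ T hT => ?_)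
    obtain ⟨ι, Y, f, hf, hcov, -⟩ := exists_family_of_covers covers_univ V T hT
    exact ⟨ι, Y, f, hf, hcov, fun i ξ => hsurj (Y i) m ξ⟩
  exact isIso_of_mono_of_epi _

/-- the test complex `(Z V)[0][n]` -/
noncomputable abbrev test (V : C) (n : ℤ) : CochainComplex 𝒜 ℤ :=
  (shiftFunctor (CochainComplex 𝒜 ℤ) n).obj ((CochainComplex.singleFunctor 𝒜 0).obj (𝒢.Z V))

/-- `Q(test V n) ≅ (Z V)[0][n]` -/
noncomputable def testIso (V : C) (n : ℤ) :
    Q.obj (𝒢.test V n) ≅ (shiftFunctor (DerivedCategory 𝒜) n).obj (𝒢.ZD V) :=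
  (Q.commShiftIso n).app _ ≪≫ (shiftFunctor _ n).mapIso ((singleFunctorIsoCompQ 𝒜 0).app _).symm

include 𝒢 in
/-- the test complexes detect isomorphisms in `D(𝒜)` -/
theorem isIso_of_forall_test {X X' : DerivedCategory 𝒜} (α : X ⟶ X')
    (hinj : ∀ (V : C) (n : ℤ) (ξ : Q.obj (𝒢.test V n) ⟶ X), ξ ≫ α = 0 → ξ = 0)
    (hsurj : ∀ (V : C) (n : ℤ) (ξ : Q.obj (𝒢.test V n) ⟶ X'),
      ∃ ζ : Q.obj (𝒢.test V n) ⟶ X, ζ ≫ α = ξ) : IsIso α := by
  have adj : ∀ m : ℤ, shiftFunctor (DerivedCategory 𝒜) (-m) ⊣ shiftFunctor (DerivedCategory 𝒜) m :=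
    fun m => (shiftEquiv (DerivedCategory 𝒜) m).symm.toAdjunction
  refine 𝒢.isIso_of_forall_ZD α (fun V m ξ hξ => ?_) (fun V m ξ => ?_)
  · -- injectivity
    obtain ⟨ξ', rfl⟩ := ((adj m).homEquiv _ _).surjective ξ
    have h1 : (adj m).homEquiv _ _ (ξ' ≫ α) = 0 := by
      rw [(adj m).homEquiv_naturality_right]
      exact hξ
    have h2 : ξ' ≫ α = 0 := by
      apply ((adj m).homEquiv _ _).injective
      rw [h1]
      exact ((adj m).homAddEquiv_zero _ _).symm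
    have h3 : (𝒢.testIso V (-m)).hom ≫ ξ' = 0 :=
      hinj V (-m) _ (by rw [Category.assoc, h2, comp_zero])
    have h4 : ξ' = 0 := by
      rw [← cancel_epi (𝒢.testIso V (-m)).hom, h3, comp_zero]
    rw [h4]
    exact (adj m).homAddEquiv_zero _ _
  · -- surjectivity
    obtain ⟨ξ', rfl⟩ := ((adj m).homEquiv _ _).surjective ξ
    obtain ⟨ζ, hζ⟩ := hsurj V (-m) ((𝒢.testIso V (-m)).hom ≫ ξ')
    refine ⟨(adj m).homEquiv _ _ ((𝒢.testIso V (-m)).inv ≫ ζ), ?_⟩
    rw [← (adj m).homEquiv_naturality_right, Category.assoc, hζ, Iso.inv_hom_id_assoc]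

end Gen

section Product

variable {P₀ : 𝒜 → Prop} (hzero : ∃ Z : 𝒜, IsZero Z ∧ P₀ Z)
  (hepi : ∀ X : 𝒜, ∃ (Y : 𝒜) (π : Y ⟶ X), P₀ Y ∧ Epi π)
  (hiso : ∀ ⦃X Y : 𝒜⦄, (X ≅ Y) → P₀ X → P₀ Y)
  (hbiprod : ∀ ⦃X Y : 𝒜⦄, P₀ X → P₀ Y → P₀ (X ⊞ Y))
  (hZ : ∀ V : C, P₀ (𝒢.Z V))

include hzero hiso in
lemma P₀_of_isZero {Z : 𝒜} (hZ' : IsZero Z) : P₀ Z := by
  obtain ⟨Z₀, h₀, hP⟩ := hzero
  exact hiso (h₀.iso hZ') hP

include hzero hiso hZ in
lemma P₀_test (V : C) (n i : ℤ) : P₀ ((𝒢.test V n).X i) := by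
  change P₀ (((CochainComplex.singleFunctor 𝒜 0).obj (𝒢.Z V)).X (i + n))
  by_cases h : i + n = 0
  · rw [h]
    exact hiso (HomologicalComplex.singleObjXSelf (ComplexShape.up ℤ) 0 (𝒢.Z V)).symm (hZ V)
  · exact P₀_of_isZero hzero hiso (HomologicalComplex.isZero_single_obj_X _ _ _ _ h)

lemma isStrictlyLE_test (V : C) (n : ℤ) : (𝒢.test V n).IsStrictlyLE (-n) := by
  rw [CochainComplex.isStrictlyLE_iff]
  intro i hi
  change IsZero (((CochainComplex.singleFunctor 𝒜 0).obj (𝒢.Z V)).X (i + n))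
  exact HomologicalComplex.isZero_single_obj_X _ _ _ _ (by omega)

variable {ι : Type w'} (M : ι → CochainComplex 𝒜 ℤ) [∀ j : ℤ, HasProduct (fun i => (M i).X j)]

/-- a product of local complexes is local -/
lemma isLocal_prodCx (hM : ∀ i, IsLocal P₀ (M i)) : IsLocal P₀ (prodCx M) := by
  intro P b hb hP hP₀ φ
  exact ⟨prodHomotopy φ 0 (fun i =>
    ((hM i P b hb hP hP₀ (φ ≫ prodπ M i)).some).trans (Homotopy.ofEq zero_comp.symm))⟩

include 𝒢 hzero hepi hiso hbiprod hZ in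
/-- **`Q(∏ M i)` is the product of the `Q(M i)` for local complexes `M i`** -/
theorem isIso_piLift_of_isLocal [HasProduct fun i => (Q.obj (M i) : DerivedCategory 𝒜)]
    (hM : ∀ i, IsLocal P₀ (M i)) :
    IsIso (Pi.lift fun i => Q.map (prodπ M i) :
      Q.obj (prodCx M) ⟶ ∏ᶜ fun i => (Q.obj (M i) : DerivedCategory 𝒜)) := by
  have hMp := isLocal_prodCx M hM
  refine 𝒢.isIso_of_forall_test _ (fun V n ξ hξ => ?_) (fun V n ξ => ?_)
  · obtain ⟨γ, rfl⟩ := exists_Q_map_eq_of_isLocal hzero hepi hiso hbiprod hMp (𝒢.test V n) (-n)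
      (isStrictlyLE_test 𝒢 V n) (P₀_test 𝒢 hzero hiso hZ V n) ξ
    have h1 : ∀ i, Nonempty (Homotopy (γ ≫ prodπ M i) 0) := by
      intro i
      apply nonempty_homotopy_zero_of_isLocal hzero hepi hiso hbiprod (hM i) (𝒢.test V n) (-n)
        (isStrictlyLE_test 𝒢 V n) (P₀_test 𝒢 hzero hiso hZ V n)
      have := congrArg (fun f => f ≫ Pi.π _ i) hξ
      simp only [Category.assoc, Pi.lift_π, zero_comp] at this
      rw [Functor.map_comp]
      exact this
    have h2 : Homotopy γ 0 :=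
      prodHomotopy γ 0 (fun i => (h1 i).some.trans (Homotopy.ofEq zero_comp.symm))
    rw [Q_map_eq_of_homotopy 𝒜 h2, Functor.map_zero]
  · choose γ hγ using fun i =>
      exists_Q_map_eq_of_isLocal hzero hepi hiso hbiprod (hM i) (𝒢.test V n) (-n)
        (isStrictlyLE_test 𝒢 V n) (P₀_test 𝒢 hzero hiso hZ V n) (ξ ≫ Pi.π _ i)
    refine ⟨Q.map (prodLift γ), ?_⟩
    apply Pi.hom_ext
    intro i
    rw [Category.assoc, Pi.lift_π, ← Functor.map_comp, prodLift_π, hγ]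

end Product

end Groth.Agent.LocGen31
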