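import Mathlib.Algebra.Homology.DerivedCategory.Ext.ExactSequences
import Mathlib.Algebra.Homology.DerivedCategory.Ext.EnoughInjectives
import Mathlib.CategoryTheory.Preadditive.Injective.Basic

/-!
# Objects without higher `Ext` into a given object (helper31)

`NoExt M E` : `Ext^k(M, E) = 0` for all `k ≥ 1`.  Stability under isomorphisms, zero objects, binary
biproducts and (when there are enough injectives) arbitrary coproducts in the first variable
(`NoExt.sigma`, by dimension shifting in the second variable).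
-/

set_option autoImplicit false

open CategoryTheory CategoryTheory.Limits Abelian

universe w w' v u

namespace Groth.Agent.PushLocalD31

variable {ℬ : Type u} [Category.{v} ℬ] [Abelian ℬ] [HasExt.{w} ℬ]

/-- `Ext^k(M, E) = 0` for all `k ≥ 1` -/
def NoExt (M E : ℬ) : Prop := ∀ (k : ℕ) (x : Ext M E (k + 1)), x = 0

lemma NoExt.of_iso {M M' E : ℬ} (e : M ≅ M') (h : NoExt M E) : NoExt M' E := by
  intro k x
  have h1 : (Ext.mk₀ e.inv).comp ((Ext.mk₀ e.hom).comp x (zero_add _)) (zero_add _) = x := by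
    rw [Ext.mk₀_comp_mk₀_assoc, e.inv_hom_id, Ext.mk₀_id_comp]
  have h2 := h k ((Ext.mk₀ e.hom).comp x (zero_add _))
  rw [← h1, h2, Ext.comp_zero]

lemma NoExt.of_isZero {M : ℬ} (hM : IsZero M) (E : ℬ) : NoExt M E := by
  intro k x
  have h : (Ext.mk₀ (𝟙 M)).comp x (zero_add _) = x := Ext.mk₀_id_comp x
  rw [← h, hM.eq_of_src (𝟙 M) 0, Ext.mk₀_zero, Ext.zero_comp]

lemma NoExt.biprod {M₁ M₂ E : ℬ} (h₁ : NoExt M₁ E) (h₂ : NoExt M₂ E) : NoExt (M₁ ⊞ M₂) E := by
  intro k x
  apply Ext.biprodAddEquiv.injective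
  rw [map_zero]
  ext
  · exact h₁ k _
  · exact h₂ k _

section Sigma

variable [EnoughInjectives ℬ] {ι : Type w'} (M : ι → ℬ) [HasCoproduct M]

/-- the cosyzygy sequence `0 → E → J → C → 0` -/
noncomputable def cosyzSC (E : ℬ) : ShortComplex ℬ :=
  ShortComplex.mk (Injective.ι E) (cokernel.π (Injective.ι E)) (cokernel.condition _)

lemma cosyzSC_shortExact (E : ℬ) : (cosyzSC E).ShortExact where
  exact := ShortComplex.exact_cokernel _
  mono_f := inferInstanceAs (Mono (Injective.ι E))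
  epi_g := inferInstanceAs (Epi (cokernel.π (Injective.ι E)))

instance (E : ℬ) : Injective (cosyzSC E).X₂ := inferInstanceAs (Injective (Injective.under E))

lemma NoExt.cosyz {X E : ℬ} (h : NoExt X E) : NoExt X (cosyzSC E).X₃ := by
  intro k y
  have hS := cosyzSC_shortExact E
  obtain ⟨x₂, hx₂⟩ := Ext.covariant_sequence_exact₃ X hS y rfl (h (k + 1) _)
  rw [← hx₂, Ext.eq_zero_of_injective x₂, Ext.zero_comp]

/-- morphisms to the cosyzygy lift to the injective hull when `Ext¹` vanishes -/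
lemma NoExt.exists_lift {X E : ℬ} (h : NoExt X E) (t : X ⟶ (cosyzSC E).X₃) :
    ∃ t' : X ⟶ (cosyzSC E).X₂, t' ≫ (cosyzSC E).g = t := by
  have hS := cosyzSC_shortExact E
  obtain ⟨x₂, hx₂⟩ := Ext.covariant_sequence_exact₃ X hS (Ext.mk₀ t) rfl (h 0 _)
  obtain ⟨t', rfl⟩ := (Ext.mk₀_bijective _ _).2 x₂
  refine ⟨t', ?_⟩
  apply (Ext.mk₀_bijective _ _).1
  rw [← hx₂, Ext.mk₀_comp_mk₀]

/-- **coproducts of objects without higher `Ext` into `E`** -/
theorem NoExt.sigma : ∀ (k : ℕ) (E : ℬ), (∀ j, NoExt (M j) E) →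
    ∀ x : Ext (∐ M) E (k + 1), x = 0 := by
  intro k
  induction k with
  | zero =>
    intro E h x
    have hS := cosyzSC_shortExact E
    obtain ⟨x₃, hx₃⟩ := Ext.covariant_sequence_exact₁ (∐ M) hS x
      (Ext.eq_zero_of_injective _) (show 0 + 1 = 0 + 1 from rfl)
    obtain ⟨t, rfl⟩ := (Ext.mk₀_bijective _ _).2 x₃
    choose t' ht' using fun j => (h j).exists_lift (Sigma.ι M j ≫ t)
    have h1 : Sigma.desc t' ≫ (cosyzSC E).g = t := by
      apply Sigma.hom_ext
      intro j
      rw [Sigma.ι_desc_assoc, ht']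
    rw [← h1, ← Ext.mk₀_comp_mk₀, Ext.comp_assoc_of_second_deg_zero, hS.comp_extClass,
      Ext.comp_zero] at hx₃
    exact hx₃.symm
  | succ k ih =>
    intro E h x
    have hS := cosyzSC_shortExact E
    obtain ⟨x₃, hx₃⟩ := Ext.covariant_sequence_exact₁ (∐ M) hS x
      (Ext.eq_zero_of_injective _) (show k + 1 + 1 = k + 1 + 1 from rfl)
    have h3 := ih _ (fun j => (h j).cosyz) x₃
    rw [h3, Ext.zero_comp] at hx₃
    exact hx₃.symm

theorem NoExt.sigma' {E : ℬ} (h : ∀ j, NoExt (M j) E) : NoExt (∐ M) E :=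
  fun k x => NoExt.sigma M k E h x

end Sigma

end Groth.Agent.PushLocalD31
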