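import Groth.Agent.Lib.PushLocalA31
import Groth.Agent.Lib.PushLocalC31
import Groth.Agent.Lib.PushLocalD31
import Groth.Agent.Lib.ModGen31
import Groth.Agent.Lib.CechAcyc5
import Groth.Agent.Lib.ModSiteEnoughFlat
import Groth.Prelude.Def_SiteCmp

/-!
# `f_*` of a K-injective complex of modules is local; `Rf_*` and products (helper31)

For a morphism of ringed sites `f : (C, O_C) → (D, O_D)`:
* `P₀ f` : the class of `O_D`-modules `M` with `Ext^k(M, f_* W) = 0` for all `k ≥ 1` and all
  injective `O_C`-modules `W`; it contains the free modules `j_! O_V` (`P₀_freeOn`, because `f_* W` is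
  totally acyclic) and is stable under coproducts, so every module is a quotient of a member.
* `isLocal_push` : for a K-injective complex `I` of `O_C`-modules, `f_* I` is local with respect to
  bounded above acyclic complexes with terms in `P₀ f`.
* `isLimitFanQ_push` : for K-injective complexes `I n`, the image in `D(O_D)` of `f_* (∏ I n)` is the
  product of the images of the `f_* (I n)`.
-/

set_option autoImplicit false
set_option linter.unusedSectionVars false

open CategoryTheory CategoryTheory.Limits Opposite DerivedCategory Abelian ZeroObject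

universe w w' v v' u₁ u₂ u

namespace Groth.Agent.PushLocalE31

open Groth.Agent.DProd31 Groth.Agent.PushLocalB31 Groth.Agent.PushLocalD31

section MapProd

variable {A : Type u₁} [Category.{v} A] [Abelian A] {B : Type u₂} [Category.{v'} B] [Abelian B]
  (F : A ⥤ B) [F.Additive] {ι : Type w'} (I : ι → CochainComplex A ℤ)
  [∀ j : ℤ, HasProduct (fun i => (I i).X j)]
  [∀ j : ℤ, HasProduct (fun i => (((F.mapHomologicalComplex (ComplexShape.up ℤ)).obj (I i)).X j))]
  [∀ j : ℤ, PreservesLimit (Discrete.functor fun i => (I i).X j) F]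

instance hasProduct_map_X (j : ℤ) : HasProduct (fun i => F.obj ((I i).X j)) :=
  inferInstanceAs (HasProduct (fun i =>
    (((F.mapHomologicalComplex (ComplexShape.up ℤ)).obj (I i)).X j)))

/-- `F(∏ I i) ≅ ∏ F(I i)` for a functor commuting with products -/
noncomputable def mapProdCxIso :
    (F.mapHomologicalComplex (ComplexShape.up ℤ)).obj (prodCx I) ≅
      prodCx (fun i => (F.mapHomologicalComplex (ComplexShape.up ℤ)).obj (I i)) :=
  HomologicalComplex.Hom.isoOfComponents
    (fun j => PreservesProduct.iso F (fun i => (I i).X j))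
    (fun j k _ => by
      apply Pi.hom_ext
      intro i
      change ((PreservesProduct.iso F (fun i => (I i).X j)).hom ≫
          Limits.Pi.map (fun i => F.map ((I i).d j k))) ≫ Pi.π _ i =
        (F.map (Limits.Pi.map (fun i => (I i).d j k)) ≫
          (PreservesProduct.iso F (fun i => (I i).X k)).hom) ≫ Pi.π _ i
      rw [Category.assoc, Category.assoc, Limits.Pi.map_π, PreservesProduct.iso_hom,
        piComparison_comp_π_assoc, PreservesProduct.iso_hom, piComparison_comp_π, ← F.map_comp,
        ← F.map_comp, Limits.Pi.map_π])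

lemma mapProdCxIso_hom_π (i : ι) :
    (mapProdCxIso F I).hom ≫
        prodπ (fun i => (F.mapHomologicalComplex (ComplexShape.up ℤ)).obj (I i)) i =
      (F.mapHomologicalComplex (ComplexShape.up ℤ)).map (prodπ I i) := by
  ext j
  change (PreservesProduct.iso F (fun i => (I i).X j)).hom ≫ Pi.π _ i = F.map (Pi.π _ i)
  rw [PreservesProduct.iso_hom, piComparison_comp_π]

end MapProd

variable {C : Type u} [SmallCategory C] {J : GrothendieckTopology C} {O_C : Sheaf J CommRingCat.{u}}
  {D : Type u} [SmallCategory D] {K : GrothendieckTopology D} {O_D : Sheaf K CommRingCat.{u}}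
  (f : ModSite.RMor O_C O_D) [HasDerivedCategory.{w} (ModSite.Mod O_D)]

instance : HasExt.{w} (ModSite.Mod O_D) := hasExt_of_hasDerivedCategory _

/-- modules without higher `Ext` into `f_*` of injective modules -/
def P₀ : ModSite.Mod O_D → Prop :=
  fun M => ∀ W : ModSite.Mod O_C, Injective W → NoExt.{w} M (f.push.obj W)

lemma P₀_iso ⦃X Y : ModSite.Mod O_D⦄ (e : X ≅ Y) (h : P₀ f X) : P₀ f Y :=
  fun W hW => (h W hW).of_iso e

lemma P₀_biprod ⦃X Y : ModSite.Mod O_D⦄ (hX : P₀ f X) (hY : P₀ f Y) : P₀ f (X ⊞ Y) :=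
  fun W hW => (hX W hW).biprod (hY W hW)

lemma P₀_zero : ∃ Z : ModSite.Mod O_D, IsZero Z ∧ P₀ f Z :=
  ⟨0, isZero_zero _, fun _ _ => NoExt.of_isZero (isZero_zero _) _⟩

lemma P₀_freeOn (V : D) : P₀ f (ModSite.freeOn O_D V) := by
  intro W hW k x
  have h1 : CohCx.IsTotallyAcyclic ((Groth.Agent.ModGen31.Γ O_D).obj (f.push.obj W)) :=
    Groth.Agent.Lib.CechAcyc5.isTotallyAcyclic_push J K f.fn _
      (Groth.Agent.Lib.ModAcyc.isTotallyAcyclic_of_injective (ModSite.ringSh O_C) W)
  have h2 := Groth.Agent.S0864.result _ h1 V k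
  have := Groth.Agent.ModGen31.enoughInjectives O_D
  have h3 := (Groth.Agent.ModGen31.gen O_D).subsingleton_ext.{w}
    (Groth.Agent.ModGen31.hacyc O_D) V (f.push.obj W) (k + 1) h2
  exact h3.elim _ _

lemma P₀_epi (X : ModSite.Mod O_D) :
    ∃ (Y : ModSite.Mod O_D) (π : Y ⟶ X), P₀ f Y ∧ Epi π := by
  have := Groth.Agent.ModGen31.enoughInjectives O_D
  refine ⟨_, Groth.Agent.Lib.ModSiteFlat.freeCover O_D X, fun W hW => ?_, inferInstance⟩
  exact NoExt.sigma' _ (fun s => P₀_freeOn f s.1 W hW)

/-- **`f_* I` is local for K-injective `I`** -/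
theorem isLocal_push (I : CochainComplex (ModSite.Mod O_C) ℤ) [I.IsKInjective] :
    IsLocal (P₀ f) ((f.push.mapHomologicalComplex (ComplexShape.up ℤ)).obj I) := by
  intro P b hb hP hP₀ φ
  have := Groth.Agent.ModGen31.enoughInjectives O_C
  exact Groth.Agent.PushLocalA31.nonempty_homotopy_zero_of_ext_vanishing f.adj P b hP
    (fun W hW i k x => hP₀ i W hW k x) I φ

section Product

variable {ι : Type w'} (I : ι → CochainComplex (ModSite.Mod O_C) ℤ) [∀ i, (I i).IsKInjective]
  [∀ j : ℤ, HasProduct (fun i => (I i).X j)]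
  [∀ j : ℤ, HasProduct (fun i =>
    (((f.push.mapHomologicalComplex (ComplexShape.up ℤ)).obj (I i)).X j))]
  [∀ j : ℤ, PreservesLimit (Discrete.functor fun i => (I i).X j) f.push]
  [HasProduct fun i =>
    (Q.obj ((f.push.mapHomologicalComplex (ComplexShape.up ℤ)).obj (I i)) :
      DerivedCategory (ModSite.Mod O_D))]

/-- **the image of `f_*(∏ I i)` in `D(O_D)` is the product of the images of the `f_*(I i)`** -/
theorem isLimitFanQ_push :
    Nonempty (IsLimit (Fan.mk
      (Q.obj ((f.push.mapHomologicalComplex (ComplexShape.up ℤ)).obj (prodCx I)))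
      (fun i => Q.map ((f.push.mapHomologicalComplex (ComplexShape.up ℤ)).map (prodπ I i))) :
      Fan fun i => (Q.obj ((f.push.mapHomologicalComplex (ComplexShape.up ℤ)).obj (I i)) :
        DerivedCategory (ModSite.Mod O_D)))) := by
  have := Groth.Agent.ModGen31.enoughInjectives O_D
  let M := fun i => (f.push.mapHomologicalComplex (ComplexShape.up ℤ)).obj (I i)
  have hiso := Groth.Agent.LocGen31.isIso_piLift_of_isLocal (Groth.Agent.ModGen31.gen O_D)
    (P₀_zero f) (P₀_epi f) (P₀_iso f) (P₀_biprod f) (P₀_freeOn f) M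
    (fun i => isLocal_push f (I i))
  let α : Q.obj (prodCx M) ⟶ ∏ᶜ fun i => (Q.obj (M i) : DerivedCategory (ModSite.Mod O_D)) :=
    Pi.lift fun i => Q.map (prodπ M i)
  have : IsIso α := hiso
  let e : Q.obj ((f.push.mapHomologicalComplex (ComplexShape.up ℤ)).obj (prodCx I)) ≅
      ∏ᶜ fun i => (Q.obj (M i) : DerivedCategory (ModSite.Mod O_D)) :=
    Q.mapIso (mapProdCxIso f.push I) ≪≫ asIso α
  refine ⟨IsLimit.ofIsoLimit (limit.isLimit _) (Cone.ext e.symm ?_)⟩
  rintro ⟨i⟩
  change Pi.π _ i = e.inv ≫ Q.map ((f.push.mapHomologicalComplex (ComplexShape.up ℤ)).map (prodπ I i))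
  rw [← cancel_epi e.hom, Iso.hom_inv_id_assoc]
  change (Q.map (mapProdCxIso f.push I).hom ≫ α) ≫ Pi.π _ i = _
  rw [Category.assoc, Pi.lift_π, ← Functor.map_comp, mapProdCxIso_hom_π]

end Product

end Groth.Agent.PushLocalE31
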