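import Groth.Agent.Lib.PushStalk

/-!
# Stalks of a direct image along a closed map (helper85)

`exists_nontrivial_stalk_of_push`: for a closed map `f : X ⟶ Y` and `M : X.Modules`, if the stalk of
`f_* M` at `y` is nontrivial then some stalk `M_x` with `f x = y` is nontrivial.
-/

set_option autoImplicit false
universe u
open CategoryTheory AlgebraicGeometry TopologicalSpace Opposite

namespace Groth.Agent.Lib.PushStalkClosed85

open Groth.Agent.Lib.QCohStalk Groth.Agent.Lib.PushStalk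

variable {X Y : Scheme.{u}}

theorem subsingleton_stalk_push_of_isClosedMap (f : X ⟶ Y) (hcl : IsClosedMap f) (M : X.Modules)
    (y : Y) (h : ∀ x : X, f x = y → Subsingleton (M.presheaf.stalk x)) :
    Subsingleton (((Scheme.Modules.pushforward f).obj M).presheaf.stalk y) := by
  refine ⟨fun a b => ?_⟩
  suffices h0 : ∀ c : ((Scheme.Modules.pushforward f).obj M).presheaf.stalk y, c = 0 by
    rw [h0 a, h0 b]
  intro c
  obtain ⟨V, hyV, s, rfl⟩ :=
    TopCat.Presheaf.exists_germ_eq ((Scheme.Modules.pushforward f).obj M).presheaf c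
  let s' : Γ(M, f ⁻¹ᵁ V) := s
  -- the open set where `s'` vanishes
  let Wset : Set X := {x : X | ∃ hx : x ∈ f ⁻¹ᵁ V, M.presheaf.germ (f ⁻¹ᵁ V) x hx s' = 0}
  have hWopen : IsOpen Wset := by
    rw [isOpen_iff_forall_mem_open]
    rintro x ⟨hx, hx0⟩
    have hc' : M.presheaf.germ (f ⁻¹ᵁ V) x hx s' = M.presheaf.germ (f ⁻¹ᵁ V) x hx 0 := by
      rw [hx0, map_zero]
    obtain ⟨W, hxW, iU, iV, hW⟩ := TopCat.Presheaf.germ_eq M.presheaf x hx hx _ _ hc'
    rw [map_zero] at hW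
    refine ⟨W, ?_, W.isOpen, hxW⟩
    intro x' hx'
    refine ⟨iU.le hx', ?_⟩
    rw [← TopCat.Presheaf.germ_res_apply M.presheaf iU x' hx' s', hW, map_zero]
  let W : X.Opens := ⟨Wset, hWopen⟩
  have hWle : W ≤ f ⁻¹ᵁ V := fun x hx => hx.1
  have hsW : M.presheaf.map (homOfLE hWle).op s' = 0 := by
    refine TopCat.Presheaf.section_ext ⟨M.presheaf, M.isSheaf⟩ W _ _ ?_
    intro x hx
    obtain ⟨hx1, hx0⟩ := hx
    rw [map_zero]
    exact (TopCat.Presheaf.germ_res_apply M.presheaf (homOfLE hWle) x ⟨hx1, hx0⟩ s').trans hx0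
  let V₁ : Y.Opens := ⟨(f '' ((W : Set X)ᶜ))ᶜ, (hcl _ W.isOpen.isClosed_compl).isOpen_compl⟩
  have hyV₁ : y ∈ V₁ := by
    rintro ⟨x', hx', hfx'⟩
    apply hx'
    have hx'V : x' ∈ f ⁻¹ᵁ V := by
      change f x' ∈ V
      rw [hfx']; exact hyV
    have := h x' hfx'
    exact ⟨hx'V, Subsingleton.elim _ _⟩
  have hle2 : f ⁻¹ᵁ (V ⊓ V₁) ≤ W := by
    intro x hx
    by_contra hne
    exact hx.2 ⟨x, hne, rfl⟩
  rw [← TopCat.Presheaf.germ_res_apply ((Scheme.Modules.pushforward f).obj M).presheaf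
    (homOfLE (inf_le_left : V ⊓ V₁ ≤ V)) y ⟨hyV, hyV₁⟩ s]
  have h0 : ((Scheme.Modules.pushforward f).obj M).presheaf.map
      (homOfLE (inf_le_left : V ⊓ V₁ ≤ V)).op s = 0 := by
    change M.presheaf.map (homOfLE (show f ⁻¹ᵁ (V ⊓ V₁) ≤ f ⁻¹ᵁ V from fun y hy => hy.1)).op
      s' = 0
    have h1 : (homOfLE (show f ⁻¹ᵁ (V ⊓ V₁) ≤ f ⁻¹ᵁ V from fun y hy => hy.1)).op =
        (homOfLE hWle).op ≫ (homOfLE hle2).op := rfl
    rw [h1, M.presheaf.map_comp, ConcreteCategory.comp_apply, hsW, map_zero]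
  rw [h0, map_zero]

theorem exists_nontrivial_stalk_of_push (f : X ⟶ Y) (hcl : IsClosedMap f) (M : X.Modules)
    (y : Y) (h : Nontrivial (((Scheme.Modules.pushforward f).obj M).presheaf.stalk y)) :
    ∃ x : X, f x = y ∧ Nontrivial (M.presheaf.stalk x) := by
  by_contra hne
  have := subsingleton_stalk_push_of_isClosedMap f hcl M y (fun x hx => by
    by_contra hns
    exact hne ⟨x, hx, not_subsingleton_iff_nontrivial.mp hns⟩)
  exact not_subsingleton _ this

end Groth.Agent.Lib.PushStalkClosed85
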