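import Groth.Agent.Lib.RHZExt
import Groth.Agent.Lib.RightDerivedPostComp

/-!
# Sections with support and direct images

`Γ_{Y'}(Y, f_* F) = Γ_{f⁻¹Y'}(X, F)` naturally in `F`, hence
`R^n(f_* ⋙ Γ_{Y'}(Y, -)) ≅ R^n Γ_{f⁻¹Y'}(X, -)`.
-/

set_option autoImplicit false

universe u

open CategoryTheory CategoryTheory.Limits TopologicalSpace Opposite

namespace Groth.Agent.Lib.PushSupp

open Groth.Agent.Lib.RHZExt

variable {X Y : TopCat.{u}} (f : X ⟶ Y) (V : Opens Y)

/-- `Γ_{Y'}(Y, f_* F) ⟶ Γ(X, F)` -/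
noncomputable def cHom (F : CohTop.Ab X) :
    ((CohTop.push f ⋙ LocCohZ.gammaZF V).obj F : AddCommGrpCat.{u}) →+
      ((Γtop X).obj F : AddCommGrpCat.{u}) :=
  bHom V ((CohTop.push f).obj F)

lemma cHom_injective (F : CohTop.Ab X) : Function.Injective (cHom f V F) :=
  bHom_injective V ((CohTop.push f).obj F)

lemma cHom_range (F : CohTop.Ab X) :
    (cHom f V F).range = LocCohZ.sectZ F (le_top : (Opens.map f).obj V ≤ ⊤) :=
  bHom_range V ((CohTop.push f).obj F)

lemma cHom_natural {F G : CohTop.Ab X} (φ : F ⟶ G)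
    (t : ((CohTop.push f ⋙ LocCohZ.gammaZF V).obj F : AddCommGrpCat.{u})) :
    cHom f V G ((CohTop.push f ⋙ LocCohZ.gammaZF V).map φ t) = (Γtop X).map φ (cHom f V F t) :=
  bHom_natural V ((CohTop.push f).map φ) t

theorem nonempty_push_gammaZF_iso :
    Nonempty (CohTop.push f ⋙ LocCohZ.gammaZF V ≅ LocCohZ.gammaZF ((Opens.map f).obj V)) :=
  nonempty_iso_of_range_eq _ _ (Γtop X) (cHom f V) (bHom ((Opens.map f).obj V))
    (cHom_injective f V) (bHom_injective _)
    (fun F => (cHom_range f V F).trans (bHom_range _ F).symm)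
    (fun φ x => cHom_natural f V φ x) (fun φ x => bHom_natural _ φ x)

end Groth.Agent.Lib.PushSupp
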