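import Mathlib

/-!
# A quasi-affine scheme locally of finite type over `S` immerses into affine space over `S` (helper52)

`exists_immersion π : ∃ n (i : X ⟶ 𝔸(ULift (Fin n); S)), IsImmersion i ∧ i ≫ 𝔸 ↘ S = π`.
Also `exists_finset_closure_eq_top` (finite generation of a localisation `A_f` over `R` by
images of finitely many elements of `A` and `1/f`), `EOpen`, `isImmersion_restrict`.
-/

set_option autoImplicit false
set_option linter.style.haveILetI false
universe u
open CategoryTheory AlgebraicGeometry Limits Opposite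

namespace Groth.Agent.Lib.QAffImmH52

variable {X S : Scheme.{u}} {n : Type u}

/-- The open of affine space. -/
noncomputable def EOpen (S : Scheme.{u}) {n : Type u} (k : n) (V : S.Opens) : (𝔸(n; S)).Opens :=
  (𝔸(n; S)).basicOpen (AffineSpace.coord S k) ⊓ (𝔸(n; S) ↘ S) ⁻¹ᵁ V

theorem isAffineOpen_EOpen (k : n) (V : S.Opens) (hV : IsAffineOpen V) :
    IsAffineOpen (EOpen S k V) := by
  have h1 : IsAffineOpen ((𝔸(n; S) ↘ S) ⁻¹ᵁ V) := hV.preimage _
  have h2 := h1.basicOpen ((𝔸(n; S)).presheaf.map (homOfLE le_top).op (AffineSpace.coord S k))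
  rw [Scheme.basicOpen_res] at h2
  unfold EOpen
  rw [inf_comm]
  exact h2

theorem preimage_EOpen (i : X ⟶ 𝔸(n; S)) (k : n) (V : S.Opens) :
    i ⁻¹ᵁ EOpen S k V = X.basicOpen (i.appTop (AffineSpace.coord S k)) ⊓ (i ≫ 𝔸(n; S) ↘ S) ⁻¹ᵁ V := by
  unfold EOpen
  rw [Scheme.Hom.comp_preimage, ← Scheme.preimage_basicOpen_top]
  rfl

end Groth.Agent.Lib.QAffImmH52

namespace Groth.Agent.Lib.QAffImmH52

variable {X S : Scheme.{u}} {n : Type u}

theorem surjective_appLE (i : X ⟶ 𝔸(n; S)) (k : n) (V : S.Opens)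
    (U : X.Opens)
    (hle : U ≤ (i ≫ 𝔸(n; S) ↘ S) ⁻¹ᵁ V) (e : U ≤ i ⁻¹ᵁ EOpen S k V)
    (u : Γ(X, U))
    (hu : (X.presheaf.map (homOfLE le_top : U ⟶ ⊤).op).hom (i.appTop (AffineSpace.coord S k)) * u = 1)
    (hgen : Subring.closure (Set.range ((i ≫ 𝔸(n; S) ↘ S).appLE V U hle).hom ∪
      Set.range (fun k' : n => (X.presheaf.map (homOfLE le_top : U ⟶ ⊤).op).hom
        (i.appTop (AffineSpace.coord S k'))) ∪ {u}) = ⊤) :
    Function.Surjective (i.appLE (EOpen S k V) U e).hom := by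
  rw [← RingHom.range_eq_top, eq_top_iff, ← hgen]
  apply Subring.closure_le.mpr
  -- restriction of coordinates
  have hb : ∀ k' : n, (X.presheaf.map (homOfLE le_top : U ⟶ ⊤).op).hom
      (i.appTop (AffineSpace.coord S k')) =
      (i.appLE (EOpen S k V) U e).hom (((𝔸(n; S)).presheaf.map
        (homOfLE le_top : EOpen S k V ⟶ ⊤).op).hom (AffineSpace.coord S k')) := by
    intro k'
    have := Scheme.Hom.map_appLE i e (homOfLE le_top : EOpen S k V ⟶ ⊤).op
    exact (congrArg (fun φ => φ.hom (AffineSpace.coord S k')) this).symm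
  rintro b ((hb1 | hb2) | hb3)
  · obtain ⟨s, rfl⟩ := hb1
    refine ⟨((𝔸(n; S) ↘ S).appLE V (EOpen S k V) inf_le_right).hom s, ?_⟩
    exact congrArg (fun φ => φ.hom s)
      (Scheme.Hom.appLE_comp_appLE i (𝔸(n; S) ↘ S) V (EOpen S k V) U inf_le_right e)
  · obtain ⟨k', rfl⟩ := hb2
    exact ⟨_, (hb k').symm⟩
  · rw [Set.mem_singleton_iff] at hb3
    subst hb3
    -- the coordinate is a unit on E
    have hunit : IsUnit (((𝔸(n; S)).presheaf.map (homOfLE le_top : EOpen S k V ⟶ ⊤).op).hom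
        (AffineSpace.coord S k)) := by
      have h1 := RingedSpace.isUnit_res_basicOpen (𝔸(n; S)).toRingedSpace (AffineSpace.coord S k)
      have h2 : EOpen S k V ≤ (𝔸(n; S)).basicOpen (AffineSpace.coord S k) := inf_le_left
      have h3 := h1.map ((𝔸(n; S)).presheaf.map (homOfLE h2).op).hom
      have hcomp : (𝔸(n; S)).presheaf.map
          (homOfLE (le_top : (𝔸(n; S)).basicOpen (AffineSpace.coord S k) ≤ ⊤)).op ≫
          (𝔸(n; S)).presheaf.map (homOfLE h2).op =
          (𝔸(n; S)).presheaf.map (homOfLE le_top : EOpen S k V ⟶ ⊤).op := by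
        rw [← Functor.map_comp]; rfl
      have h3' : IsUnit (((𝔸(n; S)).presheaf.map
          (homOfLE (le_top : (𝔸(n; S)).basicOpen (AffineSpace.coord S k) ≤ ⊤)).op ≫
          (𝔸(n; S)).presheaf.map (homOfLE h2).op).hom (AffineSpace.coord S k)) := h3
      rwa [hcomp] at h3'
    obtain ⟨w, hw⟩ := hunit
    refine ⟨(↑w⁻¹ : Γ(𝔸(n; S), EOpen S k V)), ?_⟩
    have h4 : (i.appLE (EOpen S k V) U e).hom (↑w * ↑w⁻¹) = 1 := by
      rw [Units.mul_inv, map_one]
    rw [map_mul, hw, ← hb k] at h4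
    -- uniqueness of inverses
    calc (i.appLE (EOpen S k V) U e).hom ↑w⁻¹
        = ((X.presheaf.map (homOfLE le_top : U ⟶ ⊤).op).hom
            (i.appTop (AffineSpace.coord S k)) * b) *
            (i.appLE (EOpen S k V) U e).hom ↑w⁻¹ := by rw [hu, one_mul]
      _ = b * ((X.presheaf.map (homOfLE le_top : U ⟶ ⊤).op).hom
            (i.appTop (AffineSpace.coord S k)) *
            (i.appLE (EOpen S k V) U e).hom ↑w⁻¹) := by ring
      _ = b := by rw [h4, mul_one]

end Groth.Agent.Lib.QAffImmH52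

namespace Groth.Agent.Lib.QAffImmH52

variable {X S : Scheme.{u}} {n : Type u}

theorem isImmersion_restrict (i : X ⟶ 𝔸(n; S)) (k : n) (V : S.Opens) (hV : IsAffineOpen V)
    (hUaff : IsAffineOpen (X.basicOpen (i.appTop (AffineSpace.coord S k))))
    (hle : X.basicOpen (i.appTop (AffineSpace.coord S k)) ≤ (i ≫ 𝔸(n; S) ↘ S) ⁻¹ᵁ V)
    (u : Γ(X, X.basicOpen (i.appTop (AffineSpace.coord S k))))
    (hu : (X.presheaf.map (homOfLE le_top :
      X.basicOpen (i.appTop (AffineSpace.coord S k)) ⟶ ⊤).op).hom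
        (i.appTop (AffineSpace.coord S k)) * u = 1)
    (hgen : Subring.closure (Set.range ((i ≫ 𝔸(n; S) ↘ S).appLE V _ hle).hom ∪
      Set.range (fun k' : n => (X.presheaf.map (homOfLE le_top :
        X.basicOpen (i.appTop (AffineSpace.coord S k)) ⟶ ⊤).op).hom
        (i.appTop (AffineSpace.coord S k'))) ∪ {u}) = ⊤) :
    IsImmersion ((i ⁻¹ᵁ EOpen S k V).ι ≫ i) := by
  have hEU : i ⁻¹ᵁ EOpen S k V = X.basicOpen (i.appTop (AffineSpace.coord S k)) := by
    rw [preimage_EOpen]; exact inf_eq_left.mpr hle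
  rw [hEU]
  have e : X.basicOpen (i.appTop (AffineSpace.coord S k)) ≤ i ⁻¹ᵁ EOpen S k V := hEU.ge
  rw [← Scheme.Hom.resLE_comp_ι i e]
  haveI : IsAffine (X.basicOpen (i.appTop (AffineSpace.coord S k))).toScheme := hUaff
  haveI : IsAffine (EOpen S k V).toScheme := isAffineOpen_EOpen k V hV
  haveI : IsClosedImmersion (i.resLE (EOpen S k V) _ e) := by
    apply IsClosedImmersion.of_surjective_of_isAffine
    have hs := surjective_appLE i k V _ hle e u hu hgen
    change Function.Surjective ((i.resLE (EOpen S k V) _ e).app ⊤).hom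
    rw [Scheme.Hom.resLE_app_top]
    have hA : Function.Surjective (EOpen S k V).topIso.hom.hom :=
      (ConcreteCategory.bijective_of_isIso _).2
    have hC : Function.Surjective
        (X.basicOpen (i.appTop (AffineSpace.coord S k))).topIso.inv.hom :=
      (ConcreteCategory.bijective_of_isIso _).2
    exact hC.comp (hs.comp hA)
  infer_instance

end Groth.Agent.Lib.QAffImmH52

namespace Groth.Agent.Lib.QAffImmH52

theorem exists_finset_closure_eq_top {R A B : Type*} [CommRing R] [CommRing A] [CommRing B]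
    (φ : R →+* B) (hφ : φ.FiniteType) (ρ : A →+* B) (f : A)
    (hloc : ∀ b : B, ∃ (n : ℕ) (a : A), b * ρ f ^ n = ρ a) (u : B) (hu : ρ f * u = 1) :
    ∃ T : Finset A, Subring.closure (Set.range φ ∪ ρ '' (T : Set A) ∪ {u}) = ⊤ := by
  classical
  let _ := φ.toAlgebra
  obtain ⟨G, hG⟩ := (hφ : Algebra.FiniteType R B).out
  choose n a hna using hloc
  refine ⟨G.image a, ?_⟩
  rw [eq_top_iff]
  have h1 : (Algebra.adjoin R (G : Set B)).toSubring = ⊤ := by rw [hG]; rfl
  rw [← h1, Algebra.adjoin_eq_ring_closure]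
  apply Subring.closure_le.mpr
  rintro b (hb | hb)
  · exact Subring.subset_closure (Or.inl (Or.inl hb))
  · have e : b = ρ (a b) * u ^ (n b) := by
      rw [← hna b, mul_assoc, ← mul_pow, hu, one_pow, mul_one]
    rw [e]
    have m1 : ρ (a b) ∈ Subring.closure (Set.range φ ∪ ρ '' ((G.image a : Finset A) : Set A) ∪ {u}) := by
      apply Subring.subset_closure
      refine Or.inl (Or.inr ⟨a b, ?_, rfl⟩)
      exact Finset.mem_coe.mpr (Finset.mem_image_of_mem a hb)
    have m2 : u ∈ Subring.closure (Set.range φ ∪ ρ '' ((G.image a : Finset A) : Set A) ∪ {u}) := by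
      apply Subring.subset_closure
      exact Or.inr rfl
    exact mul_mem m1 (pow_mem m2 _)


variable {X S : Scheme.{u}} {n : Type u}

theorem isImmersion_restrict' (i : X ⟶ 𝔸(n; S)) (π : X ⟶ S) (hπ : i ≫ 𝔸(n; S) ↘ S = π) (k : n)
    (r : Γ(X, ⊤)) (hr : i.appTop (AffineSpace.coord S k) = r)
    (V : S.Opens) (hV : IsAffineOpen V)
    (hUaff : IsAffineOpen (X.basicOpen r))
    (hle : X.basicOpen r ≤ π ⁻¹ᵁ V)
    (u : Γ(X, X.basicOpen r))
    (hu : (X.presheaf.map (homOfLE le_top : X.basicOpen r ⟶ ⊤).op).hom r * u = 1)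
    (hgen : Subring.closure (Set.range (π.appLE V _ hle).hom ∪
      Set.range (fun k' : n => (X.presheaf.map (homOfLE le_top : X.basicOpen r ⟶ ⊤).op).hom
        (i.appTop (AffineSpace.coord S k'))) ∪ {u}) = ⊤) :
    IsImmersion ((i ⁻¹ᵁ EOpen S k V).ι ≫ i) := by
  subst hr hπ
  exact isImmersion_restrict i k V hV hUaff hle u hu hgen

theorem exists_local (π : X ⟶ S) [X.IsQuasiAffine] (x : X) :
    ∃ (V : S.Opens) (r : Γ(X, ⊤)), IsAffineOpen V ∧ IsAffineOpen (X.basicOpen r) ∧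
      x ∈ X.basicOpen r ∧ X.basicOpen r ≤ π ⁻¹ᵁ V := by
  obtain ⟨V, hV, hxV, -⟩ := TopologicalSpace.Opens.isBasis_iff_nbhd.mp
    (Scheme.isBasis_affineOpens S) (show π x ∈ (⊤ : S.Opens) from trivial)
  obtain ⟨U', ⟨r, hr, rfl⟩, hxU', hle⟩ := TopologicalSpace.Opens.isBasis_iff_nbhd.mp
    (Scheme.IsQuasiAffine.isBasis_basicOpen X) (show x ∈ π ⁻¹ᵁ V from hxV)
  exact ⟨V, r, hV, hr, hxU', hle⟩

theorem exists_gens (π : X ⟶ S) [LocallyOfFiniteType π] [X.IsQuasiAffine]
    (V : S.Opens) (r : Γ(X, ⊤)) (hV : IsAffineOpen V) (hr : IsAffineOpen (X.basicOpen r))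
    (hle : X.basicOpen r ≤ π ⁻¹ᵁ V) :
    ∃ (T : Finset Γ(X, ⊤)) (u : Γ(X, X.basicOpen r)),
      (X.presheaf.map (homOfLE le_top : X.basicOpen r ⟶ ⊤).op).hom r * u = 1 ∧
      Subring.closure (Set.range (π.appLE V _ hle).hom ∪
        (X.presheaf.map (homOfLE le_top : X.basicOpen r ⟶ ⊤).op).hom '' (T : Set Γ(X, ⊤)) ∪ {u}) = ⊤ := by
  have hunit := RingedSpace.isUnit_res_basicOpen X.toRingedSpace r
  obtain ⟨u, hu⟩ := isUnit_iff_exists_inv.mp hunit
  have hloc : ∀ b : Γ(X, X.basicOpen r), ∃ (m : ℕ) (a : Γ(X, ⊤)),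
      b * (X.presheaf.map (homOfLE le_top : X.basicOpen r ⟶ ⊤).op).hom r ^ m =
        (X.presheaf.map (homOfLE le_top : X.basicOpen r ⟶ ⊤).op).hom a := by
    intro b
    obtain ⟨m, y, hy⟩ := exists_eq_pow_mul_of_isCompact_of_isQuasiSeparated X ⊤ isCompact_univ
      isQuasiSeparated_univ r b
    refine ⟨m, y, ?_⟩
    rw [mul_comm]
    exact hy.symm
  obtain ⟨T, hT⟩ := exists_finset_closure_eq_top (π.appLE V _ hle).hom
    (π.finiteType_appLE hV hr hle)
    (X.presheaf.map (homOfLE le_top : X.basicOpen r ⟶ ⊤).op).hom r hloc u hu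
  exact ⟨T, u, hu, hT⟩

end Groth.Agent.Lib.QAffImmH52

namespace Groth.Agent.Lib.QAffImmH52

variable {X S : Scheme.{u}}

theorem exists_immersion (π : X ⟶ S) [LocallyOfFiniteType π] [X.IsQuasiAffine] :
    ∃ (n : ℕ) (i : X ⟶ 𝔸(ULift.{u} (Fin n); S)),
      IsImmersion i ∧ i ≫ (𝔸(ULift.{u} (Fin n); S) ↘ S) = π := by
  classical
  choose V r hV hr hxr hle using exists_local π
  obtain ⟨t, ht⟩ := isCompact_univ.elim_finite_subcover (fun x : X => ((X.basicOpen (r x)) : Set X))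
    (fun x => (X.basicOpen (r x)).2) (fun x _ => Set.mem_iUnion.mpr ⟨x, hxr x⟩)
  choose T u hu hT using fun x : X => exists_gens π (V x) (r x) (hV x) (hr x) (hle x)
  let T' : Finset Γ(X, ⊤) := t.image r ∪ t.biUnion T
  let n := T'.card
  let v : ULift.{u} (Fin n) → Γ(X, ⊤) := fun k => (T'.equivFin.symm k.down).1
  have hv : ∀ a ∈ T', ∃ k, v k = a := by
    intro a ha
    refine ⟨⟨T'.equivFin ⟨a, ha⟩⟩, ?_⟩
    simp only [v, Equiv.symm_apply_apply]
  let i : X ⟶ 𝔸(ULift.{u} (Fin n); S) := AffineSpace.homOfVector π v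
  have hi : i ≫ (𝔸(ULift.{u} (Fin n); S) ↘ S) = π := AffineSpace.homOfVector_over π v
  have hcoord : ∀ k, i.appTop (AffineSpace.coord S k) = v k :=
    fun k => AffineSpace.homOfVector_appTop_coord π v k
  refine ⟨n, i, ?_, hi⟩
  haveI : MorphismProperty.RespectsRight @IsImmersion @IsOpenImmersion :=
    ⟨fun g hg f hf => by
      haveI : IsOpenImmersion g := hg
      haveI : IsImmersion f := hf
      change IsImmersion (f ≫ g)
      infer_instance⟩
  haveI : MorphismProperty.HasOfPostcompProperty @IsImmersion @IsOpenImmersion :=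
    ⟨fun f g _ hfg => by
      haveI : IsImmersion (f ≫ g) := hfg
      exact IsImmersion.of_comp f g⟩
  refine IsZariskiLocalAtTarget.of_forall_source_exists_preimage i fun x0 => ?_
  obtain ⟨x, hx⟩ := Set.mem_iUnion.mp (ht (Set.mem_univ x0))
  obtain ⟨hxt, hx0⟩ := Set.mem_iUnion.mp hx
  obtain ⟨k, hk⟩ := hv (r x) (Finset.mem_union_left _ (Finset.mem_image_of_mem r hxt))
  have hkr : i.appTop (AffineSpace.coord S k) = r x := (hcoord k).trans hk
  refine ⟨EOpen S k (V x), ?_, ?_⟩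
  · change x0 ∈ i ⁻¹ᵁ EOpen S k (V x)
    rw [preimage_EOpen, hkr, hi]
    exact ⟨hx0, hle x hx0⟩
  · refine isImmersion_restrict' i π hi k (r x) hkr (V x) (hV x) (hr x) (hle x) (u x) (hu x) ?_
    rw [eq_top_iff, ← hT x]
    apply Subring.closure_mono
    apply Set.union_subset_union_left
    apply Set.union_subset_union_right
    rintro _ ⟨a, ha, rfl⟩
    obtain ⟨k', hk'⟩ := hv a (Finset.mem_union_right _ (Finset.mem_biUnion.mpr ⟨x, hxt, ha⟩))
    exact ⟨k', by beta_reduce; rw [hcoord k', hk']⟩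

end Groth.Agent.Lib.QAffImmH52
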