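import Groth.Agent.Lib.SheafDescRep46
import Groth.Agent.Lib.EffDescFamQAffH52
import Groth.Agent.Lib.H69DescentAffine2
import Groth.Agent.Lib.H86ZarGlueRep
import Groth.Agent.S1127
import Groth.Prelude.Def_AlgSp3

/-!
# Quasi-affine morphisms of sheaves descend along fppf covers (helper46)

* `qA_of_isQuasiAffine_of_isAffine`: a morphism from a quasi-affine scheme to an affine scheme is quasi-affine.
* `quasiAffine_descent`: effective fppf descent for quasi-affine schemes over an affine base, sheaf form.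
* `isQuasiAffineMor_of_fppf_cover`: if the base change of `f : F ⟶ G` along a representable fppf cover
  `c : h_V ⟶ G` is quasi-affine, then `f` is quasi-affine (and representable).
-/

set_option autoImplicit false
universe u

open CategoryTheory CategoryTheory.Limits AlgebraicGeometry Opposite

namespace Groth.Agent.Lib.QAffRep46

open AlgSp Desc Groth.Agent.Lib.H69AlgSp Groth.Agent.Lib.SheafDescRep46

variable {S : Scheme.{u}}

/-- A morphism from a quasi-affine scheme to an affine scheme is a quasi-affine morphism. -/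
theorem qA_of_isQuasiAffine_of_isAffine {X Y : Scheme.{u}} (f : X ⟶ Y) [X.IsQuasiAffine] [IsAffine Y] :
    Mor2.IsQuasiAffine f := by
  have hqc : QuasiCompact f := by
    rw [HasAffineProperty.iff_of_isAffine (P := @QuasiCompact)]
    infer_instance
  refine ⟨hqc, fun V hV => ?_⟩
  haveI : IsAffine (V : Scheme.{u}) := hV
  haveI : IsAffineHom V.ι := inferInstance
  haveI : IsAffineHom (f ⁻¹ᵁ V).ι :=
    MorphismProperty.of_isPullback (P := @IsAffineHom) (isPullback_morphismRestrict f V) inferInstance
  exact Scheme.IsQuasiAffine.of_isAffineHom (f ⁻¹ᵁ V).ι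

/-- **Effective fppf descent for quasi-affine schemes.** `Z`, `Z'` affine schemes over `S`, `W'` quasi-affine,
`p : Z' ⟶ Z` an fppf cover, `F` an fppf sheaf over `h_Z` with `F ×_{h_Z} h_{Z'} = h_{W'}`. Then `F ≅ h_W` over
`h_Z` with `W` quasi-affine. -/
theorem quasiAffine_descent {Z Z' W' : Over S} [IsAffine Z.left] [IsAffine Z'.left]
    (hW' : W'.left.IsQuasiAffine)
    (p : Z' ⟶ Z) [Flat p.left] [LocallyOfFinitePresentation p.left] [Surjective p.left]
    (w' : W' ⟶ Z') {F : Sp S} (a : F ⟶ (yon S).obj Z) (fst : (yon S).obj W' ⟶ F)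
    (sq : IsPullback fst ((yon S).map w') a ((yon S).map p)) :
    ∃ (W : Over S) (i : W ⟶ Z) (e : (yon S).obj W ≅ F), W.left.IsQuasiAffine ∧
      e.hom ≫ a = (yon S).map i := by
  have hqa : Mor2.IsQuasiAffine w'.left := qA_of_isQuasiAffine_of_isAffine w'.left
  haveI : QuasiCompact p.left := inferInstance
  obtain ⟨U, ⟨Ψ⟩⟩ := Groth.Agent.Lib.EffDescFamH52.exists_iso_of_isQuasiAffineHom p.left (descDatum sq) hqa
  obtain ⟨θ, hθ⟩ := exists_iso_of_effective sq U Ψ
  refine ⟨Over.mk (U.hom ≫ Z.hom), Over.homMk U.hom rfl, θ, ?_, hθ⟩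
  have hU : Mor2.IsQuasiAffine U.hom := by
    have hpb : IsPullback (pullback.fst p.left U.hom) (pullback.snd p.left U.hom) p.left U.hom :=
      IsPullback.of_hasPullback p.left U.hom
    have h1 : Mor2.IsQuasiAffine (pullback.fst p.left U.hom) := by
      have hw : Ψ.hom.hom.left ≫ w'.left = pullback.fst p.left U.hom := Over.w Ψ.hom.hom
      have hiso : IsIso Ψ.hom.hom.left := by
        refine ⟨Ψ.inv.hom.left, ?_, ?_⟩
        · exact congrArg (fun k => k.hom.left) Ψ.hom_inv_id
        · exact congrArg (fun k => k.hom.left) Ψ.inv_hom_id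
      rw [← hw]
      exact (MorphismProperty.cancel_left_of_respectsIso
        (Groth.Agent.Lib.QAffLocalH52.qA) Ψ.hom.hom.left w'.left).2 hqa
    exact (Groth.Agent.S1127.result).of_isPullback hpb ⟨⟨inferInstance, inferInstance⟩, inferInstance⟩ h1
  exact Groth.Agent.Lib.EffDescFamH52.isQuasiAffine_of_isQuasiAffineHom U.hom hU

open Groth.Agent.Lib.H69DescentAffine in
/-- **Quasi-affine morphisms descend along fppf covers (effective descent).** If the base change of `f : F ⟶ G`
along a representable flat, locally finitely presented, surjective `c : h_V ⟶ G` is quasi-affine, then `f` is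
quasi-affine. -/
theorem isQuasiAffineMor_of_fppf_cover {F G : Sp S} (f : F ⟶ G) {V : Over S} (c : (yon S).obj V ⟶ G)
    (hc1 : RepWith @Flat c) (hc2 : RepWith @LocallyOfFinitePresentation c) (hc3 : RepWith @Surjective c)
    {P : Sp S} (fst : P ⟶ F) (snd : P ⟶ (yon S).obj V) (sq : IsPullback fst snd f c)
    (h : IsQuasiAffineMor snd) : IsQuasiAffineMor f := by
  intro Z hZ g
  have hrep : Representable c := hc1.rep
  let Z₁ : Over S := hrep.pullback g
  let c₁ : Z₁ ⟶ Z := hrep.snd g
  let g₁ : (yon S).obj Z₁ ⟶ (yon S).obj V := hrep.fst g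
  have sq₁ : IsPullback g₁ ((yon S).map c₁) c g := hrep.isPullback g
  have hc₁1 : Flat c₁.left := hc1.property_snd g
  have hc₁2 : LocallyOfFinitePresentation c₁.left := hc2.property_snd g
  have hc₁3 : Surjective c₁.left := hc3.property_snd g
  haveI : IsAffine Z.left := hZ
  obtain ⟨Z'', hZ'', q, hq1, hq2, hq3⟩ := exists_affine_refinement_fppf c₁.left
  let Z' : Over S := Over.mk (q ≫ Z₁.hom)
  let qO : Z' ⟶ Z₁ := Over.homMk q rfl
  let p : Z' ⟶ Z := qO ≫ c₁
  have hp1 : Flat p.left := hq1
  have hp2 : LocallyOfFinitePresentation p.left := hq2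
  have hp3 : Surjective p.left := hq3
  haveI : IsAffine Z'.left := hZ''
  obtain ⟨W', i', fst', sq', hW'⟩ := h (Z := Z') hZ'' ((yon S).map qO ≫ g₁)
  have hg' : ((yon S).map qO ≫ g₁) ≫ c = (yon S).map p ≫ g := by
    rw [Category.assoc, sq₁.w, ← Category.assoc, ← Functor.map_comp]
  have outer : IsPullback (fst' ≫ fst) ((yon S).map i') f ((yon S).map p ≫ g) := by
    rw [← hg']
    exact sq'.paste_horiz sq
  let k : (yon S).obj W' ⟶ pullback f g := pullback.lift (fst' ≫ fst) ((yon S).map i' ≫ (yon S).map p)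
    (by rw [outer.w, Category.assoc])
  have hk1 : k ≫ pullback.fst f g = fst' ≫ fst := pullback.lift_fst _ _ _
  have hk2 : k ≫ pullback.snd f g = (yon S).map i' ≫ (yon S).map p := pullback.lift_snd _ _ _
  have left : IsPullback k ((yon S).map i') (pullback.snd f g) ((yon S).map p) := by
    refine IsPullback.of_right ?_ hk2 (IsPullback.of_hasPullback f g)
    rw [hk1]
    exact outer
  obtain ⟨W, i, e, hW, he⟩ := quasiAffine_descent hW' p i' (pullback.snd f g) k left
  refine ⟨W, i, e.hom ≫ pullback.fst f g, ?_, hW⟩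
  refine IsPullback.of_iso (IsPullback.of_hasPullback f g) e.symm (Iso.refl _) (Iso.refl _) (Iso.refl _)
    ?_ ?_ ?_ ?_
  · simp
  · simp [← he]
  · simp
  · simp

/-- A quasi-affine morphism of sheaves is representable. -/
theorem representable_of_isQuasiAffineMor {F G : Sp S} (f : F ⟶ G) (h : IsQuasiAffineMor f) :
    Representable f :=
  Groth.Agent.Lib.H86ZarGlue.representable_of_forall_affine f fun Z hZ g => by
    obtain ⟨W, i, fst, hpb, -⟩ := h hZ g
    exact ⟨W, i, fst, hpb⟩

end Groth.Agent.Lib.QAffRep46
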