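import Groth.Agent.Lib.H78AmpleLocal
import Groth.Agent.Lib.Conormal81C
import Groth.Agent.Lib.ParaFact82b
import Groth.Agent.Lib.CartExt82c
import Mathlib.RingTheory.Ideal.AssociatedPrime.Localization
import Mathlib.RingTheory.Ideal.AssociatedPrime.Finiteness

set_option autoImplicit false
universe u
open CategoryTheory CategoryTheory.Limits AlgebraicGeometry TopologicalSpace Opposite

/-!
# helper82: sections of invertible modules on quasi-affine schemes generating at finitely many points;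
regular sections on Noetherian schemes (namespace `Groth.Agent.Lib.QAffSec82`)

* `genLocus_smul`: `X_{fσ} = D(f) ∩ X_σ`.
* `exists_sec_quasiAffine`: on a quasi-affine scheme an invertible module has a global section generating
  it at every point of a given finite set.
* `assPts Y`: the points `y` with `𝔪_y ∈ Ass(O_y)`; `finite_assPts` (Noetherian), and
  `mono_ofSection_of_assPts_le`: a section generating at all associated points is regular.
-/

namespace Groth.Agent.Lib.QAffSec82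

open Groth.Agent.Lib.H90Invertible Groth.Agent.Lib.StructureModule Groth.Agent.Lib.H78TensorGen
  Groth.Agent.Lib.H78SecCoord Groth.Agent.Lib.H78Atlas Groth.Agent.Lib.H78AtlasOps
  Groth.Agent.Lib.H78QAffine Groth.Agent.Lib.H78KeyLemma Groth.Agent.Lib.H78SecAdd
  Groth.Agent.Lib.H78AmpleLocal Groth.Agent.Lib.H78AmpleBasis

variable {Y : Scheme.{u}} {P : Y.Modules}

/-- the generating locus of `f • σ` is `D(f) ∩ X_σ` -/
theorem genLocus_smul (hP : PicF.IsInvertible P) (f : Γ(Y, ⊤)) (σ : Γ(P, ⊤)) :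
    CohB1.genLocus P (ofSection (f • σ)) = Y.basicOpen f ⊓ CohB1.genLocus P (ofSection σ) := by
  obtain ⟨V, hxV, -, ⟨A⟩⟩ := exists_atlas hP
  refine opens_eq_of_cover (iSup_eq_top_of_mem hxV) (fun i => ?_)
  rw [A.genLocus_inf, co_smul, Scheme.basicOpen_mul, inf_assoc, A.genLocus_inf, basicOpen_rf]
  apply le_antisymm
  · exact le_inf (inf_le_left.trans inf_le_right) inf_le_right
  · exact le_inf (le_inf (inf_le_right.trans (Y.basicOpen_le _)) inf_le_left) inf_le_right

/-- on a quasi-affine scheme, an invertible module has a global section generating it at every point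
of a given finite set -/
theorem exists_sec_quasiAffine [Y.IsQuasiAffine] (hP : PicF.IsInvertible P) :
    ∀ (k : ℕ) (Z : Finset Y), Z.card = k →
      ∃ σ : Γ(P, ⊤), (Z : Set Y) ⊆ CohB1.genLocus P (ofSection σ) := by
  classical
  intro k
  induction k with
  | zero =>
    intro Z hZ
    rw [Finset.card_eq_zero] at hZ
    subst hZ
    exact ⟨0, by simp⟩
  | succ k ih =>
    intro Z hZ
    have hne : Z.Nonempty := by
      rw [← Finset.card_pos, hZ]; exact Nat.succ_pos k
    obtain ⟨z, hzZ, hzmax⟩ := Finset.exists_maximalFor (fun y : Y => closure ({y} : Set Y)) Z hne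
    have hgen : ∀ y ∈ Z, y ⤳ z → y = z := by
      intro y hy hyz
      have h1 : closure ({z} : Set Y) ⊆ closure {y} := specializes_iff_closure_subset.1 hyz
      have h2 : closure ({y} : Set Y) ⊆ closure {z} := hzmax hy h1
      exact (hyz.antisymm (specializes_iff_closure_subset.2 h2)).eq
    obtain ⟨σ, hσ⟩ := ih (Z.erase z) (by rw [Finset.card_erase_of_mem hzZ, hZ]; rfl)
    by_cases hz : z ∈ CohB1.genLocus P (ofSection σ)
    · refine ⟨σ, fun y hy => ?_⟩
      by_cases hyz : y = z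
      · rw [hyz]; exact hz
      · exact hσ (Finset.mem_coe.2 (Finset.mem_erase.2 ⟨hyz, hy⟩))
    · have hC : IsClosed (⋃ y ∈ Z.erase z, closure ({y} : Set Y)) :=
        Set.Finite.isClosed_biUnion (Z.erase z).finite_toSet (fun _ _ => isClosed_closure)
      have hzC : z ∈ (⟨(⋃ y ∈ Z.erase z, closure ({y} : Set Y))ᶜ, hC.isOpen_compl⟩ : Y.Opens) := by
        intro hmem
        obtain ⟨y, hy⟩ := Set.mem_iUnion.1 hmem
        obtain ⟨hy1, hy2⟩ := Set.mem_iUnion.1 hy
        have hyz : y ⤳ z := specializes_iff_mem_closure.2 hy2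
        have := hgen y (Finset.mem_of_mem_erase hy1) hyz
        exact (Finset.ne_of_mem_erase hy1) this
      obtain ⟨_, ⟨f, -, rfl⟩, hzf, hfC⟩ := Opens.isBasis_iff_nbhd.1
        (Scheme.IsQuasiAffine.isBasis_basicOpen Y) hzC
      obtain ⟨V₀, hzV₀, e, he⟩ := (isInvertible_iff_exists_isGen P).1 hP z
      obtain ⟨_, ⟨r, -, rfl⟩, hzr, hrV⟩ := Opens.isBasis_iff_nbhd.1
        (Scheme.IsQuasiAffine.isBasis_basicOpen Y) hzV₀
      obtain ⟨t, ht⟩ := exists_sec_genLocus_eq hP r (rs P hrV e) (he.mono hrV)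
      refine ⟨f • t + σ, fun y hy => ?_⟩
      by_cases hyz : y = z
      · rw [hyz]
        refine mem_genLocus_add hP _ _ ?_ hz
        rw [genLocus_smul hP, ht]
        exact ⟨hzf, hzr⟩
      · have hy' : y ∈ Z.erase z := Finset.mem_erase.2 ⟨hyz, hy⟩
        rw [add_comm]
        refine mem_genLocus_add hP _ _ (hσ (Finset.mem_coe.2 hy')) ?_
        rw [genLocus_smul hP]
        intro hmem
        have h3 := hfC hmem.1
        apply h3
        exact Set.mem_iUnion.2 ⟨y, Set.mem_iUnion.2 ⟨hy', subset_closure rfl⟩⟩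

/-- the associated points of (the structure sheaf of) a scheme -/
def assPts (Y : Scheme.{u}) : Set Y :=
  {y | IsAssociatedPrime (IsLocalRing.maximalIdeal (Y.presheaf.stalk y)) (Y.presheaf.stalk y)}

theorem fromSpec_mem_assPts {W : Y.Opens} (hW : IsAffineOpen W) (q : PrimeSpectrum Γ(Y, W))
    (hq : IsAssociatedPrime q.asIdeal Γ(Y, W)) : hW.fromSpec q ∈ assPts Y := by
  have hyW : hW.fromSpec q ∈ W := Groth.Agent.Lib.CartExt82.fromSpec_mem' hW q
  have hpq : hW.primeIdealOf ⟨hW.fromSpec q, hyW⟩ = q :=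
    Groth.Agent.Lib.CartExt82.primeIdealOf_fromSpec' hW q
  let := TopCat.Presheaf.algebra_section_stalk Y.presheaf (⟨hW.fromSpec q, hyW⟩ : W)
  have hloc : IsLocalization.AtPrime (Y.presheaf.stalk (hW.fromSpec q))
      (hW.primeIdealOf ⟨hW.fromSpec q, hyW⟩).asIdeal := hW.isLocalization_stalk ⟨_, hyW⟩
  rw [hpq] at hloc
  change _ ∈ associatedPrimes _ _
  apply Module.associatedPrimes.mem_associatedPrimes_of_comap_mem_associatedPrimes_of_isLocalizedModule
    q.asIdeal.primeCompl (Algebra.linearMap Γ(Y, W) (Y.presheaf.stalk (hW.fromSpec q)))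
  have e : Ideal.comap (algebraMap Γ(Y, W) (Y.presheaf.stalk (hW.fromSpec q)))
      (IsLocalRing.maximalIdeal (Y.presheaf.stalk (hW.fromSpec q))) = q.asIdeal :=
    IsLocalization.AtPrime.under_maximalIdeal (Y.presheaf.stalk (hW.fromSpec q)) q.asIdeal
  rw [e]
  exact hq

theorem isAssociatedPrime_of_mem_assPts [IsLocallyNoetherian Y] {W : Y.Opens} (hW : IsAffineOpen W)
    (y : Y) (hyW : y ∈ W) (hy : y ∈ assPts Y) :
    IsAssociatedPrime (hW.primeIdealOf ⟨y, hyW⟩).asIdeal Γ(Y, W) := by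
  have hN : IsNoetherianRing Γ(Y, W) := IsLocallyNoetherian.component_noetherian ⟨W, hW⟩
  let := TopCat.Presheaf.algebra_section_stalk Y.presheaf (⟨y, hyW⟩ : W)
  have hloc : IsLocalization.AtPrime (Y.presheaf.stalk y) (hW.primeIdealOf ⟨y, hyW⟩).asIdeal :=
    hW.isLocalization_stalk ⟨_, hyW⟩
  have h1 := Module.associatedPrimes.comap_mem_associatedPrimes_of_mem_associatedPrimes_of_isLocalizedModule_of_fg
    (hW.primeIdealOf ⟨y, hyW⟩).asIdeal.primeCompl
    (Algebra.linearMap Γ(Y, W) (Y.presheaf.stalk y))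
    (IsLocalRing.maximalIdeal (Y.presheaf.stalk y)) hy
    ((isNoetherianRing_iff_ideal_fg _).mp hN _)
  have e : Ideal.comap (algebraMap Γ(Y, W) (Y.presheaf.stalk y))
      (IsLocalRing.maximalIdeal (Y.presheaf.stalk y)) = (hW.primeIdealOf ⟨y, hyW⟩).asIdeal :=
    IsLocalization.AtPrime.under_maximalIdeal (Y.presheaf.stalk y)
      (hW.primeIdealOf ⟨y, hyW⟩).asIdeal
  rwa [e] at h1

theorem finite_assPts_inter [IsLocallyNoetherian Y] {W : Y.Opens} (hW : IsAffineOpen W) :
    (assPts Y ∩ (W : Set Y)).Finite := by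
  classical
  have hN : IsNoetherianRing Γ(Y, W) := IsLocallyNoetherian.component_noetherian ⟨W, hW⟩
  let f : Y → Ideal Γ(Y, W) := fun y =>
    if h : y ∈ W then (hW.primeIdealOf ⟨y, h⟩).asIdeal else ⊤
  refine Set.Finite.of_finite_image (f := f) ?_ ?_
  · refine (associatedPrimes.finite Γ(Y, W) Γ(Y, W)).subset ?_
    rintro _ ⟨y, ⟨hy, hyW⟩, rfl⟩
    have : f y = (hW.primeIdealOf ⟨y, hyW⟩).asIdeal := dif_pos hyW
    rw [this]
    exact isAssociatedPrime_of_mem_assPts hW y hyW hy
  · rintro y ⟨-, hyW⟩ y' ⟨-, hy'W⟩ h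
    have h1 : f y = (hW.primeIdealOf ⟨y, hyW⟩).asIdeal := dif_pos hyW
    have h2 : f y' = (hW.primeIdealOf ⟨y', hy'W⟩).asIdeal := dif_pos hy'W
    rw [h1, h2] at h
    have h3 : hW.primeIdealOf ⟨y, hyW⟩ = hW.primeIdealOf ⟨y', hy'W⟩ := PrimeSpectrum.ext h
    have h4 := congrArg hW.fromSpec h3
    rwa [hW.fromSpec_primeIdealOf, hW.fromSpec_primeIdealOf] at h4

theorem finite_assPts [IsLocallyNoetherian Y] [CompactSpace Y] : (assPts Y).Finite := by
  have key : ∀ y : Y, ∃ W : Y.Opens, IsAffineOpen W ∧ y ∈ W := fun y => by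
    obtain ⟨W, hW, hyW, -⟩ := exists_isAffineOpen_mem_and_subset (U := ⊤) (x := y) (by simp)
    exact ⟨W, hW, hyW⟩
  choose W hW hyW using key
  obtain ⟨t, ht⟩ := CompactSpace.elim_nhds_subcover (fun y => (W y : Set Y))
    (fun y => (W y).2.mem_nhds (hyW y))
  refine (Set.Finite.biUnion t.finite_toSet
    (fun y _ => finite_assPts_inter (hW y))).subset ?_
  intro z hz
  have hzt : z ∈ ⋃ y ∈ t, (W y : Set Y) := by rw [ht]; trivial
  obtain ⟨y, hy⟩ := Set.mem_iUnion.1 hzt
  obtain ⟨hyt, hzy⟩ := Set.mem_iUnion.1 hy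
  exact Set.mem_iUnion.2 ⟨y, Set.mem_iUnion.2 ⟨hyt, hz, hzy⟩⟩

/-- a section of an invertible module generating at all associated points is regular -/
theorem mono_ofSection_of_assPts_le [IsLocallyNoetherian Y] (hP : PicF.IsInvertible P) (σ : Γ(P, ⊤))
    (h : assPts Y ⊆ CohB1.genLocus P (ofSection σ)) : Mono (ofSection σ) := by
  let ι' := {W : Y.Opens // IsAffineOpen W ∧ ∃ e : Γ(P, W), IsGen P W e}
  refine Groth.Agent.Lib.Conormal81.mono_of_injective_on_basis (ofSection σ)
    (fun W : ι' => W.1) ?_ ?_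
  · intro O z hzO
    obtain ⟨V₀, hzV₀, e, he⟩ := (isInvertible_iff_exists_isGen P).1 hP z
    obtain ⟨W, hW, hzW, hle⟩ := exists_isAffineOpen_mem_and_subset (U := O ⊓ V₀) (x := z)
      ⟨hzO, hzV₀⟩
    exact ⟨⟨W, hW, _, he.mono (hle.trans inf_le_right)⟩, hzW, hle.trans inf_le_left⟩
  · rintro ⟨W, hW, e, he⟩
    have hN : IsNoetherianRing Γ(Y, W) := IsLocallyNoetherian.component_noetherian ⟨W, hW⟩
    rw [injective_iff_map_eq_zero]
    intro x hx
    obtain ⟨a, rfl⟩ := (toSec_bijective W).2 x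
    rw [ofSection_app] at hx
    obtain ⟨c, hc⟩ : ∃ c, c = coord he le_rfl (rs P le_top σ) := ⟨_, rfl⟩
    have hσW : rs P (le_top : W ≤ ⊤) σ = c • e := by
      have := coord_spec he le_rfl (rs P le_top σ)
      rw [rs_self] at this
      rw [hc, this]
    have hac : a * c = 0 := by
      have h1 : (a * c) • rs P (le_refl W) e = (0 : Γ(Y, W)) • rs P (le_refl W) e := by
        rw [rs_self, mul_smul, zero_smul, ← hσW]
        exact hx
      exact (he W le_rfl).1 h1
    by_contra ha
    have ha' : a ≠ 0 := fun h0 => ha (by rw [h0]; rfl)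
    obtain ⟨Q, hQass, hQ⟩ := exists_le_isAssociatedPrime_of_isNoetherianRing Γ(Y, W) a ha'
    have hcQ : c ∈ Q := by
      apply hQ
      rw [Submodule.mem_colon_singleton, Submodule.mem_bot, smul_eq_mul, mul_comm]
      exact hac
    have hQp : Q.IsPrime := hQass.isPrime
    let q : PrimeSpectrum Γ(Y, W) := ⟨Q, hQp⟩
    have hyW : hW.fromSpec q ∈ W := Groth.Agent.Lib.CartExt82.fromSpec_mem' hW q
    have hy : hW.fromSpec q ∈ CohB1.genLocus P (ofSection σ) :=
      h (fromSpec_mem_assPts hW q hQass)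
    have h2 : hW.fromSpec q ∈ CohB1.genLocus P (ofSection σ) ⊓ W := ⟨hy, hyW⟩
    rw [genLocus_inf_eq he, sec_ofSection, ← hc,
      Groth.Agent.Lib.ParaFact82.mem_basicOpen_iff_notMem_primeIdealOf hW _ _ hyW,
      Groth.Agent.Lib.CartExt82.primeIdealOf_fromSpec' hW q] at h2
    exact h2 hcQ

end Groth.Agent.Lib.QAffSec82
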