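import Groth.Prelude.Def_RelSpec
import Groth.Agent.Lib.QCAlgAffine

/-!
# Quasi-coherent algebras from coequifibered data on the affine opens (helper28)

For a functor `F : S.AffineZariskiSiteᵒᵖ ⥤ CommRingCat` with a structure map `α` from the structure sheaf which is
coequifibered (`F(D(r)) = F(U)[1/r]`), Mathlib's relative gluing gives an affine morphism `π : V ⟶ S`; its direct image
algebra `alg H : RelSpec.QCAlg S` has sections `F(U)` over the affine opens `U`, naturally (`gammaAff`, an isomorphism
compatible with restriction to basic opens and with the structure maps).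
-/

set_option autoImplicit false
universe u

open CategoryTheory CategoryTheory.Limits AlgebraicGeometry TopologicalSpace Opposite

noncomputable section

namespace Groth.Agent.Lib.QCAlgOfAffine

variable {S : Scheme.{u}} {F : S.AffineZariskiSiteᵒᵖ ⥤ CommRingCat.{u}}
  {α : (Scheme.AffineZariskiSite.toOpensFunctor S).op ⋙ S.presheaf ⟶ F} (H : α.Coequifibered)

/-- The relative gluing datum. -/
def glueData : (Scheme.AffineZariskiSite.directedCover S).RelativeGluingData :=
  Scheme.AffineZariskiSite.relativeGluingData H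

instance : ((glueData H).functor ⋙ Scheme.forget).IsLocallyDirected :=
  Scheme.Cover.RelativeGluingData.instIsLocallyDirectedI₀CompFunctorForgetOfIsThin ..

/-- The glued scheme. -/
def total : Scheme.{u} := (glueData H).glued

/-- The structure morphism. -/
def π : total H ⟶ S := (glueData H).toBase

/-- An affine open as an object of the affine Zariski site. -/
def mk (U : S.Opens) (hU : IsAffineOpen U) : S.AffineZariskiSite := ⟨U, hU⟩

@[simp] theorem mk_toOpens (U : S.Opens) (hU : IsAffineOpen U) : (mk U hU).toOpens = U := rfl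

variable (U : S.Opens) (hU : IsAffineOpen U)

/-- The chart over the affine open `U`. -/
def ι : Spec (F.obj (op (mk U hU))) ⟶ total H := (glueData H).cover.f (mk U hU)

instance : IsOpenImmersion (ι H U hU) := (glueData H).cover.map_prop _

theorem ι_π : ι H U hU ≫ π H = Spec.map (α.app (op (mk U hU))) ≫ hU.fromSpec :=
  colimit.ι_desc _ _

theorem π_preimage : π H ⁻¹ᵁ U = (ι H U hU).opensRange := by
  simpa using! (glueData H).toBase_preimage_eq_opensRange_ι (mk U hU)

theorem top_le_preimage :
    (⊤ : (Spec (F.obj (op (mk U hU)))).Opens) ≤ ι H U hU ⁻¹ᵁ (π H ⁻¹ᵁ U) := by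
  rw [← Scheme.Hom.comp_preimage, ι_π, Scheme.Hom.comp_preimage]
  intro x _
  have h : hU.fromSpec ⁻¹ᵁ U = ⊤ := hU.fromSpec_preimage_self
  exact h.ge (Set.mem_univ ((Spec.map (α.app (op (mk U hU)))).base x))

instance isAffineHom_π : IsAffineHom (π H) where
  isAffine_preimage U hU := by
    rw [π_preimage H U hU]
    exact isAffineOpen_opensRange (ι H U hU)

/-- The quasi-coherent algebra with sections `F(U)` over affine opens. -/
def alg : RelSpec.QCAlg S := RelSpec.QCAlg.directImage (π H)

/-- Over an affine open `U`: the identification of `(alg H)(U)` with `F(U)`. -/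
def gammaAff : (alg H).presheaf.obj (op U) ⟶ F.obj (op (mk U hU)) :=
  (ι H U hU).appLE (π H ⁻¹ᵁ U) ⊤ (top_le_preimage H U hU) ≫ (Scheme.ΓSpecIso (F.obj (op (mk U hU)))).hom

set_option backward.isDefEq.respectTransparency false in
theorem isIso_gammaAff : IsIso (gammaAff H U hU) := by
  unfold gammaAff
  have h1 : IsIso ((ι H U hU).app (π H ⁻¹ᵁ U)) :=
    Scheme.Hom.isIso_app (ι H U hU) _ (π_preimage H U hU).le
  have h2 : IsIso (homOfLE (top_le_preimage H U hU)) :=
    ⟨⟨homOfLE le_top, Subsingleton.elim _ _, Subsingleton.elim _ _⟩⟩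
  have h3 : IsIso ((ι H U hU).appLE (π H ⁻¹ᵁ U) ⊤ (top_le_preimage H U hU)) := by
    rw [Scheme.Hom.appLE]
    infer_instance
  infer_instance

theorem ι_res {U V : S.AffineZariskiSite} (i : V ⟶ U) :
    Spec.map (F.map i.op) ≫ ι H U.1 U.2 = ι H V.1 V.2 :=
  colimit.w (glueData H).functor i


set_option backward.isDefEq.respectTransparency false in
/-- Naturality of `gammaAff` for the morphisms of the affine Zariski site (inclusions of basic opens). -/
theorem gammaAff_naturality {U V : S.AffineZariskiSite} (i : V ⟶ U) :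
    (alg H).presheaf.map (homOfLE (Scheme.AffineZariskiSite.toOpens_mono i.le)).op ≫ gammaAff H V.1 V.2 =
      gammaAff H U.1 U.2 ≫ F.map i.op := by
  change (total H).presheaf.map (homOfLE ((π H).preimage_mono (Scheme.AffineZariskiSite.toOpens_mono i.le))).op ≫
      gammaAff H V.1 V.2 = gammaAff H U.1 U.2 ≫ F.map i.op
  simp only [gammaAff, Category.assoc, ← Scheme.ΓSpecIso_naturality]
  simp only [← Category.assoc]
  congr 1
  simp only [Scheme.Hom.appTop, Scheme.Hom.appLE, Category.assoc]
  have h1 := (Scheme.Hom.comp_app (Spec.map (F.map i.op)) (ι H U.1 U.2) (π H ⁻¹ᵁ U.1)).symm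
  rw [Scheme.Hom.naturality_assoc, Scheme.Hom.naturality, reassoc_of% h1,
    Scheme.Hom.congr_app (ι_res H i), Category.assoc, ← Functor.map_comp, ← Functor.map_comp]
  rfl

set_option backward.isDefEq.respectTransparency false in
/-- Over an affine open, `gammaAff` is compatible with the structure maps. -/
theorem str_gammaAff : (alg H).str.app (op U) ≫ gammaAff H U hU = α.app (op (mk U hU)) := by
  change (π H).app U ≫ gammaAff H U hU = α.app (op (mk U hU))
  have h1 := Scheme.Hom.congr_app (ι_π H U hU) U
  have h2 := (Scheme.Hom.comp_app (ι H U hU) (π H) U).symm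
  have hk : ∀ k : (op ⊤ : (Spec (F.obj (op (mk U hU)))).Opensᵒᵖ) ⟶ op ⊤,
      (Spec (F.obj (op (mk U hU)))).presheaf.map k = 𝟙 _ := fun k => by
    rw [Subsingleton.elim k (𝟙 _)]; exact CategoryTheory.Functor.map_id _ _
  simp only [gammaAff, Scheme.Hom.appLE, Category.assoc]
  rw [reassoc_of% h2, h1, Scheme.Hom.comp_app, hU.fromSpec_app_self]
  simp only [Category.assoc]
  rw [Scheme.Hom.naturality_assoc]
  simp only [← Functor.map_comp_assoc]
  erw [hk, Category.id_comp]
  rw [← cancel_epi (Scheme.ΓSpecIso Γ(S, U)).hom, Iso.hom_inv_id_assoc]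
  erw [Scheme.ΓSpecIso_naturality]
  rfl


/-- The identifications `gammaAff` as a natural transformation on the affine Zariski site. -/
def gammaRestrict : (Scheme.AffineZariskiSite.toOpensFunctor S).op ⋙ (alg H).presheaf ⟶ F where
  app U := gammaAff H U.unop.1 U.unop.2
  naturality U V i := gammaAff_naturality H i.unop

instance (U : S.AffineZariskiSiteᵒᵖ) : IsIso ((gammaRestrict H).app U) := isIso_gammaAff H U.unop.1 U.unop.2

instance : IsIso (gammaRestrict H) := NatIso.isIso_of_isIso_app _

section Hom

variable (B : RelSpec.QCAlg S) (φ : F ⟶ (Scheme.AffineZariskiSite.toOpensFunctor S).op ⋙ B.presheaf)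
  (hφ : α ≫ φ = (Scheme.AffineZariskiSite.toOpensFunctor S).op.whiskerLeft B.str)

/-- A homomorphism out of `alg H` from a compatible family of ring maps `F(U) ⟶ B(U)` over the affine opens. -/
def homOfAffine : alg H ⟶ B :=
  ⟨Functor.IsCoverDense.restrictHomEquivHom (G := Scheme.AffineZariskiSite.toOpensFunctor S)
    (K := Opens.grothendieckTopology S) (ℱ := (alg H).presheaf)
    (ℱ' := (⟨B.presheaf, B.isSheaf⟩ : TopCat.Sheaf CommRingCat.{u} S.carrier)) (gammaRestrict H ≫ φ), by
    apply (Functor.IsCoverDense.restrictHomEquivHom (G := Scheme.AffineZariskiSite.toOpensFunctor S)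
      (K := Opens.grothendieckTopology S) (ℱ := S.presheaf)
      (ℱ' := (⟨B.presheaf, B.isSheaf⟩ : TopCat.Sheaf CommRingCat.{u} S.carrier))).symm.injective
    ext U : 2
    have e1 := NatTrans.congr_app ((Functor.IsCoverDense.restrictHomEquivHom
      (G := Scheme.AffineZariskiSite.toOpensFunctor S)
      (K := Opens.grothendieckTopology S) (ℱ := (alg H).presheaf)
      (ℱ' := (⟨B.presheaf, B.isSheaf⟩ : TopCat.Sheaf CommRingCat.{u} S.carrier))).symm_apply_apply
        (gammaRestrict H ≫ φ)) U
    have e2 := NatTrans.congr_app hφ U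
    change (alg H).str.app (op U.unop.1) ≫ _ = B.str.app (op U.unop.1)
    change _ = (gammaRestrict H ≫ φ).app U at e1
    erw [e1]
    rw [NatTrans.comp_app]
    change (alg H).str.app (op U.unop.1) ≫ gammaAff H U.unop.1 U.unop.2 ≫ φ.app U = _
    rw [← Category.assoc, str_gammaAff]
    exact e2⟩

theorem homOfAffine_app : (homOfAffine H B φ hφ).hom.app (op U) = gammaAff H U hU ≫ φ.app (op (mk U hU)) :=
  NatTrans.congr_app ((Functor.IsCoverDense.restrictHomEquivHom
    (G := Scheme.AffineZariskiSite.toOpensFunctor S)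
    (K := Opens.grothendieckTopology S) (ℱ := (alg H).presheaf)
    (ℱ' := (⟨B.presheaf, B.isSheaf⟩ : TopCat.Sheaf CommRingCat.{u} S.carrier))).symm_apply_apply
      (gammaRestrict H ≫ φ)) (op (mk U hU))

end Hom

end Groth.Agent.Lib.QCAlgOfAffine
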