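import Groth.Prelude.Def_RelProj2

/-!
# Direct image of a quasi-coherent (graded) algebra along an affine morphism (helper28)

For an affine morphism `f : X ⟶ Y`:
* `pushAlg f A : RelSpec.QCAlg Y`, the direct image `f_* A` of a quasi-coherent algebra `A` on `X`;
* `pushGr f 𝒮 : RelProj.QCGrAlg Y`, the direct image of a quasi-coherent graded algebra (the grading over an affine
  open `U ⊆ Y` is the one of `𝒮` over the affine open `f⁻¹(U)`, definitionally);
* `isRelProj_push`: if `(P, p, chart)` is a relative Proj of `𝒮` over `X` then `(P, p ≫ f, pushChart f 𝒮 p chart)` is a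
  relative Proj of `f_* 𝒮` over `Y` (EGA II 3.1.? : `Proj_Y(f_*𝒮) = Proj_X(𝒮)`).
-/

set_option autoImplicit false
universe u
open CategoryTheory CategoryTheory.Limits AlgebraicGeometry TopologicalSpace Opposite
open scoped HomogeneousIdeal

noncomputable section

namespace Groth.Agent.Lib.QCGrAlgPush

variable {X Y : Scheme.{u}} (f : X ⟶ Y) [IsAffineHom f]

/-- structure map of the pushforward algebra -/
def pushStr (A : RelSpec.QCAlg X) : Y.presheaf ⟶ f.base _* A.presheaf :=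
  f.c ≫ (TopCat.Presheaf.pushforward _ f.base).map A.str

theorem pushStr_app (A : RelSpec.QCAlg X) (U : Y.Opens) (r : Γ(Y, U)) :
    ((pushStr f A).app (op U)).hom r = (A.str.app (op (f ⁻¹ᵁ U))).hom ((f.app U).hom r) := rfl

theorem isQC_push (A : RelSpec.QCAlg X) : RelSpec.IsQC (f.base _* A.presheaf) (pushStr f A) := by
  intro U hU r
  let inst : Algebra (A.presheaf.obj (op (f ⁻¹ᵁ U))) (A.presheaf.obj (op (f ⁻¹ᵁ Y.basicOpen r))) :=
    (A.presheaf.map (homOfLE (f.preimage_mono (Y.basicOpen_le r))).op).hom.toAlgebra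
  change IsLocalization.Away ((A.str.app (op (f ⁻¹ᵁ U))).hom ((f.app U).hom r))
    (A.presheaf.obj (op (f ⁻¹ᵁ Y.basicOpen r)))
  let : Algebra (A.presheaf.obj (op (f ⁻¹ᵁ U))) (A.presheaf.obj (op (X.basicOpen (f.app U r)))) :=
    (A.presheaf.map (homOfLE (X.basicOpen_le _)).op).hom.toAlgebra
  dsimp +instances [inst]
  rw! (castMode := .all) [f.preimage_basicOpen r]
  exact A.isQC (f ⁻¹ᵁ U) (hU.preimage f) (f.app U r)

/-- The direct image of a quasi-coherent algebra along an affine morphism. -/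
def pushAlg (A : RelSpec.QCAlg X) : RelSpec.QCAlg Y where
  presheaf := f.base _* A.presheaf
  isSheaf := TopCat.Sheaf.pushforward_sheaf_of_sheaf _ A.isSheaf
  str := pushStr f A
  isQC := isQC_push f A

/-- The direct image of a quasi-coherent graded algebra along an affine morphism. -/
def pushGr (𝒮 : RelProj.QCGrAlg X) : RelProj.QCGrAlg Y where
  toQCAlg := pushAlg f 𝒮.toQCAlg
  deg U hU := 𝒮.deg (f ⁻¹ᵁ U) (hU.preimage f)
  graded U hU := 𝒮.graded (f ⁻¹ᵁ U) (hU.preimage f)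
  map_mem := by
    intro U V hU hV i d x hx
    exact 𝒮.map_mem (hU.preimage f) (hV.preimage f) (f.preimage_mono i) hx
  str_mem := by
    intro U hU r
    exact 𝒮.str_mem (f ⁻¹ᵁ U) (hU.preimage f) ((f.app U).hom r)


variable (𝒮 : RelProj.QCGrAlg X) {P : Scheme.{u}} (p : P ⟶ X)
  (chart : ∀ (V : X.Opens) (hV : IsAffineOpen V), (((p ⁻¹ᵁ V : P.Opens) : Scheme.{u}) ≅ Proj (𝒮.deg V hV)))

/-- the charts of `Proj(𝒮)` regarded over `Y` -/
def pushChart (U : Y.Opens) (hU : IsAffineOpen U) :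
    ((((p ≫ f) ⁻¹ᵁ U : P.Opens) : Scheme.{u}) ≅ Proj ((pushGr f 𝒮).deg U hU)) :=
  chart (f ⁻¹ᵁ U) (hU.preimage f)

omit [IsAffineHom f] in
theorem chart_res_of_eq (hP : RelProj.IsRelProj 𝒮 p chart) (V : X.Opens) (hV : IsAffineOpen V) (r' : Γ(X, V))
    (V₁ : X.Opens) (h : V₁ = X.basicOpen r') (hV₁ : IsAffineOpen V₁) (hle : V₁ ≤ V)
    (hirr : (𝒮.deg V₁ hV₁)₊ ≤ ((𝒮.deg V hV)₊).map (𝒮.res hV hV₁ hle)) :
    P.homOfLE (p.preimage_mono hle) ≫ (chart V hV).hom =
      (chart V₁ hV₁).hom ≫ Proj.map (𝒮.res hV hV₁ hle) hirr := by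
  subst h
  exact hP.chart_res V hV r'

theorem isRelProj_push (hP : RelProj.IsRelProj 𝒮 p chart) :
    RelProj.IsRelProj (pushGr f 𝒮) (p ≫ f) (pushChart f 𝒮 p chart) := by
  constructor
  · intro U hU
    have h1 := hP.chart_over (f ⁻¹ᵁ U) (hU.preimage f)
    have h2 : (pushGr f 𝒮).strZero U hU = f.app U ≫ 𝒮.strZero (f ⁻¹ᵁ U) (hU.preimage f) := rfl
    change (chart (f ⁻¹ᵁ U) (hU.preimage f)).hom ≫ Proj.toSpecZero (𝒮.deg (f ⁻¹ᵁ U) (hU.preimage f)) ≫
      Spec.map ((pushGr f 𝒮).strZero U hU) ≫ hU.fromSpec = (p ⁻¹ᵁ (f ⁻¹ᵁ U)).ι ≫ p ≫ f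
    rw [h2, Spec.map_comp, Category.assoc]
    have h3 : Spec.map (f.app U) ≫ hU.fromSpec = (hU.preimage f).fromSpec ≫ f := by
      have := IsAffineOpen.SpecMap_appLE_fromSpec f hU (hU.preimage f) le_rfl
      rwa [Scheme.Hom.appLE, show homOfLE (le_refl (f ⁻¹ᵁ U)) = 𝟙 _ from rfl, op_id,
        CategoryTheory.Functor.map_id, Category.comp_id] at this
    rw [h3, ← Category.assoc (p ⁻¹ᵁ (f ⁻¹ᵁ U)).ι, ← h1]
    simp only [Category.assoc]
  · intro U hU r
    exact chart_res_of_eq 𝒮 p chart hP (f ⁻¹ᵁ U) (hU.preimage f) ((f.app U).hom r)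
      (f ⁻¹ᵁ Y.basicOpen r) (f.preimage_basicOpen r) ((hU.basicOpen r).preimage f)
      (f.preimage_mono (Y.basicOpen_le r)) ((pushGr f 𝒮).irrelevant_le_map U hU r)

end Groth.Agent.Lib.QCGrAlgPush
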