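import Groth.Agent.Lib.H90OXModExact
import Groth.Agent.Lib.H90OXModQcqs
import Groth.Agent.Lib.RestrictExact

/-!
# Extension of quasi-coherent submodules from a quasi-compact open (helper10)

`U ⊆ X` open with `U.ι` quasi-compact, `F` quasi-coherent on `X`, `G ⊆ F|_U` quasi-coherent:
there is a quasi-coherent `G' ⊆ F` with `G'|_U ≅ G` (no finite type hypothesis; Stacks 01PF).
-/

set_option autoImplicit false
universe u

open CategoryTheory CategoryTheory.Limits AlgebraicGeometry TopologicalSpace Opposite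

namespace Groth.Agent.Lib.QCohExtend

open Groth.Agent.Lib.RestrictExact

variable {X : Scheme.{u}} (U : X.Opens) (F : X.Modules) {G : (↑U : Scheme.{u}).Modules}
  (i : G ⟶ F.restrict U.ι)

/-- the map `F ⟶ j_* (F|_U / G)` -/
noncomputable def φ : F ⟶ (Scheme.Modules.pushforward U.ι).obj (cokernel i) :=
  (Scheme.Modules.restrictAdjunction U.ι).unit.app F ≫
    (Scheme.Modules.pushforward U.ι).map (cokernel.π i)

lemma restrict_map_φ :
    (Scheme.Modules.restrictFunctor U.ι).map (φ U F i) ≫
      (Scheme.Modules.restrictAdjunction U.ι).counit.app (cokernel i) = cokernel.π i := by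
  rw [φ, Functor.map_comp, Category.assoc]
  have h1 := (Scheme.Modules.restrictAdjunction U.ι).counit.naturality (cokernel.π i)
  have h2 := (Scheme.Modules.restrictAdjunction U.ι).left_triangle_components F
  erw [h1]
  rw [← Category.assoc]
  erw [h2]
  exact Category.id_comp _

theorem exists_qcoh_extension [QuasiCompact U.ι] [F.IsQuasicoherent] [G.IsQuasicoherent] [Mono i] :
    ∃ (G' : X.Modules) (i' : G' ⟶ F), Mono i' ∧ G'.IsQuasicoherent ∧
      Nonempty (G'.restrict U.ι ≅ G) := by
  have : (F.restrict U.ι).IsQuasicoherent := inferInstance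
  have : (cokernel i).IsQuasicoherent :=
    Groth.Agent.Lib.H90OXModExact.isQuasicoherent_cokernel i
  have : ((Scheme.Modules.pushforward U.ι).obj (cokernel i)).IsQuasicoherent :=
    Groth.Agent.Lib.H90OXModQcqs.isQuasicoherent_pushforward_of_qcqs U.ι (cokernel i)
  refine ⟨kernel (φ U F i), kernel.ι _, inferInstance,
    Groth.Agent.Lib.H90OXModExact.isQuasicoherent_kernel _, ?_⟩
  let R := Scheme.Modules.restrictFunctor U.ι
  let ε := (Scheme.Modules.restrictAdjunction U.ι).counit.app (cokernel i)
  have e1 : R.obj (kernel (φ U F i)) ≅ kernel (R.map (φ U F i)) := PreservesKernel.iso R _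
  have e2 : kernel (R.map (φ U F i)) ≅ kernel (R.map (φ U F i) ≫ ε) :=
    (kernelCompMono (R.map (φ U F i)) ε).symm
  have e3 : kernel (R.map (φ U F i) ≫ ε) ≅ kernel (cokernel.π i) :=
    kernelIsoOfEq (restrict_map_φ U F i)
  have e4 : kernel (cokernel.π i) ≅ G :=
    (IsLimit.conePointUniqueUpToIso (Abelian.monoIsKernelOfCokernel _ (cokernelIsCokernel i))
      (kernelIsKernel (cokernel.π i))).symm
  exact ⟨e1 ≪≫ e2 ≪≫ e3 ≪≫ e4⟩

end Groth.Agent.Lib.QCohExtend
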