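import Groth.Agent.Lib.HyperLocal31
import Groth.Agent.Lib.RlimTri31

/-!
# Local injectivity criterion for maps on cohomology sheaves (helper31)

* `θfun_loc_surj`, `θfun_loc_inj`: the comparison `Hom_D(ℤ_U, K) → H⁰(K)(U)` is locally
  bijective, for any `K` in the derived category.
* `injective_of_local`: if for a cofinal system of covering families `Y i → V` the maps
  `Hom_D(ℤ_{Y i}, L') → Hom_D(ℤ_{Y i}, K')` are injective, then `H⁰(L')(V) → H⁰(K')(V)` is
  injective.
* `injective_of_local_shift`: the version for `H^m`.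
* `rlim_injective`: the derived-limit statement (S0880).
-/

set_option autoImplicit false

open CategoryTheory CategoryTheory.Limits Opposite HomologicalComplex DerivedCategory

universe u

namespace Groth.Agent.RlimLocal31

open Groth.Agent.FreeSheaf31 Groth.Agent.SingleMaps31 Groth.Agent.HomologySheafLocal31
  Groth.Agent.HyperLocal31

variable {C : Type u} [SmallCategory C] {J : GrothendieckTopology C}
  [HasDerivedCategory.{u} (Sheaf J AddCommGrpCat.{u})]

lemma θfun_loc_surj (K : DerivedCategory (Sheaf J AddCommGrpCat.{u})) (U : C)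
    (s : ((homologyFunctor (Sheaf J AddCommGrpCat.{u}) 0).obj K).obj.obj (op U)) :
    ∃ S ∈ J U, ∀ ⦃V : C⦄ (h : V ⟶ U), S.arrows h → ∃ f : ZD J V ⟶ K,
      θfun V K f =
        ((homologyFunctor (Sheaf J AddCommGrpCat.{u}) 0).obj K).obj.map h.op s := by
  have hW := (J.W_iff_isLocallyBijective _).1 (W_θ K)
  have := hW.2
  refine ⟨Presheaf.imageSieve (θ K) s, Presheaf.imageSieve_mem J (θ K) (U := op U) s,
    fun V h hh => ?_⟩
  obtain ⟨f, hf⟩ := hh
  exact ⟨f, hf⟩

lemma θfun_loc_inj (K : DerivedCategory (Sheaf J AddCommGrpCat.{u})) (U : C)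
    (f : ZD J U ⟶ K) (hf : θfun U K f = 0) :
    ∃ S ∈ J U, ∀ ⦃V : C⦄ (h : V ⟶ U), S.arrows h → ZDmap J h ≫ f = 0 := by
  have hW := (J.W_iff_isLocallyBijective _).1 (W_θ K)
  have := hW.1
  let x : ToType ((HP K).obj (op U)) := f
  let y : ToType ((HP K).obj (op U)) := (0 : ZD J U ⟶ K)
  have hxy : (θ K).app (op U) x = (θ K).app (op U) y := by
    change θfun U K f = θfun U K 0
    rw [hf, θfun_zero]
  refine ⟨Presheaf.equalizerSieve x y, Presheaf.equalizerSieve_mem J (θ K) x y hxy,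
    fun V h hh => ?_⟩
  have h1 : ZDmap J h ≫ f = ZDmap J h ≫ (0 : ZD J U ⟶ K) := hh
  rw [h1, comp_zero]

/-- **local criterion for injectivity on `H⁰`** -/
theorem injective_of_local {L' K' : DerivedCategory (Sheaf J AddCommGrpCat.{u})} (α : L' ⟶ K')
    (V : C)
    (h : ∀ T ∈ J V, ∃ (ι : Type u) (Y : ι → C) (f : ∀ i, Y i ⟶ V), (∀ i, T.arrows (f i)) ∧
      Sieve.ofArrows Y f ∈ J V ∧ ∀ i, ∀ ξ : ZD J (Y i) ⟶ L', ξ ≫ α = 0 → ξ = 0) :
    Function.Injective
      (((homologyFunctor (Sheaf J AddCommGrpCat.{u}) 0).map α).hom.app (op V)) := by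
  rw [injective_iff_map_eq_zero]
  intro s hs
  -- the sieve of good arrows
  let T : Sieve V :=
    { arrows := fun W g => ∃ ξ : ZD J W ⟶ L',
        θfun W L' ξ =
          ((homologyFunctor (Sheaf J AddCommGrpCat.{u}) 0).obj L').obj.map g.op s ∧ ξ ≫ α = 0
      downward_closed := by
        rintro W W' g ⟨ξ, hξ1, hξ2⟩ k
        refine ⟨ZDmap J k ≫ ξ, ?_, ?_⟩
        · rw [θfun_map, hξ1, op_comp, Functor.map_comp]
          rfl
        · rw [Category.assoc, hξ2, comp_zero] }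
  have hT : T ∈ J V := by
    obtain ⟨S₁, hS₁, hS₁'⟩ := θfun_loc_surj L' V s
    refine J.transitive hS₁ T (fun W g hg => ?_)
    obtain ⟨ξ, hξ⟩ := hS₁' g hg
    have h0 : θfun W K' (ξ ≫ α) = 0 := by
      rw [θfun_comp, hξ]
      have := NatTrans.naturality_apply
        ((homologyFunctor (Sheaf J AddCommGrpCat.{u}) 0).map α).hom g.op s
      rw [this, hs, map_zero]
    obtain ⟨S₂, hS₂, hS₂'⟩ := θfun_loc_inj K' W (ξ ≫ α) h0
    refine J.superset_covering ?_ hS₂
    intro W' k hk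
    refine ⟨ZDmap J k ≫ ξ, ?_, ?_⟩
    · rw [θfun_map, hξ, op_comp, Functor.map_comp]
      rfl
    · rw [Category.assoc]
      exact hS₂' k hk
  obtain ⟨ι, Y', f, hf, hcov, hinj⟩ := h T hT
  -- separatedness
  have hsep := Sheaf.isSeparated ((homologyFunctor (Sheaf J AddCommGrpCat.{u}) 0).obj L')
  refine hsep V _ hcov s 0 ?_
  rintro W g ⟨W₀, k, g₀, hg₀, rfl⟩
  obtain ⟨i⟩ := hg₀
  obtain ⟨ξ, hξ1, hξ2⟩ := hf i
  have hξ0 := hinj i ξ hξ2
  rw [hξ0, θfun_zero] at hξ1
  rw [op_comp, Functor.map_comp, ConcreteCategory.comp_apply, ← hξ1, map_zero, map_zero]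

/-- transfer of injectivity along the shift isomorphism `H⁰(K[m]) ≅ H^m(K)` -/
lemma injective_shift_transfer (Φ : Sheaf J AddCommGrpCat.{u} ⥤ AddCommGrpCat.{u})
    {L' K' : DerivedCategory (Sheaf J AddCommGrpCat.{u})} (α : L' ⟶ K') (m : ℤ)
    (h0 : Function.Injective (Φ.map ((homologyFunctor (Sheaf J AddCommGrpCat.{u}) 0).map
      ((shiftFunctor _ m).map α)))) :
    Function.Injective (Φ.map ((homologyFunctor (Sheaf J AddCommGrpCat.{u}) m).map α)) := by
  let e := (homologyFunctor (Sheaf J AddCommGrpCat.{u}) 0).shiftIso m 0 m (add_zero m)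
  let eL : (homologyFunctor (Sheaf J AddCommGrpCat.{u}) 0).obj ((shiftFunctor _ m).obj L') ≅
      (homologyFunctor (Sheaf J AddCommGrpCat.{u}) m).obj L' := e.app L'
  let eK : (homologyFunctor (Sheaf J AddCommGrpCat.{u}) 0).obj ((shiftFunctor _ m).obj K') ≅
      (homologyFunctor (Sheaf J AddCommGrpCat.{u}) m).obj K' := e.app K'
  have hnat : (homologyFunctor (Sheaf J AddCommGrpCat.{u}) 0).map ((shiftFunctor _ m).map α) ≫
      eK.hom = eL.hom ≫ (homologyFunctor (Sheaf J AddCommGrpCat.{u}) m).map α :=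
    e.hom.naturality α
  have hnat' : Φ.map ((homologyFunctor (Sheaf J AddCommGrpCat.{u}) 0).map
      ((shiftFunctor _ m).map α)) ≫ Φ.map eK.hom =
      Φ.map eL.hom ≫ Φ.map ((homologyFunctor (Sheaf J AddCommGrpCat.{u}) m).map α) := by
    rw [← Φ.map_comp, ← Φ.map_comp, hnat]
  have hbL := ConcreteCategory.bijective_of_isIso (Φ.map eL.hom)
  have hbK := ConcreteCategory.bijective_of_isIso (Φ.map eK.hom)
  intro x y hxy
  obtain ⟨x', rfl⟩ := hbL.2 x
  obtain ⟨y', rfl⟩ := hbL.2 y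
  change (Φ.map eL.hom ≫ Φ.map ((homologyFunctor _ m).map α)) x' =
    (Φ.map eL.hom ≫ Φ.map ((homologyFunctor _ m).map α)) y' at hxy
  rw [← hnat'] at hxy
  have h1 : Φ.map ((homologyFunctor (Sheaf J AddCommGrpCat.{u}) 0).map
      ((shiftFunctor _ m).map α)) x' = Φ.map ((homologyFunctor _ 0).map
      ((shiftFunctor _ m).map α)) y' := hbK.1 hxy
  rw [h0 h1]

/-- **local criterion for injectivity on `H^m`** -/
theorem injective_of_local_shift {L' K' : DerivedCategory (Sheaf J AddCommGrpCat.{u})}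
    (α : L' ⟶ K') (m : ℤ) (V : C)
    (h : ∀ T ∈ J V, ∃ (ι : Type u) (Y : ι → C) (f : ∀ i, Y i ⟶ V), (∀ i, T.arrows (f i)) ∧
      Sieve.ofArrows Y f ∈ J V ∧ ∀ i, ∀ ξ : ZD J (Y i) ⟶ (shiftFunctor _ m).obj L',
        ξ ≫ (shiftFunctor _ m).map α = 0 → ξ = 0) :
    Function.Injective
      (((homologyFunctor (Sheaf J AddCommGrpCat.{u}) m).map α).hom.app (op V)) :=
  injective_shift_transfer (sheafToPresheaf J AddCommGrpCat.{u} ⋙ ev V) α m
    (injective_of_local ((shiftFunctor _ m).map α) V h)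

section Top

open TopologicalSpace

variable {X : TopCat.{u}}
  [HasDerivedCategory.{u} (Sheaf (Opens.grothendieckTopology X) AddCommGrpCat.{u})]

/-- **stalkwise local criterion for injectivity on `H⁰`** -/
theorem stalk_injective_of_local
    {L' K' : DerivedCategory (Sheaf (Opens.grothendieckTopology X) AddCommGrpCat.{u})}
    (α : L' ⟶ K') (x : X)
    (h : ∀ V : Opens X, x ∈ V → ∃ U : Opens X, x ∈ U ∧ U ≤ V ∧
      ∀ ξ : ZD (Opens.grothendieckTopology X) U ⟶ L', ξ ≫ α = 0 → ξ = 0) :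
    Function.Injective ((TopCat.Presheaf.stalkFunctor AddCommGrpCat.{u} x).map
      ((homologyFunctor (Sheaf (Opens.grothendieckTopology X) AddCommGrpCat.{u}) 0).map α).hom) := by
  let FL := ((homologyFunctor (Sheaf (Opens.grothendieckTopology X) AddCommGrpCat.{u}) 0).obj L').obj
  let GK := ((homologyFunctor (Sheaf (Opens.grothendieckTopology X) AddCommGrpCat.{u}) 0).obj K').obj
  let ψ : FL ⟶ GK :=
    ((homologyFunctor (Sheaf (Opens.grothendieckTopology X) AddCommGrpCat.{u}) 0).map α).hom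
  change Function.Injective ((TopCat.Presheaf.stalkFunctor AddCommGrpCat.{u} x).map ψ)
  rw [injective_iff_map_eq_zero]
  intro s hs
  obtain ⟨V, hxV, s', rfl⟩ := TopCat.Presheaf.exists_germ_eq FL s
  rw [TopCat.Presheaf.stalkFunctor_map_germ_apply] at hs
  obtain ⟨W, hxW, iU, iV, e⟩ := TopCat.Presheaf.germ_eq GK x hxV hxV (ψ.app (op V) s') 0
    (hs.trans (map_zero _).symm)
  rw [map_zero] at e
  -- the section on `W`
  have e' : ψ.app (op W) (FL.map iU.op s') = 0 := by
    rw [NatTrans.naturality_apply]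
    exact e
  -- lift locally
  obtain ⟨S₁, hS₁, hS₁'⟩ := θfun_loc_surj L' W (FL.map iU.op s')
  obtain ⟨W₁, g₁, hg₁, hxW₁⟩ := (Opens.mem_grothendieckTopology X).1 hS₁ x hxW
  obtain ⟨ξ, hξ⟩ := hS₁' g₁ hg₁
  have h0 : θfun W₁ K' (ξ ≫ α) = 0 := by
    rw [θfun_comp, hξ]
    have := NatTrans.naturality_apply ψ g₁.op (FL.map iU.op s')
    exact this.trans (by rw [e', map_zero])
  obtain ⟨S₂, hS₂, hS₂'⟩ := θfun_loc_inj K' W₁ (ξ ≫ α) h0
  obtain ⟨W₂, g₂, hg₂, hxW₂⟩ := (Opens.mem_grothendieckTopology X).1 hS₂ x hxW₁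
  have h1 := hS₂' g₂ hg₂
  obtain ⟨U, hxU, hUW₂, hinj⟩ := h W₂ hxW₂
  let g₃ : U ⟶ W₂ := homOfLE hUW₂
  have h2 : ZDmap _ g₃ ≫ ZDmap _ g₂ ≫ ξ = 0 := by
    apply hinj
    rw [Category.assoc, Category.assoc, h1, comp_zero]
  have h3 : FL.map g₃.op (FL.map g₂.op (FL.map g₁.op (FL.map iU.op s'))) = 0 := by
    rw [← hξ, ← θfun_map, ← θfun_map, h2, θfun_zero]
  have h4 := congrArg (TopCat.Presheaf.germ FL U x hxU) h3
  rw [TopCat.Presheaf.germ_res_apply, TopCat.Presheaf.germ_res_apply,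
    TopCat.Presheaf.germ_res_apply, TopCat.Presheaf.germ_res_apply, map_zero] at h4
  exact h4

/-- **stalkwise local criterion for injectivity on `H^m`** -/
theorem stalk_injective_of_local_shift
    {L' K' : DerivedCategory (Sheaf (Opens.grothendieckTopology X) AddCommGrpCat.{u})}
    (α : L' ⟶ K') (m : ℤ) (x : X)
    (h : ∀ V : Opens X, x ∈ V → ∃ U : Opens X, x ∈ U ∧ U ≤ V ∧
      ∀ ξ : ZD (Opens.grothendieckTopology X) U ⟶ (shiftFunctor _ m).obj L',
        ξ ≫ (shiftFunctor _ m).map α = 0 → ξ = 0) :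
    Function.Injective ((TopCat.Presheaf.stalkFunctor AddCommGrpCat.{u} x).map
      ((homologyFunctor (Sheaf (Opens.grothendieckTopology X) AddCommGrpCat.{u}) m).map α).hom) :=
  injective_shift_transfer (sheafToPresheaf (Opens.grothendieckTopology X) AddCommGrpCat.{u} ⋙
    TopCat.Presheaf.stalkFunctor AddCommGrpCat.{u} x) α m
    (stalk_injective_of_local ((shiftFunctor _ m).map α) x h)

end Top

end Groth.Agent.RlimLocal31
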