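import Groth.Agent.Lib.RlimHeart31
import Groth.Agent.Lib.RlimLocal31

/-!
# Derived limits of towers of abelian sheaves (helper31)

* `exists_B_refinement`: covering sieves can be refined by covering families with members in a
  covering class `B`.
* `isZero_homology_of_vanish`: `H^j(K) = 0` if `Hom_D(ℤ_U, K[j]) = 0` for `U ∈ B`.
* `limOneIsZero_of_subsingleton`, `limOneIsZero_of_surj`.
* `hom_ZD_single_*`: the groups `Hom_D(ℤ_U, F[0][j])`.
* `isRlim_limit_and_acyclic`: S0879.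
-/

set_option autoImplicit false

open CategoryTheory CategoryTheory.Limits Opposite HomologicalComplex DerivedCategory

universe u

namespace Groth.Agent.RlimSheaf31

open Groth.Agent.FreeSheaf31 Groth.Agent.SingleMaps31 Groth.Agent.HomologySheafLocal31
  Groth.Agent.HyperLocal31 Groth.Agent.RlimLocal31

section LimOne

lemma limOneIsZero_of_subsingleton (A : ℕ → Type u) [∀ n, AddCommGroup (A n)]
    (t : ∀ n, A (n + 1) →+ A n) (h : ∀ n, Subsingleton (A n)) : CohCx.LimOneIsZero A t :=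
  fun y => ⟨y, Subsingleton.elim _ _⟩

lemma limOneIsZero_of_surj {A A' : ℕ → Type u} [∀ n, AddCommGroup (A n)]
    [∀ n, AddCommGroup (A' n)] (t : ∀ n, A (n + 1) →+ A n) (t' : ∀ n, A' (n + 1) →+ A' n)
    (e : ∀ n, A n → A' n) (he : ∀ n, Function.Surjective (e n))
    (hsub : ∀ n x y, e n (x - y) = e n x - e n y)
    (hcomm : ∀ n x, e n (t n x) = t' n (e (n + 1) x))
    (h : CohCx.LimOneIsZero A t) : CohCx.LimOneIsZero A' t' := by
  intro y'
  choose y hy using fun n => he n (y' n)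
  obtain ⟨a, ha⟩ := h y
  refine ⟨fun n => e n (a n), ?_⟩
  funext n
  have := congrFun ha n
  change e n (a n) - t' n (e (n + 1) (a (n + 1))) = y' n
  rw [← hcomm, ← hsub, ← hy n]
  exact congrArg (e n) this

end LimOne

variable {C : Type u} [SmallCategory C] {J : GrothendieckTopology C}

lemma exists_B_refinement {B : Set C} (hB : Covers J B) {V : C} (T : Sieve V) (hT : T ∈ J V) :
    ∃ (ι : Type u) (Y : ι → C) (f : ∀ i, Y i ⟶ V), (∀ i, T.arrows (f i)) ∧
      Sieve.ofArrows Y f ∈ J V ∧ ∀ i, Y i ∈ B := by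
  choose ιW YW fW hcov hmem using hB
  let ι : Type u := Σ (W : C) (_ : {g : W ⟶ V // T.arrows g}), ιW W
  let Y' : ι → C := fun i => YW i.1 i.2.2
  let f : ∀ i, Y' i ⟶ V := fun i => fW i.1 i.2.2 ≫ i.2.1.1
  refine ⟨ι, Y', f, fun i => T.downward_closed i.2.1.2 _, ?_, fun i => hmem _ _⟩
  refine J.transitive hT _ (fun W g hg => ?_)
  refine J.superset_covering ?_ (hcov W)
  rintro W' k ⟨W₀, k', g₀, hg₀, rfl⟩
  obtain ⟨i⟩ := hg₀
  change (Sieve.ofArrows Y' f).arrows ((k' ≫ fW W i) ≫ g)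
  rw [Category.assoc]
  exact Sieve.downward_closed _ (Sieve.ofArrows_mk Y' f (⟨W, ⟨g, hg⟩, i⟩ : ι)) k'

variable [HasDerivedCategory.{u} (Sheaf J AddCommGrpCat.{u})]

/-- `H⁰(K) = 0` if `Hom_D(ℤ_U, K) = 0` for all `U` in a covering class -/
lemma isZero_H0_of_vanish (K : DerivedCategory (Sheaf J AddCommGrpCat.{u})) {B : Set C}
    (hB : Covers J B) (h : ∀ U ∈ B, ∀ ξ : ZD J U ⟶ K, ξ = 0) :
    IsZero ((homologyFunctor (Sheaf J AddCommGrpCat.{u}) 0).obj K) := by
  have hinj : ∀ V : C, Function.Injective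
      (((homologyFunctor (Sheaf J AddCommGrpCat.{u}) 0).map (0 : K ⟶ K)).hom.app (op V)) := by
    intro V
    refine injective_of_local (0 : K ⟶ K) V (fun T hT => ?_)
    obtain ⟨ι, Y', f, hf, hcov, hmem⟩ := exists_B_refinement hB T hT
    exact ⟨ι, Y', f, hf, hcov, fun i ξ _ => h _ (hmem i) ξ⟩
  rw [IsZero.iff_id_eq_zero]
  apply Sheaf.hom_ext
  ext V s
  induction V with | op V => ?_
  apply hinj V
  rw [Functor.map_zero]
  rfl

/-- `H^j(K) = 0` if `Hom_D(ℤ_U, K[j]) = 0` for all `U` in a covering class -/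
lemma isZero_homology_of_vanish (K : DerivedCategory (Sheaf J AddCommGrpCat.{u})) (j : ℤ)
    {B : Set C} (hB : Covers J B)
    (h : ∀ U ∈ B, ∀ ξ : ZD J U ⟶ (shiftFunctor _ j).obj K, ξ = 0) :
    IsZero ((homologyFunctor (Sheaf J AddCommGrpCat.{u}) j).obj K) :=
  (isZero_H0_of_vanish ((shiftFunctor _ j).obj K) hB h).of_iso
    (((homologyFunctor (Sheaf J AddCommGrpCat.{u}) 0).shiftIso j 0 j (add_zero j)).app K).symm

section Hom

lemma hom_ZD_single_neg (U : C) (G : Sheaf J AddCommGrpCat.{u}) (j : ℤ) (hj : j < 0)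
    (ξ : ZD J U ⟶ (shiftFunctor _ j).obj ((singleFunctor (Sheaf J AddCommGrpCat.{u}) 0).obj G)) :
    ξ = 0 :=
  RlimHeart31.hom_single_shift_neg_eq_zero ((Zf J).obj U) G j hj ξ

lemma subsingleton_hom_ZD_single_pos (U : C) (G : Sheaf J AddCommGrpCat.{u}) (p : ℕ)
    (h : Subsingleton (CohSite.HU G (p + 1) U)) :
    Subsingleton (ZD J U ⟶ (shiftFunctor _ (((p + 1 : ℕ) : ℤ))).obj
      ((singleFunctor (Sheaf J AddCommGrpCat.{u}) 0).obj G)) := by
  have h' : Subsingleton (Abelian.Ext (CohCx.freeSheaf J U) G (p + 1)) := h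
  exact (Abelian.Ext.homEquiv (X := CohCx.freeSheaf J U) (Y := G) (n := p + 1)).symm.subsingleton

lemma subsingleton_hom_ZD_single (U : C) (G : Sheaf J AddCommGrpCat.{u})
    (h : ∀ p : ℕ, Subsingleton (CohSite.HU G (p + 1) U)) (j : ℤ) (hj : j ≠ 0) :
    Subsingleton (ZD J U ⟶ (shiftFunctor _ j).obj
      ((singleFunctor (Sheaf J AddCommGrpCat.{u}) 0).obj G)) := by
  rcases lt_or_gt_of_ne hj with hj | hj
  · exact ⟨fun x y => (hom_ZD_single_neg U G j hj x).trans (hom_ZD_single_neg U G j hj y).symm⟩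
  · obtain ⟨p, rfl⟩ : ∃ p : ℕ, j = ((p + 1 : ℕ) : ℤ) := ⟨(j - 1).toNat, by omega⟩
    exact subsingleton_hom_ZD_single_pos U G p (h p)

/-- sections over `U` as maps `ℤ_U ⟶ G[0][i]` for `i = 0` -/
noncomputable def eZero (U : C) (G : Sheaf J AddCommGrpCat.{u}) (i : ℤ) (hi : i = 0)
    (x : G.obj.obj (op U)) :
    (singleFunctor (Sheaf J AddCommGrpCat.{u}) 0).obj ((Zf J).obj U) ⟶
      (shiftFunctor _ i).obj ((singleFunctor (Sheaf J AddCommGrpCat.{u}) 0).obj G) :=
  (singleFunctor (Sheaf J AddCommGrpCat.{u}) 0).map ((homEquiv U G).symm x) ≫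
    (shiftFunctorZero' _ i hi).inv.app ((singleFunctor (Sheaf J AddCommGrpCat.{u}) 0).obj G)

lemma eZero_surjective (U : C) (G : Sheaf J AddCommGrpCat.{u}) (i : ℤ) (hi : i = 0) :
    Function.Surjective (eZero U G i hi) := by
  intro f
  let f' : (singleFunctor (Sheaf J AddCommGrpCat.{u}) 0).obj ((Zf J).obj U) ⟶
      (singleFunctor (Sheaf J AddCommGrpCat.{u}) 0).obj G :=
    f ≫ (shiftFunctorZero' _ i hi).hom.app ((singleFunctor (Sheaf J AddCommGrpCat.{u}) 0).obj G)
  refine ⟨homEquiv U G ((singleFunctor (Sheaf J AddCommGrpCat.{u}) 0).preimage f'), ?_⟩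
  unfold eZero
  rw [Equiv.symm_apply_apply, Functor.map_preimage]
  change (f ≫ _) ≫ _ = f
  rw [Category.assoc, Iso.hom_inv_id_app, Category.comp_id]

omit [HasDerivedCategory.{u} (Sheaf J AddCommGrpCat.{u})] in
lemma homEquiv_symm_sub (U : C) (G : Sheaf J AddCommGrpCat.{u}) (x y : G.obj.obj (op U)) :
    (homEquiv U G).symm (x - y) = (homEquiv U G).symm x - (homEquiv U G).symm y := by
  apply (homEquiv U G).injective
  rw [Equiv.apply_symm_apply]
  have := homEquiv_add U ((homEquiv U G).symm x - (homEquiv U G).symm y) ((homEquiv U G).symm y)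
  rw [sub_add_cancel, Equiv.apply_symm_apply, Equiv.apply_symm_apply] at this
  exact (eq_sub_of_add_eq this.symm).symm

lemma eZero_sub (U : C) (G : Sheaf J AddCommGrpCat.{u}) (i : ℤ) (hi : i = 0)
    (x y : G.obj.obj (op U)) : eZero U G i hi (x - y) = eZero U G i hi x - eZero U G i hi y := by
  unfold eZero
  rw [homEquiv_symm_sub, Functor.map_sub, Preadditive.sub_comp]

lemma eZero_comm (U : C) {G G' : Sheaf J AddCommGrpCat.{u}} (φ : G ⟶ G') (i : ℤ) (hi : i = 0)
    (x : G.obj.obj (op U)) :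
    eZero U G' i hi (φ.hom.app (op U) x) =
      eZero U G i hi x ≫ (shiftFunctor _ i).map
        ((singleFunctor (Sheaf J AddCommGrpCat.{u}) 0).map φ) := by
  unfold eZero
  have h1 : (homEquiv U G').symm (φ.hom.app (op U) x) = (homEquiv U G).symm x ≫ φ := by
    apply (homEquiv U G').injective
    rw [Equiv.apply_symm_apply, homEquiv_comp, Equiv.apply_symm_apply]
  rw [h1, Functor.map_comp, Category.assoc, Category.assoc]
  congr 1
  exact ((shiftFunctorZero' (DerivedCategory (Sheaf J AddCommGrpCat.{u})) i hi).inv.naturality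
    ((singleFunctor (Sheaf J AddCommGrpCat.{u}) 0).map φ))

end Hom

section Main

variable (F : ℕ → Sheaf J AddCommGrpCat.{u}) (t : ∀ n, F (n + 1) ⟶ F n)
  [HasProduct fun n => (singleFunctor (Sheaf J AddCommGrpCat.{u}) 0).obj (F n)]

open RlimHeart31

/-- vanishing of `Hom_D(ℤ_U, L[j])`, `j ≠ 0`, for a derived limit `L` of `(F n)[0]` when the `F n`
are acyclic on `U` and `R¹lim F n (U) = 0` -/
lemma vanish (L : DerivedCategory (Sheaf J AddCommGrpCat.{u}))
    (hL : DCoh.IsRlim (KS F) (tS F t) L) (U : C)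
    (h1 : ∀ (p n : ℕ), Subsingleton (CohSite.HU (F n) (p + 1) U))
    (h2 : CohCx.LimOneIsZero (fun n => (F n).obj.obj (op U))
      (fun n => ((t n).hom.app (op U)).hom))
    (j : ℤ) (hj : j ≠ 0) (ξ : ZD J U ⟶ (shiftFunctor _ j).obj L) : ξ = 0 := by
  obtain ⟨a, c, hT⟩ := hL
  have hRV := isRlimVia_of_triangle (KS F) (tS F t) a c hT
  have hsub : ∀ n, Subsingleton (ZD J U ⟶ (shiftFunctor _ j).obj (KS F n)) :=
    fun n => subsingleton_hom_ZD_single U (F n) (fun p => h1 p n) j hj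
  refine RlimTri31.eq_zero_of_comp_eq_zero (KS F) (tS F t) L _ hRV (ZD J U) j 0 ?_ ?_ ξ
    (Subsingleton.elim _ _)
  · by_cases hj' : j - 1 = 0
    · refine limOneIsZero_of_surj (fun n => ((t n).hom.app (op U)).hom) _
        (fun n => eZero U (F n) (j - 1) hj') (fun n => eZero_surjective U (F n) (j - 1) hj')
        (fun n => eZero_sub U (F n) (j - 1) hj') (fun n x => ?_) h2
      exact eZero_comm U (t n) (j - 1) hj' x
    · exact limOneIsZero_of_subsingleton _ _
        (fun n => subsingleton_hom_ZD_single U (F n) (fun p => h1 p n) (j - 1) hj')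
  · intro k x y _
    have := hsub (0 + k)
    exact Subsingleton.elim _ _

/-- **S0879** -/
theorem isRlim_limit_and_acyclic (B : Set C) (hB : Covers J B)
    (h1 : ∀ U ∈ B, ∀ (p n : ℕ), Subsingleton (CohSite.HU (F n) (p + 1) U))
    (h2 : ∀ U ∈ B, CohCx.LimOneIsZero (fun n => (F n).obj.obj (op U))
      (fun n => ((t n).hom.app (op U)).hom)) :
    DCoh.IsRlim (KS F) (tS F t)
      ((singleFunctor (Sheaf J AddCommGrpCat.{u}) 0).obj (limit (CohCx.opSequence F t))) ∧
    ∀ U ∈ B, ∀ p : ℕ, Subsingleton (CohSite.HU (limit (CohCx.opSequence F t)) (p + 1) U) := by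
  obtain ⟨L, hL⟩ := exists_isRlim (KS F) (tS F t)
  have hz : ∀ j : ℤ, j ≠ 0 → IsZero ((homologyFunctor (Sheaf J AddCommGrpCat.{u}) j).obj L) :=
    fun j hj => isZero_homology_of_vanish L j hB
      (fun U hU ξ => vanish F t L hL U (h1 U hU) (h2 U hU) j hj ξ)
  have : L.IsGE 0 := (isGE_iff L 0).2 (fun i hi => hz i (by omega))
  have : L.IsLE 0 := (isLE_iff L 0).2 (fun i hi => hz i (by omega))
  have hR := isRlim_single_limit F t L hL
  refine ⟨hR, fun U hU p => ?_⟩
  have hv : ∀ ξ : ZD J U ⟶ (shiftFunctor _ (((p + 1 : ℕ) : ℤ))).obj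
      ((singleFunctor (Sheaf J AddCommGrpCat.{u}) 0).obj (limit (CohCx.opSequence F t))), ξ = 0 :=
    fun ξ => vanish F t _ hR U (h1 U hU) (h2 U hU) _ (by omega) ξ
  have : Subsingleton (Abelian.Ext (CohCx.freeSheaf J U) (limit (CohCx.opSequence F t)) (p + 1)) :=
    ⟨fun x y => (Abelian.Ext.homEquiv (X := CohCx.freeSheaf J U)
      (Y := limit (CohCx.opSequence F t)) (n := p + 1)).injective ((hv _).trans (hv _).symm)⟩
  exact this

end Main

end Groth.Agent.RlimSheaf31

namespace Groth.Agent.RlimSheaf31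

open TopologicalSpace Groth.Agent.HomologySheafLocal31 in
/-- a basis of opens is a covering class -/
lemma covers_of_isBasis {X : TopCat.{u}} {B : Set (Opens X)} (hB : Opens.IsBasis B) :
    Covers (Opens.grothendieckTopology X) B := by
  intro U
  refine ⟨{V : Opens X // V ∈ B ∧ V ≤ U}, fun i => i.1, fun i => homOfLE i.2.2, ?_,
    fun i => i.2.1⟩
  rw [Opens.mem_grothendieckTopology]
  intro x hx
  obtain ⟨V, hVB, hxV, hVU⟩ := Opens.isBasis_iff_nbhd.1 hB hx
  exact ⟨V, homOfLE hVU, Sieve.ofArrows_mk _ _ (⟨V, hVB, hVU⟩ : {V : Opens X // V ∈ B ∧ V ≤ U}),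
    hxV⟩

end Groth.Agent.RlimSheaf31
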