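/-
helper23: the limit of a quasi-coherent formal system is acyclic on affine opens (Stacks 0A0J-type, S0826), via
helper31's S0870 (lim = Rlim and acyclicity on a basis), affine vanishing (helper48 AffVan) and surjectivity of
the transition maps on affine sections.
* `T X` = `SheafOfModules.toSheaf`, instance `PreservesLimitsOfShape ℕᵒᵖ (T X)`;
* `limIso G : lim (toAb G_n) ≅ toAb (lim G)`;
* `subsingleton_HU_limit`, `subsingleton_HHon_limit`.
-/
import Groth.Agent.Lib.QCohFormalLim23
import Groth.Agent.Lib.CechPushCompare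
import Groth.Agent.Lib.AffVan
import Groth.Agent.Lib.RlimTower31
import Groth.Agent.Lib.PushLocalF31
import Groth.Agent.S0870
import Groth.Agent.Lib.PushHyper31

set_option autoImplicit false
set_option linter.style.haveILetI false
universe u
open CategoryTheory CategoryTheory.Limits AlgebraicGeometry Opposite TopologicalSpace

namespace Groth.Agent.Lib.QCohFormalAcyc23

open Formal Groth.Agent.Lib.FormalCoker13 Groth.Agent.Lib.QCohFormalLim23

variable {X : Scheme.{u}}

/-- the underlying abelian sheaf functor -/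
noncomputable abbrev T (X : Scheme.{u}) :
    X.Modules ⥤ Sheaf (Opens.grothendieckTopology X) AddCommGrpCat.{u} :=
  SheafOfModules.toSheaf X.ringCatSheaf

noncomputable instance : PreservesLimitsOfShape ℕᵒᵖ (T X) := by
  haveI : PreservesLimitsOfShape ℕᵒᵖ
      (T X ⋙ sheafToPresheaf (Opens.grothendieckTopology X) AddCommGrpCat.{u}) := by
    change PreservesLimitsOfShape ℕᵒᵖ
      (SheafOfModules.forget X.ringCatSheaf ⋙ PresheafOfModules.toPresheaf X.ringCatSheaf.obj)
    infer_instance
  exact preservesLimitsOfShape_of_reflects_of_preserves (T X)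
    (sheafToPresheaf (Opens.grothendieckTopology X) AddCommGrpCat.{u})


section Main

variable {A : Type u} [CommRing A] [X.Over (Spec (CommRingCat.of A))] {I : Ideal A}
  {G : ℕᵒᵖ ⥤ X.Modules}

/-- the tower of underlying abelian sheaves -/
noncomputable abbrev Fab (G : ℕᵒᵖ ⥤ X.Modules) (n : ℕ) : CohTop.Ab X := (T X).obj (G.obj (op n))

/-- its transition maps -/
noncomputable abbrev tab (G : ℕᵒᵖ ⥤ X.Modules) (n : ℕ) : Fab G (n + 1) ⟶ Fab G n :=
  (T X).map (G.map (homOfLE (Nat.le_succ n)).op)

/-- the tower of underlying abelian sheaves is `G ⋙ T` -/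
noncomputable def towerHom (G : ℕᵒᵖ ⥤ X.Modules) : CohCx.opSequence (Fab G) (tab G) ⟶ G ⋙ T X :=
  NatTrans.ofOpSequence (fun n => 𝟙 (Fab G n)) (by
    intro n
    have e1 : (CohCx.opSequence (Fab G) (tab G)).map (homOfLE (n.le_add_right 1)).op = tab G n :=
      Functor.ofOpSequence_map_homOfLE_succ _ n
    rw [e1]
    exact (Category.comp_id _).trans (Category.id_comp _).symm)

instance (G : ℕᵒᵖ ⥤ X.Modules) : IsIso (towerHom G) := by
  haveI : ∀ j : ℕᵒᵖ, IsIso ((towerHom G).app j) := fun j => by
    change IsIso (𝟙 (Fab G j.unop))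
    infer_instance
  exact NatIso.isIso_of_isIso_app _

/-- `lim` of the underlying abelian sheaves is the underlying abelian sheaf of `lim G` -/
noncomputable def limIso (G : ℕᵒᵖ ⥤ X.Modules) :
    limit (CohCx.opSequence (Fab G) (tab G)) ≅ (T X).obj (limit G) :=
  HasLimit.isoOfNatIso (asIso (towerHom G)) ≪≫ (preservesLimitIso (T X) G).symm

theorem subsingleton_HU_limit (hG : Formal2.IsQCohFormal I G) {U : X.Opens} (hU : IsAffineOpen U)
    (q : ℕ) : Subsingleton (CohTop.HU (Coh.toAb (limit G)) (q + 1) U) := by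
  letI : HasDerivedCategory.{u} (CohTop.Ab X) :=
    Groth.Agent.SmallDerived31.hasDerivedCategory (Groth.Agent.PushHyper31.enoughKInj X)
  haveI : HasProduct fun n => (DerivedCategory.singleFunctor (CohTop.Ab X) 0).obj (Fab G n) :=
    Groth.Agent.PushLocalF31.hasProduct_Q_obj
      (fun n => (CochainComplex.singleFunctor (CohTop.Ab X) 0).obj (Fab G n))
  have h := (Groth.Agent.S0870.result (X := X) (Fab G) (tab G) {V : X.Opens | IsAffineOpen V}
    X.isBasis_affineOpens ?_ ?_).2 U hU q
  · let e := ((Sheaf.cohomologyPresheafFunctor (Opens.grothendieckTopology X) (q + 1)).mapIso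
      (limIso G)).app (op U)
    exact (e.symm.addCommGroupIsoToAddEquiv).toEquiv.subsingleton
  · intro V hV p n
    refine ⟨fun a b => ?_⟩
    rw [Groth.Agent.Lib.AffVan.HU_eq_zero_of_isAffineOpen (G.obj (op n)) (hG.1 n) p hV a,
      Groth.Agent.Lib.AffVan.HU_eq_zero_of_isAffineOpen (G.obj (op n)) (hG.1 n) p hV b]
  · intro V hV
    apply Groth.Agent.RlimTower31.limOneIsZero_of_forall_surjective
    intro n
    haveI : (G.obj (op (n + 1))).IsQuasicoherent := hG.1 (n + 1)
    haveI : (G.obj (op n)).IsQuasicoherent := hG.1 n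
    haveI := (isCokerSmul_succ hG n).epi
    exact Groth.Agent.Lib.H90OXModExact.surjective_app_of_epi (G.map (homOfLE (Nat.le_succ n)).op) hV

/-- S0826 -/
theorem subsingleton_HHon_limit (hG : Formal2.IsQCohFormal I G) {U : X.Opens} (hU : IsAffineOpen U)
    (p : ℕ) (hp : 0 < p) : Subsingleton (Coh.HHon X (limit G) U p) := by
  obtain ⟨q, rfl⟩ : ∃ q, p = q + 1 := ⟨p - 1, by omega⟩
  obtain ⟨e⟩ := Groth.Agent.Lib.CechPushCompare.nonempty_HU_addEquiv_HHon (limit G) U (q + 1)
  haveI := subsingleton_HU_limit hG hU q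
  exact e.symm.toEquiv.subsingleton

end Main

end Groth.Agent.Lib.QCohFormalAcyc23
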