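import Groth.Agent.Lib.NDSch45
import Groth.Agent.Lib.GenFinIrr45

/-!
# A quasi-finite morphism is finite over a dense open of the target (helper45)
-/

set_option autoImplicit false
universe u
open CategoryTheory AlgebraicGeometry TopologicalSpace

namespace Groth.Agent.Lib.QFDense45

open Groth.Agent.Lib.GenFin45 Groth.Agent.Lib.NDTop45

/-- The frontier of an open set is nowhere dense. -/
theorem isNowhereDense_frontier_of_isOpen {Z : Type*} [TopologicalSpace Z] {s : Set Z}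
    (hs : IsOpen s) : IsNowhereDense (frontier s) := by
  rw [isClosed_frontier.isNowhereDense_iff, ← frontier_compl]
  exact interior_frontier hs.isClosed_compl

theorem isNowhereDense_union_of_isClosed {Z : Type*} [TopologicalSpace Z] {s t : Set Z}
    (hs : IsClosed s) (ht : IsClosed t) (hs' : IsNowhereDense s) (ht' : IsNowhereDense t) :
    IsNowhereDense (s ∪ t) := by
  rw [(hs.union ht).isNowhereDense_iff]
  rw [hs.isNowhereDense_iff] at hs'
  rw [ht.isNowhereDense_iff] at ht'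
  rw [interior_union_isClosed_of_interior_empty hs ht', hs']

theorem isNowhereDense_biUnion_of_isClosed {Z ι : Type*} [TopologicalSpace Z] {I : Set ι}
    (hI : I.Finite) (s : ι → Set Z) (hs : ∀ i ∈ I, IsClosed (s i))
    (hs' : ∀ i ∈ I, IsNowhereDense (s i)) :
    IsClosed (⋃ i ∈ I, s i) ∧ IsNowhereDense (⋃ i ∈ I, s i) := by
  induction I, hI using Set.Finite.induction_on with
  | empty => simp
  | @insert a I' ha hI' ih =>
    obtain ⟨h1, h2⟩ := ih (fun i hi => hs i (Set.mem_insert_of_mem _ hi))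
      (fun i hi => hs' i (Set.mem_insert_of_mem _ hi))
    rw [Set.biUnion_insert]
    exact ⟨(hs a (Set.mem_insert _ _)).union h1,
      isNowhereDense_union_of_isClosed (hs a (Set.mem_insert _ _)) h1 (hs' a (Set.mem_insert _ _)) h2⟩

/-- An open set which is a finite union of quasi-separated opens, each relatively closed in it,
is quasi-separated. -/
theorem isQuasiSeparated_of_finite_clopen_cover {Z ι : Type*} [TopologicalSpace Z] {I : Set ι}
    (hI : I.Finite) (Ω : Set Z) (ω : ι → Set Z) (hcov : Ω ⊆ ⋃ i ∈ I, ω i)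
    (hcl : ∀ i ∈ I, closure (ω i) ∩ Ω ⊆ ω i) (hqs : ∀ i ∈ I, IsQuasiSeparated (ω i))
    (hopen : ∀ i ∈ I, IsOpen (ω i)) : IsQuasiSeparated Ω := by
  intro A B hAΩ hA hAc hBΩ hB hBc
  have key : ∀ (C : Set Z), C ⊆ Ω → IsCompact C → ∀ i ∈ I, IsCompact (C ∩ ω i) := by
    intro C hCΩ hCc i hi
    have : C ∩ ω i = C ∩ closure (ω i) := by
      apply Set.Subset.antisymm
      · exact Set.inter_subset_inter_right _ subset_closure
      · rintro z ⟨hzC, hz⟩
        exact ⟨hzC, hcl i hi ⟨hz, hCΩ hzC⟩⟩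
    rw [this]
    exact hCc.inter_right isClosed_closure
  have hAB : A ∩ B = ⋃ i ∈ I, (A ∩ ω i) ∩ (B ∩ ω i) := by
    ext z
    simp only [Set.mem_inter_iff, Set.mem_iUnion, exists_prop]
    constructor
    · rintro ⟨hzA, hzB⟩
      obtain ⟨i, hi, hz⟩ := Set.mem_iUnion₂.mp (hcov (hAΩ hzA))
      exact ⟨i, hi, ⟨hzA, hz⟩, ⟨hzB, hz⟩⟩
    · rintro ⟨i, -, ⟨hzA, -⟩, ⟨hzB, -⟩⟩
      exact ⟨hzA, hzB⟩
  rw [hAB]
  refine hI.isCompact_biUnion (fun i hi => ?_)
  exact hqs i hi _ _ Set.inter_subset_right (hA.inter (hopen i hi)) (key A hAΩ hAc i hi)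
    Set.inter_subset_right (hB.inter (hopen i hi)) (key B hBΩ hBc i hi)

variable {X Y : Scheme.{u}}

/-- Local step: every nonempty open of the target contains a nonempty open over which a
quasi-finite morphism is finite. -/
theorem exists_isFinite_morphismRestrict_le (f : X ⟶ Y) [LocallyQuasiFinite f]
    [LocallyOfFiniteType f] [QuasiCompact f] (V₀ : Y.Opens) (hV₀ : (V₀ : Set Y).Nonempty) :
    ∃ V' : Y.Opens, V' ≤ V₀ ∧ (V' : Set Y).Nonempty ∧ IsFinite (f ∣_ V') := by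
  classical
  obtain ⟨y₀, hy₀⟩ := hV₀
  obtain ⟨_, ⟨V, hV, rfl⟩, hy₀V, hVV₀⟩ := Y.isBasis_affineOpens.exists_subset_of_mem_open
    hy₀ V₀.isOpen
  replace hV : IsAffineOpen V := hV
  obtain ⟨V, rfl⟩ : ∃ V' : Y.Opens, V' = V := ⟨V, rfl⟩
  have hc : IsCompact (f ⁻¹ᵁ V : Set X) := f.isCompact_preimage hV.isCompact
  obtain ⟨𝒰, h𝒰fin, h𝒰⟩ := isCompact_iff_finite_and_eq_biUnion_affineOpens.mp hc
  obtain ⟨hTc, hTnd⟩ := isNowhereDense_biUnion_of_isClosed h𝒰fin
    (fun W : X.affineOpens => frontier ((W : X.Opens) : Set X)) (fun _ _ => isClosed_frontier)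
    (fun W _ => isNowhereDense_frontier_of_isOpen (W : X.Opens).isOpen)
  set T : Set X := ⋃ W ∈ 𝒰, frontier ((W : X.Opens) : Set X) with hTdef
  have hfT := Groth.Agent.Lib.NDSch45.isNowhereDense_image f T hTc hTnd
  have hS : IsNowhereDense (closure (f '' T)) := hfT.closure
  have hdense : Dense (closure (f '' T))ᶜ :=
    (isClosed_isNowhereDense_iff_compl.mp ⟨isClosed_closure, hS⟩).2
  obtain ⟨y₁, hy₁V, hy₁S⟩ := hdense.inter_open_nonempty V V.isOpen ⟨y₀, hy₀V⟩
  let O : Y.Opens := ⟨(closure (f '' T))ᶜ, isClosed_closure.isOpen_compl⟩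
  obtain ⟨t, htO, hy₁t⟩ := hV.exists_basicOpen_le (V := O) ⟨y₁, hy₁S⟩ hy₁V
  have hDV : Y.basicOpen t ≤ V := Y.basicOpen_le t
  obtain ⟨η, hηD, hη⟩ := Groth.Agent.Lib.NDSch45.hasMinimalPoints_scheme Y (Y.basicOpen t)
    (Y.basicOpen t).isOpen ⟨y₁, hy₁t⟩
  have hqs : IsQuasiSeparated ((f ⁻¹ᵁ Y.basicOpen t : X.Opens) : Set X) := by
    refine isQuasiSeparated_of_finite_clopen_cover h𝒰fin _
      (fun W : X.affineOpens => ((W : X.Opens) : Set X)) ?_ ?_
      (fun W _ => W.2.isQuasiSeparated) (fun W _ => (W : X.Opens).isOpen)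
    · intro x hx
      have hx' : x ∈ f ⁻¹ᵁ V := hDV hx
      rw [h𝒰] at hx'
      simp only [Opens.mem_iSup] at hx'
      obtain ⟨W, hW, hxW⟩ := hx'
      exact Set.mem_biUnion hW hxW
    · rintro W hW x ⟨hxcl, hxD⟩
      by_contra hxW
      have hxfr : x ∈ frontier ((W : X.Opens) : Set X) :=
        ⟨hxcl, by rwa [(W : X.Opens).isOpen.interior_eq]⟩
      have hxT : x ∈ T := Set.mem_biUnion hW hxfr
      have h1 : f x ∈ closure (f '' T) := subset_closure ⟨x, hxT, rfl⟩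
      exact htO hxD h1
  have hfin := f.finite_preimage_singleton η
  have hFW : f ⁻¹' {η} ⊆ ((f ⁻¹ᵁ Y.basicOpen t : X.Opens) : Set X) := by
    intro x hx
    have hx' : f x = η := hx
    change f x ∈ Y.basicOpen t
    rw [hx']
    exact hηD
  obtain ⟨U, hU, hUW, hFU⟩ := exists_isAffineOpen_of_finite (f ⁻¹ᵁ Y.basicOpen t) hqs
    (f ⁻¹' {η}) hfin hFW
    (fun ξ hξ x hx => eq_of_specializes_of_finite_fibre f η hη hfin hξ hx)
  obtain ⟨V', -, hηV', hV'D, hfinite⟩ :=
    Groth.Agent.Lib.GenFinMain45.exists_isFinite_morphismRestrict_of_affine f η hη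
      (hV.basicOpen t) hηD hU hUW hFU hfin
  exact ⟨V', hV'D.trans (hDV.trans hVV₀), ⟨η, hηV'⟩, hfinite⟩

/-- A quasi-finite morphism is finite over a dense open subset of the target (Stacks 03I1). -/
theorem exists_dense_isFinite_morphismRestrict (f : X ⟶ Y) [LocallyQuasiFinite f]
    [LocallyOfFiniteType f] [QuasiCompact f] :
    ∃ U : Y.Opens, Dense (U : Set Y) ∧ IsFinite (f ∣_ U) := by
  refine ⟨⨆ i : {V' : Y.Opens // IsFinite (f ∣_ V')}, i.1, ?_,
    Groth.Agent.Lib.GenFinIrr45.isFinite_morphismRestrict_iSup f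
      (fun i : {V' : Y.Opens // IsFinite (f ∣_ V')} => i.1) (fun i => i.2)⟩
  rw [dense_iff_inter_open]
  intro O hO hOne
  obtain ⟨V', hV'O, ⟨z, hz⟩, hfin⟩ := exists_isFinite_morphismRestrict_le f ⟨O, hO⟩ hOne
  exact ⟨z, hV'O hz, Opens.mem_iSup.mpr ⟨⟨V', hfin⟩, hz⟩⟩

end Groth.Agent.Lib.QFDense45
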