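import Mathlib.Topology.Sheaves.Functors
import Mathlib.Topology.Sheaves.Skyscraper
import Mathlib.CategoryTheory.Sites.DenseSubsite.SheafEquiv
import Mathlib.CategoryTheory.Types.Basic
import Mathlib.Algebra.Category.Grp.Limits
import Mathlib.Algebra.Category.Grp.Colimits
import Mathlib.Algebra.Category.Grp.FilteredColimits

/-!
# Quasi-homeomorphisms and sheaf categories, part 1 (helper24)

If `f : X₀ ⟶ X` induces a bijection on open sets, then `Opens.map f` is a dense subsite,
so that pushforward of sheaves is an equivalence.
-/

set_option autoImplicit false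
universe w v u
open CategoryTheory TopologicalSpace Opposite

namespace Groth.Agent.Lib.QHomeo24

variable {X₀ X : TopCat.{u}} (f : X₀ ⟶ X)

lemma le_of_map_le (hf : Function.Injective (fun U : Opens X => (Opens.map f).obj U))
    {U V : Opens X} (h : (Opens.map f).obj U ≤ (Opens.map f).obj V) : U ≤ V := by
  have h1 : (Opens.map f).obj (U ⊓ V) = (Opens.map f).obj U := by
    ext x
    constructor
    · intro hx; exact hx.1
    · intro hx; exact ⟨hx, h hx⟩
  have := hf h1
  rw [← this]
  exact inf_le_right

lemma full_of_injective (hf : Function.Injective (fun U : Opens X => (Opens.map f).obj U)) :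
    (Opens.map f).Full where
  map_surjective {U V} g := ⟨homOfLE (le_of_map_le f hf (leOfHom g)), Subsingleton.elim _ _⟩

lemma isDenseSubsite_of_bijective
    (hf : Function.Bijective (fun U : Opens X => (Opens.map f).obj U)) :
    (Opens.map f).IsDenseSubsite (Opens.grothendieckTopology X) (Opens.grothendieckTopology X₀) := by
  haveI := full_of_injective f hf.1
  haveI : (Opens.map f).IsCoverDense (Opens.grothendieckTopology X₀) := by
    constructor
    intro U₀
    obtain ⟨U, rfl⟩ := hf.2 U₀
    have : Sieve.coverByImage (Opens.map f) ((Opens.map f).obj U) = ⊤ := by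
      ext W g
      simp only [Sieve.top_apply, iff_true]
      exact ⟨⟨U, g, 𝟙 _, by simp⟩⟩
    show Sieve.coverByImage (Opens.map f) ((Opens.map f).obj U) ∈ _
    rw [this]
    exact (Opens.grothendieckTopology X₀).top_mem _
  refine { functorPushforward_mem_iff := ?_ }
  intro U S
  constructor
  · intro H
    let U' : Opens X := sSup {V | ∃ g : V ⟶ U, S g}
    have hU' : U' ≤ U := sSup_le (fun V ⟨g, _⟩ => leOfHom g)
    have h1 : (Opens.map f).obj U ≤ (Opens.map f).obj U' := by
      intro x₀ hx₀
      obtain ⟨W, g, hg, hxW⟩ := H x₀ hx₀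
      obtain ⟨V, i, j, hi, -⟩ := hg
      have hV : V ≤ U' := le_sSup ⟨i, hi⟩
      exact hV (leOfHom j hxW)
    have h2 : U ≤ U' := le_of_map_le f hf.1 h1
    intro x hx
    have hx' := h2 hx
    simp only [U', Opens.mem_sSup] at hx'
    obtain ⟨V, ⟨g, hg⟩, hxV⟩ := hx'
    exact ⟨V, g, hg, hxV⟩
  · intro H
    exact (coverPreserving_opens_map f).cover_preserve H

lemma isEquivalence_pushforward_of_bijective (A : Type w) [Category.{v} A]
    [∀ U, Limits.HasLimitsOfShape (StructuredArrow U (Opens.map f).op) A]
    (hf : Function.Bijective (fun U : Opens X => (Opens.map f).obj U)) :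
    (TopCat.Sheaf.pushforward A f).IsEquivalence := by
  haveI := isDenseSubsite_of_bijective f hf
  exact inferInstanceAs ((Opens.map f).sheafPushforwardContinuous A
    (Opens.grothendieckTopology X) (Opens.grothendieckTopology X₀)).IsEquivalence

lemma isEquivalence_pullback_type_of_bijective
    (hf : Function.Bijective (fun U : Opens X => (Opens.map f).obj U)) :
    (TopCat.Sheaf.pullback (Type u) f).IsEquivalence := by
  haveI := isEquivalence_pushforward_of_bijective f (Type u) hf
  exact (TopCat.Sheaf.pullbackPushforwardAdjunction (Type u) f).isEquivalence_left_of_isEquivalence_right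

lemma isEquivalence_pullback_ab_of_bijective
    (hf : Function.Bijective (fun U : Opens X => (Opens.map f).obj U)) :
    (TopCat.Sheaf.pullback AddCommGrpCat.{u} f).IsEquivalence := by
  haveI := isEquivalence_pushforward_of_bijective f AddCommGrpCat.{u} hf
  exact (TopCat.Sheaf.pullbackPushforwardAdjunction AddCommGrpCat.{u} f).isEquivalence_left_of_isEquivalence_right

end Groth.Agent.Lib.QHomeo24
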