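import Groth.Agent.Lib.QHomeo24

/-!
# Quasi-homeomorphisms and sheaf categories, part 2 (helper24): injectivity from ess. surjectivity
-/

set_option autoImplicit false
universe w v u
open CategoryTheory TopologicalSpace Opposite Limits

namespace Groth.Agent.Lib.QHomeo24

variable {X₀ X : TopCat.{u}} (f : X₀ ⟶ X)

section Inj

variable (C : Type v) [Category.{u} C] [HasTerminal C]

open Classical in
lemma eq_of_le_of_map_eq [(TopCat.Sheaf.pushforward C f).EssSurj] (A₀ : C)
    (hA₀ : IsEmpty (A₀ ≅ ⊤_ C)) {U V : Opens X} (hVU : V ≤ U)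
    (h : (Opens.map f).obj V = (Opens.map f).obj U) : V = U := by
  by_contra hne
  have hUV : ¬ U ≤ V := fun h' => hne (le_antisymm hVU h')
  obtain ⟨x, hxU, hxV⟩ := SetLike.not_le_iff_exists.mp hUV
  let F : TopCat.Sheaf C X := skyscraperSheaf x A₀
  let G : TopCat.Sheaf C X₀ := (TopCat.Sheaf.pushforward C f).objPreimage F
  let e : (TopCat.Sheaf.pushforward C f).obj G ≅ F :=
    (TopCat.Sheaf.pushforward C f).objObjPreimageIso F
  let i : V ⟶ U := homOfLE hVU
  have h0 : IsIso ((Opens.map f).map i) :=
    ⟨homOfLE (le_of_eq h.symm), Subsingleton.elim _ _, Subsingleton.elim _ _⟩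
  have h1 : IsIso (((TopCat.Sheaf.pushforward C f).obj G).obj.map i.op) := by
    show IsIso (G.obj.map ((Opens.map f).map i).op)
    infer_instance
  have h2 : IsIso (F.obj.map i.op) := by
    have hn := e.hom.hom.naturality i.op
    have e1 : IsIso (e.hom.hom.app (op U)) := by
      have : IsIso e.hom.hom := (inferInstance : IsIso ((sheafToPresheaf _ _).map e.hom))
      infer_instance
    have e2 : IsIso (e.hom.hom.app (op V)) := by
      have : IsIso e.hom.hom := (inferInstance : IsIso ((sheafToPresheaf _ _).map e.hom))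
      infer_instance
    have : F.obj.map i.op = inv (e.hom.hom.app (op U)) ≫
        ((TopCat.Sheaf.pushforward C f).obj G).obj.map i.op ≫ e.hom.hom.app (op V) := by
      rw [IsIso.eq_inv_comp]
      exact hn.symm
    rw [this]
    infer_instance
  have a1 : F.obj.obj (op U) = A₀ := by
    show (if x ∈ U then A₀ else ⊤_ C) = A₀
    exact if_pos hxU
  have a2 : F.obj.obj (op V) = ⊤_ C := by
    show (if x ∈ V then A₀ else ⊤_ C) = ⊤_ C
    exact if_neg hxV
  exact hA₀.false ((eqToIso a1).symm ≪≫ asIso (F.obj.map i.op) ≪≫ eqToIso a2)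

open Classical in
lemma injective_of_essSurj [(TopCat.Sheaf.pushforward C f).EssSurj] (A₀ : C)
    (hA₀ : IsEmpty (A₀ ≅ ⊤_ C)) :
    Function.Injective (fun U : Opens X => (Opens.map f).obj U) := by
  intro U U' h
  replace h : (Opens.map f).obj U = (Opens.map f).obj U' := h
  have h1 : (Opens.map f).obj (U ⊓ U') = (Opens.map f).obj U := by
    ext x
    constructor
    · intro hx; exact hx.1
    · intro hx
      refine ⟨hx, ?_⟩
      have : x ∈ (Opens.map f).obj U' := h ▸ hx
      exact this
  have h2 : (Opens.map f).obj (U ⊓ U') = (Opens.map f).obj U' := by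
    rw [h1]; exact h
  have e1 := eq_of_le_of_map_eq f C A₀ hA₀ inf_le_left h1
  have e2 := eq_of_le_of_map_eq f C A₀ hA₀ inf_le_right h2
  exact e1.symm.trans e2

end Inj

end Groth.Agent.Lib.QHomeo24
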