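import Groth.Agent.Lib.QHomeo24b
import Mathlib.Topology.Sheaves.SheafCondition.UniqueGluing

/-!
# Quasi-homeomorphisms and sheaf categories, part 3 (helper24): surjectivity from fullness (sets)
-/

set_option autoImplicit false
universe w v u
open CategoryTheory TopologicalSpace Opposite Limits

namespace Groth.Agent.Lib.QHomeo24

variable {X₀ X : TopCat.{u}} (f : X₀ ⟶ X)

lemma isSheaf_yoneda (W : Opens X₀) : TopCat.Presheaf.IsSheaf (yoneda.obj W) := by
  apply TopCat.Presheaf.isSheaf_of_isSheafUniqueGluing_types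
  intro ι U sf _
  have h : iSup U ≤ W := iSup_le (fun i => leOfHom (sf i))
  refine ⟨homOfLE h, fun i => Subsingleton.elim (α := (U i ⟶ W)) _ _,
    fun _ _ => Subsingleton.elim (α := (iSup U ⟶ W)) _ _⟩

/-- the largest open of `X` whose preimage is contained in `U₀`. -/
def maxOpen (U₀ : Opens X₀) : Opens X := sSup {V | (Opens.map f).obj V ≤ U₀}

lemma map_maxOpen_le (U₀ : Opens X₀) : (Opens.map f).obj (maxOpen f U₀) ≤ U₀ := by
  intro x₀ hx₀
  have : f x₀ ∈ maxOpen f U₀ := hx₀
  simp only [maxOpen, Opens.mem_sSup] at this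
  obtain ⟨V, hV, hxV⟩ := this
  exact hV hxV

lemma le_maxOpen {U₀ : Opens X₀} {V : Opens X} (h : (Opens.map f).obj V ≤ U₀) :
    V ≤ maxOpen f U₀ := le_sSup h

lemma surjective_of_full_type [(TopCat.Sheaf.pushforward (Type u) f).Full] :
    Function.Surjective (fun U : Opens X => (Opens.map f).obj U) := by
  intro U₀
  refine ⟨maxOpen f U₀, le_antisymm (map_maxOpen_le f U₀) ?_⟩
  let h1 : TopCat.Sheaf (Type u) X₀ := ⟨yoneda.obj U₀, isSheaf_yoneda U₀⟩
  let h2 : TopCat.Sheaf (Type u) X₀ :=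
    ⟨yoneda.obj ((Opens.map f).obj (maxOpen f U₀)), isSheaf_yoneda _⟩
  let φ : (TopCat.Sheaf.pushforward (Type u) f).obj h1 ⟶
      (TopCat.Sheaf.pushforward (Type u) f).obj h2 :=
    ⟨{ app := fun V => TypeCat.ofHom (fun (g : (Opens.map f).obj V.unop ⟶ U₀) =>
          ((Opens.map f).map (homOfLE (le_maxOpen f (leOfHom g))) :
            (Opens.map f).obj V.unop ⟶ (Opens.map f).obj (maxOpen f U₀)))
       naturality := fun V V' i => by
          ext g
          exact Subsingleton.elim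
            (α := ((Opens.map f).obj V'.unop ⟶ (Opens.map f).obj (maxOpen f U₀))) _ _ }⟩
  obtain ⟨ψ, -⟩ := (TopCat.Sheaf.pushforward (Type u) f).map_surjective φ
  exact leOfHom (ψ.hom.app (op U₀) (𝟙 U₀))

end Groth.Agent.Lib.QHomeo24
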