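import Groth.Agent.Lib.QHomeo24c
import Mathlib.Topology.Sheaves.Stalks
import Mathlib.Algebra.Module.CharacterModule

/-!
# Quasi-homeomorphisms and sheaf categories, part 4 (helper24): the sheaf of all integer valued
functions on the trace of a subset, and surjectivity from fullness (abelian groups)
-/

set_option autoImplicit false
universe w v u
open CategoryTheory TopologicalSpace Opposite Limits

namespace Groth.Agent.Lib.QHomeo24

variable {X₀ X : TopCat.{u}} (f : X₀ ⟶ X)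

/-- restriction of functions -/
def resFun (S : Set X₀) {W W' : Opens X₀} (h : W' ≤ W) :
    ({s : X₀ // s ∈ W ∧ s ∈ S} → ℤ) →+ ({s : X₀ // s ∈ W' ∧ s ∈ S} → ℤ) where
  toFun g s := g ⟨s.1, h s.2.1, s.2.2⟩
  map_zero' := rfl
  map_add' _ _ := rfl

/-- The presheaf of all `ℤ`-valued functions on `W ∩ S`. -/
def allFunPresheaf (S : Set X₀) : TopCat.Presheaf AddCommGrpCat.{u} X₀ where
  obj W := AddCommGrpCat.of ({s : X₀ // s ∈ W.unop ∧ s ∈ S} → ℤ)
  map {W W'} i := AddCommGrpCat.ofHom (resFun S (leOfHom i.unop))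
  map_id W := by
    ext g
    rfl
  map_comp i j := by
    ext g
    rfl

lemma allFunPresheaf_map_apply (S : Set X₀) {W W' : Opens X₀} (i : W' ⟶ W)
    (g : {s : X₀ // s ∈ W ∧ s ∈ S} → ℤ) (s : {s : X₀ // s ∈ W' ∧ s ∈ S}) :
    ((allFunPresheaf S).map i.op g : {s : X₀ // s ∈ W' ∧ s ∈ S} → ℤ) s =
      g ⟨s.1, leOfHom i s.2.1, s.2.2⟩ := rfl

lemma allFunPresheaf_isSheaf (S : Set X₀) : (allFunPresheaf S).IsSheaf := by
  rw [TopCat.Presheaf.isSheaf_iff_isSheafUniqueGluing]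
  intro ι U sf hsf
  have hcompat : ∀ (i j : ι) (t : X₀) (hi : t ∈ U i) (hj : t ∈ U j) (hS : t ∈ S),
      (sf i : {s : X₀ // s ∈ U i ∧ s ∈ S} → ℤ) ⟨t, hi, hS⟩ =
        (sf j : {s : X₀ // s ∈ U j ∧ s ∈ S} → ℤ) ⟨t, hj, hS⟩ := by
    intro i j t hi hj hS
    have := congrFun (hsf i j) ⟨t, ⟨hi, hj⟩, hS⟩
    exact this
  have hex : ∀ t : {s : X₀ // s ∈ iSup U ∧ s ∈ S}, ∃ i, t.1 ∈ U i :=
    fun t => Opens.mem_iSup.mp t.2.1
  choose idx hidx using hex
  let s : {s : X₀ // s ∈ iSup U ∧ s ∈ S} → ℤ := fun t =>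
    (sf (idx t) : {s : X₀ // s ∈ U (idx t) ∧ s ∈ S} → ℤ) ⟨t.1, hidx t, t.2.2⟩
  refine ⟨s, ?_, ?_⟩
  · intro i
    funext t
    exact hcompat (idx ⟨t.1, Opens.leSupr U i |>.le t.2.1, t.2.2⟩) i t.1 (hidx _) t.2.1 t.2.2
  · intro s' hs'
    funext t
    have := congrFun (hs' (idx t)) ⟨t.1, hidx t, t.2.2⟩
    exact this

/-- The sheaf of all `ℤ`-valued functions on `W ∩ S`. -/
def allFunSheaf (S : Set X₀) : TopCat.Sheaf AddCommGrpCat.{u} X₀ :=
  ⟨allFunPresheaf S, allFunPresheaf_isSheaf S⟩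

end Groth.Agent.Lib.QHomeo24
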