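import Groth.Agent.Lib.QHomeo24d

/-!
# Quasi-homeomorphisms and sheaf categories, part 5 (helper24): surjectivity from fullness
(abelian groups)
-/

set_option autoImplicit false
universe w v u
open CategoryTheory TopologicalSpace Opposite Limits

namespace Groth.Agent.Lib.QHomeo24

variable {X₀ X : TopCat.{u}} (f : X₀ ⟶ X)

open Classical in
lemma pushforward_skyscraper_eq (x₀ : X₀) (A : AddCommGrpCat.{u}) :
    (TopCat.Presheaf.pushforward _ f).obj (skyscraperPresheaf x₀ A) =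
      skyscraperPresheaf (f x₀) A := rfl

lemma isIso_skyscraperPresheaf_map {Y : TopCat.{u}} (p₀ : Y) [∀ U : Opens Y, Decidable (p₀ ∈ U)]
    {C : Type v} [Category.{w} C] [HasTerminal C] (A : C) {U V : (Opens Y)ᵒᵖ} (i : U ⟶ V)
    (h : p₀ ∈ V.unop) : IsIso ((skyscraperPresheaf p₀ A).map i) := by
  have hU : p₀ ∈ U.unop := leOfHom i.unop h
  have e : (skyscraperPresheaf p₀ A).map i =
      eqToHom (by simp only [skyscraperPresheaf_obj, if_pos h, if_pos hU]) := by
    rw [skyscraperPresheaf_map, dif_pos h]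
    rfl
  rw [e]
  infer_instance

open Classical in
lemma surjective_of_full_ab [(TopCat.Sheaf.pushforward AddCommGrpCat.{u} f).Full] :
    Function.Surjective (fun U : Opens X => (Opens.map f).obj U) := by
  intro U₀
  refine ⟨maxOpen f U₀, le_antisymm (map_maxOpen_le f U₀) ?_⟩
  intro x₀ hx₀
  by_contra hx
  have hxU : f x₀ ∉ maxOpen f U₀ := hx
  let S : Set X₀ := (U₀ : Set X₀)ᶜ
  let P : TopCat.Sheaf AddCommGrpCat.{u} X₀ := allFunSheaf S
  let A : AddCommGrpCat.{u} := AddCommGrpCat.of (ULift.{u} (AddCircle (1:ℚ)))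
  let Sky : TopCat.Sheaf AddCommGrpCat.{u} X₀ := skyscraperSheaf x₀ A
  let Q : TopCat.Presheaf AddCommGrpCat.{u} X := (TopCat.Presheaf.pushforward _ f).obj P.obj
  let one : ToType (Q.obj (op ⊤)) :=
    (fun _ => (1 : ℤ) : {s : X₀ // s ∈ (Opens.map f).obj ⊤ ∧ s ∈ S} → ℤ)
  have hgerm : Q.germ ⊤ (f x₀) trivial one ≠ 0 := by
    intro h0
    have h0' : Q.germ ⊤ (f x₀) trivial one = Q.germ ⊤ (f x₀) trivial 0 := by
      rw [h0, map_zero]
    obtain ⟨W, hxW, iU, iV, e⟩ := Q.germ_eq (U := ⊤) (V := ⊤) (f x₀) trivial trivial _ _ h0'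
    have hW : (Opens.map f).obj W ≤ U₀ := by
      intro t ht
      by_contra htS
      have := congrFun e ⟨t, ht, htS⟩
      exact one_ne_zero this
    exact hxU (le_maxOpen f hW hxW)
  obtain ⟨c, hc⟩ := CharacterModule.exists_character_apply_ne_zero_of_ne_zero hgerm
  let c₀ : ↑(Q.stalk (f x₀)) →+ AddCircle (1 : ℚ) := c
  have hc₀ : c₀ (Q.germ ⊤ (f x₀) trivial one) ≠ 0 := hc
  let c' : Q.stalk (f x₀) ⟶ A :=
    AddCommGrpCat.ofHom ((AddEquiv.ulift.symm :
      AddCircle (1 : ℚ) ≃+ ULift.{u} (AddCircle (1 : ℚ))).toAddMonoidHom.comp c₀)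
  have hc' : c' (Q.germ ⊤ (f x₀) trivial one) ≠ 0 := by
    intro h0
    apply hc₀
    have : (AddEquiv.ulift.symm : AddCircle (1 : ℚ) ≃+ ULift.{u} (AddCircle (1 : ℚ)))
        (c₀ (Q.germ ⊤ (f x₀) trivial one)) = 0 := h0
    exact (AddEquiv.map_eq_zero_iff _).mp this
  let Φ₀ : Q ⟶ skyscraperPresheaf (f x₀) A :=
    StalkSkyscraperPresheafAdjunctionAuxs.toSkyscraperPresheaf (f x₀) c'
  let Φ : (TopCat.Sheaf.pushforward _ f).obj P ⟶ (TopCat.Sheaf.pushforward _ f).obj Sky :=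
    ObjectProperty.homMk Φ₀
  obtain ⟨Ψ, hΨ⟩ := (TopCat.Sheaf.pushforward _ f).map_surjective Φ
  have h1 : Φ₀.app (op ⊤) = Ψ.hom.app (op ((Opens.map f).obj ⊤)) := by
    have := congr(($hΨ).hom.app (op ⊤))
    exact this.symm
  -- the left hand side does not kill `one`
  have h2 : Φ₀.app (op ⊤) one ≠ 0 := by
    have hΦ : Φ₀.app (op ⊤) = Q.germ ⊤ (f x₀) trivial ≫ c' ≫
        eqToHom (if_pos (show f x₀ ∈ (⊤ : Opens X) from trivial)).symm := by
      simp only [Φ₀, StalkSkyscraperPresheafAdjunctionAuxs.toSkyscraperPresheaf_app]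
      exact dif_pos trivial
    rw [hΦ]
    intro h0
    apply hc'
    have hinj := (ConcreteCategory.bijective_of_isIso
      (eqToHom (if_pos (show f x₀ ∈ (⊤ : Opens X) from trivial)).symm :
        A ⟶ (if f x₀ ∈ (⊤ : Opens X) then A else ⊤_ AddCommGrpCat.{u}))).1
    apply hinj
    rw [map_zero]
    exact h0
  -- the right hand side does
  have h3 : Ψ.hom.app (op ((Opens.map f).obj ⊤)) one = 0 := by
    let j : U₀ ⟶ (Opens.map f).obj ⊤ := homOfLE (fun _ _ => trivial)
    have hn := Ψ.hom.naturality j.op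
    have hiso : IsIso (Sky.obj.map j.op) := by
      show IsIso ((skyscraperPresheaf x₀ A).map j.op)
      exact isIso_skyscraperPresheaf_map x₀ A j.op hx₀
    have hinj := (ConcreteCategory.bijective_of_isIso (Sky.obj.map j.op)).1
    apply hinj
    rw [map_zero]
    have h4 : (P.obj.map j.op ≫ Ψ.hom.app (op U₀)) one =
        (Ψ.hom.app (op ((Opens.map f).obj ⊤)) ≫ Sky.obj.map j.op) one := by rw [hn]
    rw [ConcreteCategory.comp_apply, ConcreteCategory.comp_apply] at h4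
    rw [← h4]
    have h5 : P.obj.map j.op one = 0 := by
      funext t
      exact (t.2.2 t.2.1).elim
    rw [h5, map_zero]
  rw [h1] at h2
  exact h2 h3

end Groth.Agent.Lib.QHomeo24
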