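import Mathlib
import Groth.Agent.S3213

/-!
# q-linear maps over separably closed fields (Lang-type results)

`k` separably closed of characteristic `p`, `q = p ^ r` (`r > 0`), `V` finite-dimensional,
`φ : V →+ V` with `φ (c • v) = c ^ q • φ v`.

* `exists_fixed_ne_zero`: if all iterates `φ^[n] t` are nonzero there is a nonzero fixed vector in
  the span of the iterates of `t`.
* `injective_of_span_range`: a semisimple (`span (range φ) = ⊤`) q-linear map is injective.
* `span_fixed_eq_top`: for semisimple `φ` the fixed vectors span `V`.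
* `exists_basis_fixed`: hence `V` has a basis (indexed by `Fin (finrank k V)`) of fixed vectors.
* `iterate_smul`, `iterate_sum_smul_fixed`, `repr_pow_eq_of_iterate_fixed`: bookkeeping lemmas.
-/

set_option autoImplicit false
set_option linter.unusedSectionVars false

namespace Groth.Agent.Lib.QLinear27

open Polynomial

universe u v

section Poly

variable {k : Type u} [Field k]

/-- Coordinate polynomials of the homogeneous fixed-vector equations. -/
noncomputable def Yp (q : ℕ) (c : ℕ → k) : ℕ → k[X]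
  | 0 => C (c 0) * X ^ q
  | (i + 1) => (Yp q c i) ^ q + C (c (i + 1)) * X ^ q

theorem derivative_Yp (q : ℕ) (hq : ((q : ℕ) : k[X]) = 0) (c : ℕ → k) (i : ℕ) :
    derivative (Yp q c i) = 0 := by
  cases i with
  | zero => simp [Yp, derivative_X_pow, hq]
  | succ i => simp [Yp, derivative_pow, hq]

theorem X_pow_dvd_Yp (q : ℕ) (hq : 0 < q) (c : ℕ → k) (i : ℕ) : X ^ q ∣ Yp q c i := by
  induction i with
  | zero => exact Dvd.intro_left _ rfl
  | succ i ih =>
    rw [Yp]
    refine dvd_add ?_ (Dvd.intro_left _ rfl)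
    exact dvd_trans ih (dvd_pow_self _ hq.ne')

theorem Yp_succ_ne_zero (q : ℕ) (hq : 2 ≤ q) (c : ℕ → k) (i : ℕ) (h : Yp q c i ≠ 0) :
    Yp q c (i + 1) ≠ 0 := by
  intro h0
  rw [Yp] at h0
  have h1 : (Yp q c i) ^ q = - (C (c (i + 1)) * X ^ q) := eq_neg_of_add_eq_zero_left h0
  have hd : q ≤ (Yp q c i).natDegree := by
    obtain ⟨R, hR⟩ := X_pow_dvd_Yp q (by omega) c i
    have hR0 : R ≠ 0 := by
      rintro rfl
      rw [mul_zero] at hR
      exact h hR
    rw [hR, natDegree_mul (pow_ne_zero _ X_ne_zero) hR0, natDegree_X_pow]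
    omega
  have h2 : ((Yp q c i) ^ q).natDegree = q * (Yp q c i).natDegree := natDegree_pow _ _
  have h3 : (- (C (c (i + 1)) * X ^ q)).natDegree ≤ q := by
    rw [natDegree_neg]
    exact (natDegree_C_mul_X_pow_le _ _)
  rw [h1] at h2
  have : q * (Yp q c i).natDegree ≤ q := by rw [← h2]; exact h3
  nlinarith

theorem Yp_ne_zero (q : ℕ) (hq : 2 ≤ q) (c : ℕ → k) (i : ℕ) (h : ∃ j ≤ i, c j ≠ 0) :
    Yp q c i ≠ 0 := by
  induction i with
  | zero =>
    obtain ⟨j, hj, hcj⟩ := h
    have : j = 0 := by omega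
    subst this
    rw [Yp]
    exact mul_ne_zero (C_ne_zero.mpr hcj) (pow_ne_zero _ X_ne_zero)
  | succ i ih =>
    by_cases hi : Yp q c i = 0
    · obtain ⟨j, hj, hcj⟩ := h
      by_cases hji : j ≤ i
      · exact absurd hi (ih ⟨j, hji, hcj⟩)
      · have : j = i + 1 := by omega
        subst this
        rw [Yp, hi, zero_pow (by omega), zero_add]
        exact mul_ne_zero (C_ne_zero.mpr hcj) (pow_ne_zero _ X_ne_zero)
    · exact Yp_succ_ne_zero q hq c i hi

/-- A nonzero root `y` of `Yp q c i - X` when `Yp q c i ≠ 0`, over a separably closed field. -/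
theorem exists_root_ne_zero [IsSepClosed k] (q : ℕ) (hq : 2 ≤ q) (hq0 : ((q : ℕ) : k[X]) = 0)
    (c : ℕ → k) (i : ℕ) (h : Yp q c i ≠ 0) :
    ∃ y : k, y ≠ 0 ∧ eval y (Yp q c i) = y := by
  obtain ⟨R, hR⟩ := X_pow_dvd_Yp q (by omega) c i
  have hR0 : R ≠ 0 := by
    rintro rfl
    rw [mul_zero] at hR
    exact h hR
  set H : k[X] := X ^ (q - 1) * R - 1 with hH
  have hG : Yp q c i - X = X * H := by
    have hq1 : q - 1 + 1 = q := by omega
    rw [hH, hR, mul_sub, mul_one, ← mul_assoc, ← pow_succ', hq1]
  have hGder : derivative (Yp q c i - X) = -1 := by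
    rw [derivative_sub, derivative_Yp q hq0, derivative_X, zero_sub]
  have hGsep : (Yp q c i - X).Separable := by
    rw [separable_def, hGder]
    exact isCoprime_one_right.neg_right
  have hHsep : H.Separable := by
    rw [hG] at hGsep
    exact hGsep.of_mul_right
  have hXR : (X ^ (q - 1) * R).natDegree = (q - 1) + R.natDegree := by
    rw [natDegree_mul (pow_ne_zero _ X_ne_zero) hR0, natDegree_X_pow]
  have hHdeg : H.degree ≠ 0 := by
    intro h0
    have h1 : H.natDegree = 0 := natDegree_eq_of_degree_eq_some h0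
    have h2 : H.natDegree = (X ^ (q - 1) * R).natDegree := by
      rw [hH]
      apply natDegree_sub_eq_left_of_natDegree_lt
      rw [natDegree_one, hXR]
      omega
    rw [h2, hXR] at h1
    omega
  obtain ⟨y, hy⟩ := IsSepClosed.exists_root H hHdeg hHsep
  have hy' : eval y H = 0 := hy
  refine ⟨y, ?_, ?_⟩
  · rintro rfl
    rw [hH, eval_sub, eval_mul, eval_pow, eval_X, eval_one, zero_pow (by omega), zero_mul,
      zero_sub] at hy'
    exact one_ne_zero (neg_eq_zero.mp hy')
  · have : eval y (Yp q c i - X) = 0 := by rw [hG, eval_mul, hy', mul_zero]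
    rw [eval_sub, eval_X, sub_eq_zero] at this
    exact this

end Poly

section Fixed

variable (k : Type u) [Field k] [IsSepClosed k] (p : ℕ) [Fact p.Prime] [CharP k p]
  (r : ℕ) (hr : 0 < r) (V : Type v) [AddCommGroup V] [Module k V] [FiniteDimensional k V]
  (φ : V →+ V) (hφ : ∀ (c : k) (v : V), φ (c • v) = c ^ (p ^ r) • φ v)

include hr in
theorem q_ge_two : 2 ≤ p ^ r := by
  have hp := (Fact.out : p.Prime).two_le
  calc 2 ≤ p := hp
    _ = p ^ 1 := (pow_one p).symm
    _ ≤ p ^ r := Nat.pow_le_pow_right (by omega) hr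

include hr in
theorem q_cast_poly : (((p ^ r : ℕ) : ℕ) : k[X]) = 0 := by
  have h1 : ((p ^ r : ℕ) : k) = 0 := by
    rw [CharP.cast_eq_zero_iff k p]
    exact dvd_pow_self p (by omega)
  rw [← map_natCast (Polynomial.C : k →+* Polynomial k), h1, map_zero]

include hr hφ in
/-- If all iterates of `t` under `φ` are nonzero, there is a nonzero `φ`-fixed vector in the span of
the iterates of `t`. -/
theorem exists_fixed_ne_zero (t : V) (ht : ∀ n : ℕ, (⇑φ)^[n] t ≠ 0) :
    ∃ u ∈ Submodule.span k (Set.range fun n : ℕ => (⇑φ)^[n] t), u ≠ 0 ∧ φ u = u := by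
  classical
  set q := p ^ r with hq
  have hq2 : 2 ≤ q := q_ge_two p r hr
  have hq0 : ((q : ℕ) : Polynomial k) = 0 := q_cast_poly k p r hr
  set w : ℕ → V := fun i => (⇑φ)^[i] t with hw
  have hwsucc : ∀ i, φ (w i) = w (i + 1) := fun i => (Function.iterate_succ_apply' _ _ _).symm
  have hex := Groth.Agent.S3213.exists_mem_span (k := k) w
  set m := Nat.find hex with hm_def
  have hm : w m ∈ Submodule.span k (Set.range fun i : Fin m => w i) := Nat.find_spec hex
  have hmin : ∀ j < m, w j ∉ Submodule.span k (Set.range fun i : Fin j => w i) :=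
    fun j hj => Nat.find_min hex hj
  obtain ⟨c₀, hc₀⟩ := (Submodule.mem_span_range_iff_exists_fun k).mp hm
  set c : ℕ → k := fun i => if h : i < m then c₀ ⟨i, h⟩ else 0 with hc
  have hrel : w m = ∑ i ∈ Finset.range m, c i • w i := by
    rw [← hc₀, ← Fin.sum_univ_eq_sum_range (fun i => c i • w i) m]
    refine Finset.sum_congr rfl fun i _ => ?_
    simp [hc, i.2]
  have hm0 : m ≠ 0 := by
    intro h0
    rw [h0] at hrel
    simp only [Finset.range_zero, Finset.sum_empty] at hrel
    exact ht 0 hrel
  obtain ⟨m', hm'⟩ : ∃ m', m = m' + 1 := ⟨m - 1, by omega⟩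
  -- some coefficient is nonzero
  have hcne : ∃ j ≤ m', c j ≠ 0 := by
    by_contra hall
    push Not at hall
    apply ht m
    change w m = 0
    rw [hrel]
    apply Finset.sum_eq_zero
    intro i hi
    rw [Finset.mem_range] at hi
    rw [hall i (by omega), zero_smul]
  have hYne : Yp q c m' ≠ 0 := Yp_ne_zero q hq2 c m' hcne
  obtain ⟨y, hy0, hy⟩ := exists_root_ne_zero q hq2 hq0 c m' hYne
  set x : ℕ → k := fun i => Polynomial.eval y (Yp q c i) with hx
  have hx0 : x 0 = c 0 * y ^ q := by simp [hx, Yp]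
  have hxsucc : ∀ i, x (i + 1) = (x i) ^ q + c (i + 1) * y ^ q := fun i => by simp [hx, Yp]
  have hxm : x m' = y := hy
  refine ⟨∑ i ∈ Finset.range (m' + 1), x i • w i, ?_, ?_, ?_⟩
  · refine Submodule.sum_mem _ fun i _ => Submodule.smul_mem _ _ (Submodule.subset_span ⟨i, rfl⟩)
  · -- nonzero: else w m' lies in the span of the previous ones
    intro h0
    rw [Finset.sum_range_succ, hxm] at h0
    apply hmin m' (by omega)
    have h1 : w m' = - y⁻¹ • ∑ i ∈ Finset.range m', x i • w i := by
      have h2 : y • w m' = - ∑ i ∈ Finset.range m', x i • w i := by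
        rw [eq_neg_iff_add_eq_zero, add_comm]
        exact h0
      rw [neg_smul, ← smul_neg, ← h2, smul_smul, inv_mul_cancel₀ hy0, one_smul]
    rw [h1]
    refine Submodule.smul_mem _ _ (Submodule.sum_mem _ fun i hi => ?_)
    rw [Finset.mem_range] at hi
    exact Submodule.smul_mem _ _ (Submodule.subset_span ⟨⟨i, hi⟩, rfl⟩)
  · have hφsum : φ (∑ i ∈ Finset.range (m' + 1), x i • w i) =
        ∑ i ∈ Finset.range m', (x i) ^ q • w (i + 1) +
          y ^ q • (∑ i ∈ Finset.range m', c (i + 1) • w (i + 1) + c 0 • w 0) := by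
      rw [map_sum, Finset.sum_range_succ]
      congr 1
      · refine Finset.sum_congr rfl fun i _ => ?_
        rw [hφ, hwsucc]
      · rw [hφ, hwsucc, hxm, ← hm', hrel, hm', Finset.sum_range_succ']
    have hsum : ∑ i ∈ Finset.range (m' + 1), x i • w i =
        (∑ i ∈ Finset.range m', (x i) ^ q • w (i + 1) +
          y ^ q • ∑ i ∈ Finset.range m', c (i + 1) • w (i + 1)) + (c 0 * y ^ q) • w 0 := by
      rw [Finset.sum_range_succ', hx0]
      congr 1
      rw [Finset.smul_sum, ← Finset.sum_add_distrib]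
      refine Finset.sum_congr rfl fun i _ => ?_
      rw [hxsucc, add_smul, smul_smul, mul_comm]
    rw [hφsum, hsum]
    module

omit [IsSepClosed k] [FiniteDimensional k V] in
include hφ in
theorem iterate_smul (n : ℕ) (c : k) (v : V) :
    (⇑φ)^[n] (c • v) = c ^ ((p ^ r) ^ n) • (⇑φ)^[n] v := by
  induction n generalizing c v with
  | zero => simp
  | succ n ih =>
    rw [Function.iterate_succ_apply, Function.iterate_succ_apply, hφ, ih, ← pow_mul, pow_succ']

omit [IsSepClosed k] [FiniteDimensional k V] in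
theorem iterate_fixed (n : ℕ) (v : V) (hv : φ v = v) : (⇑φ)^[n] v = v :=
  Function.iterate_fixed hv n

omit [IsSepClosed k] in
include hφ hr in
/-- A semisimple q-linear map is injective. -/
theorem injective_of_span_range (hss : Submodule.span k (Set.range φ) = ⊤) :
    Function.Injective φ := by
  classical
  set b := Module.finBasis k V with hb
  have hspan : ⊤ ≤ Submodule.span k (Set.range fun i => φ (b i)) := by
    rw [← hss, Submodule.span_le]
    rintro _ ⟨v, rfl⟩
    have hv : v = ∑ i, b.repr v i • b i := (b.sum_repr v).symm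
    rw [hv, map_sum]
    refine Submodule.sum_mem _ fun i _ => ?_
    rw [hφ]
    exact Submodule.smul_mem _ _ (Submodule.subset_span ⟨i, rfl⟩)
  have hli : LinearIndependent k (fun i => φ (b i)) :=
    linearIndependent_of_top_le_span_of_card_eq_finrank hspan (by simp)
  rw [injective_iff_map_eq_zero]
  intro v hv
  have hv' : v = ∑ i, b.repr v i • b i := (b.sum_repr v).symm
  rw [hv', map_sum] at hv
  simp only [hφ] at hv
  have h0 := Fintype.linearIndependent_iff.mp hli (fun i => (b.repr v i) ^ (p ^ r)) hv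
  have h1 : ∀ i, b.repr v i = 0 := fun i => by
    have := h0 i
    exact pow_eq_zero_iff (by have := q_ge_two p r hr; omega) |>.mp this
  rw [hv']
  exact Finset.sum_eq_zero fun i _ => by rw [h1 i, zero_smul]

include hr hφ in
/-- For a semisimple q-linear map over a separably closed field the fixed vectors span. -/
theorem span_fixed_eq_top (hss : Submodule.span k (Set.range φ) = ⊤) :
    Submodule.span k {v : V | φ v = v} = ⊤ := by
  classical
  set W := Submodule.span k {v : V | φ v = v} with hW
  by_contra hne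
  have hstab : ∀ x ∈ W, φ x ∈ W := by
    intro x hx
    induction hx using Submodule.span_induction with
    | mem y hy => rw [show φ y = y from hy]; exact Submodule.subset_span hy
    | zero => rw [map_zero]; exact W.zero_mem
    | add y z _ _ hy hz => rw [map_add]; exact W.add_mem hy hz
    | smul c y _ hy => rw [hφ]; exact W.smul_mem _ hy
  -- semilinear packaging
  let σ : k →+* k := iterateFrobenius k p r
  let φs : V →ₛₗ[σ] V :=
    { toFun := φ
      map_add' := map_add φ
      map_smul' := fun c v => by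
        rw [hφ]
        rfl }
  have hle : W ≤ W.comap φs := fun x hx => hstab x hx
  let φQ : (V ⧸ W) →ₛₗ[σ] (V ⧸ W) := Submodule.mapQ W W φs hle
  have hφQ : ∀ (c : k) (x : V ⧸ W), φQ.toAddMonoidHom (c • x) = c ^ (p ^ r) • φQ.toAddMonoidHom x := by
    intro c x
    change φQ (c • x) = c ^ (p ^ r) • φQ x
    rw [map_smulₛₗ]
    rfl
  have hφQmk : ∀ v : V, φQ (W.mkQ v) = W.mkQ (φ v) := fun v => rfl
  have hssQ : Submodule.span k (Set.range φQ.toAddMonoidHom) = ⊤ := by
    rw [eq_top_iff]
    rintro x -
    obtain ⟨v, rfl⟩ := W.mkQ_surjective x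
    have hv : v ∈ Submodule.span k (Set.range φ) := by rw [hss]; trivial
    induction hv using Submodule.span_induction with
    | mem y hy =>
      obtain ⟨z, rfl⟩ := hy
      exact Submodule.subset_span ⟨W.mkQ z, hφQmk z⟩
    | zero => rw [map_zero]; exact Submodule.zero_mem _
    | add y z _ _ hy hz => rw [map_add]; exact Submodule.add_mem _ hy hz
    | smul c y _ hy => rw [map_smul]; exact Submodule.smul_mem _ _ hy
  have hinjQ : Function.Injective φQ.toAddMonoidHom :=
    injective_of_span_range k p r hr (V ⧸ W) φQ.toAddMonoidHom hφQ hssQ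
  obtain ⟨t, -, ht⟩ : ∃ t ∈ (⊤ : Submodule k V), t ∉ W := by
    by_contra hall
    push Not at hall
    exact hne (eq_top_iff.mpr fun x hx => hall x hx)
  have htQ : W.mkQ t ≠ 0 := by
    intro h0
    exact ht ((Submodule.Quotient.mk_eq_zero W).mp h0)
  have hiter : ∀ n : ℕ, (⇑φQ.toAddMonoidHom)^[n] (W.mkQ t) ≠ 0 := by
    intro n h0
    apply htQ
    apply (hinjQ.iterate n)
    rw [h0]
    exact (iterate_map_zero φQ.toAddMonoidHom n).symm
  obtain ⟨ubar, -, hubar0, hubar⟩ :=
    exists_fixed_ne_zero k p r hr (V ⧸ W) φQ.toAddMonoidHom hφQ (W.mkQ t) hiter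
  obtain ⟨u, rfl⟩ := W.mkQ_surjective ubar
  have hdiff : φ u - u ∈ W := by
    rw [← Submodule.Quotient.mk_eq_zero W]
    change W.mkQ (φ u - u) = 0
    rw [map_sub, ← hφQmk u]
    exact sub_eq_zero.mpr hubar
  -- restriction to W
  let φW : W →+ W :=
    { toFun := fun x => ⟨φ x, hstab x x.2⟩
      map_zero' := by ext; simp
      map_add' := fun x y => by ext; simp }
  have hφW : ∀ (c : k) (x : W), φW (c • x) = c ^ (p ^ r) • φW x := by
    intro c x
    ext
    change φ (c • (x : V)) = c ^ (p ^ r) • φ (x : V)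
    exact hφ c x
  obtain ⟨w, hw⟩ := Groth.Agent.S3213.result k p r hr W φW hφW ⟨φ u - u, hdiff⟩
  have hw' : (w : V) - φ (w : V) = φ u - u := congrArg Subtype.val hw
  have hfix : φ (u + w) = u + w := by
    rw [map_add]
    have : φ (w : V) = (w : V) - (φ u - u) := by rw [← hw']; abel
    rw [this]
    abel
  have hmem : u + (w : V) ∈ W := Submodule.subset_span hfix
  have hu : u ∈ W := by
    have := W.sub_mem hmem w.2
    simpa using this
  exact hubar0 ((Submodule.Quotient.mk_eq_zero W).mpr hu)

include hr hφ in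
/-- For a semisimple q-linear map over a separably closed field there is a basis of fixed vectors. -/
theorem exists_basis_fixed (hss : Submodule.span k (Set.range φ) = ⊤) :
    ∃ b : Module.Basis (Fin (Module.finrank k V)) k V, ∀ i, φ (b i) = b i := by
  classical
  have hspan : ⊤ ≤ Submodule.span k {v : V | φ v = v} :=
    (span_fixed_eq_top k p r hr V φ hφ hss).ge
  set b₀ := Module.Basis.ofSpan hspan with hb₀
  have hb₀fix : ∀ i, φ (b₀ i) = b₀ i := by
    intro i
    have := Module.Basis.ofSpan_subset hspan ⟨i, rfl⟩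
    exact this
  have : Finite ((linearIndepOn_empty k id).extend (Set.empty_subset {v : V | φ v = v})) :=
    Module.Finite.finite_basis b₀
  let _ : Fintype ((linearIndepOn_empty k id).extend (Set.empty_subset {v : V | φ v = v})) :=
    Fintype.ofFinite _
  have hcard : Fintype.card ((linearIndepOn_empty k id).extend
      (Set.empty_subset {v : V | φ v = v})) = Module.finrank k V :=
    (Module.finrank_eq_card_basis b₀).symm
  refine ⟨b₀.reindex (Fintype.equivFinOfCardEq hcard), fun i => ?_⟩
  rw [Module.Basis.reindex_apply]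
  exact hb₀fix _

omit [IsSepClosed k] [FiniteDimensional k V] in
include hφ in
theorem iterate_sum_smul_fixed {ι : Type*} (s : Finset ι) (c : ι → k) (w : ι → V)
    (hw : ∀ i ∈ s, φ (w i) = w i) (n : ℕ) :
    (⇑φ)^[n] (∑ i ∈ s, c i • w i) = ∑ i ∈ s, c i ^ ((p ^ r) ^ n) • w i := by
  induction n generalizing c with
  | zero => simp
  | succ n ih =>
    rw [Function.iterate_succ_apply, map_sum]
    have : ∑ i ∈ s, φ (c i • w i) = ∑ i ∈ s, (c i ^ (p ^ r)) • w i :=
      Finset.sum_congr rfl fun i hi => by rw [hφ, hw i hi]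
    rw [this, ih]
    refine Finset.sum_congr rfl fun i _ => ?_
    rw [← pow_mul, pow_succ']

omit [IsSepClosed k] [FiniteDimensional k V] in
include hφ in
/-- Coordinates of a `φ^[n]`-fixed vector in a basis of `φ`-fixed vectors are fixed by `c ↦ c^(q^n)`. -/
theorem repr_pow_eq_of_iterate_fixed {ι : Type*} [Fintype ι] (b : Module.Basis ι k V)
    (hb : ∀ i, φ (b i) = b i) (n : ℕ) (v : V) (hv : (⇑φ)^[n] v = v) (i : ι) :
    (b.repr v i) ^ ((p ^ r) ^ n) = b.repr v i := by
  classical
  have h1 : (⇑φ)^[n] v = ∑ j, (b.repr v j) ^ ((p ^ r) ^ n) • b j := by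
    conv_lhs => rw [← b.sum_repr v]
    exact iterate_sum_smul_fixed k p r V φ hφ Finset.univ _ _ (fun j _ => hb j) n
  rw [hv] at h1
  have h2 := congrArg (fun x => b.repr x i) h1
  simp only [map_sum, map_smul, Module.Basis.repr_self, Finsupp.smul_single, smul_eq_mul,
    mul_one, Finsupp.coe_finsetSum, Finset.sum_apply, Finsupp.single_apply,
    Finset.sum_ite_eq', Finset.mem_univ, if_true] at h2
  exact h2.symm

end Fixed

end Groth.Agent.Lib.QLinear27
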