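import Mathlib

/-!
# Tools for Mathlib's `SymmetricPower` (helper1)

* `symLift`: universal property (linear maps out of `Sym[R] ι M` from symmetric multilinear maps);
* `induction_on`, `ext_tprod`;
* `descend`: a multilinear map vanishing as soon as one argument is in the kernel of a surjection
  descends along that surjection;
* `smul_eq_zero_of_forall_smul_eq_zero`: scalars killing `M` kill `Sym[R] ι M` for nonempty `ι`;
* words and monomials: `expo w`, `exists_word`, `exists_perm_of_expo_eq`, `tprod_comp_eq_of_expo_eq`,
  `prod_comp_word`.
-/

set_option autoImplicit false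
set_option linter.style.haveILetI false
set_option linter.unusedSectionVars false

universe u v w

open scoped TensorProduct

namespace Groth.Agent.Lib.SymPowH1

noncomputable section

section SymLift

variable {R : Type u} [CommRing R] {ι : Type u} {M : Type v} [AddCommGroup M] [Module R M]
  {N : Type w} [AddCommGroup N] [Module R N]

/-- additive version of the lift of a symmetric multilinear map to the symmetric power. -/
def symLiftAdd (g : MultilinearMap R (fun _ : ι => M) N)
    (hg : ∀ (e : Equiv.Perm ι) (f : ι → M), g (fun i => f (e i)) = g f) :
    SymmetricPower R ι M →+ N :=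
  AddCon.lift _ (PiTensorProduct.lift g).toAddMonoidHom (AddCon.addConGen_le.mpr (by
    rintro x y ⟨e, f⟩
    rw [AddCon.ker_rel, LinearMap.toAddMonoidHom_coe, PiTensorProduct.lift.tprod,
      PiTensorProduct.lift.tprod, hg]))

/-- the lift of a symmetric multilinear map to the symmetric power. -/
def symLift (g : MultilinearMap R (fun _ : ι => M) N)
    (hg : ∀ (e : Equiv.Perm ι) (f : ι → M), g (fun i => f (e i)) = g f) :
    SymmetricPower R ι M →ₗ[R] N where
  toFun := symLiftAdd g hg
  map_add' := map_add _
  map_smul' r x := by
    induction x using AddCon.induction_on with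
    | H x =>
      change PiTensorProduct.lift g (r • x) = r • PiTensorProduct.lift g x
      rw [map_smul]

lemma symLift_tprod (g : MultilinearMap R (fun _ : ι => M) N)
    (hg : ∀ (e : Equiv.Perm ι) (f : ι → M), g (fun i => f (e i)) = g f) (f : ι → M) :
    symLift g hg (SymmetricPower.tprod R f) = g f := by
  change PiTensorProduct.lift g (PiTensorProduct.tprod R f) = g f
  rw [PiTensorProduct.lift.tprod]

/-- induction principle for the symmetric power. -/
lemma induction_on {p : SymmetricPower R ι M → Prop} (x : SymmetricPower R ι M)
    (zero : p 0) (tprod : ∀ m : ι → M, p (SymmetricPower.tprod R m))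
    (add : ∀ x y, p x → p y → p (x + y)) (smul : ∀ (r : R) x, p x → p (r • x)) : p x := by
  have hx : x ∈ Submodule.span R (Set.range (SymmetricPower.tprod R (ι := ι) (M := M))) := by
    rw [SymmetricPower.span_tprod_eq_top]; exact Submodule.mem_top
  induction hx using Submodule.span_induction with
  | mem y hy => obtain ⟨m, rfl⟩ := hy; exact tprod m
  | zero => exact zero
  | add y z _ _ hy hz => exact add y z hy hz
  | smul r y _ hy => exact smul r y hy

lemma ext_tprod {f g : SymmetricPower R ι M →ₗ[R] N}
    (h : ∀ m : ι → M, f (SymmetricPower.tprod R m) = g (SymmetricPower.tprod R m)) : f = g := by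
  ext x
  induction x using induction_on with
  | zero => simp
  | tprod m => exact h m
  | add x y hx hy => rw [map_add, map_add, hx, hy]
  | smul r x hx => rw [map_smul, map_smul, hx]

/-- scalars killing `M` kill the symmetric power over a nonempty index type. -/
lemma smul_eq_zero_of_forall_smul_eq_zero [Nonempty ι] (r : R) (hr : ∀ m : M, r • m = 0)
    (x : SymmetricPower R ι M) : r • x = 0 := by
  classical
  induction x using induction_on with
  | zero => simp
  | tprod m =>
    obtain ⟨i⟩ := ‹Nonempty ι›
    have h1 : r • SymmetricPower.tprod R m
        = SymmetricPower.tprod R (Function.update m i (r • m i)) := by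
      rw [MultilinearMap.map_update_smul, Function.update_eq_self]
    rw [h1, hr]
    exact MultilinearMap.map_coord_zero _ i (Function.update_self i 0 m)
  | add x y hx hy => rw [smul_add, hx, hy, add_zero]
  | smul s x hx => rw [smul_comm, hx, smul_zero]

end SymLift

section Descend

variable {R : Type*} [CommRing R] {ι : Type*} [Fintype ι] {M N P : Type*}
  [AddCommGroup M] [Module R M] [AddCommGroup N] [Module R N] [AddCommGroup P] [Module R P]
  (π : M →ₗ[R] N) (g : MultilinearMap R (fun _ : ι => M) P)

/-- a multilinear map killing tuples with one entry in `ker π` only depends on the images. -/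
lemma eq_of_map_eq (hg : ∀ (m : ι → M) (i : ι), π (m i) = 0 → g m = 0) (m m' : ι → M)
    (h : ∀ i, π (m i) = π (m' i)) : g m = g m' := by
  classical
  have key : ∀ s : Finset ι, g (s.piecewise m' m) = g m := by
    intro s
    induction s using Finset.induction_on with
    | empty => simp
    | insert a s ha ih =>
      rw [Finset.piecewise_insert, ← ih]
      have h1 : s.piecewise m' m = Function.update (s.piecewise m' m) a (m a) := by
        refine (Function.update_eq_self_iff.2 ?_).symm
        rw [Finset.piecewise_eq_of_notMem _ _ _ ha]
      conv_rhs => rw [h1]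
      rw [← sub_eq_zero, ← MultilinearMap.map_update_sub]
      exact hg _ a (by rw [Function.update_self, map_sub, h a, sub_self])
  have h2 := key Finset.univ
  rw [Finset.piecewise_univ] at h2
  exact h2.symm

variable (hπ : Function.Surjective π)

/-- descend a multilinear map along a surjection in each variable. -/
def descend (hg : ∀ (m : ι → M) (i : ι), π (m i) = 0 → g m = 0) :
    MultilinearMap R (fun _ : ι => N) P where
  toFun n := g (fun i => Function.surjInv hπ (n i))
  map_update_add' := by
    intro _ n i x y
    have e1 : g (fun j => Function.surjInv hπ (Function.update n i (x + y) j))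
        = g (Function.update (fun j => Function.surjInv hπ (n j)) i
            (Function.surjInv hπ x + Function.surjInv hπ y)) := by
      refine eq_of_map_eq π g hg _ _ (fun j => ?_)
      by_cases hj : j = i
      · subst hj
        simp [Function.surjInv_eq hπ]
      · simp [Function.update_of_ne hj, Function.surjInv_eq hπ]
    have e2 : ∀ z : N, g (fun j => Function.surjInv hπ (Function.update n i z j))
        = g (Function.update (fun j => Function.surjInv hπ (n j)) i (Function.surjInv hπ z)) := by
      intro z
      refine eq_of_map_eq π g hg _ _ (fun j => ?_)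
      by_cases hj : j = i
      · subst hj
        simp [Function.surjInv_eq hπ]
      · simp [Function.update_of_ne hj, Function.surjInv_eq hπ]
    rw [e1, e2 x, e2 y, MultilinearMap.map_update_add]
  map_update_smul' := by
    intro _ n i c x
    have e1 : g (fun j => Function.surjInv hπ (Function.update n i (c • x) j))
        = g (Function.update (fun j => Function.surjInv hπ (n j)) i
            (c • Function.surjInv hπ x)) := by
      refine eq_of_map_eq π g hg _ _ (fun j => ?_)
      by_cases hj : j = i
      · subst hj
        simp [Function.surjInv_eq hπ]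
      · simp [Function.update_of_ne hj, Function.surjInv_eq hπ]
    have e2 : ∀ z : N, g (fun j => Function.surjInv hπ (Function.update n i z j))
        = g (Function.update (fun j => Function.surjInv hπ (n j)) i (Function.surjInv hπ z)) := by
      intro z
      refine eq_of_map_eq π g hg _ _ (fun j => ?_)
      by_cases hj : j = i
      · subst hj
        simp [Function.surjInv_eq hπ]
      · simp [Function.update_of_ne hj, Function.surjInv_eq hπ]
    rw [e1, e2 x, MultilinearMap.map_update_smul]

lemma descend_apply (hg : ∀ (m : ι → M) (i : ι), π (m i) = 0 → g m = 0) (m : ι → M) :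
    descend π g hπ hg (fun i => π (m i)) = g m := by
  change g (fun i => Function.surjInv hπ (π (m i))) = g m
  exact eq_of_map_eq π g hg _ _ (fun i => Function.surjInv_eq hπ _)

include hπ in
lemma exists_lift_fun (n : ι → N) : ∃ m : ι → M, n = fun i => π (m i) :=
  ⟨fun i => Function.surjInv hπ (n i), funext fun i => (Function.surjInv_eq hπ (n i)).symm⟩

end Descend

section Words

variable {ι : Type*} [Fintype ι] {κ : Type*} [Fintype κ] [DecidableEq κ]

/-- the exponent vector of a word `w : ι → κ`. -/
def expo (w : ι → κ) : κ →₀ ℕ := ∑ j, Finsupp.single (w j) 1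

lemma expo_apply (w : ι → κ) (k : κ) :
    expo w k = (Finset.univ.filter (fun j => w j = k)).card := by
  unfold expo
  rw [Finsupp.finsetSum_apply]
  simp only [Finsupp.single_apply]
  rw [Finset.card_filter]

lemma expo_degree (w : ι → κ) : (expo w).degree = Fintype.card ι := by
  unfold expo
  rw [map_sum]
  simp [Finsupp.degree_single]

/-- a word with prescribed exponent vector. -/
lemma exists_word (d : κ →₀ ℕ) (h : d.degree = Fintype.card ι) : ∃ w : ι → κ, expo w = d := by
  classical
  have hc : Fintype.card ι = Fintype.card (Σ k : κ, Fin (d k)) := by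
    rw [Fintype.card_sigma, ← h, Finsupp.degree_eq_sum]
    simp
  let e : ι ≃ Σ k : κ, Fin (d k) := Fintype.equivOfCardEq hc
  refine ⟨fun j => (e j).1, ?_⟩
  ext k
  rw [expo_apply, ← Fintype.card_subtype]
  have e2 : {j // (e j).1 = k} ≃ Fin (d k) :=
    (e.subtypeEquiv (p := fun j => (e j).1 = k) (q := fun s => s.1 = k) (fun _ => Iff.rfl)).trans
      (Equiv.sigmaSubtype k)
  rw [Fintype.card_congr e2, Fintype.card_fin]

/-- two words with the same exponent vector differ by a permutation. -/
lemma exists_perm_of_expo_eq (w w' : ι → κ) (h : expo w = expo w') :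
    ∃ e : Equiv.Perm ι, ∀ i, w' i = w (e i) := by
  classical
  have hk : ∀ k, Fintype.card {j // w' j = k} = Fintype.card {j // w j = k} := by
    intro k
    have := congrArg (fun d => d k) h
    simp only [expo_apply] at this
    rw [Fintype.card_subtype, Fintype.card_subtype]
    exact this.symm
  let ek : ∀ k, {j // w' j = k} ≃ {j // w j = k} := fun k => Fintype.equivOfCardEq (hk k)
  let e : Equiv.Perm ι :=
    ((Equiv.sigmaFiberEquiv w').symm.trans (Equiv.sigmaCongrRight ek)).trans
      (Equiv.sigmaFiberEquiv w)
  refine ⟨e, fun i => ?_⟩
  have : e i = ((ek (w' i)) ⟨i, rfl⟩ : ι) := rfl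
  rw [this]
  exact ((ek (w' i)) ⟨i, rfl⟩).2.symm

/-- product over a word in terms of the exponent vector. -/
lemma prod_comp_word {A : Type*} [CommMonoid A] (z : κ → A) (w : ι → κ) :
    ∏ i, z (w i) = ∏ k, z k ^ (expo w k) := by
  classical
  rw [← Finset.prod_fiberwise Finset.univ w (fun i => z (w i))]
  refine Finset.prod_congr rfl (fun k _ => ?_)
  rw [expo_apply, Finset.prod_congr rfl (g := fun _ => z k), Finset.prod_const]
  intro i hi
  rw [(Finset.mem_filter.1 hi).2]

end Words

section TprodWords

variable {R : Type u} [CommRing R] {ι : Type u} [Fintype ι] {κ : Type*} [Fintype κ] [DecidableEq κ]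
  {M : Type v} [AddCommGroup M] [Module R M]

lemma tprod_comp_eq_of_expo_eq (v : κ → M) (w w' : ι → κ) (h : expo w = expo w') :
    SymmetricPower.tprod R (fun i => v (w' i)) = SymmetricPower.tprod R (fun i => v (w i)) := by
  obtain ⟨e, he⟩ := exists_perm_of_expo_eq w w' h
  have : (fun i => v (w' i)) = fun i => (fun j => v (w j)) (e i) := by
    funext i; rw [he i]
  rw [this]
  exact SymmetricPower.tprod_equiv e (fun j => v (w j))

end TprodWords

end

end Groth.Agent.Lib.SymPowH1
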