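import Groth.Prelude.Def_PP16
import Groth.Prelude.Def_CAlgX
import Groth.Agent.Lib.SymPowH1
import Groth.Agent.Lib.LocFreeH1
import Mathlib

/-!
# Quasi-regular ideals and `Sym^n(J/J²) → J^n/J^(n+1)` (helper1)
-/

set_option autoImplicit false
set_option linter.style.haveILetI false
set_option linter.unusedSectionVars false

universe u

open scoped TensorProduct Pointwise

namespace Groth.Agent.Lib.QRegSymH1

open Groth.Agent.Lib.SymPowH1

noncomputable section

variable {R : Type u} [CommRing R] (J : Ideal R)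

section Gr

/-- the quotient map `J^n → J^n/J^(n+1)`. -/
def grMk (n : ℕ) : ↥(J ^ n) →ₗ[R] PP16.grJ R J n := Submodule.mkQ _

lemma grMk_surjective (n : ℕ) : Function.Surjective (grMk J n) := Submodule.mkQ_surjective _

lemma grMk_eq_zero_iff (n : ℕ) (a : ↥(J ^ n)) : grMk J n a = 0 ↔ (a : R) ∈ J ^ (n + 1) := by
  unfold grMk
  rw [Submodule.mkQ_apply, Submodule.Quotient.mk_eq_zero]
  rfl

lemma zetaJ_eq {ι : Type u} [Fintype ι] (x : ι → ↥J) (h : ∏ i, (x i : R) ∈ J ^ Fintype.card ι) :
    PP16.zetaJ R J x = grMk J (Fintype.card ι) ⟨∏ i, (x i : R), h⟩ := rfl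

lemma prod_mem {ι : Type u} [Fintype ι] (x : ι → ↥J) : ∏ i, (x i : R) ∈ J ^ Fintype.card ι := by
  simpa using PP16.prod_mem_pow J Finset.univ (fun i => (x i : R)) (fun i _ => (x i).2)

end Gr

section Phi

variable (ι : Type u) [Fintype ι]

/-- the multilinear map `J^ι → J^n/J^(n+1)`, `x ↦ [∏ x_i]`. -/
def zetaMulti : MultilinearMap R (fun _ : ι => ↥J) (PP16.grJ R J (Fintype.card ι)) :=
  (grMk J (Fintype.card ι)).compMultilinearMap
    (((MultilinearMap.mkPiAlgebra R ι R).compLinearMap (fun _ => J.subtype)).codRestrict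
      (J ^ Fintype.card ι) (fun x => by
        simpa using PP16.prod_mem_pow J Finset.univ (fun i => (x i : R)) (fun i _ => (x i).2)))

lemma zetaMulti_apply (x : ι → ↥J) : zetaMulti J ι x = PP16.zetaJ R J x := rfl

lemma zetaMulti_eq_zero (x : ι → ↥J) (i : ι) (hi : J.toCotangent (x i) = 0) :
    zetaMulti J ι x = 0 := by
  classical
  rw [zetaMulti_apply, zetaJ_eq J x (prod_mem J x), grMk_eq_zero_iff]
  change ∏ j, (x j : R) ∈ J ^ (Fintype.card ι + 1)
  rw [← Finset.mul_prod_erase Finset.univ (fun j => (x j : R)) (Finset.mem_univ i)]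
  have h1 : (x i : R) ∈ J ^ 2 := (Ideal.toCotangent_eq_zero J (x i)).1 hi
  have h2 : ∏ j ∈ Finset.univ.erase i, (x j : R) ∈ J ^ (Finset.univ.erase i).card :=
    PP16.prod_mem_pow J (Finset.univ.erase i) (fun j => (x j : R)) (fun j _ => (x j).2)
  have h3 : 2 + (Finset.univ.erase i).card = Fintype.card ι + 1 := by
    rw [Finset.card_erase_of_mem (Finset.mem_univ i), Finset.card_univ]
    have : 0 < Fintype.card ι := Fintype.card_pos_iff.2 ⟨i⟩
    omega
  rw [← h3, pow_add]
  exact Ideal.mul_mem_mul h1 h2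

/-- the canonical map `Sym^n(J/J²) → J^n/J^(n+1)`. -/
def phi : SymmetricPower R ι J.Cotangent →ₗ[R] PP16.grJ R J (Fintype.card ι) :=
  symLift (descend J.toCotangent (zetaMulti J ι) J.toCotangent_surjective
      (zetaMulti_eq_zero J ι))
    (by
      intro e f
      obtain ⟨x, rfl⟩ := exists_lift_fun J.toCotangent J.toCotangent_surjective f
      rw [descend_apply, descend_apply, zetaMulti_apply, zetaMulti_apply]
      unfold PP16.zetaJ
      congr 2
      exact Equiv.prod_comp e (fun i => (x i : R)))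

lemma phi_tprod (x : ι → ↥J) :
    phi J ι (SymmetricPower.tprod R (fun i => J.toCotangent (x i))) = PP16.zetaJ R J x := by
  unfold phi
  rw [symLift_tprod, descend_apply, zetaMulti_apply]

lemma phi_surjective : Function.Surjective (phi J ι) := by
  classical
  intro z
  obtain ⟨⟨a, ha⟩, rfl⟩ := grMk_surjective J _ z
  have key : ∀ (a : R) (ha : a ∈ J ^ Fintype.card ι),
      grMk J _ ⟨a, ha⟩ ∈ LinearMap.range (phi J ι) := by
    intro a ha
    have hspan : ∀ b : R, b ∈ J ^ Fintype.card ι ↔
        b ∈ Submodule.span R ((J : Set R) ^ Fintype.card ι) := by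
      intro b
      rw [← Submodule.pow_eq_span_pow_set]
    have ha' := (hspan a).1 ha
    have : ∀ a, a ∈ Submodule.span R ((J : Set R) ^ Fintype.card ι) →
        ∀ ha : a ∈ J ^ Fintype.card ι, grMk J _ ⟨a, ha⟩ ∈ LinearMap.range (phi J ι) := by
      intro a h
      induction h using Submodule.span_induction with
      | mem b hb =>
        intro hb'
        obtain ⟨f, rfl⟩ := Set.mem_pow.1 hb
        let e := Fintype.equivFin ι
        let x : ι → ↥J := fun i => ⟨(f (e i) : R), (f (e i)).2⟩
        refine ⟨SymmetricPower.tprod R (fun i => J.toCotangent (x i)), ?_⟩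
        rw [phi_tprod, zetaJ_eq J x (prod_mem J x)]
        congr 1
        apply Subtype.ext
        change ∏ i, (f (e i) : R) = (List.ofFn fun i => (f i : R)).prod
        rw [List.prod_ofFn]
        exact Equiv.prod_comp e (fun k => (f k : R))
      | zero =>
        intro h0
        have : (⟨0, h0⟩ : ↥(J ^ Fintype.card ι)) = 0 := rfl
        rw [this, map_zero]
        exact zero_mem _
      | add b c hb0 hc0 hb hc =>
        intro hbc
        have hb' := (hspan b).2 hb0
        have hc' := (hspan c).2 hc0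
        have : (⟨b + c, hbc⟩ : ↥(J ^ Fintype.card ι)) = ⟨b, hb'⟩ + ⟨c, hc'⟩ := rfl
        rw [this, map_add]
        exact add_mem (hb hb') (hc hc')
      | smul r b hb0 hb =>
        intro hrb
        have hb' := (hspan b).2 hb0
        have : (⟨r • b, hrb⟩ : ↥(J ^ Fintype.card ι)) = r • ⟨b, hb'⟩ := rfl
        rw [this, map_smul]
        exact Submodule.smul_mem _ r (hb hb')
    exact this a ha' ha
  exact key a ha

end Phi


lemma degree_of_mem_support {σ : Type*} {A : Type*} [CommSemiring A] {Q : MvPolynomial σ A} {n : ℕ}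
    (hQ : Q.IsHomogeneous n) {d : σ →₀ ℕ} (hd : d ∈ Q.support) : d.degree = n := by
  by_contra h
  exact (MvPolynomial.mem_support_iff.1 hd) (hQ.coeff_eq_zero h)

section Mon

variable {J} {r : ℕ} (x : Fin r → ↥J) (ι : Type u) [Fintype ι]

/-- the symmetric monomial `x̄^w` attached to a word. -/
def tw (w : ι → Fin r) : SymmetricPower R ι J.Cotangent :=
  SymmetricPower.tprod R (fun i => J.toCotangent (x (w i)))

lemma tw_eq_of_expo_eq (w w' : ι → Fin r) (h : expo w = expo w') : tw x ι w' = tw x ι w :=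
  tprod_comp_eq_of_expo_eq (fun k => J.toCotangent (x k)) w w' h

/-- the symmetric monomial `x̄^d` attached to an exponent vector (zero if the degree is wrong). -/
def td (d : Fin r →₀ ℕ) : SymmetricPower R ι J.Cotangent :=
  if h : d.degree = Fintype.card ι then tw x ι (Classical.choose (exists_word d h)) else 0

lemma td_expo (w : ι → Fin r) : td x ι (expo w) = tw x ι w := by
  unfold td
  rw [dif_pos (expo_degree w)]
  exact tw_eq_of_expo_eq x ι w _
    (Classical.choose_spec (exists_word (expo w) (expo_degree w))).symm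

/-- `Q ↦ Q(x̄)` in the symmetric power. -/
def symEval : MvPolynomial (Fin r) R →ₗ[R] SymmetricPower R ι J.Cotangent :=
  (MvPolynomial.basisMonomials (Fin r) R).constr R (td x ι)

lemma symEval_monomial (d : Fin r →₀ ℕ) (c : R) :
    symEval x ι (MvPolynomial.monomial d c) = c • td x ι d := by
  have h : MvPolynomial.monomial d c = c • (MvPolynomial.basisMonomials (Fin r) R d) := by
    rw [MvPolynomial.coe_basisMonomials, MvPolynomial.smul_monomial, smul_eq_mul, mul_one]
  unfold symEval
  rw [h, map_smul, Module.Basis.constr_basis]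

lemma symEval_eq_sum (Q : MvPolynomial (Fin r) R) :
    symEval x ι Q = ∑ d ∈ Q.support, Q.coeff d • td x ι d := by
  conv_lhs => rw [← MvPolynomial.support_sum_monomial_coeff Q]
  rw [map_sum]
  exact Finset.sum_congr rfl (fun d _ => symEval_monomial x ι d _)

lemma phi_tw (w : ι → Fin r) :
    phi J ι (tw x ι w) =
      grMk J _ ⟨∏ i, (x (w i) : R), prod_mem J (fun i => x (w i))⟩ := by
  unfold tw
  rw [phi_tprod J ι (fun i => x (w i))]
  rfl

/-- the monomial `x^d` as an element of `J^n`. -/
def gd (d : Fin r →₀ ℕ) : ↥(J ^ Fintype.card ι) :=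
  if h : d.degree = Fintype.card ι then
    ⟨∏ i, (x (Classical.choose (exists_word (ι := ι) d h) i) : R), prod_mem J _⟩ else 0

lemma phi_td (d : Fin r →₀ ℕ) : phi J ι (td x ι d) = grMk J _ (gd x ι d) := by
  unfold td gd
  split_ifs with h
  · exact phi_tw x ι _
  · rw [map_zero, map_zero]

lemma coe_gd (d : Fin r →₀ ℕ) (h : d.degree = Fintype.card ι) :
    (gd x ι d : R) = ∏ k, (x k : R) ^ d k := by
  unfold gd
  rw [dif_pos h]
  change ∏ i, (x (Classical.choose (exists_word (ι := ι) d h) i) : R) = _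
  rw [prod_comp_word (fun k => (x k : R)), Classical.choose_spec (exists_word (ι := ι) d h)]

lemma phi_symEval_eq_zero_iff (Q : MvPolynomial (Fin r) R)
    (hQ : Q.IsHomogeneous (Fintype.card ι)) :
    phi J ι (symEval x ι Q) = 0 ↔
      MvPolynomial.eval (fun k => (x k : R)) Q ∈ J ^ (Fintype.card ι + 1) := by
  rw [symEval_eq_sum, map_sum]
  have h1 : ∑ d ∈ Q.support, phi J ι (Q.coeff d • td x ι d)
      = grMk J _ (∑ d ∈ Q.support, Q.coeff d • gd x ι d) := by
    rw [map_sum]
    refine Finset.sum_congr rfl (fun d _ => ?_)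
    rw [map_smul, map_smul, phi_td]
  rw [h1, grMk_eq_zero_iff]
  have h2 : ((∑ d ∈ Q.support, Q.coeff d • gd x ι d : ↥(J ^ Fintype.card ι)) : R)
      = MvPolynomial.eval (fun k => (x k : R)) Q := by
    rw [MvPolynomial.eval_eq', AddSubmonoidClass.coe_finsetSum]
    refine Finset.sum_congr rfl (fun d hd => ?_)
    rw [Submodule.coe_smul, coe_gd x ι d (degree_of_mem_support hQ hd), smul_eq_mul]
  rw [h2]

section Lam

variable {T : Type*} [CommRing T] [Algebra R T] (l : Fin r → (J.Cotangent →ₗ[R] T))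

/-- the linear form `m ↦ Σ_j l_j(m) X_j`. -/
def Lin : J.Cotangent →ₗ[R] MvPolynomial (Fin r) T :=
  ∑ j, ((LinearMap.toSpanSingleton T (MvPolynomial (Fin r) T) (MvPolynomial.X j)).restrictScalars R).comp (l j)

lemma Lin_apply (m : J.Cotangent) : Lin l m = ∑ j, (l j m) • (MvPolynomial.X j : MvPolynomial (Fin r) T) := by
  unfold Lin
  rw [LinearMap.sum_apply]
  rfl

lemma Lin_x (hl : ∀ i j, l j (J.toCotangent (x i)) = if i = j then 1 else 0) (i : Fin r) :
    Lin l (J.toCotangent (x i)) = MvPolynomial.X i := by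
  rw [Lin_apply]
  simp only [hl, ite_smul, one_smul, zero_smul]
  rw [Finset.sum_ite_eq]
  simp

/-- `Sym^n(J/J²) → T[X]` induced by coordinate forms. -/
def Lam : SymmetricPower R ι J.Cotangent →ₗ[R] MvPolynomial (Fin r) T :=
  symLift ((MultilinearMap.mkPiAlgebra R ι (MvPolynomial (Fin r) T)).compLinearMap
      (fun _ => Lin l))
    (by
      intro e f
      simp only [MultilinearMap.compLinearMap_apply, MultilinearMap.mkPiAlgebra_apply]
      exact Equiv.prod_comp e (fun j => Lin l (f j)))

lemma Lam_tprod (f : ι → J.Cotangent) :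
    Lam ι l (SymmetricPower.tprod R f) = ∏ i, Lin l (f i) := by
  unfold Lam
  rw [symLift_tprod]
  simp only [MultilinearMap.compLinearMap_apply, MultilinearMap.mkPiAlgebra_apply]

lemma Lam_tw (hl : ∀ i j, l j (J.toCotangent (x i)) = if i = j then 1 else 0) (w : ι → Fin r) :
    Lam ι l (tw x ι w) = MvPolynomial.monomial (expo w) 1 := by
  unfold tw
  rw [Lam_tprod]
  simp only [Lin_x x l hl]
  unfold expo
  rw [MvPolynomial.monomial_sum_one]
  rfl

lemma Lam_td (hl : ∀ i j, l j (J.toCotangent (x i)) = if i = j then 1 else 0)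
    (d : Fin r →₀ ℕ) (h : d.degree = Fintype.card ι) :
    Lam ι l (td x ι d) = MvPolynomial.monomial d 1 := by
  obtain ⟨w, rfl⟩ := exists_word (ι := ι) d h
  rw [td_expo, Lam_tw x ι l hl]

lemma Lam_symEval (hl : ∀ i j, l j (J.toCotangent (x i)) = if i = j then 1 else 0)
    (Q : MvPolynomial (Fin r) R) (hQ : Q.IsHomogeneous (Fintype.card ι)) :
    Lam ι l (symEval x ι Q) = MvPolynomial.map (algebraMap R T) Q := by
  rw [symEval_eq_sum, map_sum]
  conv_rhs => rw [← MvPolynomial.support_sum_monomial_coeff Q, map_sum]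
  refine Finset.sum_congr rfl (fun d hd => ?_)
  rw [map_smul, Lam_td x ι l hl d (degree_of_mem_support hQ hd), MvPolynomial.map_monomial,
    MvPolynomial.smul_monomial, Algebra.smul_def, mul_one]

lemma algebraMap_coeff_eq_zero (hl : ∀ i j, l j (J.toCotangent (x i)) = if i = j then 1 else 0)
    (Q : MvPolynomial (Fin r) R) (hQ : Q.IsHomogeneous (Fintype.card ι))
    (h0 : symEval x ι Q = 0) (d : Fin r →₀ ℕ) : algebraMap R T (Q.coeff d) = 0 := by
  have h1 := Lam_symEval x ι l hl Q hQ
  rw [h0, map_zero] at h1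
  rw [← MvPolynomial.coeff_map, ← h1, MvPolynomial.coeff_zero]

end Lam

end Mon


section Chart

variable {J} {r : ℕ}

/-- a chart: `x` generates `J` and is quasi-regular after inverting `g` (stated inside `R`). -/
structure IsChart (J : Ideal R) (g : R) {r : ℕ} (x : Fin r → ↥J) : Prop where
  gen : ∀ y ∈ J, ∃ k : ℕ, g ^ k * y ∈ Ideal.span (Set.range (fun i => (x i : R)))
  indep : ∀ (n : ℕ) (Q : MvPolynomial (Fin r) R), Q.IsHomogeneous n →
    MvPolynomial.eval (fun i => (x i : R)) Q ∈ J ^ (n + 1) →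
      ∀ d, ∃ k : ℕ, g ^ k * Q.coeff d ∈ J

/-- uniform exponents over a finite set. -/
lemma exists_uniform {α : Type*} (s : Finset α) (p : α → ℕ → Prop)
    (mono : ∀ a k k', k ≤ k' → p a k → p a k') (h : ∀ a ∈ s, ∃ k, p a k) :
    ∃ k, ∀ a ∈ s, p a k := by
  classical
  induction s using Finset.induction_on with
  | empty => exact ⟨0, fun a ha => absurd ha (Finset.notMem_empty a)⟩
  | insert a s ha ih =>
    obtain ⟨k₁, h₁⟩ := ih (fun b hb => h b (Finset.mem_insert_of_mem hb))
    obtain ⟨k₂, h₂⟩ := h a (Finset.mem_insert_self a s)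
    refine ⟨max k₁ k₂, fun b hb => ?_⟩
    rcases Finset.mem_insert.1 hb with rfl | hb
    · exact mono _ _ _ (le_max_right _ _) h₂
    · exact mono _ _ _ (le_max_left _ _) (h₁ b hb)

variable (x : Fin r → ↥J) (ι : Type u) [Fintype ι]

/-- after multiplying by a power of `g`, every element of the symmetric power is a polynomial in `x̄`. -/
lemma exists_smul_eq_symEval (g : R)
    (hgen : ∀ y ∈ J, ∃ k : ℕ, g ^ k * y ∈ Ideal.span (Set.range (fun i => (x i : R))))
    (ξ : SymmetricPower R ι J.Cotangent) :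
    ∃ (K : ℕ) (Q : MvPolynomial (Fin r) R), Q.IsHomogeneous (Fintype.card ι) ∧
      g ^ K • ξ = symEval x ι Q := by
  classical
  induction ξ using induction_on with
  | zero => exact ⟨0, 0, MvPolynomial.isHomogeneous_zero _ _ _, by simp⟩
  | add ξ₁ ξ₂ h₁ h₂ =>
    obtain ⟨K₁, Q₁, hQ₁, e₁⟩ := h₁
    obtain ⟨K₂, Q₂, hQ₂, e₂⟩ := h₂
    refine ⟨K₁ + K₂, g ^ K₂ • Q₁ + g ^ K₁ • Q₂, ?_, ?_⟩
    · exact ((MvPolynomial.homogeneousSubmodule (Fin r) R _).smul_mem _ hQ₁).add
        ((MvPolynomial.homogeneousSubmodule (Fin r) R _).smul_mem _ hQ₂)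
    · rw [map_add, map_smul, map_smul, ← e₁, ← e₂, smul_add, ← mul_smul, ← mul_smul,
        ← pow_add, ← pow_add, add_comm K₂ K₁]
  | smul c ξ h =>
    obtain ⟨K, Q, hQ, e⟩ := h
    refine ⟨K, c • Q, (MvPolynomial.homogeneousSubmodule (Fin r) R _).smul_mem _ hQ, ?_⟩
    rw [map_smul, ← e, smul_comm]
  | tprod m =>
    have h1 : ∀ i, ∃ (y : ↥J) (k : ℕ) (c : Fin r → R), J.toCotangent y = m i ∧
        g ^ k • y = ∑ j, c j • x j := by
      intro i
      obtain ⟨y, hy⟩ := J.toCotangent_surjective (m i)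
      obtain ⟨k, hk⟩ := hgen y y.2
      obtain ⟨c, hc⟩ := Ideal.mem_span_range_iff_exists_fun.1 hk
      refine ⟨y, k, c, hy, Subtype.ext ?_⟩
      rw [Submodule.coe_smul, AddSubmonoidClass.coe_finsetSum, smul_eq_mul, ← hc]
      exact Finset.sum_congr rfl (fun j _ => by rw [Submodule.coe_smul, smul_eq_mul])
    choose y k c hy hc using h1
    have h2 : ∀ i, g ^ k i • m i = ∑ j, c i j • J.toCotangent (x j) := by
      intro i
      rw [← hy i, ← map_smul, hc i, map_sum]
      exact Finset.sum_congr rfl (fun j _ => map_smul _ _ _)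
    refine ⟨∑ i, k i, ∑ w : ι → Fin r, MvPolynomial.monomial (expo w) (∏ i, c i (w i)), ?_, ?_⟩
    · exact MvPolynomial.IsHomogeneous.sum _ _ _
        (fun w _ => MvPolynomial.isHomogeneous_monomial _ (expo_degree w))
    · rw [← Finset.prod_pow_eq_pow_sum, ← MultilinearMap.map_smul_univ]
      simp only [h2]
      rw [MultilinearMap.map_sum, map_sum]
      refine Finset.sum_congr rfl (fun w _ => ?_)
      rw [symEval_monomial, td_expo, MultilinearMap.map_smul_univ]
      rfl

/-- quasi-regularity on the chart ⇒ the kernel of `phi` is `g`-power torsion. -/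
lemma exists_pow_smul_eq_zero [Nonempty ι] (g : R) (hc : IsChart J g x)
    (ξ : SymmetricPower R ι J.Cotangent) (hξ : phi J ι ξ = 0) : ∃ K : ℕ, g ^ K • ξ = 0 := by
  classical
  obtain ⟨K, Q, hQ, e⟩ := exists_smul_eq_symEval x ι g hc.gen ξ
  have h1 : phi J ι (symEval x ι Q) = 0 := by rw [← e, map_smul, hξ, smul_zero]
  rw [phi_symEval_eq_zero_iff x ι Q hQ] at h1
  have h2 := hc.indep _ Q hQ h1
  obtain ⟨k, hk⟩ := exists_uniform Q.support (fun d k => g ^ k * Q.coeff d ∈ J)
    (fun d k k' hkk' h => by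
      obtain ⟨e, rfl⟩ := Nat.exists_eq_add_of_le hkk'
      rw [pow_add, mul_comm (g ^ k), mul_assoc]
      exact J.mul_mem_left _ h) (fun d _ => h2 d)
  refine ⟨k + K, ?_⟩
  rw [pow_add, mul_smul, e, symEval_eq_sum, Finset.smul_sum]
  refine Finset.sum_eq_zero (fun d hd => ?_)
  rw [← mul_smul]
  exact smul_eq_zero_of_forall_smul_eq_zero _
    (fun m => Ideal.Cotangent.smul_eq_zero_of_mem (hk d hd) m) _

end Chart


section LocChart

lemma eval_mul_of_isHomogeneous {σ : Type*} [Fintype σ] {A : Type*} [CommRing A]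
    (P : MvPolynomial σ A) (n : ℕ) (hP : P.IsHomogeneous n) (u : A) (f : σ → A) :
    MvPolynomial.eval (fun i => u * f i) P = u ^ n * MvPolynomial.eval f P := by
  rw [MvPolynomial.eval_eq', MvPolynomial.eval_eq', Finset.mul_sum]
  refine Finset.sum_congr rfl (fun d hd => ?_)
  have hd' : ∑ i, d i = n := by
    rw [← Finsupp.degree_eq_sum]; exact degree_of_mem_support hP hd
  simp only [mul_pow]
  rw [Finset.prod_mul_distrib, Finset.prod_pow_eq_pow_sum, hd']
  ring

lemma algebraMap_eval {σ : Type*} {A : Type*} [CommRing A] [Algebra R A]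
    (Q : MvPolynomial σ R) (x : σ → R) :
    algebraMap R A (MvPolynomial.eval x Q) =
      MvPolynomial.eval (fun i => algebraMap R A (x i)) (MvPolynomial.map (algebraMap R A) Q) := by
  rw [MvPolynomial.eval_map, MvPolynomial.eval, MvPolynomial.coe_eval₂Hom,
    MvPolynomial.eval₂_comp_left]
  rfl

/-- elements of the submonoid of powers are powers. -/
lemma exists_pow_eq (g : R) (t : Submonoid.powers g) : ∃ k : ℕ, g ^ k = (t : R) := t.2

variable {J}

/-- a quasi-regular generating sequence in `R_g` gives a chart. -/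
theorem exists_chart_of_isQuasiRegular (g : R) {r : ℕ} (f : Fin r → Localization.Away g)
    (hf : CAlgX.IsQuasiRegular f)
    (hspan : Ideal.span (Set.range f) = J.map (algebraMap R (Localization.Away g))) :
    ∃ x : Fin r → ↥J, IsChart J g x := by
  classical
  have hunit : ∀ t : Submonoid.powers g, IsUnit (algebraMap R (Localization.Away g) t) :=
    fun t => IsLocalization.map_units _ t
  -- step 1: numerators
  have h1 : ∀ i, ∃ (j : ↥J) (t : Submonoid.powers g),
      f i * algebraMap R (Localization.Away g) t = algebraMap R (Localization.Away g) j := by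
    intro i
    have hi : f i ∈ J.map (algebraMap R (Localization.Away g)) := by
      rw [← hspan]; exact Ideal.subset_span ⟨i, rfl⟩
    obtain ⟨⟨j, t⟩, hjt⟩ := (IsLocalization.mem_map_algebraMap_iff (Submonoid.powers g)
      (Localization.Away g)).1 hi
    exact ⟨j, t, hjt⟩
  choose j t hjt using h1
  let T : R := ∏ l, (t l : R)
  have hT : T ∈ Submonoid.powers g := Submonoid.prod_mem _ (fun l _ => (t l).2)
  obtain ⟨K, hK0⟩ := hT
  have hK : g ^ K = T := hK0
  let x : Fin r → ↥J := fun i =>
    ⟨(j i : R) * ∏ l ∈ Finset.univ.erase i, (t l : R), J.mul_mem_right _ (j i).2⟩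
  have hx : ∀ i, algebraMap R (Localization.Away g) (x i) =
      algebraMap R (Localization.Away g) T * f i := by
    intro i
    change algebraMap R (Localization.Away g) ((j i : R) * ∏ l ∈ Finset.univ.erase i, (t l : R)) = _
    rw [map_mul, ← hjt i, mul_assoc, ← map_mul,
      Finset.mul_prod_erase Finset.univ (fun l => (t l : R)) (Finset.mem_univ i), mul_comm]
  have huT : IsUnit (algebraMap R (Localization.Away g) T) := hunit ⟨T, ⟨K, hK⟩⟩
  refine ⟨x, ⟨?_, ?_⟩⟩
  · -- generation
    intro y hy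
    have hy' : algebraMap R (Localization.Away g) y ∈ Ideal.span (Set.range f) := by
      rw [hspan]; exact Ideal.mem_map_of_mem _ hy
    obtain ⟨c, hc⟩ := Ideal.mem_span_range_iff_exists_fun.1 hy'
    obtain ⟨b, hb⟩ := IsLocalization.exist_integer_multiples (Submonoid.powers g) Finset.univ c
    have hb' : ∀ i, ∃ c' : R, algebraMap R (Localization.Away g) c' = (b : R) • c i :=
      fun i => hb i (Finset.mem_univ i)
    choose c' hc' using hb'
    have h2 : algebraMap R (Localization.Away g) (∑ i, c' i * (x i : R)) =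
        algebraMap R (Localization.Away g) ((b : R) * T * y) := by
      rw [map_sum, map_mul, map_mul, ← hc, Finset.mul_sum]
      refine Finset.sum_congr rfl (fun i _ => ?_)
      rw [map_mul, hc' i, hx i, Algebra.smul_def]
      ring
    obtain ⟨t', ht'⟩ := (IsLocalization.eq_iff_exists (Submonoid.powers g)
      (Localization.Away g)).1 h2
    obtain ⟨a, ha⟩ := exists_pow_eq g t'
    obtain ⟨a', ha'⟩ := exists_pow_eq g b
    refine ⟨a + a' + K, ?_⟩
    have h3 : g ^ (a + a' + K) * y = ∑ i, ((t' : R) * c' i) * (x i : R) := by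
      rw [pow_add, pow_add, ha, ha', hK]
      rw [Finset.mul_sum] at ht'
      calc (t' : R) * (b : R) * T * y = (t' : R) * ((b : R) * T * y) := by ring
        _ = ∑ i, (t' : R) * (c' i * (x i : R)) := ht'.symm
        _ = _ := Finset.sum_congr rfl (fun i _ => (mul_assoc _ _ _).symm)
    rw [h3]
    exact Ideal.sum_mem _ (fun i _ => Ideal.mul_mem_left _ _ (Ideal.subset_span ⟨i, rfl⟩))
  · -- quasi-regularity
    intro n Q hQ hev d
    have hP := hQ.map (algebraMap R (Localization.Away g))
    have h2 : MvPolynomial.eval f (MvPolynomial.map (algebraMap R (Localization.Away g)) Q) ∈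
        Ideal.span (Set.range f) ^ (n + 1) := by
      have h3 : algebraMap R (Localization.Away g) (MvPolynomial.eval (fun i => (x i : R)) Q) ∈
          Ideal.span (Set.range f) ^ (n + 1) := by
        rw [hspan, ← Ideal.map_pow]
        exact Ideal.mem_map_of_mem _ hev
      rw [algebraMap_eval] at h3
      simp only [hx] at h3
      rw [eval_mul_of_isHomogeneous _ n hP] at h3
      exact (Ideal.unit_mul_mem_iff_mem _ (huT.pow n)).1 h3
    have h4 := hf n _ hP h2 d
    rw [MvPolynomial.coeff_map, hspan] at h4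
    obtain ⟨⟨j', t''⟩, hjt'⟩ := (IsLocalization.mem_map_algebraMap_iff (Submonoid.powers g)
      (Localization.Away g)).1 h4
    rw [← map_mul] at hjt'
    obtain ⟨t3, ht3⟩ := (IsLocalization.eq_iff_exists (Submonoid.powers g)
      (Localization.Away g)).1 hjt'
    obtain ⟨a, ha⟩ := exists_pow_eq g t3
    obtain ⟨a', ha'⟩ := exists_pow_eq g t''
    refine ⟨a + a', ?_⟩
    have h5 : g ^ (a + a') * Q.coeff d = (t3 : R) * (j' : R) := by
      rw [pow_add, ha, ha', ← ht3]
      ring
    rw [h5]
    exact J.mul_mem_left _ j'.2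

/-- a chart gives a quasi-regular generating sequence in `R_g`. -/
theorem isQuasiRegular_of_chart (g : R) {r : ℕ} (x : Fin r → ↥J) (hc : IsChart J g x) :
    CAlgX.IsQuasiRegular (fun i => algebraMap R (Localization.Away g) (x i)) ∧
      Ideal.span (Set.range (fun i => algebraMap R (Localization.Away g) (x i))) =
        J.map (algebraMap R (Localization.Away g)) := by
  classical
  have hunit : ∀ t : Submonoid.powers g, IsUnit (algebraMap R (Localization.Away g) t) :=
    fun t => IsLocalization.map_units _ t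
  have hgu : ∀ k : ℕ, IsUnit (algebraMap R (Localization.Away g) (g ^ k)) :=
    fun k => hunit ⟨g ^ k, ⟨k, rfl⟩⟩
  have hspan : Ideal.span (Set.range (fun i => algebraMap R (Localization.Away g) (x i))) =
      J.map (algebraMap R (Localization.Away g)) := by
    apply le_antisymm
    · rw [Ideal.span_le]
      rintro _ ⟨i, rfl⟩
      exact Ideal.mem_map_of_mem _ (x i).2
    · rw [Ideal.map, Ideal.span_le]
      rintro _ ⟨y, hy, rfl⟩
      obtain ⟨k, hk⟩ := hc.gen y hy
      have h1 := Ideal.mem_map_of_mem (algebraMap R (Localization.Away g)) hk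
      rw [Ideal.map_span, ← Set.range_comp, map_mul] at h1
      exact (Ideal.unit_mul_mem_iff_mem _ (hgu k)).1 h1
  refine ⟨?_, hspan⟩
  intro n P hP hev d
  rw [hspan] at hev ⊢
  by_cases hd : d ∈ P.support
  swap
  · rw [MvPolynomial.notMem_support_iff.1 hd]; exact zero_mem _
  -- clear denominators
  obtain ⟨b, hb⟩ := IsLocalization.exist_integer_multiples (Submonoid.powers g) P.support
    (fun e => P.coeff e)
  have hb' : ∀ e, ∃ q : R, e ∈ P.support →
      algebraMap R (Localization.Away g) q = (b : R) • P.coeff e := by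
    intro e
    by_cases he : e ∈ P.support
    · obtain ⟨q, hq⟩ := hb e he
      exact ⟨q, fun _ => hq⟩
    · exact ⟨0, fun h => absurd h he⟩
  choose q hq using hb'
  let Q : MvPolynomial (Fin r) R := ∑ e ∈ P.support, MvPolynomial.monomial e (q e)
  have hQ : Q.IsHomogeneous n :=
    MvPolynomial.IsHomogeneous.sum _ _ _
      (fun e he => MvPolynomial.isHomogeneous_monomial _ (degree_of_mem_support hP he))
  have hmap : MvPolynomial.map (algebraMap R (Localization.Away g)) Q =
      MvPolynomial.C (algebraMap R (Localization.Away g) b) * P := by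
    conv_rhs => rw [← MvPolynomial.support_sum_monomial_coeff P, Finset.mul_sum]
    rw [map_sum]
    refine Finset.sum_congr rfl (fun e he => ?_)
    rw [MvPolynomial.map_monomial, hq e he, MvPolynomial.C_mul_monomial, Algebra.smul_def]
  have hQd : Q.coeff d = q d := by
    change MvPolynomial.coeff d (∑ e ∈ P.support, MvPolynomial.monomial e (q e)) = q d
    rw [MvPolynomial.coeff_sum]
    simp only [MvPolynomial.coeff_monomial]
    rw [Finset.sum_ite_eq' P.support d, if_pos hd]
  have h1 : algebraMap R (Localization.Away g) (MvPolynomial.eval (fun i => (x i : R)) Q) ∈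
      (J ^ (n + 1)).map (algebraMap R (Localization.Away g)) := by
    rw [algebraMap_eval, hmap, map_mul, MvPolynomial.eval_C, Ideal.map_pow]
    exact Ideal.mul_mem_left _ _ hev
  obtain ⟨⟨j, t⟩, hjt⟩ := (IsLocalization.mem_map_algebraMap_iff (Submonoid.powers g)
    (Localization.Away g)).1 h1
  rw [← map_mul] at hjt
  obtain ⟨t', ht'⟩ := (IsLocalization.eq_iff_exists (Submonoid.powers g)
    (Localization.Away g)).1 hjt
  -- the polynomial `(t' t) • Q` evaluates into `J^(n+1)`
  have h2 : MvPolynomial.eval (fun i => (x i : R)) (((t' : R) * (t : R)) • Q) ∈ J ^ (n + 1) := by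
    rw [MvPolynomial.smul_eval]
    have : (t' : R) * (t : R) * MvPolynomial.eval (fun i => (x i : R)) Q = (t' : R) * (j : R) := by
      rw [← ht']; ring
    rw [this]
    exact Ideal.mul_mem_left _ _ j.2
  obtain ⟨k, hk⟩ := hc.indep n _
    ((MvPolynomial.homogeneousSubmodule (Fin r) R n).smul_mem _ hQ) h2 d
  rw [MvPolynomial.coeff_smul, smul_eq_mul, hQd] at hk
  have h3 := Ideal.mem_map_of_mem (algebraMap R (Localization.Away g)) hk
  rw [map_mul, map_mul, map_mul, hq d hd, Algebra.smul_def] at h3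
  have hu : IsUnit (algebraMap R (Localization.Away g) (g ^ k) *
      (algebraMap R (Localization.Away g) t' * algebraMap R (Localization.Away g) t) *
        algebraMap R (Localization.Away g) b) :=
    ((hgu k).mul ((hunit t').mul (hunit t))).mul (hunit b)
  refine (Ideal.unit_mul_mem_iff_mem _ hu).1 ?_
  convert h3 using 1
  ring

end LocChart


section Nakayama

variable {J}

/-- Nakayama (Cayley–Hamilton form): if `J` is finitely generated, `I₀ ≤ J ≤ P` with `P` prime, `g ∉ P` and
`g^k J ⊆ I₀ + J²` elementwise, then `a J ⊆ I₀` for some `a ∉ P`. -/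
lemma exists_mul_mem_of_pow_mul_mem_sup (hfg : J.FG) (I₀ : Ideal R) (hI₀ : I₀ ≤ J)
    (P : Ideal R) [P.IsPrime] (hJP : J ≤ P) (g : R) (hg : g ∉ P)
    (h : ∀ y ∈ J, ∃ k : ℕ, g ^ k * y ∈ I₀ ⊔ J ^ 2) :
    ∃ a : R, a ∉ P ∧ ∀ y ∈ J, a * y ∈ I₀ := by
  classical
  obtain ⟨F, hF⟩ := hfg
  -- uniform exponent
  obtain ⟨K, hK⟩ := exists_uniform F (fun y k => g ^ k * y ∈ I₀ ⊔ J ^ 2)
    (fun y k k' hkk' hy => by
      obtain ⟨e, rfl⟩ := Nat.exists_eq_add_of_le hkk'
      rw [pow_add, mul_comm (g ^ k), mul_assoc]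
      exact Ideal.mul_mem_left _ _ hy)
    (fun y hy => h y (by rw [← hF]; exact Ideal.subset_span hy))
  have hK' : ∀ y ∈ J, g ^ K * y ∈ I₀ ⊔ J ^ 2 := by
    have hle : Ideal.span (F : Set R) ≤
        Submodule.comap (LinearMap.mulLeft R (g ^ K)) (I₀ ⊔ J ^ 2) :=
      Ideal.span_le.2 (fun y hy => hK y hy)
    intro y hy
    exact hle (by rw [hF]; exact hy)
  haveI : Module.Finite R ↥J := Module.Finite.iff_fg.2 ⟨F, hF⟩
  let N₀ : Submodule R ↥J := Submodule.comap J.subtype I₀
  let f : Module.End R (↥J ⧸ N₀) := algebraMap R (Module.End R (↥J ⧸ N₀)) (g ^ K)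
  have hrange : LinearMap.range f ≤ J • (⊤ : Submodule R (↥J ⧸ N₀)) := by
    rintro _ ⟨z, rfl⟩
    obtain ⟨y, rfl⟩ := N₀.mkQ_surjective z
    obtain ⟨i₀, hi₀, w, hw, hsum⟩ := Submodule.mem_sup.1 (hK' y y.2)
    have hwJ : w ∈ J := Ideal.pow_le_self (two_ne_zero) hw
    have h1 : f (N₀.mkQ y) = N₀.mkQ ⟨w, hwJ⟩ := by
      change (g ^ K) • N₀.mkQ y = _
      rw [← map_smul]
      have : g ^ K • y = ⟨i₀, hI₀ hi₀⟩ + ⟨w, hwJ⟩ := by
        apply Subtype.ext
        change g ^ K * (y : R) = i₀ + w
        exact hsum.symm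
      rw [this, map_add]
      have : N₀.mkQ ⟨i₀, hI₀ hi₀⟩ = 0 := by
        rw [Submodule.mkQ_apply, Submodule.Quotient.mk_eq_zero]
        exact hi₀
      rw [this, zero_add]
    rw [h1]
    have h2 : (⟨w, hwJ⟩ : ↥J) ∈ J • (⊤ : Submodule R ↥J) := by
      rw [Submodule.mem_smul_top_iff]
      change w ∈ J • J
      rw [smul_eq_mul, ← pow_two]
      exact hw
    have h3 := Submodule.mem_map_of_mem (f := N₀.mkQ) h2
    rw [Submodule.map_smul'', Submodule.map_top, Submodule.range_mkQ] at h3
    exact h3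
  obtain ⟨p, hmonic, -, hcoeff, haeval⟩ :=
    LinearMap.exists_monic_and_natDegree_eq_and_coeff_mem_pow_and_aeval_eq_zero R f J hrange
  have hae : Polynomial.aeval f p = algebraMap R (Module.End R (↥J ⧸ N₀)) (p.eval (g ^ K)) := by
    change Polynomial.aeval (algebraMap R (Module.End R (↥J ⧸ N₀)) (g ^ K)) p = _
    rw [Polynomial.aeval_algebraMap_apply, Polynomial.coe_aeval_eq_eval]
  refine ⟨p.eval (g ^ K), ?_, ?_⟩
  · intro ha
    rw [Polynomial.eval_eq_sum_range, Finset.sum_range_succ, hmonic.coeff_natDegree, one_mul] at ha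
    have h1 : ∑ i ∈ Finset.range p.natDegree, p.coeff i * (g ^ K) ^ i ∈ P := by
      refine Ideal.sum_mem _ (fun i hi => Ideal.mul_mem_right _ _ (hJP ?_))
      have : p.natDegree - i ≠ 0 := by
        have := Finset.mem_range.1 hi
        omega
      exact Ideal.pow_le_self this (hcoeff i)
    have h2 : (g ^ K) ^ p.natDegree ∈ P := by
      have := P.sub_mem ha h1
      rwa [add_sub_cancel_left] at this
    exact hg (Ideal.IsPrime.mem_of_pow_mem ‹_› _ (Ideal.IsPrime.mem_of_pow_mem ‹_› _ h2))
  · intro y hy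
    have h1 : (Polynomial.aeval f p) (N₀.mkQ ⟨y, hy⟩) = 0 := by rw [haeval]; rfl
    rw [hae, Module.algebraMap_end_apply, ← map_smul, Submodule.mkQ_apply,
      Submodule.Quotient.mk_eq_zero] at h1
    exact h1

end Nakayama

section PartB

variable {J}

lemma mk_smul_cotangent (a : R) (z : J.Cotangent) : (Ideal.Quotient.mk J a) • z = a • z := by
  rw [← Ideal.Quotient.algebraMap_eq, algebraMap_smul]

/-- the given maps of `SymGrBijective` are the canonical one. -/
lemma eq_phi_of_values (ι : Type u) [Fintype ι]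
    (φ : SymmetricPower R ι J.Cotangent →ₗ[R] PP16.grJ R J (Fintype.card ι))
    (hφ : ∀ x : ι → ↥J, φ (SymmetricPower.tprod R (fun i => J.toCotangent (x i))) = PP16.zetaJ R J x) :
    φ = phi J ι := by
  apply ext_tprod
  intro m
  obtain ⟨x, rfl⟩ := exists_lift_fun J.toCotangent J.toCotangent_surjective m
  rw [hφ, phi_tprod]

lemma phi_injective_of_symGrBijective (hsym : PP16.SymGrBijective R J) (ι : Type u) [Fintype ι]
    [Nonempty ι] : Function.Injective (phi J ι) := by
  obtain ⟨φ, hφ, hbij⟩ := hsym ι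
  rw [← eq_phi_of_values ι φ hφ]
  exact hbij.1

/-- finitely generated + projective cotangent + `Sym ≅ gr` ⇒ charts around every prime containing `J`. -/
theorem exists_chart_of_symGrBijective (hfg : J.FG) [Module.Projective (R ⧸ J) J.Cotangent]
    (hsym : PP16.SymGrBijective R J) (P : Ideal R) [P.IsPrime] (hJP : J ≤ P) :
    ∃ g : R, g ∉ P ∧ ∃ (r : ℕ) (x : Fin r → ↥J), IsChart J g x := by
  classical
  haveI : Module.Finite R ↥J := Module.Finite.iff_fg.2 hfg
  haveI : Module.Finite R J.Cotangent :=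
    Module.Finite.of_surjective J.toCotangent J.toCotangent_surjective
  haveI : Module.Finite (R ⧸ J) J.Cotangent :=
    Module.Finite.of_restrictScalars_finite R (R ⧸ J) J.Cotangent
  haveI h𝔭 : (P.map (Ideal.Quotient.mk J)).IsPrime :=
    Ideal.map_isPrime_of_surjective Ideal.Quotient.mk_surjective (by rw [Ideal.mk_ker]; exact hJP)
  obtain ⟨s, hs, r, m, l, hl, hG⟩ := Groth.Agent.Lib.LocFreeH1.exists_local_coords
    (S := R ⧸ J) (M := J.Cotangent) (P.map (Ideal.Quotient.mk J))
  obtain ⟨g, rfl⟩ := Ideal.Quotient.mk_surjective s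
  have hgP : g ∉ P := fun h => hs (Ideal.mem_map_of_mem _ h)
  have hx' : ∀ i, ∃ x : ↥J, J.toCotangent x = m i := fun i => J.toCotangent_surjective (m i)
  choose x hx using hx'
  -- generation modulo `J²`
  have hgen0 : ∀ y ∈ J, ∃ k : ℕ, g ^ k * y ∈
      Ideal.span (Set.range (fun i => (x i : R))) ⊔ J ^ 2 := by
    intro y hy
    obtain ⟨k, c, hkc⟩ := hG (J.toCotangent ⟨y, hy⟩)
    have hc' : ∀ i, ∃ c' : R, Ideal.Quotient.mk J c' = c i :=
      fun i => Ideal.Quotient.mk_surjective (c i)
    choose c' hc' using hc'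
    refine ⟨k, ?_⟩
    have h1 : J.toCotangent (g ^ k • ⟨y, hy⟩ - ∑ i, c' i • x i) = 0 := by
      rw [map_sub, map_smul, map_sum, sub_eq_zero, ← mk_smul_cotangent, map_pow, hkc]
      refine Finset.sum_congr rfl (fun i _ => ?_)
      rw [map_smul, ← mk_smul_cotangent, hc' i, hx i]
    rw [Ideal.toCotangent_eq_zero] at h1
    have h2 : g ^ k * y = ∑ i, c' i * (x i : R) +
        ((g ^ k • (⟨y, hy⟩ : ↥J) - ∑ i, c' i • x i : ↥J) : R) := by
      rw [AddSubgroupClass.coe_sub, AddSubmonoidClass.coe_finsetSum]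
      simp only [Submodule.coe_smul, smul_eq_mul]
      ring
    rw [h2]
    exact Submodule.add_mem_sup
      (Ideal.sum_mem _ (fun i _ => Ideal.mul_mem_left _ _ (Ideal.subset_span ⟨i, rfl⟩))) h1
  -- Nakayama
  obtain ⟨a, haP, ha⟩ := exists_mul_mem_of_pow_mul_mem_sup hfg
    (Ideal.span (Set.range (fun i => (x i : R))))
    (by rw [Ideal.span_le]; rintro _ ⟨i, rfl⟩; exact (x i).2) P hJP g hgP hgen0
  refine ⟨g * a, fun h => (Ideal.IsPrime.mem_or_mem ‹P.IsPrime› h).elim hgP haP, r, x, ⟨?_, ?_⟩⟩
  · intro y hy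
    refine ⟨1, ?_⟩
    rw [pow_one, mul_assoc]
    exact Ideal.mul_mem_left _ _ (ha y hy)
  · intro n Q hQ hev d
    rcases Nat.eq_zero_or_pos n with rfl | hn
    · -- degree zero
      refine ⟨0, ?_⟩
      rw [pow_zero, one_mul]
      have hC : Q = MvPolynomial.C (Q.coeff 0) :=
        MvPolynomial.totalDegree_eq_zero_iff_eq_C.1
          ((MvPolynomial.totalDegree_zero_iff_isHomogeneous _).2 hQ)
      rw [hC, MvPolynomial.eval_C, zero_add, pow_one] at hev
      rw [hC, MvPolynomial.coeff_C]
      split_ifs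
      · exact hev
      · exact zero_mem _
    · -- positive degree: use injectivity of `phi`
      let ι : Type u := ULift.{u} (Fin n)
      haveI : Nonempty ι := ⟨⟨⟨0, hn⟩⟩⟩
      have hcard : Fintype.card ι = n := by simp [ι]
      have hQ' : Q.IsHomogeneous (Fintype.card ι) := by rw [hcard]; exact hQ
      have hev' : MvPolynomial.eval (fun i => (x i : R)) Q ∈ J ^ (Fintype.card ι + 1) := by
        rw [hcard]; exact hev
      have h0 : symEval x ι Q = 0 := by
        apply phi_injective_of_symGrBijective hsym ι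
        rw [map_zero, phi_symEval_eq_zero_iff x ι Q hQ']
        exact hev'
      have hl' : ∀ i j, ((l j).restrictScalars R) (J.toCotangent (x i)) = if i = j then 1 else 0 := by
        intro i j
        rw [LinearMap.restrictScalars_apply, hx i, hl i j]
      have h1 := algebraMap_coeff_eq_zero x ι (fun j => (l j).restrictScalars R) hl' Q hQ' h0 d
      rw [IsScalarTower.algebraMap_apply R (R ⧸ J) (Localization.Away (Ideal.Quotient.mk J g)),
        Ideal.Quotient.algebraMap_eq,
        IsLocalization.map_eq_zero_iff (Submonoid.powers (Ideal.Quotient.mk J g))] at h1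
      obtain ⟨t, ht⟩ := h1
      obtain ⟨k, hk⟩ := t.2
      refine ⟨k, ?_⟩
      have hk' : (Ideal.Quotient.mk J g) ^ k = (t : R ⧸ J) := hk
      rw [← hk', ← map_pow, ← map_mul, Ideal.Quotient.eq_zero_iff_mem] at ht
      rw [mul_pow, mul_comm (g ^ k), mul_assoc]
      exact J.mul_mem_left _ ht

end PartB


section PartC

variable {J}

/-- the common interface: charts around every prime containing `J`. -/
def HasCharts (J : Ideal R) : Prop :=
  ∀ (P : Ideal R) [P.IsPrime], J ≤ P → ∃ g : R, g ∉ P ∧ ∃ (r : ℕ) (x : Fin r → ↥J), IsChart J g x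

lemma hasCharts_of_isLocallyQuasiRegular (h : PP16.IsLocallyQuasiRegular R J) : HasCharts J := by
  intro P _ hJP
  obtain ⟨g, hg, r, f, hf, hspan⟩ := h P hJP
  obtain ⟨x, hx⟩ := exists_chart_of_isQuasiRegular g f hf hspan
  exact ⟨g, hg, r, x, hx⟩

lemma isLocallyQuasiRegular_of_hasCharts (h : HasCharts J) : PP16.IsLocallyQuasiRegular R J := by
  intro P _ hJP
  obtain ⟨g, hg, r, x, hc⟩ := h P hJP
  exact ⟨g, hg, r, fun i => algebraMap R _ (x i), isQuasiRegular_of_chart g x hc⟩

lemma fg_of_hasCharts (h : HasCharts J) : J.FG := by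
  classical
  let t : Set R := {g | (J.map (algebraMap R (Localization.Away g))).FG}
  have ht : Ideal.span t = ⊤ := by
    by_contra hne
    obtain ⟨𝔪, h𝔪, hle⟩ := Ideal.exists_le_maximal _ hne
    haveI := h𝔪.isPrime
    by_cases hJ : J ≤ 𝔪
    · obtain ⟨g, hg, r, x, hc⟩ := h 𝔪 hJ
      apply hg
      apply hle
      apply Ideal.subset_span
      change (J.map (algebraMap R (Localization.Away g))).FG
      rw [← (isQuasiRegular_of_chart g x hc).2]
      exact Submodule.fg_span (Set.finite_range _)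
    · obtain ⟨g, hgJ, hg⟩ := SetLike.not_le_iff_exists.1 hJ
      apply hg
      apply hle
      apply Ideal.subset_span
      change (J.map (algebraMap R (Localization.Away g))).FG
      have : J.map (algebraMap R (Localization.Away g)) = ⊤ := by
        apply Ideal.eq_top_of_isUnit_mem _ (Ideal.mem_map_of_mem _ hgJ)
        exact IsLocalization.map_units (M := Submonoid.powers g) _ ⟨g, ⟨1, pow_one g⟩⟩
      rw [this]
      exact ⟨{1}, by simp⟩
  exact Ideal.fg_of_localizationSpan t ht (fun g => g.2)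

lemma projective_of_hasCharts (h : HasCharts J) : Module.Projective (R ⧸ J) J.Cotangent := by
  classical
  refine (Groth.Agent.Lib.LocFreeH1.projective_of_locally_free (S := R ⧸ J) (M := J.Cotangent)
    (fun 𝔮 h𝔮 => ?_)).1
  haveI := h𝔮.isPrime
  have hJP : J ≤ 𝔮.comap (Ideal.Quotient.mk J) := by
    intro y hy
    rw [Ideal.mem_comap, Ideal.Quotient.eq_zero_iff_mem.2 hy]
    exact zero_mem _
  obtain ⟨g, hg, r, x, hc⟩ := h (𝔮.comap (Ideal.Quotient.mk J)) hJP
  refine ⟨Ideal.Quotient.mk J g, fun hmem => hg (Ideal.mem_comap.2 hmem), ?_⟩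
  refine Groth.Agent.Lib.LocFreeH1.free_localizedModule_away (Ideal.Quotient.mk J g)
    (fun i => J.toCotangent (x i)) ?_ ?_
  · intro z
    obtain ⟨y, rfl⟩ := J.toCotangent_surjective z
    obtain ⟨k, hk⟩ := hc.gen y y.2
    obtain ⟨c, hcs⟩ := Ideal.mem_span_range_iff_exists_fun.1 hk
    refine ⟨k, fun i => Ideal.Quotient.mk J (c i), ?_⟩
    have h1 : g ^ k • y = ∑ i, c i • x i := by
      apply Subtype.ext
      rw [Submodule.coe_smul, AddSubmonoidClass.coe_finsetSum, smul_eq_mul, ← hcs]
      exact Finset.sum_congr rfl (fun j _ => by rw [Submodule.coe_smul, smul_eq_mul])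
    rw [← map_pow, mk_smul_cotangent, ← map_smul, h1, map_sum]
    refine Finset.sum_congr rfl (fun i _ => ?_)
    rw [map_smul, mk_smul_cotangent]
  · intro c hsum i
    have hc' : ∀ i, ∃ c' : R, Ideal.Quotient.mk J c' = c i :=
      fun i => Ideal.Quotient.mk_surjective (c i)
    choose c' hc' using hc'
    have h1 : J.toCotangent (∑ i, c' i • x i) = 0 := by
      rw [map_sum, ← hsum]
      refine Finset.sum_congr rfl (fun i _ => ?_)
      rw [map_smul, ← mk_smul_cotangent, hc' i]
    rw [Ideal.toCotangent_eq_zero] at h1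
    let Q : MvPolynomial (Fin r) R := ∑ i, MvPolynomial.monomial (Finsupp.single i 1) (c' i)
    have hQ : Q.IsHomogeneous 1 :=
      MvPolynomial.IsHomogeneous.sum _ _ _
        (fun i _ => MvPolynomial.isHomogeneous_monomial _ (by simp))
    have hev : MvPolynomial.eval (fun i => (x i : R)) Q ∈ J ^ (1 + 1) := by
      have : MvPolynomial.eval (fun i => (x i : R)) Q = ((∑ i, c' i • x i : ↥J) : R) := by
        change MvPolynomial.eval (fun i => (x i : R))
          (∑ i, MvPolynomial.monomial (Finsupp.single i 1) (c' i)) = _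
        rw [map_sum, AddSubmonoidClass.coe_finsetSum]
        refine Finset.sum_congr rfl (fun i _ => ?_)
        rw [MvPolynomial.eval_monomial, Finsupp.prod_single_index (by simp), pow_one,
          Submodule.coe_smul, smul_eq_mul]
      rw [this]
      exact h1
    obtain ⟨k, hk⟩ := hc.indep 1 Q hQ hev (Finsupp.single i 1)
    have hco : Q.coeff (Finsupp.single i 1) = c' i := by
      change MvPolynomial.coeff (Finsupp.single i 1)
        (∑ j, MvPolynomial.monomial (Finsupp.single j 1) (c' j)) = c' i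
      rw [MvPolynomial.coeff_sum]
      simp only [MvPolynomial.coeff_monomial, Finsupp.single_left_inj (one_ne_zero (α := ℕ))]
      rw [Finset.sum_ite_eq' Finset.univ i, if_pos (Finset.mem_univ i)]
    rw [hco] at hk
    refine ⟨k, ?_⟩
    rw [← hc' i, ← map_pow, ← map_mul, Ideal.Quotient.eq_zero_iff_mem]
    exact hk

lemma symGrBijective_of_hasCharts (h : HasCharts J) : PP16.SymGrBijective R J := by
  classical
  intro ι _ _
  refine ⟨phi J ι, phi_tprod J ι, ?_, phi_surjective J ι⟩
  rw [injective_iff_map_eq_zero]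
  intro ξ hξ
  let A : Ideal R := LinearMap.ker (LinearMap.toSpanSingleton R _ ξ)
  have hA : ∀ a : R, a ∈ A ↔ a • ξ = 0 := by
    intro a
    rw [LinearMap.mem_ker, LinearMap.toSpanSingleton_apply]
  have hAtop : A = ⊤ := by
    by_contra hne
    obtain ⟨𝔪, h𝔪, hle⟩ := Ideal.exists_le_maximal _ hne
    haveI := h𝔪.isPrime
    by_cases hJ : J ≤ 𝔪
    · obtain ⟨g, hg, r, x, hc⟩ := h 𝔪 hJ
      obtain ⟨K, hK⟩ := exists_pow_smul_eq_zero x ι g hc ξ hξ
      exact hg (Ideal.IsPrime.mem_of_pow_mem ‹_› K (hle ((hA _).2 hK)))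
    · obtain ⟨j, hjJ, hj⟩ := SetLike.not_le_iff_exists.1 hJ
      apply hj
      apply hle
      rw [hA]
      exact smul_eq_zero_of_forall_smul_eq_zero _
        (fun m => Ideal.Cotangent.smul_eq_zero_of_mem hjJ m) _
  have h1 : (1 : R) ∈ A := by rw [hAtop]; exact Submodule.mem_top
  rw [hA, one_smul] at h1
  exact h1

end PartC

end

end Groth.Agent.Lib.QRegSymH1
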