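import Groth.Agent.Lib.EtaleCompact46
import Groth.Agent.Lib.RelRestrict46
import Groth.Agent.Lib.AlgSpDecentPt91c
import Groth.Agent.Lib.H69AlgSp

/-!
# Locally Noetherian decent algebraic spaces are quasi-separated (helper46)
-/

set_option autoImplicit false
universe u
open CategoryTheory CategoryTheory.Limits AlgebraicGeometry Opposite TopologicalSpace

namespace Groth.Agent.Lib.QSepNoeth46

open AlgSp Groth.Agent.Lib.FinEtQuot46 Groth.Agent.Lib.AlgSpDecentSpec
  Groth.Agent.Lib.RelRestrict46 Groth.Agent.Lib.AlgSpPoints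

variable {S : Scheme.{u}} {U R : Over S} (s t : R ⟶ U)

/-- The open of `R` of arrows with source in `V` and target in `V'`. -/
def relOpens₂ (V V' : U.left.Opens) : R.left.Opens := s.left ⁻¹ᵁ V ⊓ t.left ⁻¹ᵁ V'

/-- The target map restricted to `relOpens₂`. -/
noncomputable def gRel (V V' : U.left.Opens) :
    (relOpens₂ s t V V' : Scheme.{u}) ⟶ (V' : Scheme.{u}) :=
  R.left.homOfLE (inf_le_right : relOpens₂ s t V V' ≤ t.left ⁻¹ᵁ V') ≫ (t.left ∣_ V')

theorem gRel_ι (V V' : U.left.Opens) :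
    gRel s t V V' ≫ V'.ι = (relOpens₂ s t V V').ι ≫ t.left := by
  rw [gRel, Category.assoc, morphismRestrict_ι, ← Category.assoc, Scheme.homOfLE_ι]

variable {s t}

theorem isSeparated_gRel (h : IsEqvRel s t) (V V' : U.left.Opens) (hV : IsAffineOpen V) :
    IsSeparated (gRel s t V V') := by
  have hVaff : IsAffine (V : Scheme.{u}) := hV
  have hrange : Set.range ((relOpens₂ s t V V').ι ≫ s.left) ⊆ Set.range V.ι := by
    rintro _ ⟨r, rfl⟩
    rw [Scheme.Opens.range_ι]
    exact r.2.1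
  let l : (relOpens₂ s t V V' : Scheme.{u}) ⟶ (V : Scheme.{u}) :=
    IsOpenImmersion.lift V.ι ((relOpens₂ s t V V').ι ≫ s.left) hrange
  have hl : l ≫ V.ι = (relOpens₂ s t V V').ι ≫ s.left := IsOpenImmersion.lift_fac _ _ _
  have hcond : l ≫ (V.ι ≫ U.hom) = ((relOpens₂ s t V V').ι ≫ t.left) ≫ U.hom := by
    rw [← Category.assoc, hl, Category.assoc, Category.assoc, Over.w s, Over.w t]
  let m := pullback.lift l ((relOpens₂ s t V V').ι ≫ t.left) hcond
  have hm1 : m ≫ pullback.fst _ _ = l := pullback.lift_fst _ _ _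
  have hm2 : m ≫ pullback.snd _ _ = (relOpens₂ s t V V').ι ≫ t.left := pullback.lift_snd _ _ _
  have hm : Mono m := by
    constructor
    intro T c c' hcc
    have h1 : (c ≫ (relOpens₂ s t V V').ι) ≫ t.left = (c' ≫ (relOpens₂ s t V V').ι) ≫ t.left := by
      rw [Category.assoc, Category.assoc, ← hm2, ← Category.assoc, ← Category.assoc, hcc]
    have h2 : (c ≫ (relOpens₂ s t V V').ι) ≫ s.left = (c' ≫ (relOpens₂ s t V V').ι) ≫ s.left := by
      rw [Category.assoc, Category.assoc, ← hl, ← hm1, Category.assoc, ← Category.assoc c,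
        ← Category.assoc c', hcc]
    have := eq_of_comp_eq h _ _ h1 h2
    exact (cancel_mono (relOpens₂ s t V V').ι).1 this
  have hsep1 : IsSeparated (V.ι ≫ U.hom) := inferInstance
  have hsep2 : IsSeparated (pullback.snd (V.ι ≫ U.hom) U.hom) := inferInstance
  have hsep3 : IsSeparated ((relOpens₂ s t V V').ι ≫ t.left) := by
    rw [← hm2]
    infer_instance
  have : IsSeparated (gRel s t V V' ≫ V'.ι) := by
    rw [gRel_ι]
    exact hsep3
  exact IsSeparated.of_comp (gRel s t V V') V'.ι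

theorem finite_fibre_gRel (X : AlgSp.Space S) (hX : IsDecent X.obj)
    (a : (yon S).obj U ⟶ X.obj) (ha : RepWith @Etale a)
    (hR : IsPullback ((yon S).map t) ((yon S).map s) a a) (V V' : U.left.Opens)
    (hVc : IsCompact (V : Set ↥U.left)) (hV'c : IsCompact (V' : Set ↥U.left))
    (v' : ↥(V' : Scheme.{u})) : (gRel s t V V' ⁻¹' {v'}).Finite := by
  have hc : CompactSpace ↥(restrictOver U (V ⊔ V')).left :=
    isCompact_iff_compactSpace.1 (hVc.union hV'c)
  have hR₂ := isPullback_restrict hR (V ⊔ V')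
  have ha₂ : RepWith @Etale ((yon S).map (restrictOverι U (V ⊔ V')) ≫ a) :=
    repWith_etale_restrict a ha (V ⊔ V')
  let u₂ : ↥(restrictOver U (V ⊔ V')).left := (⟨v'.1, Or.inr v'.2⟩ : ↥(V ⊔ V'))
  obtain ⟨p, hp, -, hq⟩ := hX (Points.ofPt ((yon S).map (restrictOverι U (V ⊔ V')) ≫ a) u₂)
  have hqc₂ := Groth.Agent.Lib.AlgSpDecentPt91.repWith_quasiCompact_of_mk_eq X.property
    (FieldPt.ofPt ((yon S).map (restrictOverι U (V ⊔ V')) ≫ a) u₂) p hp.symm hq
  have hfin := Groth.Agent.Lib.AlgSpDecentPt91.finite_preimage_of_qc_point _ ha₂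
    (sW s t (V ⊔ V')) (tW s t (V ⊔ V')) hR₂ u₂ hqc₂
  have hle : relOpens₂ s t V V' ≤ relOpens s t (V ⊔ V') :=
    fun r hr => ⟨Or.inr hr.2, Or.inl hr.1⟩
  refine Set.Finite.of_finite_image (f := R.left.homOfLE hle) (hfin.subset ?_)
    (R.left.homOfLE hle).isOpenEmbedding.injective.injOn
  rintro _ ⟨q, hq', rfl⟩
  change (tW s t (V ⊔ V')).left (R.left.homOfLE hle q) = u₂
  apply (V ⊔ V').ι.isOpenEmbedding.injective
  have e1 : (V ⊔ V').ι ((tW s t (V ⊔ V')).left (R.left.homOfLE hle q)) =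
      t.left ((relOpens₂ s t V V').ι q) := by
    rw [← Scheme.Hom.comp_apply, tW_left_ι, Scheme.Hom.comp_apply, ← Scheme.Hom.comp_apply
      (R.left.homOfLE hle), Scheme.homOfLE_ι]
  have e2 : t.left ((relOpens₂ s t V V').ι q) = V'.ι (gRel s t V V' q) := by
    rw [← Scheme.Hom.comp_apply, ← gRel_ι, Scheme.Hom.comp_apply]
  have e3 : gRel s t V V' q = v' := hq'
  rw [e1, e2, e3]
  rfl

theorem compactSpace_relOpens₂ (X : AlgSp.Space S) (hX : IsDecent X.obj)
    (a : (yon S).obj U ⟶ X.obj) (ha : RepWith @Etale a)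
    (hR : IsPullback ((yon S).map t) ((yon S).map s) a a) [IsLocallyNoetherian U.left]
    (V V' : U.left.Opens) (hV : IsAffineOpen V) (hV' : IsAffineOpen V') :
    CompactSpace ↥(relOpens₂ s t V V' : Scheme.{u}) := by
  have h := isEqvRel_of_isPullback hR
  have ht : Etale t.left := ha.property _ _ _ hR.flip
  have h1 : Etale (t.left ∣_ V') := inferInstance
  have h2 : Etale (gRel s t V V') := by
    unfold gRel
    infer_instance
  have h3 : IsSeparated (gRel s t V V') := isSeparated_gRel h V V' hV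
  have h4 : IsNoetherian (V' : Scheme.{u}) := by
    have : CompactSpace ↥(V' : Scheme.{u}) := isCompact_iff_compactSpace.1 hV'.isCompact
    exact { }
  exact Groth.Agent.Lib.EtaleCompact46.compactSpace_of_etale_of_finite_fibres (gRel s t V V')
    (finite_fibre_gRel X hX a ha hR V V' hV.isCompact hV'.isCompact)

/-- Opens of a scheme contained in a Noetherian open subscheme are quasi-compact. -/
theorem isCompact_of_le_of_noetherianSpace {Y : Scheme.{u}} (Q A : Y.Opens)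
    [NoetherianSpace ↥(Q : Scheme.{u})] (hA : A ≤ Q) : IsCompact (A : Set ↥Y) := by
  have h1 : IsCompact (Q.ι ⁻¹' (A : Set ↥Y)) := NoetherianSpace.isCompact _
  have h2 := h1.image Q.ι.continuous
  rwa [Set.image_preimage_eq_of_subset] at h2
  rw [Scheme.Opens.range_ι]
  exact hA

/-- The relation of a locally Noetherian atlas of a decent algebraic space is quasi-compact over
the product. -/
theorem quasiCompact_prod_lift (X : AlgSp.Space S) (hX : IsDecent X.obj)
    (a : (yon S).obj U ⟶ X.obj) (ha : RepWith @Etale a)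
    (hR : IsPullback ((yon S).map t) ((yon S).map s) a a) [IsLocallyNoetherian U.left] :
    QuasiCompact (prod.lift t s).left := by
  have ht : Etale t.left := ha.property _ _ _ hR.flip
  have hRN : IsLocallyNoetherian R.left := LocallyOfFiniteType.isLocallyNoetherian t.left
  have hf1 : (prod.lift t s).left ≫ (prod.fst : U ⨯ U ⟶ U).left = t.left := by
    rw [← Over.comp_left, prod.lift_fst]
  have hf2 : (prod.lift t s).left ≫ (prod.snd : U ⨯ U ⟶ U).left = s.left := by
    rw [← Over.comp_left, prod.lift_snd]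
  rw [quasiCompact_iff_forall_isAffineOpen]
  intro O hO
  have hch : ∀ z : ↥(U ⨯ U).left, ∃ V₁ V₂ : U.left.Opens, IsAffineOpen V₁ ∧ IsAffineOpen V₂ ∧
      (prod.fst : U ⨯ U ⟶ U).left z ∈ V₁ ∧ (prod.snd : U ⨯ U ⟶ U).left z ∈ V₂ := by
    intro z
    obtain ⟨V₁, h1, h1', -⟩ := exists_isAffineOpen_mem_and_subset
      (x := (prod.fst : U ⨯ U ⟶ U).left z) (U := ⊤) trivial
    obtain ⟨V₂, h2, h2', -⟩ := exists_isAffineOpen_mem_and_subset
      (x := (prod.snd : U ⨯ U ⟶ U).left z) (U := ⊤) trivial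
    exact ⟨V₁, V₂, h1, h2, h1', h2'⟩
  choose V₁ V₂ hV₁ hV₂ hz₁ hz₂ using hch
  let W : ↥(U ⨯ U).left → (U ⨯ U).left.Opens := fun z =>
    (prod.fst : U ⨯ U ⟶ U).left ⁻¹ᵁ V₁ z ⊓ (prod.snd : U ⨯ U ⟶ U).left ⁻¹ᵁ V₂ z ⊓ O
  have hcov : (O : Set ↥(U ⨯ U).left) ⊆ ⋃ z : ↥(U ⨯ U).left, (W z : Set ↥(U ⨯ U).left) := by
    intro z hz
    exact Set.mem_iUnion.2 ⟨z, ⟨hz₁ z, hz₂ z⟩, hz⟩
  obtain ⟨T, hT⟩ := hO.isCompact.elim_finite_subcover (fun z => (W z : Set ↥(U ⨯ U).left))
    (fun z => (W z).2) hcov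
  have heq : (((prod.lift t s).left ⁻¹ᵁ O : R.left.Opens) : Set ↥R.left) =
      ⋃ z ∈ T, (((prod.lift t s).left ⁻¹ᵁ W z : R.left.Opens) : Set ↥R.left) := by
    ext r
    simp only [Set.mem_iUnion, exists_prop]
    constructor
    · intro hr
      obtain ⟨z, hzT, hz⟩ := Set.mem_iUnion₂.1 (hT hr)
      exact ⟨z, hzT, hz⟩
    · rintro ⟨z, -, hz⟩
      exact hz.2
  rw [heq]
  refine T.finite_toSet.isCompact_biUnion fun z _ => ?_
  have hQc : CompactSpace ↥(relOpens₂ s t (V₂ z) (V₁ z) : Scheme.{u}) :=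
    compactSpace_relOpens₂ X hX a ha hR (V₂ z) (V₁ z) (hV₂ z) (hV₁ z)
  have hQN : IsNoetherian (relOpens₂ s t (V₂ z) (V₁ z) : Scheme.{u}) := { }
  have hQNS : NoetherianSpace ↥(relOpens₂ s t (V₂ z) (V₁ z) : Scheme.{u}) := inferInstance
  apply isCompact_of_le_of_noetherianSpace (relOpens₂ s t (V₂ z) (V₁ z))
  intro r hr
  have hr1 : (prod.fst : U ⨯ U ⟶ U).left ((prod.lift t s).left r) ∈ V₁ z := hr.1.1
  have hr2 : (prod.snd : U ⨯ U ⟶ U).left ((prod.lift t s).left r) ∈ V₂ z := hr.1.2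
  rw [← Scheme.Hom.comp_apply, hf1] at hr1
  rw [← Scheme.Hom.comp_apply, hf2] at hr2
  exact ⟨hr2, hr1⟩

end Groth.Agent.Lib.QSepNoeth46
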