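import Mathlib.AlgebraicGeometry.Morphisms.UniversallyOpen
import Mathlib.AlgebraicGeometry.Morphisms.QuasiCompact
import Mathlib.AlgebraicGeometry.IdealSheaf.Subscheme
import Mathlib.AlgebraicGeometry.PullbackCarrier

/-!
# Closure of the image of a quasi-compact morphism

* `exists_specializes_of_mem_closure_range`: for a quasi-compact morphism `h : W ⟶ Z`, every point
  of `closure (range h)` is a specialization of a point of `range h` (Stacks 01R8 / 02JQ).
* `exists_specializes_of_mem_closure_image`: the same for images of closed subsets.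
* `preimage_closure_range_subset`: for a generalizing map `f : X ⟶ Z` (e.g. flat),
  `f ⁻¹' closure (range h) ⊆ closure (f ⁻¹' range h)`.
* `isEmbedding_of_pullback_fst`: a quasi-compact morphism whose base change along a flat surjective
  morphism is a topological embedding is a topological embedding.
-/

set_option autoImplicit false
open CategoryTheory AlgebraicGeometry Limits MorphismProperty
universe u

namespace Groth.Agent.Lib.QcImageClosure

/-- Affine target: a point in the closure of the image of a quasi-compact morphism is a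
specialization of a point in the image. -/
theorem exists_specializes_of_mem_closure_range_Spec {W : Scheme.{u}} {S : CommRingCat.{u}}
    (h : W ⟶ Spec S) [QuasiCompact h] (z : Spec S) (hz : z ∈ closure (Set.range h)) :
    ∃ w : W, h w ⤳ z := by
  have : CompactSpace W := QuasiCompact.compactSpace_of_compactSpace h
  obtain ⟨R, g, hg⟩ := compactSpace_iff_exists.mp this
  obtain ⟨φ, hφ⟩ := Spec.homEquiv.symm.surjective (g ≫ h)
  have hrange : Set.range h = Set.range (PrimeSpectrum.comap φ.hom) := by
    have h1 : Set.range (g ≫ h) = Set.range h := by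
      simp only [Scheme.Hom.comp_base, TopCat.coe_comp]
      exact hg.range_comp _
    rw [← h1, ← hφ]
    rfl
  have hz' : (show PrimeSpectrum S from z) ∈ closure (Set.range (PrimeSpectrum.comap φ.hom)) := by
    rw [hrange] at hz; exact hz
  rw [PrimeSpectrum.closure_range_comap] at hz'
  obtain ⟨Q, -, hQ, hQle⟩ := Ideal.exists_ideal_comap_le_prime (f := φ.hom)
    (show PrimeSpectrum S from z).asIdeal (⊥ : Ideal R) hz'
  have hsp : PrimeSpectrum.comap φ.hom ⟨Q, hQ⟩ ⤳ (show PrimeSpectrum S from z) := by
    rw [← PrimeSpectrum.le_iff_specializes]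
    exact hQle
  have : (g ≫ h) (⟨Q, hQ⟩ : Spec R) = PrimeSpectrum.comap φ.hom ⟨Q, hQ⟩ := by
    rw [← hφ]; rfl
  refine ⟨g ⟨Q, hQ⟩, ?_⟩
  rw [← this] at hsp
  exact hsp

theorem exists_specializes_of_mem_closure_range {W Z : Scheme.{u}}
    (h : W ⟶ Z) [QuasiCompact h] (z : Z) (hz : z ∈ closure (Set.range h)) :
    ∃ w : W, h w ⤳ z := by
  obtain ⟨z₀, hz₀⟩ := Z.affineOpenCover.covers z
  obtain ⟨f, hf⟩ : ∃ f : Spec (Z.affineOpenCover.X (Z.affineOpenCover.idx z)) ⟶ Z,
    f = Z.affineOpenCover.f (Z.affineOpenCover.idx z) := ⟨_, rfl⟩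
  have hfo : IsOpenImmersion f := by rw [hf]; infer_instance
  rw [← hf] at hz₀
  have hr : Set.range (pullback.snd h f) = f ⁻¹' Set.range h := by
    ext y
    constructor
    · rintro ⟨w, rfl⟩
      refine ⟨pullback.fst h f w, ?_⟩
      rw [← Scheme.Hom.comp_apply, pullback.condition, Scheme.Hom.comp_apply]
    · rintro ⟨w, hw⟩
      obtain ⟨t, -, ht2⟩ := Scheme.Pullback.exists_preimage_pullback w y hw
      exact ⟨t, ht2⟩
  have hz₀' : z₀ ∈ closure (Set.range (pullback.snd h f)) := by
    rw [hr]
    apply f.isOpenEmbedding.isOpenMap.preimage_closure_subset_closure_preimage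
    rw [Set.mem_preimage, hz₀]; exact hz
  obtain ⟨w', hw'⟩ := exists_specializes_of_mem_closure_range_Spec (pullback.snd h f) z₀ hz₀'
  refine ⟨pullback.fst h f w', ?_⟩
  have := hw'.map f.continuous
  rw [hz₀] at this
  rw [← Scheme.Hom.comp_apply, pullback.condition, Scheme.Hom.comp_apply]
  exact this

theorem preimage_closure_range_subset {X W Z : Scheme.{u}} (f : X ⟶ Z) (hf : GeneralizingMap f)
    (h : W ⟶ Z) [QuasiCompact h] :
    f ⁻¹' closure (Set.range h) ⊆ closure (f ⁻¹' Set.range h) := by
  intro x hx
  obtain ⟨w, hw⟩ := exists_specializes_of_mem_closure_range h (f x) hx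
  obtain ⟨x', hx', hfx'⟩ := hf hw
  exact hx'.mem_closed isClosed_closure (subset_closure (show f x' ∈ Set.range h from hfx' ▸ ⟨w, rfl⟩))


/-- Image-of-closed-set version of `exists_specializes_of_mem_closure_range`. -/
theorem exists_specializes_of_mem_closure_image {Y Z : Scheme.{u}} (g : Y ⟶ Z) [QuasiCompact g]
    (F : Set Y) (hF : IsClosed F) (z : Z) (hz : z ∈ closure (g '' F)) :
    ∃ y ∈ F, g y ⤳ z := by
  have hrange : Set.range ((Scheme.IdealSheafData.vanishingIdeal ⟨F, hF⟩).subschemeι ≫ g) =
      g '' F := by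
    simp only [Scheme.Hom.comp_base, TopCat.coe_comp, Set.range_comp,
      Scheme.IdealSheafData.range_subschemeι, Scheme.IdealSheafData.coe_support_vanishingIdeal]
    rfl
  rw [← hrange] at hz
  obtain ⟨w, hw⟩ := exists_specializes_of_mem_closure_range _ z hz
  refine ⟨(Scheme.IdealSheafData.vanishingIdeal ⟨F, hF⟩).subschemeι w, ?_, hw⟩
  have : (Scheme.IdealSheafData.vanishingIdeal ⟨F, hF⟩).subschemeι w ∈
      Set.range (Scheme.IdealSheafData.vanishingIdeal ⟨F, hF⟩).subschemeι := ⟨w, rfl⟩
  rw [Scheme.IdealSheafData.range_subschemeι,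
    Scheme.IdealSheafData.coe_support_vanishingIdeal] at this
  exact this

/-- A quasi-compact morphism whose base change along a flat surjective morphism is a topological
embedding is a topological embedding. -/
theorem isEmbedding_of_pullback_fst {X Y Z : Scheme.{u}} (f : X ⟶ Z) (g : Y ⟶ Z) [Flat f]
    [Surjective f] [QuasiCompact g]
    (hfst : Topology.IsEmbedding (pullback.fst f g)) : Topology.IsEmbedding g := by
  have hinj : Function.Injective g := by
    intro y1 y2 hy
    obtain ⟨x, hx⟩ := f.surjective (g y1)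
    obtain ⟨w1, hw1, hw1'⟩ := Scheme.Pullback.exists_preimage_pullback x y1 hx
    obtain ⟨w2, hw2, hw2'⟩ := Scheme.Pullback.exists_preimage_pullback x y2 (hx.trans hy)
    have : w1 = w2 := hfst.injective (hw1.trans hw2.symm)
    rw [← hw1', ← hw2', this]
  refine ⟨⟨TopologicalSpace.ext_isClosed fun F => ?_⟩, hinj⟩
  rw [isClosed_induced_iff]
  constructor
  · intro hF
    refine ⟨closure (g '' F), isClosed_closure, ?_⟩
    apply Set.Subset.antisymm
    · intro y hy
      obtain ⟨x, hx⟩ := f.surjective (g y)
      obtain ⟨w, hw1, hw2⟩ := Scheme.Pullback.exists_preimage_pullback x y hx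
      have hqc : QuasiCompact
          ((Scheme.IdealSheafData.vanishingIdeal ⟨F, hF⟩).subschemeι ≫ g) := inferInstance
      have hrange : Set.range ((Scheme.IdealSheafData.vanishingIdeal ⟨F, hF⟩).subschemeι ≫ g) =
          g '' F := by
        simp only [Scheme.Hom.comp_base, TopCat.coe_comp, Set.range_comp,
          Scheme.IdealSheafData.range_subschemeι, Scheme.IdealSheafData.coe_support_vanishingIdeal]
        rfl
      have h1 : x ∈ closure (f ⁻¹' (g '' F)) := by
        rw [← hrange]
        apply preimage_closure_range_subset f (Flat.generalizingMap f)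
        rw [hrange, Set.mem_preimage, hx]
        exact hy
      have h2 : f ⁻¹' (g '' F) ⊆ pullback.fst f g '' (pullback.snd f g ⁻¹' F) := by
        rintro x₁ ⟨y₁, hy₁, hxy⟩
        obtain ⟨w₁, hw₁, hw₁'⟩ := Scheme.Pullback.exists_preimage_pullback x₁ y₁ hxy.symm
        exact ⟨w₁, by rw [Set.mem_preimage, hw₁']; exact hy₁, hw₁⟩
      have h3 : w ∈ closure (pullback.snd f g ⁻¹' F) := by
        rw [hfst.isInducing.closure_eq_preimage_closure_image, Set.mem_preimage, hw1]
        exact closure_mono h2 h1
      rw [(hF.preimage (pullback.snd f g).continuous).closure_eq, Set.mem_preimage, hw2] at h3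
      exact h3
    · intro y hy
      exact subset_closure ⟨y, hy, rfl⟩
  · rintro ⟨C, hC, rfl⟩
    exact hC.preimage g.continuous



end Groth.Agent.Lib.QcImageClosure
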