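import Groth.Agent.Lib.CIMonic58f
import Groth.Prelude.Def_W4c4chowquasisplitPn
import Mathlib.Algebra.Algebra.Subalgebra.Basic

/-!
# The truncated algebra `QsChow.P n` and its involution

Structure results for `P = F_2[ε_1, …, ε_s]/(ε_1^n, ε_j^(2^k_j))` with the involution `τ` fixing `ε_1`
and sending `ε_j ↦ ε_j + ε_1^(2j-3)`:
* `P = Rg + Rg · ε_2`, where `Rg` is the range of `QsChow.phi n` (consisting of `τ`-fixed elements);
* the annihilator of `ε_1` is `ε_1^(n-1) P`.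
-/

set_option autoImplicit false

namespace Groth.Agent.Lib.QsChow58

open QsChow MvPolynomial

variable (n : ℕ)

theorem two_le_numVars (hn : 2 ≤ n) : 2 ≤ numVars n := by unfold numVars; omega

/-- The class of the variable in position `i`. -/
noncomputable def ev (i : Fin (numVars n)) : P n := Ideal.Quotient.mk (truncIdeal n) (X i)

theorem eps_eq (j : ℕ) (h : 0 < j ∧ j ≤ numVars n) :
    eps n j = ev n ⟨j - 1, by omega⟩ := by
  rw [eps, dif_pos h]; rfl

theorem eps_succ (i : Fin (numVars n)) : eps n (i.val + 1) = ev n i := by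
  rw [eps_eq n (i.val + 1) ⟨by omega, by have := i.2; omega⟩]
  congr 1

theorem add_self (y : P n) : y + y = 0 := by
  have : y + y = (2 : ZMod 2) • y := by rw [two_smul]
  rw [this]
  have h2 : (2 : ZMod 2) = 0 := by decide
  rw [h2, zero_smul]

theorem ev_pow_bound (i : Fin (numVars n)) : ev n i ^ bound n i = 0 := by
  rw [ev, ← map_pow, Ideal.Quotient.eq_zero_iff_mem]
  exact Ideal.subset_span ⟨i, rfl⟩

/-- The defining monic polynomials. -/
noncomputable def gp (i : Fin (numVars n)) : Polynomial (ZMod 2) := Polynomial.X ^ bound n i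

theorem truncIdeal_eq : truncIdeal n = Groth.Agent.Lib.CIMonic58.ciIdeal (gp n) := by
  show Ideal.span _ = Ideal.span _
  congr 1
  refine congrArg Set.range (funext fun i => ?_)
  simp [gp]

/-- Position `0` (the variable `ε_1`). -/
def i0 (hn : 2 ≤ n) : Fin (numVars n) := ⟨0, by have := two_le_numVars n hn; omega⟩

/-- Position `1` (the variable `ε_2`). -/
def i1 (hn : 2 ≤ n) : Fin (numVars n) := ⟨1, by have := two_le_numVars n hn; omega⟩

theorem ann_ev_zero (hn : 2 ≤ n) (y : P n) (hy : ev n (i0 n hn) * y = 0) :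
    ∃ w, y = ev n (i0 n hn) ^ (n - 1) * w := by
  have hb : bound n (i0 n hn) = n := by simp [bound, i0]
  exact Groth.Agent.Lib.CIMonic58.ann_X_of_X_pow_of_eq (gp n)
    (fun i => Polynomial.monic_X_pow _) _ (truncIdeal n) (truncIdeal_eq n) (by omega)
    (by rw [gp, hb]) y hy

theorem eps_one (hn : 2 ≤ n) : eps n 1 = ev n (i0 n hn) := by
  rw [eps_eq n 1 ⟨by omega, by have := two_le_numVars n hn; omega⟩]; rfl

theorem eps_two (hn : 2 ≤ n) : eps n 2 = ev n (i1 n hn) := by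
  rw [eps_eq n 2 ⟨by omega, two_le_numVars n hn⟩]; rfl

theorem eps_one_pow (hn : 2 ≤ n) : ev n (i0 n hn) ^ n = 0 := by
  have h := ev_pow_bound n (i0 n hn)
  have hb : bound n (i0 n hn) = n := by simp [bound, i0]
  rwa [hb] at h

theorem eps_one_pow_of_le (hn : 2 ≤ n) {m : ℕ} (hm : n ≤ m) : ev n (i0 n hn) ^ m = 0 := by
  obtain ⟨d, rfl⟩ := Nat.exists_eq_add_of_le hm
  rw [pow_add, eps_one_pow, zero_mul]

/-- The range of `phi`. -/
noncomputable abbrev Rg : Subalgebra (ZMod 2) (P n) := (phi n).range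

theorem eps_one_mem (hn : 2 ≤ n) : ev n (i0 n hn) ∈ Rg n := by
  refine (AlgHom.mem_range (phi n)).mpr ⟨X (some (i0 n hn)), ?_⟩
  rw [phi, aeval_X, genImage, if_pos (by simp [i0]), eps_one n hn]

/-- The norm of `ε_2`. -/
noncomputable def Nrm (hn : 2 ≤ n) : P n := ev n (i1 n hn) ^ 2 + ev n (i0 n hn) * ev n (i1 n hn)

theorem Nrm_mem (hn : 2 ≤ n) : Nrm n hn ∈ Rg n := by
  refine (AlgHom.mem_range (phi n)).mpr ⟨X (some (i1 n hn)), ?_⟩
  rw [phi, aeval_X, genImage, if_neg (by simp [i1]), if_pos (by simp [i1]), eps_one n hn,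
    eps_two n hn, Nrm]

/-- The invariant replacing `ε_j`, `j ≥ 3`. -/
noncomputable def ebar (hn : 2 ≤ n) (i : Fin (numVars n)) : P n :=
  ev n i + ev n (i0 n hn) ^ (2 * (i.val + 1) - 4) * ev n (i1 n hn)

theorem ebar_mem (hn : 2 ≤ n) (i : Fin (numVars n)) (hi : 2 ≤ i.val) : ebar n hn i ∈ Rg n := by
  refine (AlgHom.mem_range (phi n)).mpr ⟨X (some i), ?_⟩
  rw [phi, aeval_X, genImage, if_neg (by omega), if_neg (by omega), eps_one n hn, eps_two n hn,
    eps_succ, ebar]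

theorem xbar_mem (hn : 2 ≤ n) : ev n (i0 n hn) ^ (n - 1) * ev n (i1 n hn) ∈ Rg n := by
  refine (AlgHom.mem_range (phi n)).mpr ⟨X none, ?_⟩
  rw [phi, aeval_X, genImage, eps_one n hn, eps_two n hn]

theorem T_sq (hn : 2 ≤ n) :
    ev n (i1 n hn) ^ 2 = Nrm n hn + ev n (i0 n hn) * ev n (i1 n hn) := by
  rw [Nrm, add_assoc, add_self, add_zero]

/-- Decomposition `y = a + b ε_2` with `a, b` in the range of `phi`. -/
def Dec (hn : 2 ≤ n) (y : P n) : Prop := ∃ a ∈ Rg n, ∃ b ∈ Rg n, y = a + b * ev n (i1 n hn)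

theorem Dec.add {hn : 2 ≤ n} {y z : P n} (hy : Dec n hn y) (hz : Dec n hn z) :
    Dec n hn (y + z) := by
  obtain ⟨a, ha, b, hb, rfl⟩ := hy
  obtain ⟨c, hc, d, hd, rfl⟩ := hz
  exact ⟨a + c, Subalgebra.add_mem _ ha hc, b + d, Subalgebra.add_mem _ hb hd, by ring⟩

theorem Dec.mul {hn : 2 ≤ n} {y z : P n} (hy : Dec n hn y) (hz : Dec n hn z) :
    Dec n hn (y * z) := by
  obtain ⟨a, ha, b, hb, rfl⟩ := hy
  obtain ⟨c, hc, d, hd, rfl⟩ := hz
  refine ⟨a * c + b * d * Nrm n hn,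
    Subalgebra.add_mem _ (Subalgebra.mul_mem _ ha hc)
      (Subalgebra.mul_mem _ (Subalgebra.mul_mem _ hb hd) (Nrm_mem n hn)),
    a * d + b * c + b * d * ev n (i0 n hn),
    Subalgebra.add_mem _ (Subalgebra.add_mem _ (Subalgebra.mul_mem _ ha hd)
      (Subalgebra.mul_mem _ hb hc))
      (Subalgebra.mul_mem _ (Subalgebra.mul_mem _ hb hd) (eps_one_mem n hn)), ?_⟩
  have h := T_sq n hn
  linear_combination (b * d) * h

theorem Dec.of_mem {hn : 2 ≤ n} {y : P n} (hy : y ∈ Rg n) : Dec n hn y :=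
  ⟨y, hy, 0, Subalgebra.zero_mem _, by ring⟩

theorem dec_ev (hn : 2 ≤ n) (i : Fin (numVars n)) : Dec n hn (ev n i) := by
  by_cases h0 : i.val = 0
  · have : i = i0 n hn := Fin.ext h0
    rw [this]; exact Dec.of_mem n (eps_one_mem n hn)
  by_cases h1 : i.val = 1
  · have : i = i1 n hn := Fin.ext h1
    rw [this]
    exact ⟨0, Subalgebra.zero_mem _, 1, Subalgebra.one_mem _, by ring⟩
  · have hi : 2 ≤ i.val := by omega
    refine ⟨ebar n hn i, ebar_mem n hn i hi, ev n (i0 n hn) ^ (2 * (i.val + 1) - 4),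
      Subalgebra.pow_mem _ (eps_one_mem n hn) _, ?_⟩
    rw [ebar, add_assoc, add_self, add_zero]

theorem dec_all (hn : 2 ≤ n) (y : P n) : Dec n hn y := by
  obtain ⟨f, rfl⟩ := Ideal.Quotient.mk_surjective y
  induction f using MvPolynomial.induction_on with
  | C c =>
    exact Dec.of_mem n (Subalgebra.algebraMap_mem _ c)
  | add p q hp hq => rw [map_add]; exact hp.add n hq
  | mul_X p i hp => rw [map_mul]; exact hp.mul n (dec_ev n hn i)

theorem two_eq_zero : (2 : P n) = 0 := by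
  rw [← one_add_one_eq_two]; exact add_self n 1

section Tau

variable (hn : 2 ≤ n) (τ : P n →ₐ[ZMod 2] P n) (hτ1 : τ (eps n 1) = eps n 1)
  (hτ : ∀ j : ℕ, 2 ≤ j → j ≤ numVars n → τ (eps n j) = eps n j + eps n 1 ^ (2 * j - 3))

include hn

include hτ1 in
theorem tau_eps1 : τ (ev n (i0 n hn)) = ev n (i0 n hn) := by
  rw [← eps_one n hn]; exact hτ1

include hτ in
theorem tau_ev (i : Fin (numVars n)) (hi : 1 ≤ i.val) :
    τ (ev n i) = ev n i + ev n (i0 n hn) ^ (2 * (i.val + 1) - 3) := by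
  have := hτ (i.val + 1) (by omega) (by have := i.2; omega)
  rwa [eps_succ, eps_one n hn] at this

include hτ in
theorem tau_T : τ (ev n (i1 n hn)) = ev n (i1 n hn) + ev n (i0 n hn) := by
  have := tau_ev n hn τ hτ (i1 n hn) (by simp [i1])
  simpa [i1] using this

include hτ1 hτ in
theorem tau_comp_phi : τ.comp (phi n) = phi n := by
  refine MvPolynomial.algHom_ext fun o => ?_
  rw [AlgHom.comp_apply, phi, aeval_X]
  have h2 := two_eq_zero n
  have hT := tau_T n hn τ hτ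
  have hE := tau_eps1 n hn τ hτ1
  cases o with
  | none =>
    rw [genImage, eps_one n hn, eps_two n hn, map_mul, map_pow, hE, hT, mul_add, ← pow_succ,
      show n - 1 + 1 = n by omega, eps_one_pow, add_zero]
  | some i =>
    rw [genImage]
    by_cases h0 : i.val = 0
    · rw [if_pos h0, eps_one n hn, hE]
    rw [if_neg h0]
    by_cases h1 : i.val = 1
    · rw [if_pos h1, eps_one n hn, eps_two n hn, map_add, map_mul, map_pow, hE, hT]
      linear_combination (ev n (i1 n hn) * ev n (i0 n hn) + ev n (i0 n hn) ^ 2) * h2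
    rw [if_neg h1, eps_one n hn, eps_two n hn, eps_succ, map_add, map_mul, map_pow, hE, hT,
      tau_ev n hn τ hτ i (by omega)]
    have hm : 2 * (i.val + 1) - 3 = (2 * (i.val + 1) - 4) + 1 := by omega
    rw [hm, pow_succ]
    linear_combination (ev n (i0 n hn) ^ (2 * (i.val + 1) - 4) * ev n (i0 n hn)) * h2

include hτ1 hτ in
theorem tau_fixed_of_mem {y : P n} (hy : y ∈ Rg n) : τ y = y := by
  obtain ⟨q, rfl⟩ := (AlgHom.mem_range (phi n)).mp hy
  exact DFunLike.congr_fun (tau_comp_phi n hn τ hτ1 hτ) q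

include hτ1 hτ in
/-- `y + τ y = ε_1 b` for `y = a + b ε_2`. -/
theorem add_tau_dec {a b : P n} (ha : a ∈ Rg n) (hb : b ∈ Rg n) :
    (a + b * ev n (i1 n hn)) + τ (a + b * ev n (i1 n hn)) = ev n (i0 n hn) * b := by
  rw [map_add, map_mul, tau_fixed_of_mem n hn τ hτ1 hτ ha, tau_fixed_of_mem n hn τ hτ1 hτ hb,
    tau_T n hn τ hτ]
  have h2 := two_eq_zero n
  linear_combination (a + b * ev n (i1 n hn)) * h2

include hτ1 hτ in
/-- If `y = a + b ε_2` is fixed then `ε_1 b = 0`. -/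
theorem eps_mul_eq_zero_of_fixed {a b : P n} (ha : a ∈ Rg n) (hb : b ∈ Rg n)
    (hfix : τ (a + b * ev n (i1 n hn)) = a + b * ev n (i1 n hn)) : ev n (i0 n hn) * b = 0 := by
  rw [← add_tau_dec n hn τ hτ1 hτ ha hb, hfix, add_self]

include hτ1 hτ in
/-- The range of `phi` is the fixed subalgebra. -/
theorem range_phi_eq_equalizer :
    (phi n).range = AlgHom.equalizer τ (AlgHom.id (ZMod 2) (P n)) := by
  ext y
  rw [AlgHom.mem_equalizer, AlgHom.id_apply]
  constructor
  · exact fun hy => tau_fixed_of_mem n hn τ hτ1 hτ hy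
  · intro hfix
    obtain ⟨a, ha, b, hb, rfl⟩ := dec_all n hn y
    have h0 := eps_mul_eq_zero_of_fixed n hn τ hτ1 hτ ha hb hfix
    obtain ⟨w, hw⟩ := ann_ev_zero n hn b h0
    obtain ⟨a', ha', b', hb', rfl⟩ := dec_all n hn w
    have hT := T_sq n hn
    have hpow : ev n (i0 n hn) ^ (n - 1) * ev n (i0 n hn) = 0 := by
      rw [← pow_succ, show n - 1 + 1 = n by omega, eps_one_pow]
    have key : b * ev n (i1 n hn) = a' * (ev n (i0 n hn) ^ (n - 1) * ev n (i1 n hn)) +
        b' * (ev n (i0 n hn) ^ (n - 1) * Nrm n hn) := by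
      rw [hw]
      linear_combination (ev n (i0 n hn) ^ (n - 1) * b') * hT +
        (b' * ev n (i1 n hn)) * hpow
    rw [key]
    refine Subalgebra.add_mem _ ha (Subalgebra.add_mem _
      (Subalgebra.mul_mem _ ha' (xbar_mem n hn))
      (Subalgebra.mul_mem _ hb' (Subalgebra.mul_mem _
        (Subalgebra.pow_mem _ (eps_one_mem n hn) _) (Nrm_mem n hn))))

include hτ1 hτ in
/-- The image of `1 + τ` is `ε_1` times the fixed subalgebra. -/
theorem range_add_tau :
    Set.range (fun y : P n => y + τ y) =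
      (fun z : P n => eps n 1 * z) ''
        (AlgHom.equalizer τ (AlgHom.id (ZMod 2) (P n)) : Set (P n)) := by
  ext x
  constructor
  · rintro ⟨y, rfl⟩
    obtain ⟨a, ha, b, hb, rfl⟩ := dec_all n hn y
    refine ⟨b, ?_, ?_⟩
    · rw [SetLike.mem_coe, AlgHom.mem_equalizer, AlgHom.id_apply]
      exact tau_fixed_of_mem n hn τ hτ1 hτ hb
    · show eps n 1 * b = _
      rw [eps_one n hn]
      exact (add_tau_dec n hn τ hτ1 hτ ha hb).symm
  · rintro ⟨z, hz, rfl⟩
    rw [SetLike.mem_coe, AlgHom.mem_equalizer, AlgHom.id_apply] at hz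
    obtain ⟨a, ha, b, hb, rfl⟩ := dec_all n hn z
    have h0 := eps_mul_eq_zero_of_fixed n hn τ hτ1 hτ ha hb hz
    refine ⟨a * ev n (i1 n hn), ?_⟩
    show a * ev n (i1 n hn) + τ (a * ev n (i1 n hn)) = eps n 1 * _
    have h1 := add_tau_dec n hn τ hτ1 hτ (Subalgebra.zero_mem (Rg n)) ha
    rw [zero_add] at h1
    rw [h1, eps_one n hn]
    linear_combination (-ev n (i1 n hn)) * h0

include hτ1 hτ in
/-- Divisibility of `y + τ y` by `ε_1 ^ m` is witnessed by a fixed element. -/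
theorem add_tau_eq_pow_mul (m : ℕ) (hm1 : 1 ≤ m) (hmn : m ≤ n) (y : P n)
    (hy : y + τ y ∈ Ideal.span ({eps n 1 ^ m} : Set (P n))) :
    ∃ z : P n, τ z = z ∧ y + τ y = eps n 1 ^ m * z := by
  obtain ⟨a, ha, b, hb, rfl⟩ := dec_all n hn y
  rw [add_tau_dec n hn τ hτ1 hτ ha hb, eps_one n hn] at hy ⊢
  obtain ⟨w, hw⟩ := Ideal.mem_span_singleton'.mp hy
  -- `ε (b - ε^(m-1) w) = 0`
  have hm : m = (m - 1) + 1 := by omega
  have h1 : ev n (i0 n hn) * (b - ev n (i0 n hn) ^ (m - 1) * w) = 0 := by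
    have : ev n (i0 n hn) ^ m = ev n (i0 n hn) ^ (m - 1) * ev n (i0 n hn) := by
      rw [← pow_succ, ← hm]
    rw [this] at hw
    linear_combination -hw
  obtain ⟨w', hw'⟩ := ann_ev_zero n hn _ h1
  -- so `b = ε^(m-1) w''`
  obtain ⟨d, hd⟩ := Nat.exists_eq_add_of_le (show m - 1 ≤ n - 1 by omega)
  have hb' : b = ev n (i0 n hn) ^ (m - 1) * (w + ev n (i0 n hn) ^ d * w') := by
    have : ev n (i0 n hn) ^ (n - 1) = ev n (i0 n hn) ^ (m - 1) * ev n (i0 n hn) ^ d := by
      rw [← pow_add, ← hd]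
    rw [this] at hw'
    linear_combination hw'
  obtain ⟨a'', ha'', b'', hb'', hw''⟩ := dec_all n hn (w + ev n (i0 n hn) ^ d * w')
  rw [hw''] at hb'
  -- apply `τ` to `b`
  have hτb := tau_fixed_of_mem n hn τ hτ1 hτ hb
  have h2 : ev n (i0 n hn) ^ m * b'' = 0 := by
    have h3 : τ b = ev n (i0 n hn) ^ (m - 1) * (a'' + b'' * (ev n (i1 n hn) + ev n (i0 n hn))) := by
      conv_lhs => rw [hb']
      rw [map_mul, map_pow, tau_eps1 n hn τ hτ1, map_add, map_mul,
        tau_fixed_of_mem n hn τ hτ1 hτ ha'', tau_fixed_of_mem n hn τ hτ1 hτ hb'',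
        tau_T n hn τ hτ]
    rw [hτb] at h3
    have h4 : ev n (i0 n hn) ^ m = ev n (i0 n hn) ^ (m - 1) * ev n (i0 n hn) := by
      rw [← pow_succ, ← hm]
    rw [h4]
    conv at h3 => lhs; rw [hb']
    linear_combination -h3
  refine ⟨a'', tau_fixed_of_mem n hn τ hτ1 hτ ha'', ?_⟩
  have h4 : ev n (i0 n hn) ^ m = ev n (i0 n hn) ^ (m - 1) * ev n (i0 n hn) := by
    rw [← pow_succ, ← hm]
  rw [hb']
  rw [h4] at h2 ⊢
  linear_combination (ev n (i1 n hn)) * h2

end Tau

end Groth.Agent.Lib.QsChow58
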