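import Groth.Agent.Lib.QsChow58

/-!
# The kernel of `QsChow.phi`, I: the relations lie in the kernel

Arithmetic of the exponents `klog`, the telescoping identity
`Σ_{t<k} ε^(2^k - 2^(t+1)) (T² + εT)^(2^t) = T^(2^k) + ε^(2^k-1) T` in characteristic two, and
`presIdeal n ≤ ker (phi n)`.
-/

set_option autoImplicit false

namespace Groth.Agent.Lib.QsChow58

open QsChow MvPolynomial

/-! ### Arithmetic -/

theorem le_mul_two_pow_log (n d : ℕ) (hn : 1 ≤ n) (hd : 1 ≤ d) (hdn : d ≤ 2 * n - 1) :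
    n ≤ d * 2 ^ Nat.log 2 ((2 * n - 1) / d) := by
  set m := (2 * n - 1) / d with hm
  have hm1 : 1 ≤ m := by
    rw [hm]; exact (Nat.one_le_div_iff (by omega)).mpr hdn
  have h1 : m < 2 ^ (Nat.log 2 m + 1) := Nat.lt_pow_succ_log_self (by norm_num) m
  have h2 : 2 * n - 1 < d * (m + 1) := by
    rw [hm]; exact Nat.lt_mul_div_succ _ (by omega)
  have h3 : d * (m + 1) ≤ d * 2 ^ (Nat.log 2 m + 1) := Nat.mul_le_mul_left d h1
  rw [pow_succ] at h3
  have h4 : 2 * n - 1 < d * (2 ^ Nat.log 2 m * 2) := lt_of_lt_of_le h2 h3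
  have h5 : d * (2 ^ Nat.log 2 m * 2) = 2 * (d * 2 ^ Nat.log 2 m) := by ring
  omega

variable (n : ℕ)

theorem le_two_pow_klog_two (hn : 2 ≤ n) : n ≤ 2 ^ klog n 2 := by
  have := le_mul_two_pow_log n 1 (by omega) le_rfl (by omega)
  simpa [klog] using this

theorem one_le_klog_two (hn : 2 ≤ n) : 1 ≤ klog n 2 := by
  unfold klog
  have : 2 ≤ (2 * n - 1) / (2 * 2 - 3) := by
    norm_num; omega
  exact Nat.log_pos (by norm_num) this

theorem le_mul_two_pow_klog (hn : 2 ≤ n) (j : ℕ) (hj : 2 ≤ j) (hjs : j ≤ numVars n) :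
    n ≤ (2 * j - 3) * 2 ^ klog n j := by
  unfold numVars at hjs
  exact le_mul_two_pow_log n (2 * j - 3) (by omega) (by omega) (by omega)

/-! ### The telescoping identity -/

theorem add_pow_two_pow {A : Type*} [CommRing A] (h2 : ∀ y : A, y + y = 0) (a b : A) (t : ℕ) :
    (a + b) ^ 2 ^ t = a ^ 2 ^ t + b ^ 2 ^ t := by
  induction t with
  | zero => simp
  | succ t ih =>
    rw [pow_succ, pow_mul, ih, pow_mul, pow_mul]
    have := h2 (a ^ 2 ^ t * b ^ 2 ^ t)
    linear_combination this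

theorem telescope {A : Type*} [CommRing A] (h2 : ∀ y : A, y + y = 0) (ε T : A) (k : ℕ) :
    ∑ t ∈ Finset.range k, ε ^ (2 ^ k - 2 ^ (t + 1)) * (T ^ 2 + ε * T) ^ 2 ^ t =
      T ^ 2 ^ k + ε ^ (2 ^ k - 1) * T := by
  induction k with
  | zero => simpa using (h2 T).symm
  | succ k ih =>
    rw [Finset.sum_range_succ]
    have h1 : ∀ t ∈ Finset.range k, ε ^ (2 ^ (k + 1) - 2 ^ (t + 1)) * (T ^ 2 + ε * T) ^ 2 ^ t =
        ε ^ 2 ^ k * (ε ^ (2 ^ k - 2 ^ (t + 1)) * (T ^ 2 + ε * T) ^ 2 ^ t) := by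
      intro t ht
      have htk : t + 1 ≤ k := by simpa [Nat.succ_le_iff] using Finset.mem_range.mp ht
      have hle : 2 ^ (t + 1) ≤ 2 ^ k := Nat.pow_le_pow_right (by norm_num) htk
      have : 2 ^ (k + 1) - 2 ^ (t + 1) = 2 ^ k + (2 ^ k - 2 ^ (t + 1)) := by
        rw [pow_succ]; omega
      rw [this, pow_add]; ring
    rw [Finset.sum_congr rfl h1, ← Finset.mul_sum, ih, Nat.sub_self, pow_zero, one_mul,
      add_pow_two_pow h2, mul_pow, ← pow_mul, show 2 * 2 ^ k = 2 ^ (k + 1) by ring]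
    have hk1 : 1 ≤ 2 ^ k := Nat.one_le_two_pow
    have h3 : ε ^ (2 ^ (k + 1) - 1) = ε ^ 2 ^ k * ε ^ (2 ^ k - 1) := by
      rw [← pow_add]; congr 1; rw [pow_succ]; omega
    rw [h3]
    have := h2 (ε ^ 2 ^ k * T ^ 2 ^ k)
    linear_combination this

/-! ### Values of `phi` -/

theorem evar_succ (i : Fin (numVars n)) : evar n (i.val + 1) = X (some i) := by
  rw [evar, dif_pos ⟨by omega, by have := i.2; omega⟩]
  congr 2

theorem evar_one (hn : 2 ≤ n) : evar n 1 = X (some (i0 n hn)) := evar_succ n (i0 n hn)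

theorem evar_two (hn : 2 ≤ n) : evar n 2 = X (some (i1 n hn)) := evar_succ n (i1 n hn)

theorem phi_X_zero (hn : 2 ≤ n) : phi n (X (some (i0 n hn))) = ev n (i0 n hn) := by
  rw [phi, aeval_X, genImage, if_pos (by simp [i0]), eps_one n hn]

theorem phi_X_one (hn : 2 ≤ n) : phi n (X (some (i1 n hn))) = Nrm n hn := by
  rw [phi, aeval_X, genImage, if_neg (by simp [i1]), if_pos (by simp [i1]), eps_one n hn,
    eps_two n hn, Nrm]

theorem phi_X_some (hn : 2 ≤ n) (i : Fin (numVars n)) (hi : 2 ≤ i.val) :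
    phi n (X (some i)) = ebar n hn i := by
  rw [phi, aeval_X, genImage, if_neg (by omega), if_neg (by omega), eps_one n hn, eps_two n hn,
    eps_succ, ebar]

theorem phi_X_none (hn : 2 ≤ n) :
    phi n (X none) = ev n (i0 n hn) ^ (n - 1) * ev n (i1 n hn) := by
  rw [phi, aeval_X, genImage, eps_one n hn, eps_two n hn]

theorem phi_sPoly (hn : 2 ≤ n) (j : ℕ) :
    phi n (sPoly n j) = ev n (i1 n hn) ^ 2 ^ klog n j +
      ev n (i0 n hn) ^ (2 ^ klog n j - 1) * ev n (i1 n hn) := by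
  rw [sPoly, map_sum, ← telescope (add_self n)]
  refine Finset.sum_congr rfl fun t _ => ?_
  rw [map_mul, map_pow, map_pow, evar_one n hn, evar_two n hn, phi_X_zero n hn, phi_X_one n hn, Nrm]

theorem ev_one_pow_klog (hn : 2 ≤ n) : ev n (i1 n hn) ^ 2 ^ klog n 2 = 0 := by
  have h := ev_pow_bound n (i1 n hn)
  have hb : bound n (i1 n hn) = 2 ^ klog n 2 := by simp [bound, i1]
  rwa [hb] at h

theorem ev_pow_klog (i : Fin (numVars n)) (hi : 2 ≤ i.val) :
    ev n i ^ 2 ^ klog n (i.val + 1) = 0 := by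
  have h := ev_pow_bound n i
  have hb : bound n i = 2 ^ klog n (i.val + 1) := by
    rw [bound, if_neg (by omega)]
  rwa [hb] at h

theorem hrel_one : hrel n 1 = 0 := by
  rw [hrel, if_neg (by omega), if_neg (by omega)]

theorem hrel_two : hrel n 2 = evar n 1 ^ (2 ^ klog n 2 - n) * xvar n + sPoly n 2 := by
  rw [hrel, if_pos rfl]

theorem hrel_succ (i : Fin (numVars n)) (hi : 2 ≤ i.val) :
    hrel n (i.val + 1) = evar n (i.val + 1) ^ 2 ^ klog n (i.val + 1) +
      evar n 1 ^ ((2 * (i.val + 1) - 3) * 2 ^ klog n (i.val + 1) - n) * xvar n +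
      evar n 1 ^ ((2 * (i.val + 1) - 4) * 2 ^ klog n (i.val + 1)) * sPoly n (i.val + 1) := by
  rw [hrel, if_neg (by omega), if_pos ⟨by omega, by have := i.2; omega⟩]

theorem phi_hrel (hn : 2 ≤ n) (i : Fin (numVars n)) : phi n (hrel n (i.val + 1)) = 0 := by
  rcases Nat.lt_or_ge i.val 2 with h | h
  · rcases Nat.lt_or_ge i.val 1 with h0 | h1
    · have : i.val + 1 = 1 := by omega
      rw [this, hrel_one, map_zero]
    · have : i.val + 1 = 2 := by omega
      rw [this, hrel_two, map_add, map_mul, map_pow, phi_sPoly n hn, evar_one n hn, phi_X_zero n hn,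
        xvar, phi_X_none n hn, ev_one_pow_klog, zero_add, ← mul_assoc, ← pow_add]
      have hle := le_two_pow_klog_two n hn
      have : 2 ^ klog n 2 - n + (n - 1) = 2 ^ klog n 2 - 1 := by omega
      rw [this]
      exact add_self n _
  · have hle := le_mul_two_pow_klog n hn (i.val + 1) (by omega) (by have := i.2; omega)
    set q := 2 ^ klog n (i.val + 1) with hq
    have hq1 : 1 ≤ q := Nat.one_le_two_pow
    rw [hrel_succ n i h, map_add, map_add, map_mul, map_mul, map_pow, map_pow, map_pow,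
      phi_sPoly n hn, evar_one n hn, phi_X_zero n hn, xvar, phi_X_none n hn, evar_succ, phi_X_some n hn i h,
      ebar, ← hq, add_pow_two_pow (add_self n), ev_pow_klog n i h, zero_add, mul_pow, ← pow_mul]
    have e1 : ev n (i0 n hn) ^ ((2 * (i.val + 1) - 3) * q - n) *
        (ev n (i0 n hn) ^ (n - 1) * ev n (i1 n hn)) =
        ev n (i0 n hn) ^ ((2 * (i.val + 1) - 3) * q - 1) * ev n (i1 n hn) := by
      rw [← mul_assoc, ← pow_add]
      congr 2
      omega
    have e2 : ev n (i0 n hn) ^ ((2 * (i.val + 1) - 4) * q) *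
        (ev n (i1 n hn) ^ q + ev n (i0 n hn) ^ (q - 1) * ev n (i1 n hn)) =
        ev n (i0 n hn) ^ ((2 * (i.val + 1) - 4) * q) * ev n (i1 n hn) ^ q +
        ev n (i0 n hn) ^ ((2 * (i.val + 1) - 3) * q - 1) * ev n (i1 n hn) := by
      rw [mul_add, ← mul_assoc, ← pow_add]
      congr 3
      have : (2 * (i.val + 1) - 3) = (2 * (i.val + 1) - 4) + 1 := by omega
      rw [this, add_mul, one_mul]
      omega
    rw [e1, e2]
    have a1 := add_self n (ev n (i0 n hn) ^ ((2 * (i.val + 1) - 4) * q) * ev n (i1 n hn) ^ q)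
    have a2 := add_self n (ev n (i0 n hn) ^ ((2 * (i.val + 1) - 3) * q - 1) * ev n (i1 n hn))
    linear_combination a1 + a2

theorem presIdeal_le_ker (hn : 2 ≤ n) : presIdeal n ≤ RingHom.ker (phi n) := by
  rw [presIdeal, Ideal.span_le]
  rintro f (hf | ⟨i, rfl⟩)
  · rcases hf with rfl | rfl | rfl
    · show phi n _ = 0
      rw [map_pow, evar_one n hn, phi_X_zero n hn, eps_one_pow n hn]
    · show phi n _ = 0
      rw [map_mul, evar_one n hn, phi_X_zero n hn, xvar, phi_X_none n hn, ← mul_assoc, ← pow_succ']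
      have : n - 1 + 1 = n := by omega
      rw [this, eps_one_pow n hn, zero_mul]
    · show phi n _ = 0
      rw [map_pow, xvar, phi_X_none n hn, mul_pow, ← pow_mul]
      have : n ≤ (n - 1) * 2 := by omega
      rw [eps_one_pow_of_le n hn this, zero_mul]
  · exact phi_hrel n hn i

end Groth.Agent.Lib.QsChow58
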