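import Groth.Agent.Lib.QsChow58b

/-!
# The kernel of `QsChow.phi`, II: normal forms modulo `presIdeal`

Every polynomial of `F_2[e_1, …, e_s, x]` is congruent modulo `presIdeal n` to an `F_2`-combination of
the *normal monomials* `e_1^a e_2^c ∏_{j ≥ 3} e_j^(b_j) x^d` with `a < n`, `c < 2^(k_2 - 1)`,
`b_j < 2^(k_j)`, `d ≤ 1` and `a = 0` when `d = 1`.
-/

set_option autoImplicit false

namespace Groth.Agent.Lib.QsChow58

open QsChow MvPolynomial

variable (n : ℕ) (hn : 2 ≤ n)

/-- The exponent bounds of the normal monomials. -/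
def nb (i : Fin (numVars n)) : ℕ :=
  if i.val = 0 then n else if i.val = 1 then 2 ^ (klog n 2 - 1) else 2 ^ klog n (i.val + 1)

include hn in
theorem nb_pos (i : Fin (numVars n)) : 0 < nb n i := by
  unfold nb
  split_ifs
  · omega
  · exact Nat.two_pow_pos _
  · exact Nat.two_pow_pos _

theorem nb_zero : nb n (i0 n hn) = n := by simp [nb, i0]

theorem nb_one : nb n (i1 n hn) = 2 ^ (klog n 2 - 1) := by simp [nb, i1]

theorem nb_of_two_le (i : Fin (numVars n)) (hi : 2 ≤ i.val) : nb n i = 2 ^ klog n (i.val + 1) := by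
  rw [nb, if_neg (by omega), if_neg (by omega)]

/-- Exponent vectors of normal monomials. -/
def Normal (ν : Option (Fin (numVars n)) →₀ ℕ) : Prop :=
  (∀ i, ν (some i) < nb n i) ∧ ν none ≤ 1 ∧ (ν none = 1 → ν (some (i0 n hn)) = 0)

variable {n hn}

theorem Normal.mono {ν ν' : Option (Fin (numVars n)) →₀ ℕ} (h : Normal n hn ν) (hle : ν' ≤ ν) :
    Normal n hn ν' := by
  refine ⟨fun i => lt_of_le_of_lt (hle _) (h.1 i), le_trans (hle _) h.2.1, fun h1 => ?_⟩
  have h2 : ν none = 1 := le_antisymm h.2.1 (h1 ▸ hle none)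
  have := hle (some (i0 n hn))
  rw [h.2.2 h2] at this
  exact Nat.le_zero.mp this

theorem normal_zero : Normal n hn 0 :=
  ⟨fun i => by simpa using nb_pos n hn i, by simp, fun h => by simp⟩

variable (n hn)

/-- The span of the normal monomials plus the relation ideal. -/
noncomputable def Sp : Submodule (ZMod 2) (FreeE n) :=
  Submodule.span (ZMod 2) {f | ∃ ν, Normal n hn ν ∧ f = monomial ν 1} ⊔
    (presIdeal n).restrictScalars (ZMod 2)

variable {n hn}

theorem mem_Sp_of_normal {ν : Option (Fin (numVars n)) →₀ ℕ} (h : Normal n hn ν) :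
    (monomial ν 1 : FreeE n) ∈ Sp n hn :=
  Submodule.mem_sup_left (Submodule.subset_span ⟨ν, h, rfl⟩)

theorem mem_Sp_of_mem {f : FreeE n} (h : f ∈ presIdeal n) : f ∈ Sp n hn :=
  Submodule.mem_sup_right h

variable (n hn)

/-- The polynomials multiplication by which preserves `Sp`. -/
noncomputable def Stab : Subalgebra (ZMod 2) (FreeE n) where
  carrier := {g | ∀ f ∈ Sp n hn, g * f ∈ Sp n hn}
  mul_mem' := fun {a b} ha hb f hf => by
    rw [mul_assoc]; exact ha _ (hb _ hf)
  add_mem' := fun {a b} ha hb f hf => by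
    rw [add_mul]; exact (Sp n hn).add_mem (ha _ hf) (hb _ hf)
  algebraMap_mem' := fun r f hf => by
    rw [← Algebra.smul_def]; exact (Sp n hn).smul_mem r hf

variable {n hn}

theorem mem_Stab_iff {g : FreeE n} : g ∈ Stab n hn ↔ ∀ f ∈ Sp n hn, g * f ∈ Sp n hn := Iff.rfl

theorem mem_Stab_of_monomials {g : FreeE n}
    (h : ∀ ν, Normal n hn ν → g * monomial ν 1 ∈ Sp n hn) : g ∈ Stab n hn := by
  intro f hf
  obtain ⟨f1, hf1, f2, hf2, rfl⟩ := Submodule.mem_sup.mp hf
  rw [mul_add]
  refine (Sp n hn).add_mem ?_ (mem_Sp_of_mem ((presIdeal n).mul_mem_left g hf2))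
  have : Submodule.span (ZMod 2) {f | ∃ ν, Normal n hn ν ∧ f = monomial ν 1} ≤
      (Sp n hn).comap (LinearMap.mulLeft (ZMod 2) g) := by
    rw [Submodule.span_le]
    rintro _ ⟨ν, hν, rfl⟩
    exact h ν hν
  exact this hf1

/-! ### Membership of the generators in `presIdeal` -/

theorem X_zero_pow_mem : (X (some (i0 n hn)) : FreeE n) ^ n ∈ presIdeal n := by
  rw [← evar_one n hn]
  exact Ideal.subset_span (Or.inl (by simp))

theorem X_zero_mul_X_none_mem : (X (some (i0 n hn)) * X none : FreeE n) ∈ presIdeal n := by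
  rw [← evar_one n hn]
  exact Ideal.subset_span (Or.inl (by simp [xvar]))

theorem X_none_sq_mem : (X none : FreeE n) ^ 2 ∈ presIdeal n :=
  Ideal.subset_span (Or.inl (by simp [xvar]))

theorem hrel_mem (i : Fin (numVars n)) : hrel n (i.val + 1) ∈ presIdeal n :=
  Ideal.subset_span (Or.inr ⟨i, rfl⟩)

/-! ### Splitting monomials -/

theorem monomial_split (ν : Option (Fin (numVars n)) →₀ ℕ) (o : Option (Fin (numVars n))) :
    (monomial ν 1 : FreeE n) = X o ^ ν o * monomial (ν.erase o) 1 := by
  rw [X_pow_eq_monomial, monomial_mul, one_mul, Finsupp.single_add_erase]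

theorem X_mul_monomial (ν : Option (Fin (numVars n)) →₀ ℕ) (o : Option (Fin (numVars n))) (k : ℕ) :
    (X o ^ k * monomial ν 1 : FreeE n) = monomial (ν + Finsupp.single o k) 1 := by
  rw [X_pow_eq_monomial, monomial_mul, one_mul, add_comm]

theorem X_mul_monomial_one (ν : Option (Fin (numVars n)) →₀ ℕ) (o : Option (Fin (numVars n))) :
    (X o * monomial ν 1 : FreeE n) = monomial (ν + Finsupp.single o 1) 1 := by
  have := X_mul_monomial ν o 1
  rwa [pow_one] at this

theorem erase_le' (ν : Option (Fin (numVars n)) →₀ ℕ) (o : Option (Fin (numVars n))) :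
    ν.erase o ≤ ν := by
  intro o'
  by_cases h : o' = o
  · subst h; simp
  · rw [Finsupp.erase_ne h]

theorem add_single_some_some (ν : Option (Fin (numVars n)) →₀ ℕ) (i j : Fin (numVars n)) (k : ℕ) :
    (ν + Finsupp.single (some i) k) (some j) = ν (some j) + if i = j then k else 0 := by
  simp [Finsupp.single_apply]

theorem add_single_some_none (ν : Option (Fin (numVars n)) →₀ ℕ) (i : Fin (numVars n)) (k : ℕ) :
    (ν + Finsupp.single (some i) k) none = ν none := by
  simp

theorem add_single_none_some (ν : Option (Fin (numVars n)) →₀ ℕ) (j : Fin (numVars n)) (k : ℕ) :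
    (ν + Finsupp.single (none : Option (Fin (numVars n))) k) (some j) = ν (some j) := by
  simp

theorem add_single_none_none (ν : Option (Fin (numVars n)) →₀ ℕ) (k : ℕ) :
    (ν + Finsupp.single (none : Option (Fin (numVars n))) k) none = ν none + k := by
  simp

theorem i0_ne_i1 : i0 n hn ≠ i1 n hn := by
  intro h
  have := congrArg Fin.val h
  simp [i0, i1] at this

/-! ### The variables stabilise `Sp` -/

theorem X_zero_mem_Stab : (X (some (i0 n hn)) : FreeE n) ∈ Stab n hn := by
  refine mem_Stab_of_monomials fun ν hν => ?_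
  by_cases h1 : ν none = 1
  · rw [monomial_split ν none, h1, pow_one, ← mul_assoc]
    exact mem_Sp_of_mem ((presIdeal n).mul_mem_right _ X_zero_mul_X_none_mem)
  · by_cases h2 : ν (some (i0 n hn)) + 1 < n
    · rw [X_mul_monomial_one]
      refine mem_Sp_of_normal ⟨fun i => ?_, ?_, ?_⟩
      · rw [add_single_some_some]
        by_cases hi : i0 n hn = i
        · subst hi
          rw [if_pos rfl, nb_zero]; exact h2
        · rw [if_neg hi, add_zero]; exact hν.1 i
      · rw [add_single_some_none]; exact hν.2.1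
      · rw [add_single_some_none]; intro h; exact absurd h h1
    · have h3 : ν (some (i0 n hn)) + 1 = n := by
        have := hν.1 (i0 n hn); rw [nb_zero] at this; omega
      rw [monomial_split ν (some (i0 n hn)), ← mul_assoc, ← pow_succ', h3]
      exact mem_Sp_of_mem ((presIdeal n).mul_mem_right _ X_zero_pow_mem)

theorem X_none_mem_Stab : (X none : FreeE n) ∈ Stab n hn := by
  refine mem_Stab_of_monomials fun ν hν => ?_
  by_cases h1 : ν none = 1
  · rw [monomial_split ν none, h1, pow_one, ← mul_assoc, ← sq]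
    exact mem_Sp_of_mem ((presIdeal n).mul_mem_right _ X_none_sq_mem)
  · have h0 : ν none = 0 := by have := hν.2.1; omega
    by_cases h2 : ν (some (i0 n hn)) = 0
    · rw [X_mul_monomial_one]
      refine mem_Sp_of_normal ⟨fun i => ?_, ?_, ?_⟩
      · rw [add_single_none_some]; exact hν.1 i
      · rw [add_single_none_none, h0]
      · intro _; rw [add_single_none_some]; exact h2
    · obtain ⟨k, hk⟩ : ∃ k, ν (some (i0 n hn)) = k + 1 := ⟨ν (some (i0 n hn)) - 1, by omega⟩
      rw [monomial_split ν (some (i0 n hn)), hk, pow_succ]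
      have : (X none * (X (some (i0 n hn)) ^ k * X (some (i0 n hn)) *
          monomial (ν.erase (some (i0 n hn))) 1) : FreeE n) =
          (X (some (i0 n hn)) * X none) *
            (X (some (i0 n hn)) ^ k * monomial (ν.erase (some (i0 n hn))) 1) := by ring
      rw [this]
      exact mem_Sp_of_mem ((presIdeal n).mul_mem_right _ X_zero_mul_X_none_mem)

theorem hrel_two_eq :
    (X (some (i1 n hn)) : FreeE n) ^ 2 ^ (klog n 2 - 1) =
      hrel n 2 - (X (some (i0 n hn)) ^ (2 ^ klog n 2 - n) * X none +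
        ∑ t ∈ Finset.range (klog n 2 - 1),
          X (some (i0 n hn)) ^ (2 ^ klog n 2 - 2 ^ (t + 1)) * X (some (i1 n hn)) ^ 2 ^ t) := by
  have hk := one_le_klog_two n hn
  have hk' : klog n 2 = (klog n 2 - 1) + 1 := by omega
  rw [hrel_two, sPoly, evar_one n hn, evar_two n hn, xvar]
  have hsum : ∑ t ∈ Finset.range (klog n 2),
      (X (some (i0 n hn)) : FreeE n) ^ (2 ^ klog n 2 - 2 ^ (t + 1)) * X (some (i1 n hn)) ^ 2 ^ t =
      ∑ t ∈ Finset.range (klog n 2 - 1),
        (X (some (i0 n hn)) : FreeE n) ^ (2 ^ klog n 2 - 2 ^ (t + 1)) * X (some (i1 n hn)) ^ 2 ^ t +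
      X (some (i1 n hn)) ^ 2 ^ (klog n 2 - 1) := by
    have := Finset.sum_range_succ (fun t => (X (some (i0 n hn)) : FreeE n) ^
      (2 ^ klog n 2 - 2 ^ (t + 1)) * X (some (i1 n hn)) ^ 2 ^ t) (klog n 2 - 1)
    rw [← hk'] at this
    rw [this, Nat.sub_self, pow_zero, one_mul]
  rw [hsum]
  ring

theorem X_one_mem_Stab : (X (some (i1 n hn)) : FreeE n) ∈ Stab n hn := by
  refine mem_Stab_of_monomials fun ν hν => ?_
  by_cases h2 : ν (some (i1 n hn)) + 1 < 2 ^ (klog n 2 - 1)
  · rw [X_mul_monomial_one]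
    refine mem_Sp_of_normal ⟨fun i => ?_, ?_, ?_⟩
    · rw [add_single_some_some]
      by_cases hi : i1 n hn = i
      · subst hi
        rw [if_pos rfl, nb_one]; exact h2
      · rw [if_neg hi, add_zero]; exact hν.1 i
    · rw [add_single_some_none]; exact hν.2.1
    · rw [add_single_some_none, add_single_some_some, if_neg (Ne.symm i0_ne_i1), add_zero]
      exact hν.2.2
  · have h3 : ν (some (i1 n hn)) + 1 = 2 ^ (klog n 2 - 1) := by
      have := hν.1 (i1 n hn); rw [nb_one] at this; omega
    rw [monomial_split ν (some (i1 n hn)), ← mul_assoc, ← pow_succ', h3]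
    have hν' : Normal n hn (ν.erase (some (i1 n hn))) := hν.mono (erase_le' _ _)
    rw [hrel_two_eq, sub_mul]
    refine (Sp n hn).sub_mem (mem_Sp_of_mem ((presIdeal n).mul_mem_right _ ?_)) ?_
    · exact hrel_mem (i1 n hn)
    rw [add_mul, Finset.sum_mul]
    refine (Sp n hn).add_mem ?_ (Submodule.sum_mem _ fun t ht => ?_)
    · exact (Stab n hn).mul_mem ((Stab n hn).pow_mem X_zero_mem_Stab _) X_none_mem_Stab _
        (mem_Sp_of_normal hν')
    · rw [mul_assoc, X_mul_monomial]
      refine (Stab n hn).pow_mem X_zero_mem_Stab _ _ (mem_Sp_of_normal ⟨fun i => ?_, ?_, ?_⟩)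
      · rw [add_single_some_some]
        by_cases hi : i1 n hn = i
        · subst hi
          rw [if_pos rfl, nb_one, Finsupp.erase_same, zero_add]
          exact Nat.pow_lt_pow_right (by norm_num) (Finset.mem_range.mp ht)
        · rw [if_neg hi, add_zero]; exact hν'.1 i
      · rw [add_single_some_none]; exact hν'.2.1
      · rw [add_single_some_none, add_single_some_some, if_neg (Ne.symm i0_ne_i1), add_zero]
        exact hν'.2.2

theorem sPoly_mem_Stab (j : ℕ) : sPoly n j ∈ Stab n hn := by
  rw [sPoly, evar_one n hn, evar_two n hn]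
  exact Subalgebra.sum_mem _ fun t _ =>
    (Stab n hn).mul_mem ((Stab n hn).pow_mem X_zero_mem_Stab _)
      ((Stab n hn).pow_mem X_one_mem_Stab _)

theorem X_some_mem_Stab (i : Fin (numVars n)) (hi : 2 ≤ i.val) :
    (X (some i) : FreeE n) ∈ Stab n hn := by
  have hi0 : i0 n hn ≠ i := by
    intro h; have := congrArg Fin.val h; simp [i0] at this; omega
  refine mem_Stab_of_monomials fun ν hν => ?_
  by_cases h2 : ν (some i) + 1 < 2 ^ klog n (i.val + 1)
  · rw [X_mul_monomial_one]
    refine mem_Sp_of_normal ⟨fun i' => ?_, ?_, ?_⟩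
    · rw [add_single_some_some]
      by_cases hi' : i = i'
      · subst hi'
        rw [if_pos rfl, nb_of_two_le n i hi]; exact h2
      · rw [if_neg hi', add_zero]; exact hν.1 i'
    · rw [add_single_some_none]; exact hν.2.1
    · rw [add_single_some_none, add_single_some_some, if_neg (Ne.symm hi0), add_zero]
      exact hν.2.2
  · have h3 : ν (some i) + 1 = 2 ^ klog n (i.val + 1) := by
      have := hν.1 i; rw [nb_of_two_le n i hi] at this; omega
    rw [monomial_split ν (some i), ← mul_assoc, ← pow_succ', h3]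
    have hν' : Normal n hn (ν.erase (some i)) := hν.mono (erase_le' _ _)
    have key : (X (some i) : FreeE n) ^ 2 ^ klog n (i.val + 1) = hrel n (i.val + 1) -
        (evar n 1 ^ ((2 * (i.val + 1) - 3) * 2 ^ klog n (i.val + 1) - n) * xvar n +
          evar n 1 ^ ((2 * (i.val + 1) - 4) * 2 ^ klog n (i.val + 1)) * sPoly n (i.val + 1)) := by
      rw [hrel_succ n i hi, evar_succ]
      ring
    rw [key, sub_mul]
    refine (Sp n hn).sub_mem (mem_Sp_of_mem ((presIdeal n).mul_mem_right _ (hrel_mem i))) ?_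
    have hmem : evar n 1 ^ ((2 * (i.val + 1) - 3) * 2 ^ klog n (i.val + 1) - n) * xvar n +
          evar n 1 ^ ((2 * (i.val + 1) - 4) * 2 ^ klog n (i.val + 1)) * sPoly n (i.val + 1) ∈
        Stab n hn := by
      rw [evar_one n hn, xvar]
      exact (Stab n hn).add_mem
        ((Stab n hn).mul_mem ((Stab n hn).pow_mem X_zero_mem_Stab _) X_none_mem_Stab)
        ((Stab n hn).mul_mem ((Stab n hn).pow_mem X_zero_mem_Stab _) (sPoly_mem_Stab _))
    exact hmem _ (mem_Sp_of_normal hν')

theorem Stab_eq_top : Stab n hn = ⊤ := by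
  rw [eq_top_iff, ← MvPolynomial.adjoin_range_X]
  refine Algebra.adjoin_le ?_
  rintro _ ⟨o, rfl⟩
  rcases o with _ | i
  · exact X_none_mem_Stab
  · rcases Nat.lt_or_ge i.val 2 with h | h
    · rcases Nat.lt_or_ge i.val 1 with h0 | h1
      · have : i = i0 n hn := Fin.ext (by simp [i0]; omega)
        rw [this]; exact X_zero_mem_Stab
      · have : i = i1 n hn := Fin.ext (by simp [i1]; omega)
        rw [this]; exact X_one_mem_Stab
    · exact X_some_mem_Stab i h

theorem Sp_eq_top : Sp n hn = ⊤ := by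
  rw [eq_top_iff]
  intro g _
  have h1 : g ∈ Stab n hn := by rw [Stab_eq_top]; trivial
  have := h1 1 (by
    have := mem_Sp_of_normal (normal_zero (n := n) (hn := hn))
    rwa [show (monomial 0 1 : FreeE n) = 1 from rfl] at this)
  rwa [mul_one] at this

/-- Normal form: every polynomial is congruent modulo `presIdeal` to a combination of normal
monomials. -/
theorem exists_normal_form (f : FreeE n) :
    ∃ g ∈ Submodule.span (ZMod 2) {f : FreeE n | ∃ ν, Normal n hn ν ∧ f = monomial ν 1},
      f - g ∈ presIdeal n := by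
  have hf : f ∈ Sp n hn := by rw [Sp_eq_top]; trivial
  obtain ⟨g, hg, r, hr, rfl⟩ := Submodule.mem_sup.mp hf
  exact ⟨g, hg, by simpa using hr⟩

end Groth.Agent.Lib.QsChow58
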