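import Groth.Agent.Lib.QsChow58c
import Mathlib.RingTheory.MvPolynomial.MonomialOrder
import Mathlib.RingTheory.MvPolynomial.Ideal

/-!
# The kernel of `QsChow.phi`, III: independence of the normal monomials

The images under `phi` of the normal monomials are linearly independent in `P n`: lift `phi` to
`F_2[ε_1, …, ε_s]`, order the monomials lexicographically with `ε_s > ⋯ > ε_1`, and observe that the
leading monomials of the images are pairwise distinct and avoid the truncation ideal.
Consequently `ker (phi n) = presIdeal n`.
-/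

set_option autoImplicit false

namespace Groth.Agent.Lib.QsChow58

open QsChow MvPolynomial
open scoped MonomialOrder

/-- The lexicographic order with the variable of largest index the most significant. -/
noncomputable def mrev (s : ℕ) : MonomialOrder (Fin s) :=
  letI : LinearOrder (Fin s) := OrderDual.instLinearOrder (Fin s)
  MonomialOrder.lex

theorem mrev_lt_iff {s : ℕ} {c d : Fin s →₀ ℕ} :
    c ≺[mrev s] d ↔ ∃ i, (∀ j, i < j → c j = d j) ∧ c i < d i := Iff.rfl

variable (n : ℕ) (hn : 2 ≤ n)

/-- Lifts of the images of the generators. -/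
noncomputable def gI : Option (Fin (numVars n)) → FreeP n
  | none => X (i0 n hn) ^ (n - 1) * X (i1 n hn)
  | some i =>
    if i.val = 0 then X (i0 n hn)
    else if i.val = 1 then X (i1 n hn) ^ 2 + X (i0 n hn) * X (i1 n hn)
    else X i + X (i0 n hn) ^ (2 * (i.val + 1) - 4) * X (i1 n hn)

/-- The lift of `phi` to the polynomial ring. -/
noncomputable def phiT : FreeE n →ₐ[ZMod 2] FreeP n := aeval (gI n hn)

theorem mk_gI (o : Option (Fin (numVars n))) :
    Ideal.Quotient.mk (truncIdeal n) (gI n hn o) = genImage n o := by
  rcases o with _ | i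
  · simp only [gI, genImage, map_mul, map_pow, eps_one n hn, eps_two n hn]; rfl
  · simp only [gI, genImage]
    split_ifs with h0 h1
    · rw [eps_one n hn]; rfl
    · rw [eps_one n hn, eps_two n hn, map_add, map_mul, map_pow]; rfl
    · rw [eps_one n hn, eps_two n hn, eps_succ, map_add, map_mul, map_pow]; rfl

theorem mk_phiT (f : FreeE n) : Ideal.Quotient.mk (truncIdeal n) (phiT n hn f) = phi n f := by
  have : (Ideal.Quotient.mkₐ (ZMod 2) (truncIdeal n)).comp (phiT n hn) = phi n := by
    refine MvPolynomial.algHom_ext fun o => ?_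
    rw [AlgHom.comp_apply, phiT, aeval_X, phi, aeval_X]
    exact mk_gI n hn o
  exact DFunLike.congr_fun this f

/-- The leading exponents of the images of the generators. -/
noncomputable def dg : Option (Fin (numVars n)) → (Fin (numVars n) →₀ ℕ)
  | none => Finsupp.single (i0 n hn) (n - 1) + Finsupp.single (i1 n hn) 1
  | some i => if i.val = 1 then Finsupp.single i 2 else Finsupp.single i 1

theorem gI_none_eq : gI n hn none =
    monomial (Finsupp.single (i0 n hn) (n - 1) + Finsupp.single (i1 n hn) 1) 1 := by
  rw [gI, X_pow_eq_monomial, X, monomial_mul, one_mul]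

theorem gI_monic_degree (o : Option (Fin (numVars n))) :
    (mrev (numVars n)).Monic (gI n hn o) ∧ (mrev (numVars n)).degree (gI n hn o) = dg n hn o := by
  classical
  rcases o with _ | i
  · rw [gI_none_eq, dg]
    refine ⟨MonomialOrder.monic_monomial_one, ?_⟩
    rw [MonomialOrder.degree_monomial, if_neg one_ne_zero]
  · simp only [gI, dg]
    split_ifs with h0 h1 h1
    · omega
    · have : i = i0 n hn := Fin.ext (by simp [i0, h0])
      subst this
      exact ⟨MonomialOrder.monic_X, MonomialOrder.degree_X⟩
    · have hi : i = i1 n hn := Fin.ext (by simp [i1, h1])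
      subst hi
      have e1 : (X (i1 n hn) : FreeP n) ^ 2 = monomial (Finsupp.single (i1 n hn) 2) 1 :=
        X_pow_eq_monomial
      have e2 : (X (i0 n hn) * X (i1 n hn) : FreeP n) =
          monomial (Finsupp.single (i0 n hn) 1 + Finsupp.single (i1 n hn) 1) 1 := by
        rw [X, X, monomial_mul, one_mul]
      have hlt : (mrev (numVars n)).degree (X (i0 n hn) * X (i1 n hn) : FreeP n) ≺[mrev (numVars n)]
          (mrev (numVars n)).degree ((X (i1 n hn) : FreeP n) ^ 2) := by
        rw [e1, e2, MonomialOrder.degree_monomial, MonomialOrder.degree_monomial,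
          if_neg one_ne_zero, if_neg one_ne_zero, mrev_lt_iff]
        refine ⟨i1 n hn, fun j hj => ?_, ?_⟩
        · have hj0 : i0 n hn ≠ j := by
            intro h; subst h; simp [i0, i1, Fin.lt_def] at hj
          have hj1 : i1 n hn ≠ j := ne_of_lt hj
          simp [hj0, hj1]
        · simp [i0_ne_i1]
      refine ⟨MonomialOrder.Monic.add_of_lt (by rw [e1]; exact MonomialOrder.monic_monomial_one) hlt,
        ?_⟩
      rw [MonomialOrder.degree_add_of_lt hlt, e1, MonomialOrder.degree_monomial,
        if_neg one_ne_zero]
    · have e2 : (X (i0 n hn) ^ (2 * (i.val + 1) - 4) * X (i1 n hn) : FreeP n) =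
          monomial (Finsupp.single (i0 n hn) (2 * (i.val + 1) - 4) +
            Finsupp.single (i1 n hn) 1) 1 := by
        rw [X_pow_eq_monomial, X, monomial_mul, one_mul]
      have hi0 : i0 n hn ≠ i := by
        intro h; have := congrArg Fin.val h; simp [i0] at this; omega
      have hi1 : i1 n hn ≠ i := by
        intro h; have := congrArg Fin.val h; simp [i1] at this; omega
      have hlt : (mrev (numVars n)).degree
          (X (i0 n hn) ^ (2 * (i.val + 1) - 4) * X (i1 n hn) : FreeP n) ≺[mrev (numVars n)]
          (mrev (numVars n)).degree (X i : FreeP n) := by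
        rw [e2, MonomialOrder.degree_monomial, MonomialOrder.degree_X, if_neg one_ne_zero,
          mrev_lt_iff]
        refine ⟨i, fun j hj => ?_, ?_⟩
        · have hj0 : i0 n hn ≠ j := by
            intro h; subst h; simp [i0, Fin.lt_def] at hj
          have hj1 : i1 n hn ≠ j := by
            intro h; subst h; simp [i1, Fin.lt_def] at hj; omega
          have hj2 : i ≠ j := ne_of_lt hj
          simp [hj0, hj1, hj2]
        · simp [hi0, hi1]
      refine ⟨MonomialOrder.Monic.add_of_lt MonomialOrder.monic_X hlt, ?_⟩
      rw [MonomialOrder.degree_add_of_lt hlt, MonomialOrder.degree_X]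

/-- The leading exponent of the image of a monomial. -/
noncomputable def Ld (ν : Option (Fin (numVars n)) →₀ ℕ) : Fin (numVars n) →₀ ℕ :=
  ν.sum fun o k => k • dg n hn o

theorem phiT_monomial (ν : Option (Fin (numVars n)) →₀ ℕ) :
    phiT n hn (monomial ν 1) = ν.prod fun o k => gI n hn o ^ k := by
  rw [phiT, aeval_monomial, map_one, one_mul]

theorem phiT_monomial_monic (ν : Option (Fin (numVars n)) →₀ ℕ) :
    (mrev (numVars n)).Monic (phiT n hn (monomial ν 1)) := by
  rw [phiT_monomial, Finsupp.prod]
  exact MonomialOrder.Monic.prod fun o _ => MonomialOrder.Monic.pow (gI_monic_degree n hn o).1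

theorem phiT_monomial_degree (ν : Option (Fin (numVars n)) →₀ ℕ) :
    (mrev (numVars n)).degree (phiT n hn (monomial ν 1)) = Ld n hn ν := by
  rw [phiT_monomial, Finsupp.prod, MonomialOrder.degree_prod, Ld, Finsupp.sum]
  · refine Finset.sum_congr rfl fun o _ => ?_
    rw [MonomialOrder.degree_pow, (gI_monic_degree n hn o).2]
  · intro o _
    exact pow_ne_zero _ (gI_monic_degree n hn o).1.ne_zero

theorem Ld_apply (ν : Option (Fin (numVars n)) →₀ ℕ) (i : Fin (numVars n)) :
    Ld n hn ν i = ν none * ((if i = i0 n hn then n - 1 else 0) + (if i = i1 n hn then 1 else 0)) +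
      ν (some i) * (if i.val = 1 then 2 else 1) := by
  classical
  rw [Ld, Finsupp.sum_fintype _ _ (fun o => by simp), Fintype.sum_option, Finsupp.add_apply,
    Finsupp.finsetSum_apply]
  congr 1
  · simp only [dg, Finsupp.smul_apply, smul_eq_mul, Finsupp.add_apply, Finsupp.single_apply]
    by_cases h0 : i = i0 n hn
    · subst h0
      simp [i0_ne_i1, (i0_ne_i1 (n := n) (hn := hn)).symm]
    · by_cases h1 : i = i1 n hn
      · subst h1
        simp [Ne.symm h0, h0]
      · simp [h0, h1, Ne.symm h0, Ne.symm h1]
  · rw [Finset.sum_eq_single i]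
    · simp only [dg, Finsupp.smul_apply, smul_eq_mul]
      split_ifs <;> simp
    · intro j _ hj
      simp only [dg, Finsupp.smul_apply, smul_eq_mul]
      split_ifs <;> simp [hj]
    · intro h; exact absurd (Finset.mem_univ i) h

theorem Ld_lt_bound {ν : Option (Fin (numVars n)) →₀ ℕ} (hν : Normal n hn ν)
    (i : Fin (numVars n)) : Ld n hn ν i < bound n i := by
  rw [Ld_apply]
  rcases Nat.lt_or_ge i.val 2 with h | h
  · rcases Nat.lt_or_ge i.val 1 with h0 | h1
    · have hi : i = i0 n hn := Fin.ext (by simp [i0]; omega)
      subst hi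
      have hb : bound n (i0 n hn) = n := by simp [bound, i0]
      rw [hb, if_pos rfl, if_neg i0_ne_i1, if_neg (by simp [i0]), add_zero, mul_one]
      have h1 := hν.1 (i0 n hn)
      rw [nb_zero] at h1
      have h2 := hν.2.1
      have h3 := hν.2.2
      rcases Nat.lt_or_ge (ν none) 1 with hx | hx
      · have : ν none = 0 := by omega
        rw [this]; omega
      · have : ν none = 1 := by omega
        rw [this, h3 this]; omega
    · have hi : i = i1 n hn := Fin.ext (by simp [i1]; omega)
      subst hi
      have hb : bound n (i1 n hn) = 2 ^ klog n 2 := by simp [bound, i1]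
      rw [hb, if_neg (Ne.symm i0_ne_i1), if_pos rfl, if_pos (by simp [i1]), zero_add, mul_one]
      have h1 := hν.1 (i1 n hn)
      rw [nb_one] at h1
      have h2 := hν.2.1
      have hk := one_le_klog_two n hn
      have : 2 ^ klog n 2 = 2 * 2 ^ (klog n 2 - 1) := by
        rw [← pow_succ']; congr 1; omega
      omega
  · have hi0 : i ≠ i0 n hn := by
      intro h'; have := congrArg Fin.val h'; simp [i0] at this; omega
    have hi1 : i ≠ i1 n hn := by
      intro h'; have := congrArg Fin.val h'; simp [i1] at this; omega
    have hb : bound n i = 2 ^ klog n (i.val + 1) := by rw [bound, if_neg (by omega)]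
    rw [hb, if_neg hi0, if_neg hi1, if_neg (by omega), add_zero, mul_zero, zero_add, mul_one]
    have h1 := hν.1 i
    rwa [nb_of_two_le n i h] at h1

theorem Ld_injOn {ν ν' : Option (Fin (numVars n)) →₀ ℕ} (hν : Normal n hn ν)
    (hν' : Normal n hn ν') (h : Ld n hn ν = Ld n hn ν') : ν = ν' := by
  have key : ∀ i, Ld n hn ν i = Ld n hn ν' i := fun i => by rw [h]
  have hx : ν none = ν' none := by
    have e1 := key (i1 n hn)
    rw [Ld_apply, Ld_apply, if_neg (Ne.symm i0_ne_i1), if_pos rfl, if_pos (by simp [i1]),
      zero_add, mul_one, mul_one] at e1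
    have := hν.2.1
    have := hν'.2.1
    omega
  ext o
  rcases o with _ | i
  · exact hx
  · have e := key i
    rw [Ld_apply, Ld_apply, hx] at e
    have e' := Nat.add_left_cancel e
    refine Nat.eq_of_mul_eq_mul_right ?_ e'
    split_ifs <;> norm_num

theorem support_normal_of_mem_span {g : FreeE n}
    (hg : g ∈ Submodule.span (ZMod 2) {f : FreeE n | ∃ ν, Normal n hn ν ∧ f = monomial ν 1}) :
    ∀ d ∈ g.support, Normal n hn d := by
  classical
  refine Submodule.span_induction (p := fun g _ => ∀ d ∈ g.support, Normal n hn d) ?_ ?_ ?_ ?_ hg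
  · rintro _ ⟨ν, hν, rfl⟩ d hd
    have := MvPolynomial.support_monomial_subset hd
    rw [Finset.mem_singleton] at this
    rw [this]; exact hν
  · simp
  · intro a b _ _ ha hb d hd
    rcases Finset.mem_union.mp (MvPolynomial.support_add hd) with h | h
    exacts [ha d h, hb d h]
  · intro c a _ ha d hd
    exact ha d (MvPolynomial.support_smul hd)

theorem truncIdeal_eq_span_monomial : truncIdeal n =
    Ideal.span ((fun s => monomial s (1 : ZMod 2)) ''
      Set.range fun i : Fin (numVars n) => Finsupp.single i (bound n i)) := by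
  rw [truncIdeal, ← Set.range_comp]
  congr 2
  funext i
  simp [X_pow_eq_monomial]

/-- The images of the normal monomials are linearly independent. -/
theorem eq_zero_of_phi_eq_zero {g : FreeE n}
    (hg : g ∈ Submodule.span (ZMod 2) {f : FreeE n | ∃ ν, Normal n hn ν ∧ f = monomial ν 1})
    (h0 : phi n g = 0) : g = 0 := by
  classical
  by_contra hne
  have hsupp : g.support.Nonempty := by
    rwa [Finset.nonempty_iff_ne_empty, Ne, MvPolynomial.support_eq_empty]
  have hnorm := support_normal_of_mem_span n hn hg
  obtain ⟨d0, hd0, hmax⟩ := Finset.exists_max_image g.support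
    (fun d => (mrev (numVars n)).toSyn (Ld n hn d)) hsupp
  have hsum : phiT n hn g = ∑ d ∈ g.support, g.coeff d • phiT n hn (monomial d 1) := by
    conv_lhs => rw [g.as_sum, map_sum]
    refine Finset.sum_congr rfl fun d _ => ?_
    rw [← map_smul, MvPolynomial.smul_monomial, smul_eq_mul, mul_one]
  have hcoeff : (phiT n hn g).coeff (Ld n hn d0) = g.coeff d0 := by
    rw [hsum, MvPolynomial.coeff_sum, Finset.sum_eq_single d0]
    · rw [coeff_smul, ← phiT_monomial_degree, (phiT_monomial_monic n hn d0).coeff_degree,
        smul_eq_mul, mul_one]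
    · intro d hd hne'
      rw [coeff_smul]
      have : (phiT n hn (monomial d 1)).coeff (Ld n hn d0) = 0 := by
        apply MonomialOrder.coeff_eq_zero_of_lt (m := mrev (numVars n))
        rw [phiT_monomial_degree]
        have hle := hmax d hd
        refine lt_of_le_of_ne hle fun heq => hne' ?_
        exact Ld_injOn n hn (hnorm d hd) (hnorm d0 hd0) ((mrev (numVars n)).toSyn.injective heq)
      rw [this, smul_zero]
    · intro h; exact absurd hd0 h
  have hmem : phiT n hn g ∈ truncIdeal n := by
    rw [← Ideal.Quotient.eq_zero_iff_mem, mk_phiT]; exact h0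
  rw [truncIdeal_eq_span_monomial, mem_ideal_span_monomial_image] at hmem
  have hin : Ld n hn d0 ∈ (phiT n hn g).support := by
    rw [mem_support_iff, hcoeff]; exact mem_support_iff.mp hd0
  obtain ⟨_, ⟨i, rfl⟩, hle⟩ := hmem _ hin
  have := hle i
  rw [Finsupp.single_eq_same] at this
  exact absurd this (not_le.mpr (Ld_lt_bound n hn (hnorm d0 hd0) i))

include hn in
/-- The kernel of `phi` is the ideal of relations. -/
theorem ker_phi_eq : RingHom.ker (phi n) = presIdeal n := by
  refine le_antisymm (fun f hf => ?_) (presIdeal_le_ker n hn)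
  obtain ⟨g, hg, hfg⟩ := exists_normal_form (n := n) (hn := hn) f
  have h1 : phi n g = 0 := by
    have := presIdeal_le_ker n hn hfg
    rw [RingHom.mem_ker, map_sub, (RingHom.mem_ker).mp hf, zero_sub, neg_eq_zero] at this
    exact this
  have := eq_zero_of_phi_eq_zero n hn hg h1
  rw [this, sub_zero] at hfg
  exact hfg

end Groth.Agent.Lib.QsChow58
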