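import Groth.Agent.Lib.QsChow58d
import Groth.Prelude.Def_W4c4chowquasisplitPn2

/-!
# The fixed subalgebra of `QsChow.P n` modulo `ε_1`, for `n` odd

For `n` odd, `(e_1) + presIdeal n = oddIdeal n`, and `phi q ∈ ε_1 · P^τ` iff `q ∈ oddIdeal n`.
-/

set_option autoImplicit false

namespace Groth.Agent.Lib.QsChow58

open QsChow MvPolynomial

variable (n : ℕ) (hn : 2 ≤ n)

/-! ### Arithmetic for odd `n` -/

include hn in
theorem klog_two_eq_of_odd (hodd : Odd n) : klog n 2 = Nat.log 2 n + 1 := by
  have hn0 : n ≠ 0 := by omega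
  have h1 : 2 ^ Nat.log 2 n ≤ n := Nat.pow_log_le_self 2 hn0
  have h2 : n < 2 ^ (Nat.log 2 n + 1) := Nat.lt_pow_succ_log_self (by norm_num) n
  have hm : 1 ≤ Nat.log 2 n := Nat.log_pos (by norm_num) hn
  have hne : 2 ^ Nat.log 2 n ≠ n := by
    intro h
    have : Even (2 ^ Nat.log 2 n) := (Nat.even_pow' (by omega)).mpr (by norm_num)
    rw [h] at this
    exact (Nat.not_even_iff_odd.mpr hodd) this
  unfold klog
  have hd : (2 * n - 1) / (2 * 2 - 3) = 2 * n - 1 := by norm_num
  rw [hd]
  refine Nat.log_eq_of_pow_le_of_lt_pow ?_ ?_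
  · rw [pow_succ]; omega
  · rw [pow_succ] at h2 ⊢; omega

theorem kprime_two : kprime n 2 = Nat.log 2 n := by
  rw [kprime, if_neg (by norm_num), if_pos rfl]

theorem kprime_of_three_le (j : ℕ) (hj : 3 ≤ j) :
    kprime n j = Nat.log 2 (2 * n / (2 * j - 3)) := by
  rw [kprime, if_neg (by omega), if_neg (by omega)]

include hn in
theorem klog_eq_kprime_of_odd (hodd : Odd n) (j : ℕ) (hj : 3 ≤ j) (hjs : j ≤ numVars n) :
    klog n j = kprime n j := by
  rw [kprime_of_three_le n j hj]
  unfold klog
  unfold numVars at hjs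
  set d := 2 * j - 3 with hd
  have hd1 : 1 ≤ d := by omega
  have hdn : d + 1 ≤ n := by omega
  refine le_antisymm (Nat.log_mono_right (Nat.div_le_div_right (by omega))) ?_
  set k' := Nat.log 2 (2 * n / d) with hk'
  have hB : 2 ≤ 2 * n / d := by
    rw [Nat.le_div_iff_mul_le (by omega)]; omega
  have hk1 : 1 ≤ k' := Nat.log_pos (by norm_num) hB
  refine Nat.le_log_of_pow_le (by norm_num) ?_
  by_contra hlt
  rw [not_le] at hlt
  have h1 : 2 * n - 1 < 2 ^ k' * d := (Nat.div_lt_iff_lt_mul (by omega)).mp hlt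
  have h2 : 2 ^ k' * d ≤ 2 * n := by
    have := Nat.pow_log_le_self 2 (x := 2 * n / d) (by omega)
    exact (Nat.le_div_iff_mul_le (by omega)).mp this
  have h3 : 2 ^ k' * d = 2 * n := by omega
  obtain ⟨k'', hk''⟩ : ∃ k'', k' = k'' + 1 := ⟨k' - 1, by omega⟩
  rw [hk'', pow_succ] at h3
  have h4 : 2 ^ k'' * d = n := by
    have : 2 * (2 ^ k'' * d) = 2 * n := by rw [← h3]; ring
    omega
  have h5 : k'' = 0 := by
    by_contra hk0
    have : Even (2 ^ k'' * d) := ((Nat.even_pow' hk0).mpr (by norm_num)).mul_right d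
    rw [h4] at this
    exact (Nat.not_even_iff_odd.mpr hodd) this
  rw [h5] at h4
  omega

include hn in
theorem one_le_klog (j : ℕ) (hj : 2 ≤ j) (hjs : j ≤ numVars n) : 1 ≤ klog n j := by
  unfold klog
  unfold numVars at hjs
  refine Nat.log_pos (by norm_num) ?_
  rw [Nat.le_div_iff_mul_le (by omega)]
  omega

include hn in
theorem lt_mul_two_pow_klog_of_odd (hodd : Odd n) (j : ℕ) (hj : 2 ≤ j) (hjs : j ≤ numVars n) :
    n + 1 ≤ (2 * j - 3) * 2 ^ klog n j := by
  have h1 := le_mul_two_pow_klog n hn j hj hjs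
  have h2 := one_le_klog n hn j hj hjs
  have h3 : Even ((2 * j - 3) * 2 ^ klog n j) :=
    ((Nat.even_pow' (by omega)).mpr (by norm_num)).mul_left _
  have h4 : (2 * j - 3) * 2 ^ klog n j ≠ n := by
    intro h; rw [h] at h3; exact (Nat.not_even_iff_odd.mpr hodd) h3
  omega

/-! ### The tails of the relations are multiples of `e_1` -/

/-- The relation `h_j`, `j ≥ 3`, solved for the power of `e_j`. -/
theorem hrel_succ_eq (i : Fin (numVars n)) (hi : 2 ≤ i.val) :
    (X (some i) : FreeE n) ^ 2 ^ klog n (i.val + 1) = hrel n (i.val + 1) -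
      (evar n 1 ^ ((2 * (i.val + 1) - 3) * 2 ^ klog n (i.val + 1) - n) * xvar n +
        evar n 1 ^ ((2 * (i.val + 1) - 4) * 2 ^ klog n (i.val + 1)) * sPoly n (i.val + 1)) := by
  rw [hrel_succ n i hi, evar_succ]
  ring

theorem tail_two_mem_of_odd (hodd : Odd n) :
    (X (some (i0 n hn)) ^ (2 ^ klog n 2 - n) * X none +
        ∑ t ∈ Finset.range (klog n 2 - 1),
          X (some (i0 n hn)) ^ (2 ^ klog n 2 - 2 ^ (t + 1)) * X (some (i1 n hn)) ^ 2 ^ t : FreeE n) ∈
      Ideal.span {(X (some (i0 n hn)) : FreeE n)} := by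
  have h1 := lt_mul_two_pow_klog_of_odd n hn hodd 2 le_rfl (two_le_numVars n hn)
  norm_num at h1
  refine Ideal.add_mem _ ?_ (Ideal.sum_mem _ fun t ht => ?_)
  · rw [Ideal.mem_span_singleton]
    exact Dvd.dvd.mul_right (dvd_pow_self _ (by omega)) _
  · rw [Ideal.mem_span_singleton]
    refine Dvd.dvd.mul_right (dvd_pow_self _ ?_) _
    have ht' : t + 1 < klog n 2 := by have := Finset.mem_range.mp ht; omega
    have : 2 ^ (t + 1) < 2 ^ klog n 2 := Nat.pow_lt_pow_right (by norm_num) ht'
    omega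

theorem tail_succ_mem_of_odd (hodd : Odd n) (i : Fin (numVars n)) (hi : 2 ≤ i.val) :
    (evar n 1 ^ ((2 * (i.val + 1) - 3) * 2 ^ klog n (i.val + 1) - n) * xvar n +
        evar n 1 ^ ((2 * (i.val + 1) - 4) * 2 ^ klog n (i.val + 1)) * sPoly n (i.val + 1)) ∈
      Ideal.span {(X (some (i0 n hn)) : FreeE n)} := by
  have h1 := lt_mul_two_pow_klog_of_odd n hn hodd (i.val + 1) (by omega) (by have := i.2; omega)
  rw [evar_one n hn]
  refine Ideal.add_mem _ ?_ ?_
  · rw [Ideal.mem_span_singleton]
    exact Dvd.dvd.mul_right (dvd_pow_self _ (by omega)) _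
  · rw [Ideal.mem_span_singleton]
    refine Dvd.dvd.mul_right (dvd_pow_self _ ?_) _
    have : 0 < 2 ^ klog n (i.val + 1) := Nat.two_pow_pos _
    have h2 : 0 < 2 * (i.val + 1) - 4 := by omega
    exact (Nat.mul_pos h2 this).ne'

/-! ### The ideal `(e_1) + presIdeal` -/

theorem oddIdeal_eq (hodd : Odd n) :
    Ideal.span {(X (some (i0 n hn)) : FreeE n)} ⊔ presIdeal n = oddIdeal n := by
  have hk2 : klog n 2 - 1 = kprime n 2 := by
    rw [klog_two_eq_of_odd n hn hodd, kprime_two]; rfl
  apply le_antisymm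
  · rw [sup_le_iff]
    constructor
    · rw [Ideal.span_le, Set.singleton_subset_iff]
      exact Ideal.subset_span (Or.inl (by simp [evar_one n hn]))
    · have hE : Ideal.span {(X (some (i0 n hn)) : FreeE n)} ≤ oddIdeal n := by
        rw [Ideal.span_le, Set.singleton_subset_iff]
        exact Ideal.subset_span (Or.inl (by simp [evar_one n hn]))
      rw [presIdeal, Ideal.span_le]
      rintro f (hf | ⟨i, rfl⟩)
      · rcases hf with rfl | rfl | rfl
        · rw [evar_one n hn]
          exact hE (Ideal.mem_span_singleton.mpr (dvd_pow_self _ (by omega)))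
        · rw [evar_one n hn]
          exact hE (Ideal.mem_span_singleton.mpr (Dvd.intro _ rfl))
        · exact Ideal.subset_span (Or.inl (by simp))
      · show hrel n (i.val + 1) ∈ oddIdeal n
        rcases Nat.lt_or_ge i.val 2 with h | h
        · rcases Nat.lt_or_ge i.val 1 with h0 | h1
          · have : i.val + 1 = 1 := by omega
            rw [this, hrel_one]; exact Ideal.zero_mem _
          · have hi : i = i1 n hn := Fin.ext (by simp [i1]; omega)
            subst hi
            have e := hrel_two_eq (n := n) (hn := hn)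
            have e' : hrel n ((i1 n hn).val + 1) = X (some (i1 n hn)) ^ 2 ^ (klog n 2 - 1) +
                (X (some (i0 n hn)) ^ (2 ^ klog n 2 - n) * X none +
                  ∑ t ∈ Finset.range (klog n 2 - 1),
                    X (some (i0 n hn)) ^ (2 ^ klog n 2 - 2 ^ (t + 1)) *
                      X (some (i1 n hn)) ^ 2 ^ t) := by
              show hrel n 2 = _
              rw [e]; ring
            rw [e']
            refine Ideal.add_mem _ ?_ (hE (tail_two_mem_of_odd n hn hodd))
            rw [hk2]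
            refine Ideal.subset_span (Or.inr ⟨i1 n hn, ?_⟩)
            show evar n ((i1 n hn).val + 1) ^ 2 ^ kprime n ((i1 n hn).val + 1) = _
            rw [evar_succ]; rfl
        · have e := hrel_succ_eq n i h
          have e' : hrel n (i.val + 1) = X (some i) ^ 2 ^ klog n (i.val + 1) +
              (evar n 1 ^ ((2 * (i.val + 1) - 3) * 2 ^ klog n (i.val + 1) - n) * xvar n +
                evar n 1 ^ ((2 * (i.val + 1) - 4) * 2 ^ klog n (i.val + 1)) *
                  sPoly n (i.val + 1)) := by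
            rw [e]; ring
          rw [e']
          refine Ideal.add_mem _ ?_ (hE (tail_succ_mem_of_odd n hn hodd i h))
          rw [klog_eq_kprime_of_odd n hn hodd (i.val + 1) (by omega) (by have := i.2; omega)]
          refine Ideal.subset_span (Or.inr ⟨i, ?_⟩)
          show evar n (i.val + 1) ^ 2 ^ kprime n (i.val + 1) = _
          rw [evar_succ]
  · rw [oddIdeal, Ideal.span_le]
    rintro f (hf | ⟨i, rfl⟩)
    · rcases hf with rfl | rfl
      · rw [evar_one n hn]
        exact Ideal.mem_sup_left (Ideal.subset_span rfl)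
      · exact Ideal.mem_sup_right X_none_sq_mem
    · show evar n (i.val + 1) ^ 2 ^ kprime n (i.val + 1) ∈ _
      rw [evar_succ]
      rcases Nat.lt_or_ge i.val 2 with h | h
      · rcases Nat.lt_or_ge i.val 1 with h0 | h1
        · have hi : i = i0 n hn := Fin.ext (by simp [i0]; omega)
          subst hi
          exact Ideal.mem_sup_left (Ideal.mem_span_singleton.mpr
            (dvd_pow_self _ (Nat.two_pow_pos _).ne'))
        · have hi : i = i1 n hn := Fin.ext (by simp [i1]; omega)
          subst hi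
          have : kprime n ((i1 n hn).val + 1) = klog n 2 - 1 := hk2.symm
          rw [this, hrel_two_eq]
          exact Ideal.sub_mem _ (Ideal.mem_sup_right (hrel_mem (i1 n hn)))
            (Ideal.mem_sup_left (tail_two_mem_of_odd n hn hodd))
      · rw [← klog_eq_kprime_of_odd n hn hodd (i.val + 1) (by omega) (by have := i.2; omega),
          hrel_succ_eq n i h]
        exact Ideal.sub_mem _ (Ideal.mem_sup_right (hrel_mem i))
          (Ideal.mem_sup_left (tail_succ_mem_of_odd n hn hodd i h))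

section Tau

variable (τ : P n →ₐ[ZMod 2] P n) (hτ1 : τ (eps n 1) = eps n 1)
  (hτ : ∀ j : ℕ, 2 ≤ j → j ≤ numVars n → τ (eps n j) = eps n j + eps n 1 ^ (2 * j - 3))

include hn hτ1 hτ in
theorem phi_mem_eps_mul_fixed_iff (hodd : Odd n) (q : FreeE n) :
    (∃ w : P n, τ w = w ∧ phi n q = eps n 1 * w) ↔ q ∈ oddIdeal n := by
  rw [← oddIdeal_eq n hn hodd]
  constructor
  · rintro ⟨w, hw, hq⟩
    have hw' : w ∈ (phi n).range := by
      rw [range_phi_eq_equalizer n hn τ hτ1 hτ, AlgHom.mem_equalizer, AlgHom.id_apply]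
      exact hw
    obtain ⟨q', rfl⟩ := (AlgHom.mem_range (phi n)).mp hw'
    have hker : q - X (some (i0 n hn)) * q' ∈ presIdeal n := by
      rw [← ker_phi_eq n hn, RingHom.mem_ker, map_sub, map_mul, phi_X_zero n hn, hq,
        eps_one n hn, sub_self]
    have : q = X (some (i0 n hn)) * q' + (q - X (some (i0 n hn)) * q') := by ring
    rw [this]
    exact Ideal.add_mem _ (Ideal.mem_sup_left (Ideal.mem_span_singleton.mpr (Dvd.intro _ rfl)))
      (Ideal.mem_sup_right hker)
  · intro hq
    obtain ⟨a, ha, p, hp, rfl⟩ := Submodule.mem_sup.mp hq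
    obtain ⟨a', rfl⟩ := Ideal.mem_span_singleton'.mp ha
    refine ⟨phi n a', tau_fixed_of_mem n hn τ hτ1 hτ ⟨a', rfl⟩, ?_⟩
    have hp0 : phi n p = 0 := presIdeal_le_ker n hn hp
    rw [map_add, map_mul, hp0, add_zero, phi_X_zero n hn, eps_one n hn, mul_comm]

end Tau

end Groth.Agent.Lib.QsChow58
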