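import Groth.Agent.Lib.QsChow58e

/-!
# The fixed subalgebra of `QsChow.P n` for `n` a power of two

For `n = 2^b`, `b ≥ 1`, the relation `h_2 = x + S_2` eliminates `x`; the range of `psi` is the fixed
subalgebra and its kernel is `powIdeal n`.
-/

set_option autoImplicit false

namespace Groth.Agent.Lib.QsChow58

open QsChow MvPolynomial

/-- A general elimination lemma for kernels. -/
theorem ker_eq_map_of_retraction {R E F Pt : Type*} [CommRing R] [CommRing E] [CommRing F]
    [CommRing Pt] [Algebra R E] [Algebra R F] [Algebra R Pt]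
    (φ : E →ₐ[R] Pt) (ψ : F →ₐ[R] Pt) (ι : F →ₐ[R] E) (ρ : E →ₐ[R] F)
    (h1 : ρ.comp ι = AlgHom.id R F) (h2 : ψ.comp ρ = φ) :
    RingHom.ker ψ = Ideal.map ρ (RingHom.ker φ) := by
  apply le_antisymm
  · intro q hq
    have e1 : ρ (ι q) = q := DFunLike.congr_fun h1 q
    have e2 : φ (ι q) = 0 := by
      rw [← h2, AlgHom.comp_apply, e1]; exact hq
    rw [← e1]
    exact Ideal.mem_map_of_mem _ e2
  · rw [Ideal.map_le_iff_le_comap]
    intro p hp
    rw [Ideal.mem_comap, RingHom.mem_ker]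
    have : ψ (ρ p) = φ p := by rw [← h2]; rfl
    exact this.trans hp

variable (n : ℕ) (hn : 2 ≤ n)

/-! ### Arithmetic for `n = 2^b` -/

section Pow

variable (b : ℕ) (hb : 1 ≤ b) (hnb : n = 2 ^ b)

include hnb in
theorem klog_two_of_pow : klog n 2 = b := by
  unfold klog
  have hd : (2 * n - 1) / (2 * 2 - 3) = 2 * n - 1 := by norm_num
  rw [hd, hnb]
  have h1 : 0 < 2 ^ b := Nat.two_pow_pos b
  refine Nat.log_eq_of_pow_le_of_lt_pow ?_ ?_
  · omega
  · rw [pow_succ]; omega

include hnb in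
theorem kprime_one_of_pow : kprime n 1 = b := by
  rw [kprime, if_pos rfl, twoExp, hnb]
  exact padicValNat.prime_pow b

include hnb in
theorem kprime_two_of_pow : kprime n 2 = b := by
  rw [kprime_two, hnb, Nat.log_pow (by norm_num)]

include hn hnb in
theorem klog_eq_kprime_of_pow (j : ℕ) (hj : 3 ≤ j) (hjs : j ≤ numVars n) :
    klog n j = kprime n j := by
  rw [kprime_of_three_le n j hj]
  unfold klog
  unfold numVars at hjs
  set d := 2 * j - 3 with hd
  have hd1 : 3 ≤ d := by omega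
  have hdn : d + 1 ≤ n := by omega
  have hdodd : Odd d := ⟨j - 2, by omega⟩
  refine le_antisymm (Nat.log_mono_right (Nat.div_le_div_right (by omega))) ?_
  set k' := Nat.log 2 (2 * n / d) with hk'
  refine Nat.le_log_of_pow_le (by norm_num) ?_
  by_contra hlt
  rw [not_le] at hlt
  have h1 : 2 * n - 1 < 2 ^ k' * d := (Nat.div_lt_iff_lt_mul (by omega)).mp hlt
  have hB : 2 ≤ 2 * n / d := by
    rw [Nat.le_div_iff_mul_le (by omega)]; omega
  have h2 : 2 ^ k' * d ≤ 2 * n := by
    have := Nat.pow_log_le_self 2 (x := 2 * n / d) (by omega)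
    exact (Nat.le_div_iff_mul_le (by omega)).mp this
  have h3 : 2 ^ k' * d = 2 * n := by omega
  have h4 : d ∣ 2 ^ (b + 1) := by
    rw [pow_succ, ← hnb, mul_comm, ← h3]; exact Dvd.intro_left _ rfl
  obtain ⟨k'', _, hk''⟩ := (Nat.dvd_prime_pow Nat.prime_two).mp h4
  rcases Nat.eq_zero_or_pos k'' with h0 | h0
  · rw [h0, pow_zero] at hk''; omega
  · have : Even d := by rw [hk'']; exact (Nat.even_pow' (by omega)).mpr (by norm_num)
    exact (Nat.not_even_iff_odd.mpr hdodd) this

include hn hnb in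
theorem lt_mul_two_pow_klog_of_pow (j : ℕ) (hj : 3 ≤ j) (hjs : j ≤ numVars n) :
    n + 1 ≤ (2 * j - 3) * 2 ^ klog n j := by
  have h1 := le_mul_two_pow_klog n hn j (by omega) hjs
  have hdodd : Odd (2 * j - 3) := ⟨j - 2, by omega⟩
  have h4 : (2 * j - 3) * 2 ^ klog n j ≠ n := by
    intro h
    have h5 : (2 * j - 3) ∣ 2 ^ b := by rw [← hnb, ← h]; exact Dvd.intro _ rfl
    obtain ⟨k'', _, hk''⟩ := (Nat.dvd_prime_pow Nat.prime_two).mp h5
    rcases Nat.eq_zero_or_pos k'' with h0 | h0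
    · rw [h0, pow_zero] at hk''; omega
    · have : Even (2 * j - 3) := by
        rw [hk'']; exact (Nat.even_pow' (by omega)).mpr (by norm_num)
      exact (Nat.not_even_iff_odd.mpr hdodd) this
  omega

include hn hnb in
theorem le_pred_mul_two_pow_klog_of_pow (j : ℕ) (hj : 3 ≤ j) (hjs : j ≤ numVars n) :
    n ≤ (2 * j - 4) * 2 ^ klog n j := by
  have h1 := lt_mul_two_pow_klog_of_pow n hn b hnb j hj hjs
  set k := klog n j with hk
  set d := 2 * j - 3 with hd
  have hd4 : 2 * j - 4 = d - 1 := by omega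
  rw [hd4]
  rcases Nat.lt_or_ge k b with hkb | hkb
  · have e : 2 ^ b = 2 ^ (b - k) * 2 ^ k := by rw [← pow_add]; congr 1; omega
    rw [hnb, e] at h1 ⊢
    have h2 : 2 ^ (b - k) * 2 ^ k < d * 2 ^ k := by omega
    have h3 : 2 ^ (b - k) < d := Nat.lt_of_mul_lt_mul_right h2
    exact Nat.mul_le_mul_right _ (by omega)
  · have h2 : 2 ^ b ≤ 2 ^ k := Nat.pow_le_pow_right (by norm_num) hkb
    rw [hnb]
    calc 2 ^ b ≤ 1 * 2 ^ k := by omega
      _ ≤ (d - 1) * 2 ^ k := Nat.mul_le_mul_right _ (by omega)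

end Pow

theorem X_zero_pow_mem' : evar n 1 ^ n ∈ presIdeal n :=
  Ideal.subset_span (Or.inl (by simp))

theorem X_zero_mul_X_none_mem' : evar n 1 * xvar n ∈ presIdeal n :=
  Ideal.subset_span (Or.inl (by simp))

/-! ### Elimination of `x` -/

/-- The inclusion of the polynomials without `x`. -/
noncomputable def iota : FreeP n →ₐ[ZMod 2] FreeE n := rename some

theorem iota_X (i : Fin (numVars n)) : iota n (X i) = X (some i) := rename_X _ _

theorem phi_comp_iota : (phi n).comp (iota n) = psi n := by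
  refine MvPolynomial.algHom_ext fun i => ?_
  rw [AlgHom.comp_apply, iota_X, phi, aeval_X, psi, aeval_X]

theorem evarE_succ (i : Fin (numVars n)) : evarE n (i.val + 1) = X i := by
  rw [evarE, dif_pos ⟨by omega, by have := i.2; omega⟩]
  congr 1

/-- The polynomial `S_2` without `x`. -/
noncomputable def S2' : FreeP n :=
  ∑ t ∈ Finset.range (klog n 2), X (i0 n hn) ^ (2 ^ klog n 2 - 2 ^ (t + 1)) * X (i1 n hn) ^ 2 ^ t

theorem iota_S2' : iota n (S2' n hn) = sPoly n 2 := by
  rw [S2', sPoly, map_sum, evar_one n hn, evar_two n hn]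
  refine Finset.sum_congr rfl fun t _ => ?_
  rw [map_mul, map_pow, map_pow, iota_X, iota_X]

/-- The retraction eliminating `x` through `x ↦ S_2`. -/
noncomputable def rho : FreeE n →ₐ[ZMod 2] FreeP n :=
  aeval (fun o : Option (Fin (numVars n)) => o.elim (S2' n hn) X)

theorem rho_X_some (i : Fin (numVars n)) : rho n hn (X (some i)) = X i := by
  rw [rho, aeval_X]; rfl

theorem rho_X_none : rho n hn (X none) = S2' n hn := by
  rw [rho, aeval_X]; rfl

theorem rho_comp_iota : (rho n hn).comp (iota n) = AlgHom.id (ZMod 2) (FreeP n) := by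
  refine MvPolynomial.algHom_ext fun i => ?_
  rw [AlgHom.comp_apply, iota_X, rho_X_some, AlgHom.id_apply]

section Pow2

variable (b : ℕ) (hb : 1 ≤ b) (hnb : n = 2 ^ b)

include hn hnb in
theorem phi_X_none_eq_of_pow : phi n (X none) = phi n (sPoly n 2) := by
  have h := phi_hrel n hn (i1 n hn)
  have hq : 2 ^ klog n 2 - n = 0 := by rw [klog_two_of_pow n b hnb, hnb]; omega
  have : hrel n ((i1 n hn).val + 1) = xvar n + sPoly n 2 := by
    show hrel n 2 = _
    rw [hrel_two, hq, pow_zero, one_mul]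
  rw [this, map_add, xvar] at h
  have h2 := add_self n (phi n (sPoly n 2))
  linear_combination h - h2

include hnb in
theorem psi_comp_rho : (psi n).comp (rho n hn) = phi n := by
  refine MvPolynomial.algHom_ext fun o => ?_
  rw [AlgHom.comp_apply]
  rcases o with _ | i
  · rw [rho_X_none, phi_X_none_eq_of_pow n hn b hnb, ← iota_S2' n hn, ← AlgHom.comp_apply,
      phi_comp_iota]
  · rw [rho_X_some, ← iota_X, ← AlgHom.comp_apply (phi n), phi_comp_iota]

include hn hnb in
theorem range_psi_eq_of_pow : (psi n).range = (phi n).range := by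
  apply le_antisymm
  · rw [← phi_comp_iota]; exact AlgHom.range_comp_le_range _ _
  · rw [← psi_comp_rho n hn b hnb]; exact AlgHom.range_comp_le_range _ _

include hnb in
theorem ker_psi_eq_map : RingHom.ker (psi n) = Ideal.map (rho n hn) (presIdeal n) := by
  rw [← ker_phi_eq n hn]
  exact ker_eq_map_of_retraction (phi n) (psi n) (iota n) (rho n hn) (rho_comp_iota n hn)
    (psi_comp_rho n hn b hnb)

include hb in
/-- `S_2 = e_2^(2^(b-1)) + e_1^(2^(b-1)) R`. -/
theorem S2'_split (hk : klog n 2 = b) :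
    ∃ R : FreeP n, S2' n hn = X (i1 n hn) ^ 2 ^ (b - 1) + X (i0 n hn) ^ 2 ^ (b - 1) * R := by
  refine ⟨∑ t ∈ Finset.range (b - 1),
    X (i0 n hn) ^ (2 ^ (b - 1) - 2 ^ (t + 1)) * X (i1 n hn) ^ 2 ^ t, ?_⟩
  have hb' : b = (b - 1) + 1 := by omega
  rw [S2', hk]
  have := Finset.sum_range_succ (fun t => (X (i0 n hn) : FreeP n) ^ (2 ^ b - 2 ^ (t + 1)) *
    X (i1 n hn) ^ 2 ^ t) (b - 1)
  rw [← hb'] at this
  rw [this, Nat.sub_self, pow_zero, one_mul, add_comm, Finset.mul_sum]
  congr 1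
  refine Finset.sum_congr rfl fun t ht => ?_
  rw [← mul_assoc, ← pow_add]
  congr 2
  have ht' : t + 1 ≤ b - 1 := by have := Finset.mem_range.mp ht; omega
  have h1 : 2 ^ (t + 1) ≤ 2 ^ (b - 1) := Nat.pow_le_pow_right (by norm_num) ht'
  have h2 : 2 ^ b = 2 ^ (b - 1) + 2 ^ (b - 1) := by
    conv_lhs => rw [hb', pow_succ]
    ring
  rw [h2]
  generalize 2 ^ (b - 1) = A at h1 ⊢
  generalize 2 ^ (t + 1) = B at h1 ⊢
  omega

theorem evarE_one : evarE n 1 = X (i0 n hn) := evarE_succ n (i0 n hn)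

theorem evarE_two : evarE n 2 = X (i1 n hn) := evarE_succ n (i1 n hn)

theorem two_eq_zero_freeP : (2 : FreeP n) = 0 := by
  have : (2 : FreeP n) = (2 : ZMod 2) • (1 : FreeP n) := by
    rw [two_smul, one_add_one_eq_two]
  rw [this, show (2 : ZMod 2) = 0 by decide, zero_smul]

theorem rho_hrel_succ (i : Fin (numVars n)) (hi : 2 ≤ i.val) :
    rho n hn (hrel n (i.val + 1)) = X i ^ 2 ^ klog n (i.val + 1) +
      X (i0 n hn) ^ ((2 * (i.val + 1) - 3) * 2 ^ klog n (i.val + 1) - n) * S2' n hn +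
      X (i0 n hn) ^ ((2 * (i.val + 1) - 4) * 2 ^ klog n (i.val + 1)) *
        rho n hn (sPoly n (i.val + 1)) := by
  rw [hrel_succ n i hi, map_add, map_add, map_mul, map_mul, map_pow, map_pow, map_pow, evar_succ,
    evar_one n hn, xvar, rho_X_some, rho_X_some, rho_X_none]

include hb hnb in
theorem map_rho_presIdeal_eq : Ideal.map (rho n hn) (presIdeal n) = powIdeal n := by
  have hk2 := klog_two_of_pow n b hnb
  have hk1' := kprime_one_of_pow n b hnb
  have hk2' := kprime_two_of_pow n b hnb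
  obtain ⟨R, hR⟩ := S2'_split n hn b hb hk2
  have h2 := two_eq_zero_freeP n
  have hS2sq : S2' n hn ^ 2 = X (i1 n hn) ^ 2 ^ b + X (i0 n hn) ^ n * R ^ 2 := by
    have e1 : (X (i1 n hn) : FreeP n) ^ 2 ^ b = (X (i1 n hn) ^ 2 ^ (b - 1)) ^ 2 := by
      rw [← pow_mul, ← pow_succ]; congr 2; omega
    have hn2 : n = 2 ^ (b - 1) * 2 := by
      rw [hnb, ← pow_succ]; congr 1; omega
    have e0 : (X (i0 n hn) : FreeP n) ^ n = (X (i0 n hn) ^ 2 ^ (b - 1)) ^ 2 := by
      rw [← pow_mul, ← hn2]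
    rw [hR, e1, e0]
    linear_combination (X (i1 n hn) ^ 2 ^ (b - 1) * (X (i0 n hn) ^ 2 ^ (b - 1) * R)) * h2
  have hspec : evarE n 1 * ∑ t ∈ Finset.range (kprime n 2),
      evarE n 1 ^ (2 ^ kprime n 2 - 2 ^ (t + 1)) * evarE n 2 ^ 2 ^ t =
      X (i0 n hn) * S2' n hn := by
    rw [hk2', S2', hk2, evarE_one n hn, evarE_two n hn]
  -- images of the generators of `presIdeal`
  have r1 : rho n hn (evar n 1 ^ n) = X (i0 n hn) ^ n := by
    rw [map_pow, evar_one n hn, rho_X_some]
  have r2 : rho n hn (evar n 1 * xvar n) = X (i0 n hn) * S2' n hn := by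
    rw [map_mul, evar_one n hn, xvar, rho_X_some, rho_X_none]
  have r3 : rho n hn (xvar n ^ 2) = S2' n hn ^ 2 := by
    rw [map_pow, xvar, rho_X_none]
  have r4 : rho n hn (hrel n 2) = 0 := by
    have hq : 2 ^ klog n 2 - n = 0 := by rw [hk2, hnb]; omega
    rw [hrel_two, hq, pow_zero, one_mul, map_add, xvar, rho_X_none, ← iota_S2' n hn,
      ← AlgHom.comp_apply, rho_comp_iota, AlgHom.id_apply]
    linear_combination (S2' n hn) * h2
  -- generators of `powIdeal`
  have g0 : (X (i0 n hn) : FreeP n) ^ n ∈ powIdeal n := by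
    refine Ideal.subset_span (Or.inr ⟨i0 n hn, ?_⟩)
    show evarE n ((i0 n hn).val + 1) ^ 2 ^ kprime n ((i0 n hn).val + 1) = _
    rw [evarE_succ]
    show _ ^ 2 ^ kprime n 1 = _
    rw [hk1', ← hnb]
  have g1 : (X (i1 n hn) : FreeP n) ^ 2 ^ b ∈ powIdeal n := by
    refine Ideal.subset_span (Or.inr ⟨i1 n hn, ?_⟩)
    show evarE n ((i1 n hn).val + 1) ^ 2 ^ kprime n ((i1 n hn).val + 1) = _
    rw [evarE_succ]
    show _ ^ 2 ^ kprime n 2 = _
    rw [hk2']
  have gs : (X (i0 n hn) * S2' n hn : FreeP n) ∈ powIdeal n := by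
    refine Ideal.subset_span (Or.inl ?_)
    rw [Set.mem_singleton_iff, hspec]
  have gi : ∀ i : Fin (numVars n), 2 ≤ i.val →
      (X i : FreeP n) ^ 2 ^ klog n (i.val + 1) ∈ powIdeal n := by
    intro i hi
    refine Ideal.subset_span (Or.inr ⟨i, ?_⟩)
    show evarE n (i.val + 1) ^ 2 ^ kprime n (i.val + 1) = _
    rw [evarE_succ, klog_eq_kprime_of_pow n hn b hnb (i.val + 1) (by omega)
      (by have := i.2; omega)]
  -- tails
  have tail : ∀ (I : Ideal (FreeP n)), (X (i0 n hn) : FreeP n) ^ n ∈ I →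
      (X (i0 n hn) * S2' n hn : FreeP n) ∈ I → ∀ i : Fin (numVars n), 2 ≤ i.val →
      X (i0 n hn) ^ ((2 * (i.val + 1) - 3) * 2 ^ klog n (i.val + 1) - n) * S2' n hn +
      X (i0 n hn) ^ ((2 * (i.val + 1) - 4) * 2 ^ klog n (i.val + 1)) *
        rho n hn (sPoly n (i.val + 1)) ∈ I := by
    intro I h0 hs i hi
    have hA := lt_mul_two_pow_klog_of_pow n hn b hnb (i.val + 1) (by omega)
      (by have := i.2; omega)
    have hB := le_pred_mul_two_pow_klog_of_pow n hn b hnb (i.val + 1) (by omega)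
      (by have := i.2; omega)
    refine I.add_mem ?_ ?_
    · obtain ⟨A, hA'⟩ : ∃ A, (2 * (i.val + 1) - 3) * 2 ^ klog n (i.val + 1) - n = A + 1 :=
        ⟨(2 * (i.val + 1) - 3) * 2 ^ klog n (i.val + 1) - n - 1, by omega⟩
      rw [hA', pow_succ, mul_assoc]
      exact I.mul_mem_left _ hs
    · obtain ⟨B, hB'⟩ := Nat.exists_eq_add_of_le hB
      rw [hB', pow_add, mul_assoc]
      exact I.mul_mem_right _ h0
  apply le_antisymm
  · rw [Ideal.map_le_iff_le_comap, presIdeal, Ideal.span_le]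
    intro f hf
    rw [SetLike.mem_coe, Ideal.mem_comap]
    rcases hf with hf | ⟨i, rfl⟩
    · rcases hf with rfl | rfl | rfl
      · rw [r1]; exact g0
      · rw [r2]; exact gs
      · rw [r3, hS2sq]
        exact Ideal.add_mem _ g1 (Ideal.mul_mem_right _ _ g0)
    · show rho n hn (hrel n (i.val + 1)) ∈ _
      rcases Nat.lt_or_ge i.val 2 with h | h
      · rcases Nat.lt_or_ge i.val 1 with h0 | h1
        · have : i.val + 1 = 1 := by omega
          rw [this, hrel_one, map_zero]; exact Ideal.zero_mem _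
        · have : i.val + 1 = 2 := by omega
          rw [this, r4]; exact Ideal.zero_mem _
      · rw [rho_hrel_succ n hn i h, add_assoc]
        exact Ideal.add_mem _ (gi i h) (tail _ g0 gs i h)
  · have m0 : (X (i0 n hn) : FreeP n) ^ n ∈ Ideal.map (rho n hn) (presIdeal n) := by
      rw [← r1]; exact Ideal.mem_map_of_mem _ (X_zero_pow_mem' n)
    have ms : (X (i0 n hn) * S2' n hn : FreeP n) ∈ Ideal.map (rho n hn) (presIdeal n) := by
      rw [← r2]; exact Ideal.mem_map_of_mem _ (X_zero_mul_X_none_mem' n)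
    have mq : S2' n hn ^ 2 ∈ Ideal.map (rho n hn) (presIdeal n) := by
      rw [← r3]; exact Ideal.mem_map_of_mem _ (Ideal.subset_span (Or.inl (by simp)))
    rw [powIdeal, Ideal.span_le]
    rintro f (hf | ⟨i, rfl⟩)
    · rw [Set.mem_singleton_iff] at hf
      rw [hf, hspec]; exact ms
    · show evarE n (i.val + 1) ^ 2 ^ kprime n (i.val + 1) ∈ _
      rw [evarE_succ]
      rcases Nat.lt_or_ge i.val 2 with h | h
      · rcases Nat.lt_or_ge i.val 1 with h0 | h1
        · have hi : i = i0 n hn := Fin.ext (by simp [i0]; omega)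
          subst hi
          show _ ^ 2 ^ kprime n 1 ∈ _
          rw [hk1', ← hnb]; exact m0
        · have hi : i = i1 n hn := Fin.ext (by simp [i1]; omega)
          subst hi
          show _ ^ 2 ^ kprime n 2 ∈ _
          rw [hk2']
          have : (X (i1 n hn) : FreeP n) ^ 2 ^ b = S2' n hn ^ 2 - X (i0 n hn) ^ n * R ^ 2 := by
            rw [hS2sq]; ring
          rw [this]
          exact Ideal.sub_mem _ mq (Ideal.mul_mem_right _ _ m0)
      · rw [← klog_eq_kprime_of_pow n hn b hnb (i.val + 1) (by omega) (by have := i.2; omega)]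
        have e := rho_hrel_succ n hn i h
        have : (X i : FreeP n) ^ 2 ^ klog n (i.val + 1) = rho n hn (hrel n (i.val + 1)) -
            (X (i0 n hn) ^ ((2 * (i.val + 1) - 3) * 2 ^ klog n (i.val + 1) - n) * S2' n hn +
              X (i0 n hn) ^ ((2 * (i.val + 1) - 4) * 2 ^ klog n (i.val + 1)) *
                rho n hn (sPoly n (i.val + 1))) := by
          rw [e]; ring
        rw [this]
        exact Ideal.sub_mem _ (Ideal.mem_map_of_mem _ (hrel_mem i)) (tail _ m0 ms i h)

include hn hb hnb in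
theorem ker_psi_eq_of_pow : RingHom.ker (psi n) = powIdeal n := by
  rw [ker_psi_eq_map n hn b hnb, map_rho_presIdeal_eq n hn b hb hnb]

end Pow2

end Groth.Agent.Lib.QsChow58
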