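import Groth.Agent.Lib.QsChow58f

/-!
# The fixed subalgebra of `QsChow.P n` modulo `ε_1^(2^a)`, for `n = 2^a d` even, `d ≥ 3` odd

Arithmetic of the exponents.
-/

set_option autoImplicit false

namespace Groth.Agent.Lib.QsChow58

open QsChow MvPolynomial

section Arith

variable (n : ℕ) (hn : 2 ≤ n) (a d l : ℕ) (ha : 1 ≤ a) (hnad : n = 2 ^ a * d) (hdodd : Odd d)
  (hd3 : 3 ≤ d) (hl : 2 * l - 3 = d)

include ha hnad in
theorem two_mul_le_of_even : 2 * d ≤ n := by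
  have : 2 ^ 1 ≤ 2 ^ a := Nat.pow_le_pow_right (by norm_num) ha
  rw [hnad]
  calc 2 * d = 2 ^ 1 * d := by ring
    _ ≤ 2 ^ a * d := Nat.mul_le_mul_right _ this

include ha hnad hd3 hl in
theorem l_le_numVars : l ≤ numVars n := by
  have := two_mul_le_of_even n a d ha hnad
  unfold numVars
  omega

include hn hnad hd3 hl in
theorem klog_l : klog n l = a := by
  unfold klog
  rw [hl]
  have hQ : 2 * n = 2 ^ (a + 1) * d := by rw [hnad, pow_succ]; ring
  have hQ1 : 1 ≤ 2 ^ (a + 1) := Nat.one_le_two_pow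
  have hdiv : (2 * n - 1) / d = 2 ^ (a + 1) - 1 := by
    refine Nat.div_eq_of_lt_le ?_ ?_
    · rw [Nat.sub_mul, one_mul]; omega
    · rw [Nat.sub_add_cancel hQ1]; omega
  rw [hdiv]
  refine Nat.log_eq_of_pow_le_of_lt_pow ?_ ?_
  · rw [pow_succ]; have := Nat.two_pow_pos a; omega
  · omega

include hnad hd3 hl in
theorem kprime_l : kprime n l = a + 1 := by
  rw [kprime_of_three_le n l (by omega), hl]
  have hQ : 2 * n = 2 ^ (a + 1) * d := by rw [hnad, pow_succ]; ring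
  rw [hQ, Nat.mul_div_cancel _ (by omega), Nat.log_pow (by norm_num)]

include hdodd in
/-- `2`-adic uniqueness: `2^k d' = 2^a' d` with `d`, `d'` odd forces `d' = d`. -/
theorem odd_part_unique {k a' d' : ℕ} (hd' : Odd d') (h : 2 ^ k * d' = 2 ^ a' * d) : d' = d := by
  have c1 : Nat.Coprime (2 ^ k) d := (Nat.coprime_two_left.mpr hdodd).pow_left k
  have c2 : Nat.Coprime (2 ^ a') d' := (Nat.coprime_two_left.mpr hd').pow_left a'
  have h1 : 2 ^ k ∣ 2 ^ a' := c1.dvd_of_dvd_mul_right (Dvd.intro _ h)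
  have h2 : 2 ^ a' ∣ 2 ^ k := c2.dvd_of_dvd_mul_right (Dvd.intro _ h.symm)
  have h3 : 2 ^ k = 2 ^ a' := Nat.dvd_antisymm h1 h2
  rw [h3] at h
  exact Nat.eq_of_mul_eq_mul_left (Nat.two_pow_pos a') h

include hn hnad hdodd hl in
theorem klog_eq_kprime_of_ne (j : ℕ) (hj : 3 ≤ j) (hjs : j ≤ numVars n) (hjl : j ≠ l) :
    klog n j = kprime n j := by
  rw [kprime_of_three_le n j hj]
  unfold klog
  unfold numVars at hjs
  set d' := 2 * j - 3 with hd'
  have hd1 : 3 ≤ d' := by omega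
  have hdn : d' + 1 ≤ n := by omega
  have hdodd' : Odd d' := ⟨j - 2, by omega⟩
  refine le_antisymm (Nat.log_mono_right (Nat.div_le_div_right (by omega))) ?_
  set k' := Nat.log 2 (2 * n / d') with hk'
  refine Nat.le_log_of_pow_le (by norm_num) ?_
  by_contra hlt
  rw [not_le] at hlt
  have h1 : 2 * n - 1 < 2 ^ k' * d' := (Nat.div_lt_iff_lt_mul (by omega)).mp hlt
  have hB : 2 ≤ 2 * n / d' := by
    rw [Nat.le_div_iff_mul_le (by omega)]; omega
  have h2 : 2 ^ k' * d' ≤ 2 * n := by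
    have := Nat.pow_log_le_self 2 (x := 2 * n / d') (by omega)
    exact (Nat.le_div_iff_mul_le (by omega)).mp this
  have h3 : 2 ^ k' * d' = 2 ^ (a + 1) * d := by
    have : 2 * n = 2 ^ (a + 1) * d := by rw [hnad, pow_succ]; ring
    omega
  have := odd_part_unique d hdodd hdodd' h3
  omega

include hnad hdodd hd3 in
theorem ne_two_pow (m : ℕ) : n ≠ 2 ^ m := by
  intro h
  have h5 : d ∣ 2 ^ m := by rw [← h, hnad]; exact Dvd.intro_left _ rfl
  obtain ⟨k'', _, hk''⟩ := (Nat.dvd_prime_pow Nat.prime_two).mp h5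
  rcases Nat.eq_zero_or_pos k'' with h0 | h0
  · rw [h0, pow_zero] at hk''; omega
  · have : Even d := by rw [hk'']; exact (Nat.even_pow' (by omega)).mpr (by norm_num)
    exact (Nat.not_even_iff_odd.mpr hdodd) this

include hn hnad hdodd hd3 in
theorem klog_two_of_not_pow : klog n 2 = Nat.log 2 n + 1 := by
  have hn0 : n ≠ 0 := by omega
  have h1 : 2 ^ Nat.log 2 n ≤ n := Nat.pow_log_le_self 2 hn0
  have h2 : n < 2 ^ (Nat.log 2 n + 1) := Nat.lt_pow_succ_log_self (by norm_num) n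
  have hne : 2 ^ Nat.log 2 n ≠ n := fun h => ne_two_pow n a d hnad hdodd hd3 _ h.symm
  unfold klog
  have hd : (2 * n - 1) / (2 * 2 - 3) = 2 * n - 1 := by norm_num
  rw [hd]
  refine Nat.log_eq_of_pow_le_of_lt_pow ?_ ?_
  · rw [pow_succ]; omega
  · rw [pow_succ] at h2 ⊢; omega

include hnad hd3 in
theorem a_le_log : a ≤ Nat.log 2 n := by
  refine Nat.le_log_of_pow_le (by norm_num) ?_
  rw [hnad]
  exact Nat.le_mul_of_pos_right _ (by omega)

include hn hnad hdodd hd3 in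
theorem two_pow_a_le_sub : 2 ^ a ≤ 2 ^ klog n 2 - n := by
  rw [klog_two_of_not_pow n hn a d hnad hdodd hd3]
  have ham := a_le_log n a d hnad hd3
  set m := Nat.log 2 n with hm
  have h2 : n < 2 ^ (m + 1) := Nat.lt_pow_succ_log_self (by norm_num) n
  have e : 2 ^ (m + 1) = 2 ^ a * 2 ^ (m + 1 - a) := by rw [← pow_add]; congr 1; omega
  rw [e, hnad] at h2
  have h3 : d < 2 ^ (m + 1 - a) := Nat.lt_of_mul_lt_mul_left h2
  rw [e, hnad]
  calc 2 ^ a = 2 ^ a * (d + 1) - 2 ^ a * d := by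
        rw [mul_add, mul_one, Nat.add_sub_cancel_left]
    _ ≤ 2 ^ a * 2 ^ (m + 1 - a) - 2 ^ a * d :=
      Nat.sub_le_sub_right (Nat.mul_le_mul_left _ h3) _

include hn hnad hdodd hd3 in
theorem two_pow_a_le_sub_pow (t : ℕ) (ht : t < klog n 2 - 1) :
    2 ^ a ≤ 2 ^ klog n 2 - 2 ^ (t + 1) := by
  have hk := klog_two_of_not_pow n hn a d hnad hdodd hd3
  have ham := a_le_log n a d hnad hd3
  rw [hk] at ht ⊢
  have h1 : 2 ^ (t + 1) ≤ 2 ^ Nat.log 2 n := Nat.pow_le_pow_right (by norm_num) (by omega)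
  have h2 : 2 ^ a ≤ 2 ^ Nat.log 2 n := Nat.pow_le_pow_right (by norm_num) ham
  rw [pow_succ]
  omega

include hn hnad hdodd hl in
theorem one_le_sub_of_ne (j : ℕ) (hj : 3 ≤ j) (hjs : j ≤ numVars n) (hjl : j ≠ l) :
    n + 1 ≤ (2 * j - 3) * 2 ^ klog n j := by
  have h1 := le_mul_two_pow_klog n hn j (by omega) hjs
  have hdodd' : Odd (2 * j - 3) := ⟨j - 2, by omega⟩
  have h4 : (2 * j - 3) * 2 ^ klog n j ≠ n := by
    intro h
    have h3 : 2 ^ klog n j * (2 * j - 3) = 2 ^ a * d := by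
      rw [mul_comm, h]; exact hnad
    have := odd_part_unique d hdodd hdodd' h3
    omega
  omega

include hn hnad hd3 in
theorem two_pow_a_le_pred_mul (j : ℕ) (hj : 3 ≤ j) (hjs : j ≤ numVars n) :
    2 ^ a ≤ (2 * j - 4) * 2 ^ klog n j := by
  have h1 := le_mul_two_pow_klog n hn j (by omega) hjs
  set q := 2 ^ klog n j with hq
  have F1 : 2 * q ≤ (2 * j - 4) * q := Nat.mul_le_mul_right _ (by omega)
  have F2 : (2 * j - 3) * q = (2 * j - 4) * q + q := by
    have : 2 * j - 3 = (2 * j - 4) + 1 := by omega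
    rw [this, add_mul, one_mul]
  have F4 : 3 * 2 ^ a ≤ n := by
    rw [hnad, mul_comm]; exact Nat.mul_le_mul_left _ hd3
  omega

end Arith

end Groth.Agent.Lib.QsChow58
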