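import Groth.Agent.Lib.QsChow58g

/-!
# The fixed subalgebra of `QsChow.P n` modulo `ε_1^(2^a)`, for `n = 2^a d` even, `d ≥ 3` odd

The relation `h_l = e_l^(2^a) + x + e_1^((d-1) 2^a) S_l` (`2l - 3 = d`) eliminates `x`.
-/

set_option autoImplicit false

namespace Groth.Agent.Lib.QsChow58

open QsChow MvPolynomial

variable (n : ℕ) (hn : 2 ≤ n)

/-- The polynomial `S_j` without `x`. -/
noncomputable def SP' (j : ℕ) : FreeP n :=
  ∑ t ∈ Finset.range (klog n j), X (i0 n hn) ^ (2 ^ klog n j - 2 ^ (t + 1)) * X (i1 n hn) ^ 2 ^ t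

theorem iota_SP' (j : ℕ) : iota n (SP' n hn j) = sPoly n j := by
  rw [SP', sPoly, map_sum, evar_one n hn, evar_two n hn]
  refine Finset.sum_congr rfl fun t _ => ?_
  rw [map_mul, map_pow, map_pow, iota_X, iota_X]

/-- The element replacing `x`: `h_j` solved for `x` (when the exponent of `e_1` before `x`
vanishes). -/
noncomputable def xi (i : Fin (numVars n)) : FreeP n :=
  X i ^ 2 ^ klog n (i.val + 1) +
    X (i0 n hn) ^ ((2 * (i.val + 1) - 4) * 2 ^ klog n (i.val + 1)) * SP' n hn (i.val + 1)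

/-- The retraction eliminating `x` through `x ↦ xi`. -/
noncomputable def rhoL (i : Fin (numVars n)) : FreeE n →ₐ[ZMod 2] FreeP n :=
  aeval (fun o : Option (Fin (numVars n)) => o.elim (xi n hn i) X)

theorem rhoL_X_some (i j : Fin (numVars n)) : rhoL n hn i (X (some j)) = X j := by
  rw [rhoL, aeval_X]; rfl

theorem rhoL_X_none (i : Fin (numVars n)) : rhoL n hn i (X none) = xi n hn i := by
  rw [rhoL, aeval_X]; rfl

theorem rhoL_comp_iota (i : Fin (numVars n)) :
    (rhoL n hn i).comp (iota n) = AlgHom.id (ZMod 2) (FreeP n) := by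
  refine MvPolynomial.algHom_ext fun j => ?_
  rw [AlgHom.comp_apply, iota_X, rhoL_X_some, AlgHom.id_apply]

theorem rhoL_iota (i : Fin (numVars n)) (f : FreeP n) : rhoL n hn i (iota n f) = f :=
  DFunLike.congr_fun (rhoL_comp_iota n hn i) f

theorem iota_xi (i : Fin (numVars n)) : iota n (xi n hn i) =
    evar n (i.val + 1) ^ 2 ^ klog n (i.val + 1) +
      evar n 1 ^ ((2 * (i.val + 1) - 4) * 2 ^ klog n (i.val + 1)) * sPoly n (i.val + 1) := by
  rw [xi, map_add, map_mul, map_pow, map_pow, iota_X, iota_X, iota_SP', evar_succ, evar_one n hn]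

section Elim

variable (i : Fin (numVars n)) (hi : 2 ≤ i.val)
  (hexp : (2 * (i.val + 1) - 3) * 2 ^ klog n (i.val + 1) = n)

include hi hexp in
theorem phi_X_none_eq_xi : phi n (X none) = phi n (iota n (xi n hn i)) := by
  have h := phi_hrel n hn i
  have hq : (2 * (i.val + 1) - 3) * 2 ^ klog n (i.val + 1) - n = 0 := by rw [hexp]; omega
  rw [hrel_succ n i hi, hq, pow_zero, one_mul, map_add, map_add, xvar] at h
  rw [iota_xi, map_add]
  have h2 := add_self n (phi n (X none))
  linear_combination h2 - h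

include hi hexp in
theorem psi_comp_rhoL : (psi n).comp (rhoL n hn i) = phi n := by
  refine MvPolynomial.algHom_ext fun o => ?_
  rw [AlgHom.comp_apply]
  rcases o with _ | j
  · rw [rhoL_X_none, phi_X_none_eq_xi n hn i hi hexp, ← AlgHom.comp_apply (phi n), phi_comp_iota]
  · rw [rhoL_X_some, ← iota_X, ← AlgHom.comp_apply (phi n), phi_comp_iota]

include hi hexp in
theorem ker_psi_eq_mapL : RingHom.ker (psi n) = Ideal.map (rhoL n hn i) (presIdeal n) := by
  rw [← ker_phi_eq n hn]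
  exact ker_eq_map_of_retraction (phi n) (psi n) (iota n) (rhoL n hn i) (rhoL_comp_iota n hn i)
    (psi_comp_rhoL n hn i hi hexp)

theorem rhoL_hrel_succ (j : Fin (numVars n)) (hj : 2 ≤ j.val) :
    rhoL n hn i (hrel n (j.val + 1)) = X j ^ 2 ^ klog n (j.val + 1) +
      X (i0 n hn) ^ ((2 * (j.val + 1) - 3) * 2 ^ klog n (j.val + 1) - n) * xi n hn i +
      X (i0 n hn) ^ ((2 * (j.val + 1) - 4) * 2 ^ klog n (j.val + 1)) *
        rhoL n hn i (sPoly n (j.val + 1)) := by
  rw [hrel_succ n j hj, map_add, map_add, map_mul, map_mul, map_pow, map_pow, map_pow, evar_succ,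
    evar_one n hn, xvar, rhoL_X_some, rhoL_X_some, rhoL_X_none]

include hi hexp in
theorem rhoL_hrel_self : rhoL n hn i (hrel n (i.val + 1)) = 0 := by
  have hq : (2 * (i.val + 1) - 3) * 2 ^ klog n (i.val + 1) - n = 0 := by rw [hexp]; omega
  rw [rhoL_hrel_succ n hn i i hi, hq, pow_zero, one_mul, ← iota_SP' n hn, rhoL_iota]
  have h2 := two_eq_zero_freeP n
  rw [xi]
  linear_combination (X i ^ 2 ^ klog n (i.val + 1) +
    X (i0 n hn) ^ ((2 * (i.val + 1) - 4) * 2 ^ klog n (i.val + 1)) * SP' n hn (i.val + 1)) * h2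

theorem rhoL_hrel_two : rhoL n hn i (hrel n 2) =
    X (i0 n hn) ^ (2 ^ klog n 2 - n) * xi n hn i + S2' n hn := by
  rw [hrel_two, map_add, map_mul, map_pow, evar_one n hn, xvar, rhoL_X_some, rhoL_X_none,
    ← iota_S2' n hn, rhoL_iota]

end Elim

theorem S2'_eq : S2' n hn = X (i1 n hn) ^ 2 ^ (klog n 2 - 1) +
    ∑ t ∈ Finset.range (klog n 2 - 1),
      X (i0 n hn) ^ (2 ^ klog n 2 - 2 ^ (t + 1)) * X (i1 n hn) ^ 2 ^ t := by
  have hk := one_le_klog_two n hn
  have hk' : klog n 2 = (klog n 2 - 1) + 1 := by omega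
  have := Finset.sum_range_succ (fun t => (X (i0 n hn) : FreeP n) ^
    (2 ^ klog n 2 - 2 ^ (t + 1)) * X (i1 n hn) ^ 2 ^ t) (klog n 2 - 1)
  rw [← hk'] at this
  rw [S2', this, Nat.sub_self, pow_zero, one_mul, add_comm]

section Even

variable (a d l : ℕ) (ha : 1 ≤ a) (hnad : n = 2 ^ a * d) (hdodd : Odd d)
  (hd3 : 3 ≤ d) (hl : 2 * l - 3 = d) (il : Fin (numVars n)) (hil : il.val + 1 = l)

include hd3 hl hil in
theorem two_le_il : 2 ≤ il.val := by omega

include hn hnad hd3 hl hil in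
theorem hexp_il : (2 * (il.val + 1) - 3) * 2 ^ klog n (il.val + 1) = n := by
  rw [hil, klog_l n hn a d l hnad hd3 hl, hl, hnad, mul_comm]

include hn hnad hd3 hl hil in
theorem xi_il_eq : ∃ R : FreeP n,
    xi n hn il = X il ^ 2 ^ a + X (i0 n hn) ^ 2 ^ a * R := by
  refine ⟨X (i0 n hn) ^ ((d - 2) * 2 ^ a) * SP' n hn l, ?_⟩
  rw [xi, hil, klog_l n hn a d l hnad hd3 hl, ← mul_assoc, ← pow_add]
  have : (2 * l - 4) * 2 ^ a = 2 ^ a + (d - 2) * 2 ^ a := by
    have h1 : 2 * l - 4 = (d - 2) + 1 := by omega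
    rw [h1, add_mul, one_mul, add_comm]
  rw [this]

include hn hnad hdodd hd3 hl hil in
/-- The ideal `(e_1^(2^a)) + ρ(presIdeal)` is `evenIdeal`. -/
theorem evenIdeal_eq (hta : twoExp n = a) (hlidx : lIdx n = l) :
    Ideal.span {(X (i0 n hn) : FreeP n) ^ 2 ^ a} ⊔ Ideal.map (rhoL n hn il) (presIdeal n) =
      evenIdeal n := by
  have hi := two_le_il n d l hd3 hl il hil
  have hexp := hexp_il n hn a d l hnad hd3 hl il hil
  have hkl := klog_l n hn a d l hnad hd3 hl
  have hkl' := kprime_l n a d l hnad hd3 hl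
  have hk2 := klog_two_of_not_pow n hn a d hnad hdodd hd3
  have hk2' : klog n 2 - 1 = kprime n 2 := by rw [hk2, kprime_two]; rfl
  have hk1' : kprime n 1 = a := by rw [kprime, if_pos rfl, hta]
  have hAn : 2 ^ a ≤ n := by
    rw [hnad]; exact Nat.le_mul_of_pos_right _ (by omega)
  obtain ⟨R, hR⟩ := xi_il_eq n hn a d l hnad hd3 hl il hil
  have h2 := two_eq_zero_freeP n
  have hxisq : xi n hn il ^ 2 = X il ^ 2 ^ (a + 1) + X (i0 n hn) ^ 2 ^ a *
      (X (i0 n hn) ^ 2 ^ a * R ^ 2) := by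
    have e1 : (X il : FreeP n) ^ 2 ^ (a + 1) = (X il ^ 2 ^ a) ^ 2 := by
      rw [← pow_mul, ← pow_succ]
    rw [hR, e1]
    linear_combination (X il ^ 2 ^ a * (X (i0 n hn) ^ 2 ^ a * R)) * h2
  have hX0xi : X (i0 n hn) * xi n hn il = X (i0 n hn) * X il ^ 2 ^ a +
      X (i0 n hn) ^ 2 ^ a * (X (i0 n hn) * R) := by
    rw [hR]; ring
  -- the special generator
  have hspec : evarE n 1 * evarE n (lIdx n) ^ 2 ^ (kprime n (lIdx n) - 1) =
      X (i0 n hn) * X il ^ 2 ^ a := by
    rw [hlidx, hkl', evarE_one n hn, ← hil, evarE_succ]; rfl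
  -- images of the generators of `presIdeal`
  have r1 : rhoL n hn il (evar n 1 ^ n) = X (i0 n hn) ^ n := by
    rw [map_pow, evar_one n hn, rhoL_X_some]
  have r2 : rhoL n hn il (evar n 1 * xvar n) = X (i0 n hn) * xi n hn il := by
    rw [map_mul, evar_one n hn, xvar, rhoL_X_some, rhoL_X_none]
  have r3 : rhoL n hn il (xvar n ^ 2) = xi n hn il ^ 2 := by
    rw [map_pow, xvar, rhoL_X_none]
  -- tails
  have powmem : ∀ (I : Ideal (FreeP n)), (X (i0 n hn) : FreeP n) ^ 2 ^ a ∈ I → ∀ m : ℕ, 2 ^ a ≤ m →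
      ∀ f : FreeP n, X (i0 n hn) ^ m * f ∈ I := by
    intro I h0 m hm f
    obtain ⟨B, hB'⟩ := Nat.exists_eq_add_of_le hm
    rw [hB', pow_add, mul_assoc]
    exact I.mul_mem_right _ h0
  have tail2 : ∀ (I : Ideal (FreeP n)), (X (i0 n hn) : FreeP n) ^ 2 ^ a ∈ I →
      X (i0 n hn) ^ (2 ^ klog n 2 - n) * xi n hn il +
        ∑ t ∈ Finset.range (klog n 2 - 1),
          X (i0 n hn) ^ (2 ^ klog n 2 - 2 ^ (t + 1)) * X (i1 n hn) ^ 2 ^ t ∈ I := by
    intro I h0
    refine I.add_mem (powmem I h0 _ (two_pow_a_le_sub n hn a d hnad hdodd hd3) _)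
      (Ideal.sum_mem _ fun t ht => ?_)
    exact powmem I h0 _ (two_pow_a_le_sub_pow n hn a d hnad hdodd hd3 t (Finset.mem_range.mp ht)) _
  have tailj : ∀ (I : Ideal (FreeP n)), (X (i0 n hn) : FreeP n) ^ 2 ^ a ∈ I →
      (X (i0 n hn) * xi n hn il : FreeP n) ∈ I → ∀ j : Fin (numVars n), 2 ≤ j.val → j ≠ il →
      X (i0 n hn) ^ ((2 * (j.val + 1) - 3) * 2 ^ klog n (j.val + 1) - n) * xi n hn il +
      X (i0 n hn) ^ ((2 * (j.val + 1) - 4) * 2 ^ klog n (j.val + 1)) *
        rhoL n hn il (sPoly n (j.val + 1)) ∈ I := by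
    intro I h0 hs j hj hjl
    have hjl' : j.val + 1 ≠ l := by
      intro h; apply hjl; apply Fin.ext; omega
    have hA := one_le_sub_of_ne n hn a d l hnad hdodd hl (j.val + 1) (by omega)
      (by have := j.2; omega) hjl'
    have hB := two_pow_a_le_pred_mul n hn a d hnad hd3 (j.val + 1) (by omega)
      (by have := j.2; omega)
    refine I.add_mem ?_ (powmem I h0 _ hB _)
    obtain ⟨A, hA'⟩ : ∃ A, (2 * (j.val + 1) - 3) * 2 ^ klog n (j.val + 1) - n = A + 1 :=
      ⟨(2 * (j.val + 1) - 3) * 2 ^ klog n (j.val + 1) - n - 1, by omega⟩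
    rw [hA', pow_succ, mul_assoc]
    exact I.mul_mem_left _ hs
  -- generators of `evenIdeal`
  have g0 : (X (i0 n hn) : FreeP n) ^ 2 ^ a ∈ evenIdeal n := by
    refine Ideal.subset_span (Or.inr ⟨i0 n hn, ?_⟩)
    show evarE n ((i0 n hn).val + 1) ^ 2 ^ kprime n ((i0 n hn).val + 1) = _
    rw [evarE_succ]
    show _ ^ 2 ^ kprime n 1 = _
    rw [hk1']
  have g1 : (X (i1 n hn) : FreeP n) ^ 2 ^ (klog n 2 - 1) ∈ evenIdeal n := by
    refine Ideal.subset_span (Or.inr ⟨i1 n hn, ?_⟩)
    show evarE n ((i1 n hn).val + 1) ^ 2 ^ kprime n ((i1 n hn).val + 1) = _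
    rw [evarE_succ]
    show _ ^ 2 ^ kprime n 2 = _
    rw [hk2']
  have gs : (X (i0 n hn) * X il ^ 2 ^ a : FreeP n) ∈ evenIdeal n := by
    refine Ideal.subset_span (Or.inl ?_)
    rw [Set.mem_singleton_iff, hspec]
  have gl : (X il : FreeP n) ^ 2 ^ (a + 1) ∈ evenIdeal n := by
    refine Ideal.subset_span (Or.inr ⟨il, ?_⟩)
    show evarE n (il.val + 1) ^ 2 ^ kprime n (il.val + 1) = _
    rw [evarE_succ, hil, hkl']
  have gj : ∀ j : Fin (numVars n), 2 ≤ j.val → j ≠ il →
      (X j : FreeP n) ^ 2 ^ klog n (j.val + 1) ∈ evenIdeal n := by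
    intro j hj hjl
    have hjl' : j.val + 1 ≠ l := by
      intro h; apply hjl; apply Fin.ext; omega
    refine Ideal.subset_span (Or.inr ⟨j, ?_⟩)
    show evarE n (j.val + 1) ^ 2 ^ kprime n (j.val + 1) = _
    rw [evarE_succ, klog_eq_kprime_of_ne n hn a d l hnad hdodd hl (j.val + 1) (by omega)
      (by have := j.2; omega) hjl']
  have gxi : (X (i0 n hn) * xi n hn il : FreeP n) ∈ evenIdeal n := by
    rw [hX0xi]; exact Ideal.add_mem _ gs (Ideal.mul_mem_right _ _ g0)
  apply le_antisymm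
  · rw [sup_le_iff]
    refine ⟨by rw [Ideal.span_le, Set.singleton_subset_iff]; exact g0, ?_⟩
    rw [Ideal.map_le_iff_le_comap, presIdeal, Ideal.span_le]
    intro f hf
    rw [SetLike.mem_coe, Ideal.mem_comap]
    rcases hf with hf | ⟨j, rfl⟩
    · rcases hf with rfl | rfl | rfl
      · rw [r1]
        have := powmem _ g0 n hAn 1
        rwa [mul_one] at this
      · rw [r2]; exact gxi
      · rw [r3, hxisq]
        exact Ideal.add_mem _ gl (Ideal.mul_mem_right _ _ g0)
    · show rhoL n hn il (hrel n (j.val + 1)) ∈ _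
      rcases Nat.lt_or_ge j.val 2 with h | h
      · rcases Nat.lt_or_ge j.val 1 with h0 | h1
        · have : j.val + 1 = 1 := by omega
          rw [this, hrel_one, map_zero]; exact Ideal.zero_mem _
        · have : j.val + 1 = 2 := by omega
          rw [this, rhoL_hrel_two, S2'_eq, add_left_comm]
          exact Ideal.add_mem _ g1 (tail2 _ g0)
      · by_cases hjl : j = il
        · subst hjl
          rw [rhoL_hrel_self n hn j hi hexp]; exact Ideal.zero_mem _
        · rw [rhoL_hrel_succ n hn il j h, add_assoc]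
          exact Ideal.add_mem _ (gj j h hjl) (tailj _ g0 gxi j h hjl)
  · set M := Ideal.span {(X (i0 n hn) : FreeP n) ^ 2 ^ a} ⊔
      Ideal.map (rhoL n hn il) (presIdeal n) with hM
    have m0 : (X (i0 n hn) : FreeP n) ^ 2 ^ a ∈ M :=
      Ideal.mem_sup_left (Ideal.subset_span rfl)
    have mmap : ∀ p ∈ presIdeal n, rhoL n hn il p ∈ M := fun p hp =>
      Ideal.mem_sup_right (Ideal.mem_map_of_mem _ hp)
    have ms : (X (i0 n hn) * xi n hn il : FreeP n) ∈ M := by
      rw [← r2]; exact mmap _ (X_zero_mul_X_none_mem' n)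
    have mq : xi n hn il ^ 2 ∈ M := by
      rw [← r3]; exact mmap _ (Ideal.subset_span (Or.inl (by simp)))
    rw [evenIdeal, Ideal.span_le]
    rintro f (hf | ⟨j, rfl⟩)
    · rw [Set.mem_singleton_iff] at hf
      rw [hf, hspec]
      have : (X (i0 n hn) * X il ^ 2 ^ a : FreeP n) = X (i0 n hn) * xi n hn il -
          X (i0 n hn) ^ 2 ^ a * (X (i0 n hn) * R) := by rw [hX0xi]; ring
      rw [this]
      exact Ideal.sub_mem _ ms (Ideal.mul_mem_right _ _ m0)
    · show evarE n (j.val + 1) ^ 2 ^ kprime n (j.val + 1) ∈ _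
      rw [evarE_succ]
      rcases Nat.lt_or_ge j.val 2 with h | h
      · rcases Nat.lt_or_ge j.val 1 with h0 | h1
        · have hj : j = i0 n hn := Fin.ext (by simp [i0]; omega)
          subst hj
          show _ ^ 2 ^ kprime n 1 ∈ _
          rw [hk1']; exact m0
        · have hj : j = i1 n hn := Fin.ext (by simp [i1]; omega)
          subst hj
          show _ ^ 2 ^ kprime n 2 ∈ _
          rw [← hk2']
          have e := rhoL_hrel_two n hn il
          rw [S2'_eq, add_left_comm] at e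
          have : (X (i1 n hn) : FreeP n) ^ 2 ^ (klog n 2 - 1) = rhoL n hn il (hrel n 2) -
              (X (i0 n hn) ^ (2 ^ klog n 2 - n) * xi n hn il +
                ∑ t ∈ Finset.range (klog n 2 - 1),
                  X (i0 n hn) ^ (2 ^ klog n 2 - 2 ^ (t + 1)) * X (i1 n hn) ^ 2 ^ t) := by
            rw [e]; ring
          rw [this]
          exact Ideal.sub_mem _ (mmap _ (hrel_mem (i1 n hn))) (tail2 _ m0)
      · by_cases hjl : j = il
        · subst hjl
          rw [hil, hkl']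
          have : (X j : FreeP n) ^ 2 ^ (a + 1) = xi n hn j ^ 2 -
              X (i0 n hn) ^ 2 ^ a * (X (i0 n hn) ^ 2 ^ a * R ^ 2) := by rw [hxisq]; ring
          rw [this]
          exact Ideal.sub_mem _ mq (Ideal.mul_mem_right _ _ m0)
        · have hjl' : j.val + 1 ≠ l := by
            intro h'; apply hjl; apply Fin.ext; omega
          rw [← klog_eq_kprime_of_ne n hn a d l hnad hdodd hl (j.val + 1) (by omega)
            (by have := j.2; omega) hjl']
          have e := rhoL_hrel_succ n hn il j h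
          have : (X j : FreeP n) ^ 2 ^ klog n (j.val + 1) = rhoL n hn il (hrel n (j.val + 1)) -
              (X (i0 n hn) ^ ((2 * (j.val + 1) - 3) * 2 ^ klog n (j.val + 1) - n) * xi n hn il +
                X (i0 n hn) ^ ((2 * (j.val + 1) - 4) * 2 ^ klog n (j.val + 1)) *
                  rhoL n hn il (sPoly n (j.val + 1))) := by
            rw [e]; ring
          rw [this]
          exact Ideal.sub_mem _ (mmap _ (hrel_mem j)) (tailj _ m0 ms j h hjl)

end Even

section Main

variable (τ : P n →ₐ[ZMod 2] P n) (hτ1 : τ (eps n 1) = eps n 1)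
  (hτ : ∀ j : ℕ, 2 ≤ j → j ≤ numVars n → τ (eps n j) = eps n j + eps n 1 ^ (2 * j - 3))

theorem psi_X_zero : psi n (X (i0 n hn)) = eps n 1 := by
  rw [← phi_comp_iota, AlgHom.comp_apply, iota_X, phi_X_zero n hn, eps_one n hn]

include hn hτ1 hτ in
theorem even_main (ha : 1 ≤ twoExp n) (hne : n ≠ 2 ^ twoExp n) :
    (∀ q : FreeP n,
      (∃ w : P n, τ w = w ∧ psi n q = eps n 1 ^ 2 ^ twoExp n * w) ↔ q ∈ evenIdeal n) ∧
    (∀ z : P n, τ z = z → ∃ q : FreeP n, ∃ w : P n,
      τ w = w ∧ z = psi n q + eps n 1 ^ 2 ^ twoExp n * w) := by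
  have hn0 : n ≠ 0 := by omega
  set a := twoExp n with ha_def
  set d := n / 2 ^ a with hd_def
  have hdvd : 2 ^ a ∣ n := pow_padicValNat_dvd
  have hnad : n = 2 ^ a * d := (Nat.mul_div_cancel' hdvd).symm
  have hdodd : Odd d := by
    rw [← Nat.not_even_iff_odd]
    rintro ⟨m, hm⟩
    have : 2 ^ (a + 1) ∣ n := by
      rw [hnad, hm, pow_succ]; exact ⟨m, by ring⟩
    exact pow_succ_padicValNat_not_dvd (p := 2) hn0 this
  have hd3 : 3 ≤ d := by
    have h1 : d ≠ 0 := by
      intro h; rw [h, mul_zero] at hnad; exact hn0 hnad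
    have h2 : d ≠ 1 := by
      intro h; rw [h, mul_one] at hnad; exact hne hnad
    obtain ⟨m, hm⟩ := hdodd
    omega
  set l := lIdx n with hl_def
  have hl : 2 * l - 3 = d := by
    obtain ⟨m, hm⟩ := hdodd
    have : l = (d + 3) / 2 := rfl
    omega
  have hls := l_le_numVars n a d l ha hnad hd3 hl
  have hl3 : 3 ≤ l := by omega
  set il : Fin (numVars n) := ⟨l - 1, by omega⟩ with hil_def
  have hil : il.val + 1 = l := by simp [hil_def]; omega
  have hi := two_le_il n d l hd3 hl il hil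
  have hexp := hexp_il n hn a d l hnad hd3 hl il hil
  have hker := ker_psi_eq_mapL n hn il hi hexp
  have hcomp := psi_comp_rhoL n hn il hi hexp
  have hE := evenIdeal_eq n hn a d l hnad hdodd hd3 hl il hil rfl rfl
  constructor
  · intro q
    rw [← hE]
    constructor
    · rintro ⟨w, hw, hq⟩
      have hw' : w ∈ (phi n).range := by
        rw [range_phi_eq_equalizer n hn τ hτ1 hτ, AlgHom.mem_equalizer, AlgHom.id_apply]
        exact hw
      obtain ⟨q', rfl⟩ := (AlgHom.mem_range (phi n)).mp hw'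
      have hk : q - X (i0 n hn) ^ 2 ^ a * rhoL n hn il q' ∈ RingHom.ker (psi n) := by
        rw [RingHom.mem_ker, map_sub, map_mul, map_pow, psi_X_zero, hq]
        have : psi n (rhoL n hn il q') = phi n q' := by
          rw [← hcomp]; rfl
        rw [this, sub_self]
      rw [hker] at hk
      have : q = X (i0 n hn) ^ 2 ^ a * rhoL n hn il q' +
          (q - X (i0 n hn) ^ 2 ^ a * rhoL n hn il q') := by ring
      rw [this]
      exact Ideal.add_mem _
        (Ideal.mem_sup_left (Ideal.mem_span_singleton.mpr (Dvd.intro _ rfl)))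
        (Ideal.mem_sup_right hk)
    · intro hq
      obtain ⟨c, hc, p, hp, rfl⟩ := Submodule.mem_sup.mp hq
      obtain ⟨c', rfl⟩ := Ideal.mem_span_singleton'.mp hc
      rw [← hker] at hp
      have hp0 : psi n p = 0 := hp
      refine ⟨psi n c', ?_, ?_⟩
      · refine tau_fixed_of_mem n hn τ hτ1 hτ ?_
        rw [← phi_comp_iota]
        exact ⟨iota n c', rfl⟩
      · rw [map_add, map_mul, map_pow, hp0, add_zero, psi_X_zero, mul_comm]
  · intro z hz
    have hz' : z ∈ (phi n).range := by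
      rw [range_phi_eq_equalizer n hn τ hτ1 hτ, AlgHom.mem_equalizer, AlgHom.id_apply]
      exact hz
    obtain ⟨q', rfl⟩ := (AlgHom.mem_range (phi n)).mp hz'
    refine ⟨rhoL n hn il q', 0, map_zero τ, ?_⟩
    rw [mul_zero, add_zero, ← hcomp]
    rfl

end Main

end Groth.Agent.Lib.QsChow58
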