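import Mathlib

namespace Groth.Agent.Lib.QuadricSq

open MvPolynomial

variable {κ : Type*} [Field κ]

/-- affine-linear form `g + h x + i y`. -/
noncomputable def aff (g h i : κ) : MvPolynomial (Fin 2) κ := C g + C h * X 0 + C i * X 1

/-- the general polynomial of degree `≤ 2`, in the shape used by the statement. -/
noncomputable def quad (a b c d e f : κ) : MvPolynomial (Fin 2) κ :=
  C a + C b * X 0 + C c * X 1 + C d * X 0 ^ 2 + C e * X 0 * X 1 + C f * X 1 ^ 2

lemma sub_eval_mem (I : Ideal (MvPolynomial (Fin 2) κ)) (x0 y0 : κ)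
    (hx : X 0 - C x0 ∈ I) (hy : X 1 - C y0 ∈ I) (p : MvPolynomial (Fin 2) κ) :
    p - C (eval ![x0, y0] p) ∈ I := by
  induction p using MvPolynomial.induction_on with
  | C a => simp
  | add p q hp hq =>
    have : p + q - C (eval ![x0, y0] (p + q)) =
        (p - C (eval ![x0, y0] p)) + (q - C (eval ![x0, y0] q)) := by
      simp only [map_add]; ring
    rw [this]; exact I.add_mem hp hq
  | mul_X p n hp =>
    have : p * X n - C (eval ![x0, y0] (p * X n)) =
        (p - C (eval ![x0, y0] p)) * X n + C (eval ![x0, y0] p) * (X n - C (![x0, y0] n)) := by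
      simp only [map_mul, eval_X]; ring
    rw [this]
    refine I.add_mem (I.mul_mem_right _ hp) (I.mul_mem_left _ ?_)
    fin_cases n
    · simpa using hx
    · simpa using hy

lemma colength_le_one_of_point (I : Ideal (MvPolynomial (Fin 2) κ)) (x0 y0 : κ)
    (hx : X 0 - C x0 ∈ I) (hy : X 1 - C y0 ∈ I) :
    Module.Finite κ (MvPolynomial (Fin 2) κ ⧸ I) ∧
      Module.finrank κ (MvPolynomial (Fin 2) κ ⧸ I) ≤ 1 := by
  have hsurj : Function.Surjective (Algebra.linearMap κ (MvPolynomial (Fin 2) κ ⧸ I)) := by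
    intro z
    obtain ⟨p, rfl⟩ := Ideal.Quotient.mk_surjective z
    refine ⟨eval ![x0, y0] p, ?_⟩
    rw [Algebra.linearMap_apply]
    have := sub_eval_mem I x0 y0 hx hy p
    rw [← Ideal.Quotient.eq] at this
    rw [this]
    rfl
  have : Module.Finite κ (MvPolynomial (Fin 2) κ ⧸ I) := Module.Finite.of_surjective _ hsurj
  refine ⟨this, ?_⟩
  have := LinearMap.finrank_range_le (Algebra.linearMap κ (MvPolynomial (Fin 2) κ ⧸ I))
  rw [LinearMap.range_eq_top.mpr hsurj, finrank_top, Module.finrank_self] at this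
  exact this

lemma colength_le_one_of_top (I : Ideal (MvPolynomial (Fin 2) κ)) (h1 : (1 : MvPolynomial (Fin 2) κ) ∈ I) :
    Module.Finite κ (MvPolynomial (Fin 2) κ ⧸ I) ∧
      Module.finrank κ (MvPolynomial (Fin 2) κ ⧸ I) ≤ 1 := by
  have : I = ⊤ := (Ideal.eq_top_iff_one I).mpr h1
  have : Subsingleton (MvPolynomial (Fin 2) κ ⧸ I) := Ideal.Quotient.subsingleton_iff.mpr this
  refine ⟨inferInstance, ?_⟩
  rw [Module.finrank_zero_of_subsingleton]
  exact Nat.zero_le _

/-- The key consequence of colength `> 1` that we use. -/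
def NoTwo (I : Ideal (MvPolynomial (Fin 2) κ)) : Prop :=
  ∀ g1 h1 i1 g2 h2 i2 : κ, aff g1 h1 i1 ∈ I → aff g2 h2 i2 ∈ I →
    h1 * i2 = h2 * i1 ∧ g1 * h2 = g2 * h1 ∧ g1 * i2 = g2 * i1

lemma noTwo_of_colength (I : Ideal (MvPolynomial (Fin 2) κ))
    (hI : ¬ (Module.Finite κ (MvPolynomial (Fin 2) κ ⧸ I) ∧
      Module.finrank κ (MvPolynomial (Fin 2) κ ⧸ I) ≤ 1)) : NoTwo I := by
  intro g1 h1 i1 g2 h2 i2 m1 m2
  have hconst : ∀ b : κ, C b ∈ I → b = 0 := by
    intro b hb
    by_contra hb0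
    apply hI
    apply colength_le_one_of_top
    have : (1 : MvPolynomial (Fin 2) κ) = C b⁻¹ * C b := by
      rw [← map_mul, inv_mul_cancel₀ hb0, map_one]
    rw [this]; exact I.mul_mem_left _ hb
  have e1 : C i2 * aff g1 h1 i1 - C i1 * aff g2 h2 i2 =
      C (i2 * g1 - i1 * g2) + C (h1 * i2 - h2 * i1) * X 0 := by
    simp only [aff, map_sub, map_mul]; ring
  have e2 : C h1 * aff g2 h2 i2 - C h2 * aff g1 h1 i1 =
      C (h1 * g2 - h2 * g1) + C (h1 * i2 - h2 * i1) * X 1 := by
    simp only [aff, map_sub, map_mul]; ring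
  have m3 : C (i2 * g1 - i1 * g2) + C (h1 * i2 - h2 * i1) * X 0 ∈ I := by
    rw [← e1]; exact I.sub_mem (I.mul_mem_left _ m1) (I.mul_mem_left _ m2)
  have m4 : C (h1 * g2 - h2 * g1) + C (h1 * i2 - h2 * i1) * X 1 ∈ I := by
    rw [← e2]; exact I.sub_mem (I.mul_mem_left _ m2) (I.mul_mem_left _ m1)
  have hΔ : h1 * i2 - h2 * i1 = 0 := by
    by_contra hΔ
    apply hI
    set Δ := h1 * i2 - h2 * i1
    apply colength_le_one_of_point I (-(i2 * g1 - i1 * g2) / Δ) (-(h1 * g2 - h2 * g1) / Δ)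
    · have : (X 0 - C (-(i2 * g1 - i1 * g2) / Δ) : MvPolynomial (Fin 2) κ) =
          C Δ⁻¹ * (C (i2 * g1 - i1 * g2) + C Δ * X 0) := by
        have h : (C Δ⁻¹ * C Δ : MvPolynomial (Fin 2) κ) = 1 := by
          rw [← map_mul, inv_mul_cancel₀ hΔ, map_one]
        have h' : (C (-(i2 * g1 - i1 * g2) / Δ) : MvPolynomial (Fin 2) κ)
            = - (C Δ⁻¹ * C (i2 * g1 - i1 * g2)) := by
          rw [← map_mul, ← map_neg]; congr 1; field_simp
        rw [h', mul_add, ← mul_assoc, h]; ring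
      rw [this]; exact I.mul_mem_left _ m3
    · have : (X 1 - C (-(h1 * g2 - h2 * g1) / Δ) : MvPolynomial (Fin 2) κ) =
          C Δ⁻¹ * (C (h1 * g2 - h2 * g1) + C Δ * X 1) := by
        have h : (C Δ⁻¹ * C Δ : MvPolynomial (Fin 2) κ) = 1 := by
          rw [← map_mul, inv_mul_cancel₀ hΔ, map_one]
        have h' : (C (-(h1 * g2 - h2 * g1) / Δ) : MvPolynomial (Fin 2) κ)
            = - (C Δ⁻¹ * C (h1 * g2 - h2 * g1)) := by
          rw [← map_mul, ← map_neg]; congr 1; field_simp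
        rw [h', mul_add, ← mul_assoc, h]; ring
      rw [this]; exact I.mul_mem_left _ m4
  rw [hΔ, map_zero, zero_mul, add_zero] at m3 m4
  have h3 := hconst _ m3
  have h4 := hconst _ m4
  refine ⟨by linear_combination hΔ, by linear_combination -h4, by linear_combination h3⟩


lemma hconst_of_noTwo {I : Ideal (MvPolynomial (Fin 2) κ)} (hN : NoTwo I) (b : κ)
    (hb : (C b : MvPolynomial (Fin 2) κ) ∈ I) : b = 0 := by
  have m1 : aff b 0 0 ∈ I := by simpa [aff] using hb
  have m2 : aff 0 b 0 ∈ I := by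
    have : aff 0 b 0 = X 0 * (C b : MvPolynomial (Fin 2) κ) := by simp [aff]; ring
    rw [this]; exact I.mul_mem_left _ hb
  have := (hN _ _ _ _ _ _ m1 m2).2.1
  simpa using this

/-- Leibniz-type maps send `I ^ 2` into `I`. -/
lemma leib_mem (I : Ideal (MvPolynomial (Fin 2) κ))
    (Θ : MvPolynomial (Fin 2) κ →+ MvPolynomial (Fin 2) κ)
    (hΘ : ∀ m n, Θ (m * n) = m * Θ n + n * Θ m) {q : MvPolynomial (Fin 2) κ}
    (hq : q ∈ I ^ 2) : Θ q ∈ I := by
  rw [sq] at hq
  refine Submodule.mul_induction_on hq (fun m hm n hn => ?_) (fun x y hx hy => ?_)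
  · rw [hΘ]; exact I.add_mem (I.mul_mem_right _ hm) (I.mul_mem_right _ hn)
  · rw [map_add]; exact I.add_mem hx hy

lemma pderiv_mem (I : Ideal (MvPolynomial (Fin 2) κ)) (n : Fin 2) {q : MvPolynomial (Fin 2) κ}
    (hq : q ∈ I ^ 2) : pderiv n q ∈ I := by
  refine leib_mem I ((pderiv n : Derivation κ _ _) : MvPolynomial (Fin 2) κ →ₗ[κ] _).toAddMonoidHom ?_ hq
  intro m n'
  simp [Derivation.leibniz]

lemma C_two : (C (2 : κ) : MvPolynomial (Fin 2) κ) = 2 := map_ofNat C 2

lemma pderiv0_quad (a b c d e f : κ) : pderiv 0 (quad a b c d e f) = aff b (2 * d) e := by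
  simp [quad, aff, pderiv_X, Derivation.leibniz, C_two]
  ring

lemma pderiv1_quad (a b c d e f : κ) : pderiv 1 (quad a b c d e f) = aff c e (2 * f) := by
  simp [quad, aff, pderiv_X, Derivation.leibniz, C_two]
  ring

lemma euler_quad (a b c d e f : κ) :
    C 2 * quad a b c d e f - X 0 * aff b (2 * d) e - X 1 * aff c e (2 * f) = aff (2 * a) b c := by
  simp only [quad, aff, map_mul, C_two]; ring

lemma sq_expand (j g h i : κ) :
    C j * (aff g h i) ^ 2 =
      quad (j * g ^ 2) (2 * j * g * h) (2 * j * g * i) (j * h ^ 2) (2 * j * h * i) (j * i ^ 2) := by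
  simp only [quad, aff, map_mul, map_pow, map_ofNat]; ring


lemma quad_congr {a b c d e f a' b' c' d' e' f' : κ} (ha : a = a') (hb : b = b') (hc : c = c')
    (hd : d = d') (he : e = e') (hf : f = f') : quad a b c d e f = quad a' b' c' d' e' f' := by
  subst ha hb hc hd he hf; rfl

theorem main_char_ne_two (h2 : (2 : κ) ≠ 0) (I : Ideal (MvPolynomial (Fin 2) κ)) (hN : NoTwo I)
    (a b c d e f : κ) (hne : (a, b, c, d, e, f) ≠ (0, 0, 0, 0, 0, 0))
    (hmem : quad a b c d e f ∈ I ^ 2) :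
    ∃ j g h i : κ, quad a b c d e f = C j * (aff g h i) ^ 2 := by
  have hx : aff b (2 * d) e ∈ I := by rw [← pderiv0_quad a]; exact pderiv_mem I 0 hmem
  have hy : aff c e (2 * f) ∈ I := by rw [← pderiv1_quad a b]; exact pderiv_mem I 1 hmem
  have hq : quad a b c d e f ∈ I := Ideal.pow_le_self two_ne_zero hmem
  have hz : aff (2 * a) b c ∈ I := by
    rw [← euler_quad a b c d e f]
    exact I.sub_mem (I.sub_mem (I.mul_mem_left _ hq) (I.mul_mem_left _ hx)) (I.mul_mem_left _ hy)
  obtain ⟨zx1, zx2, zx3⟩ := hN _ _ _ _ _ _ hz hx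
  obtain ⟨zy1, zy2, zy3⟩ := hN _ _ _ _ _ _ hz hy
  obtain ⟨xy1, xy2, xy3⟩ := hN _ _ _ _ _ _ hx hy
  by_cases ha : a ≠ 0
  · refine ⟨a, 1, b / (2 * a), c / (2 * a), ?_⟩
    rw [sq_expand]
    apply quad_congr
    · ring
    · field_simp
    · field_simp
    · field_simp; linear_combination zx2
    · field_simp; linear_combination zx3
    · field_simp; linear_combination zy3
  rw [not_not] at ha
  by_cases hd : d ≠ 0
  · refine ⟨d, b / (2 * d), 1, e / (2 * d), ?_⟩
    rw [sq_expand]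
    apply quad_congr
    · field_simp; linear_combination zx2
    · field_simp
    · field_simp; linear_combination -zx1
    · ring
    · field_simp
    · field_simp; linear_combination xy1
  rw [not_not] at hd
  by_cases hf : f ≠ 0
  · refine ⟨f, c / (2 * f), e / (2 * f), 1, ?_⟩
    rw [sq_expand]
    apply quad_congr
    · field_simp; linear_combination zy3
    · field_simp; linear_combination zy1
    · field_simp
    · field_simp; linear_combination xy1
    · field_simp
    · ring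
  rw [not_not] at hf
  exfalso
  subst ha hd hf
  have hb : b = 0 := by
    have : b * b = 0 := by linear_combination -zx2
    simpa using this
  have hc : c = 0 := by
    have : c * c = 0 := by linear_combination -zy3
    simpa using this
  have he : e = 0 := by
    have : e * e = 0 := by linear_combination -xy1
    simpa using this
  subst hb hc he
  exact hne rfl

/-- Generic form of the "line" argument. -/
lemma lineD (I : Ideal (MvPolynomial (Fin 2) κ)) (ℓ0 : MvPolynomial (Fin 2) κ) (hℓ : ℓ0 ∈ I)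
    (π : MvPolynomial (Fin 2) κ →ₐ[κ] Polynomial κ) (ι : Polynomial κ →ₐ[κ] MvPolynomial (Fin 2) κ)
    (H0 : ∀ G, π (ι G) = G)
    (H1 : ∀ p, p - ι (π p) ∈ Ideal.span {ℓ0})
    (H2 : ∀ c0 c1 : κ, ι (Polynomial.C c0 + Polynomial.C c1 * Polynomial.X) ∈ I → c0 = 0 ∧ c1 = 0)
    (p : MvPolynomial (Fin 2) κ) (hp : p ∈ I ^ 2) (hdeg : (π p).natDegree < 4) : π p = 0 := by
  have hsurj : Function.Surjective π := fun G => ⟨ι G, H0 G⟩
  have hle : Ideal.span {ℓ0} ≤ I := (Ideal.span_singleton_le_iff_mem I).mpr hℓ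
  obtain ⟨F, hF⟩ := (IsPrincipalIdealRing.principal (Ideal.map π I)).principal
  change Ideal.map π I = Ideal.span {F} at hF
  have hFmem : F ∈ Ideal.map π I := by rw [hF]; exact Ideal.mem_span_singleton_self F
  obtain ⟨p0, hp0, hp0F⟩ := (Ideal.mem_map_iff_of_surjective π hsurj).mp hFmem
  have hFdeg : F ≠ 0 → 2 ≤ F.natDegree := by
    intro hF0
    by_contra hlt
    rw [not_le] at hlt
    have hF1 : F.natDegree ≤ 1 := by omega
    have hFeq : F = Polynomial.C (F.coeff 0) + Polynomial.C (F.coeff 1) * Polynomial.X := by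
      conv_lhs => rw [Polynomial.eq_X_add_C_of_natDegree_le_one hF1]
      ring
    have hιF : ι F ∈ I := by
      have h1 := H1 p0
      rw [hp0F] at h1
      have := I.sub_mem hp0 (hle h1)
      simpa using this
    rw [hFeq] at hιF
    obtain ⟨h0, h1⟩ := H2 _ _ hιF
    apply hF0
    rw [hFeq, h0, h1]; simp
  have hπp : π p ∈ Ideal.span {F ^ 2} := by
    have : π p ∈ Ideal.map π (I ^ 2) := Ideal.mem_map_of_mem _ hp
    rwa [Ideal.map_pow, hF, Ideal.span_singleton_pow] at this
  rw [Ideal.mem_span_singleton] at hπp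
  by_contra hne
  have hF0 : F ≠ 0 := by
    rintro rfl
    apply hne
    simpa using hπp
  have h2 := hFdeg hF0
  have := Polynomial.natDegree_le_of_dvd hπp hne
  rw [Polynomial.natDegree_pow] at this
  omega

/-- substitution `x ↦ -g - i y`. -/
noncomputable def piD (g i : κ) : MvPolynomial (Fin 2) κ →ₐ[κ] Polynomial κ :=
  aeval ![- Polynomial.C g - Polynomial.C i * Polynomial.X, Polynomial.X]

noncomputable def iotaD : Polynomial κ →ₐ[κ] MvPolynomial (Fin 2) κ :=
  Polynomial.aeval (X 1 : MvPolynomial (Fin 2) κ)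

lemma piD_X0 (g i : κ) : piD g i (X 0) = - Polynomial.C g - Polynomial.C i * Polynomial.X := by
  simp [piD]

lemma piD_X1 (g i : κ) : piD g i (X 1) = Polynomial.X := by
  simp [piD]

lemma piD_C (g i c : κ) : piD g i (C c) = Polynomial.C c := by
  simp [piD]

lemma iotaD_X : iotaD (Polynomial.X : Polynomial κ) = X 1 := by simp [iotaD]

lemma iotaD_C (c : κ) : iotaD (Polynomial.C c : Polynomial κ) = C c := by
  simp [iotaD]

lemma poly_eq_zero {A B : κ} (h : Polynomial.C A + Polynomial.C B * Polynomial.X ^ 2 = 0) :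
    A = 0 ∧ B = 0 := by
  have c0 := congrArg (fun P => Polynomial.coeff P 0) h
  have c2 := congrArg (fun P => Polynomial.coeff P 2) h
  simp [Polynomial.coeff_X_pow] at c0 c2
  exact ⟨c0, c2⟩

theorem lineD1 (h2 : (2 : κ) = 0) (I : Ideal (MvPolynomial (Fin 2) κ)) (hN : NoTwo I)
    (g i : κ) (hℓ : aff g 1 i ∈ I) (a d f : κ) (hq : quad a 0 0 d 0 f ∈ I ^ 2) :
    quad a 0 0 d 0 f = C d * (aff g 1 i) ^ 2 := by
  have hC2 : (2 : MvPolynomial (Fin 2) κ) = 0 := by rw [← C_two, h2, map_zero]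
  have key := lineD I (aff g 1 i) hℓ (piD g i) iotaD ?_ ?_ ?_
    (quad a 0 0 d 0 f - C d * (aff g 1 i) ^ 2) ?_ ?_
  · -- conclude
    have hp : piD g i (quad a 0 0 d 0 f - C d * (aff g 1 i) ^ 2) =
        Polynomial.C (a - d * g ^ 2) + Polynomial.C (f - d * i ^ 2) * Polynomial.X ^ 2 := by
      have h2' : (2 : Polynomial κ) = 0 := by rw [← Polynomial.C_ofNat, h2, map_zero]
      simp only [quad, aff, map_sub, map_add, map_mul, map_pow, piD_X0, piD_X1, piD_C, map_zero,
        map_one]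
      linear_combination (Polynomial.C d * Polynomial.C g ^ 2 + Polynomial.C d * Polynomial.C g * Polynomial.C i * Polynomial.X + Polynomial.C d * Polynomial.C i ^ 2 * Polynomial.X ^ 2) * h2'
    rw [hp] at key
    obtain ⟨c0, c2⟩ := poly_eq_zero key
    rw [sq_expand]
    apply quad_congr
    · linear_combination c0
    · linear_combination (-d * g) * h2
    · linear_combination (-d * g * i) * h2
    · ring
    · linear_combination (-d * i) * h2
    · linear_combination c2
  · -- H0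
    intro G
    have : ((piD g i).comp iotaD : Polynomial κ →ₐ[κ] Polynomial κ) = AlgHom.id κ _ := by
      apply Polynomial.algHom_ext
      simp [iotaD_X, piD_X1]
    exact DFunLike.congr_fun this G
  · -- H1
    intro p
    rw [← Ideal.Quotient.eq]
    have : ((Ideal.Quotient.mkₐ κ (Ideal.span {aff g 1 i})).comp (iotaD.comp (piD g i))) =
        Ideal.Quotient.mkₐ κ (Ideal.span {aff g 1 i}) := by
      apply MvPolynomial.algHom_ext
      intro n
      fin_cases n
      · simp only [Fin.zero_eta, AlgHom.coe_comp, Function.comp_apply, piD_X0, map_sub, map_neg,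
          map_mul, iotaD_C, iotaD_X, Ideal.Quotient.mkₐ_eq_mk]
        rw [eq_comm, ← sub_eq_zero, ← map_neg, ← map_mul, ← map_sub, ← map_sub,
          Ideal.Quotient.eq_zero_iff_mem]
        have : X 0 - (-C g - C i * X 1) = aff g 1 i := by simp [aff]; ring
        rw [this]; exact Ideal.mem_span_singleton_self _
      · simp [piD_X1, iotaD_X]
    exact (DFunLike.congr_fun this p).symm
  · -- H2
    intro c0 c1 hmem
    have : iotaD (Polynomial.C c0 + Polynomial.C c1 * Polynomial.X) = aff c0 0 c1 := by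
      simp [iotaD_C, iotaD_X, aff]
    rw [this] at hmem
    obtain ⟨e1, e2, -⟩ := hN _ _ _ _ _ _ hmem hℓ
    constructor
    · simpa using e2
    · simpa using e1.symm
  · -- membership
    refine Ideal.sub_mem _ hq (Ideal.mul_mem_left _ _ (Ideal.pow_mem_pow hℓ 2))
  · -- degree
    have hp : piD g i (quad a 0 0 d 0 f - C d * (aff g 1 i) ^ 2) =
        Polynomial.C (a - d * g ^ 2) + Polynomial.C (f - d * i ^ 2) * Polynomial.X ^ 2 := by
      have h2' : (2 : Polynomial κ) = 0 := by rw [← Polynomial.C_ofNat, h2, map_zero]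
      simp only [quad, aff, map_sub, map_add, map_mul, map_pow, piD_X0, piD_X1, piD_C, map_zero,
        map_one]
      linear_combination (Polynomial.C d * Polynomial.C g ^ 2 + Polynomial.C d * Polynomial.C g * Polynomial.C i * Polynomial.X + Polynomial.C d * Polynomial.C i ^ 2 * Polynomial.X ^ 2) * h2'
    rw [hp]
    have : (Polynomial.C (a - d * g ^ 2) + Polynomial.C (f - d * i ^ 2) * Polynomial.X ^ 2).natDegree ≤ 2 := by
      compute_degree
    omega

/-- swapping the two variables. -/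
noncomputable def sw : MvPolynomial (Fin 2) κ ≃ₐ[κ] MvPolynomial (Fin 2) κ :=
  renameEquiv κ (Equiv.swap (0 : Fin 2) 1)

@[simp] lemma sw_X0 : sw (X 0 : MvPolynomial (Fin 2) κ) = X 1 := by simp [sw]
@[simp] lemma sw_X1 : sw (X 1 : MvPolynomial (Fin 2) κ) = X 0 := by simp [sw]
@[simp] lemma sw_C (c : κ) : sw (C c : MvPolynomial (Fin 2) κ) = C c := by simp [sw]

lemma sw_sw (p : MvPolynomial (Fin 2) κ) : sw (sw p) = p := by
  have : (sw : MvPolynomial (Fin 2) κ ≃ₐ[κ] _).toAlgHom.comp sw.toAlgHom = AlgHom.id κ _ := by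
    apply MvPolynomial.algHom_ext
    intro n
    fin_cases n <;> simp
  exact DFunLike.congr_fun this p

lemma sw_aff (g h i : κ) : sw (aff g h i) = aff g i h := by
  simp [aff]; ring

lemma sw_quad (a b c d e f : κ) : sw (quad a b c d e f) = quad a c b f e d := by
  simp [quad]; ring

/-- the swapped ideal. -/
noncomputable def swI (I : Ideal (MvPolynomial (Fin 2) κ)) : Ideal (MvPolynomial (Fin 2) κ) :=
  Ideal.map (sw : MvPolynomial (Fin 2) κ ≃ₐ[κ] _) I

lemma mem_swI {I : Ideal (MvPolynomial (Fin 2) κ)} {p : MvPolynomial (Fin 2) κ} :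
    p ∈ swI I ↔ sw p ∈ I := by
  unfold swI
  rw [Ideal.mem_map_iff_of_surjective _ (sw : MvPolynomial (Fin 2) κ ≃ₐ[κ] _).surjective]
  constructor
  · rintro ⟨y, hy, rfl⟩
    change sw (sw y) ∈ I
    rwa [sw_sw]
  · intro h
    exact ⟨sw p, h, sw_sw p⟩

lemma mem_swI_sq {I : Ideal (MvPolynomial (Fin 2) κ)} {p : MvPolynomial (Fin 2) κ}
    (hp : p ∈ I ^ 2) : sw p ∈ (swI I) ^ 2 := by
  unfold swI
  rw [← Ideal.map_pow]
  exact Ideal.mem_map_of_mem _ hp

lemma noTwo_swI {I : Ideal (MvPolynomial (Fin 2) κ)} (hN : NoTwo I) : NoTwo (swI I) := by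
  intro g1 h1 i1 g2 h2 i2 m1 m2
  rw [mem_swI, sw_aff] at m1 m2
  obtain ⟨e1, e2, e3⟩ := hN _ _ _ _ _ _ m1 m2
  exact ⟨by linear_combination -e1, e3, e2⟩

/-- the other orientation of `lineD1`. -/
theorem lineD2 (h2 : (2 : κ) = 0) (I : Ideal (MvPolynomial (Fin 2) κ)) (hN : NoTwo I)
    (g h : κ) (hℓ : aff g h 1 ∈ I) (a d f : κ) (hq : quad a 0 0 d 0 f ∈ I ^ 2) :
    quad a 0 0 d 0 f = C f * (aff g h 1) ^ 2 := by
  have h1 : aff g 1 h ∈ swI I := by rw [mem_swI, sw_aff]; exact hℓ
  have h3 : quad a 0 0 f 0 d ∈ (swI I) ^ 2 := by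
    have := mem_swI_sq hq
    rwa [sw_quad] at this
  have := lineD1 h2 (swI I) (noTwo_swI hN) g h h1 a f d h3
  have := congrArg sw this
  simpa [sw_quad, sw_aff] using this

/-- `I` contains no nonzero affine-linear form. -/
def NoAff (I : Ideal (MvPolynomial (Fin 2) κ)) : Prop :=
  ∀ g h i : κ, aff g h i ∈ I → g = 0 ∧ h = 0 ∧ i = 0

/-- normal forms modulo `(x² - α, y² - β)`. -/
noncomputable def nf (c0 c1 c2 c3 : κ) : MvPolynomial (Fin 2) κ :=
  C c0 + C c1 * X 0 + C c2 * X 1 + C c3 * (X 0 * X 1)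

lemma normal_form (α β : κ) (p : MvPolynomial (Fin 2) κ) : ∃ c0 c1 c2 c3 : κ,
    p - nf c0 c1 c2 c3 ∈
      Ideal.span {(X 0 ^ 2 - C α : MvPolynomial (Fin 2) κ), X 1 ^ 2 - C β} := by
  set J := Ideal.span {(X 0 ^ 2 - C α : MvPolynomial (Fin 2) κ), X 1 ^ 2 - C β} with hJ
  have hu : (X 0 ^ 2 - C α : MvPolynomial (Fin 2) κ) ∈ J :=
    Ideal.subset_span (by simp)
  have hv : (X 1 ^ 2 - C β : MvPolynomial (Fin 2) κ) ∈ J :=
    Ideal.subset_span (by simp)
  induction p using MvPolynomial.induction_on with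
  | C a => exact ⟨a, 0, 0, 0, by simp [nf]⟩
  | add p q hp hq =>
    obtain ⟨c0, c1, c2, c3, hp⟩ := hp
    obtain ⟨e0, e1, e2, e3, hq⟩ := hq
    refine ⟨c0 + e0, c1 + e1, c2 + e2, c3 + e3, ?_⟩
    have : p + q - nf (c0 + e0) (c1 + e1) (c2 + e2) (c3 + e3) =
        (p - nf c0 c1 c2 c3) + (q - nf e0 e1 e2 e3) := by
      simp only [nf, map_add]; ring
    rw [this]; exact J.add_mem hp hq
  | mul_X p n hp =>
    obtain ⟨c0, c1, c2, c3, hp⟩ := hp
    fin_cases n
    · refine ⟨c1 * α, c0, c3 * α, c2, ?_⟩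
      have : p * X 0 - nf (c1 * α) c0 (c3 * α) c2 =
          (p - nf c0 c1 c2 c3) * X 0 + (C c1 + C c3 * X 1) * (X 0 ^ 2 - C α) := by
        simp only [nf, map_mul]; ring
      simp only [Fin.zero_eta]
      rw [this]; exact J.add_mem (J.mul_mem_right _ hp) (J.mul_mem_left _ hu)
    · refine ⟨c2 * β, c3 * β, c0, c1, ?_⟩
      have : p * X 1 - nf (c2 * β) (c3 * β) c0 c1 =
          (p - nf c0 c1 c2 c3) * X 1 + (C c2 + C c3 * X 0) * (X 1 ^ 2 - C β) := by
        simp only [nf, map_mul]; ring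
      simp only [Fin.mk_one]
      rw [this]; exact J.add_mem (J.mul_mem_right _ hp) (J.mul_mem_left _ hv)

lemma W_rel (I : Ideal (MvPolynomial (Fin 2) κ)) (hV : NoAff I) (α β : κ)
    (hu : (X 0 ^ 2 - C α : MvPolynomial (Fin 2) κ) ∈ I)
    (hv : (X 1 ^ 2 - C β : MvPolynomial (Fin 2) κ) ∈ I) (c0 c1 c2 c3 : κ)
    (hr : nf c0 c1 c2 c3 ∈ I) :
    c3 ^ 2 * α = c2 ^ 2 ∧ c3 ^ 2 * β = c1 ^ 2 ∧ c0 * c3 = c1 * c2 ∧
      (c3 = 0 → c0 = 0 ∧ c1 = 0 ∧ c2 = 0) := by
  have hx : aff (c3 * c1 * α - c2 * c0) (c3 * c0 - c2 * c1) (c3 ^ 2 * α - c2 ^ 2) ∈ I := by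
    have : aff (c3 * c1 * α - c2 * c0) (c3 * c0 - c2 * c1) (c3 ^ 2 * α - c2 ^ 2) =
        (C c3 * X 0 - C c2) * nf c0 c1 c2 c3 - C c3 * (C c1 + C c3 * X 1) * (X 0 ^ 2 - C α) := by
      simp only [nf, aff, map_mul, map_sub, map_pow]; ring
    rw [this]
    exact I.sub_mem (I.mul_mem_left _ hr) (I.mul_mem_left _ hu)
  have hy : aff (c3 * c2 * β - c1 * c0) (c3 ^ 2 * β - c1 ^ 2) (c3 * c0 - c1 * c2) ∈ I := by
    have : aff (c3 * c2 * β - c1 * c0) (c3 ^ 2 * β - c1 ^ 2) (c3 * c0 - c1 * c2) =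
        (C c3 * X 1 - C c1) * nf c0 c1 c2 c3 - C c3 * (C c2 + C c3 * X 0) * (X 1 ^ 2 - C β) := by
      simp only [nf, aff, map_mul, map_sub, map_pow]; ring
    rw [this]
    exact I.sub_mem (I.mul_mem_left _ hr) (I.mul_mem_left _ hv)
  obtain ⟨x1, x2, x3⟩ := hV _ _ _ hx
  obtain ⟨y1, y2, y3⟩ := hV _ _ _ hy
  refine ⟨by linear_combination x3, by linear_combination y2, by linear_combination x2, ?_⟩
  intro h3
  subst h3
  have : nf c0 c1 c2 0 = aff c0 c1 c2 := by simp [nf, aff]
  rw [this] at hr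
  exact hV _ _ _ hr

/-- evaluation `x ↦ s`, `y ↦ Y` into `L[Y]`. -/
noncomputable def psiE (L : Type*) [Field L] [Algebra κ L] (s : L) :
    MvPolynomial (Fin 2) κ →ₐ[κ] Polynomial L :=
  aeval ![Polynomial.C s, Polynomial.X]

section
variable (L : Type*) [Field L] [Algebra κ L] (s : L)

lemma psiE_X0 : psiE (κ := κ) L s (X 0) = Polynomial.C s := by simp [psiE]
lemma psiE_X1 : psiE (κ := κ) L s (X 1) = Polynomial.X := by simp [psiE]
lemma psiE_C (c : κ) : psiE (κ := κ) L s (C c) = Polynomial.C (algebraMap κ L c) := by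
  simp [psiE]

end

theorem endgame_f_aux (h2 : (2 : κ) = 0) (I : Ideal (MvPolynomial (Fin 2) κ)) (hV : NoAff I) (α β : κ)
    (hu : (X 0 ^ 2 - C α : MvPolynomial (Fin 2) κ) ∈ I)
    (hv : (X 1 ^ 2 - C β : MvPolynomial (Fin 2) κ) ∈ I) (a d f : κ)
    (hq : quad a 0 0 d 0 f ∈ I ^ 2) (L : Type*) [Field L] [Algebra κ L] (s : L)
    (hs : s ^ 2 = algebraMap κ L α) : f = 0 := by
  have h2L : (2 : L) = 0 := by
    have := congrArg (algebraMap κ L) h2
    rwa [map_ofNat, map_zero] at this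
  set ψ := psiE (κ := κ) L s
  set T : Polynomial L := Polynomial.X ^ 2 - Polynomial.C (algebraMap κ L β) with hT
  have hJ : Ideal.span {(X 0 ^ 2 - C α : MvPolynomial (Fin 2) κ), X 1 ^ 2 - C β} ≤
      Ideal.comap ψ (Ideal.span {T}) := by
    rw [Ideal.span_le]
    intro z hz
    rcases hz with rfl | rfl
    · have : ψ (X 0 ^ 2 - C α) = 0 := by
        simp only [ψ, map_sub, map_pow, psiE_X0, psiE_C]
        rw [← map_pow, hs, sub_self]
      rw [SetLike.mem_coe, Ideal.mem_comap, this]; exact Ideal.zero_mem _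
    · have : ψ (X 1 ^ 2 - C β) = T := by
        simp only [ψ, map_sub, map_pow, psiE_X1, psiE_C, hT]
      rw [SetLike.mem_coe, Ideal.mem_comap, this]; exact Ideal.mem_span_singleton_self _
  have hJI : Ideal.span {(X 0 ^ 2 - C α : MvPolynomial (Fin 2) κ), X 1 ^ 2 - C β} ≤ I := by
    rw [Ideal.span_le]
    intro z hz
    rcases hz with rfl | rfl
    · exact hu
    · exact hv
  have hI : ∀ p ∈ I, ψ p ∈ Ideal.span {T} := by
    intro p hp
    obtain ⟨c0, c1, c2, c3, hnf⟩ := normal_form α β p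
    have hr : nf c0 c1 c2 c3 ∈ I := by
      have := I.sub_mem hp (hJI hnf)
      simpa using this
    obtain ⟨r1, r2, r3, r4⟩ := W_rel I hV α β hu hv c0 c1 c2 c3 hr
    have hψr : ψ (nf c0 c1 c2 c3) = 0 := by
      have e : ψ (nf c0 c1 c2 c3) =
          Polynomial.C (algebraMap κ L c0 + algebraMap κ L c1 * s) +
            Polynomial.C (algebraMap κ L c2 + algebraMap κ L c3 * s) * Polynomial.X := by
        simp only [ψ, nf, map_add, map_mul, psiE_X0, psiE_X1, psiE_C]
        ring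
      rw [e]
      have k2 : algebraMap κ L c2 + algebraMap κ L c3 * s = 0 := by
        have r1' := congrArg (algebraMap κ L) r1
        simp only [map_mul, map_pow] at r1'
        have : (algebraMap κ L c2 + algebraMap κ L c3 * s) ^ 2 = 0 := by
          linear_combination r1' + (algebraMap κ L c3) ^ 2 * hs +
            (algebraMap κ L c2 * algebraMap κ L c3 * s + (algebraMap κ L c2) ^ 2) * h2L
        exact pow_eq_zero_iff (two_ne_zero) |>.mp this
      have k1 : algebraMap κ L c0 + algebraMap κ L c1 * s = 0 := by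
        by_cases h3 : c3 = 0
        · obtain ⟨z0, z1, z2⟩ := r4 h3
          simp [z0, z1]
        · have h3' : algebraMap κ L c3 ≠ 0 := by
            simpa using h3
          have r3' := congrArg (algebraMap κ L) r3
          simp only [map_mul] at r3'
          have : algebraMap κ L c3 * (algebraMap κ L c0 + algebraMap κ L c1 * s) = 0 := by
            linear_combination r3' + algebraMap κ L c1 * k2
          rcases mul_eq_zero.mp this with h | h
          · exact absurd h h3'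
          · exact h
      rw [k1, k2]; simp
    have : ψ p = ψ (p - nf c0 c1 c2 c3) := by rw [map_sub, hψr, sub_zero]
    rw [this]
    exact hJ hnf
  have hI2 : ψ (quad a 0 0 d 0 f) ∈ Ideal.span {T ^ 2} := by
    have h1 : Ideal.map ψ I ≤ Ideal.span {T} := by
      rw [Ideal.map_le_iff_le_comap]
      intro p hp
      exact hI p hp
    have h3 : ψ (quad a 0 0 d 0 f) ∈ Ideal.map ψ (I ^ 2) := Ideal.mem_map_of_mem _ hq
    rw [Ideal.map_pow] at h3
    have := Ideal.pow_right_mono h1 2 h3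
    rwa [Ideal.span_singleton_pow] at this
  have e : ψ (quad a 0 0 d 0 f) =
      Polynomial.C (algebraMap κ L a + algebraMap κ L d * algebraMap κ L α) +
        Polynomial.C (algebraMap κ L f) * Polynomial.X ^ 2 := by
    simp only [ψ, quad, map_add, map_mul, map_pow, psiE_X0, psiE_X1, psiE_C, map_zero, zero_mul,
      add_zero]
    rw [← hs]; simp only [map_pow]
  rw [e, Ideal.mem_span_singleton] at hI2
  have hz : Polynomial.C (algebraMap κ L a + algebraMap κ L d * algebraMap κ L α) +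
        Polynomial.C (algebraMap κ L f) * Polynomial.X ^ 2 = 0 := by
    by_contra hne
    have hle := Polynomial.natDegree_le_of_dvd hI2 hne
    have hT2 : T.natDegree = 2 := by
      rw [hT]; compute_degree!
    have hT0 : T ≠ 0 := by
      intro h0; rw [h0] at hT2; simp at hT2
    rw [Polynomial.natDegree_pow, hT2] at hle
    have : (Polynomial.C (algebraMap κ L a + algebraMap κ L d * algebraMap κ L α) +
        Polynomial.C (algebraMap κ L f) * Polynomial.X ^ 2).natDegree ≤ 2 := by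
      compute_degree
    omega
  obtain ⟨-, hf⟩ := poly_eq_zero hz
  simpa using hf

theorem endgame_f (h2 : (2 : κ) = 0) (I : Ideal (MvPolynomial (Fin 2) κ)) (hV : NoAff I) (α β : κ)
    (hu : (X 0 ^ 2 - C α : MvPolynomial (Fin 2) κ) ∈ I)
    (hv : (X 1 ^ 2 - C β : MvPolynomial (Fin 2) κ) ∈ I) (a d f : κ)
    (hq : quad a 0 0 d 0 f ∈ I ^ 2) : f = 0 := by
  obtain ⟨s, hs⟩ := IsAlgClosed.exists_pow_nat_eq (algebraMap κ (AlgebraicClosure κ) α)
    (n := 2) (by norm_num)
  exact endgame_f_aux h2 I hV α β hu hv a d f hq (AlgebraicClosure κ) s hs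

/-- subfield `K + K z` when `z ^ 2 ∈ K` and all squares are in `K` (char 2). -/
def adjSq (_h2 : (2 : κ) = 0) (K : Subfield κ) (hK : ∀ z : κ, z ^ 2 ∈ K) (z : κ) : Subfield κ where
  carrier := {w | ∃ u ∈ K, ∃ v ∈ K, w = u + v * z}
  mul_mem' := by
    rintro _ _ ⟨u, hu, v, hv, rfl⟩ ⟨u', hu', v', hv', rfl⟩
    refine ⟨u * u' + v * v' * z ^ 2, K.add_mem (K.mul_mem hu hu') (K.mul_mem (K.mul_mem hv hv') (hK z)),
      u * v' + u' * v, K.add_mem (K.mul_mem hu hv') (K.mul_mem hu' hv), by ring⟩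
  one_mem' := ⟨1, K.one_mem, 0, K.zero_mem, by ring⟩
  add_mem' := by
    rintro _ _ ⟨u, hu, v, hv, rfl⟩ ⟨u', hu', v', hv', rfl⟩
    exact ⟨u + u', K.add_mem hu hu', v + v', K.add_mem hv hv', by ring⟩
  zero_mem' := ⟨0, K.zero_mem, 0, K.zero_mem, by ring⟩
  neg_mem' := by
    rintro _ ⟨u, hu, v, hv, rfl⟩
    exact ⟨-u, K.neg_mem hu, -v, K.neg_mem hv, by ring⟩
  inv_mem' := by
    rintro _ ⟨u, hu, v, hv, rfl⟩
    by_cases hw : u + v * z = 0
    · rw [hw, inv_zero]; exact ⟨0, K.zero_mem, 0, K.zero_mem, by ring⟩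
    · have hsq : (u + v * z) ^ 2 ∈ K := hK _
      refine ⟨u * ((u + v * z) ^ 2)⁻¹, K.mul_mem hu (K.inv_mem hsq),
        v * ((u + v * z) ^ 2)⁻¹, K.mul_mem hv (K.inv_mem hsq), ?_⟩
      field_simp

lemma mem_adjSq {h2 : (2 : κ) = 0} {K : Subfield κ} {hK : ∀ z : κ, z ^ 2 ∈ K} {z w : κ} :
    w ∈ adjSq h2 K hK z ↔ ∃ u ∈ K, ∃ v ∈ K, w = u + v * z := Iff.rfl

/-- In characteristic 2 a non-square is detected by a derivation. -/
theorem exists_deriv_ne_zero (h2 : (2 : κ) = 0) (c : κ) (hc : ¬ IsSquare c) :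
    ∃ θ : κ →+ κ, (∀ u v, θ (u * v) = u * θ v + v * θ u) ∧ θ c ≠ 0 := by
  -- the subfield of squares
  let K2 : Subfield κ :=
    { carrier := {w | ∃ z, w = z ^ 2}
      mul_mem' := by rintro _ _ ⟨z, rfl⟩ ⟨z', rfl⟩; exact ⟨z * z', by ring⟩
      one_mem' := ⟨1, by ring⟩
      add_mem' := by
        rintro _ _ ⟨z, rfl⟩ ⟨z', rfl⟩
        exact ⟨z + z', by linear_combination (-z * z') * h2⟩
      zero_mem' := ⟨0, by ring⟩
      neg_mem' := by rintro _ ⟨z, rfl⟩; exact ⟨z, by linear_combination (-z ^ 2) * h2⟩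
      inv_mem' := by rintro _ ⟨z, rfl⟩; exact ⟨z⁻¹, by rw [inv_pow]⟩ }
  let S : Set (Subfield κ) := {K | (∀ z : κ, z ^ 2 ∈ K) ∧ c ∉ K}
  have hK2 : K2 ∈ S := by
    refine ⟨fun z => ⟨z, rfl⟩, ?_⟩
    rintro ⟨z, hz⟩
    exact hc ⟨z, by rw [hz]; ring⟩
  obtain ⟨K0, -, hmax⟩ := zorn_le_nonempty₀ S (by
    intro ch hch hchain y hy
    refine ⟨sSup ch, ⟨fun z => ?_, ?_⟩, fun z hz => le_sSup hz⟩
    · exact (le_sSup hy : y ≤ sSup ch) ((hch hy).1 z)
    · intro hmem
      rw [Subfield.mem_sSup_of_directedOn ⟨y, hy⟩ hchain.directedOn] at hmem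
      obtain ⟨K, hK, hcK⟩ := hmem
      exact (hch hK).2 hcK) K2 hK2
  obtain ⟨hK0sq, hcK0⟩ := hmax.prop
  -- every element decomposes
  have key : ∀ z : κ, ∃ u ∈ K0, ∃ v ∈ K0, z = u + v * c := by
    intro z
    by_cases hz : z ∈ K0
    · exact ⟨z, hz, 0, K0.zero_mem, by ring⟩
    · have hle : K0 ≤ adjSq h2 K0 hK0sq z := fun u hu => ⟨u, hu, 0, K0.zero_mem, by ring⟩
      have hcmem : c ∈ adjSq h2 K0 hK0sq z := by
        by_contra hcn
        have hS : adjSq h2 K0 hK0sq z ∈ S := ⟨fun w => hle (hK0sq w), hcn⟩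
        have := hmax.le_of_ge hS hle
        exact hz (this ⟨0, K0.zero_mem, 1, K0.one_mem, by ring⟩)
      obtain ⟨u, hu, v, hv, hcuv⟩ := hcmem
      have hv0 : v ≠ 0 := by
        rintro rfl
        apply hcK0
        rw [hcuv]; simpa using hu
      refine ⟨-u * v⁻¹, K0.mul_mem (K0.neg_mem hu) (K0.inv_mem hv), v⁻¹, K0.inv_mem hv, ?_⟩
      rw [hcuv]; field_simp; ring
  have uniq : ∀ u ∈ K0, ∀ v ∈ K0, ∀ u' ∈ K0, ∀ v' ∈ K0, u + v * c = u' + v' * c →
      u = u' ∧ v = v' := by
    intro u hu v hv u' hu' v' hv' h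
    have hvv : v = v' := by
      by_contra hne
      apply hcK0
      have hne' : v - v' ≠ 0 := sub_ne_zero.mpr hne
      have : c = (u' - u) * (v - v')⁻¹ := by
        field_simp
        linear_combination h
      rw [this]
      exact K0.mul_mem (K0.sub_mem hu' hu) (K0.inv_mem (K0.sub_mem hv hv'))
    subst hvv
    exact ⟨by linear_combination h, rfl⟩
  choose U hU V hV hUV using key
  have hc2 : c ^ 2 ∈ K0 := hK0sq c
  refine ⟨⟨⟨V, ?_⟩, ?_⟩, ?_, ?_⟩
  · -- V 0 = 0
    have := uniq (U 0) (hU 0) (V 0) (hV 0) 0 K0.zero_mem 0 K0.zero_mem (by rw [← hUV 0]; ring)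
    exact this.2
  · intro z z'
    have := uniq (U (z + z')) (hU _) (V (z + z')) (hV _) (U z + U z') (K0.add_mem (hU z) (hU z'))
      (V z + V z') (K0.add_mem (hV z) (hV z'))
      (by rw [← hUV (z + z')]; conv_lhs => rw [hUV z, hUV z']
          ring)
    exact this.2
  · intro z z'
    have := uniq (U (z * z')) (hU _) (V (z * z')) (hV _) (U z * U z' + V z * V z' * c ^ 2)
      (K0.add_mem (K0.mul_mem (hU z) (hU z')) (K0.mul_mem (K0.mul_mem (hV z) (hV z')) hc2))
      (U z * V z' + U z' * V z)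
      (K0.add_mem (K0.mul_mem (hU z) (hV z')) (K0.mul_mem (hU z') (hV z)))
      (by rw [← hUV (z * z')]; conv_lhs => rw [hUV z, hUV z']
          ring)
    change V (z * z') = z * V z' + z' * V z
    rw [this.2]
    linear_combination (- V z') * hUV z + (- V z) * hUV z' + (- V z * V z' * c) * h2
  · have := uniq (U c) (hU c) (V c) (hV c) 0 K0.zero_mem 1 K0.one_mem (by rw [← hUV c]; ring)
    change V c ≠ 0
    rw [this.2]; exact one_ne_zero

/-- coefficientwise application of an additive map. -/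
noncomputable def Th (θ : κ →+ κ) : MvPolynomial (Fin 2) κ →+ MvPolynomial (Fin 2) κ where
  toFun := AddMonoidAlgebra.map θ
  map_zero' := AddMonoidAlgebra.map_zero θ
  map_add' := AddMonoidAlgebra.map_add θ

lemma coeff_Th (θ : κ →+ κ) (p : MvPolynomial (Fin 2) κ) (m : Fin 2 →₀ ℕ) :
    coeff m (Th θ p) = θ (coeff m p) := rfl

lemma Th_leibniz (θ : κ →+ κ) (hθ : ∀ u v, θ (u * v) = u * θ v + v * θ u)
    (g h : MvPolynomial (Fin 2) κ) : Th θ (g * h) = g * Th θ h + h * Th θ g := by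
  rw [mul_comm h (Th θ g)]
  ext m
  simp only [coeff_Th, coeff_add, coeff_mul, map_sum, hθ, Finset.sum_add_distrib]
  congr 1
  apply Finset.sum_congr rfl
  intro x _
  ring

lemma Th_monomial (θ : κ →+ κ) (s : Fin 2 →₀ ℕ) (c : κ) :
    Th θ (monomial s c) = monomial s (θ c) := by
  ext m
  simp only [coeff_Th, coeff_monomial]
  split_ifs <;> simp

lemma Th_quad (θ : κ →+ κ) (a d f : κ) :
    Th θ (quad a 0 0 d 0 f) = quad (θ a) 0 0 (θ d) 0 (θ f) := by
  have e : ∀ a d f : κ, quad a 0 0 d 0 f =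
      monomial 0 a + monomial (Finsupp.single 0 2) d + monomial (Finsupp.single 1 2) f := by
    intro a d f
    simp only [quad, map_zero, zero_mul, add_zero, C_mul_X_pow_eq_monomial]
    rfl
  rw [e, e, map_add, map_add, Th_monomial, Th_monomial, Th_monomial]

lemma Th_mem (θ : κ →+ κ) (hθ : ∀ u v, θ (u * v) = u * θ v + v * θ u)
    (I : Ideal (MvPolynomial (Fin 2) κ)) {q : MvPolynomial (Fin 2) κ} (hq : q ∈ I ^ 2) :
    Th θ q ∈ I :=
  leib_mem I (Th θ) (Th_leibniz θ hθ) hq

lemma noAff_swI {I : Ideal (MvPolynomial (Fin 2) κ)} (hV : NoAff I) : NoAff (swI I) := by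
  intro g h i m
  rw [mem_swI, sw_aff] at m
  obtain ⟨e1, e2, e3⟩ := hV _ _ _ m
  exact ⟨e1, e3, e2⟩

theorem endgame (h2 : (2 : κ) = 0) (I : Ideal (MvPolynomial (Fin 2) κ)) (hV : NoAff I) (α β : κ)
    (hu : (X 0 ^ 2 - C α : MvPolynomial (Fin 2) κ) ∈ I)
    (hv : (X 1 ^ 2 - C β : MvPolynomial (Fin 2) κ) ∈ I) (a d f : κ)
    (hq : quad a 0 0 d 0 f ∈ I ^ 2) : a = 0 ∧ d = 0 ∧ f = 0 := by
  have hf : f = 0 := endgame_f h2 I hV α β hu hv a d f hq
  have hd : d = 0 := by
    refine endgame_f h2 (swI I) (noAff_swI hV) β α ?_ ?_ a f d ?_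
    · rw [mem_swI]; simpa using hv
    · rw [mem_swI]; simpa using hu
    · have := mem_swI_sq hq
      rwa [sw_quad] at this
  subst hf hd
  refine ⟨?_, rfl, rfl⟩
  have h1 : quad a 0 0 0 0 0 ∈ I := Ideal.pow_le_self two_ne_zero hq
  have h3 : quad a 0 0 0 0 0 = aff a 0 0 := by simp [quad, aff]
  rw [h3] at h1
  exact (hV _ _ _ h1).1

lemma quad_comb (s t a d f a1 d1 f1 : κ) :
    C s * quad a 0 0 d 0 f - C t * quad a1 0 0 d1 0 f1 =
      quad (s * a - t * a1) 0 0 (s * d - t * d1) 0 (s * f - t * f1) := by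
  simp only [quad, map_sub, map_mul, map_zero]; ring

lemma monic_x (I : Ideal (MvPolynomial (Fin 2) κ)) (A Δ : κ) (hΔ : Δ ≠ 0)
    (h : quad A 0 0 Δ 0 0 ∈ I) : (X 0 ^ 2 - C (-A / Δ) : MvPolynomial (Fin 2) κ) ∈ I := by
  have e : (X 0 ^ 2 - C (-A / Δ) : MvPolynomial (Fin 2) κ) = C Δ⁻¹ * quad A 0 0 Δ 0 0 := by
    have h1 : (C Δ⁻¹ * C Δ : MvPolynomial (Fin 2) κ) = 1 := by
      rw [← map_mul, inv_mul_cancel₀ hΔ, map_one]
    have h' : (C (-A / Δ) : MvPolynomial (Fin 2) κ) = - (C Δ⁻¹ * C A) := by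
      rw [← map_mul, ← map_neg]; congr 1; field_simp
    simp only [quad, map_zero, zero_mul, add_zero]
    rw [h', mul_add, ← mul_assoc, h1]; ring
  rw [e]; exact I.mul_mem_left _ h

lemma monic_y (I : Ideal (MvPolynomial (Fin 2) κ)) (A Δ : κ) (hΔ : Δ ≠ 0)
    (h : quad A 0 0 0 0 Δ ∈ I) : (X 1 ^ 2 - C (-A / Δ) : MvPolynomial (Fin 2) κ) ∈ I := by
  have e : (X 1 ^ 2 - C (-A / Δ) : MvPolynomial (Fin 2) κ) = C Δ⁻¹ * quad A 0 0 0 0 Δ := by
    have h1 : (C Δ⁻¹ * C Δ : MvPolynomial (Fin 2) κ) = 1 := by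
      rw [← map_mul, inv_mul_cancel₀ hΔ, map_one]
    have h' : (C (-A / Δ) : MvPolynomial (Fin 2) κ) = - (C Δ⁻¹ * C A) := by
      rw [← map_mul, ← map_neg]; congr 1; field_simp
    simp only [quad, map_zero, zero_mul, add_zero]
    rw [h', mul_add, ← mul_assoc, h1]; ring
  rw [e]; exact I.mul_mem_left _ h

lemma deriv_div_eq_zero (θ : κ →+ κ) (hθ : ∀ u v, θ (u * v) = u * θ v + v * θ u) (x y : κ)
    (hy : y ≠ 0) (h : y * θ x = θ y * x) : θ (x / y) = 0 := by
  have hxy : y * (x / y) = x := by field_simp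
  have e : θ x = (x / y) * θ y + y * θ (x / y) := by
    rw [← hθ]; congr 1; field_simp
  have : y * y * θ (x / y) = 0 := by
    linear_combination (-y) * e + h - θ y * hxy
  rcases mul_eq_zero.mp this with h0 | h0
  · exact absurd (mul_self_eq_zero.mp h0) hy
  · exact h0

lemma isSquare_of_forall_deriv (h2 : (2 : κ) = 0) (x : κ)
    (H : ∀ θ : κ →+ κ, (∀ u v, θ (u * v) = u * θ v + v * θ u) → θ x = 0) : IsSquare x := by
  by_contra hc
  obtain ⟨θ, hθ, hne⟩ := exists_deriv_ne_zero h2 x hc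
  exact hne (H θ hθ)

theorem main_char_two (h2 : (2 : κ) = 0) (I : Ideal (MvPolynomial (Fin 2) κ)) (hN : NoTwo I)
    (a b c d e f : κ)
    (hmem : quad a b c d e f ∈ I ^ 2) :
    ∃ j g h i : κ, quad a b c d e f = C j * (aff g h i) ^ 2 := by
  have h2d : 2 * d = 0 := by rw [h2, zero_mul]
  have h2f : 2 * f = 0 := by rw [h2, zero_mul]
  have hx : aff b 0 e ∈ I := by
    have := pderiv_mem I 0 hmem
    rwa [pderiv0_quad, h2d] at this
  have hy : aff c e 0 ∈ I := by
    have := pderiv_mem I 1 hmem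
    rwa [pderiv1_quad, h2f] at this
  have he : e = 0 := by
    have := (hN _ _ _ _ _ _ hx hy).1
    simpa using this.symm
  subst he
  have hb : b = 0 := hconst_of_noTwo hN b (by simpa [aff] using hx)
  have hc : c = 0 := hconst_of_noTwo hN c (by simpa [aff] using hy)
  subst hb hc
  by_cases hV : NoAff I
  · -- no affine forms in `I`
    have hT : ∀ θ : κ →+ κ, (∀ u v, θ (u * v) = u * θ v + v * θ u) →
        quad (θ a) 0 0 (θ d) 0 (θ f) ∈ I := by
      intro θ hθ
      rw [← Th_quad]; exact Th_mem θ hθ I hmem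
    have hqI : quad a 0 0 d 0 f ∈ I := Ideal.pow_le_self two_ne_zero hmem
    have hconstV : ∀ A : κ, quad A 0 0 0 0 0 ∈ I → A = 0 := by
      intro A hA
      have h3 : quad A 0 0 0 0 0 = aff A 0 0 := by simp [quad, aff]
      rw [h3] at hA
      exact (hV _ _ _ hA).1
    by_cases hf : f = 0
    · subst hf
      by_cases hd : d = 0
      · subst hd
        refine ⟨a, 1, 0, 0, ?_⟩
        rw [sq_expand]; apply quad_congr <;> ring
      · have hsq : IsSquare (a / d) := by
          apply isSquare_of_forall_deriv h2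
          intro θ hθ
          apply deriv_div_eq_zero θ hθ a d hd
          have m := I.sub_mem (I.mul_mem_left (C d) (hT θ hθ)) (I.mul_mem_left (C (θ d)) hqI)
          rw [quad_comb] at m
          have : d * θ d - θ d * d = 0 := by ring
          rw [this, map_zero θ, mul_zero, mul_zero, sub_zero] at m
          have := hconstV _ m
          linear_combination this
        obtain ⟨g, hg⟩ := hsq
        refine ⟨d, g, 1, 0, ?_⟩
        rw [sq_expand]
        have hg' : a = d * (g * g) := by rw [← hg]; field_simp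
        apply quad_congr
        · rw [hg']; ring
        · linear_combination (-d * g) * h2
        · ring
        · ring
        · ring
        · ring
    · -- f ≠ 0
      have hmin : ∀ θ : κ →+ κ, (∀ u v, θ (u * v) = u * θ v + v * θ u) →
          f * θ d = θ f * d ∧ f * θ a = θ f * a := by
        intro θ hθ
        have hΔ : f * θ d = θ f * d := by
          by_contra hΔ
          have hΔ' : θ f * d - f * θ d ≠ 0 := fun h => hΔ (by linear_combination -h)
          have m1 := I.sub_mem (I.mul_mem_left (C (θ f)) hqI) (I.mul_mem_left (C f) (hT θ hθ))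
          rw [quad_comb] at m1
          have : θ f * f - f * θ f = 0 := by ring
          rw [this] at m1
          have hu := monic_x I _ _ hΔ' m1
          have m2 := I.sub_mem (I.mul_mem_left (C d) (hT θ hθ)) (I.mul_mem_left (C (θ d)) hqI)
          rw [quad_comb] at m2
          have : d * θ d - θ d * d = 0 := by ring
          rw [this] at m2
          have hΔ'' : d * θ f - θ d * f ≠ 0 := fun h => hΔ' (by linear_combination h)
          have hv := monic_y I _ _ hΔ'' m2
          exact hf (endgame h2 I hV _ _ hu hv a d f hmem).2.2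
        refine ⟨hΔ, ?_⟩
        have m := I.sub_mem (I.mul_mem_left (C f) (hT θ hθ)) (I.mul_mem_left (C (θ f)) hqI)
        rw [quad_comb] at m
        have e1 : f * θ d - θ f * d = 0 := by linear_combination hΔ
        have e2 : f * θ f - θ f * f = 0 := by ring
        rw [e1, e2] at m
        have := hconstV _ m
        linear_combination this
      have hsa : IsSquare (a / f) := by
        apply isSquare_of_forall_deriv h2
        intro θ hθ
        exact deriv_div_eq_zero θ hθ a f hf (hmin θ hθ).2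
      have hsd : IsSquare (d / f) := by
        apply isSquare_of_forall_deriv h2
        intro θ hθ
        exact deriv_div_eq_zero θ hθ d f hf (hmin θ hθ).1
      obtain ⟨g, hg⟩ := hsa
      obtain ⟨h, hh⟩ := hsd
      refine ⟨f, g, h, 1, ?_⟩
      rw [sq_expand]
      have hg' : a = f * (g * g) := by rw [← hg]; field_simp
      have hh' : d = f * (h * h) := by rw [← hh]; field_simp
      apply quad_congr
      · rw [hg']; ring
      · linear_combination (-f * g * h) * h2
      · linear_combination (-f * g) * h2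
      · rw [hh']; ring
      · linear_combination (-f * h) * h2
      · ring
  · -- `I` contains a nonzero affine form
    unfold NoAff at hV
    push Not at hV
    obtain ⟨g, h, i, hm, hne⟩ := hV
    by_cases hh : h = 0
    · subst hh
      by_cases hi : i = 0
      · subst hi
        exfalso
        have : g = 0 := hconst_of_noTwo hN g (by simpa [aff] using hm)
        exact hne this rfl rfl
      · have hm' : aff (g / i) 0 1 ∈ I := by
          have : aff (g / i) 0 1 = C i⁻¹ * aff g 0 i := by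
            have h1 : (C i⁻¹ * C i : MvPolynomial (Fin 2) κ) = 1 := by
              rw [← map_mul, inv_mul_cancel₀ hi, map_one]
            have h' : (C (g / i) : MvPolynomial (Fin 2) κ) = C i⁻¹ * C g := by
              rw [← map_mul]; congr 1; field_simp
            simp only [aff, map_zero, zero_mul, add_zero, map_one, one_mul]
            rw [h', mul_add, ← mul_assoc, h1]; ring
          rw [this]; exact I.mul_mem_left _ hm
        exact ⟨f, g / i, 0, 1, lineD2 h2 I hN _ _ hm' a d f hmem⟩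
    · have hm' : aff (g / h) 1 (i / h) ∈ I := by
        have : aff (g / h) 1 (i / h) = C h⁻¹ * aff g h i := by
          have h1 : (C h⁻¹ * C h : MvPolynomial (Fin 2) κ) = 1 := by
            rw [← map_mul, inv_mul_cancel₀ hh, map_one]
          have h' : (C (g / h) : MvPolynomial (Fin 2) κ) = C h⁻¹ * C g := by
            rw [← map_mul]; congr 1; field_simp
          have h'' : (C (i / h) : MvPolynomial (Fin 2) κ) = C h⁻¹ * C i := by
            rw [← map_mul]; congr 1; field_simp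
          simp only [aff, map_one, one_mul]
          rw [h', h'', mul_add, mul_add, ← mul_assoc, ← mul_assoc, h1]; ring
        rw [this]; exact I.mul_mem_left _ hm
      exact ⟨d, g / h, 1, i / h, lineD1 h2 I hN _ _ hm' a d f hmem⟩


/-- Stacks 0AGN. -/
theorem main (I : Ideal (MvPolynomial (Fin 2) κ))
    (hI : ¬ (Module.Finite κ (MvPolynomial (Fin 2) κ ⧸ I) ∧
      Module.finrank κ (MvPolynomial (Fin 2) κ ⧸ I) ≤ 1))
    (a b c d e f : κ) (hne : (a, b, c, d, e, f) ≠ (0, 0, 0, 0, 0, 0))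
    (hmem : quad a b c d e f ∈ I ^ 2) :
    ∃ j g h i : κ, quad a b c d e f = C j * (aff g h i) ^ 2 := by
  have hN := noTwo_of_colength I hI
  by_cases h2 : (2 : κ) = 0
  · exact main_char_two h2 I hN a b c d e f hmem
  · exact main_char_ne_two h2 I hN a b c d e f hne hmem

end Groth.Agent.Lib.QuadricSq
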