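/-
helper42: a criterion for quasi-affineness via global generation of ideal sheaves.
* `vanishingIdeal_ideal_eq_top`, `notMem_basicOpen_of_mem_vanishingIdeal`.
* `exists_mem_basicOpen_idealFn`.
* `isQuasiAffine_of_globGen_idealMod`: a quasi-compact open `O ⊆ X` such that `I|_O` is globally generated for every
  ideal sheaf `I` of `X` is quasi-affine.
* `isSeparated_of_forall_affine`.
-/
import Groth.Agent.Lib.CounitEpi
import Groth.Agent.Lib.IdealMod2
import Groth.Agent.Lib.H77QCohKernel
import Mathlib.AlgebraicGeometry.QuasiAffine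

set_option autoImplicit false
universe u
open CategoryTheory CategoryTheory.Limits AlgebraicGeometry Opposite TopologicalSpace
open Groth.Agent.Lib.H90Invertible Groth.Agent.Lib.StructureModule Groth.Agent.Lib.H78TensorGen
open Groth.Agent.Lib.H78SecCoord Groth.Agent.Lib.H78GlobGen2 Groth.Agent.Lib.H78Atlas
open Groth.Agent.Lib.GlobGenDescent Groth.Agent.Lib.GlobGenLocal Groth.Agent.Lib.IdealMod

namespace Groth.Agent.Lib.QuasiAffineCrit

variable {X : Scheme.{u}}

/-- the vanishing ideal of a closed set is the unit ideal on affine opens disjoint from it -/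
lemma vanishingIdeal_ideal_eq_top (C : Closeds X) (W : X.affineOpens) (h : Disjoint (C : Set X) (W.1 : Set X)) :
    (Scheme.IdealSheafData.vanishingIdeal C).ideal W = ⊤ := by
  refine (Scheme.IdealSheafData.vanishingIdeal_ideal C W).trans ?_
  have : W.2.fromSpec ⁻¹' (C : Set X) = ∅ := by
    ext p
    simp only [Set.mem_preimage, Set.mem_empty_iff_false, iff_false]
    intro hp
    have hpW : W.2.fromSpec p ∈ (W.1 : Set X) := by
      rw [← W.2.range_fromSpec]; exact ⟨p, rfl⟩
    exact Set.disjoint_left.1 h hp hpW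
  exact (congrArg PrimeSpectrum.vanishingIdeal this).trans PrimeSpectrum.vanishingIdeal_empty

/-- functions in the vanishing ideal vanish on the closed set -/
lemma notMem_basicOpen_of_mem_vanishingIdeal (C : Closeds X) (W : X.affineOpens) (r : Γ(X, W.1))
    (hr : r ∈ (Scheme.IdealSheafData.vanishingIdeal C).ideal W) (y : X) (hyC : y ∈ C) (hyW : y ∈ W.1) :
    y ∉ X.basicOpen r := by
  have h1 := (Scheme.IdealSheafData.vanishingIdeal C).coe_support_inter W
  rw [Scheme.IdealSheafData.coe_support_vanishingIdeal] at h1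
  have h2 : y ∈ (C : Set X) ∩ W.1 := ⟨hyC, hyW⟩
  rw [h1] at h2
  exact (X.mem_zeroLocus_iff _ y).1 h2.1 r hr

/-- If sections `ξ k` generate the restriction of an ideal sheaf to an open subscheme, and the ideal sheaf contains
`1` near a point, then one of the functions underlying the `ξ k` does not vanish at this point. -/
theorem exists_mem_basicOpen_idealFn {Y : Scheme.{u}} (j : Y ⟶ X) [IsOpenImmersion j] (I : X.IdealSheafData)
    {K : Type u} (ξ : K → Γ((ClSub.idealMod I).restrict j, ⊤))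
    [Epi (ofSections ((ClSub.idealMod I).restrict j) ξ)] (y : Y) (U : X.Opens) (hyU : j y ∈ U)
    (e : Γ(ClSub.idealMod I, U)) (he : idealFn I U e = 1) :
    ∃ k, j y ∈ X.basicOpen (idealFn I (j ''ᵁ ⊤) (ξ k)) := by
  by_contra hcon
  push Not at hcon
  have hW' : j ''ᵁ (j ⁻¹ᵁ U) ≤ U := j.image_preimage_le U
  let s' : Γ((ClSub.idealMod I).restrict j, j ⁻¹ᵁ U) :=
    Groth.Agent.Lib.H78Restrict.toR j _ (j ⁻¹ᵁ U) (rs _ hW' e)
  obtain ⟨V', hV'W', hxV', hmem⟩ :=
    exists_rs_mem_spanRes ((ClSub.idealMod I).restrict j) ξ (j ⁻¹ᵁ U) s' y hyU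
  have key : ∀ t ∈ spanRes ((ClSub.idealMod I).restrict j) ξ V',
      j y ∉ X.basicOpen (idealFn I (j ''ᵁ V') (show Γ(ClSub.idealMod I, j ''ᵁ V') from t)) := by
    intro t ht
    induction ht using Submodule.span_induction with
    | mem t ht =>
      obtain ⟨k, rfl⟩ := ht
      have h1 : idealFn I (j ''ᵁ V')
          (show Γ(ClSub.idealMod I, j ''ᵁ V') from rs ((ClSub.idealMod I).restrict j) le_top (ξ k)) =
          (X.presheaf.map (homOfLE (j.image_mono (le_top : V' ≤ ⊤))).op).hom
            (idealFn I (j ''ᵁ ⊤) (ξ k)) :=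
        idealFn_map I (j.image_mono (le_top : V' ≤ ⊤)) (ξ k)
      rw [h1, Scheme.basicOpen_res]
      exact fun h => hcon k h.2
    | zero =>
      have h1 : idealFn I (j ''ᵁ V')
          (show Γ(ClSub.idealMod I, j ''ᵁ V') from (0 : Γ((ClSub.idealMod I).restrict j, V'))) = 0 :=
        idealFn_zero I
      rw [h1, Scheme.basicOpen_zero]
      exact fun h => h
    | add a b _ _ ha hb =>
      have h1 : idealFn I (j ''ᵁ V') (show Γ(ClSub.idealMod I, j ''ᵁ V') from a + b) =
          idealFn I (j ''ᵁ V') (show Γ(ClSub.idealMod I, j ''ᵁ V') from a) +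
          idealFn I (j ''ᵁ V') (show Γ(ClSub.idealMod I, j ''ᵁ V') from b) := idealFn_add I _ _
      rw [h1]
      intro h
      rcases X.basicOpen_add_le _ _ h with h | h
      · exact ha h
      · exact hb h
    | smul c t _ ht =>
      have h1 : idealFn I (j ''ᵁ V') (show Γ(ClSub.idealMod I, j ''ᵁ V') from c • t) =
          ((j.appIso V').inv c : Γ(X, j ''ᵁ V')) *
          idealFn I (j ''ᵁ V') (show Γ(ClSub.idealMod I, j ''ᵁ V') from t) := idealFn_smul I _ _
      rw [h1, Scheme.basicOpen_mul]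
      exact fun h => ht h.2
  have h2 := key _ hmem
  have h3 : idealFn I (j ''ᵁ V') (show Γ(ClSub.idealMod I, j ''ᵁ V') from
      rs ((ClSub.idealMod I).restrict j) hV'W' s') = 1 := by
    have h4 : (show Γ(ClSub.idealMod I, j ''ᵁ V') from
        rs ((ClSub.idealMod I).restrict j) hV'W' s') =
        rs (ClSub.idealMod I) ((j.image_mono hV'W').trans hW') e :=
      rs_rs (ClSub.idealMod I) hW' (j.image_mono hV'W') e
    rw [h4]
    refine (idealFn_map I ((j.image_mono hV'W').trans hW') e).trans ?_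
    rw [he]
    exact map_one _
  rw [h3, Scheme.basicOpen_one] at h2
  exact h2 ⟨y, hxV', rfl⟩

/-- **criterion for quasi-affineness of an open subscheme**: if the restrictions to the quasi-compact open `O` of
all ideal sheaves of `X` are globally generated, then `O` is quasi-affine. -/
theorem isQuasiAffine_of_globGen_idealMod (O : X.Opens) [CompactSpace ↥(O : Scheme.{u})]
    (h : ∀ I : X.IdealSheafData, Curv2.IsGloballyGenerated ((ClSub.idealMod I).restrict O.ι)) :
    (O : Scheme.{u}).IsQuasiAffine := by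
  refine Scheme.IsQuasiAffine.of_forall_exists_mem_basicOpen _ fun x' => ?_
  -- an affine open neighbourhood `U ⊆ O` of `x = ι x'`
  obtain ⟨U, hU, hxU, hUO⟩ := Opens.isBasis_iff_nbhd.1 X.isBasis_affineOpens
    (show O.ι x' ∈ O from x'.2)
  let C : Closeds X := ⟨(U : Set X)ᶜ, U.2.isClosed_compl⟩
  obtain ⟨K, q, hq⟩ := h (Scheme.IdealSheafData.vanishingIdeal C)
  let ξ : K → Γ((ClSub.idealMod (Scheme.IdealSheafData.vanishingIdeal C)).restrict O.ι, ⊤) :=
    fun k => sec (ιF k ≫ q)
  haveI : Epi (ofSections ((ClSub.idealMod (Scheme.IdealSheafData.vanishingIdeal C)).restrict O.ι) ξ) := by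
    rw [← eq_ofSections (K := K) q]; exact hq
  -- the unit section of the ideal sheaf over `U`
  have hItop : (Scheme.IdealSheafData.vanishingIdeal C).ideal ⟨U, hU⟩ = ⊤ :=
    vanishingIdeal_ideal_eq_top C ⟨U, hU⟩ (by
      change Disjoint ((U : Set X)ᶜ) (U : Set X)
      exact disjoint_compl_left)
  obtain ⟨e, he⟩ := exists_idealFn_eq (Scheme.IdealSheafData.vanishingIdeal C) ⟨U, hU⟩ (f := 1)
    (by rw [hItop]; trivial)
  obtain ⟨k, hk⟩ := exists_mem_basicOpen_idealFn O.ι _ ξ x' U hxU e he
  generalize hr : idealFn (Scheme.IdealSheafData.vanishingIdeal C) (O.ι ''ᵁ ⊤) (ξ k) = r at hk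
  -- `X_r ⊆ U`
  have hrU : X.basicOpen r ≤ U := by
    intro y hy
    by_contra hyU
    have hyO : y ∈ O.ι ''ᵁ ⊤ := X.basicOpen_le r hy
    obtain ⟨W, hW, hyW, hWO⟩ := Opens.isBasis_iff_nbhd.1 X.isBasis_affineOpens hyO
    have hmem := idealFn_mem (Scheme.IdealSheafData.vanishingIdeal C) ⟨W, hW⟩
      (rs (ClSub.idealMod (Scheme.IdealSheafData.vanishingIdeal C)) hWO (ξ k))
    have hmap := idealFn_map (Scheme.IdealSheafData.vanishingIdeal C) hWO (ξ k)
    rw [hr] at hmap
    have hmem' : (X.presheaf.map (homOfLE hWO).op).hom r ∈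
        (Scheme.IdealSheafData.vanishingIdeal C).ideal ⟨W, hW⟩ := hmap ▸ hmem
    have h2 := notMem_basicOpen_of_mem_vanishingIdeal C ⟨W, hW⟩ _ hmem' y hyU hyW
    rw [Scheme.basicOpen_res] at h2
    exact h2 ⟨hyW, hy⟩
  -- `X_r` is affine
  have haff : IsAffineOpen (X.basicOpen r) := by
    have h1 : U ≤ O.ι ''ᵁ ⊤ := by
      rw [Scheme.Opens.ι_image_top]; exact hUO
    have h2 := hU.basicOpen ((X.presheaf.map (homOfLE h1).op).hom r)
    rw [Scheme.basicOpen_res, inf_eq_right.2 hrU] at h2
    exact h2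
  have himg : O.ι ''ᵁ ((O : Scheme.{u}).basicOpen ((O.ι.appIso ⊤).hom r)) = X.basicOpen r := by
    rw [Scheme.image_basicOpen, Iso.hom_inv_id_apply]
  refine ⟨(O.ι.appIso ⊤).hom r, ?_, ?_⟩
  · rw [← O.ι.isAffineOpen_iff_of_isOpenImmersion, himg]
    exact haff
  · have h3 : O.ι x' ∈ O.ι ''ᵁ ((O : Scheme.{u}).basicOpen ((O.ι.appIso ⊤).hom r)) := by
      rw [himg]; exact hk
    obtain ⟨z, hz, hzx⟩ := h3
    rwa [O.ι.isOpenEmbedding.injective hzx] at hz

set_option backward.isDefEq.respectTransparency false in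
/-- a morphism is separated if the preimages of affine opens are separated schemes -/
theorem isSeparated_of_forall_affine {Y : Scheme.{u}} (f : X ⟶ Y)
    (h : ∀ U : Y.affineOpens, ((f ⁻¹ᵁ U.1 : X.Opens) : Scheme.{u}).IsSeparated) :
    IsSeparated f := by
  rw [HasAffineProperty.eq_targetAffineLocally (P := @IsSeparated)]
  intro U
  exact h U

end Groth.Agent.Lib.QuasiAffineCrit
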