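import Groth.Agent.Lib.SeqDesc
import Groth.Agent.Lib.RegImmFlatBC
import Groth.Agent.S3824
import Groth.Prelude.Def_PP16

/-!
# Quasi-regular families satisfy the formal properties for faithfully flat descent (helper32)

Namespace `Groth.Agent.Lib.QuasiDesc`.

* `coeff_mem_of_sum_mem` : degree one quasi-regularity.
* `length_le` : a quasi-regular generating family of a proper ideal has minimal length.
* `isQuasiRegular_of_faithfullyFlat` : faithfully flat descent for a fixed family.
* `isQuasiRegular_of_locally` : Zariski local-to-global.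
* `quasiProp : SeqDesc.SeqProp`.
* `isLocallyQuasiRegular_of_faithfullyFlat`.
-/

set_option autoImplicit false
universe u

namespace Groth.Agent.Lib.QuasiDesc

open MvPolynomial Groth.Agent.Lib.SeqDesc

section basic

variable {T : Type u} [CommRing T] {n : ℕ}

/-- the linear form `Σ a_i X_i` -/
noncomputable def linForm (a : Fin n → T) : MvPolynomial (Fin n) T := ∑ i, C (a i) * X i

theorem linForm_isHomogeneous (a : Fin n → T) : (linForm a).IsHomogeneous 1 :=
  IsHomogeneous.sum _ _ _ (fun _ _ => isHomogeneous_C_mul_X _ _)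

theorem eval_linForm (f a : Fin n → T) : eval f (linForm a) = ∑ i, a i * f i := by
  simp [linForm, map_sum]

theorem coeff_linForm (a : Fin n → T) (k : Fin n) :
    coeff (Finsupp.single k 1) (linForm a) = a k := by
  classical
  rw [linForm, coeff_sum, Finset.sum_eq_single k]
  · rw [coeff_C_mul, coeff_X, if_pos rfl, mul_one]
  · intro j _ hj
    rw [coeff_C_mul, coeff_X, if_neg, mul_zero]
    intro h
    exact hj ((Finsupp.single_left_inj one_ne_zero).mp h)
  · intro h
    exact absurd (Finset.mem_univ k) h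

/-- degree one quasi-regularity -/
theorem coeff_mem_of_sum_mem (f : Fin n → T) (hf : CAlgX.IsQuasiRegular f) (a : Fin n → T)
    (h : ∑ i, a i * f i ∈ Ideal.span (Set.range f) ^ 2) (k : Fin n) :
    a k ∈ Ideal.span (Set.range f) := by
  have := hf 1 (linForm a) (linForm_isHomogeneous a) (by rw [eval_linForm]; exact h)
    (Finsupp.single k 1)
  rwa [coeff_linForm] at this

/-- a quasi-regular generating family of a proper ideal has minimal length -/
theorem length_le {m : ℕ} (f : Fin n → T) (f' : Fin m → T) (hf : CAlgX.IsQuasiRegular f)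
    (hne : Ideal.span (Set.range f) ≠ ⊤)
    (h : Ideal.span (Set.range f) = Ideal.span (Set.range f')) : n ≤ m := by
  by_contra hlt
  rw [not_le] at hlt
  obtain ⟨𝔪, hmax, hle⟩ := Ideal.exists_le_maximal _ hne
  have hC : ∀ i, ∃ c : Fin m → T, ∑ j, c j • f' j = f i := fun i =>
    (Submodule.mem_span_range_iff_exists_fun T).mp
      (show f i ∈ Ideal.span (Set.range f') from h ▸ Ideal.subset_span ⟨i, rfl⟩)
  have hD : ∀ j, ∃ c : Fin n → T, ∑ i, c i • f i = f' j := fun j =>
    (Submodule.mem_span_range_iff_exists_fun T).mp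
      (show f' j ∈ Ideal.span (Set.range f) from h.symm ▸ Ideal.subset_span ⟨j, rfl⟩)
  choose Cm hCm using hC
  choose Dm hDm using hD
  obtain ⟨i, k, hik⟩ := Groth.Agent.Lib.KRDescB.exists_not_mem_one_sub_mul 𝔪 hmax.ne_top hlt
    (Matrix.of Cm) (Matrix.of Dm)
  apply hik
  apply hle
  refine coeff_mem_of_sum_mem f hf
    (fun k => ((1 : Matrix (Fin n) (Fin n) T) - Matrix.of Cm * Matrix.of Dm) i k) ?_ k
  have hz : ∑ k, ((1 : Matrix (Fin n) (Fin n) T) - Matrix.of Cm * Matrix.of Dm) i k * f k = 0 := by
    simp only [Matrix.sub_apply, sub_mul, Finset.sum_sub_distrib, Matrix.one_apply, ite_mul,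
      one_mul, zero_mul, Finset.sum_ite_eq, Finset.mem_univ, if_true]
    rw [sub_eq_zero]
    conv_lhs => rw [← hCm i]
    simp only [Matrix.mul_apply, Finset.sum_mul, Matrix.of_apply, smul_eq_mul]
    rw [Finset.sum_comm]
    refine Finset.sum_congr rfl fun j _ => ?_
    rw [← hDm j, Finset.mul_sum]
    refine Finset.sum_congr rfl fun k _ => ?_
    rw [smul_eq_mul]
    ring
  rw [hz]
  exact Ideal.zero_mem _

theorem isQuasiRegular_of_eq_top (f : Fin n → T) (h : Ideal.span (Set.range f) = ⊤) :
    CAlgX.IsQuasiRegular f := by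
  intro d P _ _ e
  rw [h]
  trivial

end basic

section descent

variable {S T : Type u} [CommRing S] [CommRing T] [Algebra S T] {n : ℕ}

theorem span_range_comp (f : Fin n → S) :
    Ideal.span (Set.range (algebraMap S T ∘ f)) =
      (Ideal.span (Set.range f)).map (algebraMap S T) := by
  rw [Ideal.map_span, Set.range_comp]

theorem eval_map_mem (f : Fin n → S) (P : MvPolynomial (Fin n) S) (d : ℕ)
    (hev : eval f P ∈ Ideal.span (Set.range f) ^ (d + 1)) :
    eval (algebraMap S T ∘ f) (map (algebraMap S T) P) ∈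
      Ideal.span (Set.range (algebraMap S T ∘ f)) ^ (d + 1) := by
  have key : eval₂ (algebraMap S T) (algebraMap S T ∘ f) P = algebraMap S T (eval f P) := by
    have := MvPolynomial.eval₂_comp_left (algebraMap S T) (RingHom.id S) f P
    rw [RingHom.comp_id] at this
    exact this.symm
  rw [span_range_comp, ← Ideal.map_pow, eval_map, key]
  exact Ideal.mem_map_of_mem _ hev

/-- faithfully flat descent of quasi-regularity of a family -/
theorem isQuasiRegular_of_faithfullyFlat [Module.FaithfullyFlat S T] (f : Fin n → S)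
    (hf : CAlgX.IsQuasiRegular (algebraMap S T ∘ f)) : CAlgX.IsQuasiRegular f := by
  intro d P hP hev e
  have h1 := hf d (map (algebraMap S T) P) (hP.map _) (eval_map_mem f P d hev) e
  rw [coeff_map, span_range_comp] at h1
  have h2 : P.coeff e ∈ ((Ideal.span (Set.range f)).map (algebraMap S T)).comap (algebraMap S T) :=
    h1
  rwa [Ideal.comap_map_eq_self_of_faithfullyFlat] at h2

/-- Zariski local-to-global for quasi-regularity of a family -/
theorem isQuasiRegular_of_locally (f : Fin n → S)
    (H : ∀ 𝔮 : PrimeSpectrum S, ∃ g : S, g ∉ 𝔮.asIdeal ∧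
      CAlgX.IsQuasiRegular (algebraMap S (Localization.Away g) ∘ f)) :
    CAlgX.IsQuasiRegular f := by
  intro d P hP hev e
  by_contra hc
  let K : Ideal S := Submodule.colon (Ideal.span (Set.range f)) {P.coeff e}
  have hK : K ≠ ⊤ := by
    intro h
    apply hc
    have h1 : (1 : S) ∈ K := h ▸ Submodule.mem_top
    rw [Submodule.mem_colon_singleton, one_smul] at h1
    exact h1
  obtain ⟨𝔪, hmax, hle⟩ := Ideal.exists_le_maximal K hK
  obtain ⟨g, hg, hq⟩ := H ⟨𝔪, hmax.isPrime⟩
  have h1 := hq d (map (algebraMap S (Localization.Away g)) P) (hP.map _)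
    (eval_map_mem f P d hev) e
  rw [coeff_map, span_range_comp] at h1
  obtain ⟨m, ⟨k, rfl⟩, hm⟩ :=
    (IsLocalization.algebraMap_mem_map_algebraMap_iff (Submonoid.powers g) _ _ _).mp h1
  apply hg
  exact hmax.isPrime.mem_of_pow_mem k (hle (Submodule.mem_colon_singleton.mpr hm))

end descent

/-- quasi-regular families form a `SeqProp` -/
def quasiProp : SeqProp.{u} where
  P := fun _ _ _ f => CAlgX.IsQuasiRegular f
  map_flat := fun f hf => Groth.Agent.Lib.RegImmFlatBC.isQuasiRegular_map_of_flat f hf
  length_le := fun f f' hf hne h => length_le f f' hf hne h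
  of_span_eq := fun f f' hf h => Groth.Agent.S3824.result f f' hf h
  of_faithfullyFlat := fun f hf => isQuasiRegular_of_faithfullyFlat f hf
  of_locally := fun f H => isQuasiRegular_of_locally f H
  of_eq_top := fun f h => isQuasiRegular_of_eq_top f h

theorem isLocallyQuasiRegular_iff_locGen {R : Type u} [CommRing R] (J : Ideal R) :
    PP16.IsLocallyQuasiRegular R J ↔ LocGen quasiProp J := by
  constructor
  · intro h 𝔭 h𝔭
    obtain ⟨g, hg, r, f, hf, hJ⟩ := h 𝔭.asIdeal h𝔭
    exact ⟨g, hg, r, f, hf, hJ⟩
  · intro h P _ hP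
    obtain ⟨g, hg, r, f, hf, hJ⟩ := h ⟨P, inferInstance⟩ hP
    exact ⟨g, hg, r, f, hf, hJ⟩

/-- **faithfully flat descent of locally quasi-regular ideals** -/
theorem isLocallyQuasiRegular_of_faithfullyFlat (A B : Type u) [CommRing A] [CommRing B]
    [Algebra A B] [Module.FaithfullyFlat A B] (I : Ideal A)
    (h : PP16.IsLocallyQuasiRegular B (Ideal.map (algebraMap A B) I)) :
    PP16.IsLocallyQuasiRegular A I := by
  rw [isLocallyQuasiRegular_iff_locGen] at h ⊢
  exact locGen_of_faithfullyFlat I h

end Groth.Agent.Lib.QuasiDesc
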