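import Groth.Agent.Lib.StrictTransform68
import Groth.Agent.Lib.SchDense68
import Groth.Agent.Lib.BlowUpUniv2

/-!
# Quasi-dominations and blowing ups (helper68)

If `W ⊆ X̃` is an open of a blowing up `b : X̃ ⟶ X` in `𝓘`, and `ψ : W ⟶ V` is a morphism over
`φ : V ⟶ X` whose graph `W ⟶ X̃ ×_X V` is a closed immersion, and a scheme-theoretically dense `U ⟶ V`
missing the centre lifts to `W`, then `ψ` is a blowing up of `V` in `𝓘 · 𝒪_V`.
-/

set_option autoImplicit false
universe u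
open CategoryTheory CategoryTheory.Limits AlgebraicGeometry TopologicalSpace

namespace Groth.Agent.Lib.QuasiDomBlowUp68

open Groth.Agent.Lib.BlowUpUniv

/-- An immersion-like graph with closed range is a closed immersion. -/
theorem isClosedImmersion_lift {W V Xt S : Scheme.{u}} (a : W ⟶ Xt) [IsImmersion a] (ψ : W ⟶ V)
    (p : Xt ⟶ S) (q : V ⟶ S) (h : a ≫ p = ψ ≫ q)
    (hcl : IsClosed (Set.range (pullback.lift a ψ h))) :
    IsClosedImmersion (pullback.lift a ψ h) := by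
  have h1 : IsImmersion (pullback.lift a ψ h ≫ pullback.fst p q) := by
    rw [pullback.lift_fst]; infer_instance
  have h2 : IsImmersion (pullback.lift a ψ h) := IsImmersion.of_comp _ (pullback.fst p q)
  exact IsClosedImmersion.of_isPreimmersion _ hcl

/-- If `q ≫ o` is scheme-theoretically dominant and quasi-compact with `o` an open immersion, then
`q` is scheme-theoretically dominant. -/
theorem isSchemeTheoreticallyDominant_of_comp_isOpenImmersion {U P V : Scheme.{u}} (q : U ⟶ P)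
    (o : P ⟶ V) [IsOpenImmersion o] [IsSchemeTheoreticallyDominant (q ≫ o)] [QuasiCompact (q ≫ o)] :
    IsSchemeTheoreticallyDominant q := by
  have s : IsPullback (𝟙 U) q q (𝟙 P) := IsPullback.of_id_fst
  have t : IsPullback (𝟙 P) (𝟙 P) o o := IsKernelPair.id_of_mono o
  have H := s.paste_vert t
  rw [Category.comp_id] at H
  exact IsSchemeTheoreticallyDominant.of_isPullback (f := q ≫ o) (g := o) H

/-- **Quasi-dominations under a blowing up are blowing ups.** -/
theorem isBlowUp_of_isClosedImmersion_graph {X Xt V U : Scheme.{u}} (𝓘 : X.IdealSheafData)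
    (b : Xt ⟶ X) (hb : BlowUp.IsBlowUp b 𝓘) (φ : V ⟶ X) (W : Xt.Opens)
    (ψ : (W : Scheme.{u}) ⟶ V) (hcomm : W.ι ≫ b = ψ ≫ φ)
    (hΓ : IsClosedImmersion (pullback.lift W.ι ψ hcomm))
    (u : U ⟶ (W : Scheme.{u})) (jV : U ⟶ V) [IsSchemeTheoreticallyDominant jV] [QuasiCompact jV]
    (hu : u ≫ ψ = jV) (hU : ∀ x : U, φ (jV x) ∉ 𝓘.support) :
    BlowUp.IsBlowUp ψ (𝓘.comap φ) := by
  set Γ := pullback.lift W.ι ψ hcomm with hΓdef
  have hΓfst : Γ ≫ pullback.fst b φ = W.ι := pullback.lift_fst _ _ _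
  have hΓsnd : Γ ≫ pullback.snd b φ = ψ := pullback.lift_snd _ _ _
  -- the open complement of the centre
  set Xo : X.Opens := 𝓘.support.compl with hXo
  have hisoXo : IsIso (b ∣_ Xo) := isIso_morphismRestrict_compl hb
  have hisoP : IsIso (pullback.snd b φ ∣_ (φ ⁻¹ᵁ Xo)) :=
    Groth.Agent.Lib.ModPairProd68.isIso_snd_morphismRestrict b φ Xo
  set Po : (pullback b φ).Opens := pullback.snd b φ ⁻¹ᵁ (φ ⁻¹ᵁ Xo) with hPo
  let o : (Po : Scheme.{u}) ⟶ V := Po.ι ≫ pullback.snd b φ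
  have ho : o = (pullback.snd b φ ∣_ (φ ⁻¹ᵁ Xo)) ≫ (φ ⁻¹ᵁ Xo).ι :=
    (morphismRestrict_ι _ _).symm
  have hoOI : IsOpenImmersion o := by rw [ho]; infer_instance
  -- the restriction of the graph over `Po`
  set Wo : (W : Scheme.{u}).Opens := Γ ⁻¹ᵁ Po with hWo
  let Γo : (Wo : Scheme.{u}) ⟶ (Po : Scheme.{u}) := Γ ∣_ Po
  have hΓoι : Γo ≫ Po.ι = Wo.ι ≫ Γ := morphismRestrict_ι Γ Po
  have hΓoCI : IsClosedImmersion Γo := inferInstance
  -- `U` lands in `Wo`
  have hrange : Set.range u ⊆ Set.range Wo.ι := by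
    rintro _ ⟨x, rfl⟩
    rw [Scheme.Opens.range_ι]
    have e : (pullback.snd b φ) (Γ (u x)) = jV x := by
      rw [← Scheme.Hom.comp_apply, hΓsnd, ← Scheme.Hom.comp_apply, hu]
    change φ ((pullback.snd b φ) (Γ (u x))) ∈ Xo
    rw [e]
    exact hU x
  let uo : U ⟶ (Wo : Scheme.{u}) := IsOpenImmersion.lift Wo.ι u hrange
  have huo : uo ≫ Wo.ι = u := IsOpenImmersion.lift_fac _ _ _
  have hcomp : (uo ≫ Γo) ≫ o = jV := by
    simp only [o, Category.assoc]
    rw [reassoc_of% hΓoι, hΓsnd, reassoc_of% huo, hu]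
  have hdom : IsSchemeTheoreticallyDominant (uo ≫ Γo) := by
    have h1 : IsSchemeTheoreticallyDominant ((uo ≫ Γo) ≫ o) := by rw [hcomp]; infer_instance
    have h2 : QuasiCompact ((uo ≫ Γo) ≫ o) := by rw [hcomp]; infer_instance
    exact isSchemeTheoreticallyDominant_of_comp_isOpenImmersion (uo ≫ Γo) o
  have hker : Γo.ker = ⊥ := by
    have h1 := Scheme.Hom.le_ker_comp uo Γo
    rw [(uo ≫ Γo).ker_eq_bot] at h1
    exact le_bot_iff.mp h1
  have hΓoIso : IsIso Γo :=
    Groth.Agent.Lib.SchDense68.isIso_of_isClosedImmersion_of_ker_eq_bot Γo hker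
  refine ⟨?_, ?_⟩
  · rw [← Scheme.IdealSheafData.comap_comp, ← hcomm, Scheme.IdealSheafData.comap_comp]
    exact isEffCartier_comap_of_flat W.ι _ hb.1
  · intro T t hT
    rw [← Scheme.IdealSheafData.comap_comp] at hT
    obtain ⟨m, hm, hmuniq⟩ := hb.2 T (t ≫ φ) hT
    change m ≫ b = t ≫ φ at hm
    let h' : T ⟶ pullback b φ := pullback.lift m t hm
    -- the interior of `T`
    let To := ModPair.interior (𝓘.comap (t ≫ φ))
    have hTdom : IsSchemeTheoreticallyDominant To.ι :=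
      Groth.Agent.Lib.EffCartier96.isSchemeTheoreticallyDominant_interior_ι _ hT
    have hrangeT : Set.range (To.ι ≫ h') ⊆ Set.range Po.ι := by
      rintro _ ⟨z, rfl⟩
      rw [Scheme.Opens.range_ι]
      have e : (pullback.snd b φ) ((To.ι ≫ h') z) = t (To.ι z) := by
        rw [← Scheme.Hom.comp_apply, Category.assoc, pullback.lift_snd, Scheme.Hom.comp_apply]
      change φ ((pullback.snd b φ) ((To.ι ≫ h') z)) ∈ Xo
      rw [e]
      intro hz
      apply z.2
      change z.1 ∈ (𝓘.comap (t ≫ φ)).support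
      rw [Scheme.IdealSheafData.support_comap]
      exact hz
    let h'o : (To : Scheme.{u}) ⟶ (Po : Scheme.{u}) := IsOpenImmersion.lift Po.ι (To.ι ≫ h') hrangeT
    have hh'o : h'o ≫ Po.ι = To.ι ≫ h' := IsOpenImmersion.lift_fac _ _ _
    let k : (To : Scheme.{u}) ⟶ (W : Scheme.{u}) := h'o ≫ inv Γo ≫ Wo.ι
    have hk : To.ι ≫ h' = k ≫ Γ := by
      simp only [k, Category.assoc]
      rw [← hΓoι, IsIso.inv_hom_id_assoc, hh'o]
    have hle : Γ.ker ≤ h'.ker :=
      Groth.Agent.Lib.ModPairProd68.le_ker_of_dominant Γ h' To.ι k hk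
    let n : T ⟶ (W : Scheme.{u}) := IsClosedImmersion.lift Γ h' hle
    have hn : n ≫ Γ = h' := IsClosedImmersion.lift_fac _ _ _
    refine ⟨n, ?_, ?_⟩
    · change n ≫ ψ = t
      rw [← hΓsnd, reassoc_of% hn, pullback.lift_snd]
    · intro n' hn'
      change n' ≫ ψ = t at hn'
      have hmono : Mono Γ := inferInstance
      rw [← cancel_mono Γ, hn]
      apply pullback.hom_ext
      · rw [Category.assoc, hΓfst, pullback.lift_fst]
        apply hmuniq
        rw [Category.assoc, hcomm, reassoc_of% hn']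
      · rw [Category.assoc, hΓsnd, pullback.lift_snd, hn']

/-- The graph of a quasi-domination `ψ : W ⟶ V` over a quasi-domination `φ : V ⟶ X`, viewed in
`X̃ ×_S Y` (with `V ⊆ Y` open), is still closed. -/
theorem isClosed_range_lift {S X Y Xt : Scheme.{u}} (gX : X ⟶ S) (gY : Y ⟶ S) (b : Xt ⟶ X)
    (V : Y.Opens) (φ : (V : Scheme.{u}) ⟶ X) (hφ : V.ι ≫ gY = φ ≫ gX)
    (hφcl : IsClosed (Set.range (pullback.lift V.ι φ hφ)))
    (W : Xt.Opens) (ψ : (W : Scheme.{u}) ⟶ (V : Scheme.{u}))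
    (hψ : W.ι ≫ b ≫ gX = ψ ≫ V.ι ≫ gY) (hcomm : W.ι ≫ b = ψ ≫ φ)
    (hψcl : IsClosed (Set.range (pullback.lift W.ι ψ hψ)))
    (h' : W.ι ≫ b ≫ gX = (ψ ≫ V.ι) ≫ gY) :
    IsClosed (Set.range (pullback.lift (f := b ≫ gX) (g := gY) W.ι (ψ ≫ V.ι) h')) := by
  set Γ := pullback.lift W.ι ψ hψ with hΓ
  set Γ₂ := pullback.lift (f := b ≫ gX) (g := gY) W.ι (ψ ≫ V.ι) h' with hΓ₂
  set Γφ := pullback.lift V.ι φ hφ with hΓφ
  let e : pullback (b ≫ gX) (V.ι ≫ gY) ⟶ pullback (b ≫ gX) gY :=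
    pullback.lift (pullback.fst _ _) (pullback.snd _ _ ≫ V.ι)
      (by rw [pullback.condition, Category.assoc])
  let β : pullback (b ≫ gX) gY ⟶ pullback gY gX :=
    pullback.lift (pullback.snd _ _) (pullback.fst _ _ ≫ b)
      (by rw [Category.assoc, ← pullback.condition])
  have he1 : e ≫ pullback.fst (b ≫ gX) gY = pullback.fst _ _ := pullback.lift_fst _ _ _
  have he2 : e ≫ pullback.snd (b ≫ gX) gY = pullback.snd _ _ ≫ V.ι := pullback.lift_snd _ _ _
  have hΓe : Γ ≫ e = Γ₂ := by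
    apply pullback.hom_ext
    · rw [Category.assoc, he1, pullback.lift_fst, pullback.lift_fst]
    · rw [Category.assoc, he2, pullback.lift_snd_assoc, pullback.lift_snd]
  have hΓβ : Γ₂ ≫ β = ψ ≫ Γφ := by
    apply pullback.hom_ext
    · simp only [β, Category.assoc, pullback.lift_fst, pullback.lift_snd, Γ₂, Γφ]
    · simp only [β, Category.assoc, pullback.lift_snd, Γ₂, Γφ, pullback.lift_fst_assoc]
      exact hcomm
  have H : IsPullback e (pullback.snd (b ≫ gX) (V.ι ≫ gY)) (pullback.snd (b ≫ gX) gY) V.ι := by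
    refine IsPullback.of_right ?_ he2 (IsPullback.of_hasPullback (b ≫ gX) gY)
    rw [he1]
    exact IsPullback.of_hasPullback (b ≫ gX) (V.ι ≫ gY)
  have heOI : IsOpenImmersion e :=
    MorphismProperty.of_isPullback (P := @IsOpenImmersion) H.flip inferInstance
  -- the closed set `C`
  have hC : IsClosed (β ⁻¹' Set.range Γφ) := hφcl.preimage β.continuous
  have hsub : Set.range Γ₂ ⊆ β ⁻¹' Set.range Γφ := by
    rintro _ ⟨w, rfl⟩
    refine ⟨ψ w, ?_⟩
    rw [← Scheme.Hom.comp_apply, ← hΓβ, Scheme.Hom.comp_apply]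
  rw [← closure_subset_iff_isClosed]
  intro q hq
  obtain ⟨v, hv⟩ := closure_minimal hsub hC hq
  have hqV : (pullback.snd (b ≫ gX) gY) q = V.ι v := by
    have h1 : (pullback.fst gY gX) (β q) = (pullback.snd (b ≫ gX) gY) q := by
      rw [← Scheme.Hom.comp_apply, pullback.lift_fst]
    have h2 : (pullback.fst gY gX) (Γφ v) = V.ι v := by
      rw [← Scheme.Hom.comp_apply, pullback.lift_fst]
    rw [← h1, ← hv, h2]
  obtain ⟨p, hp, -⟩ := Scheme.exists_preimage_of_isPullback H q v hqV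
  have hpcl : p ∈ closure (Set.range Γ) := by
    rw [e.isOpenEmbedding.isInducing.closure_eq_preimage_closure_image]
    have h3 : e '' Set.range Γ = Set.range Γ₂ := by
      rw [← Set.range_comp, ← hΓe]
      rfl
    rw [h3]
    change e p ∈ closure (Set.range Γ₂)
    rw [hp]
    exact hq
  rw [hψcl.closure_eq] at hpcl
  obtain ⟨w, rfl⟩ := hpcl
  exact ⟨w, by rw [← hp, ← hΓe, Scheme.Hom.comp_apply]⟩

end Groth.Agent.Lib.QuasiDomBlowUp68
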