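import Mathlib

/-!
# Faithfully flat descent of quasi-finiteness (helper36)

* `Algebra.QuasiFinite.of_tensorProduct_of_faithfullyFlat`
* `RingHom.QuasiFinite.codescendsAlong_faithfullyFlat`
* instance `LocallyQuasiFinite.DescendsAlong (Surjective ⊓ Flat ⊓ QuasiCompact)`
-/

universe u

open TensorProduct

namespace Groth.Agent.Lib.QuasiFiniteDescent

attribute [local instance] Module.Free.instFaithfulSMulOfNontrivial in
lemma quasiFinite_of_tensorProduct_of_faithfullyFlat
    {R S : Type*} [CommRing R] [CommRing S] [Algebra R S] (T : Type*) [CommRing T] [Algebra R T]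
    [Module.FaithfullyFlat R T] [Algebra.QuasiFinite T (T ⊗[R] S)] : Algebra.QuasiFinite R S := by
  refine ⟨fun p hp ↦ ?_⟩
  obtain ⟨P, hP, hPp⟩ := Ideal.exists_isPrime_liesOver_of_faithfullyFlat (B := T) p
  obtain rfl : p = P.under R := hPp.over
  let p := P.under R
  let := Localization.AtPrime.algebraOfLiesOver p P
  let e : P.Fiber (T ⊗[R] S) ≃ₐ[P.ResidueField] P.ResidueField ⊗[p.ResidueField] (p.Fiber S) :=
    (Algebra.TensorProduct.cancelBaseChange _ _ _ _ _).trans
      (Algebra.TensorProduct.cancelBaseChange _ _ _ _ _).symm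
  have : Module.Finite P.ResidueField (P.ResidueField ⊗[p.ResidueField] (p.Fiber S)) :=
    .of_surjective e.toLinearMap e.surjective
  exact Module.Finite.of_finite_tensorProduct_of_faithfullyFlat P.ResidueField

lemma quasiFinite_codescendsAlong_faithfullyFlat :
    RingHom.CodescendsAlong RingHom.QuasiFinite RingHom.FaithfullyFlat := by
  refine .mk _ RingHom.QuasiFinite.respectsIso fun R S T _ _ _ _ _ h h' ↦ ?_
  rw [RingHom.quasiFinite_algebraMap] at h' ⊢
  rw [RingHom.faithfullyFlat_algebraMap_iff] at h
  exact quasiFinite_of_tensorProduct_of_faithfullyFlat S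

open AlgebraicGeometry CategoryTheory

instance locallyQuasiFinite_descendsAlong_fpqc :
    MorphismProperty.DescendsAlong (@LocallyQuasiFinite)
      (@Surjective ⊓ @Flat ⊓ @QuasiCompact) :=
  HasRingHomProperty.descendsAlong_flat quasiFinite_codescendsAlong_faithfullyFlat

instance lqf_lft_descendsAlong_fpqc :
    MorphismProperty.DescendsAlong (@LocallyQuasiFinite ⊓ @LocallyOfFiniteType)
      (@Surjective ⊓ @Flat ⊓ @QuasiCompact) := inferInstance

end Groth.Agent.Lib.QuasiFiniteDescent
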