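import Groth.Prelude.Def_FDesc
import Groth.Agent.Lib.CohFinite
import Mathlib.RingTheory.Flat.FaithfullyFlat.Basic
import Mathlib.RingTheory.Spectrum.Prime.RingHom
import Mathlib.RingTheory.Nakayama
import Mathlib.AlgebraicGeometry.Stalk

/-!
# Quasi-flat morphisms are generalizing

* `faithfullyFlat_of_finite_of_flat`: `R → A` local hom of local rings, `M` a nonzero finite
  `A`-module flat over `R` ⇒ `M` faithfully flat over `R`.
* `comap_surjective_of_finite_of_flat`: in that situation `Spec A → Spec R` is surjective.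
* `generalizingMap_of_isQuasiFlat`: `FDesc.IsQuasiFlat f → GeneralizingMap f`.
-/

set_option autoImplicit false
open TensorProduct CategoryTheory AlgebraicGeometry
universe u

namespace Groth.Agent.Lib.QuasiFlatGen

section Algebra
variable {R A M : Type*} [CommRing R] [CommRing A] [IsLocalRing R] [IsLocalRing A] [Algebra R A]
  [IsLocalHom (algebraMap R A)] [AddCommGroup M] [Module A M] [Module R M] [IsScalarTower R A M]
  [Module.Finite A M] [Nontrivial M] [Module.Flat R M]

include A in
theorem faithfullyFlat_of_finite_of_flat : Module.FaithfullyFlat R M := by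
  refine ⟨fun m hm h => ?_⟩
  have hm' : m = IsLocalRing.maximalIdeal R := IsLocalRing.eq_maximalIdeal hm
  have hle : (⊤ : Submodule A M) ≤ IsLocalRing.maximalIdeal A • (⊤ : Submodule A M) := by
    intro x _
    have hx : x ∈ m • (⊤ : Submodule R M) := by rw [h]; trivial
    refine Submodule.smul_induction_on hx ?_ ?_
    · intro r hr n _
      rw [← algebraMap_smul A r n]
      refine Submodule.smul_mem_smul ?_ trivial
      rw [hm'] at hr
      exact map_nonunit (algebraMap R A) r hr
    · intro a b ha hb
      exact Submodule.add_mem _ ha hb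
  have := Submodule.eq_bot_of_le_smul_of_le_jacobson_bot (IsLocalRing.maximalIdeal A)
    (⊤ : Submodule A M) Module.Finite.fg_top hle (IsLocalRing.maximalIdeal_le_jacobson _)
  exact top_ne_bot this

include M in
theorem comap_surjective_of_finite_of_flat :
    Function.Surjective (PrimeSpectrum.comap (algebraMap R A)) := by
  intro q
  have hff : Module.FaithfullyFlat R M := faithfullyFlat_of_finite_of_flat (A := A)
  rw [← Set.mem_range, ← PrimeSpectrum.nontrivial_iff_mem_rangeComap]
  by_contra hnt
  rw [not_nontrivial_iff_subsingleton] at hnt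
  have h1 : Subsingleton (A ⊗[R] q.asIdeal.ResidueField) :=
    (TensorProduct.comm R A q.asIdeal.ResidueField).toEquiv.subsingleton
  have h2 : Subsingleton (M ⊗[A] (A ⊗[R] q.asIdeal.ResidueField)) := inferInstance
  have h3 : Subsingleton (M ⊗[R] q.asIdeal.ResidueField) :=
    (AlgebraTensorModule.cancelBaseChange R A A M q.asIdeal.ResidueField).symm.toEquiv.subsingleton
  have h4 : Nontrivial (M ⊗[R] q.asIdeal.ResidueField) := inferInstance
  exact not_subsingleton _ h3

end Algebra

/-- A quasi-flat morphism is generalizing. -/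
theorem generalizingMap_of_isQuasiFlat {X Y : Scheme.{u}} (f : X ⟶ Y) (hf : FDesc.IsQuasiFlat f) :
    GeneralizingMap f := by
  obtain ⟨M, hcoh, hflat, hnt⟩ := hf
  intro x y' hy'
  have hfin : Module.Finite (X.presheaf.stalk x) (M.presheaf.stalk x) :=
    Groth.Agent.Lib.CohFinite.finite_stalk_of_isCoh M hcoh x
  have hn := hnt x
  let _ : Algebra (Y.presheaf.stalk (f x)) (X.presheaf.stalk x) := (f.stalkMap x).hom.toAlgebra
  let _ := FlatMod.moduleStalkOver f M x
  have hfl : Module.Flat (Y.presheaf.stalk (f x)) (M.presheaf.stalk x) := hflat x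
  have hst : IsScalarTower (Y.presheaf.stalk (f x)) (X.presheaf.stalk x) (M.presheaf.stalk x) :=
    ⟨fun r a m => mul_smul _ a m⟩
  have hloc : IsLocalHom (algebraMap (Y.presheaf.stalk (f x)) (X.presheaf.stalk x)) := by
    change IsLocalHom (f.stalkMap x).hom
    infer_instance
  have hsurj := comap_surjective_of_finite_of_flat (R := Y.presheaf.stalk (f x))
    (A := X.presheaf.stalk x) (M := M.presheaf.stalk x)
  obtain ⟨q, hq⟩ : y' ∈ Set.range (Y.fromSpecStalk (f x)) := by
    rw [Scheme.range_fromSpecStalk]; exact hy'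
  obtain ⟨p, hp⟩ : ∃ p : ↥(Spec (X.presheaf.stalk x)), Spec.map (f.stalkMap x) p = q :=
    hsurj q
  refine ⟨X.fromSpecStalk x p, ?_, ?_⟩
  · have : X.fromSpecStalk x p ∈ Set.range (X.fromSpecStalk x) := ⟨p, rfl⟩
    rw [Scheme.range_fromSpecStalk] at this
    exact this
  · rw [← Scheme.Hom.comp_apply, ← Scheme.SpecMap_stalkMap_fromSpecStalk, Scheme.Hom.comp_apply,
      ← hq, hp]

end Groth.Agent.Lib.QuasiFlatGen
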