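import Mathlib.Algebra.Homology.HomologySequenceLemmas

/-!
# Two-out-of-three for quasi-isomorphisms between short exact sequences of complexes

Mathlib has `HomologicalComplex.HomologySequence.quasiIso_τ₃`; we add the `τ₁` and `τ₂` versions.
-/

set_option autoImplicit false

namespace Groth.Agent.Lib.QuasiIso23

open CategoryTheory ComposableArrows Abelian HomologicalComplex
open HomologicalComplex.HomologySequence

variable {C ι : Type*} [Category C] [Abelian C] {c : ComplexShape ι}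
  {S₁ S₂ : ShortComplex (HomologicalComplex C c)} (φ : S₁ ⟶ S₂)
  (hS₁ : S₁.ShortExact) (hS₂ : S₂.ShortExact)

include hS₁ hS₂

lemma mono_homologyMap_τ₂ (j : ι)
    (h₀ : ∀ i, c.Rel i j → Epi (homologyMap φ.τ₃ i))
    (h₁ : Mono (homologyMap φ.τ₁ j))
    (h₃ : Mono (homologyMap φ.τ₃ j)) :
    Mono (homologyMap φ.τ₂ j) := by
  by_cases hj : ∃ i, c.Rel i j
  · obtain ⟨i, hij⟩ := hj
    apply mono_of_epi_of_mono_of_mono
      ((δ₀Functor ⋙ δ₀Functor).map (mapComposableArrows₅ φ hS₁ hS₂ i j hij))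
    · exact (composableArrows₅_exact hS₁ i j hij).δ₀.δ₀
    · exact (composableArrows₅_exact hS₂ i j hij).δ₀.δ₀
    · exact h₀ i hij
    · exact h₁
    · exact h₃
  · have := hS₂.mono_f
    have : Mono (homologyMap S₂.f j) :=
      mono_homologyMap_of_mono_of_not_rel S₂.f j (by simpa using hj)
    exact mono_of_mono_of_mono_of_mono (mapComposableArrows₂ φ j)
      (composableArrows₂_exact hS₁ j) this h₁ h₃

lemma epi_homologyMap_τ₂ (j : ι)
    (h₁ : Epi (homologyMap φ.τ₁ j))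
    (h₃ : Epi (homologyMap φ.τ₃ j))
    (h₄ : ∀ k, c.Rel j k → Mono (homologyMap φ.τ₁ k)) :
    Epi (homologyMap φ.τ₂ j) := by
  by_cases hj : ∃ k, c.Rel j k
  · obtain ⟨k, hjk⟩ := hj
    apply epi_of_epi_of_epi_of_mono
      ((δlastFunctor ⋙ δlastFunctor).map (mapComposableArrows₅ φ hS₁ hS₂ j k hjk))
    · exact (composableArrows₅_exact hS₁ j k hjk).δlast.δlast
    · exact (composableArrows₅_exact hS₂ j k hjk).δlast.δlast
    · exact h₁
    · exact h₃
    · exact h₄ k hjk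
  · have := hS₁.epi_g
    have : Epi (homologyMap S₁.g j) :=
      epi_homologyMap_of_epi_of_not_rel S₁.g j (by simpa using hj)
    exact epi_of_epi_of_epi_of_epi (mapComposableArrows₂ φ j)
      (composableArrows₂_exact hS₂ j) this h₁ h₃

lemma isIso_homologyMap_τ₂ (j : ι)
    (h₀ : ∀ i, c.Rel i j → Epi (homologyMap φ.τ₃ i))
    (h₁ : IsIso (homologyMap φ.τ₁ j))
    (h₃ : IsIso (homologyMap φ.τ₃ j))
    (h₄ : ∀ k, c.Rel j k → Mono (homologyMap φ.τ₁ k)) :
    IsIso (homologyMap φ.τ₂ j) := by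
  have := mono_homologyMap_τ₂ φ hS₁ hS₂ j h₀ inferInstance inferInstance
  have := epi_homologyMap_τ₂ φ hS₁ hS₂ j inferInstance inferInstance h₄
  apply isIso_of_mono_of_epi

lemma quasiIso_τ₂ (h₁ : QuasiIso φ.τ₁) (h₃ : QuasiIso φ.τ₃) :
    QuasiIso φ.τ₂ := by
  rw [quasiIso_iff]
  intro i
  rw [quasiIsoAt_iff_isIso_homologyMap]
  apply isIso_homologyMap_τ₂ φ hS₁ hS₂
  all_goals infer_instance

lemma mono_homologyMap_τ₁ (j : ι)
    (h₀ : ∀ i, c.Rel i j → Epi (homologyMap φ.τ₂ i))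
    (h₁ : ∀ i, c.Rel i j → Mono (homologyMap φ.τ₃ i))
    (h₃ : Mono (homologyMap φ.τ₂ j)) :
    Mono (homologyMap φ.τ₁ j) := by
  by_cases hj : ∃ i, c.Rel i j
  · obtain ⟨i, hij⟩ := hj
    apply mono_of_epi_of_mono_of_mono
      ((δ₀Functor ⋙ δlastFunctor).map (mapComposableArrows₅ φ hS₁ hS₂ i j hij))
    · exact (composableArrows₅_exact hS₁ i j hij).δ₀.δlast
    · exact (composableArrows₅_exact hS₂ i j hij).δ₀.δlast
    · exact h₀ i hij
    · exact h₁ i hij
    · exact h₃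
  · have := hS₁.mono_f
    have : Mono (homologyMap S₁.f j) :=
      mono_homologyMap_of_mono_of_not_rel S₁.f j (by simpa using hj)
    have eq : homologyMap φ.τ₁ j ≫ homologyMap S₂.f j = homologyMap S₁.f j ≫ homologyMap φ.τ₂ j := by
      rw [← homologyMap_comp, ← homologyMap_comp, φ.comm₁₂]
    have : Mono (homologyMap φ.τ₁ j ≫ homologyMap S₂.f j) := by
      rw [eq]
      infer_instance
    exact mono_of_mono (homologyMap φ.τ₁ j) (homologyMap S₂.f j)

lemma epi_homologyMap_τ₁ (j : ι)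
    (h₀ : ∀ i, c.Rel i j → Epi (homologyMap φ.τ₃ i))
    (h₂ : Epi (homologyMap φ.τ₂ j))
    (h₃ : Mono (homologyMap φ.τ₃ j)) :
    Epi (homologyMap φ.τ₁ j) := by
  by_cases hj : ∃ i, c.Rel i j
  · obtain ⟨i, hij⟩ := hj
    apply epi_of_epi_of_epi_of_mono
      ((δ₀Functor ⋙ δ₀Functor).map (mapComposableArrows₅ φ hS₁ hS₂ i j hij))
    · exact (composableArrows₅_exact hS₁ i j hij).δ₀.δ₀
    · exact (composableArrows₅_exact hS₂ i j hij).δ₀.δ₀
    · exact h₀ i hij
    · exact h₂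
    · exact h₃
  · have := hS₂.mono_f
    have : Mono (homologyMap S₂.f j) :=
      mono_homologyMap_of_mono_of_not_rel S₂.f j (by simpa using hj)
    exact epi_of_mono_of_epi_of_mono (mapComposableArrows₂ φ j)
      (composableArrows₂_exact hS₁ j) (composableArrows₂_exact hS₂ j) this h₂ h₃

lemma isIso_homologyMap_τ₁ (j : ι)
    (h₀ : ∀ i, c.Rel i j → Epi (homologyMap φ.τ₂ i))
    (h₁ : ∀ i, c.Rel i j → IsIso (homologyMap φ.τ₃ i))
    (h₂ : IsIso (homologyMap φ.τ₂ j))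
    (h₃ : Mono (homologyMap φ.τ₃ j)) :
    IsIso (homologyMap φ.τ₁ j) := by
  have := mono_homologyMap_τ₁ φ hS₁ hS₂ j h₀ (fun i hij => by
    have := h₁ i hij
    infer_instance) inferInstance
  have := epi_homologyMap_τ₁ φ hS₁ hS₂ j (fun i hij => by
    have := h₁ i hij
    infer_instance) inferInstance h₃
  apply isIso_of_mono_of_epi

lemma quasiIso_τ₁ (h₂ : QuasiIso φ.τ₂) (h₃ : QuasiIso φ.τ₃) :
    QuasiIso φ.τ₁ := by
  rw [quasiIso_iff]
  intro i
  rw [quasiIsoAt_iff_isIso_homologyMap]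
  apply isIso_homologyMap_τ₁ φ hS₁ hS₂
  all_goals infer_instance

end Groth.Agent.Lib.QuasiIso23
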