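import Groth.Agent.S5803

/-!
# Quasi-regular sequences in Noetherian rings are regular near `V(I)` (helper19)

For a quasi-regular family `f` in a Noetherian ring `A` with `I = (f)`, there is `g ∈ 1 + I` such that the
images of `f` form a weakly regular sequence in every localization of `A` away from `g`.
(No Jacobson-radical hypothesis; this is the "spreading out" form of Matsumura 16.3 / EGA 0_IV 15.1.11.)
-/

universe u

open MvPolynomial Groth.Agent.Lib.QuasiReg97 RingTheory.Sequence
open scoped Pointwise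

namespace Groth.Agent.Lib.QuasiRegLoc

/-- Krull intersection theorem, uniform form: some `g ∈ 1 + I` kills `⋂ I^i`. -/
theorem exists_uniform_killer {A : Type u} [CommRing A] [IsNoetherianRing A] (I : Ideal A) :
    ∃ g : A, g - 1 ∈ I ∧ ∀ a : A, (∀ i : ℕ, a ∈ I ^ i) → g * a = 0 := by
  let N : Submodule A A := ⨅ i : ℕ, I ^ i • ⊤
  have hle : N ≤ I • N := by
    obtain ⟨k, hk⟩ := Ideal.exists_pow_inf_eq_pow_smul I N
    have h1 := hk (k + 1) (Nat.le_succ k)
    have hN : ∀ j, I ^ j • (⊤ : Submodule A A) ⊓ N = N := fun j =>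
      inf_eq_right.mpr (iInf_le _ j)
    rw [hN, hN, Nat.add_sub_cancel_left, pow_one] at h1
    exact le_of_eq h1
  obtain ⟨g, hg1, hg⟩ := Submodule.exists_sub_one_mem_and_smul_eq_zero_of_fg_of_le_smul I N
    (IsNoetherian.noetherian N) hle
  refine ⟨g, hg1, fun a ha => ?_⟩
  have haN : a ∈ N := by
    rw [Submodule.mem_iInf]
    intro i
    simpa using ha i
  simpa using hg a haN

/-- the main induction: a quasi-regular family is "regular up to powers of some `g ∈ 1 + I`" -/
theorem exists_loc : ∀ (c : ℕ) (A : Type u) [CommRing A] [IsNoetherianRing A] (f : Fin c → A),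
    (∀ n, QRn f n) → ∃ g : A, g - 1 ∈ Ideal.span (Set.range f) ∧
      ∀ (i : ℕ) (hi : i < c) (a : A), f ⟨i, hi⟩ * a ∈ Ideal.ofList ((List.ofFn f).take i) →
        ∃ n : ℕ, g ^ n * a ∈ Ideal.ofList ((List.ofFn f).take i) := by
  intro c
  induction c with
  | zero =>
    intro A _ _ f _
    exact ⟨1, by simp, fun i hi => absurd hi (Nat.not_lt_zero i)⟩
  | succ c ih =>
    intro A _ _ f hq
    set I : Ideal A := Ideal.span (Set.range f) with hI
    obtain ⟨g0, hg01, hg0⟩ := exists_uniform_killer I
    -- the quotient ring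
    have hq' := Groth.Agent.S5803.qrn_quotient (0 : Fin (c + 1)) Fin.succ (Fin.succ_injective c)
      (fun j hj => ⟨j.pred hj, Fin.succ_pred j hj⟩)
      (by rintro ⟨j, hj⟩; exact Fin.succ_ne_zero j hj) f hq
    obtain ⟨gbar, hgbar1, hgbar⟩ := ih (A ⧸ Ideal.span {f 0}) _ hq'
    obtain ⟨g', rfl⟩ := Ideal.Quotient.mk_surjective gbar
    have hspanbar : Ideal.span (Set.range (fun t : Fin c =>
        Ideal.Quotient.mk (Ideal.span {f 0}) (f t.succ))) =
        Ideal.map (Ideal.Quotient.mk (Ideal.span {f 0}))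
          (Ideal.span (Set.range (fun t : Fin c => f t.succ))) := by
      rw [Ideal.map_span, ← Set.range_comp]
      rfl
    have hsucc_le : Ideal.span (Set.range (fun t : Fin c => f t.succ)) ≤ I :=
      Ideal.span_mono (by rintro _ ⟨t, rfl⟩; exact ⟨t.succ, rfl⟩)
    have hf0 : Ideal.span {f 0} ≤ I :=
      (Ideal.span_singleton_le_iff_mem _).2 (Ideal.subset_span ⟨0, rfl⟩)
    have hg'1 : g' - 1 ∈ I := by
      have h1 : Ideal.Quotient.mk (Ideal.span {f 0}) (g' - 1) ∈
          Ideal.map (Ideal.Quotient.mk (Ideal.span {f 0}))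
            (Ideal.span (Set.range (fun t : Fin c => f t.succ))) := by
        rw [← hspanbar, map_sub, map_one]
        exact hgbar1
      rw [Ideal.mem_quotient_iff_mem_sup] at h1
      exact (sup_le hsucc_le hf0) h1
    refine ⟨g0 * g', ?_, ?_⟩
    · have : g0 * g' - 1 = g0 * (g' - 1) + (g0 - 1) := by ring
      rw [this]
      exact Ideal.add_mem _ (Ideal.mul_mem_left _ _ hg'1) hg01
    · intro i hi a ha
      cases i with
      | zero =>
        refine ⟨1, ?_⟩
        rw [List.take_zero, Ideal.ofList_nil, Ideal.mem_bot] at ha ⊢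
        have h1 : ∀ j, a ∈ I ^ j := fun j =>
          Groth.Agent.S5803.mem_pow_of_gen_mul_mem f hq 0 j a (by
            have : f 0 * a = 0 := ha
            rw [this]; exact Ideal.zero_mem _)
        rw [pow_one, mul_right_comm, hg0 a h1, zero_mul]
      | succ i =>
        have hi' : i < c := by omega
        have htake : (List.ofFn f).take (i + 1) =
            f 0 :: (List.ofFn (fun t : Fin c => f t.succ)).take i := by
          rw [List.ofFn_succ, List.take_succ_cons]
        rw [htake, Ideal.ofList_cons] at ha ⊢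
        set J' : Ideal A := Ideal.ofList ((List.ofFn (fun t : Fin c => f t.succ)).take i) with hJ'
        have hbarJ : Ideal.ofList ((List.ofFn (fun t : Fin c =>
            Ideal.Quotient.mk (Ideal.span {f 0}) (f t.succ))).take i) =
            Ideal.map (Ideal.Quotient.mk (Ideal.span {f 0})) J' := by
          rw [hJ', Ideal.map_ofList, List.map_take, List.map_ofFn]
          rfl
        have h1 : Ideal.Quotient.mk (Ideal.span {f 0}) (f (Fin.succ ⟨i, hi'⟩)) *
            Ideal.Quotient.mk (Ideal.span {f 0}) a ∈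
            Ideal.ofList ((List.ofFn (fun t : Fin c =>
              Ideal.Quotient.mk (Ideal.span {f 0}) (f t.succ))).take i) := by
          rw [hbarJ, ← map_mul, Ideal.mem_quotient_iff_mem_sup, sup_comm]
          exact ha
        obtain ⟨n, hn⟩ := hgbar i hi' _ h1
        refine ⟨n, ?_⟩
        rw [hbarJ, ← map_pow, ← map_mul, Ideal.mem_quotient_iff_mem_sup, sup_comm] at hn
        have : (g0 * g') ^ n * a = g0 ^ n * (g' ^ n * a) := by ring
        rw [this]
        exact Ideal.mul_mem_left _ _ hn


/-- "regular up to powers of `g`" gives weak regularity in any localization away from `g` -/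
theorem isWeaklyRegular_map_of_away {A : Type u} [CommRing A] {c : ℕ} (f : Fin c → A) (g : A)
    (hg : ∀ (i : ℕ) (hi : i < c) (a : A), f ⟨i, hi⟩ * a ∈ Ideal.ofList ((List.ofFn f).take i) →
      ∃ n : ℕ, g ^ n * a ∈ Ideal.ofList ((List.ofFn f).take i))
    (A' : Type u) [CommRing A'] [Algebra A A'] [IsLocalization.Away g A'] :
    IsWeaklyRegular A' ((List.ofFn f).map (algebraMap A A')) := by
  rw [isWeaklyRegular_iff_Fin]
  intro i
  have hic : (i : ℕ) < c := by
    have := i.2
    simpa using this
  set J : Ideal A := Ideal.ofList ((List.ofFn f).take i) with hJ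
  have hJ' : Ideal.ofList (((List.ofFn f).map (algebraMap A A')).take i) =
      Ideal.map (algebraMap A A') J := by
    rw [hJ, Ideal.map_ofList, List.map_take]
  have hri : ((List.ofFn f).map (algebraMap A A'))[i] = algebraMap A A' (f ⟨i, hic⟩) := by
    simp
  have hu : IsUnit (algebraMap A A' g) := IsLocalization.Away.algebraMap_isUnit g
  rw [isSMulRegular_iff_right_eq_zero_of_smul]
  intro x hx
  obtain ⟨x', rfl⟩ := Submodule.mkQ_surjective _ x
  rw [Submodule.mkQ_apply, ← Submodule.Quotient.mk_smul, Submodule.Quotient.mk_eq_zero] at hx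
  rw [Submodule.mkQ_apply, Submodule.Quotient.mk_eq_zero]
  rw [hJ', smul_eq_mul, Ideal.mul_top] at hx ⊢
  rw [hri, smul_eq_mul] at hx
  obtain ⟨n0, a, hxa⟩ := IsLocalization.Away.surj g x'
  -- `φ (r a) ∈ J'`
  have h1 : algebraMap A A' (f ⟨i, hic⟩ * a) ∈ Ideal.map (algebraMap A A') J := by
    rw [map_mul, ← hxa, ← mul_assoc]
    exact Ideal.mul_mem_right _ _ hx
  obtain ⟨m, hm, hmem⟩ := (IsLocalization.algebraMap_mem_map_algebraMap_iff
    (Submonoid.powers g) A' J _).mp h1
  obtain ⟨k, rfl⟩ := hm
  have h2 : f ⟨i, hic⟩ * (g ^ k * a) ∈ J := by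
    have : f ⟨i, hic⟩ * (g ^ k * a) = g ^ k * (f ⟨i, hic⟩ * a) := by ring
    rw [this]; exact hmem
  obtain ⟨n, hn⟩ := hg i hic _ h2
  have h3 : algebraMap A A' g ^ (n + k) * (x' * algebraMap A A' g ^ n0) ∈
      Ideal.map (algebraMap A A') J := by
    rw [hxa, ← map_pow, ← map_mul]
    apply Ideal.mem_map_of_mem
    have : g ^ (n + k) * a = g ^ n * (g ^ k * a) := by ring
    rw [this]; exact hn
  have h4 : algebraMap A A' g ^ (n + k + n0) * x' ∈ Ideal.map (algebraMap A A') J := by
    have : algebraMap A A' g ^ (n + k + n0) * x' =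
        algebraMap A A' g ^ (n + k) * (x' * algebraMap A A' g ^ n0) := by ring
    rw [this]; exact h3
  have hu' : IsUnit (algebraMap A A' g ^ (n + k + n0)) := hu.pow _
  obtain ⟨u, hu''⟩ := hu'
  have := Ideal.mul_mem_left _ (↑u⁻¹ : A') h4
  rwa [← hu'', ← mul_assoc, Units.inv_mul, one_mul] at this

/-- **Quasi-regular ⇒ regular near `V(I)`** (Noetherian rings): for a quasi-regular list `rs` with
`I = (rs)` there is `g ∈ 1 + I` such that the image of `rs` in every localization away from `g` is a
weakly regular sequence. -/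
theorem exists_isWeaklyRegular_map_of_isQuasiRegular {A : Type u} [CommRing A] [IsNoetherianRing A]
    (rs : List A) (hq : CAlgX.IsQuasiRegular rs.get) :
    ∃ g : A, g - 1 ∈ Ideal.ofList rs ∧ ∀ (A' : Type u) [CommRing A'] [Algebra A A']
      [IsLocalization.Away g A'], IsWeaklyRegular A' (rs.map (algebraMap A A')) := by
  have hqr : ∀ n, QRn rs.get n := fun n P hP hev => (MvPolynomial.mem_map_C_iff).2 (hq n P hP hev)
  obtain ⟨g, hg1, hg⟩ := exists_loc rs.length A rs.get hqr
  have hspan : Ideal.span (Set.range rs.get) = Ideal.ofList rs := by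
    show _ = Ideal.span {x | x ∈ rs}
    congr 1
    ext x
    simp [List.mem_iff_get]
  refine ⟨g, hspan ▸ hg1, fun A' _ _ _ => ?_⟩
  have := isWeaklyRegular_map_of_away rs.get g hg A'
  rwa [List.ofFn_get] at this

end Groth.Agent.Lib.QuasiRegLoc
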