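import Groth.Agent.Lib.RegImmFlatBC
import Groth.Agent.Lib.QuasiRegLoc
import Groth.Agent.Lib.RegSeqFibre64
import Groth.Agent.S9272

set_option autoImplicit false
set_option maxHeartbeats 400000
set_option linter.style.haveILetI false
universe u
open TensorProduct RingTheory.Sequence
open scoped Pointwise

/-!
# Quasi-regular sequences with flat quotient lift over locally nilpotent ideals (helper64)

Stacks 0CER-type: `A' → B'` flat of finite presentation, `I ⊆ A'` locally nilpotent, `f'` in `B'`
whose images in `B'/IB'` are quasi-regular with `A'/I`-flat quotient; then `B'/(f')` is `A'`-flat.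

* `isQuasiRegular_ringEquiv`, `isWeaklyRegular_of_isQuasiRegular` (Noetherian local: quasi-regular in
  the maximal ideal ⇒ regular), `isNoetherianRing_quotient_mS` (closed fibre of an ess. f.p. local
  algebra is Noetherian).
* `isQuasiRegular_doubleQuot`: base change of quasi-regular with flat quotient to `A'/𝔭'` (via
  helper89's S9272).
* `isWeaklyRegular_closedFibre`: the images of `f'` form a weakly regular sequence on
  `B'_{𝔮'}/𝔭'B'_{𝔮'}`.
* `flat_localized_quotient`: variant of `RegSeqFibre64.main`.
* `flat_quotient`: the statement above (= S9270).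
-/

namespace Groth.Agent.Lib.QuasiRegFibre64

open Groth.Agent.Lib.RegImmFlatBC Groth.Agent.Lib.RegElemFlat64

/-- Quasi-regularity is transported by ring isomorphisms. -/
theorem isQuasiRegular_ringEquiv {P P' : Type u} [CommRing P] [CommRing P'] (e : P ≃+* P')
    {c : ℕ} (f : Fin c → P) (hf : CAlgX.IsQuasiRegular f) :
    CAlgX.IsQuasiRegular (fun i => e (f i)) := by
  letI : Algebra P P' := e.toRingHom.toAlgebra
  haveI : Module.Flat P P' := RingHom.Flat.of_bijective (f := e.toRingHom) e.bijective
  exact isQuasiRegular_map_of_flat f hf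

/-- In a Noetherian local ring a quasi-regular family contained in the maximal ideal is a
(weakly) regular sequence. -/
theorem isWeaklyRegular_of_isQuasiRegular {P : Type u} [CommRing P] [IsNoetherianRing P]
    [IsLocalRing P] {c : ℕ} (f : Fin c → P) (hf : CAlgX.IsQuasiRegular f)
    (hm : ∀ i, f i ∈ IsLocalRing.maximalIdeal P) :
    IsWeaklyRegular P (List.ofFn f) := by
  have hq : CAlgX.IsQuasiRegular (List.ofFn f).get :=
    of_get_eq (fun c f => CAlgX.IsQuasiRegular f) (List.ofFn f) c f (List.length_ofFn)
      (fun i => by simp [Fin.cast]) hf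
  obtain ⟨g, hg1, hg⟩ :=
    Groth.Agent.Lib.QuasiRegLoc.exists_isWeaklyRegular_map_of_isQuasiRegular (List.ofFn f) hq
  have hle : Ideal.ofList (List.ofFn f) ≤ IsLocalRing.maximalIdeal P := by
    rw [Ideal.ofList, Ideal.span_le]
    intro x hx
    obtain ⟨i, rfl⟩ := (List.mem_ofFn' f x).mp hx
    exact hm i
  have hgu : IsUnit g := by
    by_contra hnu
    have h1 : g ∈ IsLocalRing.maximalIdeal P := hnu
    have h2 : (1 : P) ∈ IsLocalRing.maximalIdeal P := by
      have : (1 : P) = g - (g - 1) := by ring
      rw [this]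
      exact Ideal.sub_mem _ h1 (hle hg1)
    exact (IsLocalRing.maximalIdeal.isMaximal P).ne_top ((Ideal.eq_top_iff_one _).mpr h2)
  haveI : IsLocalization.Away g P := IsLocalization.self (by
    rintro x ⟨n, rfl⟩
    exact hgu.pow n)
  have := hg P
  rw [Algebra.algebraMap_self] at this
  have h2 : List.map (⇑(RingHom.id P)) (List.ofFn f) = List.ofFn f := by
    simp
  rwa [h2] at this


/-- The closed fibre ring `S/𝔪_R S` of an essentially finitely presented algebra over a local ring
is Noetherian. -/
theorem isNoetherianRing_quotient_mS {R S : Type u} [CommRing R] [CommRing S] [IsLocalRing R]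
    [Algebra R S] (hS : CAlgX.IsEssFinitePresentation R S) : IsNoetherianRing (S ⧸ mS R S) := by
  obtain ⟨S₀, _, _, _, _, M₀, hfp, hloc⟩ := hS
  set I₀ := (IsLocalRing.maximalIdeal R).map (algebraMap R S₀) with hI₀
  have hft : Algebra.FiniteType (R ⧸ IsLocalRing.maximalIdeal R) (S₀ ⧸ I₀) :=
    Algebra.FiniteType.equiv inferInstance
      (Algebra.TensorProduct.quotIdealMapEquivQuotTensor S₀ (IsLocalRing.maximalIdeal R)).symm
  letI : Field (R ⧸ IsLocalRing.maximalIdeal R) := Ideal.Quotient.field _
  have hN₀ : IsNoetherianRing (S₀ ⧸ I₀) :=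
    Algebra.FiniteType.isNoetherianRing (R ⧸ IsLocalRing.maximalIdeal R) _
  have hN₁ : IsNoetherianRing (S ⧸ I₀.map (algebraMap S₀ S)) :=
    IsLocalization.isNoetherianRing (Algebra.algebraMapSubmonoid (S₀ ⧸ I₀) M₀) _ hN₀
  have heq : I₀.map (algebraMap S₀ S) = mS R S := by
    rw [hI₀, Ideal.map_map, ← IsScalarTower.algebraMap_eq]
  exact isNoetherianRing_of_ringEquiv _ (Ideal.quotEquivOfEq heq)


section Fibre

variable {A' B' : Type u} [CommRing A'] [CommRing B'] [Algebra A' B']
  (I : Ideal A') {r : ℕ} (f' : Fin r → B')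

/-- Base change of a quasi-regular family with flat quotient along `A'/I → A'/𝔭'`, in the double
quotient form. -/
theorem isQuasiRegular_doubleQuot (p' : Ideal A')
    (hq : CAlgX.IsQuasiRegular
      (fun i => Ideal.Quotient.mk (Ideal.map (algebraMap A' B') I) (f' i)))
    (hflat : Module.Flat (A' ⧸ I)
      ((B' ⧸ Ideal.map (algebraMap A' B') I) ⧸
        Ideal.span (Set.range (fun i => Ideal.Quotient.mk (Ideal.map (algebraMap A' B') I) (f' i))))) :
    CAlgX.IsQuasiRegular (fun i =>
      Ideal.Quotient.mk ((p'.map (Ideal.Quotient.mk I)).map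
          (algebraMap (A' ⧸ I) (B' ⧸ Ideal.map (algebraMap A' B') I)))
        (Ideal.Quotient.mk (Ideal.map (algebraMap A' B') I) (f' i))) := by
  have h1 := Groth.Agent.S9272.result (A' ⧸ I) (B' ⧸ Ideal.map (algebraMap A' B') I)
    ((A' ⧸ I) ⧸ p'.map (Ideal.Quotient.mk I)) r _ hflat hq
  have h2 := isQuasiRegular_ringEquiv
    (Algebra.TensorProduct.quotIdealMapEquivQuotTensor (B' ⧸ Ideal.map (algebraMap A' B') I)
      (p'.map (Ideal.Quotient.mk I))).symm.toRingEquiv _ h1
  convert h2 using 2 with i
  exact ((Algebra.TensorProduct.quotIdealMapEquivQuotTensor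
    (B' ⧸ Ideal.map (algebraMap A' B') I) (p'.map (Ideal.Quotient.mk I))).symm_apply_apply _).symm


theorem isWeaklyRegular_closedFibre [Algebra.FinitePresentation A' B']
    (p' : Ideal A') [p'.IsPrime] (q' : Ideal B') [q'.IsPrime] [q'.LiesOver p'] (hI : I ≤ p')
    (hf : ∀ i, f' i ∈ q')
    (hq : CAlgX.IsQuasiRegular
      (fun i => Ideal.Quotient.mk (Ideal.map (algebraMap A' B') I) (f' i)))
    (hflat : Module.Flat (A' ⧸ I)
      ((B' ⧸ Ideal.map (algebraMap A' B') I) ⧸
        Ideal.span (Set.range (fun i => Ideal.Quotient.mk (Ideal.map (algebraMap A' B') I) (f' i))))) :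
    letI := Localization.AtPrime.algebraOfLiesOver p' q'
    IsWeaklyRegular
      ((Localization.AtPrime q') ⧸ mS (Localization.AtPrime p') (Localization.AtPrime q'))
      ((List.ofFn f').map (algebraMap B' (Localization.AtPrime q'))) := by
  classical
  letI algRS : Algebra (Localization.AtPrime p') (Localization.AtPrime q') :=
    Localization.AtPrime.algebraOfLiesOver p' q'
  have hS := Groth.Agent.Lib.RegSeqFibre64.isEssFinitePresentation_atPrime (A := A') (B := B') p' q'
  haveI : IsLocalHom (algebraMap (Localization.AtPrime p') (Localization.AtPrime q')) :=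
    Localization.isLocalHom_localRingHom _ _ _ Ideal.LiesOver.over
  set S := Localization.AtPrime q' with hSdef
  set R := Localization.AtPrime p' with hRdef
  -- `mS = p' S`
  have hmS : mS R S = p'.map (algebraMap A' S) := by
    rw [mS, ← Localization.AtPrime.map_eq_maximalIdeal, Ideal.map_map,
      ← IsScalarTower.algebraMap_eq]
  have hmS' : mS R S = (p'.map (algebraMap A' B')).map (algebraMap B' S) := by
    rw [hmS, Ideal.map_map, ← IsScalarTower.algebraMap_eq]
  have hle : mS R S ≤ IsLocalRing.maximalIdeal S := by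
    rw [Ideal.map_le_iff_le_comap]
    intro x hx
    rw [Ideal.mem_comap]
    rw [IsLocalRing.mem_maximalIdeal, mem_nonunits_iff] at hx ⊢
    exact fun hu => hx (isUnit_of_map_unit (algebraMap R S) x hu)
  have hne : mS R S ≠ ⊤ := fun h => (IsLocalRing.maximalIdeal.isMaximal S).ne_top
    (top_le_iff.mp (h ▸ hle))
  haveI : Nontrivial (S ⧸ mS R S) := Ideal.Quotient.nontrivial_iff.mpr hne
  haveI : IsLocalRing (S ⧸ mS R S) :=
    IsLocalRing.of_surjective' (Ideal.Quotient.mk _) Ideal.Quotient.mk_surjective
  haveI : IsNoetherianRing (S ⧸ mS R S) := isNoetherianRing_quotient_mS hS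
  -- the double quotient `D` of `B'` and its map to `S/𝔪S`
  set IB : Ideal B' := Ideal.map (algebraMap A' B') I with hIB
  set aB : Ideal (B' ⧸ IB) := (p'.map (Ideal.Quotient.mk I)).map
    (algebraMap (A' ⧸ I) (B' ⧸ IB)) with haB
  let φ₀ : B' →+* S ⧸ mS R S := (Ideal.Quotient.mk (mS R S)).comp (algebraMap B' S)
  have hφ₀ : ∀ a ∈ p', φ₀ (algebraMap A' B' a) = 0 := by
    intro a ha
    change Ideal.Quotient.mk (mS R S) (algebraMap B' S (algebraMap A' B' a)) = 0
    rw [Ideal.Quotient.eq_zero_iff_mem, hmS']
    exact Ideal.mem_map_of_mem _ (Ideal.mem_map_of_mem _ ha)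
  have h₁ : ∀ b ∈ IB, φ₀ b = 0 := by
    intro b hb
    have : IB ≤ RingHom.ker φ₀ := by
      rw [hIB, Ideal.map_le_iff_le_comap]
      intro a ha
      exact hφ₀ a (hI ha)
    exact this hb
  let φ₁ : B' ⧸ IB →+* S ⧸ mS R S := Ideal.Quotient.lift IB φ₀ h₁
  have h₂ : ∀ b ∈ aB, φ₁ b = 0 := by
    intro b hb
    have : aB ≤ RingHom.ker φ₁ := by
      rw [haB, Ideal.map_map, Ideal.map_le_iff_le_comap]
      intro a ha
      rw [Ideal.mem_comap, RingHom.mem_ker]
      change φ₁ (algebraMap (A' ⧸ I) (B' ⧸ IB) (Ideal.Quotient.mk I a)) = 0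
      have : algebraMap (A' ⧸ I) (B' ⧸ IB) (Ideal.Quotient.mk I a) =
          Ideal.Quotient.mk IB (algebraMap A' B' a) := rfl
      rw [this, Ideal.Quotient.lift_mk]
      exact hφ₀ a ha
    exact this hb
  let φ₂ : (B' ⧸ IB) ⧸ aB →+* S ⧸ mS R S := Ideal.Quotient.lift aB φ₁ h₂
  letI algD : Algebra ((B' ⧸ IB) ⧸ aB) (S ⧸ mS R S) := φ₂.toAlgebra
  let fD : B' →+* (B' ⧸ IB) ⧸ aB := (Ideal.Quotient.mk aB).comp (Ideal.Quotient.mk IB)
  have hfD : Function.Surjective fD :=
    Ideal.Quotient.mk_surjective.comp Ideal.Quotient.mk_surjective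
  have hker : p'.map (algebraMap A' B') ≤ RingHom.ker fD := by
    rw [Ideal.map_le_iff_le_comap]
    intro a ha
    rw [Ideal.mem_comap, RingHom.mem_ker]
    change Ideal.Quotient.mk aB (Ideal.Quotient.mk IB (algebraMap A' B' a)) = 0
    rw [Ideal.Quotient.eq_zero_iff_mem, haB]
    have : Ideal.Quotient.mk IB (algebraMap A' B' a) =
        algebraMap (A' ⧸ I) (B' ⧸ IB) (Ideal.Quotient.mk I a) := rfl
    rw [this]
    exact Ideal.mem_map_of_mem _ (Ideal.mem_map_of_mem _ ha)
  haveI locD : IsLocalization (q'.primeCompl.map fD) (S ⧸ mS R S) :=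
    IsLocalization.of_surjective q'.primeCompl S fD hfD (Ideal.Quotient.mk (mS R S))
      Ideal.Quotient.mk_surjective rfl (by
        rw [Ideal.mk_ker, hmS']
        exact Ideal.map_mono hker)
  haveI flatD : Module.Flat ((B' ⧸ IB) ⧸ aB) (S ⧸ mS R S) :=
    IsLocalization.flat _ (q'.primeCompl.map fD)
  have hqD := isQuasiRegular_doubleQuot I f' p' hq hflat
  have hqS := isQuasiRegular_map_of_flat (B := S ⧸ mS R S) _ hqD
  have hfam : (algebraMap ((B' ⧸ IB) ⧸ aB) (S ⧸ mS R S) ∘ fun i =>
      Ideal.Quotient.mk aB (Ideal.Quotient.mk IB (f' i))) =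
      fun i => Ideal.Quotient.mk (mS R S) (algebraMap B' S (f' i)) := rfl
  rw [hfam] at hqS
  have hm : ∀ i, Ideal.Quotient.mk (mS R S) (algebraMap B' S (f' i)) ∈
      IsLocalRing.maximalIdeal (S ⧸ mS R S) := by
    intro i
    rw [IsLocalRing.mem_maximalIdeal, mem_nonunits_iff]
    intro hu
    haveI := IsLocalHom.of_surjective (Ideal.Quotient.mk (mS R S)) Ideal.Quotient.mk_surjective
    have h3 := isUnit_of_map_unit (Ideal.Quotient.mk (mS R S)) _ hu
    have h4 : algebraMap B' S (f' i) ∈ IsLocalRing.maximalIdeal S :=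
      (IsLocalization.AtPrime.to_map_mem_maximal_iff S q' (f' i)).mpr (hf i)
    exact h4 h3
  have hw := isWeaklyRegular_of_isQuasiRegular _ hqS hm
  have hlist : List.ofFn (fun i => Ideal.Quotient.mk (mS R S) (algebraMap B' S (f' i))) =
      ((List.ofFn f').map (algebraMap B' S)).map (algebraMap S (S ⧸ mS R S)) := by
    rw [List.map_map, List.map_ofFn]
    rfl
  rw [hlist] at hw
  exact (isWeaklyRegular_map_algebraMap_iff (S ⧸ mS R S) (S ⧸ mS R S) _).mp hw


end Fibre

section Main'

variable {A B : Type u} [CommRing A] [CommRing B] [Algebra A B] [Algebra.FinitePresentation A B]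
  (M : Type u) [AddCommGroup M] [Module B M] [Module A M] [IsScalarTower A B M]
  [Module.FinitePresentation B M] (p : Ideal A) [p.IsPrime] (q : Ideal B) [q.IsPrime]
  [q.LiesOver p]

/-- Variant of `RegSeqFibre64.main` with the hypothesis in the form "weakly regular on
`M_q/𝔭 M_q`" and only the flatness conclusion for the full sequence. -/
theorem flat_localized_quotient (g : List B)
    (hflat : Module.Flat A (LocalizedModule q.primeCompl M))
    (hw : IsWeaklyRegular (LocalizedModule q.primeCompl M ⧸
        (p.map (algebraMap A (Localization.AtPrime q)) • ⊤ :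
          Submodule (Localization.AtPrime q) (LocalizedModule q.primeCompl M)))
      (g.map (algebraMap B (Localization.AtPrime q)))) :
    Module.Flat A
      (LocalizedModule q.primeCompl (M ⧸ (Ideal.ofList g • (⊤ : Submodule B M)))) := by
  classical
  letI algRS : Algebra (Localization.AtPrime p) (Localization.AtPrime q) :=
    Localization.AtPrime.algebraOfLiesOver p q
  have hS := Groth.Agent.Lib.RegSeqFibre64.isEssFinitePresentation_atPrime (A := A) (B := B) p q
  haveI : IsLocalHom (algebraMap (Localization.AtPrime p) (Localization.AtPrime q)) :=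
    Localization.isLocalHom_localRingHom _ _ _ Ideal.LiesOver.over
  letI modRN : Module (Localization.AtPrime p) (LocalizedModule q.primeCompl M) :=
    Module.compHom _ (algebraMap (Localization.AtPrime p) (Localization.AtPrime q))
  have hsmR : ∀ (r : Localization.AtPrime p) (n : LocalizedModule q.primeCompl M),
      r • n = algebraMap (Localization.AtPrime p) (Localization.AtPrime q) r • n := fun _ _ => rfl
  haveI tRSN : IsScalarTower (Localization.AtPrime p) (Localization.AtPrime q)
      (LocalizedModule q.primeCompl M) := ⟨fun r s n => by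
    rw [hsmR r (s • n), Algebra.smul_def, mul_smul]⟩
  haveI tARN : IsScalarTower A (Localization.AtPrime p) (LocalizedModule q.primeCompl M) :=
    ⟨fun a r n => by
      rw [hsmR (a • r) n, hsmR r n, Algebra.smul_def, map_mul, mul_smul,
        ← IsScalarTower.algebraMap_apply A (Localization.AtPrime p) (Localization.AtPrime q),
        algebraMap_smul]⟩
  haveI flatRN : Module.Flat (Localization.AtPrime p) (LocalizedModule q.primeCompl M) :=
    (Module.flat_iff_of_isLocalization (Localization.AtPrime p) p.primeCompl _).mpr hflat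
  have hmS : mS (Localization.AtPrime p) (Localization.AtPrime q) =
      p.map (algebraMap A (Localization.AtPrime q)) := by
    rw [mS, ← Localization.AtPrime.map_eq_maximalIdeal, Ideal.map_map,
      ← IsScalarTower.algebraMap_eq]
  set gS := g.map (algebraMap B (Localization.AtPrime q)) with hgS
  rw [← hmS] at hw
  obtain ⟨-, hfl⟩ := Groth.Agent.Lib.RegSeqFlat64.isWeaklyRegular_and_flat hS gS
    (LocalizedModule q.primeCompl M) hw
  have h1 := hfl gS.length le_rfl
  rw [List.take_length] at h1
  have h2 : Module.Flat A (LocalizedModule q.primeCompl M ⧸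
      (Ideal.ofList gS • ⊤ :
        Submodule (Localization.AtPrime q) (LocalizedModule q.primeCompl M))) :=
    Module.Flat.trans A (Localization.AtPrime p) _
  have hloc : (Ideal.ofList g • (⊤ : Submodule B M)).localized q.primeCompl =
      (Ideal.ofList gS • ⊤ :
        Submodule (Localization.AtPrime q) (LocalizedModule q.primeCompl M)) := by
    rw [Submodule.localized, Submodule.localized'_smul, Submodule.localized'_top]
    congr 1
    rw [Ideal.ofList, Ideal.span, Submodule.localized'_span, Ideal.ofList, Ideal.span]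
    congr 1
    ext r
    simp only [hgS, List.mem_map, Set.mem_image, Set.mem_ofPred_eq,
      Algebra.linearMap_apply]
  exact Module.Flat.of_linearEquiv
    (((Submodule.quotEquivOfEq _ _ hloc.symm) ≪≫ₗ
      (localizedQuotientEquiv q.primeCompl
        (Ideal.ofList g • (⊤ : Submodule B M)))).restrictScalars A).symm

end Main'


theorem flat_quotient (A' B' : Type u) [CommRing A']
    [CommRing B'] [Algebra A' B'] [Module.Flat A' B'] [Algebra.FinitePresentation A' B']
    (I : Ideal A') (hI : ∀ x ∈ I, IsNilpotent x) (r : ℕ) (f' : Fin r → B')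
    (hq : CAlgX.IsQuasiRegular
      (fun i => Ideal.Quotient.mk (Ideal.map (algebraMap A' B') I) (f' i)))
    (hflat : Module.Flat (A' ⧸ I)
      ((B' ⧸ Ideal.map (algebraMap A' B') I) ⧸
        Ideal.span (Set.range (fun i => Ideal.Quotient.mk (Ideal.map (algebraMap A' B') I) (f' i))))) :
    Module.Flat A' (B' ⧸ Ideal.span (Set.range f')) := by
  classical
  refine Module.flat_of_isLocalized_maximal B' (B' ⧸ Ideal.span (Set.range f'))
    (fun P _ => LocalizedModule P.primeCompl (B' ⧸ Ideal.span (Set.range f')))
    (fun P _ => LocalizedModule.mkLinearMap P.primeCompl _) ?_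
  intro q' hq'max
  by_cases hJq : Ideal.span (Set.range f') ≤ q'
  · haveI : q'.LiesOver (q'.comap (algebraMap A' B')) := ⟨rfl⟩
    have hIp : I ≤ q'.comap (algebraMap A' B') := by
      intro x hx
      obtain ⟨n, hn⟩ := hI x hx
      exact Ideal.IsPrime.mem_of_pow_mem inferInstance n (hn ▸ Ideal.zero_mem _)
    have hf : ∀ i, f' i ∈ q' := fun i => hJq (Ideal.subset_span ⟨i, rfl⟩)
    have hw := isWeaklyRegular_closedFibre I f' (q'.comap (algebraMap A' B')) q' hIp hf hq hflat
    letI algRS : Algebra (Localization.AtPrime (q'.comap (algebraMap A' B')))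
        (Localization.AtPrime q') :=
      Localization.AtPrime.algebraOfLiesOver (q'.comap (algebraMap A' B')) q'
    have hmS : mS (Localization.AtPrime (q'.comap (algebraMap A' B'))) (Localization.AtPrime q') =
        (q'.comap (algebraMap A' B')).map (algebraMap A' (Localization.AtPrime q')) := by
      rw [mS, ← Localization.AtPrime.map_eq_maximalIdeal, Ideal.map_map,
        ← IsScalarTower.algebraMap_eq]
    have heq : (mS (Localization.AtPrime (q'.comap (algebraMap A' B')))
        (Localization.AtPrime q') : Submodule (Localization.AtPrime q') (Localization.AtPrime q')) =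
        ((q'.comap (algebraMap A' B')).map (algebraMap A' (Localization.AtPrime q')) • ⊤ :
          Submodule (Localization.AtPrime q') (Localization.AtPrime q')) := by
      rw [hmS, smul_eq_mul, Ideal.mul_top]
    have hw' : IsWeaklyRegular (LocalizedModule q'.primeCompl B' ⧸
        ((q'.comap (algebraMap A' B')).map (algebraMap A' (Localization.AtPrime q')) • ⊤ :
          Submodule (Localization.AtPrime q') (LocalizedModule q'.primeCompl B')))
        ((List.ofFn f').map (algebraMap B' (Localization.AtPrime q'))) :=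
      ((Submodule.quotEquivOfEq _ _ heq).isWeaklyRegular_congr _).mp hw
    have hfl : Module.Flat A' (LocalizedModule q'.primeCompl B') :=
      (inferInstance : Module.Flat A' (Localization q'.primeCompl))
    have h3 := flat_localized_quotient B' (q'.comap (algebraMap A' B')) q' (List.ofFn f') hfl hw'
    have hJ : (Ideal.ofList (List.ofFn f') • (⊤ : Submodule B' B')) =
        Ideal.span (Set.range f') := by
      rw [smul_eq_mul, Ideal.mul_top, Ideal.ofList]
      congr 1
      ext x
      simp [List.mem_ofFn']
    have key : ∀ K : Submodule B' B', K = Ideal.span (Set.range f') →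
        Module.Flat A' (LocalizedModule q'.primeCompl (B' ⧸ K)) →
        Module.Flat A' (LocalizedModule q'.primeCompl (B' ⧸ Ideal.span (Set.range f'))) := by
      rintro _ rfl h
      exact h
    exact key _ hJ h3
  · have hex : ∃ s ∈ Ideal.span (Set.range f'), s ∉ q' := by
      by_contra hcon
      push Not at hcon
      exact hJq hcon
    obtain ⟨s, hsJ, hsq⟩ := hex
    have hsub : Subsingleton (LocalizedModule q'.primeCompl (B' ⧸ Ideal.span (Set.range f'))) := by
      rw [LocalizedModule.subsingleton_iff]
      intro m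
      obtain ⟨b, rfl⟩ := Ideal.Quotient.mk_surjective m
      refine ⟨s, hsq, ?_⟩
      change Ideal.Quotient.mk _ (s • b) = 0
      rw [Ideal.Quotient.eq_zero_iff_mem, smul_eq_mul]
      exact Ideal.mul_mem_right _ _ hsJ
    infer_instance

end Groth.Agent.Lib.QuasiRegFibre64
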