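import Groth.Agent.Lib.QuasiRegFibre64

set_option autoImplicit false
set_option maxHeartbeats 400000
set_option linter.style.haveILetI false
universe u
open TensorProduct

/-!
# Quasi-regular sequences with smooth quotient lift over locally nilpotent ideals (helper64)

* `smooth_of_quotient`: a flat finitely presented `A'`-algebra `C'` with `C'/IC'` smooth over
  `A'/I`, `I` locally nilpotent, is smooth over `A'`.
* `smooth_quotient` (= S9271).
-/

namespace Groth.Agent.Lib.QuasiRegSmooth64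

/-- Smoothness of a flat finitely presented algebra can be checked modulo a locally nilpotent
ideal of the base. -/
theorem smooth_of_quotient {A' C' : Type u} [CommRing A'] [CommRing C'] [Algebra A' C']
    [Module.Flat A' C'] [Algebra.FinitePresentation A' C']
    (I : Ideal A') (hI : ∀ x ∈ I, IsNilpotent x)
    (hsm : Algebra.Smooth (A' ⧸ I) (C' ⧸ I.map (algebraMap A' C'))) : Algebra.Smooth A' C' := by
  refine Algebra.Smooth.of_formallySmooth_fiber fun p _ => ?_
  have hle : ∀ x ∈ I, algebraMap A' p.ResidueField x = 0 := fun x hx =>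
    ((hI x hx).map (algebraMap A' p.ResidueField)).eq_zero
  let ρ : A' ⧸ I →+* p.ResidueField := Ideal.Quotient.lift I (algebraMap A' p.ResidueField) hle
  letI : Algebra (A' ⧸ I) p.ResidueField := ρ.toAlgebra
  haveI : IsScalarTower A' (A' ⧸ I) p.ResidueField :=
    IsScalarTower.of_algebraMap_eq fun x => rfl
  let e1 : (C' ⧸ I.map (algebraMap A' C')) ≃ₐ[A' ⧸ I] (A' ⧸ I) ⊗[A'] C' :=
    Algebra.TensorProduct.quotIdealMapEquivQuotTensor C' I
  haveI : Algebra.FormallySmooth (A' ⧸ I) ((A' ⧸ I) ⊗[A'] C') :=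
    Algebra.FormallySmooth.of_equiv e1
  let e2 : p.ResidueField ⊗[A' ⧸ I] ((A' ⧸ I) ⊗[A'] C') ≃ₐ[p.ResidueField]
      p.ResidueField ⊗[A'] C' :=
    Algebra.TensorProduct.cancelBaseChange A' (A' ⧸ I) p.ResidueField p.ResidueField C'
  exact Algebra.FormallySmooth.of_equiv
    (A := p.ResidueField ⊗[A' ⧸ I] ((A' ⧸ I) ⊗[A'] C')) e2

theorem smooth_quotient (A' B' : Type u) [CommRing A']
    [CommRing B'] [Algebra A' B'] [Module.Flat A' B'] [Algebra.FinitePresentation A' B']
    (I : Ideal A') (hI : ∀ x ∈ I, IsNilpotent x) (r : ℕ) (f' : Fin r → B')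
    (hq : CAlgX.IsQuasiRegular
      (fun i => Ideal.Quotient.mk (Ideal.map (algebraMap A' B') I) (f' i)))
    (hsm : Algebra.Smooth (A' ⧸ I)
      ((B' ⧸ Ideal.map (algebraMap A' B') I) ⧸
        Ideal.span (Set.range (fun i => Ideal.Quotient.mk (Ideal.map (algebraMap A' B') I) (f' i))))) :
    Algebra.Smooth A' (B' ⧸ Ideal.span (Set.range f')) := by
  haveI hflatC : Module.Flat A' (B' ⧸ Ideal.span (Set.range f')) :=
    Groth.Agent.Lib.QuasiRegFibre64.flat_quotient A' B' I hI r f' hq inferInstance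
  haveI hfpC : Algebra.FinitePresentation A' (B' ⧸ Ideal.span (Set.range f')) :=
    Algebra.FinitePresentation.quotient (Submodule.fg_span (Set.finite_range f'))
  refine smooth_of_quotient I hI ?_
  set IB := Ideal.map (algebraMap A' B') I with hIB
  set J := Ideal.span (Set.range f') with hJ
  have h1 : Ideal.span (Set.range (fun i => Ideal.Quotient.mk IB (f' i))) =
      J.map (Ideal.Quotient.mkₐ A' IB) := by
    rw [hJ]
    change _ = Ideal.map (Ideal.Quotient.mk IB) (Ideal.span (Set.range f'))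
    rw [Ideal.map_span, ← Set.range_comp]
    rfl
  have h2 : IB.map (Ideal.Quotient.mkₐ A' J) = I.map (algebraMap A' (B' ⧸ J)) := by
    rw [hIB]
    change Ideal.map (Ideal.Quotient.mk J) (Ideal.map (algebraMap A' B') I) = _
    rw [Ideal.map_map]
    rfl
  let e₀ : ((B' ⧸ IB) ⧸ Ideal.span (Set.range (fun i => Ideal.Quotient.mk IB (f' i)))) ≃ₐ[A']
      ((B' ⧸ J) ⧸ I.map (algebraMap A' (B' ⧸ J))) :=
    ((Ideal.quotientEquivAlgOfEq A' h1).trans (DoubleQuot.quotQuotEquivCommₐ A' IB J)).trans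
      (Ideal.quotientEquivAlgOfEq A' h2)
  let e : ((B' ⧸ IB) ⧸ Ideal.span (Set.range (fun i => Ideal.Quotient.mk IB (f' i)))) ≃ₐ[A' ⧸ I]
      ((B' ⧸ J) ⧸ I.map (algebraMap A' (B' ⧸ J))) :=
    AlgEquiv.extendScalarsOfSurjective Ideal.Quotient.mk_surjective e₀
  exact Algebra.Smooth.of_equiv e

end Groth.Agent.Lib.QuasiRegSmooth64
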