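import Groth.Agent.S2559
import Groth.Agent.S3447
import Groth.Agent.S3397
import Groth.Agent.S4944
import Groth.Agent.Lib.DimIneqCore
import Groth.Agent.Lib.EffDescHenselLocal2H52

/-!
# Finite quasi-sections of universally open morphisms over a henselian local base (helper52)

EGA IV 14.5.10-type statements over a Noetherian henselian local base `Spec B`:

* `exists_finite_quasiSection_of_universallyOpen_domain`: `B` a domain, `p' : X' ⟶ Spec B`
  universally open, surjective, locally of finite type.  Then there is a finite local `B`-algebra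
  `R` with a `B`-morphism `Spec R ⟶ X'` such that `Spec R ⟶ Spec B` is surjective.
  (Dimension formula for open morphisms (helper56 S2559), equidimensionality criterion (helper30
  S3397), quasi-sections of equidimensional morphisms (helper63 S4944), finite local charts of
  quasi-finite morphisms over a henselian base.)
* `exists_finCharts_of_universallyOpen`: the same over an arbitrary Noetherian henselian local
  ring, with one chart for every minimal prime.
-/

set_option autoImplicit false
set_option linter.style.haveILetI false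
set_option backward.isDefEq.respectTransparency false
set_option backward.isDefEq.respectTransparency.types false

universe u

open CategoryTheory CategoryTheory.Limits AlgebraicGeometry Opposite IsLocalRing

namespace Groth.Agent.Lib.QuasiSectionUnivOpenH52

theorem isEquidim_of_isDomain (R : Type u) [CommRing R] [IsDomain R] : EGA4.IsEquidim R := by
  intro p hp
  have hbot : p = ⊥ := by
    have h1 : p ≤ ⊥ := hp.2 ⟨Ideal.isPrime_bot, le_refl _⟩ bot_le
    exact le_bot_iff.mp h1
  subst hbot
  exact ringKrullDim_eq_of_ringEquiv (RingEquiv.quotientBot R)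

/-- The dimension of the local ring of the fibre does not increase under a preimmersion. -/
theorem ringKrullDim_fiber_stalk_le {Z X Y : Scheme.{u}} (i : Z ⟶ X) [IsPreimmersion i]
    (p : X ⟶ Y) (z : Z) :
    ringKrullDim (((i ≫ p).fiber ((i ≫ p) z)).presheaf.stalk ((i ≫ p).asFiber z)) ≤
      ringKrullDim ((p.fiber (p (i z))).presheaf.stalk (p.asFiber (i z))) := by
  let y : Y := p (i z)
  let j : (i ≫ p).fiber y ⟶ p.fiber y :=
    pullback.map (i ≫ p) (Y.fromSpecResidueField y) p (Y.fromSpecResidueField y) i (𝟙 _) (𝟙 _)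
      (by rw [Category.comp_id]) (by rw [Category.comp_id, Category.id_comp])
  have hj : j ≫ p.fiberι y = (i ≫ p).fiberι y ≫ i := pullback.lift_fst _ _ _
  haveI : IsPreimmersion (j ≫ p.fiberι y) := by
    rw [hj]
    infer_instance
  haveI : IsPreimmersion j := IsPreimmersion.of_comp j (p.fiberι y)
  have hpt : j ((i ≫ p).asFiber z) = p.asFiber (i z) := by
    apply (p.fiberι y).isEmbedding.injective
    rw [← Scheme.Hom.comp_apply, hj, Scheme.Hom.comp_apply]
    rw [Scheme.Hom.fiberι_asFiber p (i z)]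
    exact congrArg i (Scheme.Hom.fiberι_asFiber (i ≫ p) z)
  have hsurj := Scheme.Hom.stalkMap_surjective j ((i ≫ p).asFiber z)
  have h1 := ringKrullDim_le_of_surjective _ hsurj
  rw [hpt] at h1
  exact h1

section Domain

set_option linter.overlappingInstances false

variable (B' : Type u) [CommRing B'] [IsDomain B'] [IsLocalRing B'] [IsNoetherianRing B']
  (hB : HenselianLocalRing B') {X' : Scheme.{u}} (p' : X' ⟶ Spec (CommRingCat.of B'))
  [UniversallyOpen p'] [Surjective p'] [LocallyOfFiniteType p']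

include hB in
theorem exists_finite_quasiSection_of_universallyOpen_domain :
    ∃ (R : Type u) (_ : CommRing R) (_ : Algebra B' R) (_ : Module.Finite B' R)
      (_ : IsLocalRing R) (c : Spec (CommRingCat.of R) ⟶ X'),
      c ≫ p' = Spec.map (CommRingCat.ofHom (algebraMap B' R)) ∧
        Function.Surjective (Spec.map (CommRingCat.ofHom (algebraMap B' R))) := by
  classical
  let Y : Scheme.{u} := Spec (CommRingCat.of B')
  let s : Y := closedPoint B'
  haveI : IsLocallyNoetherian X' := LocallyOfFiniteType.isLocallyNoetherian p'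
  -- a closed point of the closed fibre
  obtain ⟨x₁, hx₁⟩ := p'.surjective s
  have hFne : Nonempty ↥(p'.fiber s) := ⟨(p'.fiberHomeo s).symm ⟨x₁, hx₁⟩⟩
  obtain ⟨a, ha⟩ : (closedPoints ↥(p'.fiber s)).Nonempty := by
    by_contra hcon
    rw [Set.not_nonempty_iff_eq_empty] at hcon
    have h1 := closure_closedPoints (X := ↥(p'.fiber s))
    rw [hcon, closure_empty] at h1
    exact (Set.univ_nonempty (α := ↥(p'.fiber s))).ne_empty h1.symm
  have hacl : IsClosed ({a} : Set ↥(p'.fiber s)) := mem_closedPoints_iff.mp ha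
  let x₀ : X' := p'.fiberι s a
  have hx₀ : p' x₀ = s := by
    have : x₀ ∈ Set.range (p'.fiberι s) := ⟨a, rfl⟩
    rw [Scheme.Hom.range_fiberι] at this
    exact this
  have hcl : ∀ x' : X', p' x' = p' x₀ → x₀ ⤳ x' → x' = x₀ := by
    intro x' hx' hsp
    have hmem : x' ∈ Set.range (p'.fiberι s) := by
      rw [Scheme.Hom.range_fiberι]
      exact hx'.trans hx₀
    obtain ⟨a', rfl⟩ := hmem
    have h1 : a ⤳ a' := (p'.fiberι s).isEmbedding.isInducing.specializes_iff.mp hsp
    have h2 : a' ∈ closure ({a} : Set ↥(p'.fiber s)) := specializes_iff_mem_closure.mp h1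
    rw [hacl.closure_eq] at h2
    rw [Set.mem_singleton_iff.mp h2]
  -- the dimension formula at `x₀`
  have hdim₁ := Groth.Agent.S2559.result p' x₀ (fun z _ _ U hU =>
    p'.isOpenMap.image_mem_nhds hU)
  -- an irreducible component of maximal dimension through `x₀`
  obtain ⟨_, ⟨V, hV, rfl⟩, hxV, -⟩ := X'.isBasis_affineOpens.exists_subset_of_mem_open
    (Set.mem_univ x₀) isOpen_univ
  haveI : IsNoetherianRing Γ(X', V) := IsLocallyNoetherian.component_noetherian ⟨V, hV⟩
  let M := hV.primeIdealOf ⟨x₀, hxV⟩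
  have hMx₀ : hV.fromSpec M = x₀ := hV.fromSpec_primeIdealOf ⟨x₀, hxV⟩
  obtain ⟨Q₀, hQ₀, hQ₀M, hht⟩ :=
    Groth.Agent.Lib.DimIneqCore.exists_minimalPrimes_height_le M.asIdeal
  haveI hQ₀prime : Q₀.IsPrime := hQ₀.1.1
  let Z : Scheme.{u} := Spec (CommRingCat.of (Γ(X', V) ⧸ Q₀))
  let iZ : Z ⟶ X' := Spec.map (CommRingCat.ofHom (Ideal.Quotient.mk Q₀)) ≫ hV.fromSpec
  haveI : IsClosedImmersion (Spec.map (CommRingCat.ofHom (Ideal.Quotient.mk Q₀))) :=
    IsClosedImmersion.spec_of_surjective _ Ideal.Quotient.mk_surjective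
  haveI : IsPreimmersion iZ := inferInstanceAs (IsPreimmersion (_ ≫ _))
  have hker : RingHom.ker (Ideal.Quotient.mk Q₀) ≤ M.asIdeal := by
    rw [Ideal.mk_ker]
    exact hQ₀M
  haveI hz₀prime : (M.asIdeal.map (Ideal.Quotient.mk Q₀)).IsPrime :=
    Ideal.map_isPrime_of_surjective Ideal.Quotient.mk_surjective hker
  let z₀ : Z := ⟨M.asIdeal.map (Ideal.Quotient.mk Q₀), hz₀prime⟩
  have hz₀M : Spec.map (CommRingCat.ofHom (Ideal.Quotient.mk Q₀)) z₀ = M := by
    apply PrimeSpectrum.ext
    change Ideal.comap (Ideal.Quotient.mk Q₀) (M.asIdeal.map (Ideal.Quotient.mk Q₀)) = M.asIdeal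
    rw [Ideal.comap_map_of_surjective _ Ideal.Quotient.mk_surjective, ← RingHom.ker_eq_comap_bot,
      sup_eq_left]
    exact hker
  have hiz : iZ z₀ = x₀ := by
    change hV.fromSpec (Spec.map (CommRingCat.ofHom (Ideal.Quotient.mk Q₀)) z₀) = x₀
    rw [hz₀M, hMx₀]
  -- dimensions of the local rings
  have hdimZ : ringKrullDim (Z.presheaf.stalk z₀) =
      ((M.asIdeal.map (Ideal.Quotient.mk Q₀)).height : WithBot ℕ∞) := by
    rw [ringKrullDim_stalk_eq_coheight, ← idealHeight_eq_coheight]
  have hdimX : ringKrullDim (X'.presheaf.stalk x₀) = (M.asIdeal.height : WithBot ℕ∞) := by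
    rw [ringKrullDim_stalk_eq_coheight, ← hMx₀, coheight_eq_of_isOpenImmersion,
      ← idealHeight_eq_coheight]
  have hge : ringKrullDim (X'.presheaf.stalk x₀) ≤ ringKrullDim (Z.presheaf.stalk z₀) := by
    rw [hdimZ, hdimX]
    exact_mod_cast hht
  -- equidimensionality of `Z ⟶ Y` at `z₀`
  let f : Z ⟶ Y := iZ ≫ p'
  haveI : LocallyOfFiniteType iZ := inferInstanceAs (LocallyOfFiniteType (_ ≫ _))
  haveI : LocallyOfFiniteType f := inferInstanceAs (LocallyOfFiniteType (iZ ≫ p'))
  haveI : QuasiCompact f := inferInstance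
  have hle := Groth.Agent.S3447.result f z₀
  have hfib := ringKrullDim_fiber_stalk_le iZ p' z₀
  let Φ : X' → WithBot ℕ∞ := fun x => ringKrullDim (Y.presheaf.stalk (p' x)) +
    ringKrullDim ((p'.fiber (p' x)).presheaf.stalk (p'.asFiber x))
  have hΦ : Φ (iZ z₀) = Φ x₀ := congrArg Φ hiz
  have hformula : ringKrullDim (Z.presheaf.stalk z₀) =
      ringKrullDim (Y.presheaf.stalk (f z₀)) +
        ringKrullDim ((f.fiber (f z₀)).presheaf.stalk (f.asFiber z₀)) := by
    apply le_antisymm hle
    calc ringKrullDim (Y.presheaf.stalk (f z₀)) +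
          ringKrullDim ((f.fiber (f z₀)).presheaf.stalk (f.asFiber z₀))
        ≤ Φ (iZ z₀) := add_le_add (le_refl _) hfib
      _ = Φ x₀ := hΦ
      _ = ringKrullDim (X'.presheaf.stalk x₀) := hdim₁.symm
      _ ≤ ringKrullDim (Z.presheaf.stalk z₀) := hge
  have hequi : EGA43.IsEquidimAt f z₀ :=
    Groth.Agent.S3397.result f z₀ (isEquidim_of_isDomain _) (isEquidim_of_isDomain _) hformula
  have hclZ : ∀ z' : Z, f z' = f z₀ → z₀ ⤳ z' → z' = z₀ := by
    intro z' hz' hsp
    apply iZ.isEmbedding.injective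
    rw [hiz]
    apply hcl
    · rw [← hiz]; exact hz'
    · rw [← hiz]; exact hsp.map iZ.continuous
  -- the quasi-section
  obtain ⟨T, i, himm, hirr, hred, hmem, hlft, hlqf, hqc, hdom⟩ :=
    Groth.Agent.S4944.result f z₀ hequi hclZ
  obtain ⟨t₀, ht₀⟩ := hmem
  let q : T ⟶ Y := i ≫ f
  have hqt₀ : q t₀ = closedPoint B' := by
    change p' (iZ (i t₀)) = closedPoint B'
    rw [ht₀, hiz, hx₀]
  obtain ⟨R, _, _, _, _, j, hj1, hj2, hj3⟩ :=
    @Groth.Agent.Lib.QFinHenselH52.exists_finite_local_chart B' _ hB _ q hlft t₀ hqt₀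
      (Scheme.Hom.quasiFiniteAt q t₀)
  refine ⟨R, inferInstance, inferInstance, inferInstance, inferInstance, j ≫ i ≫ iZ, ?_, ?_⟩
  · rw [← hj2]
    simp only [q, f, Category.assoc]
  · -- finite and dominant, hence surjective
    haveI : IsFinite (Spec.map (CommRingCat.ofHom (algebraMap B' R))) := by
      rw [IsFinite.SpecMap_iff]
      exact RingHom.finite_algebraMap.mpr inferInstance
    have hclosed : IsClosed (Set.range (Spec.map (CommRingCat.ofHom (algebraMap B' R)))) :=
      (Spec.map (CommRingCat.ofHom (algebraMap B' R))).isClosedMap.isClosed_range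
    have hdense : Dense (Set.range (Spec.map (CommRingCat.ofHom (algebraMap B' R)))) := by
      rw [← hj2]
      have hjd : Dense (Set.range j) := by
        have hopen : IsOpen (Set.range j) := j.isOpenEmbedding.isOpen_range
        exact hopen.dense ⟨t₀, closedPoint R, hj3⟩
      have h1 : Dense (q '' Set.range j) := hdom.1.dense_image q.continuous hjd
      rw [← Set.range_comp] at h1
      exact h1
    intro y
    have : Set.range (Spec.map (CommRingCat.ofHom (algebraMap B' R))) = Set.univ := by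
      rw [← hclosed.closure_eq]
      exact hdense.closure_eq
    have hy : y ∈ Set.range (Spec.map (CommRingCat.ofHom (algebraMap B' R))) := by
      rw [this]
      exact Set.mem_univ y
    exact hy

end Domain

section General

open Groth.Agent.Lib.EffDescH52 in
/-- A chart through (the closed subscheme defined by) a prime ideal. -/
theorem exists_finChart_of_prime (B : Type u) [CommRing B] [IsLocalRing B] [IsNoetherianRing B]
    (hB : HenselianLocalRing B) {X : Scheme.{u}} (p : X ⟶ Spec (CommRingCat.of B))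
    [UniversallyOpen p] [Surjective p] [LocallyOfFiniteType p] (𝔭 : Ideal B) [𝔭.IsPrime] :
    ∃ ch : FinChart B p, ∀ s : ↥(Spec (CommRingCat.of B)), 𝔭 ≤ s.asIdeal →
      s ∈ Set.range (Spec.map (CommRingCat.ofHom (algebraMap B ch.R))) := by
  classical
  haveI : IsDomain (B ⧸ 𝔭) := Ideal.Quotient.isDomain 𝔭
  haveI : IsLocalRing (B ⧸ 𝔭) :=
    IsLocalRing.of_surjective' (Ideal.Quotient.mk 𝔭) Ideal.Quotient.mk_surjective
  haveI : Algebra.IsIntegral B (B ⧸ 𝔭) :=
    Algebra.isIntegral_of_surjective (Ideal.Quotient.mk_surjective (I := 𝔭))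
  have hB' : HenselianLocalRing (B ⧸ 𝔭) :=
    Groth.Agent.Lib.HenselIntegralLocal.henselianLocalRing_of_isIntegral B (B ⧸ 𝔭)
  let ι : Spec (CommRingCat.of (B ⧸ 𝔭)) ⟶ Spec (CommRingCat.of B) :=
    Spec.map (CommRingCat.ofHom (Ideal.Quotient.mk 𝔭))
  obtain ⟨R, _, _, _, _, c, hc, hsurj⟩ :=
    exists_finite_quasiSection_of_universallyOpen_domain (B ⧸ 𝔭) hB' (pullback.snd p ι)
  letI algBR : Algebra B R := ((algebraMap (B ⧸ 𝔭) R).comp (Ideal.Quotient.mk 𝔭)).toAlgebra
  haveI : IsScalarTower B (B ⧸ 𝔭) R := IsScalarTower.of_algebraMap_eq (fun _ => rfl)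
  haveI : Module.Finite B R := Module.Finite.trans (B ⧸ 𝔭) R
  have hmap : Spec.map (CommRingCat.ofHom (algebraMap B R)) =
      Spec.map (CommRingCat.ofHom (algebraMap (B ⧸ 𝔭) R)) ≫ ι := by
    rw [← Spec.map_comp]
    rfl
  refine ⟨⟨R, c ≫ pullback.fst p ι, ?_⟩, fun s hs => ?_⟩
  · rw [Category.assoc, pullback.condition, ← Category.assoc, hc, hmap]
  · have hs' : s ∈ Set.range ι := by
      have h1 := range_comap_of_surjective (B ⧸ 𝔭) (Ideal.Quotient.mk 𝔭)
        Ideal.Quotient.mk_surjective
      rw [Ideal.mk_ker] at h1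
      have h2 : s ∈ PrimeSpectrum.zeroLocus (𝔭 : Set B) := by
        rw [PrimeSpectrum.mem_zeroLocus]
        exact hs
      rw [← h1] at h2
      exact h2
    obtain ⟨s', rfl⟩ := hs'
    obtain ⟨r, rfl⟩ := hsurj s'
    refine ⟨r, ?_⟩
    change Spec.map (CommRingCat.ofHom (algebraMap B R)) r = _
    rw [hmap]
    rfl

open Groth.Agent.Lib.EffDescH52 in
/-- **Finite charts of universally open morphisms** over a Noetherian henselian local base:
finitely many finite local charts which are jointly surjective on the base. -/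
theorem exists_finCharts_of_universallyOpen (B : Type u) [CommRing B] [IsLocalRing B]
    [IsNoetherianRing B] (hB : HenselianLocalRing B) {X : Scheme.{u}}
    (p : X ⟶ Spec (CommRingCat.of B))
    [UniversallyOpen p] [Surjective p] [LocallyOfFiniteType p] :
    ∃ (ι : Type u) (_ : Finite ι) (ch : ι → FinChart B p),
      ∀ s : ↥(Spec (CommRingCat.of B)),
        ∃ i, s ∈ Set.range (Spec.map (CommRingCat.ofHom (algebraMap B (ch i).R))) := by
  classical
  have hfin : (minimalPrimes B).Finite := minimalPrimes.finite_of_isNoetherianRing B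
  haveI : Finite ↥(minimalPrimes B) := Set.finite_coe_iff.mpr hfin
  have hch : ∀ i : ↥(minimalPrimes B), ∃ ch : FinChart B p,
      ∀ s : ↥(Spec (CommRingCat.of B)), i.1 ≤ s.asIdeal →
        s ∈ Set.range (Spec.map (CommRingCat.ofHom (algebraMap B ch.R))) := fun i => by
    haveI : i.1.IsPrime := i.2.1.1
    exact exists_finChart_of_prime B hB p i.1
  choose ch hch using hch
  refine ⟨↥(minimalPrimes B), inferInstance, ch, fun s => ?_⟩
  obtain ⟨𝔭, h𝔭, hle⟩ := Ideal.exists_minimalPrimes_le (bot_le : (⊥ : Ideal B) ≤ s.asIdeal)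
  exact ⟨⟨𝔭, h𝔭⟩, hch _ s hle⟩

end General

end Groth.Agent.Lib.QuasiSectionUnivOpenH52
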