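import Mathlib.GroupTheory.SpecificGroups.Quaternion
import Mathlib.GroupTheory.OrderOfElement
import Mathlib.Data.ZMod.Basic
import Mathlib.Tactic.Abel

/-!
# Homomorphisms out of the generalised quaternion (binary dihedral) group (helper18)

`quatHom s t h1 h2 h3 : QuaternionGroup n →* G` for `s t : G` with `s^(2n) = 1`, `s * t * s = t`,
`t * t = s^n`; it is injective when `orderOf s = 2n` and `n ≥ 2`.
-/

set_option autoImplicit false

namespace Groth.Agent.Lib.QuaternionHom

variable {G : Type*} [Group G] {n : ℕ} [NeZero n]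

/-- `i ↦ s^i` on `ZMod (2n)`. -/
def pw (s : G) (i : ZMod (2 * n)) : G := s ^ i.val

omit [NeZero n] in
lemma pw_zero (s : G) : pw (n := n) s 0 = 1 := by simp [pw]

lemma pw_add (s : G) (h1 : s ^ (2 * n) = 1) (i j : ZMod (2 * n)) :
    pw s (i + j) = pw s i * pw s j := by
  unfold pw
  rw [ZMod.val_add, ← pow_eq_pow_mod _ h1, pow_add]

lemma pw_neg (s : G) (h1 : s ^ (2 * n) = 1) (i : ZMod (2 * n)) :
    pw s (-i) = (pw s i)⁻¹ := by
  apply eq_inv_of_mul_eq_one_left
  rw [← pw_add s h1, neg_add_cancel, pw_zero]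

lemma pw_natCast (s : G) : pw s (n : ZMod (2 * n)) = s ^ n := by
  unfold pw
  rw [ZMod.val_cast_of_lt]
  have := NeZero.pos n
  omega

omit [NeZero n] in
lemma pw_mul_comm (s t : G) (h2 : s * t * s = t) (i : ZMod (2 * n)) :
    pw s i * t = t * (pw s i)⁻¹ := by
  unfold pw
  have h : SemiconjBy t s⁻¹ s := by
    show t * s⁻¹ = s * t
    rw [mul_inv_eq_iff_eq_mul]
    exact h2.symm
  have := h.pow_right i.val
  rw [inv_pow] at this
  exact this.symm

/-- The homomorphism from the quaternion group determined by `s`, `t`. -/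
def quatHom (s t : G) (h1 : s ^ (2 * n) = 1) (h2 : s * t * s = t) (h3 : t * t = s ^ n) :
    QuaternionGroup n →* G where
  toFun
    | QuaternionGroup.a i => pw s i
    | QuaternionGroup.xa i => t * pw s i
  map_one' := by
    show pw s 0 = 1
    exact pw_zero s
  map_mul' := by
    rintro (i | i) (j | j)
    · show pw s (i + j) = pw s i * pw s j
      exact pw_add s h1 i j
    · show t * pw s (j - i) = pw s i * (t * pw s j)
      rw [← mul_assoc, pw_mul_comm s t h2, ← neg_add_eq_sub, pw_add s h1, pw_neg s h1, mul_assoc]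
    · show t * pw s (i + j) = t * pw s i * pw s j
      rw [pw_add s h1, mul_assoc]
    · show pw s ((n : ZMod (2 * n)) + j - i) = t * pw s i * (t * pw s j)
      have e : (n : ZMod (2 * n)) + j - i = (n : ZMod (2 * n)) + (-i + j) := by abel
      rw [e, pw_add s h1, pw_add s h1, pw_neg s h1, pw_natCast, ← h3]
      rw [mul_assoc t (pw s i), ← mul_assoc (pw s i) t, pw_mul_comm s t h2]
      simp only [mul_assoc]

@[simp] lemma quatHom_a (s t : G) (h1 : s ^ (2 * n) = 1) (h2 : s * t * s = t)
    (h3 : t * t = s ^ n) (i : ZMod (2 * n)) :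
    quatHom s t h1 h2 h3 (QuaternionGroup.a i) = s ^ i.val := rfl

@[simp] lemma quatHom_xa (s t : G) (h1 : s ^ (2 * n) = 1) (h2 : s * t * s = t)
    (h3 : t * t = s ^ n) (i : ZMod (2 * n)) :
    quatHom s t h1 h2 h3 (QuaternionGroup.xa i) = t * s ^ i.val := rfl

lemma quatHom_injective (s t : G) (h1 : s ^ (2 * n) = 1) (h2 : s * t * s = t)
    (h3 : t * t = s ^ n) (hord : orderOf s = 2 * n) (hn : 2 ≤ n) :
    Function.Injective (quatHom s t h1 h2 h3) := by
  rw [injective_iff_map_eq_one]
  rintro (i | i) hi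
  · rw [quatHom_a] at hi
    have hdvd : 2 * n ∣ i.val := by
      have h := orderOf_dvd_of_pow_eq_one hi
      rwa [hord] at h
    have hlt : i.val < 2 * n := ZMod.val_lt i
    have h0 : i.val = 0 := Nat.eq_zero_of_dvd_of_lt hdvd hlt
    have : i = 0 := by
      apply ZMod.val_injective
      rw [h0, ZMod.val_zero]
    rw [this]; rfl
  · exfalso
    rw [quatHom_xa] at hi
    -- t = (s^k)⁻¹ commutes with s
    have ht : t = (s ^ i.val)⁻¹ := eq_inv_of_mul_eq_one_left hi
    have hcomm : s * t = t * s := by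
      rw [ht]
      exact ((Commute.refl s).pow_right i.val).inv_right.eq
    -- s * t * s = t gives s^2 = 1
    have hs2 : s ^ 2 = 1 := by
      have h4 : t * (s * s) = t := by
        rw [← mul_assoc, ← hcomm]; exact h2
      have h5 : s * s = 1 := by
        have := mul_left_cancel (a := t) (b := s * s) (c := 1) (by rw [h4, mul_one])
        exact this
      rw [sq]; exact h5
    have hdvd : 2 * n ∣ 2 := by
      have h := orderOf_dvd_of_pow_eq_one hs2
      rwa [hord] at h
    have := Nat.le_of_dvd (by norm_num) hdvd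
    omega

end Groth.Agent.Lib.QuaternionHom
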