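-- Helper library (helper57): a central division algebra of dimension 4 over a field of
-- characteristic ≠ 2 is a quaternion algebra `(a, b)`.
import Groth.Agent.Lib.KummerDiv
import Mathlib.Algebra.QuaternionBasis

set_option autoImplicit false
universe u v

namespace Groth.Agent.Lib.QuaternionRecog57

open Groth.Agent.Lib.KummerDiv

variable {k : Type u} [Field k] {D : Type v} [DivisionRing D] [Algebra k D]

section quad

variable [FiniteDimensional k D] [Algebra.IsCentral k D]

/-- Every non-central element of a central division algebra of dimension 4 satisfies a quadratic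
equation. -/
theorem exists_quadratic (hD : Module.finrank k D = 4) (x : D)
    (hx : x ∉ (⊥ : Subalgebra k D)) :
    ∃ α β : k, x * x = α • x + algebraMap k D β := by
  classical
  set L : Subalgebra k D := Algebra.adjoin k {x} with hL
  have hxL : x ∈ L := Algebra.subset_adjoin (Set.mem_singleton x)
  have hcomm : ∀ a ∈ L, ∀ b ∈ L, a * b = b * a := by
    letI := Algebra.adjoinCommRingOfComm k (s := ({x} : Set D)) (by
      intro a ha b hb
      rw [Set.mem_singleton_iff] at ha hb
      rw [ha, hb])
    intro a ha b hb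
    exact congrArg Subtype.val (mul_comm (⟨a, ha⟩ : L) ⟨b, hb⟩)
  have hdvd := finrank_dvd_of_comm (K := k) (A := D) 2 (by rw [hD]; norm_num) L hcomm
  have hne1 : Module.finrank k L ≠ 1 := by
    intro h1
    have := Subalgebra.eq_bot_of_finrank_one h1
    exact hx (this ▸ hxL)
  have h2 : Module.finrank k L = 2 := by
    rcases (Nat.dvd_prime Nat.prime_two).mp hdvd with h | h
    · exact absurd h hne1
    · exact h
  -- `1, x, x²` are linearly dependent in `L`
  let v : Fin 3 → L := ![1, ⟨x, hxL⟩, ⟨x, hxL⟩ * ⟨x, hxL⟩]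
  have hdep : ¬ LinearIndependent k v := by
    intro hli
    have := hli.fintype_card_le_finrank
    rw [h2, Fintype.card_fin] at this
    omega
  rw [Fintype.not_linearIndependent_iff] at hdep
  obtain ⟨g, hg, i, hi⟩ := hdep
  rw [Fin.sum_univ_three] at hg
  have hg' : g 0 • (1 : D) + g 1 • x + g 2 • (x * x) = 0 := by
    have := congrArg Subtype.val hg
    simpa [v] using this
  have hg2 : g 2 ≠ 0 := by
    intro h20
    rw [h20, zero_smul, add_zero] at hg'
    have hg1 : g 1 ≠ 0 := by
      intro h10
      rw [h10, zero_smul, add_zero] at hg'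
      have h00 : g 0 = 0 := by
        by_contra h
        have : (1 : D) = 0 := by
          have := congrArg (fun t => (g 0)⁻¹ • t) hg'
          simpa [smul_smul, inv_mul_cancel₀ h] using this
        exact one_ne_zero this
      fin_cases i
      · exact hi h00
      · exact hi h10
      · exact hi h20
    apply hx
    rw [Algebra.mem_bot]
    refine ⟨-(g 1)⁻¹ * g 0, ?_⟩
    have h3 : g 1 • x = -(g 0 • (1 : D)) := by
      rw [eq_neg_iff_add_eq_zero, add_comm]; exact hg'
    have h4 := congrArg (fun t => (g 1)⁻¹ • t) h3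
    simp only [smul_smul, inv_mul_cancel₀ hg1, one_smul] at h4
    rw [h4, Algebra.algebraMap_eq_smul_one, smul_neg, smul_smul, neg_mul, neg_smul]
  refine ⟨-(g 2)⁻¹ * g 1, -(g 2)⁻¹ * g 0, ?_⟩
  have h3 : g 2 • (x * x) = -(g 1 • x) - g 0 • (1 : D) := by
    rw [eq_sub_iff_add_eq, eq_neg_iff_add_eq_zero]
    rw [← hg']; abel
  have h4 := congrArg (fun t => (g 2)⁻¹ • t) h3
  simp only [smul_smul, inv_mul_cancel₀ hg2, one_smul] at h4
  rw [h4, Algebra.algebraMap_eq_smul_one]
  simp only [smul_sub, smul_neg, smul_smul, neg_mul, neg_smul]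
  abel

end quad

section main

variable [FiniteDimensional k D] [Algebra.IsCentral k D]

theorem not_mem_bot_of_not_central (x : D) (y : D) (h : x * y ≠ y * x) :
    x ∉ (⊥ : Subalgebra k D) := by
  intro hx
  obtain ⟨c, rfl⟩ := Algebra.mem_bot.mp hx
  exact h (Algebra.commutes c y)

/-- A central division algebra of dimension 4 over a field in which `2 ≠ 0` is a quaternion
algebra. -/
theorem exists_quaternion_algEquiv (h2 : (2 : k) ≠ 0) (hD : Module.finrank k D = 4) :
    ∃ a b : k, Nonempty (QuaternionAlgebra k a 0 b ≃ₐ[k] D) := by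
  classical
  have h2D : (2 : D) ≠ 0 := by
    have : (2 : D) = algebraMap k D 2 := (map_ofNat (algebraMap k D) 2).symm
    rw [this]
    exact (map_ne_zero_iff _ (algebraMap k D).injective).mpr h2
  -- a non-central element
  obtain ⟨x, hx⟩ : ∃ x : D, x ∉ (⊥ : Subalgebra k D) := by
    by_contra hcon
    have hcon' : ∀ x : D, x ∈ (⊥ : Subalgebra k D) := by
      intro x
      by_contra h
      exact hcon ⟨x, h⟩
    have htop : (⊥ : Subalgebra k D) = ⊤ := eq_top_iff.mpr fun x _ => hcon' x
    have := Subalgebra.bot_eq_top_iff_finrank_eq_one.mp htop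
    rw [hD] at this
    norm_num at this
  obtain ⟨α, β, hαβ⟩ := exists_quadratic hD x hx
  -- complete the square
  haveI : NeZero (2 : k) := ⟨h2⟩
  obtain ⟨i, hi⟩ : ∃ i : D, i = x - algebraMap k D (α / 2) := ⟨_, rfl⟩
  obtain ⟨a, ha⟩ : ∃ a : k, a = β + α ^ 2 / 4 := ⟨_, rfl⟩
  have hcx : ∀ c : k, algebraMap k D c * x = x * algebraMap k D c := fun c => Algebra.commutes c x
  have hii : i * i = algebraMap k D a := by
    rw [hi, sub_mul, mul_sub, mul_sub, hαβ, hcx, ← map_mul, ha, Algebra.smul_def, hcx]
    have e1 : x * algebraMap k D α = x * algebraMap k D (α / 2) + x * algebraMap k D (α / 2) := by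
      rw [← mul_add, ← map_add, add_halves]
    rw [e1, map_add]
    have e2 : algebraMap k D (α ^ 2 / 4) = algebraMap k D (α / 2 * (α / 2)) := by
      congr 1
      rw [div_mul_div_comm, ← sq]
      norm_num
    rw [e2]
    abel
  have hi_bot : i ∉ (⊥ : Subalgebra k D) := by
    intro h
    apply hx
    have : x = i + algebraMap k D (α / 2) := by rw [hi]; abel
    rw [this]
    exact Subalgebra.add_mem _ h (Subalgebra.algebraMap_mem _ _)
  -- an element anticommuting with `i`
  obtain ⟨y, hy⟩ : ∃ y : D, i * y ≠ y * i := by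
    by_contra hcon
    have hcon' : ∀ y : D, i * y = y * i := by
      intro y
      by_contra h
      exact hcon ⟨y, h⟩
    apply hi_bot
    have hc : i ∈ Subalgebra.center k D := by
      rw [Subalgebra.mem_center_iff]
      intro y
      exact (hcon' y).symm
    exact Algebra.IsCentral.out hc
  obtain ⟨j, hj⟩ : ∃ j : D, j = i * y - y * i := ⟨_, rfl⟩
  have hj0 : j ≠ 0 := fun h => hy (sub_eq_zero.mp (hj ▸ h))
  have hca : ∀ z : D, algebraMap k D a * z = z * algebraMap k D a := fun z => Algebra.commutes a z
  have hij : i * j = -(j * i) := by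
    rw [hj, mul_sub, sub_mul, ← mul_assoc, hii, mul_assoc y i i, hii, hca, mul_assoc i y i]
    abel
  have hi0 : i ≠ 0 := by
    intro h
    apply hi_bot
    rw [h]
    exact Subalgebra.zero_mem _
  have hj_bot : j ∉ (⊥ : Subalgebra k D) := by
    apply not_mem_bot_of_not_central j i
    intro h
    have h3 : (2 : D) * (i * j) = 0 := by
      rw [two_mul]
      nth_rw 1 [hij]
      rw [h]
      abel
    rcases mul_eq_zero.mp h3 with h4 | h4
    · exact h2D h4
    · rcases mul_eq_zero.mp h4 with h5 | h5
      · exact hi0 h5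
      · exact hj0 h5
  obtain ⟨α', β', hαβ'⟩ := exists_quadratic hD j hj_bot
  -- `α' = 0`
  have hjj_comm : i * (j * j) = (j * j) * i := by
    rw [← mul_assoc, hij, neg_mul, mul_assoc, hij, mul_neg, neg_neg, mul_assoc]
  have hα' : α' = 0 := by
    by_contra hne
    rw [hαβ', mul_add, add_mul, mul_smul_comm, smul_mul_assoc, ← Algebra.commutes β' i] at hjj_comm
    have h3 : α' • (i * j) = α' • (j * i) := add_right_cancel hjj_comm
    have h4 : i * j = j * i := by
      have := congrArg (fun t => α'⁻¹ • t) h3
      simpa [smul_smul, inv_mul_cancel₀ hne] using this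
    rw [h4] at hij
    have h5 : (2 : D) * (j * i) = 0 := by
      rw [two_mul]
      nth_rw 1 [hij]
      abel
    rcases mul_eq_zero.mp h5 with h6 | h6
    · exact h2D h6
    · rcases mul_eq_zero.mp h6 with h7 | h7
      · exact hj0 h7
      · exact hi0 h7
  have hjj : j * j = algebraMap k D β' := by
    rw [hαβ', hα', zero_smul, zero_add]
  -- the basis
  let q : QuaternionAlgebra.Basis D a 0 β' :=
    { i := i
      j := j
      k := i * j
      i_mul_i := by rw [hii, zero_smul, add_zero, Algebra.algebraMap_eq_smul_one]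
      j_mul_j := by rw [hjj, Algebra.algebraMap_eq_smul_one]
      i_mul_j := rfl
      j_mul_i := by rw [zero_smul, zero_sub, hij, neg_neg] }
  refine ⟨a, β', ?_⟩
  -- injectivity of the lift
  have hinj : Function.Injective q.liftHom := by
    rw [injective_iff_map_eq_zero]
    intro z hz
    have hz' : algebraMap k D z.re + z.imI • i + z.imJ • j + z.imK • (i * j) = 0 := hz
    -- `u + w * j = 0` with `u, w ∈ k[i]`
    obtain ⟨u, hu⟩ : ∃ u : D, u = algebraMap k D z.re + z.imI • i := ⟨_, rfl⟩
    obtain ⟨w, hw⟩ : ∃ w : D, w = algebraMap k D z.imJ + z.imK • i := ⟨_, rfl⟩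
    have huw : u + w * j = 0 := by
      rw [← hz', hu, hw, add_mul, smul_mul_assoc, Algebra.smul_def z.imJ j]
      abel
    have hiu : i * u = u * i := by
      rw [hu, mul_add, add_mul, mul_smul_comm, smul_mul_assoc, Algebra.commutes]
    have hiw : i * w = w * i := by
      rw [hw, mul_add, add_mul, mul_smul_comm, smul_mul_assoc, Algebra.commutes]
    have hu_eq : u = -(w * j) := eq_neg_of_add_eq_zero_left huw
    have hu0 : u = 0 := by
      have h3 : i * u = -(u * i) := by
        rw [hu_eq, mul_neg, neg_mul, neg_neg, ← mul_assoc, hiw, mul_assoc, hij, mul_neg, mul_assoc,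
          neg_neg]
      rw [hiu] at h3
      have h5 : (2 : D) * (u * i) = 0 := by
        rw [two_mul]
        nth_rw 1 [h3]
        abel
      rcases mul_eq_zero.mp h5 with h6 | h6
      · exact absurd h6 h2D
      · rcases mul_eq_zero.mp h6 with h7 | h7
        · exact h7
        · exact absurd h7 hi0
    have hw0 : w = 0 := by
      rw [hu0, zero_add] at huw
      rcases mul_eq_zero.mp huw with h | h
      · exact h
      · exact absurd h hj0
    -- `c + d • i = 0` forces `c = d = 0`
    have key : ∀ c d : k, algebraMap k D c + d • i = 0 → c = 0 ∧ d = 0 := by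
      intro c d hcd
      have hd : d = 0 := by
        by_contra hne
        apply hi_bot
        rw [Algebra.mem_bot]
        refine ⟨-d⁻¹ * c, ?_⟩
        have h3 : d • i = -algebraMap k D c := eq_neg_of_add_eq_zero_right hcd
        have h4 := congrArg (fun t => d⁻¹ • t) h3
        simp only [smul_smul, inv_mul_cancel₀ hne, one_smul] at h4
        rw [h4, Algebra.smul_def, map_mul, map_neg]
        simp
      rw [hd, zero_smul, add_zero] at hcd
      exact ⟨(map_eq_zero_iff _ (algebraMap k D).injective).mp hcd, hd⟩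
    obtain ⟨h0, h1⟩ := key _ _ (hu.symm.trans hu0)
    obtain ⟨h2', h3'⟩ := key _ _ (hw.symm.trans hw0)
    exact QuaternionAlgebra.ext h0 h1 h2' h3'
  have hdim : Module.finrank k (QuaternionAlgebra k a 0 β') = Module.finrank k D := by
    rw [hD, QuaternionAlgebra.finrank_eq_four]
  have hbij : Function.Bijective q.liftHom :=
    ⟨hinj, (LinearMap.injective_iff_surjective_of_finrank_eq_finrank hdim
      (f := q.liftHom.toLinearMap)).mp hinj⟩
  exact ⟨AlgEquiv.ofBijective q.liftHom hbij⟩

end main

end Groth.Agent.Lib.QuaternionRecog57
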