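import Mathlib
import Groth.Prelude.Def_W4c2gaugesfzipsQuiet

/-!
# Root towers (`Quiet.IsRootTower`): transport, composition, base change (helper37)

* `of_ringEquiv`: semilinear transport of a root tower along ring isomorphisms of base and top.
* `comp`: composition of root towers.
* `of_isPushout`: base change of a root tower (in `Algebra.IsPushout` form).
* `of_isLocalization_away`: localization of a root tower.
-/

set_option autoImplicit false
universe u

namespace Groth.Agent.Lib.QuietTower37

open Polynomial Quiet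

theorem rootPoly_map {A A' : Type u} [CommRing A] [CommRing A'] (p : ℕ) (f : A →+* A') (a : A) :
    (X ^ p - C a : A[X]).map f = X ^ p - C (f a) := by
  simp [Polynomial.map_sub, Polynomial.map_pow]

theorem of_ringEquiv (p : ℕ) (n : ℕ) :
    ∀ (A B A' B' : Type u) [CommRing A] [CommRing B] [CommRing A'] [CommRing B']
      [Algebra A B] [Algebra A' B'] (eA : A ≃+* A') (eB : B ≃+* B')
      (_ : ∀ a, eB (algebraMap A B a) = algebraMap A' B' (eA a)),
      IsRootTower p n A B → IsRootTower p n A' B' := by
  induction n with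
  | zero =>
    intro A B A' B' _ _ _ _ _ _ eA eB h ⟨e⟩
    refine ⟨AlgEquiv.ofRingEquiv (f := (eB.symm.trans e.toRingEquiv).trans eA) ?_⟩
    intro a'
    obtain ⟨a, rfl⟩ := eA.surjective a'
    have h1 : eB.symm (algebraMap A' B' (eA a)) = algebraMap A B a := by
      rw [← h]; simp
    simp [h1]
  | succ n ih =>
    intro A B A' B' _ _ _ _ _ _ eA eB h ⟨a, alg₁, tower, hn⟩
    let e₁ : RootRing p A a ≃+* RootRing p A' (eA a) :=
      AdjoinRoot.mapRingEquiv eA _ _ (by rw [rootPoly_map]; exact Associated.refl _)
    let g : RootRing p A' (eA a) →+* B' :=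
      (eB.toRingHom.comp (algebraMap (RootRing p A a) B)).comp e₁.symm.toRingHom
    let alg₁' : Algebra (RootRing p A' (eA a)) B' := g.toAlgebra
    have he₁ : ∀ x : A, e₁ (algebraMap A (RootRing p A a) x) =
        algebraMap A' (RootRing p A' (eA a)) (eA x) := by
      intro x
      simp [e₁, AdjoinRoot.algebraMap_eq]
    have tower' : IsScalarTower A' (RootRing p A' (eA a)) B' := IsScalarTower.of_algebraMap_eq' (by
      ext x'
      obtain ⟨x, rfl⟩ := eA.surjective x'
      have h1 : e₁.symm (algebraMap A' (RootRing p A' (eA a)) (eA x)) =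
          algebraMap A (RootRing p A a) x := by
        rw [RingEquiv.symm_apply_eq, he₁]
      simp only [RingHom.algebraMap_toAlgebra, g, RingHom.coe_comp, Function.comp_apply,
        RingEquiv.toRingHom_eq_coe, RingEquiv.coe_toRingHom, h1]
      rw [← IsScalarTower.algebraMap_apply A (RootRing p A a) B, h])
    refine ⟨eA a, alg₁', tower', ih _ _ _ _ e₁ eB ?_ hn⟩
    intro b₁
    show eB (algebraMap _ B b₁) = g (e₁ b₁)
    simp [g]

theorem comp (p : ℕ) (n m : ℕ) :
    ∀ (A B C : Type u) [CommRing A] [CommRing B] [CommRing C] [Algebra A B] [Algebra B C]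
      [Algebra A C] [IsScalarTower A B C],
      IsRootTower p n A B → IsRootTower p m B C → IsRootTower p (n + m) A C := by
  induction n with
  | zero =>
    intro A B C _ _ _ _ _ _ _ ⟨e⟩ hm
    rw [Nat.zero_add]
    refine of_ringEquiv p m B C A C e.toRingEquiv (RingEquiv.refl C) ?_ hm
    intro b
    have h1 : e.symm (e b) = algebraMap A B (e b) := by
      have := e.symm.commutes (e b)
      simpa using this
    rw [AlgEquiv.symm_apply_apply] at h1
    show algebraMap B C b = algebraMap A C (e b)
    rw [IsScalarTower.algebraMap_apply A B C, ← h1]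
  | succ n ih =>
    intro A B C _ _ _ _ _ _ _ ⟨a, alg₁, tower, hn⟩ hm
    let _ : Algebra (RootRing p A a) C :=
      ((algebraMap B C).comp (algebraMap (RootRing p A a) B)).toAlgebra
    have : IsScalarTower (RootRing p A a) B C := IsScalarTower.of_algebraMap_eq' rfl
    have : IsScalarTower A (RootRing p A a) C := IsScalarTower.of_algebraMap_eq' (by
      rw [RingHom.algebraMap_toAlgebra, RingHom.comp_assoc,
        ← IsScalarTower.algebraMap_eq A (RootRing p A a) B, ← IsScalarTower.algebraMap_eq A B C])
    have h := ih (RootRing p A a) B C hn hm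
    have e : n + 1 + m = (n + m) + 1 := by omega
    rw [e]
    exact ⟨a, inferInstance, inferInstance, h⟩

section baseChange

open TensorProduct

/-- `A'[x]/(x^p - a)` is the base change of `A[x]/(x^p - a)`. -/
theorem rootRing_isPushout (p : ℕ) (A A' : Type u) [CommRing A] [CommRing A'] [Algebra A A'] (a : A)
    [Algebra (RootRing p A a) (RootRing p A' (algebraMap A A' a))]
    [IsScalarTower A (RootRing p A a) (RootRing p A' (algebraMap A A' a))]
    (hφ : algebraMap (RootRing p A a) (RootRing p A' (algebraMap A A' a)) =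
      AdjoinRoot.map (algebraMap A A') _ _ (dvd_of_eq (rootPoly_map p _ a).symm)) :
    Algebra.IsPushout A A' (RootRing p A a) (RootRing p A' (algebraMap A A' a)) := by
  let f : A[X] := X ^ p - C a
  let q : (A' ⊗[A] A)[X] :=
    f.map (Algebra.TensorProduct.includeRight (R := A) (A := A') (B := A)).toRingHom
  let e₁ : A' ⊗[A] AdjoinRoot f ≃ₐ[A'] AdjoinRoot q := AdjoinRoot.tensorAlgEquiv f q rfl
  have hq : Associated (q.map (Algebra.TensorProduct.rid A A' A'))
      (X ^ p - C (algebraMap A A' a) : A'[X]) := by
    have : q.map (Algebra.TensorProduct.rid A A' A') = X ^ p - C (algebraMap A A' a) := by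
      simp only [q, f, Polynomial.map_map]
      rw [rootPoly_map]
      simp [Algebra.algebraMap_eq_smul_one]
    rw [this]
  let e₂ : AdjoinRoot q ≃ₐ[A'] AdjoinRoot (X ^ p - C (algebraMap A A' a) : A'[X]) :=
    AdjoinRoot.mapAlgEquiv (Algebra.TensorProduct.rid A A' A') q _ hq
  let _ : Algebra (RootRing p A a) (A' ⊗[A] RootRing p A a) := Algebra.TensorProduct.rightAlgebra
  have : Algebra.IsPushout A A' (RootRing p A a) (A' ⊗[A] RootRing p A a) :=
    TensorProduct.isPushout
  refine Algebra.IsPushout.of_equiv (e₁.trans e₂) ?_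
  apply AdjoinRoot.ringHom_ext
  · ext x
    show e₂ (e₁ ((1 : A') ⊗ₜ[A] (AdjoinRoot.of f x))) =
      algebraMap (RootRing p A a) _ (AdjoinRoot.of f x)
    rw [hφ]
    simp only [e₁, e₂, AdjoinRoot.tensorAlgEquiv_of, AdjoinRoot.coe_mapAlgEquiv, AdjoinRoot.map_of]
    simp only [f, AdjoinRoot.map_of, Algebra.algebraMap_eq_smul_one, Algebra.TensorProduct.rid_tmul,
      AlgEquiv.coe_ringEquiv, RingHom.coe_coe]
  · show e₂ (e₁ ((1 : A') ⊗ₜ[A] (AdjoinRoot.root f))) =
      algebraMap (RootRing p A a) _ (AdjoinRoot.root f)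
    rw [hφ]
    simp only [f, e₁, e₂, AdjoinRoot.tensorAlgEquiv_root, AdjoinRoot.coe_mapAlgEquiv,
      AdjoinRoot.map_root]

theorem root_pow (p : ℕ) (A : Type u) [CommRing A] (a : A) :
    (AdjoinRoot.root (X ^ p - C a : A[X])) ^ p = algebraMap A (RootRing p A a) a := by
  have := AdjoinRoot.eval₂_root (X ^ p - C a : A[X])
  simpa [sub_eq_zero, AdjoinRoot.algebraMap_eq] using this

theorem of_isPushout (p : ℕ) (n : ℕ) :
    ∀ (A B A' B' : Type u) [CommRing A] [CommRing B] [CommRing A'] [CommRing B']
      [Algebra A B] [Algebra A A'] [Algebra A B'] [Algebra B B'] [Algebra A' B']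
      [IsScalarTower A B B'] [IsScalarTower A A' B'] [Algebra.IsPushout A B A' B'],
      IsRootTower p n A B → IsRootTower p n A' B' := by
  induction n with
  | zero =>
    intro A B A' B' _ _ _ _ _ _ _ _ _ _ _ hpo ⟨e⟩
    have hbc : IsBaseChange A' (IsScalarTower.toAlgHom A B B').toLinearMap := hpo.symm.out
    let Φ : B' ≃ₗ[A'] A' := hbc.equiv.symm ≪≫ₗ
      (TensorProduct.AlgebraTensorModule.congr (LinearEquiv.refl A' A') e.toLinearEquiv) ≪≫ₗ
      (TensorProduct.AlgebraTensorModule.rid A A' A')
    have hΦ : ∀ x : A', Φ (algebraMap A' B' x) = x := by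
      intro x
      have h1 : hbc.equiv.symm (algebraMap A' B' x) = x ⊗ₜ[A] (1 : B) := by
        rw [LinearEquiv.symm_apply_eq, IsBaseChange.equiv_tmul]
        simp [Algebra.algebraMap_eq_smul_one]
      simp only [Φ, LinearEquiv.trans_apply, h1]
      simp
    have hbij : Function.Bijective (algebraMap A' B') := by
      refine ⟨fun x y hxy => ?_, fun b' => ⟨Φ b', ?_⟩⟩
      · rw [← hΦ x, ← hΦ y, hxy]
      · apply Φ.injective; rw [hΦ]
    exact ⟨(AlgEquiv.ofBijective (Algebra.ofId A' B') hbij).symm⟩
  | succ n ih =>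
    intro A B A' B' _ _ _ _ _ _ _ _ _ _ _ hpo ⟨a, alg₁, tower, hn⟩
    have hdvd : (X ^ p - C (algebraMap A A' a) : A'[X]) ∣
        (X ^ p - C a : A[X]).map (algebraMap A A') := dvd_of_eq (rootPoly_map p _ a).symm
    let φ : RootRing p A a →+* RootRing p A' (algebraMap A A' a) :=
      AdjoinRoot.map (algebraMap A A') _ _ hdvd
    let algφ : Algebra (RootRing p A a) (RootRing p A' (algebraMap A A' a)) := φ.toAlgebra
    let y : B' := algebraMap B B' (algebraMap (RootRing p A a) B (AdjoinRoot.root _))
    have hy : (X ^ p - C (algebraMap A A' a) : A'[X]).eval₂ (algebraMap A' B') y = 0 := by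
      simp only [eval₂_sub, eval₂_pow, eval₂_X, eval₂_C, y, ← map_pow, root_pow, sub_eq_zero]
      rw [← IsScalarTower.algebraMap_apply A (RootRing p A a) B,
        ← IsScalarTower.algebraMap_apply A B B', ← IsScalarTower.algebraMap_apply A A' B']
    let ψ : RootRing p A' (algebraMap A A' a) →+* B' := AdjoinRoot.lift (algebraMap A' B') y hy
    let algψ : Algebra (RootRing p A' (algebraMap A A' a)) B' := ψ.toAlgebra
    let alg₁B' : Algebra (RootRing p A a) B' :=
      ((algebraMap B B').comp (algebraMap (RootRing p A a) B)).toAlgebra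
    have t1 : IsScalarTower A' (RootRing p A' (algebraMap A A' a)) B' :=
      IsScalarTower.of_algebraMap_eq' (by
        ext x; simp [RingHom.algebraMap_toAlgebra, ψ, AdjoinRoot.algebraMap_eq])
    have t2 : IsScalarTower (RootRing p A a) B B' := IsScalarTower.of_algebraMap_eq' rfl
    have t3 : IsScalarTower (RootRing p A a) (RootRing p A' (algebraMap A A' a)) B' :=
      IsScalarTower.of_algebraMap_eq' (by
        apply AdjoinRoot.ringHom_ext
        · ext x
          simp only [RingHom.algebraMap_toAlgebra, RingHom.coe_comp, Function.comp_apply, φ, ψ,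
            AdjoinRoot.map_of, AdjoinRoot.lift_of]
          rw [← AdjoinRoot.algebraMap_eq, ← IsScalarTower.algebraMap_apply A (RootRing p A a) B,
            ← IsScalarTower.algebraMap_apply A B B', ← IsScalarTower.algebraMap_apply A A' B']
        · simp [RingHom.algebraMap_toAlgebra, φ, ψ, y])
    have t4 : IsScalarTower A (RootRing p A a) (RootRing p A' (algebraMap A A' a)) :=
      IsScalarTower.of_algebraMap_eq' (by
        ext x
        simp [RingHom.algebraMap_toAlgebra, φ, AdjoinRoot.algebraMap_eq, AdjoinRoot.algebraMap_eq'])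
    have t6 : IsScalarTower A (RootRing p A' (algebraMap A A' a)) B' :=
      IsScalarTower.of_algebraMap_eq' (by
        ext x
        simp [RingHom.algebraMap_toAlgebra, ψ, AdjoinRoot.algebraMap_eq',
          ← IsScalarTower.algebraMap_apply A A' B'])
    have po1 : Algebra.IsPushout A (RootRing p A a) A' (RootRing p A' (algebraMap A A' a)) :=
      (rootRing_isPushout p A A' a rfl).symm
    have hpo2 : Algebra.IsPushout (RootRing p A a) B (RootRing p A' (algebraMap A A' a)) B' :=
      (Algebra.IsPushout.comp_iff A (RootRing p A a) A' (RootRing p A' (algebraMap A A' a))).mp hpo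
    exact ⟨algebraMap A A' a, algψ, t1,
      ih (RootRing p A a) B (RootRing p A' (algebraMap A A' a)) B' hn⟩

theorem of_isLocalization_away (p n : ℕ) (A B : Type u) [CommRing A] [CommRing B] [Algebra A B]
    (f : A) (Af Bf : Type u) [CommRing Af] [CommRing Bf] [Algebra A Af] [Algebra B Bf]
    [Algebra Af Bf] [Algebra A Bf] [IsScalarTower A Af Bf] [IsScalarTower A B Bf]
    [IsLocalization.Away f Af] [IsLocalization.Away (algebraMap A B f) Bf]
    (h : IsRootTower p n A B) : IsRootTower p n Af Bf := by
  have e : Algebra.algebraMapSubmonoid B (Submonoid.powers f) =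
      Submonoid.powers (algebraMap A B f) := by
    simp [Algebra.algebraMapSubmonoid, Submonoid.map_powers]
  have : IsLocalization (Algebra.algebraMapSubmonoid B (Submonoid.powers f)) Bf := by
    rw [e]; infer_instance
  have : Algebra.IsPushout A B Af Bf :=
    Algebra.isPushout_of_isLocalization (Submonoid.powers f) Af B Bf
  exact of_isPushout p n A B Af Bf h

end baseChange

end Groth.Agent.Lib.QuietTower37
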