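import Mathlib
import Groth.Prelude.Def_W4c2gaugesfzipsQuiet
import Groth.Agent.Lib.QuietTower37

/-!
# Quasi-étale morphisms: affine normal form (helper37)

`NF p f y`: there are an affine open `V ∋ y` of `Y`, a ring `R`, an étale `e : Spec R ⟶ X` and a
root tower `φ : R ⟶ Γ(Y, V)` with `Spec.map φ ≫ e = hV.fromSpec ≫ f`.
`IsQuiet p f ↔ ∀ y, NF p f y`.
-/

set_option autoImplicit false
universe u

open CategoryTheory AlgebraicGeometry Quiet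

namespace Groth.Agent.Lib.QuietSch37

open Groth.Agent.Lib.QuietTower37

/-- transport of a root tower along a commutative square of isomorphisms in `CommRingCat`. -/
theorem of_commSq {R S R' S' : CommRingCat.{u}} (p n : ℕ) (φ : R ⟶ S) (φ' : R' ⟶ S')
    (α : R ⟶ R') (β : S ⟶ S') [IsIso α] [IsIso β] (h : φ ≫ β = α ≫ φ')
    (H : @IsRootTower p n R S _ _ φ.hom.toAlgebra) :
    @IsRootTower p n R' S' _ _ φ'.hom.toAlgebra := by
  letI := φ.hom.toAlgebra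
  letI := φ'.hom.toAlgebra
  refine of_ringEquiv p n R S R' S' (asIso α).commRingCatIsoToRingEquiv
    (asIso β).commRingCatIsoToRingEquiv (fun a => ?_) H
  exact congr($h a)

/-- affine normal form of a quasi-étale morphism at a point. -/
def NF {X Y : Scheme.{u}} (p : ℕ) (f : Y ⟶ X) (y : Y) : Prop :=
  ∃ (V : Y.Opens) (hV : IsAffineOpen V) (R : CommRingCat.{u}) (e : Spec R ⟶ X) (φ : R ⟶ Γ(Y, V)),
    y ∈ V ∧ Etale e ∧ Spec.map φ ≫ e = hV.fromSpec ≫ f ∧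
      ∃ n, @IsRootTower p n R Γ(Y, V) _ _ φ.hom.toAlgebra

theorem nf_of_isQuiet {X Y : Scheme.{u}} (p : ℕ) (f : Y ⟶ X) (hf : IsQuiet p f) (y : Y) :
    NF p f y := by
  obtain ⟨V, Y', r, e, hyV, hr, he, hfac⟩ := hf y
  obtain ⟨U, hyU, haff, n, hn⟩ := hr (r ⟨y, hyV⟩)
  have hV₀ : IsAffineOpen (V.ι ''ᵁ (r ⁻¹ᵁ U.1)) := haff.image_of_isOpenImmersion V.ι
  let φ : Γ(Y', U.1) ⟶ Γ(Y, V.ι ''ᵁ (r ⁻¹ᵁ U.1)) :=
    r.app U.1 ≫ (V.ι.appIso (r ⁻¹ᵁ U.1)).inv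
  refine ⟨V.ι ''ᵁ (r ⁻¹ᵁ U.1), hV₀, Γ(Y', U.1), U.2.fromSpec ≫ e, φ, ?_, ?_, ?_, n, ?_⟩
  · exact ⟨⟨y, hyV⟩, hyU, rfl⟩
  · infer_instance
  · have h1 : Spec.map (r.app U.1) ≫ U.2.fromSpec = haff.fromSpec ≫ r := by
      rw [Scheme.Hom.app_eq_appLE]
      exact IsAffineOpen.SpecMap_appLE_fromSpec r U.2 haff le_rfl
    have h2 : Spec.map (V.ι.appIso (r ⁻¹ᵁ U.1)).hom ≫ hV₀.fromSpec = haff.fromSpec ≫ V.ι := by
      rw [Scheme.Hom.appIso_hom']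
      exact IsAffineOpen.SpecMap_appLE_fromSpec V.ι hV₀ haff _
    have h3 : Spec.map (V.ι.appIso (r ⁻¹ᵁ U.1)).inv ≫ Spec.map (V.ι.appIso (r ⁻¹ᵁ U.1)).hom =
        𝟙 _ := by
      rw [← Spec.map_comp, Iso.hom_inv_id, Spec.map_id]
    calc Spec.map φ ≫ U.2.fromSpec ≫ e
        = Spec.map (V.ι.appIso (r ⁻¹ᵁ U.1)).inv ≫ (Spec.map (r.app U.1) ≫ U.2.fromSpec) ≫ e := by
          simp only [φ, Spec.map_comp, Category.assoc]
      _ = Spec.map (V.ι.appIso (r ⁻¹ᵁ U.1)).inv ≫ (haff.fromSpec ≫ V.ι) ≫ f := by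
          rw [h1, Category.assoc, hfac, Category.assoc]
      _ = (Spec.map (V.ι.appIso (r ⁻¹ᵁ U.1)).inv ≫ Spec.map (V.ι.appIso (r ⁻¹ᵁ U.1)).hom) ≫
            hV₀.fromSpec ≫ f := by
          rw [← h2]; simp only [Category.assoc]
      _ = hV₀.fromSpec ≫ f := by rw [h3, Category.id_comp]
  · exact of_commSq p n (r.app U.1) φ (𝟙 _) (V.ι.appIso _).inv (by simp [φ]) hn

theorem isQuiet_of_nf {X Y : Scheme.{u}} (p : ℕ) (f : Y ⟶ X) (h : ∀ y, NF p f y) :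
    IsQuiet p f := by
  intro y
  obtain ⟨V, hV, R, e, φ, hyV, he, hfac, n, hn⟩ := h y
  refine ⟨V, Spec R, hV.isoSpec.hom ≫ Spec.map φ, e, hyV, ?_, he, ?_⟩
  · intro x
    haveI : IsAffine V.toScheme := hV
    refine ⟨⟨⊤, isAffineOpen_top _⟩, trivial, isAffineOpen_top _, n, ?_⟩
    have key : φ ≫ V.topIso.inv =
        (Scheme.ΓSpecIso R).inv ≫ (hV.isoSpec.hom ≫ Spec.map φ).appTop := by
      rw [Scheme.Hom.comp_appTop, hV.isoSpec_hom_appTop, ← Category.assoc,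
        ← Scheme.ΓSpecIso_inv_naturality]
      simp
    exact of_commSq p n φ _ (Scheme.ΓSpecIso R).inv V.topIso.inv key hn
  · rw [Category.assoc, hfac, IsAffineOpen.isoSpec_hom_fromSpec_assoc]

theorem isQuiet_iff_nf {X Y : Scheme.{u}} (p : ℕ) (f : Y ⟶ X) :
    IsQuiet p f ↔ ∀ y, NF p f y :=
  ⟨nf_of_isQuiet p f, isQuiet_of_nf p f⟩

end Groth.Agent.Lib.QuietSch37
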