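import Mathlib
import Groth.Prelude.Def_W4c2gaugesfzipsQuiet
import Groth.Agent.Lib.QuietTower37
import Groth.Agent.Lib.QuietSch37

/-!
# Quasi-étale morphisms: normal form relative to an affine open of the target (helper37)

`nf_loc`: if `f : Y ⟶ X` has a normal form at `y` and `W ∋ f y` is an affine open of `X`, then
there are an affine open `V ∋ y`, an étale ring map `β : Γ(X, W) ⟶ C` and a root tower
`φ : C ⟶ Γ(Y, V)` with `Spec.map φ ≫ Spec.map β ≫ hW.fromSpec = hV.fromSpec ≫ f`.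
-/

set_option autoImplicit false
universe u

open CategoryTheory AlgebraicGeometry Quiet

namespace Groth.Agent.Lib.QuietLoc37

open Groth.Agent.Lib.QuietTower37 Groth.Agent.Lib.QuietSch37

theorem nf_loc {X Y : Scheme.{u}} (p : ℕ) (f : Y ⟶ X) (y : Y) (h : NF p f y)
    (W : X.Opens) (hW : IsAffineOpen W) (hyW : f y ∈ W) :
    ∃ (V : Y.Opens) (hV : IsAffineOpen V) (C : CommRingCat.{u}) (β : Γ(X, W) ⟶ C)
      (φ : C ⟶ Γ(Y, V)),
      y ∈ V ∧ β.hom.Etale ∧ Spec.map φ ≫ Spec.map β ≫ hW.fromSpec = hV.fromSpec ≫ f ∧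
        ∃ n, @IsRootTower p n C Γ(Y, V) _ _ φ.hom.toAlgebra := by
  obtain ⟨VZ, hVZ, R₁, e₁, φ₁, hzV, he₁, hfac₁, n₁, hn₁⟩ := h
  let zt : Spec Γ(Y, VZ) := hVZ.primeIdealOf ⟨y, hzV⟩
  have hzt : hVZ.fromSpec zt = y := hVZ.fromSpec_primeIdealOf ⟨y, hzV⟩
  let z₁ : Spec R₁ := (Spec.map φ₁) zt
  have hz₁ : e₁ z₁ = f y := by
    rw [← hzt]
    exact congr($(hfac₁) zt)
  have hmem : z₁ ∈ e₁ ⁻¹ᵁ W := by
    show e₁ z₁ ∈ W
    rw [hz₁]; exact hyW
  obtain ⟨_, ⟨s, rfl⟩, hs1, hs2⟩ :=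
    (TopologicalSpace.Opens.isBasis_iff_nbhd.mp PrimeSpectrum.isBasis_basic_opens) hmem
  let j : Spec (CommRingCat.of (Localization.Away s)) ⟶ Spec R₁ :=
    Spec.map (CommRingCat.ofHom (algebraMap R₁ (Localization.Away s)))
  have hjx : ∀ x : Spec (CommRingCat.of (Localization.Away s)), j x ∈ PrimeSpectrum.basicOpen s := by
    intro x hx
    exact x.isPrime.ne_top (Ideal.eq_top_of_isUnit_mem _ hx
      (IsLocalization.Away.algebraMap_isUnit s))
  have hrange : Set.range (j ≫ e₁) ⊆ Set.range hW.fromSpec := by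
    rw [hW.range_fromSpec]
    rintro _ ⟨x, rfl⟩
    exact hs2 (hjx x)
  let l : Spec (CommRingCat.of (Localization.Away s)) ⟶ Spec Γ(X, W) :=
    IsOpenImmersion.lift hW.fromSpec (j ≫ e₁) hrange
  have hl : l ≫ hW.fromSpec = j ≫ e₁ := IsOpenImmersion.lift_fac _ _ _
  obtain ⟨β, hβ⟩ := Spec.map_surjective l
  haveI : Etale (l ≫ hW.fromSpec) := by rw [hl]; infer_instance
  haveI : Etale l := MorphismProperty.of_postcomp (W := @Etale) (W' := @Etale) l hW.fromSpec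
    inferInstance inferInstance
  have hβet : β.hom.Etale := (HasRingHomProperty.Spec_iff (P := @Etale)).mp (hβ ▸ inferInstance)
  let t : Γ(Y, VZ) := φ₁.hom s
  have hVZ' : IsAffineOpen (Y.basicOpen t) := hVZ.basicOpen t
  let res : Γ(Y, VZ) ⟶ Γ(Y, Y.basicOpen t) := Y.presheaf.map (homOfLE (Y.basicOpen_le t)).op
  haveI locD : IsLocalization.Away t Γ(Y, Y.basicOpen t) := hVZ.isLocalization_basicOpen t
  letI alg₁ : Algebra R₁ Γ(Y, VZ) := φ₁.hom.toAlgebra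
  have hunit : IsUnit ((res.hom.comp φ₁.hom) s) := IsLocalization.Away.algebraMap_isUnit t
  let γ : Localization.Away s →+* Γ(Y, Y.basicOpen t) := IsLocalization.Away.lift s hunit
  letI algCD : Algebra (Localization.Away s) Γ(Y, Y.basicOpen t) := γ.toAlgebra
  letI algR₁D : Algebra R₁ Γ(Y, Y.basicOpen t) := (res.hom.comp φ₁.hom).toAlgebra
  have hγ : γ.comp (algebraMap R₁ (Localization.Away s)) = res.hom.comp φ₁.hom :=
    IsLocalization.Away.lift_comp s hunit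
  haveI : IsScalarTower R₁ (Localization.Away s) Γ(Y, Y.basicOpen t) :=
    IsScalarTower.of_algebraMap_eq' hγ.symm
  haveI : IsScalarTower R₁ Γ(Y, VZ) Γ(Y, Y.basicOpen t) := IsScalarTower.of_algebraMap_eq' rfl
  haveI locD' : IsLocalization.Away (algebraMap R₁ Γ(Y, VZ) s) Γ(Y, Y.basicOpen t) := locD
  have hnD : IsRootTower p n₁ (Localization.Away s) Γ(Y, Y.basicOpen t) :=
    of_isLocalization_away p n₁ R₁ Γ(Y, VZ) s (Localization.Away s) Γ(Y, Y.basicOpen t) hn₁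
  refine ⟨Y.basicOpen t, hVZ', CommRingCat.of (Localization.Away s), β, CommRingCat.ofHom γ,
    ?_, hβet, ?_, n₁, hnD⟩
  · have h1 : zt ∈ hVZ.fromSpec ⁻¹ᵁ Y.basicOpen t := by
      rw [hVZ.fromSpec_preimage_basicOpen]; exact hs1
    rw [← hzt]; exact h1
  · have F2 : Spec.map (CommRingCat.ofHom γ) ≫ j = Spec.map res ≫ Spec.map φ₁ := by
      rw [← Spec.map_comp, ← Spec.map_comp]
      congr 1
      ext x
      exact congrArg (fun f => f x) hγ
    have F4 : Spec.map res ≫ hVZ.fromSpec = hVZ'.fromSpec := hVZ.map_fromSpec hVZ' _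
    calc Spec.map (CommRingCat.ofHom γ) ≫ Spec.map β ≫ hW.fromSpec
        = (Spec.map (CommRingCat.ofHom γ) ≫ j) ≫ e₁ := by
          rw [hβ, hl]; simp only [Category.assoc]
      _ = Spec.map res ≫ (Spec.map φ₁ ≫ e₁) := by
          rw [F2]; simp only [Category.assoc]
      _ = (Spec.map res ≫ hVZ.fromSpec) ≫ f := by
          rw [hfac₁]; simp only [Category.assoc]
      _ = hVZ'.fromSpec ≫ f := by rw [F4]

/-- consequences of the commutation in `nf_loc`: `V ≤ f ⁻¹ᵁ W` and `f.appLE W V _ = β ≫ φ`. -/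
theorem le_preimage_of_fac {X Y : Scheme.{u}} (f : Y ⟶ X) {V : Y.Opens} (hV : IsAffineOpen V)
    {W : X.Opens} (hW : IsAffineOpen W) (ψ : Γ(X, W) ⟶ Γ(Y, V))
    (hfac : Spec.map ψ ≫ hW.fromSpec = hV.fromSpec ≫ f) : V ≤ f ⁻¹ᵁ W := by
  intro v hv
  obtain ⟨w, rfl⟩ : v ∈ Set.range hV.fromSpec := by rw [hV.range_fromSpec]; exact hv
  show f (hV.fromSpec w) ∈ W
  have h1 : f (hV.fromSpec w) = hW.fromSpec (Spec.map ψ w) := (congr($(hfac) w)).symm
  rw [h1]
  have : hW.fromSpec (Spec.map ψ w) ∈ Set.range hW.fromSpec := ⟨_, rfl⟩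
  rw [hW.range_fromSpec] at this
  exact this

theorem appLE_eq_of_fac {X Y : Scheme.{u}} (f : Y ⟶ X) {V : Y.Opens} (hV : IsAffineOpen V)
    {W : X.Opens} (hW : IsAffineOpen W) (ψ : Γ(X, W) ⟶ Γ(Y, V))
    (hfac : Spec.map ψ ≫ hW.fromSpec = hV.fromSpec ≫ f) (hle : V ≤ f ⁻¹ᵁ W) :
    f.appLE W V hle = ψ := by
  have h1 := IsAffineOpen.SpecMap_appLE_fromSpec f hW hV hle
  have h2 : Spec.map (f.appLE W V hle) = Spec.map ψ := by
    rw [← cancel_mono hW.fromSpec, h1, hfac]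
  exact Spec.map_injective h2

end Groth.Agent.Lib.QuietLoc37
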