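import Mathlib
import Groth.Prelude.Def_W4c2gaugesfzipsQuiet
import Groth.Agent.Lib.QuietTower37
import Groth.Agent.Lib.QuietSch37
import Groth.Agent.Lib.QuietLoc37

/-!
# Quasi-étale morphisms: base change (helper37)

* `tower_of_isPushout_cat`: base change of a root tower along a pushout square in `CommRingCat`;
* `nf_of_openImmersion`: a normal form from an affine open immersion `Spec S ⟶ Y`;
* `nf_baseChange`: the normal form is stable under base change.
-/

set_option autoImplicit false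
universe u

open CategoryTheory AlgebraicGeometry Quiet Limits

namespace Groth.Agent.Lib.QuietBC37

open Groth.Agent.Lib.QuietTower37 Groth.Agent.Lib.QuietSch37 Groth.Agent.Lib.QuietLoc37

theorem tower_of_isPushout_cat (p n : ℕ) {A B A' B' : CommRingCat.{u}} (φ : A ⟶ B) (α : A ⟶ A')
    (ν : B ⟶ B') (φ' : A' ⟶ B') (H : IsPushout φ α ν φ')
    (h : @IsRootTower p n A B _ _ φ.hom.toAlgebra) :
    @IsRootTower p n A' B' _ _ φ'.hom.toAlgebra := by
  letI : Algebra A B := φ.hom.toAlgebra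
  letI : Algebra A A' := α.hom.toAlgebra
  letI : Algebra A' B' := φ'.hom.toAlgebra
  letI : Algebra B B' := ν.hom.toAlgebra
  letI : Algebra A B' := (φ ≫ ν).hom.toAlgebra
  haveI : IsScalarTower A B B' := .of_algebraMap_eq' rfl
  haveI : IsScalarTower A A' B' := .of_algebraMap_eq' (congrArg CommRingCat.Hom.hom H.w)
  haveI : Algebra.IsPushout A B A' B' := CommRingCat.isPushout_iff_isPushout.mp H
  exact of_isPushout p n A B A' B' h

theorem nf_of_openImmersion {X Y : Scheme.{u}} (p : ℕ) (f : Y ⟶ X) (y : Y) (S : CommRingCat.{u})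
    (ι : Spec S ⟶ Y) [IsOpenImmersion ι] (hy : y ∈ Set.range ι) (R : CommRingCat.{u})
    (e : Spec R ⟶ X) (he : Etale e) (φ : R ⟶ S) (hfac : Spec.map φ ≫ e = ι ≫ f) (n : ℕ)
    (h : @IsRootTower p n R S _ _ φ.hom.toAlgebra) : NF p f y := by
  have hV : IsAffineOpen ι.opensRange := isAffineOpen_opensRange ι
  have hrange : Set.range hV.fromSpec = Set.range ι := by
    rw [hV.range_fromSpec]; rfl
  let k : Spec Γ(Y, ι.opensRange) ≅ Spec S := IsOpenImmersion.isoOfRangeEq hV.fromSpec ι hrange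
  have hk : k.hom ≫ ι = hV.fromSpec := IsOpenImmersion.isoOfRangeEq_hom_fac _ _ _
  obtain ⟨θ, hθ⟩ := Spec.map_surjective k.hom
  obtain ⟨θ', hθ'⟩ := Spec.map_surjective k.inv
  have h1 : θ ≫ θ' = 𝟙 _ := Spec.map_injective (by
    rw [Spec.map_comp, hθ, hθ', Spec.map_id]; exact k.inv_hom_id)
  have h2 : θ' ≫ θ = 𝟙 _ := Spec.map_injective (by
    rw [Spec.map_comp, hθ, hθ', Spec.map_id]; exact k.hom_inv_id)
  haveI : IsIso θ := ⟨θ', h1, h2⟩
  refine ⟨ι.opensRange, hV, R, e, φ ≫ θ, hy, he, ?_, n, ?_⟩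
  · rw [Spec.map_comp, Category.assoc, hfac, ← Category.assoc, hθ, hk]
  · exact of_commSq p n φ (φ ≫ θ) (𝟙 R) θ (Category.id_comp _).symm h

theorem nf_baseChange {X Y X' Y' : Scheme.{u}} (p : ℕ) (f : Y ⟶ X) (g : X' ⟶ X) (f' : Y' ⟶ X')
    (g' : Y' ⟶ Y) (H : IsPullback g' f' f g) (y' : Y') (h : NF p f (g' y')) : NF p f' y' := by
  have hcomm : f (g' y') = g (f' y') := congr($(H.w) y')
  obtain ⟨W, hW, hxW⟩ : ∃ W : X.Opens, IsAffineOpen W ∧ g (f' y') ∈ W := by
    obtain ⟨_, ⟨W, hW, rfl⟩, hy, -⟩ :=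
      X.isBasis_affineOpens.exists_subset_of_mem_open (Set.mem_univ (g (f' y'))) isOpen_univ
    exact ⟨W, hW, hy⟩
  obtain ⟨W', hW', hxW', hW'le⟩ :
      ∃ W' : X'.Opens, IsAffineOpen W' ∧ f' y' ∈ W' ∧ W' ≤ g ⁻¹ᵁ W := by
    obtain ⟨_, ⟨W', hW', rfl⟩, hy, hle⟩ :=
      X'.isBasis_affineOpens.exists_subset_of_mem_open
        (show f' y' ∈ ((g ⁻¹ᵁ W : X'.Opens) : Set X') from hxW) (g ⁻¹ᵁ W).isOpen
    exact ⟨W', hW', hy, hle⟩
  obtain ⟨V, hV, C, β, φ, hyV, hβ, hfac, n, htower⟩ :=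
    nf_loc p f (g' y') h W hW (hcomm ▸ hxW)
  let γ : Γ(X, W) ⟶ Γ(X', W') := g.appLE W W' hW'le
  have hγ : Spec.map γ ≫ hW.fromSpec = hW'.fromSpec ≫ g :=
    IsAffineOpen.SpecMap_appLE_fromSpec g hW hW' hW'le
  let β' : Γ(X', W') ⟶ pushout γ β := pushout.inl γ β
  let κ : C ⟶ pushout γ β := pushout.inr γ β
  have hP1 : IsPushout γ β β' κ := IsPushout.of_hasPushout γ β
  let ν : Γ(Y, V) ⟶ pushout φ κ := pushout.inl φ κ
  let φ' : pushout γ β ⟶ pushout φ κ := pushout.inr φ κ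
  have hP2 : IsPushout φ κ ν φ' := IsPushout.of_hasPushout φ κ
  have hβ' : β'.hom.Etale :=
    RingHom.Etale.isStableUnderBaseChange.pushout_inl RingHom.Etale.respectsIso γ β hβ
  have htower' := tower_of_isPushout_cat p n φ κ ν φ' hP2 htower
  have hQ2 : IsPullback (Spec.map ν) (Spec.map φ') (Spec.map φ) (Spec.map κ) :=
    isPullback_SpecMap_of_isPushout φ κ ν φ' hP2
  have hQ1 : IsPullback (Spec.map κ) (Spec.map β') (Spec.map β) (Spec.map γ) :=
    isPullback_SpecMap_of_isPushout β γ κ β' hP1.flip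
  have hQ : IsPullback (Spec.map ν) (Spec.map φ' ≫ Spec.map β') (Spec.map φ ≫ Spec.map β)
      (Spec.map γ) := hQ2.paste_vert hQ1
  have e₁ : (Spec.map φ ≫ Spec.map β) ≫ hW.fromSpec = hV.fromSpec ≫ f := by
    rw [Category.assoc, hfac]
  let m := pullback.map (Spec.map φ ≫ Spec.map β) (Spec.map γ) f g hV.fromSpec hW'.fromSpec
    hW.fromSpec e₁ hγ
  let ι : Spec (pushout φ κ) ⟶ Y' := hQ.isoPullback.hom ≫ m ≫ H.isoPullback.inv
  haveI : IsOpenImmersion ι := by dsimp only [ι, m]; infer_instance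
  have hιf : ι ≫ f' = (Spec.map φ' ≫ Spec.map β') ≫ hW'.fromSpec := by
    simp only [ι, m, Category.assoc, IsPullback.isoPullback_inv_snd, pullback.map,
      pullback.lift_snd, IsPullback.isoPullback_hom_snd_assoc]
  have hy' : y' ∈ Set.range ι := by
    have hz : H.isoPullback.hom y' ∈ Set.range m := by
      rw [Scheme.Pullback.range_map]
      refine ⟨?_, ?_⟩
      · show pullback.fst f g (H.isoPullback.hom y') ∈ Set.range hV.fromSpec
        rw [hV.range_fromSpec, ← Scheme.Hom.comp_apply, IsPullback.isoPullback_hom_fst]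
        exact hyV
      · show pullback.snd f g (H.isoPullback.hom y') ∈ Set.range hW'.fromSpec
        rw [hW'.range_fromSpec, ← Scheme.Hom.comp_apply, IsPullback.isoPullback_hom_snd]
        exact hxW'
    obtain ⟨t, ht⟩ := hz
    refine ⟨hQ.isoPullback.inv t, ?_⟩
    show (hQ.isoPullback.hom ≫ m ≫ H.isoPullback.inv) (hQ.isoPullback.inv t) = y'
    rw [← Scheme.Hom.comp_apply, Iso.inv_hom_id_assoc, Scheme.Hom.comp_apply, ht,
      ← Scheme.Hom.comp_apply, Iso.hom_inv_id]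
    rfl
  have he' : Etale (Spec.map β' ≫ hW'.fromSpec) := by
    haveI : Etale (Spec.map β') := (HasRingHomProperty.Spec_iff (P := @Etale)).mpr hβ'
    infer_instance
  exact nf_of_openImmersion p f' y' (pushout φ κ) ι hy' (pushout γ β)
    (Spec.map β' ≫ hW'.fromSpec) he' φ' (by rw [hιf, Category.assoc]) n htower'

end Groth.Agent.Lib.QuietBC37
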