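import Mathlib
import Groth.Prelude.Def_W4c2gaugesfzipsQuiet
import Groth.Prelude.Def_Frob
import Groth.Agent.Lib.QuietTower37
import Groth.Agent.Lib.RelFrobSmooth

/-!
# Étale algebras descend along `p`-th root towers in characteristic `p` (helper37)

If `A → B` is a root tower (char `p`) and `C` is étale over `B`, then there is an étale `A`-algebra
`A'` with an `A'`-algebra structure on `C` making `C` a root tower over `A'`
(`etale_descent`).  The single step uses `ψ : A[x]/(x^p-a) → A`, `Σ cᵢ xⁱ ↦ Σ cᵢ^p aⁱ`, through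
which the Frobenius of `A[x]/(x^p-a)` factors, and the fact that Frobenius squares of étale maps
are pushouts.
-/

set_option autoImplicit false
universe u

namespace Groth.Agent.Lib.QuietEtaleDescent37

open Polynomial Quiet CategoryTheory Limits
open Groth.Agent.Lib.QuietTower37
open Groth.Agent.Lib.RelFrobSmooth Groth.Agent.Lib.RelFrobSmooth.FrobRel

section single
variable (p : ℕ) [Fact p.Prime] (A : Type u) [CommRing A] (hA : (p : A) = 0) (a : A)
include hA

/-- `ψ : A[x]/(x^p − a) → A`, `Σ cᵢ xⁱ ↦ Σ cᵢ^p aⁱ`. -/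
noncomputable def psi : RootRing p A a →+* A :=
  AdjoinRoot.lift (FrobSch.powHom p A hA) a (by
    simp [eval₂_sub, eval₂_pow, FrobSch.powHom_apply])

lemma natCast_rootRing : (p : RootRing p A a) = 0 := by
  rw [← map_natCast (algebraMap A (RootRing p A a)), hA, map_zero]

lemma algebraMap_psi (x : RootRing p A a) :
    algebraMap A (RootRing p A a) (psi p A hA a x) = x ^ p := by
  have h : (algebraMap A (RootRing p A a)).comp (psi p A hA a) =
      FrobSch.powHom p (RootRing p A a) (natCast_rootRing p A hA a) := by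
    apply AdjoinRoot.ringHom_ext
    · ext y
      simp [psi, AdjoinRoot.algebraMap_eq]
    · simp [psi, root_pow]
  exact congrArg (fun f => f x) h

theorem single_step (C : Type u) [CommRing C] [Algebra (RootRing p A a) C]
    [Algebra.Etale (RootRing p A a) C] [Algebra A C] [IsScalarTower A (RootRing p A a) C] :
    ∃ (A' : Type u) (_ : CommRing A') (_ : Algebra A A') (_ : Algebra A' C),
      Algebra.Etale A A' ∧ IsScalarTower A A' C ∧ ∃ m, IsRootTower p m A' C := by
  let ψc : CommRingCat.of (RootRing p A a) ⟶ CommRingCat.of A := CommRingCat.ofHom (psi p A hA a)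
  let ιc : CommRingCat.of A ⟶ CommRingCat.of (RootRing p A a) :=
    CommRingCat.ofHom (algebraMap A (RootRing p A a))
  let cc : CommRingCat.of (RootRing p A a) ⟶ CommRingCat.of C :=
    CommRingCat.ofHom (algebraMap (RootRing p A a) C)
  let A'c : CommRingCat.{u} := pushout ψc cc
  let inl : CommRingCat.of A ⟶ A'c := pushout.inl ψc cc
  let inr : CommRingCat.of C ⟶ A'c := pushout.inr ψc cc
  have t : IsPushout ψc cc inl inr := IsPushout.of_hasPushout ψc cc
  have het : inl.hom.Etale :=
    RingHom.Etale.isStableUnderBaseChange.pushout_inl RingHom.Etale.respectsIso ψc cc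
      (RingHom.etale_algebraMap.mpr inferInstance)
  letI algA' : Algebra A A'c := inl.hom.toAlgebra
  have etA' : Algebra.Etale A A'c := RingHom.etale_algebraMap.mp het
  have hιcc : (ιc ≫ cc).hom = algebraMap A C := by
    rw [IsScalarTower.algebraMap_eq A (RootRing p A a) C]; rfl
  rcases subsingleton_or_nontrivial C with hC | hC
  · have w : ψc ≫ ιc ≫ cc = cc ≫ 𝟙 _ := by
      exact CommRingCat.hom_ext (RingHom.ext fun x => Subsingleton.elim _ _)
    let d : A'c ⟶ CommRingCat.of C := pushout.desc (ιc ≫ cc) (𝟙 _) w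
    letI algC : Algebra A'c C := d.hom.toAlgebra
    have h3 : inl ≫ d = ιc ≫ cc := pushout.inl_desc _ _ _
    have tw : IsScalarTower A A'c C := IsScalarTower.of_algebraMap_eq' (by
      rw [← hιcc, ← h3]; rfl)
    haveI : Subsingleton A'c := inr.hom.codomain_trivial
    have hbij : Function.Bijective (algebraMap A'c C) :=
      ⟨fun x y _ => Subsingleton.elim x y, fun c => ⟨0, Subsingleton.elim _ _⟩⟩
    exact ⟨A'c, inferInstance, algA', algC, etA', tw, 0,
      ⟨(AlgEquiv.ofBijective (Algebra.ofId A'c C) hbij).symm⟩⟩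
  · haveI : Nontrivial A := (algebraMap A C).domain_nontrivial
    haveI : CharP A p := (CharP.charP_iff_prime_eq_zero Fact.out).2 hA
    haveI : Nontrivial (RootRing p A a) := (psi p A hA a).domain_nontrivial
    haveI : CharP (RootRing p A a) p := charP_of_algebra' p A _
    haveI : CharP C p := charP_of_algebra' p A C
    have s := isPushout_outer p A (RootRing p A a) C
    let FC : CommRingCat.of C ⟶ CommRingCat.of C :=
      CommRingCat.ofHom (Algebra.TensorProduct.includeLeftRingHom :
        C →+* FrobAlg.BaseChange p A C) ≫ CommRingCat.ofHom (FrobAlg.relFrob p A C)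
    have h₁ : CommRingCat.ofHom (Algebra.TensorProduct.includeLeftRingHom :
        RootRing p A a →+* FrobAlg.BaseChange p A (RootRing p A a)) ≫
          CommRingCat.ofHom (FrobAlg.relFrob p A (RootRing p A a)) = ψc ≫ ιc := by
      refine CommRingCat.hom_ext (RingHom.ext fun x => ?_)
      show FrobAlg.relFrob p A (RootRing p A a) (x ⊗ₜ 1) =
        algebraMap A (RootRing p A a) (psi p A hA a x)
      rw [relFrob_includeLeft, algebraMap_psi]
    have w : ψc ≫ ιc ≫ cc = cc ≫ FC := by
      rw [← Category.assoc, ← h₁]; exact s.w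
    let d : A'c ⟶ CommRingCat.of C := pushout.desc (ιc ≫ cc) FC w
    have h₂ : inr ≫ d = FC := pushout.inr_desc _ _ _
    have h₃ : inl ≫ d = ιc ≫ cc := pushout.inl_desc _ _ _
    have s' : IsPushout (ψc ≫ ιc) cc cc (inr ≫ d) := by
      rw [h₂, ← h₁]; exact s
    have r : IsPushout ιc inl cc d := IsPushout.of_left s' h₃.symm t
    letI algC : Algebra A'c C := d.hom.toAlgebra
    have tw : IsScalarTower A A'c C := IsScalarTower.of_algebraMap_eq' (by
      rw [← hιcc, ← h₃]; rfl)
    have hpo : Algebra.IsPushout A (RootRing p A a) A'c C :=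
      CommRingCat.isPushout_iff_isPushout.mp r
    have h1 : IsRootTower p 1 A (RootRing p A a) :=
      ⟨a, Algebra.id _, inferInstance, ⟨AlgEquiv.refl⟩⟩
    exact ⟨A'c, inferInstance, algA', algC, etA', tw, 1,
      of_isPushout p 1 A (RootRing p A a) A'c C h1⟩

end single

theorem etale_descent (p : ℕ) [Fact p.Prime] (n : ℕ) :
    ∀ (A B C : Type u) [CommRing A] [CommRing B] [CommRing C] [Algebra A B] [Algebra B C]
      [Algebra A C] [IsScalarTower A B C] [Algebra.Etale B C], (p : A) = 0 → IsRootTower p n A B →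
      ∃ (A' : Type u) (_ : CommRing A') (_ : Algebra A A') (_ : Algebra A' C),
        Algebra.Etale A A' ∧ IsScalarTower A A' C ∧ ∃ m, IsRootTower p m A' C := by
  induction n with
  | zero =>
    intro A B C _ _ _ _ _ _ _ _ hA ⟨e⟩
    have : Algebra.Etale A B := Algebra.Etale.of_equiv e.symm
    have : Algebra.Etale A C := Algebra.Etale.comp A B C
    exact ⟨C, inferInstance, inferInstance, Algebra.id C, inferInstance, inferInstance, 0,
      ⟨AlgEquiv.refl⟩⟩
  | succ n ih =>
    intro A B C _ _ _ _ _ _ _ _ hA ⟨a, alg₁, tower, hn⟩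
    let _ : Algebra (RootRing p A a) C :=
      ((algebraMap B C).comp (algebraMap (RootRing p A a) B)).toAlgebra
    have t1 : IsScalarTower (RootRing p A a) B C := IsScalarTower.of_algebraMap_eq' rfl
    have t2 : IsScalarTower A (RootRing p A a) C := IsScalarTower.of_algebraMap_eq' (by
      rw [RingHom.algebraMap_toAlgebra, RingHom.comp_assoc,
        ← IsScalarTower.algebraMap_eq A (RootRing p A a) B, ← IsScalarTower.algebraMap_eq A B C])
    obtain ⟨B₁', _, algB₁', algC, et₁, tw₁, m, hm⟩ :=
      ih (RootRing p A a) B C (natCast_rootRing p A hA a) hn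
    let _ : Algebra A B₁' :=
      ((algebraMap (RootRing p A a) B₁').comp (algebraMap A (RootRing p A a))).toAlgebra
    have t3 : IsScalarTower A (RootRing p A a) B₁' := IsScalarTower.of_algebraMap_eq' rfl
    obtain ⟨A', _, algA', algA'B₁', et, tw, m', hm'⟩ := single_step p A hA a B₁'
    let _ : Algebra A' C := ((algebraMap B₁' C).comp (algebraMap A' B₁')).toAlgebra
    have t4 : IsScalarTower A' B₁' C := IsScalarTower.of_algebraMap_eq' rfl
    have t5 : IsScalarTower A A' C := IsScalarTower.of_algebraMap_eq' (by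
      rw [RingHom.algebraMap_toAlgebra, RingHom.comp_assoc,
        ← IsScalarTower.algebraMap_eq A A' B₁', IsScalarTower.algebraMap_eq A (RootRing p A a) B₁',
        ← RingHom.comp_assoc, ← IsScalarTower.algebraMap_eq (RootRing p A a) B₁' C,
        ← IsScalarTower.algebraMap_eq A (RootRing p A a) C])
    exact ⟨A', inferInstance, algA', inferInstance, et, t5, m' + m, comp p m' m A' B₁' C hm' hm⟩

end Groth.Agent.Lib.QuietEtaleDescent37
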