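import Mathlib
import Groth.Prelude.Def_W4c2gaugesfzipsQuiet
import Groth.Agent.Lib.QuietTower37

/-!
# Quasi-étale morphisms: lifting along a surjection of rings (helper37)

* `lift_standardEtale`: a standard étale algebra over `A₀ = A/I` lifts to an étale `A`-algebra;
* `lift_tower`: a root tower over `A` lifts along a surjection `A₁ → A`;
* `lift_cat`: both together, stated in `CommRingCat`.
-/

set_option autoImplicit false
universe u

open Polynomial TensorProduct Quiet CategoryTheory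

namespace Groth.Agent.Lib.QuietLift37

open Groth.Agent.Lib.QuietTower37

theorem includeRight_surjective (A A₀ B : Type u) [CommRing A] [CommRing A₀] [CommRing B]
    [Algebra A A₀] [Algebra A B] (hsurj : Function.Surjective (algebraMap A A₀)) :
    Function.Surjective (Algebra.TensorProduct.includeRight : B →ₐ[A] A₀ ⊗[A] B) := by
  intro z
  induction z using TensorProduct.induction_on with
  | zero => exact ⟨0, map_zero _⟩
  | tmul a₀ b =>
    obtain ⟨a, rfl⟩ := hsurj a₀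
    refine ⟨a • b, ?_⟩
    rw [Algebra.TensorProduct.includeRight_apply, Algebra.algebraMap_eq_smul_one,
      TensorProduct.smul_tmul]
  | add x y hx hy =>
    obtain ⟨x', rfl⟩ := hx
    obtain ⟨y', rfl⟩ := hy
    exact ⟨x' + y', map_add _ _ _⟩

section stdEtale

/-- inverting `g` or `g ^ (n + 1)` gives the same standard étale algebra. -/
noncomputable def equivOfPow {R : Type u} [CommRing R] (P P' : StandardEtalePair R)
    (hf : P'.f = P.f) (n : ℕ) (hg : P'.g = P.g ^ (n + 1)) : P'.Ring ≃ₐ[R] P.Ring :=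
  have h1 : P'.HasMap P.X :=
    ⟨by rw [hf]; exact P.hasMap_X.1, by rw [hg, map_pow]; exact P.hasMap_X.2.pow _⟩
  have h2 : P.HasMap P'.X := ⟨by rw [← hf]; exact P'.hasMap_X.1, by
    have := P'.hasMap_X.2
    rw [hg, map_pow] at this
    exact isUnit_pow_succ_iff.mp this⟩
  AlgEquiv.ofAlgHom (P'.lift P.X h1) (P.lift P'.X h2) (by ext; simp) (by ext; simp)

theorem lift_standardEtale (A A₀ C : Type u) [CommRing A] [CommRing A₀] [CommRing C]
    [Algebra A A₀] [Algebra A₀ C] [Algebra A C] [IsScalarTower A A₀ C]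
    (hsurj : Function.Surjective (algebraMap A A₀)) [Algebra.IsStandardEtale A₀ C] :
    ∃ (C₁ : Type u) (_ : CommRing C₁) (_ : Algebra A C₁) (_ : Algebra C₁ C)
      (_ : IsScalarTower A C₁ C), Algebra.Etale A C₁ ∧ Algebra.IsPushout A A₀ C₁ C ∧
        Function.Surjective (algebraMap C₁ C) := by
  obtain ⟨P₀⟩ := Algebra.IsStandardEtale.nonempty_standardEtalePresentation (R := A₀) (S := C)
  obtain ⟨p₁, p₂, n, hcond⟩ := P₀.cond
  obtain ⟨f₁, hf₁map, -, hf₁monic⟩ := Polynomial.lifts_and_natDegree_eq_and_monic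
    (f := algebraMap A A₀) (p := P₀.f)
    ((Polynomial.mem_lifts _).mpr (Polynomial.map_surjective _ hsurj _)) P₀.monic_f
  obtain ⟨q₁, hq₁⟩ := Polynomial.map_surjective (algebraMap A A₀) hsurj p₁
  obtain ⟨q₂, hq₂⟩ := Polynomial.map_surjective (algebraMap A A₀) hsurj p₂
  obtain ⟨g₀, hg₀⟩ := Polynomial.map_surjective (algebraMap A A₀) hsurj P₀.g
  let P₁ : StandardEtalePair A := ⟨f₁, hf₁monic, (derivative f₁ * q₁ + f₁ * q₂) * g₀,
    ⟨q₁ * g₀, q₂ * g₀, 1, by ring⟩⟩
  let Q₁ : StandardEtalePresentation A P₁.Ring := ⟨P₁, P₁.X, P₁.hasMap_X, by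
    simpa [StandardEtalePair.lift_X_left] using Function.bijective_id⟩
  let Q₂ : StandardEtalePresentation A₀ (A₀ ⊗[A] P₁.Ring) := Q₁.baseChange
  have hf : Q₂.P.f = P₀.P.f := by
    show (P₁.map (algebraMap A A₀)).f = P₀.f
    simp [P₁, hf₁map]
  have hg : Q₂.P.g = P₀.P.g ^ (n + 1) := by
    show (P₁.map (algebraMap A A₀)).g = P₀.g ^ (n + 1)
    simp only [StandardEtalePair.map_g, P₁, Polynomial.map_mul, Polynomial.map_add,
      ← Polynomial.derivative_map, hf₁map, hq₁, hq₂, hg₀, hcond, pow_succ]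
  let e : A₀ ⊗[A] P₁.Ring ≃ₐ[A₀] C :=
    Q₂.equivRing.trans ((equivOfPow P₀.P Q₂.P hf n hg).trans P₀.equivRing.symm)
  letI algC₁C : Algebra P₁.Ring C := (e.toAlgHom.toRingHom.comp
    (Algebra.TensorProduct.includeRight (R := A) (A := A₀) (B := P₁.Ring)).toRingHom).toAlgebra
  have htower : IsScalarTower A P₁.Ring C := IsScalarTower.of_algebraMap_eq (fun a => by
    have h1 : (Algebra.TensorProduct.includeRight : P₁.Ring →ₐ[A] A₀ ⊗[A] P₁.Ring)
        (algebraMap A P₁.Ring a) = algebraMap A₀ (A₀ ⊗[A] P₁.Ring) (algebraMap A A₀ a) := by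
      rw [AlgHom.commutes, IsScalarTower.algebraMap_apply A A₀ (A₀ ⊗[A] P₁.Ring)]
    show algebraMap A C a = e (Algebra.TensorProduct.includeRight (algebraMap A P₁.Ring a))
    rw [h1, e.commutes, ← IsScalarTower.algebraMap_apply A A₀ C])
  have hpo : Algebra.IsPushout A A₀ P₁.Ring C := by
    letI : Algebra P₁.Ring (A₀ ⊗[A] P₁.Ring) := Algebra.TensorProduct.rightAlgebra
    haveI : Algebra.IsPushout A A₀ P₁.Ring (A₀ ⊗[A] P₁.Ring) := TensorProduct.isPushout
    exact Algebra.IsPushout.of_equiv e rfl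
  have hsurj' : Function.Surjective (algebraMap P₁.Ring C) := by
    show Function.Surjective (fun x => e (Algebra.TensorProduct.includeRight x))
    exact e.surjective.comp (includeRight_surjective A A₀ P₁.Ring hsurj)
  exact ⟨P₁.Ring, inferInstance, inferInstance, algC₁C, htower, inferInstance, hpo, hsurj'⟩

end stdEtale

theorem lift_tower (p : ℕ) (n : ℕ) :
    ∀ (A₁ A B : Type u) [CommRing A₁] [CommRing A] [CommRing B] [Algebra A₁ A] [Algebra A B]
      [Algebra A₁ B] [IsScalarTower A₁ A B],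
      Function.Surjective (algebraMap A₁ A) → IsRootTower p n A B →
      ∃ (B₁ : Type u) (_ : CommRing B₁) (_ : Algebra A₁ B₁) (_ : Algebra B₁ B)
        (_ : IsScalarTower A₁ B₁ B), IsRootTower p n A₁ B₁ ∧ Algebra.IsPushout A₁ A B₁ B := by
  induction n with
  | zero =>
    intro A₁ A B _ _ _ _ _ _ _ hsurj ⟨e⟩
    refine ⟨A₁, inferInstance, inferInstance, inferInstance, inferInstance,
      ⟨AlgEquiv.refl⟩, ?_⟩
    haveI : Algebra.IsPushout A₁ A A₁ A := inferInstance
    refine Algebra.IsPushout.of_equiv e.symm ?_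
    ext x
    show e.symm (algebraMap A₁ A x) = algebraMap A₁ B x
    have h1 : e.symm (algebraMap A₁ A x) = algebraMap A B (algebraMap A₁ A x) :=
      e.symm.commutes (algebraMap A₁ A x)
    rw [h1, ← IsScalarTower.algebraMap_apply]
  | succ n ih =>
    intro A₁ A B _ _ _ _ _ _ _ hsurj ⟨a, alg₁, tower, hn⟩
    obtain ⟨a₁, rfl⟩ := hsurj a
    have hdvd : (X ^ p - C (algebraMap A₁ A a₁) : A[X]) ∣
        (X ^ p - C a₁ : A₁[X]).map (algebraMap A₁ A) := dvd_of_eq (rootPoly_map p _ a₁).symm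
    let φ : RootRing p A₁ a₁ →+* RootRing p A (algebraMap A₁ A a₁) :=
      AdjoinRoot.map (algebraMap A₁ A) _ _ hdvd
    letI algφ : Algebra (RootRing p A₁ a₁) (RootRing p A (algebraMap A₁ A a₁)) := φ.toAlgebra
    have hmk : φ.comp (AdjoinRoot.mk (X ^ p - C a₁ : A₁[X])) =
        (AdjoinRoot.mk (X ^ p - C (algebraMap A₁ A a₁) : A[X])).comp
          (Polynomial.mapRingHom (algebraMap A₁ A)) := by
      apply Polynomial.ringHom_ext
      · intro c
        simp [φ, AdjoinRoot.mk_C]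
      · simp [φ, AdjoinRoot.mk_X]
    have hφsurj : Function.Surjective
        (algebraMap (RootRing p A₁ a₁) (RootRing p A (algebraMap A₁ A a₁))) := by
      show Function.Surjective φ
      intro z
      obtain ⟨q, rfl⟩ := AdjoinRoot.mk_surjective z
      obtain ⟨q₁, rfl⟩ := Polynomial.map_surjective (algebraMap A₁ A) hsurj q
      exact ⟨AdjoinRoot.mk _ q₁, congrArg (fun ψ => ψ q₁) hmk⟩
    letI alg₁B : Algebra (RootRing p A₁ a₁) B :=
      ((algebraMap (RootRing p A (algebraMap A₁ A a₁)) B).comp φ).toAlgebra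
    haveI t1 : IsScalarTower (RootRing p A₁ a₁) (RootRing p A (algebraMap A₁ A a₁)) B :=
      IsScalarTower.of_algebraMap_eq' rfl
    obtain ⟨B₁, cB₁, algR₁B₁, algB₁B, tw, hn₁, hpo⟩ :=
      ih (RootRing p A₁ a₁) (RootRing p A (algebraMap A₁ A a₁)) B hφsurj hn
    letI algA₁B₁ : Algebra A₁ B₁ :=
      ((algebraMap (RootRing p A₁ a₁) B₁).comp (algebraMap A₁ (RootRing p A₁ a₁))).toAlgebra
    haveI t2 : IsScalarTower A₁ (RootRing p A₁ a₁) B₁ := IsScalarTower.of_algebraMap_eq' rfl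
    haveI t4 : IsScalarTower A₁ (RootRing p A₁ a₁) (RootRing p A (algebraMap A₁ A a₁)) :=
      IsScalarTower.of_algebraMap_eq' (by
        ext x
        simp [RingHom.algebraMap_toAlgebra, φ, AdjoinRoot.algebraMap_eq,
          AdjoinRoot.algebraMap_eq'])
    haveI t5 : IsScalarTower A₁ (RootRing p A (algebraMap A₁ A a₁)) B :=
      IsScalarTower.of_algebraMap_eq (fun x => by
        rw [IsScalarTower.algebraMap_apply A₁ A B,
          IsScalarTower.algebraMap_apply A (RootRing p A (algebraMap A₁ A a₁)) B,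
          ← IsScalarTower.algebraMap_apply A₁ A (RootRing p A (algebraMap A₁ A a₁))])
    haveI t3 : IsScalarTower A₁ B₁ B := IsScalarTower.of_algebraMap_eq (fun x => by
      show algebraMap A₁ B x = algebraMap B₁ B (algebraMap (RootRing p A₁ a₁) B₁
        (algebraMap A₁ (RootRing p A₁ a₁) x))
      rw [← IsScalarTower.algebraMap_apply (RootRing p A₁ a₁) B₁ B,
        IsScalarTower.algebraMap_apply (RootRing p A₁ a₁) (RootRing p A (algebraMap A₁ A a₁)) B,
        ← IsScalarTower.algebraMap_apply A₁ (RootRing p A₁ a₁) (RootRing p A (algebraMap A₁ A a₁)),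
        ← IsScalarTower.algebraMap_apply A₁ (RootRing p A (algebraMap A₁ A a₁)) B])
    have po1 : Algebra.IsPushout A₁ (RootRing p A₁ a₁) A (RootRing p A (algebraMap A₁ A a₁)) :=
      (rootRing_isPushout p A₁ A a₁ rfl).symm
    have hpo2 : Algebra.IsPushout A₁ B₁ A B :=
      (Algebra.IsPushout.comp_iff A₁ (RootRing p A₁ a₁) A
        (RootRing p A (algebraMap A₁ A a₁))).mpr hpo.symm
    exact ⟨B₁, cB₁, algA₁B₁, algB₁B, t3, ⟨a₁, algR₁B₁, t2, hn₁⟩, hpo2.symm⟩

theorem lift_cat (p n : ℕ) {A A₀ C D : CommRingCat.{u}} (π : A ⟶ A₀)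
    (hπ : Function.Surjective π.hom) (β : A₀ ⟶ C)
    (hβ : @Algebra.IsStandardEtale A₀ C _ _ β.hom.toAlgebra) (φ : C ⟶ D)
    (h : @IsRootTower p n C D _ _ φ.hom.toAlgebra) :
    ∃ (C₁ D₁ : CommRingCat.{u}) (β₁ : A ⟶ C₁) (φ₁ : C₁ ⟶ D₁) (σ : C₁ ⟶ C) (τ : D₁ ⟶ D),
      β₁.hom.Etale ∧ @IsRootTower p n C₁ D₁ _ _ φ₁.hom.toAlgebra ∧ IsPushout π β₁ β σ ∧
        IsPushout σ φ₁ φ τ := by
  letI : Algebra A A₀ := π.hom.toAlgebra
  letI : Algebra A₀ C := β.hom.toAlgebra
  letI : Algebra A C := (π ≫ β).hom.toAlgebra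
  haveI : IsScalarTower A A₀ C := .of_algebraMap_eq' rfl
  letI : Algebra C D := φ.hom.toAlgebra
  haveI := hβ
  obtain ⟨C₁, cC₁, algAC₁, algC₁C, tw1, het, hpo1, hsurj1⟩ := lift_standardEtale A A₀ C hπ
  letI : Algebra C₁ D := ((algebraMap C D).comp (algebraMap C₁ C)).toAlgebra
  haveI : IsScalarTower C₁ C D := .of_algebraMap_eq' rfl
  obtain ⟨D₁, cD₁, algC₁D₁, algD₁D, tw2, htower, hpo2⟩ := lift_tower p n C₁ C D hsurj1 h
  refine ⟨CommRingCat.of C₁, CommRingCat.of D₁, CommRingCat.ofHom (algebraMap A C₁),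
    CommRingCat.ofHom (algebraMap C₁ D₁), CommRingCat.ofHom (algebraMap C₁ C),
    CommRingCat.ofHom (algebraMap D₁ D), ?_, ?_, ?_, ?_⟩
  · exact RingHom.etale_algebraMap.mpr het
  · have : (algebraMap C₁ D₁).toAlgebra = algC₁D₁ := Algebra.algebra_ext _ _ (fun r => rfl)
    show @IsRootTower p n C₁ D₁ _ _ (algebraMap C₁ D₁).toAlgebra
    rw [this]
    exact htower
  · exact CommRingCat.isPushout_iff_isPushout.mpr hpo1
  · exact CommRingCat.isPushout_iff_isPushout.mpr hpo2

end Groth.Agent.Lib.QuietLift37
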