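import Groth.Agent.Lib.ClosedAct45
import Groth.Prelude.Def_W4bk4git07Quot

/-!
# Base change of the orbit clause of a geometric quotient; orbits upstairs and downstairs (helper45)

* `isPullback_kernelPair_snd`, `isPullback_lift_kernelPair` (any category with pullbacks): if
  `X' = X ×_Y Y'`, then `X' ×_{Y'} X' ⟶ X'` is the base change of `X ×_Y X ⟶ X`, and a
  "relation" `(σ', p') : R' ⟶ X' ×_{Y'} X'` lying over `(σ, p) : R ⟶ X ×_Y X` with `R' = R ×_X X'`
  (along `p`) is the base change of `(σ, p)`.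
* `surjective_PsiY_baseChange`: the orbit clause `G × X ⟶ X ×_Y X` surjective is stable under base
  change `Y' ⟶ Y` (for the induced action on `X' = X ×_Y Y'`).
* `exists_act_of_whiskerRight_eq`: points of `X ⊗ T` with the same image in `Y ⊗ T` are related by
  a point of `G ⊗ (X ⊗ T)`.
* `range_psi_eq_preimage`: for `N → H → Q` (with `H → Q` surjective), an `H`-action on `X`, an
  `N`-invariant `π : X ⟶ Y` with surjective `(σ, p₂) : N × X ⟶ X ×_Y X` and a `Q`-action on `Y`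
  making `π` equivariant: the `H`-orbit of a `T`-point `f` of `X` is the preimage of the `Q`-orbit of
  `f ≫ π`.
-/

set_option autoImplicit false
universe u v
open CategoryTheory CategoryTheory.Limits MonoidalCategory CartesianMonoidalCategory MonObj
  AlgebraicGeometry

namespace Groth.Agent.Lib.QuotBC45

section cat

variable {C : Type v} [Category.{u} C] [HasPullbacks C]
variable {X Y X' Y' : C} {φ : X ⟶ Y} {φ' : X' ⟶ Y'} {g : Y' ⟶ Y} {pr : X' ⟶ X}

lemma isPullback_kernelPair_snd (h : IsPullback pr φ' φ g) :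
    IsPullback (pullback.map φ' φ' φ φ pr pr g h.w.symm h.w.symm) (pullback.snd φ' φ')
      (pullback.snd φ φ) pr := by
  refine IsPullback.of_right (h₁₂ := pullback.fst φ φ) (h₂₂ := φ) (v₁₃ := φ) ?_
    (pullback.lift_snd _ _ _) (IsPullback.of_hasPullback φ φ)
  have e1 : pullback.map φ' φ' φ φ pr pr g h.w.symm h.w.symm ≫ pullback.fst φ φ =
      pullback.fst φ' φ' ≫ pr := pullback.lift_fst _ _ _
  rw [e1, h.w]
  exact (IsPullback.of_hasPullback φ' φ').paste_horiz h

lemma isPullback_lift_kernelPair {R R' : C} (h : IsPullback pr φ' φ g)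
    {σ p : R ⟶ X} {σ' p' : R' ⟶ X'} {w : R' ⟶ R}
    (hσ : σ ≫ φ = p ≫ φ) (hσ' : σ' ≫ φ' = p' ≫ φ')
    (hw : σ' ≫ pr = w ≫ σ) (hp : IsPullback w p' p pr) :
    IsPullback (pullback.lift σ' p' hσ') w (pullback.map φ' φ' φ φ pr pr g h.w.symm h.w.symm)
      (pullback.lift σ p hσ) := by
  refine IsPullback.of_right (h₁₂ := pullback.snd φ' φ') (h₂₂ := pullback.snd φ φ) (v₁₃ := pr)
    ?_ ?_ (isPullback_kernelPair_snd h).flip
  · rw [pullback.lift_snd, pullback.lift_snd]
    exact hp.flip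
  · apply pullback.hom_ext
    · have e1 : pullback.map φ' φ' φ φ pr pr g h.w.symm h.w.symm ≫ pullback.fst φ φ =
        pullback.fst φ' φ' ≫ pr := pullback.lift_fst _ _ _
      rw [Category.assoc, e1, pullback.lift_fst_assoc, Category.assoc, pullback.lift_fst, hw]
    · have e2 : pullback.map φ' φ' φ φ pr pr g h.w.symm h.w.symm ≫ pullback.snd φ φ =
        pullback.snd φ' φ' ≫ pr := pullback.lift_snd _ _ _
      rw [Category.assoc, e2, pullback.lift_snd_assoc, Category.assoc, pullback.lift_snd, hp.w]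

end cat

section sch

variable {S : Scheme.{u}} {G : Over S} [GrpObj G] {X Y X' Y' : Over S}

/-- The orbit clause is stable under base change. -/
theorem surjective_PsiY_baseChange (a : AlgGrp.Action G X) (φ : X ⟶ Y)
    (hinv : GIT.IsInvariant a φ) (horb : Function.Surjective (GIT.PsiY a φ hinv).base)
    {pr : X' ⟶ X} {φ' : X' ⟶ Y'} {g : Y' ⟶ Y}
    (hpb : IsPullback pr.left φ'.left φ.left g.left)
    (act' : G ⊗ X' ⟶ X') (hact : act' ≫ pr = (G ◁ pr) ≫ a.act)
    (hinv' : act'.left ≫ φ'.left = (snd G X').left ≫ φ'.left) :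
    Function.Surjective (pullback.lift act'.left (snd G X').left hinv').base := by
  have hw : act'.left ≫ pr.left = (G ◁ pr).left ≫ a.act.left := by
    rw [← Over.comp_left, hact, Over.comp_left]
  have hsq := isPullback_lift_kernelPair hpb (σ := a.act.left) (p := (snd G X).left)
    (σ' := act'.left) (p' := (snd G X').left) (w := (G ◁ pr).left) hinv.left hinv' hw
    (Groth.Agent.Lib.ActOpen18.isPullback_whiskerLeft_snd G pr)
  have h1 : Surjective (GIT.PsiY a φ hinv) := ⟨horb⟩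
  have h2 : Surjective (pullback.lift act'.left (snd G X').left hinv') :=
    MorphismProperty.of_isPullback hsq.flip h1
  exact h2.surj

/-- The action of `G` on `X ⊗ T` through the first factor. -/
noncomputable def actT (a : AlgGrp.Action G X) (T : Over S) : G ⊗ (X ⊗ T) ⟶ X ⊗ T :=
  (α_ G X T).inv ≫ (a.act ▷ T)

lemma actT_fst (a : AlgGrp.Action G X) (T : Over S) :
    actT a T ≫ fst X T = (G ◁ fst X T) ≫ a.act := by
  have h : (α_ G X T).inv ≫ fst (G ⊗ X) T = G ◁ fst X T := by ext <;> simp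
  rw [actT, Category.assoc, whiskerRight_fst, ← Category.assoc, h]

lemma actT_snd (a : AlgGrp.Action G X) (T : Over S) :
    actT a T ≫ snd X T = snd G (X ⊗ T) ≫ snd X T := by
  simp [actT]

lemma actT_whiskerRight (a : AlgGrp.Action G X) (φ : X ⟶ Y) (hinv : GIT.IsInvariant a φ)
    (T : Over S) : actT a T ≫ (φ ▷ T) = snd G (X ⊗ T) ≫ (φ ▷ T) := by
  ext
  · rw [Category.assoc, whiskerRight_fst, ← Category.assoc, actT_fst, Category.assoc, hinv,
      Category.assoc, whiskerRight_fst, whiskerLeft_snd_assoc]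
  · rw [Category.assoc, whiskerRight_snd, actT_snd, Category.assoc, whiskerRight_snd]

/-- Points of `X ⊗ T` with the same image in `Y ⊗ T` are related by a point of `G ⊗ (X ⊗ T)`. -/
theorem exists_act_of_whiskerRight_eq (a : AlgGrp.Action G X) (φ : X ⟶ Y)
    (hinv : GIT.IsInvariant a φ) (horb : Function.Surjective (GIT.PsiY a φ hinv).base)
    (T : Over S) (z z' : (X ⊗ T).left) (hz : (φ ▷ T).left z = (φ ▷ T).left z') :
    ∃ v : (G ⊗ (X ⊗ T)).left, (actT a T).left v = z ∧ (snd G (X ⊗ T)).left v = z' := by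
  have hinv' : (actT a T).left ≫ (φ ▷ T).left = (snd G (X ⊗ T)).left ≫ (φ ▷ T).left := by
    rw [← Over.comp_left, actT_whiskerRight a φ hinv T, Over.comp_left]
  have hs := surjective_PsiY_baseChange a φ hinv horb (pr := fst X T) (φ' := φ ▷ T)
    (g := fst Y T) (Groth.Agent.Lib.SchDomProd45.isPullback_whiskerRight_fst T φ).flip
    (actT a T) (actT_fst a T) hinv'
  obtain ⟨p, hp1, hp2⟩ := Scheme.Pullback.exists_preimage_pullback (f := (φ ▷ T).left)
    (g := (φ ▷ T).left) z z' hz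
  obtain ⟨v, rfl⟩ := hs p
  refine ⟨v, ?_, ?_⟩
  · rw [← hp1, ← Scheme.Hom.comp_apply, pullback.lift_fst]
  · rw [← hp2, ← Scheme.Hom.comp_apply, pullback.lift_snd]

end sch

section orbits

variable {S : Scheme.{u}} {N H Q X Y T : Over S} [GrpObj N] [GrpObj H] [GrpObj Q]
variable (i : N ⟶ H) (q : H ⟶ Q) (a : AlgGrp.Action H X) (aN : AlgGrp.Action N X)
  (aQ : AlgGrp.Action Q Y) (π : X ⟶ Y)

lemma psi_whiskerRight (hequiv : (q ⊗ₘ π) ≫ aQ.act = a.act ≫ π) (f : T ⟶ X) :
    GIT.psi a f ≫ (π ▷ T) = (q ▷ T) ≫ GIT.psi aQ (f ≫ π) := by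
  have h : (q ▷ T) ≫ (Q ◁ (f ≫ π)) = (H ◁ f) ≫ (q ⊗ₘ π) := by ext <;> simp
  unfold GIT.psi
  ext
  · simp only [Category.assoc, whiskerRight_fst, lift_fst_assoc, lift_fst]
    rw [← hequiv, ← Category.assoc, ← Category.assoc, h]
  · simp

/-- `(n, h, t) ↦ (i(n) h, t)`. -/
noncomputable def mulT (T : Over S) : N ⊗ (H ⊗ T) ⟶ H ⊗ T :=
  (α_ N H T).inv ≫ (((i ▷ H) ≫ μ[H]) ▷ T)

lemma whiskerLeft_psi_actT (haN : aN.act = (i ▷ X) ≫ a.act) (f : T ⟶ X) :
    (N ◁ GIT.psi a f) ≫ actT aN T = mulT i T ≫ GIT.psi a f := by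
  have hc : (N ◁ (H ◁ f)) ≫ (i ▷ (H ⊗ X)) =
      (α_ N H T).inv ≫ ((N ⊗ H) ◁ f) ≫ ((i ▷ H) ▷ X) ≫ (α_ H H X).hom := by
    ext <;> simp
  apply CartesianMonoidalCategory.hom_ext
  · have h1 : (N ◁ GIT.psi a f) ≫ (N ◁ fst X T) = N ◁ ((H ◁ f) ≫ a.act) := by
      rw [← MonoidalCategory.whiskerLeft_comp]; unfold GIT.psi; rw [lift_fst]
    have h2 : (N ◁ a.act) ≫ (i ▷ X) = (i ▷ (H ⊗ X)) ≫ (H ◁ a.act) := whisker_exchange i a.act
    have h3 : (((i ▷ H) ≫ μ[H]) ▷ T) ≫ (H ◁ f) =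
        ((N ⊗ H) ◁ f) ≫ ((i ▷ H) ▷ X) ≫ (μ[H] ▷ X) := by
      rw [← whisker_exchange, comp_whiskerRight]
    calc ((N ◁ GIT.psi a f) ≫ actT aN T) ≫ fst X T
        = (N ◁ GIT.psi a f) ≫ (N ◁ fst X T) ≫ aN.act := by rw [Category.assoc, actT_fst]
      _ = (N ◁ (H ◁ f)) ≫ ((N ◁ a.act) ≫ (i ▷ X)) ≫ a.act := by
          rw [← Category.assoc, h1, haN, MonoidalCategory.whiskerLeft_comp]
          simp only [Category.assoc]
      _ = ((N ◁ (H ◁ f)) ≫ (i ▷ (H ⊗ X))) ≫ (H ◁ a.act) ≫ a.act := by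
          rw [h2]; simp only [Category.assoc]
      _ = (α_ N H T).inv ≫ ((N ⊗ H) ◁ f) ≫ ((i ▷ H) ▷ X) ≫ (μ[H] ▷ X) ≫ a.act := by
          rw [hc, a.mul_act]; simp only [Category.assoc]
      _ = (mulT i T ≫ GIT.psi a f) ≫ fst X T := by
          unfold mulT GIT.psi
          rw [Category.assoc, lift_fst, Category.assoc, ← Category.assoc _ (H ◁ f), h3]
          simp only [Category.assoc]
  · rw [Category.assoc, actT_snd, whiskerLeft_snd_assoc]
    unfold GIT.psi mulT
    simp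

/-- The `H`-orbit of a `T`-point of `X` is the preimage of the `Q`-orbit of its image in `Y`. -/
theorem range_psi_eq_preimage [Surjective q.left] (haN : aN.act = (i ▷ X) ≫ a.act)
    (hinv : GIT.IsInvariant aN π) (horb : Function.Surjective (GIT.PsiY aN π hinv).base)
    (hequiv : (q ⊗ₘ π) ≫ aQ.act = a.act ≫ π) (f : T ⟶ X) :
    Set.range (GIT.psi a f).left = (π ▷ T).left ⁻¹' Set.range (GIT.psi aQ (f ≫ π)).left := by
  have hK1 : (GIT.psi a f).left ≫ (π ▷ T).left = (q ▷ T).left ≫ (GIT.psi aQ (f ≫ π)).left := by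
    rw [← Over.comp_left, psi_whiskerRight q a aQ π hequiv f, Over.comp_left]
  have hK2 : (N ◁ GIT.psi a f).left ≫ (actT aN T).left = (mulT i T).left ≫ (GIT.psi a f).left := by
    rw [← Over.comp_left, whiskerLeft_psi_actT i a aN haN f, Over.comp_left]
  have hqT : Surjective (q ▷ T).left :=
    MorphismProperty.of_isPullback
      (Groth.Agent.Lib.SchDomProd45.isPullback_whiskerRight_fst T q).flip ‹Surjective q.left›
  ext z
  constructor
  · rintro ⟨w, rfl⟩
    exact ⟨(q ▷ T).left w, by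
      rw [← Scheme.Hom.comp_apply, ← hK1, Scheme.Hom.comp_apply]⟩
  · rintro ⟨w, hw⟩
    obtain ⟨w', rfl⟩ := hqT.surj w
    have hz : (π ▷ T).left z = (π ▷ T).left ((GIT.psi a f).left w') := by
      rw [← hw, ← Scheme.Hom.comp_apply, ← Scheme.Hom.comp_apply, hK1]
    obtain ⟨v, hv1, hv2⟩ := exists_act_of_whiskerRight_eq aN π hinv horb T z _ hz
    have hv : v ∈ Set.range (N ◁ GIT.psi a f).left := by
      rw [Groth.Agent.Lib.ClosedAct45.range_fst_of_isPullback
        (Groth.Agent.Lib.ActOpen18.isPullback_whiskerLeft_snd N (GIT.psi a f))]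
      exact ⟨w', hv2.symm⟩
    obtain ⟨u, rfl⟩ := hv
    refine ⟨(mulT i T).left u, ?_⟩
    rw [← hv1, ← Scheme.Hom.comp_apply, ← Scheme.Hom.comp_apply, hK2]

end orbits

end Groth.Agent.Lib.QuotBC45
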