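import Mathlib
import Groth.Agent.Lib.IsQuot45
import Groth.Agent.Lib.H15QuotResidue

set_option autoImplicit false
universe u

namespace Groth.Agent.Lib.QuotGeomPts37

open AlgebraicGeometry CategoryTheory Limits

variable {X Y : Scheme.{u}} {G : Type u} [Group G] [Finite G]

/-- Every morphism from the spectrum of a field is given by a point and an embedding of its
residue field. -/
lemma exists_rep (Ω : Type u) [Field Ω] (b : Spec (.of Ω) ⟶ X) :
    ∃ (x : X) (σ : X.residueField x ⟶ .of Ω), b = Spec.map σ ≫ X.fromSpecResidueField x :=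
  ⟨_, _, ((X.SpecToEquivOfField Ω).symm_apply_apply b).symm⟩

lemma rep_comp (Ω : Type u) [Field Ω] (f : X ⟶ Y) (x : X) (σ : X.residueField x ⟶ .of Ω) :
    (Spec.map σ ≫ X.fromSpecResidueField x) ≫ f =
      Spec.map (f.residueFieldMap x ≫ σ) ≫ Y.fromSpecResidueField (f x) := by
  rw [Category.assoc, ← Scheme.Hom.SpecMap_residueFieldMap_fromSpecResidueField, Spec.map_comp,
    Category.assoc]

lemma rep_eq_iff (Ω : Type u) [Field Ω] {x x' : X} (σ : X.residueField x ⟶ .of Ω)
    (σ' : X.residueField x' ⟶ .of Ω) :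
    Spec.map σ ≫ X.fromSpecResidueField x = Spec.map σ' ≫ X.fromSpecResidueField x' ↔
      ∃ e : x = x', σ = (X.residueFieldCongr e).hom ≫ σ' := by
  have := (X.SpecToEquivOfField Ω).symm.injective.eq_iff (a := ⟨x, σ⟩) (b := ⟨x', σ'⟩)
  rw [Scheme.SpecToEquivOfField_eq_iff] at this
  exact this

/-- Geometric points lift along a quotient by a finite group. -/
theorem exists_lift_of_isAlgClosed {ρ : G →* Aut X} {p : X ⟶ Y} (hp : SGA1.IsQuot ρ p)
    (Ω : Type u) [Field Ω] [IsAlgClosed Ω] (a : Spec (.of Ω) ⟶ Y) :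
    ∃ b : Spec (.of Ω) ⟶ X, b ≫ p = a := by
  obtain ⟨y, τ, rfl⟩ := exists_rep Ω a
  obtain ⟨x, rfl⟩ := Groth.Agent.Lib.IsQuot45.surjective hp y
  have hnorm := (Groth.Agent.Lib.H15QuotResidue.main ρ p hp x).1
  let := (p.residueFieldMap x).hom.toAlgebra
  let := τ.hom.toAlgebra
  have : Algebra.IsAlgebraic (Y.residueField (p x)) (X.residueField x) := hnorm.toIsAlgebraic
  let σ : X.residueField x →ₐ[Y.residueField (p x)] Ω := IsAlgClosed.lift
  refine ⟨Spec.map (CommRingCat.ofHom σ.toRingHom) ≫ X.fromSpecResidueField x, ?_⟩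
  rw [rep_comp]
  congr 2
  ext z
  exact σ.commutes z

theorem exists_eq_comp_of_rep {ρ : G →* Aut X} {p : X ⟶ Y} (hp : SGA1.IsQuot ρ p)
    (Ω : Type u) [Field Ω] (x : X) (σ₁ σ₂ : X.residueField x ⟶ .of Ω)
    (h : (Spec.map σ₁ ≫ X.fromSpecResidueField x) ≫ p =
      (Spec.map σ₂ ≫ X.fromSpecResidueField x) ≫ p) :
    ∃ g : G, Spec.map σ₂ ≫ X.fromSpecResidueField x =
      (Spec.map σ₁ ≫ X.fromSpecResidueField x) ≫ (ρ g).hom := by
  rw [rep_comp, rep_comp, rep_eq_iff] at h
  obtain ⟨e, he⟩ := h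
  have he' : p.residueFieldMap x ≫ σ₁ = p.residueFieldMap x ≫ σ₂ := by simpa using he
  obtain ⟨hnorm, haut⟩ := Groth.Agent.Lib.H15QuotResidue.main ρ p hp x
  let := (p.residueFieldMap x).hom.toAlgebra
  let : Algebra (X.residueField x) Ω := σ₁.hom.toAlgebra
  let : Algebra (Y.residueField (p x)) Ω := (p.residueFieldMap x ≫ σ₁).hom.toAlgebra
  have : IsScalarTower (Y.residueField (p x)) (X.residueField x) Ω :=
    IsScalarTower.of_algebraMap_eq (fun _ => rfl)
  have : Normal (Y.residueField (p x)) (X.residueField x) := hnorm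
  let σ₂' : X.residueField x →ₐ[Y.residueField (p x)] Ω :=
    { σ₂.hom with
      commutes' := fun z => by
        have := congrArg (fun φ => φ.hom z) he'
        exact this.symm }
  let α : X.residueField x ≃ₐ[Y.residueField (p x)] X.residueField x :=
    Normal.algHomEquivAut (Y.residueField (p x)) Ω (X.residueField x) σ₂'
  have hα : ∀ z, σ₁.hom (α z) = σ₂.hom z := by
    intro z
    have := (Normal.algHomEquivAut (Y.residueField (p x)) Ω (X.residueField x)).left_inv σ₂'
    exact congrArg (fun φ => φ z) this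
  let τ : X.residueField x ≅ X.residueField x := α.toRingEquiv.toCommRingCatIso
  have hτ : p.residueFieldMap x ≫ τ.hom = p.residueFieldMap x := by
    ext z
    exact α.commutes z
  obtain ⟨g, e', hg⟩ := haut τ hτ
  refine ⟨g, ?_⟩
  have h2 : σ₂ = τ.hom ≫ σ₁ := by
    ext z
    exact (hα z).symm
  rw [rep_comp, h2, hg, Category.assoc, Spec.map_comp, Category.assoc]
  simp

/-- Two geometric points of `X` with the same image in the quotient differ by a group element. -/
theorem exists_eq_comp_of_comp_eq {ρ : G →* Aut X} {p : X ⟶ Y} (hp : SGA1.IsQuot ρ p)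
    (Ω : Type u) [Field Ω] (b₁ b₂ : Spec (.of Ω) ⟶ X) (h : b₁ ≫ p = b₂ ≫ p) :
    ∃ g : G, b₂ = b₁ ≫ (ρ g).hom := by
  obtain ⟨x₁, σ₁, rfl⟩ := exists_rep Ω b₁
  obtain ⟨x₂, σ₂, rfl⟩ := exists_rep Ω b₂
  have h' := h
  rw [rep_comp, rep_comp, rep_eq_iff] at h'
  obtain ⟨e, -⟩ := h'
  obtain ⟨g₀, hg₀⟩ := (Groth.Agent.Lib.IsQuot45.eq_iff_exists_smul hp x₁ x₂).mp e
  subst hg₀
  have h3 : (Spec.map ((ρ g₀).hom.residueFieldMap x₁ ≫ σ₁) ≫
        X.fromSpecResidueField ((ρ g₀).hom x₁)) ≫ p =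
      (Spec.map σ₂ ≫ X.fromSpecResidueField ((ρ g₀).hom x₁)) ≫ p := by
    rw [← rep_comp, Category.assoc, hp.inv g₀]
    exact h
  obtain ⟨g, hg⟩ := exists_eq_comp_of_rep hp Ω _ _ _ h3
  refine ⟨g * g₀, ?_⟩
  rw [hg, ← rep_comp, Category.assoc, map_mul, Aut.Aut_mul_def]
  rfl

/-- `Spec` of the algebraic closure of a field `K` maps epimorphically to `Spec K`. -/
lemma epi_Spec_algebraicClosure (K : Type u) [Field K] :
    Epi (Spec.map (CommRingCat.ofHom (algebraMap K (AlgebraicClosure K)))) := by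
  have h1 : Flat (Spec.map (CommRingCat.ofHom (algebraMap K (AlgebraicClosure K)))) := by
    refine (HasRingHomProperty.Spec_iff (P := @Flat)).mpr ?_
    exact RingHom.flat_algebraMap_iff.mpr inferInstance
  have h2 : Surjective (Spec.map (CommRingCat.ofHom (algebraMap K (AlgebraicClosure K)))) := by
    refine ⟨fun y => ⟨IsLocalRing.closedPoint (AlgebraicClosure K), ?_⟩⟩
    exact @Subsingleton.elim (PrimeSpectrum K) inferInstance _ _
  exact Flat.epi_of_flat_of_surjective _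

/-- If `W ⟶ X` is an equivariant monomorphism of schemes with actions of a finite group `G`, both
admitting quotients, the induced map of quotients is universally injective. -/
theorem universallyInjective_of_isQuot {X XG W WG : Scheme.{u}} {ρ : G →* Aut X} {p : X ⟶ XG}
    (hP : SGA1.IsQuot ρ p) (j : W ⟶ X) [Mono j] {ρW : G →* Aut W}
    (hρW : ∀ g, (ρW g).hom ≫ j = j ≫ (ρ g).hom) {pW : W ⟶ WG} (hPW : SGA1.IsQuot ρW pW)
    (φ : WG ⟶ XG) (hφ : pW ≫ φ = j ≫ p) : UniversallyInjective φ := by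
  refine ((tfae_universallyInjective φ).out 0 1).mpr ?_
  intro K _ g₁ g₂ hg
  replace hg : g₁ ≫ φ = g₂ ≫ φ := hg
  have := epi_Spec_algebraicClosure K
  rw [← cancel_epi (Spec.map (CommRingCat.ofHom (algebraMap K (AlgebraicClosure K))))]
  obtain ⟨b₁, hb₁⟩ := exists_lift_of_isAlgClosed hPW (AlgebraicClosure K)
    (Spec.map (CommRingCat.ofHom (algebraMap K (AlgebraicClosure K))) ≫ g₁)
  obtain ⟨b₂, hb₂⟩ := exists_lift_of_isAlgClosed hPW (AlgebraicClosure K)
    (Spec.map (CommRingCat.ofHom (algebraMap K (AlgebraicClosure K))) ≫ g₂)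
  have h1 : (b₁ ≫ j) ≫ p = (b₂ ≫ j) ≫ p := by
    rw [Category.assoc, Category.assoc, ← hφ, ← Category.assoc, ← Category.assoc, hb₁, hb₂,
      Category.assoc, Category.assoc, hg]
  obtain ⟨g, hg'⟩ := exists_eq_comp_of_comp_eq hP _ _ _ h1
  have h2 : b₂ = b₁ ≫ (ρW g).hom := by
    rw [← cancel_mono j, hg', Category.assoc, Category.assoc, hρW]
  rw [← hb₁, ← hb₂, h2, Category.assoc, hPW.inv g]

end Groth.Agent.Lib.QuotGeomPts37
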