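import Mathlib

/-!
# Quotient of a group object by a subgroup: formal consequences (helper18)

`u : G' ⟶ G` a monomorphism of group objects, `p : G ⟶ G''` with
`hsq : IsPullback ((G ◁ u) ≫ μ[G]) (fst G G') p p`.

* `isPullback_unit` : `IsPullback u (toUnit G') p (η[G] ≫ p)`.
* `sigmaIso` : the automorphism `(g, g') ↦ (g g', g)` of `G ⊗ G`.
* `lift_mul_fst_eq` : `lift ((G ◁ u) ≫ μ) (fst G G') = (G ◁ u) ≫ (sigmaIso G).hom`.
-/

set_option autoImplicit false
universe v u
open CategoryTheory CategoryTheory.Limits MonoidalCategory CartesianMonoidalCategory MonObj GrpObj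

namespace Groth.Agent.Lib.QuotGrp18

variable {C : Type u} [Category.{v} C] [CartesianMonoidalCategory C]

section unit

variable {G G' G'' : C} [GrpObj G] (u : G' ⟶ G) [Mono u] (p : G ⟶ G'')

include u in
lemma isPullback_unit (hsq : IsPullback ((G ◁ u) ≫ μ[G]) (fst G G') p p) :
    IsPullback u (toUnit G') p (η[G] ≫ p) := by
  have hw : u ≫ p = toUnit G' ≫ η[G] ≫ p := by
    have h1 := lift (toUnit G' ≫ η[G]) (𝟙 G') ≫= hsq.w
    simp only [Category.assoc, lift_whiskerLeft_assoc, Category.id_comp, lift_fst_assoc] at h1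
    rw [← Category.assoc (lift _ _), MonObj.lift_comp_one_left] at h1
    exact h1
  have hc : ∀ s : PullbackCone p (η[G] ≫ p), s.fst ≫ p = (toUnit s.pt ≫ η[G]) ≫ p := by
    intro s
    rw [s.condition, toUnit_unique s.snd (toUnit s.pt), Category.assoc]
  have hl : ∀ s : PullbackCone p (η[G] ≫ p),
      (hsq.lift s.fst (toUnit s.pt ≫ η[G]) (hc s) ≫ snd G G') ≫ u = s.fst := by
    intro s
    have h1 := hsq.lift_fst s.fst (toUnit s.pt ≫ η[G]) (hc s)
    have h2 := hsq.lift_snd s.fst (toUnit s.pt ≫ η[G]) (hc s)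
    set l := hsq.lift s.fst (toUnit s.pt ≫ η[G]) (hc s) with hl
    have h3 : l = lift (toUnit s.pt ≫ η[G]) (l ≫ snd G G') := by
      apply CartesianMonoidalCategory.hom_ext
      · rw [lift_fst, h2]
      · rw [lift_snd]
    rw [h3, lift_whiskerLeft_assoc, MonObj.lift_comp_one_left] at h1
    exact h1
  refine ⟨⟨hw⟩, ⟨PullbackCone.IsLimit.mk _
    (fun s => hsq.lift s.fst (toUnit s.pt ≫ η[G]) (hc s) ≫ snd G G') ?_ ?_ ?_⟩⟩
  · intro s
    exact hl s
  · intro s
    exact toUnit_unique _ _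
  · intro s m h1 h2
    rw [← cancel_mono u, hl s, h1]

end unit

section sigma

variable (G : C) [GrpObj G]

/-- The automorphism `(g, g') ↦ (g g', g)` of `G ⊗ G`. -/
def sigmaIso : G ⊗ G ≅ G ⊗ G where
  hom := lift μ[G] (fst G G)
  inv := lift (snd G G) (lift (snd G G ≫ ι[G]) (fst G G) ≫ μ[G])
  hom_inv_id := by
    apply CartesianMonoidalCategory.hom_ext
    · simp
    · simp only [comp_lift, lift_snd, Category.id_comp]
      rw [← Category.assoc, comp_lift, lift_snd_assoc, lift_fst, GrpObj.lift_inv_left_eq]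
      simp
  inv_hom_id := by
    apply CartesianMonoidalCategory.hom_ext
    · simp only [comp_lift, lift_fst, Category.id_comp]
      exact (GrpObj.eq_lift_inv_left _ _ _).mp rfl
    · simp

variable {G}

lemma lift_mul_fst_eq {G' : C} (u : G' ⟶ G) :
    lift ((G ◁ u) ≫ μ[G]) (fst G G') = (G ◁ u) ≫ (sigmaIso G).hom := by
  simp [sigmaIso]

end sigma

end Groth.Agent.Lib.QuotGrp18
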