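import Groth.Prelude.Def_AlgSt5

/-!
# The quotient category `[X/G]`: morphisms from trivial torsors
-/

set_option autoImplicit false
set_option maxHeartbeats 400000
universe u
open CategoryTheory CategoryTheory.Limits MonoidalCategory CartesianMonoidalCategory MonObj GrpObj AlgebraicGeometry

namespace Groth.Agent.Lib.QuotStTriv91

open AlgSt

variable {S : Scheme.{u}} {K : Precoverage Scheme.{u}} [K.HasIsos] {G : Over S} [GrpObj G] {X : Over S}
  {aX : AlgGrp.Action G X}

/-- Left multiplication on `G × T` is multiplication on the first two factors. -/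
theorem leftMul_act (T : Over S) : (leftMul G T).act = (α_ G G T).inv ≫ (μ[G] ▷ T) := by
  have hμ : fst (G ⊗ G) T ≫ μ[G] = (fst _ _ ≫ fst G G) * (fst _ _ ≫ snd G G) := by
    rw [Hom.mul_def, ← comp_lift, lift_fst_snd, Category.comp_id]
  apply CartesianMonoidalCategory.hom_ext
  · simp only [leftMul, lift_fst, Category.assoc, whiskerRight_fst, hμ, comp_mul,
      associator_inv_fst_fst, associator_inv_fst_snd]
  · simp only [leftMul, lift_snd, Category.assoc, whiskerRight_snd, associator_inv_snd]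

/-- For a `G`-scheme `P` and `σ : T ⟶ P`, the orbit map `G × T ⟶ P`, `(g, t) ↦ g σ(t)` is equivariant. -/
theorem orbit_eqv {P T : Over S} (act : AlgGrp.Action G P) (σ : T ⟶ P) :
    (leftMul G T).act ≫ (G ◁ σ) ≫ act.act = (G ◁ ((G ◁ σ) ≫ act.act)) ≫ act.act := by
  rw [leftMul_act, Category.assoc, ← whisker_exchange_assoc, act.mul_act, MonoidalCategory.whiskerLeft_comp,
    Category.assoc, ← associator_inv_naturality_right_assoc, Iso.inv_hom_id_assoc]

section
variable (a : (ofSch X).obj)

theorem quotMap_obj_base : ((quotMap K G aX).obj a).base = a.base := rfl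
theorem quotMap_obj_P : ((quotMap K G aX).obj a).P = G ⊗ a.base := rfl
theorem quotMap_obj_π : ((quotMap K G aX).obj a).π = snd G a.base := rfl
theorem quotMap_obj_act : ((quotMap K G aX).obj a).act = leftMul G a.base := rfl
theorem quotMap_obj_φ : ((quotMap K G aX).obj a).φ = (G ◁ a.sec.down) ≫ aX.act := rfl

end

/-- The morphism of `[X/G]` from a trivial torsor defined by a section of the torsor of `A`. -/
theorem exists_hom_of_section (A : QuotObj K G aX) (a : (ofSch X).obj) (σ : a.base ⟶ A.P)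
    (hσ : σ ≫ A.φ = a.sec.down) :
    ∃ h : (quotMap K G aX).obj a ⟶ A, h.base = σ ≫ A.π ∧ h.top = (G ◁ σ) ≫ A.act.act := by
  have h1 : (leftMul G a.base).act ≫ (G ◁ σ) ≫ A.act.act = (G ◁ ((G ◁ σ) ≫ A.act.act)) ≫ A.act.act :=
    orbit_eqv A.act σ
  have h2 : IsPullback ((G ◁ σ) ≫ A.act.act) (snd G a.base) A.π (σ ≫ A.π) :=
    (isPullback_whiskerLeft σ).paste_horiz A.cart
  have h3 : ((G ◁ σ) ≫ A.act.act) ≫ A.φ = (G ◁ a.sec.down) ≫ aX.act := by
    rw [Category.assoc, A.eqv, ← hσ, MonoidalCategory.whiskerLeft_comp, Category.assoc]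
  exact ⟨QuotObj.Hom.mk (A := (quotMap K G aX).obj a) (B := A) (σ ≫ A.π) ((G ◁ σ) ≫ A.act.act) h1 h2 h3,
    rfl, rfl⟩

end Groth.Agent.Lib.QuotStTriv91
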