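import Groth.Agent.Lib.QuotStTriv91

/-!
# The quotient category `[X/G]`: morphisms between trivial torsors
-/

set_option autoImplicit false
set_option maxHeartbeats 400000
universe u
open CategoryTheory CategoryTheory.Limits MonoidalCategory CartesianMonoidalCategory MonObj GrpObj AlgebraicGeometry

namespace Groth.Agent.Lib.QuotStTriv91

open AlgSt

variable {S : Scheme.{u}} {K : Precoverage Scheme.{u}} [K.HasIsos] {G : Over S} [GrpObj G] {X : Over S}
  {aX : AlgGrp.Action G X}

variable (G) in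
/-- The unit section `t ↦ (1, t)` of `G × T ⟶ T`. -/
noncomputable def unitSec (T : Over S) : T ⟶ G ⊗ T := lift (toUnit T ≫ η[G]) (𝟙 T)

@[reassoc (attr := simp)]
theorem unitSec_fst (T : Over S) : unitSec G T ≫ fst G T = toUnit T ≫ η[G] := lift_fst _ _
@[reassoc (attr := simp)]
theorem unitSec_snd (T : Over S) : unitSec G T ≫ snd G T = 𝟙 T := lift_snd _ _

theorem unitSec_fst_eq_one (T : Over S) : unitSec G T ≫ fst G T = 1 := by
  rw [unitSec_fst, Hom.one_def]

/-- `(g, t) ↦ (g, (1, t)) ↦ (g · 1, t)` is the identity. -/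
theorem whiskerLeft_unitSec_leftMul (T : Over S) : (G ◁ unitSec G T) ≫ (leftMul G T).act = 𝟙 _ := by
  apply CartesianMonoidalCategory.hom_ext
  · simp only [leftMul, Category.assoc, lift_fst, comp_mul, whiskerLeft_fst, whiskerLeft_snd_assoc,
      Category.id_comp, unitSec_fst_eq_one, MonObj.comp_one, _root_.mul_one]
  · simp only [leftMul, Category.assoc, lift_snd, whiskerLeft_snd_assoc, unitSec_snd, Category.comp_id,
      Category.id_comp]

/-- The unit acts trivially: `t ↦ 1 · x(t)` is `x`. -/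
theorem unitSec_act {P T : Over S} (act : AlgGrp.Action G P) (x : T ⟶ P) :
    unitSec G T ≫ (G ◁ x) ≫ act.act = x := by
  have h1 : unitSec G T ≫ (G ◁ x) = x ≫ (λ_ P).inv ≫ (η[G] ▷ P) := by
    apply CartesianMonoidalCategory.hom_ext
    · simp only [Category.assoc, whiskerLeft_fst, unitSec_fst, whiskerRight_fst, leftUnitor_inv_fst_assoc]
      rw [← Category.assoc, toUnit_unique (x ≫ toUnit P) (toUnit T)]
    · simp only [Category.assoc, whiskerLeft_snd, unitSec_snd_assoc, whiskerRight_snd, leftUnitor_inv_snd,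
        Category.comp_id]
  rw [← Category.assoc, h1, Category.assoc, Category.assoc, act.one_act, Iso.inv_hom_id, Category.comp_id]

/-- `(h, t) ↦ (h, (g t, f t)) ↦ (h · g t, f t)`. -/
theorem whiskerLeft_lift_leftMul {T T' : Over S} (g : T ⟶ G) (f : T ⟶ T') :
    (G ◁ lift g f) ≫ (leftMul G T').act = lift (fst G T * (snd G T ≫ g)) (snd G T ≫ f) := by
  apply CartesianMonoidalCategory.hom_ext
  · simp only [leftMul, Category.assoc, lift_fst, comp_mul, whiskerLeft_fst, whiskerLeft_snd_assoc]
  · simp only [leftMul, Category.assoc, lift_snd, whiskerLeft_snd_assoc]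

section
variable (a : (ofSch X).obj) (A : QuotObj K G aX) (h : (quotMap K G aX).obj a ⟶ A)

/-- A morphism from a trivial torsor is determined by the image of the unit section: there is a section `σ` of the
target torsor over the base morphism, compatible with the maps to `X`, whose orbit map is the morphism. -/
theorem exists_section_of_hom :
    ∃ (σ : a.base ⟶ A.P) (b : a.base ⟶ A.base) (t : G ⊗ a.base ⟶ A.P), b = h.base ∧ t = h.top ∧
      σ ≫ A.φ = a.sec.down ∧ σ ≫ A.π = b ∧ t = (G ◁ σ) ≫ A.act.act := by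
  obtain ⟨t, ht⟩ : ∃ t : G ⊗ a.base ⟶ A.P, t = h.top := ⟨_, rfl⟩
  obtain ⟨b, hb⟩ : ∃ b : a.base ⟶ A.base, b = h.base := ⟨_, rfl⟩
  have e1 : (leftMul G a.base).act ≫ t = (G ◁ t) ≫ A.act.act := by rw [ht]; exact h.eqv
  have e2 : t ≫ A.φ = (G ◁ a.sec.down) ≫ aX.act := by rw [ht]; exact h.wφ
  have e3 : t ≫ A.π = snd G a.base ≫ b := by rw [ht, hb]; exact h.cart.w
  refine ⟨unitSec G a.base ≫ t, b, t, hb, ht, ?_, ?_, ?_⟩
  · rw [Category.assoc, e2, unitSec_act]
  · rw [Category.assoc, e3, unitSec_snd_assoc]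
  · calc t = ((G ◁ unitSec G a.base) ≫ (leftMul G a.base).act) ≫ t := by
          rw [whiskerLeft_unitSec_leftMul, Category.id_comp]
      _ = (G ◁ (unitSec G a.base ≫ t)) ≫ A.act.act := by
          rw [Category.assoc, e1, MonoidalCategory.whiskerLeft_comp, Category.assoc]

end

end Groth.Agent.Lib.QuotStTriv91
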