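import Mathlib

/-! # Quotient t-structures on Verdier quotients, part 1 (helper1)

`D` a triangulated subcategory of `C` stable under the cohomology objects of a bounded
t-structure `t` is stable under all truncations. -/

universe v u

open CategoryTheory CategoryTheory.Limits CategoryTheory.Pretriangulated CategoryTheory.Triangulated

namespace Groth.Agent.Lib.QuotTStr

variable {C : Type u} [Category.{v} C] [Preadditive C] [HasZeroObject C] [HasShift C ℤ]
  [∀ n : ℤ, (shiftFunctor C n).Additive] [Pretriangulated C] [IsTriangulated C]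
  (t : TStructure C) (D : ObjectProperty C) [D.IsTriangulated] [D.IsClosedUnderIsomorphisms]

include D in
omit [IsTriangulated C] in
lemma prop_of_isZero' {X : C} (hX : IsZero X) : D X := D.prop_of_isZero hX

lemma truncLT_mem (h1 : ∀ X : C, D X → ∀ n : ℤ, D ((t.truncGELE n n).obj X))
    (X : C) (hX : D X) (hb : t.bounded X) (n : ℤ) : D ((t.truncLT n).obj X) := by
  obtain ⟨⟨a, ha⟩, -⟩ := hb
  have hle : ∀ m : ℤ, m ≤ a → D ((t.truncLT m).obj X) := by
    intro m hm
    have : t.IsGE X m := t.isGE_of_ge X m a hm
    exact D.prop_of_isZero (t.isZero_truncLT_obj_of_isGE m X)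
  by_cases hn : n ≤ a
  · exact hle n hn
  · have hn' : a ≤ n := by lia
    induction n, hn' using Int.le_induction with
    | base => exact hle a le_rfl
    | succ m hm ih =>
      have ih' : D ((t.truncLT m).obj X) := by
        by_cases hma : m ≤ a
        · exact hle m hma
        · exact ih hma
      have h3 : D ((t.truncGELT m (m + 1)).obj X) :=
        D.prop_of_iso ((t.truncGELEIsoTruncGELT m m (m + 1) rfl).app X) (h1 X hX m)
      exact D.ext_of_isTriangulatedClosed₂ _
        (t.triangleLTLTGELT_distinguished m (m + 1) (by lia) X) ih' h3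

lemma truncGE_mem (h1 : ∀ X : C, D X → ∀ n : ℤ, D ((t.truncGELE n n).obj X))
    (X : C) (hX : D X) (hb : t.bounded X) (n : ℤ) : D ((t.truncGE n).obj X) :=
  D.ext_of_isTriangulatedClosed₃ _ (t.triangleLTGE_distinguished n X)
    (truncLT_mem t D h1 X hX hb n) hX

lemma truncLE_mem (h1 : ∀ X : C, D X → ∀ n : ℤ, D ((t.truncGELE n n).obj X))
    (X : C) (hX : D X) (hb : t.bounded X) (n : ℤ) : D ((t.truncLE n).obj X) :=
  truncLT_mem t D h1 X hX hb (n + 1)

end Groth.Agent.Lib.QuotTStr
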