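import Mathlib
import Groth.Agent.Lib.QuotTStr1

/-! # Quotient t-structures on Verdier quotients, part 2 (helper1)

Key lemma: for a distinguished triangle `X ⟶ N ⟶ W ⟶ X⟦1⟧` with `X ≤ 0` and `N ∈ D`,
`τ^{≥0} W ∈ D`. -/

universe v u

open CategoryTheory CategoryTheory.Limits CategoryTheory.Pretriangulated CategoryTheory.Triangulated

namespace Groth.Agent.Lib.QuotTStr

variable {C : Type u} [Category.{v} C] [Preadditive C] [HasZeroObject C] [HasShift C ℤ]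
  [∀ n : ℤ, (shiftFunctor C n).Additive] [Pretriangulated C] [IsTriangulated C]
  (t : TStructure C)

/-- Octahedron step: maps out of `τ^{≤0} W` to `Z ≥ 0` are detected on `τ^{≤0} N`. -/
lemma eq_zero_of_truncLE_map_comp {X N W : C} (f : X ⟶ N) (g : N ⟶ W) (h : W ⟶ X⟦(1 : ℤ)⟧)
    (hT : Triangle.mk f g h ∈ distTriang C) [t.IsLE X 0]
    {Z : C} [t.IsGE Z 0] (u' : (t.truncLE 0).obj W ⟶ Z)
    (hu' : (t.truncLE 0).map g ≫ u' = 0) : u' = 0 := by
  let φ : X ⟶ (t.truncLE 0).obj N := t.liftTruncLE f 0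
  have hφ : φ ≫ (t.truncLEι 0).app N = f := t.liftTruncLE_ι f 0
  obtain ⟨Cφ, v, w, hCφ⟩ := distinguished_cocone_triangle φ
  have H := someOctahedron hφ hCφ (t.triangleLEGE_distinguished 0 1 rfl N) hT
  have hX1 : t.IsLE (X⟦(1 : ℤ)⟧) 0 := by
    have := t.isLE_shift X 0 1 (-1) (by lia)
    exact t.isLE_of_le _ (-1) 0 (by lia)
  have hCle : t.IsLE Cφ 0 :=
    t.isLE₂ _ (rot_of_distTriang _ hCφ) 0
      (inferInstanceAs (t.IsLE ((t.truncLE 0).obj N) 0)) hX1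
  have hiso : IsIso ((t.truncLE 0).map H.m₁) :=
    t.isIso₁_truncLE_map_of_isGE _ H.mem 0 1 rfl
      (inferInstanceAs (t.IsGE ((t.truncGE 1).obj N) 1))
  let e : Cφ ⟶ (t.truncLE 0).obj W := t.liftTruncLE H.m₁ 0
  have he : e ≫ (t.truncLEι 0).app W = H.m₁ := t.liftTruncLE_ι H.m₁ 0
  have he2 : (t.truncLEι 0).app Cφ ≫ e = (t.truncLE 0).map H.m₁ := by
    apply t.to_truncLE_obj_ext
    rw [Category.assoc, he]
    exact ((t.truncLEι 0).naturality H.m₁).symm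
  have heiso : IsIso e := by
    have : e = inv ((t.truncLEι 0).app Cφ) ≫ (t.truncLE 0).map H.m₁ := by
      rw [← he2, IsIso.inv_hom_id_assoc]
    rw [this]
    infer_instance
  have hve : v ≫ e = (t.truncLE 0).map g := by
    apply t.to_truncLE_obj_ext
    rw [Category.assoc, he]
    have h1 := H.comm₁
    dsimp at h1
    rw [h1]
    exact ((t.truncLEι 0).naturality g).symm
  have h0 : v ≫ (e ≫ u') = 0 := by rw [← Category.assoc, hve, hu']
  obtain ⟨k, hk⟩ := Triangle.yoneda_exact₃ _ hCφ (e ≫ u') h0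
  have hk0 : k = 0 := by
    have h1 : t.IsLE (X⟦(1 : ℤ)⟧) (-1) := t.isLE_shift X 0 1 (-1) (by lia)
    exact t.zero_of_isLE_of_isGE k (-1) 0 (by lia) h1 inferInstance
  rw [hk0, comp_zero] at hk
  exact (cancel_epi e).1 (hk.trans comp_zero.symm)

/-- `H⁰(N) ⟶ H⁰(W)` is an epimorphism "in the heart": maps out of `H⁰(W)` to `Z ≥ 0` are
detected on `H⁰(N)`. -/
lemma eq_zero_of_truncGELE_map_comp {X N W : C} (f : X ⟶ N) (g : N ⟶ W) (h : W ⟶ X⟦(1 : ℤ)⟧)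
    (hT : Triangle.mk f g h ∈ distTriang C) [t.IsLE X 0]
    {Z : C} [t.IsGE Z 0] (u : (t.truncGELE 0 0).obj W ⟶ Z)
    (hu : (t.truncGELE 0 0).map g ≫ u = 0) : u = 0 := by
  have h1 : (t.truncGEπ 0).app ((t.truncLE 0).obj W) ≫ u = 0 := by
    apply eq_zero_of_truncLE_map_comp t f g h hT
    have nat := (t.truncGEπ 0).naturality ((t.truncLE 0).map g)
    dsimp at nat
    rw [← Category.assoc, nat, Category.assoc]
    have hu' : (t.truncGE 0).map ((t.truncLE 0).map g) ≫ u = 0 := hu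
    rw [hu', comp_zero]
  have : t.IsGE Z 0 := inferInstance
  exact t.from_truncGE_obj_ext (by rw [h1, comp_zero])

variable (D : ObjectProperty C) [D.IsTriangulated] [D.IsClosedUnderIsomorphisms]

set_option maxHeartbeats 800000 in
/-- Key lemma. -/
lemma truncGE_mem_of_triangle
    (hb : ∀ X : C, t.bounded X)
    (h1 : ∀ X : C, D X → ∀ n : ℤ, D ((t.truncGELE n n).obj X))
    (h2 : ∀ (X Y Z : C) (f : X ⟶ Y) (g : Y ⟶ Z) (h : Z ⟶ X⟦(1 : ℤ)⟧),
      Triangle.mk f g h ∈ distTriang C → t.heart X → t.heart Y → t.heart Z → D Y → D X ∧ D Z)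
    {X N W : C} (f : X ⟶ N) (g : N ⟶ W) (h : W ⟶ X⟦(1 : ℤ)⟧)
    (hT : Triangle.mk f g h ∈ distTriang C) [t.IsLE X 0] (hN : D N) :
    D ((t.truncGE 0).obj W) := by
  -- τ^{≥1} W ∈ D
  have hiso1 : IsIso ((t.truncGE 1).map g) :=
    t.isIso₂_truncGE_map_of_isLE _ hT 0 1 rfl (inferInstanceAs (t.IsLE X 0))
  have hW1 : D ((t.truncGE 1).obj W) :=
    D.prop_of_iso (asIso ((t.truncGE 1).map g)) (truncGE_mem t D h1 N hN (hb N) 1)
  -- H⁰(W) ∈ D
  let A := (t.truncGELE 0 0).obj N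
  let B := (t.truncGELE 0 0).obj W
  let a : A ⟶ B := (t.truncGELE 0 0).map g
  have hA : D A := h1 N hN 0
  obtain ⟨J, b, c, hJ⟩ := distinguished_cocone_triangle a
  have hAle : t.IsLE A 0 := inferInstance
  have hAge : t.IsGE A 0 := inferInstance
  have hBle : t.IsLE B 0 := inferInstance
  have hBge : t.IsGE B 0 := inferInstance
  have hA1le : t.IsLE (A⟦(1 : ℤ)⟧) (-1) := t.isLE_shift A 0 1 (-1) (by lia)
  have hA1ge : t.IsGE (A⟦(1 : ℤ)⟧) (-1) := t.isGE_shift A 0 1 (-1) (by lia)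
  have hJle : t.IsLE J (-1) := by
    rw [t.isLE_iff_orthogonal (-1) 0 (by lia)]
    intro Z v hZ
    have hbv : b ≫ v = 0 := by
      apply eq_zero_of_truncGELE_map_comp t f g h hT
      have : a ≫ b = 0 := comp_distTriang_mor_zero₁₂ _ hJ
      show a ≫ b ≫ v = 0
      rw [← Category.assoc, this, zero_comp]
    obtain ⟨k, hk⟩ := Triangle.yoneda_exact₃ _ hJ v hbv
    have hk0 : k = 0 := t.zero_of_isLE_of_isGE k (-1) 0 (by lia) hA1le hZ
    rw [hk, hk0]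
    exact comp_zero
  have hJge : t.IsGE J (-1) :=
    t.isGE₂ _ (rot_of_distTriang _ hJ) (-1) (t.isGE_of_ge B (-1) 0 (by lia)) hA1ge
  have hKle : t.IsLE (J⟦(-1 : ℤ)⟧) 0 := t.isLE_shift J (-1) (-1) 0 (by lia)
  have hKge : t.IsGE (J⟦(-1 : ℤ)⟧) 0 := t.isGE_shift J (-1) (-1) 0 (by lia)
  have hinv := inv_rot_of_distTriang _ hJ
  have hB : D B :=
    (h2 _ _ _ _ _ _ hinv ((t.mem_heart_iff _).2 ⟨hKle, hKge⟩) ((t.mem_heart_iff _).2 ⟨hAle, hAge⟩)
      ((t.mem_heart_iff _).2 ⟨hBle, hBge⟩) hA).2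
  -- conclude with the triangle τ^{≤0}τ^{≥0}W → τ^{≥0}W → τ^{≥1}τ^{≥0}W
  have hB' : D ((t.truncLE 0).obj ((t.truncGE 0).obj W)) :=
    D.prop_of_iso ((t.truncGELEIsoLEGE 0 0).app W) hB
  have hiso2 : IsIso ((t.truncGE 1).map ((t.truncGEπ 0).app W)) :=
    t.isIso_truncGE_map_truncGEπ_app 1 0 (by lia) W
  have hW1' : D ((t.truncGE 1).obj ((t.truncGE 0).obj W)) :=
    D.prop_of_iso (asIso ((t.truncGE 1).map ((t.truncGEπ 0).app W))) hW1
  exact D.ext_of_isTriangulatedClosed₂ _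
    (t.triangleLEGE_distinguished 0 1 rfl ((t.truncGE 0).obj W)) hB' hW1'

end Groth.Agent.Lib.QuotTStr
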