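import Mathlib
import Groth.Agent.Lib.QuotTStr2

/-! # Quotient t-structures on Verdier quotients, part 3 (helper1)

The t-structure on the Verdier quotient `E = C / D`. -/

universe v u v' u'

open CategoryTheory CategoryTheory.Limits CategoryTheory.Pretriangulated CategoryTheory.Triangulated

namespace Groth.Agent.Lib.QuotTStr

variable {C : Type u} [Category.{v} C] [Preadditive C] [HasZeroObject C] [HasShift C ℤ]
  [∀ n : ℤ, (shiftFunctor C n).Additive] [Pretriangulated C] [IsTriangulated C]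
  (t : TStructure C) (D : ObjectProperty C) [D.IsTriangulated] [D.IsClosedUnderIsomorphisms]

lemma truncGE_one_mem_of_shift (Y : C) (hY : D ((t.truncGE 0).obj (Y⟦(1 : ℤ)⟧))) :
    D ((t.truncGE 1).obj Y) := by
  have hT := t.triangleLEGE_distinguished 0 1 rfl Y
  have hT3 := rot_of_distTriang _ (rot_of_distTriang _ (rot_of_distTriang _ hT))
  have h1 : t.IsLE (((t.truncLE 0).obj Y)⟦(1 : ℤ)⟧) (-1) := t.isLE_shift _ 0 1 (-1) (by lia)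
  have hiso := t.isIso₂_truncGE_map_of_isLE _ hT3 (-1) 0 (by lia) h1
  have h2 : t.IsGE (((t.truncGE 1).obj Y)⟦(1 : ℤ)⟧) 0 := t.isGE_shift _ 1 1 0 (by lia)
  have h3 : D (((t.truncGE 1).obj Y)⟦(1 : ℤ)⟧) := by
    have e1 := asIso ((t.truncGE 0).map
      ((((t.triangleLEGE 0 1 rfl).obj Y).rotate.rotate.rotate).mor₂))
    have e2 := asIso ((t.truncGEπ 0).app (((t.truncGE 1).obj Y)⟦(1 : ℤ)⟧))
    exact D.prop_of_iso (e1 ≪≫ e2.symm) hY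
  exact (D.prop_shift_iff_of_isStableUnderShift _ (1 : ℤ)).1 h3

variable {E : Type u'} [Category.{v'} E] [Preadditive E] [HasZeroObject E] [HasShift E ℤ]
  [∀ n : ℤ, (shiftFunctor E n).Additive] [Pretriangulated E]
  (q : C ⥤ E) [q.CommShift ℤ] [q.IsTriangulated] [q.IsLocalization D.trW]

include t D in
lemma hom_eq_zero (hb : ∀ X : C, t.bounded X)
    (h1 : ∀ X : C, D X → ∀ n : ℤ, D ((t.truncGELE n n).obj X))
    (h2 : ∀ (X Y Z : C) (f : X ⟶ Y) (g : Y ⟶ Z) (h : Z ⟶ X⟦(1 : ℤ)⟧),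
      Triangle.mk f g h ∈ distTriang C → t.heart X → t.heart Y → t.heart Z → D Y → D X ∧ D Z)
    {X Y : C} [t.IsLE X 0] [t.IsGE Y 1] (φ : q.obj X ⟶ q.obj Y) : φ = 0 := by
  obtain ⟨ρ, rfl⟩ := Localization.exists_rightFraction q D.trW φ
  obtain ⟨Z, g, h, hT, hZ⟩ := (D.trW_iff ρ.s).1 ρ.hs
  have hrot := rot_of_distTriang _ hT
  have hD0 : D ((t.truncGE 0).obj (ρ.X'⟦(1 : ℤ)⟧)) :=
    truncGE_mem_of_triangle t D hb h1 h2 g h _ hrot hZ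
  have hD1 := truncGE_one_mem_of_shift t D ρ.X' hD0
  have hι : D.trW ((t.truncLEι 0).app ρ.X') :=
    (D.trW_iff _).2 ⟨_, _, _, t.triangleLEGE_distinguished 0 1 rfl ρ.X', hD1⟩
  have : IsIso (q.map ((t.truncLEι 0).app ρ.X')) := Localization.inverts q D.trW _ hι
  have h0 : (t.truncLEι 0).app ρ.X' ≫ ρ.f = 0 := t.zero _ 0 1
  have h0' : q.map ρ.f = 0 := by
    rw [← cancel_epi (q.map ((t.truncLEι 0).app ρ.X')), ← q.map_comp, h0, q.map_zero, comp_zero]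
  rw [MorphismProperty.RightFraction.map, h0', comp_zero]

/-- The quotient t-structure. -/
noncomputable def quotTStructure (hb : ∀ X : C, t.bounded X)
    (h1 : ∀ X : C, D X → ∀ n : ℤ, D ((t.truncGELE n n).obj X))
    (h2 : ∀ (X Y Z : C) (f : X ⟶ Y) (g : Y ⟶ Z) (h : Z ⟶ X⟦(1 : ℤ)⟧),
      Triangle.mk f g h ∈ distTriang C → t.heart X → t.heart Y → t.heart Z → D Y → D X ∧ D Z) :
    TStructure E where
  le n := fun Y => ∃ X : C, t.IsLE X n ∧ Nonempty (q.obj X ≅ Y)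
  ge n := fun Y => ∃ X : C, t.IsGE X n ∧ Nonempty (q.obj X ≅ Y)
  le_isClosedUnderIsomorphisms n := ⟨fun e ⟨X, hX, ⟨e'⟩⟩ => ⟨X, hX, ⟨e' ≪≫ e⟩⟩⟩
  ge_isClosedUnderIsomorphisms n := ⟨fun e ⟨X, hX, ⟨e'⟩⟩ => ⟨X, hX, ⟨e' ≪≫ e⟩⟩⟩
  le_shift n a n' h Y := by
    rintro ⟨X, hX, ⟨e⟩⟩
    exact ⟨X⟦a⟧, t.isLE_shift X n a n' h,
      ⟨(q.commShiftIso a).app X ≪≫ (shiftFunctor E a).mapIso e⟩⟩
  ge_shift n a n' h Y := by
    rintro ⟨X, hX, ⟨e⟩⟩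
    exact ⟨X⟦a⟧, t.isGE_shift X n a n' h,
      ⟨(q.commShiftIso a).app X ≪≫ (shiftFunctor E a).mapIso e⟩⟩
  zero' := by
    rintro Y₁ Y₂ f ⟨X₁, hX₁, ⟨e₁⟩⟩ ⟨X₂, hX₂, ⟨e₂⟩⟩
    have h0 := hom_eq_zero t D q hb h1 h2 (e₁.hom ≫ f ≫ e₂.inv)
    have : f = e₁.inv ≫ (e₁.hom ≫ f ≫ e₂.inv) ≫ e₂.hom := by simp
    rw [this, h0, zero_comp, comp_zero]
  le_zero_le := fun Y ⟨X, hX, e⟩ => ⟨X, t.isLE_of_le X 0 1 (by lia), e⟩
  ge_one_le := fun Y ⟨X, hX, e⟩ => ⟨X, t.isGE_of_ge X 0 1 (by lia), e⟩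
  exists_triangle_zero_one A := by
    have : q.EssSurj := Localization.essSurj q D.trW
    let X₀ := q.objPreimage A
    let e : q.obj X₀ ≅ A := q.objObjPreimageIso A
    have hT := q.map_distinguished _ (t.triangleLEGE_distinguished 0 1 rfl X₀)
    refine ⟨q.obj ((t.truncLE 0).obj X₀), q.obj ((t.truncGE 1).obj X₀),
      ⟨_, inferInstance, ⟨Iso.refl _⟩⟩, ⟨_, inferInstance, ⟨Iso.refl _⟩⟩,
      q.map ((t.truncLEι 0).app X₀) ≫ e.hom, e.inv ≫ q.map ((t.truncGEπ 1).app X₀),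
      q.map ((t.truncGEδLE 0 1 rfl).app X₀) ≫ (q.commShiftIso (1 : ℤ)).hom.app _, ?_⟩
    refine isomorphic_distinguished _ hT _ ?_
    refine Triangle.isoMk _ _ (Iso.refl _) e.symm (Iso.refl _) ?_ ?_ ?_
    · show (q.map ((t.truncLEι 0).app X₀) ≫ e.hom) ≫ e.inv = 𝟙 _ ≫ q.map ((t.truncLEι 0).app X₀)
      simp
    · show (e.inv ≫ q.map ((t.truncGEπ 1).app X₀)) ≫ 𝟙 _ = e.inv ≫ q.map ((t.truncGEπ 1).app X₀)
      simp
    · show (q.map ((t.truncGEδLE 0 1 rfl).app X₀) ≫ (q.commShiftIso (1 : ℤ)).hom.app _) ≫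
        (shiftFunctor E (1 : ℤ)).map (𝟙 _) =
        𝟙 _ ≫ (q.map ((t.truncGEδLE 0 1 rfl).app X₀) ≫ (q.commShiftIso (1 : ℤ)).hom.app _)
      simp

end Groth.Agent.Lib.QuotTStr
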