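import Mathlib
import Groth.Agent.Lib.QuotTStr3

/-! # Quotient t-structures on Verdier quotients, part 4 (helper1)

Uniqueness of the t-structure on the Verdier quotient making the quotient functor t-exact. -/

universe v u v' u'

open CategoryTheory CategoryTheory.Limits CategoryTheory.Pretriangulated CategoryTheory.Triangulated

namespace Groth.Agent.Lib.QuotTStr

lemma tstructure_ext {E : Type u'} [Category.{v'} E] [Preadditive E] [HasZeroObject E]
    [HasShift E ℤ] [∀ n : ℤ, (shiftFunctor E n).Additive] [Pretriangulated E]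
    (t₁ t₂ : TStructure E) (hle : t₁.le = t₂.le) (hge : t₁.ge = t₂.ge) : t₁ = t₂ := by
  cases t₁; cases t₂
  simp only [TStructure.mk.injEq]
  exact ⟨hle, hge⟩

variable {C : Type u} [Category.{v} C] [Preadditive C] [HasZeroObject C] [HasShift C ℤ]
  [∀ n : ℤ, (shiftFunctor C n).Additive] [Pretriangulated C] [IsTriangulated C]
  (t : TStructure C) (D : ObjectProperty C) [D.IsTriangulated] [D.IsClosedUnderIsomorphisms]
  {E : Type u'} [Category.{v'} E] [Preadditive E] [HasZeroObject E] [HasShift E ℤ]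
  [∀ n : ℤ, (shiftFunctor E n).Additive] [Pretriangulated E]
  (q : C ⥤ E) [q.CommShift ℤ] [q.IsTriangulated] [q.IsLocalization D.trW]

include D in
lemma le_iff_of_exact (t'' : TStructure E)
    (hle : ∀ (X : C) (n : ℤ), t.IsLE X n → t''.IsLE (q.obj X) n)
    (hge : ∀ (X : C) (n : ℤ), t.IsGE X n → t''.IsGE (q.obj X) n) (n : ℤ) (Y : E) :
    t''.le n Y ↔ ∃ X : C, t.IsLE X n ∧ Nonempty (q.obj X ≅ Y) := by
  constructor
  · intro hY
    have : q.EssSurj := Localization.essSurj q D.trW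
    let X₀ := q.objPreimage Y
    let e : q.obj X₀ ≅ Y := q.objObjPreimageIso Y
    have hT' := q.map_distinguished _ (t.triangleLEGE_distinguished n (n + 1) rfl X₀)
    set T' := q.mapTriangle.obj ((t.triangleLEGE n (n + 1) rfl).obj X₀) with hT'def
    have hYi : t''.IsLE Y n := ⟨hY⟩
    have hY' : t''.IsLE (q.obj X₀) n := t''.isLE_of_iso e.symm n
    have h3 : t''.IsGE (q.obj ((t.truncGE (n + 1)).obj X₀)) (n + 1) := hge _ _ inferInstance
    have h1' : t''.IsLE (q.obj ((t.truncLE n).obj X₀)) n := hle _ _ inferInstance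
    have hm2 : T'.mor₂ = 0 := t''.zero_of_isLE_of_isGE _ n (n + 1) (by lia) hY' h3
    obtain ⟨k, hk⟩ := Triangle.yoneda_exact₃ T' hT' (𝟙 T'.obj₃) (by rw [hm2, zero_comp])
    have h1'' : t''.IsLE T'.obj₁ n := h1'
    have hk0 : k = 0 :=
      t''.zero_of_isLE_of_isGE k (n - 1) (n + 1) (by lia) (t''.isLE_shift _ n 1 (n - 1) (by lia)) h3
    have hz : IsZero T'.obj₃ := (IsZero.iff_id_eq_zero _).2 (by rw [hk, hk0, comp_zero])
    have hiso : IsIso T'.mor₁ := (Triangle.isZero₃_iff_isIso₁ T' hT').1 hz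
    exact ⟨(t.truncLE n).obj X₀, inferInstance, ⟨(@asIso _ _ _ _ T'.mor₁ hiso) ≪≫ e⟩⟩
  · rintro ⟨X, hX, ⟨e⟩⟩
    have := hle X n hX
    exact (t''.isLE_of_iso e n).le

include D in
lemma ge_iff_of_exact (t'' : TStructure E)
    (hle : ∀ (X : C) (n : ℤ), t.IsLE X n → t''.IsLE (q.obj X) n)
    (hge : ∀ (X : C) (n : ℤ), t.IsGE X n → t''.IsGE (q.obj X) n) (n : ℤ) (Y : E) :
    t''.ge n Y ↔ ∃ X : C, t.IsGE X n ∧ Nonempty (q.obj X ≅ Y) := by
  constructor
  · intro hY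
    have : q.EssSurj := Localization.essSurj q D.trW
    let X₀ := q.objPreimage Y
    let e : q.obj X₀ ≅ Y := q.objObjPreimageIso Y
    have hT' := q.map_distinguished _ (t.triangleLEGE_distinguished (n - 1) n (by lia) X₀)
    set T' := q.mapTriangle.obj ((t.triangleLEGE (n - 1) n (by lia)).obj X₀) with hT'def
    have hYi : t''.IsGE Y n := ⟨hY⟩
    have hY' : t''.IsGE (q.obj X₀) n := t''.isGE_of_iso e.symm n
    have h3 : t''.IsGE (q.obj ((t.truncGE n).obj X₀)) n := hge _ _ inferInstance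
    have h1' : t''.IsLE (q.obj ((t.truncLE (n - 1)).obj X₀)) (n - 1) := hle _ _ inferInstance
    have hm1 : T'.mor₁ = 0 := t''.zero_of_isLE_of_isGE _ (n - 1) n (by lia) h1' hY'
    obtain ⟨k, hk⟩ := Triangle.coyoneda_exact₁ T' hT' (𝟙 (T'.obj₁⟦(1 : ℤ)⟧))
      (by rw [hm1, Functor.map_zero, comp_zero])
    have h1'' : t''.IsLE T'.obj₁ (n - 1) := h1'
    have hk0 : k = 0 :=
      t''.zero_of_isLE_of_isGE k (n - 2) n (by lia)
        (t''.isLE_shift _ (n - 1) 1 (n - 2) (by lia)) h3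
    have hz1 : 𝟙 (T'.obj₁⟦(1 : ℤ)⟧) = 0 := by rw [hk, hk0, zero_comp]
    have hz : IsZero T'.obj₁ := by
      rw [IsZero.iff_id_eq_zero]
      apply (shiftFunctor E (1 : ℤ)).map_injective
      rw [CategoryTheory.Functor.map_id, CategoryTheory.Functor.map_zero]
      exact hz1
    have hiso : IsIso T'.mor₂ := (Triangle.isZero₁_iff_isIso₂ T' hT').1 hz
    exact ⟨(t.truncGE n).obj X₀, inferInstance, ⟨(@asIso _ _ _ _ T'.mor₂ hiso).symm ≪≫ e⟩⟩
  · rintro ⟨X, hX, ⟨e⟩⟩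
    have := hge X n hX
    exact (t''.isGE_of_iso e n).ge

theorem main (hb : ∀ X : C, t.bounded X)
    (h1 : ∀ X : C, D X → ∀ n : ℤ, D ((t.truncGELE n n).obj X))
    (h2 : ∀ (X Y Z : C) (f : X ⟶ Y) (g : Y ⟶ Z) (h : Z ⟶ X⟦(1 : ℤ)⟧),
      Triangle.mk f g h ∈ distTriang C → t.heart X → t.heart Y → t.heart Z → D Y → D X ∧ D Z) :
    ∃ t' : TStructure E,
      (∀ (X : C) (n : ℤ), t.IsLE X n → t'.IsLE (q.obj X) n) ∧
      (∀ (X : C) (n : ℤ), t.IsGE X n → t'.IsGE (q.obj X) n) ∧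
      (∀ (Y : E) (n : ℤ), t'.IsLE Y n ↔ ∃ X : C, t.IsLE X n ∧ Nonempty (q.obj X ≅ Y)) ∧
      (∀ (Y : E) (n : ℤ), t'.IsGE Y n ↔ ∃ X : C, t.IsGE X n ∧ Nonempty (q.obj X ≅ Y)) ∧
      ∀ t'' : TStructure E,
        (∀ (X : C) (n : ℤ), t.IsLE X n → t''.IsLE (q.obj X) n) →
        (∀ (X : C) (n : ℤ), t.IsGE X n → t''.IsGE (q.obj X) n) → t'' = t' := by
  refine ⟨quotTStructure t D q hb h1 h2, ?_, ?_, ?_, ?_, ?_⟩
  · intro X n hX
    exact ⟨⟨X, hX, ⟨Iso.refl _⟩⟩⟩
  · intro X n hX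
    exact ⟨⟨X, hX, ⟨Iso.refl _⟩⟩⟩
  · intro Y n
    exact ⟨fun h => h.le, fun h => ⟨h⟩⟩
  · intro Y n
    exact ⟨fun h => h.ge, fun h => ⟨h⟩⟩
  · intro t'' hle hge
    apply tstructure_ext
    · funext n Y
      exact propext (le_iff_of_exact t D q t'' hle hge n Y)
    · funext n Y
      exact propext (ge_iff_of_exact t D q t'' hle hge n Y)

end Groth.Agent.Lib.QuotTStr
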