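import Mathlib.Algebra.Homology.DerivedCategory.RightDerivedFunctorPlus
import Mathlib.Algebra.Homology.DerivedCategory.ShortExact
import Mathlib.Algebra.Homology.DerivedCategory.HomologySequence
import Mathlib.CategoryTheory.Triangulated.Subcategory

/-!
# The right derived functor on `D⁺` via the equivalence `K⁺(Inj) ≌ D⁺`

(helper31) API for `Functor.rightDerivedFunctorPlus`.
-/

set_option autoImplicit false

open CategoryTheory Limits Pretriangulated

namespace Groth.Agent.RDPlus31

section FullSub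

variable {A : Type*} [Category* A] [Preadditive A] [HasZeroObject A] [HasShift A ℤ]
  [∀ n : ℤ, (shiftFunctor A n).Additive] [Pretriangulated A]
  (P : ObjectProperty A) [P.IsTriangulated]

/-- A triangle in a full triangulated subcategory whose first two maps are isomorphic to those
of a distinguished triangle of the ambient category can be completed to a distinguished
triangle. -/
theorem exists_distinguished_of_iso {X₁ X₂ X₃ : P.FullSubcategory} (f : X₁ ⟶ X₂) (g : X₂ ⟶ X₃)
    (T : Triangle A) (hT : T ∈ distTriang A)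
    (a₁ : X₁.obj ≅ T.obj₁) (a₂ : X₂.obj ≅ T.obj₂) (a₃ : X₃.obj ≅ T.obj₃)
    (h₁ : f.hom ≫ a₂.hom = a₁.hom ≫ T.mor₁) (h₂ : g.hom ≫ a₃.hom = a₂.hom ≫ T.mor₂) :
    ∃ δ : X₃ ⟶ (shiftFunctor P.FullSubcategory (1 : ℤ)).obj X₁,
      Triangle.mk f g δ ∈ distTriang P.FullSubcategory := by
  let δ₀ : P.ι.obj X₃ ⟶ P.ι.obj ((shiftFunctor P.FullSubcategory (1 : ℤ)).obj X₁) :=
    a₃.hom ≫ T.mor₃ ≫ (shiftFunctor A (1 : ℤ)).map a₁.inv ≫ (P.ι.commShiftIso (1 : ℤ)).inv.app X₁
  refine ⟨P.fullyFaithfulι.preimage δ₀, ?_⟩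
  show P.ι.mapTriangle.obj _ ∈ distTriang A
  refine isomorphic_distinguished _ hT _ ?_
  refine Triangle.isoMk _ _ a₁ a₂ a₃ h₁ h₂ ?_
  show (P.ι.map (P.fullyFaithfulι.preimage δ₀) ≫ (P.ι.commShiftIso (1 : ℤ)).hom.app X₁) ≫
    (shiftFunctor A (1 : ℤ)).map a₁.hom = a₃.hom ≫ T.mor₃
  rw [Functor.FullyFaithful.map_preimage]
  dsimp only [δ₀]
  simp only [Category.assoc, Iso.inv_hom_id_app_assoc]
  rw [← Functor.map_comp, Iso.inv_hom_id, CategoryTheory.Functor.map_id, Category.comp_id]

end FullSub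

variable {C D : Type*} [Category* C] [Category* D] [Abelian C] [Abelian D]
  [HasDerivedCategory C] [HasDerivedCategory D]

section

variable (C)

/-- The functor `K⁺(Inj C) ⥤ D⁺(C)` (an equivalence when `C` has enough injectives). -/
noncomputable abbrev E : HomotopyCategory.Plus (InjectiveObject C) ⥤ DerivedCategory.Plus C :=
  (InjectiveObject.ι C).mapHomotopyCategoryPlus ⋙ DerivedCategory.Plus.Qh

instance : (E C).Full := by
  constructor
  intro X Y f
  have hY : CochainComplex.IsKInjective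
      ((InjectiveObject.ι C).mapHomotopyCategoryPlus.obj Y).1.as := by
    obtain ⟨Y, hY⟩ := Y
    obtain ⟨Y, rfl⟩ := HomotopyCategory.quotient_obj_surjective Y
    obtain ⟨n, hn⟩ := (HomotopyCategory.plus_quotient_obj_iff _).1 hY
    let L := ((InjectiveObject.ι C).mapHomologicalComplex (.up ℤ)).obj Y
    have (n : ℤ) : Injective (L.X n) := (Y.X n).property
    have : CochainComplex.IsStrictlyGE L n := by dsimp [L]; infer_instance
    exact CochainComplex.isKInjective_of_injective L n
  obtain ⟨g, hg⟩ := (DerivedCategory.Plus.Qh_map_bijective_of_isKInjective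
    ((InjectiveObject.ι C).mapHomotopyCategoryPlus.obj X) _ hY).2 f
  obtain ⟨g', hg'⟩ := (InjectiveObject.ι C).mapHomotopyCategoryPlus.map_surjective g
  exact ⟨g', by rw [Functor.comp_map, hg', hg]⟩

end

/-- A short exact sequence of bounded below complexes gives a distinguished triangle
in `D⁺(C)`. -/
theorem exists_distinguished_of_shortExact {K₁ K₂ K₃ : CochainComplex.Plus C}
    (φ : K₁ ⟶ K₂) (ψ : K₂ ⟶ K₃) (w : φ.hom ≫ ψ.hom = 0)
    (hS : (ShortComplex.mk φ.hom ψ.hom w).ShortExact) :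
    ∃ δ : DerivedCategory.Plus.Qh.obj ((HomotopyCategory.Plus.quotient C).obj K₃) ⟶
        (shiftFunctor (DerivedCategory.Plus C) (1 : ℤ)).obj
          (DerivedCategory.Plus.Qh.obj ((HomotopyCategory.Plus.quotient C).obj K₁)),
      Triangle.mk (DerivedCategory.Plus.Qh.map ((HomotopyCategory.Plus.quotient C).map φ))
        (DerivedCategory.Plus.Qh.map ((HomotopyCategory.Plus.quotient C).map ψ)) δ ∈
        distTriang (DerivedCategory.Plus C) := by
  refine exists_distinguished_of_iso (DerivedCategory.TStructure.t (C := C)).plus _ _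
    (DerivedCategory.triangleOfSES hS) (DerivedCategory.triangleOfSES_distinguished hS)
    ((DerivedCategory.quotientCompQhIso C).app K₁.obj)
    ((DerivedCategory.quotientCompQhIso C).app K₂.obj)
    ((DerivedCategory.quotientCompQhIso C).app K₃.obj) ?_ ?_
  · exact (DerivedCategory.quotientCompQhIso C).hom.naturality φ.hom
  · exact (DerivedCategory.quotientCompQhIso C).hom.naturality ψ.hom

variable (F : C ⥤ D) [F.Additive]

/-- The functor `K⁺(Inj C) ⥤ D⁺(D)` induced by `F`, which computes `RF`. -/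
noncomputable abbrev G : HomotopyCategory.Plus (InjectiveObject C) ⥤ DerivedCategory.Plus D :=
  (InjectiveObject.ι C).mapHomotopyCategoryPlus ⋙ F.mapHomotopyCategoryPlus ⋙
    DerivedCategory.Plus.Qh

variable [EnoughInjectives C]

/-- `G F ≅ E C ⋙ RF`, induced by the unit of the right derived functor. -/
noncomputable def θ : G F ≅ E C ⋙ F.rightDerivedFunctorPlus :=
  NatIso.ofComponents (fun X => asIso (F.rightDerivedFunctorPlusUnit.app
    ((InjectiveObject.ι C).mapHomotopyCategoryPlus.obj X)))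
    (fun f => F.rightDerivedFunctorPlusUnit.naturality
      ((InjectiveObject.ι C).mapHomotopyCategoryPlus.map f))

lemma θ_hom_app (X : HomotopyCategory.Plus (InjectiveObject C)) :
    (θ F).hom.app X = F.rightDerivedFunctorPlusUnit.app
      ((InjectiveObject.ι C).mapHomotopyCategoryPlus.obj X) := rfl

/-- `RF` sends distinguished triangles to distinguished triangles (for a suitable choice
of third morphism). -/
theorem exists_distinguished_RF (T : Triangle (DerivedCategory.Plus C))
    (hT : T ∈ distTriang (DerivedCategory.Plus C)) :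
    ∃ δ : F.rightDerivedFunctorPlus.obj T.obj₃ ⟶
        (shiftFunctor (DerivedCategory.Plus D) (1 : ℤ)).obj (F.rightDerivedFunctorPlus.obj T.obj₁),
      Triangle.mk (F.rightDerivedFunctorPlus.map T.mor₁) (F.rightDerivedFunctorPlus.map T.mor₂) δ ∈
        distTriang (DerivedCategory.Plus D) := by
  let X' := (E C).objPreimage T.obj₁
  let Y' := (E C).objPreimage T.obj₂
  let e₁ : (E C).obj X' ≅ T.obj₁ := (E C).objObjPreimageIso T.obj₁
  let e₂ : (E C).obj Y' ≅ T.obj₂ := (E C).objObjPreimageIso T.obj₂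
  obtain ⟨f', hf'⟩ := (E C).map_surjective (e₁.hom ≫ T.mor₁ ≫ e₂.inv)
  obtain ⟨Z', g', h', hT'⟩ := distinguished_cocone_triangle f'
  have hET' := (E C).map_distinguished _ hT'
  have comm : ((E C).mapTriangle.obj (Triangle.mk f' g' h')).mor₁ ≫ e₂.hom = e₁.hom ≫ T.mor₁ := by
    show (E C).map f' ≫ e₂.hom = e₁.hom ≫ T.mor₁
    rw [hf', Category.assoc, Category.assoc, Iso.inv_hom_id, Category.comp_id]
  obtain ⟨e, -⟩ := exists_iso_of_arrow_iso _ _ hET' hT (Arrow.isoMk e₁ e₂ comm.symm)
  let RF := F.rightDerivedFunctorPlus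
  let b₁ : (E C).obj X' ≅ T.obj₁ := Triangle.π₁.mapIso e
  let b₂ : (E C).obj Y' ≅ T.obj₂ := Triangle.π₂.mapIso e
  let b₃ : (E C).obj Z' ≅ T.obj₃ := Triangle.π₃.mapIso e
  have hb₁ : (E C).map f' ≫ b₂.hom = b₁.hom ≫ T.mor₁ := e.hom.comm₁
  have hb₂ : (E C).map g' ≫ b₃.hom = b₂.hom ≫ T.mor₂ := e.hom.comm₂
  let a₁ : (G F).obj X' ≅ RF.obj T.obj₁ := (θ F).app X' ≪≫ RF.mapIso b₁
  let a₂ : (G F).obj Y' ≅ RF.obj T.obj₂ := (θ F).app Y' ≪≫ RF.mapIso b₂
  let a₃ : (G F).obj Z' ≅ RF.obj T.obj₃ := (θ F).app Z' ≪≫ RF.mapIso b₃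
  have ha₁ : (G F).map f' ≫ a₂.hom = a₁.hom ≫ RF.map T.mor₁ := by
    dsimp only [a₁, a₂, Iso.trans_hom, Iso.app_hom, Functor.mapIso_hom]
    rw [← Category.assoc, (θ F).hom.naturality f', Category.assoc, Category.assoc,
      Functor.comp_map, ← RF.map_comp, ← RF.map_comp, hb₁]
  have ha₂ : (G F).map g' ≫ a₃.hom = a₂.hom ≫ RF.map T.mor₂ := by
    dsimp only [a₂, a₃, Iso.trans_hom, Iso.app_hom, Functor.mapIso_hom]
    rw [← Category.assoc, (θ F).hom.naturality g', Category.assoc, Category.assoc,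
      Functor.comp_map, ← RF.map_comp, ← RF.map_comp, hb₂]
  have hGT' := (G F).map_distinguished _ hT'
  refine ⟨a₃.inv ≫ ((G F).mapTriangle.obj (Triangle.mk f' g' h')).mor₃ ≫
    (shiftFunctor (DerivedCategory.Plus D) (1 : ℤ)).map a₁.hom, ?_⟩
  refine isomorphic_distinguished _ hGT' _ (Iso.symm ?_)
  refine Triangle.isoMk _ _ a₁ a₂ a₃ ha₁ ha₂ ?_
  show ((G F).mapTriangle.obj (Triangle.mk f' g' h')).mor₃ ≫
      (shiftFunctor (DerivedCategory.Plus D) (1 : ℤ)).map a₁.hom =
    a₃.hom ≫ a₃.inv ≫ ((G F).mapTriangle.obj (Triangle.mk f' g' h')).mor₃ ≫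
      (shiftFunctor (DerivedCategory.Plus D) (1 : ℤ)).map a₁.hom
  exact (Iso.hom_inv_id_assoc a₃ _).symm

omit [EnoughInjectives C] [HasDerivedCategory C] in
/-- `Q⁺` of the image under `F` of a complex in degrees `≥ a` is `≥ a`. -/
lemma isGE_Qh_map_obj (M : CochainComplex.Plus C) (a : ℤ) [M.obj.IsStrictlyGE a] :
    (DerivedCategory.Plus.Qh.obj (F.mapHomotopyCategoryPlus.obj
      ((HomotopyCategory.Plus.quotient C).obj M))).IsGE a := by
  rw [← DerivedCategory.Plus.isGE_ι_obj_iff]
  have : CochainComplex.IsStrictlyGE ((F.mapHomologicalComplex (.up ℤ)).obj M.obj) a :=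
    inferInstance
  have : CochainComplex.IsGE ((F.mapHomologicalComplex (.up ℤ)).obj M.obj) a := inferInstance
  exact DerivedCategory.TStructure.t.isGE_of_iso ((DerivedCategory.quotientCompQhIso D).symm.app
    ((F.mapHomologicalComplex (.up ℤ)).obj M.obj)) a

/-- `RF` computed on (the image in `D⁺` of) a bounded below complex of injectives. -/
noncomputable def RFIsoOfInjective (L : CochainComplex.Plus (InjectiveObject C)) :
    DerivedCategory.Plus.Qh.obj (F.mapHomotopyCategoryPlus.obj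
        ((HomotopyCategory.Plus.quotient C).obj
          ((InjectiveObject.ι C).mapCochainComplexPlus.obj L))) ≅
      F.rightDerivedFunctorPlus.obj (DerivedCategory.Plus.Qh.obj
        ((HomotopyCategory.Plus.quotient C).obj
          ((InjectiveObject.ι C).mapCochainComplexPlus.obj L))) :=
  asIso (F.rightDerivedFunctorPlusUnit.app ((HomotopyCategory.Plus.quotient C).obj
    ((InjectiveObject.ι C).mapCochainComplexPlus.obj L)))

/-- `RF` preserves the property of being cohomologically `≥ a`. -/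
theorem isGE_RF_obj (K : DerivedCategory.Plus C) (a : ℤ) [K.IsGE a] :
    (F.rightDerivedFunctorPlus.obj K).IsGE a := by
  obtain ⟨L, hL, ⟨e⟩⟩ := DerivedCategory.Plus.exists_injective_nonempty_iso K a
  have : ((InjectiveObject.ι C).mapCochainComplexPlus.obj L).obj.IsStrictlyGE a :=
    inferInstanceAs (CochainComplex.IsStrictlyGE
      (((InjectiveObject.ι C).mapHomologicalComplex (.up ℤ)).obj L.obj) a)
  have h := isGE_Qh_map_obj F ((InjectiveObject.ι C).mapCochainComplexPlus.obj L) a
  exact DerivedCategory.Plus.TStructure.t.isGE_of_iso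
    (RFIsoOfInjective F L ≪≫ F.rightDerivedFunctorPlus.mapIso e) a

end Groth.Agent.RDPlus31
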