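import Groth.Agent.Lib.RDPlusSingle31

/-!
# Leray's acyclicity lemma for `R⁺F` (helper31)
-/

set_option autoImplicit false

open CategoryTheory Limits

namespace Groth.Agent.RDPlus31

section Degreewise

variable {A B : Type*} [Category* A] [Category* B] [Abelian A] [Abelian B]
  [HasDerivedCategory A] [HasDerivedCategory B] [EnoughInjectives A]
  (F : A ⥤ B) [F.Additive]

omit [HasDerivedCategory A] [EnoughInjectives A] in
lemma isIso_homology_Qh_map_iff {K L : CochainComplex.Plus A} (f : K ⟶ L) (n : ℤ) :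
    IsIso ((DerivedCategory.Plus.homologyFunctor B n).map (DerivedCategory.Plus.Qh.map
      (F.mapHomotopyCategoryPlus.map ((HomotopyCategory.Plus.quotient A).map f)))) ↔
      QuasiIsoAt ((F.mapHomologicalComplex (.up ℤ)).map f.hom) n := by
  show IsIso ((DerivedCategory.homologyFunctor B n).map (DerivedCategory.Qh.map
    ((HomotopyCategory.quotient B (.up ℤ)).map ((F.mapHomologicalComplex (.up ℤ)).map f.hom)))) ↔ _
  rw [quasiIsoAt_iff_isIso_homologyMap]
  have h1 := NatIso.isIso_map_iff (DerivedCategory.homologyFunctorFactorsh B n)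
    ((HomotopyCategory.quotient B (.up ℤ)).map ((F.mapHomologicalComplex (.up ℤ)).map f.hom))
  have h2 := NatIso.isIso_map_iff (HomotopyCategory.homologyFunctorFactors B (.up ℤ) n)
    ((F.mapHomologicalComplex (.up ℤ)).map f.hom)
  exact h1.trans h2

/-- Degreewise version of `isIso_unit_app_iff`. -/
lemma isIso_homology_unit_app_iff {K L : CochainComplex.Plus A} (s : K ⟶ L) [QuasiIso s.hom]
    [∀ n, Injective (L.obj.X n)] (n : ℤ) :
    IsIso ((DerivedCategory.Plus.homologyFunctor B n).map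
      (F.rightDerivedFunctorPlusUnit.app ((HomotopyCategory.Plus.quotient A).obj K))) ↔
      QuasiIsoAt ((F.mapHomologicalComplex (.up ℤ)).map s.hom) n := by
  rw [← isIso_homology_Qh_map_iff]
  have hs : IsIso (DerivedCategory.Plus.Qh.map ((HomotopyCategory.Plus.quotient A).map s)) := by
    apply Localization.inverts DerivedCategory.Plus.Qh (HomotopyCategory.Plus.quasiIso A)
    show HomotopyCategory.quasiIso A _ ((HomotopyCategory.quotient A (.up ℤ)).map s.hom)
    rw [HomotopyCategory.quotient_map_mem_quasiIso_iff, HomologicalComplex.mem_quasiIso_iff]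
    infer_instance
  have hL : IsIso (F.rightDerivedFunctorPlusUnit.app
      ((HomotopyCategory.Plus.quotient A).obj L)) := inferInstance
  have nat := congrArg (DerivedCategory.Plus.homologyFunctor B n).map
    (F.rightDerivedFunctorPlusUnit.naturality ((HomotopyCategory.Plus.quotient A).map s))
  dsimp only [Functor.comp_map] at nat
  rw [Functor.map_comp, Functor.map_comp] at nat
  constructor
  · intro h
    have : IsIso ((DerivedCategory.Plus.homologyFunctor B n).map
        (DerivedCategory.Plus.Qh.map (F.mapHomotopyCategoryPlus.map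
        ((HomotopyCategory.Plus.quotient A).map s))) ≫
        (DerivedCategory.Plus.homologyFunctor B n).map
        (F.rightDerivedFunctorPlusUnit.app ((HomotopyCategory.Plus.quotient A).obj L))) := by
      rw [nat]
      infer_instance
    exact IsIso.of_isIso_comp_right _
      ((DerivedCategory.Plus.homologyFunctor B n).map
        (F.rightDerivedFunctorPlusUnit.app ((HomotopyCategory.Plus.quotient A).obj L)))
  · intro h
    have : IsIso ((DerivedCategory.Plus.homologyFunctor B n).map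
        (F.rightDerivedFunctorPlusUnit.app ((HomotopyCategory.Plus.quotient A).obj K)) ≫
        (DerivedCategory.Plus.homologyFunctor B n).map
        (F.rightDerivedFunctorPlus.map (DerivedCategory.Plus.Qh.map
          ((HomotopyCategory.Plus.quotient A).map s)))) := by
      rw [← nat]
      infer_instance
    exact IsIso.of_isIso_comp_right _
      ((DerivedCategory.Plus.homologyFunctor B n).map
        (F.rightDerivedFunctorPlus.map (DerivedCategory.Plus.Qh.map
          ((HomotopyCategory.Plus.quotient A).map s))))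

/-- For `F` left exact, the unit of `R⁺F` at a single object induces an iso on `H⁰`. -/
lemma isIso_homology_zero_unit_single [PreservesFiniteLimits F] (X : A) :
    IsIso ((DerivedCategory.Plus.homologyFunctor B 0).map
      (F.rightDerivedFunctorPlusUnit.app ((HomotopyCategory.Plus.singleFunctor A 0).obj X))) := by
  let R := injectiveResolution X
  have : QuasiIso (ιPlus R).hom := inferInstanceAs (QuasiIso R.ι')
  have : ∀ n, Injective ((resPlus R).obj.X n) := fun n =>
    inferInstanceAs (Injective (R.cochainComplex.X n))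
  rw [singleFunctor_obj_eq, isIso_homology_unit_app_iff F (ιPlus R) 0]
  show QuasiIsoAt ((F.mapHomologicalComplex (.up ℤ)).map R.ι') ((0 : ℕ) : ℤ)
  rw [quasiIsoAt_map_ι'_iff F R 0, quasiIsoAt_zero_iff]
  infer_instance

end Degreewise

section Psi

variable {A B : Type*} [Category* A] [Category* B] [Abelian A] [Abelian B]
  [HasDerivedCategory B] (F : A ⥤ B) [F.Additive]

/-- The functor `X ↦ H⁰(Q⁺(F(X[0])))`. -/
noncomputable abbrev Ψ : A ⥤ B :=
  HomotopyCategory.Plus.singleFunctor A 0 ⋙ F.mapHomotopyCategoryPlus ⋙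
    DerivedCategory.Plus.Qh ⋙ DerivedCategory.Plus.homologyFunctor B 0

/-- The functor `Ψ F`, rewritten on cochain complexes. -/
noncomputable def ΨIso₁ : Ψ F ≅ HomologicalComplex.single A (.up ℤ) 0 ⋙
    F.mapHomologicalComplex (.up ℤ) ⋙ HomotopyCategory.quotient B (.up ℤ) ⋙
      DerivedCategory.Qh ⋙ DerivedCategory.homologyFunctor B 0 :=
  NatIso.ofComponents (fun _ => Iso.refl _) (fun _ =>
    (Category.comp_id _).trans (Category.id_comp _).symm)

/-- `Ψ F ≅ F`. -/
noncomputable def ΨIso : Ψ F ≅ F :=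
  ΨIso₁ F ≪≫
    Functor.isoWhiskerLeft (HomologicalComplex.single A (.up ℤ) 0)
      (Functor.isoWhiskerLeft (F.mapHomologicalComplex (.up ℤ))
        (Functor.isoWhiskerLeft (HomotopyCategory.quotient B (.up ℤ))
          (DerivedCategory.homologyFunctorFactorsh B 0) ≪≫
          HomotopyCategory.homologyFunctorFactors B (.up ℤ) 0)) ≪≫
    (Functor.associator _ _ _).symm ≪≫
    Functor.isoWhiskerRight (HomologicalComplex.singleMapHomologicalComplex F (.up ℤ) 0)
      (HomologicalComplex.homologyFunctor B (.up ℤ) 0) ≪≫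
    Functor.associator _ _ _ ≪≫
    Functor.isoWhiskerLeft F (HomologicalComplex.homologyFunctorSingleIso B (.up ℤ) 0) ≪≫
    F.rightUnitor

end Psi

section Hyp

variable {A B : Type*} [Category* A] [Category* B] [Abelian A] [Abelian B]
  [HasDerivedCategory A] [HasDerivedCategory B] [EnoughInjectives A]
  (F : A ⥤ B) [F.Additive]

/-- The hyper-derived functors of `F` on single objects: `X ↦ Hⁿ(R⁺F(X[0]))`. -/
noncomputable abbrev hyp (n : ℤ) : A ⥤ B :=
  HomotopyCategory.Plus.singleFunctor A 0 ⋙ DerivedCategory.Plus.Qh ⋙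
    F.rightDerivedFunctorPlus ⋙ DerivedCategory.Plus.homologyFunctor B n

/-- `X` is right acyclic for `F`: the unit of `R⁺F` at `X[0]` is an isomorphism. -/
def UAcyc (X : A) : Prop :=
  IsIso (F.rightDerivedFunctorPlusUnit.app ((HomotopyCategory.Plus.singleFunctor A 0).obj X))

omit [EnoughInjectives A] in
lemma isGE_Qh_single (X : A) :
    (DerivedCategory.Plus.Qh.obj ((HomotopyCategory.Plus.singleFunctor A 0).obj X)).IsGE 0 := by
  rw [← DerivedCategory.Plus.isGE_ι_obj_iff]
  have : CochainComplex.IsGE ((CochainComplex.singleFunctor A 0).obj X) 0 := inferInstance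
  exact DerivedCategory.TStructure.t.isGE_of_iso ((DerivedCategory.quotientCompQhIso A).symm.app
    ((CochainComplex.singleFunctor A 0).obj X)) 0

lemma isZero_hyp_of_neg (X : A) (n : ℤ) (hn : n < 0) : IsZero ((hyp F n).obj X) := by
  have := isGE_Qh_single X
  have := isGE_RF_obj F
    (DerivedCategory.Plus.Qh.obj ((HomotopyCategory.Plus.singleFunctor A 0).obj X)) 0
  exact DerivedCategory.Plus.isZero_homology_of_isGE _ 0 n hn

omit [HasDerivedCategory A] [EnoughInjectives A] in
lemma isZero_homology_Qh_map_single (X : A) (n : ℤ) (hn : n ≠ 0) :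
    IsZero ((DerivedCategory.Plus.homologyFunctor B n).obj (DerivedCategory.Plus.Qh.obj
      (F.mapHomotopyCategoryPlus.obj ((HomotopyCategory.Plus.singleFunctor A 0).obj X)))) := by
  let K : CochainComplex B ℤ :=
    (F.mapHomologicalComplex (.up ℤ)).obj ((HomologicalComplex.single A (.up ℤ) 0).obj X)
  have e : (DerivedCategory.Plus.homologyFunctor B n).obj (DerivedCategory.Plus.Qh.obj
      (F.mapHomotopyCategoryPlus.obj ((HomotopyCategory.Plus.singleFunctor A 0).obj X))) ≅
      K.homology n :=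
    (DerivedCategory.homologyFunctorFactorsh B n).app ((HomotopyCategory.quotient B (.up ℤ)).obj K)
      ≪≫ (HomotopyCategory.homologyFunctorFactors B (.up ℤ) n).app K
  refine IsZero.of_iso ?_ e
  rw [← HomologicalComplex.exactAt_iff_isZero_homology, HomologicalComplex.exactAt_iff]
  apply ShortComplex.exact_of_isZero_X₂
  exact F.map_isZero (HomologicalComplex.isZero_single_obj_X (.up ℤ) 0 X n hn)

variable {F} in
lemma UAcyc.isZero_hyp {X : A} (h : UAcyc F X) (n : ℤ) (hn : n ≠ 0) :
    IsZero ((hyp F n).obj X) := by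
  have : IsIso (F.rightDerivedFunctorPlusUnit.app
    ((HomotopyCategory.Plus.singleFunctor A 0).obj X)) := h
  exact IsZero.of_iso (isZero_homology_Qh_map_single F X n hn)
    ((DerivedCategory.Plus.homologyFunctor B n).mapIso
      (asIso (F.rightDerivedFunctorPlusUnit.app
        ((HomotopyCategory.Plus.singleFunctor A 0).obj X)))).symm

lemma uAcyc_of_isZero_hyp [PreservesFiniteLimits F] {X : A}
    (h : ∀ n : ℤ, n ≠ 0 → IsZero ((hyp F n).obj X)) : UAcyc F X := by
  dsimp only [UAcyc]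
  rw [DerivedCategory.Plus.isIso_iff]
  intro n
  by_cases hn : n = 0
  · subst hn
    exact isIso_homology_zero_unit_single F X
  · exact ⟨0, (isZero_homology_Qh_map_single F X n hn).eq_of_src _ _,
      (h n hn).eq_of_src _ _⟩

omit [HasDerivedCategory A] [HasDerivedCategory B] [EnoughInjectives A] [F.Additive] in
lemma shortExact_single {S : ShortComplex A} (hS : S.ShortExact) :
    (ShortComplex.mk ((HomologicalComplex.single A (.up ℤ) 0).map S.f)
      ((HomologicalComplex.single A (.up ℤ) 0).map S.g)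
      (by rw [← Functor.map_comp, S.zero, Functor.map_zero])).ShortExact :=
  hS.map_of_exact (HomologicalComplex.single A (.up ℤ) 0)

/-- The long exact sequence of the hyper-derived functors on a short exact sequence. -/
theorem hyp_les {S : ShortComplex A} (hS : S.ShortExact) :
    ∃ δ : ∀ n : ℤ, (hyp F n).obj S.X₃ ⟶ (hyp F (n + 1)).obj S.X₁, ∀ n : ℤ,
      (∃ w, (ShortComplex.mk ((hyp F n).map S.f) ((hyp F n).map S.g) w).Exact) ∧
      (∃ w, (ShortComplex.mk ((hyp F n).map S.g) (δ n) w).Exact) ∧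
      (∃ w, (ShortComplex.mk (δ n) ((hyp F (n + 1)).map S.f) w).Exact) := by
  let φ : singlePlus S.X₁ ⟶ singlePlus S.X₂ :=
    ObjectProperty.homMk ((HomologicalComplex.single A (.up ℤ) 0).map S.f)
  let ψ : singlePlus S.X₂ ⟶ singlePlus S.X₃ :=
    ObjectProperty.homMk ((HomologicalComplex.single A (.up ℤ) 0).map S.g)
  have w : φ.hom ≫ ψ.hom = 0 := by
    show (HomologicalComplex.single A (.up ℤ) 0).map S.f ≫
      (HomologicalComplex.single A (.up ℤ) 0).map S.g = 0
    rw [← Functor.map_comp, S.zero, Functor.map_zero]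
  obtain ⟨δ₀, hδ₀⟩ := exists_distinguished_of_shortExact φ ψ w (shortExact_single hS)
  obtain ⟨δ', hδ'⟩ := exists_distinguished_RF F _ hδ₀
  let T : Pretriangulated.Triangle (DerivedCategory B) :=
    DerivedCategory.Plus.ι.mapTriangle.obj (Pretriangulated.Triangle.mk
      (F.rightDerivedFunctorPlus.map (DerivedCategory.Plus.Qh.map
        ((HomotopyCategory.Plus.quotient A).map φ)))
      (F.rightDerivedFunctorPlus.map (DerivedCategory.Plus.Qh.map
        ((HomotopyCategory.Plus.quotient A).map ψ))) δ')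
  have hT : T ∈ Pretriangulated.distinguishedTriangles := hδ'
  refine ⟨fun n => (DerivedCategory.homologyFunctor B 0).homologySequenceδ T n (n + 1) rfl,
    fun n => ⟨⟨_, (DerivedCategory.homologyFunctor B 0).homologySequence_exact₂ T hT n⟩,
      ⟨_, (DerivedCategory.homologyFunctor B 0).homologySequence_exact₃ T hT n (n + 1) rfl⟩,
      ⟨_, (DerivedCategory.homologyFunctor B 0).homologySequence_exact₁ T hT n (n + 1) rfl⟩⟩⟩

/-- For `F` left exact, `F g` is an epimorphism iff `H⁰(R⁺F(g[0]))` is. -/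
lemma epi_hyp_zero_map_iff [PreservesFiniteLimits F] {X Y : A} (g : X ⟶ Y) :
    Epi ((hyp F 0).map g) ↔ Epi (F.map g) := by
  let νX := (DerivedCategory.Plus.homologyFunctor B 0).map
    (F.rightDerivedFunctorPlusUnit.app ((HomotopyCategory.Plus.singleFunctor A 0).obj X))
  let νY := (DerivedCategory.Plus.homologyFunctor B 0).map
    (F.rightDerivedFunctorPlusUnit.app ((HomotopyCategory.Plus.singleFunctor A 0).obj Y))
  have hX : IsIso νX := isIso_homology_zero_unit_single F X
  have hY : IsIso νY := isIso_homology_zero_unit_single F Y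
  have nat : (Ψ F).map g ≫ νY = νX ≫ (hyp F 0).map g := by
    have := congrArg (DerivedCategory.Plus.homologyFunctor B 0).map
      (F.rightDerivedFunctorPlusUnit.naturality ((HomotopyCategory.Plus.singleFunctor A 0).map g))
    rw [Functor.map_comp, Functor.map_comp] at this
    exact this
  have h1 : (hyp F 0).map g = inv νX ≫ (Ψ F).map g ≫ νY := by
    rw [nat, IsIso.inv_hom_id_assoc]
  have h2 : (Ψ F).map g = νX ≫ (hyp F 0).map g ≫ inv νY := by
    rw [← Category.assoc, ← nat, Category.assoc, IsIso.hom_inv_id, Category.comp_id]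
  have h3 : F.map g = (ΨIso F).inv.app X ≫ (Ψ F).map g ≫ (ΨIso F).hom.app Y := by
    rw [(ΨIso F).hom.naturality g, Iso.inv_hom_id_app_assoc]
  have h4 : (Ψ F).map g = (ΨIso F).hom.app X ≫ F.map g ≫ (ΨIso F).inv.app Y := by
    rw [← Category.assoc, ← (ΨIso F).hom.naturality g, Category.assoc, Iso.hom_inv_id_app,
      Category.comp_id]
  constructor
  · intro h
    rw [h3, h2]
    infer_instance
  · intro h
    rw [h1, h4]
    infer_instance

section LemmaS

variable [PreservesFiniteLimits F] {S : ShortComplex A} (hS : S.ShortExact)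

include hS

theorem uAcyc_X₂_of_X₁_X₃ (h₁ : UAcyc F S.X₁) (h₃ : UAcyc F S.X₃) : UAcyc F S.X₂ := by
  refine uAcyc_of_isZero_hyp F (fun n hn => ?_)
  obtain ⟨δ, hδ⟩ := hyp_les F hS
  obtain ⟨⟨w, ex⟩, -, -⟩ := hδ n
  exact ex.isZero_of_both_isZero (h₁.isZero_hyp n hn) (h₃.isZero_hyp n hn)

theorem uAcyc_X₃_of_X₁_X₂ (h₁ : UAcyc F S.X₁) (h₂ : UAcyc F S.X₂) : UAcyc F S.X₃ := by
  refine uAcyc_of_isZero_hyp F (fun n hn => ?_)
  by_cases hn' : n < 0
  · exact isZero_hyp_of_neg F _ n hn'
  · obtain ⟨δ, hδ⟩ := hyp_les F hS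
    obtain ⟨-, ⟨w, ex⟩, -⟩ := hδ n
    exact ex.isZero_of_both_isZero (h₂.isZero_hyp n hn) (h₁.isZero_hyp (n + 1) (by omega))

theorem epi_map_g_of_uAcyc_X₁ (h₁ : UAcyc F S.X₁) : Epi (F.map S.g) := by
  rw [← epi_hyp_zero_map_iff]
  obtain ⟨δ, hδ⟩ := hyp_les F hS
  obtain ⟨-, ⟨w, ex⟩, -⟩ := hδ 0
  exact ex.epi_f ((h₁.isZero_hyp (0 + 1) (by omega)).eq_of_tgt _ _)

theorem uAcyc_X₁_of_X₂_X₃ (h₂ : UAcyc F S.X₂) (h₃ : UAcyc F S.X₃) (he : Epi (F.map S.g)) :
    UAcyc F S.X₁ := by
  refine uAcyc_of_isZero_hyp F (fun n hn => ?_)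
  by_cases hn' : n < 0
  · exact isZero_hyp_of_neg F _ n hn'
  · obtain ⟨m, rfl⟩ : ∃ m, n = m + 1 := ⟨n - 1, by omega⟩
    obtain ⟨δ, hδ⟩ := hyp_les F hS
    obtain ⟨-, ⟨w₃, ex₃⟩, ⟨w₁, ex₁⟩⟩ := hδ m
    by_cases hm : m = 0
    · subst hm
      have : Epi ((hyp F 0).map S.g) := (epi_hyp_zero_map_iff F S.g).2 he
      have hδ0 : δ 0 = 0 := ex₃.epi_f_iff.1 this
      exact ex₁.isZero_X₂ hδ0 ((h₂.isZero_hyp (0 + 1) (by omega)).eq_of_tgt _ _)
    · exact ex₁.isZero_of_both_isZero (h₃.isZero_hyp m hm) (h₂.isZero_hyp (m + 1) (by omega))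

end LemmaS

/-- For `F` left exact, unit-acyclicity is the classical acyclicity. -/
lemma uAcyc_iff [PreservesFiniteLimits F] (X : A) :
    UAcyc F X ↔ ∀ i : ℕ, 0 < i → IsZero ((F.rightDerived i).obj X) := by
  dsimp only [UAcyc]
  rw [isIso_unit_single_iff]
  exact ⟨fun h => h.2, fun h => ⟨inferInstance, h⟩⟩

end Hyp

section KeyLemma

variable {A B : Type*} [Category* A] [Category* B] [Abelian A] [Abelian B]
  [HasDerivedCategory A] [HasDerivedCategory B] [EnoughInjectives A]
  (F : A ⥤ B) [F.Additive] [PreservesFiniteLimits F]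
  (N : CochainComplex A ℤ)

/-- The cycles of `N` in degree `n`, as a kernel. -/
noncomputable abbrev cyc (n : ℤ) : A := kernel (N.d n (n + 1))

/-- The canonical map `Nⁿ ⟶ Zⁿ⁺¹`. -/
noncomputable abbrev toCyc (n : ℤ) : N.X n ⟶ cyc N (n + 1) :=
  kernel.lift (N.d (n + 1) (n + 1 + 1)) (N.d n (n + 1)) (N.d_comp_d _ _ _)

omit [HasDerivedCategory A] [EnoughInjectives A] in
@[reassoc]
lemma toCyc_ι (n : ℤ) : toCyc N n ≫ kernel.ι (N.d (n + 1) (n + 1 + 1)) = N.d n (n + 1) :=
  kernel.lift_ι _ _ _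

omit [HasDerivedCategory A] [EnoughInjectives A] in
lemma ι_toCyc (n : ℤ) : kernel.ι (N.d n (n + 1)) ≫ toCyc N n = 0 := by
  rw [← cancel_mono (kernel.ι (N.d (n + 1) (n + 1 + 1))), Category.assoc, toCyc_ι,
    kernel.condition, zero_comp]

/-- The short complex `0 → Zⁿ → Nⁿ → Zⁿ⁺¹ → 0`. -/
noncomputable abbrev cycSC (n : ℤ) : ShortComplex A :=
  ShortComplex.mk (kernel.ι (N.d n (n + 1))) (toCyc N n) (ι_toCyc N n)

omit [HasDerivedCategory A] [EnoughInjectives A] in
lemma cycSC_shortExact (n : ℤ) (hN : N.ExactAt (n + 1)) : (cycSC N n).ShortExact where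
  exact := by
    apply ShortComplex.exact_of_f_is_kernel
    exact isKernelOfComp (kernel.ι (N.d (n + 1) (n + 1 + 1))) (N.d n (n + 1))
      (kernelIsKernel (N.d n (n + 1))) (ι_toCyc N n) (toCyc_ι N n)
  mono_f := inferInstanceAs (Mono (kernel.ι _))
  epi_g := by
    rw [HomologicalComplex.exactAt_iff' N n (n + 1) (n + 1 + 1) (by simp) (by simp)] at hN
    exact (ShortComplex.exact_iff_epi_kernel_lift _).1 hN

lemma uAcyc_of_isZero {X : A} (hX : IsZero X) : UAcyc F X := by
  rw [uAcyc_iff]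
  intro i hi
  have : Injective X := hX.injective
  obtain ⟨k, rfl⟩ := Nat.exists_eq_succ_of_ne_zero hi.ne'
  exact F.isZero_rightDerived_obj_injective_succ k X

variable {N}

/-- In an acyclic bounded below complex with `F`-acyclic terms, the cycles are `F`-acyclic. -/
lemma uAcyc_cyc (a : ℤ) [N.IsStrictlyGE a] (hN : ∀ n, N.ExactAt n)
    (hA : ∀ n, UAcyc F (N.X n)) (n : ℤ) : UAcyc F (cyc N n) := by
  have h0 : ∀ m : ℤ, m < a → UAcyc F (cyc N m) := fun m hm =>
    uAcyc_of_isZero F (IsZero.of_mono (kernel.ι (N.d m (m + 1)))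
      (CochainComplex.isZero_of_isStrictlyGE N a m hm))
  by_cases hn : n < a
  · exact h0 n hn
  · have : a - 1 ≤ n := by omega
    refine Int.leInduction (m := a - 1) (motive := fun n _ => UAcyc F (cyc N n))
      (h0 _ (by omega)) (fun m _ hm => ?_) n this
    exact uAcyc_X₃_of_X₁_X₂ F (cycSC_shortExact N m (hN (m + 1))) hm (hA m)

omit [HasDerivedCategory A] [EnoughInjectives A] in
variable (N) in
lemma d_toCyc (m : ℤ) : N.d m (m + 1) ≫ toCyc N (m + 1) = 0 := by
  rw [← cancel_mono (kernel.ι (N.d (m + 1 + 1) (m + 1 + 1 + 1))), Category.assoc, toCyc_ι,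
    N.d_comp_d, zero_comp]

/-- **Key lemma**: `F` preserves the acyclicity of bounded below complexes with `F`-acyclic
terms. -/
theorem exactAt_map_of_uAcyc (a : ℤ) [N.IsStrictlyGE a] (hN : ∀ n, N.ExactAt n)
    (hA : ∀ n, UAcyc F (N.X n)) (n : ℤ) :
    ((F.mapHomologicalComplex (.up ℤ)).obj N).ExactAt n := by
  obtain ⟨m, rfl⟩ : ∃ m, n = m + 1 := ⟨n - 1, by omega⟩
  rw [HomologicalComplex.exactAt_iff' _ m (m + 1) (m + 1 + 1) (by simp) (by simp)]
  have hepi : Epi (F.map (toCyc N m)) :=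
    epi_map_g_of_uAcyc_X₁ F (cycSC_shortExact N m (hN (m + 1))) (uAcyc_cyc F a hN hA m)
  have hS₀ : ((cycSC N (m + 1)).map F).Exact :=
    ((Functor.preservesFiniteLimits_iff_forall_exact_map_and_mono F).1 inferInstance _
      (cycSC_shortExact N (m + 1) (hN (m + 1 + 1)))).1
  let S₁ : ShortComplex B := ShortComplex.mk (F.map (N.d m (m + 1))) (F.map (toCyc N (m + 1)))
    (by rw [← F.map_comp, d_toCyc, F.map_zero])
  let ψ : S₁ ⟶ (cycSC N (m + 1)).map F :=
    { τ₁ := F.map (toCyc N m)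
      τ₂ := 𝟙 _
      τ₃ := 𝟙 _
      comm₁₂ := by
        show F.map (toCyc N m) ≫ F.map (kernel.ι (N.d (m + 1) (m + 1 + 1))) =
          F.map (N.d m (m + 1)) ≫ 𝟙 _
        rw [Category.comp_id, ← F.map_comp, toCyc_ι]
      comm₂₃ := by
        show 𝟙 _ ≫ F.map (toCyc N (m + 1)) = F.map (toCyc N (m + 1)) ≫ 𝟙 _
        rw [Category.comp_id, Category.id_comp] }
  let φ : S₁ ⟶ ((F.mapHomologicalComplex (.up ℤ)).obj N).sc' m (m + 1) (m + 1 + 1) :=
    { τ₁ := 𝟙 _
      τ₂ := 𝟙 _
      τ₃ := F.map (kernel.ι (N.d (m + 1 + 1) (m + 1 + 1 + 1)))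
      comm₁₂ := by
        show 𝟙 _ ≫ F.map (N.d m (m + 1)) = F.map (N.d m (m + 1)) ≫ 𝟙 _
        rw [Category.comp_id, Category.id_comp]
      comm₂₃ := by
        show 𝟙 _ ≫ F.map (N.d (m + 1) (m + 1 + 1)) =
          F.map (toCyc N (m + 1)) ≫ F.map (kernel.ι (N.d (m + 1 + 1) (m + 1 + 1 + 1)))
        rw [Category.id_comp, ← F.map_comp, toCyc_ι] }
  have : Epi ψ.τ₁ := hepi
  have : IsIso ψ.τ₂ := inferInstanceAs (IsIso (𝟙 _))
  have : Mono ψ.τ₃ := inferInstanceAs (Mono (𝟙 _))
  have : Epi φ.τ₁ := inferInstanceAs (Epi (𝟙 _))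
  have : IsIso φ.τ₂ := inferInstanceAs (IsIso (𝟙 _))
  have : Mono φ.τ₃ := inferInstanceAs (Mono (F.map (kernel.ι _)))
  exact (ShortComplex.exact_iff_of_epi_of_isIso_of_mono φ).1
    ((ShortComplex.exact_iff_of_epi_of_isIso_of_mono ψ).2 hS₀)

end KeyLemma

section Classical

variable {A B : Type*} [Category* A] [Category* B] [Abelian A] [Abelian B]
  [EnoughInjectives A] (F : A ⥤ B) [F.Additive] [PreservesFiniteLimits F]
  {S : ShortComplex A} (hS : S.ShortExact)

include hS

/-- The three parts of the classical statement on acyclic objects in a short exact sequence. -/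
theorem acyclic_shortExact :
    ((∀ i : ℕ, 0 < i → IsZero ((F.rightDerived i).obj S.X₁)) →
      (∀ i : ℕ, 0 < i → IsZero ((F.rightDerived i).obj S.X₃)) →
      (∀ i : ℕ, 0 < i → IsZero ((F.rightDerived i).obj S.X₂)) ∧ (S.map F).ShortExact) ∧
    ((∀ i : ℕ, 0 < i → IsZero ((F.rightDerived i).obj S.X₁)) →
      (∀ i : ℕ, 0 < i → IsZero ((F.rightDerived i).obj S.X₂)) →
      (∀ i : ℕ, 0 < i → IsZero ((F.rightDerived i).obj S.X₃)) ∧ (S.map F).ShortExact) ∧
    ((∀ i : ℕ, 0 < i → IsZero ((F.rightDerived i).obj S.X₂)) →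
      (∀ i : ℕ, 0 < i → IsZero ((F.rightDerived i).obj S.X₃)) →
      Epi (F.map S.g) →
      (∀ i : ℕ, 0 < i → IsZero ((F.rightDerived i).obj S.X₁)) ∧ (S.map F).ShortExact) := by
  have : HasDerivedCategory A := HasDerivedCategory.standard A
  have : HasDerivedCategory B := HasDerivedCategory.standard B
  have hleft := (Functor.preservesFiniteLimits_iff_forall_exact_map_and_mono F).1 inferInstance S hS
  have hse : Epi (F.map S.g) → (S.map F).ShortExact := fun he =>
    { exact := hleft.1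
      mono_f := hleft.2
      epi_g := he }
  simp only [← uAcyc_iff]
  refine ⟨fun h₁ h₃ => ⟨uAcyc_X₂_of_X₁_X₃ F hS h₁ h₃, hse (epi_map_g_of_uAcyc_X₁ F hS h₁)⟩,
    fun h₁ h₂ => ⟨uAcyc_X₃_of_X₁_X₂ F hS h₁ h₂, hse (epi_map_g_of_uAcyc_X₁ F hS h₁)⟩,
    fun h₂ h₃ he => ⟨uAcyc_X₁_of_X₂_X₃ F hS h₂ h₃ he, hse he⟩⟩

end Classical

end Groth.Agent.RDPlus31
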