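import Groth.Prelude.Def_SixF1
import Groth.Agent.Lib.RDPlusLerayC31

/-!
# The canonical map `R⁺H ⟶ R⁺F ⋙ R⁺G` of `Def_SixF1` is an isomorphism (helper31)
-/

set_option autoImplicit false

open CategoryTheory Limits

namespace Groth.Agent.RDPlus31

section

variable {A B C : Type*} [Category* A] [Category* B] [Category* C]
  [Abelian A] [Abelian B] [Abelian C]

instance isIso_mapHomotopyCategory {F G : A ⥤ B} [F.Additive] [G.Additive] (α : F ⟶ G) [IsIso α]
    {ι : Type*} (c : ComplexShape ι) :
    IsIso (NatTrans.mapHomotopyCategory α c) :=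
  ⟨NatTrans.mapHomotopyCategory (inv α) c, by
    rw [← NatTrans.mapHomotopyCategory_comp, IsIso.hom_inv_id, NatTrans.mapHomotopyCategory_id], by
    rw [← NatTrans.mapHomotopyCategory_comp, IsIso.inv_hom_id, NatTrans.mapHomotopyCategory_id]⟩

instance isIso_plusNatTrans {F G : A ⥤ B} [F.Additive] [G.Additive] (α : F ⟶ G) [IsIso α] :
    IsIso (EtSix.plusNatTrans α) := by
  let FF := ((HomotopyCategory.plus B).fullyFaithfulι.whiskeringRight (HomotopyCategory.Plus A))
  have : IsIso (((Functor.whiskeringRight _ _ _).obj (HomotopyCategory.plus B).ι).map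
      (EtSix.plusNatTrans α)) := by
    dsimp only [EtSix.plusNatTrans]
    rw [FF.map_preimage]
    have := isIso_mapHomotopyCategory α (ComplexShape.up ℤ)
    exact ((Functor.whiskeringLeft _ _ _).obj (HomotopyCategory.Plus.ι A)).map_isIso
      (NatTrans.mapHomotopyCategory α (ComplexShape.up ℤ))
  exact FF.isIso_of_isIso_map _

variable [HasDerivedCategory A] [HasDerivedCategory B] [HasDerivedCategory C]
  [EnoughInjectives A] [EnoughInjectives B]
  {F : A ⥤ B} {G : B ⥤ C} {H : A ⥤ C} [F.Additive] [G.Additive] [H.Additive]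

/-- If `θ : H ⟶ F ⋙ G` is an isomorphism and the unit of `R⁺G` is an isomorphism on the image
under `F` of bounded below complexes of injectives, then `R⁺F ⋙ R⁺G` is a right derived functor
of `H` (with respect to `EtSix.rPlusUnit₂ θ`). -/
theorem isRightDerivedFunctor_rPlusUnit₂ (θ : H ⟶ F ⋙ G) [IsIso θ]
    (h : ∀ I : HomotopyCategory.Plus (InjectiveObject A),
      IsIso (G.rightDerivedFunctorPlusUnit.app (F.mapHomotopyCategoryPlus.obj
        ((InjectiveObject.ι A).mapHomotopyCategoryPlus.obj I)))) :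
    (F.rightDerivedFunctorPlus ⋙ G.rightDerivedFunctorPlus).IsRightDerivedFunctor
      (EtSix.rPlusUnit₂ θ) (HomotopyCategory.Plus.quasiIso A) := by
  refine (HomotopyCategory.Plus.localizerMorphism_derives _).isRightDerivedFunctor_of_isIso _
    (fun I => ?_)
  have := h I
  dsimp [EtSix.rPlusUnit₂]
  infer_instance

/-- Under the hypotheses of `isRightDerivedFunctor_rPlusUnit₂`, the canonical map
`R⁺H ⟶ R⁺F ⋙ R⁺G` is an isomorphism. -/
theorem isIso_rPlusDesc₂ (θ : H ⟶ F ⋙ G) [IsIso θ]
    (h : ∀ I : HomotopyCategory.Plus (InjectiveObject A),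
      IsIso (G.rightDerivedFunctorPlusUnit.app (F.mapHomotopyCategoryPlus.obj
        ((InjectiveObject.ι A).mapHomotopyCategoryPlus.obj I)))) :
    IsIso (EtSix.rPlusDesc₂ θ) := by
  have := isRightDerivedFunctor_rPlusUnit₂ θ h
  exact (Functor.isRightDerivedFunctor_iff_isIso_rightDerivedDesc H.rightDerivedFunctorPlus
    H.rightDerivedFunctorPlusUnit (HomotopyCategory.Plus.quasiIso A)
    (F.rightDerivedFunctorPlus ⋙ G.rightDerivedFunctorPlus) (EtSix.rPlusUnit₂ θ)).1 this

/-- Variant: `F` preserves injective objects. -/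
theorem isIso_rPlusDesc₂_of_preservesInjectiveObjects (θ : H ⟶ F ⋙ G) [IsIso θ]
    [F.PreservesInjectiveObjects] :
    IsIso (EtSix.rPlusDesc₂ θ) := by
  refine isIso_rPlusDesc₂ θ (fun I => ?_)
  have : ∀ n : ℤ, Injective ((F.mapHomotopyCategoryPlus.obj
      ((InjectiveObject.ι A).mapHomotopyCategoryPlus.obj I)).obj.as.X n) := fun n =>
    Functor.PreservesInjectiveObjects.injective_obj (F := F) (I.obj.as.X n).property
  infer_instance

/-- Variant: `F` sends injectives to `G`-acyclic objects, `G` left exact. -/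
theorem isIso_rPlusDesc₂_of_uAcyc [PreservesFiniteLimits G] (θ : H ⟶ F ⋙ G) [IsIso θ]
    (hFG : ∀ I : A, Injective I → UAcyc G (F.obj I)) :
    IsIso (EtSix.rPlusDesc₂ θ) :=
  isIso_rPlusDesc₂ θ (isIso_unit_app_map_injective F G hFG)

end

end Groth.Agent.RDPlus31
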