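import Groth.Agent.Lib.RDPlus31
import Mathlib.CategoryTheory.Triangulated.Adjunction

/-!
# `F.rightDerivedFunctorPlus` commutes with shifts and is triangulated

(helper21) We transport the `CommShift ℤ` structure and the triangulated property along the
isomorphism `(eqv C).inverse ⋙ G F ≅ F.rightDerivedFunctorPlus`, where
`eqv C : K⁺(Inj C) ≌ D⁺(C)` and `G F : K⁺(Inj C) ⥤ D⁺(D)` is the obviously triangulated functor
computing `RF` (helper31's `θ`).
-/

set_option autoImplicit false

open CategoryTheory Limits Pretriangulated

namespace Groth.Agent.Lib.RDPlusTri21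

open Groth.Agent.RDPlus31

variable {C D : Type*} [Category* C] [Category* D] [Abelian C] [Abelian D]
  [HasDerivedCategory C] [HasDerivedCategory D]

section

variable (C)

instance : (E C).Faithful := by
  constructor
  intro X Y f g hfg
  have hY : CochainComplex.IsKInjective
      ((InjectiveObject.ι C).mapHomotopyCategoryPlus.obj Y).1.as := by
    obtain ⟨Y, hY⟩ := Y
    obtain ⟨Y, rfl⟩ := HomotopyCategory.quotient_obj_surjective Y
    obtain ⟨n, hn⟩ := (HomotopyCategory.plus_quotient_obj_iff _).1 hY
    let L := ((InjectiveObject.ι C).mapHomologicalComplex (.up ℤ)).obj Y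
    have (n : ℤ) : Injective (L.X n) := (Y.X n).property
    have : CochainComplex.IsStrictlyGE L n := by dsimp [L]; infer_instance
    exact CochainComplex.isKInjective_of_injective L n
  have h := (DerivedCategory.Plus.Qh_map_bijective_of_isKInjective
    ((InjectiveObject.ι C).mapHomotopyCategoryPlus.obj X) _ hY).1 hfg
  exact (InjectiveObject.ι C).mapHomotopyCategoryPlus.map_injective h

variable [EnoughInjectives C]

instance : (E C).IsEquivalence where

/-- The equivalence `K⁺(Inj C) ≌ D⁺(C)`. -/
noncomputable def eqv : HomotopyCategory.Plus (InjectiveObject C) ≌ DerivedCategory.Plus C :=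
  (E C).asEquivalence

noncomputable instance : (eqv C).functor.CommShift ℤ :=
  inferInstanceAs ((E C).CommShift ℤ)

instance : (eqv C).functor.IsTriangulated :=
  inferInstanceAs ((E C).IsTriangulated)

noncomputable instance : (eqv C).inverse.CommShift ℤ := (eqv C).commShiftInverse ℤ

instance : (eqv C).CommShift ℤ := (eqv C).commShift_of_functor ℤ

instance : (eqv C).IsTriangulated := Equivalence.IsTriangulated.mk' _ inferInstance

instance : (eqv C).inverse.IsTriangulated := inferInstance

end

variable [EnoughInjectives C] (F : C ⥤ D) [F.Additive]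

/-- `RF` is isomorphic to the composition of a quasi-inverse of `K⁺(Inj C) ≌ D⁺(C)` and the
functor `G F` induced by `F` on complexes of injectives. -/
noncomputable def rfIso : (eqv C).inverse ⋙ G F ≅ F.rightDerivedFunctorPlus :=
  Functor.isoWhiskerLeft _ (θ F) ≪≫ (Functor.associator _ _ _).symm ≪≫
    Functor.isoWhiskerRight (eqv C).counitIso _ ≪≫ Functor.leftUnitor _

noncomputable instance commShiftRF : F.rightDerivedFunctorPlus.CommShift ℤ :=
  Functor.CommShift.ofIso (rfIso F) ℤ

instance : NatTrans.CommShift (rfIso F).hom ℤ :=
  Functor.CommShift.ofIso_compatibility (rfIso F) ℤ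

instance isTriangulatedRF : F.rightDerivedFunctorPlus.IsTriangulated :=
  Functor.isTriangulated_of_iso (rfIso F)

end Groth.Agent.Lib.RDPlusTri21
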