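import Groth.Prelude.Def_RDer
set_option autoImplicit false
universe v₁ v₂ v₃ u₁ u₂ u₃
open CategoryTheory CategoryTheory.Limits HomologicalComplex

namespace Groth.Agent.Lib.RDerEdge

variable {A : Type u₁} [Category.{v₁} A] [Abelian A] [HasInjectiveResolutions A]
  {B : Type u₂} [Category.{v₂} B] [Abelian B] [HasInjectiveResolutions B]
  {C : Type u₃} [Category.{v₃} C] [Abelian C]

variable (Φ : A ⥤ B) [Φ.Additive] [PreservesFiniteLimits Φ]

set_option backward.isDefEq.respectTransparency false in
omit [HasInjectiveResolutions B] in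
lemma quasiIso_mapAug {X : A} (I : InjectiveResolution X)
    (h : ∀ q : ℕ, IsZero ((Φ.rightDerived (q + 1)).obj X)) :
    QuasiIso (RDer.mapAug Φ I.ι) := by
  refine ⟨fun n => ?_⟩
  cases n with
  | zero =>
    rw [CochainComplex.quasiIsoAt₀_iff, ShortComplex.quasiIso_iff_of_zeros]
    · have hk := KernelFork.mapIsLimit _ I.isLimitKernelFork Φ
      have h1 := (ShortComplex.exact_and_mono_f_iff_f_is_kernel
        (ShortComplex.mk (Φ.map (I.ι.f 0)) (Φ.map (I.cocomplex.d 0 1))
          (by rw [← Φ.map_comp, I.ι_f_zero_comp_complex_d, Φ.map_zero]))).2 ⟨hk⟩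
      refine (ShortComplex.exact_and_mono_f_iff_of_iso ?_).1 h1
      refine ShortComplex.isoMk (Iso.refl _) (Iso.refl _) (Iso.refl _) ?_ ?_
      · simp [RDer.mapAug, HomologicalComplex.singleMapHomologicalComplex_inv_app_self]
        exact Category.id_comp _
      · simp
    all_goals simp
  | succ n =>
    rw [quasiIsoAt_iff_exactAt]
    · rw [HomologicalComplex.exactAt_iff_isZero_homology]
      exact IsZero.of_iso (h n) (I.isoRightDerivedObj Φ (n + 1)).symm
    · apply CochainComplex.exactAt_succ_single_obj


/-- The image of an injective resolution of an acyclic object under a left exact functor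
preserving injectives is an injective resolution. -/
noncomputable def mapResolution [Φ.PreservesInjectiveObjects] {X : A} (I : InjectiveResolution X)
    (h : ∀ q : ℕ, IsZero ((Φ.rightDerived (q + 1)).obj X)) :
    InjectiveResolution (Φ.obj X) where
  cocomplex := (Φ.mapHomologicalComplex _).obj I.cocomplex
  injective n := Φ.injective_obj (I.cocomplex.X n)
  ι := RDer.mapAug Φ I.ι
  quasiIso := quasiIso_mapAug Φ I h

set_option backward.isDefEq.respectTransparency false in
theorem isIso_edgeIn [Φ.PreservesInjectiveObjects] (Ψ : B ⥤ C) [Ψ.Additive] (X : A)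
    (h : ∀ q : ℕ, IsZero ((Φ.rightDerived (q + 1)).obj X)) (q : ℕ) :
    IsIso (RDer.edgeIn Φ Ψ q X) := by
  let J := injectiveResolution (Φ.obj X)
  let K := mapResolution Φ (injectiveResolution X) h
  let d := RDer.descToInjectives (𝟙 (Φ.obj X)) J.cocomplex J.ι K.cocomplex K.ι
  have hnat := InjectiveResolution.isoRightDerivedObj_hom_naturality (𝟙 (Φ.obj X)) J K d
    (RDer.ι_descToInjectives_f_zero _ _ _ _ _) Ψ q
  have hmid : IsIso ((HomologicalComplex.homologyFunctor C _ q).map
      ((Ψ.mapHomologicalComplex _).map d)) := by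
    have : (HomologicalComplex.homologyFunctor C _ q).map ((Ψ.mapHomologicalComplex _).map d) =
        (J.isoRightDerivedObj Ψ q).inv ≫ (K.isoRightDerivedObj Ψ q).hom := by
      rw [Iso.eq_inv_comp]
      rw [CategoryTheory.Functor.map_id, Category.id_comp] at hnat
      exact hnat.symm
    rw [this]
    infer_instance
  unfold RDer.edgeIn
  have h3 : IsIso ((HomologicalComplex.homologyFunctor C _ q).map
      ((Ψ.mapHomologicalComplex _).map d) ≫
        ((injectiveResolution X).isoRightDerivedObj (Φ ⋙ Ψ) q).inv) := inferInstance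
  exact IsIso.comp_isIso' inferInstance h3

end Groth.Agent.Lib.RDerEdge
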