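import Groth.Agent.Lib.RFBdd31

/-!
# Cohomological amplitude of an unbounded right derived functor on bounded objects (helper31)

`F : A ⥤ B` additive, `A` Grothendieck abelian, `RF` the unbounded total right derived functor.
If `X ∈ D(A)` has cohomology in a class `P` (closed under isomorphisms) vanishing outside `[a, b]`
and `R^pF(M) = 0` for `M ∈ P`, `p ≥ N`, then `H^j(RF X) = 0` for `j ∉ [a, b + N - 1]`
(`isZero_homology_RF_of_amp`).
-/

set_option autoImplicit false

open CategoryTheory Limits Pretriangulated DerivedCategory DerivedCategory.TStructure ZeroObject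

namespace Groth.Agent.RFAmp31

open Groth.Agent.RlimRFVia31 Groth.Agent.RFBdd31

universe w w' v v' u u'

variable {A : Type u} [Category.{v} A] [Abelian A] [IsGrothendieckAbelian.{v} A]
  [HasDerivedCategory.{w} A]
  {B : Type u'} [Category.{v'} B] [Abelian B] [HasDerivedCategory.{w'} B]
  (F : A ⥤ B) [F.Additive]
  [(Φ F).HasRightDerivedFunctor (HomotopyCategory.quasiIso A (ComplexShape.up ℤ))]

/-- `RF` preserves zero objects -/
lemma isZero_RF_obj (X : DerivedCategory A) (hX : IsZero X) : IsZero ((RF F).obj X) := by
  haveI : (RF F).Additive := Groth.Agent.RFTriang31.additive hKinj (Φ F) (RF F) (η F)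
  exact (RF F).map_isZero hX

variable [HasInjectiveResolutions A]

/-- auxiliary induction on the length of the cohomological interval -/
theorem isZero_homology_RF_of_amp_aux (P : ObjectProperty A) [P.IsClosedUnderIsomorphisms]
    [P.ContainsZero] (N : ℕ)
    (hF : ∀ M, P M → ∀ p : ℕ, N ≤ p → IsZero ((F.rightDerived p).obj M)) (k : ℕ) :
    ∀ (a b : ℤ) (X : DerivedCategory A), b < a + k → X.IsGE a → X.IsLE b →
      (∀ q, P ((homologyFunctor A q).obj X)) →
      ∀ j : ℤ, b + N - 1 < j → IsZero ((homologyFunctor B j).obj ((RF F).obj X)) := by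
  induction k with
  | zero =>
    intro a b X hab hGE hLE _ j _
    have hX : IsZero X := t.isZero X b a (by simpa using hab)
    exact (homologyFunctor B j).map_isZero (isZero_RF_obj F X hX)
  | succ k ih =>
    intro a b X hab hGE hLE hX j hj
    by_cases hba : b < a
    · have hX' : IsZero X := t.isZero X b a hba
      exact (homologyFunctor B j).map_isZero (isZero_RF_obj F X hX')
    have hT := t.triangleLEGE_distinguished a (a + 1) rfl X
    obtain ⟨δ, hδ⟩ := exists_distinguished_RF F _ hT
    -- the fibre is concentrated in degree `a`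
    have h1 : t.IsGE ((t.truncLE a).obj X) a := inferInstance
    have h2 : t.IsLE ((t.truncLE a).obj X) a := inferInstance
    obtain ⟨e⟩ := Groth.Agent.TruncStep31.nonempty_iso_single_homology ((t.truncLE a).obj X) a
    have hM : P ((homologyFunctor A a).obj ((t.truncLE a).obj X)) := by
      have := Groth.Agent.Lib.DWayOut.isIso_homologyMap_truncLEι X a a le_rfl
      exact P.prop_of_iso (asIso ((homologyFunctor A a).map ((t.truncLEι a).app X))).symm (hX a)
    have hfib : IsZero ((homologyFunctor B j).obj ((RF F).obj ((t.truncLE a).obj X))) := by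
      refine IsZero.of_iso ?_ ((homologyFunctor B j).mapIso ((RF F).mapIso e))
      obtain ⟨p, hp⟩ : ∃ p : ℕ, (p : ℤ) = j - a := ⟨(j - a).toNat, by omega⟩
      obtain ⟨e'⟩ := nonempty_homology_RF_single F
        ((homologyFunctor A a).obj ((t.truncLE a).obj X)) a j p (by omega)
      exact IsZero.of_iso (hF _ hM p (by omega)) e'
    -- the truncation
    have h4 : t.IsGE ((t.truncGE (a + 1)).obj X) (a + 1) := inferInstance
    have h5 : t.IsLE ((t.truncGE (a + 1)).obj X) b := inferInstance
    have hY : IsZero ((homologyFunctor B j).obj ((RF F).obj ((t.truncGE (a + 1)).obj X))) :=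
      ih (a + 1) b _ (by push_cast at hab; omega) h4 h5
        (prop_homology_truncGE' P X hX (a + 1)) j hj
    exact (HomologySequence.exact₂ _ hδ j).isZero_of_both_zeros
      (hfib.eq_of_src _ _) (hY.eq_of_tgt _ _)

/-- **cohomological amplitude of `RF` on bounded objects** -/
theorem isZero_homology_RF_of_amp (P : ObjectProperty A) [P.IsClosedUnderIsomorphisms] (N : ℕ)
    (hF : ∀ M, P M → ∀ p : ℕ, N ≤ p → IsZero ((F.rightDerived p).obj M))
    (X : DerivedCategory A) (a b : ℤ) (hP : ∀ q, P ((homologyFunctor A q).obj X))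
    (hab : ∀ q : ℤ, q < a ∨ b < q → IsZero ((homologyFunctor A q).obj X))
    (j : ℤ) (hj : j < a ∨ b + N - 1 < j) :
    IsZero ((homologyFunctor B j).obj ((RF F).obj X)) := by
  have hGE : X.IsGE a := by
    rw [isGE_iff]
    exact fun q hq => hab q (Or.inl hq)
  have hLE : X.IsLE b := by
    rw [isLE_iff]
    exact fun q hq => hab q (Or.inr hq)
  rcases hj with hj | hj
  · haveI := isGE_RF_obj F X a
    exact isZero_of_isGE _ a j hj
  · -- enlarge `P` by the zero objects
    let P' : ObjectProperty A := fun M => P M ∨ IsZero M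
    haveI : P'.IsClosedUnderIsomorphisms :=
      ⟨fun e h => h.elim (fun h => Or.inl (P.prop_of_iso e h)) (fun h => Or.inr (h.of_iso e.symm))⟩
    haveI : P'.ContainsZero := ⟨⟨(0 : A), isZero_zero A, Or.inr (isZero_zero A)⟩⟩
    have hF' : ∀ M, P' M → ∀ p : ℕ, N ≤ p → IsZero ((F.rightDerived p).obj M) := by
      intro M hM p hp
      rcases hM with hM | hM
      · exact hF M hM p hp
      · haveI : (F.rightDerived p).Additive := inferInstance
        exact (F.rightDerived p).map_isZero hM
    exact isZero_homology_RF_of_amp_aux F P' N hF' ((b - a).toNat + 1) a b X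
      (by push_cast; omega) hGE hLE (fun q => Or.inl (hP q)) j hj

end Groth.Agent.RFAmp31
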