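import Groth.Prelude.Def_SpSeq

set_option autoImplicit false
universe v u
open CategoryTheory CategoryTheory.Limits

namespace Groth.Agent.Lib.SpSeqPages

variable {C : Type u} [Category.{v} C] [Abelian C] {r₀ : ℤ}

/-- If a term of a page is zero, so is the corresponding term of the next page. -/
theorem isZero_page_succ (E : CohomologicalSpectralSequence C r₀) (k : ℤ) (hk : r₀ ≤ k)
    (pq : ℤ × ℤ) (h : IsZero ((E.page k hk).X pq)) :
    IsZero ((E.page (k + 1) (hk.trans (by lia))).X pq) := by
  have h1 : IsZero ((E.page k hk).homology pq) :=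
    (HomologicalComplex.exactAt_iff_isZero_homology _ _).mp (HomologicalComplex.ExactAt.of_isZero h)
  exact h1.of_iso (E.iso k (k + 1) pq rfl hk).symm

/-- If a term of a page is zero, so is the corresponding term of all later pages. -/
theorem isZero_page_of_le (E : CohomologicalSpectralSequence C r₀) (r : ℤ) (hr : r₀ ≤ r)
    (pq : ℤ × ℤ) (h : IsZero ((E.page r hr).X pq)) (k : ℤ) (hk : r ≤ k) :
    IsZero ((E.page k (hr.trans hk)).X pq) := by
  induction k, hk using Int.leInduction with
  | base => exact h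
  | succ k hk ih => exact isZero_page_succ E k (hr.trans hk) pq ih

/-- When both differentials at `pq` vanish on page `k`, the term at `pq` is unchanged on the next
page. -/
noncomputable def pageSuccIso (E : CohomologicalSpectralSequence C r₀) (k : ℤ) (hk : r₀ ≤ k)
    (pq : ℤ × ℤ) (h1 : (E.page k hk).d (pq - (k, 1 - k)) pq = 0)
    (h2 : (E.page k hk).d pq (pq + (k, 1 - k)) = 0) :
    (E.page k hk).X pq ≅ (E.page (k + 1) (hk.trans (by lia))).X pq :=
  ((E.page k hk).iCyclesIso pq (pq + (k, 1 - k))
      ((ComplexShape.up' ((k, 1 - k) : ℤ × ℤ)).next_eq' rfl) h2).symm ≪≫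
    (E.page k hk).isoHomologyπ (pq - (k, 1 - k)) pq
      ((ComplexShape.up' ((k, 1 - k) : ℤ × ℤ)).prev_eq' (sub_add_cancel _ _)) h1 ≪≫
    E.iso k (k + 1) pq rfl hk

/-- From a stationary page on, the term at `pq` does not change. -/
theorem nonempty_iso_of_stationaryAt (E : CohomologicalSpectralSequence C r₀) (pq : ℤ × ℤ) (s : ℤ)
    (hs : SpSeq.StationaryAt E pq s) (k : ℤ) (hk : s ≤ k) :
    Nonempty ((E.page s hs.1).X pq ≅ (E.page k (hs.1.trans hk)).X pq) := by
  induction k, hk using Int.leInduction with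
  | base => exact ⟨Iso.refl _⟩
  | succ k hk ih =>
    obtain ⟨e⟩ := ih
    obtain ⟨h1, h2⟩ := hs.2 k (hs.1.trans hk) hk
    exact ⟨e ≪≫ pageSuccIso E k (hs.1.trans hk) pq h1 h2⟩

/-- Two pages from which `pq` is stationary have isomorphic terms at `pq`. -/
theorem nonempty_iso_of_stationaryAt_of_stationaryAt (E : CohomologicalSpectralSequence C r₀)
    (pq : ℤ × ℤ) (s t : ℤ) (hs : SpSeq.StationaryAt E pq s) (ht : SpSeq.StationaryAt E pq t) :
    Nonempty ((E.page s hs.1).X pq ≅ (E.page t ht.1).X pq) := by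
  rcases le_total s t with h | h
  · exact nonempty_iso_of_stationaryAt E pq s hs t h
  · obtain ⟨e⟩ := nonempty_iso_of_stationaryAt E pq t ht s h
    exact ⟨e.symm⟩

/-- If the term at `pq` vanishes on some page `r`, then the limit term (the term on any page from
which `pq` is stationary) vanishes. -/
theorem isZero_page_of_stationaryAt (E : CohomologicalSpectralSequence C r₀) (r : ℤ) (hr : r₀ ≤ r)
    (pq : ℤ × ℤ) (h : IsZero ((E.page r hr).X pq)) (s : ℤ) (hs : SpSeq.StationaryAt E pq s) :
    IsZero ((E.page s hs.1).X pq) := by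
  rcases le_total r s with h' | h'
  · exact isZero_page_of_le E r hr pq h s h'
  · obtain ⟨e⟩ := nonempty_iso_of_stationaryAt E pq s hs r h'
    exact h.of_iso e

/-- If the term at `pq` vanishes on some page, the graded piece of any abutment at `pq` vanishes. -/
theorem isZero_grPiece_of_isZero_page (E : CohomologicalSpectralSequence C r₀) (r : ℤ) (hr : r₀ ≤ r)
    (pq : ℤ × ℤ) (h : IsZero ((E.page r hr).X pq)) (H : ℤ → C) (a : SpSeq.Abutment E H) :
    IsZero (SpSeq.grPiece (a.fil (pq.1 + pq.2)) (a.anti (pq.1 + pq.2)) pq.1) :=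
  (isZero_page_of_stationaryAt E r hr pq h (a.rk pq) (a.stat pq)).of_iso (a.β pq).symm

end Groth.Agent.Lib.SpSeqPages
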