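import Groth.Prelude.Def_SpSeq
import Groth.Agent.Lib.SpSeqPages
import Mathlib.Tactic.Ring
import Mathlib.Tactic.Linarith

/-!
# Propagating a weak Serre class through a first-quadrant spectral sequence (helper10)

`WeakSerre P` : a class of objects of an abelian category closed under isomorphisms, zero objects,
kernels and cokernels of maps BETWEEN members, and extensions (e.g. coherent modules on a locally
Noetherian scheme inside all `O`-modules; NOT required to be closed under arbitrary subobjects).

* `WeakSerre.homology` : homology of a short complex with three terms in `P` is in `P`.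
* `prop_page_succ` : one page step.
* `prop_page` : for an `E₂` cohomological spectral sequence vanishing outside the first quadrant on
  the second page and with `E₂^{p,q} ∈ P` for `q ≤ N`: every `E_r^{p,q}` with `p + q ≤ N` is in `P`
  (more precisely every position with `(r - 1) * (p + q - N - 1) < p`).
* `prop_abutment` : finite filtration + all pages in total degree `n` in `P` ⇒ `H n ∈ P`.
* `prop_abutment_of_E2` : the combination.
-/

set_option autoImplicit false
universe v u
open CategoryTheory CategoryTheory.Limits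

namespace Groth.Agent.Lib.SSWeakSerre

variable {C : Type u} [Category.{v} C] [Abelian C]

/-- A weak Serre class of objects. -/
structure WeakSerre (P : C → Prop) : Prop where
  of_iso : ∀ {X Y : C}, (X ≅ Y) → P X → P Y
  of_isZero : ∀ {X : C}, IsZero X → P X
  kernel : ∀ {X Y : C} (f : X ⟶ Y), P X → P Y → P (kernel f)
  cokernel : ∀ {X Y : C} (f : X ⟶ Y), P X → P Y → P (cokernel f)
  ext : ∀ (S : ShortComplex C), S.ShortExact → P S.X₁ → P S.X₃ → P S.X₂

variable {P : C → Prop}

theorem WeakSerre.homology (hP : WeakSerre P) (S : ShortComplex C) (h1 : P S.X₁) (h2 : P S.X₂)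
    (h3 : P S.X₃) : P S.homology := by
  let h := ShortComplex.LeftHomologyData.ofHasKernelOfHasCokernel S
  have hH : P h.H := hP.cokernel _ h1 (hP.kernel S.g h2 h3)
  exact hP.of_iso h.homologyIso.symm hH

variable {r₀ : ℤ}

/-- One page step. -/
theorem prop_page_succ (hP : WeakSerre P) (E : CohomologicalSpectralSequence C r₀) (k : ℤ)
    (hk : r₀ ≤ k) (pq : ℤ × ℤ)
    (h1 : P ((E.page k hk).X (pq - (k, 1 - k)))) (h2 : P ((E.page k hk).X pq))
    (h3 : P ((E.page k hk).X (pq + (k, 1 - k)))) :
    P ((E.page (k + 1) (hk.trans (by lia))).X pq) := by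
  have e1 : (ComplexShape.up' ((k, 1 - k) : ℤ × ℤ)).prev pq = pq - (k, 1 - k) :=
    (ComplexShape.up' ((k, 1 - k) : ℤ × ℤ)).prev_eq' (sub_add_cancel _ _)
  have e3 : (ComplexShape.up' ((k, 1 - k) : ℤ × ℤ)).next pq = pq + (k, 1 - k) :=
    (ComplexShape.up' ((k, 1 - k) : ℤ × ℤ)).next_eq' rfl
  have hh : P ((E.page k hk).homology pq) := by
    apply hP.homology ((E.page k hk).sc pq)
    · change P ((E.page k hk).X ((ComplexShape.up' ((k, 1 - k) : ℤ × ℤ)).prev pq))
      rw [e1]; exact h1
    · exact h2
    · change P ((E.page k hk).X ((ComplexShape.up' ((k, 1 - k) : ℤ × ℤ)).next pq))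
      rw [e3]; exact h3
  exact hP.of_iso (E.iso k (k + 1) pq rfl hk) hh

/-- The invariant: positions `(p, q)` which are outside the first quadrant, of total degree `≤ N`,
or with `(r - 1) * (p + q - N - 1) < p`, carry objects of `P` on page `r`. -/
theorem prop_page (hP : WeakSerre P) (E : E₂CohomologicalSpectralSequence C) (N : ℤ)
    (hz : ∀ p q : ℤ, (p < 0 ∨ q < 0) → IsZero ((E.page 2 le_rfl).X (p, q)))
    (h2 : ∀ p q : ℤ, 0 ≤ p → 0 ≤ q → q ≤ N → P ((E.page 2 le_rfl).X (p, q))) :
    ∀ (r : ℤ) (hr : 2 ≤ r) (p q : ℤ),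
      (p < 0 ∨ q < 0 ∨ p + q ≤ N ∨ (r - 1) * (p + q - N - 1) < p) →
      P ((E.page r hr).X (p, q)) := by
  intro r hr
  induction r, hr using Int.leInduction with
  | base =>
    intro p q h
    by_cases hpq : p < 0 ∨ q < 0
    · exact hP.of_isZero (hz p q hpq)
    · rw [not_or, not_lt, not_lt] at hpq
      refine h2 p q hpq.1 hpq.2 ?_
      rcases h with h | h | h | h
      · lia
      · lia
      · lia
      · have : (2 - 1 : ℤ) * (p + q - N - 1) = p + q - N - 1 := by ring
        rw [this] at h
        lia
  | succ r hr ih =>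
    intro p q h
    by_cases hpq : p < 0 ∨ q < 0
    · exact hP.of_isZero
        (Groth.Agent.Lib.SpSeqPages.isZero_page_of_le E 2 le_rfl (p, q) (hz p q hpq) (r + 1)
          (by lia))
    · rw [not_or, not_lt, not_lt] at hpq
      obtain ⟨hp0, hq0⟩ := hpq
      have hsrc : ((p, q) : ℤ × ℤ) - (r, 1 - r) = (p - r, q - (1 - r)) := rfl
      have htgt : ((p, q) : ℤ × ℤ) + (r, 1 - r) = (p + r, q + (1 - r)) := rfl
      by_cases hN : p + q ≤ N
      · -- total degree ≤ N
        refine prop_page_succ hP E r hr (p, q) ?_ ?_ ?_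
        · rw [hsrc]
          exact ih _ _ (Or.inr (Or.inr (Or.inl (by lia))))
        · exact ih _ _ (Or.inr (Or.inr (Or.inl hN)))
        · rw [htgt]
          by_cases hN' : p + q + 1 ≤ N
          · exact ih _ _ (Or.inr (Or.inr (Or.inl (by lia))))
          · refine ih _ _ (Or.inr (Or.inr (Or.inr ?_)))
            have : p + r + (q + (1 - r)) - N - 1 = 0 := by lia
            rw [this, mul_zero]
            lia
      · -- total degree > N
        have hk : 0 ≤ p + q - N - 1 := by lia
        have hlt : r * (p + q - N - 1) < p := by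
          rcases h with h | h | h | h
          · lia
          · lia
          · lia
          · have : (r + 1 - 1 : ℤ) = r := by ring
            rwa [this] at h
        refine prop_page_succ hP E r hr (p, q) ?_ ?_ ?_
        · rw [hsrc]
          by_cases hk0 : p + q - N - 1 = 0
          · exact ih _ _ (Or.inr (Or.inr (Or.inl (by lia))))
          · refine ih _ _ (Or.inr (Or.inr (Or.inr ?_)))
            have e : (r - 1) * (p - r + (q - (1 - r)) - N - 1) =
                r * (p + q - N - 1) - r - (p + q - N - 1) + 1 := by ring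
            rw [e]
            lia
        · refine ih _ _ (Or.inr (Or.inr (Or.inr ?_)))
          have e : (r - 1) * (p + q - N - 1) = r * (p + q - N - 1) - (p + q - N - 1) := by ring
          rw [e]
          lia
        · rw [htgt]
          refine ih _ _ (Or.inr (Or.inr (Or.inr ?_)))
          have e : (r - 1) * (p + r + (q + (1 - r)) - N - 1) =
              r * (p + q - N - 1) + r - (p + q - N - 1) - 1 := by ring
          rw [e]
          lia

/-- Graded pieces of the abutment. -/
theorem prop_grPiece (hP : WeakSerre P) (E : CohomologicalSpectralSequence C r₀) {H : ℤ → C}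
    (a : SpSeq.Abutment E H) (n p : ℤ)
    (h : ∀ (r : ℤ) (hr : r₀ ≤ r), P ((E.page r hr).X (p, n - p))) :
    P (SpSeq.grPiece (a.fil n) (a.anti n) p) := by
  have key : ∀ (m : ℤ) (_ : m = n), P (SpSeq.grPiece (a.fil m) (a.anti m) p) →
      P (SpSeq.grPiece (a.fil n) (a.anti n) p) := by
    intro m hm
    subst hm
    exact id
  apply key (p + (n - p)) (by ring)
  exact hP.of_iso (a.β (p, n - p)) (h _ _)

/-- If the filtration on `H n` is finite and all pages in total degree `n` are in `P`, then `H n`
is in `P`. -/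
theorem prop_abutment (hP : WeakSerre P) (E : CohomologicalSpectralSequence C r₀) {H : ℤ → C}
    (a : SpSeq.Abutment E H) (n : ℤ) (hfin : a.IsFinite n)
    (h : ∀ p q : ℤ, p + q = n → ∀ (r : ℤ) (hr : r₀ ≤ r), P ((E.page r hr).X (p, q))) :
    P (H n) := by
  set F := a.fil n with hFdef
  have hF : Antitone F := a.anti n
  have hgr : ∀ p : ℤ, P (SpSeq.grPiece F hF p) := fun p =>
    prop_grPiece hP E a n p (fun r hr => h p (n - p) (by ring) r hr)
  have hstep : ∀ p : ℤ, P ((F (p + 1) : C)) → P ((F p : C)) := by
    intro p hp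
    have hle : F (p + 1) ≤ F p := hF (Int.le_add_one le_rfl)
    let S : ShortComplex C := ShortComplex.mk ((F (p + 1)).ofLE (F p) hle)
      (cokernel.π ((F (p + 1)).ofLE (F p) hle)) (cokernel.condition _)
    have hS : S.ShortExact :=
      { exact := S.exact_of_g_is_cokernel (cokernelIsCokernel _)
        mono_f := by dsimp [S]; infer_instance
        epi_g := by dsimp [S]; infer_instance }
    exact hP.ext S hS hp (hgr p)
  obtain ⟨⟨t, ht⟩, ⟨b, hb⟩⟩ := hfin
  change F t = ⊤ at ht
  change F b = ⊥ at hb
  have hbot : ∀ p : ℤ, F p = ⊥ → P ((F p : C)) := by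
    intro p hp
    rw [hp]
    exact hP.of_isZero ((isZero_zero C).of_iso Subobject.botCoeIsoZero)
  have hdown : ∀ k : ℕ, P ((F (b - k) : C)) := by
    intro k
    induction k with
    | zero =>
      have : b - ((0 : ℕ) : ℤ) = b := by simp
      rw [this]
      exact hbot b hb
    | succ k ih =>
      apply hstep
      have : b - ((k + 1 : ℕ) : ℤ) + 1 = b - k := by push_cast; ring
      rw [this]
      exact ih
  have hFt : P ((F t : C)) := by
    rcases le_total t b with htb | htb
    · have : t = b - ((b - t).toNat : ℤ) := by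
        rw [Int.toNat_of_nonneg (by lia)]; ring
      rw [this]
      exact hdown _
    · apply hbot
      exact le_bot_iff.mp (hb ▸ hF htb)
  rw [ht] at hFt
  exact hP.of_iso (asIso (⊤ : Subobject (H n)).arrow) hFt

/-- Combination: first-quadrant `E₂` spectral sequence with `E₂^{p,q} ∈ P` for `q ≤ N`, finite
filtration on `H n`, `n ≤ N` ⇒ `H n ∈ P`. -/
theorem prop_abutment_of_E2 (hP : WeakSerre P) (E : E₂CohomologicalSpectralSequence C) {H : ℤ → C}
    (a : SpSeq.Abutment E H) (N : ℤ)
    (hz : ∀ p q : ℤ, (p < 0 ∨ q < 0) → IsZero ((E.page 2 le_rfl).X (p, q)))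
    (h2 : ∀ p q : ℤ, 0 ≤ p → 0 ≤ q → q ≤ N → P ((E.page 2 le_rfl).X (p, q)))
    (n : ℤ) (hn : n ≤ N) (hfin : a.IsFinite n) : P (H n) := by
  refine prop_abutment hP E a n hfin fun p q hpq r hr => ?_
  exact prop_page hP E N hz h2 r hr p q (Or.inr (Or.inr (Or.inl (by lia))))

end Groth.Agent.Lib.SSWeakSerre
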