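import Groth.Agent.Lib.GrothSS21B
import Groth.Agent.Lib.SSWeakSerre
import Groth.Prelude.Def_WeakSerre

/-!
# Cohomology objects of `R⁺S K` lie in a weak Serre class (helper92)

Let `S : C ⥤ D` be an additive functor between abelian categories (`C` with enough injectives),
`P` a class of objects of `C` closed under isomorphisms, `P'` a weak Serre class of `D` such that
`RᵖS M ∈ P'` for all `M ∈ P`, `p ≥ 0`.  Then for every `K : D⁺(C)` with `H^q K ∈ P` for all `q`,
`Hⁿ(R⁺S K) ∈ P'` for all `n` (hypercohomology spectral sequence of helper21 + propagation of weak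
Serre classes through a first quadrant spectral sequence of helper10).

* `weakSerre_of_isWeakSerre` : the prelude's `WSerre.IsWeakSerre` gives helper10's `WeakSerre`.
* `prop_homology_of_isGE_zero` : the case `K ≥ 0`.
* `prop_homology` : the general case.
-/

set_option autoImplicit false

open CategoryTheory Limits

namespace Groth.Agent.Lib.RFPlusSerre92

universe v u

open Groth.Agent.Lib.RDPlusTri21

/-- The prelude's weak Serre classes are weak Serre classes in the sense of `SSWeakSerre`. -/
lemma weakSerre_of_isWeakSerre {D : Type u} [Category.{v} D] [Abelian D]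
    (P : ObjectProperty D) [WSerre.IsWeakSerre P] :
    Groth.Agent.Lib.SSWeakSerre.WeakSerre (fun X => P X) where
  of_iso e h := P.prop_of_iso e h
  of_isZero h := P.prop_of_isZero h
  kernel f hX hY := P.prop_kernel f hX hY
  cokernel f hX hY := P.prop_cokernel f hX hY
  ext _ hS h1 h3 := P.prop_X₂_of_shortExact hS h1 h3

variable {C D : Type u} [Category.{v} C] [Category.{v} D] [Abelian C] [Abelian D]
  [HasDerivedCategory C] [HasDerivedCategory D] [EnoughInjectives C]
  (S : C ⥤ D) [S.Additive]

theorem prop_homology_of_isGE_zero (P : C → Prop) (P' : ObjectProperty D) [WSerre.IsWeakSerre P']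
    (h : ∀ M, P M → ∀ p : ℕ, P' ((S.rightDerived p).obj M))
    (K : DerivedCategory.Plus C) [K.IsGE 0]
    (hK : ∀ q : ℤ, P ((DerivedCategory.Plus.homologyFunctor C q).obj K)) (n : ℤ) :
    P' ((DerivedCategory.Plus.homologyFunctor D n).obj (S.rightDerivedFunctorPlus.obj K)) := by
  obtain ⟨E, a, hfin, -, h2⟩ := Groth.Agent.Lib.GrothSS21.exists_hyper_spectralSequence S K
    (fun n => (DerivedCategory.Plus.homologyFunctor D n).obj (S.rightDerivedFunctorPlus.obj K))
    (fun n => ⟨Iso.refl _⟩)
    (fun q => (DerivedCategory.Plus.homologyFunctor C (q : ℤ)).obj K) (fun q => ⟨Iso.refl _⟩)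
  refine Groth.Agent.Lib.SSWeakSerre.prop_abutment_of_E2 (weakSerre_of_isWeakSerre P') E a n ?_ ?_
    n le_rfl (hfin n)
  · intro p q hpq
    obtain ⟨e⟩ := h2 p q
    rw [if_neg (by lia)] at e
    exact IsZero.of_iso (isZero_zero _) e
  · intro p q hp hq _
    obtain ⟨e⟩ := h2 p q
    rw [if_pos ⟨hp, hq⟩] at e
    exact P'.prop_of_iso e.symm (h _ (hK _) _)

theorem prop_homology (P : C → Prop) (hPiso : ∀ {M N : C}, (M ≅ N) → P M → P N)
    (P' : ObjectProperty D) [WSerre.IsWeakSerre P']
    (h : ∀ M, P M → ∀ p : ℕ, P' ((S.rightDerived p).obj M))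
    (K : DerivedCategory.Plus C)
    (hK : ∀ q : ℤ, P ((DerivedCategory.Plus.homologyFunctor C q).obj K)) (n : ℤ) :
    P' ((DerivedCategory.Plus.homologyFunctor D n).obj (S.rightDerivedFunctorPlus.obj K)) := by
  obtain ⟨a, ha⟩ := K.property
  have hKa : K.IsGE a := (DerivedCategory.Plus.isGE_ι_obj_iff K a).1 ha
  have : (K⟦a⟧).IsGE 0 := DerivedCategory.Plus.TStructure.t.isGE_shift K a a 0
  have key := prop_homology_of_isGE_zero S P P' h (K⟦a⟧) (fun q => ?_) (n - a)
  · refine P'.prop_of_iso ?_ key
    exact (DerivedCategory.Plus.homologyFunctor D (n - a)).mapIso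
        ((S.rightDerivedFunctorPlus.commShiftIso a).app K) ≪≫
      ((DerivedCategory.Plus.homologyFunctor D 0).shiftIso a (n - a) n (by lia)).app _
  · exact hPiso (((DerivedCategory.Plus.homologyFunctor C 0).shiftIso a q (a + q) rfl).app K).symm
      (hK _)

end Groth.Agent.Lib.RFPlusSerre92
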