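import Mathlib
import Groth.Prelude.Def_W4c6instabfans3Fan
import Groth.Prelude.Def_W4c6instabfans3FanCvx
import Groth.Agent.Lib.RatCone
import Groth.Agent.Lib.FanCone
import Groth.Agent.Lib.FanCone2
import Groth.Agent.Lib.FanCone4

/-!
# Lattice maps `ℤ^k → ℤ^N`: real extension, common refinements
-/

namespace Groth.Agent.Lib.RFan1

open Instab Instab.ICone CategoryTheory Opposite
open Groth.Agent.Lib.FanCone Groth.Agent.Lib.FanCone2 Groth.Agent.Lib.FanCone4
open Groth.Agent.Lib.RatCone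

variable {N : ℕ} {k k' m : ICone}

lemma lin_apply_eq_sum (φ : (Fin k.dim → ℤ) →ₗ[ℤ] (Fin N → ℤ)) (u : Fin k.dim → ℤ) (j : Fin N) :
    φ u j = ∑ i, φ (Pi.single i 1) j * u i := by
  have h1 : u = ∑ i, u i • (Pi.single i 1 : Fin k.dim → ℤ) := by
    ext l
    simp [Finset.sum_apply, Pi.single_apply]
  conv_lhs => rw [h1]
  rw [map_sum, Finset.sum_apply]
  refine Finset.sum_congr rfl fun i _ => ?_
  rw [map_smul]
  simp [mul_comm]

/-- the real extension of a lattice map -/
def extR (φ : (Fin k.dim → ℤ) →ₗ[ℤ] (Fin N → ℤ)) (v : Fin k.dim → ℝ) : Fin N → ℝ :=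
  fun j => ∑ i, (φ (Pi.single i 1) j : ℝ) * v i

lemma extR_apply (φ : (Fin k.dim → ℤ) →ₗ[ℤ] (Fin N → ℤ)) (v : Fin k.dim → ℝ) (j : Fin N) :
    extR φ v j = ∑ i, (φ (Pi.single i 1) j : ℝ) * v i := rfl

lemma extR_smul (φ : (Fin k.dim → ℤ) →ₗ[ℤ] (Fin N → ℤ)) (c : ℝ) (v : Fin k.dim → ℝ) :
    extR φ (c • v) = c • extR φ v := by
  ext j
  simp only [extR_apply, Pi.smul_apply, smul_eq_mul, Finset.mul_sum]
  refine Finset.sum_congr rfl fun i _ => ?_
  ring

lemma extR_add (φ : (Fin k.dim → ℤ) →ₗ[ℤ] (Fin N → ℤ)) (v w : Fin k.dim → ℝ) :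
    extR φ (v + w) = extR φ v + extR φ w := by
  ext j
  simp only [extR_apply, Pi.add_apply, mul_add, Finset.sum_add_distrib]

/-- `extR` as a linear map -/
def extRLin (φ : (Fin k.dim → ℤ) →ₗ[ℤ] (Fin N → ℤ)) : (Fin k.dim → ℝ) →ₗ[ℝ] (Fin N → ℝ) where
  toFun := extR φ
  map_add' := extR_add φ
  map_smul' c v := extR_smul φ c v

@[simp] lemma extRLin_apply (φ : (Fin k.dim → ℤ) →ₗ[ℤ] (Fin N → ℤ)) (v : Fin k.dim → ℝ) :
    extRLin φ v = extR φ v := rfl

lemma continuous_extR (φ : (Fin k.dim → ℤ) →ₗ[ℤ] (Fin N → ℤ)) : Continuous (extR φ) :=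
  (extRLin φ).continuous_of_finiteDimensional

lemma extR_comp (α : m ⟶ k) (φ : (Fin k.dim → ℤ) →ₗ[ℤ] (Fin N → ℤ)) (z : Fin m.dim → ℝ) :
    extR (φ.comp α.toLin) z = extR φ (α.realMap z) := by
  ext j
  simp only [extR_apply, realMap_apply]
  have h1 : ∀ i, ((φ.comp α.toLin) (Pi.single i 1) j : ℝ) =
      ∑ l, (φ (Pi.single l 1) j : ℝ) * (α.toLin (Pi.single i 1) l : ℝ) := by
    intro i
    have : (φ.comp α.toLin) (Pi.single i 1) = φ (α.toLin (Pi.single i 1)) := rfl
    rw [this, lin_apply_eq_sum φ]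
    push_cast
    rfl
  simp only [h1, Finset.sum_mul, Finset.mul_sum]
  rw [Finset.sum_comm]
  refine Finset.sum_congr rfl fun l _ => Finset.sum_congr rfl fun i _ => ?_
  ring

/-- the real extension of an injective lattice map is injective -/
theorem extR_injective (φ : (Fin k.dim → ℤ) →ₗ[ℤ] (Fin N → ℤ)) (hφ : Function.Injective φ) :
    Function.Injective (extR φ) := by
  classical
  have key : ∀ y : Fin k.dim → ℝ, extR φ y = 0 → y = 0 := by
    intro y hy
    by_contra hne
    obtain ⟨i₀, hi₀⟩ : ∃ i, y i ≠ 0 := by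
      by_contra hcon
      push Not at hcon
      exact hne (funext hcon)
    obtain ⟨lam, hlam⟩ : ∃ lam : Module.Dual ℚ ℝ, lam (y i₀) ≠ 0 := by
      by_contra hcon
      push Not at hcon
      exact hi₀ ((Module.forall_dual_apply_eq_zero_iff ℚ (y i₀)).1 hcon)
    set q : Fin k.dim → ℚ := fun i => lam (y i) with hq
    have hq0 : ∀ j, ∑ i, (φ (Pi.single i 1) j : ℚ) * q i = 0 := by
      intro j
      have h1 := congrFun hy j
      rw [extR_apply] at h1
      have h2 : lam (∑ i, (φ (Pi.single i 1) j : ℝ) * y i) = 0 := by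
        rw [h1]; simp
      rw [map_sum] at h2
      rw [← h2]
      refine Finset.sum_congr rfl fun i _ => ?_
      have : ((φ (Pi.single i 1) j : ℝ)) * y i =
          ((φ (Pi.single i 1) j : ℚ)) • y i := by
        rw [Rat.smul_def]; push_cast; rfl
      rw [this, map_smul, smul_eq_mul]
    obtain ⟨D, hD, hden⟩ := exists_common_den q
    choose u hu using hden
    have hu0 : φ u = 0 := by
      ext j
      rw [lin_apply_eq_sum]
      have : ((∑ i, φ (Pi.single i 1) j * u i : ℤ) : ℚ) = 0 := by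
        push_cast
        simp only [hu]
        have := hq0 j
        calc ∑ i, (φ (Pi.single i 1) j : ℚ) * ((D : ℚ) * q i)
            = (D : ℚ) * ∑ i, (φ (Pi.single i 1) j : ℚ) * q i := by
              rw [Finset.mul_sum]
              refine Finset.sum_congr rfl fun i _ => ?_
              ring
          _ = 0 := by rw [this, mul_zero]
      exact_mod_cast this
    have hu00 : u = 0 := hφ (by rw [hu0, map_zero])
    have := hu i₀
    rw [hu00] at this
    simp only [Pi.zero_apply, Int.cast_zero] at this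
    have hD' : (D : ℚ) ≠ 0 := by exact_mod_cast hD.ne'
    rcases mul_eq_zero.1 this.symm with h | h
    · exact hD' h
    · exact hlam h
  intro y y' h
  have : extR φ (y - y') = 0 := by
    have h1 : extRLin φ (y - y') = extRLin φ y - extRLin φ y' := map_sub _ _ _
    simp only [extRLin_apply] at h1
    rw [h1, h, sub_self]
  exact sub_eq_zero.1 (key _ this)

lemma extR_ne_zero (φ : (Fin k.dim → ℤ) →ₗ[ℤ] (Fin N → ℤ)) (hφ : Function.Injective φ)
    (v : Fin k.dim → ℝ) (hv : v ≠ 0) : extR φ v ≠ 0 := by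
  intro h
  apply hv
  apply extR_injective φ hφ
  rw [h]
  ext j
  simp [extR_apply]

theorem exists_common_refinement_lat
    (φ : (Fin k.dim → ℤ) →ₗ[ℤ] (Fin N → ℤ)) (ψ : (Fin k'.dim → ℤ) →ₗ[ℤ] (Fin N → ℤ))
    (hφ : Function.Injective φ) (hψ : Function.Injective ψ)
    (y : Fan.Orth k) (y' : Fan.Orth k') (c c' : ℝ) (hc : 0 < c) (hc' : 0 < c')
    (h : c • extR φ y.1 = c' • extR ψ y'.1) :
    ∃ (m : ICone) (α : m ⟶ k) (β : m ⟶ k') (z : Fan.Orth m) (l l' : ℝ),
      φ.comp α.toLin = ψ.comp β.toLin ∧ 0 < l ∧ 0 < l' ∧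
        y.1 = l • α.realMap z.1 ∧ y'.1 = l' • β.realMap z.1 := by
  classical
  set p : (Fin k.dim ⊕ Fin k'.dim) → ℝ := Sum.elim (c • y.1) (c' • y'.1) with hp
  have hpnn : ∀ j, 0 ≤ p j := by
    rintro (j | j)
    · exact mul_nonneg hc.le (y.2.1 j)
    · exact mul_nonneg hc'.le (y'.2.1 j)
  have hp0 : p ≠ 0 := by
    intro h0
    apply y.2.2
    funext j
    have := congrFun h0 (Sum.inl j)
    simp only [hp, Sum.elim_inl, Pi.smul_apply, smul_eq_mul, Pi.zero_apply] at this
    rcases mul_eq_zero.1 this with h1 | h1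
    · exact absurd h1 hc.ne'
    · exact h1
  obtain ⟨mm, w, z, h1, h2, h3, h4, h5⟩ := exists_rational_cone_pnat p hpnn hp0
  set u : Fin mm → (Fin k.dim → ℤ) := fun i j => w i (Sum.inl j) with hu
  set u' : Fin mm → (Fin k'.dim → ℤ) := fun i j => w i (Sum.inr j) with hu'
  -- compatibility
  have hcomm : ∀ i, φ (u i) = ψ (u' i) := by
    intro i
    funext r
    have hℓ := h5 (Sum.elim (fun j => φ (Pi.single j 1) r)
      (fun j => - ψ (Pi.single j 1) r)) ?_ i
    · rw [Fintype.sum_sum_type] at hℓ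
      simp only [Sum.elim_inl, Sum.elim_inr, neg_mul, Finset.sum_neg_distrib] at hℓ
      rw [lin_apply_eq_sum φ, lin_apply_eq_sum ψ]
      linarith
    · rw [Fintype.sum_sum_type]
      simp only [Sum.elim_inl, Sum.elim_inr, hp, Pi.smul_apply, smul_eq_mul, Int.cast_neg, neg_mul,
        Finset.sum_neg_distrib]
      have := congrFun h r
      simp only [Pi.smul_apply, smul_eq_mul, extR_apply, Finset.mul_sum] at this
      have e1 : ∀ x, (φ (Pi.single x 1) r : ℝ) * (c * y.1 x) =
          c * ((φ (Pi.single x 1) r : ℝ) * y.1 x) := fun x => by ring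
      have e2 : ∀ x, (ψ (Pi.single x 1) r : ℝ) * (c' * y'.1 x) =
          c' * ((ψ (Pi.single x 1) r : ℝ) * y'.1 x) := fun x => by ring
      simp only [e1, e2]
      linarith
  have hlin : ∀ (c : Fin mm → ℤ), (∀ j, ∑ i, c i * u i j = 0) ∨ (∀ j, ∑ i, c i * u' i j = 0) →
      c = 0 := by
    intro c hcs
    apply h4
    have key : (∑ i, c i • u i = 0) ∧ (∑ i, c i • u' i = 0) := by
      have e : φ (∑ i, c i • u i) = ψ (∑ i, c i • u' i) := by
        simp only [map_sum, map_smul, hcomm]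
      rcases hcs with hcs | hcs
      · have h0 : ∑ i, c i • u i = 0 := by
          funext j
          simpa [Finset.sum_apply] using hcs j
        refine ⟨h0, ?_⟩
        rw [h0, map_zero] at e
        exact hψ (by rw [← e, map_zero])
      · have h0 : ∑ i, c i • u' i = 0 := by
          funext j
          simpa [Finset.sum_apply] using hcs j
        refine ⟨?_, h0⟩
        rw [h0, map_zero] at e
        exact hφ (by rw [e, map_zero])
    rintro (j | j)
    · have := congrFun key.1 j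
      simpa [Finset.sum_apply, hu] using this
    · have := congrFun key.2 j
      simpa [Finset.sum_apply, hu'] using this
  let α : (⟨mm⟩ : ICone) ⟶ k := homOfVectors (m := mm) u (fun i j => h1 i _)
    (fun c hc => hlin c (Or.inl hc))
  let β : (⟨mm⟩ : ICone) ⟶ k' := homOfVectors (m := mm) u' (fun i j => h1 i _)
    (fun c hc => hlin c (Or.inr hc))
  have hz0 : z ≠ 0 := by
    intro hz
    apply hp0
    funext j
    rw [h3 j]
    simp [hz]
  refine ⟨⟨mm⟩, α, β, ⟨z, h2, hz0⟩, 1 / c, 1 / c', ?_, by positivity, by positivity, ?_, ?_⟩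
  · apply LinearMap.ext
    intro v
    show φ (Fintype.linearCombination ℤ u v) = ψ (Fintype.linearCombination ℤ u' v)
    simp only [Fintype.linearCombination_apply, map_sum, map_smul, hcomm]
  · funext j
    simp only [Pi.smul_apply, smul_eq_mul]
    rw [show α.realMap z j = ∑ i, z i * (u i j : ℝ) from homOfVectors_realMap (m := mm) u _ _ z j]
    have := h3 (Sum.inl j)
    simp only [hp, Sum.elim_inl, Pi.smul_apply, smul_eq_mul] at this
    rw [← this]
    field_simp
  · funext j
    simp only [Pi.smul_apply, smul_eq_mul]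
    rw [show β.realMap z j = ∑ i, z i * (u' i j : ℝ) from homOfVectors_realMap (m := mm) u' _ _ z j]
    have := h3 (Sum.inr j)
    simp only [hp, Sum.elim_inr, Pi.smul_apply, smul_eq_mul] at this
    rw [← this]
    field_simp

end Groth.Agent.Lib.RFan1
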