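import Mathlib
import Groth.Prelude.Def_W4c6instabfans3Fan
import Groth.Prelude.Def_W4c6instabfans3FanCvx
import Groth.Agent.Lib.RatCone
import Groth.Agent.Lib.FanCone
import Groth.Agent.Lib.FanCone2
import Groth.Agent.Lib.FanCone4
import Groth.Agent.Lib.FanCone6
import Groth.Agent.Lib.RFan1

/-!
# The fan `R(K)`: the canonical map to the space of rays
-/

namespace Groth.Agent.Lib.RFan2

open Instab Instab.ICone CategoryTheory Opposite
open Groth.Agent.Lib.FanCone Groth.Agent.Lib.FanCone2 Groth.Agent.Lib.FanCone4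
  Groth.Agent.Lib.FanCone6 Groth.Agent.Lib.RFan1

variable {N : ℕ} {ι : Type} (K : ι → Set (Fin N → ℝ))

section Rays

/-- the relation defining rays -/
def RayRel (v w : {v : Fin N → ℝ // v ≠ 0}) : Prop := ∃ c : ℝ, 0 < c ∧ w.1 = c • v.1

lemma rayRel_equivalence : Equivalence (RayRel (N := N)) where
  refl v := ⟨1, one_pos, by rw [one_smul]⟩
  symm := by
    rintro v w ⟨c, hc, h⟩
    exact ⟨c⁻¹, inv_pos.2 hc, by rw [h, smul_smul, inv_mul_cancel₀ hc.ne', one_smul]⟩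
  trans := by
    rintro u v w ⟨c, hc, h⟩ ⟨c', hc', h'⟩
    exact ⟨c' * c, mul_pos hc' hc, by rw [h', h, smul_smul]⟩

/-- the ray through a nonzero vector -/
def ray (v : {v : Fin N → ℝ // v ≠ 0}) : Fan.Rays N := Quot.mk _ v

lemma ray_eq_iff (v w : {v : Fin N → ℝ // v ≠ 0}) :
    ray v = ray w ↔ ∃ c : ℝ, 0 < c ∧ w.1 = c • v.1 := by
  constructor
  · intro h
    have := Quot.eqvGen_exact h
    exact (rayRel_equivalence.eqvGen_iff).1 this
  · intro h
    exact Quot.sound h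

lemma continuous_ray : Continuous (ray (N := N)) := continuous_quot_mk

lemma ray_surjective (r : Fan.Rays N) : ∃ v, r = ray v := by
  obtain ⟨v, rfl⟩ := Quot.exists_rep r
  exact ⟨v, rfl⟩

end Rays

section Map

lemma toVec_eq_extR (n : ICone) (φ : RFan.Cone K n) (v : Fin n.dim → ℝ) :
    RFan.toVec K n φ v = extR φ.1 v := rfl

lemma map_val {k n : ICone} (ψ : k ⟶ n) (ξ : (RFan K).obj (op n)) :
    ((RFan K).map ψ.op ξ).1 = ξ.1.comp ψ.toLin := rfl

/-- the vector attached to a point of the disjoint union -/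
def vecPt (p : Fan.Pt (RFan K)) : {v : Fin N → ℝ // v ≠ 0} :=
  ⟨extR p.1.2.1 p.2.1, extR_ne_zero _ p.1.2.2.1 _ p.2.2.2⟩

lemma ray_vecPt_rel (p q : Fan.Pt (RFan K)) (h : Fan.Rel (RFan K) p q) :
    ray (vecPt K p) = ray (vecPt K q) := by
  obtain ⟨ψ, ξ, v, w, c, hc, hw⟩ := h
  rw [ray_eq_iff]
  refine ⟨c, hc, ?_⟩
  show extR ξ.1 w.1 = c • extR ((RFan K).map ψ.op ξ).1 v.1
  rw [map_val, extR_comp, hw, extR_smul]

/-- the canonical map `P (R(K)) → Rays N` -/
def gmap : Fan.P (RFan K) → Fan.Rays N :=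
  Quot.lift (fun p => ray (vecPt K p)) (ray_vecPt_rel K)

lemma gmap_mk {n : ICone} (φ : (RFan K).obj (op n)) (v : Fan.Orth n)
    (h : RFan.toVec K n φ v.1 ≠ 0) :
    gmap K (Fan.P.mk φ v) = Quot.mk _ ⟨RFan.toVec K n φ v.1, h⟩ := rfl

lemma gmap_mk' {n : ICone} (φ : (RFan K).obj (op n)) (v : Fan.Orth n) :
    gmap K (Fan.P.mk φ v) = ray ⟨extR φ.1 v.1, extR_ne_zero _ φ.2.1 _ v.2.2⟩ := rfl

lemma continuous_gmap : Continuous (gmap K) := by
  apply continuous_quot_lift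
  refine (continuous_sigma_iff
    (σ := fun e : (Σ n : ICone, (RFan K).obj (op n)) => Fan.Orth e.1)).2 ?_
  rintro ⟨n, φ⟩
  refine continuous_ray.comp (Continuous.subtype_mk ?_ _)
  exact (continuous_extR φ.1).comp continuous_subtype_val

lemma gmap_injective : Function.Injective (gmap K) := by
  intro x x' hxx'
  obtain ⟨n, φ, v, rfl⟩ := P_exists_rep x
  obtain ⟨n', φ', v', rfl⟩ := P_exists_rep x'
  rw [gmap_mk', gmap_mk', ray_eq_iff] at hxx'
  obtain ⟨c, hc, h⟩ := hxx'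
  simp only at h
  obtain ⟨m, α, β, z, l, l', hcomp, hl, hl', hv, hv'⟩ :=
    exists_common_refinement_lat φ.1 φ'.1 φ.2.1 φ'.2.1 v v' c 1 hc one_pos
      (by rw [one_smul, h])
  rw [mk_eq_of_smul_map α φ z v l hl hv, mk_eq_of_smul_map β φ' z v' l' hl' hv']
  congr 1
  apply Subtype.ext
  rw [map_val, map_val, hcomp]

end Map

end Groth.Agent.Lib.RFan2
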