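import Mathlib
import Groth.Prelude.Def_W4c6instabfans3Fan
import Groth.Prelude.Def_W4c6instabfans3FanCvx
import Groth.Agent.Lib.RatCone
import Groth.Agent.Lib.FanCone
import Groth.Agent.Lib.FanCone2
import Groth.Agent.Lib.FanCone4
import Groth.Agent.Lib.FanCone6
import Groth.Agent.Lib.FanCone8
import Groth.Agent.Lib.RFan1
import Groth.Agent.Lib.RFan2
import Groth.Agent.Lib.ConeCara

/-!
# The fan `R(K)` of finitely many rational polyhedral pieces: image and compactness
-/

namespace Groth.Agent.Lib.RFan3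

open Instab Instab.ICone CategoryTheory Opposite
open Groth.Agent.Lib.FanCone Groth.Agent.Lib.FanCone2 Groth.Agent.Lib.FanCone4
  Groth.Agent.Lib.FanCone6 Groth.Agent.Lib.FanCone8 Groth.Agent.Lib.RFan1 Groth.Agent.Lib.RFan2
  Groth.Agent.Lib.ConeCara

universe u

section Cell

variable {F : Fan.{u}} {n : ICone}

/-- rational simplices are compact -/
theorem isCompact_cell (ξ : F.obj (op n)) : IsCompact (Fan.P.cell ξ) := by
  haveI : CompactSpace (stdSimplex ℝ (Fin n.dim)) :=
    isCompact_iff_compactSpace.1 (isCompact_stdSimplex ℝ (Fin n.dim))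
  set s : stdSimplex ℝ (Fin n.dim) → Fan.Orth n := fun y => ⟨y.1, stdSimplex_orth y.2⟩ with hs
  have hsc : Continuous s := Continuous.subtype_mk continuous_subtype_val _
  have hrange : Fan.P.cell ξ = Set.range (Fan.P.mk ξ ∘ s) := by
    apply Set.Subset.antisymm
    · rintro _ ⟨v, rfl⟩
      refine ⟨⟨nrm v.1, nrm_mem_stdSimplex v⟩, ?_⟩
      apply mk_eq_of_nrm_eq
      show nrm (nrm v.1) = nrm v.1
      have : nrm v.1 = (sumc v.1)⁻¹ • v.1 := rfl
      conv_lhs => rw [this]
      exact nrm_smul _ (inv_pos.2 (sumc_pos v)).ne' _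
    · rintro _ ⟨y, rfl⟩
      exact ⟨s y, rfl⟩
  rw [hrange]
  exact isCompact_range ((continuous_mk ξ).comp hsc)

end Cell

section Main

variable {N : ℕ}

/-- integer vectors as real vectors -/
def vecZ (g : Fin N → ℤ) : Fin N → ℝ := fun j => (g j : ℝ)

lemma extR_intCast {k : ICone} (φ : (Fin k.dim → ℤ) →ₗ[ℤ] (Fin N → ℤ)) (r : Fin k.dim → ℤ) :
    extR φ (fun i => (r i : ℝ)) = vecZ (φ r) := by
  ext j
  rw [extR_apply, vecZ, lin_apply_eq_sum]
  push_cast
  rfl

variable {ι : Type} (K : ι → Set (Fin N → ℝ))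

/-- the hypothesis on `K` in terms of `fgCone` -/
def IsPoly : Prop :=
  ∀ a, ∃ (m : ℕ) (gen : Fin m → Finset (Fin N → ℤ)), K a = ⋃ l, fgCone vecZ (gen l)

lemma isPoly_of (hK : ∀ a, ∃ (m : ℕ) (gen : Fin m → Finset (Fin N → ℤ)),
      K a = Set.iUnion fun l => {x | ∃ c : (Fin N → ℤ) → ℝ, (∀ g, 0 ≤ c g) ∧
        x = Finset.sum (gen l) fun g => c g • fun j => (g j : ℝ)}) : IsPoly K := hK

variable {K}

lemma isClosed_K (hK : IsPoly K) (a : ι) : IsClosed (K a) := by
  obtain ⟨m, gen, h⟩ := hK a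
  rw [h]
  exact isClosed_iUnion_of_finite fun l => isClosed_fgCone vecZ (gen l)

lemma smul_mem_K (hK : IsPoly K) (a : ι) {x : Fin N → ℝ} (hx : x ∈ K a) (t : ℝ) (ht : 0 ≤ t) :
    t • x ∈ K a := by
  obtain ⟨m, gen, h⟩ := hK a
  rw [h] at hx ⊢
  obtain ⟨l, hl⟩ := Set.mem_iUnion.1 hx
  exact Set.mem_iUnion.2 ⟨l, fgCone_smul_mem vecZ (gen l) hl t ht⟩

/-- the real orthant of a cone of `R(K)` maps into a single `K a` -/
theorem extR_mem_K (hK : IsPoly K) {n : ICone} (φ : RFan.Cone K n) :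
    ∃ a, ∀ v : Fan.Orth n, extR φ.1 v.1 ∈ K a := by
  obtain ⟨a, ha⟩ := φ.2.2
  refine ⟨a, ?_⟩
  set S : Set (Fan.Orth n) := {v | extR φ.1 v.1 ∈ K a} with hS
  have hcl : IsClosed S :=
    (isClosed_K hK a).preimage ((continuous_extR φ.1).comp continuous_subtype_val)
  have hinv : ScaleInv S := by
    intro v w hv c hc h
    simp only [hS, Set.mem_ofPred_eq] at hv ⊢
    rw [h, extR_smul]
    exact smul_mem_K hK a hv c hc.le
  have huniv := eq_univ_of_intPt S hcl hinv fun r hr hr0 => by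
    simp only [hS, Set.mem_ofPred_eq]
    have : (intPt r hr hr0).1 = fun i => (r i : ℝ) := rfl
    rw [this, extR_intCast]
    exact ha r hr
  intro v
  have : v ∈ S := by rw [huniv]; trivial
  exact this


section Simplicial

variable (G' : Finset (Fin N → ℤ)) (hne : G'.Nonempty)

/-- dimension of the simplicial cone on `G'` -/
def scDim : ICone := ⟨⟨G'.card, Finset.card_pos.2 hne⟩⟩

/-- enumeration of `G'` -/
noncomputable def scEquiv : G' ≃ Fin (scDim G' hne).dim := G'.equivFin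

/-- the lattice map of the simplicial cone on `G'` -/
noncomputable def scLin : (Fin (scDim G' hne).dim → ℤ) →ₗ[ℤ] (Fin N → ℤ) :=
  Fintype.linearCombination ℤ (fun i => ((scEquiv G' hne).symm i).1)

lemma scLin_apply (u : Fin (scDim G' hne).dim → ℤ) :
    scLin G' hne u = ∑ i, u i • ((scEquiv G' hne).symm i).1 := by
  simp [scLin, Fintype.linearCombination_apply]

lemma vecZ_scLin (u : Fin (scDim G' hne).dim → ℤ) :
    vecZ (scLin G' hne u) = ∑ g : G', (u (scEquiv G' hne g) : ℝ) • vecZ g.1 := by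
  rw [scLin_apply, ← Equiv.sum_comp (scEquiv G' hne)]
  ext j
  simp only [vecZ, Finset.sum_apply, Pi.smul_apply, smul_eq_mul, Equiv.symm_apply_apply]
  push_cast
  rfl

lemma extR_scLin (v : Fin (scDim G' hne).dim → ℝ) :
    extR (scLin G' hne) v = ∑ g : G', v (scEquiv G' hne g) • vecZ g.1 := by
  rw [← Equiv.sum_comp (scEquiv G' hne).symm]
  ext j
  simp only [extR_apply, Finset.sum_apply, Pi.smul_apply, smul_eq_mul, Equiv.apply_symm_apply,
    vecZ]
  refine Finset.sum_congr rfl fun i _ => ?_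
  have : scLin G' hne (Pi.single i 1) = ((scEquiv G' hne).symm i).1 := by
    simp [scLin, Fintype.linearCombination_apply_single]
  rw [this, mul_comm]

lemma scLin_injective (hli : LinearIndependent ℝ (fun g : G' => vecZ g.1)) :
    Function.Injective (scLin G' hne) := by
  rw [injective_iff_map_eq_zero]
  intro u hu
  have h1 : vecZ (scLin G' hne u) = 0 := by
    rw [hu]; ext j; simp [vecZ]
  rw [vecZ_scLin] at h1
  rw [Fintype.linearIndependent_iff] at hli
  have h2 := hli (fun g => (u (scEquiv G' hne g) : ℝ)) h1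
  funext i
  have := h2 ((scEquiv G' hne).symm i)
  simpa using this

lemma vecZ_scLin_mem (u : Fin (scDim G' hne).dim → ℤ) (hu : ∀ i, 0 ≤ u i) :
    vecZ (scLin G' hne u) ∈ fgCone vecZ G' := by
  classical
  refine ⟨fun g => if h : g ∈ G' then (u (scEquiv G' hne ⟨g, h⟩) : ℝ) else 0, fun g => ?_, ?_⟩
  · show 0 ≤ (if h : g ∈ G' then (u (scEquiv G' hne ⟨g, h⟩) : ℝ) else 0)
    split_ifs
    · exact_mod_cast hu _
    · exact le_refl _
  · rw [vecZ_scLin, ← Finset.sum_coe_sort G']
    refine Finset.sum_congr rfl fun g _ => ?_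
    simp [g.2]

end Simplicial

lemma fgCone_mono {G' G : Finset (Fin N → ℤ)} (h : G' ⊆ G) :
    fgCone vecZ G' ⊆ fgCone vecZ G := by
  classical
  rintro x ⟨c, hc, rfl⟩
  refine ⟨fun g => if g ∈ G' then c g else 0, fun g => ?_, ?_⟩
  · show 0 ≤ (if g ∈ G' then c g else 0)
    split_ifs
    · exact hc g
    · exact le_refl _
  · rw [← Finset.sum_subset h (f := fun g => (if g ∈ G' then c g else 0) • vecZ g)]
    · refine Finset.sum_congr rfl fun g hg => ?_
      simp [hg]
    · intro g _ hg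
      simp [hg]

/-- the simplicial cone on `G'` as a cone of `R(K)` -/
noncomputable def scCone (a : ι) (G' : Finset (Fin N → ℤ)) (hne : G'.Nonempty)
    (hli : LinearIndependent ℝ (fun g : G' => vecZ g.1)) (hsub : fgCone vecZ G' ⊆ K a) :
    RFan.Cone K (scDim G' hne) :=
  ⟨scLin G' hne, scLin_injective G' hne hli, a, fun u hu => hsub (vecZ_scLin_mem G' hne u hu)⟩

/-- every nonzero vector of a finitely generated cone lies in a simplicial subcone -/
theorem exists_simplicial (G : Finset (Fin N → ℤ)) (w : Fin N → ℝ) (hw : w ∈ fgCone vecZ G)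
    (hw0 : w ≠ 0) :
    ∃ (G' : Finset (Fin N → ℤ)) (hne : G'.Nonempty), G' ⊆ G ∧
      LinearIndependent ℝ (fun g : G' => vecZ g.1) ∧
      ∃ v : Fan.Orth (scDim G' hne), extR (scLin G' hne) v.1 = w := by
  classical
  obtain ⟨c, hc, rfl⟩ := hw
  obtain ⟨G', hG', hli, c', hc', hsum⟩ := caratheodory_cone vecZ G.card G rfl c (fun g _ => hc g)
  have hne : G'.Nonempty := by
    rw [Finset.nonempty_iff_ne_empty]
    rintro rfl
    rw [hsum] at hw0
    simp at hw0
  refine ⟨G', hne, hG', hli, ⟨fun i => c' ((scEquiv G' hne).symm i).1, fun i => ?_, ?_⟩, ?_⟩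
  · exact (hc' _ ((scEquiv G' hne).symm i).2).le
  · intro h0
    obtain ⟨g, hg⟩ := id hne
    have := congrFun h0 (scEquiv G' hne ⟨g, hg⟩)
    simp only [Equiv.symm_apply_apply, Pi.zero_apply] at this
    exact (hc' g hg).ne' this
  · rw [extR_scLin, hsum, ← Finset.sum_coe_sort G']
    refine Finset.sum_congr rfl fun g _ => ?_
    simp

end Main

end Groth.Agent.Lib.RFan3
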