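import Mathlib
import Groth.Prelude.Def_W4c6instabfans3Fan
import Groth.Prelude.Def_W4c6instabfans3FanCvx
import Groth.Agent.Lib.FanCone
import Groth.Agent.Lib.FanCone2
import Groth.Agent.Lib.FanCone4
import Groth.Agent.Lib.FanCone6
import Groth.Agent.Lib.FanCone8
import Groth.Agent.Lib.RFan1
import Groth.Agent.Lib.RFan2
import Groth.Agent.Lib.RFan3
import Groth.Agent.Lib.ConeCara

/-!
# The fan `R(K)`: the realization embeds into the sphere
-/

namespace Groth.Agent.Lib.RFan4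

open Instab Instab.ICone CategoryTheory Opposite
open Groth.Agent.Lib.FanCone Groth.Agent.Lib.FanCone2 Groth.Agent.Lib.FanCone4
  Groth.Agent.Lib.FanCone6 Groth.Agent.Lib.FanCone8 Groth.Agent.Lib.RFan1 Groth.Agent.Lib.RFan2
  Groth.Agent.Lib.RFan3 Groth.Agent.Lib.ConeCara

variable {N : ℕ}

section RaysT2

/-- the unit vector of a ray -/
noncomputable def unitVec : Fan.Rays N → (Fin N → ℝ) :=
  Quot.lift (fun v : {v : Fin N → ℝ // v ≠ 0} => ‖v.1‖⁻¹ • v.1) (by
    rintro v w ⟨c, hc, h⟩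
    show ‖v.1‖⁻¹ • v.1 = ‖w.1‖⁻¹ • w.1
    rw [h, norm_smul, Real.norm_of_nonneg hc.le, mul_inv, smul_smul, mul_assoc,
      mul_comm _ c, ← mul_assoc, inv_mul_cancel₀ hc.ne', one_mul])

lemma continuous_unitVec : Continuous (unitVec (N := N)) := by
  apply continuous_quot_lift
  have h1 : Continuous (fun v : {v : Fin N → ℝ // v ≠ 0} => ‖v.1‖⁻¹) :=
    (continuous_norm.comp continuous_subtype_val).inv₀ fun v => norm_ne_zero_iff.2 v.2
  exact h1.smul continuous_subtype_val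

lemma unitVec_injective : Function.Injective (unitVec (N := N)) := by
  intro r r' h
  obtain ⟨v, rfl⟩ := ray_surjective r
  obtain ⟨w, rfl⟩ := ray_surjective r'
  have h' : ‖v.1‖⁻¹ • v.1 = ‖w.1‖⁻¹ • w.1 := h
  rw [ray_eq_iff]
  have hv : 0 < ‖v.1‖ := norm_pos_iff.2 v.2
  have hw : 0 < ‖w.1‖ := norm_pos_iff.2 w.2
  refine ⟨‖w.1‖ * ‖v.1‖⁻¹, mul_pos hw (inv_pos.2 hv), ?_⟩
  rw [← smul_smul, h', smul_smul, mul_inv_cancel₀ hw.ne', one_smul]

instance : T2Space (Fan.Rays N) :=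
  T2Space.of_injective_continuous unitVec_injective continuous_unitVec

end RaysT2

section Compact

variable {ι : Type} [Finite ι] {K : ι → Set (Fin N → ℝ)}

/-- every point of `P (R(K))` lies in the simplex of a simplicial cone on a subset of generators -/
theorem exists_scCone (m : ι → ℕ) (gen : ∀ a, Fin (m a) → Finset (Fin N → ℤ))
    (hgen : ∀ a, K a = ⋃ l, fgCone vecZ (gen a l)) (hK : IsPoly K) (x : Fan.P (RFan K)) :
    ∃ (a : ι) (l : Fin (m a)) (G' : Finset (Fin N → ℤ)) (_ : G' ∈ (gen a l).powerset)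
      (hne : G'.Nonempty) (hli : LinearIndependent ℝ (fun g : G' => vecZ g.1))
      (hsub : fgCone vecZ G' ⊆ K a), x ∈ Fan.P.cell (F := RFan K) (scCone a G' hne hli hsub) := by
  obtain ⟨n, φ, v, rfl⟩ := P_exists_rep x
  obtain ⟨a, ha⟩ := extR_mem_K hK φ
  have hw := ha v
  have hw0 : extR φ.1 v.1 ≠ 0 := extR_ne_zero _ φ.2.1 _ v.2.2
  rw [hgen a] at hw
  obtain ⟨l, hl⟩ := Set.mem_iUnion.1 hw
  obtain ⟨G', hne, hG', hli, v', hv'⟩ := exists_simplicial (gen a l) _ hl hw0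
  have hsub : fgCone vecZ G' ⊆ K a := by
    rw [hgen a]
    exact (fgCone_mono hG').trans (Set.subset_iUnion (fun l => fgCone vecZ (gen a l)) l)
  refine ⟨a, l, G', Finset.mem_powerset.2 hG', hne, hli, hsub, v', ?_⟩
  apply gmap_injective K
  refine (gmap_mk' K (scCone a G' hne hli hsub) v').trans ?_
  refine Eq.trans ?_ (gmap_mk' K φ v).symm
  rw [ray_eq_iff]
  exact ⟨1, one_pos, by rw [one_smul]; exact hv'.symm⟩

theorem compactSpace_P (hK : IsPoly K) : CompactSpace (Fan.P (RFan K)) := by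
  classical
  choose m gen hgen using hK
  have hK' : IsPoly K := fun a => ⟨m a, gen a, hgen a⟩
  haveI : Fintype ι := Fintype.ofFinite ι
  set J := Σ a : ι, Σ l : Fin (m a), {G' : Finset (Fin N → ℤ) // G' ∈ (gen a l).powerset} with hJ
  let cellOf : J → Set (Fan.P (RFan K)) := fun j =>
    if h : j.2.2.1.Nonempty ∧ LinearIndependent ℝ (fun g : j.2.2.1 => vecZ g.1) ∧
        fgCone vecZ j.2.2.1 ⊆ K j.1 then
      Fan.P.cell (F := RFan K) (scCone j.1 j.2.2.1 h.1 h.2.1 h.2.2)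
    else ∅
  have hcomp : ∀ j, IsCompact (cellOf j) := by
    intro j
    simp only [cellOf]
    split_ifs with h
    · exact isCompact_cell _
    · exact isCompact_empty
  have hcover : (Set.univ : Set (Fan.P (RFan K))) = ⋃ j, cellOf j := by
    apply Set.Subset.antisymm
    · intro x _
      obtain ⟨a, l, G', hG', hne, hli, hsub, hx⟩ := exists_scCone m gen hgen hK' x
      refine Set.mem_iUnion.2 ⟨⟨a, l, ⟨G', hG'⟩⟩, ?_⟩
      simp only [cellOf]
      rw [dif_pos ⟨hne, hli, hsub⟩]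
      exact hx
    · exact Set.subset_univ _
  refine ⟨?_⟩
  rw [hcover]
  exact isCompact_iUnion hcomp

end Compact

section MainThm

variable {ι : Type} [Finite ι] (K : ι → Set (Fin N → ℝ))

/-- = S19372 -/
theorem main
    (hK : ∀ a, ∃ (m : ℕ) (gen : Fin m → Finset (Fin N → ℤ)),
      K a = Set.iUnion fun l => {x | ∃ c : (Fin N → ℤ) → ℝ, (∀ g, 0 ≤ c g) ∧
        x = Finset.sum (gen l) fun g => c g • fun j => (g j : ℝ)}) :
    ∃ g : Fan.P (RFan K) → Fan.Rays N,
      (∀ (n : ICone) (φ : (RFan K).obj (op n)) (v : Fan.Orth n) (h : RFan.toVec K n φ v.1 ≠ 0),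
        g (Fan.P.mk φ v) = Quot.mk _ ⟨RFan.toVec K n φ v.1, h⟩) ∧
      Topology.IsEmbedding g ∧
      Set.range g = {r | ∃ w : {w : Fin N → ℝ // w ≠ 0}, r = Quot.mk _ w ∧ w.1 ∈ Set.iUnion K} := by
  have hK' : IsPoly K := isPoly_of K hK
  haveI := compactSpace_P hK'
  refine ⟨gmap K, fun n φ v h => gmap_mk K φ v h, ?_, ?_⟩
  · exact ((continuous_gmap K).isClosedEmbedding (gmap_injective K)).isEmbedding
  · apply Set.Subset.antisymm
    · rintro _ ⟨x, rfl⟩
      obtain ⟨n, φ, v, rfl⟩ := P_exists_rep x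
      obtain ⟨a, ha⟩ := extR_mem_K hK' φ
      exact ⟨⟨extR φ.1 v.1, extR_ne_zero _ φ.2.1 _ v.2.2⟩, rfl, Set.mem_iUnion.2 ⟨a, ha v⟩⟩
    · rintro _ ⟨w, rfl, hw⟩
      obtain ⟨a, ha⟩ := Set.mem_iUnion.1 hw
      obtain ⟨m, gen, hgen⟩ := hK' a
      rw [hgen] at ha
      obtain ⟨l, hl⟩ := Set.mem_iUnion.1 ha
      obtain ⟨G', hne, hG', hli, v', hv'⟩ := exists_simplicial (gen l) _ hl w.2
      have hsub : fgCone vecZ G' ⊆ K a := by
        rw [hgen]
        exact (fgCone_mono hG').trans (Set.subset_iUnion (fun l => fgCone vecZ (gen l)) l)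
      refine ⟨Fan.P.mk (F := RFan K) (scCone a G' hne hli hsub) v', ?_⟩
      refine (gmap_mk' K (scCone a G' hne hli hsub) v').trans ?_
      show ray _ = ray w
      rw [ray_eq_iff]
      exact ⟨1, one_pos, by rw [one_smul]; exact hv'.symm⟩

end MainThm

end Groth.Agent.Lib.RFan4
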