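import Groth.Agent.Lib.ModCxElem25
import Groth.Agent.Lib.LocCohRestrict
import Groth.Agent.Lib.LocCohCdSup
import Groth.Agent.Lib.H29TorsionInj
import Groth.Prelude.Def_DRing3

/-!
# `Γ_I X → X` for complexes of injective modules over a Noetherian ring (helper25)

`A` Noetherian, `X` a cochain complex of injective `A`-modules whose cohomology is `I`-power torsion
(elementwise form). Then the inclusion `Γ_I X ⟶ X` is a quasi-isomorphism (`quasiIso_gammaIι`).
-/

set_option autoImplicit false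
universe u

open CategoryTheory CategoryTheory.Limits

namespace Groth.Agent.Lib.RGammaAcyc25

open Groth.Agent.Lib.ModCxElem25

variable {A : Type u} [CommRing A]

section Module

variable [IsNoetherianRing A] {E : Type u} [AddCommGroup E] [Module A E]

/-- divisibility by `f ^ N` up to `f`-power torsion in an injective module -/
lemma exists_pow_smul_sub_torsion (hE : Module.Injective A E) (f : A) (N : ℕ) (x : E) :
    ∃ (y : E) (k : ℕ), f ^ k • (f ^ N • y - x) = 0 := by
  induction N with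
  | zero => exact ⟨x, 0, by simp⟩
  | succ N ih =>
    obtain ⟨y₁, k₁, h₁⟩ := ih
    obtain ⟨y₂, k₂, h₂⟩ := Groth.Agent.Lib.LocCohRestrict.exists_smul_sub_torsion E hE f y₁
    refine ⟨y₂, k₁ + k₂, ?_⟩
    have e : f ^ (N + 1) • y₂ - x = f ^ N • (f • y₂ - y₁) + (f ^ N • y₁ - x) := by
      rw [pow_succ, mul_smul, smul_sub]
      abel
    rw [e, smul_add, pow_add, mul_smul, mul_smul, smul_comm (f ^ k₂) (f ^ N), h₂, smul_zero,
      smul_zero, zero_add, smul_comm, h₁, smul_zero]

lemma mem_torsionSub_span_singleton (f : A) (x : E) :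
    x ∈ DRing.torsionSub (Ideal.span {f}) E ↔ ∃ k : ℕ, f ^ k • x = 0 := by
  constructor
  · rintro ⟨n, hn⟩
    exact ⟨n, hn _ (Ideal.pow_mem_pow (Ideal.mem_span_singleton_self f) n)⟩
  · rintro ⟨k, hk⟩
    refine ⟨k, fun a ha => ?_⟩
    rw [Ideal.span_singleton_pow, Ideal.mem_span_singleton'] at ha
    obtain ⟨c, rfl⟩ := ha
    rw [mul_smul, hk, smul_zero]

lemma mem_torsionSub_span_insert (f : A) (s : Set A) (x : E) :
    x ∈ DRing.torsionSub (Ideal.span (insert f s)) E ↔
      x ∈ DRing.torsionSub (Ideal.span s) E ∧ ∃ k : ℕ, f ^ k • x = 0 := by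
  rw [Ideal.span_insert, Groth.Agent.Lib.LocCohCdSup.mem_torsionSub_sup_iff,
    mem_torsionSub_span_singleton, and_comm]

lemma torsionSub_bot : DRing.torsionSub (⊥ : Ideal A) E = ⊤ := by
  rw [eq_top_iff]
  intro x _
  refine ⟨1, fun a ha => ?_⟩
  rw [pow_one, Ideal.mem_bot] at ha
  rw [ha, zero_smul]

end Module

section Complex

variable (X : CochainComplex (ModuleCat.{u} A) ℤ)

/-- `S ⊆ T` (families of submodules of the terms of `X`) induces an isomorphism on cohomology,
in elementwise form. -/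
structure QI (S T : ∀ i : ℤ, Submodule A (X.X i)) : Prop where
  inj : ∀ (i j : ℤ), i + 1 = j → ∀ x ∈ S j, (∃ y ∈ T i, (X.d i j).hom y = x) →
    ∃ y' ∈ S i, (X.d i j).hom y' = x
  surj : ∀ (i j k : ℤ), i + 1 = j → j + 1 = k → ∀ z ∈ T j, (X.d j k).hom z = 0 →
    ∃ w ∈ T i, z - (X.d i j).hom w ∈ S j

variable {X}

lemma QI.trans {S T U : ∀ i : ℤ, Submodule A (X.X i)} (hST : ∀ i, S i ≤ T i)
    (hTU : ∀ i, T i ≤ U i)
    (h₁ : QI X S T) (h₂ : QI X T U) : QI X S U where
  inj i j hij x hx := by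
    rintro ⟨y, hy, hyx⟩
    obtain ⟨y', hy', hy'x⟩ := h₂.inj i j hij x (hST j hx) ⟨y, hy, hyx⟩
    exact h₁.inj i j hij x hx ⟨y', hy', hy'x⟩
  surj i j k hij hjk z hz hdz := by
    obtain ⟨w, hw, hzw⟩ := h₂.surj i j k hij hjk z hz hdz
    have hd : (X.d j k).hom (z - (X.d i j).hom w) = 0 := by
      rw [map_sub, hdz, d_d_apply, sub_zero]
    obtain ⟨w', hw', hzw'⟩ := h₁.surj i j k hij hjk _ hzw hd
    refine ⟨w + w', (U i).add_mem hw ?_, ?_⟩
    · exact hTU i hw'
    · rw [map_add, ← sub_sub]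
      exact hzw'

lemma QI.refl (T : ∀ i : ℤ, Submodule A (X.X i)) : QI X T T where
  inj i j _ x _ := fun ⟨y, hy, hyx⟩ => ⟨y, hy, hyx⟩
  surj i j k _ _ z hz _ := ⟨0, (T i).zero_mem, by simpa using hz⟩

/-- the `f`-power torsion part of a family of submodules -/
def torsPart (f : A) (T : ∀ i : ℤ, Submodule A (X.X i)) (i : ℤ) : Submodule A (X.X i) where
  carrier := {x | x ∈ T i ∧ ∃ k : ℕ, f ^ k • x = 0}
  zero_mem' := ⟨(T i).zero_mem, 0, by simp⟩
  add_mem' := by
    rintro x y ⟨hx, k, hk⟩ ⟨hy, l, hl⟩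
    refine ⟨(T i).add_mem hx hy, k + l, ?_⟩
    have h1 : f ^ (k + l) • x = 0 := by rw [pow_add, mul_comm, mul_smul, hk, smul_zero]
    have h2 : f ^ (k + l) • y = 0 := by rw [pow_add, mul_smul, hl, smul_zero]
    rw [smul_add, h1, h2, add_zero]
  smul_mem' := by
    rintro c x ⟨hx, k, hk⟩
    exact ⟨(T i).smul_mem c hx, k, by rw [smul_comm, hk, smul_zero]⟩

lemma mem_torsPart (f : A) (T : ∀ i : ℤ, Submodule A (X.X i)) (i : ℤ) (x : X.X i) :
    x ∈ torsPart f T i ↔ x ∈ T i ∧ ∃ k : ℕ, f ^ k • x = 0 := Iff.rfl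

/-- **The step**: for a `d`-stable family `T` of injective submodules with `f`-power torsion
cohomology, the `f`-power torsion part has the same cohomology. -/
lemma QI.step [IsNoetherianRing A] (f : A) (T : ∀ i : ℤ, Submodule A (X.X i))
    (hT : ∀ i j, ∀ x ∈ T i, (X.d i j).hom x ∈ T j)
    (hinj : ∀ i, Module.Injective A (T i))
    (htors : ∀ (i j k : ℤ), i + 1 = j → j + 1 = k → ∀ z ∈ T j, (X.d j k).hom z = 0 →
      ∃ (m : ℕ), ∃ w ∈ T i, f ^ m • z = (X.d i j).hom w) :
    QI X (torsPart f T) T := by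
  -- acyclicity of the quotient
  have claim : ∀ (i j k : ℤ), i + 1 = j → j + 1 = k → ∀ c ∈ T j,
      (X.d j k).hom c ∈ torsPart f T k → ∃ v ∈ T i, c - (X.d i j).hom v ∈ torsPart f T j := by
    intro i j k hij hjk c hc hdc
    obtain ⟨-, n, hn⟩ := hdc
    have h1 : (X.d j k).hom (f ^ n • c) = 0 := by rw [map_smul, hn]
    obtain ⟨m, w, hw, hmw⟩ := htors i j k hij hjk (f ^ n • c) ((T j).smul_mem _ hc) h1
    obtain ⟨v, k', hv⟩ := exists_pow_smul_sub_torsion (hinj i) f (m + n) (⟨w, hw⟩ : T i)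
    refine ⟨v.1, v.2, (T j).sub_mem hc (hT i j _ v.2), k' + (m + n), ?_⟩
    have hv' : f ^ k' • (f ^ (m + n) • (v : X.X i) - w) = 0 := by
      have := congrArg Subtype.val hv
      exact this
    have e : f ^ (m + n) • (c - (X.d i j).hom v.1) =
        - (X.d i j).hom (f ^ (m + n) • (v : X.X i) - w) := by
      rw [map_sub, map_smul, ← hmw, smul_sub, pow_add, mul_smul]
      abel
    rw [pow_add, mul_smul, e, smul_neg, ← map_smul, hv', map_zero, neg_zero]
  refine ⟨?_, ?_⟩
  · intro i j hij x hx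
    rintro ⟨y, hy, hyx⟩
    obtain ⟨v, hv, hyv⟩ := claim (i - 1) i j (by lia) hij y hy (by rw [hyx]; exact hx)
    refine ⟨y - (X.d (i - 1) i).hom v, hyv, ?_⟩
    rw [map_sub, d_d_apply, sub_zero, hyx]
  · intro i j k hij hjk z hz hdz
    exact claim i j k hij hjk z hz (by rw [hdz]; exact (torsPart f T k).zero_mem)

/-- the family `Γ_I X` -/
def torsFam (I : Ideal A) (X : CochainComplex (ModuleCat.{u} A) ℤ) (i : ℤ) : Submodule A (X.X i) :=
  DRing.torsionSub I (X.X i)

lemma torsFam_stable (I : Ideal A) (i j : ℤ) (x : X.X i) (hx : x ∈ torsFam I X i) :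
    (X.d i j).hom x ∈ torsFam I X j :=
  DRing.map_mem_torsionSub I (X.d i j).hom hx

/-- `f`-power torsion of the cohomology of `X`, elementwise -/
def TorsH (f : A) (X : CochainComplex (ModuleCat.{u} A) ℤ) : Prop :=
  ∀ (i j k : ℤ), i + 1 = j → j + 1 = k → ∀ z : X.X j, (X.d j k).hom z = 0 →
    ∃ (m : ℕ) (w : X.X i), f ^ m • z = (X.d i j).hom w

theorem qi_torsFam_span [IsNoetherianRing A] (hX : ∀ i, Module.Injective A (X.X i))
    (s : Finset A) (hs : ∀ f ∈ s, TorsH f X) :
    QI X (torsFam (Ideal.span (s : Set A)) X) (fun _ => ⊤) := by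
  classical
  induction s using Finset.induction_on with
  | empty =>
    have : torsFam (Ideal.span ((∅ : Finset A) : Set A)) X = fun _ => ⊤ := by
      funext i
      simp only [torsFam, Finset.coe_empty, Ideal.span_empty]
      exact torsionSub_bot
    rw [this]
    exact QI.refl _
  | insert f s hfs ih =>
    have ih' := ih (fun g hg => hs g (Finset.mem_insert_of_mem hg))
    set T := torsFam (Ideal.span (s : Set A)) X with hTdef
    have hfam : torsFam (Ideal.span ((insert f s : Finset A) : Set A)) X = torsPart f T := by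
      funext i
      ext x
      rw [mem_torsPart]
      simp only [torsFam, hTdef, Finset.coe_insert]
      exact mem_torsionSub_span_insert f _ x
    rw [hfam]
    refine QI.trans (fun i x hx => hx.1) (fun i x _ => Submodule.mem_top) ?_ ih'
    refine QI.step f T (fun i j x hx => torsFam_stable _ i j x hx)
      (fun i => Groth.Agent.Lib.H29TorsionInj.injective_torsionSub _ _ (hX i)) ?_
    intro i j k hij hjk z hz hdz
    obtain ⟨m, w, hw⟩ := hs f (Finset.mem_insert_self f s) i j k hij hjk z hdz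
    obtain ⟨w', hw', hw'z⟩ := ih'.inj i j hij (f ^ m • z) ((T j).smul_mem _ hz)
      ⟨w, Submodule.mem_top, hw.symm⟩
    exact ⟨m, w', hw', hw'z.symm⟩

theorem qi_torsFam [IsNoetherianRing A] (I : Ideal A) (hX : ∀ i, Module.Injective A (X.X i))
    (hI : ∀ f ∈ I, TorsH f X) : QI X (torsFam I X) (fun _ => ⊤) := by
  obtain ⟨s, hs⟩ := (isNoetherianRing_iff_ideal_fg A).mp inferInstance I
  have := qi_torsFam_span hX s (fun f hf => hI f (by rw [← hs]; exact Ideal.subset_span hf))
  rwa [hs] at this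

end Complex

section Categorical

variable (I : Ideal A) (X : CochainComplex (ModuleCat.{u} A) ℤ)

/-- the complex `Γ_I X` -/
noncomputable abbrev gX : CochainComplex (ModuleCat.{u} A) ℤ :=
  ((DRing.gammaI I).mapHomologicalComplex (ComplexShape.up ℤ)).obj X

/-- the inclusion `Γ_I X ⟶ X` -/
noncomputable abbrev ιX : gX I X ⟶ X :=
  (NatTrans.mapHomologicalComplex (DRing.gammaIι I) (ComplexShape.up ℤ)).app X

lemma ιX_f_apply (i : ℤ) (x : (gX I X).X i) :
    ((ιX I X).f i).hom x = (show DRing.torsionSub I (X.X i) from x).1 := rfl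

lemma gX_d_apply (i j : ℤ) (x : (gX I X).X i) :
    ((show DRing.torsionSub I (X.X j) from ((gX I X).d i j).hom x) : X.X j) =
      (X.d i j).hom (show DRing.torsionSub I (X.X i) from x).1 := rfl

/-- **`Γ_I X ⟶ X` is a quasi-isomorphism** for a complex of injectives with `I`-power torsion
cohomology over a Noetherian ring. -/
theorem quasiIso_ιX [IsNoetherianRing A] (hX : ∀ i, Module.Injective A (X.X i))
    (hI : ∀ f ∈ I, TorsH f X) : QuasiIso (ιX I X) := by
  have hqi := qi_torsFam I hX hI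
  apply quasiIso_of_elementwise
  · intro i j k hij hjk x hx
    rintro ⟨y, hy⟩
    obtain ⟨y', hy', hy'x⟩ := hqi.inj i j hij ((ιX I X).f j |>.hom x)
      (show DRing.torsionSub I (X.X j) from x).2 ⟨y, Submodule.mem_top, hy⟩
    refine ⟨(⟨y', hy'⟩ : DRing.torsionSub I (X.X i)), ?_⟩
    apply Subtype.ext
    exact hy'x
  · intro i j k hij hjk z hz
    obtain ⟨w, -, hw⟩ := hqi.surj i j k hij hjk z Submodule.mem_top hz
    refine ⟨(⟨z - (X.d i j).hom w, hw⟩ : DRing.torsionSub I (X.X j)), w, ?_, rfl⟩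
    apply Subtype.ext
    change (X.d j k).hom (z - (X.d i j).hom w) = 0
    rw [map_sub, hz, d_d_apply, sub_zero]

end Categorical

end Groth.Agent.Lib.RGammaAcyc25
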