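import Groth.Agent.Lib.RGammaComp25

/-!
# `RΓ_I` is right adjoint to the inclusion of objects with `I`-power torsion cohomology (helper25)
-/

set_option autoImplicit false
set_option linter.unusedSectionVars false
universe u
open CategoryTheory CategoryTheory.Limits
attribute [local instance] HasDerivedCategory.standard

namespace Groth.Agent.Lib.RGammaAdj25

open Groth.Agent.Lib.ModCxElem25 Groth.Agent.Lib.RGammaAcyc25 Groth.Agent.Lib.RGammaNoeth25
open Groth.Agent.Lib.LocCohCdSup Groth.Agent.Lib.RGammaComp25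

variable {A : Type u} [CommRing A] (I : Ideal A)

/-- objects of `D(A)` with `I`-power torsion cohomology -/
abbrev TorsP : ObjectProperty (Dual.D A) :=
  fun L : Dual.D A => ∀ i : ℤ, LocCoh.IsPowerTorsion I (Dual.HD A L i)

lemma isPowerTorsion_of_iso {M N : ModuleCat.{u} A} (e : M ≅ N) (h : LocCoh.IsPowerTorsion I M) :
    LocCoh.IsPowerTorsion I N := by
  intro x
  obtain ⟨n, hn⟩ := h (e.inv.hom x)
  refine ⟨n, fun a ha => ?_⟩
  have h1 := hn a ha
  have h2 : e.hom.hom (a • e.inv.hom x) = 0 := by rw [h1, map_zero]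
  rw [map_smul] at h2
  have h3 : e.hom.hom (e.inv.hom x) = x := by
    have := congrArg (fun φ => φ.hom x) e.inv_hom_id
    exact this
  rwa [h3] at h2

lemma torsP_of_iso {K L : Dual.D A} (e : K ≅ L) (h : TorsP I K) : TorsP I L := fun i =>
  isPowerTorsion_of_iso I ((DerivedCategory.homologyFunctor (ModuleCat.{u} A) i).mapIso e) (h i)

lemma isPowerTorsion_homology_gX (X : CochainComplex (ModuleCat.{u} A) ℤ) (i : ℤ) :
    LocCoh.IsPowerTorsion I ((gX I X).homology i) := by
  intro x
  obtain ⟨z, rfl⟩ := homologyπ_surjective (gX I X) i x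
  obtain ⟨n, hn⟩ := (show DRing.torsionSub I (X.X i) from ((gX I X).iCycles i).hom z).2
  refine ⟨n, fun a ha => ?_⟩
  have h1 : a • z = 0 := by
    apply iCycles_injective (gX I X) i
    rw [map_smul, map_zero]
    exact Subtype.ext (hn a ha)
  rw [← map_smul, h1, map_zero]

lemma torsP_Q_gX (X : CochainComplex (ModuleCat.{u} A) ℤ) :
    TorsP I (DerivedCategory.Q.obj (gX I X)) := fun i =>
  isPowerTorsion_of_iso I
    ((DerivedCategory.homologyFunctorFactors (ModuleCat.{u} A) i).app (gX I X)).symm
    (isPowerTorsion_homology_gX I X i)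

variable [IsNoetherianRing A] [DRing.HasRgammaI I]

/-- every `RΓ_I K` has `I`-power torsion cohomology -/
theorem torsP_RgammaI (K : Dual.D A) : TorsP I ((DRing.RgammaI I).obj K) := by
  obtain ⟨X, j, hX, hj, hXinj⟩ := exists_kinj_injTerms (DerivedCategory.Q.objPreimage K)
  let e : K ≅ DerivedCategory.Q.obj X :=
    (DerivedCategory.Q.objObjPreimageIso K).symm ≪≫ asIso (DerivedCategory.Q.map j)
  exact torsP_of_iso I ((DRing.RgammaI I).mapIso e ≪≫ rgIsoInj I X hXinj).symm (torsP_Q_gX I X)

omit [IsNoetherianRing A] [DRing.HasRgammaI I] in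
lemma isIso_gammaI_map_ι (M : ModuleCat.{u} A) :
    IsIso ((DRing.gammaI I).map ((DRing.gammaIι I).app M)) := by
  rw [ConcreteCategory.isIso_iff_bijective]
  constructor
  · intro x y hxy
    apply Subtype.ext
    apply Subtype.ext
    exact congrArg Subtype.val hxy
  · intro y
    exact ⟨⟨⟨(show DRing.torsionSub I M from y).1, (show DRing.torsionSub I M from y).2⟩,
      (mem_torsionSub_torsionSub_iff I I _).2 (show DRing.torsionSub I M from y).2⟩, rfl⟩

omit [IsNoetherianRing A] [DRing.HasRgammaI I] in
lemma isIso_mapHC_ιX (X : CochainComplex (ModuleCat.{u} A) ℤ) :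
    IsIso (((DRing.gammaI I).mapHomologicalComplex (ComplexShape.up ℤ)).map (ιX I X)) := by
  have : ∀ i, IsIso ((((DRing.gammaI I).mapHomologicalComplex (ComplexShape.up ℤ)).map
      (ιX I X)).f i) := fun i => isIso_gammaI_map_ι I (X.X i)
  exact HomologicalComplex.Hom.isIso_of_components _

/-- `RΓ_I(Q(Γ_I X → X))` is an isomorphism for `X` with injective terms -/
lemma isIso_RgammaI_map_Qh_ιX (X : CochainComplex (ModuleCat.{u} A) ℤ) (hX : InjTerms X) :
    IsIso ((DRing.RgammaI I).map (DerivedCategory.Qh.map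
      ((HomotopyCategory.quotient (ModuleCat.{u} A) (ComplexShape.up ℤ)).map (ιX I X)))) := by
  let q := HomotopyCategory.quotient (ModuleCat.{u} A) (ComplexShape.up ℤ)
  have hnat := (unitα I).naturality (q.map (ιX I X))
  have h1 := isIso_unit_of_injTerms I X hX
  have h2 := isIso_unit_of_injTerms I (gX I X) (injTerms_gX I hX)
  have h3 : IsIso ((DRing.gammaIKh I).map (q.map (ιX I X))) := by
    have := isIso_mapHC_ιX I X
    exact isIso_gammaIKh_map I (ιX I X) inferInstance
  have h4 : (DRing.RgammaI I).map (DerivedCategory.Qh.map (q.map (ιX I X))) =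
      inv ((unitα I).app (q.obj (gX I X))) ≫ (DRing.gammaIKh I).map (q.map (ιX I X)) ≫
        (unitα I).app (q.obj X) := by
    rw [IsIso.eq_inv_comp]
    exact hnat.symm
  rw [h4]
  infer_instance

lemma isIso_RgammaI_map_τ (X : CochainComplex (ModuleCat.{u} A) ℤ) (hX : InjTerms X) :
    IsIso ((DRing.RgammaI I).map ((DRing.gammaIτ I).app
      ((HomotopyCategory.quotient (ModuleCat.{u} A) (ComplexShape.up ℤ)).obj X))) := by
  have h0 : (DRing.gammaIτ I).app
      ((HomotopyCategory.quotient (ModuleCat.{u} A) (ComplexShape.up ℤ)).obj X) =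
      (DRing.gammaIτ0 I).app X := rfl
  rw [h0]
  have h1 := isIso_RgammaI_map_Qh_ιX I X hX
  dsimp only [DRing.gammaIτ0, NatTrans.comp_app, Functor.associator_inv_app,
    Functor.associator_hom_app, Functor.whiskerRight_app, Functor.leftUnitor_hom_app,
    Functor.comp_map]
  simp only [Category.id_comp, Functor.map_comp]
  have i1 : IsIso ((DRing.RgammaI I).map (DerivedCategory.Qh.map
      (((DRing.gammaI I).mapHomotopyCategoryFactors (ComplexShape.up ℤ)).hom.app X))) :=
    Functor.map_isIso _ _
  have i2 : IsIso ((DRing.RgammaI I).map (DerivedCategory.Qh.map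
      ((HomotopyCategory.quotient (ModuleCat.{u} A) (ComplexShape.up ℤ)).map
        ((NatTrans.mapHomologicalComplex (DRing.gammaIι I) (ComplexShape.up ℤ)).app X)))) := h1
  have i3 : IsIso ((DRing.RgammaI I).map (DerivedCategory.Qh.map
      ((HomotopyCategory.quotient (ModuleCat.{u} A) (ComplexShape.up ℤ)).map
        ((Functor.mapHomologicalComplexIdIso (ModuleCat.{u} A) (ComplexShape.up ℤ)).hom.app X)))) :=
    Functor.map_isIso _ _
  have i4 : IsIso ((DRing.RgammaI I).map (𝟙 ((HomotopyCategory.quotient (ModuleCat.{u} A)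
      (ComplexShape.up ℤ) ⋙ DerivedCategory.Qh).obj X))) := by
    rw [CategoryTheory.Functor.map_id]
    exact IsIso.id _
  exact IsIso.comp_isIso' i1 (IsIso.comp_isIso' i2 (IsIso.comp_isIso' i3 i4))

lemma isIso_RgammaI_map_ε_Qh (X : CochainComplex (ModuleCat.{u} A) ℤ) (hX : InjTerms X) :
    IsIso ((DRing.RgammaI I).map ((DRing.RgammaIε I).app (DerivedCategory.Qh.obj
      ((HomotopyCategory.quotient (ModuleCat.{u} A) (ComplexShape.up ℤ)).obj X)))) := by
  let q := HomotopyCategory.quotient (ModuleCat.{u} A) (ComplexShape.up ℤ)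
  have hfac : (unitα I).app (q.obj X) ≫ (DRing.RgammaIε I).app (DerivedCategory.Qh.obj (q.obj X)) =
      (DRing.gammaIτ I ≫ (Functor.rightUnitor _).inv).app (q.obj X) :=
    Functor.rightDerived_fac_app _ _ _ _ _ _
  have h1 := isIso_unit_of_injTerms I X hX
  have h2 := isIso_RgammaI_map_τ I X hX
  have h3 : (DRing.RgammaIε I).app (DerivedCategory.Qh.obj (q.obj X)) =
      inv ((unitα I).app (q.obj X)) ≫ (DRing.gammaIτ I).app (q.obj X) := by
    rw [IsIso.eq_inv_comp, hfac]
    simp
  rw [h3, Functor.map_comp]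
  infer_instance

/-- `RΓ_I(ε_K)` is an isomorphism -/
theorem isIso_RgammaI_map_ε (K : Dual.D A) :
    IsIso ((DRing.RgammaI I).map ((DRing.RgammaIε I).app K)) := by
  let q := HomotopyCategory.quotient (ModuleCat.{u} A) (ComplexShape.up ℤ)
  obtain ⟨J, j, hJ, hj, hJinj⟩ := exists_kinj_injTerms (DerivedCategory.Q.objPreimage K)
  let e : K ≅ DerivedCategory.Q.obj J :=
    (DerivedCategory.Q.objObjPreimageIso K).symm ≪≫ asIso (DerivedCategory.Q.map j)
  let e' : K ≅ DerivedCategory.Qh.obj (q.obj J) :=
    e ≪≫ ((DerivedCategory.quotientCompQhIso (ModuleCat.{u} A)).app J).symm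
  have h1 := isIso_RgammaI_map_ε_Qh I J hJinj
  have hnat := (DRing.RgammaIε I).naturality e'.hom
  have h2 : (DRing.RgammaIε I).app K =
      (DRing.RgammaI I).map e'.hom ≫ (DRing.RgammaIε I).app (DerivedCategory.Qh.obj (q.obj J)) ≫
        e'.inv := by
    rw [← Category.assoc, hnat]
    simp
  rw [h2, Functor.map_comp, Functor.map_comp]
  infer_instance

/-- uniqueness of lifts along `ε_K` for torsion sources -/
theorem hom_ext_of_comp_ε {T K : Dual.D A} (hT : TorsP I T) (f g : T ⟶ (DRing.RgammaI I).obj K)
    (h : f ≫ (DRing.RgammaIε I).app K = g ≫ (DRing.RgammaIε I).app K) : f = g := by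
  have := isIso_RgammaI_map_ε I K
  have := isIso_RgammaIε_of_torsion I T hT
  have hf := (DRing.RgammaIε I).naturality f
  have hg := (DRing.RgammaIε I).naturality g
  have h1 : (DRing.RgammaI I).map f = (DRing.RgammaI I).map g := by
    rw [← cancel_mono ((DRing.RgammaI I).map ((DRing.RgammaIε I).app K)), ← Functor.map_comp,
      ← Functor.map_comp, h]
  rw [← cancel_epi ((DRing.RgammaIε I).app T)]
  simp only [Functor.id_map] at hf hg
  rw [← hf, ← hg, h1]

/-- `ε_{RΓ K} = RΓ(ε_K)` -/
theorem ε_RgammaI_eq (K : Dual.D A) :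
    (DRing.RgammaIε I).app ((DRing.RgammaI I).obj K) =
      (DRing.RgammaI I).map ((DRing.RgammaIε I).app K) := by
  apply hom_ext_of_comp_ε I (torsP_RgammaI I _)
  have := (DRing.RgammaIε I).naturality ((DRing.RgammaIε I).app K)
  simp only [Functor.id_map] at this
  exact this.symm

/-- **S1817 (adjunction)** -/
noncomputable def adj :
    ObjectProperty.ι (TorsP I) ⊣
      ObjectProperty.lift (TorsP I) (DRing.RgammaI I) (torsP_RgammaI I) :=
  Adjunction.mkOfUnitCounit
    { unit :=
        { app := fun T =>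
            have := isIso_RgammaIε_of_torsion I T.obj T.property
            ObjectProperty.homMk (inv ((DRing.RgammaIε I).app T.obj))
          naturality := by
            intro T T' f
            have := isIso_RgammaIε_of_torsion I T.obj T.property
            have := isIso_RgammaIε_of_torsion I T'.obj T'.property
            apply ObjectProperty.hom_ext
            have hnat := (DRing.RgammaIε I).naturality f.hom
            simp only [Functor.id_map] at hnat
            change f.hom ≫ inv ((DRing.RgammaIε I).app T'.obj) =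
              inv ((DRing.RgammaIε I).app T.obj) ≫ (DRing.RgammaI I).map f.hom
            rw [IsIso.comp_inv_eq, Category.assoc, hnat, IsIso.inv_hom_id_assoc] }
      counit :=
        { app := fun K => (DRing.RgammaIε I).app K
          naturality := by
            intro K K' f
            exact (DRing.RgammaIε I).naturality f }
      left_triangle := by
        ext T
        have := isIso_RgammaIε_of_torsion I T.obj T.property
        change (inv ((DRing.RgammaIε I).app T.obj) ≫ 𝟙 _ ≫ (DRing.RgammaIε I).app T.obj) = 𝟙 _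
        simp
      right_triangle := by
        ext K
        have := isIso_RgammaIε_of_torsion I _ (torsP_RgammaI I K)
        change (inv ((DRing.RgammaIε I).app ((DRing.RgammaI I).obj K)) ≫ 𝟙 _ ≫
          (DRing.RgammaI I).map ((DRing.RgammaIε I).app K)) = 𝟙 _
        rw [← ε_RgammaI_eq]
        simp }

end Groth.Agent.Lib.RGammaAdj25
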