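import Groth.Agent.Lib.RGammaNoeth25
import Groth.Agent.Lib.LocCohCdSup

/-!
# `RΓ_J ∘ RΓ_I ≅ RΓ_{I+J}` over a Noetherian ring (helper25)
-/

set_option autoImplicit false
universe u
open CategoryTheory CategoryTheory.Limits
attribute [local instance] HasDerivedCategory.standard

namespace Groth.Agent.Lib.RGammaComp25

open Groth.Agent.Lib.ModCxElem25 Groth.Agent.Lib.RGammaAcyc25 Groth.Agent.Lib.RGammaNoeth25
open Groth.Agent.Lib.LocCohCdSup

variable {A : Type u} [CommRing A]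

/-- `Γ_J(Γ_I M) ≃ Γ_{I+J} M` -/
def compEquiv (I J : Ideal A) (M : Type u) [AddCommGroup M] [Module A M] :
    DRing.torsionSub J (DRing.torsionSub I M) ≃ₗ[A] DRing.torsionSub (I ⊔ J) M where
  toFun x := ⟨x.1.1, (mem_torsionSub_sup_iff I J _).2
    ⟨x.1.2, (mem_torsionSub_torsionSub_iff J I x.1).1 x.2⟩⟩
  map_add' := fun _ _ => rfl
  map_smul' := fun _ _ => rfl
  invFun y := ⟨⟨y.1, ((mem_torsionSub_sup_iff I J _).1 y.2).1⟩,
    (mem_torsionSub_torsionSub_iff J I _).2 ((mem_torsionSub_sup_iff I J _).1 y.2).2⟩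
  left_inv := fun _ => rfl
  right_inv := fun _ => rfl

/-- `Γ_J(Γ_I X) ≅ Γ_{I+J} X` for complexes -/
noncomputable def compIso (I J : Ideal A) (X : CochainComplex (ModuleCat.{u} A) ℤ) :
    gX J (gX I X) ≅ gX (I ⊔ J) X :=
  HomologicalComplex.Hom.isoOfComponents
    (fun i => (compEquiv I J (X.X i)).toModuleIso) (by
      intro i j _
      rfl)

section

variable [IsNoetherianRing A] (I : Ideal A) [DRing.HasRgammaI I]

/-- `RΓ_I (Q X) ≅ Q (Γ_I X)` for `X` with injective terms -/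
noncomputable def rgIsoInj (X : CochainComplex (ModuleCat.{u} A) ℤ) (hX : InjTerms X) :
    (DRing.RgammaI I).obj (DerivedCategory.Q.obj X) ≅ DerivedCategory.Q.obj (gX I X) :=
  have := isIso_unit_of_injTerms I X hX
  (DRing.RgammaI I).mapIso ((DerivedCategory.quotientCompQhIso (ModuleCat.{u} A)).app X).symm ≪≫
    (asIso ((unitα I).app
      ((HomotopyCategory.quotient (ModuleCat.{u} A) (ComplexShape.up ℤ)).obj X))).symm ≪≫
    Groth.Agent.Lib.LBaseChangeKProj.khObjIso (DRing.gammaI I) X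

end

/-- **S1816** -/
theorem nonempty_comp_iso [IsNoetherianRing A] (I J : Ideal A) [DRing.HasRgammaI I]
    [DRing.HasRgammaI J] [DRing.HasRgammaI (I ⊔ J)] (K : Dual.D A) :
    Nonempty ((DRing.RgammaI J).obj ((DRing.RgammaI I).obj K) ≅ (DRing.RgammaI (I ⊔ J)).obj K) := by
  obtain ⟨X, j, hX, hj, hXinj⟩ := exists_kinj_injTerms (DerivedCategory.Q.objPreimage K)
  let e : K ≅ DerivedCategory.Q.obj X :=
    (DerivedCategory.Q.objObjPreimageIso K).symm ≪≫ asIso (DerivedCategory.Q.map j)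
  exact ⟨(DRing.RgammaI J).mapIso ((DRing.RgammaI I).mapIso e ≪≫ rgIsoInj I X hXinj) ≪≫
    rgIsoInj J (gX I X) (injTerms_gX I hXinj) ≪≫ DerivedCategory.Q.mapIso (compIso I J X) ≪≫
    (rgIsoInj (I ⊔ J) X hXinj).symm ≪≫ (DRing.RgammaI (I ⊔ J)).mapIso e.symm⟩

end Groth.Agent.Lib.RGammaComp25
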