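/-
helper66: for a scheme `X`, a stalkwise flat `O_X`-module (`FlatMod.IsFlat`) is flat in the sense of the ringed site
`(Opens X, X.sheaf)` (`ModSite.IsFlat`): tensoring with it preserves monomorphisms.
-/
import Groth.Agent.Lib.StalkFlatTensor66
import Groth.Agent.Lib.ModStalkLin
import Groth.Agent.Lib.ModSiteFlat
import Groth.Prelude.Def_FlatMod2

universe u
open CategoryTheory MonoidalCategory Opposite TopologicalSpace AlgebraicGeometry

namespace Groth.Agent.Lib.StalkFlatBridge66

open Groth.Agent.Lib.OXModTensorW Groth.Agent.Lib.StalkFlatTensor66 Groth.Agent.Lib.ModStalkLin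

variable {X : Scheme.{u}}

/-- sheafification of a locally injective map of presheaves of modules is a monomorphism -/
theorem mono_sh_map_of_locInj {P P' : CohB1.PMod X} (g : P ⟶ P') (h : LocInj g) :
    Mono ((sh X).map g) := by
  have h1 : Presheaf.IsLocallyInjective (Opens.grothendieckTopology X) (ab g) :=
    (isLocallyInjective_iff g).2 h
  have h2 : Sheaf.IsLocallyInjective
      ((presheafToSheaf (Opens.grothendieckTopology X) AddCommGrpCat.{u}).map (ab g)) :=
    (Presheaf.isLocallyInjective_presheafToSheaf_map_iff _ _).2 h1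
  have h3 : Mono ((presheafToSheaf (Opens.grothendieckTopology X) AddCommGrpCat.{u}).map (ab g)) :=
    Sheaf.mono_of_isLocallyInjective _
  have h4 : Mono ((SheafOfModules.toSheaf X.ringCatSheaf).map ((sh X).map g)) := h3
  exact (SheafOfModules.toSheaf X.ringCatSheaf).mono_of_mono_map h4


/-- tensoring a monomorphism with a stalkwise flat module is locally injective on presheaf tensor products -/
theorem locInj_whiskerRight_of_isFlat (M : X.Modules) (hM : FlatMod.IsFlat M) {A B : X.Modules}
    (φ : A ⟶ B) [Mono φ] :
    LocInj (R := X.presheaf)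
      ((show CohB1.toPMod A ⟶ CohB1.toPMod B from φ.val) ▷ CohB1.toPMod M) := by
  refine locInj_whiskerRight_of_flat (X := X.toTopCat) (R := X.presheaf) (P := CohB1.toPMod A)
    (P' := CohB1.toPMod B) φ.val (CohB1.toPMod M) (fun x => stalkLin φ x) ?_
    (fun x => stalkLin_injective_of_mono φ x) (fun x => hM x)
  intro x U hx s
  exact stalkLin_germ φ x U hx s

theorem isFlat_of_stalkwise (M : X.Modules) (hM : FlatMod.IsFlat M) :
    ModSite.IsFlat (O := X.sheaf) M := by
  rw [Groth.Agent.Lib.ModSiteFlat.isFlat_iff_preservesMono_flip]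
  constructor
  intro A B φ hφ
  have := @locInj_whiskerRight_of_isFlat X M hM A B φ hφ
  exact mono_sh_map_of_locInj _ this

end Groth.Agent.Lib.StalkFlatBridge66
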