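/-
helper66: for a scheme `X`, an `O_X`-module which is flat in the sense of the ringed site `(Opens X, X.sheaf)`
(`ModSite.IsFlat`: tensoring with it preserves monomorphisms) has flat stalks (`FlatMod.IsFlat`).
-/
import Groth.Agent.Lib.StalkFlatBridge66
import Mathlib.Algebra.Category.ModuleCat.Presheaf.Submodule
import Mathlib.RingTheory.Flat.Tensor

universe u
open CategoryTheory MonoidalCategory Opposite TopologicalSpace AlgebraicGeometry TensorProduct

namespace Groth.Agent.Lib.StalkFlatConverse66

open Groth.Agent.Lib.OXModTensorW Groth.Agent.Lib.StalkFlatTensor66 Groth.Agent.Lib.ModStalkLin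
  Groth.Agent.Lib.StalkFlatBridge66

section LocInj

variable {T : Type*} [TopologicalSpace T] {R : (Opens T)ᵒᵖ ⥤ CommRingCat.{u}}
  {P P' P'' : PM R}

lemma locInj_comp (f : P ⟶ P') (h : P' ⟶ P'') (hf : LocInj f) (hh : LocInj h) :
    LocInj (f ≫ h) := by
  intro U s hs x hx
  have hs' : h.app (op U) (f.app (op U) s) = 0 := hs
  obtain ⟨V, hVU, hxV, hV⟩ := hh U _ hs' x hx
  rw [← app_res] at hV
  obtain ⟨W, hWV, hxW, hW⟩ := hf V _ hV x hxV
  refine ⟨W, hWV.trans hVU, hxW, ?_⟩
  rw [← res_res hVU hWV]
  exact hW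

lemma locInj_of_comp (f : P ⟶ P') (h : P' ⟶ P'') (hfh : LocInj (f ≫ h)) : LocInj f := by
  intro U s hs x hx
  refine hfh U s ?_ x hx
  change h.app (op U) (f.app (op U) s) = 0
  rw [hs, map_zero]

lemma locInj_of_injective (f : P ⟶ P') (hf : ∀ U : Opens T, Function.Injective (f.app (op U))) :
    LocInj f := by
  intro U s hs x hx
  refine ⟨U, le_rfl, hx, ?_⟩
  rw [res_self]
  exact hf U (hs.trans (map_zero _).symm)

end LocInj

section Scheme

variable {X : Scheme.{u}}

/-- the sheafification adjunction for `O_X`-modules -/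
noncomputable def shAdj (X : Scheme.{u}) : sh X ⊣ SheafOfModules.forget X.ringCatSheaf :=
  PresheafOfModules.sheafificationAdjunction.{u, u, u, u} (R := X.ringCatSheaf)
    (𝟙 X.ringCatSheaf.obj)

/-- the unit `P ⟶ (sh P).val` -/
noncomputable def shUnit (P : CohB1.PMod X) : P ⟶ CohB1.toPMod ((sh X).obj P) :=
  (shAdj X).unit.app P

lemma shUnit_naturality {P P' : CohB1.PMod X} (g : P ⟶ P') :
    g ≫ shUnit P' = shUnit P ≫ ((sh X).map g).val :=
  (shAdj X).unit.naturality g

instance : IsIso (shAdj X).counit :=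
  inferInstanceAs (IsIso (PresheafOfModules.sheafificationAdjunction.{u, u, u, u}
    (R := X.ringCatSheaf) (𝟙 X.ringCatSheaf.obj)).counit)

lemma isIso_sh_map_shUnit (P : CohB1.PMod X) : IsIso ((sh X).map (shUnit P)) := by
  have h : (sh X).map (shUnit P) ≫ (shAdj X).counit.app ((sh X).obj P) = 𝟙 _ :=
    (shAdj X).left_triangle_components P
  have : IsIso ((sh X).map (shUnit P) ≫ (shAdj X).counit.app ((sh X).obj P)) := by
    rw [h]; infer_instance
  have hc : IsIso ((shAdj X).counit.app ((sh X).obj P)) :=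
    NatIso.isIso_app_of_isIso (shAdj X).counit ((sh X).obj P)
  exact @IsIso.of_isIso_comp_right _ _ _ _ _ _ _ hc this

lemma locInj_shUnit (P : CohB1.PMod X) : LocInj (shUnit P) :=
  ((isIso_sh_map_iff (shUnit P)).1 (isIso_sh_map_shUnit P)).1

lemma locSurj_shUnit (P : CohB1.PMod X) : LocSurj (shUnit P) :=
  ((isIso_sh_map_iff (shUnit P)).1 (isIso_sh_map_shUnit P)).2

/-- a monomorphism of `O_X`-modules is injective on sections -/
lemma injective_app_of_mono {A B : X.Modules} (ψ : A ⟶ B) (hψ : Mono ψ) (U : Opens X) :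
    Function.Injective (ψ.val.app (op U)) := by
  have : (SheafOfModules.forget X.ringCatSheaf).PreservesMonomorphisms :=
    Functor.preservesMonomorphisms_of_adjunction (shAdj X)
  let ψ' : (show SheafOfModules X.ringCatSheaf from A) ⟶ (show SheafOfModules X.ringCatSheaf from B) := ψ
  have hψ' : Mono ψ' := hψ
  have : Mono ((SheafOfModules.forget X.ringCatSheaf).map ψ') :=
    Functor.map_mono (SheafOfModules.forget X.ringCatSheaf) ψ'
  exact PresheafOfModules.injective_of_mono ((SheafOfModules.forget X.ringCatSheaf).map ψ') (op U)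

/-- converse of `mono_sh_map_of_locInj` -/
theorem locInj_of_mono_sh_map {P P' : CohB1.PMod X} (g : P ⟶ P') (h : Mono ((sh X).map g)) :
    LocInj g := by
  refine locInj_of_comp g (shUnit P') ?_
  rw [shUnit_naturality]
  exact locInj_comp _ _ (locInj_shUnit P)
    (locInj_of_injective _ (fun U => injective_app_of_mono ((sh X).map g) h U))

/-- the underlying map of presheaves of modules, typed in `CohB1.PMod X` -/
noncomputable abbrev pv {A B : X.Modules} (φ : A ⟶ B) : CohB1.toPMod A ⟶ CohB1.toPMod B := φ.val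

lemma shUnit_naturality' {P P' : CohB1.PMod X} (g : P ⟶ P') :
    g ≫ shUnit P' = shUnit P ≫ pv ((sh X).map g) :=
  shUnit_naturality g

/-- presheaf-level flatness: tensoring a locally injective map of presheaves of modules with a module which is
flat in the site sense stays locally injective -/
theorem locInj_whiskerRight_of_siteFlat (M : X.Modules) (hM : ModSite.IsFlat (O := X.sheaf) M)
    {P P' : CohB1.PMod X} (g : P ⟶ P') (hg : LocInj g) : LocInj (g ▷ CohB1.toPMod M) := by
  rw [Groth.Agent.Lib.ModSiteFlat.isFlat_iff_preservesMono_flip] at hM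
  have hφ : Mono ((sh X).map g) := mono_sh_map_of_locInj g hg
  have h1 : Mono (((ModSite.tensorBi X.sheaf).flip.obj M).map ((sh X).map g)) :=
    @Functor.map_mono _ _ _ _ _ hM _ _ _ hφ
  have h2 : Mono ((sh X).map (pv ((sh X).map g) ▷ CohB1.toPMod M)) := h1
  have h3 : LocInj (pv ((sh X).map g) ▷ CohB1.toPMod M) := locInj_of_mono_sh_map _ h2
  have h4 : (g ▷ CohB1.toPMod M) ≫ (shUnit P' ▷ CohB1.toPMod M) =
      (shUnit P ▷ CohB1.toPMod M) ≫ (pv ((sh X).map g) ▷ CohB1.toPMod M) := by
    rw [← comp_whiskerRight, ← comp_whiskerRight, shUnit_naturality']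
  refine locInj_of_comp _ (shUnit P' ▷ CohB1.toPMod M) ?_
  rw [h4]
  exact locInj_comp _ _ (locInj_whiskerRight (shUnit P) _ (locInj_shUnit P) (locSurj_shUnit P)) h3

end Scheme

section Ideal

variable {X : TopCat.{u}} {R : X.Presheaf CommRingCat.{u}} (x : X) (I : Ideal ↑(R.stalk x))

/-- the unit presheaf of modules -/
noncomputable abbrev U1 (R : X.Presheaf CommRingCat.{u}) : PM R := 𝟙_ (PM R)

/-- sections of the unit presheaf are functions -/
def toFn {V : Opens X} (a : (U1 R).obj (op V)) : R.obj (op V) := a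

/-- the sub-presheaf of the unit presheaf of sections whose germ at `x` lies in `I` -/
noncomputable def idealSub : PresheafOfModules.Submodule (U1 R) where
  obj V :=
    { carrier := {a | ∀ hx : x ∈ V.unop, gr x hx (toFn (V := V.unop) a) ∈ I}
      add_mem' := by
        intro a b ha hb hx
        have : gr x hx (toFn (V := V.unop) (a + b)) =
            gr x hx (toFn (V := V.unop) a) + gr x hx (toFn (V := V.unop) b) :=
          map_add (TopCat.Presheaf.germ R V.unop x hx).hom _ _
        rw [this]
        exact I.add_mem (ha hx) (hb hx)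
      zero_mem' := by
        intro hx
        have : gr x hx (toFn (V := V.unop) (0 : (U1 R).obj (op V.unop))) = 0 :=
          map_zero (TopCat.Presheaf.germ R V.unop x hx).hom
        rw [this]
        exact I.zero_mem
      smul_mem' := by
        intro c a ha hx
        have : gr x hx (toFn (V := V.unop) (c • a)) =
            gr x hx c * gr x hx (toFn (V := V.unop) a) :=
          map_mul (TopCat.Presheaf.germ R V.unop x hx).hom _ _
        rw [this]
        exact I.mul_mem_left _ (ha hx) }
  map := by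
    intro V W f a ha hx
    have h1 : gr x hx (toFn (V := W.unop) ((U1 R).map f a)) =
        gr x (f.unop.le hx) (toFn (V := V.unop) a) :=
      TopCat.Presheaf.germ_res_apply R f.unop x hx _
    change gr x hx (toFn (V := W.unop) ((U1 R).map f a)) ∈ I
    rw [h1]
    exact ha _

/-- the presheaf of ideals -/
noncomputable abbrev IP : PM R := (idealSub x I).toPresheafOfModules

/-- the inclusion into the unit presheaf -/
noncomputable abbrev ιI : IP x I ⟶ U1 R := (idealSub x I).ι

/-- sections of the presheaf of ideals -/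
noncomputable def mkI {V : Opens X} (a : R.obj (op V)) (h : ∀ hx : x ∈ V, gr x hx a ∈ I) :
    (IP x I).obj (op V) :=
  (⟨(show (U1 R).obj (op V) from a), h⟩ : (idealSub x I).obj (op V))

/-- the underlying function of a section of the presheaf of ideals -/
def fnI {V : Opens X} (s : (IP x I).obj (op V)) : R.obj (op V) :=
  toFn (V := V) (show (idealSub x I).obj (op V) from s).1

lemma fnI_mem {V : Opens X} (s : (IP x I).obj (op V)) (hx : x ∈ V) : gr x hx (fnI x I s) ∈ I :=
  (show (idealSub x I).obj (op V) from s).2 hx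

lemma fnI_mkI {V : Opens X} (a : R.obj (op V)) (h : ∀ hx : x ∈ V, gr x hx a ∈ I) :
    fnI x I (mkI x I a h) = a := rfl

lemma fnI_res {U V : Opens X} (h : V ≤ U) (s : (IP x I).obj (op U)) :
    fnI x I (res (IP x I) h s) = resR h (fnI x I s) := rfl

lemma fnI_add {V : Opens X} (s t : (IP x I).obj (op V)) :
    fnI x I (s + t) = fnI x I s + fnI x I t := rfl

lemma fnI_smul {V : Opens X} (r : R.obj (op V)) (s : (IP x I).obj (op V)) :
    fnI x I (r • s) = r * fnI x I s := rfl

lemma ιI_app {V : Opens X} (s : (IP x I).obj (op V)) :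
    toFn ((ιI x I).app (op V) s) = fnI x I s := rfl

/-- the cocone defining the map from the stalk of the presheaf of ideals to the ideal -/
noncomputable def ψCocone : Limits.Cocone ((OpenNhds.inclusion x).op ⋙ (IP x I).presheaf) where
  pt := AddCommGrpCat.of I
  ι :=
    { app := fun V => AddCommGrpCat.ofHom
        { toFun := fun s => ⟨gr x V.unop.2 (fnI x I (V := V.unop.1) s), fnI_mem x I _ _⟩
          map_zero' := by
            apply Subtype.ext
            exact map_zero (TopCat.Presheaf.germ R V.unop.1 x V.unop.2).hom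
          map_add' := fun s t => by
            apply Subtype.ext
            exact map_add (TopCat.Presheaf.germ R V.unop.1 x V.unop.2).hom _ _ }
      naturality := by
        intro V W f
        ext s
        apply Subtype.ext
        exact TopCat.Presheaf.germ_res_apply R f.unop x W.unop.2 _ }

/-- the additive map from the stalk of the presheaf of ideals to the ideal -/
noncomputable def ψAdd : St (IP x I) x →+ I :=
  (Limits.colimit.desc _ (ψCocone x I)).hom

lemma ψAdd_gm {V : Opens X} (hx : x ∈ V) (s : (IP x I).obj (op V)) :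
    ψAdd x I (gm (IP x I) x hx s) = ⟨gr x hx (fnI x I s), fnI_mem x I s hx⟩ := by
  have h := Limits.colimit.ι_desc (ψCocone x I) (op (⟨V, hx⟩ : OpenNhds x))
  exact congrArg (fun φ => φ.hom s) h

/-- the linear map from the stalk of the presheaf of ideals to the ideal -/
noncomputable def ψ : St (IP x I) x →ₗ[↑(R.stalk x)] I where
  toFun := ψAdd x I
  map_add' := map_add (ψAdd x I)
  map_smul' := by
    intro r s
    obtain ⟨U, hxU, r', rfl⟩ := exists_gr_eq (R := R) x r
    obtain ⟨V, hxV, s', rfl⟩ := exists_gm_eq (P := IP x I) x s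
    have hxW : x ∈ U ⊓ V := ⟨hxU, hxV⟩
    have hr : gr x hxU r' = gr x hxW (resR (inf_le_left : U ⊓ V ≤ U) r') := (gr_res (inf_le_left : U ⊓ V ≤ U) x hxW r').symm
    have hs : gm (IP x I) x hxV s' = gm (IP x I) x hxW (res (IP x I) (inf_le_right : U ⊓ V ≤ V) s') :=
      (gm_res (inf_le_right : U ⊓ V ≤ V) x hxW s').symm
    rw [hr, hs, ← gm_smul, RingHom.id_apply, ψAdd_gm, ψAdd_gm]
    apply Subtype.ext
    change gr x hxW (fnI x I (resR _ r' • res (IP x I) _ s')) =
      gr x hxW (resR _ r') * gr x hxW (fnI x I (res (IP x I) _ s'))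
    rw [fnI_smul]
    exact map_mul (TopCat.Presheaf.germ R (U ⊓ V) x hxW).hom _ _

lemma ψ_gm {V : Opens X} (hx : x ∈ V) (s : (IP x I).obj (op V)) :
    ψ x I (gm (IP x I) x hx s) = ⟨gr x hx (fnI x I s), fnI_mem x I s hx⟩ :=
  ψAdd_gm x I hx s

/-- if tensoring the inclusion of the presheaf of ideals with `Q` is locally injective, then
`I ⊗ Q_x → R_x ⊗ Q_x` is injective -/
theorem rTensor_injective_of_locInj (Q : PM R) (hloc : LocInj (ιI x I ▷ Q)) :
    Function.Injective (LinearMap.rTensor (St Q x) I.subtype) := by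
  classical
  rw [injective_iff_map_eq_zero]
  intro z hz
  obtain ⟨S, hS⟩ := TensorProduct.exists_finset (R := ↑(R.stalk x)) (M := I) (N := St Q x) z
  let b : S → I := fun i => i.1.1
  let n : S → St Q x := fun i => i.1.2
  have hzsum : z = ∑ i : S, b i ⊗ₜ[↑(R.stalk x)] n i :=
    hS.trans (Finset.sum_coe_sort S (fun i => i.1 ⊗ₜ[↑(R.stalk x)] i.2)).symm
  -- the relation in the stalk
  have hrel : ∑ i : S, (b i : ↑(R.stalk x)) • n i = 0 := by
    have h1 := congrArg (TensorProduct.lid ↑(R.stalk x) (St Q x)) hz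
    rw [hzsum, map_sum, map_sum, map_zero] at h1
    simpa using h1
  -- representatives on a common neighbourhood
  obtain ⟨V₀, -, hxV₀, hV₀⟩ := exists_common_nhd (⊤ : Opens X) x trivial
    (fun (i : S) V => ∀ hxV : x ∈ V, ∃ (a : R.obj (op V)) (q : Q.obj (op V)),
      gr x hxV a = b i ∧ gm Q x hxV q = n i)
    (by
      intro i V V' hV' hΦ hxV'
      obtain ⟨a, q, ha, hq⟩ := hΦ (hV' hxV')
      exact ⟨resR hV' a, res Q hV' q, by rw [gr_res, ha], by rw [gm_res, hq]⟩)
    (fun i => by
      obtain ⟨U₁, hx₁, a, ha⟩ := exists_gr_eq (R := R) x (b i : ↑(R.stalk x))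
      obtain ⟨U₂, hx₂, q, hq⟩ := exists_gm_eq (P := Q) x (n i)
      refine ⟨U₁ ⊓ U₂, le_top, ⟨hx₁, hx₂⟩, fun hxV =>
        ⟨resR inf_le_left a, res Q inf_le_right q, ?_, ?_⟩⟩
      · rw [gr_res, ha]
      · rw [gm_res, hq])
  have hV₀' := fun i => hV₀ i hxV₀
  choose a q ha hq using hV₀'
  -- the relation holds on a smaller neighbourhood
  have hgm : gm Q x hxV₀ (∑ i : S, a i • q i) = gm Q x hxV₀ 0 := by
    rw [gm_zero, gm_sum, ← hrel]
    refine Finset.sum_congr rfl fun i _ => ?_
    rw [gm_smul, ha, hq]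
  obtain ⟨W, hWV₀, hxW, hW⟩ := exists_res_eq_of_gm_eq x hxV₀ _ _ hgm
  rw [res_zero, res_sum] at hW
  let a' : S → R.obj (op W) := fun i => resR hWV₀ (a i)
  let q' : S → Q.obj (op W) := fun i => res Q hWV₀ (q i)
  have hW' : ∑ i : S, a' i • q' i = 0 := by
    refine Eq.trans ?_ hW
    exact Finset.sum_congr rfl fun i _ => (res_smul _ _ _).symm
  have ha' : ∀ (i : S) (hx : x ∈ W), gr x hx (a' i) ∈ I := by
    intro i hx
    have : gr x hx (a' i) = b i := by rw [gr_res, ha]
    rw [this]
    exact (b i).2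
  let ā : S → (IP x I).obj (op W) := fun i => mkI x I (a' i) (ha' i)
  let t : ((IP x I) ⊗ Q).obj (op W) := ∑ i : S, ā i ⊗ₜ q' i
  have ht : (ιI x I ▷ Q).app (op W) t = 0 := by
    refine (whiskerRight_app_tsum (ιI x I) Q ā q').trans ?_
    let one' : (U1 R).obj (op W) := (1 : R.obj (op W))
    have h1 : ∀ i : S, (((ιI x I).app (op W) (ā i)) ⊗ₜ[↑(R.obj (op W))] q' i :
        ↑((U1 R).obj (op W)) ⊗[↑(R.obj (op W))] ↑(Q.obj (op W))) =
        one' ⊗ₜ[↑(R.obj (op W))] (a' i • q' i) := by
      intro i
      rw [← TensorProduct.smul_tmul]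
      congr 1
      exact (mul_one (a' i)).symm
    refine (Finset.sum_congr rfl fun i _ => h1 i).trans ?_
    refine (TensorProduct.tmul_sum one' Finset.univ (fun i => a' i • q' i)).symm.trans ?_
    rw [hW', TensorProduct.tmul_zero]
    rfl
  obtain ⟨W', hW'W, hxW', hres⟩ := hloc W t ht x hxW
  have hres' : ∑ i : S, res (IP x I) hW'W (ā i) ⊗ₜ[↑(R.obj (op W'))] res Q hW'W (q' i) = 0 :=
    (res_tsum hW'W ā q').symm.trans hres
  have h2 := congrArg (toStalkTensor (IP x I) Q x hxW') hres'
  rw [map_sum, map_zero] at h2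
  have h3 := congrArg (LinearMap.rTensor (St Q x) (ψ x I)) h2
  rw [map_sum, map_zero] at h3
  rw [hzsum, ← h3]
  refine Finset.sum_congr rfl fun i _ => ?_
  rw [toStalkTensor_tmul, LinearMap.rTensor_tmul, ψ_gm]
  congr 1
  · apply Subtype.ext
    change _ = gr x hxW' (fnI x I (res (IP x I) hW'W (ā i)))
    rw [fnI_res, gr_res]
    change _ = gr x _ (a' i)
    rw [gr_res, ha]
  · rw [gm_res, gm_res, hq]

end Ideal

section Final

variable {X : Scheme.{u}}

/-- an `O_X`-module which is flat in the site sense has flat stalks -/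
theorem isFlat_stalkwise_of_siteFlat (M : X.Modules) (hM : ModSite.IsFlat (O := X.sheaf) M) :
    FlatMod.IsFlat M := by
  intro x
  change Module.Flat ↑(X.presheaf.stalk x) (St (R := X.presheaf) (CohB1.toPMod M) x)
  rw [Module.Flat.iff_rTensor_injective']
  intro I
  have hι : LocInj (ιI (R := X.presheaf) x I) :=
    locInj_of_injective _ (fun U => Subtype.val_injective)
  have h := locInj_whiskerRight_of_siteFlat M hM (ιI (R := X.presheaf) x I) hι
  exact rTensor_injective_of_locInj (R := X.presheaf) x I (CohB1.toPMod M) h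

end Final

end Groth.Agent.Lib.StalkFlatConverse66
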