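import Groth.Agent.Lib.MVDer66
import Groth.Agent.Lib.FlatBaseChangeD
import Groth.Agent.Lib.H90QCohLocalization
import Groth.Prelude.Def_CxOX

/-!
# Objects of `D(O_X)` supported on a closed subset of an open (helper66)

* `isZero_of_homology`, `isZero_restrictD`
* `nonempty_iso_Rpush_restrictD`: `E ≅ Rj_*(E|_U)` if the cohomology of `E` is supported on a closed
  `T ⊆ U` (Mayer–Vietoris with `V = Tᶜ`).
* `hom_eq_zero_of_supp`, `isZero_restrict_extZero`: `(j_{U!} M)|_V = 0` if `M` vanishes over `U ∩ V`.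
* `nonempty_restrictD_extZeroD_iso`: `(j_! F)|_U ≅ F`.
* `nonempty_extZeroD_iso_Rpush`: `j_! F ≅ Rj_* F` for `F` supported on `T`.
-/

set_option autoImplicit false
universe u

open CategoryTheory CategoryTheory.Limits AlgebraicGeometry Pretriangulated
open AlgebraicGeometry.Scheme AlgebraicGeometry.Scheme.Modules

attribute [local instance] HasDerivedCategory.standard

namespace Groth.Agent.Lib.SuppD66

open Groth.Agent.Lib.RDFCrit66 Groth.Agent.Lib.QCohStalk Groth.Agent.Lib.H90OXModExt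

section General

variable {C : Type (u+1)} [Category.{u} C] [Abelian C]

/-- an object of the derived category with vanishing cohomology is zero -/
theorem isZero_of_homology (K : DerivedCategory C)
    (h : ∀ i : ℤ, IsZero ((DerivedCategory.homologyFunctor C i).obj K)) : IsZero K := by
  have : IsIso (0 : K ⟶ K) := by
    rw [DerivedCategory.isIso_iff]
    intro n
    exact ⟨0, (h n).eq_of_src _ _, (h n).eq_of_src _ _⟩
  rw [IsZero.iff_id_eq_zero]
  exact (IsIso.inv_hom_id (0 : K ⟶ K)).symm.trans comp_zero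

end General

variable {X : Scheme.{u}}

/-- if the cohomology sheaves of `E` are supported off `V` then `E|_V = 0` -/
theorem isZero_restrictD (V : X.Opens) [PreservesFiniteLimits (Scheme.Modules.restrictFunctor V.ι)]
    (E : DCoh.D X) (h : ∀ i : ℤ, CohB1.support (DCoh.HD E i) ⊆ (V : Set X)ᶜ) :
    IsZero ((DCoh.restrictD V.ι).obj E) := by
  have hc : PreservesFiniteColimits (Scheme.Modules.restrictFunctor V.ι) :=
    ⟨fun _ _ _ => (Scheme.Modules.restrictAdjunction V.ι).leftAdjoint_preservesColimits.1⟩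
  apply isZero_of_homology
  intro i
  have h1 := (Groth.Agent.Lib.H90QCohLocalization.isZero_restrict_iff (DCoh.HD E i) V).2 (h i)
  exact h1.of_iso ((Groth.Agent.Lib.FlatBaseChangeD.mapDerivedCategoryHomologyIso
    (Scheme.Modules.restrictFunctor V.ι) i).app E)

/-- **Part 1**: `E` with cohomology supported on a closed `T ⊆ U` satisfies `E ≅ Rj_*(E|_U)`. -/
theorem nonempty_iso_Rpush_restrictD (U : X.Opens) [DCoh.HasRpush U.ι] (T : Set X) (hT : IsClosed T)
    (hTU : T ⊆ (U : Set X)) (E : DCoh.D X) (hE : ∀ i : ℤ, CohB1.support (DCoh.HD E i) ⊆ T) :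
    Nonempty (E ≅ (DCoh.Rpush U.ι).obj ((DCoh.restrictD U.ι).obj E)) := by
  let V : X.Opens := ⟨Tᶜ, hT.isOpen_compl⟩
  have hUV : U ⊔ V = ⊤ := by
    apply le_antisymm le_top
    intro x _
    by_cases hx : x ∈ T
    · exact Or.inl (hTU hx)
    · exact Or.inr hx
  have hK := Groth.Agent.Lib.SchKInj66.enoughKInj X
  have := hasRightDerivedFunctor hK (Kh (𝟭 X.Modules))
  have : DCoh.HasRpush V.ι :=
    hasRightDerivedFunctor (Groth.Agent.Lib.SchKInj66.enoughKInj _) _
  have : DCoh.HasRpush (U ⊓ V).ι :=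
    hasRightDerivedFunctor (Groth.Agent.Lib.SchKInj66.enoughKInj _) _
  obtain ⟨a', b', c', hT'⟩ := Groth.Agent.Lib.MVDer66.exists_mv_triangle_scheme U V hUV
    (𝟭 X.Modules) (Scheme.Modules.pushforward U.ι) (Scheme.Modules.pushforward V.ι)
    (Scheme.Modules.pushforward (U ⊓ V).ι) (Functor.rightUnitor _) (Functor.rightUnitor _)
    (Functor.rightUnitor _) E
  obtain ⟨e⟩ := Groth.Agent.Lib.MVDer66.nonempty_RD_id_obj_iso hK E
  have hV : IsZero ((DCoh.restrictD V.ι).obj E) := isZero_restrictD V E (fun i x hx => by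
    intro hxV
    exact hxV (hE i hx))
  have hW : IsZero ((DCoh.restrictD (U ⊓ V).ι).obj E) := isZero_restrictD (U ⊓ V) E
    (fun i x hx => by
      intro hxW
      exact hxW.2 (hE i hx))
  have hAV : IsZero ((DCoh.Rpush V.ι).obj ((DCoh.restrictD V.ι).obj E)) := by
    have : (DCoh.Rpush V.ι).Additive := Groth.Agent.RFTriang31.additive
      (Groth.Agent.Lib.SchKInj66.enoughKInj _) (Kh (Scheme.Modules.pushforward V.ι))
      (RD (Scheme.Modules.pushforward V.ι)) (RDunit _)
    exact Functor.map_isZero _ hV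
  have hAW : IsZero ((DCoh.Rpush (U ⊓ V).ι).obj ((DCoh.restrictD (U ⊓ V).ι).obj E)) := by
    have : (DCoh.Rpush (U ⊓ V).ι).Additive := Groth.Agent.RFTriang31.additive
      (Groth.Agent.Lib.SchKInj66.enoughKInj _) (Kh (Scheme.Modules.pushforward (U ⊓ V).ι))
      (RD (Scheme.Modules.pushforward (U ⊓ V).ι)) (RDunit _)
    exact Functor.map_isZero _ hW
  have hiso : IsIso a' := (Triangle.isZero₃_iff_isIso₁ _ hT').1 hAW
  have hfst : IsIso (biprod.fst : (DCoh.Rpush U.ι).obj ((DCoh.restrictD U.ι).obj E) ⊞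
      (DCoh.Rpush V.ι).obj ((DCoh.restrictD V.ι).obj E) ⟶ _) := by
    refine ⟨biprod.inl, ?_, biprod.inl_fst⟩
    apply biprod.hom_ext
    · simp
    · exact hAV.eq_of_tgt _ _
  exact ⟨e.symm ≪≫ asIso a' ≪≫ asIso biprod.fst⟩

lemma preimage_image_inf (U V : X.Opens) (T' : (U : Scheme.{u}).Opens) :
    V.ι ⁻¹ᵁ (U.ι ''ᵁ (T' ⊓ U.ι ⁻¹ᵁ V)) = V.ι ⁻¹ᵁ (U.ι ''ᵁ T') := by
  apply le_antisymm
  · exact (Scheme.Hom.preimage_mono _ (Scheme.Hom.image_mono _ inf_le_left))
  · intro z hz
    obtain ⟨y, hy, hyz⟩ := hz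
    refine ⟨y, ⟨hy, ?_⟩, hyz⟩
    have hyz' : U.ι y = V.ι z := hyz
    change U.ι y ∈ V
    rw [hyz']
    exact z.2

/-- maps from a module vanishing over `V` into `(j_{V*} N)|_U` vanish -/
theorem hom_eq_zero_of_supp (U V : X.Opens) (M : (U : Scheme.{u}).Modules)
    (N : (V : Scheme.{u}).Modules)
    (hM : ∀ y : (U : Scheme.{u}), U.ι y ∈ V → Subsingleton ↑(M.presheaf.stalk y))
    (g : M ⟶ (Scheme.Modules.restrictFunctor U.ι).obj ((Scheme.Modules.pushforward V.ι).obj N)) :
    g = 0 := by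
  ext T' m
  let N' := (Scheme.Modules.restrictFunctor U.ι).obj ((Scheme.Modules.pushforward V.ι).obj N)
  have h'' : T' ⊓ U.ι ⁻¹ᵁ V ≤ T' := inf_le_left
  have hsub : Subsingleton Γ(M, T' ⊓ U.ι ⁻¹ᵁ V) :=
    Groth.Agent.Lib.H90OXModPushOpen.subsingleton_sections_of_stalks M _
      (fun y hy => hM y hy.2)
  have h1 : g.app (T' ⊓ U.ι ⁻¹ᵁ V) (res M h'' m) = res N' h'' (g.app T' m) := app_res g h'' m
  have h2 : res M h'' m = 0 := Subsingleton.elim _ _
  rw [h2, map_zero] at h1
  have h3 : res N' h'' (g.app T' m) =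
      res N (preimage_image_inf U V T').le (g.app T' m) := rfl
  rw [h3] at h1
  have h4 : res N (preimage_image_inf U V T').le (g.app T' m) =
      res N (preimage_image_inf U V T').le 0 := by rw [← h1, res_zero]; rfl
  exact res_injective_of_eq N (preimage_image_inf U V T') h4

/-- `(j_{U!} M)|_V = 0` if `M` vanishes over `U ∩ V` -/
theorem isZero_restrict_extZero (U V : X.Opens) (M : (U : Scheme.{u}).Modules)
    (hM : ∀ y : (U : Scheme.{u}), U.ι y ∈ V → Subsingleton ↑(M.presheaf.stalk y)) :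
    IsZero ((Scheme.Modules.restrictFunctor V.ι).obj ((CxOX.extZero U.ι).obj M)) := by
  rw [IsZero.iff_id_eq_zero]
  let N := (Scheme.Modules.restrictFunctor V.ι).obj ((CxOX.extZero U.ι).obj M)
  let adjV := Scheme.Modules.restrictAdjunction V.ι
  let adjU := CxOX.extZeroAdj U.ι
  have h0 : adjU.homEquiv _ _ (adjV.homEquiv _ _ (𝟙 N)) = 0 := hom_eq_zero_of_supp U V M N hM _
  have h1 : adjV.homEquiv _ _ (𝟙 N) = 0 := by
    apply (adjU.homEquiv _ _).injective
    rw [h0, Adjunction.homEquiv_unit, Functor.map_zero, comp_zero]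
  apply (adjV.homEquiv _ _).injective
  rw [h1, Adjunction.homEquiv_unit, Functor.map_zero, comp_zero]

instance isIso_extZeroAdj_unit (U : X.Opens) : IsIso (CxOX.extZeroAdj U.ι).unit :=
  (Adjunction.Triple.isIso_unit_iff_isIso_counit
    ⟨CxOX.extZeroAdj U.ι, Scheme.Modules.restrictAdjunction U.ι⟩).2 inferInstance

/-- `(j_! F)|_U ≅ F` on derived categories -/
theorem nonempty_restrictD_extZeroD_iso (U : X.Opens) [PreservesFiniteLimits (CxOX.extZero U.ι)]
    [PreservesFiniteLimits (Scheme.Modules.restrictFunctor U.ι)]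
    (F : DCoh.D (U : Scheme.{u})) :
    Nonempty ((DCoh.restrictD U.ι).obj ((CxOX.extZeroD U.ι).obj F) ≅ F) := by
  let c := ComplexShape.up ℤ
  let K := DerivedCategory.Q.objPreimage F
  let eK : DerivedCategory.Q.obj K ≅ F := DerivedCategory.Q.objObjPreimageIso F
  let η : 𝟭 (U : Scheme.{u}).Modules ≅ CxOX.extZero U.ι ⋙ Scheme.Modules.restrictFunctor U.ι :=
    asIso (CxOX.extZeroAdj U.ι).unit
  let eC : ((Scheme.Modules.restrictFunctor U.ι).mapHomologicalComplex c).obj
      (((CxOX.extZero U.ι).mapHomologicalComplex c).obj K) ≅ K :=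
    ((NatIso.mapHomologicalComplex η c).app K).symm ≪≫
      (Functor.mapHomologicalComplexIdIso _ c).app K
  exact ⟨(DCoh.restrictD U.ι).mapIso ((CxOX.extZeroD U.ι).mapIso eK.symm) ≪≫
    (DCoh.restrictD U.ι).mapIso ((CxOX.extZero U.ι).mapDerivedCategoryFactors.app K) ≪≫
    (Scheme.Modules.restrictFunctor U.ι).mapDerivedCategoryFactors.app _ ≪≫
    DerivedCategory.Q.mapIso eC ≪≫ eK⟩

/-- **Part 2**: `j_! F ≅ Rj_* F` for `F` with cohomology supported on `T ⊆ U` closed in `X`. -/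
theorem nonempty_extZeroD_iso_Rpush (U : X.Opens) [DCoh.HasRpush U.ι]
    [PreservesFiniteLimits (CxOX.extZero U.ι)] (T : Set X) (hT : IsClosed T)
    (hTU : T ⊆ (U : Set X)) (F : DCoh.D (U : Scheme.{u}))
    (hF : ∀ i : ℤ, (fun x : (U : Scheme.{u}) => U.ι.base x) '' CohB1.support (DCoh.HD F i) ⊆ T) :
    Nonempty ((CxOX.extZeroD U.ι).obj F ≅ (DCoh.Rpush U.ι).obj F) := by
  let V : X.Opens := ⟨Tᶜ, hT.isOpen_compl⟩
  have hsupp : ∀ i : ℤ, CohB1.support (DCoh.HD ((CxOX.extZeroD U.ι).obj F) i) ⊆ T := by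
    intro i
    have hz : IsZero ((Scheme.Modules.restrictFunctor V.ι).obj
        ((CxOX.extZero U.ι).obj (DCoh.HD F i))) := by
      apply isZero_restrict_extZero
      intro y hy
      by_contra hne
      exact hy (hF i ⟨y, hne, rfl⟩)
    have hz' : IsZero ((Scheme.Modules.restrictFunctor V.ι).obj
        (DCoh.HD ((CxOX.extZeroD U.ι).obj F) i)) :=
      hz.of_iso ((Scheme.Modules.restrictFunctor V.ι).mapIso
        ((Groth.Agent.Lib.FlatBaseChangeD.mapDerivedCategoryHomologyIso (CxOX.extZero U.ι) i).app F))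
    have := (Groth.Agent.Lib.H90QCohLocalization.isZero_restrict_iff _ V).1 hz'
    intro x hx
    have hx' := this hx
    exact not_not.1 hx'
  obtain ⟨e₁⟩ := nonempty_iso_Rpush_restrictD U T hT hTU _ hsupp
  obtain ⟨e₂⟩ := nonempty_restrictD_extZeroD_iso U F
  exact ⟨e₁ ≪≫ (DCoh.Rpush U.ι).mapIso e₂⟩

end Groth.Agent.Lib.SuppD66
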