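import Groth.Agent.Lib.GammaPushD66
import Groth.Agent.Lib.StalkFlatConverse66
import Groth.Agent.Lib.SuppD66

/-!
# Detecting isomorphisms in `D(O_Y)` by `RΓ(U, -)` for affine opens `U` (towards S11114)
-/

set_option autoImplicit false
universe u

open CategoryTheory CategoryTheory.Limits AlgebraicGeometry TopologicalSpace Opposite
open AlgebraicGeometry.Scheme AlgebraicGeometry.Scheme.Modules

namespace Groth.Agent.Lib.RGammaDetect66

open Groth.Agent.Lib.RDFCrit66 Groth.Agent.Lib.MVMod66 Groth.Agent.Lib.QCohStalk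

variable {Y : Scheme.{u}}

/-- a complex of `O_Y`-modules is exact in degree `n` as soon as its complexes of sections over a
basis of opens are -/
theorem exactAt_of_sections (I : CochainComplex Y.Modules ℤ) (n : ℤ)
    (h : ∀ (W : Y.Opens) (x : Y), x ∈ W → ∃ (V : Y.Opens) (_ : V ≤ W), x ∈ V ∧
      ∀ s : Γ(I.X n, V), (I.d n (n + 1)).app V s = 0 →
        ∃ t : Γ(I.X (n - 1), V), (I.d (n - 1) n).app V t = s) :
    I.ExactAt n := by
  rw [I.exactAt_iff' (n - 1) n (n + 1) (by simp) (by simp)]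
  rw [ShortComplex.exact_iff_epi_kernel_lift]
  apply epi_of_locally_surjective
  intro W s x hx
  obtain ⟨V, hVW, hxV, hV⟩ := h W x hx
  refine ⟨V, hVW, hxV, ?_⟩
  let S := I.sc' (n - 1) n (n + 1)
  let s' := res (kernel S.g) hVW s
  have hs' : (I.d n (n + 1)).app V ((kernel.ι S.g).app V s') = 0 := by
    have h1 : (kernel.ι S.g ≫ S.g).app V s' = 0 := by
      rw [kernel.condition]
      rfl
    exact h1
  obtain ⟨t, ht⟩ := hV _ hs'
  refine ⟨t, ?_⟩
  apply Groth.Agent.Lib.StalkFlatConverse66.injective_app_of_mono (kernel.ι S.g) inferInstance V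
  have h2 : (kernel.lift S.g S.f S.zero ≫ kernel.ι S.g).app V t = S.f.app V t := by
    rw [kernel.lift_ι]
  exact h2.trans ht


section Derived

attribute [local instance] HasDerivedCategory.standard

/-- a complex which is zero in the derived category is acyclic -/
theorem exactAt_of_isZero_Q {A : Type*} [Category* A] [Abelian A] [HasDerivedCategory A]
    (K : CochainComplex A ℤ) (h : IsZero (DerivedCategory.Q.obj K)) (n : ℤ) : K.ExactAt n := by
  rw [HomologicalComplex.exactAt_iff_isZero_homology]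
  exact ((DerivedCategory.homologyFunctor A n).map_isZero h).of_iso
    ((DerivedCategory.homologyFunctorFactors A n).app K).symm

/-- an acyclic complex is zero in the derived category -/
theorem isZero_Q_of_exactAt {A : Type*} [Category* A] [Abelian A] [HasDerivedCategory A]
    (K : CochainComplex A ℤ) (h : ∀ n, K.ExactAt n) : IsZero (DerivedCategory.Q.obj K) := by
  have h0 : ∀ n, IsZero ((DerivedCategory.homologyFunctor A n).obj (DerivedCategory.Q.obj K)) := by
    intro n
    have h1 := h n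
    rw [HomologicalComplex.exactAt_iff_isZero_homology] at h1
    exact h1.of_iso ((DerivedCategory.homologyFunctorFactors A n).app K)
  have : IsIso (0 : DerivedCategory.Q.obj K ⟶ DerivedCategory.Q.obj K) := by
    rw [DerivedCategory.isIso_iff]
    intro n
    exact ⟨0, (h0 n).eq_of_src _ _, (h0 n).eq_of_src _ _⟩
  rw [IsZero.iff_id_eq_zero]
  exact (IsIso.inv_hom_id (0 : DerivedCategory.Q.obj K ⟶ DerivedCategory.Q.obj K)).symm.trans
    comp_zero

/-- if `RΓ(U, I|_U) = 0` for a K-injective complex `I`, the complex of sections of `I` over `U` is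
exact -/
theorem sections_exact_of_isZero (I : CochainComplex Y.Modules ℤ) [I.IsKInjective] (U : Y.Opens)
    [DCoh.HasRΓ (U : Scheme.{u})]
    (h : IsZero ((DCoh.RΓ (U : Scheme.{u})).obj
      ((DCoh.restrictD U.ι).obj (DerivedCategory.Q.obj I)))) (n : ℤ)
    (s : Γ(I.X n, U.ι ''ᵁ ⊤)) (hs : (I.d n (n + 1)).app (U.ι ''ᵁ ⊤) s = 0) :
    ∃ t : Γ(I.X (n - 1), U.ι ''ᵁ ⊤), (I.d (n - 1) n).app (U.ι ''ᵁ ⊤) t = s := by
  let c := ComplexShape.up ℤ
  let I' := ((Scheme.Modules.restrictFunctor U.ι).mapHomologicalComplex c).obj I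
  have hI' : CochainComplex.IsKInjective I' :=
    Groth.Agent.Lib.SchKInj66.isKInjective_restrict U I inferInstance
  let K := ((DCoh.gammaAb (U : Scheme.{u})).mapHomologicalComplex c).obj I'
  have hK : IsZero (DerivedCategory.Q.obj K) :=
    h.of_iso ((RDObjIso (Groth.Agent.Lib.SchKInj66.enoughKInj _)
        (DCoh.gammaAb (U : Scheme.{u})) I').symm ≪≫
      (DCoh.RΓ (U : Scheme.{u})).mapIso
        ((Scheme.Modules.restrictFunctor U.ι).mapDerivedCategoryFactors.app I).symm)
  have hex := exactAt_of_isZero_Q K hK n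
  rw [K.exactAt_iff' (n - 1) n (n + 1) (show (ComplexShape.up ℤ).prev n = n - 1 by simp)
    (show (ComplexShape.up ℤ).next n = n + 1 by simp), ShortComplex.ab_exact_iff] at hex
  exact hex s hs


open Pretriangulated in
/-- **S11114** (reverse direction): a morphism in `D(O_Y)` is an isomorphism as soon as
`RΓ(U, -|_U)` of it is for every affine open `U` -/
theorem isIso_of_isIso_RΓ_restrict [hR : ∀ U : Y.Opens, DCoh.HasRΓ (U : Scheme.{u})]
    {G₁ G₂ : DCoh.D Y} (φ : G₁ ⟶ G₂)
    (h : ∀ U : Y.Opens, IsAffineOpen U →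
      IsIso ((DCoh.RΓ (U : Scheme.{u})).map ((DCoh.restrictD U.ι).map φ))) : IsIso φ := by
  obtain ⟨C, g, δ, hT⟩ := distinguished_cocone_triangle φ
  refine (Triangle.isZero₃_iff_isIso₁ _ hT).1 ?_
  change IsZero C
  obtain ⟨I, a, hI, ha⟩ := Groth.Agent.Lib.SchKInj66.enoughKInj Y (DerivedCategory.Q.objPreimage C)
  have : IsIso (DerivedCategory.Q.map a) := inferInstance
  let eC : C ≅ DerivedCategory.Q.obj I :=
    (DerivedCategory.Q.objObjPreimageIso C).symm ≪≫ asIso (DerivedCategory.Q.map a)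
  -- vanishing of `RΓ(U, C|_U)`
  have hC : ∀ U : Y.Opens, IsAffineOpen U →
      IsZero ((DCoh.RΓ (U : Scheme.{u})).obj ((DCoh.restrictD U.ι).obj C)) := by
    intro U hU
    have hT' := (DCoh.restrictD U.ι).map_distinguished _ hT
    obtain ⟨δ', hT''⟩ := Groth.Agent.RFTriang31.exists_distinguished
      (Groth.Agent.Lib.SchKInj66.enoughKInj (U : Scheme.{u})) (DCoh.gammaKh (U : Scheme.{u}))
      (DCoh.RΓ (U : Scheme.{u})) (RDunit _) _ hT'
    exact (Triangle.isZero₃_iff_isIso₁ _ hT'').2 (h U hU)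
  refine (isZero_Q_of_exactAt I (fun n => ?_)).of_iso eC
  apply exactAt_of_sections
  intro W x hx
  obtain ⟨U', hU, hxU, hUW⟩ :=
    (TopologicalSpace.Opens.isBasis_iff_nbhd.1 (Scheme.isBasis_affineOpens Y)) hx
  let U : Y.Opens := U'
  have hV : U.ι ''ᵁ ⊤ = U := Scheme.Opens.ι_image_top U
  refine ⟨U.ι ''ᵁ ⊤, hV.le.trans hUW, hV.symm ▸ hxU, ?_⟩
  intro s hs
  exact sections_exact_of_isZero I U ((hC U hU).of_iso
    ((DCoh.RΓ (U : Scheme.{u})).mapIso ((DCoh.restrictD U.ι).mapIso eC.symm))) n s hs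

end Derived

end Groth.Agent.Lib.RGammaDetect66
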