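import Groth.Agent.Lib.RGammaAcyc25
import Groth.Agent.Lib.RGammaKInj
import Groth.Agent.Lib.ConeQuasiIso

/-!
# `RΓ_I` over a Noetherian ring via complexes of injectives (helper25)

* `InjTerms X` : all terms of `X` are injective objects.
* `quasiIso_gammaI_map` : `Γ_I` preserves quasi-isomorphisms between complexes of injectives.
* `isIso_unit_of_injTerms` : the unit `Q(Γ_I X) ⟶ RΓ_I(Q X)` is an isomorphism for complexes of injectives.
* `isIso_RgammaIε_of_torsion` (= S1813).
-/

set_option autoImplicit false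
set_option linter.unusedSectionVars false
universe u

open CategoryTheory CategoryTheory.Limits

attribute [local instance] HasDerivedCategory.standard

namespace Groth.Agent.Lib.RGammaNoeth25

open Groth.Agent.Lib.ModCxElem25 Groth.Agent.Lib.RGammaAcyc25 Groth.Agent.Lib.RGammaKInj

variable {A : Type u} [CommRing A] (I : Ideal A)

/-- all terms are injective objects -/
def InjTerms (X : CochainComplex (ModuleCat.{u} A) ℤ) : Prop := ∀ i, Injective (X.X i)

lemma InjTerms.module {X : CochainComplex (ModuleCat.{u} A) ℤ} (hX : InjTerms X) (i : ℤ) :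
    Module.Injective A (X.X i) :=
  have := hX i
  Module.injective_module_of_injective_object A (X.X i)

lemma injTerms_mappingCone {X Y : CochainComplex (ModuleCat.{u} A) ℤ} (φ : X ⟶ Y)
    (hX : InjTerms X) (hY : InjTerms Y) : InjTerms (CochainComplex.mappingCone φ) := by
  intro n
  have := hX (n + 1)
  have := hY n
  exact Injective.of_iso (HomologicalComplex.homotopyCofiber.XIsoBiprod φ n (n + 1) rfl).symm
    inferInstance

lemma injTerms_gX [IsNoetherianRing A] {X : CochainComplex (ModuleCat.{u} A) ℤ} (hX : InjTerms X) :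
    InjTerms (gX I X) := by
  intro i
  have := Groth.Agent.Lib.H29TorsionInj.injective_torsionSub I (X.X i) (hX.module i)
  exact Module.injective_object_of_injective_module A (DRing.torsionSub I (X.X i))

lemma exists_boundary_of_acyclic {X : CochainComplex (ModuleCat.{u} A) ℤ} (hX : X.Acyclic)
    (i j k : ℤ) (hij : i + 1 = j) (hjk : j + 1 = k) (z : X.X j) (hz : (X.d j k).hom z = 0) :
    ∃ w : X.X i, (X.d i j).hom w = z := by
  obtain ⟨zc, hzc⟩ := exists_cycle X j k hjk z hz
  have h0 : IsZero (X.homology j) := (HomologicalComplex.exactAt_iff_isZero_homology X j).mp (hX j)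
  have h1 : (X.homologyπ j).hom zc = 0 := by
    have : Subsingleton (X.homology j) := ModuleCat.subsingleton_of_isZero h0
    exact Subsingleton.elim _ _
  obtain ⟨y, hy⟩ := exists_boundary_of_homologyπ_eq_zero X i j hij zc h1
  exact ⟨y, by rw [hy, hzc]⟩

lemma torsH_of_acyclic {X : CochainComplex (ModuleCat.{u} A) ℤ} (hX : X.Acyclic) (f : A) :
    TorsH f X := by
  intro i j k hij hjk z hz
  obtain ⟨w, hw⟩ := exists_boundary_of_acyclic hX i j k hij hjk z hz
  exact ⟨0, w, by rw [pow_zero, one_smul, hw]⟩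

lemma acyclic_of_quasiIso {X Y : CochainComplex (ModuleCat.{u} A) ℤ} (φ : X ⟶ Y) [QuasiIso φ]
    (hY : Y.Acyclic) : X.Acyclic := by
  intro i
  rw [HomologicalComplex.exactAt_iff_isZero_homology]
  exact IsZero.of_iso ((HomologicalComplex.exactAt_iff_isZero_homology Y i).mp (hY i))
    (asIso (HomologicalComplex.homologyMap φ i))

variable [IsNoetherianRing A]

lemma acyclic_gX {X : CochainComplex (ModuleCat.{u} A) ℤ} (hX : InjTerms X) (hac : X.Acyclic) :
    (gX I X).Acyclic := by
  have := quasiIso_ιX I X hX.module (fun f _ => torsH_of_acyclic hac f)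
  exact acyclic_of_quasiIso (ιX I X) hac

/-- `Γ_I` preserves quasi-isomorphisms between complexes of injectives (Noetherian base). -/
theorem quasiIso_gammaI_map {X Y : CochainComplex (ModuleCat.{u} A) ℤ} (φ : X ⟶ Y) [QuasiIso φ]
    (hX : InjTerms X) (hY : InjTerms Y) :
    QuasiIso (((DRing.gammaI I).mapHomologicalComplex (ComplexShape.up ℤ)).map φ) := by
  rw [Groth.Agent.Lib.ConeQuasiIso.quasiIso_iff_acyclic_mappingCone]
  have hac : (CochainComplex.mappingCone φ).Acyclic :=
    (Groth.Agent.Lib.ConeQuasiIso.quasiIso_iff_acyclic_mappingCone φ).mp inferInstance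
  have h1 := acyclic_gX I (injTerms_mappingCone φ hX hY) hac
  let e := CochainComplex.mappingCone.mapHomologicalComplexIso φ (DRing.gammaI I)
  intro i
  rw [HomologicalComplex.exactAt_iff_isZero_homology]
  exact IsZero.of_iso ((HomologicalComplex.exactAt_iff_isZero_homology _ i).mp (h1 i))
    ((HomologicalComplex.homologyFunctor _ _ i).mapIso e.symm)

/-- K-injective resolutions with injective terms -/
theorem exists_kinj_injTerms (K : CochainComplex (ModuleCat.{u} A) ℤ) :
    ∃ (J : CochainComplex (ModuleCat.{u} A) ℤ) (f : K ⟶ J),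
      J.IsKInjective ∧ QuasiIso f ∧ InjTerms J := by
  obtain ⟨J, f, h1, h2, -, h4⟩ := Groth.Agent.KInjMain31.exists_kinjective_resolution K
  exact ⟨J, f, h1, h2, h4⟩

/-- `TorsH` from `I`-power torsion homology modules -/
lemma torsH_of_isPowerTorsion (X : CochainComplex (ModuleCat.{u} A) ℤ)
    (hX : ∀ j : ℤ, LocCoh.IsPowerTorsion I (X.homology j)) (f : A) (hf : f ∈ I) : TorsH f X := by
  intro i j k hij hjk z hz
  obtain ⟨zc, hzc⟩ := exists_cycle X j k hjk z hz
  obtain ⟨n, hn⟩ := hX j ((X.homologyπ j).hom zc)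
  have h1 : (X.homologyπ j).hom (f ^ n • zc) = 0 := by
    rw [map_smul]
    exact hn _ (Ideal.pow_mem_pow hf n)
  obtain ⟨y, hy⟩ := exists_boundary_of_homologyπ_eq_zero X i j hij _ h1
  exact ⟨n, y, by rw [hy, map_smul, hzc]⟩

section Unit

variable [DRing.HasRgammaI I]

/-- the unit of the derived functor `RΓ_I` -/
noncomputable abbrev unitα : DRing.gammaIKh I ⟶ DerivedCategory.Qh ⋙ DRing.RgammaI I :=
  (DRing.gammaIKh I).totalRightDerivedUnit DerivedCategory.Qh
    (HomotopyCategory.quasiIso (ModuleCat.{u} A) (ComplexShape.up ℤ))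

lemma isIso_Qh_map_quotient_map {X Y : CochainComplex (ModuleCat.{u} A) ℤ} (φ : X ⟶ Y)
    [QuasiIso φ] : IsIso (DerivedCategory.Qh.map
      ((HomotopyCategory.quotient (ModuleCat.{u} A) (ComplexShape.up ℤ)).map φ)) := by
  have h1 : IsIso (DerivedCategory.Q.map φ) := inferInstance
  exact (NatIso.isIso_map_iff (DerivedCategory.quotientCompQhIso (ModuleCat.{u} A)) φ).mpr h1

lemma isIso_gammaIKh_map {X Y : CochainComplex (ModuleCat.{u} A) ℤ} (φ : X ⟶ Y)
    (h : QuasiIso (((DRing.gammaI I).mapHomologicalComplex (ComplexShape.up ℤ)).map φ)) :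
    IsIso ((DRing.gammaIKh I).map
      ((HomotopyCategory.quotient (ModuleCat.{u} A) (ComplexShape.up ℤ)).map φ)) := by
  have h1 := Groth.Agent.Lib.LBaseChangeKProj.khObjIso_hom_naturality (DRing.gammaI I) φ
  have h2 : IsIso (DerivedCategory.Q.map
      (((DRing.gammaI I).mapHomologicalComplex (ComplexShape.up ℤ)).map φ)) := inferInstance
  have h3 : (DRing.gammaIKh I).map
      ((HomotopyCategory.quotient (ModuleCat.{u} A) (ComplexShape.up ℤ)).map φ) =
      (Groth.Agent.Lib.LBaseChangeKProj.khObjIso (DRing.gammaI I) X).hom ≫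
        DerivedCategory.Q.map (((DRing.gammaI I).mapHomologicalComplex (ComplexShape.up ℤ)).map φ) ≫
        (Groth.Agent.Lib.LBaseChangeKProj.khObjIso (DRing.gammaI I) Y).inv := by
    rw [← Category.assoc, ← h1, Category.assoc, Iso.hom_inv_id, Category.comp_id]
  rw [h3]
  infer_instance

/-- **the unit is an isomorphism on complexes of injectives** -/
theorem isIso_unit_of_injTerms (X : CochainComplex (ModuleCat.{u} A) ℤ) (hX : InjTerms X) :
    IsIso ((unitα I).app ((HomotopyCategory.quotient (ModuleCat.{u} A) (ComplexShape.up ℤ)).obj X)) := by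
  obtain ⟨J, j, hJ, hj, hJinj⟩ := exists_kinj_injTerms X
  let q := HomotopyCategory.quotient (ModuleCat.{u} A) (ComplexShape.up ℤ)
  have hnat := (unitα I).naturality (q.map j)
  have h1 : IsIso ((unitα I).app (q.obj J)) :=
    Groth.Agent.KInjDerived31.isIso_unit_app_of_isKInjective (DRing.gammaIKh I)
      (DRing.RgammaI I) (unitα I) J
  have h2 : IsIso ((DerivedCategory.Qh ⋙ DRing.RgammaI I).map (q.map j)) := by
    have := isIso_Qh_map_quotient_map j
    change IsIso ((DRing.RgammaI I).map (DerivedCategory.Qh.map (q.map j)))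
    infer_instance
  have h3 : IsIso ((DRing.gammaIKh I).map (q.map j)) :=
    isIso_gammaIKh_map I j (quasiIso_gammaI_map I j hX hJinj)
  have h4 : (unitα I).app (q.obj X) =
      ((DRing.gammaIKh I).map (q.map j) ≫ (unitα I).app (q.obj J)) ≫
        inv ((DerivedCategory.Qh ⋙ DRing.RgammaI I).map (q.map j)) := by
    rw [hnat, Category.assoc, IsIso.hom_inv_id, Category.comp_id]
  rw [h4]
  infer_instance

/-- `τ = Q(Γ_I X → X)` is an isomorphism when the inclusion is a quasi-isomorphism -/
lemma isIso_gammaIτ_app (X : CochainComplex (ModuleCat.{u} A) ℤ) (h : QuasiIso (ιX I X)) :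
    IsIso ((DRing.gammaIτ I).app
      ((HomotopyCategory.quotient (ModuleCat.{u} A) (ComplexShape.up ℤ)).obj X)) := by
  have h0 : (DRing.gammaIτ I).app
      ((HomotopyCategory.quotient (ModuleCat.{u} A) (ComplexShape.up ℤ)).obj X) =
      (DRing.gammaIτ0 I).app X := rfl
  rw [h0]
  have h1 := isIso_Qh_map_quotient_map (ιX I X)
  dsimp only [DRing.gammaIτ0, NatTrans.comp_app, Functor.associator_inv_app,
    Functor.associator_hom_app, Functor.whiskerRight_app, Functor.leftUnitor_hom_app,
    Functor.comp_map]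
  simp only [Category.id_comp]
  have i1 : IsIso (DerivedCategory.Qh.map
      (((DRing.gammaI I).mapHomotopyCategoryFactors (ComplexShape.up ℤ)).hom.app X)) :=
    Functor.map_isIso _ _
  have i2 : IsIso (DerivedCategory.Qh.map
      ((HomotopyCategory.quotient (ModuleCat.{u} A) (ComplexShape.up ℤ)).map
        ((NatTrans.mapHomologicalComplex (DRing.gammaIι I) (ComplexShape.up ℤ)).app X))) := h1
  have i3 : IsIso (DerivedCategory.Qh.map
      ((HomotopyCategory.quotient (ModuleCat.{u} A) (ComplexShape.up ℤ)).map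
        ((Functor.mapHomologicalComplexIdIso (ModuleCat.{u} A) (ComplexShape.up ℤ)).hom.app X))) :=
    Functor.map_isIso _ _
  exact IsIso.comp_isIso' i1 (IsIso.comp_isIso' i2 (IsIso.comp_isIso' i3 (IsIso.id _)))

/-- the counit is an isomorphism on `Q`-classes of complexes of injectives with torsion cohomology -/
theorem isIso_RgammaIε_app_Qh (X : CochainComplex (ModuleCat.{u} A) ℤ) (hX : InjTerms X)
    (hI : ∀ f ∈ I, TorsH f X) :
    IsIso ((DRing.RgammaIε I).app (DerivedCategory.Qh.obj
      ((HomotopyCategory.quotient (ModuleCat.{u} A) (ComplexShape.up ℤ)).obj X))) := by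
  let q := HomotopyCategory.quotient (ModuleCat.{u} A) (ComplexShape.up ℤ)
  have hfac : (unitα I).app (q.obj X) ≫ (DRing.RgammaIε I).app (DerivedCategory.Qh.obj (q.obj X)) =
      (DRing.gammaIτ I ≫ (Functor.rightUnitor _).inv).app (q.obj X) :=
    Functor.rightDerived_fac_app _ _ _ _ _ _
  have h1 := isIso_unit_of_injTerms I X hX
  have h2 := isIso_gammaIτ_app I X (quasiIso_ιX I X hX.module hI)
  have h3 : (DRing.RgammaIε I).app (DerivedCategory.Qh.obj (q.obj X)) =
      inv ((unitα I).app (q.obj X)) ≫ (DRing.gammaIτ I).app (q.obj X) := by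
    rw [IsIso.eq_inv_comp, hfac]
    simp
  rw [h3]
  infer_instance

/-- **S1813**: `RΓ_I K ⟶ K` is an isomorphism when `K` has `I`-power torsion cohomology. -/
theorem isIso_RgammaIε_of_torsion (K : Dual.D A)
    (hK : ∀ i : ℤ, LocCoh.IsPowerTorsion I (Dual.HD A K i)) :
    IsIso ((DRing.RgammaIε I).app K) := by
  let q := HomotopyCategory.quotient (ModuleCat.{u} A) (ComplexShape.up ℤ)
  obtain ⟨J, j, hJ, hj, hJinj⟩ := exists_kinj_injTerms (DerivedCategory.Q.objPreimage K)
  let e : K ≅ DerivedCategory.Q.obj J :=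
    (DerivedCategory.Q.objObjPreimageIso K).symm ≪≫ asIso (DerivedCategory.Q.map j)
  let e' : K ≅ DerivedCategory.Qh.obj (q.obj J) :=
    e ≪≫ ((DerivedCategory.quotientCompQhIso (ModuleCat.{u} A)).app J).symm
  have htors : ∀ f ∈ I, TorsH f J := by
    intro f hf
    apply torsH_of_isPowerTorsion I J _ f hf
    intro i x
    let E : (DerivedCategory.homologyFunctor (ModuleCat.{u} A) i).obj K ≅ J.homology i :=
      (DerivedCategory.homologyFunctor (ModuleCat.{u} A) i).mapIso e ≪≫
        (DerivedCategory.homologyFunctorFactors (ModuleCat.{u} A) i).app J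
    obtain ⟨n, hn⟩ := hK i (E.inv.hom x)
    refine ⟨n, fun a ha => ?_⟩
    have h1 := hn a ha
    have h2 : E.hom.hom (a • E.inv.hom x) = 0 := by rw [h1, map_zero]
    rw [map_smul] at h2
    have h3 : E.hom.hom (E.inv.hom x) = x := by
      have := congrArg (fun φ => φ.hom x) E.inv_hom_id
      exact this
    rwa [h3] at h2
  have h1 := isIso_RgammaIε_app_Qh I J hJinj htors
  have hnat := (DRing.RgammaIε I).naturality e'.hom
  have h2 : (DRing.RgammaIε I).app K =
      (DRing.RgammaI I).map e'.hom ≫ (DRing.RgammaIε I).app (DerivedCategory.Qh.obj (q.obj J)) ≫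
        e'.inv := by
    rw [← Category.assoc, hnat]
    simp
  rw [h2]
  infer_instance

end Unit

end Groth.Agent.Lib.RGammaNoeth25
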