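import Groth.Agent.Lib.HomCxPre25
import Groth.Agent.Lib.RHomCx25

/-!
# `RHom(A_f, RHom(A_g, K)) ≅ RHom(A_{fg}, K)` (helper25)
-/

set_option autoImplicit false
universe u

open CategoryTheory Category Limits MonoidalCategory CochainComplex HomComplex TensorProduct

attribute [local instance] HasDerivedCategory.standard

namespace Groth.Agent.Lib.RHomLoc25

open Groth.Agent.Lib.HomTensor25 Groth.Agent.Lib.RHomCx25

variable {A : Type u} [CommRing A]

/-- `A_f ⊗ A_g ≃ A_{fg}` -/
noncomputable def awayTensorEquiv (f g : A) :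
    (Localization.Away f ⊗[A] Localization.Away g) ≃ₗ[A] Localization.Away (f * g) := by
  haveI : IsLocalization.Away (algebraMap A (Localization.Away f) g)
      (Localization.Away f ⊗[A] Localization.Away g) := IsLocalization.Away.tensor g _
  haveI : IsLocalization.Away (f * g) (Localization.Away f ⊗[A] Localization.Away g) :=
    IsLocalization.Away.mul' (Localization.Away f) _ f g
  exact (IsLocalization.algEquiv (Submonoid.powers (f * g))
    (Localization.Away f ⊗[A] Localization.Away g) (Localization.Away (f * g))).toLinearEquiv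

/-- `A_f ⊗ A_g ≅ A_{fg}` in `ModuleCat` -/
noncomputable def awayTensorIso (f g : A) :
    (ModuleCat.of A (Localization.Away f) ⊗ ModuleCat.of A (Localization.Away g)) ≅
      ModuleCat.of A (Localization.Away (f * g)) :=
  (awayTensorEquiv f g).toModuleIso

/-- RHom out of a module placed in degree zero, iterated. -/
theorem nonempty_rhom_rhom_iso (M N P : ModuleCat.{u} A) [Module.Flat A N] (e : M ⊗ N ≅ P)
    [DRing.HasRHomCx (sg M)] [DRing.HasRHomCx (sg N)] [DRing.HasRHomCx (sg P)] (K : Dual.D A) :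
    Nonempty ((DRing.RHomCx (sg M)).obj ((DRing.RHomCx (sg N)).obj K) ≅
      (DRing.RHomCx (sg P)).obj K) := by
  obtain ⟨X, ⟨eX⟩⟩ : ∃ X : DRing.Cx A, Nonempty (DerivedCategory.Q.obj X ≅ K) :=
    ⟨_, ⟨DerivedCategory.Q.objObjPreimageIso K⟩⟩
  obtain ⟨J, j, hJ, hj⟩ := Groth.Agent.Lib.RGammaKInj.exists_kinj X
  have : IsIso (DerivedCategory.Q.map j) := by
    rw [DerivedCategory.isIso_Q_map_iff_quasiIso]; exact hj
  let eJ : DerivedCategory.Q.obj J ≅ K := (asIso (DerivedCategory.Q.map j)).symm ≪≫ eX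
  have hJ' : (DRing.homCx (sg N) J).IsKInjective := isKInjective_homCx _ _ (isKFlat_single N)
  let i1 : (DRing.RHomCx (sg N)).obj K ≅ DerivedCategory.Q.obj (DRing.homCx (sg N) J) :=
    (DRing.RHomCx (sg N)).mapIso eJ.symm ≪≫ rhomIso (sg N) J
  let i2 : (DRing.RHomCx (sg M)).obj ((DRing.RHomCx (sg N)).obj K) ≅
      DerivedCategory.Q.obj (DRing.homCx (sg M) (DRing.homCx (sg N) J)) :=
    (DRing.RHomCx (sg M)).mapIso i1 ≪≫ rhomIso (sg M) _
  let i3 : DRing.homCx (sg M) (DRing.homCx (sg N) J) ≅ DRing.homCx (sg P) J :=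
    homTensorIso (sg M) (sg N) J ≪≫
      homCxPreIso ((tensorSingleSingleIso M N).symm ≪≫
        (HomologicalComplex.single (ModuleCat.{u} A) (ComplexShape.up ℤ) 0).mapIso e) J
  let i4 : (DRing.RHomCx (sg P)).obj K ≅ DerivedCategory.Q.obj (DRing.homCx (sg P) J) :=
    (DRing.RHomCx (sg P)).mapIso eJ.symm ≪≫ rhomIso (sg P) J
  exact ⟨i2 ≪≫ DerivedCategory.Q.mapIso i3 ≪≫ i4.symm⟩

end Groth.Agent.Lib.RHomLoc25
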