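import Groth.Agent.Lib.HomKInj25
import Groth.Agent.Lib.HomCxPre25
import Groth.Agent.Lib.TensorBraid25

/-!
# Chain level evaluation `Hom•(P, J) ⊗ P ⟶ J` and currying of chain maps (helper25)

* `uncurry γ : X ⊗ P ⟶ J` for `γ : X ⟶ Hom•(P, J)`, `curry θ` the inverse; both respect homotopies.
* `evc P J : Hom•(P, J) ⊗ P ⟶ J`, `uncurry γ = (γ ▷ P) ≫ evc`, dinaturality in `P`.
-/

set_option autoImplicit false
universe u

open CategoryTheory Category Limits MonoidalCategory CochainComplex HomComplex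

namespace Groth.Agent.Lib.RHomModel25

open Groth.Agent.Lib.HomTensor25

variable {A : Type u} [CommRing A]

section whisker

variable {X X' : DRing.Cx A}

lemma whiskerRight_f_tm (γ : X ⟶ X') (L : DRing.Cx A) {i j : ℤ} (n : ℤ) (h : i + j = n)
    (x : X.X i) (y : L.X j) :
    ((γ ▷ L).f n).hom (tm n h x y) = tm n h ((γ.f i).hom x) y := by
  unfold tm
  have := HomologicalComplex.ι_mapBifunctorMap γ (𝟙 L) (curriedTensor (ModuleCat.{u} A))
    (ComplexShape.up ℤ) i j n h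
  have h2 := congrArg (fun f => f.hom (x ⊗ₜ[A] y)) this
  simp only [ModuleCat.hom_comp, LinearMap.comp_apply] at h2
  refine h2.trans ?_
  simp

lemma whiskerLeft_f_tm (K : DRing.Cx A) {L L' : DRing.Cx A} (g : L ⟶ L') {i j : ℤ} (n : ℤ)
    (h : i + j = n) (x : K.X i) (y : L.X j) :
    ((K ◁ g).f n).hom (tm n h x y) = tm n h x ((g.f j).hom y) := by
  unfold tm
  have := HomologicalComplex.ι_mapBifunctorMap (𝟙 K) g (curriedTensor (ModuleCat.{u} A))
    (ComplexShape.up ℤ) i j n h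
  have h2 := congrArg (fun f => f.hom (x ⊗ₜ[A] y)) this
  simp only [ModuleCat.hom_comp, LinearMap.comp_apply] at h2
  refine h2.trans ?_
  simp

end whisker

section curry

variable {X X' P P' J J' : DRing.Cx A}

lemma Φ_zero (X P J : DRing.Cx A) (m : ℤ) : Φ (0 : Cochain X (DRing.homCx P J) m) = 0 :=
  (equiv (K := X) (L := P) (M := J) m).map_zero

lemma Ψ_zero (X P J : DRing.Cx A) (m : ℤ) : Ψ (0 : Cochain (T X P) J m) = 0 :=
  (equiv (K := X) (L := P) (M := J) m).symm.map_zero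

lemma Φ_add {m : ℤ} (a b : Cochain X (DRing.homCx P J) m) : Φ (a + b) = Φ a + Φ b :=
  (equiv (K := X) (L := P) (M := J) m).map_add a b

lemma Ψ_add {m : ℤ} (a b : Cochain (T X P) J m) : Ψ (a + b) = Ψ a + Ψ b :=
  (equiv (K := X) (L := P) (M := J) m).symm.map_add a b

/-- uncurrying of a chain map -/
noncomputable def uncurry (γ : X ⟶ DRing.homCx P J) : T X P ⟶ J :=
  Cocycle.homOf (Cocycle.mk (Φ (Cochain.ofHom γ)) 1 (zero_add 1)
    (by rw [← Φ_δ 0 1 (zero_add 1), δ_ofHom]; exact Φ_zero X P J 1))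

lemma ofHom_uncurry (γ : X ⟶ DRing.homCx P J) :
    Cochain.ofHom (uncurry γ) = Φ (Cochain.ofHom γ) :=
  Cocycle.cochain_ofHom_homOf_eq_coe _

/-- currying of a chain map -/
noncomputable def curry (θ : T X P ⟶ J) : X ⟶ DRing.homCx P J :=
  Cocycle.homOf (Cocycle.mk (Ψ (Cochain.ofHom θ)) 1 (zero_add 1)
    (by rw [← Ψ_δ 0 1 (zero_add 1), δ_ofHom]; exact Ψ_zero X P J 1))

lemma ofHom_curry (θ : T X P ⟶ J) :
    Cochain.ofHom (curry θ) = Ψ (Cochain.ofHom θ) :=
  Cocycle.cochain_ofHom_homOf_eq_coe _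

lemma curry_uncurry (γ : X ⟶ DRing.homCx P J) : curry (uncurry γ) = γ := by
  apply Cochain.ofHom_injective
  rw [ofHom_curry, ofHom_uncurry, Ψ_Φ]

lemma uncurry_curry (θ : T X P ⟶ J) : uncurry (curry θ) = θ := by
  apply Cochain.ofHom_injective
  rw [ofHom_uncurry, ofHom_curry, Φ_Ψ]

/-- uncurrying respects homotopies -/
noncomputable def uncurryHomotopy {γ γ' : X ⟶ DRing.homCx P J} (h : Homotopy γ γ') :
    Homotopy (uncurry γ) (uncurry γ') := by
  obtain ⟨w, hw⟩ := Cochain.equivHomotopy _ _ h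
  refine (Cochain.equivHomotopy _ _).symm ⟨Φ w, ?_⟩
  rw [ofHom_uncurry, ofHom_uncurry, hw, Φ_add, Φ_δ (-1) 0 (neg_add_cancel 1)]

/-- currying respects homotopies -/
noncomputable def curryHomotopy {θ θ' : T X P ⟶ J} (h : Homotopy θ θ') :
    Homotopy (curry θ) (curry θ') := by
  obtain ⟨w, hw⟩ := Cochain.equivHomotopy _ _ h
  refine (Cochain.equivHomotopy _ _).symm ⟨Ψ w, ?_⟩
  rw [ofHom_curry, ofHom_curry, hw, Ψ_add, Ψ_δ (-1) 0 (neg_add_cancel 1)]

/-- the evaluation map `Hom•(P, J) ⊗ P ⟶ J` -/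
noncomputable def evc (P J : DRing.Cx A) : T (DRing.homCx P J) P ⟶ J :=
  uncurry (𝟙 (DRing.homCx P J))

lemma evT_ofHom_comp {Y Y' L M : DRing.Cx A} (f : Y ⟶ Y') {m : ℤ} (Θ : Cochain (T Y' L) M m)
    {i j n q : ℤ} (h : i + j = n) (hq : n + m = q) (x : Y.X i) (y : L.X j) :
    evT ((Cochain.ofHom (f ▷ L)).comp Θ (zero_add m)) h hq x y = evT Θ h hq ((f.f i).hom x) y := by
  unfold evT
  rw [Cochain.zero_cochain_comp_v, Cochain.ofHom_v, ModuleCat.hom_comp, LinearMap.comp_apply,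
    whiskerRight_f_tm]

lemma evT_ofHom_comp_left {Y L L' M : DRing.Cx A} (g : L ⟶ L') {m : ℤ} (Θ : Cochain (T Y L') M m)
    {i j n q : ℤ} (h : i + j = n) (hq : n + m = q) (x : Y.X i) (y : L.X j) :
    evT ((Cochain.ofHom (Y ◁ g)).comp Θ (zero_add m)) h hq x y = evT Θ h hq x ((g.f j).hom y) := by
  unfold evT
  rw [Cochain.zero_cochain_comp_v, Cochain.ofHom_v, ModuleCat.hom_comp, LinearMap.comp_apply,
    whiskerLeft_f_tm]

lemma evH_ofHom (γ : X ⟶ DRing.homCx P J) {i p j q : ℤ} (hp : i + 0 = p) (hq : j + p = q)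
    (x : X.X i) (y : P.X j) :
    evH (Cochain.ofHom γ) hp hq x y =
      (Cochain.v (F := P) (G := J) ((γ.f i).hom x) j q (by omega)).hom y := by
  obtain rfl : i = p := by omega
  unfold evH
  rw [Cochain.ofHom_v]

lemma uncurry_eq (γ : X ⟶ DRing.homCx P J) : uncurry γ = (γ ▷ P) ≫ evc P J := by
  apply Cochain.ofHom_injective
  rw [Cochain.ofHom_comp, evc, ofHom_uncurry, ofHom_uncurry]
  apply evT_ext
  intro i j n q h hq x y
  rw [evT_ofHom_comp, evT_Φ, evT_Φ, evH_ofHom, evH_ofHom]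
  rfl

/-- dinaturality of the evaluation in `P` -/
lemma evc_dinat (φ : P' ⟶ P) (J : DRing.Cx A) :
    (DRing.homCx P J ◁ φ) ≫ evc P J = (homCxPre φ J ▷ P') ≫ evc P' J := by
  rw [← uncurry_eq]
  apply Cochain.ofHom_injective
  rw [Cochain.ofHom_comp, evc, ofHom_uncurry, ofHom_uncurry]
  apply evT_ext
  intro i j n q h hq x y
  rw [evT_ofHom_comp_left, evT_Φ, evT_Φ, evH_ofHom, evH_ofHom]
  change _ = (Cochain.v (F := P') (G := J) ((Cochain.ofHom φ).comp (x : Cochain P J i) (zero_add i))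
    j q _).hom y
  rw [Cochain.zero_cochain_comp_v, Cochain.ofHom_v, ModuleCat.hom_comp, LinearMap.comp_apply]
  rfl

end curry

end Groth.Agent.Lib.RHomModel25
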