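import Groth.Agent.Lib.RInv88
import Mathlib.RingTheory.Unramified.Finite

/-!
# Rings with involution: the involution of a quadratic etale algebra is nontrivial modulo the
Jacobson radical (helper88)
-/

set_option autoImplicit false
universe u v

namespace Groth.Agent.Lib.RInvEtale88

open RInv Groth.Agent.Lib.RInv88
open scoped TensorProduct

variable {S : Type u} {R : Type v} [CommRing S] [CommRing R] [Algebra S R]
  (lam : R ≃+* R) (hlam : Function.Involutive lam) (hS : RInv.IsFixedRing S R lam)

/-- `lam` as an `S`-algebra endomorphism of `R`. -/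
def lamAlgHom (hS : RInv.IsFixedRing S R lam) : R →ₐ[S] R :=
  { (lam : R →+* R) with
    commutes' := fun s => lam_algebraMap lam hS s }

theorem lamAlgHom_apply (x : R) : lamAlgHom lam hS x = lam x := rfl

include hS in
/-- If `R` is formally unramified and essentially of finite type over `S` and `lam` is the identity
modulo the Jacobson radical, then `lam` is the identity. -/
theorem lam_eq_self_of_forall_sub_mem_jacobson [Algebra.FormallyUnramified S R]
    [Algebra.EssFiniteType S R] (h : ∀ r : R, lam r - r ∈ Ring.jacobson R) (x : R) :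
    lam x = x := by
  obtain ⟨t, ht1, ht2⟩ :=
    (Algebra.FormallyUnramified.iff_exists_tensorProduct (R := S) (S := R)).mp inferInstance
  set ψ : R ⊗[S] R →ₐ[S] R :=
    Algebra.TensorProduct.productMap (lamAlgHom lam hS) (AlgHom.id S R) with hψ
  -- `ψ - μ` takes values in the Jacobson radical
  have hdiff : ∀ z : R ⊗[S] R, ψ z - Algebra.TensorProduct.lmul' S z ∈ Ring.jacobson R := by
    intro z
    induction z using TensorProduct.induction_on with
    | zero => simp
    | tmul a b =>
      rw [hψ, Algebra.TensorProduct.productMap_apply_tmul, Algebra.TensorProduct.lmul'_apply_tmul,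
        lamAlgHom_apply, AlgHom.id_apply, ← sub_mul]
      exact Ideal.mul_mem_right _ _ (h a)
    | add z w hz hw =>
      have : ψ (z + w) - Algebra.TensorProduct.lmul' S (z + w)
          = (ψ z - Algebra.TensorProduct.lmul' S z) + (ψ w - Algebra.TensorProduct.lmul' S w) := by
        rw [map_add, map_add]
        ring
      rw [this]
      exact Ideal.add_mem _ hz hw
  have hε : IsUnit (ψ t) := by
    have h1 := hdiff t
    rw [ht2] at h1
    have h2 : ψ t - 1 ∈ Ideal.jacobson (⊥ : Ideal R) := by
      rw [Ideal.jacobson_bot]
      exact h1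
    exact Ideal.isUnit_of_sub_one_mem_jacobson_bot _ h2
  have h0 : (x - lam x) * ψ t = 0 := by
    have := congrArg ψ (ht1 x)
    rw [map_mul, map_sub, map_zero, hψ, Algebra.TensorProduct.productMap_apply_tmul,
      Algebra.TensorProduct.productMap_apply_tmul, lamAlgHom_apply, lamAlgHom_apply,
      AlgHom.id_apply, AlgHom.id_apply, map_one, one_mul, mul_one] at this
    exact this
  have h1 : x - lam x = 0 := (hε.mul_left_eq_zero).mp h0
  exact (sub_eq_zero.mp h1).symm

include hS in
/-- If `lam` is the identity modulo the Jacobson radical and `S` is nontrivial, then `R` is not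
quadratic etale over `S`. -/
theorem not_isQuadEtale_of_forall_sub_mem_jacobson [Nontrivial S]
    (h : ∀ r : R, lam r - r ∈ Ring.jacobson R) : ¬ RInv.IsQuadEtale S R := by
  rintro ⟨hfin, _, hunr, hrank⟩
  have hid : ∀ x, lam x = x := lam_eq_self_of_forall_sub_mem_jacobson lam hS h
  have hbij : Function.Bijective (Algebra.linearMap S R) := by
    refine ⟨hS.1, fun x => ?_⟩
    obtain ⟨s, hs⟩ := (hS.2 x).mp (hid x)
    exact ⟨s, hs⟩
  let e : S ≃ₗ[S] R := LinearEquiv.ofBijective (Algebra.linearMap S R) hbij
  obtain ⟨m, hm⟩ := Ideal.exists_maximal S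
  let p : PrimeSpectrum S := ⟨m, hm.isPrime⟩
  have h1 := hrank p
  rw [← Module.rankAtStalk_eq_of_equiv e, Module.rankAtStalk_self] at h1
  simp at h1

include hlam hS in
/-- If `S` is local and `R` is quadratic etale over `S`, then some `r - lam r` is a unit. -/
theorem exists_isUnit_sub_of_isQuadEtale [IsLocalRing S] (hq : RInv.IsQuadEtale S R) :
    ∃ r : R, IsUnit (r - lam r) := by
  by_contra hcon
  push Not at hcon
  apply not_isQuadEtale_of_forall_sub_mem_jacobson lam hS _ hq
  intro r
  by_contra hr
  exact hcon r (isUnit_sub_of_notMem_jacobson lam hlam hS r hr)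

end Groth.Agent.Lib.RInvEtale88
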