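import Groth.Agent.Lib.RInvLoc88
import Groth.Agent.Lib.RInvEtale88
import Mathlib.RingTheory.Localization.AtPrime.Basic
import Groth.Agent.S15573

/-!
# Rings with involution: primes over a prime of the fixed ring (helper88)
-/

set_option autoImplicit false
universe u v

namespace Groth.Agent.Lib.RInvPrime88

open RInv Groth.Agent.Lib.RInv88 Groth.Agent.Lib.RInvLoc88
open scoped TensorProduct

variable {S : Type u} {R : Type v} [CommRing S] [CommRing R] [Algebra S R]
  (lam : R ≃+* R) (hlam : Function.Involutive lam) (hS : RInv.IsFixedRing S R lam)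

include hlam hS in
/-- Incomparability: two nested primes of `R` with the same contraction to `S` are equal. -/
theorem eq_of_le_of_comap_eq (q q' : Ideal R) [q.IsPrime] [hq' : q'.IsPrime] (hle : q' ≤ q)
    (hc : q'.comap (algebraMap S R) = q.comap (algebraMap S R)) : q' = q := by
  apply le_antisymm hle
  intro z hz
  by_contra hzq'
  obtain ⟨t, ht⟩ := exists_trace lam hlam hS z
  obtain ⟨n, hn⟩ := exists_norm lam hlam hS z
  have hnq : algebraMap S R n ∈ q := by
    rw [hn]
    exact q.mul_mem_right _ hz
  have hnq' : algebraMap S R n ∈ q' := by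
    have : n ∈ q.comap (algebraMap S R) := hnq
    rw [← hc] at this
    exact this
  -- z * (z - t) = -n
  have h1 : z * (z - algebraMap S R t) ∈ q' := by
    have : z * (z - algebraMap S R t) = -(algebraMap S R n) := by
      rw [ht, hn]
      ring
    rw [this]
    exact q'.neg_mem hnq'
  have h2 : z - algebraMap S R t ∈ q' := (hq'.mem_or_mem h1).resolve_left hzq'
  have h3 : algebraMap S R t ∈ q := by
    have := q.sub_mem hz (hle h2)
    rwa [sub_sub_cancel] at this
  have h4 : algebraMap S R t ∈ q' := by
    have : t ∈ q.comap (algebraMap S R) := h3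
    rw [← hc] at this
    exact this
  apply hzq'
  have := q'.add_mem h2 h4
  rwa [sub_add_cancel] at this

include hlam hS in
/-- Two primes of `R` with the same contraction to `S` are equal or swapped by `lam`. -/
theorem eq_or_eq_comap_of_comap_eq (q q' : Ideal R) [hq : q.IsPrime] [hq' : q'.IsPrime]
    (hc : q'.comap (algebraMap S R) = q.comap (algebraMap S R)) :
    q' = q ∨ q' = q.comap lam := by
  by_contra hcon
  push Not at hcon
  obtain ⟨h1, h2⟩ := hcon
  have hql : (q.comap lam).IsPrime := Ideal.comap_isPrime lam q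
  have hcl : (q.comap lam).comap (algebraMap S R) = q.comap (algebraMap S R) := by
    ext s
    simp only [Ideal.mem_comap]
    rw [lam_algebraMap lam hS]
  have hn1 : ¬ q' ≤ q := fun h => h1 (eq_of_le_of_comap_eq lam hlam hS q q' h hc)
  have hn2 : ¬ q' ≤ q.comap lam :=
    fun h => h2 (eq_of_le_of_comap_eq lam hlam hS (q.comap lam) q' h (hc.trans hcl.symm))
  have hsub : ¬ ((q' : Set R) ⊆ q ∪ (q.comap lam : Ideal R)) := by
    rw [Ideal.subset_union]
    push Not
    exact ⟨hn1, hn2⟩
  rw [Set.not_subset] at hsub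
  obtain ⟨z, hzq', hz⟩ := hsub
  rw [Set.mem_union, not_or] at hz
  obtain ⟨hz1, hz2⟩ := hz
  have hz2' : lam z ∉ q := hz2
  obtain ⟨n, hn⟩ := exists_norm lam hlam hS z
  have hnq' : n ∈ q'.comap (algebraMap S R) := by
    change algebraMap S R n ∈ q'
    rw [hn]
    exact q'.mul_mem_right _ hzq'
  rw [hc] at hnq'
  have hnq : z * lam z ∈ q := hn ▸ hnq'
  rcases hq.mem_or_mem hnq with h | h
  · exact hz1 h
  · exact hz2' h

/-- If `lam r - r ∈ q` for all `r`, then `q` is stable under `lam`. -/
theorem comap_lam_eq_self (q : Ideal R) (h : ∀ r, lam r - r ∈ q) : q.comap lam = q := by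
  ext x
  rw [Ideal.mem_comap]
  constructor
  · intro hx
    have := q.sub_mem hx (h x)
    rwa [sub_sub_cancel] at this
  · intro hx
    have := q.add_mem (h x) hx
    rwa [sub_add_cancel] at this

include hlam hS in
/-- The contraction to `R` of a maximal ideal of `S_p ⊗ R` is a prime of `R` lying over `p`. -/
theorem comap_comap_of_isMaximal (p : Ideal S) [p.IsPrime]
    (𝔐 : Ideal (Localization.AtPrime p ⊗[S] R)) [h𝔐 : 𝔐.IsMaximal] :
    (𝔐.comap (Algebra.TensorProduct.includeRight : R →ₐ[S] Localization.AtPrime p ⊗[S] R)).comap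
      (algebraMap S R) = p := by
  have hfix := isFixedRing_lamBC lam hS (Localization.AtPrime p) p.primeCompl
  have hinv := lamBC_involutive lam hlam hS (Localization.AtPrime p)
  ext s
  simp only [Ideal.mem_comap, Algebra.TensorProduct.includeRight_apply]
  rw [one_tmul_algebraMap]
  constructor
  · intro hs
    by_contra hsp
    have hu : IsUnit (algebraMap S (Localization.AtPrime p) s) :=
      IsLocalization.map_units (Localization.AtPrime p) (⟨s, hsp⟩ : p.primeCompl)
    exact h𝔐.ne_top (Ideal.eq_top_of_isUnit_mem _ hs (hu.map _))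
  · intro hs
    apply algebraMap_mem_of_isMaximal (lamBC lam (Localization.AtPrime p) hS) hinv hfix 𝔐
    rw [← Localization.AtPrime.map_eq_maximalIdeal]
    exact Ideal.mem_map_of_mem _ hs

include hlam hS in
/-- Branch point criterion. -/
theorem not_isQuadEtale_atPrime_iff (p : Ideal S) [hp : p.IsPrime] :
    ¬ RInv.IsQuadEtale (Localization.AtPrime p) (Localization.AtPrime p ⊗[S] R) ↔
      ∃ q : Ideal R, q.IsPrime ∧ q.comap (algebraMap S R) = p ∧
        (∀ q' : Ideal R, q'.IsPrime → q'.comap (algebraMap S R) = p → q' = q) ∧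
        ∀ r : R, lam r - r ∈ q := by
  have hfix := isFixedRing_lamBC lam hS (Localization.AtPrime p) p.primeCompl
  have hinv := lamBC_involutive lam hlam hS (Localization.AtPrime p)
  have hnt : Nontrivial (Localization.AtPrime p ⊗[S] R) :=
    nontrivial_of_nontrivial (lamBC lam (Localization.AtPrime p) hS) hfix
  constructor
  · intro hnq
    -- `lam` is the identity modulo the Jacobson radical
    have hJ : ∀ ρ : Localization.AtPrime p ⊗[S] R,
        lamBC lam (Localization.AtPrime p) hS ρ - ρ ∈ Ring.jacobson _ := by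
      intro ρ
      by_contra hρ
      exact hnq (Groth.Agent.S15573.result _ _ (lamBC lam (Localization.AtPrime p) hS) hinv hfix
        ⟨ρ, isUnit_sub_of_notMem_jacobson (lamBC lam (Localization.AtPrime p) hS) hinv hfix ρ hρ⟩)
    obtain ⟨𝔐, h𝔐⟩ := Ideal.exists_maximal (Localization.AtPrime p ⊗[S] R)
    have hc := comap_comap_of_isMaximal lam hlam hS p 𝔐
    have hmem : ∀ r : R, lam r - r ∈
        𝔐.comap (Algebra.TensorProduct.includeRight : R →ₐ[S] Localization.AtPrime p ⊗[S] R) := by
      intro r
      rw [Ideal.mem_comap, Algebra.TensorProduct.includeRight_apply, TensorProduct.tmul_sub,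
        ← lamBC_tmul lam hS]
      exact Ring.jacobson_le_of_isMaximal 𝔐 (hJ _)
    have hprime : (𝔐.comap
        (Algebra.TensorProduct.includeRight : R →ₐ[S] Localization.AtPrime p ⊗[S] R)).IsPrime :=
      Ideal.comap_isPrime _ _
    refine ⟨_, hprime, hc, ?_, hmem⟩
    intro q' hq' hc'
    rcases eq_or_eq_comap_of_comap_eq lam hlam hS _ q' (hc'.trans hc.symm) with e | e
    · exact e
    · rw [e, comap_lam_eq_self lam _ hmem]
  · rintro ⟨q, hq, hc, huniq, hmem⟩ hqe
    apply Groth.Agent.Lib.RInvEtale88.not_isQuadEtale_of_forall_sub_mem_jacobson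
      (lamBC lam (Localization.AtPrime p) hS) hfix _ hqe
    intro ρ
    rw [Ring.jacobson_eq_sInf_isMaximal, Submodule.mem_sInf]
    intro 𝔐 h𝔐
    have h𝔐max : Ideal.IsMaximal 𝔐 := h𝔐
    have hq' := huniq (Ideal.comap
        (Algebra.TensorProduct.includeRight : R →ₐ[S] Localization.AtPrime p ⊗[S] R) 𝔐)
      (Ideal.comap_isPrime _ _) (comap_comap_of_isMaximal lam hlam hS p 𝔐)
    obtain ⟨⟨r, s⟩, hrs⟩ := IsLocalizedModule.surj p.primeCompl
      (TensorProduct.mk S (Localization.AtPrime p) R 1) ρ
    have hrs' : (s : S) • ρ = (1 : Localization.AtPrime p) ⊗ₜ[S] r := hrs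
    have h1 : (s : S) • (lamBC lam (Localization.AtPrime p) hS ρ - ρ)
        = (1 : Localization.AtPrime p) ⊗ₜ[S] (lam r - r) := by
      rw [smul_sub, ← lamBC_smul, hrs', lamBC_tmul, TensorProduct.tmul_sub]
    have h2 : (1 : Localization.AtPrime p) ⊗ₜ[S] (lam r - r) ∈ 𝔐 := by
      have : lam r - r ∈ Ideal.comap
          (Algebra.TensorProduct.includeRight : R →ₐ[S] Localization.AtPrime p ⊗[S] R) 𝔐 := by
        rw [hq']
        exact hmem r
      exact this
    rw [← h1, ← algebraMap_smul (Localization.AtPrime p) (s : S), Algebra.smul_def] at h2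
    rcases h𝔐max.isPrime.mem_or_mem h2 with h | h
    · exfalso
      have hu : IsUnit (algebraMap S (Localization.AtPrime p) (s : S)) :=
        IsLocalization.map_units (Localization.AtPrime p) s
      exact h𝔐max.ne_top (Ideal.eq_top_of_isUnit_mem _ h (hu.map _))
    · exact h

end Groth.Agent.Lib.RInvPrime88
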