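/-
Symplectic-type normal form for skew-hermitian matrices over a commutative ring with involution
which is trivial modulo the Jacobson radical (helper70).
-/
import Groth.Agent.Lib.RInvHerm

set_option autoImplicit false
universe u v

namespace Groth.Agent.Lib.RInvSymp

open Matrix RInv Groth.Agent.Lib.RInv88 Groth.Agent.Lib.RInvHerm

section

variable {B : Type u} {A : Type v} [CommRing B] [CommRing A] [Algebra B A]
  (lam : A ≃+* A) (hlam : Function.Involutive lam) (hB : IsFixedRing B A lam) [IsLocalRing B]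

/-- the standard-form predicate: `2 × 2` blocks congruent to the standard alternating block -/
def Std {n : ℕ} (M : Matrix (Fin n) (Fin n) A) : Prop :=
  ∀ i j : Fin n,
    (i.val / 2 ≠ j.val / 2 → M i j = 0) ∧
    (i.val / 2 = j.val / 2 → (Even i.val ↔ Even j.val) → M i j ∈ Ring.jacobson A) ∧
    (i.val / 2 = j.val / 2 → Even i.val → ¬ Even j.val → M i j - 1 ∈ Ring.jacobson A) ∧
    (i.val / 2 = j.val / 2 → ¬ Even i.val → Even j.val → M i j + 1 ∈ Ring.jacobson A)

include hlam hB in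
/-- when `lam` is trivial modulo the radical, non-units lie in the radical -/
theorem mem_jacobson_of_not_isUnit (hid : ∀ a : A, lam a - a ∈ Ring.jacobson A) {a : A}
    (ha : ¬ IsUnit a) : a ∈ Ring.jacobson A := by
  obtain ⟨b, hb⟩ := exists_norm lam hlam hB a
  have hbnu : ¬ IsUnit b := by
    intro hbu
    have : IsUnit (a * lam a) := hb ▸ hbu.map (algebraMap B A)
    exact ha (isUnit_of_mul_isUnit_left this)
  have hbm : b ∈ IsLocalRing.maximalIdeal B := (IsLocalRing.mem_maximalIdeal b).2 hbnu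
  have h1 : a * lam a ∈ Ring.jacobson A := hb ▸ algebraMap_mem_jacobson lam hlam hB b hbm
  have h2 : a ^ 2 ∈ Ring.jacobson A := by
    have e : a ^ 2 = a * lam a - a * (lam a - a) := by ring
    rw [e]
    exact Ideal.sub_mem _ h1 (Ideal.mul_mem_left _ _ (hid a))
  have hrad : (Ring.jacobson A).IsRadical := by
    rw [← Ideal.jacobson_bot]; exact Ideal.isRadical_jacobson _
  exact hrad ⟨2, h2⟩

theorem isUnit_add_of_mem_jacobson {u x : A} (hu : IsUnit u) (hx : x ∈ Ring.jacobson A) :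
    IsUnit (u + x) := by
  obtain ⟨w, hw⟩ := hu.exists_right_inv
  have h1 : IsUnit (x * w + 1) := (mem_jacobson_iff x).1 hx w
  have e : u + x = u * (x * w + 1) := by
    calc u + x = u + x * (u * w) := by rw [hw, mul_one]
      _ = u * (x * w + 1) := by ring
  rw [e]
  exact hu.mul h1

/-- the order-preserving splitting of `Fin (n + 2)` -/
def e2 (n : ℕ) : Fin (n + 2) ≃ Fin 2 ⊕ Fin n :=
  (finCongr (add_comm n 2)).trans finSumFinEquiv.symm

theorem e2_symm_inl_val (n : ℕ) (a : Fin 2) : ((e2 n).symm (Sum.inl a)).val = a.val := by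
  simp [e2]

theorem e2_symm_inr_val (n : ℕ) (j : Fin n) : ((e2 n).symm (Sum.inr j)).val = j.val + 2 := by
  simp [e2]

theorem std_of_blocks {n : ℕ} (a' : Matrix (Fin 2) (Fin 2) A) (S' : Matrix (Fin n) (Fin n) A)
    (ha00 : a' 0 0 ∈ Ring.jacobson A) (ha11 : a' 1 1 ∈ Ring.jacobson A)
    (ha01 : a' 0 1 - 1 ∈ Ring.jacobson A) (ha10 : a' 1 0 + 1 ∈ Ring.jacobson A) (hS : Std S') :
    Std ((Matrix.fromBlocks a' 0 0 S').submatrix (e2 n) (e2 n)) := by
  intro i j
  obtain ⟨x, rfl⟩ := (e2 n).symm.surjective i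
  obtain ⟨y, rfl⟩ := (e2 n).symm.surjective j
  simp only [Matrix.submatrix_apply, Equiv.apply_symm_apply]
  rcases x with a | i' <;> rcases y with b | j'
  · simp only [Matrix.fromBlocks_apply₁₁, e2_symm_inl_val, Nat.even_iff]
    fin_cases a <;> fin_cases b <;> simp [ha00, ha11, ha01, ha10]
  · simp only [Matrix.fromBlocks_apply₁₂, e2_symm_inl_val, e2_symm_inr_val, Nat.even_iff,
      Matrix.zero_apply]
    have := a.2
    refine ⟨fun _ => trivial, fun h => ?_, fun h => ?_, fun h => ?_⟩ <;> omega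
  · simp only [Matrix.fromBlocks_apply₂₁, e2_symm_inl_val, e2_symm_inr_val, Nat.even_iff,
      Matrix.zero_apply]
    have := b.2
    refine ⟨fun _ => trivial, fun h => ?_, fun h => ?_, fun h => ?_⟩ <;> omega
  · simp only [Matrix.fromBlocks_apply₂₂, e2_symm_inr_val, Nat.even_iff]
    obtain ⟨h1, h2, h3, h4⟩ := hS i' j'
    simp only [Nat.even_iff] at h2 h3 h4
    refine ⟨fun h => h1 (by omega), fun h h' => h2 (by omega) (by omega),
      fun h h' h'' => h3 (by omega) (by omega) (by omega),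
      fun h h' h'' => h4 (by omega) (by omega) (by omega)⟩


theorem st_submatrix_congr {n m : Type*} [Fintype n] [DecidableEq n] [Fintype m] [DecidableEq m]
    (e' e : n ≃ m) (W : Matrix m m A) (h : Matrix n n A) :
    st lam (W.submatrix e' e) * h * (W.submatrix e' e) =
      (st lam W * (h.submatrix e'.symm e'.symm) * W).submatrix e e := by
  have hh : h = (h.submatrix e'.symm e'.symm).submatrix e' e' := by
    ext i j; simp
  rw [st_submatrix]
  conv_lhs => rw [hh]
  rw [Matrix.submatrix_mul_equiv, Matrix.submatrix_mul_equiv]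

theorem diag_mem_of_skew (hid : ∀ a : A, lam a - a ∈ Ring.jacobson A) (h2 : IsUnit (2 : A))
    {n : Type*} [Fintype n] [DecidableEq n] {h : Matrix n n A} (herm : -st lam h = h) (i : n) :
    h i i ∈ Ring.jacobson A := by
  have h1 : h i i = -lam (h i i) := by
    have := congrFun (congrFun herm i) i
    rw [Matrix.neg_apply, st_apply] at this
    exact this.symm
  have h3 : 2 * h i i ∈ Ring.jacobson A := by
    have e : 2 * h i i = -(lam (h i i) - h i i) := by
      rw [two_mul]; nth_rewrite 1 [h1]; ring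
    rw [e]
    exact Ideal.neg_mem_iff _ |>.2 (hid _)
  obtain ⟨w, hw⟩ := h2.exists_left_inv
  have e : h i i = w * (2 * h i i) := by rw [← mul_assoc, hw, one_mul]
  rw [e]
  exact Ideal.mul_mem_left _ _ h3


include hlam hB in
theorem exists_std (hid : ∀ a : A, lam a - a ∈ Ring.jacobson A) (h2 : IsUnit (2 : A)) :
    ∀ (n : ℕ) (h : Matrix (Fin n) (Fin n) A), IsUnit h → -st lam h = h →
      Even n ∧ ∃ v : Matrix (Fin n) (Fin n) A, IsUnit v ∧ Std (st lam v * h * v) := by
  haveI : Nontrivial A := nontrivial_of_nontrivial lam hB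
  intro n
  induction n using Nat.twoStepInduction with
  | zero =>
    intro h _ _
    exact ⟨by decide, 1, isUnit_one, fun i => i.elim0⟩
  | one =>
    intro h hh herm
    exfalso
    have h1 : IsUnit (h 0 0) := (isUnit_iff_of_unique h).1 hh
    exact notMem_jacobson_of_isUnit h1 (diag_mem_of_skew lam hid h2 herm 0)
  | more n ih _ =>
    intro h hh herm
    have hdiag := diag_mem_of_skew lam hid h2 herm
    -- a unit in the first row
    obtain ⟨j, hj0, hju⟩ : ∃ j : Fin (n + 2), j ≠ 0 ∧ IsUnit (h 0 j) := by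
      by_contra hcon
      push Not at hcon
      have hrow : ∀ j, h 0 j ∈ Ring.jacobson A := by
        intro j
        by_cases hj : j = 0
        · rw [hj]; exact hdiag 0
        · exact mem_jacobson_of_not_isUnit lam hlam hB hid (hcon j hj)
      obtain ⟨g, hg⟩ := hh.exists_right_inv
      have hsum : ∑ j, h 0 j * g j 0 = 1 := by
        have := congrFun (congrFun hg 0) 0
        rwa [Matrix.mul_apply, Matrix.one_apply_eq] at this
      have : (1 : A) ∈ Ring.jacobson A := by
        rw [← hsum]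
        exact Ideal.sum_mem _ (fun j _ => Ideal.mul_mem_right _ _ (hrow j))
      exact notMem_jacobson_of_isUnit isUnit_one this
    have hj1 : (1 : Fin (n + 2)) ≠ 0 := by
      intro h; exact absurd (congrArg Fin.val h) (by simp)
    -- the reindexing
    let e' : Fin (n + 2) ≃ Fin 2 ⊕ Fin n := (Equiv.swap 1 j).trans (e2 n)
    have he0 : e'.symm (Sum.inl 0) = 0 := by
      have h1 : (e2 n).symm (Sum.inl 0) = 0 := Fin.ext (by rw [e2_symm_inl_val]; rfl)
      show (Equiv.swap 1 j).symm ((e2 n).symm (Sum.inl 0)) = 0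
      rw [h1, Equiv.symm_swap, Equiv.swap_apply_of_ne_of_ne hj1.symm hj0.symm]
    have he1 : e'.symm (Sum.inl 1) = j := by
      have h1 : (e2 n).symm (Sum.inl 1) = 1 := Fin.ext (by rw [e2_symm_inl_val]; rfl)
      show (Equiv.swap 1 j).symm ((e2 n).symm (Sum.inl 1)) = j
      rw [h1, Equiv.symm_swap, Equiv.swap_apply_left]
    have hMu : IsUnit (h.submatrix e'.symm e'.symm) := (Matrix.isUnit_submatrix_equiv _ _).2 hh
    have hermM : (-1 : A) • st lam (h.submatrix e'.symm e'.symm) = h.submatrix e'.symm e'.symm := by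
      rw [neg_smul, one_smul, st_submatrix]
      conv_rhs => rw [← herm]
      rfl
    have hM00 : (h.submatrix e'.symm e'.symm) (Sum.inl 0) (Sum.inl 0) = h 0 0 := by
      rw [Matrix.submatrix_apply, he0]
    have hM01 : (h.submatrix e'.symm e'.symm) (Sum.inl 0) (Sum.inl 1) = h 0 j := by
      rw [Matrix.submatrix_apply, he0, he1]
    have hM11 : (h.submatrix e'.symm e'.symm) (Sum.inl 1) (Sum.inl 1) = h j j := by
      rw [Matrix.submatrix_apply, he1]
    set M := h.submatrix e'.symm e'.symm with hMdef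
    have hMb : M = Matrix.fromBlocks M.toBlocks₁₁ M.toBlocks₁₂ M.toBlocks₂₁ M.toBlocks₂₂ :=
      (Matrix.fromBlocks_toBlocks M).symm
    have hMu' : IsUnit (Matrix.fromBlocks M.toBlocks₁₁ M.toBlocks₁₂ M.toBlocks₂₁ M.toBlocks₂₂) := by
      rw [← hMb]; exact hMu
    have hermM' : (-1 : A) • st lam (Matrix.fromBlocks M.toBlocks₁₁ M.toBlocks₁₂ M.toBlocks₂₁
        M.toBlocks₂₂) = Matrix.fromBlocks M.toBlocks₁₁ M.toBlocks₁₂ M.toBlocks₂₁ M.toBlocks₂₂ := by
      rw [← hMb]; exact hermM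
    have ha00 : M.toBlocks₁₁ 0 0 = h 0 0 := hM00
    have ha01 : M.toBlocks₁₁ 0 1 = h 0 j := hM01
    have ha11 : M.toBlocks₁₁ 1 1 = h j j := hM11
    have herma : (-1 : A) • st lam M.toBlocks₁₁ = M.toBlocks₁₁ :=
      ((herm_fromBlocks_iff lam (-1)).1 hermM').1
    have ha10 : M.toBlocks₁₁ 1 0 = -lam (M.toBlocks₁₁ 0 1) := by
      rw [herm_apply lam (-1) herma 1 0]; ring
    have hau : IsUnit M.toBlocks₁₁ := by
      rw [Matrix.isUnit_iff_isUnit_det, Matrix.det_fin_two, ha10]
      have e : M.toBlocks₁₁ 0 0 * M.toBlocks₁₁ 1 1 - M.toBlocks₁₁ 0 1 * -lam (M.toBlocks₁₁ 0 1) =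
          M.toBlocks₁₁ 0 1 * lam (M.toBlocks₁₁ 0 1) + M.toBlocks₁₁ 0 0 * M.toBlocks₁₁ 1 1 := by ring
      rw [e]
      apply isUnit_add_of_mem_jacobson
      · rw [ha01]; exact hju.mul (hju.map lam)
      · rw [ha00]; exact Ideal.mul_mem_right _ _ (hdiag 0)
    obtain ⟨hSu, hermS, v₂, hv₂, hv₂M⟩ := split lam hlam (-1) hermM' hMu' hau
    have hermS' : -st lam (M.toBlocks₂₂ - M.toBlocks₂₁ * M.toBlocks₁₁⁻¹ * M.toBlocks₁₂) =
        M.toBlocks₂₂ - M.toBlocks₂₁ * M.toBlocks₁₁⁻¹ * M.toBlocks₁₂ := by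
      rw [neg_smul, one_smul] at hermS; exact hermS
    obtain ⟨hev, v₃, hv₃, hstd⟩ := ih _ hSu hermS'
    -- normalisation of the corner
    obtain ⟨c, hc⟩ := hju.exists_left_inv
    have hcu : IsUnit c := IsUnit.of_mul_eq_one _ hc
    have hwu : IsUnit (Matrix.diagonal ![1, c] : Matrix (Fin 2) (Fin 2) A) := by
      rw [Matrix.isUnit_iff_isUnit_det, Matrix.det_diagonal, Fin.prod_univ_two]
      simpa using hcu
    have hw_apply : ∀ k l, (st lam (Matrix.diagonal ![1, c]) * M.toBlocks₁₁ *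
        Matrix.diagonal ![1, c]) k l = lam (![1, c] k) * M.toBlocks₁₁ k l * ![1, c] l := by
      intro k l
      rw [st_diagonal, Matrix.mul_diagonal, Matrix.diagonal_mul]
    have hVu : IsUnit (Matrix.fromBlocks (Matrix.diagonal ![1, c]) 0 0 v₃ :
        Matrix (Fin 2 ⊕ Fin n) (Fin 2 ⊕ Fin n) A) :=
      Matrix.isUnit_fromBlocks_zero₂₁.2 ⟨hwu, hv₃⟩
    have hV : st lam (Matrix.fromBlocks (Matrix.diagonal ![1, c]) 0 0 v₃ :
        Matrix (Fin 2 ⊕ Fin n) (Fin 2 ⊕ Fin n) A) *
        Matrix.fromBlocks M.toBlocks₁₁ 0 0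
          (M.toBlocks₂₂ - M.toBlocks₂₁ * M.toBlocks₁₁⁻¹ * M.toBlocks₁₂) *
        Matrix.fromBlocks (Matrix.diagonal ![1, c]) 0 0 v₃ =
        Matrix.fromBlocks (st lam (Matrix.diagonal ![1, c]) * M.toBlocks₁₁ * Matrix.diagonal ![1, c])
          0 0 (st lam v₃ * (M.toBlocks₂₂ - M.toBlocks₂₁ * M.toBlocks₁₁⁻¹ * M.toBlocks₁₂) * v₃) := by
      rw [st_fromBlocks, st_zero, st_zero, Matrix.fromBlocks_multiply, Matrix.fromBlocks_multiply]
      simp only [Matrix.zero_mul, add_zero, Matrix.mul_zero, zero_add]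
    refine ⟨by rw [Nat.even_add]; simp [hev], (v₂ * Matrix.fromBlocks (Matrix.diagonal ![1, c]) 0 0 v₃).submatrix e' (e2 n),
      (Matrix.isUnit_submatrix_equiv _ _).2 (hv₂.mul hVu), ?_⟩
    rw [st_submatrix_congr, ← hMdef, st_mul]
    have e1 : st lam (Matrix.fromBlocks (Matrix.diagonal ![1, c]) 0 0 v₃ :
        Matrix (Fin 2 ⊕ Fin n) (Fin 2 ⊕ Fin n) A) * st lam v₂ * M *
        (v₂ * Matrix.fromBlocks (Matrix.diagonal ![1, c]) 0 0 v₃) =
        st lam (Matrix.fromBlocks (Matrix.diagonal ![1, c]) 0 0 v₃ :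
        Matrix (Fin 2 ⊕ Fin n) (Fin 2 ⊕ Fin n) A) * (st lam v₂ * M * v₂) *
        Matrix.fromBlocks (Matrix.diagonal ![1, c]) 0 0 v₃ := by
      simp only [Matrix.mul_assoc]
    rw [e1]
    rw [hMb, hv₂M, hV]
    apply std_of_blocks _ _ _ _ _ _ hstd
    · rw [hw_apply, ha00]
      exact Ideal.mul_mem_right _ _ (Ideal.mul_mem_left _ _ (hdiag 0))
    · rw [hw_apply, ha11]
      exact Ideal.mul_mem_right _ _ (Ideal.mul_mem_left _ _ (hdiag j))
    · rw [hw_apply, ha01]
      have : lam (![1, c] 0) * h 0 j * ![1, c] 1 - 1 = 0 := by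
        simp only [Matrix.cons_val_zero, Matrix.cons_val_one, map_one, one_mul]
        rw [mul_comm, hc, sub_self]
      rw [this]; exact Ideal.zero_mem _
    · rw [hw_apply, ha10, ha01]
      have : lam (![1, c] 1) * -lam (h 0 j) * ![1, c] 0 + 1 = 0 := by
        simp only [Matrix.cons_val_zero, Matrix.cons_val_one, mul_one]
        rw [mul_neg, ← map_mul, hc, map_one, neg_add_cancel]
      rw [this]; exact Ideal.zero_mem _


end

end Groth.Agent.Lib.RInvSymp
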