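import Groth.Agent.Lib.ThickeningEtH52
import Groth.Agent.Lib.H80TopInv
import Groth.Agent.Lib.EffDescRadicialH52

/-!
# The canonical descent datum on an étale scheme relative to a radicial morphism (helper52)

Let `g : S' ⟶ S` be universally injective (radicial). Then the diagonal `S' ⟶ S' ×_S S'` is a
thickening (surjective closed immersion), and by the topological invariance of étale morphisms
every étale `S'`-scheme `V` carries a unique descent datum relative to `g`:

* `isClosedImmersion_diagonal`, `isUnivHomeo_of_thickening`;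
* `exists_unique_extension`: `j : E ⟶ T` a universal homeomorphism, `q : V ⟶ S'` étale: a lift
  of `j ≫ x` along `q` extends uniquely to a lift of `x`;
* `radDD g V : Desc.SchDD g` with underlying object `V` (`radDD_obj`), characterised by
  `agree_radDD` (the gluing bijection does not change a point over the locus where `x₀ = x₁`);
* `exists_etale_iso_radDD`: for `g` flat, surjective, quasi-compact and radicial, `V ≅ S' ×_S U`
  for an étale `U` over `S` (SGA 1 IX 4.11-type statement; uses S2912 = `EffDescRadicialH52`).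
-/

set_option autoImplicit false
set_option linter.style.haveILetI false
set_option backward.isDefEq.respectTransparency false
set_option backward.isDefEq.respectTransparency.types false

universe u

open CategoryTheory CategoryTheory.Limits AlgebraicGeometry Opposite

namespace Groth.Agent.Lib.RadicialDDH52

open Desc Groth.Agent.Lib.EffDescH52

/-- A surjective closed immersion is a universal homeomorphism. -/
theorem isUnivHomeo_of_thickening {X Y : Scheme.{u}} (i : X ⟶ Y) [IsClosedImmersion i]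
    [Surjective i] : FlatMor.IsUnivHomeo i :=
  (Groth.Agent.Lib.UnivHomeo.iff_isIntegralHom_universallyInjective_surjective i).mpr
    ⟨inferInstance, inferInstance, inferInstance⟩

/-- Lifts to an étale scheme extend uniquely along universal homeomorphisms. -/
theorem exists_unique_extension {E T S' V : Scheme.{u}} (j : E ⟶ T) (hj : FlatMor.IsUnivHomeo j)
    (q : V ⟶ S') [Etale q] (x : T ⟶ S') (v₀ : E ⟶ V) (hv₀ : v₀ ≫ q = j ≫ x) :
    ∃! w : T ⟶ V, w ≫ q = x ∧ j ≫ w = v₀ := by
  haveI : Surjective j := Groth.Agent.Lib.UnivHomeo.surjective hj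
  let p : pullback q x ⟶ T := pullback.snd q x
  let s' : E ⟶ pullback p j :=
    pullback.lift (pullback.lift v₀ j hv₀) (𝟙 E) (by
      change _ ≫ pullback.snd q x = _
      rw [pullback.lift_snd, Category.id_comp])
  have hs' : s' ≫ pullback.snd p j = 𝟙 E := pullback.lift_snd _ _ _
  obtain ⟨s, hs1, hs2⟩ :=
    Groth.Agent.Lib.H80TopInv.exists_section_of_section_baseChange p j hj s' hs'
  refine ⟨s ≫ pullback.fst q x, ⟨?_, ?_⟩, ?_⟩
  · rw [Category.assoc, pullback.condition, ← Category.assoc]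
    change (s ≫ p) ≫ x = x
    rw [hs1, Category.id_comp]
  · rw [← Category.assoc, hs2, Category.assoc]
    have : s' ≫ pullback.fst p j = pullback.lift v₀ j hv₀ := pullback.lift_fst _ _ _
    rw [← Category.assoc, this, pullback.lift_fst]
  · rintro w' ⟨hw'1, hw'2⟩
    refine Groth.Agent.Lib.H80TopInv.eq_of_surjective_comp_eq q _ _ ?_ j ?_
    · rw [hw'1, Category.assoc, pullback.condition, ← Category.assoc]
      change x = (s ≫ p) ≫ x
      rw [hs1, Category.id_comp]
    · rw [hw'2, ← Category.assoc, hs2, Category.assoc]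
      have : s' ≫ pullback.fst p j = pullback.lift v₀ j hv₀ := pullback.lift_fst _ _ _
      rw [← Category.assoc, this, pullback.lift_fst]

section Diagonal

variable {S S' : Scheme.{u}} (g : S' ⟶ S) [UniversallyInjective g]

instance surjective_diagonal : Surjective (pullback.diagonal g) :=
  (UniversallyInjective.iff_diagonal g).mp inferInstance

/-- The diagonal of a radicial morphism is a closed immersion. -/
instance isClosedImmersion_diagonal : IsClosedImmersion (pullback.diagonal g) := by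
  apply IsClosedImmersion.of_isPreimmersion
  rw [Set.range_eq_univ.mpr (pullback.diagonal g).surjective]
  exact isClosed_univ

variable {g}

/-- The locus of `T` where two points `x₀, x₁` of `S'` over the same point of `S` agree:
a thickening of `T`. -/
noncomputable abbrev eqThick {T : Scheme.{u}} (x₀ x₁ : T ⟶ S') (h : x₀ ≫ g = x₁ ≫ g) : Scheme.{u} :=
  pullback (pullback.lift x₀ x₁ h) (pullback.diagonal g)

noncomputable abbrev eqThickι {T : Scheme.{u}} (x₀ x₁ : T ⟶ S') (h : x₀ ≫ g = x₁ ≫ g) :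
    eqThick x₀ x₁ h ⟶ T :=
  pullback.fst (pullback.lift x₀ x₁ h) (pullback.diagonal g)

omit [UniversallyInjective g] in
theorem eqThickι_comp {T : Scheme.{u}} (x₀ x₁ : T ⟶ S') (h : x₀ ≫ g = x₁ ≫ g) :
    eqThickι x₀ x₁ h ≫ x₀ = eqThickι x₀ x₁ h ≫ x₁ := by
  have e := pullback.condition (f := pullback.lift x₀ x₁ h) (g := pullback.diagonal g)
  have e1 := congrArg (· ≫ pullback.fst g g) e
  have e2 := congrArg (· ≫ pullback.snd g g) e
  simp only [Category.assoc, pullback.lift_fst, pullback.lift_snd, pullback.diagonal_fst,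
    pullback.diagonal_snd] at e1 e2
  exact e1.trans e2.symm

omit [UniversallyInjective g] in
theorem exists_fac_eqThickι {T K : Scheme.{u}} (x₀ x₁ : T ⟶ S') (h : x₀ ≫ g = x₁ ≫ g)
    (k : K ⟶ T) (hk : k ≫ x₀ = k ≫ x₁) : ∃ l : K ⟶ eqThick x₀ x₁ h, l ≫ eqThickι x₀ x₁ h = k := by
  refine ⟨pullback.lift k (k ≫ x₀) ?_, pullback.lift_fst _ _ _⟩
  apply pullback.hom_ext
  · simp
  · simp [hk]

theorem isUnivHomeo_eqThickι {T : Scheme.{u}} (x₀ x₁ : T ⟶ S') (h : x₀ ≫ g = x₁ ≫ g) :
    FlatMor.IsUnivHomeo (eqThickι x₀ x₁ h) :=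
  isUnivHomeo_of_thickening _

end Diagonal

section DD

variable {S S' : Scheme.{u}} (g : S' ⟶ S) [UniversallyInjective g] (V : Over S') [Etale V.hom]

/-- Two points of `V` over `x₀`, `x₁` agree where `x₀` and `x₁` do. -/
def Agree {T : Scheme.{u}} (x₀ x₁ : T ⟶ S') (v : Lifts V x₀) (w : Lifts V x₁) : Prop :=
  ∀ ⦃K : Scheme.{u}⦄ (k : K ⟶ T), k ≫ x₀ = k ≫ x₁ → k ≫ v.1 = k ≫ w.1

variable {V}

omit [Etale V.hom] in
theorem Agree.symm {T : Scheme.{u}} {x₀ x₁ : T ⟶ S'} {v : Lifts V x₀} {w : Lifts V x₁}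
    (H : Agree V x₀ x₁ v w) : Agree V x₁ x₀ w v :=
  fun _ k hk => (H k hk.symm).symm

variable {g}

theorem exists_agree {T : Scheme.{u}} (x₀ x₁ : T ⟶ S') (h : x₀ ≫ g = x₁ ≫ g) (v : Lifts V x₀) :
    ∃ w : Lifts V x₁, Agree V x₀ x₁ v w := by
  have hv₀ : (eqThickι x₀ x₁ h ≫ v.1) ≫ V.hom = eqThickι x₀ x₁ h ≫ x₁ := by
    rw [Category.assoc, v.2, eqThickι_comp]
  obtain ⟨w, ⟨hw1, hw2⟩, -⟩ := exists_unique_extension (eqThickι x₀ x₁ h)
    (isUnivHomeo_eqThickι x₀ x₁ h) V.hom x₁ (eqThickι x₀ x₁ h ≫ v.1) hv₀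
  refine ⟨⟨w, hw1⟩, fun K k hk => ?_⟩
  obtain ⟨l, rfl⟩ := exists_fac_eqThickι x₀ x₁ h k hk
  change (l ≫ eqThickι x₀ x₁ h) ≫ v.1 = (l ≫ eqThickι x₀ x₁ h) ≫ w
  rw [Category.assoc, Category.assoc, hw2]

/-- Two lifts over `x₁` which agree after restriction along a surjective morphism are equal. -/
theorem lifts_ext_of_surjective {T E : Scheme.{u}} {x₁ : T ⟶ S'} (w w' : Lifts V x₁) (e : E ⟶ T)
    [Surjective e] (H : e ≫ w.1 = e ≫ w'.1) : w = w' :=
  Subtype.ext (Groth.Agent.Lib.H80TopInv.eq_of_surjective_comp_eq V.hom w.1 w'.1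
    (w.2.trans w'.2.symm) e H)

theorem agree_unique {T : Scheme.{u}} (x₀ x₁ : T ⟶ S') (h : x₀ ≫ g = x₁ ≫ g) (v : Lifts V x₀)
    (w w' : Lifts V x₁) (H : Agree V x₀ x₁ v w) (H' : Agree V x₀ x₁ v w') : w = w' := by
  apply lifts_ext_of_surjective w w' (eqThickι x₀ x₁ h)
  rw [← H _ (eqThickι_comp x₀ x₁ h), ← H' _ (eqThickι_comp x₀ x₁ h)]

variable (g V)

/-- The gluing map of the canonical descent datum. -/
noncomputable def radMap {T : Scheme.{u}} (x₀ x₁ : T ⟶ S') (h : x₀ ≫ g = x₁ ≫ g)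
    (v : Lifts V x₀) : Lifts V x₁ :=
  (exists_agree x₀ x₁ h v).choose

theorem agree_radMap {T : Scheme.{u}} (x₀ x₁ : T ⟶ S') (h : x₀ ≫ g = x₁ ≫ g) (v : Lifts V x₀) :
    Agree V x₀ x₁ v (radMap g V x₀ x₁ h v) :=
  (exists_agree x₀ x₁ h v).choose_spec

theorem radMap_eq_of_agree {T : Scheme.{u}} (x₀ x₁ : T ⟶ S') (h : x₀ ≫ g = x₁ ≫ g)
    (v : Lifts V x₀) (w : Lifts V x₁) (H : Agree V x₀ x₁ v w) : radMap g V x₀ x₁ h v = w :=
  agree_unique x₀ x₁ h v _ _ (agree_radMap g V x₀ x₁ h v) H

/-- **The canonical descent datum on an étale scheme relative to a radicial morphism.** -/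
noncomputable def radDD : SchDD g where
  obj := V
  φ := fun _ x₀ x₁ h =>
    { toFun := radMap g V x₀ x₁ h
      invFun := radMap g V x₁ x₀ h.symm
      left_inv := fun v =>
        radMap_eq_of_agree g V x₁ x₀ h.symm _ v (agree_radMap g V x₀ x₁ h v).symm
      right_inv := fun w =>
        radMap_eq_of_agree g V x₀ x₁ h _ w (agree_radMap g V x₁ x₀ h.symm w).symm }
  φ_natural := fun T T' k x₀ x₁ h h' v v' hv => by
    have hw : (k ≫ (radMap g V x₀ x₁ h v).1) ≫ V.hom = k ≫ x₁ := by
      rw [Category.assoc, (radMap g V x₀ x₁ h v).2]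
    have := radMap_eq_of_agree g V (k ≫ x₀) (k ≫ x₁) h' v' ⟨k ≫ (radMap g V x₀ x₁ h v).1, hw⟩
      (fun K l hl => by
        change l ≫ v'.1 = l ≫ k ≫ (radMap g V x₀ x₁ h v).1
        rw [hv, ← Category.assoc, ← Category.assoc]
        exact agree_radMap g V x₀ x₁ h v (l ≫ k) (by simpa using hl))
    exact congrArg Subtype.val this
  φ_self := fun T x v => radMap_eq_of_agree g V x x rfl v v (fun _ _ _ => rfl)
  φ_comp := fun T x₀ x₁ x₂ h₀₁ h₁₂ v => by
    -- compare on the common thickening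
    let e₀₁ := eqThickι x₀ x₁ h₀₁
    let e₁₂ := eqThickι x₁ x₂ h₁₂
    let e' : pullback e₀₁ e₁₂ ⟶ T := pullback.fst e₀₁ e₁₂ ≫ e₀₁
    have he' : e' = pullback.snd e₀₁ e₁₂ ≫ e₁₂ := pullback.condition
    have h1 : e' ≫ x₀ = e' ≫ x₁ := by
      dsimp only [e']
      rw [Category.assoc, Category.assoc, eqThickι_comp]
    have h2 : e' ≫ x₁ = e' ≫ x₂ := by
      rw [he', Category.assoc, Category.assoc, eqThickι_comp]
    haveI : Surjective e' := by
      dsimp only [e']
      infer_instance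
    apply lifts_ext_of_surjective _ _ e'
    change e' ≫ (radMap g V x₁ x₂ h₁₂ (radMap g V x₀ x₁ h₀₁ v)).1 =
      e' ≫ (radMap g V x₀ x₂ (h₀₁.trans h₁₂) v).1
    rw [← agree_radMap g V x₁ x₂ h₁₂ _ e' h2, ← agree_radMap g V x₀ x₁ h₀₁ v e' h1,
      ← agree_radMap g V x₀ x₂ (h₀₁.trans h₁₂) v e' (h1.trans h2)]

@[simp] theorem radDD_obj : (radDD g V).obj = V := rfl

theorem agree_radDD {T : Scheme.{u}} (x₀ x₁ : T ⟶ S') (h : x₀ ≫ g = x₁ ≫ g) (v : Lifts V x₀) :
    Agree V x₀ x₁ v ((radDD g V).φ x₀ x₁ h v) :=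
  agree_radMap g V x₀ x₁ h v

end DD

section Fpqc

variable {S S' : Scheme.{u}} (g : S' ⟶ S) [Flat g] [Surjective g] [QuasiCompact g]
  [UniversallyInjective g]

/-- A flat, surjective, quasi-compact, radicial morphism is a universal homeomorphism. -/
theorem isUnivHomeo_of_fpqc_radicial : FlatMor.IsUnivHomeo g := by
  intro X' Y' i₁ i₂ g' h
  haveI : Flat g' := MorphismProperty.of_isPullback (P := @Flat) h.flip inferInstance
  haveI : Surjective g' := MorphismProperty.of_isPullback (P := @Surjective) h.flip inferInstance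
  haveI : QuasiCompact g' :=
    MorphismProperty.of_isPullback (P := @QuasiCompact) h.flip inferInstance
  haveI : UniversallyInjective g' :=
    MorphismProperty.of_isPullback (P := @UniversallyInjective) h.flip inferInstance
  have hq : Topology.IsQuotientMap g' := Flat.isQuotientMap_of_surjective g'
  refine ⟨g'.continuous, fun U hU => ?_, g'.injective, g'.surjective⟩
  rw [← hq.isOpen_preimage, Set.preimage_image_eq _ g'.injective]
  exact hU

/-- **Étale schemes descend along radicial fpqc morphisms.** -/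
theorem exists_etale_iso_radDD (V : Over S') [Etale V.hom] :
    ∃ U : Over S, Etale U.hom ∧ Nonempty ((toDD g).obj U ≅ radDD g V) := by
  obtain ⟨U, ⟨e⟩⟩ := exists_iso_of_universallyInjective g (radDD g V)
  refine ⟨U, ?_, ⟨e⟩⟩
  haveI : IsIso e.hom.hom.left := isIso_left_of_isIso e.hom
  have h1 : e.hom.hom.left ≫ V.hom = pullback.fst g U.hom := Over.w e.hom.hom
  have h2 : Etale (pullback.fst g U.hom) := by
    rw [← h1]
    infer_instance
  have hg : (@Surjective ⊓ @Flat ⊓ @QuasiCompact : MorphismProperty Scheme.{u}) g :=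
    ⟨⟨inferInstance, inferInstance⟩, inferInstance⟩
  exact MorphismProperty.of_pullback_fst_of_descendsAlong (P := @Etale)
    (Q := @Surjective ⊓ @Flat ⊓ @QuasiCompact) hg h2

/-- Scheme form: `V ≅ U ×_S S'` over `S'`. -/
theorem exists_etale_pullback_iso {V : Scheme.{u}} (π : V ⟶ S') [Etale π] :
    ∃ (U : Scheme.{u}) (t : U ⟶ S) (_ : Etale t) (e : pullback t g ≅ V),
      e.hom ≫ π = pullback.snd t g := by
  haveI : Etale (Over.mk π).hom := inferInstanceAs (Etale π)
  obtain ⟨U, hU, ⟨e⟩⟩ := exists_etale_iso_radDD g (Over.mk π)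
  haveI : IsIso e.hom.hom.left := isIso_left_of_isIso e.hom
  refine ⟨U.left, U.hom, hU, pullbackSymmetry _ _ ≪≫ asIso e.hom.hom.left, ?_⟩
  have h1 : e.hom.hom.left ≫ π = pullback.fst g U.hom := Over.w e.hom.hom
  simp only [Iso.trans_hom, asIso_hom, Category.assoc, h1]
  exact pullbackSymmetry_hom_comp_fst _ _

end Fpqc

end Groth.Agent.Lib.RadicialDDH52
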