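import Groth.Agent.Lib.RadicialDDH52

/-!
# Descent data relative to a radicial morphism are unique on étale schemes (helper52)

Let `g : S' ⟶ S` be universally injective. For descent data `D`, `D'` relative to `g` with
étale underlying schemes:

* `agree_of_schDD`: the gluing bijection of `D` does not change a point over the locus where
  `x₀ = x₁`;
* `homOfRadicial`: every morphism `D.obj ⟶ D'.obj` over `S'` is a morphism of descent data;
* `isoOfRadicial`: every isomorphism `D.obj ≅ D'.obj` over `S'` is an isomorphism of descent data.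
-/

set_option autoImplicit false
set_option linter.style.haveILetI false
set_option backward.isDefEq.respectTransparency false
set_option backward.isDefEq.respectTransparency.types false

universe u

open CategoryTheory CategoryTheory.Limits AlgebraicGeometry Opposite

namespace Groth.Agent.Lib.RadicialIsoH52

open Desc Groth.Agent.Lib.EffDescH52 Groth.Agent.Lib.RadicialDDH52

variable {S S' : Scheme.{u}} {g : S' ⟶ S}

theorem phi_val_of_eq (D : SchDD g) {T : Scheme.{u}} (x₀ x₁ : T ⟶ S') (hx : x₀ = x₁)
    (h : x₀ ≫ g = x₁ ≫ g) (v : Lifts D.obj x₀) : (D.φ x₀ x₁ h v).1 = v.1 := by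
  subst hx
  rw [D.φ_self]

/-- The gluing bijections of any descent datum do not change a point over the locus where
`x₀ = x₁`. -/
theorem agree_of_schDD (D : SchDD g) {T : Scheme.{u}} (x₀ x₁ : T ⟶ S')
    (h : x₀ ≫ g = x₁ ≫ g) (v : Lifts D.obj x₀) : Agree D.obj x₀ x₁ v (D.φ x₀ x₁ h v) := by
  intro K k hk
  have h' : (k ≫ x₀) ≫ g = (k ≫ x₁) ≫ g := by rw [Category.assoc, Category.assoc, h]
  have hv' : (k ≫ v.1) ≫ D.obj.hom = k ≫ x₀ := by rw [Category.assoc, v.2]
  have h1 := D.φ_natural k x₀ x₁ h h' v ⟨k ≫ v.1, hv'⟩ rfl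
  rw [← h1, phi_val_of_eq D (k ≫ x₀) (k ≫ x₁) hk h' ⟨k ≫ v.1, hv'⟩]

variable [UniversallyInjective g]

/-- Relative to a radicial morphism, every morphism between the (étale) underlying schemes of two
descent data is a morphism of descent data. -/
def homOfRadicial (D D' : SchDD g) [Etale D'.obj.hom] (a : D.obj ⟶ D'.obj) : D ⟶ D' where
  hom := a
  comm := fun T x₀ x₁ h v w hw => by
    have hw' : ((D.φ x₀ x₁ h v).1 ≫ a.left) ≫ D'.obj.hom = x₁ := by
      rw [Category.assoc, Over.w a]
      exact (D.φ x₀ x₁ h v).2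
    have H1 : Agree D'.obj x₀ x₁ w (D'.φ x₀ x₁ h w) := agree_of_schDD D' x₀ x₁ h w
    have H2 : Agree D'.obj x₀ x₁ w ⟨(D.φ x₀ x₁ h v).1 ≫ a.left, hw'⟩ := by
      intro K k hk
      change k ≫ w.1 = k ≫ (D.φ x₀ x₁ h v).1 ≫ a.left
      rw [hw, ← Category.assoc, ← Category.assoc, agree_of_schDD D x₀ x₁ h v k hk]
    exact congrArg Subtype.val (agree_unique x₀ x₁ h w _ _ H1 H2)

@[simp] theorem homOfRadicial_hom (D D' : SchDD g) [Etale D'.obj.hom] (a : D.obj ⟶ D'.obj) :
    (homOfRadicial D D' a).hom = a := rfl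

/-- Relative to a radicial morphism, every isomorphism between the étale underlying schemes of
two descent data is an isomorphism of descent data. -/
def isoOfRadicial (D D' : SchDD g) [Etale D.obj.hom] [Etale D'.obj.hom] (a : D.obj ≅ D'.obj) :
    D ≅ D' where
  hom := homOfRadicial D D' a.hom
  inv := homOfRadicial D' D a.inv
  hom_inv_id := by
    apply SchDD.hom_ext
    simp
  inv_hom_id := by
    apply SchDD.hom_ext
    simp

end Groth.Agent.Lib.RadicialIsoH52
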