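import Mathlib

/-!
# Rado's theorem and the Rado–Horn covering theorem (for abstract submodular rank functions)

* `IsRank ρ` : `ρ : Finset A → ℕ` is monotone, submodular and vanishes on `∅`.
* `rado` : Rado's theorem on independent transversals.
* `rado_horn` : if `|S| ≤ k * ρ S` for all `S`, the ground set is a union of `k` `ρ`-independent sets.
* `isRank_span` : `S ↦ finrank (span (y '' S))` is such a rank function.
-/

namespace Groth.Agent.Lib.Rado38

open Finset

section Rado

variable {A ι : Type*} [DecidableEq A] [DecidableEq ι]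

/-- A matroid-like rank function on finite subsets: monotone, submodular, zero on `∅`. -/
structure IsRank (ρ : Finset A → ℕ) : Prop where
  empty : ρ ∅ = 0
  mono : ∀ ⦃S T : Finset A⦄, S ⊆ T → ρ S ≤ ρ T
  submod : ∀ S T : Finset A, ρ (S ∪ T) + ρ (S ∩ T) ≤ ρ S + ρ T

lemma biUnion_update_of_notMem (𝒜 : ι → Finset A) (j₁ : ι) (B : Finset A) (K : Finset ι)
    (hK : j₁ ∉ K) : K.biUnion (Function.update 𝒜 j₁ B) = K.biUnion 𝒜 := by
  apply Finset.biUnion_congr rfl
  intro j hj
  rw [Function.update_of_ne]
  rintro rfl
  exact hK hj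

lemma biUnion_update_of_mem (𝒜 : ι → Finset A) (j₁ : ι) (B : Finset A) (K : Finset ι)
    (hK : j₁ ∈ K) :
    K.biUnion (Function.update 𝒜 j₁ B) = B ∪ (K.erase j₁).biUnion 𝒜 := by
  conv_lhs => rw [← Finset.insert_erase hK]
  rw [Finset.biUnion_insert, Function.update_self,
    biUnion_update_of_notMem _ _ _ _ (Finset.notMem_erase _ _)]

/-- **Rado's theorem** for a submodular rank function. -/
theorem rado [Nonempty A] {ρ : Finset A → ℕ} (hρ : IsRank ρ) (J : Finset ι) :
    ∀ (n : ℕ) (𝒜 : ι → Finset A), ∑ j ∈ J, (𝒜 j).card = n →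
      (∀ K ⊆ J, K.card ≤ ρ (K.biUnion 𝒜)) →
      ∃ a : ι → A, (∀ j ∈ J, a j ∈ 𝒜 j) ∧ ∀ K ⊆ J, K.card ≤ ρ (K.image a) := by
  intro n
  induction n using Nat.strong_induction_on with
  | _ n ih =>
  intro 𝒜 hn h
  by_cases hB : ∃ j₁ ∈ J, ∃ x₁ ∈ 𝒜 j₁, ∃ x₂ ∈ 𝒜 j₁, x₁ ≠ x₂
  · obtain ⟨j₁, hj₁, x₁, hx₁, x₂, hx₂, hne⟩ := hB
    have key : ∀ x ∈ 𝒜 j₁,
        (∀ K ⊆ J, K.card ≤ ρ (K.biUnion (Function.update 𝒜 j₁ ((𝒜 j₁).erase x)))) →
        ∃ a : ι → A, (∀ j ∈ J, a j ∈ 𝒜 j) ∧ ∀ K ⊆ J, K.card ≤ ρ (K.image a) := by
      intro x hx hK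
      have hlt : ∑ j ∈ J, ((Function.update 𝒜 j₁ ((𝒜 j₁).erase x)) j).card < n := by
        rw [← hn]
        apply Finset.sum_lt_sum
        · intro j _
          by_cases hj : j = j₁
          · subst hj
            rw [Function.update_self]
            exact Finset.card_le_card (Finset.erase_subset _ _)
          · rw [Function.update_of_ne hj]
        · refine ⟨j₁, hj₁, ?_⟩
          rw [Function.update_self]
          exact Finset.card_lt_card (Finset.erase_ssubset hx)
      obtain ⟨a, ha1, ha2⟩ := ih _ hlt _ rfl hK
      refine ⟨a, fun j hj => ?_, ha2⟩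
      have := ha1 j hj
      by_cases hjj : j = j₁
      · subst hjj
        rw [Function.update_self] at this
        exact Finset.mem_of_mem_erase this
      · rwa [Function.update_of_ne hjj] at this
    by_contra hcon
    have f1 : ¬ (∀ K ⊆ J, K.card ≤ ρ (K.biUnion (Function.update 𝒜 j₁ ((𝒜 j₁).erase x₁)))) :=
      fun hK => hcon (key x₁ hx₁ hK)
    have f2 : ¬ (∀ K ⊆ J, K.card ≤ ρ (K.biUnion (Function.update 𝒜 j₁ ((𝒜 j₁).erase x₂)))) :=
      fun hK => hcon (key x₂ hx₂ hK)
    push Not at f1 f2
    obtain ⟨K₁, hK₁, hlt₁⟩ := f1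
    obtain ⟨K₂, hK₂, hlt₂⟩ := f2
    have hm₁ : j₁ ∈ K₁ := by
      by_contra hnm
      rw [biUnion_update_of_notMem _ _ _ _ hnm] at hlt₁
      exact absurd (h K₁ hK₁) (by omega)
    have hm₂ : j₁ ∈ K₂ := by
      by_contra hnm
      rw [biUnion_update_of_notMem _ _ _ _ hnm] at hlt₂
      exact absurd (h K₂ hK₂) (by omega)
    rw [biUnion_update_of_mem _ _ _ _ hm₁] at hlt₁
    rw [biUnion_update_of_mem _ _ _ _ hm₂] at hlt₂
    set K₁' := K₁.erase j₁ with hK₁'
    set K₂' := K₂.erase j₁ with hK₂'
    set S₁ := (𝒜 j₁).erase x₁ ∪ K₁'.biUnion 𝒜 with hS₁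
    set S₂ := (𝒜 j₁).erase x₂ ∪ K₂'.biUnion 𝒜 with hS₂
    have c₁ : K₁.card = K₁'.card + 1 := (Finset.card_erase_add_one hm₁).symm
    have c₂ : K₂.card = K₂'.card + 1 := (Finset.card_erase_add_one hm₂).symm
    have hsub₁ : K₁' ⊆ J := (Finset.erase_subset _ _).trans hK₁
    have hsub₂ : K₂' ⊆ J := (Finset.erase_subset _ _).trans hK₂
    have hnot : j₁ ∉ K₁' ∪ K₂' := by
      simp [hK₁', hK₂']
    have hU : (insert j₁ (K₁' ∪ K₂')).biUnion 𝒜 ⊆ S₁ ∪ S₂ := by
      intro a ha
      rw [Finset.biUnion_insert, Finset.mem_union] at ha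
      rcases ha with ha | ha
      · by_cases hax : a = x₁
        · subst hax
          exact Finset.mem_union_right _
            (Finset.mem_union_left _ (Finset.mem_erase.mpr ⟨hne, ha⟩))
        · exact Finset.mem_union_left _
            (Finset.mem_union_left _ (Finset.mem_erase.mpr ⟨hax, ha⟩))
      · rw [Finset.mem_biUnion] at ha
        obtain ⟨j, hj, haj⟩ := ha
        rcases Finset.mem_union.mp hj with hj | hj
        · exact Finset.mem_union_left _
            (Finset.mem_union_right _ (Finset.mem_biUnion.mpr ⟨j, hj, haj⟩))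
        · exact Finset.mem_union_right _
            (Finset.mem_union_right _ (Finset.mem_biUnion.mpr ⟨j, hj, haj⟩))
    have hI : (K₁' ∩ K₂').biUnion 𝒜 ⊆ S₁ ∩ S₂ := by
      intro a ha
      rw [Finset.mem_biUnion] at ha
      obtain ⟨j, hj, haj⟩ := ha
      rw [Finset.mem_inter] at hj
      exact Finset.mem_inter.mpr
        ⟨Finset.mem_union_right _ (Finset.mem_biUnion.mpr ⟨j, hj.1, haj⟩),
         Finset.mem_union_right _ (Finset.mem_biUnion.mpr ⟨j, hj.2, haj⟩)⟩
    have e1 : (insert j₁ (K₁' ∪ K₂')).card ≤ ρ (S₁ ∪ S₂) :=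
      (h _ (Finset.insert_subset hj₁ (Finset.union_subset hsub₁ hsub₂))).trans (hρ.mono hU)
    have e2 : (K₁' ∩ K₂').card ≤ ρ (S₁ ∩ S₂) :=
      (h _ (Finset.inter_subset_left.trans hsub₁)).trans (hρ.mono hI)
    rw [Finset.card_insert_of_notMem hnot] at e1
    have e3 := Finset.card_union_add_card_inter K₁' K₂'
    have e4 := hρ.submod S₁ S₂
    omega
  · push Not at hB
    have hne : ∀ j ∈ J, (𝒜 j).Nonempty := by
      intro j hj
      by_contra hemp
      rw [Finset.not_nonempty_iff_eq_empty] at hemp
      have := h {j} (Finset.singleton_subset_iff.mpr hj)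
      rw [Finset.singleton_biUnion, hemp, hρ.empty] at this
      simp at this
    classical
    let a : ι → A := fun j => if hj : (𝒜 j).Nonempty then hj.choose else Classical.arbitrary A
    have ha : ∀ j ∈ J, 𝒜 j = {a j} := by
      intro j hj
      have hj' := hne j hj
      have haj : a j ∈ 𝒜 j := by
        simp only [a, dif_pos hj']
        exact hj'.choose_spec
      apply Finset.eq_singleton_iff_unique_mem.mpr
      exact ⟨haj, fun x hx => hB j hj x hx (a j) haj⟩
    refine ⟨a, fun j hj => ?_, fun K hK => ?_⟩
    · rw [ha j hj]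
      exact Finset.mem_singleton_self _
    · have : K.biUnion 𝒜 = K.image a := by
        rw [← Finset.biUnion_singleton]
        exact Finset.biUnion_congr rfl (fun j hj => ha j (hK hj))
      rw [← this]
      exact h K hK

end Rado

section RadoHorn

variable {E : Type*} [Fintype E] [DecidableEq E]

/-- The `i`-th slice of a subset of `E × Fin k`. -/
def slice {k : ℕ} (S : Finset (E × Fin k)) (i : Fin k) : Finset E :=
  univ.filter (fun e => (e, i) ∈ S)

@[simp] lemma mem_slice {k : ℕ} (S : Finset (E × Fin k)) (i : Fin k) (e : E) :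
    e ∈ slice S i ↔ (e, i) ∈ S := by
  simp [slice]

/-- The `k`-fold sum of a rank function, on `E × Fin k`. -/
def sumRank (ρ : Finset E → ℕ) (k : ℕ) (S : Finset (E × Fin k)) : ℕ :=
  ∑ i, ρ (slice S i)

lemma isRank_sumRank {ρ : Finset E → ℕ} (hρ : IsRank ρ) (k : ℕ) : IsRank (sumRank ρ k) where
  empty := by
    unfold sumRank
    apply Finset.sum_eq_zero
    intro i _
    have : slice (∅ : Finset (E × Fin k)) i = ∅ := by
      ext e
      simp
    rw [this, hρ.empty]
  mono := by
    intro S T hST
    unfold sumRank
    apply Finset.sum_le_sum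
    intro i _
    apply hρ.mono
    intro e he
    rw [mem_slice] at he ⊢
    exact hST he
  submod := by
    intro S T
    unfold sumRank
    rw [← Finset.sum_add_distrib, ← Finset.sum_add_distrib]
    apply Finset.sum_le_sum
    intro i _
    have h1 : slice (S ∪ T) i = slice S i ∪ slice T i := by
      ext e
      simp
    have h2 : slice (S ∩ T) i = slice S i ∩ slice T i := by
      ext e
      simp
    rw [h1, h2]
    exact hρ.submod _ _

/-- **Rado–Horn theorem**: if `|S| ≤ k * ρ S` for every finite `S`, then the ground set can be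
partitioned into `k` classes on each of which `ρ` equals the cardinality. -/
theorem rado_horn {ρ : Finset E → ℕ} (hρ : IsRank ρ) (hcard : ∀ S, ρ S ≤ S.card) (k : ℕ)
    (h : ∀ S : Finset E, S.card ≤ k * ρ S) :
    ∃ c : E → Fin k, ∀ i : Fin k,
      ρ (univ.filter (fun e => c e = i)) = (univ.filter (fun e => c e = i)).card := by
  rcases isEmpty_or_nonempty E with hE | hE
  · refine ⟨isEmptyElim, fun i => ?_⟩
    rw [Finset.eq_empty_of_isEmpty (univ.filter _), hρ.empty, Finset.card_empty]
  · have hk : 0 < k := by
      by_contra hk0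
      have hk0 : k = 0 := by omega
      have := h univ
      rw [hk0, zero_mul] at this
      have hpos : 0 < (univ : Finset E).card := Finset.card_pos.mpr Finset.univ_nonempty
      omega
    have : Nonempty (E × Fin k) := ⟨(hE.some, ⟨0, hk⟩)⟩
    obtain ⟨a, ha1, ha2⟩ := rado (isRank_sumRank hρ k) (univ : Finset E) _
      (fun e => ({e} : Finset E) ×ˢ (univ : Finset (Fin k))) rfl (by
        intro K _
        have hs : ∀ i : Fin k,
            slice (K.biUnion (fun e => ({e} : Finset E) ×ˢ (univ : Finset (Fin k)))) i = K := by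
          intro i
          ext e
          simp
        unfold sumRank
        simp only [hs, Finset.sum_const, Finset.card_univ, Fintype.card_fin, smul_eq_mul]
        exact h K)
    have hfst : ∀ e, (a e).1 = e := by
      intro e
      have := ha1 e (Finset.mem_univ _)
      rw [Finset.mem_product, Finset.mem_singleton] at this
      exact this.1
    refine ⟨fun e => (a e).2, fun i => ?_⟩
    set C := univ.filter (fun e => (a e).2 = i) with hC
    have h2 := ha2 C (Finset.subset_univ _)
    have hs : ∀ i' : Fin k, slice (C.image a) i' = if i' = i then C else ∅ := by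
      intro i'
      ext e
      rw [mem_slice, Finset.mem_image]
      constructor
      · rintro ⟨e', he', hae'⟩
        have h1 : e' = e := by
          rw [← hfst e', hae']
        have h3 : (a e').2 = i' := by rw [hae']
        rw [hC, Finset.mem_filter] at he'
        have h4 : i' = i := by rw [← h3]; exact he'.2
        rw [if_pos h4, hC, Finset.mem_filter]
        exact ⟨Finset.mem_univ _, by rw [← h1]; exact he'.2⟩
      · intro he
        by_cases h4 : i' = i
        · rw [if_pos h4] at he
          refine ⟨e, he, ?_⟩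
          rw [hC, Finset.mem_filter] at he
          exact Prod.ext (hfst e) (by rw [h4]; exact he.2)
        · rw [if_neg h4] at he
          simp at he
    have hsum : sumRank ρ k (C.image a) = ρ C := by
      unfold sumRank
      rw [Finset.sum_eq_single i]
      · rw [hs, if_pos rfl]
      · intro i' _ hi'
        rw [hs, if_neg hi', hρ.empty]
      · intro hi
        exact absurd (Finset.mem_univ _) hi
    rw [hsum] at h2
    exact le_antisymm (hcard C) h2

end RadoHorn

section Span

set_option linter.unusedSectionVars false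

variable (K : Type*) {V : Type*} [Field K] [AddCommGroup V] [Module K V]
variable {E : Type*} [DecidableEq E]

/-- The linear rank function of a family of vectors. -/
noncomputable def spanRank (y : E → V) (S : Finset E) : ℕ :=
  Module.finrank K (Submodule.span K (y '' (S : Set E)))

variable [FiniteDimensional K V]

lemma isRank_spanRank (y : E → V) : IsRank (spanRank K y) where
  empty := by
    unfold spanRank
    simp
  mono := by
    intro S T hST
    unfold spanRank
    apply Submodule.finrank_mono
    apply Submodule.span_mono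
    exact Set.image_mono (Finset.coe_subset.mpr hST)
  submod := by
    intro S T
    unfold spanRank
    have h1 : Submodule.span K (y '' ((S ∪ T : Finset E) : Set E)) =
        Submodule.span K (y '' (S : Set E)) ⊔ Submodule.span K (y '' (T : Set E)) := by
      rw [Finset.coe_union, Set.image_union, Submodule.span_union]
    have h2 : Submodule.span K (y '' ((S ∩ T : Finset E) : Set E)) ≤
        Submodule.span K (y '' (S : Set E)) ⊓ Submodule.span K (y '' (T : Set E)) := by
      apply le_inf
      · exact Submodule.span_mono (Set.image_mono (Finset.coe_subset.mpr Finset.inter_subset_left))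
      · exact Submodule.span_mono (Set.image_mono (Finset.coe_subset.mpr Finset.inter_subset_right))
    rw [h1]
    have h3 := Submodule.finrank_sup_add_finrank_inf_eq
      (Submodule.span K (y '' (S : Set E))) (Submodule.span K (y '' (T : Set E)))
    have h4 := Submodule.finrank_mono h2
    omega

lemma spanRank_le_card (y : E → V) (S : Finset E) : spanRank K y S ≤ S.card := by
  classical
  unfold spanRank
  rw [← Finset.coe_image]
  exact (finrank_span_finset_le_card (R := K) (S.image y)).trans Finset.card_image_le

lemma spanRank_le_finrank (y : E → V) (S : Finset E) : spanRank K y S ≤ Module.finrank K V :=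
  Submodule.finrank_le _

lemma range_restrict (y : E → V) (S : Finset E) :
    Set.range (fun e : S => y e) = y '' (S : Set E) := by
  ext v
  simp

lemma linearIndependent_iff_spanRank_eq (y : E → V) (S : Finset E) :
    LinearIndependent K (fun e : S => y e) ↔ spanRank K y S = S.card := by
  rw [linearIndependent_iff_card_eq_finrank_span, Fintype.card_coe, Set.finrank, range_restrict]
  unfold spanRank
  exact eq_comm

end Span

section Cover

variable (K : Type*) {V : Type*} [Field K] [AddCommGroup V] [Module K V] [FiniteDimensional K V]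

/-- Covering by bases: if the multiplicities `c j` of the vectors `x j` satisfy the Rado–Horn
inequalities for `t` classes and sum to `dim V * t`, then there are `t` index sets which are
bases and which together contain each `j` exactly `c j` times. -/
theorem exists_cover {ι : Type*} [Fintype ι] [DecidableEq ι] (x : ι → V)
    [∀ L : Submodule K V, DecidablePred (fun j => x j ∈ L)] (c : ι → ℕ) (t : ℕ)
    (htot : ∑ j, c j = Module.finrank K V * t)
    (H : ∀ L : Submodule K V,
      ∑ j ∈ univ.filter (fun j => x j ∈ L), c j ≤ t * Module.finrank K L) :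
    ∃ P : Multiset (Finset ι), Multiset.card P = t ∧
      (∀ S ∈ P, S.card = Module.finrank K V ∧ LinearIndependent K (fun j : S => x j)) ∧
      ∀ j, Multiset.card (P.filter (fun S => j ∈ S)) = c j := by
  classical
  set r := Module.finrank K V with hr
  let E := Σ j : ι, Fin (c j)
  let y : E → V := fun e => x e.1
  have hRH : ∀ S : Finset E, S.card ≤ t * spanRank K y S := by
    intro S
    set L := Submodule.span K (y '' (S : Set E)) with hL
    have hsub : S ⊆ (univ.filter (fun j => x j ∈ L)).sigma (fun _ => univ) := by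
      intro e he
      rw [Finset.mem_sigma]
      refine ⟨?_, Finset.mem_univ _⟩
      rw [Finset.mem_filter]
      exact ⟨Finset.mem_univ _, Submodule.subset_span ⟨e, he, rfl⟩⟩
    calc S.card ≤ _ := Finset.card_le_card hsub
      _ = ∑ j ∈ univ.filter (fun j => x j ∈ L), c j := by
        rw [Finset.card_sigma]
        simp
      _ ≤ t * Module.finrank K L := H L
  obtain ⟨col, hcol⟩ := rado_horn (isRank_spanRank K y) (spanRank_le_card K y) t hRH
  set C : Fin t → Finset E := fun I => univ.filter (fun e => col e = I) with hC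
  have hCle : ∀ I, (C I).card ≤ r := fun I => by
    rw [← hcol I]
    exact spanRank_le_finrank K y _
  have hsumC : ∑ I, (C I).card = r * t := by
    rw [← htot]
    have h1 : ∑ I, (C I).card = (univ : Finset E).card :=
      (Finset.card_eq_sum_card_fiberwise (f := col) (s := univ) (t := univ)
        (fun _ _ => Finset.mem_univ _)).symm
    rw [h1, Finset.card_univ, Fintype.card_sigma]
    simp
  have hCeq : ∀ I, (C I).card = r := by
    have h1 := (Finset.sum_eq_sum_iff_of_le (s := univ) (f := fun I => (C I).card)
      (g := fun _ => r) (fun I _ => hCle I)).mp (by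
        rw [hsumC]
        simp [mul_comm])
    intro I
    exact h1 I (Finset.mem_univ _)
  set T : Fin t → Finset ι := fun I => (C I).image Sigma.fst with hT
  have himg : ∀ I, x '' (T I : Set ι) = y '' (C I : Set E) := by
    intro I
    rw [hT]
    simp only [Finset.coe_image, Set.image_image]
    rfl
  have hTrank : ∀ I, spanRank K x (T I) = r := by
    intro I
    have h1 : spanRank K x (T I) = spanRank K y (C I) := by
      unfold spanRank
      rw [himg I]
    rw [h1]
    exact (hcol I).trans (hCeq I)
  have hTcard : ∀ I, (T I).card = r := by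
    intro I
    apply le_antisymm
    · rw [← hCeq I]
      exact Finset.card_image_le
    · rw [← hTrank I]
      exact spanRank_le_card K x _
  refine ⟨(univ : Finset (Fin t)).val.map T, by simp, ?_, ?_⟩
  · intro S hS
    rw [Multiset.mem_map] at hS
    obtain ⟨I, _, rfl⟩ := hS
    exact ⟨hTcard I,
      (linearIndependent_iff_spanRank_eq K x _).mpr ((hTrank I).trans (hTcard I).symm)⟩
  · intro j
    rw [Multiset.filter_map, Multiset.card_map]
    have h1 : Multiset.filter ((fun S => j ∈ S) ∘ T) (univ : Finset (Fin t)).val =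
        (univ.filter (fun I => j ∈ T I)).val := by
      rw [Finset.filter_val]
      rfl
    rw [h1, Finset.card_val]
    have h2 : (univ.filter (fun I => j ∈ T I)) =
        (univ : Finset (Fin (c j))).image (fun l => col ⟨j, l⟩) := by
      ext I
      simp only [Finset.mem_filter, Finset.mem_univ, true_and, Finset.mem_image, hT]
      constructor
      · rintro ⟨⟨j', l⟩, he, hj⟩
        simp only at hj
        subst hj
        refine ⟨l, ?_⟩
        rw [hC] at he
        simpa using he
      · rintro ⟨l, rfl⟩
        exact ⟨⟨j, l⟩, by simp [hC], rfl⟩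
    rw [h2, Finset.card_image_of_injective, Finset.card_univ, Fintype.card_fin]
    intro l l' hll
    have hinj : Set.InjOn Sigma.fst (C (col ⟨j, l⟩) : Set E) :=
      Finset.card_image_iff.mp ((hTcard _).trans (hCeq _).symm)
    have m1 : (⟨j, l⟩ : E) ∈ (C (col ⟨j, l⟩) : Set E) := by
      simp only [hC, Finset.coe_filter, Finset.mem_univ, true_and]
      exact rfl
    have m2 : (⟨j, l'⟩ : E) ∈ (C (col ⟨j, l⟩) : Set E) := by
      simp only [hC, Finset.coe_filter, Finset.mem_univ, true_and]
      exact hll.symm
    have h3 := @hinj ⟨j, l⟩ m1 ⟨j, l'⟩ m2 rfl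
    simpa using h3

end Cover

section Count

/-- Double counting incidences between a multiset of finite sets and a finite set. -/
lemma double_count {α : Type*} [DecidableEq α] (P : Multiset (Finset α)) (J : Finset α) :
    (P.map (fun S => (S ∩ J).card)).sum =
      ∑ j ∈ J, Multiset.card (P.filter (fun S => j ∈ S)) := by
  induction P using Multiset.induction_on with
  | empty => simp
  | cons S P ih =>
    rw [Multiset.map_cons, Multiset.sum_cons, ih]
    have h1 : ∀ j, Multiset.card ((S ::ₘ P).filter (fun S => j ∈ S)) =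
        (if j ∈ S then 1 else 0) + Multiset.card (P.filter (fun S => j ∈ S)) := by
      intro j
      by_cases hj : j ∈ S
      · rw [Multiset.filter_cons_of_pos (p := fun S => j ∈ S) _ hj, Multiset.card_cons, if_pos hj,
          add_comm]
      · rw [Multiset.filter_cons_of_neg (p := fun S => j ∈ S) _ hj, if_neg hj, zero_add]
    simp_rw [h1, Finset.sum_add_distrib]
    congr 1
    rw [Finset.sum_boole, Finset.filter_mem_eq_inter, Finset.inter_comm]
    simp

variable (K : Type*) {V : Type*} [Field K] [AddCommGroup V] [Module K V] [FiniteDimensional K V]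

lemma card_inter_le_finrank {ι : Type*} [DecidableEq ι] (x : ι → V) (S : Finset ι)
    (hS : LinearIndependent K (fun j : S => x j)) (L : Submodule K V) (J : Finset ι)
    (hJ : ∀ j ∈ J, x j ∈ L) : (S ∩ J).card ≤ Module.finrank K L := by
  have hli : LinearIndependent K (fun j : (S ∩ J : Finset ι) => x j) := by
    have := hS.comp (fun j : (S ∩ J : Finset ι) => (⟨j.1, Finset.mem_of_mem_inter_left j.2⟩ : S))
      (by
        intro a b hab
        apply Subtype.ext
        exact congrArg (fun z : S => (z : ι)) hab)
    exact this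
  rw [← (linearIndependent_iff_spanRank_eq K x _).mp hli]
  unfold spanRank
  apply Submodule.finrank_mono
  rw [Submodule.span_le]
  rintro _ ⟨j, hj, rfl⟩
  exact hJ j (Finset.mem_of_mem_inter_right hj)

lemma sum_ite_eq_sub {m : ℕ} (i : Fin (m + 1)) (N N₀ : ℕ) (hle : N₀ ≤ N) :
    (∑ j : Fin (m + 1), if j = i then N - N₀ else N) + N₀ = (m + 1) * N := by
  rw [← Finset.add_sum_erase _ _ (Finset.mem_univ i), if_pos rfl]
  have h1 : ∑ j ∈ (univ : Finset (Fin (m + 1))).erase i, (if j = i then N - N₀ else N) =
      ∑ j ∈ (univ : Finset (Fin (m + 1))).erase i, N := by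
    apply Finset.sum_congr rfl
    intro j hj
    rw [if_neg (Finset.ne_of_mem_erase hj)]
  rw [h1, Finset.sum_const, Finset.card_erase_of_mem (Finset.mem_univ _), Finset.card_univ,
    Fintype.card_fin, smul_eq_mul, Nat.add_sub_cancel]
  have : N - N₀ + N₀ = N := Nat.sub_add_cancel hle
  rw [add_assoc, add_comm (m * N), ← add_assoc, this]
  ring

/-- The easy direction: a covering by bases with nearly constant multiplicities forces
stability. -/
theorem stable_of_cover {m : ℕ} (x : Fin (m + 1) → V) (N N₀ : ℕ) (hN₀ : 0 < N₀) (hle : N₀ ≤ N)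
    (hP : ∀ i : Fin (m + 1), ∃ P : Multiset (Finset (Fin (m + 1))), P ≠ 0 ∧
      (∀ S ∈ P, S.card = Module.finrank K V ∧ LinearIndependent K (fun j : S => x j)) ∧
      ∀ j : Fin (m + 1),
        Multiset.card (P.filter (fun S => j ∈ S)) = if j = i then N - N₀ else N)
    (L : Submodule K V) (hL0 : L ≠ ⊥) (hL1 : L ≠ ⊤) [DecidablePred (fun i => x i ∈ L)] :
    (univ.filter (fun i => x i ∈ L)).card * Module.finrank K V <
      Module.finrank K L * (m + 1) := by
  set r := Module.finrank K V with hr
  set d := Module.finrank K L with hd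
  set J := univ.filter (fun i => x i ∈ L) with hJ
  have hdr : d < r := Submodule.finrank_lt hL1
  have hd0 : 0 < d := Nat.pos_of_ne_zero (fun h => hL0 (Submodule.finrank_eq_zero.mp h))
  have hJL : ∀ j ∈ J, x j ∈ L := fun j hj => (Finset.mem_filter.mp hj).2
  -- some vector is outside `L`
  obtain ⟨i, hi⟩ : ∃ i, x i ∉ L := by
    by_contra hcon
    push Not at hcon
    obtain ⟨P, hP0, hPS, -⟩ := hP 0
    obtain ⟨S, hS⟩ := Multiset.exists_mem_of_ne_zero hP0
    have h1 := card_inter_le_finrank K x S (hPS S hS).2 L univ (fun j _ => hcon j)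
    rw [Finset.inter_univ, (hPS S hS).1] at h1
    omega
  obtain ⟨P, hP0, hPS, hPc⟩ := hP i
  have e1 : J.card * N ≤ Multiset.card P * d := by
    have h1 := double_count P J
    have h2 : ∑ j ∈ J, Multiset.card (P.filter (fun S => j ∈ S)) = J.card * N := by
      rw [Finset.sum_congr rfl (g := fun _ => N)]
      · rw [Finset.sum_const, smul_eq_mul]
      · intro j hj
        rw [hPc j, if_neg]
        rintro rfl
        exact hi (hJL j hj)
    have h3 : (P.map (fun S => (S ∩ J).card)).sum ≤ (P.map (fun _ => d)).sum := by
      apply Multiset.sum_map_le_sum_map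
      intro S hS
      exact card_inter_le_finrank K x S (hPS S hS).2 L J hJL
    rw [Multiset.map_const', Multiset.sum_replicate, smul_eq_mul] at h3
    omega
  have e2 : Multiset.card P * r + N₀ = (m + 1) * N := by
    have h1 := double_count P univ
    have h2 : (P.map (fun S => (S ∩ univ).card)) = P.map (fun _ => r) := by
      apply Multiset.map_congr rfl
      intro S hS
      rw [Finset.inter_univ, (hPS S hS).1]
    rw [h2, Multiset.map_const', Multiset.sum_replicate, smul_eq_mul] at h1
    rw [h1, Finset.sum_congr rfl (fun j _ => hPc j)]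
    exact sum_ite_eq_sub i N N₀ hle
  by_contra hcon
  push Not at hcon
  have h1 : d * (m + 1) * N ≤ J.card * r * N := Nat.mul_le_mul_right N hcon
  have h2 : J.card * N * r ≤ Multiset.card P * d * r := Nat.mul_le_mul_right r e1
  have h3 : d * (Multiset.card P * r) + d * N₀ = d * ((m + 1) * N) := by
    rw [← mul_add, e2]
  have h4 : 0 < d * N₀ := Nat.mul_pos hd0 hN₀
  have h5 : J.card * r * N = J.card * N * r := by ring
  have h6 : Multiset.card P * d * r = d * (Multiset.card P * r) := by ring
  have h7 : d * (m + 1) * N = d * ((m + 1) * N) := by ring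
  omega

end Count

end Groth.Agent.Lib.Rado38
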