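import Mathlib
import Groth.Prelude.Def_W4c1limliniiiiRamP1

/-!
# Self-maps of P^1 with three ramification points (Osserman): elementary polynomial algebra

helper75.  Schubert spaces `Asp d a e` (polynomials of degree ≤ d divisible by `(X-a)^e`),
their dimension, pairwise intersections, Wronskian divisibility and degree bounds.
-/

set_option autoImplicit false
set_option linter.unusedSectionVars false

namespace Groth.Agent.Lib.RamP175

open Polynomial W4c1limliniiii

universe u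

section basic

variable {k : Type u} [Field k]

/-- the sum of root multiplicities over a finite set of points is at most the degree. -/
theorem sum_rootMult_le (S : Finset k) {Q : k[X]} (_hQ : Q ≠ 0) :
    ∑ a ∈ S, rootMultiplicity a Q ≤ Q.natDegree := by
  classical
  calc ∑ a ∈ S, rootMultiplicity a Q = ∑ a ∈ S, Q.roots.count a := by
        apply Finset.sum_congr rfl
        intro a _
        rw [count_roots]
    _ ≤ ∑ a ∈ S ∪ Q.roots.toFinset, Q.roots.count a :=
        Finset.sum_le_sum_of_subset Finset.subset_union_left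
    _ = Multiset.card Q.roots := by
        apply Multiset.sum_count_eq_card
        intro a ha
        exact Finset.mem_union_right _ (Multiset.mem_toFinset.2 ha)
    _ ≤ Q.natDegree := card_roots' Q

/-- family version -/
theorem sum_rootMult_le' {ι : Type*} [Fintype ι] (P : ι → k) (hP : Function.Injective P)
    {Q : k[X]} (hQ : Q ≠ 0) : ∑ i, rootMultiplicity (P i) Q ≤ Q.natDegree := by
  classical
  have := sum_rootMult_le (Finset.univ.image P) hQ
  rwa [Finset.sum_image (fun a _ b _ h => hP h)] at this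

/-- if `(X - P i)^(m i)` divides `Q` for an injective family `P` and `∑ m i > deg Q` then `Q = 0` -/
theorem eq_zero_of_pow_dvd {ι : Type*} [Fintype ι] (P : ι → k) (hP : Function.Injective P)
    (m : ι → ℕ) {Q : k[X]} (N : ℕ) (hdeg : Q.natDegree ≤ N)
    (hdvd : ∀ i, (X - C (P i)) ^ m i ∣ Q) (hsum : N < ∑ i, m i) : Q = 0 := by
  by_contra hQ
  have h1 : ∑ i, m i ≤ ∑ i, rootMultiplicity (P i) Q :=
    Finset.sum_le_sum fun i _ => (le_rootMultiplicity_iff hQ).2 (hdvd i)
  have h2 := sum_rootMult_le' P hP hQ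
  omega

/-- Schubert space: polynomials of degree `≤ d` divisible by `(X - a)^e`. -/
noncomputable def Asp (d : ℕ) (a : k) (e : ℕ) : Submodule k k[X] :=
  degreeLE k d ⊓ (Ideal.span {(X - C a) ^ e}).restrictScalars k

theorem mem_Asp {d : ℕ} {a : k} {e : ℕ} {s : k[X]} :
    s ∈ Asp d a e ↔ s ∈ degreeLE k d ∧ (X - C a) ^ e ∣ s := by
  rw [Asp, Submodule.mem_inf, Submodule.restrictScalars_mem, Ideal.mem_span_singleton]

theorem natDegree_le_of_mem_degreeLE {d : ℕ} {s : k[X]} (hs : s ∈ degreeLE k d) :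
    s.natDegree ≤ d :=
  natDegree_le_of_degree_le (mem_degreeLE.1 hs)

theorem mem_degreeLE_of_natDegree_le {d : ℕ} {s : k[X]} (hs : s.natDegree ≤ d) :
    s ∈ degreeLE k d :=
  mem_degreeLE.2 (degree_le_of_natDegree_le hs)

theorem mem_Asp_of_rootMult {d : ℕ} {a : k} {e : ℕ} {s : k[X]} (hs : s ∈ degreeLE k d)
    (hs0 : s ≠ 0) (he : e ≤ rootMultiplicity a s) : s ∈ Asp d a e :=
  mem_Asp.2 ⟨hs, (le_rootMultiplicity_iff hs0).1 he⟩

theorem rootMult_of_mem_Asp {d : ℕ} {a : k} {e : ℕ} {s : k[X]} (hs : s ∈ Asp d a e)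
    (hs0 : s ≠ 0) : e ≤ rootMultiplicity a s :=
  (le_rootMultiplicity_iff hs0).2 (mem_Asp.1 hs).2

theorem Asp_le (d : ℕ) (a : k) (e : ℕ) : Asp d a e ≤ degreeLE k d := inf_le_left

instance finite_degreeLE (d : ℕ) : Module.Finite k (degreeLE k d) := by
  rw [← degreeLT_succ_eq_degreeLE]
  exact Module.Finite.equiv (degreeLTEquiv k (d + 1)).symm

theorem finrank_degreeLT (n : ℕ) : Module.finrank k (degreeLT k n) = n := by
  rw [(degreeLTEquiv k n).finrank_eq, Module.finrank_fin_fun]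

theorem finrank_degreeLE (d : ℕ) : Module.finrank k (degreeLE k d) = d + 1 := by
  rw [← degreeLT_succ_eq_degreeLE, finrank_degreeLT]

instance finite_Asp (d : ℕ) (a : k) (e : ℕ) : Module.Finite k (Asp d a e) :=
  Submodule.finiteDimensional_of_le (Asp_le d a e)

/-- distinct points: the Schubert spaces meet trivially when `e + e' > d`. -/
theorem Asp_inf_Asp {d : ℕ} {a b : k} (hab : a ≠ b) {e e' : ℕ} (h : d < e + e') :
    Asp d a e ⊓ Asp d b e' = ⊥ := by
  rw [eq_bot_iff]
  intro s hs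
  rw [Submodule.mem_inf, mem_Asp, mem_Asp] at hs
  rw [Submodule.mem_bot]
  refine eq_zero_of_pow_dvd ![a, b] ?_ ![e, e'] d (natDegree_le_of_mem_degreeLE hs.1.1) ?_ ?_
  · intro i j hij
    fin_cases i <;> fin_cases j <;> simp_all
  · intro i
    fin_cases i
    · exact hs.1.2
    · exact hs.2.2
  · simpa [Fin.sum_univ_two] using h

theorem disjoint_Asp {d : ℕ} {a b : k} (hab : a ≠ b) {e e' : ℕ} (h : d < e + e')
    {s : k[X]} (hs : s ∈ Asp d a e) (hs' : s ∈ Asp d b e') : s = 0 := by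
  have : s ∈ Asp d a e ⊓ Asp d b e' := ⟨hs, hs'⟩
  rw [Asp_inf_Asp hab h] at this
  exact this

/-- lower bound for the dimension of a Schubert space -/
theorem le_finrank_Asp (d : ℕ) (a : k) (e : ℕ) (he : e ≤ d + 1) :
    d + 1 - e ≤ Module.finrank k (Asp d a e) := by
  have hne : (X - C a) ^ e ≠ 0 := pow_ne_zero _ (X_sub_C_ne_zero a)
  have hinj : Function.Injective (LinearMap.mulLeft k ((X - C a) ^ e)) := by
    intro x y hxy
    exact mul_left_cancel₀ hne hxy
  have hle : (degreeLT k (d + 1 - e)).map (LinearMap.mulLeft k ((X - C a) ^ e)) ≤ Asp d a e := by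
    rintro _ ⟨u, hu, rfl⟩
    rw [mem_Asp]
    refine ⟨?_, dvd_mul_right _ _⟩
    rw [LinearMap.mulLeft_apply]
    by_cases hu0 : u = 0
    · rw [hu0, mul_zero]; exact Submodule.zero_mem _
    apply mem_degreeLE_of_natDegree_le
    have h1 : u.natDegree < d + 1 - e := by
      have := mem_degreeLT.1 hu
      exact (natDegree_lt_iff_degree_lt hu0).2 this
    rw [natDegree_mul hne hu0, natDegree_pow, natDegree_X_sub_C]
    omega
  have h1 : Module.finrank k ((degreeLT k (d + 1 - e)).map (LinearMap.mulLeft k ((X - C a) ^ e)))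
      = Module.finrank k (degreeLT k (d + 1 - e)) :=
    (Submodule.equivMapOfInjective _ hinj _).finrank_eq.symm
  rw [finrank_degreeLT] at h1
  rw [← h1]
  exact Submodule.finrank_mono (R := k) (M := k[X]) hle

end basic

section wronskian

variable {R : Type u} [CommRing R]

theorem pow_pred_dvd_wronskian_left {q s : R[X]} {m : ℕ} (h : q ^ m ∣ s) (t : R[X]) :
    q ^ (m - 1) ∣ wronskian s t := by
  rw [wronskian]
  apply dvd_sub
  · exact Dvd.dvd.mul_right ((pow_dvd_pow q (Nat.sub_le m 1)).trans h) _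
  · exact Dvd.dvd.mul_right (pow_sub_one_dvd_derivative_of_pow_dvd h) _

theorem pow_pred_dvd_wronskian_right {q s : R[X]} {m : ℕ} (h : q ^ m ∣ s) (t : R[X]) :
    q ^ (m - 1) ∣ wronskian t s := by
  rw [← wronskian_neg_eq]
  exact (dvd_neg).2 (pow_pred_dvd_wronskian_left h t)

theorem pow_dvd_wronskian_left {q s t : R[X]} {m : ℕ} (h : q ^ m ∣ s) (ht : q ∣ t) :
    q ^ m ∣ wronskian s t := by
  rw [wronskian]
  apply dvd_sub
  · exact Dvd.dvd.mul_right h _
  · rcases Nat.eq_zero_or_pos m with hm | hm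
    · rw [hm, pow_zero]; exact one_dvd _
    · have h1 := pow_sub_one_dvd_derivative_of_pow_dvd h
      have h2 : q ^ m = q ^ (m - 1) * q := by
        rw [← pow_succ]; congr 1; omega
      rw [h2]
      exact mul_dvd_mul h1 ht

theorem pow_dvd_wronskian_right {q s t : R[X]} {m : ℕ} (h : q ^ m ∣ s) (ht : q ∣ t) :
    q ^ m ∣ wronskian t s := by
  rw [← wronskian_neg_eq]
  exact (dvd_neg).2 (pow_dvd_wronskian_left h ht)

theorem wronskian_mul_mul (m F G : R[X]) :
    wronskian (m * F) (m * G) = m ^ 2 * wronskian F G := by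
  simp only [wronskian, derivative_mul]
  ring

theorem wronskian_smul_add_smul (F G : R[X]) (α β γ δ : R) :
    wronskian (α • F + β • G) (γ • F + δ • G) = (α * δ - β * γ) • wronskian F G := by
  simp only [wronskian, smul_eq_C_mul, derivative_add, derivative_mul, derivative_C, zero_mul,
    zero_add, map_sub, map_mul]
  ring

end wronskian

section degree

variable {k : Type u} [Field k]

/-- the Wronskian of two polynomials of degree `≤ d` has degree `≤ 2d - 2`. -/
theorem natDegree_wronskian_add_two_le {d : ℕ} {F G : k[X]} (hF : F.natDegree ≤ d)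
    (hG : G.natDegree ≤ d) (hW : wronskian F G ≠ 0) :
    (wronskian F G).natDegree + 2 ≤ 2 * d := by
  have h0 := natDegree_wronskian_lt_add hW
  by_cases h1 : F.natDegree < d
  · omega
  by_cases h2 : G.natDegree < d
  · omega
  have hFd : F.natDegree = d := by omega
  have hGd : G.natDegree = d := by omega
  have hF0 : F ≠ 0 := by
    rintro rfl; exact hW (wronskian_zero_left _)
  have hG0 : G ≠ 0 := by
    rintro rfl; exact hW (wronskian_zero_right _)
  set c : k := G.leadingCoeff / F.leadingCoeff with hc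
  have hlcF : F.leadingCoeff ≠ 0 := leadingCoeff_ne_zero.2 hF0
  have hlcG : G.leadingCoeff ≠ 0 := leadingCoeff_ne_zero.2 hG0
  have hc0 : c ≠ 0 := div_ne_zero hlcG hlcF
  set G₁ : k[X] := G - C c * F with hG₁
  have hW1 : wronskian F G₁ = wronskian F G := by
    simp only [hG₁, wronskian, derivative_sub, derivative_mul, derivative_C, zero_mul, zero_add]
    ring
  have hG10 : G₁ ≠ 0 := by
    intro h
    rw [h, wronskian_zero_right] at hW1
    exact hW hW1.symm
  have hdeg : G₁.degree < G.degree := by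
    apply degree_sub_lt_left
    · rw [degree_C_mul hc0, degree_eq_natDegree hF0, degree_eq_natDegree hG0, hFd, hGd]
    · exact hG0
    · rw [leadingCoeff_mul, leadingCoeff_C, hc, div_mul_cancel₀ _ hlcF]
  have hnat : G₁.natDegree < d := by
    rw [← hGd]
    exact natDegree_lt_natDegree hG10 hdeg
  have h3 : (wronskian F G₁).natDegree < F.natDegree + G₁.natDegree :=
    natDegree_wronskian_lt_add (by rw [hW1]; exact hW)
  rw [hW1] at h3
  omega

end degree

section three

variable {k : Type u} [Field k]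

/-- independent pairs span a plane -/
theorem finrank_span_pair {F G : k[X]} (h : ∀ α β : k, α • F + β • G = 0 → α = 0 ∧ β = 0) :
    Module.finrank k (Submodule.span k ({F, G} : Set k[X])) = 2 := by
  have hli : LinearIndependent k ![F, G] := LinearIndependent.pair_iff.2 h
  have := finrank_span_eq_card hli
  have hr : Set.range ![F, G] = ({F, G} : Set k[X]) := by
    ext x
    simp [eq_comm, or_comm]
  rw [hr] at this
  simpa using this

/-- the space of pairs `(F, G)` with `F ∈ A_0`, `G ∈ A_1`, `F + G ∈ A_2`. -/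
noncomputable def Lsp (d : ℕ) (P : Fin 3 → k) (e : Fin 3 → ℕ) : Submodule k (k[X] × k[X]) :=
  ((Asp d (P 0) (e 0)).prod (Asp d (P 1) (e 1))) ⊓
    (Asp d (P 2) (e 2)).comap (LinearMap.fst k k[X] k[X] + LinearMap.snd k k[X] k[X])

theorem mem_Lsp {d : ℕ} {P : Fin 3 → k} {e : Fin 3 → ℕ} {v : k[X] × k[X]} :
    v ∈ Lsp d P e ↔ v.1 ∈ Asp d (P 0) (e 0) ∧ v.2 ∈ Asp d (P 1) (e 1) ∧
      v.1 + v.2 ∈ Asp d (P 2) (e 2) := by
  rw [Lsp, Submodule.mem_inf, Submodule.mem_prod, Submodule.mem_comap]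
  simp only [LinearMap.add_apply, LinearMap.fst_apply, LinearMap.snd_apply, and_assoc]

/-- numerical hypotheses for three points -/
structure Hyp (d : ℕ) (P : Fin 3 → k) (e : Fin 3 → ℕ) : Prop where
  inj : Function.Injective P
  le : ∀ i, e i ≤ d
  sum : e 0 + e 1 + e 2 = 2 * d + 1

variable {d : ℕ} {P : Fin 3 → k} {e : Fin 3 → ℕ}

theorem Hyp.ne01 (h : Hyp d P e) : P 0 ≠ P 1 := fun h' => by
  have := h.inj h'; simp at this
theorem Hyp.ne02 (h : Hyp d P e) : P 0 ≠ P 2 := fun h' => by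
  have := h.inj h'; simp at this
theorem Hyp.ne12 (h : Hyp d P e) : P 1 ≠ P 2 := fun h' => by
  have := h.inj h'; simp at this
theorem Hyp.lt01 (h : Hyp d P e) : d < e 0 + e 1 := by
  have := h.sum; have := h.le 2; omega
theorem Hyp.lt02 (h : Hyp d P e) : d < e 0 + e 2 := by
  have := h.sum; have := h.le 1; omega
theorem Hyp.lt12 (h : Hyp d P e) : d < e 1 + e 2 := by
  have := h.sum; have := h.le 0; omega

theorem Lsp_fst_ne_zero (h : Hyp d P e) {v : k[X] × k[X]} (hv : v ∈ Lsp d P e) (hv0 : v ≠ 0) :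
    v.1 ≠ 0 := by
  intro h1
  obtain ⟨-, h2, h3⟩ := mem_Lsp.1 hv
  rw [h1, zero_add] at h3
  exact hv0 (Prod.ext h1 (disjoint_Asp h.ne12 h.lt12 h2 h3))

theorem Lsp_snd_ne_zero (h : Hyp d P e) {v : k[X] × k[X]} (hv : v ∈ Lsp d P e) (hv0 : v ≠ 0) :
    v.2 ≠ 0 := by
  intro h2
  obtain ⟨h1, -, h3⟩ := mem_Lsp.1 hv
  rw [h2, add_zero] at h3
  exact hv0 (Prod.ext (disjoint_Asp h.ne02 h.lt02 h1 h3) h2)

theorem Lsp_indep (h : Hyp d P e) {v : k[X] × k[X]} (hv : v ∈ Lsp d P e) (hv0 : v ≠ 0)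
    (α β : k) (hab : α • v.1 + β • v.2 = 0) : α = 0 ∧ β = 0 := by
  obtain ⟨h1, h2, -⟩ := mem_Lsp.1 hv
  have hα : α = 0 := by
    by_contra hα
    have e1 : α • v.1 = (-β) • v.2 := by
      rw [neg_smul]; exact eq_neg_of_add_eq_zero_left hab
    have h3 : α • v.1 ∈ Asp d (P 1) (e 1) := by
      rw [e1]; exact Submodule.smul_mem _ _ h2
    have h4 : α • v.1 ∈ Asp d (P 0) (e 0) := Submodule.smul_mem _ _ h1
    have h5 := disjoint_Asp h.ne01 h.lt01 h4 h3
    rcases smul_eq_zero.1 h5 with h6 | h6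
    · exact hα h6
    · exact Lsp_fst_ne_zero h hv hv0 h6
  refine ⟨hα, ?_⟩
  rw [hα, zero_smul, zero_add] at hab
  rcases smul_eq_zero.1 hab with h6 | h6
  · exact h6
  · exact absurd h6 (Lsp_snd_ne_zero h hv hv0)

theorem Lsp_add_ne_zero (h : Hyp d P e) {v : k[X] × k[X]} (hv : v ∈ Lsp d P e) (hv0 : v ≠ 0) :
    v.1 + v.2 ≠ 0 := by
  intro h1
  have := Lsp_indep h hv hv0 1 1 (by simpa using h1)
  exact one_ne_zero this.1

theorem Lsp_finrank_span (h : Hyp d P e) {v : k[X] × k[X]} (hv : v ∈ Lsp d P e) (hv0 : v ≠ 0) :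
    Module.finrank k (Submodule.span k ({v.1, v.2} : Set k[X])) = 2 :=
  finrank_span_pair (Lsp_indep h hv hv0)

theorem Lsp_span_le (v : k[X] × k[X]) (hv : v ∈ Lsp d P e) :
    Submodule.span k ({v.1, v.2} : Set k[X]) ≤ degreeLE k d := by
  obtain ⟨h1, h2, -⟩ := mem_Lsp.1 hv
  rw [Submodule.span_le]
  intro x hx
  rcases hx with rfl | rfl
  · exact Asp_le _ _ _ h1
  · exact Asp_le _ _ _ h2

theorem Lsp_ne_bot (h : Hyp d P e) : Lsp d P e ≠ ⊥ := by
  set A0 := Asp d (P 0) (e 0) with hA0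
  set A1 := Asp d (P 1) (e 1) with hA1
  set A2 := Asp d (P 2) (e 2) with hA2
  have f0 : d + 1 - e 0 ≤ Module.finrank k A0 := le_finrank_Asp d _ _ (by have := h.le 0; omega)
  have f1 : d + 1 - e 1 ≤ Module.finrank k A1 := le_finrank_Asp d _ _ (by have := h.le 1; omega)
  have f2 : d + 1 - e 2 ≤ Module.finrank k A2 := le_finrank_Asp d _ _ (by have := h.le 2; omega)
  have s1 := Submodule.finrank_sup_add_finrank_inf_eq A0 A1
  rw [Asp_inf_Asp h.ne01 h.lt01, finrank_bot, add_zero] at s1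
  have s2 := Submodule.finrank_sup_add_finrank_inf_eq (A0 ⊔ A1) A2
  have hle : (A0 ⊔ A1) ⊔ A2 ≤ degreeLE k d :=
    sup_le (sup_le (Asp_le _ _ _) (Asp_le _ _ _)) (Asp_le _ _ _)
  have s3 := Submodule.finrank_mono (R := k) (M := k[X]) hle
  rw [finrank_degreeLE] at s3
  have hsum := h.sum
  have hl0 := h.le 0
  have hl1 := h.le 1
  have hl2 := h.le 2
  have hpos : 0 < Module.finrank k ↥((A0 ⊔ A1) ⊓ A2) := by omega
  obtain ⟨⟨H, hH⟩, hH0⟩ := Module.finrank_pos_iff_exists_ne_zero.1 hpos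
  have hH0' : H ≠ 0 := fun h0 => hH0 (Subtype.ext h0)
  obtain ⟨hH1, hH2⟩ := Submodule.mem_inf.1 hH
  obtain ⟨F, hF, G, hG, rfl⟩ := Submodule.mem_sup.1 hH1
  intro hbot
  have hmem : (F, G) ∈ Lsp d P e := mem_Lsp.2 ⟨hF, hG, hH2⟩
  rw [hbot, Submodule.mem_bot, Prod.mk_eq_zero] at hmem
  apply hH0'
  rw [hmem.1, hmem.2, add_zero]

/-- cross-multiplication identity: the key uniqueness trick -/
theorem Lsp_cross (h : Hyp d P e) {v w : k[X] × k[X]} (hv : v ∈ Lsp d P e) (hw : w ∈ Lsp d P e) :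
    v.1 * w.2 = w.1 * v.2 := by
  obtain ⟨v1, v2, v3⟩ := mem_Lsp.1 hv
  obtain ⟨w1, w2, w3⟩ := mem_Lsp.1 hw
  rw [mem_Asp] at v1 v2 v3 w1 w2 w3
  have hdeg : ∀ {a b : k[X]}, a ∈ degreeLE k d → b ∈ degreeLE k d → (a * b).natDegree ≤ 2 * d := by
    intro a b ha hb
    have := natDegree_mul_le (p := a) (q := b)
    have := natDegree_le_of_mem_degreeLE ha
    have := natDegree_le_of_mem_degreeLE hb
    omega
  have hQ : v.1 * w.2 - w.1 * v.2 = 0 := by
    refine eq_zero_of_pow_dvd P h.inj e (2 * d) ?_ ?_ ?_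
    · refine (natDegree_sub_le _ _).trans (max_le (hdeg v1.1 w2.1) (hdeg w1.1 v2.1))
    · intro i
      fin_cases i
      · exact dvd_sub (Dvd.dvd.mul_right v1.2 _) (Dvd.dvd.mul_right w1.2 _)
      · exact dvd_sub (Dvd.dvd.mul_left w2.2 _) (Dvd.dvd.mul_left v2.2 _)
      · have : v.1 * w.2 - w.1 * v.2 = v.1 * (w.1 + w.2) - w.1 * (v.1 + v.2) := by ring
        rw [this]
        exact dvd_sub (Dvd.dvd.mul_left w3.2 _) (Dvd.dvd.mul_left v3.2 _)
    · rw [Fin.sum_univ_three, h.sum]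
      omega
  exact sub_eq_zero.1 hQ

/-- every plane in the Schubert intersection comes from a nonzero element of `Lsp`. -/
theorem exists_mem_Lsp (h : Hyp d P e) (V : Submodule k k[X]) (hV : V ≤ degreeLE k d)
    (hfin : Module.finrank k V = 2)
    (hs : ∀ i, ∃ s ∈ V, s ≠ 0 ∧ e i ≤ rootMultiplicity (P i) s) :
    ∃ v ∈ Lsp d P e, v ≠ 0 ∧ Submodule.span k ({v.1, v.2} : Set k[X]) = V := by
  obtain ⟨s0, hs0V, hs00, hs0e⟩ := hs 0
  obtain ⟨s1, hs1V, hs10, hs1e⟩ := hs 1
  obtain ⟨s2, hs2V, hs20, hs2e⟩ := hs 2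
  have m0 : s0 ∈ Asp d (P 0) (e 0) := mem_Asp_of_rootMult (hV hs0V) hs00 hs0e
  have m1 : s1 ∈ Asp d (P 1) (e 1) := mem_Asp_of_rootMult (hV hs1V) hs10 hs1e
  have m2 : s2 ∈ Asp d (P 2) (e 2) := mem_Asp_of_rootMult (hV hs2V) hs20 hs2e
  have : Module.Finite k V := Submodule.finiteDimensional_of_le hV
  have hind : ∀ α β : k, α • s0 + β • s1 = 0 → α = 0 ∧ β = 0 := by
    intro α β hab
    have hα : α = 0 := by
      by_contra hα
      have e1 : α • s0 = (-β) • s1 := by
        rw [neg_smul]; exact eq_neg_of_add_eq_zero_left hab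
      have h3 : α • s0 ∈ Asp d (P 1) (e 1) := by
        rw [e1]; exact Submodule.smul_mem _ _ m1
      have h4 : α • s0 ∈ Asp d (P 0) (e 0) := Submodule.smul_mem _ _ m0
      have h5 := disjoint_Asp h.ne01 h.lt01 h4 h3
      rcases smul_eq_zero.1 h5 with h6 | h6
      · exact hα h6
      · exact hs00 h6
    refine ⟨hα, ?_⟩
    rw [hα, zero_smul, zero_add] at hab
    rcases smul_eq_zero.1 hab with h6 | h6
    · exact h6
    · exact absurd h6 hs10
  have hspanle : Submodule.span k ({s0, s1} : Set k[X]) ≤ V := by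
    rw [Submodule.span_le]
    intro x hx
    rcases hx with rfl | rfl
    · exact hs0V
    · exact hs1V
  have hspan : Submodule.span k ({s0, s1} : Set k[X]) = V :=
    Submodule.eq_of_le_of_finrank_eq hspanle (by rw [finrank_span_pair hind, hfin])
  have hs2span : s2 ∈ Submodule.span k ({s0, s1} : Set k[X]) := by rw [hspan]; exact hs2V
  obtain ⟨a, b, hab⟩ := Submodule.mem_span_pair.1 hs2span
  have ha : a ≠ 0 := by
    rintro rfl
    rw [zero_smul, zero_add] at hab
    have : s2 ∈ Asp d (P 1) (e 1) := by rw [← hab]; exact Submodule.smul_mem _ _ m1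
    exact hs20 (disjoint_Asp h.ne12 h.lt12 this m2)
  have hvL : (a • s0, b • s1) ∈ Lsp d P e :=
    mem_Lsp.2 ⟨Submodule.smul_mem _ _ m0, Submodule.smul_mem _ _ m1, by
      show a • s0 + b • s1 ∈ _
      rw [hab]; exact m2⟩
  have hv0 : (a • s0, b • s1) ≠ (0 : k[X] × k[X]) := by
    intro h0
    have := (Prod.mk_eq_zero.1 h0).1
    rcases smul_eq_zero.1 this with h6 | h6
    · exact ha h6
    · exact hs00 h6
  refine ⟨(a • s0, b • s1), hvL, hv0, ?_⟩
  have hle : Submodule.span k ({a • s0, b • s1} : Set k[X]) ≤ V := by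
    rw [Submodule.span_le]
    intro x hx
    rcases hx with rfl | rfl
    · exact V.smul_mem _ hs0V
    · exact V.smul_mem _ hs1V
  exact Submodule.eq_of_le_of_finrank_eq hle (by
    rw [hfin]; exact Lsp_finrank_span h hvL hv0)

/-- two nonzero elements of `Lsp` spanning the same plane are proportional -/
theorem Lsp_proportional (h : Hyp d P e) {v w : k[X] × k[X]} (hv : v ∈ Lsp d P e)
    (hw : w ∈ Lsp d P e) (hv0 : v ≠ 0)
    (hspan : Submodule.span k ({v.1, v.2} : Set k[X]) = Submodule.span k ({w.1, w.2} : Set k[X])) :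
    ∃ c : k, w = c • v := by
  obtain ⟨v1, v2, v3⟩ := mem_Lsp.1 hv
  obtain ⟨w1, w2, w3⟩ := mem_Lsp.1 hw
  have hw1 : w.1 ∈ Submodule.span k ({v.1, v.2} : Set k[X]) := by
    rw [hspan]; exact Submodule.subset_span (by simp)
  have hw2 : w.2 ∈ Submodule.span k ({v.1, v.2} : Set k[X]) := by
    rw [hspan]; exact Submodule.subset_span (by simp)
  obtain ⟨α, β, hαβ⟩ := Submodule.mem_span_pair.1 hw1
  obtain ⟨γ, δ, hγδ⟩ := Submodule.mem_span_pair.1 hw2
  have hβ : β = 0 := by
    have e1 : β • v.2 = w.1 - α • v.1 := by rw [← hαβ]; ring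
    have h3 : β • v.2 ∈ Asp d (P 0) (e 0) := by
      rw [e1]; exact Submodule.sub_mem _ w1 (Submodule.smul_mem _ _ v1)
    have h4 : β • v.2 ∈ Asp d (P 1) (e 1) := Submodule.smul_mem _ _ v2
    rcases smul_eq_zero.1 (disjoint_Asp h.ne01 h.lt01 h3 h4) with h6 | h6
    · exact h6
    · exact absurd h6 (Lsp_snd_ne_zero h hv hv0)
  have hγ : γ = 0 := by
    have e1 : γ • v.1 = w.2 - δ • v.2 := by rw [← hγδ]; ring
    have h3 : γ • v.1 ∈ Asp d (P 1) (e 1) := by
      rw [e1]; exact Submodule.sub_mem _ w2 (Submodule.smul_mem _ _ v2)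
    have h4 : γ • v.1 ∈ Asp d (P 0) (e 0) := Submodule.smul_mem _ _ v1
    rcases smul_eq_zero.1 (disjoint_Asp h.ne01 h.lt01 h4 h3) with h6 | h6
    · exact h6
    · exact absurd h6 (Lsp_fst_ne_zero h hv hv0)
  rw [hβ, zero_smul, add_zero] at hαβ
  rw [hγ, zero_smul, zero_add] at hγδ
  have hδα : δ = α := by
    have e1 : (δ - α) • v.2 = (w.1 + w.2) - α • (v.1 + v.2) := by
      rw [← hαβ, ← hγδ, sub_smul, smul_add]; ring
    have h3 : (δ - α) • v.2 ∈ Asp d (P 2) (e 2) := by
      rw [e1]; exact Submodule.sub_mem _ w3 (Submodule.smul_mem _ _ v3)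
    have h4 : (δ - α) • v.2 ∈ Asp d (P 1) (e 1) := Submodule.smul_mem _ _ v2
    rcases smul_eq_zero.1 (disjoint_Asp h.ne12 h.lt12 h4 h3) with h6 | h6
    · exact sub_eq_zero.1 h6
    · exact absurd h6 (Lsp_snd_ne_zero h hv hv0)
  refine ⟨α, Prod.ext ?_ ?_⟩
  · exact hαβ.symm
  · rw [← hγδ, hδα]; rfl

theorem hyp_of_admissible {p : ℕ} (hP : Function.Injective P) (he : Admissible p d e) :
    Hyp d P e :=
  ⟨hP, fun i => (he.1 i).2.1, by
    have := he.2
    rw [Fin.sum_univ_three] at this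
    omega⟩

theorem Lsp_members (h : Hyp d P e) {v : k[X] × k[X]} (hv : v ∈ Lsp d P e) (hv0 : v ≠ 0) :
    ∀ i, ∃ s ∈ Submodule.span k ({v.1, v.2} : Set k[X]), s ≠ 0 ∧
      e i ≤ rootMultiplicity (P i) s := by
  obtain ⟨v1, v2, v3⟩ := mem_Lsp.1 hv
  have m1 : v.1 ∈ Submodule.span k ({v.1, v.2} : Set k[X]) := Submodule.subset_span (by simp)
  have m2 : v.2 ∈ Submodule.span k ({v.1, v.2} : Set k[X]) := Submodule.subset_span (by simp)
  intro i
  fin_cases i
  · exact ⟨v.1, m1, Lsp_fst_ne_zero h hv hv0, rootMult_of_mem_Asp v1 (Lsp_fst_ne_zero h hv hv0)⟩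
  · exact ⟨v.2, m2, Lsp_snd_ne_zero h hv hv0, rootMult_of_mem_Asp v2 (Lsp_snd_ne_zero h hv hv0)⟩
  · exact ⟨v.1 + v.2, Submodule.add_mem _ m1 m2, Lsp_add_ne_zero h hv hv0,
      rootMult_of_mem_Asp v3 (Lsp_add_ne_zero h hv hv0)⟩

end three

section separable

variable {k : Type u} [Field k] {d : ℕ} {P : Fin 3 → k} {e : Fin 3 → ℕ}

/-- the Wronskian of a spanning pair is nonzero for a separable plane -/
theorem wronskian_ne_zero_of_isSeparable {F G : k[X]}
    (hsep : IsSeparable (Submodule.span k ({F, G} : Set k[X]))) : wronskian F G ≠ 0 := by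
  obtain ⟨A, hA, B, hB, hW⟩ := hsep
  obtain ⟨α, β, rfl⟩ := Submodule.mem_span_pair.1 hA
  obtain ⟨γ, δ, rfl⟩ := Submodule.mem_span_pair.1 hB
  rw [wronskian_smul_add_smul] at hW
  intro h0
  rw [h0, smul_zero] at hW
  exact hW rfl

theorem isSeparable_span_of_wronskian_ne_zero {F G : k[X]} (h : wronskian F G ≠ 0) :
    IsSeparable (Submodule.span k ({F, G} : Set k[X])) :=
  ⟨F, Submodule.subset_span (by simp), G, Submodule.subset_span (by simp), h⟩

/-- divisibility of the Wronskian of an element of `Lsp` -/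
theorem Lsp_wronskian_dvd {v : k[X] × k[X]} (hv : v ∈ Lsp d P e) (i : Fin 3) :
    (X - C (P i)) ^ (e i - 1) ∣ wronskian v.1 v.2 := by
  obtain ⟨v1, v2, v3⟩ := mem_Lsp.1 hv
  rw [mem_Asp] at v1 v2 v3
  fin_cases i
  · exact pow_pred_dvd_wronskian_left v1.2 _
  · exact pow_pred_dvd_wronskian_right v2.2 _
  · have : wronskian v.1 v.2 = wronskian v.1 (v.1 + v.2) := by
      rw [wronskian_add_right, wronskian_self_eq_zero, zero_add]
    rw [this]
    exact pow_pred_dvd_wronskian_right v3.2 _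

theorem Lsp_natDegree_wronskian {v : k[X] × k[X]} (hv : v ∈ Lsp d P e)
    (hW : wronskian v.1 v.2 ≠ 0) : (wronskian v.1 v.2).natDegree + 2 ≤ 2 * d := by
  obtain ⟨v1, v2, -⟩ := mem_Lsp.1 hv
  exact natDegree_wronskian_add_two_le (natDegree_le_of_mem_degreeLE (Asp_le _ _ _ v1))
    (natDegree_le_of_mem_degreeLE (Asp_le _ _ _ v2)) hW

/-- the Wronskian does not vanish to order `e j` at `P j`. -/
theorem Lsp_wronskian_not_dvd (h : Hyp d P e) (he1 : ∀ i, 1 ≤ e i) {v : k[X] × k[X]}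
    (hv : v ∈ Lsp d P e) (hW : wronskian v.1 v.2 ≠ 0) (j : Fin 3) :
    ¬ (X - C (P j)) ^ (e j) ∣ wronskian v.1 v.2 := by
  intro hdvd
  have hdeg := Lsp_natDegree_wronskian hv hW
  have hsum := h.sum
  have h0 := he1 0
  have h1 := he1 1
  have h2 := he1 2
  apply hW
  refine eq_zero_of_pow_dvd P h.inj (Function.update (fun i => e i - 1) j (e j))
    (2 * d - 2) (by omega) ?_ ?_
  · intro i
    by_cases hij : i = j
    · subst hij
      rw [Function.update_self]
      exact hdvd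
    · rw [Function.update_of_ne hij]
      exact Lsp_wronskian_dvd hv i
  · rw [Fin.sum_univ_three]
    fin_cases j <;> simp [Function.update] <;> omega

/-- the Wronskian does not vanish away from the three points. -/
theorem Lsp_wronskian_not_dvd' (h : Hyp d P e) (he1 : ∀ i, 1 ≤ e i) {v : k[X] × k[X]}
    (hv : v ∈ Lsp d P e) (hW : wronskian v.1 v.2 ≠ 0) (a : k) (ha : ∀ i, a ≠ P i) :
    ¬ (X - C a) ∣ wronskian v.1 v.2 := by
  classical
  intro hdvd
  have hdeg := Lsp_natDegree_wronskian hv hW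
  have hsum := h.sum
  have h0 := he1 0
  have h1 := he1 1
  have h2 := he1 2
  have hnot : a ∉ Finset.univ.image P := by
    intro hmem
    obtain ⟨i, -, hi⟩ := Finset.mem_image.1 hmem
    exact ha i hi.symm
  have key := sum_rootMult_le (insert a (Finset.univ.image P)) hW
  rw [Finset.sum_insert hnot, Finset.sum_image (fun x _ y _ hxy => h.inj hxy),
    Fin.sum_univ_three] at key
  have ra : 1 ≤ rootMultiplicity a (wronskian v.1 v.2) :=
    (le_rootMultiplicity_iff hW).2 (by simpa using hdvd)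
  have r0 := (le_rootMultiplicity_iff hW).2 (Lsp_wronskian_dvd hv 0)
  have r1 := (le_rootMultiplicity_iff hW).2 (Lsp_wronskian_dvd hv 1)
  have r2 := (le_rootMultiplicity_iff hW).2 (Lsp_wronskian_dvd hv 2)
  omega

theorem Lsp_le_natDegree_wronskian (h : Hyp d P e) {v : k[X] × k[X]}
    (hv : v ∈ Lsp d P e) (hW : wronskian v.1 v.2 ≠ 0) :
    (e 0 - 1) + (e 1 - 1) + (e 2 - 1) ≤ (wronskian v.1 v.2).natDegree := by
  have key := sum_rootMult_le' P h.inj hW
  rw [Fin.sum_univ_three] at key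
  have r0 := (le_rootMultiplicity_iff hW).2 (Lsp_wronskian_dvd hv 0)
  have r1 := (le_rootMultiplicity_iff hW).2 (Lsp_wronskian_dvd hv 1)
  have r2 := (le_rootMultiplicity_iff hW).2 (Lsp_wronskian_dvd hv 2)
  omega

/-- a separable plane coming from `Lsp` is a pencil with exactly the prescribed ramification. -/
theorem mem_ramMaps_of_isSeparable (h : Hyp d P e) (he1 : ∀ i, 1 ≤ e i) {v : k[X] × k[X]}
    (hv : v ∈ Lsp d P e) (hv0 : v ≠ 0)
    (hsep : IsSeparable (Submodule.span k ({v.1, v.2} : Set k[X]))) :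
    Submodule.span k ({v.1, v.2} : Set k[X]) ∈ ramMaps d P e := by
  have hW : wronskian v.1 v.2 ≠ 0 := wronskian_ne_zero_of_isSeparable hsep
  obtain ⟨v1, v2, v3⟩ := mem_Lsp.1 hv
  have v1' := mem_Asp.1 v1
  have v2' := mem_Asp.1 v2
  have v3' := mem_Asp.1 v3
  have m1 : v.1 ∈ Submodule.span k ({v.1, v.2} : Set k[X]) := Submodule.subset_span (by simp)
  have m2 : v.2 ∈ Submodule.span k ({v.1, v.2} : Set k[X]) := Submodule.subset_span (by simp)
  have hWadd : wronskian v.1 v.2 = wronskian v.1 (v.1 + v.2) := by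
    rw [wronskian_add_right, wronskian_self_eq_zero, zero_add]
  refine ⟨⟨Lsp_span_le v hv, Lsp_finrank_span h hv hv0, ?_, ?_⟩, hsep, ?_⟩
  · -- a member of degree exactly d
    by_cases hF : v.1.natDegree = d
    · exact ⟨v.1, m1, hF⟩
    by_cases hG : v.2.natDegree = d
    · exact ⟨v.2, m2, hG⟩
    exfalso
    have dF := natDegree_le_of_mem_degreeLE v1'.1
    have dG := natDegree_le_of_mem_degreeLE v2'.1
    have h3 := natDegree_wronskian_lt_add hW
    have h4 := Lsp_le_natDegree_wronskian h hv hW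
    have hsum := h.sum
    have h0 := he1 0
    have h1 := he1 1
    have h2 := he1 2
    omega
  · -- no base points
    intro a
    by_contra hcon
    push Not at hcon
    have hFa : (X - C a) ∣ v.1 := dvd_iff_isRoot.2 (hcon v.1 m1)
    have hGa : (X - C a) ∣ v.2 := dvd_iff_isRoot.2 (hcon v.2 m2)
    by_cases hex : ∃ j, a = P j
    · obtain ⟨j, rfl⟩ := hex
      apply Lsp_wronskian_not_dvd h he1 hv hW j
      fin_cases j
      · exact pow_dvd_wronskian_left v1'.2 hGa
      · exact pow_dvd_wronskian_right v2'.2 hFa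
      · rw [hWadd]
        exact pow_dvd_wronskian_right v3'.2 hFa
    · push Not at hex
      apply Lsp_wronskian_not_dvd' h he1 hv hW a hex
      have := pow_dvd_wronskian_left (m := 1) (by simpa using hFa) hGa
      simpa using this
  · -- exact ramification
    intro i
    refine ⟨Lsp_members h hv hv0 i, ?_⟩
    intro s hs hs0
    by_contra hlt
    push Not at hlt
    have hdvd : (X - C (P i)) ^ (e i + 1) ∣ s := (le_rootMultiplicity_iff hs0).1 hlt
    obtain ⟨α, β, rfl⟩ := Submodule.mem_span_pair.1 hs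
    apply Lsp_wronskian_not_dvd h he1 hv hW i
    by_cases hβ : β = 0
    · have hα : α ≠ 0 := by
        rintro rfl
        apply hs0
        rw [hβ, zero_smul, zero_smul, add_zero]
      have e1 : wronskian (α • v.1 + β • v.2) v.2 = α • wronskian v.1 v.2 := by
        have := wronskian_smul_add_smul v.1 v.2 α β 0 1
        simpa using this
      have h3 : (X - C (P i)) ^ (e i) ∣ α • wronskian v.1 v.2 := by
        rw [← e1]
        exact pow_pred_dvd_wronskian_left hdvd _
      have : wronskian v.1 v.2 = α⁻¹ • (α • wronskian v.1 v.2) := by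
        rw [smul_smul, inv_mul_cancel₀ hα, one_smul]
      rw [this, smul_eq_C_mul]
      exact Dvd.dvd.mul_left h3 _
    · have e1 : wronskian (α • v.1 + β • v.2) v.1 = (-β) • wronskian v.1 v.2 := by
        have := wronskian_smul_add_smul v.1 v.2 α β 1 0
        simpa using this
      have h3 : (X - C (P i)) ^ (e i) ∣ (-β) • wronskian v.1 v.2 := by
        rw [← e1]
        exact pow_pred_dvd_wronskian_left hdvd _
      have hβ' : -β ≠ 0 := neg_ne_zero.2 hβ
      have : wronskian v.1 v.2 = (-β)⁻¹ • ((-β) • wronskian v.1 v.2) := by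
        rw [smul_smul, inv_mul_cancel₀ hβ', one_smul]
      rw [this, smul_eq_C_mul]
      exact Dvd.dvd.mul_left h3 _

end separable

section algClosed

variable {k : Type u} [Field k] [IsAlgClosed k] {d : ℕ} {P : Fin 3 → k} {e : Fin 3 → ℕ}

theorem isCoprime_of_isPencil {F G : k[X]}
    (hV : IsPencil d (Submodule.span k ({F, G} : Set k[X]))) : IsCoprime F G := by
  refine (Polynomial.isCoprime_iff_aeval_ne_zero_of_isAlgClosed k k F G).2 ?_
  intro a
  obtain ⟨s, hs, hsa⟩ := hV.2.2.2 a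
  obtain ⟨α, β, rfl⟩ := Submodule.mem_span_pair.1 hs
  by_contra hcon
  push Not at hcon
  apply hsa
  have h1 : eval a F = 0 := by simpa [coe_aeval_eq_eval] using hcon.1
  have h2 : eval a G = 0 := by simpa [coe_aeval_eq_eval] using hcon.2
  simp [eval_add, eval_smul, h1, h2]

omit [IsAlgClosed k] in
/-- if `v ∈ Lsp` has coprime entries then every `w ∈ Lsp` is a polynomial multiple of `v`. -/
theorem Lsp_exists_mul (h : Hyp d P e) {v w : k[X] × k[X]} (hv : v ∈ Lsp d P e) (hv0 : v ≠ 0)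
    (hw : w ∈ Lsp d P e) (hcop : IsCoprime v.1 v.2) :
    ∃ m : k[X], w.1 = m * v.1 ∧ w.2 = m * v.2 := by
  have hc := Lsp_cross h hv hw
  have h1 : v.1 ∣ w.1 := by
    apply hcop.dvd_of_dvd_mul_right
    rw [← hc]
    exact dvd_mul_right _ _
  obtain ⟨m, hm⟩ := h1
  refine ⟨m, by rw [hm, mul_comm], ?_⟩
  have hv1 : v.1 ≠ 0 := Lsp_fst_ne_zero h hv hv0
  apply mul_left_cancel₀ hv1
  rw [hc, hm]
  ring

omit [IsAlgClosed k] in
theorem span_pair_smul_eq {F G : k[X]} {c : k} (hc : c ≠ 0) :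
    Submodule.span k ({c • F, c • G} : Set k[X]) = Submodule.span k ({F, G} : Set k[X]) := by
  apply le_antisymm
  · rw [Submodule.span_le]
    intro x hx
    rcases hx with rfl | rfl
    · exact Submodule.smul_mem _ _ (Submodule.subset_span (by simp))
    · exact Submodule.smul_mem _ _ (Submodule.subset_span (by simp))
  · have key : ∀ y : k[X], c • y ∈ Submodule.span k ({c • F, c • G} : Set k[X]) →
        y ∈ Submodule.span k ({c • F, c • G} : Set k[X]) := by
      intro y hy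
      have := Submodule.smul_mem _ c⁻¹ hy
      rwa [smul_smul, inv_mul_cancel₀ hc, one_smul] at this
    rw [Submodule.span_le]
    intro x hx
    rcases hx with rfl | rfl
    · exact key _ (Submodule.subset_span (by simp))
    · exact key _ (Submodule.subset_span (by simp))

omit [IsAlgClosed k] in
/-- members of `ramMaps` lie in the Schubert intersection -/
theorem exists_mem_Lsp_of_mem_ramMaps (h : Hyp d P e) {V : Submodule k k[X]}
    (hV : V ∈ ramMaps d P e) :
    ∃ v ∈ Lsp d P e, v ≠ 0 ∧ Submodule.span k ({v.1, v.2} : Set k[X]) = V := by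
  have hV' : IsPencil d V ∧ IsSeparable V ∧ ∀ i, HasRamIdx V (P i) (e i) := hV
  obtain ⟨⟨h1, h2, -, -⟩, -, h3⟩ := hV'
  exact exists_mem_Lsp h V h1 h2 (fun i => (h3 i).1)

omit [IsAlgClosed k] in
theorem mem_ramMaps_iff {V : Submodule k k[X]} :
    V ∈ ramMaps d P e ↔ IsPencil d V ∧ IsSeparable V ∧ ∀ i, HasRamIdx V (P i) (e i) := Iff.rfl

theorem ramMaps_subsingleton (h : Hyp d P e) : (ramMaps d P e).Subsingleton := by
  intro V hV V' hV'
  obtain ⟨v, hv, hv0, rfl⟩ := exists_mem_Lsp_of_mem_ramMaps h hV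
  obtain ⟨w, hw, hw0, rfl⟩ := exists_mem_Lsp_of_mem_ramMaps h hV'
  have c1 := isCoprime_of_isPencil (mem_ramMaps_iff.1 hV).1
  have c2 := isCoprime_of_isPencil (mem_ramMaps_iff.1 hV').1
  obtain ⟨m, hm1, hm2⟩ := Lsp_exists_mul h hv hv0 hw c1
  obtain ⟨m', hm1', hm2'⟩ := Lsp_exists_mul h hw hw0 hv c2
  have hv1 : v.1 ≠ 0 := Lsp_fst_ne_zero h hv hv0
  have hmm : m' * m = 1 := by
    apply mul_right_cancel₀ hv1
    rw [one_mul, mul_assoc, ← hm1, ← hm1']
  have hu : IsUnit m := IsUnit.of_mul_eq_one m' (by rw [mul_comm]; exact hmm)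
  obtain ⟨c, hc, rfl⟩ := Polynomial.isUnit_iff.1 hu
  have hc0 : c ≠ 0 := hc.ne_zero
  rw [hm1, hm2, ← smul_eq_C_mul, ← smul_eq_C_mul, span_pair_smul_eq hc0]

/-- the three-point count: no separable map iff an inseparable plane lies in the Schubert
intersection. -/
theorem ramMaps_eq_empty_iff (h : Hyp d P e) (he1 : ∀ i, 1 ≤ e i) :
    ramMaps d P e = ∅ ↔
      ∃ V : Submodule k k[X], V ≤ Polynomial.degreeLE k d ∧ Module.finrank k V = 2 ∧
        ¬ IsSeparable V ∧ ∀ i, ∃ s ∈ V, s ≠ 0 ∧ e i ≤ Polynomial.rootMultiplicity (P i) s := by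
  constructor
  · intro hempty
    obtain ⟨v, hv, hv0⟩ := Submodule.exists_mem_ne_zero_of_ne_bot (Lsp_ne_bot h)
    refine ⟨Submodule.span k ({v.1, v.2} : Set k[X]), Lsp_span_le v hv, Lsp_finrank_span h hv hv0,
      ?_, Lsp_members h hv hv0⟩
    intro hsep
    have := mem_ramMaps_of_isSeparable h he1 hv hv0 hsep
    rw [hempty] at this
    exact this
  · rintro ⟨V', hV'le, hV'fin, hV'insep, hV'mem⟩
    rw [Set.eq_empty_iff_forall_notMem]
    intro V hV
    obtain ⟨v, hv, hv0, rfl⟩ := exists_mem_Lsp_of_mem_ramMaps h hV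
    obtain ⟨w, hw, hw0, rfl⟩ := exists_mem_Lsp h V' hV'le hV'fin hV'mem
    have c1 := isCoprime_of_isPencil (mem_ramMaps_iff.1 hV).1
    obtain ⟨m, hm1, hm2⟩ := Lsp_exists_mul h hv hv0 hw c1
    have hm0 : m ≠ 0 := by
      rintro rfl
      apply hw0
      exact Prod.ext (by rw [hm1, zero_mul]; rfl) (by rw [hm2, zero_mul]; rfl)
    have hW : wronskian v.1 v.2 ≠ 0 := wronskian_ne_zero_of_isSeparable (mem_ramMaps_iff.1 hV).2.1
    apply hV'insep
    apply isSeparable_span_of_wronskian_ne_zero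
    rw [hm1, hm2, wronskian_mul_mul]
    exact mul_ne_zero (pow_ne_zero _ hm0) hW

end algClosed

section count

variable {k : Type u} [Field k] {d : ℕ} {P : Fin 3 → k} {e : Fin 3 → ℕ}

/-- a polynomial with zero derivative whose positive degrees up to its degree are invertible in
`k` is constant. -/
theorem natDegree_eq_zero_of_derivative_eq_zero' {f : k[X]} (hf : derivative f = 0)
    (hn : ∀ n : ℕ, 0 < n → n ≤ f.natDegree → (n : k) ≠ 0) : f.natDegree = 0 := by
  by_contra h0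
  obtain ⟨n, hn1⟩ : ∃ n, f.natDegree = n + 1 := ⟨f.natDegree - 1, by omega⟩
  have h1 := coeff_derivative f n
  rw [hf, coeff_zero, ← hn1, coeff_natDegree] at h1
  have hf0 : f ≠ 0 := by
    rintro rfl
    simp at h0
  have h2 : ((n : k) + 1) ≠ 0 := by
    have := hn (n + 1) (by omega) (by omega)
    simpa using this
  rcases mul_eq_zero.1 h1.symm with h3 | h3
  · exact leadingCoeff_ne_zero.2 hf0 h3
  · exact h2 h3

theorem natCast_ne_zero_of_le (p : ℕ) [CharP k p] (hp : p = 0 ∨ d < p) (n : ℕ) (h0 : 0 < n)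
    (hnd : n ≤ d) : (n : k) ≠ 0 := by
  intro h
  have hdvd := (CharP.cast_eq_zero_iff k p n).1 h
  rcases hp with hp | hp
  · subst hp
    have := Nat.eq_zero_of_zero_dvd hdvd
    omega
  · have := Nat.le_of_dvd h0 hdvd
    omega

theorem exists_coprime_factor (F G : k[X]) (hF0 : F ≠ 0) :
    ∃ g F₁ G₁ : k[X], g ≠ 0 ∧ F = g * F₁ ∧ G = g * G₁ ∧ IsCoprime F₁ G₁ := by
  classical
  obtain ⟨F₁, hF₁⟩ := EuclideanDomain.gcd_dvd_left F G
  obtain ⟨G₁, hG₁⟩ := EuclideanDomain.gcd_dvd_right F G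
  have hg0 : EuclideanDomain.gcd F G ≠ 0 := by
    intro h0
    rw [h0, zero_mul] at hF₁
    exact hF0 hF₁
  refine ⟨EuclideanDomain.gcd F G, F₁, G₁, hg0, hF₁, hG₁, ?_⟩
  have hb := EuclideanDomain.gcd_eq_gcd_ab F G
  refine ⟨EuclideanDomain.gcdA F G, EuclideanDomain.gcdB F G, ?_⟩
  have key : ∀ (g A B : k[X]), g ≠ 0 → F = g * F₁ → G = g * G₁ → g = F * A + G * B →
      A * F₁ + B * G₁ = 1 := by
    intro g A B hg hF hG hb'
    apply mul_left_cancel₀ hg
    rw [mul_one]
    conv_rhs => rw [hb']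
    rw [hF, hG]
    ring
  exact key _ _ _ hg0 hF₁ hG₁ hb

/-- in characteristic zero or `> d`, two polynomials of degree `≤ d` with vanishing Wronskian are
linearly dependent. -/
theorem dependent_of_wronskian_eq_zero (p : ℕ) [CharP k p] (hp : p = 0 ∨ d < p) {F G : k[X]}
    (hF : F.natDegree ≤ d) (hG : G.natDegree ≤ d) (hF0 : F ≠ 0) (hW : wronskian F G = 0) :
    ∃ α β : k, (α ≠ 0 ∨ β ≠ 0) ∧ α • F + β • G = 0 := by
  classical
  by_cases hG0 : G = 0
  · exact ⟨0, 1, Or.inr one_ne_zero, by rw [hG0, zero_smul, smul_zero, add_zero]⟩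
  obtain ⟨g, F₁, G₁, hg0, hF₁, hG₁, hcop⟩ := exists_coprime_factor F G hF0
  have hW1 : wronskian F₁ G₁ = 0 := by
    have h1 : wronskian F G = g ^ 2 * wronskian F₁ G₁ := by
      rw [hF₁, hG₁]
      exact wronskian_mul_mul _ _ _
    rw [hW] at h1
    rcases mul_eq_zero.1 h1.symm with h2 | h2
    · exact absurd ((pow_eq_zero_iff (two_ne_zero)).1 h2) hg0
    · exact h2
  obtain ⟨dF, dG⟩ := hcop.wronskian_eq_zero_iff.1 hW1
  have hF₁0 : F₁ ≠ 0 := by
    rintro rfl
    rw [mul_zero] at hF₁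
    exact hF0 hF₁
  have hG₁0 : G₁ ≠ 0 := by
    rintro rfl
    rw [mul_zero] at hG₁
    exact hG0 hG₁
  have hdegF : F₁.natDegree ≤ d := by
    have : F.natDegree = g.natDegree + F₁.natDegree := by
      conv_lhs => rw [hF₁]
      exact natDegree_mul hg0 hF₁0
    omega
  have hdegG : G₁.natDegree ≤ d := by
    have : G.natDegree = g.natDegree + G₁.natDegree := by
      conv_lhs => rw [hG₁]
      exact natDegree_mul hg0 hG₁0
    omega
  have cF := natDegree_eq_zero_of_derivative_eq_zero' dF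
    (fun n h0 hn => natCast_ne_zero_of_le p hp n h0 (hn.trans hdegF))
  have cG := natDegree_eq_zero_of_derivative_eq_zero' dG
    (fun n h0 hn => natCast_ne_zero_of_le p hp n h0 (hn.trans hdegG))
  obtain ⟨a, ha⟩ := natDegree_eq_zero.1 cF
  obtain ⟨b, hb⟩ := natDegree_eq_zero.1 cG
  have hb0 : b ≠ 0 := by
    rintro rfl
    rw [map_zero] at hb
    exact hG₁0 hb.symm
  refine ⟨b, -a, Or.inl hb0, ?_⟩
  rw [hF₁, hG₁, ← ha, ← hb, smul_eq_C_mul, smul_eq_C_mul, map_neg]
  ring

/-- in characteristic zero or `> d` every plane in the Schubert intersection is separable. -/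
theorem Lsp_isSeparable (h : Hyp d P e) (p : ℕ) [CharP k p] (hp : p = 0 ∨ d < p)
    {v : k[X] × k[X]} (hv : v ∈ Lsp d P e) (hv0 : v ≠ 0) :
    IsSeparable (Submodule.span k ({v.1, v.2} : Set k[X])) := by
  apply isSeparable_span_of_wronskian_ne_zero
  intro hW
  obtain ⟨v1, v2, -⟩ := mem_Lsp.1 hv
  obtain ⟨α, β, hne, hab⟩ := dependent_of_wronskian_eq_zero p hp
    (natDegree_le_of_mem_degreeLE (Asp_le _ _ _ v1))
    (natDegree_le_of_mem_degreeLE (Asp_le _ _ _ v2)) (Lsp_fst_ne_zero h hv hv0) hW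
  obtain ⟨h1, h2⟩ := Lsp_indep h hv hv0 α β hab
  rcases hne with h3 | h3
  · exact h3 h1
  · exact h3 h2

/-- in characteristic `p` with `e 0, e 1 < p ≤ d` there is an inseparable plane in the Schubert
intersection: `(X - P 2)^(e 2 - p) · ⟨(X - P 0)^p, (X - P 1)^p⟩`. -/
theorem exists_inseparable (h : Hyp d P e) (p : ℕ) [CharP k p] (hp0 : p ≠ 0) (h0 : e 0 < p)
    (h1 : e 1 < p) (hpd : p ≤ d) :
    ∃ V : Submodule k k[X], V ≤ Polynomial.degreeLE k d ∧ Module.finrank k V = 2 ∧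
      ¬ IsSeparable V ∧ ∀ i, ∃ s ∈ V, s ≠ 0 ∧ e i ≤ Polynomial.rootMultiplicity (P i) s := by
  have hprime : p.Prime := (CharP.char_is_prime_or_zero k p).resolve_right hp0
  have : Fact p.Prime := ⟨hprime⟩
  obtain ⟨m, hm⟩ : ∃ m : k[X], m = (X - C (P 2)) ^ (e 2 - p) := ⟨_, rfl⟩
  obtain ⟨A, hA⟩ : ∃ A : k[X], A = (X - C (P 0)) ^ p := ⟨_, rfl⟩
  obtain ⟨B, hB⟩ : ∃ B : k[X], B = (X - C (P 1)) ^ p := ⟨_, rfl⟩
  have hm0 : m ≠ 0 := by rw [hm]; exact pow_ne_zero _ (X_sub_C_ne_zero _)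
  have hA0 : A ≠ 0 := by rw [hA]; exact pow_ne_zero _ (X_sub_C_ne_zero _)
  have hB0 : B ≠ 0 := by rw [hB]; exact pow_ne_zero _ (X_sub_C_ne_zero _)
  have hpk : (C ((p : ℕ) : k) : k[X]) = 0 := by rw [CharP.cast_eq_zero, map_zero]
  have dA : derivative A = 0 := by
    rw [hA, derivative_pow, hpk, zero_mul, zero_mul]
  have dB : derivative B = 0 := by
    rw [hB, derivative_pow, hpk, zero_mul, zero_mul]
  have eFrob : ∀ a : k, (X - C a : k[X]) ^ p = X ^ p - C (a ^ p) := by
    intro a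
    rw [sub_pow_char, ← C_pow]
  have hab : P 0 ^ p - P 1 ^ p ≠ 0 := by
    rw [← sub_pow_char]
    exact pow_ne_zero _ (sub_ne_zero.2 h.ne01)
  obtain ⟨α, hα⟩ : ∃ α : k, α = (P 2 ^ p - P 1 ^ p) / (P 0 ^ p - P 1 ^ p) := ⟨_, rfl⟩
  have key : α * (P 0 ^ p - P 1 ^ p) = P 2 ^ p - P 1 ^ p := by
    rw [hα, div_mul_cancel₀ _ hab]
  have hCexp : (X - C (P 2) : k[X]) ^ p = α • A + (1 - α) • B := by
    have hc : P 2 ^ p = α * P 0 ^ p + (1 - α) * P 1 ^ p := by linear_combination (-1 : k) * key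
    rw [hA, hB, eFrob, eFrob, eFrob, hc]
    simp only [smul_eq_C_mul, map_add, map_mul, map_sub, map_one]
    ring
  have evA0 : eval (P 0) A = 0 := by
    rw [hA]; simp [hp0]
  have evB1 : eval (P 1) B = 0 := by
    rw [hB]; simp [hp0]
  have evA1 : eval (P 1) A ≠ 0 := by
    rw [hA]
    simp only [eval_pow, eval_sub, eval_X, eval_C]
    exact pow_ne_zero _ (sub_ne_zero.2 h.ne01.symm)
  have evB0 : eval (P 0) B ≠ 0 := by
    rw [hB]
    simp only [eval_pow, eval_sub, eval_X, eval_C]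
    exact pow_ne_zero _ (sub_ne_zero.2 h.ne01)
  have hind : ∀ a b : k, a • (m * A) + b • (m * B) = 0 → a = 0 ∧ b = 0 := by
    intro a b hab'
    have h2 : m * (a • A + b • B) = 0 := by
      rw [← hab']
      simp only [smul_eq_C_mul]
      ring
    have h3 : a • A + b • B = 0 := (mul_eq_zero.1 h2).resolve_left hm0
    have e0 := congrArg (eval (P 0)) h3
    have e1 := congrArg (eval (P 1)) h3
    simp only [eval_add, eval_smul, evA0, evB1, smul_eq_mul, mul_zero, zero_add, add_zero,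
      eval_zero] at e0 e1
    exact ⟨(mul_eq_zero.1 e1).resolve_right evA1, (mul_eq_zero.1 e0).resolve_right evB0⟩
  have hdegm : m.natDegree = e 2 - p := by
    rw [hm, natDegree_pow, natDegree_X_sub_C, mul_one]
  have hdegA : A.natDegree = p := by
    rw [hA, natDegree_pow, natDegree_X_sub_C, mul_one]
  have hdegB : B.natDegree = p := by
    rw [hB, natDegree_pow, natDegree_X_sub_C, mul_one]
  have hl2 := h.le 2
  have hmA : m * A ∈ degreeLE k d := by
    apply mem_degreeLE_of_natDegree_le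
    rw [natDegree_mul hm0 hA0, hdegm, hdegA]
    omega
  have hmB : m * B ∈ degreeLE k d := by
    apply mem_degreeLE_of_natDegree_le
    rw [natDegree_mul hm0 hB0, hdegm, hdegB]
    omega
  have mem1 : m * A ∈ Submodule.span k ({m * A, m * B} : Set k[X]) :=
    Submodule.subset_span (by simp)
  have mem2 : m * B ∈ Submodule.span k ({m * A, m * B} : Set k[X]) :=
    Submodule.subset_span (by simp)
  refine ⟨Submodule.span k ({m * A, m * B} : Set k[X]), ?_, finrank_span_pair hind, ?_, ?_⟩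
  · rw [Submodule.span_le]
    intro x hx
    rcases hx with rfl | rfl
    · exact hmA
    · exact hmB
  · rintro ⟨F, hF, G, hG, hW⟩
    obtain ⟨a, b, rfl⟩ := Submodule.mem_span_pair.1 hF
    obtain ⟨c, d', rfl⟩ := Submodule.mem_span_pair.1 hG
    apply hW
    rw [wronskian_smul_add_smul, wronskian_mul_mul]
    have : wronskian A B = 0 := by
      rw [wronskian, dA, dB, mul_zero, zero_mul, sub_zero]
    rw [this, mul_zero, smul_zero]
  · intro i
    fin_cases i
    · refine ⟨m * A, mem1, mul_ne_zero hm0 hA0, ?_⟩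
      refine (le_rootMultiplicity_iff (mul_ne_zero hm0 hA0)).2 ?_
      rw [hA]
      exact Dvd.dvd.mul_left (pow_dvd_pow _ h0.le) _
    · refine ⟨m * B, mem2, mul_ne_zero hm0 hB0, ?_⟩
      refine (le_rootMultiplicity_iff (mul_ne_zero hm0 hB0)).2 ?_
      rw [hB]
      exact Dvd.dvd.mul_left (pow_dvd_pow _ h1.le) _
    · have hs0 : m * (X - C (P 2)) ^ p ≠ 0 :=
        mul_ne_zero hm0 (pow_ne_zero _ (X_sub_C_ne_zero _))
      refine ⟨m * (X - C (P 2)) ^ p, ?_, hs0, ?_⟩
      · have : m * (X - C (P 2)) ^ p = α • (m * A) + (1 - α) • (m * B) := by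
          rw [hCexp]
          simp only [smul_eq_C_mul]
          ring
        rw [this]
        exact Submodule.add_mem _ (Submodule.smul_mem _ _ mem1) (Submodule.smul_mem _ _ mem2)
      · refine (le_rootMultiplicity_iff hs0).2 ?_
        rw [hm, ← pow_add]
        exact pow_dvd_pow _ (show e 2 ≤ e 2 - p + p by omega)

end count

end Groth.Agent.Lib.RamP175
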