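import Groth.Agent.Lib.GaPts

/-!
# Rank-one systems (helper73): computing with `p₊, p₋ : 𝔾_a ⟶ G` and a coroot `α^* : 𝔾_m ⟶ T`

The hypothesis block shared by the `Red.rankOne_*` statements (SGA3 XX §2-3) is bundled as `Sys i α pp pm av`, and turned
into function-level rewriting rules on the group `X ⟶ G`:
`P a = p₊(a)`, `M b = p₋(b)` for global functions `a b`, `D u = i(α^*(u))` for a unit `u`, with
* `P_add`, `P_zero`, `P_neg`, `D_mul`, `D_one`, `D_inv`, `P_of`, `D_of` (every point is of this form),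
* `Sys.F` : `P a * M b = M (b/u) * D u * P (a/u)` for `u = 1 + a b` a unit,
* `Sys.Fr` : the reversed rule `M b * P a = P (a/u) * (D u)⁻¹ * M (b/u)`,
* `Sys.conjP`, `Sys.conjM` (torus normalisation), `Sys.D_P`, `Sys.D_M` : `D u * P a = P (u² a) * D u`,
  `D u * M b = M (u⁻² b) * D u`.
-/

universe u

open CategoryTheory MonoidalCategory CartesianMonoidalCategory MonObj GrpObj AlgebraicGeometry CategoryTheory.Limits

noncomputable section

namespace Groth.Agent.Lib.RankOne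

variable {S : Scheme.{u}} {G T : Over S} [GrpObj G] [GrpObj T]

/-- The rank-one system hypotheses (as in the statements `Red.rankOne_*`). -/
structure Sys (i : T ⟶ G) (α : T ⟶ Red.Gm S) (pp pm : Red.Ga S ⟶ G) (av : Red.Gm S ⟶ T) : Prop where
  hpp : ∀ (X : Over S) (t : X ⟶ T) (x : X ⟶ Red.Ga S), ∃ x' : X ⟶ Red.Ga S,
      x' ≫ pp = (t ≫ i) * (x ≫ pp) * (t ≫ i)⁻¹ ∧ Red.gaFn x' = Red.gmFn (t ≫ α) * Red.gaFn x
  hpm : ∀ (X : Over S) (t : X ⟶ T) (y : X ⟶ Red.Ga S), ∃ y' : X ⟶ Red.Ga S,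
      y' ≫ pm = (t ≫ i) * (y ≫ pm) * (t ≫ i)⁻¹ ∧ Red.gaFn y' * Red.gmFn (t ≫ α) = Red.gaFn y
  h2 : av ≫ α = (𝟙 (Red.Gm S)) ^ 2
  hF : ∀ (X : Over S) (x y : X ⟶ Red.Ga S), IsUnit (1 + Red.gaFn x * Red.gaFn y) →
      ∃ (x' y' : X ⟶ Red.Ga S) (z : X ⟶ Red.Gm S), Red.gmFn z = 1 + Red.gaFn x * Red.gaFn y ∧
        Red.gaFn x' * Red.gmFn z = Red.gaFn x ∧ Red.gaFn y' * Red.gmFn z = Red.gaFn y ∧
        (x ≫ pp) * (y ≫ pm) = (y' ≫ pm) * (z ≫ av ≫ i) * (x' ≫ pp)

variable {X : Over S}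

/-- The point `p(a)` of `G` for a homomorphism `p : 𝔾_a ⟶ G` and a global function `a`. -/
def P (p : Red.Ga S ⟶ G) (a : Γ(X.left, ⊤)) : X ⟶ G := GaPts.ptOfElt a ≫ p

/-- The point `i(α^*(u))` of `G` for a unit `u`. -/
def D (av : Red.Gm S ⟶ T) (i : T ⟶ G) (u : (Γ(X.left, ⊤))ˣ) : X ⟶ G := GmPts.ptOfUnit u ≫ av ≫ i

section Basic

variable (p : Red.Ga S ⟶ G)

theorem P_of (x : X ⟶ Red.Ga S) : x ≫ p = P p (Red.gaFn x) := by
  rw [P, GaPts.ptOfElt_gaFn]

theorem P_of' {x : X ⟶ Red.Ga S} {a : Γ(X.left, ⊤)} (h : Red.gaFn x = a) : x ≫ p = P p a := by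
  rw [P_of, h]

variable [IsMonHom p]

theorem P_add (a b : Γ(X.left, ⊤)) : P p (a + b) = P p a * P p b := by
  rw [P, P, P, GaPts.ptOfElt_add, MonObj.mul_comp]

theorem P_zero : P p (0 : Γ(X.left, ⊤)) = 1 := by
  rw [P, GaPts.ptOfElt_zero, MonObj.one_comp]

theorem P_neg (a : Γ(X.left, ⊤)) : P p (-a) = (P p a)⁻¹ := by
  rw [P, P, GaPts.ptOfElt_neg, GrpObj.inv_comp]

theorem P_sub (a b : Γ(X.left, ⊤)) : P p (a - b) = P p a * (P p b)⁻¹ := by
  rw [sub_eq_add_neg, P_add, P_neg]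

theorem P_comm (a b : Γ(X.left, ⊤)) : P p a * P p b = P p b * P p a := by
  rw [← P_add, ← P_add, add_comm]

theorem P_neg_mul (a : Γ(X.left, ⊤)) : P p (-a) * P p a = 1 := by
  rw [P_neg, inv_mul_cancel]

theorem P_mul_neg (a : Γ(X.left, ⊤)) : P p a * P p (-a) = 1 := by
  rw [P_neg, mul_inv_cancel]

end Basic

section BasicD

variable (av : Red.Gm S ⟶ T) (i : T ⟶ G)

theorem D_of (z : X ⟶ Red.Gm S) : z ≫ av ≫ i = D av i (GmPts.unitOfPt z) := by
  rw [D, GmPts.ptOfUnit_unitOfPt]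

theorem D_of' {z : X ⟶ Red.Gm S} {u : (Γ(X.left, ⊤))ˣ} (h : Red.gmFn z = u) : z ≫ av ≫ i = D av i u := by
  rw [D_of]
  congr 1
  exact Units.ext h

variable [IsMonHom av] [IsMonHom i]

theorem D_mul (u v : (Γ(X.left, ⊤))ˣ) : D av i (u * v) = D av i u * D av i v := by
  rw [D, D, D, GmPts.ptOfUnit_mul, MonObj.mul_comp]

theorem D_one : D av i (1 : (Γ(X.left, ⊤))ˣ) = 1 := by
  rw [D, GmPts.ptOfUnit_one, MonObj.one_comp]

theorem D_inv (u : (Γ(X.left, ⊤))ˣ) : D av i u⁻¹ = (D av i u)⁻¹ := by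
  rw [D, D, GmPts.ptOfUnit_inv, GrpObj.inv_comp]

end BasicD

section Rules

variable {i : T ⟶ G} {α : T ⟶ Red.Gm S} {pp pm : Red.Ga S ⟶ G} {av : Red.Gm S ⟶ T}

/-- The commutation rule in function form. -/
theorem Sys.F (H : Sys i α pp pm av) (a b : Γ(X.left, ⊤)) (u : (Γ(X.left, ⊤))ˣ)
    (hu : (u : Γ(X.left, ⊤)) = 1 + a * b) :
    P pp a * P pm b = P pm (b * (↑u⁻¹ : Γ(X.left, ⊤))) * D av i u * P pp (a * (↑u⁻¹ : Γ(X.left, ⊤))) := by
  obtain ⟨x', y', z, hz, hx', hy', h⟩ := H.hF X (GaPts.ptOfElt a) (GaPts.ptOfElt b)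
    (by rw [GaPts.gaFn_ptOfElt, GaPts.gaFn_ptOfElt, ← hu]; exact u.isUnit)
  rw [GaPts.gaFn_ptOfElt, GaPts.gaFn_ptOfElt] at hz
  rw [GaPts.gaFn_ptOfElt] at hx' hy'
  have hzu : Red.gmFn z = u := hz.trans hu.symm
  have ex : Red.gaFn x' = a * (↑u⁻¹ : Γ(X.left, ⊤)) := by
    rw [← hx', hzu, _root_.mul_assoc, Units.mul_inv, _root_.mul_one]
  have ey : Red.gaFn y' = b * (↑u⁻¹ : Γ(X.left, ⊤)) := by
    rw [← hy', hzu, _root_.mul_assoc, Units.mul_inv, _root_.mul_one]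
  rw [P_of' pp ex, P_of' pm ey, D_of' av i hzu] at h
  exact h

/-- Torus normalisation of `p₊`. -/
theorem Sys.conjP (H : Sys i α pp pm av) (t : X ⟶ T) (a : Γ(X.left, ⊤)) :
    (t ≫ i) * P pp a * (t ≫ i)⁻¹ = P pp (Red.gmFn (t ≫ α) * a) := by
  obtain ⟨x', h, hx'⟩ := H.hpp X t (GaPts.ptOfElt a)
  rw [GaPts.gaFn_ptOfElt] at hx'
  rw [P_of' pp hx'] at h
  exact h.symm

/-- Torus normalisation of `p₋`. -/
theorem Sys.conjM (H : Sys i α pp pm av) (t : X ⟶ T) (b : Γ(X.left, ⊤)) :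
    (t ≫ i) * P pm b * (t ≫ i)⁻¹ = P pm (b * (↑(GmPts.unitOfPt (t ≫ α))⁻¹ : Γ(X.left, ⊤))) := by
  obtain ⟨y', h, hy'⟩ := H.hpm X t (GaPts.ptOfElt b)
  rw [GaPts.gaFn_ptOfElt] at hy'
  have ey : Red.gaFn y' = b * (↑(GmPts.unitOfPt (t ≫ α))⁻¹ : Γ(X.left, ⊤)) := by
    rw [← hy', _root_.mul_assoc]
    change _ = Red.gaFn y' * (((GmPts.unitOfPt (t ≫ α) : (Γ(X.left, ⊤))ˣ) : Γ(X.left, ⊤)) * _)
    rw [Units.mul_inv, _root_.mul_one]
  rw [P_of' pm ey] at h
  exact h.symm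

theorem Sys.unitOfPt_av_α (H : Sys i α pp pm av) (u : (Γ(X.left, ⊤))ˣ) :
    GmPts.unitOfPt ((GmPts.ptOfUnit u ≫ av) ≫ α) = u ^ 2 := by
  rw [Category.assoc, H.h2, MonObj.comp_pow, Category.comp_id]
  have := map_pow (GmPts.equiv X) (GmPts.ptOfUnit u) 2
  rw [GmPts.equiv_apply, GmPts.equiv_apply, GmPts.unitOfPt_ptOfUnit] at this
  exact this

/-- `i(α^*(u)) p₊(a) = p₊(u² a) i(α^*(u))`. -/
theorem Sys.D_P (H : Sys i α pp pm av) (u : (Γ(X.left, ⊤))ˣ) (a : Γ(X.left, ⊤)) :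
    D av i u * P pp a = P pp ((↑(u ^ 2) : Γ(X.left, ⊤)) * a) * D av i u := by
  have h := H.conjP (GmPts.ptOfUnit u ≫ av) a
  have e : Red.gmFn ((GmPts.ptOfUnit u ≫ av) ≫ α) = ↑(u ^ 2) := by
    rw [← H.unitOfPt_av_α u]; rfl
  rw [e, Category.assoc] at h
  change D av i u * P pp a * (D av i u)⁻¹ = _ at h
  rw [← h, inv_mul_cancel_right]

/-- `i(α^*(u)) p₋(b) = p₋(u⁻² b) i(α^*(u))`. -/
theorem Sys.D_M (H : Sys i α pp pm av) (u : (Γ(X.left, ⊤))ˣ) (b : Γ(X.left, ⊤)) :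
    D av i u * P pm b = P pm (b * (↑(u ^ 2)⁻¹ : Γ(X.left, ⊤))) * D av i u := by
  have h := H.conjM (GmPts.ptOfUnit u ≫ av) b
  rw [H.unitOfPt_av_α u, Category.assoc] at h
  change D av i u * P pm b * (D av i u)⁻¹ = _ at h
  rw [← h, inv_mul_cancel_right]

variable [IsMonHom pp] [IsMonHom pm]

/-- The reversed commutation rule. -/
theorem Sys.Fr (H : Sys i α pp pm av) (a b : Γ(X.left, ⊤)) (u : (Γ(X.left, ⊤))ˣ)
    (hu : (u : Γ(X.left, ⊤)) = 1 + a * b) :
    P pm b * P pp a = P pp (a * (↑u⁻¹ : Γ(X.left, ⊤))) * (D av i u)⁻¹ * P pm (b * (↑u⁻¹ : Γ(X.left, ⊤))) := by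
  have h := H.F (-a) (-b) u (by rw [neg_mul_neg]; exact hu)
  rw [neg_mul, neg_mul, P_neg, P_neg, P_neg, P_neg] at h
  have h' := congrArg (fun g => g⁻¹) h
  simp only [_root_.mul_inv_rev, _root_.inv_inv] at h'
  rw [h', _root_.mul_assoc]


/-! ### The elements `w(a) = p₊(a) p₋(-a⁻¹) p₊(a)` -/

/-- `w(z a) = i(α^*(z)) w(a)`. Here `a' = -a⁻¹`, `c = z a`, `c' = -c⁻¹`. -/
theorem Sys.w_smul (H : Sys i α pp pm av) {a a' c c' : Γ(X.left, ⊤)} (z : (Γ(X.left, ⊤))ˣ)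
    (ha : a' * a = -1) (hc : c = (z : Γ(X.left, ⊤)) * a) (hc' : c' * c = -1) :
    P pp c * P pm c' * P pp c = D av i z * (P pp a * P pm a' * P pp a) := by
  have hzz : (z : Γ(X.left, ⊤)) * (↑z⁻¹ : Γ(X.left, ⊤)) = 1 := Units.mul_inv z
  have hc'' : c' = a' * (↑z⁻¹ : Γ(X.left, ⊤)) := by
    have h1 : c' * (z : Γ(X.left, ⊤)) = a' := by
      have h := hc'
      rw [hc] at h
      linear_combination (-a') * h + (c' * (z : Γ(X.left, ⊤))) * ha
    rw [← h1, _root_.mul_assoc, hzz, _root_.mul_one]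
  have h1 := H.F (((z : Γ(X.left, ⊤)) - 1) * a) (-a') z (by linear_combination ((z : Γ(X.left, ⊤)) - 1) * ha)
  have h2 := H.D_P z (-(a * (↑z⁻¹ : Γ(X.left, ⊤))))
  have e1 : c = ((z : Γ(X.left, ⊤)) - 1) * a + a := by rw [hc]; ring
  have e2 : ((z : Γ(X.left, ⊤)) - 1) * a * (↑z⁻¹ : Γ(X.left, ⊤)) = a - a * (↑z⁻¹ : Γ(X.left, ⊤)) := by
    linear_combination a * hzz
  have e3 : (↑(z ^ 2) : Γ(X.left, ⊤)) * -(a * (↑z⁻¹ : Γ(X.left, ⊤))) = -c := by
    rw [Units.val_pow_eq_pow_val, hc]; linear_combination (-(z : Γ(X.left, ⊤)) * a) * hzz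
  have e4 : -a' * (↑z⁻¹ : Γ(X.left, ⊤)) = -c' := by rw [hc'']; ring
  rw [e2, e4, P_sub, P_neg, P_neg] at h1
  rw [e3, P_neg, P_neg] at h2
  rw [e1, P_add] at h2 ⊢
  have hcomm := P_comm pp a (a * (↑z⁻¹ : Γ(X.left, ⊤)))
  generalize P pp a = A at *
  generalize P pp (((z : Γ(X.left, ⊤)) - 1) * a) = B at *
  generalize P pm a' = Ma at *
  generalize P pm c' = N at *
  generalize P pp (a * (↑z⁻¹ : Γ(X.left, ⊤))) = E at *
  generalize D av i z = Dz at *
  -- h1 : B * Ma⁻¹ = N⁻¹ * Dz * (A * E⁻¹), h2 : Dz * E⁻¹ = (B * A)⁻¹ * Dz, hcomm : A * E = E * A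
  have k1 : Ma = E * A⁻¹ * Dz⁻¹ * N * B := by
    have : Ma⁻¹ = B⁻¹ * (N⁻¹ * Dz * (A * E⁻¹)) := by rw [← h1]; group
    rw [← _root_.inv_inv Ma, this]; group
  have k2 : B * A = Dz * E * Dz⁻¹ := by
    have : (B * A)⁻¹ = Dz * E⁻¹ * Dz⁻¹ := by rw [h2]; group
    rw [← _root_.inv_inv (B * A), this]; group
  have k3 : A * E * A⁻¹ = E := by rw [hcomm]; group
  calc B * A * N * (B * A) = Dz * E * Dz⁻¹ * N * (B * A) := by rw [k2]
    _ = Dz * ((A * E * A⁻¹) * Dz⁻¹ * N * B * A) := by rw [k3]; group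
    _ = Dz * (A * Ma * A) := by rw [k1]; group


/-- `w(z a) = w(a) i(α^*(z))⁻¹`. Here `a' = -a⁻¹`, `c = z a`, `c' = -c⁻¹`. -/
theorem Sys.w_smul' (H : Sys i α pp pm av) {a a' c c' : Γ(X.left, ⊤)} (z : (Γ(X.left, ⊤))ˣ)
    (ha : a' * a = -1) (hc : c = (z : Γ(X.left, ⊤)) * a) (hc' : c' * c = -1) :
    P pp c * P pm c' * P pp c = (P pp a * P pm a' * P pp a) * (D av i z)⁻¹ := by
  have hzz : (z : Γ(X.left, ⊤)) * (↑z⁻¹ : Γ(X.left, ⊤)) = 1 := Units.mul_inv z
  have hc'' : c' = a' * (↑z⁻¹ : Γ(X.left, ⊤)) := by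
    have h1 : c' * (z : Γ(X.left, ⊤)) = a' := by
      have h := hc'
      rw [hc] at h
      linear_combination (-a') * h + (c' * (z : Γ(X.left, ⊤))) * ha
    rw [← h1, _root_.mul_assoc, hzz, _root_.mul_one]
  have h1 := H.Fr (((z : Γ(X.left, ⊤)) - 1) * a) (-a') z (by linear_combination ((z : Γ(X.left, ⊤)) - 1) * ha)
  have h2 := H.D_P z (a * (↑z⁻¹ : Γ(X.left, ⊤)))
  have e1 : c = ((z : Γ(X.left, ⊤)) - 1) * a + a := by rw [hc]; ring
  have e2 : ((z : Γ(X.left, ⊤)) - 1) * a * (↑z⁻¹ : Γ(X.left, ⊤)) = a - a * (↑z⁻¹ : Γ(X.left, ⊤)) := by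
    linear_combination a * hzz
  have e3 : (↑(z ^ 2) : Γ(X.left, ⊤)) * (a * (↑z⁻¹ : Γ(X.left, ⊤))) = c := by
    rw [Units.val_pow_eq_pow_val, hc]; linear_combination ((z : Γ(X.left, ⊤)) * a) * hzz
  have e4 : -a' * (↑z⁻¹ : Γ(X.left, ⊤)) = -c' := by rw [hc'']; ring
  rw [e2, e4, P_sub, P_neg, P_neg] at h1
  rw [e3] at h2
  rw [e1, P_add] at h2 ⊢
  have hcomm := P_comm pp a (((z : Γ(X.left, ⊤)) - 1) * a)
  generalize P pp a = A at *
  generalize P pp (((z : Γ(X.left, ⊤)) - 1) * a) = B at *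
  generalize P pm a' = Ma at *
  generalize P pm c' = N at *
  generalize P pp (a * (↑z⁻¹ : Γ(X.left, ⊤))) = E at *
  generalize D av i z = Dz at *
  -- h1 : Ma⁻¹ * B = A * E⁻¹ * Dz⁻¹ * N⁻¹, h2 : Dz * E = B * A * Dz, hcomm : A * B = B * A
  have k1 : Ma = B * N * Dz * E * A⁻¹ := by
    have : Ma⁻¹ = A * E⁻¹ * Dz⁻¹ * N⁻¹ * B⁻¹ := by rw [← h1]; group
    rw [← _root_.inv_inv Ma, this]; group
  have k2 : B * A = Dz * E * Dz⁻¹ := by rw [h2]; group
  calc B * A * N * (B * A) = A * B * N * (B * A) := by rw [hcomm]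
    _ = A * B * N * (Dz * E * Dz⁻¹) := by rw [k2]
    _ = A * (B * N * Dz * E * A⁻¹) * A * Dz⁻¹ := by group
    _ = A * Ma * A * Dz⁻¹ := by rw [k1]

variable [IsMonHom i] [IsMonHom av]

/-- `w(a)⁻¹ i(t) w(a) = i(α^*(α(t)))⁻¹ i(t)`. -/
theorem Sys.w_inv_conj (H : Sys i α pp pm av) {a a' : Γ(X.left, ⊤)} (ha : a' * a = -1) (t : X ⟶ T) :
    (P pp a * P pm a' * P pp a)⁻¹ * (t ≫ i) * (P pp a * P pm a' * P pp a) =
      (D av i (GmPts.unitOfPt (t ≫ α)))⁻¹ * (t ≫ i) := by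
  have h1 := H.conjP t a
  have h2 := H.conjM t a'
  have h3 := H.w_smul' (a := a) (a' := a') (c := Red.gmFn (t ≫ α) * a)
    (c' := a' * (↑(GmPts.unitOfPt (t ≫ α))⁻¹ : Γ(X.left, ⊤))) (GmPts.unitOfPt (t ≫ α)) ha rfl (by
      have : ((GmPts.unitOfPt (t ≫ α))⁻¹ : (Γ(X.left, ⊤))ˣ) * Red.gmFn (t ≫ α) = 1 :=
        Units.inv_mul (GmPts.unitOfPt (t ≫ α))
      linear_combination (a' * a) * this + ha)
  rw [← h1, ← h2] at h3
  generalize P pp a = A at *
  generalize P pm a' = Ma at *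
  generalize D av i (GmPts.unitOfPt (t ≫ α)) = Dl at *
  generalize t ≫ i = τ at *
  have h4 : τ * (A * Ma * A) * τ⁻¹ = A * Ma * A * Dl⁻¹ := by rw [← h3]; group
  have h5 : τ = (A * Ma * A) * Dl⁻¹ * τ * (A * Ma * A)⁻¹ := by rw [← h4]; group
  calc (A * Ma * A)⁻¹ * τ * (A * Ma * A)
      = (A * Ma * A)⁻¹ * ((A * Ma * A) * Dl⁻¹ * τ * (A * Ma * A)⁻¹) * (A * Ma * A) := by rw [← h5]
    _ = Dl⁻¹ * τ := by group

/-- `w(a) i(t) w(a)⁻¹ = i(α^*(α(t)))⁻¹ i(t)`. -/
theorem Sys.w_conj (H : Sys i α pp pm av) {a a' : Γ(X.left, ⊤)} (ha : a' * a = -1) (t : X ⟶ T) :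
    (P pp a * P pm a' * P pp a) * (t ≫ i) * (P pp a * P pm a' * P pp a)⁻¹ =
      (D av i (GmPts.unitOfPt (t ≫ α)))⁻¹ * (t ≫ i) := by
  have h := H.w_inv_conj (a := -a) (a' := -a') (by rw [neg_mul_neg]; exact ha) t
  rw [P_neg, P_neg] at h
  rw [← h]; group

/-- `w(a) w(b) = i(α^*(-a b⁻¹))`. -/
theorem Sys.w_mul_w (H : Sys i α pp pm av) {a a' b b' : Γ(X.left, ⊤)} (m : (Γ(X.left, ⊤))ˣ)
    (ha : a' * a = -1) (hb : b' * b = -1) (hm : (m : Γ(X.left, ⊤)) * b = -a) :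
    (P pp a * P pm a' * P pp a) * (P pp b * P pm b' * P pp b) = D av i m := by
  have h := H.w_smul (a := -b) (a' := -b') (c := a) (c' := a') m (by rw [neg_mul_neg]; exact hb)
    (by linear_combination hm) ha
  rw [P_neg, P_neg] at h
  rw [h]; group

end Rules

/-! ### Schematic density of `𝔾_m` in `𝔸¹` and the braid relation -/

/-- Schematic density, affine form: if `j : W ⟶ X` over `S` is injective on global functions, `X` is affine and `Y` is
separated over `S`, then morphisms `X ⟶ Y` over `S` that agree after `j` are equal. -/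
theorem ext_of_appTop_injective {W X Y : Over S} [IsSeparated Y.hom] [IsAffine X.left] (j : W ⟶ X)
    (hj : Function.Injective j.left.appTop) {f g : X ⟶ Y} (h : j ≫ f = j ≫ g) : f = g := by
  have hci : IsClosedImmersion (equalizer.ι f g).left := inferInstance
  have hl : equalizer.lift j h ≫ equalizer.ι f g = j := equalizer.lift_ι _ _
  have hinj : Function.Injective (equalizer.ι f g).left.appTop := by
    have e : j.left.appTop = (equalizer.ι f g).left.appTop ≫ (equalizer.lift j h).left.appTop := by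
      rw [← Scheme.Hom.comp_appTop, ← Over.comp_left, hl]
    rw [e] at hj
    intro a b hab
    apply hj
    change (equalizer.lift j h).left.appTop ((equalizer.ι f g).left.appTop a) =
      (equalizer.lift j h).left.appTop ((equalizer.ι f g).left.appTop b)
    rw [hab]
  have hiso : IsIso (equalizer.ι f g).left := IsClosedImmersion.isIso_of_injective_of_isAffine hinj
  have hiso' : IsIso (equalizer.ι f g) := by
    have : IsIso ((Over.forget S).map (equalizer.ι f g)) := hiso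
    exact isIso_of_reflects_iso _ (Over.forget S)
  rw [← cancel_epi (equalizer.ι f g)]
  exact equalizer.condition f g

section Family

open Polynomial

variable (V : Over S) [IsAffine V.left]

/-- The scheme `V × 𝔸¹` for `V` affine: `Spec` of the polynomial ring over the global functions of `V`. -/
abbrev A1 : Scheme.{u} := Spec (CommRingCat.of Γ(V.left, ⊤)[X])

/-- The scheme `V × 𝔾_m`. -/
abbrev A1p : Scheme.{u} := Spec (CommRingCat.of (Localization.Away (Polynomial.X : Γ(V.left, ⊤)[X])))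

def projL : A1 V ⟶ V.left :=
  Spec.map (CommRingCat.ofHom (C : Γ(V.left, ⊤) →+* Γ(V.left, ⊤)[X])) ≫ V.left.isoSpec.inv

def zeroL : V.left ⟶ A1 V :=
  V.left.isoSpec.hom ≫ Spec.map (CommRingCat.ofHom (evalRingHom (0 : Γ(V.left, ⊤))))

def inclL : A1p V ⟶ A1 V :=
  Spec.map (CommRingCat.ofHom (algebraMap Γ(V.left, ⊤)[X] (Localization.Away (Polynomial.X : Γ(V.left, ⊤)[X]))))

theorem zeroL_projL : zeroL V ≫ projL V = 𝟙 V.left := by
  have e : (evalRingHom (0 : Γ(V.left, ⊤))).comp C = RingHom.id _ := by ext; simp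
  rw [zeroL, projL, Category.assoc, ← Spec.map_comp_assoc, ← CommRingCat.ofHom_comp, e]
  change V.left.isoSpec.hom ≫ Spec.map (𝟙 _) ≫ V.left.isoSpec.inv = 𝟙 V.left
  rw [Spec.map_id, Category.id_comp, Iso.hom_inv_id]

/-- The coordinate on `V × 𝔸¹`. -/
def coord : Γ(A1 V, ⊤) := (Scheme.ΓSpecIso (CommRingCat.of Γ(V.left, ⊤)[X])).inv (Polynomial.X : Γ(V.left, ⊤)[X])

theorem zeroL_coord : (zeroL V).appTop (coord V) = 0 := by
  rw [zeroL, coord, GmPts.appTop_comp_apply, GaPts.specMap_appTop_ΓSpecIso_inv]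
  simp

theorem zeroL_projL_apply (a : Γ(V.left, ⊤)) : (zeroL V).appTop ((projL V).appTop a) = a := by
  rw [← GmPts.appTop_comp_apply, zeroL_projL]
  simp

theorem inclL_coord_isUnit : IsUnit ((inclL V).appTop (coord V)) := by
  rw [inclL, coord, GaPts.specMap_appTop_ΓSpecIso_inv]
  apply IsUnit.map
  exact IsLocalization.Away.algebraMap_isUnit (Polynomial.X : Γ(V.left, ⊤)[X])

theorem inclL_injective : Function.Injective (inclL V).appTop := by
  have hinj : Function.Injective (algebraMap Γ(V.left, ⊤)[X] (Localization.Away (Polynomial.X : Γ(V.left, ⊤)[X]))) :=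
    IsLocalization.injective _ (Submonoid.powers_le.mpr X_mem_nonzeroDivisors)
  intro a b hab
  have ha : a = (Scheme.ΓSpecIso _).inv ((Scheme.ΓSpecIso _).hom a) := by simp
  have hb : b = (Scheme.ΓSpecIso _).inv ((Scheme.ΓSpecIso _).hom b) := by simp
  rw [ha, hb, inclL, GaPts.specMap_appTop_ΓSpecIso_inv,
    GaPts.specMap_appTop_ΓSpecIso_inv] at hab
  rw [ha, hb]
  congr 1
  apply hinj
  exact (ConcreteCategory.bijective_of_isIso (Scheme.ΓSpecIso _).inv).1 hab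

/-- `V × 𝔸¹` over `S`. -/
def aff1 : Over S := Over.mk (projL V ≫ V.hom)

instance : IsAffine (aff1 V).left := inferInstanceAs (IsAffine (Spec _))

def proj : aff1 V ⟶ V := Over.homMk (projL V) rfl

def zeroSec : V ⟶ aff1 V := Over.homMk (zeroL V) (by
  change zeroL V ≫ projL V ≫ V.hom = V.hom
  rw [← Category.assoc, zeroL_projL, Category.id_comp])

def punct : Over S := Over.mk (inclL V ≫ projL V ≫ V.hom)

def incl : punct V ⟶ aff1 V := Over.homMk (inclL V) rfl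

/-- The coordinate of `V × 𝔸¹`, as a global function of the `S`-scheme `aff1 V`. -/
def coordO : Γ((aff1 V).left, ⊤) := coord V

theorem zeroSec_coordO : (zeroSec V).left.appTop (coordO V) = 0 := zeroL_coord V

theorem zeroSec_proj_apply (a : Γ(V.left, ⊤)) : (zeroSec V).left.appTop ((proj V).left.appTop a) = a :=
  zeroL_projL_apply V a

theorem incl_coordO_isUnit : IsUnit ((incl V).left.appTop (coordO V)) := inclL_coord_isUnit V

theorem incl_injective : Function.Injective (incl V).left.appTop := inclL_injective V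

end Family

section Braid

variable {i : T ⟶ G} {α : T ⟶ Red.Gm S} {pp pm : Red.Ga S ⟶ G} {av : Red.Gm S ⟶ T}

theorem P_comp {X' X : Over S} (g : X' ⟶ X) (p : Red.Ga S ⟶ G) (a : Γ(X.left, ⊤)) :
    g ≫ P p a = P p (g.left.appTop a) := by
  rw [P, P, ← Category.assoc, GaPts.ptOfElt_comp]

variable [IsMonHom pp] [IsMonHom pm]

theorem Sys.braid_affine (H : Sys i α pp pm av) [IsSeparated G.hom] (V : Over S) [IsAffine V.left]
    {a a' : Γ(V.left, ⊤)} (ha : a' * a = -1) :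
    P pp a * P pm a' * P pp a = P pm a' * P pp a * P pm a' := by
  have hA : (proj V).left.appTop a' * (proj V).left.appTop a = -1 := by
    rw [← map_mul, ha, map_neg, map_one]
  have key : P pp ((1 - coordO V) * (proj V).left.appTop a) * P pm ((proj V).left.appTop a') *
        P pp ((proj V).left.appTop a) =
      P pm ((proj V).left.appTop a') * P pp ((proj V).left.appTop a) *
        P pm ((1 - coordO V) * (proj V).left.appTop a') := by
    generalize (proj V).left.appTop a = A at hA ⊢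
    generalize (proj V).left.appTop a' = A' at hA ⊢
    apply ext_of_appTop_injective (incl V) (incl_injective V)
    rw [MonObj.comp_mul, MonObj.comp_mul, MonObj.comp_mul, MonObj.comp_mul, P_comp, P_comp, P_comp, P_comp]
    obtain ⟨s, hs⟩ := incl_coordO_isUnit V
    have hB : (incl V).left.appTop A' * (incl V).left.appTop A = -1 := by
      rw [← map_mul, hA, map_neg, map_one]
    have e1 : (incl V).left.appTop ((1 - coordO V) * A) = (1 - (s : Γ((punct V).left, ⊤))) * (incl V).left.appTop A := by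
      rw [map_mul, map_sub, map_one, hs]
    have e2 : (incl V).left.appTop ((1 - coordO V) * A') = (1 - (s : Γ((punct V).left, ⊤))) * (incl V).left.appTop A' := by
      rw [map_mul, map_sub, map_one, hs]
    rw [e1, e2]
    generalize (incl V).left.appTop A = B at hB ⊢
    generalize (incl V).left.appTop A' = B' at hB ⊢
    have hss : (s : Γ((punct V).left, ⊤)) * (↑s⁻¹ : Γ((punct V).left, ⊤)) = 1 := Units.mul_inv s
    have h1 := H.F ((1 - (s : Γ((punct V).left, ⊤))) * B) B' s (by linear_combination ((s : Γ((punct V).left, ⊤)) - 1) * hB)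
    have h2 := H.F B ((1 - (s : Γ((punct V).left, ⊤))) * B') s (by linear_combination ((s : Γ((punct V).left, ⊤)) - 1) * hB)
    rw [h1, _root_.mul_assoc (P pm B'), h2, _root_.mul_assoc _ _ (P pp B), ← P_add, ← _root_.mul_assoc (P pm B'),
      ← _root_.mul_assoc (P pm B'), ← P_add]
    congr 3
    · linear_combination B' * hss
    · linear_combination (-B) * hss
  have h0 := congrArg (fun f => zeroSec V ≫ f) key
  simp only [MonObj.comp_mul, P_comp] at h0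
  have z1 : (zeroSec V).left.appTop ((proj V).left.appTop a) = a := zeroSec_proj_apply V a
  have z2 : (zeroSec V).left.appTop ((proj V).left.appTop a') = a' := zeroSec_proj_apply V a'
  have z3 : (zeroSec V).left.appTop (coordO V) = 0 := zeroL_coord V
  rw [map_mul, map_mul, map_sub, map_one, z1, z2, z3, sub_zero, _root_.one_mul, _root_.one_mul] at h0
  exact h0

/-- The braid relation `p₊(a) p₋(-1/a) p₊(a) = p₋(-1/a) p₊(a) p₋(-1/a)` in a rank-one system with `G` separated over `S`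
(schematic density of `𝔾_m` in `𝔸¹`). -/
theorem Sys.braid (H : Sys i α pp pm av) [IsSeparated G.hom] {X : Over S} {a a' : Γ(X.left, ⊤)} (ha : a' * a = -1) :
    P pp a * P pm a' * P pp a = P pm a' * P pp a * P pm a' := by
  ext1
  apply X.left.affineCover.hom_ext
  intro j
  let V : Over S := Over.mk (X.left.affineCover.f j ≫ X.hom)
  let jV : V ⟶ X := Over.homMk (X.left.affineCover.f j) rfl
  have : IsAffine V.left := inferInstanceAs (IsAffine (X.left.affineCover.X j))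
  have hb := H.braid_affine V (a := jV.left.appTop a) (a' := jV.left.appTop a')
    (by rw [← map_mul, ha, map_neg, map_one])
  rw [← P_comp, ← P_comp, ← MonObj.comp_mul, ← MonObj.comp_mul, ← MonObj.comp_mul, ← MonObj.comp_mul] at hb
  exact congrArg (fun f => f.left) hb

end Braid

end Groth.Agent.Lib.RankOne

end
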