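import Groth.Agent.Lib.TFunCorep
import Groth.Agent.Lib.TFunCompareLinH44

/-!
# Rank one exactness over a local ring (helper21)

`R` local with residue field `k`, `P` a complex of `R`-modules with `Copc P p` and `P_{p+1}` finite projective
(so that `T_p ≅ Hom(Q, -)`, helper84 `TFunCorep`).  If `dim_k H_p(k ⊗ P) = 1` and there is `u ∈ T_p(R)` with
zero annihilator, then `Q` is free of rank one; hence `T_p` is exact and `T_p(R) ≃ R`.
-/

set_option autoImplicit false
set_option linter.style.haveILetI false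
universe u

open CategoryTheory CategoryTheory.Limits CohIII TensorProduct

namespace Groth.Agent.Lib.RankOneExact21

open Groth.Agent.Lib.TFunCorep Groth.Agent.Lib.TFun Groth.Agent.Lib.TFunCompareLinH44
  Groth.Agent.Lib.DualTensor

variable {R : Type u} [CommRing R] [IsLocalRing R] {ι : Type} {c : ComplexShape ι}
  (P : HomologicalComplex (ModuleCat.{u} R) c) (p : ι)
  (h1 : Module.Finite R (Copc P p)) (h2 : Module.Projective R (Copc P p))
  (h3 : Module.Finite R (P.X (c.next p))) (h4 : Module.Projective R (P.X (c.next p)))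

local notation "k" => IsLocalRing.ResidueField R

/-- the corepresenting module -/
abbrev QQ : Type u := Q (dbar P p)

omit [IsLocalRing R] in
include h1 h2 in
theorem finite_QQ : Module.Finite R (QQ P p) := by
  haveI := h1
  haveI := h2
  haveI : Module.Finite R (Module.Dual R (Copc P p)) := inferInstance
  exact Module.Finite.of_surjective (LinearMap.range (dbar P p).dualMap).mkQ
    (Submodule.mkQ_surjective _)

include h1 h2 h3 h4 in
/-- `Hom_R(Q, k) ≃ₗ[k] H_p(k ⊗ P)` -/
theorem nonempty_hom_linearEquiv :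
    Nonempty ((QQ P p →ₗ[R] k) ≃ₗ[k] (bcCx (algebraMap R k) P).homology p) := by
  let Θ : (TFun P p).obj (ModuleCat.of R k) ≃ₗ[R] (QQ P p →ₗ[R] k) :=
    LinearEquiv.ofBijective (Theta P p (ModuleCat.of R k))
      (Theta_bijective P p (ModuleCat.of R k) h1 h2 h3 h4)
  refine nonempty_linearEquiv_of_equivariant k P p Θ.symm.toAddEquiv (fun b φ => ?_)
  apply Θ.injective
  change Θ (Θ.symm (b • φ)) = Θ (((TFun P p).map (mulB k b)).hom (Θ.symm φ))
  rw [LinearEquiv.apply_symm_apply]
  have h := Theta_natural P p (mulB k b) (Θ.symm φ)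
  change Θ (((TFun P p).map (mulB k b)).hom (Θ.symm φ)) = (mulB k b).hom ∘ₗ Θ (Θ.symm φ) at h
  rw [h, LinearEquiv.apply_symm_apply]
  ext q
  rfl

include h1 h2 h3 h4 in
/-- `Q` is generated by one element when `dim_k H_p(k ⊗ P) = 1` -/
theorem exists_span_eq_top (hrk : Module.finrank k ((bcCx (algebraMap R k) P).homology p) = 1) :
    ∃ q0 : QQ P p, Submodule.span R {q0} = ⊤ := by
  haveI := finite_QQ P p h1 h2
  obtain ⟨e⟩ := nonempty_hom_linearEquiv P p h1 h2 h3 h4
  have hd : Module.finrank k (k ⊗[R] QQ P p) = 1 := by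
    have e2 : (QQ P p →ₗ[R] k) ≃ₗ[k] Module.Dual k (k ⊗[R] QQ P p) :=
      LinearMap.liftBaseChangeEquiv k
    rw [← Subspace.dual_finrank_eq, ← e2.finrank_eq, e.finrank_eq, hrk]
  let b : Module.Basis (Fin 1) k (k ⊗[R] QQ P p) := Module.finBasisOfFinrankEq k _ hd
  obtain ⟨q0, hq0⟩ := TensorProduct.mk_surjective R (QQ P p) k Ideal.Quotient.mk_surjective (b 0)
  refine ⟨q0, ?_⟩
  have h := IsLocalRing.span_eq_top_of_tmul_eq_basis (fun _ : Fin 1 => q0) b (fun i => by
    fin_cases i
    exact hq0)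
  rwa [Set.range_const] at h

/-- `Θ` as a linear equivalence -/
noncomputable def ThetaEquiv (M : ModuleCat.{u} R) : (TFun P p).obj M ≃ₗ[R] (QQ P p →ₗ[R] M) :=
  LinearEquiv.ofBijective (Theta P p M) (Theta_bijective P p M h1 h2 h3 h4)

omit [IsLocalRing R] in
theorem ThetaEquiv_natural {M N : ModuleCat.{u} R} (g : M ⟶ N) (t : (TFun P p).obj M) :
    ThetaEquiv P p h1 h2 h3 h4 N (((TFun P p).map g).hom t) =
      g.hom ∘ₗ ThetaEquiv P p h1 h2 h3 h4 M t :=
  Theta_natural P p g t

include h1 h2 h3 h4 in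
/-- **Rank one exactness.** -/
theorem preservesEpi_and_equiv
    (hrk : Module.finrank k ((bcCx (algebraMap R k) P).homology p) = 1)
    (u : (TFun P p).obj (ModuleCat.of R R)) (hu : ∀ r : R, r • u = 0 → r = 0) :
    (TFun P p).PreservesEpimorphisms ∧ Nonempty ((TFun P p).obj (ModuleCat.of R R) ≃ₗ[R] R) := by
  obtain ⟨q0, hq0⟩ := exists_span_eq_top P p h1 h2 h3 h4 hrk
  set φu : QQ P p →ₗ[R] R := ThetaEquiv P p h1 h2 h3 h4 (ModuleCat.of R R) u with hφu
  have hann : ∀ a : R, a * φu q0 = 0 → a = 0 := by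
    intro a ha
    apply hu
    apply (ThetaEquiv P p h1 h2 h3 h4 (ModuleCat.of R R)).injective
    rw [map_smul, map_zero]
    apply LinearMap.ext_on hq0
    intro q hq
    rw [Set.mem_singleton_iff] at hq
    subst hq
    change a • φu q = 0
    rw [smul_eq_mul]
    exact ha
  -- `Q` is free on `q0`
  let g : R →ₗ[R] QQ P p := LinearMap.toSpanSingleton R (QQ P p) q0
  have hginj : Function.Injective g := by
    rw [injective_iff_map_eq_zero]
    intro r hr
    apply hann
    have h : φu (r • q0) = 0 := by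
      have : g r = r • q0 := rfl
      rw [← this, hr, map_zero]
    rw [map_smul, smul_eq_mul] at h
    exact h
  have hgsurj : Function.Surjective g := by
    intro q
    have hq : q ∈ Submodule.span R {q0} := by rw [hq0]; trivial
    obtain ⟨r, rfl⟩ := Submodule.mem_span_singleton.mp hq
    exact ⟨r, rfl⟩
  let e : R ≃ₗ[R] QQ P p := LinearEquiv.ofBijective g ⟨hginj, hgsurj⟩
  refine ⟨⟨fun {M N} f hf => ?_⟩, ⟨?_⟩⟩
  · rw [ModuleCat.epi_iff_surjective] at hf ⊢
    intro t'
    obtain ⟨m0, hm0⟩ := hf (ThetaEquiv P p h1 h2 h3 h4 N t' q0)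
    let φ : QQ P p →ₗ[R] M := (LinearMap.toSpanSingleton R M m0) ∘ₗ e.symm.toLinearMap
    refine ⟨(ThetaEquiv P p h1 h2 h3 h4 M).symm φ, ?_⟩
    apply (ThetaEquiv P p h1 h2 h3 h4 N).injective
    rw [ThetaEquiv_natural, LinearEquiv.apply_symm_apply]
    apply LinearMap.ext_on hq0
    intro q hq
    rw [Set.mem_singleton_iff] at hq
    subst hq
    have h1' : e.symm q = 1 := by
      rw [LinearEquiv.symm_apply_eq]
      change q = (1 : R) • q
      rw [one_smul]
    change f.hom ((LinearMap.toSpanSingleton R M m0) (e.symm q)) = _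
    rw [h1', LinearMap.toSpanSingleton_apply, one_smul]
    exact hm0
  · exact (ThetaEquiv P p h1 h2 h3 h4 (ModuleCat.of R R)).trans
      ((LinearEquiv.congrLeft R R e).symm.trans (LinearMap.ringLmapEquivSelf R R R))

end Groth.Agent.Lib.RankOneExact21
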