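import Mathlib

set_option autoImplicit false
set_option linter.unusedSectionVars false
set_option linter.unusedVariables false

open scoped TensorProduct

namespace Groth.Agent.Lib.RankTwoHopf58

section Gen

variable {R : Type*} [CommRing R] {A : Type*} [CommRing A] [Bialgebra R A]

/-- `x` freely generates the augmentation ideal of `A` as an `R`-module. -/
structure Gen (R : Type*) [CommRing R] {A : Type*} [CommRing A] [Bialgebra R A] (x : A) : Prop where
  counit_x : Bialgebra.counitAlgHom R A x = 0
  gen : ∀ f : A, Bialgebra.counitAlgHom R A f = 0 → ∃ r : R, f = r • x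
  free : ∀ r : R, r • x = 0 → r = 0

variable {x : A} (h : Gen R x)
include h

theorem Gen.exists_decomp (f : A) :
    ∃ r : R, f = algebraMap R A (Bialgebra.counitAlgHom R A f) + r • x := by
  have h0 : Bialgebra.counitAlgHom R A (f - algebraMap R A (Bialgebra.counitAlgHom R A f)) = 0 := by
    rw [map_sub, AlgHom.commutes, Algebra.algebraMap_self_apply, sub_self]
  obtain ⟨r, hr⟩ := h.gen _ h0
  exact ⟨r, by rw [← hr]; ring⟩

theorem Gen.smul_inj {r r' : R} (e : r • x = r' • x) : r = r' := by
  have : (r - r') • x = 0 := by rw [sub_smul, e, sub_self]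
  exact sub_eq_zero.mp (h.free _ this)

/-- The `x`-coordinate. -/
noncomputable def Gen.coord (f : A) : R := Classical.choose (h.exists_decomp f)

theorem Gen.coord_spec (f : A) :
    f = algebraMap R A (Bialgebra.counitAlgHom R A f) + h.coord f • x :=
  Classical.choose_spec (h.exists_decomp f)

theorem Gen.coord_eq {f : A} {c r : R} (e : f = algebraMap R A c + r • x) : h.coord f = r := by
  have hc : Bialgebra.counitAlgHom R A f = c := by
    rw [e, map_add, AlgHom.commutes, map_smul, h.counit_x, smul_zero, add_zero,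
      Algebra.algebraMap_self_apply]
  have := h.coord_spec f
  rw [hc] at this
  have e2 : h.coord f • x = r • x := by
    have := this.symm.trans e
    exact add_left_cancel this
  exact h.smul_inj e2

theorem Gen.coord_x : h.coord x = 1 :=
  h.coord_eq (c := 0) (by rw [map_zero, zero_add, one_smul])

theorem Gen.coord_algebraMap (c : R) : h.coord (algebraMap R A c) = 0 :=
  h.coord_eq (c := c) (by rw [zero_smul, add_zero])

theorem Gen.coord_add (f g : A) : h.coord (f + g) = h.coord f + h.coord g := by
  refine h.coord_eq (c := Bialgebra.counitAlgHom R A f + Bialgebra.counitAlgHom R A g) ?_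
  conv_lhs => rw [h.coord_spec f, h.coord_spec g]
  rw [map_add, add_smul]
  ring

theorem Gen.coord_smul (c : R) (f : A) : h.coord (c • f) = c * h.coord f := by
  refine h.coord_eq (c := c * Bialgebra.counitAlgHom R A f) ?_
  conv_lhs => rw [h.coord_spec f]
  rw [smul_add, map_mul, mul_smul, Algebra.smul_def c (algebraMap R A _)]

/-- The coordinate as a linear form. -/
noncomputable def Gen.coordLin : A →ₗ[R] R where
  toFun := h.coord
  map_add' := h.coord_add
  map_smul' c f := by rw [h.coord_smul, RingHom.id_apply, smul_eq_mul]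

theorem Gen.coordLin_x : h.coordLin x = 1 := h.coord_x

/-- Algebra maps out of `A` are determined by the image of `x`. -/
theorem Gen.algHom_ext {B : Type*} [Semiring B] [Algebra R B] {φ ψ : A →ₐ[R] B}
    (e : φ x = ψ x) : φ = ψ := by
  ext f
  rw [h.coord_spec f, map_add, map_add, AlgHom.commutes, AlgHom.commutes, map_smul, map_smul, e]

theorem Gen.coord_mul {a : R} (hxa : x * x = a • x) (f g : A) :
    h.coord (f * g) =
      Bialgebra.counitAlgHom R A f * h.coord g + h.coord f * Bialgebra.counitAlgHom R A g +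
        h.coord f * h.coord g * a := by
  refine h.coord_eq (c := Bialgebra.counitAlgHom R A f * Bialgebra.counitAlgHom R A g) ?_
  have hxa2 : x * x = algebraMap R A a * x := by rw [hxa, Algebra.smul_def]
  conv_lhs => rw [h.coord_spec f, h.coord_spec g]
  simp only [Algebra.smul_def, map_mul, map_add]
  linear_combination (algebraMap R A (h.coord f) * algebraMap R A (h.coord g)) * hxa2

/-- `r • (x ⊗ x) = 0` forces `r = 0`. -/
theorem Gen.tmul_free {r : R} (e : r • (x ⊗ₜ[R] x) = 0) : r = 0 := by
  have := congrArg (fun t => TensorProduct.lid R R (TensorProduct.map h.coordLin h.coordLin t)) e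
  simpa [h.coordLin_x] using this

end Gen

section Hom

variable {R : Type*} [CommRing R] {A : Type*} [CommRing A] [Bialgebra R A]
  {A' : Type*} [CommRing A'] [Bialgebra R A']
  {x : A} (h : Gen R x) {x' : A'} (h' : Gen R x')

/-- The algebra map `A → A'` with `x ↦ s • x'`. -/
noncomputable def mkHom {a a' : R} (hxa : x * x = a • x) (hxa' : x' * x' = a' • x') (s : R)
    (hs : s * a = s * s * a') : A →ₐ[R] A' :=
  AlgHom.ofLinearMap
    ((Algebra.linearMap R A').comp (Bialgebra.counitAlgHom R A).toLinearMap +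
      (LinearMap.toSpanSingleton R A' (s • x')).comp h.coordLin)
    (by
      change algebraMap R A' (Bialgebra.counitAlgHom R A 1) + h.coord 1 • (s • x') = 1
      rw [map_one, map_one, ← map_one (algebraMap R A), h.coord_algebraMap, zero_smul, add_zero])
    (by
      intro f g
      change algebraMap R A' (Bialgebra.counitAlgHom R A (f * g)) + h.coord (f * g) • (s • x') =
        (algebraMap R A' (Bialgebra.counitAlgHom R A f) + h.coord f • (s • x')) *
          (algebraMap R A' (Bialgebra.counitAlgHom R A g) + h.coord g • (s • x'))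
      rw [h.coord_mul hxa]
      have hxa2 : x' * x' = algebraMap R A' a' * x' := by rw [hxa', Algebra.smul_def]
      simp only [Algebra.smul_def, map_mul, map_add]
      have : algebraMap R A' (s * a) = algebraMap R A' (s * s * a') := by rw [hs]
      simp only [map_mul] at this
      linear_combination (algebraMap R A' (h.coord f) * algebraMap R A' (h.coord g) * x') * this -
        (algebraMap R A' (h.coord f) * algebraMap R A' (h.coord g) * algebraMap R A' s *
          algebraMap R A' s) * hxa2)

theorem mkHom_x {a a' : R} (hxa : x * x = a • x) (hxa' : x' * x' = a' • x') (s : R)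
    (hs : s * a = s * s * a') : mkHom h hxa hxa' s hs x = s • x' := by
  change algebraMap R A' (Bialgebra.counitAlgHom R A x) + h.coord x • (s • x') = s • x'
  rw [h.counit_x, map_zero, zero_add, h.coord_x, one_smul]

end Hom

section Equiv

variable {R : Type*} [CommRing R] {A : Type*} [CommRing A] [Bialgebra R A]
  {A' : Type*} [CommRing A'] [Bialgebra R A']
  {x : A} (h : Gen R x) {x' : A'} (h' : Gen R x')
include h h'

/-- The bialgebra isomorphism `G_{a,b} ≅ G_{a',b'}` attached to a unit `s`. -/
theorem nonempty_bialgEquiv_of_unit {a b a' b' : R} (hxa : x * x = a • x)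
    (hxb : Bialgebra.comulAlgHom R A x = x ⊗ₜ[R] 1 + 1 ⊗ₜ[R] x + b • (x ⊗ₜ[R] x))
    (hxa' : x' * x' = a' • x')
    (hxb' : Bialgebra.comulAlgHom R A' x' = x' ⊗ₜ[R] 1 + 1 ⊗ₜ[R] x' + b' • (x' ⊗ₜ[R] x'))
    (s : Rˣ) (hs1 : a = a' * (s : R)) (hs2 : b' = b * (s : R)) : Nonempty (A ≃ₐc[R] A') := by
  have e1 : (s : R) * a = (s : R) * (s : R) * a' := by rw [hs1]; ring
  have e2 : ((s⁻¹ : Rˣ) : R) * a' = ((s⁻¹ : Rˣ) : R) * ((s⁻¹ : Rˣ) : R) * a := by
    rw [hs1]
    have : ((s⁻¹ : Rˣ) : R) * (s : R) = 1 := by simp
    linear_combination (-(((s⁻¹ : Rˣ) : R) * a')) * this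
  let φ := mkHom h hxa hxa' (s : R) e1
  let ψ := mkHom h' hxa' hxa ((s⁻¹ : Rˣ) : R) e2
  have hφ : φ x = (s : R) • x' := mkHom_x h hxa hxa' _ e1
  have hψ : ψ x' = ((s⁻¹ : Rˣ) : R) • x := mkHom_x h' hxa' hxa _ e2
  have c1 : φ.comp ψ = AlgHom.id R A' := by
    apply h'.algHom_ext
    rw [AlgHom.comp_apply, hψ, map_smul, hφ, smul_smul, AlgHom.id_apply]
    simp
  have c2 : ψ.comp φ = AlgHom.id R A := by
    apply h.algHom_ext
    rw [AlgHom.comp_apply, hφ, map_smul, hψ, smul_smul, AlgHom.id_apply]
    simp
  refine ⟨BialgEquiv.ofAlgEquiv (AlgEquiv.ofAlgHom φ ψ c1 c2) ?_ ?_⟩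
  · apply h.algHom_ext
    change Bialgebra.counitAlgHom R A' (φ x) = Bialgebra.counitAlgHom R A x
    rw [hφ, map_smul, h'.counit_x, h.counit_x, smul_zero]
  · apply h.algHom_ext
    change Algebra.TensorProduct.map φ φ (Bialgebra.comulAlgHom R A x) =
      Bialgebra.comulAlgHom R A' (φ x)
    rw [hxb, hφ, map_smul, hxb', hs2]
    simp only [map_add, map_smul, Algebra.TensorProduct.map_tmul, hφ, map_one,
      TensorProduct.smul_tmul', TensorProduct.tmul_smul, smul_add, smul_smul]

theorem exists_unit_of_bialgEquiv {a b a' b' : R} (hxa : x * x = a • x)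
    (hxb : Bialgebra.comulAlgHom R A x = x ⊗ₜ[R] 1 + 1 ⊗ₜ[R] x + b • (x ⊗ₜ[R] x))
    (hxa' : x' * x' = a' • x')
    (hxb' : Bialgebra.comulAlgHom R A' x' = x' ⊗ₜ[R] 1 + 1 ⊗ₜ[R] x' + b' • (x' ⊗ₜ[R] x'))
    (φ : A ≃ₐc[R] A') : ∃ s : Rˣ, a = a' * (s : R) ∧ b' = b * (s : R) := by
  have hc : ∀ f : A, Bialgebra.counitAlgHom R A' (φ f) = Bialgebra.counitAlgHom R A f := fun f =>
    CoalgHomClass.counit_comp_apply φ f
  have hc' : ∀ f : A', Bialgebra.counitAlgHom R A (φ.symm f) = Bialgebra.counitAlgHom R A' f :=
    fun f => by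
      have := hc (φ.symm f)
      rw [BialgEquiv.apply_symm_apply] at this
      exact this.symm
  obtain ⟨s, hs⟩ := h'.gen (φ x) (by rw [hc, h.counit_x])
  obtain ⟨t, ht⟩ := h.gen (φ.symm x') (by rw [hc', h'.counit_x])
  have hst : s * t = 1 := by
    have e : x = (s * t) • x := by
      have := φ.symm_apply_apply x
      rw [hs, map_smul, ht, smul_smul] at this
      exact this.symm
    have : (1 : R) • x = (s * t) • x := by rw [one_smul]; exact e
    exact (h.smul_inj this).symm
  have ha : a * s = s * s * a' := by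
    have e : φ (x * x) = φ x * φ x := map_mul φ x x
    rw [hxa, map_smul, hs, smul_mul_smul_comm, hxa', smul_smul, smul_smul] at e
    exact h'.smul_inj e
  have hb : s * b' = b * (s * s) := by
    have e : TensorProduct.map (φ : A →ₗ[R] A') (φ : A →ₗ[R] A') (Bialgebra.comulAlgHom R A x) =
        Bialgebra.comulAlgHom R A' (φ x) := CoalgHomClass.map_comp_comul_apply φ x
    rw [hxb, hs, map_smul, hxb'] at e
    simp only [map_add, map_smul, TensorProduct.map_tmul, smul_add] at e
    have e' : (φ : A →ₗ[R] A') x = s • x' := hs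
    have e1 : (φ : A →ₗ[R] A') 1 = 1 := map_one φ
    rw [e', e1] at e
    simp only [TensorProduct.smul_tmul', TensorProduct.tmul_smul, smul_smul] at e
    have e2 : (b * (s * s)) • (x' ⊗ₜ[R] x') = (s * b') • (x' ⊗ₜ[R] x') := by
      have := add_left_cancel e
      rw [TensorProduct.smul_tmul', TensorProduct.smul_tmul']
      exact this
    have : (s * b' - b * (s * s)) • (x' ⊗ₜ[R] x') = 0 := by
      rw [sub_smul, e2, sub_self]
    exact sub_eq_zero.mp (h'.tmul_free this)
  refine ⟨Units.mkOfMulEqOne s t hst, ?_, ?_⟩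
  · change a = a' * s
    linear_combination t * ha + (-a + s * a') * hst
  · change b' = b * s
    have hts : t * s = 1 := by rw [mul_comm]; exact hst
    linear_combination t * hb + (b * s - b') * hts

end Equiv

end Groth.Agent.Lib.RankTwoHopf58
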