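import Mathlib
import Groth.Agent.Lib.ZMTBir
import Groth.Agent.Lib.ExtVal3
import Groth.Agent.Lib.ValDense2

/-!
# Zariski's main theorem as a lifting statement at a normal point

* `exists_factor_of_isolated` (algebra): `R → B` of finite type, `O = R_p` an integrally closed
  domain with fraction field `K`, `τ : B → K` over `R`, and a prime `z'` of `B` over `p` containing
  `ker τ` which is the only such prime. Then `τ` factors through `O`.
* `exists_lift_of_isolated` (schemes): the corresponding lifting statement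
  `Spec O_{X,x} ⟶ P` for `p : P ⟶ X` locally of finite type.
-/

set_option autoImplicit false

universe u

open CategoryTheory CategoryTheory.Limits AlgebraicGeometry TopologicalSpace IsLocalRing

namespace Groth.Agent.Lib.ZMTLift

section algebra

variable {R B O K : Type u} [CommRing R] [CommRing B] [CommRing O] [IsDomain O] [Field K]
  [Algebra R B] [Algebra.FiniteType R B] [Algebra R O] [Algebra O K] [IsFractionRing O K]
  [IsIntegrallyClosed O]

theorem exists_factor_of_isolated (τ : B →+* K) (px : Ideal R) [px.IsPrime]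
    [IsLocalization.AtPrime O px]
    (hcompat : ∀ r, τ (algebraMap R B r) = algebraMap O K (algebraMap R O r))
    (z' : PrimeSpectrum B) (hker : RingHom.ker τ ≤ z'.asIdeal)
    (hz' : z'.asIdeal.comap (algebraMap R B) = px)
    (hiso : ∀ b' : PrimeSpectrum B, RingHom.ker τ ≤ b'.asIdeal →
      b'.asIdeal.comap (algebraMap R B) = px → b' = z') :
    ∃ β : B →+* O, (algebraMap O K).comp β = τ ∧
      ∀ r, β (algebraMap R B r) = algebraMap R O r := by
  classical
  let A := B ⧸ RingHom.ker τ
  letI algAK : Algebra A K := (RingHom.kerLift τ).toAlgebra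
  letI algRK : Algebra R K := ((algebraMap O K).comp (algebraMap R O)).toAlgebra
  have htower : IsScalarTower R A K := IsScalarTower.of_algebraMap_eq fun r => by
    change (algebraMap O K) (algebraMap R O r) = RingHom.kerLift τ (Ideal.Quotient.mk _ (algebraMap R B r))
    rw [RingHom.kerLift_mk, hcompat]
  have htowerO : IsScalarTower R O K := IsScalarTower.of_algebraMap_eq fun r => rfl
  have hAK : Function.Injective (algebraMap A K) := RingHom.kerLift_injective τ
  have hmk : Function.Surjective (Ideal.Quotient.mk (RingHom.ker τ)) := Ideal.Quotient.mk_surjective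
  let q : Ideal A := z'.asIdeal.map (Ideal.Quotient.mk (RingHom.ker τ))
  have hqprime : q.IsPrime := Ideal.map_isPrime_of_surjective hmk (by rwa [Ideal.mk_ker])
  have hqcomap : q.comap (Ideal.Quotient.mk (RingHom.ker τ)) = z'.asIdeal := by
    rw [Ideal.comap_map_of_surjective _ hmk, ← RingHom.ker_eq_comap_bot, Ideal.mk_ker]
    exact sup_eq_left.mpr hker
  have hqunder : q.under R = px := by
    change (q.comap (algebraMap R A)) = px
    have : algebraMap R A = (Ideal.Quotient.mk (RingHom.ker τ)).comp (algebraMap R B) := rfl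
    rw [this, ← Ideal.comap_comap, hqcomap, hz']
  -- quasi-finiteness at `q`
  have hqf : Algebra.QuasiFiniteAt R q := by
    let qq : PrimeSpectrum A := ⟨q, hqprime⟩
    refine Algebra.QuasiFiniteAt.of_isOpen_singleton_fiber qq ?_
    have huniv : ({⟨qq, rfl⟩} : Set (PrimeSpectrum.comap (algebraMap R A) ⁻¹'
        {qq.comap (algebraMap R A)})) = Set.univ := by
      rw [Set.eq_univ_iff_forall]
      rintro ⟨q', hq'⟩
      rw [Set.mem_singleton_iff, Subtype.mk.injEq]
      have hq'' : q'.asIdeal.comap (algebraMap R A) = px := by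
        have := congrArg PrimeSpectrum.asIdeal hq'
        exact this.trans hqunder
      let b' : PrimeSpectrum B := q'.comap (Ideal.Quotient.mk (RingHom.ker τ))
      have hb'1 : RingHom.ker τ ≤ b'.asIdeal := by
        intro b hb
        change Ideal.Quotient.mk _ b ∈ q'.asIdeal
        rw [Ideal.Quotient.eq_zero_iff_mem.mpr hb]
        exact zero_mem _
      have hb'2 : b'.asIdeal.comap (algebraMap R B) = px := by
        rw [← hq'']
        rfl
      have hb' := hiso b' hb'1 hb'2
      apply PrimeSpectrum.comap_injective_of_surjective _ hmk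
      rw [show PrimeSpectrum.comap (Ideal.Quotient.mk (RingHom.ker τ)) q' = b' from rfl, hb']
      apply PrimeSpectrum.ext
      exact hqcomap.symm
    rw [huniv]
    exact isOpen_univ
  -- integral elements of `K` over `R` are fractions with denominator outside `px`
  have H : ∀ k : K, IsIntegral R k → ∃ c d : R, d ∉ q.under R ∧
      k * algebraMap R K d = algebraMap R K c := by
    intro k hk
    have hk' : IsIntegral O k := hk.tower_top
    obtain ⟨o, rfl⟩ := IsIntegrallyClosed.isIntegral_iff.mp hk'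
    obtain ⟨⟨c, d⟩, hcd⟩ := IsLocalization.surj px.primeCompl o
    refine ⟨c, d.1, by rw [hqunder]; exact d.2, ?_⟩
    change algebraMap O K o * algebraMap O K (algebraMap R O d.1) = algebraMap O K (algebraMap R O c)
    rw [← map_mul, hcd]
  obtain ⟨s, hs, hfac⟩ := Groth.Agent.Lib.ZMTBir.exists_pow_mul_eq_of_quasiFiniteAt hAK q H
  rw [hqunder] at hs
  have hsu : IsUnit (algebraMap R O s) :=
    IsLocalization.map_units O (⟨s, hs⟩ : px.primeCompl)
  have hinj : Function.Injective (algebraMap O K) := IsFractionRing.injective O K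
  have hrange : ∀ b : B, ∃ o : O, algebraMap O K o = τ b := by
    intro b
    obtain ⟨n, c, hc⟩ := hfac (Ideal.Quotient.mk _ b)
    obtain ⟨u, hu⟩ := hsu
    refine ⟨algebraMap R O c * ↑(u⁻¹ ^ n), ?_⟩
    have h1 : algebraMap A K (Ideal.Quotient.mk _ b) = τ b := RingHom.kerLift_mk τ b
    rw [h1] at hc
    change τ b * (algebraMap O K (algebraMap R O s)) ^ n = algebraMap O K (algebraMap R O c) at hc
    rw [map_mul, ← hc, ← hu, mul_assoc, ← map_pow, ← map_mul, ← Units.val_pow_eq_pow_val,
      ← Units.val_mul, ← mul_pow, mul_inv_cancel, one_pow, Units.val_one, map_one, mul_one]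
  choose ρ hρ using hrange
  refine ⟨{ toFun := ρ
            map_one' := hinj (by rw [hρ, map_one, map_one])
            map_mul' := fun a b => hinj (by rw [hρ, map_mul, map_mul, hρ, hρ])
            map_zero' := hinj (by rw [hρ, map_zero, map_zero])
            map_add' := fun a b => hinj (by rw [hρ, map_add, map_add, hρ, hρ]) }, ?_, ?_⟩
  · ext b
    exact hρ b
  · intro r
    apply hinj
    change algebraMap O K (ρ (algebraMap R B r)) = _
    rw [hρ, hcompat]

end algebra

section scheme

set_option maxHeartbeats 800000 in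
/-- **Zariski's main theorem as a lifting statement.** Let `p : P ⟶ X` be locally of finite type,
`x : X` a point whose local ring is an integrally closed domain with fraction field `K`, and
`t : Spec K ⟶ P` a point over the generic point of `Spec O_{X,x}`. If `z` is a point over `x`
which is a specialization of the image `g` of `t` and which is isolated among such points
of the fibre, then `t` extends to `Spec O_{X,x} ⟶ P` over `X`. -/
theorem exists_lift_of_isolated {P X : Scheme.{u}} (p : P ⟶ X) [LocallyOfFiniteType p] (x : X)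
    [IsDomain (X.presheaf.stalk x)] (hic : IsIntegrallyClosed (X.presheaf.stalk x))
    {K : Type u} [Field K] [Algebra (X.presheaf.stalk x) K] [IsFractionRing (X.presheaf.stalk x) K]
    (t : Spec (CommRingCat.of K) ⟶ P)
    (ht : t ≫ p =
      Spec.map (CommRingCat.ofHom (algebraMap (X.presheaf.stalk x) K)) ≫ X.fromSpecStalk x)
    (z : P) (hz : p z = x) (hgz : t (closedPoint K) ⤳ z)
    (hiso : ∃ W : P.Opens, z ∈ W ∧
      ∀ z' ∈ W, t (closedPoint K) ⤳ z' → p z' = x → z' = z) :
    ∃ ψ : Spec (X.presheaf.stalk x) ⟶ P, ψ ≫ p = X.fromSpecStalk x ∧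
      Spec.map (CommRingCat.ofHom (algebraMap (X.presheaf.stalk x) K)) ≫ ψ = t := by
  subst hz
  obtain ⟨W, hzW, hW⟩ := hiso
  obtain ⟨_, ⟨W₁, hW₁, rfl⟩, hxW₁, -⟩ := X.isBasis_affineOpens.exists_subset_of_mem_open
    (Set.mem_univ (p z)) isOpen_univ
  have hzpre : z ∈ p ⁻¹ᵁ W₁ ⊓ W := ⟨hxW₁, hzW⟩
  obtain ⟨_, ⟨T, hT, rfl⟩, hzT, hTle⟩ := P.isBasis_affineOpens.exists_subset_of_mem_open
    hzpre (p ⁻¹ᵁ W₁ ⊓ W).isOpen
  have hTW₁ : T ≤ p ⁻¹ᵁ W₁ := fun a ha => (hTle ha).1
  have hTW : T ≤ W := fun a ha => (hTle ha).2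
  have hgT : t (closedPoint K) ∈ T := hgz.mem_open T.isOpen hzT
  obtain ⟨τc, hτc⟩ := Groth.Agent.Lib.ValDense.exists_SpecMap_fromSpec t hT hgT
  letI algRB : Algebra Γ(X, W₁) Γ(P, T) := (p.appLE W₁ T hTW₁).hom.toAlgebra
  letI algRO : Algebra Γ(X, W₁) (X.presheaf.stalk (p z)) :=
    TopCat.Presheaf.algebra_section_stalk X.presheaf ⟨p z, hxW₁⟩
  haveI hft : Algebra.FiniteType Γ(X, W₁) Γ(P, T) :=
    HasRingHomProperty.appLE @LocallyOfFiniteType p inferInstance ⟨W₁, hW₁⟩ ⟨T, hT⟩ hTW₁
  haveI hloc : IsLocalization.AtPrime (X.presheaf.stalk (p z))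
      (hW₁.primeIdealOf ⟨p z, hxW₁⟩).asIdeal := hW₁.isLocalization_stalk ⟨p z, hxW₁⟩
  let ac : X.presheaf.stalk (p z) ⟶ CommRingCat.of K :=
    CommRingCat.ofHom (algebraMap (X.presheaf.stalk (p z)) K)
  -- compatibility of `τ` with the structure maps
  have hfs : X.fromSpecStalk (p z) = Spec.map (X.presheaf.germ W₁ (p z) hxW₁) ≫ hW₁.fromSpec :=
    (hW₁.fromSpecStalk_eq_fromSpecStalk hxW₁).symm
  have hcompat_cat : p.appLE W₁ T hTW₁ ≫ τc = X.presheaf.germ W₁ (p z) hxW₁ ≫ ac := by
    apply Spec.map_injective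
    rw [← cancel_mono hW₁.fromSpec, Spec.map_comp, Spec.map_comp, Category.assoc, Category.assoc,
      IsAffineOpen.SpecMap_appLE_fromSpec p hW₁ hT hTW₁, ← hfs, ← Category.assoc, ← hτc]
    exact ht
  have hcompat : ∀ r, τc.hom (algebraMap Γ(X, W₁) Γ(P, T) r) =
      algebraMap (X.presheaf.stalk (p z)) K (algebraMap Γ(X, W₁) (X.presheaf.stalk (p z)) r) := by
    intro r
    exact congrArg (fun g => g.hom r) hcompat_cat
  -- the point `g` as a prime of `B`
  let g' : PrimeSpectrum Γ(P, T) := Spec.map τc (closedPoint K)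
  have hg'ideal : g'.asIdeal = RingHom.ker τc.hom := by
    change (maximalIdeal K).comap τc.hom = _
    rw [IsLocalRing.maximalIdeal_eq_bot, RingHom.ker_eq_comap_bot]
  have hg'pt : hT.fromSpec g' = t (closedPoint K) := by
    change hT.fromSpec (Spec.map τc (closedPoint K)) = _
    rw [← Scheme.Hom.comp_apply, ← hτc]
  have hemb : Topology.IsInducing hT.fromSpec := hT.fromSpec.isOpenEmbedding.isInducing
  have hspec_iff : ∀ b' : PrimeSpectrum Γ(P, T),
      (RingHom.ker τc.hom ≤ b'.asIdeal ↔ t (closedPoint K) ⤳ hT.fromSpec b') := by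
    intro b'
    rw [← hg'pt, hemb.specializes_iff, ← hg'ideal]
    exact (PrimeSpectrum.asIdeal_le_asIdeal g' b').trans (PrimeSpectrum.le_iff_specializes g' b')
  let z' : PrimeSpectrum Γ(P, T) := hT.primeIdealOf ⟨z, hzT⟩
  have hz'pt : hT.fromSpec z' = z := hT.fromSpec_primeIdealOf ⟨z, hzT⟩
  have hker : RingHom.ker τc.hom ≤ z'.asIdeal := by
    rw [hspec_iff, hz'pt]
    exact hgz
  have hz' : z'.asIdeal.comap (algebraMap Γ(X, W₁) Γ(P, T)) =
      (hW₁.primeIdealOf ⟨p z, hxW₁⟩).asIdeal :=
    congrArg PrimeSpectrum.asIdeal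
      (IsAffineOpen.comap_primeIdealOf_appLE W₁ hW₁ T hT hTW₁ hzT)
  have hpfs : ∀ b' : PrimeSpectrum Γ(P, T), p (hT.fromSpec b') =
      hW₁.fromSpec (b'.comap (p.appLE W₁ T hTW₁).hom) := by
    intro b'
    rw [← Scheme.Hom.comp_apply, ← IsAffineOpen.SpecMap_appLE_fromSpec p hW₁ hT hTW₁,
      Scheme.Hom.comp_apply]
    rfl
  have hiso' : ∀ b' : PrimeSpectrum Γ(P, T), RingHom.ker τc.hom ≤ b'.asIdeal →
      b'.asIdeal.comap (algebraMap Γ(X, W₁) Γ(P, T)) =
        (hW₁.primeIdealOf ⟨p z, hxW₁⟩).asIdeal → b' = z' := by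
    intro b' hb1 hb2
    have h1 : t (closedPoint K) ⤳ hT.fromSpec b' := (hspec_iff b').mp hb1
    have h2 : p (hT.fromSpec b') = p z := by
      rw [hpfs b']
      have : b'.comap (p.appLE W₁ T hTW₁).hom = hW₁.primeIdealOf ⟨p z, hxW₁⟩ :=
        PrimeSpectrum.ext hb2
      rw [this, hW₁.fromSpec_primeIdealOf ⟨p z, hxW₁⟩]
    have hmemT : hT.fromSpec b' ∈ T := by
      have : hT.fromSpec b' ∈ Set.range hT.fromSpec := Set.mem_range_self b'
      rw [hT.range_fromSpec] at this
      exact this
    have h3 := hW (hT.fromSpec b') (hTW hmemT) h1 h2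
    apply hT.fromSpec.isOpenEmbedding.injective
    rw [h3, hz'pt]
  obtain ⟨β, hβ1, hβ2⟩ := exists_factor_of_isolated (R := Γ(X, W₁)) (B := Γ(P, T))
    (O := X.presheaf.stalk (p z)) (K := K) τc.hom (hW₁.primeIdealOf ⟨p z, hxW₁⟩).asIdeal
    hcompat z' hker hz' hiso'
  let βc : Γ(P, T) ⟶ X.presheaf.stalk (p z) := CommRingCat.ofHom β
  have hβc1 : βc ≫ ac = τc := by
    ext b
    exact congrArg (fun g => g b) hβ1
  have hβc2 : p.appLE W₁ T hTW₁ ≫ βc = X.presheaf.germ W₁ (p z) hxW₁ := by
    ext r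
    exact hβ2 r
  refine ⟨Spec.map βc ≫ hT.fromSpec, ?_, ?_⟩
  · rw [Category.assoc, ← IsAffineOpen.SpecMap_appLE_fromSpec p hW₁ hT hTW₁, ← Category.assoc,
      ← Spec.map_comp, hβc2, hfs]
  · change Spec.map ac ≫ Spec.map βc ≫ hT.fromSpec = t
    rw [← Category.assoc, ← Spec.map_comp, hβc1, ← hτc]

end scheme

end Groth.Agent.Lib.ZMTLift
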