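import Mathlib
import Groth.Agent.Lib.ZMTLift

/-!
# Lifting `Spec K ⟶ P` to `Spec O_{X,x} ⟶ P` when the coordinate ring lands in `O_{X,x}`

`exists_lift_of_range_le`: `p : P ⟶ X`, `x : X` with domain stalk `O` and fraction field `K`,
`t : Spec K ⟶ P` over the generic point of `Spec O`, factoring through an affine open `T` of `P`
lying over an affine open `W₁ ∋ x` via `τ : Γ(P, T) ⟶ K`. If `τ` has image in `O` then `t` extends to
`Spec O ⟶ P` over `X`.
-/

set_option autoImplicit false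

universe u

open CategoryTheory CategoryTheory.Limits AlgebraicGeometry TopologicalSpace IsLocalRing

namespace Groth.Agent.Lib.ZMTLift

set_option maxHeartbeats 800000 in
theorem exists_lift_of_range_le {P X : Scheme.{u}} (p : P ⟶ X) (x : X)
    {K : Type u} [Field K] [Algebra (X.presheaf.stalk x) K]
    (hinj : Function.Injective (algebraMap (X.presheaf.stalk x) K))
    (t : Spec (CommRingCat.of K) ⟶ P)
    (ht : t ≫ p =
      Spec.map (CommRingCat.ofHom (algebraMap (X.presheaf.stalk x) K)) ≫ X.fromSpecStalk x)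
    {W₁ : X.Opens} (hW₁ : IsAffineOpen W₁) (hxW₁ : x ∈ W₁)
    {T : P.Opens} (hT : IsAffineOpen T) (hTW₁ : T ≤ p ⁻¹ᵁ W₁)
    (τc : Γ(P, T) ⟶ CommRingCat.of K) (hτc : t = Spec.map τc ≫ hT.fromSpec)
    (hrange : ∀ b : Γ(P, T), ∃ o : X.presheaf.stalk x,
      algebraMap (X.presheaf.stalk x) K o = τc.hom b) :
    ∃ β : Γ(P, T) ⟶ X.presheaf.stalk x,
      (∀ b, algebraMap (X.presheaf.stalk x) K (β.hom b) = τc.hom b) ∧
      (Spec.map β ≫ hT.fromSpec) ≫ p = X.fromSpecStalk x ∧
      Spec.map (CommRingCat.ofHom (algebraMap (X.presheaf.stalk x) K)) ≫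
        Spec.map β ≫ hT.fromSpec = t := by
  let ac : X.presheaf.stalk x ⟶ CommRingCat.of K :=
    CommRingCat.ofHom (algebraMap (X.presheaf.stalk x) K)
  have hfs : X.fromSpecStalk x = Spec.map (X.presheaf.germ W₁ x hxW₁) ≫ hW₁.fromSpec :=
    (hW₁.fromSpecStalk_eq_fromSpecStalk hxW₁).symm
  have hcompat_cat : p.appLE W₁ T hTW₁ ≫ τc = X.presheaf.germ W₁ x hxW₁ ≫ ac := by
    apply Spec.map_injective
    rw [← cancel_mono hW₁.fromSpec, Spec.map_comp, Spec.map_comp, Category.assoc, Category.assoc,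
      IsAffineOpen.SpecMap_appLE_fromSpec p hW₁ hT hTW₁, ← hfs, ← Category.assoc, ← hτc]
    exact ht
  choose ρ hρ using hrange
  let β : Γ(P, T) →+* X.presheaf.stalk x :=
    { toFun := ρ
      map_one' := hinj (by rw [hρ, map_one, map_one])
      map_mul' := fun a b => hinj (by rw [hρ, map_mul, map_mul, hρ, hρ])
      map_zero' := hinj (by rw [hρ, map_zero, map_zero])
      map_add' := fun a b => hinj (by rw [hρ, map_add, map_add, hρ, hρ]) }
  let βc : Γ(P, T) ⟶ X.presheaf.stalk x := CommRingCat.ofHom β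
  have hβc1 : βc ≫ ac = τc := by
    ext b
    exact hρ b
  have hβc2 : p.appLE W₁ T hTW₁ ≫ βc = X.presheaf.germ W₁ x hxW₁ := by
    ext r
    apply hinj
    change algebraMap _ K (ρ ((p.appLE W₁ T hTW₁).hom r)) = _
    rw [hρ]
    exact congrArg (fun g => g.hom r) hcompat_cat
  refine ⟨βc, hρ, ?_, ?_⟩
  · rw [Category.assoc, ← IsAffineOpen.SpecMap_appLE_fromSpec p hW₁ hT hTW₁, ← Category.assoc,
      ← Spec.map_comp, hβc2, hfs]
  · change Spec.map ac ≫ Spec.map βc ≫ hT.fromSpec = t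
    rw [← Category.assoc, ← Spec.map_comp, hβc1, ← hτc]

end Groth.Agent.Lib.ZMTLift
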