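import Mathlib
import Groth.Agent.Lib.ZMTLift3
import Groth.Agent.Lib.DvrDominating2
import Groth.Agent.Lib.NoethClosureSpec
import Groth.Agent.S4450

/-!
# The valuative criterion (with discrete valuation rings) for a rational section to be defined
at a normal point (EGA IV 20.4-type statements; helper85)

* `Hyp q U h x y₀`: every DVR-curve through `x` with generic point in `U` lifts to `Y` with
  closed point `y₀`, compatibly with `h`.
* `hyp_valuationSubring`: the hypothesis applied to a discrete valuation subring of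
  `Frac O_{X,x}` dominating `O_{X,x}`.
* `exists_nhd_map_into`: under `Hyp`, `h` maps `U ∩ W₂` into a given neighbourhood of `y₀`.
* `exists_glue_of_lift`: gluing lemma (`q` not necessarily separated).
* `exists_lift_of_hyp`: under `Hyp` at a normal point, `Spec K ⟶ Y` extends to `Spec O_{X,x} ⟶ Y`
  with closed point `y₀`.
-/

set_option autoImplicit false
universe u
open CategoryTheory CategoryTheory.Limits AlgebraicGeometry TopologicalSpace IsLocalRing

namespace Groth.Agent.Lib.RatDvr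

/-- The DVR hypothesis: every DVR-curve through `x` with generic point in `U` lifts to `Y`
with closed point `y₀`, compatibly with `h`. -/
def Hyp {X Y : Scheme.{u}} (q : Y ⟶ X) (U : X.Opens) (h : (U : Scheme.{u}) ⟶ Y) (x : X) (y₀ : Y) :
    Prop :=
  ∀ (R : Type u) [CommRing R] [IsDomain R] [IsDiscreteValuationRing R]
    (u : Spec (CommRingCat.of R) ⟶ X), u (IsLocalRing.closedPoint R) = x →
    ∀ ub : Spec (CommRingCat.of (FractionRing R)) ⟶ (U : Scheme.{u}),
      ub ≫ U.ι = Spec.map (CommRingCat.ofHom (algebraMap R (FractionRing R))) ≫ u →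
      ∃ h₁ : Spec (CommRingCat.of R) ⟶ Y, h₁ ≫ q = u ∧ h₁ (IsLocalRing.closedPoint R) = y₀ ∧
        Spec.map (CommRingCat.ofHom (algebraMap R (FractionRing R))) ≫ h₁ = ub ≫ h

variable {X Y : Scheme.{u}} (q : Y ⟶ X) (U : X.Opens) (h : (U : Scheme.{u}) ⟶ Y) (x : X) (y₀ : Y)

set_option maxHeartbeats 800000 in
theorem hyp_valuationSubring (H : Hyp q U h x y₀) [IsDomain (X.presheaf.stalk x)]
    (ξU : Spec (CommRingCat.of (FractionRing (X.presheaf.stalk x))) ⟶ U)
    (hξU : ξU ≫ U.ι = Spec.map (CommRingCat.ofHom (algebraMap (X.presheaf.stalk x)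
      (FractionRing (X.presheaf.stalk x)))) ≫ X.fromSpecStalk x)
    (V : ValuationSubring (FractionRing (X.presheaf.stalk x))) (hV : IsDiscreteValuationRing V)
    (ιV : X.presheaf.stalk x →+* V) (hιV : ∀ a, (ιV a : FractionRing (X.presheaf.stalk x)) =
      algebraMap (X.presheaf.stalk x) (FractionRing (X.presheaf.stalk x)) a)
    (hloc : IsLocalHom ιV) :
    ∃ h₁ : Spec (CommRingCat.of V) ⟶ Y,
      h₁ ≫ q = Spec.map (CommRingCat.ofHom ιV) ≫ X.fromSpecStalk x ∧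
      h₁ (closedPoint V) = y₀ ∧
      Spec.map (CommRingCat.ofHom V.subtype) ≫ h₁ = ξU ≫ h := by
  let K := FractionRing (X.presheaf.stalk x)
  let e : FractionRing V ≃ₐ[V] K := FractionRing.algEquiv V K
  let uV : Spec (CommRingCat.of V) ⟶ X := Spec.map (CommRingCat.ofHom ιV) ≫ X.fromSpecStalk x
  have hucl : uV (closedPoint V) = x := by
    change (Spec.map (CommRingCat.ofHom ιV) ≫ X.fromSpecStalk x) (closedPoint V) = x
    rw [Scheme.Hom.comp_apply]
    have : Spec.map (CommRingCat.ofHom ιV) (closedPoint V) = closedPoint (X.presheaf.stalk x) :=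
      IsLocalRing.comap_closedPoint ιV
    rw [this, Scheme.fromSpecStalk_closedPoint]
  let esc : CommRingCat.of K ⟶ CommRingCat.of (FractionRing V) :=
    CommRingCat.ofHom (e.symm : K →+* FractionRing V)
  let ub : Spec (CommRingCat.of (FractionRing V)) ⟶ (U : Scheme.{u}) := Spec.map esc ≫ ξU
  have hsub : CommRingCat.ofHom (algebraMap V (FractionRing V)) =
      CommRingCat.ofHom V.subtype ≫ esc := by
    ext a
    change algebraMap V (FractionRing V) a = e.symm (a : K)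
    exact (e.symm.commutes a).symm
  have hsq : CommRingCat.ofHom (algebraMap (X.presheaf.stalk x) K) ≫ esc =
      CommRingCat.ofHom ιV ≫ CommRingCat.ofHom (algebraMap V (FractionRing V)) := by
    ext a
    change e.symm (algebraMap (X.presheaf.stalk x) K a) = algebraMap V (FractionRing V) (ιV a)
    rw [← hιV a]
    exact e.symm.commutes (ιV a)
  have hub : ub ≫ U.ι = Spec.map (CommRingCat.ofHom (algebraMap V (FractionRing V))) ≫ uV := by
    change (Spec.map esc ≫ ξU) ≫ U.ι = _ ≫ Spec.map (CommRingCat.ofHom ιV) ≫ X.fromSpecStalk x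
    rw [Category.assoc, hξU, ← Category.assoc, ← Spec.map_comp, hsq, Spec.map_comp,
      Category.assoc]
  obtain ⟨h₁, hh₁q, hh₁cl, hh₁gen⟩ := H V uV hucl ub hub
  refine ⟨h₁, hh₁q, hh₁cl, ?_⟩
  have hiso : IsIso (Spec.map esc) := by
    have : IsIso esc := by
      have := (e.symm.toRingEquiv.toCommRingCatIso).isIso_hom
      exact this
    infer_instance
  rw [← cancel_epi (Spec.map esc), ← Category.assoc, ← Spec.map_comp, ← hsub, hh₁gen]
  rfl

set_option maxHeartbeats 800000 in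
/-- Under the DVR hypothesis, `h` maps `U ∩ W₂` into any given open neighbourhood `T` of `y₀`,
for a suitable open neighbourhood `W₂` of `x`. -/
theorem exists_nhd_map_into [IsLocallyNoetherian X] (H : Hyp q U h x y₀) (hxU : x ∉ U)
    (T : Y.Opens) (hy₀T : y₀ ∈ T) :
    ∃ W₂ : X.Opens, x ∈ W₂ ∧ ∀ u : U, U.ι u ∈ W₂ → h u ∈ T := by
  classical
  let Zbad : Set X := U.ι '' (h ⁻¹' ((T : Set Y)ᶜ))
  have hlc : IsLocallyClosed Zbad :=
    (T.isOpen.isClosed_compl.preimage h.continuous).isLocallyClosed.image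
      U.ι.isOpenEmbedding.isInducing U.ι.isOpenEmbedding.isOpen_range.isLocallyClosed
  by_cases hx : x ∈ closure Zbad
  · exfalso
    obtain ⟨z, ⟨u₁, hu₁, rfl⟩, hsp⟩ :=
      Groth.Agent.Lib.NoethClosureSpec.exists_specializes_of_mem_closure hlc hx
    have hne : x ≠ U.ι u₁ := by
      intro he
      apply hxU
      rw [he]
      exact u₁.2
    obtain ⟨A, hA, hAdvr, hAcl, hAcomm⟩ := Groth.Agent.S4450.result U.ι u₁ x hsp hne
    let e : FractionRing A ≃ₐ[A] (U : Scheme.{u}).residueField u₁ :=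
      FractionRing.algEquiv A ((U : Scheme.{u}).residueField u₁)
    have hsub : CommRingCat.ofHom (algebraMap A (FractionRing A)) =
        CommRingCat.ofHom A.subtype ≫
          CommRingCat.ofHom (e.symm : (U : Scheme.{u}).residueField u₁ →+* FractionRing A) := by
      ext a
      change algebraMap A (FractionRing A) a = e.symm (a : (U : Scheme.{u}).residueField u₁)
      exact (e.symm.commutes a).symm
    let ub : Spec (CommRingCat.of (FractionRing A)) ⟶ (U : Scheme.{u}) :=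
      Spec.map (CommRingCat.ofHom (e.symm : (U : Scheme.{u}).residueField u₁ →+* FractionRing A)) ≫
        (U : Scheme.{u}).fromSpecResidueField u₁
    have hub : ub ≫ U.ι = Spec.map (CommRingCat.ofHom (algebraMap A (FractionRing A))) ≫ hA := by
      rw [hsub, Spec.map_comp, Category.assoc, Category.assoc, hAcomm]
    obtain ⟨h₁, -, hh₁cl, hh₁gen⟩ := H A hA hAcl ub hub
    let pt : ↥(Spec (CommRingCat.of (FractionRing A))) := IsLocalRing.closedPoint (FractionRing A)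
    let ηR : ↥(Spec (CommRingCat.of A)) :=
      Spec.map (CommRingCat.ofHom (algebraMap A (FractionRing A))) pt
    have hηR : ηR ⤳ IsLocalRing.closedPoint A := IsLocalRing.specializes_closedPoint ηR
    have hubpt : ub pt = u₁ := by
      change (Spec.map _ ≫ (U : Scheme.{u}).fromSpecResidueField u₁) pt = u₁
      rw [Scheme.Hom.comp_apply]
      exact Scheme.fromSpecResidueField_apply u₁ _
    have h3 : h u₁ = h₁ ηR := by
      have h5 : h (ub pt) = h₁ ηR := by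
        change h (ub pt) = h₁ (Spec.map _ pt)
        rw [← Scheme.Hom.comp_apply, ← hh₁gen, Scheme.Hom.comp_apply]
      exact (congrArg h hubpt).symm.trans h5
    have h4 : h u₁ ⤳ y₀ := by
      rw [h3, ← hh₁cl]
      exact hηR.map h₁.continuous
    exact hu₁ (h4.mem_open T.isOpen hy₀T)
  · refine ⟨⟨(closure Zbad)ᶜ, isClosed_closure.isOpen_compl⟩, hx, ?_⟩
    intro u₁ hu₁
    by_contra hnot
    exact hu₁ (subset_closure ⟨u₁, hnot, rfl⟩)

omit q U h x y₀ in
lemma homOfLE_mk {A B : X.Opens} (hAB : A ≤ B) (x : X) (hx : x ∈ A) :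
    X.homOfLE hAB ⟨x, hx⟩ = ⟨x, hAB hx⟩ := by
  apply B.ι.isOpenEmbedding.injective
  rw [← Scheme.Hom.comp_apply, X.homOfLE_ι]
  rfl

open Groth.Agent.Lib.ExtVal in
set_option maxHeartbeats 1600000 in
/-- Gluing lemma for a possibly non-separated `q`: a lift `ψ : Spec O_{X,x} ⟶ Y` agreeing with `h`
generically, such that `h` maps `U ∩ W₂` into an affine open `T` containing `ψ(closed point)`,
glues with `h` to an extension over an open containing `U` and `x`. -/
theorem exists_glue_of_lift [LocallyOfFiniteType q] (hh : h ≫ q = U.ι)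
    (W₀ : X.Opens) [IsIntegral W₀] (hxW₀ : x ∈ W₀) [IsDomain (X.presheaf.stalk x)]
    (ξU : Spec (CommRingCat.of (FractionRing (X.presheaf.stalk x))) ⟶ U)
    (hξU : ξU ≫ U.ι = Spec.map (CommRingCat.ofHom (algebraMap (X.presheaf.stalk x)
      (FractionRing (X.presheaf.stalk x)))) ≫ X.fromSpecStalk x)
    (ψ : Spec (X.presheaf.stalk x) ⟶ Y) (hψ1 : ψ ≫ q = X.fromSpecStalk x)
    (hψ2 : Spec.map (CommRingCat.ofHom (algebraMap (X.presheaf.stalk x)
      (FractionRing (X.presheaf.stalk x)))) ≫ ψ = ξU ≫ h)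
    (T : Y.Opens) (hT : IsAffineOpen T) (hψT : ψ (closedPoint (X.presheaf.stalk x)) ∈ T)
    (W₂ : X.Opens) (hxW₂ : x ∈ W₂) (hW₂ : ∀ u : U, U.ι u ∈ W₂ → h u ∈ T) :
    ∃ (U' : X.Opens) (hUU' : U ≤ U') (hxU' : x ∈ U') (h' : (U' : Scheme.{u}) ⟶ Y),
      h' ≫ q = U'.ι ∧ X.homOfLE hUU' ≫ h' = h ∧
      h' ⟨x, hxU'⟩ = ψ (closedPoint (X.presheaf.stalk x)) := by
  classical
  have hinj : Function.Injective (algebraMap (X.presheaf.stalk x)
      (FractionRing (X.presheaf.stalk x))) := IsFractionRing.injective _ _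
  have hgi : X.IsGermInjectiveAt x := by
    have h0 : (W₀ : Scheme.{u}).IsGermInjectiveAt ⟨x, hxW₀⟩ := inferInstance
    exact (inferInstance : X.IsGermInjectiveAt (W₀.ι ⟨x, hxW₀⟩))
  have hψ1' : ψ ≫ q = X.fromSpecStalk x ≫ 𝟙 X := by rw [hψ1, Category.comp_id]
  obtain ⟨W', hxW', f₁, hf₁φ, hf₁⟩ := spread_out_of_isGermInjective' (𝟙 X) q ψ hψ1'
  rw [Category.comp_id] at hf₁
  have hclW' : W'.fromSpecStalkOfMem x hxW' (closedPoint (X.presheaf.stalk x)) = ⟨x, hxW'⟩ := by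
    apply W'.ι.isOpenEmbedding.injective
    rw [← Scheme.Hom.comp_apply, Scheme.Opens.fromSpecStalkOfMem_ι,
      Scheme.fromSpecStalk_closedPoint]
    rfl
  have hf₁x : f₁ ⟨x, hxW'⟩ = ψ (closedPoint (X.presheaf.stalk x)) := by
    rw [hf₁φ, Scheme.Hom.comp_apply, hclW']
  let W₄ : X.Opens := ⟨W'.ι '' (f₁ ⁻¹' (T : Set Y)),
    W'.ι.isOpenEmbedding.isOpenMap _ (T.isOpen.preimage f₁.continuous)⟩
  have hxW₄ : x ∈ W₄ := ⟨⟨x, hxW'⟩, by
    change f₁ ⟨x, hxW'⟩ ∈ T
    rw [hf₁x]; exact hψT, rfl⟩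
  let W₃ : X.Opens := W' ⊓ W₀ ⊓ W₂ ⊓ W₄
  have hxW₃ : x ∈ W₃ := ⟨⟨⟨hxW', hxW₀⟩, hxW₂⟩, hxW₄⟩
  have hW₃W' : W₃ ≤ W' := fun _ hy => hy.1.1.1
  have hW₃W₀ : W₃ ≤ W₀ := fun _ hy => hy.1.1.2
  have hW₃W₂ : W₃ ≤ W₂ := fun _ hy => hy.1.2
  have hW₃W₄ : W₃ ≤ W₄ := fun _ hy => hy.2
  let f₃ : (W₃ : Scheme.{u}) ⟶ Y := X.homOfLE hW₃W' ≫ f₁
  have hf₃ : f₃ ≫ q = W₃.ι := by
    change (X.homOfLE hW₃W' ≫ f₁) ≫ q = _
    rw [Category.assoc, hf₁, X.homOfLE_ι]
  let Z : X.Opens := U ⊓ W₃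
  let g₁ : (Z : Scheme.{u}) ⟶ Y := X.homOfLE (inf_le_left : Z ≤ U) ≫ h
  let g₂ : (Z : Scheme.{u}) ⟶ Y := X.homOfLE (inf_le_right : Z ≤ W₃) ≫ f₃
  have hg₁q : g₁ ≫ q = Z.ι := by
    change (X.homOfLE (inf_le_left : Z ≤ U) ≫ h) ≫ q = _
    rw [Category.assoc, hh, X.homOfLE_ι]
  have hg₂q : g₂ ≫ q = Z.ι := by
    change (X.homOfLE (inf_le_right : Z ≤ W₃) ≫ f₃) ≫ q = _
    rw [Category.assoc, hf₃, X.homOfLE_ι]
  have hr₁ : Set.range g₁ ⊆ Set.range T.ι := by
    rw [Scheme.Opens.range_ι]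
    rintro _ ⟨z, rfl⟩
    change (X.homOfLE (inf_le_left : Z ≤ U) ≫ h) z ∈ T
    rw [Scheme.Hom.comp_apply]
    apply hW₂
    rw [← Scheme.Hom.comp_apply, X.homOfLE_ι]
    exact hW₃W₂ z.2.2
  have hr₂ : Set.range g₂ ⊆ Set.range T.ι := by
    rw [Scheme.Opens.range_ι]
    rintro _ ⟨z, rfl⟩
    change (X.homOfLE (inf_le_right : Z ≤ W₃) ≫ X.homOfLE hW₃W' ≫ f₁) z ∈ T
    rw [Scheme.Hom.comp_apply, Scheme.Hom.comp_apply]
    obtain ⟨w', hw'T, hw'⟩ := hW₃W₄ z.2.2
    have : X.homOfLE hW₃W' (X.homOfLE (inf_le_right : Z ≤ W₃) z) = w' := by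
      apply W'.ι.isOpenEmbedding.injective
      rw [hw', ← Scheme.Hom.comp_apply, ← Scheme.Hom.comp_apply, X.homOfLE_ι, X.homOfLE_ι]
      rfl
    rw [this]
    exact hw'T
  let a₁ : (Z : Scheme.{u}) ⟶ (T : Scheme.{u}) := IsOpenImmersion.lift T.ι g₁ hr₁
  let a₂ : (Z : Scheme.{u}) ⟶ (T : Scheme.{u}) := IsOpenImmersion.lift T.ι g₂ hr₂
  have ha₁ : a₁ ≫ T.ι = g₁ := IsOpenImmersion.lift_fac _ _ _
  have ha₂ : a₂ ≫ T.ι = g₂ := IsOpenImmersion.lift_fac _ _ _
  haveI : IsAffine (T : Scheme.{u}) := hT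
  haveI hsep : IsSeparated (T.ι ≫ q) := by
    haveI : IsSeparated ((T.ι ≫ q) ≫ terminal.from X) := by
      rw [terminal.comp_from]; infer_instance
    exact IsSeparated.of_comp (T.ι ≫ q) (terminal.from X)
  -- the generic point of `Z`
  let ξ : Spec (CommRingCat.of (FractionRing (X.presheaf.stalk x))) ⟶ X := ξU ≫ U.ι
  have hξpt : ∀ z, ξ z = genPt x := by
    intro z
    change (ξU ≫ U.ι) z = _
    rw [hξU, Scheme.Hom.comp_apply, SpecMap_algebraMap_apply x hinj z]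
    rfl
  have hξrange : Set.range ξ ⊆ Set.range Z.ι := by
    rw [Scheme.Opens.range_ι]
    rintro _ ⟨z, rfl⟩
    refine ⟨?_, ?_⟩
    · change (ξU ≫ U.ι) z ∈ U
      rw [Scheme.Hom.comp_apply]
      exact (ξU z).2
    · rw [hξpt z]
      exact (genPt_specializes x).mem_open W₃.2 hxW₃
  let ξZ : Spec (CommRingCat.of (FractionRing (X.presheaf.stalk x))) ⟶ Z :=
    IsOpenImmersion.lift Z.ι ξ hξrange
  have hξZ : ξZ ≫ Z.ι = ξ := IsOpenImmersion.lift_fac _ _ _
  have hZW₀ : Z ≤ W₀ := inf_le_right.trans hW₃W₀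
  have hdomn : IsDominant ξZ := by
    refine ⟨fun z' => ?_⟩
    let z₀ : ↥(Spec (CommRingCat.of (FractionRing (X.presheaf.stalk x)))) :=
      ⟨⊥, Ideal.isPrime_bot⟩
    have h1 : Z.ι (ξZ z₀) = genPt x := by
      rw [← Scheme.Hom.comp_apply, hξZ]; exact hξpt z₀
    have h2 : Z.ι (ξZ z₀) ⤳ Z.ι z' := by
      rw [h1]
      exact genPt_specializes_of_mem x W₀ hxW₀ (hZW₀ z'.2)
    have h3 : ξZ z₀ ⤳ z' := (Z.ι.isEmbedding.isInducing.specializes_iff).mp h2
    have h4 : ({ξZ z₀} : Set ↥(Z : Scheme.{u})) ⊆ Set.range ξZ :=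
      Set.singleton_subset_iff.mpr ⟨z₀, rfl⟩
    exact closure_mono h4 (specializes_iff_mem_closure.mp h3)
  have hred : IsReduced Z := isReduced_of_isOpenImmersion (X.homOfLE hZW₀)
  have e1 : ξZ ≫ X.homOfLE (inf_le_left : Z ≤ U) = ξU := by
    rw [← cancel_mono U.ι, Category.assoc, X.homOfLE_ι, hξZ]
  have e2 : ξZ ≫ X.homOfLE (inf_le_right : Z ≤ W₃) ≫ X.homOfLE hW₃W' =
      Spec.map (CommRingCat.ofHom (algebraMap (X.presheaf.stalk x)
        (FractionRing (X.presheaf.stalk x)))) ≫ W'.fromSpecStalkOfMem x hxW' := by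
    rw [← cancel_mono W'.ι, Category.assoc, Category.assoc, X.homOfLE_ι, X.homOfLE_ι, hξZ,
      Category.assoc, Scheme.Opens.fromSpecStalkOfMem_ι]
    exact hξU
  have ha : a₁ = a₂ := by
    refine ext_of_isDominant_of_isSeparated (T.ι ≫ q) ?_ ξZ ?_
    · rw [reassoc_of% ha₁, reassoc_of% ha₂, hg₁q, hg₂q]
    · rw [← cancel_mono T.ι, Category.assoc, Category.assoc, ha₁, ha₂]
      change ξZ ≫ X.homOfLE (inf_le_left : Z ≤ U) ≫ h =
        ξZ ≫ X.homOfLE (inf_le_right : Z ≤ W₃) ≫ X.homOfLE hW₃W' ≫ f₁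
      rw [reassoc_of% e1, reassoc_of% e2, ← hf₁φ, hψ2]
  have hagree : X.homOfLE (inf_le_left : U ⊓ W₃ ≤ U) ≫ h =
      X.homOfLE (inf_le_right : U ⊓ W₃ ≤ W₃) ≫ f₃ := by
    change g₁ = g₂
    rw [← ha₁, ← ha₂, ha]
  obtain ⟨U', hU, hW, k, hk1, hk2, hext⟩ := exists_glue_two U W₃ h f₃ hagree
  refine ⟨U', hU, hW hxW₃, k, ?_, hk1, ?_⟩
  · refine hext _ _ ?_ ?_
    · rw [reassoc_of% hk1, hh, X.homOfLE_ι]
    · rw [reassoc_of% hk2, hf₃, X.homOfLE_ι]
  · have h1 : k ⟨x, hW hxW₃⟩ = (X.homOfLE hW ≫ k) ⟨x, hxW₃⟩ := by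
      rw [Scheme.Hom.comp_apply, homOfLE_mk]
    rw [h1, hk2]
    change (X.homOfLE hW₃W' ≫ f₁) ⟨x, hxW₃⟩ = _
    rw [Scheme.Hom.comp_apply, ← hf₁x, homOfLE_mk]

open Groth.Agent.Lib.ExtVal in
set_option maxHeartbeats 1600000 in
/-- Under the DVR hypothesis at a normal point `x ∉ U` of a locally Noetherian scheme, the generic
lift `Spec K ⟶ U ⟶ Y` extends to `Spec O_{X,x} ⟶ Y` with closed point `y₀`. -/
theorem exists_lift_of_hyp [IsLocallyNoetherian X] (H : Hyp q U h x y₀) (hh : h ≫ q = U.ι)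
    (hxU : x ∉ U) (hy₀ : q y₀ = x) [IsDomain (X.presheaf.stalk x)]
    (hx : IsIntegrallyClosed (X.presheaf.stalk x))
    (ξU : Spec (CommRingCat.of (FractionRing (X.presheaf.stalk x))) ⟶ U)
    (hξU : ξU ≫ U.ι = Spec.map (CommRingCat.ofHom (algebraMap (X.presheaf.stalk x)
      (FractionRing (X.presheaf.stalk x)))) ≫ X.fromSpecStalk x) :
    ∃ (T : Y.Opens) (_ : IsAffineOpen T) (ψ : Spec (X.presheaf.stalk x) ⟶ Y), y₀ ∈ T ∧
      ψ ≫ q = X.fromSpecStalk x ∧
      Spec.map (CommRingCat.ofHom (algebraMap (X.presheaf.stalk x)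
        (FractionRing (X.presheaf.stalk x)))) ≫ ψ = ξU ≫ h ∧
      ψ (closedPoint (X.presheaf.stalk x)) = y₀ := by
  classical
  have hinj : Function.Injective (algebraMap (X.presheaf.stalk x)
      (FractionRing (X.presheaf.stalk x))) := IsFractionRing.injective _ _
  let cl : ↥(Spec (CommRingCat.of (FractionRing (X.presheaf.stalk x)))) :=
    IsLocalRing.closedPoint (FractionRing (X.presheaf.stalk x))
  have hgU : genPt x ∈ U := by
    have h1 : U.ι (ξU cl) = genPt x := by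
      rw [← Scheme.Hom.comp_apply, hξU, Scheme.Hom.comp_apply, SpecMap_algebraMap_apply x hinj cl]
      rfl
    rw [← h1]
    exact (ξU cl).2
  -- `O_{X,x}` is not a field
  have hR : ∃ a ∈ maximalIdeal (X.presheaf.stalk x),
      algebraMap (X.presheaf.stalk x) (FractionRing (X.presheaf.stalk x)) a ≠ 0 := by
    by_contra hcon
    push Not at hcon
    have hbot : maximalIdeal (X.presheaf.stalk x) = ⊥ := by
      rw [eq_bot_iff]
      intro a ha
      have := hcon a ha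
      rw [← map_zero (algebraMap (X.presheaf.stalk x) (FractionRing (X.presheaf.stalk x)))] at this
      exact hinj this
    have hpt : closedPoint (X.presheaf.stalk x) = botPt x := PrimeSpectrum.ext hbot
    apply hxU
    have : x = genPt x := by
      change x = X.fromSpecStalk x (botPt x)
      rw [← hpt, Scheme.fromSpecStalk_closedPoint]
    rw [this]
    exact hgU
  let t : Spec (CommRingCat.of (FractionRing (X.presheaf.stalk x))) ⟶ Y := ξU ≫ h
  have ht : t ≫ q = Spec.map (CommRingCat.ofHom (algebraMap (X.presheaf.stalk x)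
      (FractionRing (X.presheaf.stalk x)))) ≫ X.fromSpecStalk x := by
    change (ξU ≫ h) ≫ q = _
    rw [Category.assoc, hh, hξU]
  -- a first dominating DVR
  obtain ⟨V₀, hV₀, hmem₀, hloc₀⟩ := Groth.Agent.Lib.DvrDominating.exists_dvr_dominating
    (X.presheaf.stalk x) (FractionRing (X.presheaf.stalk x)) hR
  let ιV₀ : X.presheaf.stalk x →+* V₀ :=
    (algebraMap (X.presheaf.stalk x) (FractionRing (X.presheaf.stalk x))).codRestrict
      V₀.toSubring hmem₀
  obtain ⟨h₁z, hh₁zq, hh₁zcl, hh₁zgen⟩ := hyp_valuationSubring q U h x y₀ H ξU hξU V₀ hV₀ ιV₀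
    (fun _ => rfl) hloc₀
  have hgy₀ : t cl ⤳ y₀ := by
    have h1 : t cl = h₁z (Spec.map (CommRingCat.ofHom V₀.subtype) cl) := by
      rw [← Scheme.Hom.comp_apply, hh₁zgen]
    rw [h1, ← hh₁zcl]
    exact (IsLocalRing.specializes_closedPoint _).map h₁z.continuous
  obtain ⟨_, ⟨W₁, hW₁, rfl⟩, hxW₁, -⟩ := X.isBasis_affineOpens.exists_subset_of_mem_open
    (Set.mem_univ x) isOpen_univ
  have hy₀pre : y₀ ∈ q ⁻¹ᵁ W₁ := by
    change q y₀ ∈ W₁
    rw [hy₀]; exact hxW₁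
  obtain ⟨_, ⟨T, hT, rfl⟩, hy₀T, hTW₁⟩ := Y.isBasis_affineOpens.exists_subset_of_mem_open
    hy₀pre (q ⁻¹ᵁ W₁).isOpen
  have htT : t cl ∈ T := hgy₀.mem_open T.isOpen hy₀T
  obtain ⟨τc, hτc⟩ := Groth.Agent.Lib.ValDense.exists_SpecMap_fromSpec t hT htT
  -- the key: for every dominating DVR, `τ` lands in it
  have key : ∀ (V : ValuationSubring (FractionRing (X.presheaf.stalk x)))
      (_ : IsDiscreteValuationRing V) (ιV : X.presheaf.stalk x →+* V)
      (_ : ∀ a, (ιV a : FractionRing (X.presheaf.stalk x)) =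
        algebraMap (X.presheaf.stalk x) (FractionRing (X.presheaf.stalk x)) a)
      (_ : IsLocalHom ιV),
      ∃ (h₁ : Spec (CommRingCat.of V) ⟶ Y) (ρc : Γ(Y, T) ⟶ CommRingCat.of V),
        h₁ (closedPoint V) = y₀ ∧ h₁ = Spec.map ρc ≫ hT.fromSpec ∧
        ρc ≫ CommRingCat.ofHom V.subtype = τc := by
    intro V hV ιV hιV hloc
    obtain ⟨h₁, -, hh₁cl, hh₁gen⟩ := hyp_valuationSubring q U h x y₀ H ξU hξU V hV ιV hιV hloc
    have hh₁T : h₁ (closedPoint V) ∈ T := by rw [hh₁cl]; exact hy₀T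
    obtain ⟨ρc, hρc⟩ := Groth.Agent.Lib.ValDense.exists_SpecMap_fromSpec h₁ hT hh₁T
    refine ⟨h₁, ρc, hh₁cl, hρc, ?_⟩
    apply Spec.map_injective
    rw [← cancel_mono hT.fromSpec, Spec.map_comp, Category.assoc, ← hρc, hh₁gen]
    exact hτc
  have hrange : ∀ b : Γ(Y, T), ∃ o : X.presheaf.stalk x,
      algebraMap (X.presheaf.stalk x) (FractionRing (X.presheaf.stalk x)) o = τc.hom b := by
    intro b
    by_contra hb
    have hb' : τc.hom b ∉ (algebraMap (X.presheaf.stalk x)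
        (FractionRing (X.presheaf.stalk x))).range := by
      rintro ⟨o, ho⟩
      exact hb ⟨o, ho⟩
    obtain ⟨V, hV, hkV, hmem, hloc⟩ :=
      Groth.Agent.Lib.DvrDominating.exists_dvr_dominating_not_mem (X.presheaf.stalk x)
        (FractionRing (X.presheaf.stalk x)) (τc.hom b) hb'
    let ιV : X.presheaf.stalk x →+* V :=
      (algebraMap (X.presheaf.stalk x) (FractionRing (X.presheaf.stalk x))).codRestrict
        V.toSubring hmem
    obtain ⟨h₁, ρc, -, -, hρτ⟩ := key V hV ιV (fun _ => rfl) hloc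
    apply hkV
    have : τc.hom b = ((ρc.hom b : V) : FractionRing (X.presheaf.stalk x)) := by
      rw [← hρτ]; rfl
    rw [this]
    exact (ρc.hom b).2
  obtain ⟨βc, hβ, hψ1, hψ2⟩ := Groth.Agent.Lib.ZMTLift.exists_lift_of_range_le q x hinj t ht
    hW₁ hxW₁ hT hTW₁ τc hτc hrange
  refine ⟨T, hT, Spec.map βc ≫ hT.fromSpec, hy₀T, hψ1, hψ2, ?_⟩
  -- the closed point
  obtain ⟨h₁, ρc, hh₁cl, hρc, hρτ⟩ := key V₀ hV₀ ιV₀ (fun _ => rfl) hloc₀
  let ιc : X.presheaf.stalk x ⟶ CommRingCat.of V₀ := CommRingCat.ofHom ιV₀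
  have hβρ : βc ≫ ιc = ρc := by
    ext b
    change algebraMap (X.presheaf.stalk x) (FractionRing (X.presheaf.stalk x)) (βc.hom b) = _
    rw [hβ b, ← hρτ]
    rfl
  have hcomp : Spec.map ιc ≫ Spec.map βc ≫ hT.fromSpec = h₁ := by
    rw [← Category.assoc, ← Spec.map_comp, hβρ, ← hρc]
  have hclpt : Spec.map ιc (closedPoint V₀) =
      closedPoint (X.presheaf.stalk x) := IsLocalRing.comap_closedPoint ιV₀
  rw [← hclpt, ← Scheme.Hom.comp_apply, hcomp, hh₁cl]

end Groth.Agent.Lib.RatDvr
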