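import Mathlib
import Groth.Agent.S7659
import Groth.Agent.Lib.IrredOpen
import Groth.Agent.Lib.NoethClosureSpec

/-!
# A pseudo-morphism is defined at `x` iff its restriction to `Spec O_{X,x}` is everywhere defined
(EGA IV 20.3.? ; helper85)
-/

set_option autoImplicit false
universe u
open CategoryTheory CategoryTheory.Limits AlgebraicGeometry TopologicalSpace IsLocalRing

namespace Groth.Agent.Lib.RatLocal

/-- Two morphisms which agree on an open neighbourhood of every point are equal. -/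
theorem hom_ext_of_forall_nhd {T Y : Scheme.{u}} (α β : T ⟶ Y)
    (H : ∀ t : T, ∃ N : T.Opens, t ∈ N ∧ N.ι ≫ α = N.ι ≫ β) : α = β := by
  choose N hN hN' using H
  have hcov : IsOpenCover N := by
    change ⨆ t, N t = ⊤
    exact eq_top_iff.mpr fun t _ => Opens.mem_iSup.mpr ⟨t, hN t⟩
  exact (T.openCoverOfIsOpenCover N hcov).hom_ext _ _ (fun t => hN' t)

/-- A reduced scheme is germ-injective at a point having an open neighbourhood which meets only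
finitely many irreducible components. -/
theorem isGermInjectiveAt_of_isReduced_of_finite {X : Scheme.{u}} [IsReduced X] (p : X)
    (W : X.Opens) (hpW : p ∈ W)
    (hfin : {Z : Set X | Z ∈ irreducibleComponents X ∧ (Z ∩ (W : Set X)).Nonempty}.Finite) :
    X.IsGermInjectiveAt p := by
  have h1 : (irreducibleComponents (W : Set X)).Finite :=
    Groth.Agent.Lib.IrredOpen.finite_irreducibleComponents_of_isOpen W.isOpen hfin
  haveI : IsReduced (W : Scheme.{u}) := isReduced_of_isOpenImmersion W.ι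
  have h2 : (W : Scheme.{u}).IsGermInjective :=
    Groth.Agent.S7659.isGermInjective_of_isReduced h1
  have h3 : (W : Scheme.{u}).IsGermInjectiveAt ⟨p, hpW⟩ := h2 _
  exact (inferInstance : X.IsGermInjectiveAt (W.ι ⟨p, hpW⟩))

section local_agreement

variable {X Y S : Scheme.{u}} (pX : X ⟶ S) (pY : Y ⟶ S)
  (U : X.Opens) (h : (U : Scheme.{u}) ⟶ Y) (x : X)
  (w : Spec (X.presheaf.stalk x) ⟶ Y)
  (hw2 : pullback.fst (X.fromSpecStalk x) U.ι ≫ w = pullback.snd (X.fromSpecStalk x) U.ι ≫ h)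
  (V₁ : X.Opens) (hxV₁ : x ∈ V₁) (v₁ : (V₁ : Scheme.{u}) ⟶ Y)
  (hv₁ : w = V₁.fromSpecStalkOfMem x hxV₁ ≫ v₁)

/-- The set of points of `U ⊓ V₁` near which `h` and `v₁` agree. -/
def Good : Set ↥((U ⊓ V₁ : X.Opens) : Scheme.{u}) :=
  {t | ∃ N : ((U ⊓ V₁ : X.Opens) : Scheme.{u}).Opens, t ∈ N ∧
    N.ι ≫ X.homOfLE (inf_le_left : U ⊓ V₁ ≤ U) ≫ h =
      N.ι ≫ X.homOfLE (inf_le_right : U ⊓ V₁ ≤ V₁) ≫ v₁}

omit x in
lemma isOpen_good : IsOpen (Good U h V₁ v₁) := by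
  rw [isOpen_iff_forall_mem_open]
  rintro t ⟨N, htN, hN⟩
  exact ⟨N, fun t' ht' => ⟨N, ht', hN⟩, N.isOpen, htN⟩

include hw2 hv₁ in
set_option maxHeartbeats 800000 in
/-- Generizations of `x` in `U ⊓ V₁` are good points. -/
theorem mem_good_of_specializes (t : ↥((U ⊓ V₁ : X.Opens) : Scheme.{u}))
    [((U ⊓ V₁ : X.Opens) : Scheme.{u}).IsGermInjectiveAt t]
    (hsp : (U ⊓ V₁).ι t ⤳ x) : t ∈ Good U h V₁ v₁ := by
  let T : Scheme.{u} := ((U ⊓ V₁ : X.Opens) : Scheme.{u})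
  let c : Spec (T.presheaf.stalk t) ⟶ T := T.fromSpecStalk t
  obtain ⟨r, hr⟩ : ∃ r : Spec (T.presheaf.stalk t) ⟶ Spec (X.presheaf.stalk x),
      r ≫ X.fromSpecStalk x = c ≫ (U ⊓ V₁).ι := by
    refine ⟨Spec.map ((U ⊓ V₁).ι.stalkMap t) ≫ Spec.map (X.presheaf.stalkSpecializes hsp), ?_⟩
    rw [Category.assoc, Scheme.SpecMap_stalkSpecializes_fromSpecStalk,
      Scheme.SpecMap_stalkMap_fromSpecStalk]
  have hcomm : r ≫ X.fromSpecStalk x = (c ≫ X.homOfLE (inf_le_left : U ⊓ V₁ ≤ U)) ≫ U.ι := by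
    rw [hr, Category.assoc, X.homOfLE_ι]
  let m : Spec (T.presheaf.stalk t) ⟶ pullback (X.fromSpecStalk x) U.ι :=
    pullback.lift r (c ≫ X.homOfLE (inf_le_left : U ⊓ V₁ ≤ U)) hcomm
  have hm1 : m ≫ pullback.fst (X.fromSpecStalk x) U.ι = r := pullback.lift_fst _ _ _
  have hm2 : m ≫ pullback.snd (X.fromSpecStalk x) U.ι =
      c ≫ X.homOfLE (inf_le_left : U ⊓ V₁ ≤ U) := pullback.lift_snd _ _ _
  have e1 : r ≫ w = c ≫ X.homOfLE (inf_le_left : U ⊓ V₁ ≤ U) ≫ h := by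
    rw [← hm1, Category.assoc, hw2, reassoc_of% hm2]
  have e2 : r ≫ V₁.fromSpecStalkOfMem x hxV₁ = c ≫ X.homOfLE (inf_le_right : U ⊓ V₁ ≤ V₁) := by
    rw [← cancel_mono V₁.ι]
    have h1 : (r ≫ V₁.fromSpecStalkOfMem x hxV₁) ≫ V₁.ι = r ≫ X.fromSpecStalk x := by
      rw [Category.assoc, Scheme.Opens.fromSpecStalkOfMem_ι]
    have h2 : (c ≫ X.homOfLE (inf_le_right : U ⊓ V₁ ≤ V₁)) ≫ V₁.ι = c ≫ (U ⊓ V₁).ι := by
      rw [Category.assoc, X.homOfLE_ι]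
    rw [h1, h2, hr]
  have e : T.fromSpecStalk t ≫ (X.homOfLE (inf_le_left : U ⊓ V₁ ≤ U) ≫ h) =
      T.fromSpecStalk t ≫ (X.homOfLE (inf_le_right : U ⊓ V₁ ≤ V₁) ≫ v₁) := by
    change c ≫ _ = c ≫ _
    rw [← e1, hv₁, ← reassoc_of% e2]
  obtain ⟨N, htN, hN⟩ := spread_out_unique_of_isGermInjective' _ _ e
  exact ⟨N, htN, hN⟩

end local_agreement

section final

variable {X Y S : Scheme.{u}} (pX : X ⟶ S) (pY : Y ⟶ S)
  (U : X.Opens) (h : (U : Scheme.{u}) ⟶ Y) (hh : h ≫ pY = U.ι ≫ pX)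
  (V₁ : X.Opens) (v₁ : (V₁ : Scheme.{u}) ⟶ Y) (hv₁S : v₁ ≫ pY = V₁.ι ≫ pX)

/-- A morphism to `U ⊓ V₁` with image in the good locus equalizes `h` and `v₁`. -/
theorem comp_eq_of_forall_mem_good {T' : Scheme.{u}} (k : T' ⟶ ((U ⊓ V₁ : X.Opens) : Scheme.{u}))
    (H : ∀ p : T', k p ∈ Good U h V₁ v₁) :
    k ≫ X.homOfLE (inf_le_left : U ⊓ V₁ ≤ U) ≫ h =
      k ≫ X.homOfLE (inf_le_right : U ⊓ V₁ ≤ V₁) ≫ v₁ := by
  apply hom_ext_of_forall_nhd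
  intro p
  obtain ⟨N, hpN, hN⟩ := H p
  refine ⟨k ⁻¹ᵁ N, hpN, ?_⟩
  rw [← Category.assoc, ← morphismRestrict_ι, Category.assoc, hN, ← Category.assoc,
    morphismRestrict_ι, Category.assoc]

theorem agree_of_forall_good (V : X.Opens) (hVV₁ : V ≤ V₁)
    (H : ∀ p : ↥((U ⊓ V : X.Opens) : Scheme.{u}),
      X.homOfLE (inf_le_inf_left U hVV₁) p ∈ Good U h V₁ v₁) :
    X.homOfLE (inf_le_right : U ⊓ V ≤ V) ≫ X.homOfLE hVV₁ ≫ v₁ =
      X.homOfLE (inf_le_left : U ⊓ V ≤ U) ≫ h := by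
  have key := comp_eq_of_forall_mem_good U h V₁ v₁ (X.homOfLE (inf_le_inf_left U hVV₁)) H
  rw [X.homOfLE_homOfLE_assoc, X.homOfLE_homOfLE_assoc] at key
  rw [X.homOfLE_homOfLE_assoc]
  exact key.symm

include hh hv₁S in
theorem agree_of_dense_good [IsReduced X] [IsSeparated pY] (V : X.Opens) (hVV₁ : V ≤ V₁)
    (H : Dense ((X.homOfLE (inf_le_inf_left U hVV₁)) ⁻¹' Good U h V₁ v₁)) :
    X.homOfLE (inf_le_right : U ⊓ V ≤ V) ≫ X.homOfLE hVV₁ ≫ v₁ =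
      X.homOfLE (inf_le_left : U ⊓ V ≤ U) ≫ h := by
  let j := X.homOfLE (inf_le_inf_left U hVV₁)
  let O : ((U ⊓ V : X.Opens) : Scheme.{u}).Opens :=
    ⟨j ⁻¹' Good U h V₁ v₁, (isOpen_good U h V₁ v₁).preimage j.continuous⟩
  have key := comp_eq_of_forall_mem_good U h V₁ v₁ (O.ι ≫ j) (fun p => by
    rw [Scheme.Hom.comp_apply]
    exact p.2)
  haveI : IsDominant O.ι := ⟨by
    rw [DenseRange, Scheme.Opens.range_ι]
    exact H⟩
  have hcomm : (j ≫ X.homOfLE (inf_le_left : U ⊓ V₁ ≤ U) ≫ h) ≫ pY =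
      (j ≫ X.homOfLE (inf_le_right : U ⊓ V₁ ≤ V₁) ≫ v₁) ≫ pY := by
    have hα : (X.homOfLE (inf_le_left : U ⊓ V₁ ≤ U) ≫ h) ≫ pY = (U ⊓ V₁).ι ≫ pX := by
      rw [Category.assoc, hh, X.homOfLE_ι_assoc]
    have hβ : (X.homOfLE (inf_le_right : U ⊓ V₁ ≤ V₁) ≫ v₁) ≫ pY = (U ⊓ V₁).ι ≫ pX := by
      rw [Category.assoc, hv₁S, X.homOfLE_ι_assoc]
    calc (j ≫ X.homOfLE (inf_le_left : U ⊓ V₁ ≤ U) ≫ h) ≫ pY
        = j ≫ (X.homOfLE (inf_le_left : U ⊓ V₁ ≤ U) ≫ h) ≫ pY := by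
          simp only [Category.assoc]
      _ = j ≫ (X.homOfLE (inf_le_right : U ⊓ V₁ ≤ V₁) ≫ v₁) ≫ pY := by rw [hα, hβ]
      _ = (j ≫ X.homOfLE (inf_le_right : U ⊓ V₁ ≤ V₁) ≫ v₁) ≫ pY := by
          simp only [Category.assoc]
  have key2 : j ≫ X.homOfLE (inf_le_left : U ⊓ V₁ ≤ U) ≫ h =
      j ≫ X.homOfLE (inf_le_right : U ⊓ V₁ ≤ V₁) ≫ v₁ := by
    refine ext_of_isDominant_of_isSeparated pY hcomm O.ι ?_
    rw [← Category.assoc, key, Category.assoc]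
  change X.homOfLE (inf_le_inf_left U hVV₁) ≫ _ = X.homOfLE (inf_le_inf_left U hVV₁) ≫ _ at key2
  rw [X.homOfLE_homOfLE_assoc, X.homOfLE_homOfLE_assoc] at key2
  rw [X.homOfLE_homOfLE_assoc]
  exact key2.symm

end final

end Groth.Agent.Lib.RatLocal
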