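import Mathlib
import Groth.Agent.Lib.RatCone

/-!
# The maximum of `ℓ·y / √q(y)` on the orthant is attained at a rational point
-/

namespace Groth.Agent.Lib.RatMax

open Finset Matrix

/-- if `b t + a t² ≥ 0` for all small `t` then `b = 0` -/
lemma lin_coeff_zero (a b δ : ℝ) (hδ : 0 < δ) (h : ∀ t : ℝ, |t| ≤ δ → 0 ≤ b * t + a * t ^ 2) :
    b = 0 := by
  by_contra hb
  have hbpos : 0 < |b| := abs_pos.2 hb
  set ε : ℝ := min δ (|b| / (2 * (|a| + 1))) with hε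
  have hden : 0 < 2 * (|a| + 1) := by positivity
  have hεpos : 0 < ε := lt_min hδ (div_pos hbpos hden)
  have hεδ : ε ≤ δ := min_le_left _ _
  have hεb : ε * (2 * (|a| + 1)) ≤ |b| := by
    have : ε ≤ |b| / (2 * (|a| + 1)) := min_le_right _ _
    rwa [le_div_iff₀ hden] at this
  have haε : |a| * ε ≤ |b| / 2 := by nlinarith [abs_nonneg a]
  have ha1 : a * ε ≤ |a| * ε := mul_le_mul_of_nonneg_right (le_abs_self a) hεpos.le
  rcases lt_or_gt_of_ne hb with hneg | hpos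
  · have h1 := h ε (by rw [abs_of_pos hεpos]; exact hεδ)
    have hb' : |b| = -b := abs_of_neg hneg
    nlinarith
  · have h1 := h (-ε) (by rw [abs_neg, abs_of_pos hεpos]; exact hεδ)
    have hb' : |b| = b := abs_of_pos hpos
    nlinarith

variable {n : ℕ}

/-- the symmetrized bilinear form -/
def Q (B : Matrix (Fin n) (Fin n) ℚ) (u v : Fin n → ℝ) : ℝ :=
  ∑ i, ∑ j, (((B i j + B j i) / 2 : ℚ) : ℝ) * u i * v j

lemma Q_symm (B : Matrix (Fin n) (Fin n) ℚ) (u v : Fin n → ℝ) : Q B u v = Q B v u := by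
  unfold Q
  rw [Finset.sum_comm]
  refine Finset.sum_congr rfl fun i _ => Finset.sum_congr rfl fun j _ => ?_
  rw [add_comm (B j i)]
  ring

lemma q_eq (B : Matrix (Fin n) (Fin n) ℚ) (y : Fin n → ℝ) :
    y ⬝ᵥ (B.map (fun r : ℚ => (r : ℝ))) *ᵥ y = Q B y y := by
  unfold Q
  simp only [dotProduct, mulVec, Matrix.map_apply, Finset.mul_sum]
  have h1 : ∑ i, ∑ j, (((B i j + B j i) / 2 : ℚ) : ℝ) * y i * y j =
      (∑ i, ∑ j, y i * ((B i j : ℝ) * y j)) / 2 + (∑ i, ∑ j, y i * ((B j i : ℝ) * y j)) / 2 := by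
    rw [← add_div, ← Finset.sum_add_distrib, Finset.sum_div]
    refine Finset.sum_congr rfl fun i _ => ?_
    rw [← Finset.sum_add_distrib, Finset.sum_div]
    refine Finset.sum_congr rfl fun j _ => ?_
    push_cast
    ring
  rw [h1]
  have h2 : ∑ i, ∑ j, y i * ((B j i : ℝ) * y j) = ∑ i, ∑ j, y i * ((B i j : ℝ) * y j) := by
    rw [Finset.sum_comm]
    refine Finset.sum_congr rfl fun i _ => Finset.sum_congr rfl fun j _ => ?_
    ring
  rw [h2]
  ring

lemma Q_add_left (B : Matrix (Fin n) (Fin n) ℚ) (u u' v : Fin n → ℝ) :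
    Q B (u + u') v = Q B u v + Q B u' v := by
  unfold Q
  rw [← Finset.sum_add_distrib]
  refine Finset.sum_congr rfl fun i _ => ?_
  rw [← Finset.sum_add_distrib]
  refine Finset.sum_congr rfl fun j _ => ?_
  simp only [Pi.add_apply]
  ring

lemma Q_smul_left (B : Matrix (Fin n) (Fin n) ℚ) (c : ℝ) (u v : Fin n → ℝ) :
    Q B (c • u) v = c * Q B u v := by
  unfold Q
  rw [Finset.mul_sum]
  refine Finset.sum_congr rfl fun i _ => ?_
  rw [Finset.mul_sum]
  refine Finset.sum_congr rfl fun j _ => ?_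
  simp only [Pi.smul_apply, smul_eq_mul]
  ring

lemma Q_add_right (B : Matrix (Fin n) (Fin n) ℚ) (u v v' : Fin n → ℝ) :
    Q B u (v + v') = Q B u v + Q B u v' := by
  rw [Q_symm, Q_add_left, Q_symm B v, Q_symm B v']

lemma Q_smul_right (B : Matrix (Fin n) (Fin n) ℚ) (c : ℝ) (u v : Fin n → ℝ) :
    Q B u (c • v) = c * Q B u v := by
  rw [Q_symm, Q_smul_left, Q_symm]

/-- `Q(u, e_i)` -/
lemma Q_single (B : Matrix (Fin n) (Fin n) ℚ) (u : Fin n → ℝ) (i : Fin n) :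
    Q B u (Pi.single i 1) = ∑ j, (((B i j + B j i) / 2 : ℚ) : ℝ) * u j := by
  rw [Q_symm]
  unfold Q
  rw [Finset.sum_eq_single i]
  · refine Finset.sum_congr rfl fun j _ => ?_
    simp
  · intro k _ hk
    refine Finset.sum_eq_zero fun j _ => ?_
    simp [hk]
  · intro h
    exact absurd (Finset.mem_univ i) h


lemma Q_eq_sum_single (B : Matrix (Fin n) (Fin n) ℚ) (u v : Fin n → ℝ) :
    Q B u v = ∑ i, Q B u (Pi.single i 1) * v i := by
  simp only [Q_single]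
  unfold Q
  rw [Finset.sum_comm]
  refine Finset.sum_congr rfl fun i _ => ?_
  rw [Finset.sum_mul]
  refine Finset.sum_congr rfl fun j _ => ?_
  rw [add_comm (B j i)]

/-- the linear form -/
def L (ℓ : Fin n → ℚ) (y : Fin n → ℝ) : ℝ := ∑ i, (ℓ i : ℝ) * y i

lemma L_smul (ℓ : Fin n → ℚ) (c : ℝ) (y : Fin n → ℝ) : L ℓ (c • y) = c * L ℓ y := by
  unfold L
  rw [Finset.mul_sum]
  refine Finset.sum_congr rfl fun i _ => ?_
  simp only [Pi.smul_apply, smul_eq_mul]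
  ring

lemma L_add (ℓ : Fin n → ℚ) (y y' : Fin n → ℝ) : L ℓ (y + y') = L ℓ y + L ℓ y' := by
  unfold L
  rw [← Finset.sum_add_distrib]
  refine Finset.sum_congr rfl fun i _ => ?_
  simp only [Pi.add_apply]
  ring

lemma L_single (ℓ : Fin n → ℚ) (i : Fin n) : L ℓ (Pi.single i 1) = ℓ i := by
  unfold L
  rw [Finset.sum_eq_single i]
  · simp
  · intro j _ hj
    simp [hj]
  · intro h
    exact absurd (Finset.mem_univ i) h

lemma continuous_L (ℓ : Fin n → ℚ) : Continuous (L ℓ) := by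
  unfold L
  fun_prop

lemma continuous_QQ (B : Matrix (Fin n) (Fin n) ℚ) : Continuous (fun y => Q B y y) := by
  unfold Q
  fun_prop

/-- the objective function -/
noncomputable def f (ℓ : Fin n → ℚ) (B : Matrix (Fin n) (Fin n) ℚ) (y : Fin n → ℝ) : ℝ :=
  L ℓ y / Real.sqrt (Q B y y)

lemma f_smul (ℓ : Fin n → ℚ) (B : Matrix (Fin n) (Fin n) ℚ) (c : ℝ) (hc : 0 < c)
    (y : Fin n → ℝ) : f ℓ B (c • y) = f ℓ B y := by
  unfold f
  rw [L_smul, Q_smul_left, Q_smul_right, ← mul_assoc, ← pow_two,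
    Real.sqrt_mul (sq_nonneg c), Real.sqrt_sq hc.le, mul_div_mul_left _ _ hc.ne']


lemma sum_pos_of_nonneg_ne_zero (y : Fin n → ℝ) (hy : ∀ i, 0 ≤ y i) (hy0 : y ≠ 0) :
    0 < ∑ i, y i := by
  refine lt_of_le_of_ne (Finset.sum_nonneg fun i _ => hy i) fun h => hy0 ?_
  have := (Finset.sum_eq_zero_iff_of_nonneg (fun i _ => hy i)).1 h.symm
  ext i
  exact this i (Finset.mem_univ i)

/-- existence of a maximizer on the orthant -/
theorem exists_max (ℓ : Fin n → ℚ) (B : Matrix (Fin n) (Fin n) ℚ)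
    (hpos : ∀ y : Fin n → ℝ, (∀ i, 0 ≤ y i) → y ≠ 0 → 0 < Q B y y)
    (hℓ : ∃ y : Fin n → ℝ, (∀ i, 0 ≤ y i) ∧ 0 < L ℓ y) :
    ∃ y1 : Fin n → ℝ, (∀ i, 0 ≤ y1 i) ∧ y1 ≠ 0 ∧ 0 < L ℓ y1 ∧
      ∀ y : Fin n → ℝ, (∀ i, 0 ≤ y i) → y ≠ 0 → f ℓ B y ≤ f ℓ B y1 := by
  obtain ⟨y₀, hy₀, hLy₀⟩ := hℓ
  have hy₀0 : y₀ ≠ 0 := by
    rintro rfl
    simp [L] at hLy₀
  have hsimp : ∀ y : Fin n → ℝ, (∀ i, 0 ≤ y i) → y ≠ 0 →
      (∑ i, y i)⁻¹ • y ∈ stdSimplex ℝ (Fin n) := by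
    intro y hy hy0
    have hs := sum_pos_of_nonneg_ne_zero y hy hy0
    refine ⟨fun i => mul_nonneg (inv_nonneg.2 hs.le) (hy i), ?_⟩
    simp only [Pi.smul_apply, smul_eq_mul]
    rw [← Finset.mul_sum, inv_mul_cancel₀ hs.ne']
  have hne : (stdSimplex ℝ (Fin n)).Nonempty := ⟨_, hsimp y₀ hy₀ hy₀0⟩
  have hKorth : ∀ y ∈ stdSimplex ℝ (Fin n), (∀ i, 0 ≤ y i) ∧ y ≠ 0 := by
    intro y hy
    refine ⟨hy.1, fun h => ?_⟩
    have := hy.2
    rw [h] at this
    simp at this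
  have hcont : ContinuousOn (f ℓ B) (stdSimplex ℝ (Fin n)) := by
    unfold f
    refine ContinuousOn.div (continuous_L ℓ).continuousOn
      (Real.continuous_sqrt.comp (continuous_QQ B)).continuousOn ?_
    intro y hy
    obtain ⟨h1, h2⟩ := hKorth y hy
    exact (Real.sqrt_pos.2 (hpos y h1 h2)).ne'
  obtain ⟨y1, hy1K, hy1max⟩ := (isCompact_stdSimplex ℝ (Fin n)).exists_isMaxOn hne hcont
  obtain ⟨hy1nn, hy10⟩ := hKorth y1 hy1K
  have hmax : ∀ y : Fin n → ℝ, (∀ i, 0 ≤ y i) → y ≠ 0 → f ℓ B y ≤ f ℓ B y1 := by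
    intro y hy hy0
    have hs := sum_pos_of_nonneg_ne_zero y hy hy0
    rw [← f_smul ℓ B _ (inv_pos.2 hs) y]
    exact hy1max (hsimp y hy hy0)
  refine ⟨y1, hy1nn, hy10, ?_, hmax⟩
  have h1 : 0 < f ℓ B y₀ := div_pos hLy₀ (Real.sqrt_pos.2 (hpos y₀ hy₀ hy₀0))
  have h2 : 0 < f ℓ B y1 := lt_of_lt_of_le h1 (hmax y₀ hy₀ hy₀0)
  unfold f at h2
  have h3 := Real.sqrt_pos.2 (hpos y1 hy1nn hy10)
  by_contra hcon
  push Not at hcon
  have : L ℓ y1 / Real.sqrt (Q B y1 y1) ≤ 0 := div_nonpos_of_nonpos_of_nonneg hcon h3.le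
  linarith

/-- normalized maximizer with first order conditions -/
theorem exists_normalized_max (ℓ : Fin n → ℚ) (B : Matrix (Fin n) (Fin n) ℚ)
    (hpos : ∀ y : Fin n → ℝ, (∀ i, 0 ≤ y i) → y ≠ 0 → 0 < Q B y y)
    (hℓ : ∃ y : Fin n → ℝ, (∀ i, 0 ≤ y i) ∧ 0 < L ℓ y) :
    ∃ yb : Fin n → ℝ, (∀ i, 0 ≤ yb i) ∧ 0 < L ℓ yb ∧ Q B yb yb = L ℓ yb ∧
      (∀ y : Fin n → ℝ, (∀ i, 0 ≤ y i) → y ≠ 0 → f ℓ B y ≤ f ℓ B yb) ∧
      (∀ i, 0 < yb i → Q B yb (Pi.single i 1) = ℓ i) := by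
  obtain ⟨y1, hy1nn, hy10, hLy1, hmax1⟩ := exists_max ℓ B hpos hℓ
  have hq1 := hpos y1 hy1nn hy10
  set c : ℝ := L ℓ y1 / Q B y1 y1 with hc
  have hcpos : 0 < c := div_pos hLy1 hq1
  set yb : Fin n → ℝ := c • y1 with hyb
  clear_value yb
  have hybnn : ∀ i, 0 ≤ yb i := fun i => by rw [hyb]; exact mul_nonneg hcpos.le (hy1nn i)
  have hLyb : L ℓ yb = c * L ℓ y1 := by rw [hyb]; exact L_smul ℓ c y1
  have hspos : 0 < L ℓ yb := by rw [hLyb]; exact mul_pos hcpos hLy1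
  have hQyb : Q B yb yb = L ℓ yb := by
    rw [hLyb, hyb, Q_smul_left, Q_smul_right, hc]
    field_simp
  have hmax : ∀ y : Fin n → ℝ, (∀ i, 0 ≤ y i) → y ≠ 0 → f ℓ B y ≤ f ℓ B yb := by
    intro y hy hy0
    rw [hyb, f_smul ℓ B c hcpos]
    exact hmax1 y hy hy0
  refine ⟨yb, hybnn, hspos, hQyb, hmax, ?_⟩
  set s : ℝ := L ℓ yb with hs
  clear_value s
  have hfyb : f ℓ B yb = Real.sqrt s := by
    unfold f
    rw [hQyb, ← hs]
    exact Real.div_sqrt
  -- key inequality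
  have hkey : ∀ y : Fin n → ℝ, (∀ i, 0 ≤ y i) → 0 ≤ L ℓ y → (L ℓ y) ^ 2 ≤ s * Q B y y := by
    intro y hy hLy
    by_cases hy0 : y = 0
    · rw [hy0]
      simp [L, Q]
    · have hq := hpos y hy hy0
      have h1 := hmax y hy hy0
      rw [hfyb] at h1
      unfold f at h1
      rw [div_le_iff₀ (Real.sqrt_pos.2 hq)] at h1
      have h2 : (L ℓ y) ^ 2 ≤ (Real.sqrt s * Real.sqrt (Q B y y)) ^ 2 :=
        pow_le_pow_left₀ hLy h1 2
      rwa [mul_pow, Real.sq_sqrt hspos.le, Real.sq_sqrt hq.le] at h2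
  intro i hi
  set e : Fin n → ℝ := Pi.single i 1 with he
  clear_value e
  have hb := lin_coeff_zero (s * Q B e e - (ℓ i : ℝ) ^ 2) (2 * s * (Q B yb e - ℓ i))
    (min (yb i) (s / (|(ℓ i : ℝ)| + 1))) (lt_min hi (div_pos hspos (by positivity))) ?_
  · have h2s : (2 * s) ≠ 0 := by positivity
    have := (mul_eq_zero.1 hb).resolve_left h2s
    linarith
  · intro t ht
    have ht1 : |t| ≤ yb i := le_trans ht (min_le_left _ _)
    have ht2 : |t| ≤ s / (|(ℓ i : ℝ)| + 1) := le_trans ht (min_le_right _ _)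
    have hden : 0 < |(ℓ i : ℝ)| + 1 := by positivity
    have hynn : ∀ j, 0 ≤ (yb + t • e) j := by
      intro j
      simp only [Pi.add_apply, Pi.smul_apply, smul_eq_mul, he, Pi.single_apply]
      split_ifs with hj
      · subst hj
        have := neg_abs_le t
        linarith
      · simp [hybnn j]
    have hLy : L ℓ (yb + t • e) = s + t * ℓ i := by
      rw [L_add, L_smul, he, L_single, ← hs]
    have hLnn : 0 ≤ L ℓ (yb + t • e) := by
      rw [hLy]
      have h1 : |t * (ℓ i : ℝ)| ≤ s := by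
        rw [abs_mul]
        have h2 : |t| * |(ℓ i : ℝ)| ≤ s / (|(ℓ i : ℝ)| + 1) * |(ℓ i : ℝ)| :=
          mul_le_mul_of_nonneg_right ht2 (abs_nonneg _)
        have h3 : s / (|(ℓ i : ℝ)| + 1) * |(ℓ i : ℝ)| ≤ s := by
          rw [div_mul_eq_mul_div, div_le_iff₀ hden]
          nlinarith [abs_nonneg (ℓ i : ℝ)]
        linarith
      have := neg_abs_le (t * (ℓ i : ℝ))
      linarith
    have h1 := hkey _ hynn hLnn
    have hQexp : Q B (yb + t • e) (yb + t • e) = s + 2 * t * Q B yb e + t ^ 2 * Q B e e := by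
      rw [Q_add_left, Q_add_right, Q_add_right, Q_smul_left, Q_smul_left, Q_smul_right,
        Q_smul_right, Q_symm B e yb, hQyb]
      ring
    rw [hLy, hQexp] at h1
    nlinarith


/-- a real nonnegative solution of the rational first-order system gives a rational one with
smaller support -/
theorem exists_rational_solution (ℓ : Fin n → ℚ) (B : Matrix (Fin n) (Fin n) ℚ)
    (yb : Fin n → ℝ) (hyb : ∀ i, 0 ≤ yb i)
    (hfo : ∀ i, 0 < yb i → Q B yb (Pi.single i 1) = ℓ i) :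
    ∃ x : Fin n → ℚ, (∀ i, 0 ≤ x i) ∧ (∀ i, yb i = 0 → x i = 0) ∧
      ∀ i, 0 < yb i → ∑ j, ((B i j + B j i) / 2) * x j = ℓ i := by
  classical
  set p : Option (Fin n) → ℝ := fun o => o.elim 1 yb with hp
  have hpnn : ∀ o, 0 ≤ p o := by
    rintro (_ | j)
    · exact zero_le_one
    · exact hyb j
  have hp0 : p ≠ 0 := by
    intro h
    have := congrFun h none
    simp [hp] at this
  obtain ⟨m, hm, w, z, hwnn, hznn, hpeq, -, hfun⟩ :=
    Groth.Agent.Lib.RatCone.exists_rational_cone p hpnn hp0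
  -- vanishing off the support
  have hw0 : ∀ i, yb i = 0 → ∀ k, w k (some i) = 0 := by
    intro i hi k
    have h1 := hfun (fun o => if o = some i then 1 else 0) (by
      rw [Fintype.sum_option]
      simp [hp, hi]) k
    rw [Fintype.sum_option] at h1
    simpa using h1
  -- the linear equations
  have hwI : ∀ i, 0 < yb i → ∀ k,
      ∑ j, ((B i j + B j i) / 2) * (w k (some j) : ℚ) = ℓ i * (w k none : ℚ) := by
    intro i hi k
    obtain ⟨D, hD, hden⟩ := Groth.Agent.Lib.RatCone.exists_common_den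
      (fun o : Option (Fin n) => o.elim (ℓ i) (fun j => (B i j + B j i) / 2))
    choose N hN using hden
    have hDne : (D : ℚ) ≠ 0 := by exact_mod_cast hD.ne'
    have hNnone : (N none : ℚ) = D * ℓ i := hN none
    have hNsome : ∀ j, (N (some j) : ℚ) = D * ((B i j + B j i) / 2) := fun j => hN (some j)
    have h1 := hfun (fun o => o.elim (-(N none)) (fun j => N (some j))) (by
      rw [Fintype.sum_option]
      simp only [Option.elim, hp]
      have h2 := hfo i hi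
      rw [Q_single] at h2
      have h3 : ∀ j, ((N (some j) : ℤ) : ℝ) = (D : ℝ) * (((B i j + B j i) / 2 : ℚ) : ℝ) := by
        intro j
        have := hNsome j
        have h4 : (((N (some j) : ℤ) : ℚ) : ℝ) = ((D * ((B i j + B j i) / 2) : ℚ) : ℝ) := by
          rw [this]
        push_cast at h4 ⊢
        linarith
      have h5 : ((N none : ℤ) : ℝ) = (D : ℝ) * (ℓ i : ℝ) := by
        have h4 : (((N none : ℤ) : ℚ) : ℝ) = ((D * ℓ i : ℚ) : ℝ) := by rw [hNnone]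
        push_cast at h4
        exact h4
      push_cast
      simp only [h3, h5, mul_one]
      have h6 : ∑ j, (D : ℝ) * (((B i j + B j i) / 2 : ℚ) : ℝ) * yb j =
          (D : ℝ) * ∑ j, (((B i j + B j i) / 2 : ℚ) : ℝ) * yb j := by
        rw [Finset.mul_sum]
        refine Finset.sum_congr rfl fun j _ => ?_
        ring
      rw [h6, h2]
      ring) k
    rw [Fintype.sum_option] at h1
    simp only [Option.elim] at h1
    have h2 : ((-(N none) * w k none + ∑ j, N (some j) * w k (some j) : ℤ) : ℚ) = 0 := by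
      rw [h1]; simp
    push_cast at h2
    simp only [hNnone, hNsome] at h2
    have h3 : (D : ℚ) * (∑ j, ((B i j + B j i) / 2) * (w k (some j) : ℚ) -
        ℓ i * (w k none : ℚ)) = 0 := by
      rw [mul_sub, Finset.mul_sum]
      have : ∑ j, (D : ℚ) * (((B i j + B j i) / 2) * (w k (some j) : ℚ)) =
          ∑ j, (D : ℚ) * ((B i j + B j i) / 2) * (w k (some j) : ℚ) := by
        refine Finset.sum_congr rfl fun j _ => ?_
        ring
      rw [this]
      linarith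
    have := (mul_eq_zero.1 h3).resolve_left hDne
    linarith
  -- the denominators
  set T : ℤ := ∑ k, w k none with hT
  have hTpos : 0 < T := by
    have hTnn : 0 ≤ T := Finset.sum_nonneg fun k _ => hwnn k none
    refine lt_of_le_of_ne hTnn fun h => ?_
    have hall := (Finset.sum_eq_zero_iff_of_nonneg (fun k _ => hwnn k none)).1 h.symm
    have h1 := hpeq none
    simp only [hp, Option.elim] at h1
    have h2 : ∑ k, z k * (w k none : ℝ) = 0 := by
      refine Finset.sum_eq_zero fun k hk => ?_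
      rw [hall k hk]
      simp
    rw [h2] at h1
    exact one_ne_zero h1
  have hTq : (0 : ℚ) < (T : ℚ) := by exact_mod_cast hTpos
  refine ⟨fun j => (∑ k, (w k (some j) : ℚ)) / T, fun j => ?_, fun i hi => ?_, fun i hi => ?_⟩
  · exact div_nonneg (Finset.sum_nonneg fun k _ => by exact_mod_cast hwnn k (some j)) hTq.le
  · simp only
    rw [Finset.sum_eq_zero fun k _ => by rw [hw0 i hi k]; simp, zero_div]
  · have h1 : ∑ j, ((B i j + B j i) / 2) * ((∑ k, (w k (some j) : ℚ)) / T) =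
        (∑ k, ∑ j, ((B i j + B j i) / 2) * (w k (some j) : ℚ)) / T := by
      rw [Finset.sum_comm, Finset.sum_div]
      refine Finset.sum_congr rfl fun j _ => ?_
      rw [← Finset.mul_sum, mul_div_assoc]
    rw [h1]
    simp only [hwI i hi]
    rw [← Finset.mul_sum, div_eq_iff hTq.ne']
    congr 1
    rw [hT]
    push_cast
    rfl


theorem main_aux (ℓ : Fin n → ℚ) (B : Matrix (Fin n) (Fin n) ℚ)
    (hpos : ∀ y : Fin n → ℝ, (∀ i, 0 ≤ y i) → y ≠ 0 → 0 < Q B y y)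
    (hℓ : ∃ y : Fin n → ℝ, (∀ i, 0 ≤ y i) ∧ 0 < L ℓ y) :
    ∃ x : Fin n → ℚ, (∀ i, 0 ≤ x i) ∧ x ≠ 0 ∧
      ∀ y : Fin n → ℝ, (∀ i, 0 ≤ y i) → y ≠ 0 →
        f ℓ B y ≤ f ℓ B (fun i => (x i : ℝ)) := by
  obtain ⟨yb, hybnn, hs, hQyb, hmax, hfo⟩ := exists_normalized_max ℓ B hpos hℓ
  obtain ⟨x, hxnn, hx0, hxI⟩ := exists_rational_solution ℓ B yb hybnn hfo
  set xr : Fin n → ℝ := fun i => (x i : ℝ) with hxr
  have hcase : ∀ i, yb i = 0 ∨ 0 < yb i := fun i => (hybnn i).eq_or_lt.imp Eq.symm id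
  have hxrI : ∀ i, 0 < yb i → Q B xr (Pi.single i 1) = ℓ i := by
    intro i hi
    rw [Q_single]
    have := hxI i hi
    have h2 : ((∑ j, ((B i j + B j i) / 2) * x j : ℚ) : ℝ) = ((ℓ i : ℚ) : ℝ) := by rw [this]
    push_cast at h2
    simp only [hxr]
    push_cast
    exact h2
  have hLx : L ℓ xr = L ℓ yb := by
    have h1 : L ℓ xr = ∑ i, Q B yb (Pi.single i 1) * xr i := by
      unfold L
      refine Finset.sum_congr rfl fun i _ => ?_
      rcases hcase i with h | h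
      · have : xr i = 0 := by simp [hxr, hx0 i h]
        rw [this, mul_zero, mul_zero]
      · rw [hfo i h]
    have h2 : L ℓ yb = ∑ i, Q B xr (Pi.single i 1) * yb i := by
      unfold L
      refine Finset.sum_congr rfl fun i _ => ?_
      rcases hcase i with h | h
      · rw [h, mul_zero, mul_zero]
      · rw [hxrI i h]
    rw [h1, h2, ← Q_eq_sum_single, ← Q_eq_sum_single, Q_symm]
  have hQx : Q B xr xr = L ℓ xr := by
    rw [Q_eq_sum_single]
    unfold L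
    refine Finset.sum_congr rfl fun i _ => ?_
    rcases hcase i with h | h
    · have : xr i = 0 := by simp [hxr, hx0 i h]
      rw [this, mul_zero, mul_zero]
    · rw [hxrI i h]
  refine ⟨x, hxnn, ?_, fun y hy hy0 => ?_⟩
  · rintro rfl
    have : L ℓ xr = 0 := by simp [L, hxr]
    rw [hLx] at this
    exact hs.ne' this
  · have : f ℓ B xr = f ℓ B yb := by
      unfold f
      rw [hQx, hLx, hQyb]
    rw [this]
    exact hmax y hy hy0

/-- = S19138 -/
theorem main (n : ℕ) (ℓ : Fin n → ℚ)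
    (B : Matrix (Fin n) (Fin n) ℚ)
    (hpos : ∀ y : Fin n → ℝ, (∀ i, 0 ≤ y i) → y ≠ 0 →
      0 < y ⬝ᵥ (B.map (fun r : ℚ => (r : ℝ))) *ᵥ y)
    (hℓ : ∃ y : Fin n → ℝ, (∀ i, 0 ≤ y i) ∧ 0 < (fun i => (ℓ i : ℝ)) ⬝ᵥ y) :
    ∃ x : Fin n → ℚ, (∀ i, 0 ≤ x i) ∧ x ≠ 0 ∧
      ∀ y : Fin n → ℝ, (∀ i, 0 ≤ y i) → y ≠ 0 →
        (fun i => (ℓ i : ℝ)) ⬝ᵥ y / Real.sqrt (y ⬝ᵥ (B.map (fun r : ℚ => (r : ℝ))) *ᵥ y) ≤
          (fun i => (ℓ i : ℝ)) ⬝ᵥ (fun i => (x i : ℝ)) /
            Real.sqrt ((fun i => (x i : ℝ)) ⬝ᵥ (B.map (fun r : ℚ => (r : ℝ))) *ᵥ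
              (fun i => (x i : ℝ))) := by
  have hL : ∀ y : Fin n → ℝ, (fun i => (ℓ i : ℝ)) ⬝ᵥ y = L ℓ y := fun y => rfl
  simp only [q_eq, hL] at hpos hℓ ⊢
  exact main_aux ℓ B hpos hℓ

end Groth.Agent.Lib.RatMax
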