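import Mathlib
import Groth.Agent.Lib.H40WeakApprox
import Groth.Agent.Lib.FunctionFieldDom

/-!
# Rational functions with prescribed orders at finitely many codimension-one points (helper41)

* `isDiscreteValuationRing_of_ringKrullDim_eq_one`: Noetherian local normal domain of dimension 1 is a DVR.
* `stalkVS`, `stalkEquiv`: the local ring of a point of an integral scheme as a valuation subring of the
  function field.
* `exists_rational_function` (S7938).
-/

set_option autoImplicit false
set_option linter.unusedVariables false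
universe u

open AlgebraicGeometry CategoryTheory

namespace Groth.Agent.Lib.RatOrd41

theorem isDiscreteValuationRing_of_ringKrullDim_eq_one {R : Type*} [CommRing R] [IsDomain R]
    [IsLocalRing R] [IsNoetherianRing R] [IsIntegrallyClosed R] (h : ringKrullDim R = 1) :
    IsDiscreteValuationRing R := by
  have hnf : ¬ IsField R := fun hf => by
    have h0 := ringKrullDim_eq_zero_of_isField hf
    rw [h] at h0
    exact one_ne_zero h0
  have hdim : Ring.KrullDimLE 1 R := by
    rw [Ring.krullDimLE_iff]; exact h.le
  have key : IsIntegrallyClosed R ∧ ∃! P : Ideal R, P ≠ ⊥ ∧ P.IsPrime := by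
    refine ⟨inferInstance, IsLocalRing.maximalIdeal R, ⟨?_, inferInstance⟩, ?_⟩
    · intro h0
      exact hnf (IsLocalRing.isField_iff_maximalIdeal_eq.2 h0)
    · rintro P ⟨hP0, hPprime⟩
      exact IsLocalRing.eq_maximalIdeal (hPprime.isMaximal_of_ne_bot hP0)
  exact ((IsDiscreteValuationRing.TFAE R hnf).out 0 3).2 key

variable (X : Scheme.{u}) [IsIntegral X]

/-- the local ring of a point as a valuation subring of the function field -/
noncomputable def stalkVS (x : X) [ValuationRing (X.presheaf.stalk x)] :
    ValuationSubring X.functionField where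
  toSubring := (algebraMap (X.presheaf.stalk x) X.functionField).range
  mem_or_inv_mem' := fun a => by
    rcases ValuationRing.isInteger_or_isInteger (X.presheaf.stalk x) a with h | h
    · left; exact h
    · right; exact h

theorem mem_stalkVS (x : X) [ValuationRing (X.presheaf.stalk x)] (a : X.functionField) :
    a ∈ stalkVS X x ↔ a ∈ (algebraMap (X.presheaf.stalk x) X.functionField).range := Iff.rfl

/-- the identification of the stalk with the valuation subring -/
noncomputable def stalkEquiv (x : X) [ValuationRing (X.presheaf.stalk x)] :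
    X.presheaf.stalk x ≃+* stalkVS X x :=
  RingEquiv.ofBijective
    (RingHom.codRestrict (algebraMap (X.presheaf.stalk x) X.functionField) (stalkVS X x)
      (fun a => ⟨a, rfl⟩))
    ⟨fun a b hab => IsFractionRing.injective (X.presheaf.stalk x) X.functionField
        (congrArg Subtype.val hab),
      fun ⟨_, a, rfl⟩ => ⟨a, rfl⟩⟩

theorem coe_stalkEquiv (x : X) [ValuationRing (X.presheaf.stalk x)] (a : X.presheaf.stalk x) :
    ((stalkEquiv X x a : stalkVS X x) : X.functionField) =
      algebraMap (X.presheaf.stalk x) X.functionField a := rfl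

theorem algebraMap_stalkEquiv_symm (x : X) [ValuationRing (X.presheaf.stalk x)]
    (z : stalkVS X x) :
    algebraMap (X.presheaf.stalk x) X.functionField ((stalkEquiv X x).symm z) = (z : X.functionField) := by
  rw [← coe_stalkEquiv, RingEquiv.apply_symm_apply]

end Groth.Agent.Lib.RatOrd41

namespace Groth.Agent.Lib.RatOrd41

open Groth.Agent.Lib.FunctionFieldDom

theorem exists_rational_function (X : Scheme.{u}) [IsIntegral X] [IsNoetherian X] [X.IsSeparated]
    (hnor : ∀ x : X, IsIntegrallyClosed (X.presheaf.stalk x))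
    {r : ℕ} (ξ : Fin r → X) (hξ : Function.Injective ξ)
    (hcodim : ∀ i, ringKrullDim (X.presheaf.stalk (ξ i)) = 1) (n : Fin r → ℤ) :
    ∃ f : X.functionField, f ≠ 0 ∧ ∀ i : Fin r,
      ∃ (ϖ : X.presheaf.stalk (ξ i)) (_ : Irreducible ϖ) (w : (X.presheaf.stalk (ξ i))ˣ),
        f = algebraMap (X.presheaf.stalk (ξ i)) X.functionField (w : X.presheaf.stalk (ξ i)) *
          algebraMap (X.presheaf.stalk (ξ i)) X.functionField ϖ ^ (n i) := by
  have hdvr : ∀ i, IsDiscreteValuationRing (X.presheaf.stalk (ξ i)) := fun i =>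
    have := hnor (ξ i)
    isDiscreteValuationRing_of_ringKrullDim_eq_one (hcodim i)
  have hval : ∀ i, ValuationRing (X.presheaf.stalk (ξ i)) := fun i =>
    have := hdvr i
    inferInstance
  let O : Fin r → ValuationSubring X.functionField := fun i => @stalkVS X _ (ξ i) (hval i)
  have hO : ∀ i, IsDiscreteValuationRing (O i) := fun i =>
    have := hdvr i
    IsDiscreteValuationRing.RingEquivClass.isDiscreteValuationRing (@stalkEquiv X _ (ξ i) (hval i))
  have hinj : Function.Injective O := by
    intro i j hij
    apply hξ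
    have h1 : (algebraMap (X.presheaf.stalk (ξ i)) X.functionField).range =
        (algebraMap (X.presheaf.stalk (ξ j)) X.functionField).range :=
      congrArg ValuationSubring.toSubring hij
    exact ((specializes_of_range_le X h1.ge).antisymm (specializes_of_range_le X h1.le)).eq
  rcases Nat.eq_zero_or_pos r with hr | hr
  · subst hr
    exact ⟨1, one_ne_zero, fun i => i.elim0⟩
  obtain ⟨f, hf⟩ := Groth.Agent.Lib.H40WeakApprox.exists_sub_eq_unit_mul_uniformizer_zpow
    O hO hinj (fun _ => 0) n
  have key : ∀ i : Fin r,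
      ∃ (ϖ : X.presheaf.stalk (ξ i)) (_ : Irreducible ϖ) (w : (X.presheaf.stalk (ξ i))ˣ),
        f = algebraMap (X.presheaf.stalk (ξ i)) X.functionField (w : X.presheaf.stalk (ξ i)) *
          algebraMap (X.presheaf.stalk (ξ i)) X.functionField ϖ ^ (n i) := by
    intro i
    obtain ⟨ϖ, hϖ, w, hfw⟩ := hf i
    rw [sub_zero] at hfw
    let e := @stalkEquiv X _ (ξ i) (hval i)
    refine ⟨e.symm ϖ, (MulEquiv.irreducible_iff e.symm.toMulEquiv).2 hϖ,
      Units.map e.symm.toMonoidHom w, ?_⟩
    rw [hfw]
    have h1 := @algebraMap_stalkEquiv_symm X _ (ξ i) (hval i) ϖ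
    have h2 := @algebraMap_stalkEquiv_symm X _ (ξ i) (hval i) (w : O i)
    rw [h1]
    congr 1
    exact h2.symm
  refine ⟨f, ?_, key⟩
  obtain ⟨ϖ, hϖ, w, hfw⟩ := key ⟨0, hr⟩
  rw [hfw]
  have hinjK := IsFractionRing.injective (X.presheaf.stalk (ξ ⟨0, hr⟩)) X.functionField
  refine mul_ne_zero ?_ (zpow_ne_zero _ ?_)
  · rw [Ne, map_eq_zero_iff _ hinjK]
    exact w.ne_zero
  · rw [Ne, map_eq_zero_iff _ hinjK]
    exact hϖ.ne_zero

end Groth.Agent.Lib.RatOrd41
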