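import Groth.Agent.Lib.RefSec53c
import Groth.Agent.Lib.HartogsO
import Groth.Agent.Lib.H78TensorGen

/-!
# helper53: rational sections of reflexive modules regular in codimension one are regular
(namespace `Groth.Agent.Lib.RatSec53`)

* `exists_section_of_forall_codim_one`: `X` normal integral locally Noetherian, `E` coherent with reflexive stalks,
  `t ∈ E_η` in the image of `E_x` for every point `x` of codimension one ⟹ `t` is the germ of a global section.
-/

set_option autoImplicit false
set_option maxHeartbeats 400000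
set_option linter.unusedSectionVars false
set_option linter.style.haveILetI false
universe u

open CategoryTheory CategoryTheory.Limits AlgebraicGeometry Opposite TopologicalSpace
open Groth.Agent.Lib.QCohStalk Groth.Agent.Lib.RefSec53 Groth.Agent.Lib.H78TensorGen

namespace Groth.Agent.Lib.RatSec53

variable {X : Scheme.{u}}

theorem exists_section_of_forall_codim_one [IsIntegral X] [IsLocallyNoetherian X]
    (hX : Pi1.IsNormalScheme X) (E : X.Modules) (hE : Coh.IsCoh E)
    (hr : ∀ x : X, Module.IsReflexive (X.presheaf.stalk x) (E.presheaf.stalk x))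
    (t : E.presheaf.stalk (genericPoint X))
    (ht : ∀ x : X, ringKrullDim (X.presheaf.stalk x) = 1 →
      t ∈ Set.range (E.presheaf.stalkSpecializes (_root_.genericPoint_specializes x)).hom) :
    ∃ σ : Γ(E, ⊤), E.presheaf.germ ⊤ (genericPoint X) trivial σ = t := by
  haveI := hE.1
  have hη : ∀ x : X, genericPoint X ⤳ x := _root_.genericPoint_specializes
  have htf : ∀ x : X, Module.IsTorsionFree (X.presheaf.stalk x) (E.presheaf.stalk x) := fun x => by
    haveI := hr x
    infer_instance
  -- the index type of local representatives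
  let I : Type u := { p : (W : X.Opens) × Γ(E, W) //
    ∃ h : genericPoint X ∈ p.1, E.presheaf.germ p.1 (genericPoint X) h p.2 = t }
  let U : I → X.Opens := fun i => i.1.1
  let sf : ∀ i : I, Γ(E, U i) := fun i => i.1.2
  have hsf : ∀ (i : I) (x : X) (hx : x ∈ U i),
      E.presheaf.stalkSpecializes (hη x) (E.presheaf.germ (U i) x hx (sf i)) = t := by
    intro i x hx
    obtain ⟨h, hh⟩ := i.2
    rw [germ_stalkSpecializes']
    exact hh
  obtain ⟨s, hs⟩ := sec_glue E U (fun i => le_iSup U i) le_rfl sf (by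
    intro i j
    refine Groth.Agent.Lib.H78Dual.germ_ext E _ _ (fun x hx => ?_)
    rw [Groth.Agent.Lib.H78Dual.germ_rs, Groth.Agent.Lib.H78Dual.germ_rs]
    haveI := htf x
    rw [← sub_eq_zero, ← stalkSpecializes_eq_zero_iff_of_torsionFree E (hη x), map_sub,
      hsf i x hx.1, hsf j x hx.2, sub_self])
  -- membership criterion
  have hmem : ∀ x : X, t ∈ Set.range (E.presheaf.stalkSpecializes (hη x)).hom → x ∈ iSup U := by
    rintro x ⟨e, he⟩
    obtain ⟨W, hxW, σ', rfl⟩ := TopCat.Presheaf.exists_germ_eq E.presheaf e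
    have hηW : genericPoint X ∈ W := (hη x).mem_open W.isOpen hxW
    have h1 : E.presheaf.germ W (genericPoint X) hηW σ' = t := by
      rw [← he]
      exact (germ_stalkSpecializes' E (hη x) hxW σ').symm
    exact Opens.mem_iSup.mpr ⟨⟨⟨W, σ'⟩, hηW, h1⟩, hxW⟩
  have hηV : genericPoint X ∈ iSup U := by
    obtain ⟨W, hηW, σ', hσ'⟩ := TopCat.Presheaf.exists_germ_eq E.presheaf t
    exact Opens.mem_iSup.mpr ⟨⟨⟨W, σ'⟩, hηW, hσ'⟩, hηW⟩
  have hdim : ∀ x : X, x ∉ iSup U → (2 : WithBot ℕ∞) ≤ ringKrullDim (X.presheaf.stalk x) := by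
    intro x hx
    by_contra hd
    have hxη : x ≠ genericPoint X := by
      rintro rfl
      exact hx hηV
    have hnf := Groth.Agent.Lib.CodimOne13.not_isField_stalk_of_ne_genericPoint hxη
    have hdim1 : ringKrullDim (X.presheaf.stalk x) ≤ 1 := by
      rw [← IsLocalRing.maximalIdeal_height_eq_ringKrullDim] at hd ⊢
      have h' : ¬ (2 : ℕ∞) ≤ (IsLocalRing.maximalIdeal (X.presheaf.stalk x)).height := by
        intro h2
        exact hd (WithBot.coe_le_coe.mpr h2)
      have h3 : (IsLocalRing.maximalIdeal (X.presheaf.stalk x)).height ≤ 1 := by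
        rw [not_le] at h'
        exact Order.le_of_lt_add_one (by simpa [one_add_one_eq_two] using h')
      exact_mod_cast h3
    exact hx (hmem x (ht x (Groth.Agent.Lib.CodimOne13.dim_eq_one_of_not_isField hdim1 hnf)))
  have hdepth : ∀ x : X, x ∉ iSup U →
      (2 : ℕ∞) ≤ LocCoh.depth (X.presheaf.stalk x) (E.presheaf.stalk x) := by
    intro x hx
    haveI := (hX x).2
    have h1 := Groth.Agent.Lib.Refl53.two_le_depth_of_normal (X.presheaf.stalk x) (hdim x hx)
    haveI := Groth.Agent.Lib.CohFinite.finite_stalk_of_isCoh E hE x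
    haveI := hr x
    exact (Groth.Agent.S6880.depth_of_isReflexive (X.presheaf.stalk x) (E.presheaf.stalk x)).2 h1
  have hb := Groth.Agent.Lib.Hartogs.res_bijective_of_eq E hE (iSup U) hdepth
    (le_top : iSup U ≤ ⊤) (by simp)
  obtain ⟨σ, hσ⟩ := hb.2 s
  refine ⟨σ, ?_⟩
  obtain ⟨i₀, hi₀⟩ := Opens.mem_iSup.mp hηV
  have h1 : E.presheaf.germ ⊤ (genericPoint X) trivial σ =
      E.presheaf.germ (iSup U) (genericPoint X) hηV s := by
    rw [← hσ]
    exact (germ_res E le_top (genericPoint X) hηV σ).symm
  have h2 : E.presheaf.germ (iSup U) (genericPoint X) hηV s =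
      E.presheaf.germ (U i₀) (genericPoint X) hi₀ (sf i₀) := by
    rw [← hs i₀]
    exact (Groth.Agent.Lib.H78Dual.germ_rs E (le_iSup U i₀) (genericPoint X) hi₀ s).symm
  rw [h1, h2]
  obtain ⟨h, hh⟩ := i₀.2
  exact hh

end Groth.Agent.Lib.RatSec53
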