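import Groth.Agent.Lib.HomSh53e
import Groth.Agent.Lib.H78Contract

/-!
# helper53: the morphism defined by a global section of the sheaf Hom
(namespace `Groth.Agent.Lib.RatSec53`)

* `homOfSec f : L ⟶ N` for `f : Γ(homSh L N, ⊤)`, with `stalkMapₗ (homOfSec f) x = f.1 ⟨x, trivial⟩`.
-/

set_option autoImplicit false
set_option maxHeartbeats 400000
set_option linter.unusedSectionVars false
set_option linter.style.haveILetI false
universe u

open CategoryTheory CategoryTheory.Limits AlgebraicGeometry Opposite TopologicalSpace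
open Groth.Agent.Lib.QCohStalk Groth.Agent.Lib.H78TensorGen Groth.Agent.Lib.H78Dual
open Groth.Agent.Lib.HomSh53 Groth.Agent.Lib.H78Contract

namespace Groth.Agent.Lib.RatSec53

variable {X : Scheme.{u}} {L N : X.Modules}

/-- additive map on sections over `U` defined by a global section of the sheaf Hom -/
noncomputable def secApp (f : Γ(RefHull.homSh L N, ⊤)) (U : X.Opens) : Γ(L, U) →+ Γ(N, U) :=
  (toLin U (resH (le_top : U ≤ ⊤) f)).toAddMonoidHom

lemma secApp_apply (f : Γ(RefHull.homSh L N, ⊤)) (U : X.Opens) (s : Γ(L, U)) :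
    secApp f U s = pair (resH (le_top : U ≤ ⊤) f) s := rfl

lemma secApp_rs (f : Γ(RefHull.homSh L N, ⊤)) {U V : X.Opens} (h : V ≤ U) (s : Γ(L, U)) :
    rs N h (secApp f U s) = secApp f V (rs L h s) := by
  rw [secApp_apply, secApp_apply, pair_rs]
  rfl

/-- the morphism of modules defined by a global section of the sheaf Hom -/
noncomputable def homOfSec (f : Γ(RefHull.homSh L N, ⊤)) : L ⟶ N :=
  ⟨PresheafOfModules.homMk
    { app := fun U => AddCommGrpCat.ofHom (secApp f U.unop)
      naturality := fun {U V} i => by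
        ext s
        have h := secApp_rs f (U := U.unop) (V := V.unop) i.unop.le s
        exact h.symm }
    (fun U r s => pair_smul_right r _ s)⟩

lemma homOfSec_app (f : Γ(RefHull.homSh L N, ⊤)) (U : X.Opens) (s : Γ(L, U)) :
    (homOfSec f).app U s = pair (resH (le_top : U ≤ ⊤) f) s := rfl

theorem stalkMapₗ_homOfSec (f : Γ(RefHull.homSh L N, ⊤)) (x : X) :
    RefHull.stalkMapₗ (homOfSec f) x = f.1 ⟨x, trivial⟩ := by
  refine LinearMap.ext fun v => ?_
  obtain ⟨W, hxW, s, rfl⟩ := TopCat.Presheaf.exists_germ_eq L.presheaf v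
  rw [RefHull.stalkMapₗ_germ, homOfSec_app, germ_pair]
  rfl

end Groth.Agent.Lib.RatSec53
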