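import Groth.Agent.Lib.RatSec53b
import Groth.Agent.Lib.RefSec53b
import Mathlib.LinearAlgebra.FreeModule.PID
import Mathlib.Algebra.Module.Torsion.Basic

/-!
# helper53: sheaf Hom and specialization; biduality over a PID
(namespace `Groth.Agent.Lib.RatSec53`)

* `evalStalk_stalkSpecializes`: evaluation of germs of the sheaf Hom commutes with specialization maps.
* `stalkMapₗ_stalkSpecializes`: stalk maps of a morphism commute with specialization maps.
* `stalkHom_ext_of_specializes`: a linear map out of `L_y` is determined on the image of `L_x` (`y ⤳ x`, `L` quasi-coherent).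
* `dual_eval_surjective_of_pid`: `M → M**` is surjective for a finite module over a PID.
* `surjective_of_eval_surjective`: the abstract transport used for `bidualAt`.
-/

set_option autoImplicit false
set_option maxHeartbeats 400000
set_option linter.unusedSectionVars false
set_option linter.style.haveILetI false
universe u

open CategoryTheory CategoryTheory.Limits AlgebraicGeometry Opposite TopologicalSpace
open Groth.Agent.Lib.QCohStalk Groth.Agent.Lib.H78TensorGen Groth.Agent.Lib.H78Dual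
open Groth.Agent.Lib.HomSh53 Groth.Agent.Lib.RefSec53 Groth.Agent.Lib.GenericFree

namespace Groth.Agent.Lib.RatSec53

section algebra

variable {R : Type u} [CommRing R] {M P D : Type u} [AddCommGroup M] [Module R M]
  [AddCommGroup P] [Module R P] [AddCommGroup D] [Module R D]

theorem surjective_of_eval_surjective (e : R ≃ₗ[R] P) (ε : D ≃ₗ[R] (M →ₗ[R] P))
    (β : M →ₗ[R] (D →ₗ[R] P)) (hβ : ∀ v θ, β v θ = ε θ v)
    (h : Function.Surjective (Module.Dual.eval R M)) : Function.Surjective β := by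
  let ε' : D ≃ₗ[R] Module.Dual R M :=
    ε ≪≫ₗ LinearEquiv.arrowCongr (LinearEquiv.refl R M) e.symm
  let Φ : (D →ₗ[R] P) ≃ₗ[R] Module.Dual R (Module.Dual R M) := LinearEquiv.arrowCongr ε' e.symm
  have key : ∀ v, Φ (β v) = Module.Dual.eval R M v := by
    intro v
    refine LinearMap.ext fun ψ => ?_
    change e.symm (β v (ε'.symm ψ)) = ψ v
    rw [hβ]
    have h1 : ε (ε'.symm ψ) = (LinearEquiv.arrowCongr (LinearEquiv.refl R M) e.symm).symm ψ := by
      change ε (ε.symm _) = _
      rw [LinearEquiv.apply_symm_apply]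
      rfl
    rw [h1]
    change e.symm (e (ψ v)) = ψ v
    rw [LinearEquiv.symm_apply_apply]
  intro ξ
  obtain ⟨v, hv⟩ := h (Φ ξ)
  refine ⟨v, Φ.injective ?_⟩
  rw [key, hv]

theorem dual_eval_surjective_of_pid [IsDomain R] [IsPrincipalIdealRing R] [Module.Finite R M] :
    Function.Surjective (Module.Dual.eval R M) := by
  let T := Submodule.torsion R M
  haveI : Module.IsTorsionFree R (M ⧸ T) := Submodule.QuotientTorsion.instIsTorsionFree
  haveI : Module.Finite R (M ⧸ T) := inferInstance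
  haveI : Module.Free R (M ⧸ T) := inferInstance
  haveI : Module.IsReflexive R (M ⧸ T) := inferInstance
  -- every functional factors through the quotient
  have hfac : ∀ φ : Module.Dual R M, ∃ φ' : Module.Dual R (M ⧸ T), φ'.comp T.mkQ = φ := by
    intro φ
    refine ⟨T.liftQ φ ?_, T.liftQ_mkQ φ _⟩
    intro m hm
    rw [Submodule.mem_torsion_iff] at hm
    obtain ⟨a, ha⟩ := hm
    rw [LinearMap.mem_ker]
    have ha' : (a : R) • m = 0 := ha
    have h1 : (a : R) • φ m = 0 := by rw [← map_smul, ha', map_zero]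
    have h2 : (a : R) ≠ 0 := nonZeroDivisors.ne_zero a.2
    exact (smul_eq_zero.mp h1).resolve_left h2
  intro ξ
  let ξ' : Module.Dual R (Module.Dual R (M ⧸ T)) := ξ.comp (LinearMap.lcomp R R T.mkQ)
  obtain ⟨p, hp⟩ := (Module.bijective_dual_eval R (M ⧸ T)).2 ξ'
  obtain ⟨m, rfl⟩ := T.mkQ_surjective p
  refine ⟨m, LinearMap.ext fun φ => ?_⟩
  obtain ⟨φ', rfl⟩ := hfac φ
  have h1 := LinearMap.congr_fun hp φ'
  rw [Module.Dual.eval_apply] at h1 ⊢
  rw [LinearMap.comp_apply, h1]
  rfl

end algebra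

section scheme

variable {X : Scheme.{u}} {L N : X.Modules}

theorem evalStalk_stalkSpecializes {x y : X} (h : y ⤳ x)
    (e : (RefHull.homSh L N).presheaf.stalk x) (g : L.presheaf.stalk x) :
    (RefHull.evalStalk L N y ((RefHull.homSh L N).presheaf.stalkSpecializes h e))
        (L.presheaf.stalkSpecializes h g) =
      N.presheaf.stalkSpecializes h ((RefHull.evalStalk L N x e) g) := by
  obtain ⟨W₁, hx₁, f, rfl⟩ := TopCat.Presheaf.exists_germ_eq (RefHull.homSh L N).presheaf e
  obtain ⟨W₂, hx₂, s, rfl⟩ := TopCat.Presheaf.exists_germ_eq L.presheaf g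
  have hxW : x ∈ W₁ ⊓ W₂ := ⟨hx₁, hx₂⟩
  have hyW : y ∈ W₁ ⊓ W₂ := h.mem_open (W₁ ⊓ W₂).isOpen hxW
  rw [← germ_res (RefHull.homSh L N) (inf_le_left : W₁ ⊓ W₂ ≤ W₁) x hxW f,
    ← germ_res L (inf_le_right : W₁ ⊓ W₂ ≤ W₂) x hxW s,
    germ_stalkSpecializes', germ_stalkSpecializes', RefHull.evalStalk_germ, RefHull.evalStalk_germ,
    ← germ_pair _ _ y hyW, ← germ_pair _ _ x hxW, germ_stalkSpecializes']

theorem stalkMapₗ_stalkSpecializes (φ : L ⟶ N) {x y : X} (h : y ⤳ x) (v : L.presheaf.stalk x) :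
    RefHull.stalkMapₗ φ y (L.presheaf.stalkSpecializes h v) =
      N.presheaf.stalkSpecializes h (RefHull.stalkMapₗ φ x v) := by
  obtain ⟨W, hxW, s, rfl⟩ := TopCat.Presheaf.exists_germ_eq L.presheaf v
  rw [germ_stalkSpecializes', RefHull.stalkMapₗ_germ, RefHull.stalkMapₗ_germ,
    germ_stalkSpecializes']

theorem stalkHom_ext_of_specializes [L.IsQuasicoherent] {x y : X} (h : y ⤳ x)
    (φ ψ : RefHull.StalkHom L N y)
    (hφψ : ∀ g : L.presheaf.stalk x, φ (L.presheaf.stalkSpecializes h g) =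
      ψ (L.presheaf.stalkSpecializes h g)) : φ = ψ := by
  refine LinearMap.ext fun γ => ?_
  obtain ⟨W, hW, hxW, -⟩ :=
    Opens.isBasis_iff_nbhd.mp X.isBasis_affineOpens (show x ∈ (⊤ : X.Opens) from trivial)
  have hyW : y ∈ W := h.mem_open W.isOpen hxW
  obtain ⟨a, s, hau, has⟩ := exists_germ_smul_eq_germ L hW y hyW γ
  have h1 := hφψ (L.presheaf.germ W x hxW s)
  rw [germ_stalkSpecializes', ← has, map_smul, map_smul] at h1
  exact hau.smul_left_cancel.mp h1

theorem stalkMapₗ_eq_stalkLin (φ : L ⟶ N) (x : X) :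
    RefHull.stalkMapₗ φ x = Groth.Agent.Lib.ModStalkLin.stalkLin φ x := by
  refine LinearMap.ext fun v => ?_
  obtain ⟨W, hxW, s, rfl⟩ := TopCat.Presheaf.exists_germ_eq L.presheaf v
  rw [RefHull.stalkMapₗ_germ, Groth.Agent.Lib.ModStalkLin.stalkLin_germ]

end scheme

end Groth.Agent.Lib.RatSec53
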