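import Groth.Agent.Lib.Refl53b
import Groth.Agent.Lib.LocFreeFP
import Groth.Agent.Lib.H14SerreNormal
import Groth.Agent.Lib.H90InvertibleFP
import Groth.Prelude.Def_Pi1

/-!
# helper53: reflexive modules on normal schemes are locally free off codimension 2
(namespace `Groth.Agent.Lib.Refl53`)

* `isPrincipalIdealRing_of_normal`: normal Noetherian local domain with `¬ 2 ≤ dim` is a PID.
* `two_le_depth_of_normal`: normal Noetherian local domain with `2 ≤ dim` has `depth ≥ 2`.
* `freeLocus F`: the open set of points where the stalk of a coherent module is free.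
* `reflexive_iff_exists_open`: Stacks-type characterisation of reflexive modules on a normal scheme (S1690).
-/

set_option autoImplicit false
set_option maxHeartbeats 400000
set_option linter.unusedSectionVars false
set_option linter.style.haveILetI false
universe u

open CategoryTheory CategoryTheory.Limits AlgebraicGeometry Opposite TopologicalSpace
open Groth.Agent.Lib.ModStalkLin Groth.Agent.Lib.RestrictStalk
open Groth.Agent.Lib.LocFreeCrit Groth.Agent.Lib.LocFreeFP

namespace Groth.Agent.Lib.Refl53

section algebra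

variable (A : Type u) [CommRing A] [IsLocalRing A] [IsDomain A] [IsNoetherianRing A]
  [IsIntegrallyClosed A]

theorem isPrincipalIdealRing_of_normal (h : ¬ (2 : WithBot ℕ∞) ≤ ringKrullDim A) :
    IsPrincipalIdealRing A := by
  have hdim : ringKrullDim A ≤ 1 := by
    rw [← IsLocalRing.maximalIdeal_height_eq_ringKrullDim] at h ⊢
    have h' : ¬ (2 : ℕ∞) ≤ (IsLocalRing.maximalIdeal A).height := by
      intro h2
      exact h (WithBot.coe_le_coe.mpr h2)
    have h3 : (IsLocalRing.maximalIdeal A).height ≤ 1 := by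
      rw [not_le] at h'
      exact Order.le_of_lt_add_one (by simpa [one_add_one_eq_two] using h')
    exact_mod_cast h3
  have hK : Ring.KrullDimLE 1 A := Ring.krullDimLE_iff.mpr hdim
  have hmax : ∀ P : Ideal A, P ≠ ⊥ → P.IsPrime → P = IsLocalRing.maximalIdeal A := fun P hP hPp =>
    IsLocalRing.eq_maximalIdeal ((Ring.krullDimLE_one_iff_of_isPrime_bot.mp hK) P hP hPp)
  have h30 : (IsIntegrallyClosed A ∧
      ∀ P : Ideal A, P ≠ ⊥ → P.IsPrime → P = IsLocalRing.maximalIdeal A) ↔
      IsPrincipalIdealRing A := (tfae_of_isNoetherianRing_of_isLocalRing_of_isDomain A).out 3 0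
  exact h30.mp ⟨inferInstance, hmax⟩

theorem two_le_depth_of_normal (h : (2 : WithBot ℕ∞) ≤ ringKrullDim A) :
    (2 : ℕ∞) ≤ LocCoh.depth A A := by
  have h1 := Groth.Agent.Lib.H14SerreNormal.min_two_height_le_depth_of_normal A
  have h2 : (2 : ℕ∞) ≤ (IsLocalRing.maximalIdeal A).height := by
    rw [← IsLocalRing.maximalIdeal_height_eq_ringKrullDim] at h
    exact WithBot.coe_le_coe.mp h
  rwa [min_eq_left h2] at h1

end algebra

section scheme

variable {X : Scheme.{u}}

/-- the locus where the stalk is free -/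
theorem isOpen_free_locus (F : X.Modules) (hF : CohB1.IsFP F) :
    IsOpen {x : X | Module.Free (X.presheaf.stalk x) (F.presheaf.stalk x)} := by
  rw [isOpen_iff_forall_mem_open]
  intro x hx
  obtain ⟨n, hn⟩ := exists_locFreeAt_of_isFP_of_free F hF x hx
  obtain ⟨U, hxU, ⟨e⟩⟩ := hn.exists_restrict_iso
  refine ⟨U, ?_, U.2, hxU⟩
  intro y hy
  exact free_stalk_of_locFreeAt (locFreeAt_of_restrict_iso U hy e)

theorem reflexive_iff_exists_open (X : Scheme.{u}) [IsIntegral X] [IsLocallyNoetherian X]
    (hX : Pi1.IsNormalScheme X) (F : X.Modules) (hF : Coh.IsCoh F) :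
    (∀ x : ↥X, Module.IsReflexive (X.presheaf.stalk x) (F.presheaf.stalk x)) ↔
      ∃ U : X.Opens, (∀ x : ↥X, x ∉ U → (2 : WithBot ℕ∞) ≤ ringKrullDim (X.presheaf.stalk x)) ∧
        FlatMod.IsFinLocFree (F.restrict U.ι) ∧
          IsIso ((Scheme.Modules.restrictAdjunction U.ι).unit.app F) := by
  have hdepth : ∀ (U : X.Opens),
      (∀ x : ↥X, x ∉ U → (2 : WithBot ℕ∞) ≤ ringKrullDim (X.presheaf.stalk x)) →
      ∀ x : ↥X, x ∉ U → (2 : ℕ∞) ≤ LocCoh.depth (X.presheaf.stalk x) (X.presheaf.stalk x) := by
    intro U hU x hx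
    haveI := (hX x).2
    exact two_le_depth_of_normal (X.presheaf.stalk x) (hU x hx)
  constructor
  · intro hr
    have hFP := Groth.Agent.Lib.HomSh53.isFP_of_isCoh hF
    let U : X.Opens := ⟨_, isOpen_free_locus F hFP⟩
    have hUdim : ∀ x : ↥X, x ∉ U → (2 : WithBot ℕ∞) ≤ ringKrullDim (X.presheaf.stalk x) := by
      intro x hx
      by_contra hdim
      apply hx
      haveI := (hX x).2
      haveI := isPrincipalIdealRing_of_normal (X.presheaf.stalk x) hdim
      haveI := hr x
      haveI := Groth.Agent.Lib.CohFinite.finite_stalk_of_isCoh F hF x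
      change Module.Free (X.presheaf.stalk x) (F.presheaf.stalk x)
      infer_instance
    refine ⟨U, hUdim, ?_, isIso_unit_of_reflexive X U (hdepth U hUdim) F hF hr⟩
    have hcohU : Coh.IsCoh (F.restrict U.ι) := Groth.Agent.Lib.H90CohRestrict.isCoh_restrict U.ι F hF
    refine isFinLocFree_of_isFP_of_free (F.restrict U.ι)
      (Groth.Agent.Lib.HomSh53.isFP_of_isCoh hcohU) (fun x => ?_)
    exact (free_restrict_iff U.ι F x).mpr x.2
  · rintro ⟨U, hUdim, hfree, hiso⟩
    have hcohU : Coh.IsCoh (F.restrict U.ι) := Groth.Agent.Lib.H90CohRestrict.isCoh_restrict U.ι F hF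
    have hrU : ∀ x : ↥(U : Scheme.{u}),
        Module.IsReflexive ((U : Scheme.{u}).presheaf.stalk x)
          ((F.restrict U.ι).presheaf.stalk x) := by
      intro x
      haveI := free_stalk_of_isFinLocFree hfree x
      haveI := Groth.Agent.Lib.CohFinite.finite_stalk_of_isCoh (F.restrict U.ι) hcohU x
      infer_instance
    have h2 := (pushforward_reflexive X U (hdepth U hUdim) (F.restrict U.ι) hcohU hrU).2
    intro x
    exact isReflexive_stalk_of_iso
      (asIso ((Scheme.Modules.restrictAdjunction U.ι).unit.app F)).symm x (h2 x)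

end scheme

end Groth.Agent.Lib.Refl53
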