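import Groth.Agent.Lib.RatSec53a
import Groth.Agent.Lib.RatSec53c
import Groth.Agent.Lib.Refl53c

/-!
# helper53: extending a generic linear map `G_η → F_η` to a morphism `G ⟶ F^**` (S16083)
(namespace `Groth.Agent.Lib.RatSec53`)
-/

set_option autoImplicit false
set_option maxHeartbeats 800000
set_option linter.unusedSectionVars false
set_option linter.style.haveILetI false
universe u

open CategoryTheory CategoryTheory.Limits AlgebraicGeometry Opposite TopologicalSpace
open Groth.Agent.Lib.QCohStalk Groth.Agent.Lib.H78TensorGen Groth.Agent.Lib.H78Dual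
open Groth.Agent.Lib.HomSh53 Groth.Agent.Lib.RefSec53 Groth.Agent.Lib.GenericFree

namespace Groth.Agent.Lib.RatSec53

variable {X : Scheme.{u}}

/-- stalks of `𝓗om(G, H)` are reflexive when those of `H` are (`G`, `H` coherent, `X` integral loc. Noetherian) -/
theorem isReflexive_stalk_homSh [IsIntegral X] [IsLocallyNoetherian X] {G H : X.Modules}
    (hG : Coh.IsCoh G) (hH : Coh.IsCoh H)
    (hHr : ∀ x : X, Module.IsReflexive (X.presheaf.stalk x) (H.presheaf.stalk x)) (x : X) :
    Module.IsReflexive (X.presheaf.stalk x) ((RefHull.homSh G H).presheaf.stalk x) := by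
  let ε := LinearEquiv.ofBijective (RefHull.evalStalk G H x)
    (evalStalk_bijective (isFP_of_isCoh hG) x)
  haveI := Groth.Agent.Lib.CohFinite.finite_stalk_of_isCoh G hG x
  haveI := Groth.Agent.Lib.CohFinite.finite_stalk_of_isCoh H hH x
  haveI := hHr x
  haveI := Groth.Agent.S6875.result (X.presheaf.stalk x) (G.presheaf.stalk x) (H.presheaf.stalk x)
  exact Module.equiv ε.symm

/-- over a PID stalk, the stalk of the biduality map is surjective -/
theorem stalkMapₗ_bidualMap_surjective [IsLocallyNoetherian X] {F : X.Modules} (hF : Coh.IsCoh F)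
    (x : X) [IsDomain (X.presheaf.stalk x)] [IsPrincipalIdealRing (X.presheaf.stalk x)] :
    Function.Surjective (RefHull.stalkMapₗ (RefHull.bidualMap F) x) := by
  haveI := Groth.Agent.Lib.CohFinite.finite_stalk_of_isCoh F hF x
  have hb : Function.Surjective (RefHull.bidualAt F x) :=
    surjective_of_eval_surjective (Groth.Agent.Lib.StructureModuleStalk.stalkEquiv x)
      (LinearEquiv.ofBijective (RefHull.evalStalk F (Coh.structureModule X) x)
        (evalStalk_bijective (isFP_of_isCoh hF) x))
      (RefHull.bidualAt F x) (fun _ _ => rfl) dual_eval_surjective_of_pid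
  have hinj := (evalStalk_bijective (G := Coh.structureModule X)
    (isFP_of_isCoh (isCoh_dual hF)) x).1
  rw [stalkMapₗ_eq_stalkLin]
  intro ξ
  obtain ⟨v, hv⟩ := hb (RefHull.evalStalk (RefHull.dual F) (Coh.structureModule X) x ξ)
  refine ⟨v, hinj ?_⟩
  rw [← hv, ← evalStalk_comp_stalkLin_bidualMap x]
  rfl

theorem stalkMapₗ_bidualMap_genericPoint_injective [IsIntegral X] [IsLocallyNoetherian X]
    {F : X.Modules} (hF : Coh.IsCoh F) :
    Function.Injective (RefHull.stalkMapₗ (RefHull.bidualMap F) (genericPoint X)) := by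
  rw [stalkMapₗ_eq_stalkLin]
  refine ((bijective_stalkLin_bidualMap_iff hF (genericPoint X)).mpr ?_).1
  haveI := Groth.Agent.Lib.CohFinite.finite_stalk_of_isCoh F hF (genericPoint X)
  letI : Field (X.presheaf.stalk (genericPoint X)) := inferInstanceAs (Field X.functionField)
  change Module.IsReflexive (X.presheaf.stalk (genericPoint X)) (F.presheaf.stalk (genericPoint X))
  infer_instance

theorem exists_hom_iff (X : Scheme.{u}) [IsIntegral X] [IsLocallyNoetherian X]
    (hX : Pi1.IsNormalScheme X) (F G : X.Modules) (hF : Coh.IsCoh F) (hG : Coh.IsCoh G)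
    (T : ↑(G.presheaf.stalk (genericPoint ↥X)) →ₗ[↑(X.presheaf.stalk (genericPoint ↥X))]
      ↑(F.presheaf.stalk (genericPoint ↥X))) :
    (∃ ψ : G ⟶ RefHull.ddual F, RefHull.stalkMapₗ ψ (genericPoint ↥X) =
        (RefHull.stalkMapₗ (RefHull.bidualMap F) (genericPoint ↥X)).comp T) ↔
      ∀ x : ↥X, ringKrullDim ↑(X.presheaf.stalk x) = 1 →
        Set.MapsTo ⇑T
          (Set.range ⇑(G.presheaf.stalkSpecializes
            ((genericPoint_spec ↥X).specializes (Set.mem_univ x))).hom)
          (Set.range ⇑(F.presheaf.stalkSpecializes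
            ((genericPoint_spec ↥X).specializes (Set.mem_univ x))).hom) := by
  have hη : ∀ x : X, genericPoint X ⤳ x := _root_.genericPoint_specializes
  have hH : Coh.IsCoh (RefHull.ddual F) := isCoh_ddual hF
  haveI := hG.1
  haveI := hH.1
  have hE : Coh.IsCoh (RefHull.homSh G (RefHull.ddual F)) := isCoh_homSh hG hH
  have hHr : ∀ x : X, Module.IsReflexive (X.presheaf.stalk x)
      ((RefHull.ddual F).presheaf.stalk x) :=
    fun x => Groth.Agent.Lib.Refl53.isReflexiveAt_ddual hF x
  have hEr := isReflexive_stalk_homSh hG hH hHr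
  have hbij : ∀ x : X, Function.Bijective (RefHull.evalStalk G (RefHull.ddual F) x) :=
    fun x => evalStalk_bijective (isFP_of_isCoh hG) x
  constructor
  · rintro ⟨ψ, hψ⟩ x hx _ ⟨g, rfl⟩
    have h1 : (RefHull.ddual F).presheaf.stalkSpecializes (hη x) (RefHull.stalkMapₗ ψ x g) =
        RefHull.stalkMapₗ (RefHull.bidualMap F) (genericPoint X)
          (T (G.presheaf.stalkSpecializes (hη x) g)) := by
      rw [← stalkMapₗ_stalkSpecializes, hψ]
      rfl
    haveI := (hX x).2
    have hd : ¬ (2 : WithBot ℕ∞) ≤ ringKrullDim (X.presheaf.stalk x) := by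
      rw [hx]
      decide
    haveI := Groth.Agent.Lib.Refl53.isPrincipalIdealRing_of_normal (X.presheaf.stalk x) hd
    obtain ⟨f', hf'⟩ := stalkMapₗ_bidualMap_surjective hF x (RefHull.stalkMapₗ ψ x g)
    refine ⟨f', ?_⟩
    apply stalkMapₗ_bidualMap_genericPoint_injective hF
    change RefHull.stalkMapₗ (RefHull.bidualMap F) (genericPoint X)
      (F.presheaf.stalkSpecializes (hη x) f') = _
    rw [stalkMapₗ_stalkSpecializes, hf', h1]
  · intro hT
    let εη := LinearEquiv.ofBijective (RefHull.evalStalk G (RefHull.ddual F) (genericPoint X))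
      (hbij (genericPoint X))
    let t : (RefHull.homSh G (RefHull.ddual F)).presheaf.stalk (genericPoint X) :=
      εη.symm ((RefHull.stalkMapₗ (RefHull.bidualMap F) (genericPoint X)).comp T)
    have ht : ∀ x : X, ringKrullDim (X.presheaf.stalk x) = 1 →
        t ∈ Set.range ((RefHull.homSh G (RefHull.ddual F)).presheaf.stalkSpecializes
          (_root_.genericPoint_specializes x)).hom := by
      intro x hx
      haveI : Module.IsTorsionFree (X.presheaf.stalk x) ((RefHull.ddual F).presheaf.stalk x) := by
        haveI := hHr x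
        infer_instance
      have hex : ∀ g : G.presheaf.stalk x, ∃ h : (RefHull.ddual F).presheaf.stalk x,
          (RefHull.ddual F).presheaf.stalkSpecializes (hη x) h =
            RefHull.stalkMapₗ (RefHull.bidualMap F) (genericPoint X)
              (T (G.presheaf.stalkSpecializes (hη x) g)) := by
        intro g
        obtain ⟨f', hf'⟩ := hT x hx ⟨g, rfl⟩
        refine ⟨RefHull.stalkMapₗ (RefHull.bidualMap F) x f', ?_⟩
        rw [← stalkMapₗ_stalkSpecializes]
        exact congrArg _ hf'
      choose τ hτ using hex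
      have hinj : ∀ a b : (RefHull.ddual F).presheaf.stalk x,
          (RefHull.ddual F).presheaf.stalkSpecializes (hη x) a =
            (RefHull.ddual F).presheaf.stalkSpecializes (hη x) b → a = b := by
        intro a b hab
        rw [← sub_eq_zero, ← stalkSpecializes_eq_zero_iff_of_torsionFree (RefHull.ddual F) (hη x),
          map_sub, hab, sub_self]
      let τl : G.presheaf.stalk x →ₗ[X.presheaf.stalk x] (RefHull.ddual F).presheaf.stalk x :=
        { toFun := τ
          map_add' := fun a b => by
            apply hinj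
            rw [hτ, map_add, map_add, map_add, map_add, hτ, hτ]
          map_smul' := fun r a => by
            apply hinj
            rw [hτ, stalkSpecializes_smul, stalkSpecializes_smul, map_smul, map_smul, hτ]
            rfl }
      let εx := LinearEquiv.ofBijective (RefHull.evalStalk G (RefHull.ddual F) x) (hbij x)
      refine ⟨εx.symm τl, ?_⟩
      apply εη.injective
      rw [LinearEquiv.apply_symm_apply]
      apply stalkHom_ext_of_specializes (hη x)
      intro g
      have h2 : RefHull.evalStalk G (RefHull.ddual F) x (εx.symm τl) = τl :=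
        εx.apply_symm_apply τl
      change (RefHull.evalStalk G (RefHull.ddual F) (genericPoint X)
        ((RefHull.homSh G (RefHull.ddual F)).presheaf.stalkSpecializes (hη x) (εx.symm τl)))
          (G.presheaf.stalkSpecializes (hη x) g) = _
      rw [evalStalk_stalkSpecializes, h2]
      exact hτ g
    obtain ⟨σ, hσ⟩ := exists_section_of_forall_codim_one hX _ hE hEr t ht
    refine ⟨homOfSec σ, ?_⟩
    rw [stalkMapₗ_homOfSec]
    have h1 : RefHull.evalStalk G (RefHull.ddual F) (genericPoint X)
        ((RefHull.homSh G (RefHull.ddual F)).presheaf.germ ⊤ (genericPoint X) trivial σ) =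
        σ.1 ⟨genericPoint X, trivial⟩ :=
      RefHull.evalStalk_germ G (RefHull.ddual F) (genericPoint X)
        (show genericPoint X ∈ (⊤ : X.Opens) from trivial) σ
    rw [← h1, hσ]
    exact εη.apply_symm_apply _

end Groth.Agent.Lib.RatSec53
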