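import Mathlib.CategoryTheory.Limits.Shapes.Pullback.IsPullback.Basic
import Mathlib.CategoryTheory.Limits.Preserves.Shapes.Pullbacks
import Mathlib.CategoryTheory.Limits.Preserves.Finite
import Mathlib.CategoryTheory.Comma.Basic
import Mathlib.CategoryTheory.Adjunction.FullyFaithful
import Mathlib.CategoryTheory.Limits.Shapes.ZeroObjects

/-!
# Abstract recollement / gluing of categories (helper65)

`adjI : Li ⊣ Ri`, `adjJ : Lj ⊣ Rj` with `Li`, `Lj` preserving pullbacks, both counits isomorphisms,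
`Lj Ri = 0` and `(Li, Lj)` jointly conservative.  Then
`F ↦ (Li F, Lj F, Li (F ⟶ Rj Lj F))` is an equivalence onto the comma category of `𝟭` over
`Rj ⋙ Li`.
-/

set_option autoImplicit false
set_option linter.unusedSectionVars false
universe v₁ v₂ v₃ u₁ u₂ u₃
open CategoryTheory CategoryTheory.Limits

namespace Groth.Agent.Lib.Recoll65

variable {A : Type u₁} [Category.{v₁} A] {B : Type u₂} [Category.{v₂} B] {C : Type u₃}
  [Category.{v₃} C]
  {Li : A ⥤ B} {Ri : B ⥤ A} {Lj : A ⥤ C} {Rj : C ⥤ A} (adjI : Li ⊣ Ri) (adjJ : Lj ⊣ Rj)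

/-- the recollement functor -/
@[simps]
def T : A ⥤ Comma (𝟭 B) (Rj ⋙ Li) where
  obj F :=
    { left := Li.obj F
      right := Lj.obj F
      hom := Li.map (adjJ.unit.app F) }
  map {F G} φ :=
    { left := Li.map φ
      right := Lj.map φ
      w := by
        dsimp
        rw [← Functor.map_comp, ← Functor.map_comp]
        congr 1
        exact (adjJ.unit.naturality φ) }
  map_id F := by ext <;> simp
  map_comp φ ψ := by ext <;> simp

variable [HasPullbacks A] [PreservesLimitsOfShape WalkingCospan Li]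
  [PreservesLimitsOfShape WalkingCospan Lj]
  [IsIso adjI.counit] [IsIso adjJ.counit]
  (hz : ∀ G : B, IsZero (Lj.obj (Ri.obj G)))
  (hc : ∀ {F F' : A} (f : F ⟶ F'), IsIso (Li.map f) → IsIso (Lj.map f) → IsIso f)

include adjI in
lemma isIso_Li_unit (X : A) : IsIso (Li.map (adjI.unit.app X)) := by
  have h := adjI.left_triangle_components X
  have h1 : IsIso (adjI.counit.app (Li.obj X)) := inferInstance
  have h2 : IsIso (𝟙 (Li.obj X)) := inferInstance
  exact @IsIso.of_isIso_fac_right _ _ _ _ _ _ _ _ h1 h2 h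

section Square

variable (F : A)

/-- the cospan `Ri Li F ⟶ Ri Li Rj Lj F ⟵ Rj Lj F` -/
abbrev f₁ (_ : Li ⊣ Ri) (adjJ : Lj ⊣ Rj) (F : A) :
    Ri.obj (Li.obj F) ⟶ Ri.obj (Li.obj (Rj.obj (Lj.obj F))) :=
  Ri.map (Li.map (adjJ.unit.app F))

abbrev f₂ (adjI : Li ⊣ Ri) (_ : Lj ⊣ Rj) (F : A) :
    Rj.obj (Lj.obj F) ⟶ Ri.obj (Li.obj (Rj.obj (Lj.obj F))) :=
  adjI.unit.app (Rj.obj (Lj.obj F))

lemma can_w : adjI.unit.app F ≫ f₁ adjI adjJ F = adjJ.unit.app F ≫ f₂ adjI adjJ F :=
  (adjI.unit.naturality (adjJ.unit.app F)).symm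

/-- the canonical map `F ⟶ Ri Li F ×_{Ri Li Rj Lj F} Rj Lj F` -/
noncomputable def can : F ⟶ pullback (f₁ adjI adjJ F) (f₂ adjI adjJ F) :=
  pullback.lift (adjI.unit.app F) (adjJ.unit.app F) (can_w adjI adjJ F)

include hz hc in
lemma isIso_can : IsIso (can adjI adjJ F) := by
  have sq := IsPullback.of_hasPullback (f₁ adjI adjJ F) (f₂ adjI adjJ F)
  apply hc
  · have sq' := sq.map Li
    have h2 : IsIso (Li.map (f₂ adjI adjJ F)) := isIso_Li_unit adjI _
    have h3 : IsIso (Li.map (pullback.fst (f₁ adjI adjJ F) (f₂ adjI adjJ F))) :=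
      sq'.isIso_fst_of_isIso h2
    have h4 : Li.map (can adjI adjJ F) ≫ Li.map (pullback.fst _ _) = Li.map (adjI.unit.app F) := by
      rw [← Functor.map_comp, can, pullback.lift_fst]
    have h5 : IsIso (Li.map (adjI.unit.app F)) := isIso_Li_unit adjI _
    exact @IsIso.of_isIso_fac_right _ _ _ _ _ _ _ _ h3 h5 h4
  · have sq' := sq.map Lj
    have h2 : IsIso (Lj.map (f₁ adjI adjJ F)) :=
      ⟨⟨(hz _).to_ _, (hz _).eq_of_src _ _, (hz _).eq_of_src _ _⟩⟩
    have h3 : IsIso (Lj.map (pullback.snd (f₁ adjI adjJ F) (f₂ adjI adjJ F))) :=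
      sq'.isIso_snd_of_isIso h2
    have h4 : Lj.map (can adjI adjJ F) ≫ Lj.map (pullback.snd _ _) = Lj.map (adjJ.unit.app F) := by
      rw [← Functor.map_comp, can, pullback.lift_snd]
    have h5 : IsIso (Lj.map (adjJ.unit.app F)) := isIso_Li_unit adjJ _
    exact @IsIso.of_isIso_fac_right _ _ _ _ _ _ _ _ h3 h5 h4

end Square

section Main

include adjI hz hc in
lemma faithful_T : (T (Li := Li) adjJ).Faithful where
  map_injective {F F'} φ ψ h := by
    have hl : Li.map φ = Li.map ψ := congrArg CommaMorphism.left h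
    have hr : Lj.map φ = Lj.map ψ := congrArg CommaMorphism.right h
    have := isIso_can adjI adjJ hz hc F'
    rw [← cancel_mono (can adjI adjJ F')]
    have n1 : φ ≫ adjI.unit.app F' = adjI.unit.app F ≫ Ri.map (Li.map φ) := adjI.unit.naturality φ
    have n2 : ψ ≫ adjI.unit.app F' = adjI.unit.app F ≫ Ri.map (Li.map ψ) := adjI.unit.naturality ψ
    have n3 : φ ≫ adjJ.unit.app F' = adjJ.unit.app F ≫ Rj.map (Lj.map φ) := adjJ.unit.naturality φ
    have n4 : ψ ≫ adjJ.unit.app F' = adjJ.unit.app F ≫ Rj.map (Lj.map ψ) := adjJ.unit.naturality ψ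
    apply pullback.hom_ext
    · rw [Category.assoc, Category.assoc, can, pullback.lift_fst, n1, n2, hl]
    · rw [Category.assoc, Category.assoc, can, pullback.lift_snd, n3, n4, hr]

include adjI in
lemma Li_map_eq_of_comp_unit {F F' : A} (φ : F ⟶ F') (a : Li.obj F ⟶ Li.obj F')
    (h : φ ≫ adjI.unit.app F' = adjI.unit.app F ≫ Ri.map a) : Li.map φ = a := by
  have h1 : Li.map φ = Li.map (φ ≫ adjI.unit.app F') ≫ adjI.counit.app (Li.obj F') := by
    rw [Functor.map_comp, Category.assoc, adjI.left_triangle_components, Category.comp_id]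
  rw [h1, h, Functor.map_comp, Category.assoc]
  have h2 := adjI.counit.naturality a
  simp only [Functor.comp_map, Functor.id_map] at h2
  rw [h2, ← Category.assoc, adjI.left_triangle_components, Category.id_comp]

include adjI hz hc in
lemma full_T : (T (Li := Li) adjJ).Full where
  map_surjective {F F'} g := by
    have hcan := isIso_can adjI adjJ hz hc F'
    let a : Li.obj F ⟶ Li.obj F' := g.left
    let b : Lj.obj F ⟶ Lj.obj F' := g.right
    have w : a ≫ Li.map (adjJ.unit.app F') = Li.map (adjJ.unit.app F) ≫ Li.map (Rj.map b) := g.w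
    have compat : (adjI.unit.app F ≫ Ri.map a) ≫ f₁ adjI adjJ F' =
        (adjJ.unit.app F ≫ Rj.map b) ≫ f₂ adjI adjJ F' := by
      show (adjI.unit.app F ≫ Ri.map a) ≫ Ri.map (Li.map (adjJ.unit.app F')) =
        (adjJ.unit.app F ≫ Rj.map b) ≫ adjI.unit.app (Rj.obj (Lj.obj F'))
      have n1 : adjJ.unit.app F ≫ adjI.unit.app (Rj.obj (Lj.obj F)) =
          adjI.unit.app F ≫ Ri.map (Li.map (adjJ.unit.app F)) := adjI.unit.naturality _
      have n2 : Rj.map b ≫ adjI.unit.app (Rj.obj (Lj.obj F')) =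
          adjI.unit.app (Rj.obj (Lj.obj F)) ≫ Ri.map (Li.map (Rj.map b)) :=
        adjI.unit.naturality _
      rw [Category.assoc, ← Ri.map_comp, w, Ri.map_comp, Category.assoc, n2, reassoc_of% n1]
    let e := @asIso _ _ _ _ (can adjI adjJ F') hcan
    let φ : F ⟶ F' := pullback.lift _ _ compat ≫ e.inv
    have hφ : φ ≫ can adjI adjJ F' = pullback.lift _ _ compat := by
      show (pullback.lift _ _ compat ≫ e.inv) ≫ e.hom = _
      rw [Category.assoc, e.inv_hom_id, Category.comp_id]
    have h1 : φ ≫ adjI.unit.app F' = adjI.unit.app F ≫ Ri.map a := by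
      have h := congrArg (· ≫ pullback.fst (f₁ adjI adjJ F') (f₂ adjI adjJ F')) hφ
      rw [Category.assoc, can, pullback.lift_fst, pullback.lift_fst] at h
      exact h
    have h2 : φ ≫ adjJ.unit.app F' = adjJ.unit.app F ≫ Rj.map b := by
      have h := congrArg (· ≫ pullback.snd (f₁ adjI adjJ F') (f₂ adjI adjJ F')) hφ
      rw [Category.assoc, can, pullback.lift_snd, pullback.lift_snd] at h
      exact h
    refine ⟨φ, ?_⟩
    apply CommaMorphism.ext
    · exact Li_map_eq_of_comp_unit adjI φ a h1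
    · exact Li_map_eq_of_comp_unit adjJ φ b h2

include adjI hz in
lemma essSurj_T : (T (Li := Li) adjJ).EssSurj where
  mem_essImage Y := by
    let G : B := Y.left
    let H : C := Y.right
    let φ : G ⟶ Li.obj (Rj.obj H) := Y.hom
    let g₁ : Ri.obj G ⟶ Ri.obj (Li.obj (Rj.obj H)) := Ri.map φ
    let g₂ : Rj.obj H ⟶ Ri.obj (Li.obj (Rj.obj H)) := adjI.unit.app (Rj.obj H)
    let P : A := pullback g₁ g₂
    have sq := IsPullback.of_hasPullback g₁ g₂
    have hfst : IsIso (Li.map (pullback.fst g₁ g₂)) := by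
      have sq' := sq.map Li
      have h2 : IsIso (Li.map g₂) := isIso_Li_unit adjI _
      exact sq'.isIso_fst_of_isIso h2
    have hsnd : IsIso (Lj.map (pullback.snd g₁ g₂)) := by
      have sq' := sq.map Lj
      have h2 : IsIso (Lj.map g₁) :=
        ⟨⟨(hz _).to_ _, (hz _).eq_of_src _ _, (hz _).eq_of_src _ _⟩⟩
      exact sq'.isIso_snd_of_isIso h2
    let α : Li.obj P ⟶ G := Li.map (pullback.fst g₁ g₂) ≫ adjI.counit.app G
    let β : Lj.obj P ⟶ H := Lj.map (pullback.snd g₁ g₂) ≫ adjJ.counit.app H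
    have hα : IsIso α := by
      have : IsIso (adjI.counit.app G) := inferInstance
      exact IsIso.comp_isIso
    have hβ : IsIso β := by
      have : IsIso (adjJ.counit.app H) := inferInstance
      exact IsIso.comp_isIso
    have w : α ≫ φ = Li.map (adjJ.unit.app P) ≫ Li.map (Rj.map β) := by
      have r : adjJ.unit.app P ≫ Rj.map β = pullback.snd g₁ g₂ := by
        show adjJ.unit.app P ≫ Rj.map (Lj.map (pullback.snd g₁ g₂) ≫ adjJ.counit.app H) = _
        have n := adjJ.unit.naturality (pullback.snd g₁ g₂)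
        simp only [Functor.id_map, Functor.comp_map] at n
        rw [Functor.map_comp, ← Category.assoc, ← n, Category.assoc,
          adjJ.right_triangle_components]
        exact Category.comp_id _
      have l : α ≫ φ = Li.map (pullback.snd g₁ g₂) := by
        show (Li.map (pullback.fst g₁ g₂) ≫ adjI.counit.app G) ≫ φ = _
        have n := adjI.counit.naturality φ
        simp only [Functor.id_map, Functor.comp_map] at n
        rw [Category.assoc, ← n, ← Category.assoc, ← Functor.map_comp]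
        have c : pullback.fst g₁ g₂ ≫ Ri.map φ = pullback.snd g₁ g₂ ≫ adjI.unit.app (Rj.obj H) :=
          pullback.condition
        rw [c, Functor.map_comp, Category.assoc, adjI.left_triangle_components]
        exact Category.comp_id _
      rw [l, ← Functor.map_comp, r]
    exact ⟨P, ⟨Comma.isoMk (@asIso _ _ _ _ α hα) (@asIso _ _ _ _ β hβ) w⟩⟩

include adjI hz hc in
theorem isEquivalence_T : (T (Li := Li) adjJ).IsEquivalence := by
  have h1 := faithful_T adjI adjJ hz hc
  have h2 := full_T adjI adjJ hz hc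
  have h3 := essSurj_T adjI adjJ hz
  exact { }

end Main

end Groth.Agent.Lib.Recoll65
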