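import Groth.Agent.Lib.H87AB
import Groth.Agent.Lib.H87GlDim2
import Groth.Agent.Lib.CohFinite
import Groth.Agent.Lib.CMFlat33
import Mathlib

/-!
# Rectified depth on regular biequidimensional schemes (helper33)

* `dim_generizations_eq`: the set of generizations of `x` has the dimension of `𝒪_{X,x}`.
* `mem_of_specializes_of_mem_irreducibleComponents`: if `𝒪_{X,x}` is a domain, every generization of
  `x` lies in every irreducible component through `x`.
* `dim_closure_add_dim_stalk`: on a biequidimensional scheme, `dim cl{x} + dim 𝒪_{X,x} = dim X`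
  when `𝒪_{X,x}` is a domain.
* `depth_add_projectiveDimension`: Auslander–Buchsbaum over a regular local ring in `WithBot ℕ∞`.
-/

set_option autoImplicit false
universe u

open CategoryTheory AlgebraicGeometry TopologicalSpace

namespace Groth.Agent.Lib.RectDepth33

section Top

variable (X : Scheme.{u}) (x : X)

/-- The generizations of `x` form a space homeomorphic to `Spec 𝒪_{X,x}`. -/
theorem dim_generizations_eq :
    topologicalKrullDim ↥{t : X | t ⤳ x} = ringKrullDim (X.presheaf.stalk x) := by
  rw [← Scheme.range_fromSpecStalk, ← PrimeSpectrum.topologicalKrullDim_eq_ringKrullDim]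
  have hemb : Topology.IsEmbedding (X.fromSpecStalk x) := (X.fromSpecStalk x).isEmbedding
  exact (IsHomeomorph.topologicalKrullDim_eq _ hemb.toHomeomorph.isHomeomorph).symm

/-- If the local ring at `x` is a domain, every generization of `x` lies in every irreducible
component through `x`. -/
theorem mem_of_specializes_of_mem_irreducibleComponents [IsDomain (X.presheaf.stalk x)]
    (T : Set X) (hT : T ∈ irreducibleComponents X) (hx : x ∈ T) (t : X) (ht : t ⤳ x) : t ∈ T := by
  have hTc : IsClosed T := isClosed_of_mem_irreducibleComponents T hT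
  obtain ⟨ηT, hηT⟩ := QuasiSober.sober hT.1 hTc
  have hηx : ηT ⤳ x := hηT.specializes hx
  have h1 : ηT ∈ Set.range (X.fromSpecStalk x) := by
    rw [Scheme.range_fromSpecStalk]; exact hηx
  have h2 : t ∈ Set.range (X.fromSpecStalk x) := by
    rw [Scheme.range_fromSpecStalk]; exact ht
  obtain ⟨P, hP⟩ := h1
  obtain ⟨Q, hQ⟩ := h2
  let η : PrimeSpectrum (X.presheaf.stalk x) := ⊥
  have hηP : η ⤳ P := (PrimeSpectrum.le_iff_specializes η P).mp bot_le
  have hηQ : η ⤳ Q := (PrimeSpectrum.le_iff_specializes η Q).mp bot_le
  set ξ : X := X.fromSpecStalk x η with hξ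
  have hξT : ξ ⤳ ηT := hP ▸ hηP.map (X.fromSpecStalk x).continuous
  have hξt : ξ ⤳ t := hQ ▸ hηQ.map (X.fromSpecStalk x).continuous
  have hZ : IsIrreducible (closure ({ξ} : Set X)) := isIrreducible_singleton.closure
  have hTZ : T ≤ closure ({ξ} : Set X) := by
    rw [← hηT.def]
    exact closure_minimal (Set.singleton_subset_iff.mpr (specializes_iff_mem_closure.mp hξT))
      isClosed_closure
  have hZT : closure ({ξ} : Set X) ≤ T := hT.2 hZ hTZ
  exact hZT (specializes_iff_mem_closure.mp hξt)

/-- On a biequidimensional scheme, `dim cl{x} + dim 𝒪_{X,x} = dim X` at points whose local ring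
is a domain. -/
theorem dim_closure_add_dim_stalk [IsDomain (X.presheaf.stalk x)]
    (hcomp : ∀ C ∈ irreducibleComponents (X : Type u),
      topologicalKrullDim ↥C = topologicalKrullDim X)
    (hchain : ∀ (y : X) (T : Set X), IsClosed T → IsIrreducible T → y ∈ T →
      topologicalKrullDim ↥T = topologicalKrullDim ↥(closure ({y} : Set X)) +
        topologicalKrullDim ↥{t : X | t ∈ T ∧ t ⤳ y}) :
    topologicalKrullDim ↥(closure ({x} : Set X)) + ringKrullDim (X.presheaf.stalk x) =
      topologicalKrullDim X := by
  have hT := irreducibleComponent_mem_irreducibleComponents x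
  have hxT : x ∈ irreducibleComponent x := mem_irreducibleComponent
  have h1 := hchain x (irreducibleComponent x) isClosed_irreducibleComponent
    isIrreducible_irreducibleComponent hxT
  have hset : {t : X | t ∈ irreducibleComponent x ∧ t ⤳ x} = {t : X | t ⤳ x} := by
    ext t
    constructor
    · rintro ⟨-, h⟩; exact h
    · intro h
      exact ⟨mem_of_specializes_of_mem_irreducibleComponents X x _ hT hxT t h, h⟩
  rw [hset, dim_generizations_eq, hcomp _ hT] at h1
  exact h1.symm

end Top

section AB

open LocCoh

/-- **Auslander–Buchsbaum over a regular local ring**, in `WithBot ℕ∞`. -/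
theorem depth_add_projectiveDimension (R : Type u) [CommRing R] [IsRegularLocalRing R]
    (M : Type u) [AddCommGroup M] [Module R M] [Module.Finite R M] [Nontrivial M] :
    ((LocCoh.depth R M : ℕ∞) : WithBot ℕ∞) + projectiveDimension (ModuleCat.of R M) =
      ringKrullDim R := by
  obtain ⟨d, hd⟩ := CMFlat33.exists_nat_ringKrullDim R
  have hlt := H87GlDim2.hasProjectiveDimensionLT_of_isRegularLocalRing d hd (ModuleCat.of R M)
  obtain ⟨e, -, h1, h2⟩ := H87AB.exists_projectiveDimension_eq (R := R) M (d + 1) hlt
  have hpd : projectiveDimension (ModuleCat.of R M) = e := by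
    apply le_antisymm
    · exact (projectiveDimension_le_iff _ e).mpr h1
    · exact (projectiveDimension_ge_iff _ e).mpr h2
  have hAB := H87AB.auslander_buchsbaum' M e h1 h2
  have hdepth := H87AB.depth_self_of_isRegularLocalRing R
  rw [hAB, hd] at hdepth
  rw [hpd, hd, ← hdepth, WithBot.coe_add, add_comm]
  rfl

end AB

end Groth.Agent.Lib.RectDepth33
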