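import Groth.Agent.Lib.RectDepth33
import Groth.Agent.Lib.H87PdSpread
import Groth.Agent.Lib.HartogsConverse
import Groth.Agent.Lib.DepthFlat33
import Mathlib

/-!
# Semicontinuity of the codepth on regular schemes (helper33)

* `hasProjectiveDimensionLT_iff_dim_lt`: over a regular local ring, `pd M < k` iff
  `dim R < depth M + k` (Auslander–Buchsbaum; the zero module has depth `⊤`).
* `isOpen_setOf_hasProjectiveDimensionLT`: for a finite module over a Noetherian ring, the set of
  primes `p` with `pd M_p < k` is open (helper87 `H87PdSpread`).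
* `isOpen_setOf_dim_lt_depth_add`: regular Noetherian ring, `{p | dim R_p < depth M_p + k}` open.
* `isOpen_setOf_dim_stalk_lt_depth_add`: the scheme version for coherent modules on locally Noetherian
  schemes with regular local rings.
-/

set_option autoImplicit false
universe u

open CategoryTheory AlgebraicGeometry TopologicalSpace

namespace Groth.Agent.Lib.RectDepth33

section Local

/-- Over a regular local ring: `pd M < k ↔ dim R < depth M + k`. -/
theorem hasProjectiveDimensionLT_iff_dim_lt (R : Type u) [CommRing R] [IsRegularLocalRing R]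
    (M : Type u) [AddCommGroup M] [Module R M] [Module.Finite R M] (k : ℕ) :
    HasProjectiveDimensionLT (ModuleCat.of R M) k ↔
      ringKrullDim R < ((LocCoh.depth R M : ℕ∞) : WithBot ℕ∞) + (k : WithBot ℕ∞) := by
  obtain ⟨d, hd⟩ := CMFlat33.exists_nat_ringKrullDim R
  rcases subsingleton_or_nontrivial M with hM | hM
  · have h0 : HasProjectiveDimensionLT (ModuleCat.of R M) 0 :=
      (ModuleCat.isZero_of_subsingleton _).hasProjectiveDimensionLT_zero
    have h1 : HasProjectiveDimensionLT (ModuleCat.of R M) k :=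
      hasProjectiveDimensionLT_of_ge _ 0 k (Nat.zero_le k)
    rw [DepthFlat33.depth_eq_top_of_subsingleton M, hd]
    refine ⟨fun _ => ?_, fun _ => h1⟩
    have : ((⊤ : ℕ∞) : WithBot ℕ∞) + (k : WithBot ℕ∞) = ((⊤ : ℕ∞) : WithBot ℕ∞) := by
      rw [show (k : WithBot ℕ∞) = ((k : ℕ∞) : WithBot ℕ∞) from rfl, ← WithBot.coe_add, top_add]
    rw [this]
    exact WithBot.coe_lt_coe.mpr (ENat.natCast_lt_top d)
  · have hAB := depth_add_projectiveDimension R M
    obtain ⟨δ, hδ⟩ := ENat.ne_top_iff_exists.mp (DepthRees.depth_ne_top (R := R) M)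
    have hlt := H87GlDim2.hasProjectiveDimensionLT_of_isRegularLocalRing d hd (ModuleCat.of R M)
    obtain ⟨e, -, h1, h2⟩ := H87AB.exists_projectiveDimension_eq (R := R) M (d + 1) hlt
    have hpd : projectiveDimension (ModuleCat.of R M) = e := by
      apply le_antisymm
      · exact (projectiveDimension_le_iff _ e).mpr h1
      · exact (projectiveDimension_ge_iff _ e).mpr h2
    rw [hpd, hd, ← hδ] at hAB
    have hAB' : δ + e = d := by exact_mod_cast hAB
    rw [← projectiveDimension_lt_iff, hpd, hd, ← hδ]
    constructor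
    · intro h
      have h' : e < k := by exact_mod_cast h
      have : d < δ + k := by omega
      exact_mod_cast this
    · intro h
      have h' : d < δ + k := by exact_mod_cast h
      have : e < k := by omega
      exact_mod_cast this

end Local

section Ring

variable (R : Type u) [CommRing R] [IsNoetherianRing R]
  (M : Type u) [AddCommGroup M] [Module R M] [Module.Finite R M]

/-- The set of primes at which `pd M_p < k` is open. -/
theorem isOpen_setOf_hasProjectiveDimensionLT (k : ℕ) :
    IsOpen {p : PrimeSpectrum R | HasProjectiveDimensionLT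
      (ModuleCat.of (Localization.AtPrime p.asIdeal)
        (LocalizedModule p.asIdeal.primeCompl M)) k} := by
  rw [isOpen_iff_forall_mem_open]
  intro p hp
  obtain ⟨s, hs, hs'⟩ := H87PdSpread.exists_away_hasProjectiveDimensionLT M p.asIdeal k hp
  refine ⟨PrimeSpectrum.basicOpen s, ?_, (PrimeSpectrum.basicOpen s).isOpen, hs⟩
  intro q hq
  exact H87PdSpread.hasProjectiveDimensionLT_atPrime_of_away M q.asIdeal hq k hs'

/-- Over a regular Noetherian ring the set of primes with `dim R_p < depth M_p + k` is open. -/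
theorem isOpen_setOf_dim_lt_depth_add
    (hreg : ∀ (p : Ideal R) [p.IsPrime], IsRegularLocalRing (Localization.AtPrime p)) (k : ℕ) :
    IsOpen {p : PrimeSpectrum R | ringKrullDim (Localization.AtPrime p.asIdeal) <
      ((LocCoh.depth (Localization.AtPrime p.asIdeal)
        (LocalizedModule p.asIdeal.primeCompl M) : ℕ∞) : WithBot ℕ∞) + (k : WithBot ℕ∞)} := by
  convert isOpen_setOf_hasProjectiveDimensionLT R M k using 1
  ext p
  have := hreg p.asIdeal
  exact (hasProjectiveDimensionLT_iff_dim_lt (Localization.AtPrime p.asIdeal)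
    (LocalizedModule p.asIdeal.primeCompl M) k).symm

end Ring

section Scheme

open Groth.Agent.Lib.QCohStalk

variable (X : Scheme.{u}) [IsLocallyNoetherian X]

/-- On a locally Noetherian scheme with regular local rings, for a coherent module `F` the set of
points `x` with `dim 𝒪_{X,x} < depth F_x + k` is open. -/
theorem isOpen_setOf_dim_stalk_lt_depth_add
    (hreg : ∀ x : X, IsRegularLocalRing ↑(X.presheaf.stalk x))
    (F : X.Modules) (hF : Coh.IsCoh F) (k : ℕ) :
    IsOpen {x : X | ringKrullDim ↑(X.presheaf.stalk x) <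
      ((LocCoh.depth ↑(X.presheaf.stalk x) ↑(F.presheaf.stalk x) : ℕ∞) : WithBot ℕ∞) +
        (k : WithBot ℕ∞)} := by
  have : F.IsQuasicoherent := hF.1
  rw [isOpen_iff_forall_mem_open]
  intro x hx
  obtain ⟨_, ⟨U, hU, rfl⟩, hxU, -⟩ := X.isBasis_affineOpens.exists_subset_of_mem_open
    (Set.mem_univ x) isOpen_univ
  have hN : IsNoetherianRing Γ(X, U) := IsLocallyNoetherian.component_noetherian ⟨U, hU⟩
  have hfin : Module.Finite Γ(X, U) Γ(F, U) := CohFinite.finite_sections_of_isCoh F hF hU
  -- key transport statements at points of `U`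
  have hdim : ∀ y : U, ringKrullDim ↑(X.presheaf.stalk (y : X)) =
      ringKrullDim (Localization.AtPrime (hU.primeIdealOf y).asIdeal) := by
    intro y
    have := hU.isLocalization_stalk y
    exact (ringKrullDim_eq_of_ringEquiv (IsLocalization.algEquiv
      (hU.primeIdealOf y).asIdeal.primeCompl
      (Localization.AtPrime (hU.primeIdealOf y).asIdeal) (X.presheaf.stalk (y : X))).toRingEquiv).symm
  have hregR : ∀ (p : Ideal Γ(X, U)) [p.IsPrime],
      IsRegularLocalRing (Localization.AtPrime p) := by
    intro p hp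
    let P : PrimeSpectrum Γ(X, U) := ⟨p, hp⟩
    have hy : hU.fromSpec P ∈ U := (hU.isoSpec.inv P).2
    let _ := TopCat.Presheaf.algebra_section_stalk X.presheaf ⟨hU.fromSpec P, hy⟩
    have hloc : IsLocalization.AtPrime (X.presheaf.stalk (hU.fromSpec P)) p :=
      hU.isLocalization_stalk' P hy
    have := hreg (hU.fromSpec P)
    exact IsRegularLocalRing.of_ringEquiv (IsLocalization.algEquiv p.primeCompl
      (X.presheaf.stalk (hU.fromSpec P)) (Localization.AtPrime p)).toRingEquiv
  have hW := isOpen_setOf_dim_lt_depth_add Γ(X, U) Γ(F, U) hregR k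
  set W : Set (PrimeSpectrum Γ(X, U)) := {p | ringKrullDim (Localization.AtPrime p.asIdeal) <
      ((LocCoh.depth (Localization.AtPrime p.asIdeal)
        (LocalizedModule p.asIdeal.primeCompl Γ(F, U)) : ℕ∞) : WithBot ℕ∞) + (k : WithBot ℕ∞)}
    with hWdef
  have hcont : Continuous (fun y : U => hU.primeIdealOf y) := hU.isoSpec.hom.continuous
  have hV : IsOpen ((fun y : U => hU.primeIdealOf y) ⁻¹' W) := hW.preimage hcont
  have hV' : IsOpen (Subtype.val '' ((fun y : U => hU.primeIdealOf y) ⁻¹' W) : Set X) :=
    U.2.isOpenMap_subtype_val _ hV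
  have hmem : ∀ y : U, (y : X) ∈ {x : X | ringKrullDim ↑(X.presheaf.stalk x) <
      ((LocCoh.depth ↑(X.presheaf.stalk x) ↑(F.presheaf.stalk x) : ℕ∞) : WithBot ℕ∞) +
        (k : WithBot ℕ∞)} ↔ hU.primeIdealOf y ∈ W := by
    intro y
    rw [hWdef]
    simp only [Set.mem_ofPred_eq]
    rw [hdim y, HartogsConverse.depth_stalk_eq_depth_localizedModule F hU y]
  refine ⟨_, ?_, hV', ⟨⟨x, hxU⟩, (hmem ⟨x, hxU⟩).mp hx, rfl⟩⟩
  rintro _ ⟨y, hy, rfl⟩
  exact (hmem y).mpr hy

end Scheme

end Groth.Agent.Lib.RectDepth33
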