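import Mathlib

/-!
# Flat over a reduced base with finitely many components and reduced generic fibres ⇒ reduced

Adapted from Mathlib's `GeometricallyReduced.isReduced_of_flat_of_finite_irreducibleComponents`.
-/

set_option autoImplicit false
universe u
open CategoryTheory MorphismProperty Limits AlgebraicGeometry

namespace Groth.Agent.Lib.ReducedGeneric45

set_option backward.isDefEq.respectTransparency false in
theorem isReduced_of_flat_of_generic_fibres {X Y : Scheme.{u}} (f : X ⟶ Y) [Flat f]
    [IsReduced Y] (hfin : (irreducibleComponents ↥Y).Finite)
    (h : ∀ η : Y, closure {η} ∈ irreducibleComponents ↥Y → IsReduced (f.fiber η)) :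
    IsReduced X := by
  have : Finite (irreducibleComponents Y) := hfin
  let pt (Z : irreducibleComponents Y) := Y.presheaf.stalk Z.property.1.genericPoint
  have hpt (Z : _) : IsField (pt Z) :=
    isField_stalk_of_closure_mem_irreducibleComponents _ _ (by
      rw [Z.property.1.closure_genericPoint (isClosed_of_mem_irreducibleComponents _ Z.property)]
      exact Z.property)
  let (Z : _) := (hpt Z).toField
  let Z := ∐ fun Z ↦ Spec (pt Z)
  let g : Z ⟶ Y := Sigma.desc fun Z ↦ Y.fromSpecStalk _
  have : Finite Z := (sigmaMk _).finite_iff.mp inferInstance
  have : QuasiCompact g := ⟨fun _ _ _ ↦ (Set.toFinite _).isCompact⟩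
  have H : IsSchemeTheoreticallyDominant g := by
    rw [isSchemeTheoreticallyDominant_iff_isDominant, isDominant_iff, denseRange_iff_closure_range,
      Set.eq_univ_iff_forall]
    intro y
    let z : Z := Sigma.ι (fun Z ↦ Spec (pt Z)) ⟨_, irreducibleComponent_mem_irreducibleComponents y⟩
      (IsLocalRing.closedPoint _)
    have hz : g z ⤳ y := by
      simp only [g, z, Z, ← Scheme.Hom.comp_apply, Sigma.ι_desc, pt,
        Scheme.fromSpecStalk_closedPoint]
      exact (IsIrreducible.isGenericPoint_genericPoint _
        isClosed_irreducibleComponent).specializes mem_irreducibleComponent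
    exact hz.mem_closed isClosed_closure (subset_closure ⟨_, rfl⟩)
  suffices IsReduced (pullback f g) from IsSchemeTheoreticallyDominant.isReduced (pullback.fst f g)
  have H := IsUniversalColimit.isPullback_of_isColimit_left
    (X := fun Z ↦ Spec (pt Z))
    (FinitaryPreExtensive.isUniversal_finiteCoproducts (coproductIsCoproduct _))
    (fun Z ↦ Y.fromSpecStalk _) g f _ _ (fun _ ↦ .of_hasPullback _ _) (coproductIsCoproduct _)
  apply +allowSynthFailures @isReduced_of_isOpenImmersion (f := H.isoPullback.inv)
  apply +allowSynthFailures @IsReduced.of_openCover (𝒰 := sigmaOpenCover _)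
  intro i
  -- the fibre over the generic point `η` of the component `i`
  let η : Y := i.property.1.genericPoint
  have hη : closure {η} ∈ irreducibleComponents ↥Y := by
    rw [i.property.1.closure_genericPoint (isClosed_of_mem_irreducibleComponents _ i.property)]
    exact i.property
  have hfib : IsReduced (f.fiber η) := h η hη
  -- the residue map of the (field) stalk at `η` is an isomorphism
  have hres : IsIso (Y.residue η) := by
    rw [ConcreteCategory.isIso_iff_bijective]
    refine ⟨?_, IsLocalRing.residue_surjective⟩
    have : IsField (Y.presheaf.stalk η) := hpt i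
    let _ := this.toField
    exact RingHom.injective _
  have hiso : IsIso (Spec.map (Y.residue η)) := inferInstance
  let E : pullback f (Y.fromSpecResidueField η) ⟶ pullback f (Y.fromSpecStalk η) :=
    pullback.map f (Y.fromSpecResidueField η) f (Y.fromSpecStalk η) (𝟙 X) (Spec.map (Y.residue η))
      (𝟙 Y) (by simp) (by simp [Scheme.fromSpecResidueField])
  have hE : IsIso E := by
    dsimp only [E]
    infer_instance
  have : IsReduced (pullback f (Y.fromSpecResidueField η)) := hfib
  exact isReduced_of_isOpenImmersion (inv E)

end Groth.Agent.Lib.ReducedGeneric45
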