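import Mathlib

/-!
# Separating a minimal prime in a reduced Noetherian ring (helper61)

For a minimal prime `p` of a reduced Noetherian ring `D` there are `u ∉ p` with `p * u = 0` and
`v ∈ p` such that `d * u + v` is a non-zero-divisor for all `d ∉ p`.
-/

set_option autoImplicit false

namespace Groth.Agent.Lib.ReducedMinPrime61

theorem eq_zero_of_forall_mem_minimalPrimes (D : Type*) [CommRing D] [IsReduced D] (x : D)
    (hx : ∀ q ∈ minimalPrimes D, x ∈ q) : x = 0 := by
  have h1 : x ∈ sInf (minimalPrimes D) := by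
    rw [Submodule.mem_sInf]
    exact hx
  have h2 : sInf (minimalPrimes D) = (⊥ : Ideal D).radical := Ideal.sInf_minimalPrimes
  have h3 : (⊥ : Ideal D).radical = ⊥ := nilradical_eq_zero D
  rwa [h2, h3, Ideal.mem_bot] at h1

theorem exists_u_v (D : Type*) [CommRing D] [IsReduced D] [IsNoetherianRing D] (p : Ideal D)
    (hp : p ∈ minimalPrimes D) :
    ∃ u v : D, u ∉ p ∧ (∀ a ∈ p, a * u = 0) ∧ v ∈ p ∧
      ∀ d : D, d ∉ p → d * u + v ∈ nonZeroDivisors D := by
  classical
  have hpp : p.IsPrime := hp.1.1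
  have hfin : (minimalPrimes D).Finite := minimalPrimes.finite_of_isNoetherianRing D
  let T : Finset (Ideal D) := hfin.toFinset.erase p
  have hT : ∀ q ∈ T, q ∈ minimalPrimes D ∧ q ≠ p := by
    intro q hq
    rw [Finset.mem_erase, Set.Finite.mem_toFinset] at hq
    exact ⟨hq.2, hq.1⟩
  have hT' : ∀ q ∈ minimalPrimes D, q = p ∨ q ∈ T := by
    intro q hq
    by_cases h : q = p
    · exact Or.inl h
    · right
      rw [Finset.mem_erase, Set.Finite.mem_toFinset]
      exact ⟨h, hq⟩
  have hnle : ∀ q ∈ T, ¬ q ≤ p := by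
    intro q hq hle
    exact (hT q hq).2 (le_antisymm hle (hp.2 ⟨(hT q hq).1.1.1, bot_le⟩ hle))
  have hnle' : ∀ q ∈ T, ¬ p ≤ q := by
    intro q hq hle
    exact (hT q hq).2 (le_antisymm ((hT q hq).1.2 ⟨hpp, bot_le⟩ hle) hle)
  -- `u`
  have hex : ∀ q ∈ T, ∃ x ∈ q, x ∉ p := fun q hq => SetLike.not_le_iff_exists.mp (hnle q hq)
  choose! f hfq hfp using hex
  let u := ∏ q ∈ T, f q
  have hu : u ∉ p := by
    intro h
    obtain ⟨q, hq, hqp⟩ := (Ideal.IsPrime.prod_mem_iff).mp h
    exact hfp q hq hqp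
  have huq : ∀ q ∈ T, u ∈ q := fun q hq =>
    Ideal.mem_of_dvd q (Finset.dvd_prod_of_mem f hq) (hfq q hq)
  -- `v`
  have hv : ∃ v ∈ p, ∀ q ∈ T, v ∉ q := by
    by_contra hcon
    have hsub : (p : Set D) ⊆ ⋃ q ∈ (T : Set (Ideal D)), ((id q : Ideal D) : Set D) := by
      intro v hv
      by_contra hv'
      apply hcon
      refine ⟨v, hv, fun q hq hvq => hv' ?_⟩
      simp only [Set.mem_iUnion]
      exact ⟨q, hq, hvq⟩
    obtain ⟨q, hq, hle⟩ := (Ideal.subset_union_prime (f := id) p p
      (fun q hq _ _ => (hT q hq).1.1.1)).mp hsub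
    exact hnle' q hq hle
  obtain ⟨v, hvp, hvq⟩ := hv
  refine ⟨u, v, hu, ?_, hvp, ?_⟩
  · intro a ha
    apply eq_zero_of_forall_mem_minimalPrimes
    intro q hq
    rcases hT' q hq with rfl | hqT
    · exact Ideal.mul_mem_right _ _ ha
    · exact Ideal.mul_mem_left _ _ (huq q hqT)
  · intro d hd
    rw [mem_nonZeroDivisors_iff_right]
    intro c hc
    apply eq_zero_of_forall_mem_minimalPrimes
    intro q hq
    have hqp : q.IsPrime := hq.1.1
    have hmem : c * (d * u + v) ∈ q := by rw [hc]; exact q.zero_mem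
    rcases hT' q hq with rfl | hqT
    · refine (hqp.mem_or_mem hmem).resolve_right ?_
      intro h
      have h2 : d * u ∈ q := by
        have := q.sub_mem h hvp
        rwa [add_sub_cancel_right] at this
      rcases hqp.mem_or_mem h2 with h3 | h3
      · exact hd h3
      · exact hu h3
    · refine (hqp.mem_or_mem hmem).resolve_right ?_
      intro h
      have h2 : v ∈ q := by
        have := q.sub_mem h (Ideal.mul_mem_left _ d (huq q hqT))
        rwa [add_sub_cancel_left] at this
      exact hvq q hqT h2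

end Groth.Agent.Lib.ReducedMinPrime61
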