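import Groth.Agent.Lib.ReesCohA
import Mathlib.AlgebraicGeometry.Morphisms.Proper
import Mathlib.AlgebraicGeometry.Morphisms.Affine

/-!
# K2b (S2435), part B: the base change `X_R = X ×_{Spec A} Spec R` (lead)
-/

set_option autoImplicit false
universe u
open CategoryTheory CategoryTheory.Limits AlgebraicGeometry Opposite TopologicalSpace

namespace Groth.Agent.Lib.ReesCoh

variable (A : Type u) [CommRing A] (R : Type u) [CommRing R] [Algebra A R]
  (X : Scheme.{u}) [X.Over (Spec (CommRingCat.of A))]

/-- `Spec R ⟶ Spec A`. -/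
noncomputable abbrev specAlg : Spec (CommRingCat.of R) ⟶ Spec (CommRingCat.of A) :=
  Spec.map (CommRingCat.ofHom (algebraMap A R))

/-- The base change `X_R = X ×_{Spec A} Spec R`. -/
noncomputable def bc : Scheme.{u} :=
  pullback (X ↘ Spec (CommRingCat.of A)) (specAlg A R)

/-- The projection `X_R ⟶ X`. -/
noncomputable def bcπ : bc A R X ⟶ X := pullback.fst _ _

noncomputable instance bcOver : (bc A R X).Over (Spec (CommRingCat.of R)) := ⟨pullback.snd _ _⟩

theorem bc_over_eq : (bc A R X ↘ Spec (CommRingCat.of R)) =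
    pullback.snd (X ↘ Spec (CommRingCat.of A)) (specAlg A R) := rfl

theorem isPullback_bc : IsPullback (bcπ A R X) (bc A R X ↘ Spec (CommRingCat.of R))
    (X ↘ Spec (CommRingCat.of A)) (specAlg A R) :=
  IsPullback.of_hasPullback _ _

theorem isOverAlg_bcπ : IsOverAlg (bcπ A R X) A R := (isPullback_bc A R X).w

instance isAffineHom_bcπ : IsAffineHom (bcπ A R X) :=
  MorphismProperty.of_isPullback (P := @IsAffineHom) (isPullback_bc A R X).flip inferInstance

instance isProper_bc [IsProper (X ↘ Spec (CommRingCat.of A))] :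
    IsProper (bc A R X ↘ Spec (CommRingCat.of R)) :=
  MorphismProperty.of_isPullback (P := @IsProper) (isPullback_bc A R X) inferInstance

section Trans

variable (T : Type u) [CommRing T] [Algebra A T] [Algebra R T] [IsScalarTower A R T]

/-- For `A → R → T`, the morphism `X_T ⟶ X_R`. -/
noncomputable def bcψ : bc A T X ⟶ bc A R X :=
  pullback.lift (bcπ A T X) ((bc A T X ↘ Spec (CommRingCat.of T)) ≫ specAlg R T) (by
    rw [Category.assoc]
    have : specAlg R T ≫ specAlg A R = specAlg A T := by
      unfold specAlg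
      rw [← Spec.map_comp, ← CommRingCat.ofHom_comp, ← IsScalarTower.algebraMap_eq]
    rw [this]
    exact (isPullback_bc A T X).w)

theorem bcψ_π : bcψ A R X T ≫ bcπ A R X = bcπ A T X := pullback.lift_fst _ _ _

theorem bcψ_over : bcψ A R X T ≫ (bc A R X ↘ Spec (CommRingCat.of R)) =
    (bc A T X ↘ Spec (CommRingCat.of T)) ≫ specAlg R T := pullback.lift_snd _ _ _

theorem isOverAlg_bcψ : IsOverAlg (bcψ A R X T) R T := bcψ_over A R X T

theorem specAlg_comp : specAlg R T ≫ specAlg A R = specAlg A T := by
  unfold specAlg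
  rw [← Spec.map_comp, ← CommRingCat.ofHom_comp, ← IsScalarTower.algebraMap_eq]

theorem isPullback_bcψ : IsPullback (bcψ A R X T) (bc A T X ↘ Spec (CommRingCat.of T))
    (bc A R X ↘ Spec (CommRingCat.of R)) (specAlg R T) := by
  refine IsPullback.of_right ?_ (bcψ_over A R X T) (isPullback_bc A R X)
  rw [bcψ_π, specAlg_comp]
  exact isPullback_bc A T X

instance isAffineHom_bcψ : IsAffineHom (bcψ A R X T) :=
  MorphismProperty.of_isPullback (P := @IsAffineHom) (isPullback_bcψ A R X T).flip inferInstance

end Trans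

end Groth.Agent.Lib.ReesCoh
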