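import Groth.Agent.Lib.ReesCohC
import Groth.Prelude.Def_ega3
import Mathlib.RingTheory.ReesAlgebra

/-!
# K2b (S2435), part D: the coherent module `G` on `X_B`, `B` the Rees algebra (lead)

`A` a ring, `m` an ideal, `B = reesAlgebra m ⊆ T = A[t]`, `X` over `Spec A`, `F` an `O_X`-module.
`π_B : X_B ⟶ X`, `π_T : X_T ⟶ X`, `ψ : X_T ⟶ X_B`.
* `vF : F ⟶ π_{B*} ψ_* π_T^* F` (unit of `π_T`), `uF : π_B^* F ⟶ ψ_* π_T^* F` its adjunct;
* `G = image uF` ("`⊕ m^k F t^k`" as a module on `X_B`);
* `Φk : idealMul (m^k) F ⟶ π_{B*} G`.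
-/

set_option autoImplicit false
universe u
open CategoryTheory CategoryTheory.Limits AlgebraicGeometry Opposite TopologicalSpace

namespace Groth.Agent.Lib.ReesCoh

open Scheme.Modules Formal CohIII

variable (A : Type u) [CommRing A] (m : Ideal A) (X : Scheme.{u}) [X.Over (Spec (CommRingCat.of A))]

/-- the Rees algebra as a type -/
abbrev RB : Type u := ↥(reesAlgebra m)
/-- the polynomial ring -/
abbrev RT : Type u := Polynomial A

noncomputable instance : Algebra (RB A m) (RT A) := (reesAlgebra m).toAlgebra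
instance : IsScalarTower A (RB A m) (RT A) := inferInstance

/-- `X_B` -/
noncomputable abbrev XB : Scheme.{u} := bc A (RB A m) X
/-- `X_T` -/
noncomputable abbrev XT : Scheme.{u} := bc A (RT A) X
/-- `π_B` -/
noncomputable abbrev πB : XB A m X ⟶ X := bcπ A (RB A m) X
/-- `π_T` -/
noncomputable abbrev πT : XT A X ⟶ X := bcπ A (RT A) X
/-- `ψ` -/
noncomputable abbrev ψ : XT A X ⟶ XB A m X := bcψ A (RB A m) X (RT A)

theorem ψ_πB : ψ A m X ≫ πB A m X = πT A X := bcψ_π A (RB A m) X (RT A)

/-- the natural transformation `𝟭 ⟶ π_T^* ⋙ ψ_* ⋙ π_{B*}` -/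
noncomputable def vNat : 𝟭 X.Modules ⟶
    Scheme.Modules.pullback (πT A X) ⋙ pushforward (ψ A m X) ⋙ pushforward (πB A m X) :=
  (pullbackPushforwardAdjunction (πT A X)).unit ≫
    Functor.whiskerLeft (Scheme.Modules.pullback (πT A X))
      ((pushforwardCongr (ψ_πB A m X).symm).hom ≫ (pushforwardComp (ψ A m X) (πB A m X)).inv)

variable (F : X.Modules)

/-- `π_T^* F` -/
noncomputable abbrev PT : (XT A X).Modules := (Scheme.Modules.pullback (πT A X)).obj F
/-- `E = ψ_* π_T^* F` -/
noncomputable abbrev EE : (XB A m X).Modules := (pushforward (ψ A m X)).obj (PT A X F)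
/-- `π_B^* F` -/
noncomputable abbrev PB : (XB A m X).Modules := (Scheme.Modules.pullback (πB A m X)).obj F

/-- `v : F ⟶ π_{B*} E` -/
noncomputable def vF : F ⟶ (pushforward (πB A m X)).obj (EE A m X F) := (vNat A m X).app F

/-- `u : π_B^* F ⟶ E` -/
noncomputable def uF : PB A m X F ⟶ EE A m X F :=
  ((pullbackPushforwardAdjunction (πB A m X)).homEquiv F (EE A m X F)).symm (vF A m X F)

theorem unit_uF : (pullbackPushforwardAdjunction (πB A m X)).unit.app F ≫
    (pushforward (πB A m X)).map (uF A m X F) = vF A m X F := by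
  have h1 := (pullbackPushforwardAdjunction (πB A m X)).homEquiv_unit
    (X := F) (f := uF A m X F)
  rw [← h1]
  exact Equiv.apply_symm_apply _ _

/-- the module `G` on `X_B` -/
noncomputable abbrev GG : (XB A m X).Modules := Limits.image (uF A m X F)

/-- action of `t ∈ T` on `π_{B*} E` -/
noncomputable def σ (t : RT A) : (pushforward (πB A m X)).obj (EE A m X F) ⟶
    (pushforward (πB A m X)).obj (EE A m X F) :=
  (pushforward (πB A m X)).map ((pushforward (ψ A m X)).map (smulMod (RT A) (PT A X F) t))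

theorem σ_mul (s t : RT A) : σ A m X F (s * t) = σ A m X F t ≫ σ A m X F s := by
  unfold σ
  rw [smulMod_mul, Functor.map_comp, Functor.map_comp]

theorem σ_comm (s t : RT A) : σ A m X F s ≫ σ A m X F t = σ A m X F t ≫ σ A m X F s := by
  rw [← σ_mul, ← σ_mul, mul_comm]

theorem smulMod_vF (a : A) :
    smulMod A F a ≫ vF A m X F = vF A m X F ≫ σ A m X F (Polynomial.C a) := by
  have h1 := (vNat A m X).naturality (smulMod A F a)
  have h2 := pull_smulMod (isOverAlg_bcπ A (RT A) X) F a
  unfold vF σ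
  have h3 : smulMod (RT A) (PT A X F) (Polynomial.C a) =
      (Scheme.Modules.pullback (πT A X)).map (smulMod A F a) := h2.symm
  rw [h3]
  exact h1

theorem smulMod_EE (b : RB A m) :
    smulMod (RB A m) (EE A m X F) b =
      (pushforward (ψ A m X)).map (smulMod (RT A) (PT A X F) (algebraMap (RB A m) (RT A) b)) :=
  (push_smulMod (isOverAlg_bcψ A (RB A m) X (RT A)) (PT A X F) b).symm

theorem smulMod_uF (b : RB A m) :
    smulMod (RB A m) (PB A m X F) b ≫ uF A m X F = uF A m X F ≫ smulMod (RB A m) (EE A m X F) b :=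
  smulMod_naturality _ _

end Groth.Agent.Lib.ReesCoh
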