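import Mathlib

/-!
# helper67 (for lead, K2b core S2435): generation in high degrees of a finite graded module over
the Rees algebra, in an abstract "graded pieces" form.
-/

set_option autoImplicit false

namespace Groth.Agent.Lib.ReesGen

open Polynomial

universe u v w

variable {A : Type u} [CommRing A]

/-- the homogeneous element `a t^r` of the Rees algebra, `a ∈ m^r` -/
noncomputable def mono (m : Ideal A) (r : ℕ) (a : ↥(m ^ r)) : reesAlgebra m :=
  ⟨monomial r (a : A), reesAlgebra.monomial_mem.mpr a.2⟩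

theorem mono_add (m : Ideal A) (r : ℕ) (a b : ↥(m ^ r)) :
    mono m r (a + b) = mono m r a + mono m r b := by
  apply Subtype.ext
  simp [mono]

theorem mono_mul (m : Ideal A) (r s : ℕ) (a : ↥(m ^ r)) (b : ↥(m ^ s))
    (hab : (a : A) * (b : A) ∈ m ^ (r + s)) :
    mono m (r + s) ⟨(a : A) * (b : A), hab⟩ = mono m r a * mono m s b := by
  apply Subtype.ext
  simp [mono, monomial_mul_monomial]

/-- every element of the Rees algebra is the sum of its homogeneous components -/
theorem eq_sum_mono (m : Ideal A) (b : reesAlgebra m) :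
    b = ∑ j ∈ (b : A[X]).support,
      mono m j ⟨(b : A[X]).coeff j, (mem_reesAlgebra_iff m _).mp b.2 j⟩ := by
  apply Subtype.ext
  rw [AddSubmonoidClass.coe_finsetSum]
  simp only [mono]
  exact ((b : A[X]).sum_monomial_eq).symm

theorem exists_generation (m : Ideal A) (H : Type v) [AddCommGroup H] [Module (reesAlgebra m) H]
    [Module.Finite (reesAlgebra m) H]
    (Hk : ℕ → Type w) [∀ k, AddCommGroup (Hk k)] (inc : ∀ k, Hk k →+ H) (pr : ∀ k, H →+ Hk k)
    (pr_inc : ∀ k x, pr k (inc k x) = x) (fin_supp : ∀ h : H, ∃ K, ∀ k, K ≤ k → pr k h = 0)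
    (μ : ∀ (r k : ℕ) (_ : ↥(m ^ r)), Hk k →+ Hk (r + k))
    (act_hi : ∀ (r k : ℕ) (a : ↥(m ^ r)) (h : H), pr (r + k) (mono m r a • h) = μ r k a (pr k h))
    (act_lo : ∀ (r j : ℕ) (a : ↥(m ^ r)) (h : H), j < r → pr j (mono m r a • h) = 0) :
    ∃ k₀ : ℕ, ∀ k : ℕ, k₀ ≤ k → ∀ (r : ℕ) (y : Hk (r + k)),
      y ∈ AddSubgroup.closure (⋃ a : ↥(m ^ r), Set.range (μ r k a)) := by
  classical
  obtain ⟨n, g, hg⟩ := Module.Finite.exists_fin (R := reesAlgebra m) (M := H)
  choose Kf hKf using fun i => fin_supp (g i)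
  refine ⟨Finset.univ.sup Kf, ?_⟩
  intro k hk r y
  set S := AddSubgroup.closure (⋃ a : ↥(m ^ r), Set.range (μ r k a)) with hS
  have hK : ∀ i k', k ≤ k' → pr k' (g i) = 0 := fun i k' hk' =>
    hKf i k' (le_trans (Finset.le_sup (Finset.mem_univ i)) (le_trans hk hk'))
  -- cast-free helper
  have hzero : ∀ (N j k' : ℕ) (_ : N = j + k') (c : ↥(m ^ j)) (h : H), pr k' h = 0 →
      pr N (mono m j c • h) = 0 := by
    intro N j k' hN c h hh
    subst hN
    rw [act_hi, hh, map_zero]
  -- homogeneous terms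
  have hterm : ∀ (i : Fin n) (j : ℕ) (c : ↥(m ^ j)), pr (r + k) (mono m j c • g i) ∈ S := by
    intro i j c
    by_cases hj1 : r + k < j
    · rw [act_lo j (r + k) c (g i) hj1]; exact S.zero_mem
    by_cases hj2 : j ≤ r
    · rw [hzero (r + k) j (r + k - j) (by omega) c (g i) (hK i _ (by omega))]
      exact S.zero_mem
    · -- r < j ≤ r + k
      obtain ⟨d, rfl⟩ : ∃ d, j = r + d := ⟨j - r, by omega⟩
      obtain ⟨c, hc⟩ := c
      have hc' : c ∈ m ^ r * m ^ d := by rwa [← pow_add]
      have key : ∀ (x : A) (hx : x ∈ m ^ r * m ^ d),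
          pr (r + k) (mono m (r + d) ⟨x, by rwa [pow_add]⟩ • g i) ∈ S := by
        intro x hx
        induction hx using Submodule.mul_induction_on' with
        | mem_mul_mem a ha b hb =>
          have := mono_mul m r d ⟨a, ha⟩ ⟨b, hb⟩ (by rw [pow_add]; exact Ideal.mul_mem_mul ha hb)
          rw [show mono m (r + d) ⟨a * b, _⟩ = mono m r ⟨a, ha⟩ * mono m d ⟨b, hb⟩ from this,
            mul_smul, act_hi]
          exact AddSubgroup.subset_closure
            (Set.mem_iUnion.mpr ⟨⟨a, ha⟩, Set.mem_range_self _⟩)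
        | add x hx y hy ihx ihy =>
          have : mono m (r + d) ⟨x + y, by rw [pow_add]; exact add_mem hx hy⟩ =
              mono m (r + d) ⟨x, by rwa [pow_add]⟩ + mono m (r + d) ⟨y, by rwa [pow_add]⟩ :=
            mono_add m (r + d) ⟨x, by rwa [pow_add]⟩ ⟨y, by rwa [pow_add]⟩
          rw [this, add_smul, map_add]
          exact S.add_mem ihx ihy
      exact key c hc'
  have hb : ∀ (b : reesAlgebra m) (i : Fin n), pr (r + k) (b • g i) ∈ S := by
    intro b i
    rw [eq_sum_mono m b, Finset.sum_smul, map_sum]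
    exact S.sum_mem fun j _ => hterm i j _
  have hy : inc (r + k) y ∈ Submodule.span (reesAlgebra m) (Set.range g) := by
    rw [hg]; exact Submodule.mem_top
  obtain ⟨b, hb'⟩ := (Submodule.mem_span_range_iff_exists_fun _).mp hy
  rw [← pr_inc (r + k) y, ← hb', map_sum]
  exact S.sum_mem fun i _ => hb (b i) i

end Groth.Agent.Lib.ReesGen
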