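import Groth.Agent.Lib.ReesCohD
import Groth.Agent.Lib.ReesGen

/-!
# K2b (S2435), part E: the morphisms `Φ_k : idealMul (m^k) F ⟶ π_{B*} G` (lead)
-/

set_option autoImplicit false
universe u
open CategoryTheory CategoryTheory.Limits AlgebraicGeometry Opposite TopologicalSpace

namespace Groth.Agent.Lib.ReesCoh

open Scheme.Modules Formal CohIII Groth.Agent.Lib.ReesGen

variable (A : Type u) [CommRing A] (m : Ideal A) (X : Scheme.{u}) [X.Over (Spec (CommRingCat.of A))]
  (F : X.Modules)

theorem algebraMap_mono (k : ℕ) (a : ↥(m ^ k)) :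
    algebraMap (RB A m) (RT A) (mono m k a) = Polynomial.X ^ k * Polynomial.C (a : A) := by
  change Polynomial.monomial k (a : A) = _
  rw [← Polynomial.C_mul_X_pow_eq_monomial, mul_comm]

/-- `Θ_k : F ⟶ π_{B*} E`, "x ↦ x t^k" -/
noncomputable def Θ (k : ℕ) : F ⟶ (pushforward (πB A m X)).obj (EE A m X F) :=
  vF A m X F ≫ σ A m X F (Polynomial.X ^ k)

/-- `π_{B*} G ⟶ π_{B*} E` -/
noncomputable def ιG : (pushforward (πB A m X)).obj (GG A m X F) ⟶
    (pushforward (πB A m X)).obj (EE A m X F) :=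
  (pushforward (πB A m X)).map (Limits.image.ι (uF A m X F))

instance : Mono (ιG A m X F) := by unfold ιG; infer_instance

/-- action of `b ∈ B` on `π_{B*} G` -/
noncomputable def actG (b : RB A m) : (pushforward (πB A m X)).obj (GG A m X F) ⟶
    (pushforward (πB A m X)).obj (GG A m X F) :=
  (pushforward (πB A m X)).map (smulMod (RB A m) (GG A m X F) b)

theorem actG_ιG (b : RB A m) :
    actG A m X F b ≫ ιG A m X F = ιG A m X F ≫ σ A m X F (algebraMap (RB A m) (RT A) b) := by
  unfold actG ιG σ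
  rw [← Functor.map_comp, ← Functor.map_comp, smulMod_naturality, smulMod_EE]

/-- the family `F ⟶ π_{B*} G`, `x ↦ (a t^k) · x` -/
noncomputable def topk (k : ℕ) (a : ↥(m ^ k)) : F ⟶ (pushforward (πB A m X)).obj (GG A m X F) :=
  (pullbackPushforwardAdjunction (πB A m X)).unit.app F ≫
    (pushforward (πB A m X)).map
      (smulMod (RB A m) (PB A m X F) (mono m k a) ≫ factorThruImage (uF A m X F))

theorem topk_ιG (k : ℕ) (a : ↥(m ^ k)) :
    topk A m X F k a ≫ ιG A m X F = smulMod A F (a : A) ≫ Θ A m X F k := by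
  unfold topk ιG Θ
  rw [Category.assoc, ← Functor.map_comp, Category.assoc, image.fac, smulMod_uF, Functor.map_comp,
    ← Category.assoc, unit_uF, smulMod_EE, algebraMap_mono, ← Category.assoc, smulMod_vF,
    Category.assoc, ← σ_mul]
  rfl

/-- the epimorphism `∐_{a ∈ J} F ⟶ J F` -/
noncomputable def qI (J : Ideal A) : (∐ fun _ : J => F) ⟶ idealMul J F :=
  factorThruImage (smulFamily J F)

theorem qI_ι (J : Ideal A) : qI A X F J ≫ idealMulι J F = smulFamily J F :=
  image.fac _

instance (J : Ideal A) : StrongEpi (qI A X F J) :=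
  (inferInstance : @StrongEpi _ _ _ (Limits.image (smulFamily J F))
    (factorThruImage (smulFamily J F)))

theorem comm_sq (k : ℕ) :
    (Sigma.desc fun a : ↥(m ^ k) => topk A m X F k a) ≫ ιG A m X F =
      qI A X F (m ^ k) ≫ (idealMulι (m ^ k) F ≫ Θ A m X F k) := by
  apply Sigma.hom_ext
  intro a
  rw [← Category.assoc, Sigma.ι_desc, topk_ιG, ← Category.assoc (qI A X F (m ^ k)), qI_ι]
  unfold smulFamily
  rw [← Category.assoc, Sigma.ι_desc]

/-- `Φ_k : m^k F ⟶ π_{B*} G` -/
noncomputable def Φk (k : ℕ) : idealMul (m ^ k) F ⟶ (pushforward (πB A m X)).obj (GG A m X F) :=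
  (CommSq.mk (comm_sq A m X F k)).lift

theorem Φk_ιG (k : ℕ) : Φk A m X F k ≫ ιG A m X F = idealMulι (m ^ k) F ≫ Θ A m X F k :=
  (CommSq.mk (comm_sq A m X F k)).fac_right

/-- transport along an equality of ideals -/
noncomputable def castI {J J' : Ideal A} (h : J = J') : idealMul J F ⟶ idealMul J' F :=
  eqToHom (by rw [h])

theorem castI_ι {J J' : Ideal A} (h : J = J') : castI A X F h ≫ idealMulι J' F = idealMulι J F := by
  subst h
  unfold castI
  rw [eqToHom_refl, Category.id_comp]

theorem mulMap_ι (I J : Ideal A) (a : I) :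
    mulMap I J F a ≫ idealMulι (I * J) F = idealMulι J F ≫ smulMod A F (a : A) :=
  image.map_ι _

/-- **Equivariance** of the `Φ_k`: multiplication by `a t^r` on `π_{B*} G` corresponds to
`a : m^k F ⟶ m^{r+k} F`. -/
theorem Φk_actG (r k : ℕ) (a : ↥(m ^ r)) :
    Φk A m X F k ≫ actG A m X F (mono m r a) =
      mulMap (m ^ r) (m ^ k) F a ≫ castI A X F (pow_add m r k).symm ≫ Φk A m X F (r + k) := by
  rw [← cancel_mono (ιG A m X F)]
  simp only [Category.assoc]
  rw [actG_ιG, Φk_ιG, ← Category.assoc (Φk A m X F k), Φk_ιG, ← Category.assoc (castI A X F _),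
    castI_ι, ← Category.assoc (mulMap _ _ _ _), mulMap_ι, algebraMap_mono]
  unfold Θ
  simp only [Category.assoc]
  rw [← Category.assoc (smulMod A F _), smulMod_vF]
  simp only [Category.assoc]
  rw [← σ_mul, ← σ_mul]
  congr 3
  rw [pow_add]
  ring

end Groth.Agent.Lib.ReesCoh
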