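import Groth.Agent.Lib.ReesCohF

/-!
# K2b (S2435), part G: `u`, `j_T`, `j_B` on sections (lead)
-/

set_option autoImplicit false
set_option linter.style.haveILetI false
set_option linter.unusedSectionVars false
universe u
open CategoryTheory CategoryTheory.Limits AlgebraicGeometry Opposite TopologicalSpace

namespace Groth.Agent.Lib.ReesCoh

open Scheme.Modules Formal CohIII Groth.Agent.Lib.ReesGen Groth.Agent.Lib.UnitBaseChange
  Groth.Agent.Lib.H90OXModExact

variable (A : Type u) [CommRing A] (m : Ideal A) (X : Scheme.{u}) [X.Over (Spec (CommRingCat.of A))]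
  (F : X.Modules) [F.IsQuasicoherent] (U : X.Opens)

/-- `u` on sections over `π_B⁻¹ U`, with values typed in `Γ(π_T^* F, π_T⁻¹ U)` -/
noncomputable def uFs : Γ(PB A m X F, UB A m X U) → Γ(PT A X F, UT A m X U) :=
  fun y => (uF A m X F).app (UB A m X U) y

theorem uFs_add (y z : Γ(PB A m X F, UB A m X U)) :
    uFs A m X F U (y + z) = uFs A m X F U y + uFs A m X F U z :=
  map_add ((uF A m X F).app (UB A m X U)).hom y z

theorem uFs_zero : uFs A m X F U 0 = 0 := map_zero ((uF A m X F).app (UB A m X U)).hom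

theorem uFs_neg (y : Γ(PB A m X F, UB A m X U)) : uFs A m X F U (-y) = -uFs A m X F U y :=
  map_neg ((uF A m X F).app (UB A m X U)).hom y

theorem unit_app_eq_jB (x : Γ(F, U)) :
    ((pullbackPushforwardAdjunction (πB A m X)).unit.app F).app U x = jB A m X F U x := by
  unfold jB unitSecFun
  have : (homOfLE (le_refl (πB A m X ⁻¹ᵁ U))).op = 𝟙 _ := rfl
  rw [this, CategoryTheory.Functor.map_id]
  rfl

theorem uF_jB (x : Γ(F, U)) :
    uFs A m X F U (jB A m X F U x) = jT A m X F U x := by
  have h := congrArg (fun φ => (Scheme.Modules.Hom.app φ U) x) (unit_uF A m X F)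
  rw [← unit_app_eq_jB, ← vF_app]
  exact h

theorem uF_smul (b : RB A m) (y : Γ(PB A m X F, UB A m X U)) :
    uFs A m X F U (scal (RB A m) (XB A m X) (UB A m X U) b • y) =
      scal (RT A) (XT A X) (UT A m X U) (algebraMap (RB A m) (RT A) b) • uFs A m X F U y := by
  have h := congrArg (fun φ => (Scheme.Modules.Hom.app φ (UB A m X U)) y) (smulMod_uF A m X F b)
  rw [smulMod_EE] at h
  exact h

theorem jT_smul (a : A) (x : Γ(F, U)) :
    jT A m X F U (scal A X U a • x) =
      scal (RT A) (XT A X) (UT A m X U) (Polynomial.C a) • jT A m X F U x := by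
  have h := congrArg (fun φ => (Scheme.Modules.Hom.app φ U) x) (smulMod_vF A m X F a)
  exact h

end Groth.Agent.Lib.ReesCoh
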