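import Groth.Agent.Lib.ReesCohG

/-!
# K2b (S2435), part H: the image of `u` on sections is `⊕ m^k Γ(F,U) t^k` (lead)
-/

set_option autoImplicit false
set_option linter.style.haveILetI false
set_option linter.unusedSectionVars false
universe u
open CategoryTheory CategoryTheory.Limits AlgebraicGeometry Opposite TopologicalSpace

namespace Groth.Agent.Lib.ReesCoh

open Scheme.Modules Formal CohIII Groth.Agent.Lib.ReesGen Groth.Agent.Lib.UnitBaseChange
  Groth.Agent.Lib.H90OXModExact

variable (A : Type u) [CommRing A] (m : Ideal A) (X : Scheme.{u}) [X.Over (Spec (CommRingCat.of A))]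
  (F : X.Modules) [F.IsQuasicoherent] (U : X.Opens)

/-- `m^k · Γ(F, U)` -/
noncomputable def Mk (k : ℕ) : AddSubgroup Γ(F, U) :=
  AddSubgroup.closure {z | ∃ a ∈ m ^ k, ∃ x : Γ(F, U), z = scal A X U a • x}

/-- `(x_k) ↦ Σ t^k · j_T(x_k)` -/
noncomputable def sumT (x : ℕ →₀ Γ(F, U)) : Γ(PT A X F, UT A m X U) :=
  x.sum fun k xk => scal (RT A) (XT A X) (UT A m X U) (Polynomial.X ^ k) • jT A m X F U xk

theorem sumT_zero : sumT A m X F U 0 = 0 := Finsupp.sum_zero_index

theorem sumT_add (x y : ℕ →₀ Γ(F, U)) :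
    sumT A m X F U (x + y) = sumT A m X F U x + sumT A m X F U y := by
  unfold sumT
  refine Finsupp.sum_add_index' (fun k => ?_) (fun k a b => ?_)
  · rw [jT_zero, smul_zero]
  · rw [jT_add, smul_add]

theorem sumT_neg (x : ℕ →₀ Γ(F, U)) : sumT A m X F U (-x) = -sumT A m X F U x := by
  have h := sumT_add A m X F U x (-x)
  rw [add_neg_cancel, sumT_zero] at h
  exact eq_neg_of_add_eq_zero_right h.symm

/-- the elements `Σ t^k · j_T(x_k)` with `x_k ∈ m^k Γ(F,U)` -/
noncomputable def SS : AddSubgroup Γ(PT A X F, UT A m X U) where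
  carrier := {w | ∃ x : ℕ →₀ Γ(F, U), (∀ k, x k ∈ Mk A m X F U k) ∧ w = sumT A m X F U x}
  zero_mem' := ⟨0, fun k => (Mk A m X F U k).zero_mem, (sumT_zero A m X F U).symm⟩
  add_mem' := by
    rintro _ _ ⟨x, hx, rfl⟩ ⟨y, hy, rfl⟩
    exact ⟨x + y, fun k => (Mk A m X F U k).add_mem (hx k) (hy k), (sumT_add A m X F U x y).symm⟩
  neg_mem' := by
    rintro _ ⟨x, hx, rfl⟩
    exact ⟨-x, fun k => (Mk A m X F U k).neg_mem (hx k), (sumT_neg A m X F U x).symm⟩

theorem scal_smul_jT_mem (p : Polynomial A) (hp : p ∈ reesAlgebra m) (x : Γ(F, U)) :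
    scal (RT A) (XT A X) (UT A m X U) p • jT A m X F U x ∈ SS A m X F U := by
  classical
  have hf : ∀ k : ℕ, scal A X U (p.coeff k) • x ≠ 0 → k ∈ p.support := by
    intro k hk
    rw [Polynomial.mem_support_iff]
    intro h0
    apply hk
    rw [h0, map_zero, zero_smul]
  refine ⟨Finsupp.onFinset p.support (fun k => scal A X U (p.coeff k) • x) hf, fun k => ?_, ?_⟩
  · rw [Finsupp.onFinset_apply]
    exact AddSubgroup.subset_closure ⟨_, (mem_reesAlgebra_iff m p).mp hp k, x, rfl⟩
  · unfold sumT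
    rw [Finsupp.onFinset_sum hf (fun k => by rw [jT_zero, smul_zero])]
    have h1 : ∀ k : ℕ, ∀ c : A,
        scal (RT A) (XT A X) (UT A m X U) (Polynomial.X ^ k) • jT A m X F U (scal A X U c • x) =
        scal (RT A) (XT A X) (UT A m X U) (Polynomial.C c * Polynomial.X ^ k) • jT A m X F U x := by
      intro k c
      rw [jT_smul, ← mul_smul, ← map_mul, mul_comm]
    simp only [h1]
    rw [← Finset.sum_smul, ← map_sum]
    congr 2
    exact p.as_sum_support_C_mul_X_pow

variable {U}

/-- the image of `u` on sections over `π_B⁻¹U` lies in `⊕ m^k Γ(F,U) t^k` -/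
theorem uFs_mem (hU : IsAffineOpen U) (y : Γ(PB A m X F, UB A m X U)) :
    uFs A m X F U y ∈ SS A m X F U := by
  have hy := mem_closure_bc (A := A) (R := RB A m) F hU (UB_eq' A m X U) y
  induction hy using AddSubgroup.closure_induction with
  | mem z hz =>
    obtain ⟨b, x, rfl⟩ := hz
    have h1 := uF_smul A m X F U b (jB A m X F U x)
    rw [uF_jB] at h1
    have h2 : uFs A m X F U (scal (RB A m) (XB A m X) (UB A m X U) b •
        unitSecFun (bcπ A (RB A m) X) F ((UB_eq' A m X U).le.trans inf_le_left) x) =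
        scal (RT A) (XT A X) (UT A m X U) (algebraMap (RB A m) (RT A) b) • jT A m X F U x := h1
    rw [h2]
    exact scal_smul_jT_mem A m X F U _ b.2 x
  | zero => rw [uFs_zero]; exact (SS A m X F U).zero_mem
  | add a b _ _ ha hb => rw [uFs_add]; exact (SS A m X F U).add_mem ha hb
  | neg a _ ha => rw [uFs_neg]; exact (SS A m X F U).neg_mem ha

end Groth.Agent.Lib.ReesCoh
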