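import Groth.Agent.Lib.ReesCohH

/-!
# K2b (S2435), part I: sections of `G` and of `m^k F` over affines; `Φ` is an isomorphism (lead)
-/

set_option autoImplicit false
set_option linter.style.haveILetI false
set_option linter.unusedSectionVars false
universe u
open CategoryTheory CategoryTheory.Limits AlgebraicGeometry Opposite TopologicalSpace

namespace Groth.Agent.Lib.ReesCoh

open Scheme.Modules Formal CohIII Groth.Agent.Lib.ReesGen Groth.Agent.Lib.UnitBaseChange
  Groth.Agent.Lib.H90OXModExact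

variable (A : Type u) [CommRing A] (m : Ideal A) (X : Scheme.{u}) [X.Over (Spec (CommRingCat.of A))]
  (F : X.Modules) [F.IsQuasicoherent] (U : X.Opens)

/-- `ι_G` on sections over `π_B⁻¹U`, typed in `Γ(π_T^*F, π_T⁻¹U)` -/
noncomputable def ιGs : Γ(GG A m X F, UB A m X U) → Γ(PT A X F, UT A m X U) :=
  fun γ => (Limits.image.ι (uF A m X F)).app (UB A m X U) γ

theorem ιGs_injective : Function.Injective (ιGs A m X F U) :=
  Groth.Agent.Lib.H90OXModSections.injective_app_of_mono (Limits.image.ι (uF A m X F)) (UB A m X U)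

theorem ιG_app (γ : Γ(GG A m X F, UB A m X U)) :
    (ιG A m X F).app U γ = ιGs A m X F U γ := rfl

variable {U}

theorem isAffineOpen_UB (hU : IsAffineOpen U) : IsAffineOpen (UB A m X U) :=
  hU.preimage (πB A m X)

theorem ιGs_mem (hU : IsAffineOpen U) (γ : Γ(GG A m X F, UB A m X U)) :
    ιGs A m X F U γ ∈ SS A m X F U := by
  obtain ⟨y, rfl⟩ := surjective_app_of_epi (factorThruImage (uF A m X F)) (isAffineOpen_UB A m X hU) γ
  have h : ιGs A m X F U ((factorThruImage (uF A m X F)).app (UB A m X U) y) = uFs A m X F U y := by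
    have := congrArg (fun φ => (Scheme.Modules.Hom.app φ (UB A m X U)) y) (image.fac (uF A m X F))
    exact this
  rw [h]
  exact uFs_mem A m X F hU y

section IdealMul

variable (U)

/-- `J · Γ(F, U)` -/
noncomputable def MJ (J : Ideal A) : AddSubgroup Γ(F, U) :=
  AddSubgroup.closure {z | ∃ a ∈ J, ∃ x : Γ(F, U), z = scal A X U a • x}

theorem Mk_eq (k : ℕ) : Mk A m X F U k = MJ A X F U (m ^ k) := rfl

instance mono_idealMulι (J : Ideal A) : Mono (idealMulι J F) :=
  (inferInstance : Mono (Limits.image.ι (smulFamily J F)))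

theorem idealMulι_app_injective (J : Ideal A) : Function.Injective ((idealMulι J F).app U) :=
  Groth.Agent.Lib.H90OXModSections.injective_app_of_mono (idealMulι J F) U

theorem smulFamily_ι_app (J : Ideal A) (a : J) (x : Γ(F, U)) :
    (smulFamily J F).app U ((Sigma.ι (fun _ : J => F) a).app U x) = scal A X U (a : A) • x := by
  have h : Sigma.ι (fun _ : J => F) a ≫ smulFamily J F = smulMod A F (a : A) := by
    unfold smulFamily
    rw [Sigma.ι_desc]
  have := congrArg (fun φ => (Scheme.Modules.Hom.app φ U) x) h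
  exact this

variable {U}

theorem idealMulι_app_mem [QuasiSeparatedSpace X] (hU : IsAffineOpen U) (J : Ideal A)
    (n : Γ(idealMul J F, U)) : (idealMulι J F).app U n ∈ MJ A X F U J := by
  haveI : Epi (qI A X F J) := StrongEpi.epi
  obtain ⟨t, rfl⟩ := surjective_app_of_epi (qI A X F J) hU n
  have h1 : (idealMulι J F).app U ((qI A X F J).app U t) = (smulFamily J F).app U t := by
    have := congrArg (fun φ => (Scheme.Modules.Hom.app φ U) t) (qI_ι A X F J)
    exact this
  rw [h1]
  obtain ⟨s, y, rfl⟩ := Groth.Agent.Lib.CohSigmaFin.exists_finset_sections_sigma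
    (fun _ : J => F) U hU.isCompact t
  rw [map_sum]
  refine (MJ A X F U J).sum_mem fun a _ => ?_
  rw [smulFamily_ι_app]
  exact AddSubgroup.subset_closure ⟨a, a.2, y a, rfl⟩

theorem exists_of_mem_MJ (J : Ideal A) (x : Γ(F, U)) (hx : x ∈ MJ A X F U J) :
    ∃ n : Γ(idealMul J F, U), (idealMulι J F).app U n = x := by
  induction hx using AddSubgroup.closure_induction with
  | mem z hz =>
    obtain ⟨a, ha, x, rfl⟩ := hz
    refine ⟨(qI A X F J).app U ((Sigma.ι (fun _ : J => F) ⟨a, ha⟩).app U x), ?_⟩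
    have h1 : (idealMulι J F).app U ((qI A X F J).app U ((Sigma.ι (fun _ : J => F) ⟨a, ha⟩).app U x)) =
        (smulFamily J F).app U ((Sigma.ι (fun _ : J => F) ⟨a, ha⟩).app U x) := by
      have := congrArg (fun φ => (Scheme.Modules.Hom.app φ U)
        ((Sigma.ι (fun _ : J => F) ⟨a, ha⟩).app U x)) (qI_ι A X F J)
      exact this
    rw [h1, smulFamily_ι_app]
  | zero => exact ⟨0, map_zero _⟩
  | add a b _ _ ha hb =>
    obtain ⟨n₁, h₁⟩ := ha
    obtain ⟨n₂, h₂⟩ := hb
    exact ⟨n₁ + n₂, by rw [map_add, h₁, h₂]⟩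
  | neg a _ ha =>
    obtain ⟨n₁, h₁⟩ := ha
    exact ⟨-n₁, by rw [map_neg, h₁]⟩

end IdealMul

end Groth.Agent.Lib.ReesCoh
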