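import Groth.Agent.Lib.ReesCohI

/-!
# K2b (S2435), part J: `Φ : ∐_k m^k F ⟶ π_{B*} G` is an isomorphism (lead)

The coproduct is indexed by `ULift.{u} ℕ` (the libraries on coproducts want index types in `Type u`).
-/

set_option autoImplicit false
set_option linter.style.haveILetI false
set_option linter.unusedSectionVars false
universe u
open CategoryTheory CategoryTheory.Limits AlgebraicGeometry Opposite TopologicalSpace

namespace Groth.Agent.Lib.ReesCoh

open Scheme.Modules Formal CohIII Groth.Agent.Lib.ReesGen Groth.Agent.Lib.UnitBaseChange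
  Groth.Agent.Lib.H90OXModExact

variable (A : Type u) [CommRing A] (m : Ideal A) (X : Scheme.{u}) [X.Over (Spec (CommRingCat.of A))]
  (F : X.Modules) [F.IsQuasicoherent]

/-- the family `k ↦ m^k F`, indexed by `ULift ℕ` -/
noncomputable abbrev Nk (k : ULift.{u} ℕ) : X.Modules := idealMul (m ^ k.down) F

/-- `∐_k m^k F` -/
noncomputable abbrev NN : X.Modules := ∐ Nk A m X F

/-- `Φ : ∐_k m^k F ⟶ π_{B*} G` -/
noncomputable def Φ : NN A m X F ⟶ (pushforward (πB A m X)).obj (GG A m X F) :=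
  Sigma.desc fun k => Φk A m X F k.down

theorem ι_Φ (k : ULift.{u} ℕ) : Sigma.ι (Nk A m X F) k ≫ Φ A m X F = Φk A m X F k.down :=
  Sigma.ι_desc _ _

variable (U : X.Opens)

/-- `Φ` on sections over `U`, typed in `Γ(G, π_B⁻¹U)` -/
noncomputable def Φs : Γ(NN A m X F, U) →+ Γ(GG A m X F, UB A m X U) :=
  ((Φ A m X F).app U).hom

/-- the inclusion of the `k`-th summand on sections -/
noncomputable def ιs (k : ULift.{u} ℕ) : Γ(Nk A m X F k, U) →+ Γ(NN A m X F, U) :=
  ((Sigma.ι (Nk A m X F) k).app U).hom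

/-- `ι_G` on sections as an additive map -/
noncomputable def ιGa : Γ(GG A m X F, UB A m X U) →+ Γ(PT A X F, UT A m X U) :=
  ((Limits.image.ι (uF A m X F)).app (UB A m X U)).hom

theorem ιGa_apply (γ : Γ(GG A m X F, UB A m X U)) : ιGa A m X F U γ = ιGs A m X F U γ := rfl

/-- `m^k F ↪ F` on sections -/
noncomputable def gk (k : ℕ) : Γ(idealMul (m ^ k) F, U) →+ Γ(F, U) :=
  ((idealMulι (m ^ k) F).app U).hom

theorem ιGa_Φs_ιs (k : ULift.{u} ℕ) (n : Γ(Nk A m X F k, U)) :
    ιGa A m X F U (Φs A m X F U (ιs A m X F U k n)) =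
      scal (RT A) (XT A X) (UT A m X U) (Polynomial.X ^ k.down) •
        jT A m X F U (gk A m X F U k.down n) := by
  have e1 := congrArg (fun φ => (Scheme.Modules.Hom.app φ U) n)
    (show (Sigma.ι (Nk A m X F) k ≫ Φ A m X F) ≫ ιG A m X F =
      idealMulι (m ^ k.down) F ≫ Θ A m X F k.down by rw [ι_Φ, Φk_ιG])
  exact e1

/-- key identity: `ι_G(Φ(Σ_k ι_k n_k)) = Σ_k t^k j_T(n_k)` -/
theorem ιGa_Φs_sum (S : Finset (ULift.{u} ℕ)) (n : ∀ k : ULift.{u} ℕ, Γ(Nk A m X F k, U)) :
    ιGa A m X F U (Φs A m X F U (∑ k ∈ S, ιs A m X F U k (n k))) =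
    ∑ k ∈ S, scal (RT A) (XT A X) (UT A m X U) (Polynomial.X ^ k.down) •
      jT A m X F U (gk A m X F U k.down (n k)) := by
  rw [map_sum, map_sum]
  exact Finset.sum_congr rfl fun k _ => ιGa_Φs_ιs A m X F U k (n k)

variable {U}

theorem gk_injective (k : ℕ) : Function.Injective (gk A m X F U k) :=
  idealMulι_app_injective A X F U (m ^ k)

theorem exists_sum_ιs [QuasiSeparatedSpace X] (hU : IsAffineOpen U) (s : Γ(NN A m X F, U)) :
    ∃ (S : Finset (ULift.{u} ℕ)) (n : ∀ k : ULift.{u} ℕ, Γ(Nk A m X F k, U)),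
      s = ∑ k ∈ S, ιs A m X F U k (n k) := by
  obtain ⟨S, n, hsn⟩ := Groth.Agent.Lib.CohSigmaFin.exists_finset_sections_sigma
    (Nk A m X F) U hU.isCompact s
  exact ⟨S, n, hsn⟩

theorem Φs_injective [QuasiSeparatedSpace X] (hU : IsAffineOpen U) :
    Function.Injective (Φs A m X F U) := by
  classical
  rw [injective_iff_map_eq_zero]
  intro s hs
  obtain ⟨S, n, hsn⟩ := exists_sum_ιs A m X F hU s
  have h1 := ιGa_Φs_sum A m X F U S n
  rw [← hsn, hs, map_zero] at h1
  rw [hsn]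
  -- the finsupp
  let S' : Finset ℕ := S.image ULift.down
  let f : ℕ → Γ(F, U) := fun k => if (ULift.up k : ULift.{u} ℕ) ∈ S then
    gk A m X F U k (n (ULift.up k)) else 0
  have hf : ∀ k : ℕ, f k ≠ 0 → k ∈ S' := by
    intro k hk
    by_contra hkS
    apply hk
    have : (ULift.up k : ULift.{u} ℕ) ∉ S := fun h => hkS (Finset.mem_image.mpr ⟨_, h, rfl⟩)
    exact if_neg this
  let x : ℕ →₀ Γ(F, U) := Finsupp.onFinset S' f hf
  have hx : sumT A m X F U x = 0 := by
    unfold sumT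
    rw [Finsupp.onFinset_sum hf (fun k => by rw [jT_zero, smul_zero]), h1,
      Finset.sum_image (fun a _ b _ h => ULift.down_injective h)]
    refine Finset.sum_congr rfl fun k hk => ?_
    have : f k.down = gk A m X F U k.down (n k) := if_pos hk
    rw [this]
  have hx0 : x = 0 := finsupp_eq_zero_bc (A := A) F hU (UT_eq' A m X U) x hx
  refine Finset.sum_eq_zero fun k hk => ?_
  have h2 : x k.down = 0 := by rw [hx0]; rfl
  have h3 : gk A m X F U k.down (n k) = 0 := by
    have : x k.down = gk A m X F U k.down (n k) := if_pos hk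
    rw [← this, h2]
  have h4 : n k = 0 := gk_injective A m X F k.down (by rw [h3, map_zero])
  rw [h4, map_zero]

theorem Φs_surjective [QuasiSeparatedSpace X] (hU : IsAffineOpen U) :
    Function.Surjective (Φs A m X F U) := by
  intro γ
  obtain ⟨x, hx, hγ⟩ := ιGs_mem A m X F hU γ
  have hn : ∀ k : ULift.{u} ℕ, ∃ n : Γ(Nk A m X F k, U), gk A m X F U k.down n = x k.down :=
    fun k => exists_of_mem_MJ A X F (m ^ k.down) (x k.down) (hx k.down)
  choose n hn using hn
  refine ⟨∑ k ∈ x.support.map ⟨ULift.up, ULift.up_injective⟩, ιs A m X F U k (n k), ?_⟩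
  apply ιGs_injective A m X F U
  rw [← ιGa_apply, ιGa_Φs_sum, hγ, Finset.sum_map]
  unfold sumT Finsupp.sum
  exact Finset.sum_congr rfl fun k _ => by rw [hn]; rfl

theorem Φ_app_bijective [QuasiSeparatedSpace X] (hU : IsAffineOpen U) :
    Function.Bijective ((Φ A m X F).app U) :=
  ⟨Φs_injective A m X F hU, Φs_surjective A m X F hU⟩

end Groth.Agent.Lib.ReesCoh
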