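import Groth.Agent.Lib.ReesCohJ
import Groth.Agent.Lib.H90OXModAffineIso

/-!
# K2b (S2435), part K: `Φ` is an isomorphism; the action of monomials on `∐_k m^k F` (lead)
-/

set_option autoImplicit false
set_option linter.style.haveILetI false
set_option linter.unusedSectionVars false
universe u
open CategoryTheory CategoryTheory.Limits AlgebraicGeometry Opposite TopologicalSpace

namespace Groth.Agent.Lib.ReesCoh

open Scheme.Modules Formal CohIII Groth.Agent.Lib.ReesGen Groth.Agent.Lib.UnitBaseChange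
  Groth.Agent.Lib.H90OXModExact

variable (A : Type u) [CommRing A] (m : Ideal A) (X : Scheme.{u}) [X.Over (Spec (CommRingCat.of A))]
  (F : X.Modules) [F.IsQuasicoherent]

instance isQuasicoherent_NN : (NN A m X F).IsQuasicoherent :=
  Groth.Agent.Lib.QCohBiprod.isQuasicoherent_sigmaObj _ fun _ => inferInstance

instance isQuasicoherent_pushGG : ((pushforward (πB A m X)).obj (GG A m X F)).IsQuasicoherent :=
  Groth.Agent.Lib.H90OXModPush.isQuasicoherent_pushforward _ _

theorem isIso_Φ [QuasiSeparatedSpace X] : IsIso (Φ A m X F) :=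
  (Groth.Agent.Lib.H90OXModAffineIso.isIso_iff_forall_affine (Φ A m X F)).mpr fun U =>
    Φ_app_bijective A m X F U.2

/-- multiplication by `a` from `m^k F` to `m^{r+k} F` -/
noncomputable def actNk (r : ℕ) (a : ↥(m ^ r)) (k : ULift.{u} ℕ) :
    Nk A m X F k ⟶ Nk A m X F (ULift.up (r + k.down)) :=
  mulMap (m ^ r) (m ^ k.down) F a ≫ castI A X F (pow_add m r k.down).symm

/-- multiplication by `a t^r` on `∐_k m^k F` -/
noncomputable def actN (r : ℕ) (a : ↥(m ^ r)) : NN A m X F ⟶ NN A m X F :=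
  Sigma.desc fun k => actNk A m X F r a k ≫ Sigma.ι (Nk A m X F) (ULift.up (r + k.down))

theorem ι_actN (r : ℕ) (a : ↥(m ^ r)) (k : ULift.{u} ℕ) :
    Sigma.ι (Nk A m X F) k ≫ actN A m X F r a =
      actNk A m X F r a k ≫ Sigma.ι (Nk A m X F) (ULift.up (r + k.down)) :=
  Sigma.ι_desc _ _

theorem Φk_actG' (r : ℕ) (a : ↥(m ^ r)) (k : ULift.{u} ℕ) :
    Φk A m X F k.down ≫ actG A m X F (mono m r a) =
      actNk A m X F r a k ≫ Φk A m X F (r + k.down) := by
  unfold actNk
  rw [Category.assoc]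
  exact Φk_actG A m X F r k.down a

/-- `Φ` intertwines the action of `a t^r`. -/
theorem Φ_actG (r : ℕ) (a : ↥(m ^ r)) :
    Φ A m X F ≫ actG A m X F (mono m r a) = actN A m X F r a ≫ Φ A m X F := by
  apply Sigma.hom_ext
  intro k
  rw [← Category.assoc, ι_Φ, Φk_actG', ← Category.assoc, ι_actN, Category.assoc, ι_Φ]

/-- projection of `∐_k m^k F` onto the `k`-th summand -/
noncomputable def prN (k : ULift.{u} ℕ) : NN A m X F ⟶ Nk A m X F k :=
  Sigma.π (Nk A m X F) k

theorem ι_prN_self (k : ULift.{u} ℕ) : Sigma.ι (Nk A m X F) k ≫ prN A m X F k = 𝟙 _ :=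
  Sigma.ι_π_eq_id _ _

theorem ι_prN_of_ne {i k : ULift.{u} ℕ} (h : i ≠ k) :
    Sigma.ι (Nk A m X F) i ≫ prN A m X F k = 0 :=
  Sigma.ι_π_of_ne _ h

theorem actN_prN_hi (r : ℕ) (a : ↥(m ^ r)) (k : ULift.{u} ℕ) :
    actN A m X F r a ≫ prN A m X F (ULift.up (r + k.down)) =
      prN A m X F k ≫ actNk A m X F r a k := by
  apply Sigma.hom_ext
  intro i
  rw [← Category.assoc, ι_actN, Category.assoc, ← Category.assoc (Sigma.ι _ i)]
  by_cases h : i = k
  · subst h
    rw [ι_prN_self, ι_prN_self, Category.comp_id, Category.id_comp]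
  · have h' : (ULift.up (r + i.down) : ULift.{u} ℕ) ≠ ULift.up (r + k.down) := by
      intro e
      apply h
      have := congrArg ULift.down e
      simp only [add_right_inj] at this
      exact ULift.ext _ _ this
    rw [ι_prN_of_ne A m X F h', ι_prN_of_ne A m X F h, comp_zero, zero_comp]

theorem actN_prN_lo (r : ℕ) (a : ↥(m ^ r)) (j : ULift.{u} ℕ) (hj : j.down < r) :
    actN A m X F r a ≫ prN A m X F j = 0 := by
  apply Sigma.hom_ext
  intro i
  rw [← Category.assoc, ι_actN, Category.assoc, comp_zero]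
  have h' : (ULift.up (r + i.down) : ULift.{u} ℕ) ≠ j := by
    intro e
    have := congrArg ULift.down e
    simp only at this
    omega
  rw [ι_prN_of_ne A m X F h', comp_zero]

end Groth.Agent.Lib.ReesCoh
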