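import Groth.Agent.Lib.ReesCohK
import Groth.Agent.Lib.CechPushEnd
import Groth.Agent.Lib.ProperFinHyp
import Groth.Agent.Lib.H90OXModExact
import Groth.Agent.Lib.SupportTensor

/-!
# K2b (S2435), part L: cohomological assembly (lead)

`⊕_k H^p(X, m^k F)` is a finitely generated graded module over the Rees algebra (EGA III 3.3.2), in the
form: there is `k₀` such that for `k ≥ k₀` and all `r`, `H^p(X, m^{r+k}F)` is generated by the images of
the multiplication maps `a : H^p(X, m^k F) → H^p(X, m^{r+k} F)`, `a ∈ m^r`.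
-/

set_option autoImplicit false
set_option linter.style.haveILetI false
set_option linter.unusedSectionVars false
universe u
open CategoryTheory CategoryTheory.Limits AlgebraicGeometry Opposite TopologicalSpace

namespace Groth.Agent.Lib.ReesCoh

open Scheme.Modules Formal CohIII Groth.Agent.Lib.ReesGen

section Hm

variable {X : Scheme.{u}}

/-- `H^p` of a morphism of modules -/
noncomputable def Hm {M N : X.Modules} (φ : M ⟶ N) (p : ℕ) : Coh.HH X M p →+ Coh.HH X N p :=
  Sheaf.H.map ((SheafOfModules.toSheaf _).map φ) p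

theorem Hm_comp {M N P : X.Modules} (φ : M ⟶ N) (ψ : N ⟶ P) (p : ℕ) (x : Coh.HH X M p) :
    Hm ψ p (Hm φ p x) = Hm (φ ≫ ψ) p x :=
  Formal.HHmap_comp φ ψ p x

theorem Hm_id {M : X.Modules} (p : ℕ) (x : Coh.HH X M p) : Hm (𝟙 M) p x = x := by
  have h : (SheafOfModules.toSheaf X.ringCatSheaf).map (𝟙 M) = 𝟙 (Coh.toAb M) :=
    CategoryTheory.Functor.map_id _ _
  exact (congrArg (fun φ : Coh.toAb M ⟶ Coh.toAb M => Sheaf.H.map φ p x) h).trans
    (Sheaf.H.map_id_apply x)

theorem Hm_zero {M N : X.Modules} (p : ℕ) (x : Coh.HH X M p) : Hm (0 : M ⟶ N) p x = 0 := by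
  have h : (SheafOfModules.toSheaf X.ringCatSheaf).map (0 : M ⟶ N) = (0 : Coh.toAb M ⟶ Coh.toAb N) :=
    CategoryTheory.Functor.map_zero _ _ _
  refine (congrArg (fun φ : Coh.toAb M ⟶ Coh.toAb N => Sheaf.H.map φ p x) h).trans ?_
  change ((Sheaf.functorH _ p).map (0 : Coh.toAb M ⟶ Coh.toAb N)).hom x = 0
  rw [CategoryTheory.Functor.map_zero]
  rfl

theorem Hm_eq_of_eq {M N : X.Modules} {φ ψ : M ⟶ N} (h : φ = ψ) (p : ℕ) (x : Coh.HH X M p) :
    Hm φ p x = Hm ψ p x := by rw [h]

end Hm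

section Coherence

variable (A : Type u) [CommRing A] (m : Ideal A) (X : Scheme.{u}) [X.Over (Spec (CommRingCat.of A))]
  (F : X.Modules)

theorem isCoh_GG (hF : Coh.IsCoh F) : Coh.IsCoh (GG A m X F) := by
  haveI : F.IsQuasicoherent := hF.1
  haveI : F.IsFiniteType := hF.2
  have hPB : Coh.IsCoh (PB A m X F) :=
    ⟨inferInstance, Groth.Agent.Lib.SupportTensor.isFiniteType_pullback (πB A m X) F⟩
  exact Groth.Agent.Lib.H90OXModExact.isCoh_of_epi (factorThruImage (uF A m X F)) hPB inferInstance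

end Coherence

end Groth.Agent.Lib.ReesCoh
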