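import Groth.Agent.Lib.ReesCohL

/-!
# K2b (S2435), part M: the graded structure on `H^p(X_B, G)` (lead)
-/

set_option autoImplicit false
set_option linter.style.haveILetI false
set_option linter.unusedSectionVars false
universe u
open CategoryTheory CategoryTheory.Limits AlgebraicGeometry Opposite TopologicalSpace

namespace Groth.Agent.Lib.ReesCoh

open Scheme.Modules Formal CohIII Groth.Agent.Lib.ReesGen

section Top

theorem isSeparated_of_over (A : Type u) [CommRing A] (X : Scheme.{u})
    [X.Over (Spec (CommRingCat.of A))] [IsSeparated (X ↘ Spec (CommRingCat.of A))] :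
    X.IsSeparated :=
  ⟨by rw [← terminal.comp_from (X ↘ Spec (CommRingCat.of A))]; infer_instance⟩

theorem compactSpace_of_over (A : Type u) [CommRing A] (X : Scheme.{u})
    [X.Over (Spec (CommRingCat.of A))] [QuasiCompact (X ↘ Spec (CommRingCat.of A))] :
    CompactSpace X :=
  QuasiCompact.compactSpace_of_compactSpace (X ↘ Spec (CommRingCat.of A))

end Top

variable (A : Type u) [CommRing A] (m : Ideal A) (X : Scheme.{u}) [X.Over (Spec (CommRingCat.of A))]
  (F : X.Modules) [F.IsQuasicoherent] (p : ℕ)

/-- `H^p(X_B, G)` -/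
noncomputable abbrev HB : Type u := Coh.HH (XB A m X) (GG A m X F) p

/-- `H^p(X, m^k F)` -/
noncomputable abbrev Hk (k : ℕ) : Type u := Coh.HH X (Nk A m X F (ULift.up k)) p

theorem smul_HB (b : RB A m) (h : HB A m X F p) :
    b • h = Hm (smulMod (RB A m) (GG A m X F) b) p h := rfl

/-- multiplication by `a ∈ m^r` : `H^p(X, m^k F) → H^p(X, m^{r+k} F)` -/
noncomputable def μk (r k : ℕ) (a : ↥(m ^ r)) : Hk A m X F p k →+ Hk A m X F p (r + k) :=
  Hm (actNk A m X F r a (ULift.up k)) p

end Groth.Agent.Lib.ReesCoh
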