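import Groth.Agent.Lib.ReesCohM

/-!
# K2b (S2435), part N: EGA III 3.3.2 in generation form (lead)
-/

set_option autoImplicit false
set_option linter.style.haveILetI false
set_option linter.unusedSectionVars false
universe u
open CategoryTheory CategoryTheory.Limits AlgebraicGeometry Opposite TopologicalSpace

namespace Groth.Agent.Lib.ReesCoh

open Scheme.Modules Formal CohIII Groth.Agent.Lib.ReesGen

variable (A : Type u) [CommRing A] (m : Ideal A) (X : Scheme.{u}) [X.Over (Spec (CommRingCat.of A))]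
  (F : X.Modules) [F.IsQuasicoherent] (p : ℕ)

theorem actG_invΦ [QuasiSeparatedSpace X] (r : ℕ) (a : ↥(m ^ r)) :
    haveI := isIso_Φ A m X F
    actG A m X F (mono m r a) ≫ inv (Φ A m X F) = inv (Φ A m X F) ≫ actN A m X F r a := by
  haveI := isIso_Φ A m X F
  rw [IsIso.comp_inv_eq, Category.assoc, ← Φ_actG, IsIso.inv_hom_id_assoc]

theorem key_hi [QuasiSeparatedSpace X] (r k : ℕ) (a : ↥(m ^ r)) :
    haveI := isIso_Φ A m X F
    actG A m X F (mono m r a) ≫ inv (Φ A m X F) ≫ prN A m X F (ULift.up (r + k)) =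
      inv (Φ A m X F) ≫ prN A m X F (ULift.up k) ≫ actNk A m X F r a (ULift.up k) := by
  haveI := isIso_Φ A m X F
  rw [← Category.assoc, actG_invΦ, Category.assoc]
  congr 1
  exact actN_prN_hi A m X F r a (ULift.up k)

theorem key_lo [QuasiSeparatedSpace X] (r j : ℕ) (a : ↥(m ^ r)) (hj : j < r) :
    haveI := isIso_Φ A m X F
    actG A m X F (mono m r a) ≫ inv (Φ A m X F) ≫ prN A m X F (ULift.up j) = 0 := by
  haveI := isIso_Φ A m X F
  rw [← Category.assoc, actG_invΦ, Category.assoc, actN_prN_lo A m X F r a (ULift.up j) hj,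
    comp_zero]

end Groth.Agent.Lib.ReesCoh
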