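import Mathlib
import Groth.Prelude.Def_W4c2filtblowupsingRees

/-!
# Rees algebras of valuation filtrations are integrally closed (helper99)

* `isIntegral_monomial_coeff`: homogeneous components of elements of `A[X]` integral over a Rees
  algebra are integral over it.
* `exists_equation_of_isIntegral_monomial`: an integral equation for `c X^k` over the Rees algebra
  yields `c^n + ∑_{j<n} a_j c^j = 0` with `a_j ∈ F (k (n - j))`.
-/

set_option autoImplicit false
universe u

namespace Groth.Agent.Lib.ReesNormal99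

open Polynomial FiltBl

variable {A : Type u} [CommRing A] (𝓕 : FiltBl.IdealFiltration A)

lemma monomial_mem_rees {k : ℕ} {a : A} (ha : a ∈ 𝓕.F k) : monomial k a ∈ 𝓕.rees := by
  intro n
  rw [coeff_monomial]
  split_ifs with h
  · subst h; exact ha
  · exact Ideal.zero_mem _

/-- The "grading coaction" `A[X] → A[X][T]`, `X ↦ X T`. -/
noncomputable def sigma : A[X] →+* A[X][X] :=
  eval₂RingHom ((C : A[X] →+* A[X][X]).comp C) (C X * X)

lemma sigma_monomial (n : ℕ) (a : A) :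
    sigma (monomial n a) = monomial n (monomial n a) := by
  unfold sigma
  rw [coe_eval₂RingHom, eval₂_monomial, RingHom.comp_apply, mul_pow, ← C_pow, ← mul_assoc, ← C_mul,
    C_mul_X_pow_eq_monomial, C_mul_X_pow_eq_monomial]

lemma sigma_coeff (p : A[X]) (k : ℕ) : (sigma p).coeff k = monomial k (p.coeff k) := by
  induction p using Polynomial.induction_on' with
  | add p q hp hq => rw [map_add, coeff_add, hp, hq, coeff_add, map_add]
  | monomial n a =>
    rw [sigma_monomial, coeff_monomial, coeff_monomial]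
    split_ifs with h
    · subst h; rfl
    · rw [map_zero]

attribute [local instance] Polynomial.algebra

/-- The inclusion `R[T] → A[X][T]`. -/
noncomputable def iota : (𝓕.rees)[X] →+* A[X][X] := mapRingHom (algebraMap 𝓕.rees A[X])

lemma iota_injective : Function.Injective (iota 𝓕) :=
  map_injective _ (FaithfulSMul.algebraMap_injective _ _)

lemma sigma_mem_range (p : 𝓕.rees) : sigma (p : A[X]) ∈ (iota 𝓕).rangeS := by
  have : sigma (p : A[X]) ∈ lifts (algebraMap 𝓕.rees A[X]) := by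
    rw [lifts_iff_coeff_lifts]
    intro n
    rw [sigma_coeff]
    exact ⟨⟨_, monomial_mem_rees 𝓕 (p.2 n)⟩, rfl⟩
  rw [mem_lifts] at this
  obtain ⟨q, hq⟩ := this
  exact ⟨q, hq⟩

/-- `R[T] ≃ range`. -/
noncomputable def iotaEquiv : (𝓕.rees)[X] ≃+* (iota 𝓕).rangeS :=
  RingEquiv.ofBijective (iota 𝓕).rangeSRestrict
    ⟨fun x y h => iota_injective 𝓕 (congrArg Subtype.val h), RingHom.rangeSRestrict_surjective _⟩

/-- The restriction of `sigma` to the Rees algebra. -/
noncomputable def phi : 𝓕.rees →+* (𝓕.rees)[X] :=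
  ((iotaEquiv 𝓕).symm : (iota 𝓕).rangeS →+* (𝓕.rees)[X]).comp
    ((sigma.comp (algebraMap 𝓕.rees A[X])).codRestrict (iota 𝓕).rangeS
      (fun p => sigma_mem_range 𝓕 p))

lemma map_phi (p : 𝓕.rees) : iota 𝓕 (phi 𝓕 p) = sigma (p : A[X]) := by
  unfold phi
  set y := ((sigma.comp (algebraMap 𝓕.rees A[X])).codRestrict (iota 𝓕).rangeS
      (fun p => sigma_mem_range 𝓕 p)) p with hy
  have h1 : iotaEquiv 𝓕 ((iotaEquiv 𝓕).symm y) = y := (iotaEquiv 𝓕).apply_symm_apply y
  have h2 : ((iotaEquiv 𝓕 ((iotaEquiv 𝓕).symm y)) : A[X][X]) =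
      iota 𝓕 ((iotaEquiv 𝓕).symm y) := rfl
  have h3 : (y : A[X][X]) = sigma (p : A[X]) := rfl
  rw [← h3, ← h1, h2]
  rfl

/-- Homogeneous components of integral elements are integral. -/
theorem isIntegral_monomial_coeff (z : A[X]) (hz : IsIntegral 𝓕.rees z) (k : ℕ) :
    IsIntegral 𝓕.rees (monomial k (z.coeff k)) := by
  have := IsIntegral.map_of_comp_eq (T := (𝓕.rees)[X]) (phi 𝓕) sigma (by
    apply RingHom.ext
    intro p
    exact map_phi 𝓕 p) hz
  have h2 := this.coeff k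
  rwa [sigma_coeff] at h2


/-- An integral equation for `c X^k` over the Rees algebra gives an equation for `c` with
coefficients in the appropriate pieces of the filtration. -/
theorem exists_equation_of_isIntegral_monomial [Nontrivial A] (k : ℕ) (c : A)
    (h : IsIntegral 𝓕.rees (monomial k c)) :
    ∃ (n : ℕ) (a : ℕ → A), 0 < n ∧ (∀ j, j < n → a j ∈ 𝓕.F (k * (n - j))) ∧
      c ^ n + ∑ j ∈ Finset.range n, a j * c ^ j = 0 := by
  obtain ⟨q, hqm, hq0⟩ := h
  set n := q.natDegree with hn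
  have hnpos : 0 < n := by
    rcases Nat.eq_zero_or_pos n with h0 | h0
    · exfalso
      have hq1 : q = 1 := (hqm.natDegree_eq_zero).mp h0
      rw [hq1, eval₂_one] at hq0
      exact one_ne_zero hq0
    · exact h0
  refine ⟨n, fun j => ((q.coeff j : 𝓕.rees) : A[X]).coeff (k * (n - j)), hnpos,
    fun j _ => (q.coeff j).2 _, ?_⟩
  have hcoef := congrArg (fun f : A[X] => f.coeff (k * n)) hq0
  simp only [coeff_zero] at hcoef
  rw [eval₂_eq_sum_range, finset_sum_coeff] at hcoef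
  have hterm : ∀ i ∈ Finset.range (n + 1),
      ((algebraMap 𝓕.rees A[X]) (q.coeff i) * (monomial k c) ^ i).coeff (k * n) =
        ((q.coeff i : 𝓕.rees) : A[X]).coeff (k * (n - i)) * c ^ i := by
    intro i hi
    have hi' : i ≤ n := Nat.lt_succ_iff.mp (Finset.mem_range.mp hi)
    have hkn : k * n = k * (n - i) + k * i := by
      rw [← Nat.mul_add, Nat.sub_add_cancel hi']
    rw [monomial_pow, hkn, coeff_mul_monomial]
    rfl
  rw [Finset.sum_congr rfl hterm, Finset.sum_range_succ] at hcoef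
  have htop : ((q.coeff n : 𝓕.rees) : A[X]).coeff (k * (n - n)) = 1 := by
    have : q.coeff n = 1 := hqm
    rw [this, Nat.sub_self, Nat.mul_zero]
    change (1 : A[X]).coeff 0 = 1
    exact coeff_one_zero
  rw [htop, one_mul, add_comm] at hcoef
  exact hcoef


omit 𝓕 in
/-- The valuation estimate. -/
theorem le_mul_val_of_equation {K : Type*} [Field K] [Algebra A K]
    (v : AddValuation K (WithTop ℤ)) (p q : ℕ) (hq : 0 < q) (k n : ℕ) (hn : 0 < n) (c : A)
    (a : ℕ → A)
    (ha : ∀ j, j < n →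
      ((k * (n - j) * p : ℕ) : WithTop ℤ) ≤ (q : WithTop ℤ) * v (algebraMap A K (a j)))
    (heq : c ^ n + ∑ j ∈ Finset.range n, a j * c ^ j = 0) :
    ((k * p : ℕ) : WithTop ℤ) ≤ (q : WithTop ℤ) * v (algebraMap A K c) := by
  set x := algebraMap A K c with hx
  have hqne : (q : WithTop ℤ) ≠ 0 := by
    have : (q : WithTop ℤ) = ((q : ℤ) : WithTop ℤ) := rfl
    rw [this, Ne, WithTop.coe_eq_zero]
    exact_mod_cast hq.ne'
  rcases eq_or_ne (v x) ⊤ with htop | hfin
  · rw [htop, WithTop.mul_top hqne]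
    exact le_top
  obtain ⟨m, hm⟩ := WithTop.ne_top_iff_exists.mp hfin
  -- the equation in K
  have heqK : x ^ n + ∑ j ∈ Finset.range n, algebraMap A K (a j) * x ^ j = 0 := by
    have := congrArg (algebraMap A K) heq
    simpa only [map_add, map_pow, map_sum, map_mul, map_zero] using this
  have hxn : v (x ^ n) = ((n * m : ℤ) : WithTop ℤ) := by
    rw [AddValuation.map_pow, ← hm, ← WithTop.coe_nsmul, nsmul_eq_mul]
  -- some term has small valuation
  obtain ⟨j, hjn, hj⟩ : ∃ j, j < n ∧ v (algebraMap A K (a j) * x ^ j) ≤ v (x ^ n) := by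
    by_contra hcon
    push Not at hcon
    have hlt : v (x ^ n) < v (∑ j ∈ Finset.range n, algebraMap A K (a j) * x ^ j) := by
      refine AddValuation.map_lt_sum v ?_ (fun j hj => hcon j (Finset.mem_range.mp hj))
      rw [hxn]
      exact WithTop.coe_ne_top
    have hsum : ∑ j ∈ Finset.range n, algebraMap A K (a j) * x ^ j = -(x ^ n) := by
      rw [eq_neg_iff_add_eq_zero, add_comm]
      exact heqK
    rw [hsum, AddValuation.map_neg] at hlt
    exact lt_irrefl _ hlt
  rw [AddValuation.map_mul, AddValuation.map_pow, hxn, ← hm] at hj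
  have hyfin : v (algebraMap A K (a j)) ≠ ⊤ := by
    intro h
    rw [h, WithTop.top_add] at hj
    exact WithTop.coe_ne_top (top_le_iff.mp hj)
  obtain ⟨l, hl⟩ := WithTop.ne_top_iff_exists.mp hyfin
  rw [← hl, ← WithTop.coe_nsmul, ← WithTop.coe_add, WithTop.coe_le_coe, nsmul_eq_mul] at hj
  have haj := ha j hjn
  rw [← hl] at haj
  have haj' : ((k * (n - j) * p : ℕ) : ℤ) ≤ (q : ℤ) * l := by
    have h1 : ((k * (n - j) * p : ℕ) : WithTop ℤ) = (((k * (n - j) * p : ℕ) : ℤ) : WithTop ℤ) := rfl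
    have h2 : (q : WithTop ℤ) * ((l : ℤ) : WithTop ℤ) = (((q : ℤ) * l : ℤ) : WithTop ℤ) := by
      rw [WithTop.coe_mul]; rfl
    rw [h1, h2, WithTop.coe_le_coe] at haj
    exact haj
  have hgoal : ((k * p : ℕ) : ℤ) ≤ (q : ℤ) * m := by
    have hd : (0 : ℤ) < ((n - j : ℕ) : ℤ) := by
      exact_mod_cast Nat.sub_pos_of_lt hjn
    have hnj : ((n - j : ℕ) : ℤ) = (n : ℤ) - j := by
      rw [Nat.cast_sub hjn.le]
    have hq' : (0 : ℤ) ≤ (q : ℤ) := by exact_mod_cast hq.le
    push_cast at haj' ⊢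
    -- l ≤ (n - j) * m
    have hl' : l ≤ ((n - j : ℕ) : ℤ) * m := by rw [hnj]; linarith
    have h3 : (q : ℤ) * l ≤ (q : ℤ) * (((n - j : ℕ) : ℤ) * m) :=
      mul_le_mul_of_nonneg_left hl' hq'
    have h4 : ((n - j : ℕ) : ℤ) * ((k : ℤ) * p) ≤ ((n - j : ℕ) : ℤ) * ((q : ℤ) * m) := by
      calc ((n - j : ℕ) : ℤ) * ((k : ℤ) * p) = (k : ℤ) * ((n - j : ℕ) : ℤ) * p := by ring
        _ ≤ (q : ℤ) * l := haj'
        _ ≤ (q : ℤ) * (((n - j : ℕ) : ℤ) * m) := h3
        _ = ((n - j : ℕ) : ℤ) * ((q : ℤ) * m) := by ring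
    exact le_of_mul_le_mul_left h4 hd
  have h1 : ((k * p : ℕ) : WithTop ℤ) = (((k * p : ℕ) : ℤ) : WithTop ℤ) := rfl
  have h2 : (q : WithTop ℤ) * ((m : ℤ) : WithTop ℤ) = (((q : ℤ) * m : ℤ) : WithTop ℤ) := by
    rw [WithTop.coe_mul]; rfl
  rw [← hm, h1, h2, WithTop.coe_le_coe]
  exact hgoal


theorem isIntegrallyClosed_rees {K : Type u} [IsDomain A] [IsIntegrallyClosed A] [Field K]
    [Algebra A K] (ι : Type) (v : ι → AddValuation K (WithTop ℤ)) (p q : ι → ℕ)
    (hq : ∀ i, 0 < q i)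
    (hF : ∀ (k : ℕ) (x : A), x ∈ 𝓕.F k ↔
      ∀ i, ((k * p i : ℕ) : WithTop ℤ) ≤ (q i : WithTop ℤ) * v i (algebraMap A K x)) :
    IsIntegrallyClosed 𝓕.rees := by
  have hclosed : IsIntegrallyClosedIn 𝓕.rees A[X] := by
    rw [isIntegrallyClosedIn_iff]
    refine ⟨FaithfulSMul.algebraMap_injective _ _, ?_⟩
    intro z hz
    refine ⟨⟨z, fun k => ?_⟩, rfl⟩
    have hk := isIntegral_monomial_coeff 𝓕 z hz k
    obtain ⟨n, a, hn, ha, heq⟩ := exists_equation_of_isIntegral_monomial 𝓕 k _ hk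
    rw [hF]
    intro i
    refine le_mul_val_of_equation (v i) (p i) (q i) (hq i) k n hn _ a ?_ heq
    intro j hj
    exact (hF _ _).mp (ha j hj) i
  exact IsIntegrallyClosed.of_isIntegrallyClosed_of_isIntegrallyClosedIn (R := 𝓕.rees) (S := A[X])

end Groth.Agent.Lib.ReesNormal99
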