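import Groth.Agent.Lib.GenericFree
import Groth.Agent.Lib.PurityBir82
import Groth.Agent.Lib.H47Reflexive
import Groth.Agent.Lib.QCohStalk

/-!
# helper53: specialization maps of stalks of quasi-coherent modules; a local Hartogs lemma
(namespace `Groth.Agent.Lib.RefSec53`)

* `exists_smul_eq_zero_of_stalkSpecializes_eq_zero`: the kernel of `F_y → F_x` (`x ⤳ y`) is killed by elements of `O_y`
  invertible at `x`.
* `stalkSpecializes_injective_of_torsionFree`: on an integral scheme, `F_y → F_x` is injective when `F_y` is torsion-free.
* `exists_smul_eq_smul_of_surjective`: if `O_x → F_x, a ↦ a • m_x` is surjective, `u • n = a • m` in `F_z` with `u` invertible at `x`.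
* `exists_generization_of_prime`: a non-maximal prime of `O_z` comes from a proper generization.
* `mem_span_of_forall_prime`: local Hartogs for a cyclic submodule `R m ⊆ M` of a torsion-free module when `depth R ≥ 2`.
-/

set_option autoImplicit false
set_option maxHeartbeats 400000
set_option linter.unusedSectionVars false
set_option linter.style.haveILetI false
universe u

open CategoryTheory CategoryTheory.Limits AlgebraicGeometry Opposite TopologicalSpace
open Groth.Agent.Lib.QCohStalk Groth.Agent.Lib.GenericFree

namespace Groth.Agent.Lib.RefSec53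

section algebra

open Groth.Agent.Lib.H47Reflexive

variable {R : Type u} [CommRing R] [IsLocalRing R] [IsDomain R] [IsNoetherianRing R]
  {M : Type u} [AddCommGroup M] [Module R M] [Module.IsTorsionFree R M]

theorem mem_span_of_forall_prime
    (hdepth : 2 ≤ LocCoh.depth R R) (m : M) (hm : m ≠ 0)
    (hloc : ∀ (p : Ideal R), p.IsPrime → p ≠ IsLocalRing.maximalIdeal R →
      ∀ n : M, ∃ t ∉ p, t • n ∈ Submodule.span R {m}) (n : M) :
    n ∈ Submodule.span R {m} := by
  obtain ⟨htfR, he1⟩ := (two_le_idealDepth_iff (IsLocalRing.maximalIdeal R) R).mp hdepth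
  -- a nonzero element of the maximal ideal
  obtain ⟨a₀, ha₀m, ha₀⟩ : ∃ a₀ ∈ IsLocalRing.maximalIdeal R, a₀ ≠ 0 := by
    by_contra hcon
    push Not at hcon
    have : (1 : R) = 0 := htfR 1 (fun a ha => by rw [hcon a ha, zero_smul])
    exact one_ne_zero this
  set N : Submodule R M := Submodule.span R {m} with hN
  have htf : TF (IsLocalRing.maximalIdeal R) (M ⧸ N) := by
    intro c hc
    obtain ⟨n', rfl⟩ := Submodule.Quotient.mk_surjective N c
    have hmem : ∀ a ∈ IsLocalRing.maximalIdeal R, ∃ r : R, r • m = a • n' := by
      intro a ha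
      have h1 := hc a ha
      rw [← Submodule.Quotient.mk_smul, Submodule.Quotient.mk_eq_zero] at h1
      exact Submodule.mem_span_singleton.mp h1
    choose! f hf using hmem
    let h : (IsLocalRing.maximalIdeal R) →ₗ[R] R :=
      { toFun := fun a => f a.1
        map_add' := fun a b => by
          apply smul_left_injective R hm
          change f (a.1 + b.1) • m = (f a.1 + f b.1) • m
          rw [hf _ (add_mem a.2 b.2), add_smul, add_smul, hf _ a.2, hf _ b.2]
        map_smul' := fun r a => by
          apply smul_left_injective R hm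
          change f (r • a.1) • m = (r • f a.1) • m
          rw [hf _ (Submodule.smul_mem _ r a.2), smul_assoc, smul_assoc, hf _ a.2] }
    obtain ⟨r₀, hr₀⟩ := he1 h
    have h2 : a₀ • n' = a₀ • (r₀ • m) := by
      have := hr₀ ⟨a₀, ha₀m⟩
      change f a₀ = a₀ • r₀ at this
      rw [← hf a₀ ha₀m, this, smul_assoc]
    have h3 : n' = r₀ • m := smul_right_injective M ha₀ h2
    rw [Submodule.Quotient.mk_eq_zero, h3]
    exact Submodule.smul_mem _ _ (Submodule.mem_span_singleton_self m)
  have hfg : (IsLocalRing.maximalIdeal R).FG := IsNoetherian.noetherian _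
  have hzero := TF.eq_zero_of_support htf hfg (by
    intro p hp hmp c
    obtain ⟨n', rfl⟩ := Submodule.Quotient.mk_surjective N c
    have hpne : p ≠ IsLocalRing.maximalIdeal R := by
      rintro rfl
      exact hmp le_rfl
    obtain ⟨t, htp, ht⟩ := hloc p hp hpne n'
    refine ⟨t, htp, ?_⟩
    rw [← Submodule.Quotient.mk_smul, Submodule.Quotient.mk_eq_zero]
    exact ht) (Submodule.Quotient.mk n)
  exact (Submodule.Quotient.mk_eq_zero N).mp hzero

end algebra

end Groth.Agent.Lib.RefSec53
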