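import Groth.Agent.Lib.RefSec53b
import Groth.Agent.Lib.Refl53c
import Groth.Agent.Lib.H90PushStalkLocal
import Groth.Agent.Lib.CodimOne13d
import Groth.Agent.Lib.H78Dual

/-!
# helper53: the non-generating locus of a section of a rank one reflexive module has pure codimension one
(namespace `Groth.Agent.Lib.RefSec53`)
-/

set_option autoImplicit false
set_option maxHeartbeats 400000
set_option linter.unusedSectionVars false
set_option linter.style.haveILetI false
universe u

open CategoryTheory CategoryTheory.Limits AlgebraicGeometry Opposite TopologicalSpace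
open Groth.Agent.Lib.QCohStalk Groth.Agent.Lib.GenericFree Groth.Agent.Lib.RestrictStalk

namespace Groth.Agent.Lib.RefSec53

variable {X : Scheme.{u}}

/-- the stalk of an invertible-on-`U` module at a point of `U` is free of rank one -/
theorem exists_bijective_of_restrict_isInvertible (F : X.Modules) (U₀ : X.Opens)
    (hinv : PicF.IsInvertible (F.restrict U₀.ι)) (x' : ↥(U₀ : Scheme.{u})) :
    ∃ m : F.presheaf.stalk (U₀.ι x'),
      Function.Bijective (fun a : X.presheaf.stalk (U₀.ι x') => a • m) := by
  obtain ⟨m₀, hm₀⟩ :=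
    Groth.Agent.Lib.H90PushStalkLocal.exists_stalk_bijective_of_isInvertible hinv x'
  refine ⟨restrictStalkAddEquiv U₀.ι F x' m₀, ?_⟩
  have hcomp : (fun a : X.presheaf.stalk (U₀.ι x') =>
      a • restrictStalkAddEquiv U₀.ι F x' m₀) =
      (restrictStalkAddEquiv U₀.ι F x') ∘
        (fun a : (U₀ : Scheme.{u}).presheaf.stalk x' => a • m₀) ∘
          (stalkRingEquiv U₀.ι x') := by
    funext a
    simp only [Function.comp_apply]
    rw [stalkRingEquiv_apply, restrictStalkAddEquiv_smul]
  rw [hcomp]
  exact (restrictStalkAddEquiv U₀.ι F x').bijective.comp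
    (hm₀.comp (stalkRingEquiv U₀.ι x').bijective)

/-- the stalk of a generically invertible module at the generic point is free of rank one -/
theorem exists_bijective_genericPoint [IsIntegral X] (F : X.Modules) (hF : RefHull.GenInvertible F) :
    ∃ m : F.presheaf.stalk (genericPoint X),
      Function.Bijective (fun a : X.presheaf.stalk (genericPoint X) => a • m) := by
  obtain ⟨U₀, hdense, hinv⟩ := hF
  obtain ⟨x, hx⟩ := hdense.nonempty
  have hη : genericPoint X ∈ U₀ := (_root_.genericPoint_specializes x).mem_open U₀.isOpen hx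
  exact exists_bijective_of_restrict_isInvertible F U₀ hinv ⟨genericPoint X, hη⟩

theorem dim_eq_one_of_maximal_nongenerating (X : Scheme.{u}) [IsIntegral X] [IsLocallyNoetherian X]
    (hX : Pi1.IsNormalScheme X) (F : X.Modules) (hF : RefHull.IsRef1 F) (s : Γ(F, ⊤)) (hs : s ≠ 0)
    (z : ↥X)
    (hz : ¬ Function.Bijective fun a : ↑(X.presheaf.stalk z) => a • F.presheaf.germ ⊤ z trivial s)
    (hmax : ∀ y : ↥X, ¬ Function.Bijective
      (fun a : ↑(X.presheaf.stalk y) => a • F.presheaf.germ ⊤ y trivial s) → y ⤳ z → y = z) :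
    ringKrullDim ↑(X.presheaf.stalk z) = 1 := by
  obtain ⟨hcoh, hrefl, hgen⟩ := hF
  haveI := hcoh.1
  have hra : ∀ x : X, RefHull.IsReflexiveAt F x :=
    (Groth.Agent.Lib.HomSh53.isReflexive_iff_forall_isReflexiveAt hcoh).mp hrefl
  have htf : ∀ x : X, Module.IsTorsionFree (X.presheaf.stalk x) (F.presheaf.stalk x) := fun x => by
    haveI : Module.IsReflexive (X.presheaf.stalk x) (F.presheaf.stalk x) := hra x
    infer_instance
  have hη : ∀ x : X, genericPoint X ⤳ x := _root_.genericPoint_specializes
  have hgermη : F.presheaf.germ ⊤ (genericPoint X) trivial s ≠ 0 := by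
    intro h0
    apply hs
    refine Groth.Agent.Lib.H78Dual.germ_ext F s 0 (fun x hx => ?_)
    rw [map_zero]
    haveI := htf x
    rw [← stalkSpecializes_eq_zero_iff_of_torsionFree F (hη x), germ_stalkSpecializes']
    exact h0
  have hgerm : ∀ x : X, F.presheaf.germ ⊤ x trivial s ≠ 0 := by
    intro x h0
    apply hgermη
    rw [← germ_stalkSpecializes' F (hη x) (show x ∈ (⊤ : X.Opens) from trivial), h0, map_zero]
  -- the generic point is in the generating locus
  have hηV : Function.Bijective (fun a : X.presheaf.stalk (genericPoint X) =>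
      a • F.presheaf.germ ⊤ (genericPoint X) trivial s) := by
    obtain ⟨m₁, hm₁⟩ := exists_bijective_genericPoint F hgen
    obtain ⟨c, hc⟩ := hm₁.2 (F.presheaf.germ ⊤ (genericPoint X) trivial s)
    simp only at hc
    have hc0 : c ≠ 0 := by
      rintro rfl
      rw [zero_smul] at hc
      exact hgermη hc.symm
    have hcu : IsUnit c := by
      letI : Field (X.presheaf.stalk (genericPoint X)) := inferInstanceAs (Field X.functionField)
      exact IsUnit.mk0 c hc0
    have hcomp : (fun a : X.presheaf.stalk (genericPoint X) =>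
        a • F.presheaf.germ ⊤ (genericPoint X) trivial s) =
        (fun a : X.presheaf.stalk (genericPoint X) => a • m₁) ∘ (fun a => a * c) := by
      funext a
      simp only [Function.comp_apply]
      rw [← hc, smul_smul]
    rw [hcomp]
    obtain ⟨uc, rfl⟩ := hcu
    exact hm₁.comp (Units.mulRight uc).bijective
  have hzη : z ≠ genericPoint X := by
    rintro rfl
    exact hz hηV
  have hnf : ¬ IsField (X.presheaf.stalk z) :=
    Groth.Agent.Lib.CodimOne13.not_isField_stalk_of_ne_genericPoint hzη
  haveI := (hX z).2
  have hdim2 : ¬ (2 : WithBot ℕ∞) ≤ ringKrullDim (X.presheaf.stalk z) := by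
    intro h2
    apply hz
    have hdepth := Groth.Agent.Lib.Refl53.two_le_depth_of_normal (X.presheaf.stalk z) h2
    haveI := htf z
    have hloc : ∀ (p : Ideal (X.presheaf.stalk z)), p.IsPrime →
        p ≠ IsLocalRing.maximalIdeal (X.presheaf.stalk z) →
        ∀ n : F.presheaf.stalk z, ∃ t ∉ p,
          t • n ∈ Submodule.span (X.presheaf.stalk z) {F.presheaf.germ ⊤ z trivial s} := by
      intro p hp hpm n'
      haveI := hp
      obtain ⟨x, hxz, hxne, hxu⟩ := exists_generization_of_prime z p hpm
      have hxV : Function.Bijective (fun a : X.presheaf.stalk x =>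
          a • F.presheaf.germ ⊤ x trivial s) := by
        by_contra hnb
        exact hxne (hmax x hnb hxz)
      obtain ⟨u, a, hu, hua⟩ := exists_smul_eq_smul_of_surjective F hxz
        (F.presheaf.germ ⊤ z trivial s) n' (by
          rw [germ_stalkSpecializes']
          exact hxV.2)
      refine ⟨u, hxu u hu, ?_⟩
      rw [hua]
      exact Submodule.smul_mem _ _ (Submodule.mem_span_singleton_self _)
    constructor
    · exact smul_left_injective _ (hgerm z)
    · intro n
      have hmem := mem_span_of_forall_prime hdepth (F.presheaf.germ ⊤ z trivial s) (hgerm z) hloc n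
      obtain ⟨a, ha⟩ := Submodule.mem_span_singleton.mp hmem
      exact ⟨a, ha⟩
  have hdim1 : ringKrullDim (X.presheaf.stalk z) ≤ 1 := by
    rw [← IsLocalRing.maximalIdeal_height_eq_ringKrullDim] at hdim2 ⊢
    have h' : ¬ (2 : ℕ∞) ≤ (IsLocalRing.maximalIdeal (X.presheaf.stalk z)).height := by
      intro h2
      exact hdim2 (WithBot.coe_le_coe.mpr h2)
    have h3 : (IsLocalRing.maximalIdeal (X.presheaf.stalk z)).height ≤ 1 := by
      rw [not_le] at h'
      exact Order.le_of_lt_add_one (by simpa [one_add_one_eq_two] using h')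
    exact_mod_cast h3
  exact Groth.Agent.Lib.CodimOne13.dim_eq_one_of_not_isField hdim1 hnf

end Groth.Agent.Lib.RefSec53
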