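import Mathlib.RingTheory.MvPolynomial.Ideal
import Mathlib.RingTheory.Polynomial.UniqueFactorization
import Mathlib.RingTheory.IntegralClosure.IntegrallyClosed
import Mathlib.RingTheory.Ideal.Quotient.Operations
import Groth.Agent.Lib.FTDim
import Groth.Agent.Lib.H77NagataGen

set_option autoImplicit false
universe u

namespace Groth.Agent.Lib.RefinedNN57

open MvPolynomial

section Kill

variable {σ : Type*} (R : Type*) [CommRing R] (s : Set σ) [DecidablePred (· ∈ s)]

/-- kill the variables in `s`. -/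
noncomputable def kill : MvPolynomial σ R →ₐ[R] MvPolynomial {i // i ∉ s} R :=
  aeval (fun i => if h : i ∈ s then 0 else X ⟨i, h⟩)

lemma kill_rename (p : MvPolynomial {i // i ∉ s} R) :
    kill R s (rename Subtype.val p) = p := by
  have : (kill R s).comp (rename Subtype.val) = AlgHom.id R _ := by
    ext i
    simp [kill, i.2]
  exact DFunLike.congr_fun this p

lemma kill_surjective : Function.Surjective (kill R s) := fun p => ⟨_, kill_rename R s p⟩

lemma sub_rename_kill_mem (p : MvPolynomial σ R) :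
    p - rename Subtype.val (kill R s p) ∈ Ideal.span (X '' s : Set (MvPolynomial σ R)) := by
  set J := Ideal.span (X '' s : Set (MvPolynomial σ R))
  have : (Ideal.Quotient.mkₐ R J).comp ((rename Subtype.val).comp (kill R s)) =
      Ideal.Quotient.mkₐ R J := by
    ext i
    by_cases h : i ∈ s
    · simp only [kill, AlgHom.coe_comp, Function.comp_apply, aeval_X, h, dite_true, map_zero]
      symm
      exact Ideal.Quotient.eq_zero_iff_mem.mpr (Ideal.subset_span ⟨i, h, rfl⟩)
    · simp [kill, h]
  have h2 := DFunLike.congr_fun this p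
  simp only [AlgHom.coe_comp, Function.comp_apply, Ideal.Quotient.mkₐ_eq_mk] at h2
  exact Ideal.Quotient.eq.mp h2.symm

lemma ker_kill : RingHom.ker (kill R s) =
    Ideal.span (X '' s : Set (MvPolynomial σ R)) := by
  apply le_antisymm
  · intro p hp
    have := sub_rename_kill_mem R s p
    rw [RingHom.mem_ker] at hp
    have hp' : kill R s p = 0 := hp
    rwa [hp', map_zero, sub_zero] at this
  · rw [Ideal.span_le]
    rintro _ ⟨i, hi, rfl⟩
    simp [RingHom.mem_ker, kill, show i ∈ s from hi]

lemma isPrime_span_X_image [IsDomain R] :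
    (Ideal.span (X '' s : Set (MvPolynomial σ R))).IsPrime := by
  rw [← ker_kill R s]
  exact RingHom.ker_isPrime _

/-- the quotient by the ideal of the variables in `s` is the polynomial ring in the others. -/
noncomputable def quotEquiv :
    (MvPolynomial σ R ⧸ Ideal.span (X '' s : Set (MvPolynomial σ R))) ≃ₐ[R]
      MvPolynomial {i // i ∉ s} R :=
  (Ideal.quotientEquivAlgOfEq R (ker_kill R s).symm).trans
    (Ideal.quotientKerAlgEquivOfSurjective (kill_surjective R s))

end Kill

section Field

variable {σ : Type*} (k : Type*) [Field k] (s : Set σ)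

lemma isIntegrallyClosed_quot :
    IsIntegrallyClosed (MvPolynomial σ k ⧸ Ideal.span (X '' s : Set (MvPolynomial σ k))) := by
  classical
  exact IsIntegrallyClosed.of_equiv (quotEquiv k s).symm.toRingEquiv

end Field

section I

variable (k : Type u) [Field k]

/-- the ideal `(T_l : l < j)` of `k[T_0, …, T_{d-1}]`. -/
noncomputable def I (d j : ℕ) : Ideal (MvPolynomial (Fin d) k) :=
  Ideal.span (X '' {l : Fin d | (l : ℕ) < j})

instance I_isPrime (d j : ℕ) : (I k d j).IsPrime := by
  classical
  exact isPrime_span_X_image k _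

lemma I_zero (d : ℕ) : I k d 0 = ⊥ := by
  simp [I]

lemma I_mono (d : ℕ) {j j' : ℕ} (hjj : j ≤ j') : I k d j ≤ I k d j' := by
  apply Ideal.span_mono
  apply Set.image_mono
  intro l hl
  exact lt_of_lt_of_le hl hjj

lemma X_mem_I (d j : ℕ) (l : Fin d) (hl : (l : ℕ) < j) : (X l : MvPolynomial (Fin d) k) ∈ I k d j :=
  Ideal.subset_span ⟨l, hl, rfl⟩

lemma X_notMem_I (d j : ℕ) (l : Fin d) (hl : j ≤ (l : ℕ)) : (X l : MvPolynomial (Fin d) k) ∉ I k d j := by
  classical
  intro hmem
  rw [I, mem_ideal_span_X_image] at hmem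
  obtain ⟨i, hi, hne⟩ := hmem (Finsupp.single l 1) (by
    rw [X, support_monomial]; simp)
  have : i = l := by
    by_contra hne'
    exact hne (by simp [Ne.symm hne'])
  subst this
  exact absurd hi (not_lt.mpr hl)

lemma I_lt (d : ℕ) {j : ℕ} (hj : j < d) : I k d j < I k d (j + 1) := by
  refine lt_of_le_of_ne (I_mono k d (Nat.le_succ j)) fun heq => ?_
  have h1 : (X ⟨j, hj⟩ : MvPolynomial (Fin d) k) ∈ I k d (j + 1) := X_mem_I k d _ _ (by simp)
  rw [← heq] at h1
  exact X_notMem_I k d j ⟨j, hj⟩ le_rfl h1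

lemma I_le_iff (d : ℕ) {a b : ℕ} (ha : a ≤ d) : I k d a ≤ I k d b ↔ a ≤ b := by
  refine ⟨fun hle => ?_, I_mono k d⟩
  by_contra hlt
  push Not at hlt
  have hbd : b < d := lt_of_lt_of_le hlt ha
  have h1 : (X ⟨b, hbd⟩ : MvPolynomial (Fin d) k) ∈ I k d a := X_mem_I k d _ _ hlt
  exact X_notMem_I k d b ⟨b, hbd⟩ le_rfl (hle h1)

end I

end Groth.Agent.Lib.RefinedNN57
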