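import Groth.Agent.Lib.RefinedNN57a

set_option autoImplicit false
universe u

namespace Groth.Agent.Lib.RefinedNN57

open MvPolynomial

section Ev0

variable (k : Type u) [Field k]

/-- `X 0 ↦ 0`, `X (i+1) ↦ X i`. -/
noncomputable def ev0 (n : ℕ) : MvPolynomial (Fin (n + 1)) k →ₐ[k] MvPolynomial (Fin n) k :=
  aeval (Fin.cons 0 X : Fin (n + 1) → MvPolynomial (Fin n) k)

/-- `X i ↦ X (i+1)`. -/
noncomputable def up (n : ℕ) : MvPolynomial (Fin n) k →ₐ[k] MvPolynomial (Fin (n + 1)) k :=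
  rename Fin.succ

@[simp] lemma ev0_X_zero (n : ℕ) : ev0 k n (X 0) = 0 := by simp [ev0]

@[simp] lemma ev0_X_succ (n : ℕ) (i : Fin n) : ev0 k n (X i.succ) = X i := by simp [ev0]

@[simp] lemma up_X (n : ℕ) (i : Fin n) : up k n (X i) = X i.succ := by simp [up]

lemma ev0_comp_up (n : ℕ) : (ev0 k n).comp (up k n) = AlgHom.id k _ := by
  ext i
  simp

lemma ev0_up (n : ℕ) (p : MvPolynomial (Fin n) k) : ev0 k n (up k n p) = p :=
  DFunLike.congr_fun (ev0_comp_up k n) p

lemma ev0_surjective (n : ℕ) : Function.Surjective (ev0 k n) := fun p => ⟨_, ev0_up k n p⟩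

lemma sub_up_ev0_mem (n : ℕ) (p : MvPolynomial (Fin (n + 1)) k) :
    p - up k n (ev0 k n p) ∈ Ideal.span {(X 0 : MvPolynomial (Fin (n + 1)) k)} := by
  set J := Ideal.span {(X 0 : MvPolynomial (Fin (n + 1)) k)}
  have : (Ideal.Quotient.mkₐ k J).comp ((up k n).comp (ev0 k n)) = Ideal.Quotient.mkₐ k J := by
    ext i
    refine Fin.cases ?_ (fun i => ?_) i
    · simp only [AlgHom.coe_comp, Function.comp_apply, ev0_X_zero, map_zero]
      symm
      exact Ideal.Quotient.eq_zero_iff_mem.mpr (Ideal.subset_span rfl)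
    · simp
  have h2 := DFunLike.congr_fun this p
  simp only [AlgHom.coe_comp, Function.comp_apply, Ideal.Quotient.mkₐ_eq_mk] at h2
  exact Ideal.Quotient.eq.mp h2.symm

lemma ker_ev0 (n : ℕ) : RingHom.ker (ev0 k n) = Ideal.span {(X 0 : MvPolynomial (Fin (n + 1)) k)} := by
  apply le_antisymm
  · intro p hp
    have := sub_up_ev0_mem k n p
    have hp' : ev0 k n p = 0 := hp
    rwa [hp', map_zero, sub_zero] at this
  · rw [Ideal.span_le]
    rintro _ rfl
    simp [RingHom.mem_ker]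

lemma comap_ev0_I (n j : ℕ) : (I k n j).comap (ev0 k n) = I k (n + 1) (j + 1) := by
  apply le_antisymm
  · intro x hx
    rw [Ideal.mem_comap] at hx
    have h1 : x - up k n (ev0 k n x) ∈ I k (n + 1) (j + 1) := by
      refine (Ideal.span_le.mpr ?_) (sub_up_ev0_mem k n x)
      rintro _ rfl
      exact X_mem_I k _ _ 0 (by simp)
    have h2 : up k n (ev0 k n x) ∈ I k (n + 1) (j + 1) := by
      have hmap : Ideal.map (up k n) (I k n j) ≤ I k (n + 1) (j + 1) := by
        rw [I, Ideal.map_span, Ideal.span_le]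
        rintro _ ⟨_, ⟨l, hl, rfl⟩, rfl⟩
        rw [up_X]
        exact X_mem_I k _ _ _ (by simpa using hl)
      exact hmap (Ideal.mem_map_of_mem _ hx)
    have := add_mem h1 h2
    rwa [sub_add_cancel] at this
  · rw [I, Ideal.span_le]
    rintro _ ⟨l, hl, rfl⟩
    rw [SetLike.mem_coe, Ideal.mem_comap]
    refine Fin.cases ?_ (fun l hl => ?_) l hl
    · intro _
      simp
    · rw [ev0_X_succ]
      exact X_mem_I k _ _ _ (by simpa using hl)

end Ev0

end Groth.Agent.Lib.RefinedNN57
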