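import Groth.Agent.Lib.RefinedNN57b

set_option autoImplicit false
universe u

namespace Groth.Agent.Lib.RefinedNN57

open MvPolynomial

section Dim

variable {P P' : Type u} [CommRing P] [IsDomain P] [CommRing P']

/-- In a domain of finite dimension `n`, an ideal whose quotient still has dimension `n` is zero. -/
lemma eq_bot_of_ringKrullDim_quotient_eq (n : ℕ) (hP : ringKrullDim P = n) (p : Ideal P)
    (hp : ringKrullDim (P ⧸ p) = n) : p = ⊥ := by
  by_contra hne
  obtain ⟨x, hx, hx0⟩ := Submodule.exists_mem_ne_zero_of_ne_bot hne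
  have := ringKrullDim_succ_le_of_surjective (Ideal.Quotient.mk p) Ideal.Quotient.mk_surjective
    (mem_nonZeroDivisors_of_ne_zero hx0) (Ideal.Quotient.eq_zero_iff_mem.mpr hx)
  rw [hP, hp] at this
  have h2 : ((n + 1 : ℕ) : WithBot ℕ∞) ≤ (n : ℕ) := by exact_mod_cast this
  have h3 : (n + 1 : ℕ) ≤ n := by exact_mod_cast h2
  omega

/-- An integral ring map between rings of the same finite dimension, from a domain, is injective. -/
lemma injective_of_isIntegral_of_dim_eq (n : ℕ) (hP : ringKrullDim P = n)
    (hP' : ringKrullDim P' = n) (θ : P →+* P') (hθ : θ.IsIntegral) : Function.Injective θ := by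
  rw [injective_iff_map_eq_zero]
  intro x hx
  by_contra hx0
  let θ' : P ⧸ Ideal.span {x} →+* P' := Ideal.Quotient.lift _ θ (by
    intro a ha
    obtain ⟨b, rfl⟩ := Ideal.mem_span_singleton'.mp ha
    rw [map_mul, hx, mul_zero])
  have hθ' : θ'.IsIntegral := by
    have : θ = θ'.comp (Ideal.Quotient.mk _) := by
      ext a; simp [θ']
    rw [this] at hθ
    exact RingHom.IsIntegral.tower_top _ _ hθ
  letI := θ'.toAlgebra
  haveI : Algebra.IsIntegral (P ⧸ Ideal.span {x}) P' := ⟨hθ'⟩
  have h1 := Groth.Agent.S2680.ringKrullDim_le_of_isIntegral (P ⧸ Ideal.span {x}) P'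
  have h2 := ringKrullDim_quotient_succ_le_of_nonZeroDivisor (mem_nonZeroDivisors_of_ne_zero hx0)
  rw [hP] at h2
  rw [hP'] at h1
  have h3 : ((n : ℕ) : WithBot ℕ∞) + 1 ≤ n := le_trans (by gcongr) h2
  have h4 : ((n + 1 : ℕ) : WithBot ℕ∞) ≤ (n : ℕ) := by exact_mod_cast h3
  have h5 : (n + 1 : ℕ) ≤ n := by exact_mod_cast h4
  omega

end Dim

end Groth.Agent.Lib.RefinedNN57

namespace Groth.Agent.Lib.RefinedNN57

open MvPolynomial

section Nagata

variable (k : Type u) [Field k]

lemma finite_of_isIntegral {P P' : Type*} [CommRing P] [CommRing P'] [Algebra k P] [Algebra k P']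
    [Algebra.FiniteType k P'] (θ : P →ₐ[k] P') (h : θ.toRingHom.IsIntegral) :
    θ.toRingHom.Finite := by
  have hc : algebraMap k P' = θ.toRingHom.comp (algebraMap k P) := (θ.comp_algebraMap).symm
  exact h.to_finite ((hc ▸ RingHom.finiteType_algebraMap.mpr inferInstance).of_comp_finiteType)

lemma isIntegral_of_X {P : Type*} [CommRing P] [Algebra k P] {τ : Type*}
    (θ : P →ₐ[k] MvPolynomial τ k) (h : ∀ i, θ.toRingHom.IsIntegralElem (X i)) :
    θ.toRingHom.IsIntegral := by
  intro x
  induction x using MvPolynomial.induction_on with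
  | C a =>
    have : (C a : MvPolynomial τ k) = θ.toRingHom (algebraMap k P a) := by
      simp [MvPolynomial.algebraMap_eq]
    rw [this]
    exact θ.toRingHom.isIntegralElem_map
  | add p q hp hq => exact RingHom.IsIntegralElem.add _ hp hq
  | mul_X p i hp => exact RingHom.IsIntegralElem.mul _ hp (h i)

lemma eval₂_rename_succ_finSuccEquiv (n : ℕ) (q : MvPolynomial (Fin (n + 1)) k) :
    Polynomial.eval₂ (rename Fin.succ : MvPolynomial (Fin n) k →ₐ[k] _).toRingHom (X 0)
      (finSuccEquiv k n q) = q := by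
  induction q using MvPolynomial.induction_on with
  | C a => simp [finSuccEquiv_apply]
  | add p q hp hq => simp only [map_add, Polynomial.eval₂_add, hp, hq]
  | mul_X p i hp =>
    rw [map_mul, Polynomial.eval₂_mul, hp]
    congr 1
    refine Fin.cases ?_ (fun i => ?_) i
    · simp [finSuccEquiv_X_zero]
    · simp [finSuccEquiv_X_succ]

/-- **Nagata's lemma**: a nonzero nonunit `f` of `k[X_0, …, X_n]` is the first member of a system
of parameters: there is a finite injective `k`-algebra endomorphism sending `X_0` to `f`. -/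
theorem exists_finite_inj_X0 (n : ℕ) (f : MvPolynomial (Fin (n + 1)) k) (hf0 : f ≠ 0)
    (hfu : ¬ IsUnit f) :
    ∃ θ : MvPolynomial (Fin (n + 1)) k →ₐ[k] MvPolynomial (Fin (n + 1)) k,
      θ (X 0) = f ∧ θ.toRingHom.IsIntegral ∧ Function.Injective θ := by
  classical
  obtain ⟨T, v, hv, hlead⟩ := Groth.Agent.Lib.H77NagataGen.exists_algEquiv_leadingCoeff f hf0
  set g := T f with hg
  set G := finSuccEquiv k n g with hG
  set c := coeff v f with hc
  have hc0 : c ≠ 0 := mem_support_iff.mp hv
  have hdeg : 1 ≤ G.natDegree := by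
    by_contra hlt
    have h0 : G.natDegree = 0 := by omega
    have hGC : G = Polynomial.C (C c) := by
      rw [Polynomial.eq_C_of_natDegree_eq_zero h0]
      congr 1
      rw [← hlead, Polynomial.leadingCoeff, h0]
    have hgc : g = C c := by
      apply (finSuccEquiv k n).injective
      rw [← hG, hGC]
      simp [finSuccEquiv_apply]
    have hfc : f = C c := by
      have h1 := congrArg T.symm hgc
      rw [hg, AlgEquiv.symm_apply_apply] at h1
      rw [h1]
      simpa [MvPolynomial.algebraMap_eq] using T.symm.commutes c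
    exact hfu (hfc ▸ (IsUnit.mk0 c hc0).map C)
  let ι : MvPolynomial (Fin n) k →ₐ[k] MvPolynomial (Fin (n + 1)) k := rename Fin.succ
  let θ' : MvPolynomial (Fin (n + 1)) k →ₐ[k] MvPolynomial (Fin (n + 1)) k :=
    aeval (Fin.cons g (fun i => X i.succ) : Fin (n + 1) → MvPolynomial (Fin (n + 1)) k)
  have hθ'0 : θ' (X 0) = g := by simp [θ']
  have hθ's : ∀ i : Fin n, θ' (X i.succ) = X i.succ := by intro i; simp [θ']
  have hθ'ι : θ'.toRingHom.comp ι.toRingHom = ι.toRingHom := by
    have : θ'.comp ι = ι := by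
      ext i
      simp [θ', ι]
    exact congrArg AlgHom.toRingHom this
  have hιinj : Function.Injective ι.toRingHom := rename_injective _ (Fin.succ_injective n)
  have hint' : θ'.toRingHom.IsIntegral := by
    apply isIntegral_of_X
    intro i
    refine Fin.cases ?_ (fun i => ?_) i
    · have hdeglt : (Polynomial.C (X 0 : MvPolynomial (Fin (n + 1)) k)).degree <
          (G.map ι.toRingHom).degree := by
        refine lt_of_le_of_lt Polynomial.degree_C_le ?_
        rw [Polynomial.degree_map_eq_of_injective hιinj]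
        exact Polynomial.natDegree_pos_iff_degree_pos.mp hdeg
      refine ⟨Polynomial.C (C c⁻¹) * (G.map ι.toRingHom - Polynomial.C (X 0)), ?_, ?_⟩
      · apply Polynomial.monic_C_mul_of_mul_leadingCoeff_eq_one
        rw [Polynomial.leadingCoeff_sub_of_degree_lt hdeglt,
          Polynomial.leadingCoeff_map_of_injective hιinj, hlead]
        have : ι.toRingHom (C c) = C c := by simp [ι]
        rw [this, ← C_mul, inv_mul_cancel₀ hc0, C_1]
      · rw [Polynomial.eval₂_mul, Polynomial.eval₂_sub, Polynomial.eval₂_map, hθ'ι]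
        simp only [Polynomial.eval₂_C]
        have h1 := eval₂_rename_succ_finSuccEquiv k n g
        have h2 : θ'.toRingHom (X 0) = g := hθ'0
        rw [h2]
        change _ * (Polynomial.eval₂ (rename Fin.succ : MvPolynomial (Fin n) k →ₐ[k] _).toRingHom
          (X 0) (finSuccEquiv k n g) - g) = 0
        rw [h1, sub_self, mul_zero]
    · have : (X i.succ : MvPolynomial (Fin (n + 1)) k) = θ'.toRingHom (X i.succ) := (hθ's i).symm
      rw [this]
      exact θ'.toRingHom.isIntegralElem_map
  let θ : MvPolynomial (Fin (n + 1)) k →ₐ[k] MvPolynomial (Fin (n + 1)) k :=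
    (T.symm : _ →ₐ[k] _).comp θ'
  have hint : θ.toRingHom.IsIntegral := by
    have : θ.toRingHom = (T.symm : _ →ₐ[k] _).toRingHom.comp θ'.toRingHom := rfl
    rw [this]
    exact RingHom.IsIntegral.trans _ _ hint' (RingHom.isIntegral_of_surjective _ T.symm.surjective)
  refine ⟨θ, ?_, hint, ?_⟩
  · change T.symm (θ' (X 0)) = f
    rw [hθ'0, hg, AlgEquiv.symm_apply_apply]
  · exact injective_of_isIntegral_of_dim_eq (n + 1)
      (by exact_mod_cast Groth.Agent.Lib.FTDim.ringKrullDim_mvPolynomial k (n + 1))
      (by exact_mod_cast Groth.Agent.Lib.FTDim.ringKrullDim_mvPolynomial k (n + 1)) θ.toRingHom hint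

end Nagata

end Groth.Agent.Lib.RefinedNN57
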