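import Groth.Agent.Lib.RefinedNN57c

set_option autoImplicit false
universe u

namespace Groth.Agent.Lib.RefinedNN57

open MvPolynomial

section QuotDim

variable {R S : Type u} [CommRing R] [CommRing S]

lemma ringKrullDim_quotient_comap_of_surjective (f : R →+* S) (hf : Function.Surjective f)
    (J : Ideal S) : ringKrullDim (R ⧸ J.comap f) = ringKrullDim (S ⧸ J) :=
  ringKrullDim_eq_of_ringEquiv (RingEquiv.ofBijective (Ideal.quotientMap J f le_rfl)
    ⟨Ideal.quotientMap_injective, Ideal.quotientMap_surjective hf⟩)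

lemma ringKrullDim_quotient_comap_of_isIntegral (f : R →+* S) (hf : f.IsIntegral)
    (J : Ideal S) : ringKrullDim (R ⧸ J.comap f) = ringKrullDim (S ⧸ J) := by
  letI := (Ideal.quotientMap J f le_rfl).toAlgebra
  have : Algebra.IsIntegral (R ⧸ J.comap f) (S ⧸ J) := ⟨RingHom.IsIntegral.quotient f hf⟩
  exact Groth.Agent.Lib.FTDim.ringKrullDim_eq_of_isIntegral_of_injective
    (Ideal.quotientMap_injective (I := J) (f := f))

end QuotDim

section Main

variable (k : Type u) [Field k]

lemma dimP (d : ℕ) : ringKrullDim (MvPolynomial (Fin d) k) = (d : ℕ) := by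
  exact_mod_cast Groth.Agent.Lib.FTDim.ringKrullDim_mvPolynomial k d

/-- primes of maximal quotient dimension are zero -/
lemma eq_bot_of_h_eq_zero (d : ℕ) (p : Ideal (MvPolynomial (Fin d) k)) (h : ℕ) (h0 : h = 0)
    (hdim : ringKrullDim (MvPolynomial (Fin d) k ⧸ p) = ((d - h : ℕ) : WithBot ℕ∞)) : p = ⊥ := by
  subst h0
  exact eq_bot_of_ringKrullDim_quotient_eq d (dimP k d) p (by simpa using hdim)

lemma h_eq_zero_of_eq_bot (d : ℕ) (p : Ideal (MvPolynomial (Fin d) k)) (h : ℕ) (hh : h ≤ d)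
    (hp : p = ⊥)
    (hdim : ringKrullDim (MvPolynomial (Fin d) k ⧸ p) = ((d - h : ℕ) : WithBot ℕ∞)) : h = 0 := by
  subst hp
  rw [← ringKrullDim_eq_of_ringEquiv (RingEquiv.quotientBot (MvPolynomial (Fin d) k)).symm,
    dimP] at hdim
  have h1 : (d : WithBot ℕ∞) = ((d - h : ℕ) : WithBot ℕ∞) := hdim
  have h2 : d = d - h := by exact_mod_cast h1
  omega

lemma trivial_case (d r : ℕ) (p : Fin r → Ideal (MvPolynomial (Fin d) k)) (h : Fin r → ℕ)
    (hdim : ∀ i, ringKrullDim (MvPolynomial (Fin d) k ⧸ p i) = ((d - h i : ℕ) : WithBot ℕ∞))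
    (h0 : ∀ i, h i = 0) :
    ∃ θ : MvPolynomial (Fin d) k →ₐ[k] MvPolynomial (Fin d) k,
      θ.toRingHom.IsIntegral ∧ Function.Injective θ ∧ ∀ i, (p i).comap θ = I k d (h i) := by
  refine ⟨AlgHom.id k _, RingHom.isIntegral_of_surjective _ Function.surjective_id,
    Function.injective_id, fun i => ?_⟩
  rw [h0 i, I_zero, eq_bot_of_h_eq_zero k d (p i) (h i) (h0 i) (hdim i)]
  exact Ideal.comap_bot_of_injective _ Function.injective_id

/-- the endomorphism `X 0 ↦ X 0`, `X (i+1) ↦ up (θ' (X i))`. -/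
noncomputable def ext0 (n : ℕ) (θ' : MvPolynomial (Fin n) k →ₐ[k] MvPolynomial (Fin n) k) :
    MvPolynomial (Fin (n + 1)) k →ₐ[k] MvPolynomial (Fin (n + 1)) k :=
  aeval (Fin.cons (X 0) (fun i => up k n (θ' (X i))) : Fin (n + 1) → MvPolynomial (Fin (n + 1)) k)

lemma ext0_X_zero (n : ℕ) (θ' : MvPolynomial (Fin n) k →ₐ[k] MvPolynomial (Fin n) k) :
    ext0 k n θ' (X 0) = X 0 := by simp [ext0]

lemma ext0_X_succ (n : ℕ) (θ' : MvPolynomial (Fin n) k →ₐ[k] MvPolynomial (Fin n) k) (i : Fin n) :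
    ext0 k n θ' (X i.succ) = up k n (θ' (X i)) := by simp [ext0]

lemma ev0_comp_ext0 (n : ℕ) (θ' : MvPolynomial (Fin n) k →ₐ[k] MvPolynomial (Fin n) k) :
    (ev0 k n).comp (ext0 k n θ') = θ'.comp (ev0 k n) := by
  ext i
  refine Fin.cases ?_ (fun i => ?_) i
  · simp [ext0_X_zero]
  · simp [ext0_X_succ, ev0_up]

lemma ext0_comp_up (n : ℕ) (θ' : MvPolynomial (Fin n) k →ₐ[k] MvPolynomial (Fin n) k) :
    (ext0 k n θ').comp (up k n) = (up k n).comp θ' := by
  ext i
  simp [ext0_X_succ]

lemma ext0_isIntegral (n : ℕ) (θ' : MvPolynomial (Fin n) k →ₐ[k] MvPolynomial (Fin n) k)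
    (hθ' : θ'.toRingHom.IsIntegral) : (ext0 k n θ').toRingHom.IsIntegral := by
  apply isIntegral_of_X
  intro i
  refine Fin.cases ?_ (fun i => ?_) i
  · have : (X 0 : MvPolynomial (Fin (n + 1)) k) = (ext0 k n θ').toRingHom (X 0) :=
      (ext0_X_zero k n θ').symm
    rw [this]
    exact (ext0 k n θ').toRingHom.isIntegralElem_map
  · obtain ⟨q, hq, hq0⟩ := hθ' (X i)
    refine ⟨q.map (up k n).toRingHom, hq.map _, ?_⟩
    rw [Polynomial.eval₂_map]
    have h1 : (ext0 k n θ').toRingHom.comp (up k n).toRingHom =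
        (up k n).toRingHom.comp θ'.toRingHom :=
      congrArg AlgHom.toRingHom (ext0_comp_up k n θ')
    rw [h1]
    have h2 : (X i.succ : MvPolynomial (Fin (n + 1)) k) = (up k n).toRingHom (X i) := by
      simp
    rw [h2, ← Polynomial.hom_eval₂, hq0, map_zero]

lemma comap_algHom_comp {A B C : Type*} [CommRing A] [CommRing B] [CommRing C] [Algebra k A]
    [Algebra k B] [Algebra k C] (f : A →ₐ[k] B) (g : B →ₐ[k] C) (J : Ideal C) :
    J.comap (g.comp f) = (J.comap g).comap f := rfl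

/-- **Refined Noether normalization in a polynomial ring**, adapted to a chain of primes. -/
theorem exists_adapted_poly : ∀ (d : ℕ) (r : ℕ) (p : Fin r → Ideal (MvPolynomial (Fin d) k))
    (_ : ∀ i, (p i).IsPrime) (_ : Monotone p) (h : Fin r → ℕ) (_ : ∀ i, h i ≤ d)
    (_ : ∀ i, ringKrullDim (MvPolynomial (Fin d) k ⧸ p i) = ((d - h i : ℕ) : WithBot ℕ∞)),
    ∃ θ : MvPolynomial (Fin d) k →ₐ[k] MvPolynomial (Fin d) k,
      θ.toRingHom.IsIntegral ∧ Function.Injective θ ∧ ∀ i, (p i).comap θ = I k d (h i) := by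
  intro d
  induction d with
  | zero =>
    intro r p hp hmono h hh hdim
    exact trivial_case k 0 r p h hdim (fun i => Nat.le_zero.mp (hh i))
  | succ n ih =>
    intro r p hp hmono h hh hdim
    classical
    by_cases hS : ∀ i, h i = 0
    · exact trivial_case k (n + 1) r p h hdim hS
    push Not at hS
    obtain ⟨j, hj⟩ := hS
    obtain ⟨i₀, hi₀, hmin⟩ := Finset.exists_min_image (Finset.univ.filter (fun i => h i ≠ 0))
      (fun i => i) ⟨j, by simp [hj]⟩
    simp only [Finset.mem_filter, Finset.mem_univ, true_and] at hi₀ hmin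
    have hne : p i₀ ≠ ⊥ := fun hbot =>
      hi₀ (h_eq_zero_of_eq_bot k (n + 1) (p i₀) (h i₀) (hh i₀) hbot (hdim i₀))
    obtain ⟨f, hf, hf0⟩ := Submodule.exists_mem_ne_zero_of_ne_bot hne
    have hfu : ¬ IsUnit f := fun hu => (hp i₀).ne_top (Ideal.eq_top_of_isUnit_mem _ hf hu)
    obtain ⟨θ₁, hθ₁0, hθ₁int, hθ₁inj⟩ := exists_finite_inj_X0 k n f hf0 hfu
    -- contracted primes
    set p' : Fin r → Ideal (MvPolynomial (Fin (n + 1)) k) := fun i => (p i).comap θ₁ with hp'
    set p'' : Fin r → Ideal (MvPolynomial (Fin n) k) := fun i => (p' i).map (ev0 k n) with hp''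
    have hbot : ∀ i, h i = 0 → p i = ⊥ := fun i hi =>
      eq_bot_of_h_eq_zero k (n + 1) (p i) (h i) hi (hdim i)
    have hbot' : ∀ i, h i = 0 → p' i = ⊥ := fun i hi => by
      rw [hp']
      simp only
      rw [hbot i hi]
      exact Ideal.comap_bot_of_injective _ hθ₁inj
    have hbot'' : ∀ i, h i = 0 → p'' i = ⊥ := fun i hi => by
      rw [hp'']
      simp only
      rw [hbot' i hi, Ideal.map_bot]
    have hX0 : ∀ i, h i ≠ 0 → (X 0 : MvPolynomial (Fin (n + 1)) k) ∈ p' i := fun i hi => by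
      rw [hp']
      simp only [Ideal.mem_comap]
      rw [hθ₁0]
      exact hmono (hmin i hi) hf
    have hker : ∀ i, h i ≠ 0 → RingHom.ker (ev0 k n) ≤ p' i := fun i hi => by
      rw [ker_ev0, Ideal.span_le]
      rintro _ rfl
      exact hX0 i hi
    have hp'prime : ∀ i, (p' i).IsPrime := fun i => Ideal.comap_isPrime θ₁ (p i)
    have hcm : ∀ i, h i ≠ 0 → (p'' i).comap (ev0 k n) = p' i := fun i hi => by
      rw [hp'']
      simp only
      rw [Ideal.comap_map_of_surjective _ (ev0_surjective k n), sup_eq_left]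
      exact hker i hi
    have hp''prime : ∀ i, (p'' i).IsPrime := fun i => by
      by_cases hi : h i = 0
      · rw [hbot'' i hi]
        exact Ideal.isPrime_bot
      · exact Ideal.map_isPrime_of_surjective (ev0_surjective k n) (hker i hi)
    have hmono'' : Monotone p'' := fun a b hab =>
      Ideal.map_mono (Ideal.comap_mono (hmono hab))
    have hdim'' : ∀ i, ringKrullDim (MvPolynomial (Fin n) k ⧸ p'' i) =
        ((n - (h i - 1) : ℕ) : WithBot ℕ∞) := fun i => by
      by_cases hi : h i = 0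
      · rw [hbot'' i hi, hi,
          ← ringKrullDim_eq_of_ringEquiv (RingEquiv.quotientBot (MvPolynomial (Fin n) k)).symm,
          dimP]
        simp
      · have e1 := ringKrullDim_quotient_comap_of_surjective (ev0 k n).toRingHom
          (ev0_surjective k n) (p'' i)
        have e2 := ringKrullDim_quotient_comap_of_isIntegral θ₁.toRingHom hθ₁int (p i)
        have e3 : (p'' i).comap (ev0 k n).toRingHom = p' i := hcm i hi
        rw [e3] at e1
        rw [← e1]
        have e4 : (p i).comap θ₁.toRingHom = p' i := rfl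
        rw [e4] at e2
        rw [e2, hdim i]
        have hh' := hh i
        have : n + 1 - h i = n - (h i - 1) := by omega
        rw [this]
    obtain ⟨θ', hθ'int, hθ'inj, hθ'c⟩ := ih r p'' hp''prime hmono'' (fun i => h i - 1)
      (fun i => by have := hh i; omega) hdim''
    set θ₂ := ext0 k n θ' with hθ₂
    have hθ₂int : θ₂.toRingHom.IsIntegral := ext0_isIntegral k n θ' hθ'int
    have hθ₂inj : Function.Injective θ₂ :=
      injective_of_isIntegral_of_dim_eq (n + 1) (dimP k (n + 1)) (dimP k (n + 1)) θ₂.toRingHom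
        hθ₂int
    refine ⟨θ₁.comp θ₂, ?_, hθ₁inj.comp hθ₂inj, fun i => ?_⟩
    · exact RingHom.IsIntegral.trans _ _ hθ₂int hθ₁int
    · rw [comap_algHom_comp]
      by_cases hi : h i = 0
      · rw [hbot i hi, hi, I_zero]
        have h1 : (⊥ : Ideal (MvPolynomial (Fin (n + 1)) k)).comap θ₁ = ⊥ :=
          Ideal.comap_bot_of_injective _ hθ₁inj
        rw [h1]
        exact Ideal.comap_bot_of_injective _ hθ₂inj
      · change (p' i).comap θ₂ = _
        rw [← hcm i hi, ← comap_algHom_comp, hθ₂, ev0_comp_ext0, comap_algHom_comp, hθ'c i,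
          comap_ev0_I]
        congr 1
        omega

end Main

end Groth.Agent.Lib.RefinedNN57
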