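import Groth.Agent.Lib.RefinedNN57d
import Mathlib.RingTheory.IntegralClosure.GoingDown

set_option autoImplicit false
universe u

namespace Groth.Agent.Lib.RefinedNN57

open MvPolynomial

section GoingDown

variable {R A : Type u} [CommRing R] [CommRing A] [Algebra R A] [Algebra.IsIntegral R A]

/-- Relative going-down: going down between `𝔮 ⊆ Q'` when `R / (𝔮 ∩ R)` is integrally closed. -/
lemma exists_between (𝔮 Q' : Ideal A) [𝔮.IsPrime] [Q'.IsPrime] (h𝔮Q : 𝔮 ≤ Q') (P : Ideal R)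
    [P.IsPrime] (hnorm : IsIntegrallyClosed (R ⧸ 𝔮.under R)) (h1 : 𝔮.under R ≤ P)
    (h2 : P ≤ Q'.under R) :
    ∃ Q : Ideal A, Q.IsPrime ∧ 𝔮 ≤ Q ∧ Q ≤ Q' ∧ Q.under R = P := by
  set p₀ := 𝔮.under R with hp₀
  have hker𝔮 : RingHom.ker (Ideal.Quotient.mk 𝔮) ≤ Q' := by rwa [Ideal.mk_ker]
  have hkerp : RingHom.ker (Ideal.Quotient.mk p₀) ≤ P := by rwa [Ideal.mk_ker]
  have hQ''prime : (Q'.map (Ideal.Quotient.mk 𝔮)).IsPrime :=
    Ideal.map_isPrime_of_surjective Ideal.Quotient.mk_surjective hker𝔮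
  have hP''prime : (P.map (Ideal.Quotient.mk p₀)).IsPrime :=
    Ideal.map_isPrime_of_surjective Ideal.Quotient.mk_surjective hkerp
  have hle : P.map (Ideal.Quotient.mk p₀) ≤ (Q'.map (Ideal.Quotient.mk 𝔮)).under (R ⧸ p₀) := by
    rw [Ideal.map_le_iff_le_comap]
    intro y hy
    rw [Ideal.mem_comap, Ideal.mem_comap, Ideal.Quotient.algebraMap_mk_of_liesOver]
    exact Ideal.mem_map_of_mem _ (h2 hy)
  obtain ⟨Pp, hPpQ, hPpprime, hPplo⟩ := Ideal.exists_ideal_le_liesOver_of_le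
    (Q'.map (Ideal.Quotient.mk 𝔮)) hle
  refine ⟨Pp.comap (Ideal.Quotient.mk 𝔮), Ideal.comap_isPrime _ _, ?_, ?_, ?_⟩
  · intro x hx
    rw [Ideal.mem_comap, Ideal.Quotient.eq_zero_iff_mem.mpr hx]
    exact Pp.zero_mem
  · intro x hx
    have h3 : x ∈ (Q'.map (Ideal.Quotient.mk 𝔮)).comap (Ideal.Quotient.mk 𝔮) := hPpQ hx
    rw [Ideal.comap_map_of_surjective _ Ideal.Quotient.mk_surjective, ← RingHom.ker_eq_comap_bot,
      sup_eq_left.mpr hker𝔮] at h3
    exact h3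
  · ext x
    rw [Ideal.mem_comap, Ideal.mem_comap, ← Ideal.Quotient.algebraMap_mk_of_liesOver 𝔮 p₀,
      ← Ideal.mem_comap, ← Ideal.under_def, ← Pp.over_def (P.map (Ideal.Quotient.mk p₀)),
      ← Ideal.mem_comap, Ideal.comap_map_of_surjective _ Ideal.Quotient.mk_surjective,
      ← RingHom.ker_eq_comap_bot, sup_eq_left.mpr hkerp]

/-- Extending a chain of primes of `A` lying over members of a flag `J 0 < J 1 < … < J d` of primes
of `R` (with integrally closed quotients) to a full chain lying over the flag. -/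
theorem exists_chain_abstract [IsDomain A] (hinj : Function.Injective (algebraMap R A))
    (d : ℕ) (J : ℕ → Ideal R) (hJprime : ∀ j, (J j).IsPrime) (hJmono : Monotone J)
    (hJlt : ∀ j < d, J j ≠ J (j + 1)) (hJ0 : J 0 = ⊥)
    (hJnorm : ∀ a, IsIntegrallyClosed (R ⧸ J a))
    (r : ℕ) (q : Fin r → PrimeSpectrum A) (hq : Monotone q) (h : Fin r → ℕ)
    (hc : ∀ i, (q i).asIdeal.under R = J (h i)) :
    ∃ Q : ℕ → PrimeSpectrum A, (∀ j ≤ d, (Q j).asIdeal.under R = J j) ∧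
      (∀ j < d, Q j < Q (j + 1)) ∧ ∀ i, h i ≤ d → Q (h i) = q i := by
  classical
  -- (E1)
  have E1 : ∀ i i', h i' ≤ h i → q i' ≤ q i := by
    intro i i' hle
    by_contra hnle
    have hlt : i < i' := by
      by_contra hge
      exact hnle (hq (not_lt.mp hge))
    have h1 : q i ≤ q i' := hq hlt.le
    have h2 : (q i).asIdeal < (q i').asIdeal := lt_of_le_of_ne h1 (fun heq => hnle (by
      have : q i = q i' := PrimeSpectrum.ext heq
      rw [this]))
    have h3 := Ideal.IsIntegral.comap_lt_comap (R := R) h2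
    have h4 : J (h i) < J (h i') := by
      rw [← hc i, ← hc i']
      exact h3
    exact absurd (hJmono hle) (not_le_of_gt h4)
  -- invariant
  let Inv : ℕ → PrimeSpectrum A → Prop := fun j Q =>
    Q.asIdeal.under R = J j ∧ (∀ i, h i ≤ j → q i ≤ Q) ∧ (∀ i, h i = j → Q = q i)
  have InvOfEq : ∀ j i, h i = j → Inv j (q i) := by
    intro j i hi
    refine ⟨hi ▸ hc i, fun i' hi' => E1 i i' (hi ▸ hi'), fun i' hi' => ?_⟩
    exact le_antisymm (E1 i' i (by omega)) (E1 i i' (by omega))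
  -- floor
  have floor : ∀ j, ∃ 𝔮 : PrimeSpectrum A, (∃ a ≤ j, 𝔮.asIdeal.under R = J a) ∧
      (∀ i, h i ≤ j → q i ≤ 𝔮) ∧ (∀ Q : PrimeSpectrum A, (∀ i, h i ≤ j → q i ≤ Q) → 𝔮 ≤ Q) := by
    intro j
    by_cases hS : (Finset.univ.filter (fun i => h i ≤ j)).Nonempty
    · obtain ⟨i₁, hi₁, hmax⟩ := Finset.exists_max_image _ (fun i : Fin r => i) hS
      simp only [Finset.mem_filter, Finset.mem_univ, true_and] at hi₁ hmax
      exact ⟨q i₁, ⟨h i₁, hi₁, hc i₁⟩, fun i hi => hq (hmax i hi), fun Q hQ => hQ i₁ hi₁⟩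
    · rw [Finset.not_nonempty_iff_eq_empty, Finset.filter_eq_empty_iff] at hS
      refine ⟨⟨⊥, Ideal.isPrime_bot⟩, ⟨0, Nat.zero_le _, ?_⟩, fun i hi => ?_, fun Q _ => ?_⟩
      · rw [hJ0]
        exact Ideal.comap_bot_of_injective _ hinj
      · exact absurd hi (hS (Finset.mem_univ i))
      · exact (bot_le : (⊥ : Ideal A) ≤ Q.asIdeal)
  -- top
  have top : ∃ Q, Inv d Q := by
    by_cases hex : ∃ i, h i = d
    · obtain ⟨i, hi⟩ := hex
      exact ⟨q i, InvOfEq d i hi⟩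
    · obtain ⟨𝔮, ⟨a, ha, h𝔮a⟩, h𝔮1, -⟩ := floor d
      haveI := hJprime d
      obtain ⟨Q, hQ𝔮, hQprime, hQc⟩ := Ideal.exists_ideal_over_prime_of_isIntegral (J d) 𝔮.asIdeal
        (by rw [← Ideal.under_def, h𝔮a]; exact hJmono ha)
      refine ⟨⟨Q, hQprime⟩, hQc, fun i hi => le_trans (h𝔮1 i hi) hQ𝔮, fun i hi => ?_⟩
      exact absurd ⟨i, hi⟩ hex
  -- step
  have step : ∀ j, ∀ Q' : PrimeSpectrum A, ∃ Q : PrimeSpectrum A,
      j < d → Inv (j + 1) Q' → Q < Q' ∧ Inv j Q := by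
    intro j Q'
    by_cases hjd : j < d
    swap
    · exact ⟨Q', fun h => absurd h hjd⟩
    by_cases hI : Inv (j + 1) Q'
    swap
    · exact ⟨Q', fun _ h => absurd h hI⟩
    obtain ⟨hQ'c, hQ'le, -⟩ := hI
    have hltOf : ∀ Q : PrimeSpectrum A, Q ≤ Q' → Q.asIdeal.under R = J j → Q < Q' := by
      intro Q hle hQc
      refine lt_of_le_of_ne hle fun heq => hJlt j hjd ?_
      rw [← hQc, ← hQ'c, heq]
    by_cases hex : ∃ i, h i = j
    · obtain ⟨i, hi⟩ := hex
      have hI := InvOfEq j i hi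
      exact ⟨q i, fun _ _ => ⟨hltOf _ (hQ'le i (by omega)) hI.1, hI⟩⟩
    · obtain ⟨𝔮, ⟨a, ha, h𝔮a⟩, h𝔮1, h𝔮2⟩ := floor j
      have h𝔮Q' : 𝔮 ≤ Q' := h𝔮2 Q' (fun i hi => hQ'le i (by omega))
      haveI := hJprime j
      have hnorm : IsIntegrallyClosed (R ⧸ 𝔮.asIdeal.under R) := by
        rw [h𝔮a]
        exact hJnorm a
      obtain ⟨Q, hQprime, h𝔮Q, hQQ', hQc⟩ := exists_between 𝔮.asIdeal Q'.asIdeal h𝔮Q' (J j) hnorm
        (by rw [h𝔮a]; exact hJmono ha) (by rw [hQ'c]; exact hJmono (Nat.le_succ j))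
      refine ⟨⟨Q, hQprime⟩, fun _ _ => ⟨hltOf _ hQQ' hQc, hQc,
        fun i hi => le_trans (h𝔮1 i hi) h𝔮Q, fun i hi => absurd ⟨i, hi⟩ hex⟩⟩
  choose f hf using step
  obtain ⟨Qd, hQd⟩ := top
  let Rr : ℕ → PrimeSpectrum A := fun t => Nat.rec Qd (fun t Rt => f (d - t - 1) Rt) t
  have hRsucc : ∀ t, Rr (t + 1) = f (d - t - 1) (Rr t) := fun t => rfl
  have hRinv : ∀ t, t ≤ d → Inv (d - t) (Rr t) := by
    intro t
    induction t with
    | zero => intro _; exact hQd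
    | succ t ih =>
      intro ht
      have h1 := ih (by omega)
      have h2 : d - t = (d - t - 1) + 1 := by omega
      rw [h2] at h1
      have h3 := (hf (d - t - 1) (Rr t) (by omega) h1).2
      rw [hRsucc]
      have h4 : d - (t + 1) = d - t - 1 := by omega
      rw [h4]
      exact h3
  have hRlt : ∀ t, t < d → Rr (t + 1) < Rr t := by
    intro t ht
    have h1 := hRinv t ht.le
    have h2 : d - t = (d - t - 1) + 1 := by omega
    rw [h2] at h1
    rw [hRsucc]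
    exact (hf (d - t - 1) (Rr t) (by omega) h1).1
  refine ⟨fun j => Rr (d - j), fun j hj => ?_, fun j hj => ?_, fun i hi => ?_⟩
  · have := (hRinv (d - j) (by omega)).1
    have h2 : d - (d - j) = j := by omega
    rwa [h2] at this
  · have h1 := hRlt (d - (j + 1)) (by omega)
    have h2 : d - (j + 1) + 1 = d - j := by omega
    rw [h2] at h1
    exact h1
  · have := (hRinv (d - h i) (by omega)).2.2
    have h2 : d - (d - h i) = h i := by omega
    rw [h2] at this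
    exact this i rfl

end GoingDown

end Groth.Agent.Lib.RefinedNN57
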