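import Groth.Agent.Lib.HomSh53e
import Groth.Agent.Lib.RestrictStalk
import Groth.Agent.S6875

/-!
# helper53: reflexive stalks — transport lemmas
(namespace `Groth.Agent.Lib.Refl53`)

* `isReflexive_of_semilinear_addEquiv`: reflexivity transports along an additive equivalence semilinear over a ring iso.
* `isReflexive_restrict_iff`: `(M|_X)_x` reflexive iff `M_{f x}` reflexive, for an open immersion `f : X ⟶ Y`.
* `isReflexive_stalk_of_iso`: reflexivity of stalks transports along isomorphisms of modules.
* `isReflexiveAt_ddual`: all stalks of `F^**` are reflexive (`F` coherent, `X` integral locally Noetherian).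
-/

set_option autoImplicit false
set_option maxHeartbeats 400000
set_option linter.unusedSectionVars false
set_option linter.style.haveILetI false
universe u

open CategoryTheory CategoryTheory.Limits AlgebraicGeometry Opposite TopologicalSpace
open Groth.Agent.Lib.ModStalkLin Groth.Agent.Lib.RestrictStalk

namespace Groth.Agent.Lib.Refl53

section algebra

variable {R S M N : Type*} [CommRing R] [CommRing S]
  [AddCommGroup M] [AddCommGroup N] [Module R M] [Module S N]

/-- transport of a functional along a semilinear additive equivalence -/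
def dualT (e : R ≃+* S) (φ : M ≃+ N) (hφ : ∀ (r : R) (m : M), φ (r • m) = e r • φ m)
    (f : Module.Dual R M) : Module.Dual S N where
  toFun n := e (f (φ.symm n))
  map_add' a b := by rw [map_add, map_add, map_add]
  map_smul' s n := by
    have h : φ.symm (s • n) = e.symm s • φ.symm n := by
      apply φ.injective
      rw [hφ, AddEquiv.apply_symm_apply, AddEquiv.apply_symm_apply, RingEquiv.apply_symm_apply]
    rw [h, map_smul, smul_eq_mul, map_mul, RingEquiv.apply_symm_apply]
    rfl

theorem dualT_apply (e : R ≃+* S) (φ : M ≃+ N) (hφ : ∀ (r : R) (m : M), φ (r • m) = e r • φ m)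
    (f : Module.Dual R M) (n : N) : dualT e φ hφ f n = e (f (φ.symm n)) := rfl

theorem isReflexive_of_semilinear_addEquiv (e : R ≃+* S) (φ : M ≃+ N)
    (hφ : ∀ (r : R) (m : M), φ (r • m) = e r • φ m) [Module.IsReflexive R M] :
    Module.IsReflexive S N := by
  have hφ' : ∀ (s : S) (n : N), φ.symm (s • n) = e.symm s • φ.symm n := by
    intro s n
    apply φ.injective
    rw [hφ, AddEquiv.apply_symm_apply, AddEquiv.apply_symm_apply, RingEquiv.apply_symm_apply]
  -- every functional on `N` is a transport
  have hsurjT : ∀ g : Module.Dual S N, ∃ f : Module.Dual R M, dualT e φ hφ f = g := by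
    intro g
    refine ⟨dualT e.symm φ.symm hφ' g, ?_⟩
    refine LinearMap.ext fun n => ?_
    rw [dualT_apply, dualT_apply]
    simp
  have hbij := Module.bijective_dual_eval R M
  refine ⟨⟨?_, ?_⟩⟩
  · rw [injective_iff_map_eq_zero]
    intro n hn
    have h0 : Module.Dual.eval R M (φ.symm n) = 0 := by
      refine LinearMap.ext fun f => ?_
      have h1 := LinearMap.congr_fun hn (dualT e φ hφ f)
      rw [Module.Dual.eval_apply, dualT_apply] at h1
      rw [Module.Dual.eval_apply]
      simpa using h1
    have h2 := hbij.1 (h0.trans (map_zero _).symm)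
    have : n = φ (φ.symm n) := (AddEquiv.apply_symm_apply φ n).symm
    rw [this, h2, map_zero]
  · intro ξ
    let ξ' : Module.Dual R (Module.Dual R M) :=
      { toFun := fun f => e.symm (ξ (dualT e φ hφ f))
        map_add' := fun f f' => by
          have : dualT e φ hφ (f + f') = dualT e φ hφ f + dualT e φ hφ f' := by
            refine LinearMap.ext fun n => ?_
            simp [dualT_apply]
          rw [this, map_add, map_add]
        map_smul' := fun r f => by
          have : dualT e φ hφ (r • f) = e r • dualT e φ hφ f := by
            refine LinearMap.ext fun n => ?_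
            simp [dualT_apply]
          rw [this, map_smul, smul_eq_mul, map_mul, RingEquiv.symm_apply_apply]
          rfl }
    obtain ⟨m, hm⟩ := hbij.2 ξ'
    refine ⟨φ m, ?_⟩
    refine LinearMap.ext fun g => ?_
    obtain ⟨f, rfl⟩ := hsurjT g
    have h1 := LinearMap.congr_fun hm f
    rw [Module.Dual.eval_apply] at h1
    rw [Module.Dual.eval_apply, dualT_apply, AddEquiv.symm_apply_apply, h1]
    change e (e.symm (ξ (dualT e φ hφ f))) = _
    rw [RingEquiv.apply_symm_apply]

end algebra

section scheme

variable {X Y : Scheme.{u}}

theorem isReflexive_restrict_iff (f : X ⟶ Y) [IsOpenImmersion f] (M : Y.Modules) (x : X) :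
    Module.IsReflexive (X.presheaf.stalk x) ((M.restrict f).presheaf.stalk x) ↔
      Module.IsReflexive (Y.presheaf.stalk (f x)) (M.presheaf.stalk (f x)) := by
  constructor
  · intro h
    exact isReflexive_of_semilinear_addEquiv (stalkRingEquiv f x).symm
      (restrictStalkAddEquiv f M x) (restrictStalkAddEquiv_smul' f M x)
  · intro h
    refine isReflexive_of_semilinear_addEquiv (stalkRingEquiv f x)
      (restrictStalkAddEquiv f M x).symm ?_
    intro b μ
    exact (restrictStalkSemilinearEquiv f M x).map_smul' b μ

theorem isReflexive_stalk_of_iso {M N : X.Modules} (e : M ≅ N) (x : X)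
    (h : Module.IsReflexive (X.presheaf.stalk x) (M.presheaf.stalk x)) :
    Module.IsReflexive (X.presheaf.stalk x) (N.presheaf.stalk x) :=
  Module.equiv (stalkLinEquiv e x)

/-- all stalks of the reflexive hull are reflexive -/
theorem isReflexiveAt_ddual [IsIntegral X] [IsLocallyNoetherian X] {F : X.Modules}
    (hF : Coh.IsCoh F) (x : X) : RefHull.IsReflexiveAt (RefHull.ddual F) x := by
  have hD := Groth.Agent.Lib.HomSh53.isCoh_dual hF
  let ε := LinearEquiv.ofBijective
    (RefHull.evalStalk (RefHull.dual F) (Coh.structureModule X) x)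
    (Groth.Agent.Lib.HomSh53.evalStalk_bijective (Groth.Agent.Lib.HomSh53.isFP_of_isCoh hD) x)
  haveI : Module.Finite (X.presheaf.stalk x) ((RefHull.dual F).presheaf.stalk x) :=
    Groth.Agent.Lib.CohFinite.finite_stalk_of_isCoh _ hD x
  haveI : Module.IsReflexive (X.presheaf.stalk x) ((Coh.structureModule X).presheaf.stalk x) :=
    Module.equiv (Groth.Agent.Lib.StructureModuleStalk.stalkEquiv x)
  haveI : Module.Finite (X.presheaf.stalk x) ((Coh.structureModule X).presheaf.stalk x) :=
    Module.Finite.equiv (Groth.Agent.Lib.StructureModuleStalk.stalkEquiv x)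
  haveI := Groth.Agent.S6875.result (X.presheaf.stalk x) ((RefHull.dual F).presheaf.stalk x)
    ((Coh.structureModule X).presheaf.stalk x)
  exact Module.equiv ε.symm

end scheme

end Groth.Agent.Lib.Refl53
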