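import Mathlib.Algebra.Module.FinitePresentation
import Mathlib.RingTheory.Localization.Module
import Mathlib.LinearAlgebra.Dual.Defs
import Mathlib.RingTheory.LocalProperties.Exactness
import Mathlib.RingTheory.Localization.AtPrime.Basic

/-!
# helper53: reflexivity and localization, for arbitrary models of the localization
(namespace `Groth.Agent.Lib.ReflLoc53`; generalises helper97's `S6871` from `Localization S` /
`LocalizedModule S M` to any `IsLocalization` / `IsLocalizedModule`)

* `isReflexive_of_isLocalizedModule`: `M` f.p. with f.p. dual, reflexive ⟹ any localization is reflexive.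
* `isReflexive_of_forall_maximal`: if for every maximal ideal `P` some model `(R' P, M' P)` of the localization
  at `P` is reflexive, then `M` is reflexive.
-/

set_option autoImplicit false
set_option linter.unusedSectionVars false
universe u

namespace Groth.Agent.Lib.ReflLoc53

section
variable {R : Type u} [CommRing R] (S : Submonoid R) (R' : Type u) [CommRing R'] [Algebra R R']
  [IsLocalization S R'] {M : Type u} [AddCommGroup M] [Module R M] {M' : Type u} [AddCommGroup M']
  [Module R M'] [Module R' M'] [IsScalarTower R R' M'] (f : M →ₗ[R] M') [IsLocalizedModule S f]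

/-- The comparison map from the dual to the dual of the localization. -/
noncomputable def dMap : Module.Dual R M →ₗ[R] Module.Dual R' M' :=
  IsLocalizedModule.mapExtendScalars S f (Algebra.linearMap R R') R'

lemma dMap_apply (φ : Module.Dual R M) (m : M) :
    dMap S R' f φ (f m) = algebraMap R R' (φ m) := by
  rw [dMap, IsLocalizedModule.mapExtendScalars_apply_apply, IsLocalizedModule.map_apply]
  rfl

instance dMap_isLocalizedModule [Module.FinitePresentation R M] :
    IsLocalizedModule S (dMap S R' f) :=
  Module.FinitePresentation.isLocalizedModule_mapExtendScalars _ _ _ _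

/-- The comparison map from the double dual to the double dual of the localization. -/
noncomputable def ddMap [Module.FinitePresentation R M] :
    Module.Dual R (Module.Dual R M) →ₗ[R] Module.Dual R' (Module.Dual R' M') :=
  IsLocalizedModule.mapExtendScalars S (dMap S R' f) (Algebra.linearMap R R') R'

lemma ddMap_apply [Module.FinitePresentation R M] (ψ : Module.Dual R (Module.Dual R M))
    (φ : Module.Dual R M) :
    ddMap S R' f ψ (dMap S R' f φ) = algebraMap R R' (ψ φ) := by
  rw [ddMap, IsLocalizedModule.mapExtendScalars_apply_apply, IsLocalizedModule.map_apply]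
  rfl

instance ddMap_isLocalizedModule [Module.FinitePresentation R M]
    [Module.FinitePresentation R (Module.Dual R M)] :
    IsLocalizedModule S (ddMap S R' f) :=
  Module.FinitePresentation.isLocalizedModule_mapExtendScalars _ _ _ _

lemma eval_comm [Module.FinitePresentation R M] (m : M) :
    Module.Dual.eval R' M' (f m) = ddMap S R' f (Module.Dual.eval R M m) := by
  apply LinearMap.restrictScalars_injective R
  apply IsLocalizedModule.linearMap_ext S (dMap S R' f) (Algebra.linearMap R R')
  ext φ
  simp only [LinearMap.coe_comp, LinearMap.coe_restrictScalars, Function.comp_apply,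
    Module.Dual.eval_apply, dMap_apply, ddMap_apply]

lemma map_eval [Module.FinitePresentation R M] [Module.FinitePresentation R (Module.Dual R M)] :
    IsLocalizedModule.map S f (ddMap S R' f) (Module.Dual.eval R M) =
      (Module.Dual.eval R' M').restrictScalars R := by
  apply IsLocalizedModule.linearMap_ext S f (ddMap S R' f)
  ext m : 1
  simp only [LinearMap.coe_comp, LinearMap.coe_restrictScalars, Function.comp_apply,
    IsLocalizedModule.map_apply, eval_comm S R' f]

include S f in
/-- reflexivity passes to localizations -/
theorem isReflexive_of_isLocalizedModule [Module.FinitePresentation R M]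
    [Module.FinitePresentation R (Module.Dual R M)] (h : Module.IsReflexive R M) :
    Module.IsReflexive R' M' := by
  constructor
  have hb := h.bijective_dual_eval'
  have h1 := IsLocalizedModule.map_injective S f (ddMap S R' f) (Module.Dual.eval R M) hb.1
  have h2 := IsLocalizedModule.map_surjective S f (ddMap S R' f) (Module.Dual.eval R M) hb.2
  rw [map_eval] at h1 h2
  exact ⟨h1, h2⟩

end

section
variable {R : Type u} [CommRing R] {M : Type u} [AddCommGroup M] [Module R M]

/-- reflexivity can be checked on (arbitrary models of) the localizations at maximal ideals -/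
theorem isReflexive_of_forall_maximal [Module.FinitePresentation R M]
    [Module.FinitePresentation R (Module.Dual R M)]
    (R' : ∀ (P : Ideal R) [P.IsMaximal], Type u) [∀ (P : Ideal R) [P.IsMaximal], CommRing (R' P)]
    [∀ (P : Ideal R) [P.IsMaximal], Algebra R (R' P)]
    [∀ (P : Ideal R) [P.IsMaximal], IsLocalization.AtPrime (R' P) P]
    (M' : ∀ (P : Ideal R) [P.IsMaximal], Type u)
    [∀ (P : Ideal R) [P.IsMaximal], AddCommGroup (M' P)]
    [∀ (P : Ideal R) [P.IsMaximal], Module R (M' P)]
    [∀ (P : Ideal R) [P.IsMaximal], Module (R' P) (M' P)]
    [∀ (P : Ideal R) [P.IsMaximal], IsScalarTower R (R' P) (M' P)]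
    (f : ∀ (P : Ideal R) [P.IsMaximal], M →ₗ[R] M' P)
    [∀ (P : Ideal R) [P.IsMaximal], IsLocalizedModule P.primeCompl (f P)]
    (h : ∀ (P : Ideal R) [P.IsMaximal], Module.IsReflexive (R' P) (M' P)) :
    Module.IsReflexive R M := by
  constructor
  refine bijective_of_isLocalized_maximal
    (fun P _ => M' P) (fun P _ => f P)
    (fun P _ => Module.Dual (R' P) (Module.Dual (R' P) (M' P)))
    (fun P _ => ddMap P.primeCompl (R' P) (f P)) (Module.Dual.eval R M) ?_
  intro P hP
  rw [map_eval]
  exact (h P).bijective_dual_eval'

end

end Groth.Agent.Lib.ReflLoc53
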