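/-
helper82: finitely generated reflexive modules of rank one over a UFD are free of rank one, and
the stalkwise rank-one plumbing for generically invertible quasi-coherent modules on integral
schemes.
-/
import Mathlib
import Groth.Prelude.Def_RefHull
import Groth.Agent.Lib.QCohStalk
import Groth.Agent.Lib.H90PushStalkLocal

set_option autoImplicit false
universe u

open CategoryTheory AlgebraicGeometry TopologicalSpace

namespace Groth.Agent.Lib.ReflRankOne82

section Algebra


open Module

variable {A : Type*} [CommRing A] [IsDomain A] {M : Type*} [AddCommGroup M] [Module A M]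

/-- A reflexive module over a domain is torsion-free. -/
theorem eq_zero_of_smul_eq_zero_of_isReflexive [IsReflexive A M] {a : A} (ha : a ≠ 0) {m : M}
    (h : a • m = 0) : m = 0 := by
  apply (bijective_dual_eval A M).1
  rw [map_zero]
  ext φ
  have h1 : a * φ m = 0 := by
    rw [← smul_eq_mul, ← map_smul, h, map_zero]
  rcases mul_eq_zero.mp h1 with h2 | h2
  · exact absurd h2 ha
  · simpa using h2

omit [IsDomain A] in
/-- A nontrivial reflexive module has a nonzero linear form. -/
theorem exists_dual_ne_zero [IsReflexive A M] [Nontrivial M] : ∃ ψ : Dual A M, ψ ≠ 0 := by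
  by_contra hcon
  push Not at hcon
  obtain ⟨m, hm⟩ := exists_ne (0 : M)
  apply hm
  apply (bijective_dual_eval A M).1
  rw [map_zero]
  ext φ
  rw [hcon φ]
  simp

/-- In a rank-`≤ 1` torsion-free module every nonzero linear form is injective. -/
theorem injective_of_ne_zero
    (htf : ∀ (a : A) (m : M), a ≠ 0 → a • m = 0 → m = 0)
    (hdep : ∀ m m' : M, ∃ a a' : A, (a ≠ 0 ∨ a' ≠ 0) ∧ a • m = a' • m')
    (ψ : Dual A M) (hψ : ψ ≠ 0) : Function.Injective ψ := by
  rw [injective_iff_map_eq_zero]
  intro x hx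
  obtain ⟨y, hy⟩ : ∃ y, ψ y ≠ 0 := by
    by_contra hcon
    push Not at hcon
    exact hψ (LinearMap.ext hcon)
  obtain ⟨a, a', hne, haa⟩ := hdep x y
  have h1 : a' * ψ y = 0 := by
    have := congrArg ψ haa
    rw [map_smul, map_smul, hx, smul_zero, smul_eq_mul] at this
    exact this.symm
  have ha' : a' = 0 := by
    rcases mul_eq_zero.mp h1 with h | h
    · exact h
    · exact absurd h hy
  have ha : a ≠ 0 := by
    rcases hne with h | h
    · exact h
    · exact absurd ha' h
  rw [ha', zero_smul] at haa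
  exact htf a x ha haa

/-- **A finitely generated reflexive module of rank one over a unique factorisation domain is free
of rank one.** Rank (at most) one is expressed by pairwise linear dependence. -/
theorem exists_bijective_smul_of_reflexive_rank_one [UniqueFactorizationMonoid A]
    [Module.Finite A M] [IsReflexive A M] [Nontrivial M]
    (hdep : ∀ m m' : M, ∃ a a' : A, (a ≠ 0 ∨ a' ≠ 0) ∧ a • m = a' • m') :
    ∃ m : M, Function.Bijective (fun a : A => a • m) := by
  classical
  letI : StrongNormalizationMonoid A := UniqueFactorizationMonoid.strongNormalizationMonoid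
  letI : StrongNormalizedGCDMonoid A := UniqueFactorizationMonoid.toStrongNormalizedGCDMonoid A
  have htf : ∀ (a : A) (m : M), a ≠ 0 → a • m = 0 → m = 0 :=
    fun a m ha h => eq_zero_of_smul_eq_zero_of_isReflexive ha h
  obtain ⟨ψ, hψ⟩ := exists_dual_ne_zero (A := A) (M := M)
  have hinj := injective_of_ne_zero htf hdep ψ hψ
  obtain ⟨n, s, hs⟩ := Module.Finite.exists_fin (R := A) (M := M)
  let c : Fin n → A := fun i => ψ (s i)
  let d : A := Finset.univ.gcd c
  have hdc : ∀ i, d ∣ c i := fun i => Finset.gcd_dvd (Finset.mem_univ i)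
  obtain ⟨i₀, hi₀⟩ : ∃ i, c i ≠ 0 := by
    by_contra hcon
    push Not at hcon
    apply hψ
    apply LinearMap.ext_on_range hs
    intro i
    rw [LinearMap.zero_apply]
    exact hcon i
  have hd0 : d ≠ 0 := by
    intro h
    apply hi₀
    have := hdc i₀
    rw [h] at this
    exact zero_dvd_iff.mp this
  have hdψ : ∀ m, d ∣ ψ m := by
    intro m
    have hm : m ∈ Submodule.span A (Set.range s) := hs ▸ Submodule.mem_top
    induction hm using Submodule.span_induction with
    | mem x hx =>
      obtain ⟨i, rfl⟩ := hx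
      exact hdc i
    | zero => simp
    | add x y _ _ hx hy =>
      rw [map_add]
      exact dvd_add hx hy
    | smul a x _ hx =>
      rw [map_smul, smul_eq_mul]
      exact Dvd.dvd.mul_left hx a
  have hcross : ∀ (φ : Dual A M) (x y : M), ψ y * φ x = ψ x * φ y := by
    intro φ x y
    have h1 : ψ y • x = ψ x • y := by
      apply hinj
      rw [map_smul, map_smul, smul_eq_mul, smul_eq_mul, mul_comm]
    have := congrArg φ h1
    rwa [map_smul, map_smul, smul_eq_mul, smul_eq_mul] at this
  have key : ∀ φ : Dual A M, ∃ t : A, ∀ m, d * φ m = t * ψ m := by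
    intro φ
    have h1 : ∀ i, c i ∣ d * φ (s i) := by
      intro i
      have h2 : c i ∣ Finset.univ.gcd (fun j => c j * φ (s i)) := by
        apply Finset.dvd_gcd
        intro j _
        rw [show c j * φ (s i) = c i * φ (s j) from hcross φ (s i) (s j)]
        exact dvd_mul_right _ _
      exact h2.trans (Finset.gcd_mul_right' Finset.univ c (φ (s i))).dvd
    choose t ht using h1
    refine ⟨t i₀, fun m => ?_⟩
    have hlin : d • φ = t i₀ • ψ := by
      apply LinearMap.ext_on_range hs
      intro i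
      simp only [LinearMap.smul_apply, smul_eq_mul]
      by_cases hci : c i = 0
      · have hsi : s i = 0 := hinj (by rw [map_zero]; exact hci)
        rw [hsi]
        simp
      · have e1 := ht i
        have e2 := ht i₀
        have e3 : c i₀ * φ (s i) = c i * φ (s i₀) := hcross φ (s i) (s i₀)
        have e4 : c i₀ * c i * t i = c i₀ * c i * t i₀ := by
          calc c i₀ * c i * t i = c i₀ * (d * φ (s i)) := by rw [e1]; ring
            _ = d * (c i₀ * φ (s i)) := by ring
            _ = d * (c i * φ (s i₀)) := by rw [e3]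
            _ = c i * (d * φ (s i₀)) := by ring
            _ = c i * (c i₀ * t i₀) := by rw [e2]
            _ = c i₀ * c i * t i₀ := by ring
        have hti : t i = t i₀ := mul_left_cancel₀ (mul_ne_zero hi₀ hci) e4
        rw [e1, hti]
        ring
    have := congrArg (fun f : Dual A M => f m) hlin
    simpa using this
  choose τ hτ using key
  have huniq : ∀ t t' : A, (∀ m, t * ψ m = t' * ψ m) → t = t' := by
    intro t t' h
    exact mul_right_cancel₀ hi₀ (h (s i₀))
  let ξ : Dual A (Dual A M) :=
    { toFun := τ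
      map_add' := by
        intro φ φ'
        apply huniq
        intro m
        rw [← hτ, LinearMap.add_apply, mul_add, hτ φ, hτ φ', add_mul]
      map_smul' := by
        intro a φ
        apply huniq
        intro m
        rw [← hτ, LinearMap.smul_apply, smul_eq_mul, RingHom.id_apply, smul_eq_mul,
          mul_left_comm, hτ φ, mul_assoc] }
  obtain ⟨m₁, hm₁⟩ := (bijective_dual_eval A M).2 ξ
  have hev : ∀ φ : Dual A M, φ m₁ = τ φ := by
    intro φ
    have := LinearMap.congr_fun hm₁ φ
    rw [Dual.eval_apply] at this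
    exact this
  have hτψ : τ ψ = d := by
    apply huniq
    intro m
    exact (hτ ψ m).symm
  have hψm₁ : ψ m₁ = d := by rw [hev ψ, hτψ]
  have hm₁0 : m₁ ≠ 0 := by
    rintro rfl
    rw [map_zero] at hψm₁
    exact hd0 hψm₁.symm
  refine ⟨m₁, ?_, ?_⟩
  · intro a b hab
    by_contra hne
    have h1 : (a - b) • m₁ = 0 := by
      rw [sub_smul]
      exact sub_eq_zero.mpr hab
    exact hm₁0 (htf _ _ (sub_ne_zero.mpr hne) h1)
  · intro m
    obtain ⟨q, hq⟩ := hdψ m
    refine ⟨q, ?_⟩
    apply hinj
    change ψ (q • m₁) = ψ m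
    rw [map_smul, hψm₁, hq, smul_eq_mul, mul_comm]


end Algebra

section Schemes


open Groth.Agent.Lib.QCohStalk Groth.Agent.Lib.H90Invertible

variable {X : Scheme.{u}}

/-- The generic stalk of a generically invertible module on an integral scheme is free of rank one
over the function field. -/
theorem exists_bijective_smul_genericPoint [IsIntegral X] (F : X.Modules)
    (hgen : RefHull.GenInvertible F) :
    ∃ m : F.presheaf.stalk (genericPoint X),
      Function.Bijective (fun a : X.presheaf.stalk (genericPoint X) => a • m) := by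
  obtain ⟨U, hUd, hU⟩ := hgen
  have hη : genericPoint X ∈ U := by
    obtain ⟨x, hx⟩ := hUd.nonempty
    exact ((genericPoint_spec X).mem_open_set_iff U.isOpen).mpr ⟨x, trivial, hx⟩
  obtain ⟨V', hηV', s, hs⟩ := (isInvertible_iff_exists_isGen _).mp hU ⟨genericPoint X, hη⟩
  have hs' : IsGen F (U.ι ''ᵁ V') s := (isGen_restrict_iff U.ι F V' s).mp hs
  exact ⟨_, Groth.Agent.Lib.H90PushStalkLocal.IsGen.stalk_bijective hs' (genericPoint X)
    ⟨⟨_, hη⟩, hηV', rfl⟩⟩

/-- Sections of the structure sheaf over a nonempty open of an integral scheme which are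
invertible at some point are nonzero. -/
theorem ne_zero_of_isUnit_germ [IsIntegral X] {V : X.Opens} (y : X) (hy : y ∈ V) (g : Γ(X, V))
    (hg : IsUnit (X.presheaf.germ V y hy g)) : g ≠ 0 := by
  rintro rfl
  rw [map_zero] at hg
  exact not_isUnit_zero hg

/-- Any two elements of a stalk of a quasi-coherent module of generic rank one on an integral scheme
are linearly dependent. -/
theorem exists_smul_eq_smul_stalk [IsIntegral X] (F : X.Modules) [F.IsQuasicoherent]
    (hη : ∃ m : F.presheaf.stalk (genericPoint X),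
      Function.Bijective (fun a : X.presheaf.stalk (genericPoint X) => a • m))
    (x : X) (m₁ m₂ : F.presheaf.stalk x) :
    ∃ a a' : X.presheaf.stalk x, (a ≠ 0 ∨ a' ≠ 0) ∧ a • m₁ = a' • m₂ := by
  obtain ⟨_, ⟨(V : X.Opens), hV, rfl⟩, hxV, -⟩ :=
    X.isBasis_affineOpens.exists_subset_of_mem_open (Set.mem_univ x) isOpen_univ
  have hηV : genericPoint X ∈ V :=
    ((genericPoint_spec X).mem_open_set_iff V.isOpen).mpr ⟨x, trivial, hxV⟩
  haveI : Nonempty V := ⟨⟨x, hxV⟩⟩
  have hinjx : Function.Injective (X.presheaf.germ V x hxV) :=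
    germ_injective_of_isIntegral X x hxV
  haveI : IsDomain Γ(X, V) := inferInstance
  obtain ⟨g₁, s₁, hg₁, e₁⟩ := exists_germ_smul_eq_germ F hV x hxV m₁
  obtain ⟨g₂, s₂, hg₂, e₂⟩ := exists_germ_smul_eq_germ F hV x hxV m₂
  have hg₁0 := ne_zero_of_isUnit_germ x hxV g₁ hg₁
  have hg₂0 := ne_zero_of_isUnit_germ x hxV g₂ hg₂
  obtain ⟨m, hm⟩ := hη
  obtain ⟨α₁, hα₁⟩ := hm.2 (F.presheaf.germ V (genericPoint X) hηV s₁)
  obtain ⟨α₂, hα₂⟩ := hm.2 (F.presheaf.germ V (genericPoint X) hηV s₂)
  simp only at hα₁ hα₂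
  by_cases hα₂0 : α₂ = 0
  · -- the germ of `s₂` at the generic point vanishes
    have h0 : F.presheaf.germ V (genericPoint X) hηV s₂ = 0 := by
      rw [← hα₂, hα₂0, zero_smul]
    obtain ⟨r, hr, hrs⟩ := exists_smul_eq_zero_of_germ_eq_zero F hV (genericPoint X) hηV s₂ h0
    have hr0 := ne_zero_of_isUnit_germ _ hηV r hr
    refine ⟨0, X.presheaf.germ V x hxV (r * g₂), Or.inr ?_, ?_⟩
    · intro h
      rw [← map_zero (X.presheaf.germ V x hxV).hom] at h
      exact mul_ne_zero hr0 hg₂0 (hinjx h)
    · rw [zero_smul, map_mul, mul_smul, e₂, ← germ_smul, hrs, map_zero]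
  · -- write `α₁, α₂` as fractions
    letI : Algebra Γ(X, V) (X.presheaf.stalk (genericPoint X)) :=
      TopCat.Presheaf.algebra_section_stalk X.presheaf ⟨genericPoint X, hηV⟩
    haveI : IsLocalization.AtPrime (X.presheaf.stalk (genericPoint X))
        (hV.primeIdealOf ⟨genericPoint X, hηV⟩).asIdeal :=
      hV.isLocalization_stalk ⟨genericPoint X, hηV⟩
    obtain ⟨⟨a₁, c₁⟩, h₁⟩ := IsLocalization.surj
      (hV.primeIdealOf ⟨genericPoint X, hηV⟩).asIdeal.primeCompl α₁
    obtain ⟨⟨a₂, c₂⟩, h₂⟩ := IsLocalization.surj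
      (hV.primeIdealOf ⟨genericPoint X, hηV⟩).asIdeal.primeCompl α₂
    have hal : ∀ r : Γ(X, V), algebraMap Γ(X, V) (X.presheaf.stalk (genericPoint X)) r =
        X.presheaf.germ V (genericPoint X) hηV r := fun r => rfl
    simp only [hal] at h₁ h₂
    have hc₁0 : (c₁ : Γ(X, V)) ≠ 0 := by
      intro h
      exact c₁.2 (h ▸ Ideal.zero_mem _)
    have hc₂0 : (c₂ : Γ(X, V)) ≠ 0 := by
      intro h
      exact c₂.2 (h ▸ Ideal.zero_mem _)
    have hc₂u : IsUnit (X.presheaf.germ V (genericPoint X) hηV (c₂ : Γ(X, V))) :=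
      IsLocalization.map_units (M := (hV.primeIdealOf ⟨genericPoint X, hηV⟩).asIdeal.primeCompl)
        (X.presheaf.stalk (genericPoint X)) c₂
    have ha₂0 : a₂ ≠ 0 := by
      rintro rfl
      rw [map_zero] at h₂
      exact hα₂0 ((hc₂u.mul_left_eq_zero).mp h₂)
    -- the relation at the generic point
    have hrel : F.presheaf.germ V (genericPoint X) hηV
        (((c₁ : Γ(X, V)) * a₂) • s₁ - ((c₂ : Γ(X, V)) * a₁) • s₂) = 0 := by
      rw [map_sub, germ_smul, germ_smul, ← hα₁, ← hα₂, map_mul, map_mul, ← h₁, ← h₂,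
        smul_smul, smul_smul]
      rw [sub_eq_zero]
      congr 1
      ring
    obtain ⟨r, hr, hrs⟩ := exists_smul_eq_zero_of_germ_eq_zero F hV (genericPoint X) hηV _ hrel
    have hr0 := ne_zero_of_isUnit_germ _ hηV r hr
    rw [smul_sub, sub_eq_zero, smul_smul, smul_smul] at hrs
    refine ⟨X.presheaf.germ V x hxV (r * ((c₁ : Γ(X, V)) * a₂) * g₁),
      X.presheaf.germ V x hxV (r * ((c₂ : Γ(X, V)) * a₁) * g₂), Or.inl ?_, ?_⟩
    · intro h
      rw [← map_zero (X.presheaf.germ V x hxV).hom] at h
      exact mul_ne_zero (mul_ne_zero hr0 (mul_ne_zero hc₁0 ha₂0)) hg₁0 (hinjx h)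
    · have hL : X.presheaf.germ V x hxV (r * ((c₁ : Γ(X, V)) * a₂) * g₁) • m₁ =
          F.presheaf.germ V x hxV ((r * ((c₁ : Γ(X, V)) * a₂)) • s₁) := by
        rw [map_mul, mul_smul, e₁, ← germ_smul]
      have hR : X.presheaf.germ V x hxV (r * ((c₂ : Γ(X, V)) * a₁) * g₂) • m₂ =
          F.presheaf.germ V x hxV ((r * ((c₂ : Γ(X, V)) * a₁)) • s₂) := by
        rw [map_mul, mul_smul, e₂, ← germ_smul]
      rw [hL, hR, hrs]

/-- The stalks of a quasi-coherent module of generic rank one on an integral scheme are nonzero. -/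
theorem nontrivial_stalk [IsIntegral X] (F : X.Modules) [F.IsQuasicoherent]
    (hη : ∃ m : F.presheaf.stalk (genericPoint X),
      Function.Bijective (fun a : X.presheaf.stalk (genericPoint X) => a • m))
    (x : X) : Nontrivial (F.presheaf.stalk x) := by
  obtain ⟨_, ⟨(V : X.Opens), hV, rfl⟩, hxV, -⟩ :=
    X.isBasis_affineOpens.exists_subset_of_mem_open (Set.mem_univ x) isOpen_univ
  have hηV : genericPoint X ∈ V :=
    ((genericPoint_spec X).mem_open_set_iff V.isOpen).mpr ⟨x, trivial, hxV⟩
  haveI : Nonempty V := ⟨⟨x, hxV⟩⟩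
  haveI : IsDomain Γ(X, V) := inferInstance
  have hinjη : Function.Injective (X.presheaf.germ V (genericPoint X) hηV) :=
    germ_injective_of_isIntegral X _ hηV
  obtain ⟨m, hm⟩ := hη
  obtain ⟨g, s, hg, e⟩ := exists_germ_smul_eq_germ F hV (genericPoint X) hηV m
  have hg0 := ne_zero_of_isUnit_germ _ hηV g hg
  by_contra hnt
  rw [not_nontrivial_iff_subsingleton] at hnt
  have h0 : F.presheaf.germ V x hxV s = 0 := Subsingleton.elim _ _
  obtain ⟨r, hr, hrs⟩ := exists_smul_eq_zero_of_germ_eq_zero F hV x hxV s h0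
  have hr0 := ne_zero_of_isUnit_germ _ hxV r hr
  have h1 : X.presheaf.germ V (genericPoint X) hηV (r * g) • m = 0 := by
    rw [map_mul, mul_smul, e, ← germ_smul, hrs, map_zero]
  have h2 : X.presheaf.germ V (genericPoint X) hηV (r * g) = 0 := by
    apply hm.1
    simp only
    rw [h1, zero_smul]
  rw [← map_zero (X.presheaf.germ V (genericPoint X) hηV).hom] at h2
  exact mul_ne_zero hr0 hg0 (hinjη h2)


end Schemes

end Groth.Agent.Lib.ReflRankOne82
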