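import Mathlib.AlgebraicGeometry.PullbackCarrier
import Mathlib.AlgebraicGeometry.Morphisms.FiniteType
import Mathlib.AlgebraicGeometry.AffineScheme
import Mathlib.RingTheory.FiniteType
import Mathlib.RingTheory.TensorProduct.Maps

/-!
# Reflecting specializations after base change: reduction to finite type base changes (helper85)

If `Y ×_X X' ⟶ X'` reflects specializations for all `X' ⟶ X` locally of finite type, then it does
for all `X' ⟶ X`.  The key input is that every element of `C ⊗[A] B'` comes from `C ⊗[A] B`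
for a finitely generated subalgebra `B ⊆ B'`.
-/

set_option autoImplicit false
universe u
open CategoryTheory CategoryTheory.Limits AlgebraicGeometry TensorProduct

namespace Groth.Agent.Lib.ReflSpecLimit

/-- Every element of `C ⊗[A] B'` comes from `C ⊗[A] B` for a f.g. subalgebra `B` of `B'`. -/
theorem exists_fg_subalgebra_tmul {A C B' : Type*} [CommRing A] [CommRing C] [CommRing B']
    [Algebra A C] [Algebra A B'] (h : C ⊗[A] B') :
    ∃ (B : Subalgebra A B') (_ : B.FG) (h' : C ⊗[A] B),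
      Algebra.TensorProduct.map (AlgHom.id A C) B.val h' = h := by
  induction h using TensorProduct.induction_on with
  | zero => exact ⟨⊥, Subalgebra.fg_bot, 0, map_zero _⟩
  | tmul c b =>
    have hfg : (Algebra.adjoin A ({b} : Set B')).FG := by
      simpa using Subalgebra.fg_adjoin_finset (R := A) ({b} : Finset B')
    refine ⟨Algebra.adjoin A {b}, hfg,
      c ⊗ₜ ⟨b, Algebra.subset_adjoin (Set.mem_singleton b)⟩, ?_⟩
    simp
  | add x y hx hy =>
    obtain ⟨B₁, hB₁, x', hx'⟩ := hx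
    obtain ⟨B₂, hB₂, y', hy'⟩ := hy
    refine ⟨B₁ ⊔ B₂, hB₁.sup hB₂,
      Algebra.TensorProduct.map (AlgHom.id A C) (Subalgebra.inclusion le_sup_left) x' +
      Algebra.TensorProduct.map (AlgHom.id A C) (Subalgebra.inclusion le_sup_right) y', ?_⟩
    rw [map_add, ← hx', ← hy']
    congr 1
    · rw [← AlgHom.comp_apply, ← Algebra.TensorProduct.map_comp]
      rfl
    · rw [← AlgHom.comp_apply, ← Algebra.TensorProduct.map_comp]
      rfl

variable {X Y : Scheme.{u}}

/-- Reduction to an open subscheme of the base-change scheme. -/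
theorem specializes_of_openImmersion (f : Y ⟶ X) {X' X'' : Scheme.{u}} (g : X' ⟶ X)
    (i : X'' ⟶ X') [IsOpenImmersion i] (g'' : X'' ⟶ X) (hg : g'' = i ≫ g)
    (H : ∀ y₀ y₁ : ↥(pullback f g''),
      (pullback.snd f g'') y₁ ⤳ (pullback.snd f g'') y₀ → y₁ ⤳ y₀)
    (y₀ y₁ : ↥(pullback f g)) (hs : (pullback.snd f g) y₁ ⤳ (pullback.snd f g) y₀)
    (h₀ : (pullback.snd f g) y₀ ∈ Set.range i) : y₁ ⤳ y₀ := by
  let m : pullback f g'' ⟶ pullback f g :=
    pullback.map f g'' f g (𝟙 Y) i (𝟙 X) (by simp) (by simp [hg])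
  have hm : Set.range m = pullback.fst f g ⁻¹' Set.range (𝟙 Y : Y ⟶ Y) ∩
      pullback.snd f g ⁻¹' Set.range i :=
    Scheme.Pullback.range_map _ _ _ _ _ _ _ _ _
  have hmsnd : m ≫ pullback.snd f g = pullback.snd f g'' ≫ i := pullback.lift_snd _ _ _
  have h₁ : (pullback.snd f g) y₁ ∈ Set.range i :=
    hs.mem_open i.isOpenEmbedding.isOpen_range h₀
  have hy₀ : y₀ ∈ Set.range m := by
    rw [hm]; exact ⟨⟨_, rfl⟩, h₀⟩
  have hy₁ : y₁ ∈ Set.range m := by
    rw [hm]; exact ⟨⟨_, rfl⟩, h₁⟩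
  obtain ⟨z₀, rfl⟩ := hy₀
  obtain ⟨z₁, rfl⟩ := hy₁
  have hz : (pullback.snd f g'') z₁ ⤳ (pullback.snd f g'') z₀ := by
    rw [← i.isOpenEmbedding.isInducing.specializes_iff]
    have e : ∀ z, i ((pullback.snd f g'') z) = (pullback.snd f g) (m z) := by
      intro z
      rw [← Scheme.Hom.comp_apply, ← Scheme.Hom.comp_apply, hmsnd]
    rw [e, e]
    exact hs
  exact (H z₀ z₁ hz).map m.continuous

section StepB

variable (f : Y ⟶ X) {A : Type u} [CommRing A] (a : Spec (.of A) ⟶ X)

/-- The base change map for an `A`-algebra `B`. -/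
noncomputable abbrev gB (B : Type u) [CommRing B] [Algebra A B] : Spec (.of B) ⟶ X :=
  Spec.map (CommRingCat.ofHom (algebraMap A B)) ≫ a

/-- The transition map between base changes induced by an algebra homomorphism. -/
noncomputable def trans {B₁ B₂ : Type u} [CommRing B₁] [CommRing B₂] [Algebra A B₁] [Algebra A B₂]
    (θ : B₁ →ₐ[A] B₂) : pullback f (gB a B₂) ⟶ pullback f (gB a B₁) :=
  pullback.map _ _ _ _ (𝟙 Y) (Spec.map (CommRingCat.ofHom θ.toRingHom)) (𝟙 X) (by simp) (by
    simp only [gB, Category.comp_id, ← Spec.map_comp_assoc, ← CommRingCat.ofHom_comp]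
    congr 3
    exact θ.comp_algebraMap.symm)

@[reassoc]
lemma trans_fst {B₁ B₂ : Type u} [CommRing B₁] [CommRing B₂] [Algebra A B₁] [Algebra A B₂]
    (θ : B₁ →ₐ[A] B₂) : trans f a θ ≫ pullback.fst _ _ = pullback.fst _ _ :=
  (pullback.lift_fst _ _ _).trans (Category.comp_id _)

@[reassoc]
lemma trans_snd {B₁ B₂ : Type u} [CommRing B₁] [CommRing B₂] [Algebra A B₁] [Algebra A B₂]
    (θ : B₁ →ₐ[A] B₂) : trans f a θ ≫ pullback.snd _ _ =
      pullback.snd _ _ ≫ Spec.map (CommRingCat.ofHom θ.toRingHom) :=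
  pullback.lift_snd _ _ _

variable [IsOpenImmersion a] {C : Type u} [CommRing C] [Algebra A C] (c : Spec (.of C) ⟶ Y)
  [IsOpenImmersion c] (hc : c ≫ f = Spec.map (CommRingCat.ofHom (algebraMap A C)) ≫ a)

/-- The affine open chart `Spec (C ⊗[A] B) ⟶ Y ×_X Spec B`. -/
noncomputable def J (B : Type u) [CommRing B] [Algebra A B] :
    Spec (.of (C ⊗[A] B)) ⟶ pullback f (gB a B) :=
  (pullbackSpecIso A C B).inv ≫ pullback.map (Spec.map (CommRingCat.ofHom (algebraMap A C)))
    (Spec.map (CommRingCat.ofHom (algebraMap A B))) f (gB a B) c (𝟙 _) a hc.symm (by simp [gB])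

instance (B : Type u) [CommRing B] [Algebra A B] : IsOpenImmersion (J f a c hc B) := by
  unfold J; infer_instance

@[reassoc]
lemma J_fst (B : Type u) [CommRing B] [Algebra A B] :
    J f a c hc B ≫ pullback.fst _ _ =
      Spec.map (CommRingCat.ofHom Algebra.TensorProduct.includeLeftRingHom) ≫ c := by
  unfold J
  rw [Category.assoc]
  erw [pullback.lift_fst]
  rw [pullbackSpecIso_inv_fst_assoc]

@[reassoc]
lemma J_snd (B : Type u) [CommRing B] [Algebra A B] :
    J f a c hc B ≫ pullback.snd _ _ =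
      Spec.map (CommRingCat.ofHom (R := B) (S := C ⊗[A] B)
        (RingHomClass.toRingHom Algebra.TensorProduct.includeRight)) := by
  unfold J
  rw [Category.assoc]
  erw [pullback.lift_snd]
  rw [pullbackSpecIso_inv_snd_assoc, Category.comp_id]

lemma range_J (B : Type u) [CommRing B] [Algebra A B] :
    Set.range (J f a c hc B) = pullback.fst f (gB a B) ⁻¹' Set.range c := by
  unfold J
  rw [Scheme.Hom.comp_base, TopCat.coe_comp, Set.range_comp,
    Set.range_eq_univ.mpr (pullbackSpecIso A C B).inv.surjective, Set.image_univ,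
    Scheme.Pullback.range_map]
  simp

lemma J_trans {B₁ B₂ : Type u} [CommRing B₁] [CommRing B₂] [Algebra A B₁] [Algebra A B₂]
    (θ : B₁ →ₐ[A] B₂) : J f a c hc B₂ ≫ trans f a θ =
      Spec.map (CommRingCat.ofHom
        (Algebra.TensorProduct.map (AlgHom.id A C) θ).toRingHom) ≫ J f a c hc B₁ := by
  apply pullback.hom_ext
  · rw [Category.assoc, trans_fst, J_fst, Category.assoc, J_fst, ← Spec.map_comp_assoc,
      ← CommRingCat.ofHom_comp]
    congr 3
    ext x
    simp
  · rw [Category.assoc, trans_snd, J_snd_assoc, Category.assoc, J_snd, ← Spec.map_comp,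
      ← Spec.map_comp, ← CommRingCat.ofHom_comp, ← CommRingCat.ofHom_comp]
    congr 2

end StepB

open TopologicalSpace in
/-- Affine-local version of the reduction to finite type base changes. -/
theorem specializes_of_finiteType (f : Y ⟶ X) {A : Type u} [CommRing A]
    (a : Spec (.of A) ⟶ X) [IsOpenImmersion a]
    (hft : ∀ (B : Type u) [CommRing B] [Algebra A B] [Algebra.FiniteType A B]
      (y₀ y₁ : ↥(pullback f (gB a B))),
      (pullback.snd f (gB a B)) y₁ ⤳ (pullback.snd f (gB a B)) y₀ → y₁ ⤳ y₀)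
    (B' : Type u) [CommRing B'] [Algebra A B'] (y₀ y₁ : ↥(pullback f (gB a B')))
    (hs : (pullback.snd f (gB a B')) y₁ ⤳ (pullback.snd f (gB a B')) y₀) : y₁ ⤳ y₀ := by
  have key : ∀ (B : Type u) [CommRing B] [Algebra A B] [Algebra.FiniteType A B]
      (θ : B →ₐ[A] B'), (trans f a θ) y₁ ⤳ (trans f a θ) y₀ := by
    intro B _ _ _ θ
    apply hft
    rw [← Scheme.Hom.comp_apply, ← Scheme.Hom.comp_apply, trans_snd, Scheme.Hom.comp_apply,
      Scheme.Hom.comp_apply]
    exact hs.map (Spec.map _).continuous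
  have h1 : (pullback.fst f (gB a B')) y₁ ⤳ (pullback.fst f (gB a B')) y₀ := by
    have := (key A (Algebra.ofId A B')).map (pullback.fst f (gB a A)).continuous
    rwa [← Scheme.Hom.comp_apply, ← Scheme.Hom.comp_apply, trans_fst] at this
  have hmem : (pullback.fst f (gB a B')) y₀ ∈ f ⁻¹ᵁ a.opensRange := by
    show f ((pullback.fst f (gB a B')) y₀) ∈ Set.range a
    rw [← Scheme.Hom.comp_apply, pullback.condition, Scheme.Hom.comp_apply, Scheme.Hom.comp_apply]
    exact ⟨_, rfl⟩
  obtain ⟨V, hV, hyV, hVle⟩ := (Opens.isBasis_iff_nbhd.mp Y.isBasis_affineOpens) hmem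
  have hV' : IsAffineOpen V := hV
  let C : Type u := Γ(Y, V)
  let c : Spec (.of C) ⟶ Y := hV'.fromSpec
  have hcrange : Set.range c = V := hV'.range_fromSpec
  have hrange : Set.range (c ≫ f) ⊆ Set.range a := by
    rintro _ ⟨t, rfl⟩
    rw [Scheme.Hom.comp_apply]
    have : c t ∈ (V : Set Y) := hcrange ▸ ⟨t, rfl⟩
    exact hVle this
  let l : Spec (.of C) ⟶ Spec (.of A) := IsOpenImmersion.lift a (c ≫ f) hrange
  have hl : l ≫ a = c ≫ f := IsOpenImmersion.lift_fac _ _ _
  let φ : CommRingCat.of A ⟶ CommRingCat.of C := Spec.preimage l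
  have hφ : Spec.map φ = l := Spec.map_preimage l
  letI : Algebra A C := φ.hom.toAlgebra
  have hc : c ≫ f = Spec.map (CommRingCat.ofHom (algebraMap A C)) ≫ a := by
    rw [← hl, ← hφ]; rfl
  have hy₀ : y₀ ∈ Set.range (J f a c hc B') := by
    rw [range_J, hcrange]; exact hyV
  have hy₁ : y₁ ∈ Set.range (J f a c hc B') := by
    rw [range_J, hcrange]; exact h1.mem_open V.isOpen hyV
  obtain ⟨t₀, rfl⟩ := hy₀
  obtain ⟨t₁, rfl⟩ := hy₁
  suffices hle : ∀ h : C ⊗[A] B', h ∈ (t₁ : PrimeSpectrum (C ⊗[A] B')).asIdeal →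
      h ∈ (t₀ : PrimeSpectrum (C ⊗[A] B')).asIdeal by
    have hsp : (t₁ : PrimeSpectrum (C ⊗[A] B')) ⤳ t₀ :=
      (PrimeSpectrum.le_iff_specializes _ _).mp hle
    exact Specializes.map hsp (J f a c hc B').continuous
  intro h hh
  obtain ⟨B, hB, h', rfl⟩ := exists_fg_subalgebra_tmul (A := A) (C := C) h
  haveI : Algebra.FiniteType A B := (Subalgebra.fg_iff_finiteType B).mp hB
  have k := key B B.val
  have e : ∀ t, (trans f a B.val) ((J f a c hc B') t) = (J f a c hc B) ((Spec.map
      (CommRingCat.ofHom (Algebra.TensorProduct.map (AlgHom.id A C) B.val).toRingHom)) t) := by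
    intro t
    rw [← Scheme.Hom.comp_apply, J_trans, Scheme.Hom.comp_apply]
  rw [e, e, (J f a c hc B).isOpenEmbedding.isInducing.specializes_iff] at k
  have k' := (PrimeSpectrum.le_iff_specializes
    (R := C ⊗[A] B) _ _).mpr k
  exact k' hh

open TopologicalSpace in
/-- If all locally finite type base changes of `f` reflect specializations, so do all base
changes. -/
theorem reflects_of_locallyOfFiniteType (f : Y ⟶ X)
    (h : ∀ (X' : Scheme.{u}) (g : X' ⟶ X) [LocallyOfFiniteType g] (y₀ y₁ : ↥(pullback f g)),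
      (pullback.snd f g) y₁ ⤳ (pullback.snd f g) y₀ → y₁ ⤳ y₀)
    (X' : Scheme.{u}) (g : X' ⟶ X) (y₀ y₁ : ↥(pullback f g))
    (hs : (pullback.snd f g) y₁ ⤳ (pullback.snd f g) y₀) : y₁ ⤳ y₀ := by
  set x₀ := (pullback.snd f g) y₀ with hx₀
  obtain ⟨U, hU, hxU, -⟩ := (Opens.isBasis_iff_nbhd.mp X.isBasis_affineOpens)
    (show g x₀ ∈ (⊤ : X.Opens) from trivial)
  have hU' : IsAffineOpen U := hU
  obtain ⟨U', hU'a, hxU', hU'le⟩ := (Opens.isBasis_iff_nbhd.mp X'.isBasis_affineOpens)
    (show x₀ ∈ g ⁻¹ᵁ U from hxU)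
  have hU'' : IsAffineOpen U' := hU'a
  let A : Type u := Γ(X, U)
  let B' : Type u := Γ(X', U')
  let a : Spec (.of A) ⟶ X := hU'.fromSpec
  let i : Spec (.of B') ⟶ X' := hU''.fromSpec
  let ψ : CommRingCat.of A ⟶ CommRingCat.of B' := g.appLE U U' hU'le
  letI : Algebra A B' := ψ.hom.toAlgebra
  have hg : gB a B' = i ≫ g := (IsAffineOpen.SpecMap_appLE_fromSpec g hU' hU'' hU'le)
  refine specializes_of_openImmersion f g i (gB a B') hg ?_ y₀ y₁ hs ?_
  · intro z₀ z₁ hz
    refine specializes_of_finiteType f a ?_ B' z₀ z₁ hz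
    intro B _ _ _ w₀ w₁ hw
    haveI : LocallyOfFiniteType (Spec.map (CommRingCat.ofHom (algebraMap A B))) := by
      rw [HasRingHomProperty.Spec_iff (P := @LocallyOfFiniteType)]
      exact RingHom.finiteType_algebraMap.mpr inferInstance
    exact h _ (gB a B) w₀ w₁ hw
  · rw [hU''.range_fromSpec]
    exact hxU'

end Groth.Agent.Lib.ReflSpecLimit
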