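import Groth.Agent.Lib.RegAwayPres
import Groth.Agent.Lib.RegSpreadGeom
import Groth.Prelude.Def_RegImm
import Mathlib.RingTheory.Regular.Flat
import Mathlib.AlgebraicGeometry.Morphisms.ClosedImmersion

/-!
# Regular closed immersions into affine space: local presentations (helper19)

Namespace `Groth.Agent.Lib.RegAwayPresSch`.
-/

set_option autoImplicit false
set_option linter.style.haveILetI false
universe u
open CategoryTheory AlgebraicGeometry TopologicalSpace RingTheory.Sequence

namespace Groth.Agent.Lib.RegAwayPresSch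

variable {X Z : Scheme.{u}}

/-- restricting a generating weakly regular sequence to a basic open (given up to equality) -/
theorem restrict_regular (ι : Z ⟶ X) {U : X.Opens} (hU : IsAffineOpen U)
    [hcl : IsClosedImmersion (ι ∣_ U)] (rs : List Γ(X, U)) (hrs : IsWeaklyRegular Γ(X, U) rs)
    (hker : RingHom.ker (ι.app U).hom = Ideal.ofList rs) (r' : Γ(X, U)) (W : X.Opens)
    (hW : W = X.basicOpen r') (hWU : W ≤ U) :
    IsWeaklyRegular Γ(X, W) (rs.map (X.presheaf.map (homOfLE hWU).op).hom) ∧
      RingHom.ker (ι.app W).hom = Ideal.ofList (rs.map (X.presheaf.map (homOfLE hWU).op).hom) := by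
  subst hW
  haveI : IsClosedImmersion (ι ∣_ (⟨U, hU⟩ : X.affineOpens).1) := hcl
  haveI : IsLocalization.Away r' Γ(X, X.basicOpen r') := hU.isLocalization_basicOpen r'
  haveI : Module.Flat Γ(X, U) Γ(X, X.basicOpen r') := IsLocalization.flat _ (Submonoid.powers r')
  refine ⟨hrs.of_flat, ?_⟩
  have := Groth.Agent.Lib.RegSpreadGeom.ker_app_basicOpen ι ⟨U, hU⟩ r'
  rw [this, hker, Ideal.map_ofList]

section affine

variable {A : Type u} [CommRing A] {n : ℕ} (I : Ideal (MvPolynomial (Fin n) A))

local notation "PP" => MvPolynomial (Fin n) A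

/-- kernel of the global sections of `Spec (P/I) → Spec P` -/
theorem ker_appTop :
    RingHom.ker ((Spec.map (CommRingCat.ofHom (Ideal.Quotient.mk I))).app ⊤).hom =
      I.comap (Scheme.ΓSpecIso (CommRingCat.of PP)).hom.hom := by
  ext a
  rw [RingHom.mem_ker, Ideal.mem_comap]
  have hnat := Scheme.ΓSpecIso_naturality (CommRingCat.ofHom (Ideal.Quotient.mk I))
  have hnat' : (Scheme.ΓSpecIso (CommRingCat.of (PP ⧸ I))).hom.hom
      ((Spec.map (CommRingCat.ofHom (Ideal.Quotient.mk I))).appTop.hom a) =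
      Ideal.Quotient.mk I ((Scheme.ΓSpecIso (CommRingCat.of PP)).hom.hom a) := congr($(hnat).hom a)
  have hbij : Function.Bijective (Scheme.ΓSpecIso (CommRingCat.of (PP ⧸ I))).hom.hom :=
    ConcreteCategory.bijective_of_isIso _
  rw [← Ideal.Quotient.eq_zero_iff_mem, ← hnat']
  constructor
  · intro h0
    exact (congrArg _ h0).trans (map_zero _)
  · intro h0
    exact hbij.1 (h0.trans (map_zero _).symm)

end affine

section affine2

variable {A : Type u} [CommRing A] {n : ℕ} (I : Ideal (MvPolynomial (Fin n) A))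

local notation "PP" => MvPolynomial (Fin n) A

open Groth.Agent.Lib.RegAwayPres in
theorem exists_presentation
    (h : RegImm.IsRegularImmersion RegImm.Kind.regular
      (Spec.map (CommRingCat.ofHom (Ideal.Quotient.mk I))))
    (q : PrimeSpectrum (PP ⧸ I)) :
    ∃ g : PP ⧸ I, g ∉ q.asIdeal ∧
      ∃ (d : ℕ) (P : Fin d → MvPolynomial (Fin (n + 1)) A),
        IsRegular (MvPolynomial (Fin (n + 1)) A) (List.ofFn P) ∧
        Nonempty (Localization.Away g ≃ₐ[A]
          (MvPolynomial (Fin (n + 1)) A ⧸ Ideal.ofList (List.ofFn P))) := by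
  let X : Scheme.{u} := Spec (CommRingCat.of PP)
  let ι : Spec (CommRingCat.of (PP ⧸ I)) ⟶ X := Spec.map (CommRingCat.ofHom (Ideal.Quotient.mk I))
  obtain ⟨U, hzU, hcl, rs, hrs, hker⟩ := h.2 q
  have hrs' : IsRegular Γ(X, U.1) rs := hrs
  haveI : IsClosedImmersion (ι ∣_ U.1) := hcl
  obtain ⟨r, hrU, hzr⟩ := (isAffineOpen_top X).exists_basicOpen_le (V := U.1) ⟨ι q, hzU⟩ trivial
  let r' : Γ(X, U.1) := (X.presheaf.map (homOfLE le_top).op).hom r
  have hW : X.basicOpen r = X.basicOpen r' := by
    rw [Scheme.basicOpen_res]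
    exact (inf_eq_right.mpr hrU).symm
  obtain ⟨hreg, hkerW⟩ := restrict_regular ι U.2 rs hrs'.toIsWeaklyRegular hker r'
    (X.basicOpen r) hW hrU
  let eΓ : Γ(X, ⊤) ≃+* PP := (Scheme.ΓSpecIso (CommRingCat.of PP)).commRingCatIsoToRingEquiv
  let h₀ : PP := eΓ r
  haveI : IsLocalization.Away r Γ(X, X.basicOpen r) :=
    (isAffineOpen_top X).isLocalization_basicOpen r
  have H : (Submonoid.powers r).map eΓ.toMonoidHom = Submonoid.powers h₀ :=
    Submonoid.map_powers _ _
  let ε : Γ(X, X.basicOpen r) ≃+* Localization.Away h₀ :=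
    IsLocalization.ringEquivOfRingEquiv (M := Submonoid.powers r) (T := Submonoid.powers h₀)
      Γ(X, X.basicOpen r) (Localization.Away h₀) eΓ H
  have hε : ∀ a, ε (algebraMap Γ(X, ⊤) Γ(X, X.basicOpen r) a) =
      algebraMap PP (Localization.Away h₀) (eΓ a) := IsLocalization.ringEquivOfRingEquiv_eq H
  let rsW : List Γ(X, X.basicOpen r) := rs.map (X.presheaf.map (homOfLE hrU).op).hom
  let f : List (Localization.Away h₀) := rsW.map ε
  have hf : IsWeaklyRegular (Localization.Away h₀) f := by
    refine (AddEquiv.isWeaklyRegular_congr (e := ε.toAddEquiv) ?_).mp hreg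
    rw [List.forall₂_map_right_iff, List.forall₂_same]
    intro a _ x
    simp
  have hI : I.map (algebraMap PP (Localization.Away h₀)) = Ideal.ofList f := by
    have h1 : Ideal.ofList f = (Ideal.ofList rsW).map (ε : _ →+* Localization.Away h₀) := by
      rw [Ideal.map_ofList]
      rfl
    rw [h1, ← hkerW]
    haveI hιcl : IsClosedImmersion ι :=
      IsClosedImmersion.spec_of_surjective _ Ideal.Quotient.mk_surjective
    haveI : IsClosedImmersion (ι ∣_ (⟨⊤, isAffineOpen_top X⟩ : X.affineOpens).1) :=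
      IsZariskiLocalAtTarget.restrict hιcl _
    rw [Groth.Agent.Lib.RegSpreadGeom.ker_app_basicOpen ι ⟨⊤, isAffineOpen_top X⟩ r]
    have h3 : RingHom.ker (ι.app (⟨⊤, isAffineOpen_top X⟩ : X.affineOpens).1).hom =
        I.comap (eΓ : _ →+* PP) := ker_appTop I
    rw [h3, Ideal.map_map]
    have h2 : (ε : _ →+* Localization.Away h₀).comp
        (X.presheaf.map (homOfLE (X.basicOpen_le r)).op).hom =
        (algebraMap PP (Localization.Away h₀)).comp (eΓ : _ →+* PP) := by
      ext a
      exact hε a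
    rw [h2, ← Ideal.map_map]
    congr 1
    exact (Ideal.map_comap_of_surjective _ eΓ.surjective I).symm
  have hg : Ideal.Quotient.mk I h₀ ∉ q.asIdeal := by
    have h1 : ι q ∈ X.basicOpen r := hzr
    rw [basicOpen_eq_of_affine'] at h1
    exact h1
  haveI : Nontrivial (Localization.Away (Ideal.Quotient.mk I h₀)) := by
    have hu : IsUnit (algebraMap (PP ⧸ I) (Localization.AtPrime q.asIdeal) (Ideal.Quotient.mk I h₀)) :=
      IsLocalization.map_units _ (⟨_, hg⟩ : q.asIdeal.primeCompl)
    exact (IsLocalization.Away.lift (S := Localization.Away (Ideal.Quotient.mk I h₀))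
      (Ideal.Quotient.mk I h₀) hu).domain_nontrivial
  exact ⟨_, hg, exists_presentation_away I h₀ f hf hI⟩

end affine2

end Groth.Agent.Lib.RegAwayPresSch
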