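/-
helper84: the charts `A[m/x]` of the blow-up of a two-dimensional regular local ring `A` in its
maximal ideal `m = (x, y)` have regular local rings: `A[m/x]/(x) ≅ κ[T]` (quasi-regularity of
`x, y`), primes containing `x` are `(x)` or `(x, g)`, primes not containing `x` come from
non-maximal (principal, by Auslander-Buchsbaum) primes of `A`.
-/
import Mathlib
import Groth.Agent.Lib.RegularLocal
import Groth.Agent.Lib.RegUFD6
import Groth.Agent.Lib.BlowUpProperAlg68

set_option autoImplicit false
set_option maxHeartbeats 800000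
set_option linter.style.haveILetI false
set_option linter.unusedSectionVars false
universe u

open IsLocalRing Polynomial Groth.Agent.Lib.AffineBlowupAlg Groth.Agent.Lib.BlowUpProperAlg68

namespace Groth.Agent.Lib.RegBlowUp84

/-- a Noetherian local domain with principal maximal ideal is regular -/
theorem isRegularLocalRing_of_isPrincipal (R : Type*) [CommRing R] [IsDomain R] [IsLocalRing R]
    [IsNoetherianRing R] (h : (maximalIdeal R).IsPrincipal) : IsRegularLocalRing R := by
  haveI : IsPrincipalIdealRing R :=
    ((tfae_of_isNoetherianRing_of_isLocalRing_of_isDomain R).out 4 0).mp h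
  infer_instance

/-- in a two-dimensional local UFD, every non-maximal prime is principal -/
theorem exists_eq_span_singleton_of_ne_maximalIdeal {A : Type*} [CommRing A] [IsDomain A]
    [IsLocalRing A] [UniqueFactorizationMonoid A] (hA : ringKrullDim A = 2)
    (p : Ideal A) [hp : p.IsPrime] (hpm : p ≠ maximalIdeal A) : ∃ π, p = Ideal.span {π} := by
  by_cases hp0 : p = ⊥
  · exact ⟨0, by rw [hp0]; simp⟩
  have hlt : p < maximalIdeal A := lt_of_le_of_ne (le_maximalIdeal hp.ne_top) hpm
  have h1 := Ideal.height_add_one_le_of_lt_of_isPrime hlt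
  have h2 : ((maximalIdeal A).height : WithBot ℕ∞) = 2 := by
    rw [IsLocalRing.maximalIdeal_height_eq_ringKrullDim, hA]
  have h2' : (maximalIdeal A).height = 2 := by
    have : ((maximalIdeal A).height : WithBot ℕ∞) = ((2 : ℕ∞) : WithBot ℕ∞) := h2
    exact WithBot.coe_injective this
  obtain ⟨π, hπp, hπ⟩ := Ideal.IsPrime.exists_mem_prime_of_ne_bot hp hp0
  refine ⟨π, ?_⟩
  have hle : Ideal.span {π} ≤ p := (Ideal.span_singleton_le_iff_mem p).mpr hπp
  haveI hP : (Ideal.span {π}).IsPrime := (Ideal.span_singleton_prime hπ.ne_zero).mpr hπ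
  by_contra hne
  have hlt' : Ideal.span {π} < p := lt_of_le_of_ne hle (Ne.symm hne)
  have h3 := Ideal.height_add_one_le_of_lt_of_isPrime hlt'
  have hbot : (⊥ : Ideal A) < Ideal.span {π} := by
    rw [bot_lt_iff_ne_bot, Ne, Ideal.span_singleton_eq_bot]
    exact hπ.ne_zero
  haveI : (⊥ : Ideal A).IsPrime := Ideal.isPrime_bot
  have h4 := Ideal.height_add_one_le_of_lt_of_isPrime hbot
  rw [h2'] at h1
  have h5 : (⊥ : Ideal A).height + 1 + 1 + 1 ≤ 2 :=
    le_trans (add_le_add_left (le_trans (add_le_add_left h4 1) h3) 1) h1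
  have h6 : (3 : ℕ∞) ≤ (⊥ : Ideal A).height + 1 + 1 + 1 := by
    have : (3 : ℕ∞) = 0 + 1 + 1 + 1 := by norm_num
    rw [this]
    gcongr
    exact zero_le
  exact absurd (le_trans h6 h5) (by decide)

section Alg

variable {A : Type u} [CommRing A] [IsRegularLocalRing A] (hA : ringKrullDim A = 2)
  (x y : A) (hm : maximalIdeal A = Ideal.span {x, y})

include hA hm in
/-- `y` is a nonzerodivisor modulo `x`. -/
theorem dvd_of_dvd_mul (c : A) (h : x ∣ y * c) : x ∣ c := by
  have hreg := Groth.Agent.Lib.RegularLocal.isRegular_ofFn A 2 (by exact_mod_cast hA) ![x, y]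
    (by
      rw [hm]
      congr 1
      ext z
      simp [Matrix.range_cons, Matrix.range_empty, or_comm])
  have h2 : List.ofFn ![x, y] = [x, y] := by simp
  rw [h2] at hreg
  have hw := hreg.toIsWeaklyRegular
  rw [RingTheory.Sequence.isWeaklyRegular_cons_iff,
    RingTheory.Sequence.isWeaklyRegular_singleton_iff] at hw
  have := mem_of_isSMulRegular_quotient_of_smul_mem hw.2 (x := c)
    (by
      obtain ⟨d, hd⟩ := h
      rw [Submodule.mem_smul_pointwise_iff_exists]
      exact ⟨d, trivial, by rw [smul_eq_mul, smul_eq_mul, hd]⟩)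
  rw [Submodule.mem_smul_pointwise_iff_exists] at this
  obtain ⟨d, -, hd⟩ := this
  exact ⟨d, hd.symm⟩

include hA hm in
theorem dvd_of_dvd_pow_mul (n : ℕ) (c : A) (h : x ∣ y ^ n * c) : x ∣ c := by
  induction n with
  | zero => simpa using h
  | succ n ih =>
    apply ih
    apply dvd_of_dvd_mul hA x y hm
    rwa [← mul_assoc, ← pow_succ']

include hA hm in
theorem x_ne_zero : x ≠ 0 := by
  rintro rfl
  have h1 : maximalIdeal A = Ideal.span {y} := by
    rw [hm]
    apply le_antisymm
    · rw [Ideal.span_le]
      rintro z (rfl | rfl)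
      · exact Ideal.zero_mem _
      · exact Ideal.subset_span rfl
    · exact Ideal.span_mono (by simp)
  have h2 : (maximalIdeal A).spanFinrank ≤ 1 := by
    rw [h1]
    have := Submodule.spanFinrank_span_le_ncard_of_finite (R := A) (Set.finite_singleton y)
    simpa using this
  have h3 := Groth.Agent.Lib.RegularLocal.spanFinrank_maximalIdeal_eq_of_ringKrullDim_eq
    (R := A) (d := 2) (by exact_mod_cast hA)
  omega

include hA hm in
/-- quasi-regularity of `x, y`: a homogeneous relation has coefficients in the maximal ideal -/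
theorem coeff_mem_of_sum_eq_zero : ∀ (n : ℕ) (a : ℕ → A),
    (∑ i ∈ Finset.range (n + 1), a i * y ^ i * x ^ (n - i)) = 0 →
    ∀ i ≤ n, a i ∈ maximalIdeal A := by
  have hxm : x ∈ maximalIdeal A := hm ▸ Ideal.subset_span (by simp)
  have hym : y ∈ maximalIdeal A := hm ▸ Ideal.subset_span (by simp)
  haveI : IsDomain A := Groth.Agent.Lib.RegularLocal.isDomain A
  have hx0 : x ≠ 0 := x_ne_zero hA x y hm
  intro n
  induction n with
  | zero =>
    intro a h i hi
    simp at h
    obtain rfl : i = 0 := by omega
    rw [h]
    exact Ideal.zero_mem _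
  | succ n ih =>
    intro a h i hi
    rw [Finset.sum_range_succ] at h
    -- x ∣ a (n+1) * y^(n+1)
    have hdvd : x ∣ y ^ (n + 1) * a (n + 1) := by
      have h1 : a (n + 1) * y ^ (n + 1) * x ^ (n + 1 - (n + 1)) =
          - ∑ i ∈ Finset.range (n + 1), a i * y ^ i * x ^ (n + 1 - i) := by
        rw [eq_neg_iff_add_eq_zero, add_comm]; exact h
      rw [Nat.sub_self, pow_zero, mul_one] at h1
      rw [mul_comm, h1, dvd_neg]
      apply Finset.dvd_sum
      intro j hj
      rw [Finset.mem_range] at hj
      have : n + 1 - j = (n - j) + 1 := by omega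
      rw [this, pow_succ, ← mul_assoc]
      exact Dvd.intro_left _ rfl
    obtain ⟨c, hc⟩ := dvd_of_dvd_pow_mul hA x y hm (n + 1) _ hdvd
    -- new coefficients
    let a' : ℕ → A := fun j => if j = n then a n + c * y else a j
    have hsum : (∑ j ∈ Finset.range (n + 1), a' j * y ^ j * x ^ (n - j)) = 0 := by
      apply mul_left_cancel₀ hx0
      rw [mul_zero, ← h, Finset.mul_sum]
      rw [Finset.sum_range_succ, Finset.sum_range_succ _ n]
      have e1 : ∀ j ∈ Finset.range n, x * (a' j * y ^ j * x ^ (n - j)) =
          a j * y ^ j * x ^ (n + 1 - j) := by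
        intro j hj
        rw [Finset.mem_range] at hj
        have hjn : j ≠ n := by omega
        have : n + 1 - j = (n - j) + 1 := by omega
        simp only [a', if_neg hjn, this]
        ring
      rw [Finset.sum_congr rfl e1]
      simp only [a', if_true, Nat.sub_self, pow_zero, mul_one, hc]
      have : n + 1 - n = 1 := by omega
      rw [this]
      ring
    have key := ih a' hsum
    rcases Nat.lt_or_ge i n with hlt | hge
    · have := key i hlt.le
      simp only [a', if_neg (ne_of_lt hlt)] at this
      exact this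
    · rcases Nat.eq_or_lt_of_le hge with heq | hgt
      · subst heq
        have := key n le_rfl
        simp only [a', if_true] at this
        have h2 : c * y ∈ maximalIdeal A := Ideal.mul_mem_left _ _ hym
        exact (Ideal.add_mem_iff_left _ h2).mp this
      · obtain rfl : i = n + 1 := by omega
        rw [hc]
        exact Ideal.mul_mem_right _ _ hxm

variable (hxm : x ∈ maximalIdeal A) (hym : y ∈ maximalIdeal A)

/-- the chart algebra `A[m/x]` -/
abbrev Bx : Type u := Bl (maximalIdeal A) x

/-- `t = y/x` -/
noncomputable abbrev tt : Bx x := gen (maximalIdeal A) x y hym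

/-- `x` in the chart algebra -/
noncomputable abbrev xx : Bx x := algebraMap A (Bx x) x

theorem tt_mul_xx : tt x y hym * xx x = algebraMap A (Bx x) y := gen_mul _ _ _ _

include hA hm in
theorem algebraMap_injective : Function.Injective (algebraMap A (Bx x)) := by
  haveI : IsDomain A := Groth.Agent.Lib.RegularLocal.isDomain A
  have hx0 := x_ne_zero hA x y hm
  have h1 : Function.Injective (algebraMap A (Localization.Away x)) :=
    IsLocalization.injective (Localization.Away x)
      (powers_le_nonZeroDivisors_of_noZeroDivisors hx0)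
  intro a b hab
  apply h1
  exact congrArg Subtype.val hab

include hm in
theorem aeval_tt_surjective : Function.Surjective (aeval (R := A) (tt x y hym)) := by
  have hxm' : x ∈ maximalIdeal A := hm ▸ Ideal.subset_span (by simp)
  have h1 := adjoin_gen_eq_top (maximalIdeal A) x ({x, y} : Set A) hm.symm
  have h2 : Algebra.adjoin A {tt x y hym} = ⊤ := by
    rw [eq_top_iff, ← h1]
    apply Algebra.adjoin_le
    rintro z ⟨s, hs, hs', rfl⟩
    rcases hs' with rfl | rfl
    · rw [gen_self _ _ hxm']
      exact Subalgebra.one_mem _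
    · exact Algebra.subset_adjoin rfl
  rw [← AlgHom.range_eq_top, ← Algebra.adjoin_singleton_eq_range_aeval, h2]

theorem aeval_mul_pow (f : A[X]) (n : ℕ) (hn : f.natDegree ≤ n) :
    aeval (tt x y hym) f * xx x ^ n =
      algebraMap A (Bx x) (∑ i ∈ Finset.range (n + 1), f.coeff i * y ^ i * x ^ (n - i)) := by
  rw [aeval_eq_sum_range' (Nat.lt_succ_of_le hn), Finset.sum_mul, map_sum]
  apply Finset.sum_congr rfl
  intro i hi
  rw [Finset.mem_range] at hi
  have : n = i + (n - i) := by omega
  rw [map_mul, map_mul, map_pow, map_pow, ← tt_mul_xx x y hym, Algebra.smul_def]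
  conv_lhs => rw [this, pow_add]
  ring

include hA hm in
/-- the kernel of `A[T] → A[m/x]/(x)` is `m A[T]` -/
theorem mem_map_C_of_aeval_mem (f : A[X])
    (hf : aeval (tt x y hym) f ∈ Ideal.span {xx x}) : f ∈ (maximalIdeal A).map C := by
  have hxm' : x ∈ maximalIdeal A := hm ▸ Ideal.subset_span (by simp)
  rw [Ideal.mem_span_singleton'] at hf
  obtain ⟨b, hb⟩ := hf
  obtain ⟨h, rfl⟩ := aeval_tt_surjective x y hm hym b
  set g := f - h * C x with hg
  have hg0 : aeval (tt x y hym) g = 0 := by
    rw [hg, map_sub, map_mul, aeval_C, hb, sub_self]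
  have hsum := aeval_mul_pow x y hym g g.natDegree le_rfl
  rw [hg0, zero_mul] at hsum
  have hsum' := algebraMap_injective hA x y hm (hsum.symm.trans (map_zero _).symm)
  have hcoef := coeff_mem_of_sum_eq_zero hA x y hm g.natDegree (fun i => g.coeff i) hsum'
  have hgm : g ∈ (maximalIdeal A).map C := by
    rw [Ideal.mem_map_C_iff]
    intro i
    by_cases hi : i ≤ g.natDegree
    · exact hcoef i hi
    · rw [coeff_eq_zero_of_natDegree_lt (not_le.mp hi)]
      exact Ideal.zero_mem _
  have : f = g + h * C x := by rw [hg]; ring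
  rw [this]
  exact Ideal.add_mem _ hgm (Ideal.mul_mem_left _ _ (Ideal.mem_map_of_mem _ hxm'))

/-- `A[T] → A[m/x]/(x)` -/
noncomputable def Phi : A[X] →+* (Bx x ⧸ Ideal.span {xx x}) :=
  (Ideal.Quotient.mk _).comp (aeval (R := A) (tt x y hym)).toRingHom

include hm in
theorem Phi_surjective : Function.Surjective (Phi x y hym) :=
  Ideal.Quotient.mk_surjective.comp (aeval_tt_surjective x y hm hym)

include hA hm in
theorem ker_Phi : RingHom.ker (Phi x y hym) = (maximalIdeal A).map C := by
  have hxm' : x ∈ maximalIdeal A := hm ▸ Ideal.subset_span (by simp)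
  apply le_antisymm
  · intro f hf
    rw [RingHom.mem_ker] at hf
    change Ideal.Quotient.mk _ (aeval (tt x y hym) f) = 0 at hf
    rw [Ideal.Quotient.eq_zero_iff_mem] at hf
    exact mem_map_C_of_aeval_mem hA x y hm hym f hf
  · rw [Ideal.map_le_iff_le_comap]
    intro a ha
    rw [Ideal.mem_comap, RingHom.mem_ker]
    change Ideal.Quotient.mk _ (aeval (tt x y hym) (C a)) = 0
    rw [Ideal.Quotient.eq_zero_iff_mem, aeval_C, ← map_eq_span (maximalIdeal A) x hxm']
    exact Ideal.mem_map_of_mem _ ha

/-- `A[m/x]/(x) ≅ κ[T]` -/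
noncomputable def quotEquiv :
    (A ⧸ maximalIdeal A)[X] ≃+* (Bx x ⧸ Ideal.span {xx x}) :=
  (Ideal.polynomialQuotientEquivQuotientPolynomial (maximalIdeal A)).trans
    ((Ideal.quotEquivOfEq (ker_Phi hA x y hm hym).symm).trans
      (RingHom.quotientKerEquivOfSurjective (Phi_surjective x y hm hym)))

include hA hm hym in
theorem isDomain_quot : IsDomain (Bx x ⧸ Ideal.span {xx x}) :=
  (quotEquiv hA x y hm hym).symm.toMulEquiv.isDomain _

include hA hm hym in
theorem isPrime_span_xx : (Ideal.span {xx x}).IsPrime :=
  (Ideal.Quotient.isDomain_iff_prime _).mp (isDomain_quot hA x y hm hym)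

include hA hm hym in
theorem isPrincipalIdealRing_quot : IsPrincipalIdealRing (Bx x ⧸ Ideal.span {xx x}) := by
  letI := Ideal.Quotient.field (maximalIdeal A)
  exact IsPrincipalIdealRing.of_surjective (quotEquiv hA x y hm hym).toRingHom
    (quotEquiv hA x y hm hym).surjective

include hA hm hym in
/-- every ideal containing `x` is generated by `x` and one more element -/
theorem exists_eq_span_pair (q : Ideal (Bx x)) (hq : xx x ∈ q) :
    ∃ g, q = Ideal.span {xx x, g} := by
  haveI := isPrincipalIdealRing_quot hA x y hm hym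
  obtain ⟨gbar, hg⟩ := (IsPrincipalIdealRing.principal
    (q.map (Ideal.Quotient.mk (Ideal.span {xx x})))).principal
  obtain ⟨g, rfl⟩ := Ideal.Quotient.mk_surjective gbar
  refine ⟨g, ?_⟩
  have hle : Ideal.span {xx x} ≤ q := (Ideal.span_singleton_le_iff_mem _).mpr hq
  have h1 : q = (q.map (Ideal.Quotient.mk (Ideal.span {xx x}))).comap
      (Ideal.Quotient.mk (Ideal.span {xx x})) := by
    rw [Ideal.comap_map_of_surjective _ Ideal.Quotient.mk_surjective, ← RingHom.ker_eq_comap_bot,
      Ideal.mk_ker, sup_eq_left.mpr hle]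
  have h2 : (Ideal.span {Ideal.Quotient.mk (Ideal.span {xx x}) g} : Ideal (Bx x ⧸ Ideal.span {xx x})) =
      (Ideal.span {g}).map (Ideal.Quotient.mk (Ideal.span {xx x})) := by
    rw [Ideal.map_span, Set.image_singleton]
  rw [h1, hg]
  change Ideal.comap _ (Ideal.span {_}) = _
  rw [h2, Ideal.comap_map_of_surjective _ Ideal.Quotient.mk_surjective, ← RingHom.ker_eq_comap_bot,
    Ideal.mk_ker, Ideal.span_insert, sup_comm]

include hA hm in
theorem isDomain_Bx : IsDomain (Bx x) := by
  haveI : IsDomain A := Groth.Agent.Lib.RegularLocal.isDomain A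
  have hx0 := x_ne_zero hA x y hm
  haveI : IsDomain (Localization.Away x) :=
    IsLocalization.isDomain_localization (powers_le_nonZeroDivisors_of_noZeroDivisors hx0)
  infer_instance

include hm hym in
theorem isNoetherianRing_Bx : IsNoetherianRing (Bx x) :=
  isNoetherianRing_of_surjective A[X] (Bx x) (aeval (R := A) (tt x y hym)).toRingHom
    (aeval_tt_surjective x y hm hym)

/-- every element of the chart algebra is `a / x^n` -/
theorem exists_mul_pow_eq (b : Bx x) : ∃ (n : ℕ) (a : A), b * xx x ^ n = algebraMap A (Bx x) a := by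
  obtain ⟨⟨a, s⟩, hs⟩ := IsLocalization.surj (Submonoid.powers x) (b : Localization.Away x)
  obtain ⟨n, hn⟩ := s.2
  refine ⟨n, a, Subtype.ext ?_⟩
  change (b : Localization.Away x) * (algebraMap A (Localization.Away x) x) ^ n =
    algebraMap A (Localization.Away x) a
  rw [← map_pow, show x ^ n = (s : A) from hn]
  exact hs

include hA hm hym in
/-- **All local rings of the chart `A[m/x]` of the blow-up of a two-dimensional regular local
ring in its maximal ideal are regular.** -/
theorem isRegularLocalRing_localization (q : Ideal (Bx x)) [hq : q.IsPrime] :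
    IsRegularLocalRing (Localization.AtPrime q) := by
  haveI : IsDomain A := Groth.Agent.Lib.RegularLocal.isDomain A
  haveI : UniqueFactorizationMonoid A := Groth.Agent.Lib.RegUFD6.ufd_of_isRegularLocalRing A
  haveI := isDomain_Bx hA x y hm
  haveI := isNoetherianRing_Bx x y hm hym
  have hx0 := x_ne_zero hA x y hm
  have hxm' : x ∈ maximalIdeal A := hm ▸ Ideal.subset_span (by simp)
  have hxx0 : xx x ≠ 0 := by
    intro h
    exact hx0 (algebraMap_injective hA x y hm (h.trans (map_zero _).symm))
  have hmax : maximalIdeal (Localization.AtPrime q) =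
      q.map (algebraMap (Bx x) (Localization.AtPrime q)) :=
    (Localization.AtPrime.map_eq_maximalIdeal).symm
  by_cases hxq : xx x ∈ q
  · obtain ⟨g, hg⟩ := exists_eq_span_pair hA x y hm hym q hxq
    by_cases hq1 : q = Ideal.span {xx x}
    · apply isRegularLocalRing_of_isPrincipal
      have hmap1 : q.map (algebraMap (Bx x) (Localization.AtPrime q)) =
          Ideal.span {algebraMap (Bx x) (Localization.AtPrime q) (xx x)} := by
        have := Ideal.map_span (algebraMap (Bx x) (Localization.AtPrime q)) {xx x}
        rw [Set.image_singleton] at this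
        rw [← this]
        congr 1
      rw [hmax, hmap1]
      exact ⟨⟨_, rfl⟩⟩
    · apply IsRegularLocalRing.of_spanFinrank_maximalIdeal_le
      have h1 : (maximalIdeal (Localization.AtPrime q)).spanFinrank ≤ 2 := by
        have hmap2 : q.map (algebraMap (Bx x) (Localization.AtPrime q)) =
            Ideal.span ((algebraMap (Bx x) (Localization.AtPrime q)) '' {xx x, g}) := by
          rw [← Ideal.map_span]
          congr 1
        rw [hmax, hmap2]
        refine (Submodule.spanFinrank_span_le_ncard_of_finite
          ((Set.toFinite _).image _)).trans ?_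
        refine (Set.ncard_image_le (Set.toFinite _)).trans ?_
        exact (Set.ncard_insert_le _ _).trans (by simp)
      have h2 : (2 : ℕ∞) ≤ q.height := by
        haveI hP := isPrime_span_xx hA x y hm hym
        haveI : (⊥ : Ideal (Bx x)).IsPrime := Ideal.isPrime_bot
        have hbot : (⊥ : Ideal (Bx x)) < Ideal.span {xx x} := by
          rw [bot_lt_iff_ne_bot, Ne, Ideal.span_singleton_eq_bot]
          exact hxx0
        have hlt : Ideal.span {xx x} < q :=
          lt_of_le_of_ne ((Ideal.span_singleton_le_iff_mem q).mpr hxq) (Ne.symm hq1)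
        have h3 := Ideal.height_add_one_le_of_lt_of_isPrime hbot
        have h4 := Ideal.height_add_one_le_of_lt_of_isPrime hlt
        have h5 : (2 : ℕ∞) ≤ (⊥ : Ideal (Bx x)).height + 1 + 1 := by
          have : (2 : ℕ∞) = 0 + 1 + 1 := by norm_num
          rw [this]
          gcongr
          exact zero_le
        exact h5.trans ((add_le_add_left h3 1).trans h4)
      rw [IsLocalization.AtPrime.ringKrullDim_eq_height q (Localization.AtPrime q)]
      have h6 : (((maximalIdeal (Localization.AtPrime q)).spanFinrank : ℕ∞) : WithBot ℕ∞) ≤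
          ((2 : ℕ∞) : WithBot ℕ∞) := by exact_mod_cast h1
      exact h6.trans (by exact_mod_cast h2)
  · -- `x` is invertible at `q`: the local ring is a localization of `A`
    set p : Ideal A := q.comap (algebraMap A (Bx x)) with hp
    haveI : p.IsPrime := Ideal.comap_isPrime _ _
    have hpm : p ≠ maximalIdeal A := by
      intro h
      apply hxq
      have : x ∈ p := h ▸ hxm'
      exact this
    obtain ⟨π, hπ⟩ := exists_eq_span_singleton_of_ne_maximalIdeal hA p hpm
    apply isRegularLocalRing_of_isPrincipal
    refine ⟨⟨algebraMap (Bx x) (Localization.AtPrime q) (algebraMap A (Bx x) π), ?_⟩⟩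
    change _ = Ideal.span _
    have hu : IsUnit (algebraMap (Bx x) (Localization.AtPrime q) (xx x)) :=
      IsLocalization.map_units (Localization.AtPrime q) (⟨xx x, hxq⟩ : q.primeCompl)
    apply le_antisymm
    · rw [hmax, Ideal.map_le_iff_le_comap]
      intro b hb
      rw [Ideal.mem_comap, Ideal.mem_span_singleton]
      obtain ⟨n, a, hab⟩ := exists_mul_pow_eq x b
      have hap : a ∈ p := by
        rw [hp, Ideal.mem_comap, ← hab]
        exact Ideal.mul_mem_right _ _ hb
      rw [hπ, Ideal.mem_span_singleton] at hap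
      obtain ⟨c, rfl⟩ := hap
      have h1 := congrArg (algebraMap (Bx x) (Localization.AtPrime q)) hab
      rw [map_mul, map_pow, map_mul (algebraMap A (Bx x)), map_mul] at h1
      rw [← (hu.pow n).dvd_mul_right, h1]
      exact Dvd.intro _ rfl
    · rw [Ideal.span_singleton_le_iff_mem, hmax]
      apply Ideal.mem_map_of_mem
      have : π ∈ p := hπ ▸ Ideal.subset_span rfl
      exact this

end Alg

end Groth.Agent.Lib.RegBlowUp84
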