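import Groth.Agent.Lib.KRegImm
import Groth.Agent.Lib.KRegToReg19

/-!
# Base change of kernels of closed immersions on affine charts (helper19)

* `ker_baseChange` : for a pullback square and affine opens `U' ≤ g⁻¹ U` with `i` a closed immersion
  over `U`, the kernel of `i'` on `U'` is the extension of the kernel of `i` on `U` (no flatness).
* `appLE_SpecMap_fromSpec` : sections of `Spec A ⟶ Spec Γ(S, W) ⟶ S`.
-/

set_option autoImplicit false
universe u
open CategoryTheory CategoryTheory.Limits AlgebraicGeometry TopologicalSpace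

namespace Groth.Agent.Lib.RegChartBC19

open Groth.Agent.Lib.KoszulImmPerfect

/-- base change of the kernel of a closed immersion on affine charts -/
theorem ker_baseChange {X Y X' Y' : Scheme.{u}} {i : Y ⟶ X} {g : X' ⟶ X}
    {i' : Y' ⟶ X'} {g' : Y' ⟶ Y} (hsq : IsPullback g' i' i g) {U : X.Opens}
    (hU : IsAffineOpen U) (hcl : IsClosedImmersion (i ∣_ U))
    {U' : X'.Opens} (hU' : IsAffineOpen U') (hle : U' ≤ g ⁻¹ᵁ U) :
    IsClosedImmersion (i' ∣_ U') ∧
      RingHom.ker (i'.app U').hom = (RingHom.ker (i.app U).hom).map (g.appLE U U' hle).hom := by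
  have hV : IsAffineOpen (i ⁻¹ᵁ U) := isAffineOpen_preimage_of_isClosedImmersion_restrict i U hU
  have hUY : i' ⁻¹ᵁ U' = g' ⁻¹ᵁ (i ⁻¹ᵁ U) ⊓ i' ⁻¹ᵁ U' := by
    refine le_antisymm (le_inf ?_ le_rfl) inf_le_right
    intro z hz
    show i (g' z) ∈ U
    rw [← Scheme.Hom.comp_apply, hsq.w, Scheme.Hom.comp_apply]
    exact hle hz
  refine ⟨?_, ?_⟩
  · have hpb := Scheme.Hom.isPullback_resLE hsq hle (le_refl (i ⁻¹ᵁ U)) hUY
    have h1 : IsClosedImmersion (i.resLE U (i ⁻¹ᵁ U) le_rfl) := by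
      rw [Scheme.Hom.resLE_eq_morphismRestrict]
      exact hcl
    have h2 := MorphismProperty.of_isPullback (P := @IsClosedImmersion) hpb h1
    rwa [Scheme.Hom.resLE_eq_morphismRestrict] at h2
  · have hiso := isIso_pushoutSection_of_isAffineOpen hsq hle (le_refl (i ⁻¹ᵁ U)) hUY hU hU' hV
    have hpo := (isIso_pushoutSection_iff hsq hle (le_refl (i ⁻¹ᵁ U)) hUY).mp hiso
    have hsurj : Function.Surjective (i.appLE U (i ⁻¹ᵁ U) le_rfl).hom := by
      rw [Scheme.Hom.appLE_eq_app]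
      exact app_surjective_of_isClosedImmersion_restrict i U hU
    have hk := Groth.Agent.Lib.IdealComap.ker_of_isPushout hpo hsurj
    rw [Scheme.Hom.appLE_eq_app, Scheme.Hom.appLE_eq_app] at hk
    exact hk

/-- Sections over `W` of the morphism `Spec A ⟶ S` attached to `α : Γ(S, W) ⟶ A`. -/
theorem appLE_SpecMap_fromSpec {S : Scheme.{u}} {W : S.Opens} (hW : IsAffineOpen W)
    {A : CommRingCat.{u}} (α : Γ(S, W) ⟶ A) (hle : ⊤ ≤ (Spec.map α ≫ hW.fromSpec) ⁻¹ᵁ W) :
    (Spec.map α ≫ hW.fromSpec).appLE W ⊤ hle = α ≫ (Scheme.ΓSpecIso A).inv := by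
  apply Spec.map_injective
  rw [← cancel_mono hW.fromSpec,
    hW.SpecMap_appLE_fromSpec (Spec.map α ≫ hW.fromSpec) (isAffineOpen_top _) hle,
    IsAffineOpen.fromSpec_top, Scheme.isoSpec_Spec_inv, Spec.map_comp, Category.assoc]

theorem top_le_preimage {S : Scheme.{u}} {W : S.Opens} (hW : IsAffineOpen W)
    {T : Scheme.{u}} (t : T ⟶ Spec Γ(S, W)) : ⊤ ≤ (t ≫ hW.fromSpec) ⁻¹ᵁ W := by
  intro z _
  show (t ≫ hW.fromSpec) z ∈ W
  have h : hW.fromSpec (t z) ∈ hW.fromSpec.opensRange := ⟨_, rfl⟩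
  rw [hW.opensRange_fromSpec] at h
  exact h

theorem appLE_congr {X Y : Scheme.{u}} {f f' : X ⟶ Y} (h : f = f') (U : Y.Opens) (V : X.Opens)
    (e : V ≤ f ⁻¹ᵁ U) : f.appLE U V e = f'.appLE U V (by subst h; exact e) := by
  subst h; rfl


open Groth.Agent.Lib.KRegToReg19 in
/-- a regular chart on an affine open piece `Spec B ⟶ X'` of a base change -/
theorem isRegularImmersionAt_of_chart {Z X X' : Scheme.{u}} (i : Z ⟶ X) [IsClosedImmersion i]
    (g : X' ⟶ X) {U : X.Opens} (hU : IsAffineOpen U) (rs : List Γ(X, U))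
    (hker : RingHom.ker (i.app U).hom = Ideal.ofList rs)
    (B : Type u) [CommRing B] (b : List B) (hb : RingTheory.Sequence.IsRegular B b)
    (φ : Γ(X, U) →+* B) (hbI : Ideal.ofList b = (Ideal.ofList rs).map φ)
    (ι : Spec (CommRingCat.of B) ⟶ X') [IsOpenImmersion ι]
    (hι : ι ≫ g = Spec.map (CommRingCat.ofHom φ) ≫ hU.fromSpec)
    (w : ↥(pullback i g)) (hw : (pullback.snd i g) w ∈ ι.opensRange) :
    RegImm.IsRegularImmersionAt RegImm.Kind.regular (pullback.snd i g) w := by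
  have hU' : IsAffineOpen ι.opensRange := isAffineOpen_opensRange ι
  have hclU : IsClosedImmersion (i ∣_ U) :=
    IsZariskiLocalAtTarget.restrict (P := @IsClosedImmersion) inferInstance U
  have hcl' : IsClosedImmersion (pullback.snd i g ∣_ ι.opensRange) :=
    IsZariskiLocalAtTarget.restrict (P := @IsClosedImmersion) inferInstance _
  -- the two pullback squares
  have sqA : IsPullback (pullback.fst (pullback.snd i g) ι) (pullback.snd (pullback.snd i g) ι)
      (pullback.snd i g) ι := IsPullback.of_hasPullback _ _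
  have sqB : IsPullback (pullback.fst i g) (pullback.snd i g) i g := IsPullback.of_hasPullback _ _
  have sqC := sqA.paste_horiz sqB
  have htop : IsAffineOpen (⊤ : (Spec (CommRingCat.of B)).Opens) := isAffineOpen_top _
  have hle1 : (⊤ : (Spec (CommRingCat.of B)).Opens) ≤ (ι ≫ g) ⁻¹ᵁ U := by
    rw [hι]
    exact top_le_preimage hU _
  have hle2 : (⊤ : (Spec (CommRingCat.of B)).Opens) ≤ ι ⁻¹ᵁ ι.opensRange := by
    intro y _
    exact ⟨y, rfl⟩
  obtain ⟨-, hk1⟩ := ker_baseChange sqC hU hclU htop hle1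
  obtain ⟨-, hk2⟩ := ker_baseChange sqA hU' hcl' htop hle2
  have happ : (ι ≫ g).appLE U ⊤ hle1 =
      CommRingCat.ofHom φ ≫ (Scheme.ΓSpecIso (CommRingCat.of B)).inv := by
    rw [appLE_congr hι U ⊤ hle1]
    exact appLE_SpecMap_fromSpec hU _ _
  rw [happ, hker] at hk1
  -- the two ring isomorphisms
  let e₁ : B ≃+* Γ(Spec (CommRingCat.of B), ⊤) :=
    (Scheme.ΓSpecIso (CommRingCat.of B)).symm.commRingCatIsoToRingEquiv
  have hθ : IsIso (ι.appLE ι.opensRange ⊤ hle2) := by
    rw [Scheme.Hom.appLE]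
    have : IsIso (ι.app ι.opensRange) := Scheme.Hom.isIso_app ι _ le_rfl
    have h2 : IsIso ((Spec (CommRingCat.of B)).presheaf.map (homOfLE hle2).op) := by
      have : IsIso (homOfLE hle2) :=
        ⟨homOfLE (by rw [Scheme.Hom.preimage_opensRange]), rfl, rfl⟩
      infer_instance
    infer_instance
  let e₂ : Γ(X', ι.opensRange) ≃+* Γ(Spec (CommRingCat.of B), ⊤) :=
    (asIso (ι.appLE ι.opensRange ⊤ hle2)).commRingCatIsoToRingEquiv
  have hk1' : RingHom.ker ((pullback.snd (pullback.snd i g) ι).app ⊤).hom =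
      (Ideal.ofList b).map (e₁ : B →+* Γ(Spec (CommRingCat.of B), ⊤)) := by
    rw [hk1, hbI, Ideal.map_map]
    rfl
  have hk2' : RingHom.ker ((pullback.snd (pullback.snd i g) ι).app ⊤).hom =
      (RingHom.ker ((pullback.snd i g).app ι.opensRange).hom).map e₂ := hk2
  have hfinal : RingHom.ker ((pullback.snd i g).app ι.opensRange).hom =
      Ideal.ofList (b.map (e₁.trans e₂.symm)) := by
    have h1 : RingHom.ker ((pullback.snd i g).app ι.opensRange).hom =
        ((RingHom.ker ((pullback.snd i g).app ι.opensRange).hom).map e₂).comap e₂ :=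
      (Ideal.comap_map_of_bijective e₂ e₂.bijective).symm
    rw [h1, ← hk2', hk1', ← Ideal.map_symm]
    show Ideal.map (e₂.symm : Γ(Spec (CommRingCat.of B), ⊤) →+* Γ(X', ι.opensRange))
      (Ideal.map (e₁ : B →+* Γ(Spec (CommRingCat.of B), ⊤)) (Ideal.ofList b)) = _
    rw [Ideal.map_map, Ideal.map_ofList]
    rfl
  exact ⟨⟨ι.opensRange, hU'⟩, hw, hcl', b.map (e₁.trans e₂.symm),
    isRegular_map_ringEquiv (e₁.trans e₂.symm) b hb, hfinal⟩

end Groth.Agent.Lib.RegChartBC19
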