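/-
Groth.Agent.Lib.RegClosed49 (helper49)

Castelnuovo–Mumford regularity for coherent modules on a closed subscheme `i : X ⟶ P^n_k` (`Pic13.IsMRegular`):
* `subsingleton_HH_twistOn_iff` : `H^q(X, F(d)) = 0 ↔ H^q(P^n, (i_*F)(d)) = 0`;
* `epi_counit_of_isClosedImmersion` : the counit `i^* i_* N ⟶ N` is an epimorphism;
* `isMRegular_of_le`, `isGloballyGenerated_twistOn` : Mumford's theorem on `X` (S12111).
-/
import Groth.Agent.Lib.H4SerreVanClosed
import Groth.Agent.Lib.H4Regularity
import Groth.Agent.Lib.GlobGenDescent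
import Groth.Agent.Lib.ClosedPushExact17
import Groth.Agent.Lib.H90DevFilt
import Groth.Agent.Lib.H78AmpleTwist
import Groth.Agent.S1647
import Groth.Agent.S0022
import Groth.Prelude.Def_Pic13

set_option autoImplicit false
universe u
open CategoryTheory CategoryTheory.Limits AlgebraicGeometry TopologicalSpace Opposite

namespace Groth.Agent.Lib.RegClosed49

open Groth.Agent.Lib.CohLES

section Counit

variable {Z X : Scheme.{u}} (i : Z ⟶ X) [IsClosedImmersion i]

/-- Direct image along a closed immersion reflects epimorphisms. -/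
theorem epi_of_epi_pushforward_map {A B : Z.Modules} (φ : A ⟶ B)
    [Epi ((Scheme.Modules.pushforward i).map φ)] : Epi φ := by
  apply Preadditive.epi_of_isZero_cokernel
  apply Groth.Agent.Lib.H90DevFilt.isZero_of_isZero_pushforward i
  exact (isZero_cokernel_of_epi ((Scheme.Modules.pushforward i).map φ)).of_iso
    (PreservesCokernel.iso (Scheme.Modules.pushforward i) φ)

/-- the counit `i^* i_* N ⟶ N` of a closed immersion is an epimorphism -/
theorem epi_counit_of_isClosedImmersion (N : Z.Modules) :
    Epi ((Scheme.Modules.pullbackPushforwardAdjunction i).counit.app N) := by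
  let adj := Scheme.Modules.pullbackPushforwardAdjunction i
  have h1 : adj.unit.app ((Scheme.Modules.pushforward i).obj N) ≫
      (Scheme.Modules.pushforward i).map (adj.counit.app N) = 𝟙 _ :=
    adj.right_triangle_components N
  have : Epi ((Scheme.Modules.pushforward i).map (adj.counit.app N)) :=
    (IsSplitEpi.mk' ⟨_, h1⟩).epi
  exact epi_of_epi_pushforward_map i _

/-- a module on `Z` whose direct image is globally generated is globally generated -/
theorem isGloballyGenerated_of_pushforward {N : Z.Modules}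
    (h : Curv2.IsGloballyGenerated ((Scheme.Modules.pushforward i).obj N)) :
    Curv2.IsGloballyGenerated N := by
  obtain ⟨I, p, hp⟩ := Groth.Agent.Lib.GlobGenDescent.isGloballyGenerated_pullback i h
  have hc := epi_counit_of_isClosedImmersion i N
  exact ⟨I, p ≫ (Scheme.Modules.pullbackPushforwardAdjunction i).counit.app N,
    @epi_comp _ _ _ _ _ p hp _ hc⟩

end Counit

section Pn

variable (k : Type u) [Field k] {n : ℕ} {X : Scheme.{u}} (i : X ⟶ CohB1.ProjSpace n k)
  [IsClosedImmersion i]

/-- `(i_* F)(d) ≅ i_* (F(d))` -/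
noncomputable def pushTwistIso (F : X.Modules) (d : ℤ) :
    CohB1.tensorMod ((Scheme.Modules.pushforward i).obj F) (Twist.twistProjSpace n k d) ≅
      (Scheme.Modules.pushforward i).obj (Pic13.twistOn k i F d) :=
  Groth.Agent.Lib.H4ProjFormula.projFormulaIso i F
    (Groth.Agent.Lib.H4Twist.isInvertible_twistProjSpace n k d)

/-- `H^q(X, F(d)) = 0 ↔ H^q(P^n, (i_*F)(d)) = 0` -/
theorem subsingleton_HH_twistOn_iff (F : X.Modules) (hF : Coh.IsCoh F) (d : ℤ) (q : ℕ) :
    Subsingleton (Coh.HH X (Pic13.twistOn k i F d) q) ↔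
      Subsingleton (Coh.HH (CohB1.ProjSpace n k)
        (CohB1.tensorMod ((Scheme.Modules.pushforward i).obj F) (Twist.twistProjSpace n k d)) q) := by
  obtain ⟨e⟩ := Groth.Agent.Lib.H4SerreVanClosed.nonempty_HH_twist_equiv i F hF
    (Groth.Agent.Lib.H4Twist.isInvertible_twistProjSpace n k d) q
  exact (e.toEquiv.trans (mapEquiv (pushTwistIso k i F d) q).symm.toEquiv).subsingleton_congr

variable (F : X.Modules) (hF : Coh.IsCoh F) (m : ℤ) (h : Pic13.IsMRegular k i F m)

include hF h in
theorem subsingleton_HH_push_twist (q : ℕ) (hq : 1 ≤ q) (r : ℤ) (hr : m - q ≤ r) :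
    Subsingleton (Coh.HH (CohB1.ProjSpace n k)
      (CohB1.tensorMod ((Scheme.Modules.pushforward i).obj F) (Twist.twistProjSpace n k r)) q) :=
  Groth.Agent.Lib.H4Regularity.regular_of_le n k ((Scheme.Modules.pushforward i).obj F) m
    (fun j hj => (subsingleton_HH_twistOn_iff k i F hF (m - j) j).1 (h j hj)) q r hq hr

include hF h in
/-- **Mumford's theorem on a closed subscheme of `P^n_k`, part 1** -/
theorem isMRegular_of_le (n' : ℤ) (hn' : m ≤ n') : Pic13.IsMRegular k i F n' := fun q hq =>
  (subsingleton_HH_twistOn_iff k i F hF (n' - q) q).2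
    (subsingleton_HH_push_twist k i F hF m h q hq (n' - q) (by omega))

include hF h in
/-- **Mumford's theorem on a closed subscheme of `P^n_k`, part 2** -/
theorem isGloballyGenerated_twistOn (n' : ℤ) (hn' : m ≤ n') :
    Curv2.IsGloballyGenerated (Pic13.twistOn k i F n') := by
  have hG : Coh.IsCoh ((Scheme.Modules.pushforward i).obj F) :=
    Groth.Agent.Lib.H90OXModPushFinite.isCoh_pushforward i F hF
  have hreg : Curv2.IsMRegular k n ((Scheme.Modules.pushforward i).obj F) n' := fun j hj _ =>
    subsingleton_HH_push_twist k i F hF m h j hj (n' - j) (by omega)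
  have hgg := Groth.Agent.S1647.result k n _ hG n' hreg
  exact isGloballyGenerated_of_pushforward i
    (Groth.Agent.Lib.H78AmpleTwist.isGloballyGenerated_of_iso (pushTwistIso k i F n') hgg)

end Pn

end Groth.Agent.Lib.RegClosed49
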