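/-
Groth.Agent.Lib.RegPn49 (helper49)

Tools for Castelnuovo–Mumford regularity (`Curv2.IsMRegular`) on `P^n_k`, `k` a field:
* `nonempty_twist_inv`, `shortExact_twist` (twisting by `O(d)` is exact);
* `noetherianSpace_projSpace`;
* `subsingleton_HH_twist_of_support` : `H^p(C(d)) = 0` for `p > e` when `C` is coherent with support of Krull dimension `≤ e`;
* `isMRegular_mid`, `isMRegular_right`, `isMRegular_left'` : regularity in short exact sequences, with error terms of small
  support.
-/
import Groth.Agent.Lib.SuppVanish49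
import Groth.Agent.Lib.SupportTensor
import Groth.Agent.Lib.ProjSpaceFin
import Groth.Agent.Lib.TwistEquiv
import Groth.Agent.Lib.CohLESExact
import Groth.Agent.Lib.H4ProjSpaceCoh
import Groth.Agent.Lib.H90OXModExact
import Groth.Agent.Lib.ModStalk
import Groth.Prelude.Def_Curv2

set_option autoImplicit false
universe u
open CategoryTheory CategoryTheory.Limits AlgebraicGeometry TopologicalSpace Opposite

namespace Groth.Agent.Lib.RegPn49

open Groth.Agent.Lib.TwistEquiv Groth.Agent.Lib.CohLES

variable (n : ℕ) (k : Type u) [Field k]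

/-- `O(d) ⊗ O(-d) ≅ O` on `P^n_k` -/
theorem nonempty_twist_inv (d : ℤ) :
    Nonempty (CohB1.tensorMod (Twist.twistProjSpace n k d) (Twist.twistProjSpace n k (-d)) ≅
      Coh.structureModule (CohB1.ProjSpace n k)) := by
  obtain ⟨e0⟩ := Groth.Agent.Lib.H4Twist.nonempty_twistZeroIso (CohB1.polyGrading n k)
  exact ⟨Groth.Agent.Lib.H4Twist.twistMulIso_of_cover (CohB1.polyGrading n k)
    (Groth.Agent.Lib.ProjSpaceFin.hcov n k) d (-d) ≪≫
      CategoryTheory.eqToIso (congrArg (Twist.twist (CohB1.polyGrading n k)) (by ring)) ≪≫ e0⟩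

/-- twisting by `O(d)` is exact -/
theorem shortExact_twist (d : ℤ) {S : ShortComplex (CohB1.ProjSpace n k).Modules}
    (hS : S.ShortExact) :
    (S.map (tensorRightFunctor (Twist.twistProjSpace n k d))).ShortExact := by
  obtain ⟨e⟩ := nonempty_twist_inv n k d
  exact shortExact_map_tensorRight e hS

theorem isNoetherian_projSpace : IsNoetherian (CohB1.ProjSpace n k) :=
  Groth.Agent.Lib.GradedNoetherian.proj_isNoetherian (CohB1.polyGrading n k)

theorem noetherianSpace_projSpace : NoetherianSpace (CohB1.ProjSpace n k) := by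
  have := isNoetherian_projSpace n k
  infer_instance

theorem isCoh_twistProjSpace (d : ℤ) : Coh.IsCoh (Twist.twistProjSpace n k d) :=
  Groth.Agent.Lib.H90Invertible.isCoh_of_isInvertible
    (Groth.Agent.Lib.H4Twist.isInvertible_twistProjSpace n k d)

/-- `H^p(C(d)) = 0` for `p > e` when `C` is coherent with support of Krull dimension `≤ e` -/
theorem subsingleton_HH_twist_of_support (C : (CohB1.ProjSpace n k).Modules) (hC : Coh.IsCoh C)
    (e : ℕ) (hdim : topologicalKrullDim (CohB1.support C) ≤ e) (d : ℤ) (p : ℕ) (hp : e < p) :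
    Subsingleton (Coh.HH (CohB1.ProjSpace n k)
      (CohB1.tensorMod C (Twist.twistProjSpace n k d)) p) := by
  have := noetherianSpace_projSpace n k
  have h1 : C.IsQuasicoherent := hC.1
  have h2 : C.IsFiniteType := hC.2
  have h3 : (Twist.twistProjSpace n k d).IsQuasicoherent := (isCoh_twistProjSpace n k d).1
  have h4 : (Twist.twistProjSpace n k d).IsFiniteType := (isCoh_twistProjSpace n k d).2
  have hcl : IsClosed (CohB1.support C) := Groth.Agent.Lib.ModStalk.isClosed_support_of_isFiniteType C
  refine Groth.Agent.Lib.SuppVanish49.subsingleton_HH_of_support_dim_le _ (CohB1.support C) hcl ?_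
    e hdim p hp
  rw [Groth.Agent.Lib.SupportTensor.support_tensorMod]
  exact Set.inter_subset_left

end Groth.Agent.Lib.RegPn49
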