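/-
Groth.Agent.Lib.RegCx49 (helper49)

Castelnuovo–Mumford regularity along complexes on `P^n_k` (`k` a field):
* `SRegFrom n k j F m` : `H^i(F(m - i)) = 0` for all `i ≥ j`; relation with `Curv2.IsMRegular`;
* `sRegFrom_right`, `sRegFrom_mid_of_support` : regularity in short exact sequences, with an error term of small support;
* `sesA`, `sesB` : for a short complex `X₁ → X₂ → X₃` the sequences `0 → ker g → X₂ → im g → 0` and
  `0 → im f → ker g → H → 0`;
* `sRegFrom_image_step` : the induction step of Gruson–Lazarsfeld–Peskine's lemma;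
* `sRegFrom_image_of_complex` : for a bounded complex `E` of coherent modules with `E_s` `(d+s)`-regular and homology
  sheaves `H_i(E)`, `i > 0`, supported in dimension `≤ 1`, the image of `E_{s+1} → E_s` is `(d+s+1)`-regular.
-/
import Groth.Agent.Lib.RegPn49
import Groth.Agent.Lib.H4Chase
import Groth.Agent.Lib.OXModTensorQCoh
import Groth.Agent.Lib.H90CohRestrict
import Groth.Agent.S0022

set_option autoImplicit false
universe u
open CategoryTheory CategoryTheory.Limits AlgebraicGeometry TopologicalSpace Opposite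

namespace Groth.Agent.Lib.RegCx49

open Groth.Agent.Lib.TwistEquiv Groth.Agent.Lib.CohLES Groth.Agent.Lib.RegPn49

section Support

variable {X : Scheme.{u}}

/-- the support only depends on the isomorphism class -/
theorem support_eq_of_iso {M N : X.Modules} (e : M ≅ N) : CohB1.support M = CohB1.support N := by
  ext x
  have e' : M.presheaf.stalk x ≅ N.presheaf.stalk x :=
    (TopCat.Presheaf.stalkFunctor AddCommGrpCat.{u} x).mapIso ((Scheme.Modules.toPresheaf X).mapIso e)
  have h : Subsingleton (M.presheaf.stalk x) ↔ Subsingleton (N.presheaf.stalk x) :=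
    e'.addCommGroupIsoToAddEquiv.toEquiv.subsingleton_congr
  exact not_congr h

end Support

section Abelian

variable {𝒞 : Type*} [Category 𝒞] [Abelian 𝒞] (S : ShortComplex 𝒞)

/-- `0 → ker g → X₂ → im g → 0` -/
noncomputable def sesA : ShortComplex 𝒞 :=
  ShortComplex.mk (kernel.ι S.g) (Abelian.factorThruImage S.g) (by
    rw [← cancel_mono (Abelian.image.ι S.g), Category.assoc, Abelian.image.fac, kernel.condition,
      zero_comp])

lemma sesA_shortExact : (sesA S).ShortExact := by
  have hmono : Mono (sesA S).f := inferInstanceAs (Mono (kernel.ι S.g))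
  have hepi : Epi (sesA S).g := inferInstanceAs (Epi (Abelian.factorThruImage S.g))
  refine ShortComplex.ShortExact.mk' ?_ hmono hepi
  exact ShortComplex.exact_of_f_is_kernel _
    (isKernelOfComp (Abelian.image.ι S.g) S.g (kernelIsKernel S.g) (sesA S).zero
      (Abelian.image.fac S.g))

/-- the inclusion `im f → ker g` -/
noncomputable def imgToKer : Abelian.image S.f ⟶ kernel S.g :=
  kernel.lift S.g (Abelian.image.ι S.f) (by
    rw [← cancel_epi (Abelian.factorThruImage S.f), ← Category.assoc, Abelian.image.fac, S.zero,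
      comp_zero])

@[reassoc]
lemma imgToKer_ι : imgToKer S ≫ kernel.ι S.g = Abelian.image.ι S.f := kernel.lift_ι _ _ _

instance : Mono (imgToKer S) := mono_of_mono_fac (imgToKer_ι S)

lemma factorThruImage_imgToKer :
    Abelian.factorThruImage S.f ≫ imgToKer S = kernel.lift S.g S.f S.zero := by
  rw [← cancel_mono (kernel.ι S.g), Category.assoc, imgToKer_ι, Abelian.image.fac, kernel.lift_ι]

/-- `0 → im f → ker g → H → 0`, with `H = coker (X₁ → ker g)` -/
noncomputable def sesB : ShortComplex 𝒞 :=
  ShortComplex.mk (imgToKer S) (cokernel.π (kernel.lift S.g S.f S.zero)) (by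
    rw [← cancel_epi (Abelian.factorThruImage S.f), ← Category.assoc, factorThruImage_imgToKer,
      cokernel.condition, comp_zero])

lemma sesB_shortExact : (sesB S).ShortExact := by
  have hmono : Mono (sesB S).f := inferInstanceAs (Mono (imgToKer S))
  have hepi : Epi (sesB S).g := inferInstanceAs (Epi (cokernel.π (kernel.lift S.g S.f S.zero)))
  refine ShortComplex.ShortExact.mk' ?_ hmono hepi
  let S₁ : ShortComplex 𝒞 := ShortComplex.mk (kernel.lift S.g S.f S.zero)
    (cokernel.π (kernel.lift S.g S.f S.zero)) (cokernel.condition _)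
  have h₁ : S₁.Exact := S₁.exact_of_g_is_cokernel (cokernelIsCokernel _)
  let φ : S₁ ⟶ sesB S :=
    { τ₁ := Abelian.factorThruImage S.f
      τ₂ := 𝟙 _
      τ₃ := 𝟙 _
      comm₁₂ := by
        change Abelian.factorThruImage S.f ≫ imgToKer S = kernel.lift S.g S.f S.zero ≫ 𝟙 _
        rw [Category.comp_id, factorThruImage_imgToKer]
      comm₂₃ := by
        change 𝟙 _ ≫ cokernel.π (kernel.lift S.g S.f S.zero) =
          cokernel.π (kernel.lift S.g S.f S.zero) ≫ 𝟙 _
        rw [Category.comp_id, Category.id_comp] }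
  have : Epi φ.τ₁ := inferInstanceAs (Epi (Abelian.factorThruImage S.f))
  have : IsIso φ.τ₂ := inferInstanceAs (IsIso (𝟙 _))
  have : Mono φ.τ₃ := inferInstanceAs (Mono (𝟙 _))
  exact (ShortComplex.exact_iff_of_epi_of_isIso_of_mono φ).1 h₁

end Abelian

section Pn

variable (n : ℕ) (k : Type u) [Field k]

/-- `H^i(F(m - i)) = 0` for all `i ≥ j` -/
def SRegFrom (j : ℕ) (F : (CohB1.ProjSpace n k).Modules) (m : ℤ) : Prop :=
  ∀ i : ℕ, j ≤ i → Subsingleton (Coh.HH (CohB1.ProjSpace n k)
    (CohB1.tensorMod F (Twist.twistProjSpace n k (m - i))) i)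

variable {n k}

lemma SRegFrom.congr {j : ℕ} {F : (CohB1.ProjSpace n k).Modules} {m m' : ℤ} (h : m = m')
    (hF : SRegFrom n k j F m) : SRegFrom n k j F m' := by
  subst h
  exact hF

lemma SRegFrom.mono {j j' : ℕ} (hj : j ≤ j') {F : (CohB1.ProjSpace n k).Modules} {m : ℤ}
    (hF : SRegFrom n k j F m) : SRegFrom n k j' F m := fun i hi => hF i (hj.trans hi)

lemma subsingleton_HH_twist_congr {F : (CohB1.ProjSpace n k).Modules} {d d' : ℤ} (h : d = d')
    (i : ℕ) (hF : Subsingleton (Coh.HH (CohB1.ProjSpace n k)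
      (CohB1.tensorMod F (Twist.twistProjSpace n k d)) i)) :
    Subsingleton (Coh.HH (CohB1.ProjSpace n k)
      (CohB1.tensorMod F (Twist.twistProjSpace n k d')) i) := by
  subst h
  exact hF

theorem isQuasicoherent_twist (F : (CohB1.ProjSpace n k).Modules) [F.IsQuasicoherent] (d : ℤ) :
    (CohB1.tensorMod F (Twist.twistProjSpace n k d)).IsQuasicoherent := by
  have : (Twist.twistProjSpace n k d).IsQuasicoherent := (isCoh_twistProjSpace n k d).1
  exact Groth.Agent.Lib.OXModTensorQCoh.isQuasicoherent_tensorMod F _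

/-- `m`-regularity of a quasi-coherent module gives the vanishing in all degrees `i ≥ 1` -/
theorem sRegFrom_of_isMRegular {F : (CohB1.ProjSpace n k).Modules} [F.IsQuasicoherent] {m : ℤ}
    (h : Curv2.IsMRegular k n F m) : SRegFrom n k 1 F m := by
  intro i hi
  by_cases hin : i ≤ n
  · exact h i hi hin
  · have : Coh.IsQCoh (CohB1.tensorMod F (Twist.twistProjSpace n k (m - i))) :=
      isQuasicoherent_twist F _
    exact Groth.Agent.S0022.result n k _ i (by omega)

theorem isMRegular_of_sRegFrom {F : (CohB1.ProjSpace n k).Modules} {m : ℤ}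
    (h : SRegFrom n k 1 F m) : Curv2.IsMRegular k n F m := fun i hi _ => h i hi

/-- the zero module is regular -/
theorem sRegFrom_of_isZero {F : (CohB1.ProjSpace n k).Modules} (hF : IsZero F) (j : ℕ) (m : ℤ) :
    SRegFrom n k j F m := by
  intro i _
  obtain ⟨e⟩ := nonempty_twist_inv n k (m - i)
  have := isEquivalence_tensorRightFunctor e
  have hz : IsZero ((tensorRightFunctor (Twist.twistProjSpace n k (m - i))).obj F) :=
    (tensorRightFunctor (Twist.twistProjSpace n k (m - i))).map_isZero hF
  rw [tensorRightFunctor_obj] at hz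
  exact Groth.Agent.Lib.H4Chase.subsingleton_HH_of_isZero hz i

variable {S : ShortComplex (CohB1.ProjSpace n k).Modules} (hS : S.ShortExact)

include hS in
/-- `0 → A → B → C → 0`, `B` regular from `j`, `A` `(m+1)`-regular from `j + 1` ⟹ `C` regular from `j` -/
theorem sRegFrom_right {j : ℕ} {m : ℤ} (h₂ : SRegFrom n k j S.X₂ m)
    (h₁ : SRegFrom n k (j + 1) S.X₁ (m + 1)) : SRegFrom n k j S.X₃ m := by
  intro i hi
  have hT := shortExact_twist n k (m - i) hS
  have a2 : Subsingleton (Coh.HH (CohB1.ProjSpace n k)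
      ((tensorRightFunctor (Twist.twistProjSpace n k (m - i))).obj S.X₂) i) := by
    rw [tensorRightFunctor_obj]
    exact h₂ i hi
  have a1 : Subsingleton (Coh.HH (CohB1.ProjSpace n k)
      ((tensorRightFunctor (Twist.twistProjSpace n k (m - i))).obj S.X₁) (i + 1)) := by
    rw [tensorRightFunctor_obj]
    exact subsingleton_HH_twist_congr (by push_cast; ring) (i + 1) (h₁ (i + 1) (by omega))
  have r : Subsingleton (Coh.HH (CohB1.ProjSpace n k)
      ((tensorRightFunctor (Twist.twistProjSpace n k (m - i))).obj S.X₃) i) :=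
    @subsingleton_right _ _ hT i a2 a1
  rw [tensorRightFunctor_obj] at r
  exact r

include hS in
/-- `0 → A → B → C → 0`, `A` regular from `j`, `C` coherent with support of dimension `< j` ⟹ `B` regular from
`j` -/
theorem sRegFrom_mid_of_support {j : ℕ} {m : ℤ} (h₁ : SRegFrom n k j S.X₁ m)
    (hC : Coh.IsCoh S.X₃) (e : ℕ) (hdim : topologicalKrullDim (CohB1.support S.X₃) ≤ e)
    (hej : e < j) : SRegFrom n k j S.X₂ m := by
  intro i hi
  have hT := shortExact_twist n k (m - i) hS
  have a1 : Subsingleton (Coh.HH (CohB1.ProjSpace n k)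
      ((tensorRightFunctor (Twist.twistProjSpace n k (m - i))).obj S.X₁) i) := by
    rw [tensorRightFunctor_obj]
    exact h₁ i hi
  have a3 : Subsingleton (Coh.HH (CohB1.ProjSpace n k)
      ((tensorRightFunctor (Twist.twistProjSpace n k (m - i))).obj S.X₃) i) := by
    rw [tensorRightFunctor_obj]
    exact subsingleton_HH_twist_of_support n k S.X₃ hC e hdim (m - i) i (by omega)
  have r : Subsingleton (Coh.HH (CohB1.ProjSpace n k)
      ((tensorRightFunctor (Twist.twistProjSpace n k (m - i))).obj S.X₂) i) :=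
    @subsingleton_mid _ _ hT i a1 a3
  rw [tensorRightFunctor_obj] at r
  exact r

omit hS in
/-- **the induction step**: for `X₁ → X₂ → X₃` with `im f` `(m+1)`-regular, `X₂` `m`-regular and homology supported
in dimension `≤ 1`, `im g` is `m`-regular. -/
theorem sRegFrom_image_step (T : ShortComplex (CohB1.ProjSpace n k).Modules)
    (h₁ : T.X₁.IsQuasicoherent) (h₂ : Coh.IsCoh T.X₂) (h₃ : T.X₃.IsQuasicoherent) {m : ℤ}
    (hf : SRegFrom n k 1 (Abelian.image T.f) (m + 1))
    (hdim : topologicalKrullDim (CohB1.support (cokernel (kernel.lift T.g T.f T.zero))) ≤ 1)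
    (hreg : SRegFrom n k 1 T.X₂ m) : SRegFrom n k 1 (Abelian.image T.g) m := by
  have := isNoetherian_projSpace n k
  have hK : Coh.IsCoh (kernel T.g) := Groth.Agent.Lib.H90OXModExact.isCoh_kernel T.g h₂
  have hH : Coh.IsCoh (cokernel (kernel.lift T.g T.f T.zero)) :=
    Groth.Agent.Lib.H90OXModExact.isCoh_cokernel _ hK
  have hdim1 : topologicalKrullDim (CohB1.support (sesB T).X₃) ≤ ((1 : ℕ) : WithBot ℕ∞) := by
    change topologicalKrullDim (CohB1.support (cokernel (kernel.lift T.g T.f T.zero))) ≤ _
    simpa using hdim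
  have hZ : SRegFrom n k 2 (kernel T.g) (m + 1) :=
    sRegFrom_mid_of_support (sesB_shortExact T) (hf.mono (by omega)) hH 1 hdim1 (by omega)
  exact sRegFrom_right (sesA_shortExact T) hreg hZ

/-- `0 → im f → Y → coker f → 0` -/
theorem sRegFrom_cokernel {A B : (CohB1.ProjSpace n k).Modules} (f : A ⟶ B) {j : ℕ} {m : ℤ}
    (hB : SRegFrom n k j B m) (hI : SRegFrom n k (j + 1) (Abelian.image f) (m + 1)) :
    SRegFrom n k j (cokernel f) m := by
  let T : ShortComplex (CohB1.ProjSpace n k).Modules :=
    ShortComplex.mk (kernel.ι (cokernel.π f)) (cokernel.π f) (kernel.condition _)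
  have hT : T.ShortExact :=
    ShortComplex.ShortExact.mk' (T.exact_of_f_is_kernel (kernelIsKernel (cokernel.π f)))
      (inferInstanceAs (Mono (kernel.ι (cokernel.π f)))) (inferInstanceAs (Epi (cokernel.π f)))
  exact sRegFrom_right hT hB hI

/-- **Gruson–Lazarsfeld–Peskine's lemma**: for a bounded complex `E` of coherent modules on `P^n_k` with `E_s`
`(d+s)`-regular and homology sheaves `H_i(E)`, `i > 0`, supported in dimension `≤ 1`, the image of
`E_{s+1} → E_s` is `(d+s+1)`-regular. -/
theorem sRegFrom_image_of_complex (E : ChainComplex ((CohB1.ProjSpace n k).Modules) ℕ) (t : ℕ)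
    (hbdd : ∀ s : ℕ, t < s → IsZero (E.X s)) (hcoh : ∀ s : ℕ, Coh.IsCoh (E.X s)) (d : ℤ)
    (hreg : ∀ s : ℕ, Curv2.IsMRegular k n (E.X s) (d + s))
    (hsupp : ∀ i : ℕ, 0 < i → topologicalKrullDim (CohB1.support (E.homology i)) ≤ 1) (s : ℕ) :
    SRegFrom n k 1 (Abelian.image (E.d (s + 1) s)) (d + s + 1) := by
  have hbig : ∀ s : ℕ, t ≤ s → SRegFrom n k 1 (Abelian.image (E.d (s + 1) s)) (d + s + 1) := by
    intro s hs
    have hz : IsZero (Abelian.image (E.d (s + 1) s)) :=
      IsZero.of_epi (Abelian.factorThruImage (E.d (s + 1) s)) (hbdd (s + 1) (by omega))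
    exact sRegFrom_of_isZero hz 1 _
  have hstep : ∀ s : ℕ, SRegFrom n k 1 (Abelian.image (E.d (s + 1 + 1) (s + 1))) (d + (s + 1 : ℕ) + 1) →
      SRegFrom n k 1 (Abelian.image (E.d (s + 1) s)) (d + s + 1) := by
    intro s hs
    have q1 : (E.X (s + 1 + 1)).IsQuasicoherent := (hcoh _).1
    have q2 : (E.X (s + 1)).IsQuasicoherent := (hcoh _).1
    have q3 : (E.X s).IsQuasicoherent := (hcoh _).1
    let T : ShortComplex (CohB1.ProjSpace n k).Modules := E.sc' (s + 1 + 1) (s + 1) s
    have e1 : E.homology (s + 1) ≅ T.homology :=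
      E.homologyIsoSc' (s + 1 + 1) (s + 1) s (by simp) (by simp)
    have e2 : T.homology ≅ cokernel (kernel.lift T.g T.f T.zero) := T.homologyIsoCokernelLift
    have hdim : topologicalKrullDim (CohB1.support (cokernel (kernel.lift T.g T.f T.zero))) ≤ 1 := by
      rw [← support_eq_of_iso (e1 ≪≫ e2)]
      exact hsupp (s + 1) (by omega)
    exact sRegFrom_image_step T q1 (hcoh (s + 1)) q3 (hs.congr (by push_cast; ring)) hdim
      ((sRegFrom_of_isMRegular (hreg (s + 1))).congr (by push_cast; ring))
  have hind : ∀ r s : ℕ, s + r = t →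
      SRegFrom n k 1 (Abelian.image (E.d (s + 1) s)) (d + s + 1) := by
    intro r
    induction r with
    | zero =>
      intro s hs
      exact hbig s (by omega)
    | succ r ih =>
      intro s hs
      exact hstep s (ih (s + 1) (by omega))
  by_cases hs : t ≤ s
  · exact hbig s hs
  · exact hind (t - s) s (by omega)

end Pn

end Groth.Agent.Lib.RegCx49
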