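import Mathlib
import Groth.Prelude.Def_Found

open CategoryTheory CategoryTheory.Limits AlgebraicGeometry TensorProduct

universe u

namespace RegFib37

section TensorCongr

variable {R R' A A' B B' : Type u} [CommRing R] [CommRing R'] [CommRing A] [CommRing A']
  [CommRing B] [CommRing B'] [Algebra R A] [Algebra R B] [Algebra R' A'] [Algebra R' B']

/-- The ring map `A ⊗[R] B → A' ⊗[R'] B'` induced by compatible ring maps. -/
noncomputable def tensorHom (ρ : R →+* R') (α : A →+* A') (β : B →+* B')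
    (hα : ∀ r, α (algebraMap R A r) = algebraMap R' A' (ρ r))
    (hβ : ∀ r, β (algebraMap R B r) = algebraMap R' B' (ρ r)) : A ⊗[R] B →+* A' ⊗[R'] B' :=
  letI : Algebra R (A' ⊗[R'] B') := ((algebraMap R' (A' ⊗[R'] B')).comp ρ).toAlgebra
  (Algebra.TensorProduct.lift
    ({ toRingHom := (Algebra.TensorProduct.includeLeftRingHom).comp α
       commutes' := fun r => by
        simp [RingHom.algebraMap_toAlgebra, hα, Algebra.TensorProduct.algebraMap_apply] } :
        A →ₐ[R] A' ⊗[R'] B')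
    ({ toRingHom := (Algebra.TensorProduct.includeRight.toRingHom).comp β
       commutes' := fun r => by
        show (1 : A') ⊗ₜ[R'] β (algebraMap R B r) = algebraMap R' (A' ⊗[R'] B') (ρ r)
        rw [hβ, Algebra.TensorProduct.algebraMap_apply, Algebra.algebraMap_eq_smul_one,
          Algebra.algebraMap_eq_smul_one (A := A'), TensorProduct.smul_tmul] } :
        B →ₐ[R] A' ⊗[R'] B')
    (fun a b => Commute.all _ _)).toRingHom

theorem tensorHom_tmul (ρ : R →+* R') (α : A →+* A') (β : B →+* B')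
    (hα : ∀ r, α (algebraMap R A r) = algebraMap R' A' (ρ r))
    (hβ : ∀ r, β (algebraMap R B r) = algebraMap R' B' (ρ r)) (a : A) (b : B) :
    tensorHom ρ α β hα hβ (a ⊗ₜ b) = α a ⊗ₜ β b := by
  unfold tensorHom
  simp [Algebra.TensorProduct.lift_tmul]

/-- The ring isomorphism `A ⊗[R] B ≃ A' ⊗[R'] B'` induced by compatible ring isomorphisms. -/
noncomputable def tensorEquiv (ρ : R ≃+* R') (α : A ≃+* A') (β : B ≃+* B')
    (hα : ∀ r, α (algebraMap R A r) = algebraMap R' A' (ρ r))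
    (hβ : ∀ r, β (algebraMap R B r) = algebraMap R' B' (ρ r)) : A ⊗[R] B ≃+* A' ⊗[R'] B' :=
  have hα' : ∀ r, α.symm (algebraMap R' A' r) = algebraMap R A (ρ.symm r) := fun r => by
    rw [RingEquiv.symm_apply_eq, hα, RingEquiv.apply_symm_apply]
  have hβ' : ∀ r, β.symm (algebraMap R' B' r) = algebraMap R B (ρ.symm r) := fun r => by
    rw [RingEquiv.symm_apply_eq, hβ, RingEquiv.apply_symm_apply]
  RingEquiv.ofRingHom (tensorHom ρ.toRingHom α.toRingHom β.toRingHom hα hβ)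
    (tensorHom ρ.symm.toRingHom α.symm.toRingHom β.symm.toRingHom hα' hβ')
    (by
      refine RingHom.ext fun x => ?_
      induction x using TensorProduct.induction_on with
      | zero => simp
      | tmul a b => simp [tensorHom_tmul]
      | add x y hx hy => simp only [map_add, hx, hy])
    (by
      refine RingHom.ext fun x => ?_
      induction x using TensorProduct.induction_on with
      | zero => simp
      | tmul a b => simp [tensorHom_tmul]
      | add x y hx hy => simp only [map_add, hx, hy])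

theorem tensorEquiv_tmul (ρ : R ≃+* R') (α : A ≃+* A') (β : B ≃+* B')
    (hα : ∀ r, α (algebraMap R A r) = algebraMap R' A' (ρ r))
    (hβ : ∀ r, β (algebraMap R B r) = algebraMap R' B' (ρ r)) (a : A) (b : B) :
    tensorEquiv ρ α β hα hβ (a ⊗ₜ b) = α a ⊗ₜ β b :=
  tensorHom_tmul ρ.toRingHom α.toRingHom β.toRingHom hα hβ a b

end TensorCongr

/-- Noetherian and geometrically regular. -/
def GR (K T : Type u) [Field K] [CommRing T] [Algebra K T] : Prop :=
  IsNoetherianRing T ∧ CAlg.IsGeometricallyRegular K T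

theorem GR.of_equiv {K K' T T' : Type u} [Field K] [Field K'] [CommRing T] [CommRing T']
    [Algebra K T] [Algebra K' T'] (ε : K ≃+* K') (τ : T ≃+* T')
    (h : ∀ k, τ (algebraMap K T k) = algebraMap K' T' (ε k)) (H : GR K T) : GR K' T' := by
  haveI := H.1
  refine ⟨isNoetherianRing_of_ringEquiv T τ, ?_⟩
  intro k' _ _ hfin
  letI : Algebra K k' := ((algebraMap K' k').comp ε.toRingHom).toAlgebra
  letI : Algebra K K' := ε.toRingHom.toAlgebra
  haveI : IsScalarTower K K' k' := .of_algebraMap_eq (fun _ => rfl)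
  haveI : Module.Finite K K' :=
    Module.Finite.of_surjective (Algebra.linearMap K K') ε.surjective
  haveI : Module.Finite K k' := Module.Finite.trans K' k'
  haveI := H.2 k' inferInstance
  exact IsRegularRing.of_ringEquiv (tensorEquiv ε (RingEquiv.refl k') τ (fun r => rfl) h)

section Stalks

variable {Z : Scheme.{u}} {W : Z.Opens}

theorem isRegularLocalRing_stalk_of_isRegularRing (hW : IsAffineOpen W)
    [IsRegularRing Γ(Z, W)] (z : Z) (hz : z ∈ W) : IsRegularLocalRing (Z.presheaf.stalk z) := by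
  letI : Algebra Γ(Z, W) (Z.presheaf.stalk z) :=
    TopCat.Presheaf.algebra_section_stalk Z.presheaf (⟨z, hz⟩ : W)
  haveI : IsLocalization.AtPrime (Z.presheaf.stalk z) (hW.primeIdealOf ⟨z, hz⟩).asIdeal :=
    hW.isLocalization_stalk ⟨z, hz⟩
  exact IsRegularLocalRing.of_ringEquiv
    (IsLocalization.algEquiv (hW.primeIdealOf ⟨z, hz⟩).asIdeal.primeCompl
      (Localization.AtPrime (hW.primeIdealOf ⟨z, hz⟩).asIdeal) (Z.presheaf.stalk z)).toRingEquiv

theorem isRegularRing_of_stalks (hW : IsAffineOpen W) [IsNoetherianRing Γ(Z, W)]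
    (h : ∀ z ∈ W, IsRegularLocalRing (Z.presheaf.stalk z)) : IsRegularRing Γ(Z, W) := by
  rw [isRegularRing_iff]
  intro p hp
  have hmem : hW.fromSpec ⟨p, hp⟩ ∈ W := by
    have := Set.mem_range_self (f := hW.fromSpec) ⟨p, hp⟩
    rwa [hW.range_fromSpec] at this
  letI : Algebra Γ(Z, W) (Z.presheaf.stalk (hW.fromSpec ⟨p, hp⟩)) :=
    TopCat.Presheaf.algebra_section_stalk Z.presheaf (⟨hW.fromSpec ⟨p, hp⟩, hmem⟩ : W)
  haveI : IsLocalization.AtPrime (Z.presheaf.stalk (hW.fromSpec ⟨p, hp⟩)) p :=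
    hW.isLocalization_stalk' ⟨p, hp⟩ hmem
  haveI := h _ hmem
  exact IsRegularLocalRing.of_ringEquiv
    (IsLocalization.algEquiv p.primeCompl (Z.presheaf.stalk (hW.fromSpec ⟨p, hp⟩))
      (Localization.AtPrime p)).toRingEquiv

end Stalks



theorem fromSpecStalk_preimage_eq_top {Y : Scheme.{u}} (V : Y.Opens) (y : Y) (hy : y ∈ V) :
    ⊤ ≤ (Y.fromSpecStalk y) ⁻¹ᵁ V := by
  intro z _
  have hz : (Y.fromSpecStalk y) z ∈ Set.range (Y.fromSpecStalk y) := ⟨z, rfl⟩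
  rw [Scheme.range_fromSpecStalk] at hz
  exact hz.mem_open V.2 hy

theorem fromSpecStalk_appLE {Y : Scheme.{u}} (V : Y.Opens) (y : Y) (hy : y ∈ V) :
    (Y.fromSpecStalk y).appLE V ⊤ (fromSpecStalk_preimage_eq_top V y hy) ≫
      (Scheme.ΓSpecIso (Y.presheaf.stalk y)).hom = Y.presheaf.germ V y hy := by
  rw [Scheme.Hom.appLE, Scheme.fromSpecStalk_app hy]
  simp only [Category.assoc]
  rw [← Functor.map_comp_assoc]
  have : ((homOfLE le_top : (Y.fromSpecStalk y) ⁻¹ᵁ V ⟶ ⊤).op ≫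
      (homOfLE (fromSpecStalk_preimage_eq_top V y hy)).op) = 𝟙 _ := Subsingleton.elim _ _
  rw [this, CategoryTheory.Functor.map_id, Category.id_comp, Iso.inv_hom_id, Category.comp_id]

theorem fromSpecResidueField_appLE {Y : Scheme.{u}} (V : Y.Opens) (y : Y) (hy : y ∈ V)
    (hf : ⊤ ≤ (Y.fromSpecResidueField y) ⁻¹ᵁ V) :
    (Y.fromSpecResidueField y).appLE V ⊤ hf ≫ (Scheme.ΓSpecIso (Y.residueField y)).hom =
      Y.presheaf.germ V y hy ≫ Y.residue y := by
  have h1 : (Y.fromSpecResidueField y).appLE V ⊤ hf =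
      (Y.fromSpecStalk y).appLE V ⊤ (fromSpecStalk_preimage_eq_top V y hy) ≫
        (Spec.map (Y.residue y)).appLE ⊤ ⊤ le_top := by
    rw [Scheme.Hom.appLE_comp_appLE]
    rfl
  have h2 : (Spec.map (Y.residue y)).appLE ⊤ ⊤ le_top = (Spec.map (Y.residue y)).appTop := by
    simp [Scheme.Hom.appLE, Scheme.Hom.appTop]
  rw [h1, h2, Category.assoc, Scheme.ΓSpecIso_naturality, ← Category.assoc, fromSpecStalk_appLE]

theorem exists_residueField_equiv {Y : Scheme.{u}} {V : Y.Opens} (hV : IsAffineOpen V) (y : Y)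
    (hy : y ∈ V) (p : Ideal Γ(Y, V)) [p.IsPrime]
    (hp : (hV.primeIdealOf ⟨y, hy⟩).asIdeal = p) :
    ∃ ε : Y.residueField y ≃+* p.ResidueField, ∀ a : Γ(Y, V),
      ε ((Y.presheaf.germ V y hy ≫ Y.residue y).hom a) = algebraMap Γ(Y, V) p.ResidueField a := by
  subst hp
  letI : Algebra Γ(Y, V) (Y.presheaf.stalk y) :=
    TopCat.Presheaf.algebra_section_stalk Y.presheaf (⟨y, hy⟩ : V)
  haveI : IsLocalization.AtPrime (Y.presheaf.stalk y) (hV.primeIdealOf ⟨y, hy⟩).asIdeal :=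
    hV.isLocalization_stalk ⟨y, hy⟩
  let e := IsLocalization.algEquiv (hV.primeIdealOf ⟨y, hy⟩).asIdeal.primeCompl
    (Y.presheaf.stalk y) (Localization.AtPrime (hV.primeIdealOf ⟨y, hy⟩).asIdeal)
  refine ⟨IsLocalRing.ResidueField.mapEquiv e.toRingEquiv, fun a => ?_⟩
  have h1 : e ((Y.presheaf.germ V y hy).hom a) =
      algebraMap Γ(Y, V) (Localization.AtPrime (hV.primeIdealOf ⟨y, hy⟩).asIdeal) a :=
    e.commutes a
  show IsLocalRing.ResidueField.mapEquiv e.toRingEquiv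
    (IsLocalRing.residue _ ((Y.presheaf.germ V y hy).hom a)) = _
  show IsLocalRing.residue _ (e ((Y.presheaf.germ V y hy).hom a)) = _
  rw [h1, IsScalarTower.algebraMap_apply Γ(Y, V)
    (Localization.AtPrime (hV.primeIdealOf ⟨y, hy⟩).asIdeal)
    (hV.primeIdealOf ⟨y, hy⟩).asIdeal.ResidueField, IsLocalRing.ResidueField.algebraMap_eq]



section Sections

variable {X S Y : Scheme.{u}} {L : CommRingCat.{u}} {f : Spec L ⟶ S} {g : Y ⟶ X} {iX : X ⟶ S}
  {iY : Y ⟶ Spec L}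

theorem isAffineOpen_preimage_of_isPullback (H : IsPullback g iY iX f) {US : S.Opens}
    {UX : X.Opens} (hUS : IsAffineOpen US) (hUX : IsAffineOpen UX) (hf : ⊤ ≤ f ⁻¹ᵁ US)
    (hUSX : UX ≤ iX ⁻¹ᵁ US) : IsAffineOpen (g ⁻¹ᵁ UX) := by
  have hUY : g ⁻¹ᵁ UX = g ⁻¹ᵁ UX ⊓ iY ⁻¹ᵁ ⊤ := by simp
  have : IsAffine US.toScheme := hUS
  have : IsAffine (⊤ : (Spec L).Opens).toScheme := isAffineOpen_top _
  have : IsAffine UX.toScheme := hUX
  exact .of_isIso (Scheme.Hom.isPullback_resLE H hf hUSX hUY).isoPullback.hom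

theorem exists_sections_equiv (H : IsPullback g iY iX f) {US : S.Opens} {UX : X.Opens}
    (hUS : IsAffineOpen US) (hUX : IsAffineOpen UX) (hf : ⊤ ≤ f ⁻¹ᵁ US)
    (hUSX : UX ≤ iX ⁻¹ᵁ US) :
    letI := (iX.appLE US UX hUSX).hom.toAlgebra
    letI := (f.appLE US ⊤ hf ≫ (Scheme.ΓSpecIso L).hom).hom.toAlgebra
    ∃ Θ : L ⊗[Γ(S, US)] Γ(X, UX) ≃+* Γ(Y, g ⁻¹ᵁ UX),
      (∀ l : L, Θ (l ⊗ₜ 1) =
        ((Scheme.ΓSpecIso L).inv ≫ iY.appLE ⊤ (g ⁻¹ᵁ UX) le_top).hom l) ∧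
      (∀ a : Γ(X, UX), Θ (1 ⊗ₜ a) = (g.appLE UX (g ⁻¹ᵁ UX) le_rfl).hom a) := by
  have hUY : g ⁻¹ᵁ UX = g ⁻¹ᵁ UX ⊓ iY ⁻¹ᵁ ⊤ := by simp
  have hiso := isIso_pushoutSection_of_isAffineOpen H hf hUSX hUY hUS (isAffineOpen_top _) hUX
  have hpo := (isIso_pushoutSection_iff H hf hUSX hUY).mp hiso
  have hpo' : IsPushout (f.appLE US ⊤ hf ≫ (Scheme.ΓSpecIso L).hom) (iX.appLE US UX hUSX)
      ((Scheme.ΓSpecIso L).inv ≫ iY.appLE ⊤ (g ⁻¹ᵁ UX) le_top)
      (g.appLE UX (g ⁻¹ᵁ UX) le_rfl) :=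
    IsPushout.of_iso hpo.flip (Iso.refl _) (Scheme.ΓSpecIso L) (Iso.refl _) (Iso.refl _)
      (by simp) (by simp) (by simp) (by simp)
  letI := (iX.appLE US UX hUSX).hom.toAlgebra
  letI := (f.appLE US ⊤ hf ≫ (Scheme.ΓSpecIso L).hom).hom.toAlgebra
  have hT := CommRingCat.isPushout_tensorProduct Γ(S, US) L Γ(X, UX)
  let e := hT.isoIsPushout _ _ hpo'
  refine ⟨e.commRingCatIsoToRingEquiv, fun l => ?_, fun a => ?_⟩
  · exact congr($(hT.inl_isoIsPushout_hom _ _ hpo').hom l)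
  · exact congr($(hT.inr_isoIsPushout_hom _ _ hpo').hom a)

end Sections



section Fibre

variable {X Y : Scheme.{u}} (f : X ⟶ Y)

/-- The `κ(y)`-algebra structure on sections of the fibre. -/
@[reducible] noncomputable def fibAlg (y : Y) (W : (f.fiber y).Opens) :
    Algebra ↑(Y.residueField y) ↑Γ(f.fiber y, W) :=
  ((Scheme.ΓSpecIso (Y.residueField y)).inv ≫ (f.fiberToSpecResidueField y).appTop ≫
    (f.fiber y).presheaf.map (homOfLE le_top).op).hom.toAlgebra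

theorem gr_fiber_iff {U : X.Opens} {V : Y.Opens} (hU : IsAffineOpen U) (hV : IsAffineOpen V)
    (hUV : U ≤ f ⁻¹ᵁ V) (y : Y) (hy : y ∈ V) (p : Ideal Γ(Y, V)) [p.IsPrime]
    (hp : (hV.primeIdealOf ⟨y, hy⟩).asIdeal = p) :
    IsAffineOpen ((f.fiberι y) ⁻¹ᵁ U) ∧
    (letI := (f.appLE V U hUV).hom.toAlgebra
     letI := fibAlg f y ((f.fiberι y) ⁻¹ᵁ U)
     (GR (Y.residueField y) Γ(f.fiber y, (f.fiberι y) ⁻¹ᵁ U) ↔
      GR p.ResidueField (p.Fiber Γ(X, U)))) := by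
  have H : IsPullback (f.fiberι y) (f.fiberToSpecResidueField y) f (Y.fromSpecResidueField y) :=
    IsPullback.of_hasPullback f (Y.fromSpecResidueField y)
  have hf : ⊤ ≤ (Y.fromSpecResidueField y) ⁻¹ᵁ V := by
    intro z _
    show (Y.fromSpecResidueField y) z ∈ V
    rw [Scheme.fromSpecResidueField_apply]
    exact hy
  refine ⟨isAffineOpen_preimage_of_isPullback H hV hU hf hUV, ?_⟩
  obtain ⟨Θ, hΘ1, -⟩ := exists_sections_equiv H hV hU hf hUV
  obtain ⟨ε, hε⟩ := exists_residueField_equiv hV y hy p hp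
  letI := (f.appLE V U hUV).hom.toAlgebra
  letI : Algebra Γ(Y, V) (Y.residueField y) :=
    ((Y.fromSpecResidueField y).appLE V ⊤ hf ≫ (Scheme.ΓSpecIso (Y.residueField y)).hom).hom.toAlgebra
  letI := fibAlg f y ((f.fiberι y) ⁻¹ᵁ U)
  have hα : ∀ r : Γ(Y, V), ε (algebraMap Γ(Y, V) (Y.residueField y) r) =
      algebraMap Γ(Y, V) p.ResidueField ((RingEquiv.refl Γ(Y, V)) r) := by
    intro r
    show ε (((Y.fromSpecResidueField y).appLE V ⊤ hf ≫
      (Scheme.ΓSpecIso (Y.residueField y)).hom).hom r) = algebraMap Γ(Y, V) p.ResidueField r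
    rw [fromSpecResidueField_appLE V y hy hf]
    exact hε r
  let T := tensorEquiv (RingEquiv.refl Γ(Y, V)) ε (RingEquiv.refl Γ(X, U)) hα (fun r => rfl)
  let τ : Γ(f.fiber y, (f.fiberι y) ⁻¹ᵁ U) ≃+* p.Fiber Γ(X, U) := Θ.symm.trans T
  have hτ : ∀ k : Y.residueField y,
      τ (algebraMap (Y.residueField y) Γ(f.fiber y, (f.fiberι y) ⁻¹ᵁ U) k) =
        algebraMap p.ResidueField (p.Fiber Γ(X, U)) (ε k) := by
    intro k
    have h1 : algebraMap (Y.residueField y) Γ(f.fiber y, (f.fiberι y) ⁻¹ᵁ U) k =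
        Θ (k ⊗ₜ 1) := by
      rw [hΘ1 k]
      rfl
    show T (Θ.symm _) = _
    rw [h1, RingEquiv.symm_apply_apply]
    show tensorEquiv (RingEquiv.refl Γ(Y, V)) ε (RingEquiv.refl Γ(X, U)) hα (fun r => rfl)
      (k ⊗ₜ 1) = _
    rw [tensorEquiv_tmul, Algebra.TensorProduct.algebraMap_apply]
    rfl
  have hτ' : ∀ k : p.ResidueField, τ.symm (algebraMap p.ResidueField (p.Fiber Γ(X, U)) k) =
      algebraMap (Y.residueField y) Γ(f.fiber y, (f.fiberι y) ⁻¹ᵁ U) (ε.symm k) := by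
    intro k
    rw [RingEquiv.symm_apply_eq, hτ, RingEquiv.apply_symm_apply]
  exact ⟨fun h => h.of_equiv ε τ hτ, fun h => h.of_equiv ε.symm τ.symm hτ'⟩

end Fibre

section BaseChange

theorem exists_baseChange_sections_equiv {Z : Scheme.{u}} {K : CommRingCat.{u}}
    (s : Z ⟶ Spec K) (k' : Type u) [CommRing k'] [Algebra K k'] {W : Z.Opens}
    (hW : IsAffineOpen W) :
    IsAffineOpen ((pullback.fst s (Spec.map (CommRingCat.ofHom (algebraMap K k')))) ⁻¹ᵁ W) ∧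
    (letI : Algebra K Γ(Z, W) := ((Scheme.ΓSpecIso K).inv ≫ s.appTop ≫
        Z.presheaf.map (homOfLE le_top).op).hom.toAlgebra
     Nonempty (Γ(pullback s (Spec.map (CommRingCat.ofHom (algebraMap K k'))),
        (pullback.fst s (Spec.map (CommRingCat.ofHom (algebraMap K k')))) ⁻¹ᵁ W) ≃+*
          k' ⊗[K] Γ(Z, W))) := by
  have H := IsPullback.of_hasPullback s (Spec.map (CommRingCat.ofHom (algebraMap K k')))
  have hf : ⊤ ≤ (Spec.map (CommRingCat.ofHom (algebraMap K k'))) ⁻¹ᵁ (⊤ : (Spec K).Opens) :=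
    le_top
  have hUSX : W ≤ s ⁻¹ᵁ (⊤ : (Spec K).Opens) := le_top
  refine ⟨isAffineOpen_preimage_of_isPullback H (isAffineOpen_top _) hW hf hUSX, ?_⟩
  obtain ⟨Θ, -, -⟩ := exists_sections_equiv H (isAffineOpen_top _) hW hf hUSX
  letI a1 : Algebra Γ(Spec K, ⊤) Γ(Z, W) := (s.appLE ⊤ W hUSX).hom.toAlgebra
  letI a2 : Algebra Γ(Spec K, ⊤) k' :=
    ((Spec.map (CommRingCat.ofHom (algebraMap K k'))).appLE ⊤ ⊤ hf ≫
      (Scheme.ΓSpecIso (CommRingCat.of k')).hom).hom.toAlgebra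
  letI a3 : Algebra K Γ(Z, W) := ((Scheme.ΓSpecIso K).inv ≫ s.appTop ≫
        Z.presheaf.map (homOfLE le_top).op).hom.toAlgebra
  let ρ : Γ(Spec K, ⊤) ≃+* K := (Scheme.ΓSpecIso K).commRingCatIsoToRingEquiv
  have hα : ∀ r : Γ(Spec K, ⊤), (RingEquiv.refl k') (algebraMap Γ(Spec K, ⊤) k' r) =
      algebraMap K k' (ρ r) := by
    intro r
    have h2 : (Spec.map (CommRingCat.ofHom (algebraMap K k'))).appLE ⊤ ⊤ hf =
        (Spec.map (CommRingCat.ofHom (algebraMap K k'))).appTop := by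
      simp [Scheme.Hom.appLE, Scheme.Hom.appTop]
    show ((Spec.map (CommRingCat.ofHom (algebraMap K k'))).appLE ⊤ ⊤ hf ≫
      (Scheme.ΓSpecIso (CommRingCat.of k')).hom).hom r = _
    rw [h2, Scheme.ΓSpecIso_naturality]
    rfl
  have hβ : ∀ r : Γ(Spec K, ⊤), (RingEquiv.refl Γ(Z, W)) (algebraMap Γ(Spec K, ⊤) Γ(Z, W) r) =
      algebraMap K Γ(Z, W) (ρ r) := by
    intro r
    show (s.appLE ⊤ W hUSX).hom r = ((Scheme.ΓSpecIso K).inv ≫ s.appTop ≫
        Z.presheaf.map (homOfLE le_top).op).hom ((Scheme.ΓSpecIso K).hom.hom r)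
    rw [← CommRingCat.comp_apply, Iso.hom_inv_id_assoc]
    rfl
  exact ⟨Θ.symm.trans (tensorEquiv ρ (RingEquiv.refl k') (RingEquiv.refl Γ(Z, W)) hα hβ)⟩

end BaseChange

end RegFib37
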