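import Groth.Agent.Lib.RegSeqFibre64
import Groth.Agent.Lib.QuasiRegFlat89

set_option autoImplicit false
set_option maxHeartbeats 400000
set_option linter.style.haveILetI false
universe u
open TensorProduct
open scoped Pointwise

/-!
# Fibrewise nonzerodivisors on flat finitely presented modules (helper64)

* `isSMulRegular_localized`: `A → B` f.p., `M` f.p. over `B`, `M_q` flat over `A`, `a` regular on
  `(M ⊗ κ(p))_q` ⇒ `a` regular on `M_q` (element case of EGA IV 11.3.8, no nontriviality needed).
* `isNoetherianRing_fibre`, `isSMulRegular_fibre`: on the Noetherian fibre ring `B ⊗ κ`, an element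
  avoiding the associated primes of the fibre module is regular on `M ⊗ κ`.
* `isSMulRegular_of_fibres` (= S19195): `M` flat f.p., fibre modules have no embedded primes and
  `a` avoids the minimal primes of their supports ⇒ `a` is `M`-regular.
-/

namespace Groth.Agent.Lib.RegFibreS164

open Groth.Agent.Lib.RegElemFlat64

section Local

variable {A B : Type u} [CommRing A] [CommRing B] [Algebra A B] [Algebra.FinitePresentation A B]
  (M : Type u) [AddCommGroup M] [Module B M] [Module A M] [IsScalarTower A B M]
  [Module.FinitePresentation B M] (p : Ideal A) [p.IsPrime] (q : Ideal B) [q.IsPrime]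
  [q.LiesOver p]

/-- Element case of EGA IV 11.3.8 in the ring form of `RegSeqFibre64.main`, without any
nontriviality or membership hypothesis. -/
theorem isSMulRegular_localized (a : B)
    (hflat : Module.Flat A (LocalizedModule q.primeCompl M))
    (hreg : IsSMulRegular (LocalizedModule q.primeCompl (M ⊗[A] p.ResidueField)) a) :
    IsSMulRegular (LocalizedModule q.primeCompl M) a := by
  classical
  letI algRS : Algebra (Localization.AtPrime p) (Localization.AtPrime q) :=
    Localization.AtPrime.algebraOfLiesOver p q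
  have hS := Groth.Agent.Lib.RegSeqFibre64.isEssFinitePresentation_atPrime (A := A) (B := B) p q
  haveI : IsLocalHom (algebraMap (Localization.AtPrime p) (Localization.AtPrime q)) :=
    Localization.isLocalHom_localRingHom _ _ _ Ideal.LiesOver.over
  letI modRN : Module (Localization.AtPrime p) (LocalizedModule q.primeCompl M) :=
    Module.compHom _ (algebraMap (Localization.AtPrime p) (Localization.AtPrime q))
  have hsmR : ∀ (r : Localization.AtPrime p) (n : LocalizedModule q.primeCompl M),
      r • n = algebraMap (Localization.AtPrime p) (Localization.AtPrime q) r • n := fun _ _ => rfl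
  haveI tRSN : IsScalarTower (Localization.AtPrime p) (Localization.AtPrime q)
      (LocalizedModule q.primeCompl M) := ⟨fun r s n => by
    rw [hsmR r (s • n), Algebra.smul_def, mul_smul]⟩
  haveI tARN : IsScalarTower A (Localization.AtPrime p) (LocalizedModule q.primeCompl M) :=
    ⟨fun a r n => by
      rw [hsmR (a • r) n, hsmR r n, Algebra.smul_def, map_mul, mul_smul,
        ← IsScalarTower.algebraMap_apply A (Localization.AtPrime p) (Localization.AtPrime q),
        algebraMap_smul]⟩
  haveI flatRN : Module.Flat (Localization.AtPrime p) (LocalizedModule q.primeCompl M) :=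
    (Module.flat_iff_of_isLocalization (Localization.AtPrime p) p.primeCompl _).mpr hflat
  obtain ⟨e, he⟩ := Groth.Agent.Lib.FibreLocIso64.exists_addEquiv (A := A) (B := B)
    (R := Localization.AtPrime p) (S := Localization.AtPrime q) p q
    (LocalizedModule.mkLinearMap q.primeCompl M)
    (LocalizedModule.mkLinearMap q.primeCompl (M ⊗[A] p.ResidueField))
  have hreg' : IsSMulRegular (LocalizedModule q.primeCompl M ⧸
      (mS (Localization.AtPrime p) (Localization.AtPrime q) • ⊤ :
        Submodule (Localization.AtPrime q) (LocalizedModule q.primeCompl M)))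
      (algebraMap B (Localization.AtPrime q) a) := by
    intro z₁ z₂ h
    apply e.symm.injective
    apply hreg
    have h2 : ∀ z, a • e.symm z = e.symm (algebraMap B (Localization.AtPrime q) a • z) := by
      intro z
      apply e.injective
      rw [he, AddEquiv.apply_symm_apply, AddEquiv.apply_symm_apply]
    change a • e.symm z₁ = a • e.symm z₂
    rw [h2, h2]
    exact congrArg e.symm h
  obtain ⟨h1, -⟩ := isSMulRegular_and_flat (LocalizedModule q.primeCompl M) hS
    (algebraMap B (Localization.AtPrime q) a) hreg'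
  intro n₁ n₂ h
  apply h1
  change algebraMap B (Localization.AtPrime q) a • n₁ = algebraMap B (Localization.AtPrime q) a • n₂
  rw [algebraMap_smul, algebraMap_smul]
  exact h

end Local


section Fibre

variable {A B : Type u} [CommRing A] [CommRing B] [Algebra A B] [Algebra.FiniteType A B]
  (M : Type u) [AddCommGroup M] [Module B M] [Module A M] [IsScalarTower A B M]
  (κ : Type u) [Field κ] [Algebra A κ]

/-- The fibre ring `B ⊗ κ` over a field is Noetherian. -/
theorem isNoetherianRing_fibre : IsNoetherianRing (B ⊗[A] κ) := by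
  haveI : IsNoetherianRing (κ ⊗[A] B) := Algebra.FiniteType.isNoetherianRing κ (κ ⊗[A] B)
  exact isNoetherianRing_of_ringEquiv (κ ⊗[A] B) (Algebra.TensorProduct.comm A κ B).toRingEquiv

/-- If `a ⊗ 1` avoids the associated primes of the fibre module then `a` is regular on
`M ⊗ κ`. -/
theorem isSMulRegular_fibre (a : B)
    (hS1 : associatedPrimes (B ⊗[A] κ) ((B ⊗[A] κ) ⊗[B] M) ⊆
        (Module.annihilator (B ⊗[A] κ) ((B ⊗[A] κ) ⊗[B] M)).minimalPrimes)
    (ha : ∀ P ∈ (Module.annihilator (B ⊗[A] κ) ((B ⊗[A] κ) ⊗[B] M)).minimalPrimes,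
        a ⊗ₜ[A] (1 : κ) ∉ P) :
    IsSMulRegular (M ⊗[A] κ) a := by
  haveI := isNoetherianRing_fibre (A := A) (B := B) κ
  have h1 : IsSMulRegular ((B ⊗[A] κ) ⊗[B] M) (a ⊗ₜ[A] (1 : κ)) := by
    by_contra hcon
    have h2 : a ⊗ₜ[A] (1 : κ) ∈ ({ r : B ⊗[A] κ | IsSMulRegular ((B ⊗[A] κ) ⊗[B] M) r }ᶜ) := hcon
    rw [← biUnion_associatedPrimes_eq_compl_regular (B ⊗[A] κ) ((B ⊗[A] κ) ⊗[B] M)] at h2
    simp only [Set.mem_iUnion] at h2
    obtain ⟨P, hP, haP⟩ := h2
    exact ha P (hS1 hP) haP
  have h3 : IsSMulRegular ((B ⊗[A] κ) ⊗[B] M) a := by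
    intro z₁ z₂ h
    apply h1
    change (a ⊗ₜ[A] (1 : κ)) • z₁ = (a ⊗ₜ[A] (1 : κ)) • z₂
    have h4 : ∀ z : (B ⊗[A] κ) ⊗[B] M, (a ⊗ₜ[A] (1 : κ)) • z = a • z := by
      intro z
      rw [← algebraMap_smul (B ⊗[A] κ) a z]
      rfl
    rw [h4, h4]
    exact h
  let e : ((B ⊗[A] κ) ⊗[B] M) ≃ₗ[B] M ⊗[A] κ :=
    (TensorProduct.comm B (B ⊗[A] κ) M) ≪≫ₗ
      (TensorProduct.AlgebraTensorModule.cancelBaseChange A B B M κ)
  exact (e.isSMulRegular_congr a).mp h3

end Fibre


theorem isSMulRegular_of_fibres (A B M : Type u) [CommRing A] [CommRing B] [Algebra A B]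
    [Algebra.FinitePresentation A B] [AddCommGroup M] [Module B M] [Module A M]
    [IsScalarTower A B M] [Module.FinitePresentation B M] [Module.Flat A M]
    (hS1 : ∀ (p : Ideal A) [p.IsPrime],
      associatedPrimes (B ⊗[A] p.ResidueField) ((B ⊗[A] p.ResidueField) ⊗[B] M) ⊆
        (Module.annihilator (B ⊗[A] p.ResidueField) ((B ⊗[A] p.ResidueField) ⊗[B] M)).minimalPrimes)
    (a : B)
    (ha : ∀ (p : Ideal A) [p.IsPrime],
      ∀ P ∈ (Module.annihilator (B ⊗[A] p.ResidueField) ((B ⊗[A] p.ResidueField) ⊗[B] M)).minimalPrimes,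
        a ⊗ₜ[A] (1 : p.ResidueField) ∉ P) :
    IsSMulRegular M a := by
  rw [isSMulRegular_iff_right_eq_zero_of_smul]
  intro m hm
  refine Module.eq_zero_of_localization_maximal (R := B) _
    (fun (P : Ideal B) _ => LocalizedModule.mkLinearMap P.primeCompl M) m (fun q hq => ?_)
  haveI : q.LiesOver (q.comap (algebraMap A B)) := ⟨rfl⟩
  have hflat_q : Module.Flat A (LocalizedModule q.primeCompl M) :=
    Groth.Agent.Lib.QuasiRegFlat89.flat_localizedModule q.primeCompl M
  have hfib : IsSMulRegular (M ⊗[A] (q.comap (algebraMap A B)).ResidueField) a :=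
    isSMulRegular_fibre M (q.comap (algebraMap A B)).ResidueField a
      (hS1 (q.comap (algebraMap A B))) (ha (q.comap (algebraMap A B)))
  have hreg_q : IsSMulRegular
      (LocalizedModule q.primeCompl (M ⊗[A] (q.comap (algebraMap A B)).ResidueField)) a := by
    have h1 := IsSMulRegular.of_isLocalizedModule (Localization q.primeCompl) q.primeCompl
      (LocalizedModule.mkLinearMap q.primeCompl
        (M ⊗[A] (q.comap (algebraMap A B)).ResidueField)) hfib
    intro z₁ z₂ h
    apply h1
    change algebraMap B (Localization q.primeCompl) a • z₁ =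
      algebraMap B (Localization q.primeCompl) a • z₂
    rw [algebraMap_smul, algebraMap_smul]
    exact h
  have h2 := isSMulRegular_localized M (q.comap (algebraMap A B)) q a hflat_q hreg_q
  apply h2
  change a • (LocalizedModule.mkLinearMap q.primeCompl M m) = a • 0
  rw [smul_zero, ← map_smul, hm, map_zero]

end Groth.Agent.Lib.RegFibreS164
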