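/-
Groth.Agent.Lib.RegTwist49 (helper49)

Mumford's lemma on `P^n_T` over an arbitrary base scheme `T`: if `F` is regular (in the sense of Castelnuovo and
Mumford, relative to `p : P^n_T ⟶ T`), then so is `F(m)` for every `m ≥ 0` (`isRegSheaf_twF_nat`, S19428).
The proof is by dimension shifting (`AcyclicShift49.isZero_top_of_acyclic`) along the Koszul complex
(`KoszulOver49.exists_koszul_over`).
-/
import Groth.Agent.Lib.TwistRegSES49
import Groth.Agent.Lib.AcyclicShift49
import Groth.Agent.Lib.KoszulOver49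

set_option autoImplicit false
universe u v v' u₁ u₂
open CategoryTheory CategoryTheory.Limits AlgebraicGeometry TopologicalSpace Opposite

namespace Groth.Agent.Lib.RegTwist49

section General

variable {C : Type u₁} [Category.{v} C] {D : Type u₂} [Category.{v'} D]
variable [Preadditive C] [Preadditive D]

omit [Preadditive C] in
/-- a functor which kills a finite copower of `G` (with at least one summand) kills `G` -/
theorem isZero_of_map_sigma (F : C ⥤ D) {k : ℕ} (G : C) [HasCoproduct (fun _ : Fin k => G)]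
    (hk : 0 < k) (h : IsZero (F.obj (∐ fun _ : Fin k => G))) : IsZero (F.obj G) := by
  rw [IsZero.iff_id_eq_zero]
  have h1 : 𝟙 G = Sigma.ι (fun _ : Fin k => G) ⟨0, hk⟩ ≫ Sigma.desc (fun _ => 𝟙 G) := by
    rw [Sigma.ι_desc]
  rw [← F.map_id, h1, F.map_comp, h.eq_of_tgt (F.map (Sigma.ι (fun _ : Fin k => G) ⟨0, hk⟩)) 0,
    zero_comp]

/-- an additive functor which kills `G` kills the finite copowers of `G` -/
theorem isZero_map_sigma (F : C ⥤ D) [F.Additive] {k : ℕ} (G : C)
    [HasCoproduct (fun _ : Fin k => G)] (h : IsZero (F.obj G)) :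
    IsZero (F.obj (∐ fun _ : Fin k => G)) := by
  classical
  rw [IsZero.iff_id_eq_zero]
  have h1 : 𝟙 (∐ fun _ : Fin k => G) =
      ∑ j : Fin k, Sigma.desc (fun i : Fin k => if i = j then 𝟙 G else 0) ≫
        Sigma.ι (fun _ : Fin k => G) j := by
    refine Sigma.hom_ext _ _ fun i => ?_
    rw [Category.comp_id, Preadditive.comp_sum]
    rw [Finset.sum_eq_single i]
    · rw [Sigma.ι_desc_assoc, if_pos rfl, Category.id_comp]
    · intro j _ hj
      rw [Sigma.ι_desc_assoc, if_neg (Ne.symm hj), zero_comp]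
    · intro hi
      exact absurd (Finset.mem_univ i) hi
  rw [← F.map_id, h1, F.map_sum]
  refine Finset.sum_eq_zero fun j _ => ?_
  rw [F.map_comp, h.eq_of_tgt (F.map _) 0, zero_comp]

end General

section Pn

variable (n : ℕ) (T : Scheme.{u})

/-- `F ↦ R^q p_* F` (underlying abelian sheaves) as a functor on `O`-modules on `P^n_T` -/
noncomputable abbrev H (q : ℕ) :
    (KRR.PY n T).Modules ⥤ Sheaf (Opens.grothendieckTopology T) AddCommGrpCat.{u} :=
  Groth.Agent.Lib.CohLES.toAbF (KRR.PY n T) ⋙ Coh.RpushAb (KRR.pr n T) q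

/-- regularity transports along isomorphisms -/
theorem isRegSheaf_of_iso {F G : (KRR.PY n T).Modules} (e : F ≅ G) (h : KRR.IsRegSheaf n T F) :
    KRR.IsRegSheaf n T G := fun i hi =>
  Groth.Agent.Lib.TwistRegSES49.isZero_Rpush_of_iso n T
    (((DCoh.tensorBi (X := KRR.PY n T)).obj (Twist.twistOver n T (-(i : ℤ)))).mapIso e) i (h i hi)

/-- **Mumford's lemma, one step**: `F` regular ⟹ `F(1)` regular. -/
theorem isRegSheaf_twF_one (F : (KRR.PY n T).Modules) (hreg : KRR.IsRegSheaf n T F) :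
    KRR.IsRegSheaf n T (KRR.twF n T 1 F) := by
  intro i hi
  obtain ⟨C, hC, hX, hz⟩ := Groth.Agent.Lib.KoszulOver49.exists_koszul_over n T F (-((i : ℤ) + n))
  have hvan : ∀ j q : ℕ, j < n + 1 → q + j + 1 = i + (n + 1) →
      IsZero ((H n T q).obj (C.X (j : ℤ))) := by
    intro j q hj hq
    obtain ⟨e⟩ := hX j (by omega)
    refine IsZero.of_iso ?_ ((H n T q).mapIso e)
    apply isZero_map_sigma
    have hd : -((i : ℤ) + n) + j = -(q : ℤ) := by omega
    rw [hd]
    exact Groth.Agent.Lib.TwistRegSES49.isZero_Rpush_of_iso n T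
      (Groth.Agent.Lib.OXModTensor.braiding _ _) q (hreg q (by omega))
  have key := Groth.Agent.Lib.AcyclicShift49.isZero_top_of_acyclic (H n T)
    (fun S hS q h2 h1 => Groth.Agent.Lib.TwistRegSES49.isZero_Rpush_right (KRR.pr n T) hS q h2 h1)
    (fun q A hA => (H n T q).map_isZero hA)
    C hC (hz (-1) (Or.inl (by omega))) (n + 1) (hz _ (Or.inr (by push_cast; omega))) i hvan
  obtain ⟨e⟩ := hX (n + 1) le_rfl
  have h1 : IsZero ((H n T i).obj (∐ fun _ : Fin (Nat.choose (n + 1) (n + 1)) =>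
      CohB1.tensorMod F (Twist.twistOver n T (-((i : ℤ) + n) + ((n + 1 : ℕ) : ℤ))))) :=
    IsZero.of_iso key ((H n T i).mapIso e).symm
  have h2 := isZero_of_map_sigma (H n T i) _ (by rw [Nat.choose_self]; exact Nat.one_pos) h1
  have hd : -((i : ℤ) + n) + ((n + 1 : ℕ) : ℤ) = 1 - (i : ℤ) := by push_cast; ring
  rw [hd] at h2
  obtain ⟨e'⟩ := Groth.Agent.Lib.TwistRegSES49.nonempty_twF_twF' n T (a := -(i : ℤ)) (b := 1)
    (c := 1 - (i : ℤ)) (by ring) F
  exact Groth.Agent.Lib.TwistRegSES49.isZero_Rpush_of_iso n T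
    (Groth.Agent.Lib.OXModTensor.braiding _ _ ≪≫ e'.symm) i h2

/-- **Mumford's lemma** (S19428): `F` regular ⟹ `F(m)` regular for all `m ≥ 0`. -/
theorem isRegSheaf_twF_nat (F : (KRR.PY n T).Modules) (hreg : KRR.IsRegSheaf n T F) (m : ℕ) :
    KRR.IsRegSheaf n T (KRR.twF n T (m : ℤ) F) := by
  induction m with
  | zero =>
    obtain ⟨e⟩ := Groth.Agent.Lib.TwistRegSES49.nonempty_twF_zero n T F
    exact isRegSheaf_of_iso n T e.symm hreg
  | succ m ih =>
    obtain ⟨e⟩ := Groth.Agent.Lib.TwistRegSES49.nonempty_twF_twF' n T (a := 1) (b := (m : ℤ))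
      (c := ((m + 1 : ℕ) : ℤ)) (by push_cast; ring) F
    exact isRegSheaf_of_iso n T e (isRegSheaf_twF_one n T _ ih)

/-- a regular sheaf has no higher direct images (S3754, second half) -/
theorem isZero_Rpush_of_isRegSheaf (F : (KRR.PY n T).Modules) (hreg : KRR.IsRegSheaf n T F)
    (i : ℕ) (hi : 1 ≤ i) : IsZero ((Coh.RpushAb (KRR.pr n T) i).obj (Coh.toAb F)) := by
  obtain ⟨e⟩ := Groth.Agent.Lib.TwistRegSES49.nonempty_twF_twF_zero n T (a := -(i : ℤ))
    (b := (i : ℤ)) (by ring) F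
  exact Groth.Agent.Lib.TwistRegSES49.isZero_Rpush_of_iso n T e i
    (isRegSheaf_twF_nat n T F hreg i i hi)

end Pn

end Groth.Agent.Lib.RegTwist49
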