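/-
Groth.Agent.Lib.RegMulSurj49 (helper49)

Mumford's lemma on sections, relative form: for a regular `O`-module `F` on `P^n_T` (any base scheme `T`) and
`k ≥ 0`, every section of `F(k+1)` over `p⁻¹ U` is, locally on `U`, of the form `∑_c X_c · s_c` with `s_c` sections
of `F(k)` (`exists_local_sum`).  Proof: the Koszul complex (`KoszulOver49`), dimension shifting
(`AcyclicShift49.isZero_Z_of_acyclic`) and the long exact sequence of higher direct images.
-/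
import Groth.Agent.Lib.RegTwist49
import Groth.Agent.Lib.H4KoszulTop
import Groth.Agent.Lib.H78TensorGen

set_option autoImplicit false
universe u
open CategoryTheory CategoryTheory.Limits AlgebraicGeometry TopologicalSpace Opposite
open Groth.Agent.Lib.H78TensorGen Groth.Agent.Lib.CohLES Groth.Agent.Lib.H4Koszul
open Groth.Agent.Lib.KoszulOver49 Groth.Agent.Lib.TwistRegSES49 Groth.Agent.Lib.AcyclicShift49

namespace Groth.Agent.Lib.RegMulSurj49

section General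

variable {X Y : Scheme.{u}}

/-- sections over an open, as an additive functor -/
noncomputable def ΓV (X : Scheme.{u}) (V : X.Opens) : X.Modules ⥤ AddCommGrpCat.{u} :=
  Scheme.Modules.toPresheaf X ⋙ (evaluation _ _).obj (op V)

instance (X : Scheme.{u}) (V : X.Opens) : (ΓV X V).Additive := ⟨fun {_ _ _ _} => rfl⟩

lemma ΓV_map_hom_apply {V : X.Opens} {M N : X.Modules} (f : M ⟶ N) (z : (ΓV X V).obj M) :
    ((ΓV X V).map f).hom z = f.app V z := rfl

theorem preimage_mono' (f : X ⟶ Y) {U U' : Y.Opens} (h : U' ≤ U) : f ⁻¹ᵁ U' ≤ f ⁻¹ᵁ U :=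
  fun _ hx => h hx

/-- an epimorphism of direct images lifts sections locally on the base -/
theorem exists_local_lift (f : X ⟶ Y) {M N : X.Modules} (g : M ⟶ N)
    (hepi : Epi ((Coh.pushAb f).map ((toAbF X).map g))) (U : Y.Opens) (t : Γ(N, f ⁻¹ᵁ U)) (y : Y)
    (hy : y ∈ U) :
    ∃ (U' : Y.Opens) (hU' : U' ≤ U), y ∈ U' ∧ ∃ z : Γ(M, f ⁻¹ᵁ U'),
      g.app (f ⁻¹ᵁ U') z = rs N (preimage_mono' f hU') t := by
  have hls := (TopCat.Sheaf.isLocallySurjective_iff_epi (X := Y.toTopCat)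
    ((Coh.pushAb f).map ((toAbF X).map g))).2 hepi
  obtain ⟨V, hV, ⟨s, hs⟩, hyV⟩ := (TopCat.Presheaf.isLocallySurjective_iff _).1 hls U t y hy
  exact ⟨V, hV, hyV, s, hs⟩

/-- if `R¹f_* X₁ = 0` then `f_* X₂ → f_* X₃` is an epimorphism (of abelian sheaves) -/
theorem epi_pushAb_map_g (f : X ⟶ Y) {S : ShortComplex X.Modules} (hS : S.ShortExact)
    (h1 : IsZero ((Coh.RpushAb f 1).obj (Coh.toAb S.X₁))) :
    Epi ((Coh.pushAb f).map ((toAbF X).map S.g)) := by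
  let L := Groth.Agent.Lib.DerivedLES.derivedLES (Coh.pushAb f)
  have hSab := Groth.Agent.Lib.CohLES.shortExact_toAb hS
  have hex := L.exact₃ (abS S) hSab 0 1 rfl
  have hepi3 : Epi (((Coh.pushAb f).rightDerived 0).map ((toAbF X).map S.g)) :=
    hex.epi_f (h1.eq_of_tgt _ _)
  have hnat := (Coh.pushAb f).rightDerivedZeroIsoSelf.hom.naturality ((toAbF X).map S.g)
  have : (Coh.pushAb f).map ((toAbF X).map S.g) =
      (Coh.pushAb f).rightDerivedZeroIsoSelf.inv.app _ ≫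
        ((Coh.pushAb f).rightDerived 0).map ((toAbF X).map S.g) ≫
        (Coh.pushAb f).rightDerivedZeroIsoSelf.hom.app _ := by
    rw [hnat, Iso.inv_hom_id_app_assoc]
  rw [this]
  infer_instance

end General

section Pn

variable (n : ℕ) (T : Scheme.{u})

/-- the Koszul complexes of `twSysOver` are acyclic -/
theorem kos_acyclic_over (F : (KRR.PY n T).Modules) (a : ℤ) :
    ((TwSys.kos (twSysOver n T F) (n + 1)).obj a).Acyclic := by
  refine TwSys.acyclic_of_forall_map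
    (𝒟 := fun c : Fin (n + 1) => ((stdOpenOver n T c : (KRR.PY n T).Opens) : Scheme.{u}).Modules)
    (fun c => Scheme.Modules.restrictFunctor (stdOpenOver n T c).ι)
    (fun M hM => Groth.Agent.Lib.H4KoszulPn.isZero_of_forall_restrict M _ (iSup_stdOpenOver n T) hM)
    _ (fun c => ?_)
  exact TwSys.kos_GAcyclic _ (twSysOver n T F) c.1 (fun d => isIso_restrict_twSysOver_x n T F c d)
    (n + 1) c.2 a

/-- the vanishing of higher direct images used for the Koszul complex of a regular module -/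
theorem isZero_H_twSys (F : (KRR.PY n T).Modules) (hreg : KRR.IsRegSheaf n T F) (k q : ℕ) (hq : 1 ≤ q)
    (e : ℤ) (he : (k : ℤ) + -(q : ℤ) = e) :
    IsZero ((Groth.Agent.Lib.RegTwist49.H n T q).obj ((twSysOver n T F).obj e)) := by
  have h := Groth.Agent.Lib.RegTwist49.isRegSheaf_twF_nat n T F hreg k q hq
  obtain ⟨e'⟩ := nonempty_twF_twF' n T (a := -(q : ℤ)) (b := (k : ℤ)) (c := e) (by omega) F
  exact isZero_Rpush_of_iso n T (e' ≪≫ (Groth.Agent.Lib.OXModTensor.braiding _ _)) q h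

/-- surjectivity of a differential on sections, locally on the base -/
def LocSurjD (K : CochainComplex (KRR.PY n T).Modules ℤ) (i j : ℤ) : Prop :=
  ∀ (U : T.Opens) (t : Γ(K.X j, (KRR.pr n T) ⁻¹ᵁ U)) (y : T), y ∈ U →
    ∃ (U' : T.Opens) (hU' : U' ≤ U), y ∈ U' ∧ ∃ z : Γ(K.X i, (KRR.pr n T) ⁻¹ᵁ U'),
      (K.d i j).app ((KRR.pr n T) ⁻¹ᵁ U') z = rs (K.X j) (preimage_mono' (KRR.pr n T) hU') t

/-- the last differential of the Koszul complex of a regular module is surjective on sections, locally on the base -/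
theorem locSurjD_kos (F : (KRR.PY n T).Modules) (hreg : KRR.IsRegSheaf n T F) (k : ℕ) :
    LocSurjD n T ((TwSys.kos (twSysOver n T F) (n + 1)).obj ((k : ℤ) - n)) (-1) 0 := by
  obtain ⟨TF, hTF⟩ : ∃ TF, TF = twSysOver n T F := ⟨_, rfl⟩
  rw [← hTF]
  obtain ⟨d, hd⟩ : ∃ d : ℤ, d = (k : ℤ) - n := ⟨_, rfl⟩
  rw [← hd]
  obtain ⟨K, hKdef⟩ : ∃ K, K = (TwSys.kos TF (n + 1)).obj d := ⟨_, rfl⟩
  rw [← hKdef]
  have hK : K.Acyclic := by rw [hKdef, hTF]; exact kos_acyclic_over n T F d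
  obtain ⟨C, hCdef⟩ : ∃ C, C = TwSys.kosCx TF (n + 1) d := ⟨_, rfl⟩
  have hC : ∀ i, C.ExactAt i := by
    rw [hCdef]; exact TwSys.kosCx_acyclic TF (n + 1) d (by rw [← hKdef]; exact hK)
  have hneg : IsZero (C.X (-1)) := by
    rw [hCdef]; exact TwSys.isZero_kosCx_X TF (n + 1) d (-1) (Or.inl (by omega))
  have hvan : ∀ j q : ℕ, j < n → q + j + 1 = 1 + n →
      IsZero ((Groth.Agent.Lib.RegTwist49.H n T q).obj (C.X (j : ℤ))) := by
    intro j q hj hq
    obtain ⟨e⟩ := TwSys.nonempty_kosCx_X_iso TF (n + 1) d j (by omega)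
    rw [hCdef]
    refine IsZero.of_iso ?_ ((Groth.Agent.Lib.RegTwist49.H n T q).mapIso e)
    apply Groth.Agent.Lib.RegTwist49.isZero_map_sigma
    rw [hTF]
    exact isZero_H_twSys n T F hreg k q (by omega) _ (by omega)
  have hZ := isZero_Z_of_acyclic (Groth.Agent.Lib.RegTwist49.H n T)
    (fun S hS q h2 h1 => isZero_Rpush_right (KRR.pr n T) hS q h2 h1)
    (fun q A hA => (Groth.Agent.Lib.RegTwist49.H n T q).map_isZero hA) C hC hneg n 1 hvan
  have hzero : IsZero (C.X ((n : ℤ) + 1 + 1)) := by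
    rw [hCdef]; exact TwSys.isZero_kosCx_X TF (n + 1) d _ (Or.inr (by push_cast; omega))
  have hex : (C.sc' (n : ℤ) ((n : ℤ) + 1) ((n : ℤ) + 1 + 1)).Exact :=
    (C.exactAt_iff' _ _ _ (by simp) (by simp)).1 (hC _)
  have hepi : Epi (C.d (n : ℤ) ((n : ℤ) + 1)) := hex.epi_f (hzero.eq_of_tgt _ _)
  have hS : (ShortComplex.mk (kernel.ι (C.d (n : ℤ) ((n : ℤ) + 1))) (C.d (n : ℤ) ((n : ℤ) + 1))
      (kernel.condition _)).ShortExact :=
    ShortComplex.ShortExact.mk' (ShortComplex.exact_kernel _) inferInstance hepi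
  have hepi' := epi_pushAb_map_g (KRR.pr n T) hS hZ
  -- local surjectivity for `C`, then for `K` with shifted indices
  subst hCdef
  subst hKdef
  have hP : LocSurjD n T ((TwSys.kos TF (n + 1)).obj d) ((n : ℤ) + -((n + 1 : ℕ) : ℤ))
      ((n : ℤ) + 1 + -((n + 1 : ℕ) : ℤ)) := by
    intro U t y hy
    obtain ⟨U', hU', hyU', z, hz⟩ := exists_local_lift (KRR.pr n T)
      ((TwSys.kosCx TF (n + 1) d).d (n : ℤ) ((n : ℤ) + 1)) hepi' U t y hy
    have hdd : (TwSys.kosCx TF (n + 1) d).d (n : ℤ) ((n : ℤ) + 1) =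
        (-((n + 1 : ℕ) : ℤ)).negOnePow • ((TwSys.kos TF (n + 1)).obj d).d _ _ := rfl
    rcases Int.units_eq_one_or ((-((n + 1 : ℕ) : ℤ)).negOnePow) with h1 | h1
    · refine ⟨U', hU', hyU', z, ?_⟩
      rw [hdd, h1, one_smul] at hz
      exact hz
    · refine ⟨U', hU', hyU', -z, ?_⟩
      rw [hdd, h1, Units.neg_smul, one_smul] at hz
      refine (map_neg (ConcreteCategory.hom (Scheme.Modules.Hom.app
        (((TwSys.kos TF (n + 1)).obj d).d _ _) ((KRR.pr n T) ⁻¹ᵁ U'))) z).trans ?_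
      exact hz
  have e1 : (n : ℤ) + -((n + 1 : ℕ) : ℤ) = -1 := by push_cast; ring
  have e2 : (n : ℤ) + 1 + -((n + 1 : ℕ) : ℤ) = 0 := by push_cast; ring
  rw [e1, e2] at hP
  exact hP

/-- **Mumford's lemma on sections, relative form**: for `F` regular and `k ≥ 0`, every section of `F(k+1)` over
`p⁻¹ U` is, locally on `U`, a sum `∑_c X_c · s_c` with `s_c` sections of `F(k)`. -/
theorem exists_local_sum (F : (KRR.PY n T).Modules) (hreg : KRR.IsRegSheaf n T F) (k : ℕ)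
    (U : T.Opens) (ξ : Γ((twSysOver n T F).obj ((k : ℤ) + 1), (KRR.pr n T) ⁻¹ᵁ U)) (y : T)
    (hy : y ∈ U) :
    ∃ (U' : T.Opens) (hU' : U' ≤ U), y ∈ U' ∧
      ∃ s : ℕ → Γ((twSysOver n T F).obj (k : ℤ), (KRR.pr n T) ⁻¹ᵁ U'),
        rs _ (preimage_mono' (KRR.pr n T) hU') ξ =
          ∑ c ∈ Finset.range (n + 1), ((twSysOver n T F).x c (k : ℤ)).app _ (s c) := by
  have h : (k : ℤ) - n + ((n + 1 : ℕ) : ℤ) = (k : ℤ) + 1 := by push_cast; ring
  obtain ⟨ι, hι⟩ : ∃ ι, ι = TwSys.topIso (twSysOver n T F) (n + 1) ((k : ℤ) - n) ((k : ℤ) + 1) h :=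
    ⟨_, rfl⟩
  obtain ⟨U', hU', hyU', z, hz⟩ := locSurjD_kos n T F hreg k U (ι.inv.app _ ξ) y hy
  obtain ⟨s, hs⟩ := TwSys.exists_sum_of_top_d (ΓV (KRR.PY n T) ((KRR.pr n T) ⁻¹ᵁ U'))
    (twSysOver n T F) (n + 1) ((k : ℤ) - n) (k : ℤ) ((k : ℤ) + 1) h rfl z
  refine ⟨U', hU', hyU', s, ?_⟩
  rw [← hι] at hs
  have hs' : ι.hom.app ((KRR.pr n T) ⁻¹ᵁ U')
      (((((TwSys.kos (twSysOver n T F) (n + 1)).obj ((k : ℤ) - n)).d (-1) 0).app
          ((KRR.pr n T) ⁻¹ᵁ U')) z) =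
      ∑ c ∈ Finset.range (n + 1),
        ((twSysOver n T F).x' c (k : ℤ) ((k : ℤ) + 1) rfl).app ((KRR.pr n T) ⁻¹ᵁ U') (s c) := hs
  rw [hz, Groth.Agent.Lib.H78SecCoord.app_rs] at hs'
  have h2 : ι.hom.app ((KRR.pr n T) ⁻¹ᵁ U) (ι.inv.app ((KRR.pr n T) ⁻¹ᵁ U) ξ) = ξ := by
    have : (ι.inv ≫ ι.hom).app ((KRR.pr n T) ⁻¹ᵁ U) ξ = ξ := by
      rw [ι.inv_hom_id]; rfl
    exact this
  rw [h2] at hs'
  rw [hs']
  refine Finset.sum_congr rfl (fun c _ => ?_)
  have h3 : (twSysOver n T F).x' c (k : ℤ) ((k : ℤ) + 1) rfl = (twSysOver n T F).x c (k : ℤ) := by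
    unfold TwSys.x'
    rw [eqToHom_refl, Category.comp_id]
  rw [h3]

end Pn

end Groth.Agent.Lib.RegMulSurj49
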