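/-
Groth.Agent.Lib.RegGen49 (helper49)

A regular quasi-coherent module `F` on `P^n_T` (any base scheme `T`) is generated by its direct image:
the counit `p^* p_* F ⟶ F` is an epimorphism (`epi_counit_of_isRegSheaf`, S19429).
Proof: with `π : F ⟶ Q` the cokernel of the counit,
* `π` kills the sections of `F` over `p⁻¹ U` (triangle identity),
* `π ⊗ O(k)` kills the sections of `F(k)` over `p⁻¹ U` for all `k ≥ 0` (induction, `RegMulSurj49.exists_local_sum`),
* every section of `F` over a chart `D₊(X_c) ×_ℤ U` (`U` affine) extends to `p⁻¹ U` after twisting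
  (`PnAtlas49.exists_twist_ext_Pn`), hence is killed by `π`; so `π = 0`.
-/
import Groth.Agent.Lib.RegMulSurj49
import Groth.Agent.Lib.PnAtlas49

set_option autoImplicit false
universe u
open CategoryTheory CategoryTheory.Limits AlgebraicGeometry TopologicalSpace Opposite
open Groth.Agent.Lib.H78TensorGen Groth.Agent.Lib.H78SecCoord Groth.Agent.Lib.H78KeyLemma
open Groth.Agent.Lib.H78Atlas Groth.Agent.Lib.H90Invertible Groth.Agent.Lib.StructureModule
open Groth.Agent.Lib.KoszulOver49 Groth.Agent.Lib.TwistRegSES49 Groth.Agent.Lib.RegMulSurj49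
open Groth.Agent.Lib.OXModTensor Groth.Agent.Lib.H4KoszulPn

namespace Groth.Agent.Lib.RegGen49

variable (n : ℕ) (T : Scheme.{u}) (F : (KRR.PY n T).Modules)

/-- the counit `p^* p_* F ⟶ F` -/
noncomputable abbrev counitF :
    (Scheme.Modules.pullback (KRR.pr n T)).obj ((Scheme.Modules.pushforward (KRR.pr n T)).obj F) ⟶ F :=
  (Scheme.Modules.pullbackPushforwardAdjunction (KRR.pr n T)).counit.app F

/-- the projection to the cokernel of the counit -/
noncomputable abbrev π : F ⟶ cokernel (counitF n T F) := cokernel.π (counitF n T F)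

omit n T in
lemma tmul_zero_left' {X : Scheme.{u}} {M N : X.Modules} {V : X.Opens} (y : Γ(N, V)) :
    tmul (0 : Γ(M, V)) y = 0 := by
  have h := smul_tmul (0 : Γ(X, V)) (0 : Γ(M, V)) y
  rw [zero_smul, zero_smul] at h
  exact h

/-- `π` kills the sections of `F` over `p⁻¹ U` -/
theorem π_app_eq_zero (U : T.Opens) (s : Γ(F, (KRR.pr n T) ⁻¹ᵁ U)) :
    (π n T F).app ((KRR.pr n T) ⁻¹ᵁ U) s = 0 := by
  have htri := (Scheme.Modules.pullbackPushforwardAdjunction (KRR.pr n T)).right_triangle_components F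
  have h1 : (((Scheme.Modules.pullbackPushforwardAdjunction (KRR.pr n T)).unit.app
      ((Scheme.Modules.pushforward (KRR.pr n T)).obj F)) ≫
      (Scheme.Modules.pushforward (KRR.pr n T)).map (counitF n T F)).app U s = s := by
    rw [htri]; rfl
  obtain ⟨η, hη⟩ : ∃ η : Γ((Scheme.Modules.pullback (KRR.pr n T)).obj
      ((Scheme.Modules.pushforward (KRR.pr n T)).obj F), (KRR.pr n T) ⁻¹ᵁ U),
      (counitF n T F).app ((KRR.pr n T) ⁻¹ᵁ U) η = s := ⟨_, h1⟩
  rw [← hη]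
  have h3 : (π n T F).app ((KRR.pr n T) ⁻¹ᵁ U) ((counitF n T F).app ((KRR.pr n T) ⁻¹ᵁ U) η) =
      (counitF n T F ≫ π n T F).app ((KRR.pr n T) ⁻¹ᵁ U) η := rfl
  rw [h3, cokernel.condition]
  rfl

/-- `RegMulSurj49.exists_local_sum`, with the twist system unfolded -/
theorem exists_local_sum' (hreg : KRR.IsRegSheaf n T F) (k : ℕ) (U : T.Opens)
    (ξ : Γ(CohB1.tensorMod F (Twist.twistOver n T ((k : ℤ) + 1)), (KRR.pr n T) ⁻¹ᵁ U)) (y : T)
    (hy : y ∈ U) :
    ∃ (U' : T.Opens) (hU' : U' ≤ U), y ∈ U' ∧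
      ∃ s : Fin (n + 1) → Γ(CohB1.tensorMod F (Twist.twistOver n T (k : ℤ)), (KRR.pr n T) ⁻¹ᵁ U'),
        rs (CohB1.tensorMod F (Twist.twistOver n T ((k : ℤ) + 1)))
          (preimage_mono' (KRR.pr n T) hU') ξ =
          ∑ c : Fin (n + 1),
            (tensorModMap (𝟙 F) (mulOver n T c (k : ℤ))).app ((KRR.pr n T) ⁻¹ᵁ U') (s c) := by
  obtain ⟨U', hU', hyU', s, hs⟩ := exists_local_sum n T F hreg k U ξ y hy
  refine ⟨U', hU', hyU', fun c => s c.1, ?_⟩
  refine hs.trans ?_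
  refine (Finset.sum_range _).trans ?_
  refine Finset.sum_congr rfl (fun c _ => ?_)
  have hx : (twSysOver n T F).x c.1 (k : ℤ) = tensorModMap (𝟙 F) (mulOver n T c (k : ℤ)) :=
    dif_pos c.2
  rw [hx]
  rfl

/-- `π ⊗ O(k)` kills the sections of `F(k)` over `p⁻¹ U`, for all `k ≥ 0` -/
theorem π_tw_app_eq_zero (hreg : KRR.IsRegSheaf n T F) (k : ℕ) :
    ∀ (e : ℤ), e = (k : ℤ) → ∀ (U : T.Opens)
      (ξ : Γ(CohB1.tensorMod F (Twist.twistOver n T e), (KRR.pr n T) ⁻¹ᵁ U)),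
      (tensorModMap (π n T F) (𝟙 (Twist.twistOver n T e))).app ((KRR.pr n T) ⁻¹ᵁ U) ξ = 0 := by
  induction k with
  | zero =>
    intro e he U ξ
    obtain rfl : e = 0 := by simpa using he
    obtain ⟨j⟩ := nonempty_twistOver_zero n T
    have he₀ : IsGen (Twist.twistOver n T 0) ⊤ (j.symm.hom.app ⊤ (toSec ⊤ 1)) :=
      (isGen_one (⊤ : (KRR.PY n T).Opens)).of_iso j.symm
    obtain ⟨x, hx⟩ := (tmul_gen_bijective F he₀ (le_top : (KRR.pr n T) ⁻¹ᵁ U ≤ ⊤)).2 ξ
    dsimp only at hx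
    rw [← hx, tensorModMap_tmul, π_app_eq_zero]
    exact tmul_zero_left' _
  | succ k ih =>
    intro e he U ξ
    obtain rfl : e = (k : ℤ) + 1 := by push_cast at he; exact he
    refine sec_ext _ _ _ (fun z hz => ?_)
    obtain ⟨U', hU', hyU', s, hs⟩ := exists_local_sum' n T F hreg k U ξ ((KRR.pr n T) z) hz
    refine ⟨(KRR.pr n T) ⁻¹ᵁ U', preimage_mono' (KRR.pr n T) hU', hyU', ?_⟩
    rw [rs_zero, ← app_rs, hs, map_sum]
    refine Finset.sum_eq_zero (fun c _ => ?_)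
    have hcomm : tensorModMap (𝟙 F) (mulOver n T c (k : ℤ)) ≫
        tensorModMap (π n T F) (𝟙 (Twist.twistOver n T ((k : ℤ) + 1))) =
        tensorModMap (π n T F) (𝟙 (Twist.twistOver n T (k : ℤ))) ≫
          tensorModMap (𝟙 _) (mulOver n T c (k : ℤ)) := by
      rw [← tensorModMap_comp, ← tensorModMap_comp, Category.id_comp, Category.comp_id,
        Category.id_comp, Category.comp_id]
    have h2 : (tensorModMap (π n T F) (𝟙 (Twist.twistOver n T ((k : ℤ) + 1)))).app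
        ((KRR.pr n T) ⁻¹ᵁ U')
        ((tensorModMap (𝟙 F) (mulOver n T c (k : ℤ))).app ((KRR.pr n T) ⁻¹ᵁ U') (s c)) =
        (tensorModMap (𝟙 F) (mulOver n T c (k : ℤ)) ≫
          tensorModMap (π n T F) (𝟙 (Twist.twistOver n T ((k : ℤ) + 1)))).app
            ((KRR.pr n T) ⁻¹ᵁ U') (s c) := rfl
    rw [h2, hcomm]
    have h3 : (tensorModMap (π n T F) (𝟙 (Twist.twistOver n T (k : ℤ))) ≫
        tensorModMap (𝟙 _) (mulOver n T c (k : ℤ))).app ((KRR.pr n T) ⁻¹ᵁ U') (s c) =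
        (tensorModMap (𝟙 _) (mulOver n T c (k : ℤ))).app ((KRR.pr n T) ⁻¹ᵁ U')
          ((tensorModMap (π n T F) (𝟙 (Twist.twistOver n T (k : ℤ)))).app
            ((KRR.pr n T) ⁻¹ᵁ U') (s c)) := rfl
    rw [h3, ih (k : ℤ) rfl U' (s c), map_zero]

/-- `O(1)^{⊗ q} ≅ O(q)` on `P^n_T` -/
theorem nonempty_tensorPow_iso (q : ℕ) :
    Nonempty (CohB1.tensorPow (Twist.twistOver n T 1) q ≅ Twist.twistOver n T (q : ℤ)) := by
  induction q with
  | zero =>
    obtain ⟨j⟩ := nonempty_twistOver_zero n T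
    exact ⟨j.symm⟩
  | succ q ih =>
    obtain ⟨e⟩ := ih
    obtain ⟨e'⟩ := nonempty_twistOver_mul n T (q : ℤ) 1
    refine ⟨tensorModIso e (Iso.refl _) ≪≫ e' ≪≫ eqToIso ?_⟩
    push_cast
    rfl

/-- `π ⊗ O(1)^{⊗ q}` kills the sections of `F ⊗ O(1)^{⊗ q}` over `p⁻¹ U` -/
theorem π_pow_app_eq_zero (hreg : KRR.IsRegSheaf n T F) (q : ℕ) (U : T.Opens)
    (ξ : Γ(CohB1.tensorMod F (CohB1.tensorPow (Twist.twistOver n T 1) q), (KRR.pr n T) ⁻¹ᵁ U)) :
    (tensorModMap (π n T F) (𝟙 (CohB1.tensorPow (Twist.twistOver n T 1) q))).app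
      ((KRR.pr n T) ⁻¹ᵁ U) ξ = 0 := by
  obtain ⟨e⟩ := nonempty_tensorPow_iso n T q
  have h : tensorModMap (π n T F) (𝟙 (CohB1.tensorPow (Twist.twistOver n T 1) q)) =
      tensorModMap (𝟙 F) e.hom ≫ tensorModMap (π n T F) (𝟙 (Twist.twistOver n T (q : ℤ))) ≫
        tensorModMap (𝟙 _) e.inv := by
    rw [← tensorModMap_comp, ← tensorModMap_comp, Category.id_comp, Category.comp_id,
      Category.id_comp, e.hom_inv_id]
  rw [h]
  have h2 : (tensorModMap (𝟙 F) e.hom ≫ tensorModMap (π n T F) (𝟙 (Twist.twistOver n T (q : ℤ))) ≫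
        tensorModMap (𝟙 _) e.inv).app ((KRR.pr n T) ⁻¹ᵁ U) ξ =
      (tensorModMap (𝟙 _) e.inv).app ((KRR.pr n T) ⁻¹ᵁ U)
        ((tensorModMap (π n T F) (𝟙 (Twist.twistOver n T (q : ℤ)))).app ((KRR.pr n T) ⁻¹ᵁ U)
          ((tensorModMap (𝟙 F) e.hom).app ((KRR.pr n T) ⁻¹ᵁ U) ξ)) := rfl
  rw [h2, π_tw_app_eq_zero n T F hreg q (q : ℤ) rfl U _, map_zero]

open Groth.Agent.Lib.PnAtlas49 Groth.Agent.Lib.VeryAmpleH3 in
/-- `π_pow_app_eq_zero` in the notation of `PnAtlas49` -/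
theorem π_pow_app_eq_zero' (hreg : KRR.IsRegSheaf n T F) (q : ℕ) (U : T.Opens)
    (ξ : Γ(CohB1.tensorMod F (CohB1.tensorPow (L n T) q), sndP n T ⁻¹ᵁ U)) :
    (tensorModMap (π n T F) (𝟙 (CohB1.tensorPow (L n T) q))).app (sndP n T ⁻¹ᵁ U) ξ = 0 :=
  π_pow_app_eq_zero n T F hreg q U ξ

open Groth.Agent.Lib.PnAtlas49 Groth.Agent.Lib.VeryAmpleH3 Groth.Agent.Lib.ProjSpaceCoordH3 in
/-- `π` kills the sections of `F` over the charts `D₊(X_c) ×_ℤ U`, `U ⊆ T` affine -/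
theorem π_app_chart_eq_zero (hF : QcLike F) (hreg : KRR.IsRegSheaf n T F) {U : T.Opens}
    (hU : IsAffineOpen U) (c : Fin (n + 1)) (t : Γ(F, V n T U c)) :
    (π n T F).app (V n T U c) t = 0 := by
  obtain ⟨q, ξ, hξ⟩ := exists_twist_ext_Pn n T hU hF c t
  have h0 := π_pow_app_eq_zero' n T F hreg q U ξ
  have h1 := app_rs (tensorModMap (π n T F) (𝟙 (CohB1.tensorPow (L n T) q))) (V_le n T U c) ξ
  have h1' : (tensorModMap (π n T F) (𝟙 (CohB1.tensorPow (L n T) q))).app (V n T U c)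
      (tmul t (epow ((atlas n T U).E c) q)) = 0 := by
    rw [← hξ]
    refine h1.trans ?_
    refine (congrArg (rs _ (V_le n T U c)) h0).trans ?_
    exact rs_zero _ _
  rw [tensorModMap_tmul] at h1'
  have hinj := (tmul_gen_bijective (cokernel (counitF n T F))
    (isGen_epow ((atlas n T U).gen c) q) (le_refl (V n T U c))).1
  apply hinj
  dsimp only
  rw [rs_self]
  refine h1'.trans ?_
  exact (tmul_zero_left' _).symm

open Groth.Agent.Lib.PnAtlas49 Groth.Agent.Lib.VeryAmpleH3 Groth.Agent.Lib.ProjSpaceCoordH3 in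
/-- the cokernel of the counit of a regular quasi-coherent module vanishes -/
theorem π_eq_zero (hF : F.IsQuasicoherent) (hreg : KRR.IsRegSheaf n T F) : π n T F = 0 := by
  have hQc : QcLike F := qcLike_of_isQuasicoherent F
  refine Scheme.Modules.hom_ext _ _ (fun W => ?_)
  ext s
  change (π n T F).app W s = 0
  refine sec_ext _ _ _ (fun z hz => ?_)
  obtain ⟨U, hUaff, hzU, -⟩ := Opens.isBasis_iff_nbhd.1 T.isBasis_affineOpens
    (show (KRR.pr n T) z ∈ (⊤ : T.Opens) from trivial)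
  obtain ⟨c, hc⟩ := exists_mem_D n ZZ.{u} ((fstP n T) z)
  have hzV : z ∈ V n T U c := ⟨hc, hzU⟩
  have hVaff := isAffineOpen_V n T hUaff c
  obtain ⟨f, hfle, hzf⟩ := hVaff.exists_basicOpen_le (V := W ⊓ V n T U c) ⟨z, ⟨hz, hzV⟩⟩ hzV
  refine ⟨(KRR.PY n T).basicOpen f, hfle.trans inf_le_left, hzf, ?_⟩
  rw [rs_zero, ← app_rs]
  obtain ⟨m, t, ht⟩ := hQc.ext hVaff f (rs F (hfle.trans inf_le_left) s)
  have hπt := π_app_chart_eq_zero n T F hQc hreg hUaff c t
  have h1 := congrArg ((π n T F).app ((KRR.PY n T).basicOpen f)) ht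
  rw [app_rs, hπt, rs_zero, Scheme.Modules.Hom.app_smul] at h1
  have hu : IsUnit (rf ((KRR.PY n T).basicOpen_le f) f) :=
    RingedSpace.isUnit_res_basicOpen (KRR.PY n T).toRingedSpace f
  exact ((hu.pow m).smul_eq_zero).1 h1.symm

/-- **A regular quasi-coherent module on `P^n_T` is generated by its direct image** (S19429) -/
theorem epi_counit_of_isRegSheaf (hF : F.IsQuasicoherent) (hreg : KRR.IsRegSheaf n T F) :
    Epi ((Scheme.Modules.pullbackPushforwardAdjunction (KRR.pr n T)).counit.app F) :=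
  Abelian.epi_of_cokernel_π_eq_zero _ (π_eq_zero n T F hF hreg)

end Groth.Agent.Lib.RegGen49
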