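/-
helper84: regular local ring `A`, primes `P`, `Q` with `P ⊔ Q = m` and
`dim A ≤ dim A/P + dim A/Q` ⇒ `A/P`, `A/Q` regular (both generated by parts of one regular
system of parameters).
-/
import Mathlib
import Groth.Agent.Lib.RegularLocal
import Groth.Agent.Lib.CohenFactor2

set_option autoImplicit false
set_option maxHeartbeats 800000
set_option linter.style.haveILetI false
universe u

namespace Groth.Agent.Lib.RegSplit84

open IsLocalRing

/-- In a Noetherian local ring with `P ⊔ Q = m`, the maximal ideal is generated by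
`l` elements of `P` and `k` elements of `Q` with `l + k` the embedding dimension. -/
theorem exists_split_generators {A : Type u} [CommRing A] [IsLocalRing A] [IsNoetherianRing A]
    (P Q : Ideal A) (hP : P ≤ maximalIdeal A) (hQ : Q ≤ maximalIdeal A)
    (hPQ : maximalIdeal A ≤ P ⊔ Q) :
    ∃ (TP TQ : Set A), TP.Finite ∧ TQ.Finite ∧ TP ⊆ P ∧ TQ ⊆ Q ∧
      maximalIdeal A ≤ Ideal.span TP ⊔ Ideal.span TQ ∧
      TP.ncard + TQ.ncard ≤ (maximalIdeal A).spanFinrank := by
  classical
  let κ := ResidueField A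
  let V := CotangentSpace A
  let π := (maximalIdeal A).toCotangent
  let SP : Set V := π '' {z | (z : A) ∈ P}
  let SQ : Set V := π '' {z | (z : A) ∈ Q}
  obtain ⟨b, hbS, hbspan, hbli⟩ := exists_linearIndependent κ SP
  have hbli' : LinearIndepOn κ id b := hbli
  obtain ⟨b', hb'sub, hbb', hspan', hli'⟩ :=
    exists_linearIndepOn_id_extension hbli' (Set.subset_union_left : b ⊆ b ∪ SQ)
  -- `b'` spans
  have hSP : SP ⊆ Submodule.span κ b' := by
    intro v hv
    have : v ∈ Submodule.span κ b := by rw [hbspan]; exact Submodule.subset_span hv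
    exact Submodule.span_mono hbb' this
  have hSQ : SQ ⊆ Submodule.span κ b' := fun v hv => hspan' (Or.inr hv)
  have htop : Submodule.span κ b' = ⊤ := by
    rw [eq_top_iff]
    rintro v -
    obtain ⟨z, rfl⟩ := (maximalIdeal A).toCotangent_surjective v
    obtain ⟨p, hp, q, hq, hpq⟩ := Submodule.mem_sup.mp (hPQ z.2)
    have hz : z = ⟨p, hP hp⟩ + ⟨q, hQ hq⟩ := Subtype.ext hpq.symm
    rw [hz, map_add]
    exact Submodule.add_mem _ (hSP ⟨⟨p, hP hp⟩, hp, rfl⟩) (hSQ ⟨⟨q, hQ hq⟩, hq, rfl⟩)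
  have hli'' : LinearIndependent κ (fun x : b' => (x : V)) := hli'
  have hfin' : b'.Finite := hli''.setFinite
  have hcard : b'.ncard = (maximalIdeal A).spanFinrank := by
    have B : Module.Basis b' κ V := Module.Basis.mk hli'' (by
      rw [Subtype.range_coe]; exact htop.ge)
    have h1 := Module.finrank_eq_nat_card_basis B
    have h2 : Module.finrank κ V = (maximalIdeal A).spanFinrank := by
      unfold Module.finrank Submodule.spanFinrank
      rw [rank_cotangentSpace_eq_spanrank_maximalIdeal]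
    rw [← h2, h1, Nat.card_coe_set_eq]
  -- lifts
  have hlift : ∀ v : b', ∃ z : maximalIdeal A, π z = v ∧
      ((v : V) ∈ b → (z : A) ∈ P) ∧ ((v : V) ∉ b → (z : A) ∈ Q) := by
    intro v
    by_cases hv : (v : V) ∈ b
    · obtain ⟨z, hz, hzv⟩ := hbS hv
      exact ⟨z, hzv, fun _ => hz, fun h => absurd hv h⟩
    · rcases hb'sub v.2 with h | h
      · exact absurd h hv
      · obtain ⟨z, hz, hzv⟩ := h
        exact ⟨z, hzv, fun h => absurd h hv, fun _ => hz⟩
  choose ℓ hℓπ hℓP hℓQ using hlift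
  let TP : Set A := (fun v : b' => (ℓ v : A)) '' {v | (v : V) ∈ b}
  let TQ : Set A := (fun v : b' => (ℓ v : A)) '' {v | (v : V) ∉ b}
  haveI : Finite b' := hfin'
  have hTPfin : TP.Finite := (Set.toFinite _).image _
  have hTQfin : TQ.Finite := (Set.toFinite _).image _
  refine ⟨TP, TQ, hTPfin, hTQfin, ?_, ?_, ?_, ?_⟩
  · rintro _ ⟨v, hv, rfl⟩
    exact hℓP v hv
  · rintro _ ⟨v, hv, rfl⟩
    exact hℓQ v hv
  · -- Nakayama
    have h1 : Submodule.span κ (π '' Set.range ℓ) = ⊤ := by
      have : π '' Set.range ℓ = b' := by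
        ext v
        constructor
        · rintro ⟨_, ⟨w, rfl⟩, rfl⟩
          rw [hℓπ w]; exact w.2
        · intro hv
          exact ⟨ℓ ⟨v, hv⟩, ⟨_, rfl⟩, hℓπ ⟨v, hv⟩⟩
      rw [this, htop]
    have h2 := CotangentSpace.span_image_eq_top_iff.mp h1
    have h3 : Submodule.map (maximalIdeal A).subtype (Submodule.span A (Set.range ℓ)) =
        maximalIdeal A := by
      rw [h2, Submodule.map_top, Submodule.range_subtype]
    rw [Submodule.map_span] at h3
    rw [← Submodule.span_union, ← h3]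
    apply Submodule.span_mono
    rintro _ ⟨_, ⟨v, rfl⟩, rfl⟩
    by_cases hv : (v : V) ∈ b
    · exact Or.inl ⟨v, hv, rfl⟩
    · exact Or.inr ⟨v, hv, rfl⟩
  · rw [← hcard]
    have h1 : TP.ncard ≤ ({v : b' | (v : V) ∈ b} : Set b').ncard := Set.ncard_image_le
    have h2 : TQ.ncard ≤ ({v : b' | (v : V) ∉ b} : Set b').ncard := Set.ncard_image_le
    have h3 : ({v : b' | (v : V) ∈ b} : Set b').ncard + ({v : b' | (v : V) ∉ b} : Set b').ncard
        = b'.ncard := by
      have := Set.ncard_add_ncard_compl ({v : b' | (v : V) ∈ b} : Set b')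
      rw [Nat.card_coe_set_eq] at this
      exact this
    omega

/-- In a regular local ring, two primes with `P ⊔ Q = m` and `dim A ≤ dim A/P + dim A/Q`
have regular quotients. -/
theorem isRegularLocalRing_quotient_of_sup_eq {A : Type u} [CommRing A] [IsRegularLocalRing A]
    (P Q : Ideal A) [P.IsPrime] [Q.IsPrime] (hPQ : P ⊔ Q = maximalIdeal A) (a dV dW : ℕ)
    (ha : ringKrullDim A = a) (hV : (dV : WithBot ℕ∞) ≤ ringKrullDim (A ⧸ P))
    (hW : (dW : WithBot ℕ∞) ≤ ringKrullDim (A ⧸ Q)) (hsum : a ≤ dV + dW) :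
    IsRegularLocalRing (A ⧸ P) ∧ IsRegularLocalRing (A ⧸ Q) := by
  have hP : P ≤ maximalIdeal A := le_sup_left.trans hPQ.le
  have hQ : Q ≤ maximalIdeal A := le_sup_right.trans hPQ.le
  obtain ⟨TP, TQ, hTPf, hTQf, hTP, hTQ, hm, hcard⟩ :=
    exists_split_generators P Q hP hQ hPQ.ge
  have hspan : (maximalIdeal A).spanFinrank = a :=
    Groth.Agent.Lib.RegularLocal.spanFinrank_maximalIdeal_eq_of_ringKrullDim_eq ha
  set J := Ideal.span TP with hJdef
  set K := Ideal.span TQ with hKdef
  have hJP : J ≤ P := Ideal.span_le.mpr hTP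
  have hKQ : K ≤ Q := Ideal.span_le.mpr hTQ
  have hJl : J.spanFinrank ≤ TP.ncard := Submodule.spanFinrank_span_le_ncard_of_finite hTPf
  have hKk : K.spanFinrank ≤ TQ.ncard := Submodule.spanFinrank_span_le_ncard_of_finite hTQf
  -- `l + k = a`
  have hge : a ≤ TP.ncard + TQ.ncard := by
    have h1 : maximalIdeal A = Ideal.span (TP ∪ TQ) := by
      apply le_antisymm
      · rw [Ideal.span_union]; exact hm
      · rw [Ideal.span_union]; exact sup_le (hJP.trans hP) (hKQ.trans hQ)
    have h2 : (maximalIdeal A).spanFinrank ≤ (TP ∪ TQ).ncard := by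
      conv_lhs => rw [h1]
      exact Submodule.spanFinrank_span_le_ncard_of_finite (hTPf.union hTQf)
    have h3 := Set.ncard_union_le TP TQ
    omega
  have hlk : TP.ncard + TQ.ncard = a := by omega
  obtain ⟨hregJ, hdimJ⟩ := Groth.Agent.Lib.CohenFactor.isRegularLocalRing_quotient_of_span J K
    (hJP.trans hP) (hKQ.trans hQ) hm TP.ncard TQ.ncard hJl hKk (by rw [ha, hlk])
  obtain ⟨hregK, hdimK⟩ := Groth.Agent.Lib.CohenFactor.isRegularLocalRing_quotient_of_span K J
    (hKQ.trans hQ) (hJP.trans hP) (by rw [sup_comm]; exact hm) TQ.ncard TP.ncard hKk hJl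
    (by rw [ha, add_comm, hlk])
  have hdP : ringKrullDim (A ⧸ P) ≤ ringKrullDim (A ⧸ J) :=
    ringKrullDim_le_of_surjective (Ideal.Quotient.factor hJP) (Ideal.Quotient.factor_surjective hJP)
  have hdQ : ringKrullDim (A ⧸ Q) ≤ ringKrullDim (A ⧸ K) :=
    ringKrullDim_le_of_surjective (Ideal.Quotient.factor hKQ) (Ideal.Quotient.factor_surjective hKQ)
  have h1 : dV ≤ TQ.ncard := by
    have := hV.trans (hdP.trans hdimJ.le)
    exact_mod_cast this
  have h2 : dW ≤ TP.ncard := by
    have := hW.trans (hdQ.trans hdimK.le)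
    exact_mod_cast this
  have h3 : dV = TQ.ncard := by omega
  have h4 : dW = TP.ncard := by omega
  -- general step
  have key : ∀ (J' P' : Ideal A) [P'.IsPrime] (hJP' : J' ≤ P') (_ : IsRegularLocalRing (A ⧸ J'))
      (d : ℕ), ringKrullDim (A ⧸ J') = d → (d : WithBot ℕ∞) ≤ ringKrullDim (A ⧸ P') →
      J' = P' := by
    intro J' P' _ hJP' hreg d hd hle
    by_contra hne
    have hnle : ¬ P' ≤ J' := fun h => hne (le_antisymm hJP' h)
    obtain ⟨r, hrP, hrJ⟩ := SetLike.not_le_iff_exists.mp hnle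
    haveI := Groth.Agent.Lib.RegularLocal.isDomain (A ⧸ J')
    have hr0 : (Ideal.Quotient.mk J' r) ≠ 0 := fun h => hrJ (Ideal.Quotient.eq_zero_iff_mem.mp h)
    have := ringKrullDim_succ_le_of_surjective (Ideal.Quotient.factor hJP')
      (Ideal.Quotient.factor_surjective hJP') (r := Ideal.Quotient.mk J' r)
      (mem_nonZeroDivisors_of_ne_zero hr0)
      (by rw [Ideal.Quotient.factor_mk]; exact Ideal.Quotient.eq_zero_iff_mem.mpr hrP)
    rw [hd] at this
    have h5 : ((d : WithBot ℕ∞)) + 1 ≤ d := (add_le_add_left hle 1).trans this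
    have h6 : d + 1 ≤ d := by exact_mod_cast h5
    omega
  have hJeq : J = P := key J P hJP hregJ _ hdimJ (h3 ▸ hV)
  have hKeq : K = Q := key K Q hKQ hregK _ hdimK (h4 ▸ hW)
  exact ⟨hJeq ▸ hregJ, hKeq ▸ hregK⟩

end Groth.Agent.Lib.RegSplit84
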