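import Groth.Agent.Lib.NormHartogs53g
import Groth.Agent.Lib.GFT53

/-!
# Sections of the structure sheaf of a Noetherian domain over `D(J)`: finiteness from `H^1_J` (helper53)
-/

set_option maxHeartbeats 400000
set_option linter.unusedSectionVars false
set_option linter.style.haveILetI false
universe u

namespace Groth.Agent.Lib.NormHartogs53
open Groth.Agent.Lib.LocCohLES

section dom
variable (B : Type u) [CommRing B] [IsDomain B] [IsNoetherianRing B] (J : Ideal B)

theorem subsingleton_H0_fractionRing (hJ : J ≠ ⊥) :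
    Subsingleton (LocCoh.H J 0 (FractionRing B)) := by
  have hinj : Function.Injective (algebraMap B (FractionRing B)) :=
    IsFractionRing.injective B (FractionRing B)
  obtain ⟨e, heI, he0⟩ : ∃ e ∈ J, e ≠ 0 := by
    by_contra hcon
    push Not at hcon
    exact hJ (eq_bot_iff.2 fun e he => by rw [Ideal.mem_bot]; exact hcon e he)
  refine ⟨fun a b => (Groth.Agent.Lib.LocCohH0.gammaEquiv J (FractionRing B)).injective
    (Subtype.ext ?_)⟩
  have key : ∀ y : DRing.torsionSub J (FractionRing B), (y : FractionRing B) = 0 := by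
    rintro ⟨y, m, hm⟩
    have h1 := hm (e ^ m) (Ideal.pow_mem_pow heI m)
    rw [Algebra.smul_def] at h1
    rcases mul_eq_zero.1 h1 with h2 | h2
    · exact absurd ((map_eq_zero_iff _ hinj).1 h2) (pow_ne_zero m he0)
    · exact h2
  rw [key, key]

/-- an element regular on `D(J)` is multiplied into `B` by a power of `J`. -/
theorem exists_pow_mul_mem (x : FractionRing B)
    (hx : x ∈ regSubalgebra B {p | ¬ J ≤ p}) :
    ∃ n : ℕ, ∀ r ∈ J ^ n, ∃ a : B,
      algebraMap B (FractionRing B) a = algebraMap B (FractionRing B) r * x := by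
  let aa : Ideal B :=
    { carrier := {b | ∃ a : B, algebraMap B (FractionRing B) a = algebraMap B (FractionRing B) b * x}
      add_mem' := by
        rintro b₁ b₂ ⟨a₁, h₁⟩ ⟨a₂, h₂⟩
        exact ⟨a₁ + a₂, by rw [map_add, map_add, h₁, h₂, add_mul]⟩
      zero_mem' := ⟨0, by simp⟩
      smul_mem' := by
        rintro c b ⟨a, h⟩
        exact ⟨c * a, by rw [smul_eq_mul, map_mul, map_mul, h, mul_assoc]⟩ }
  have hrad : J ≤ aa.radical := by
    rw [Ideal.radical_eq_sInf]
    refine le_sInf fun p hp => ?_
    obtain ⟨hap, hpp⟩ := hp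
    by_contra hJp
    obtain ⟨s, hs, a, ha⟩ := @hx p hpp hJp
    exact hs (hap ⟨a, ha⟩)
  obtain ⟨n, hn⟩ := Ideal.exists_pow_le_of_le_radical_of_fg hrad (IsNoetherian.noetherian J)
  exact ⟨n, fun r hr => hn hr⟩

theorem finite_regSubalgebra_of_finite_H1 (hJ : J ≠ ⊥) (h1 : Module.Finite B (LocCoh.H J 1 B)) :
    Module.Finite B (regSubalgebra B {p | ¬ J ≤ p}) := by
  have hinj : Function.Injective (algebraMap B (FractionRing B)) :=
    IsFractionRing.injective B (FractionRing B)
  let f : B →ₗ[B] FractionRing B := Algebra.linearMap B (FractionRing B)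
  let g := (LinearMap.range f).mkQ
  have hg : Function.Surjective g := Submodule.mkQ_surjective _
  have hfg : Function.Exact f g := LinearMap.exact_map_mkQ_range f
  haveI := subsingleton_H0_fractionRing B J hJ
  have hδ : Function.Injective (Hδ J f g hinj hfg hg 0) := by
    rw [injective_iff_map_eq_zero]
    intro y hy
    obtain ⟨z, rfl⟩ := (exact₃ J f g hinj hfg hg 0 y).1 hy
    rw [Subsingleton.elim z 0, map_zero]
  haveI : IsNoetherian B (LocCoh.H J 1 B) := isNoetherian_of_isNoetherianRing_of_finite B _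
  haveI hfin0 : Module.Finite B (LocCoh.H J 0 (FractionRing B ⧸ LinearMap.range f)) :=
    Module.Finite.of_injective _ hδ
  haveI hfinΓ : Module.Finite B (DRing.torsionSub J (FractionRing B ⧸ LinearMap.range f)) :=
    Module.Finite.equiv (Groth.Agent.Lib.LocCohH0.gammaEquiv J _)
  -- the maps `B → S → Γ_J(K/B)`
  let S := regSubalgebra B {p | ¬ J ≤ p}
  let ι : B →ₗ[B] S := Algebra.linearMap B S
  let φ : S →ₗ[B] DRing.torsionSub J (FractionRing B ⧸ LinearMap.range f) :=
    LinearMap.codRestrict _ (g.comp S.val.toLinearMap) (fun x => by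
      obtain ⟨n, hn⟩ := exists_pow_mul_mem B J x.1 x.2
      refine ⟨n, fun r hr => ?_⟩
      obtain ⟨a, ha⟩ := hn r hr
      change r • g (x : FractionRing B) = 0
      rw [← map_smul, Algebra.smul_def, ← ha]
      exact (Submodule.Quotient.mk_eq_zero _).2 ⟨a, rfl⟩)
  have hex : Function.Exact ι φ := by
    intro x
    constructor
    · intro hx
      have h0 : g (x : FractionRing B) = 0 := congrArg Subtype.val hx
      obtain ⟨b, hb⟩ := (Submodule.Quotient.mk_eq_zero _).1 h0
      exact ⟨b, Subtype.ext hb⟩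
    · rintro ⟨b, rfl⟩
      refine Subtype.ext ?_
      change g (algebraMap B (FractionRing B) b) = 0
      exact (Submodule.Quotient.mk_eq_zero _).2 ⟨b, rfl⟩
  exact Groth.Agent.Lib.LocCohLocalGlobal.finite_of_exact ι φ hex

end dom

end Groth.Agent.Lib.NormHartogs53
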