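import Groth.Agent.Lib.RegSub53

/-!
# EGA IV 5.11.1: finiteness of `Γ(D(J), O)` for `ht J ≥ 2` over quotients of regular rings and over
universally catenary, universally Japanese rings (helper53)
-/

set_option maxHeartbeats 400000
set_option linter.unusedSectionVars false
set_option linter.style.haveILetI false
universe u

namespace Groth.Agent.Lib.NormHartogs53
open Groth.Agent.Lib.LocCohLES

section reg
variable (R : Type u) [CommRing R] [IsRegularRing R] (B : Type u) [CommRing B] [IsDomain B]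
  [IsNoetherianRing B] (π : R →+* B) (hπ : Function.Surjective π) (J : Ideal B)

theorem eq_bot_of_mem_associatedPrimes_self (p : Ideal B) (hp : p ∈ associatedPrimes B B) :
    p = ⊥ := by
  obtain ⟨hpp, x, hx⟩ := isAssociatedPrime_iff.1 hp
  have hx0 : x ≠ 0 := by
    rintro rfl
    apply hpp.ne_top
    rw [hx, Ideal.eq_top_iff_one, Submodule.mem_colon_singleton, smul_zero]
    exact Submodule.zero_mem _
  rw [eq_bot_iff]
  intro a ha
  rw [hx, Submodule.mem_colon_singleton, Submodule.mem_bot, smul_eq_mul] at ha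
  rw [Ideal.mem_bot]
  exact (mul_eq_zero.1 ha).resolve_right hx0

include hπ in
theorem finite_H1_of_regular (hJ2 : (2 : ℕ∞) ≤ J.height) :
    Module.Finite B (LocCoh.H J 1 B) := by
  refine (Groth.Agent.Lib.GFT53.finite_H_iff_lt_adjDepth R B π hπ J B 1).2 (fun p hp => ?_) 1
    le_rfl
  unfold LocCoh.adjDepth
  by_cases hp0 : p.asIdeal = ⊥
  · have hmk : (Ideal.Quotient.mk p.asIdeal) =
        ((RingEquiv.quotientBot B).symm.trans
          (Ideal.quotEquivOfEq hp0.symm) : B →+* B ⧸ p.asIdeal) :=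
      RingHom.ext fun x => rfl
    have hht : ((J ⊔ p.asIdeal).map (Ideal.Quotient.mk p.asIdeal)).height = J.height := by
      rw [hp0, sup_bot_eq, ← hp0, hmk]
      exact RingEquiv.height_map _ J
    rw [hht]
    refine lt_of_lt_of_le ?_ (le_add_self)
    refine lt_of_lt_of_le ?_ hJ2
    exact_mod_cast (by norm_num : (1 : ℕ) < 2)
  · have hd : (1 : ℕ∞) ≤ LocCoh.depth (Localization.AtPrime p.asIdeal)
        (LocalizedModule p.asIdeal.primeCompl B) := by
      by_contra hcon
      exact hp0 (eq_bot_of_mem_associatedPrimes_self B p.asIdeal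
        ((Groth.Agent.Lib.ZClosed58.mem_associatedPrimes_iff_not_one_le_depth B B p).2 hcon))
    have hh : (1 : ℕ∞) ≤ ((J ⊔ p.asIdeal).map (Ideal.Quotient.mk p.asIdeal)).height := by
      rw [ENat.one_le_iff_ne_zero, Ne, Ideal.height_eq_zero_iff_eq_bot,
        Ideal.map_eq_bot_iff_le_ker, Ideal.mk_ker]
      exact fun h => hp (le_sup_left.trans h)
    refine lt_of_lt_of_le ?_ (add_le_add hd hh)
    exact_mod_cast (by norm_num : (1 : ℕ) < 1 + 1)

end reg

section main
variable (A : Type u) [CommRing A] [IsNoetherianRing A]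

/-- **EGA IV 5.11.1**. -/
theorem finite_sections_of_height_two
    (hA : (∃ (R : Type u) (_ : CommRing R), IsNoetherianRing R ∧ IsRegularRing R ∧
        ∃ f : R →+* A, Function.Surjective f) ∨
      (CAlg.IsUniversallyCatenary A ∧ CAlg.IsUniversallyJapanese A))
    (q : Ideal A) [q.IsPrime] (J : Ideal (A ⧸ q)) (hJ2 : (2 : ℕ∞) ≤ J.height) :
    Module.Finite (A ⧸ q) (regSubalgebra (A ⧸ q) {p | ¬ J ≤ p}) := by
  rcases hA with ⟨R, _, _, hreg, f, hf⟩ | ⟨hUC, hUJ⟩
  · haveI := hreg
    have hJ0 : J ≠ ⊥ := by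
      rintro rfl
      rw [Ideal.height_bot] at hJ2
      exact absurd hJ2 (by decide)
    exact finite_regSubalgebra_of_finite_H1 (A ⧸ q) J hJ0
      (finite_H1_of_regular R (A ⧸ q) ((Ideal.Quotient.mk q).comp f)
        (Ideal.Quotient.mk_surjective.comp hf) J hJ2)
  · refine finite_regSubalgebra (A ⧸ q) (Groth.Agent.S9684.uc_quotient hUC q)
      (n1_of_n2 _ (hUJ (A ⧸ q) ?_)) _ (fun p hp _ hnp => ?_)
    · exact Algebra.FiniteType.of_surjective (Ideal.Quotient.mkₐ A q) Ideal.Quotient.mk_surjective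
    · exact hJ2.trans (Ideal.height_mono (not_not.1 hnp))

end main

end Groth.Agent.Lib.NormHartogs53
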