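import Mathlib

/-
Lib/RegularCentralizer (helper75): regular (= nonderogatory) matrices.
* `exists_end_ones`, `isCoprime_of_faithful`, `exists_smul_ones`: over a PID, in `Π i, R ⧸ (p i ^ e i)`
  the all-ones vector generates iff no nonzero endomorphism kills it (CRT).
* `exists_cyclic_vector`: over a field, `finrank (centralizer {g}) = n` implies `g` has a cyclic vector.
* `exists_aeval_eq_of_cyclic`, `commute_of_cyclic`: with a cyclic vector, the commutant of `g` is `R[g]`.
* `exists_cyclic_of_residue`: cyclic vectors lift from the residue field of a local ring (Nakayama).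
* `commute_of_fiberwise_regular`: fiberwise regular `g` over `A` has commutative commutant in `M_n(B)`.
-/

set_option autoImplicit false
universe u v
open Polynomial

namespace Groth.Agent.Lib.RegularCentralizer

section PID
variable {R : Type u} [CommRing R] [IsDomain R] [IsPrincipalIdealRing R]
variable {ι : Type v} [Fintype ι] (p : ι → R) (e : ι → ℕ)

/-- The all-ones vector in `Π i, R ⧸ (p i ^ e i)`. -/
noncomputable def ones : (i : ι) → R ⧸ Ideal.span {p i ^ e i} := fun _ => 1

/-- B1: every vector is the image of the ones vector under a diagonal endomorphism. -/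
theorem exists_end_ones (m : (i : ι) → R ⧸ Ideal.span {p i ^ e i}) :
    ∃ f : ((i : ι) → R ⧸ Ideal.span {p i ^ e i}) →ₗ[R] ((i : ι) → R ⧸ Ideal.span {p i ^ e i}),
      f (ones p e) = m := by
  classical
  choose r hr using fun i => Ideal.Quotient.mk_surjective (m i)
  refine ⟨LinearMap.pi (fun i => r i • LinearMap.proj i), ?_⟩
  funext i
  simp only [LinearMap.pi_apply, LinearMap.smul_apply, LinearMap.proj_apply, ones]
  rw [← hr i, Algebra.smul_def, mul_one]
  rfl

theorem isCoprime_of_faithful [DecidableEq ι] (hp : ∀ i, Irreducible (p i))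
    (h : ∀ f : ((i : ι) → R ⧸ Ideal.span {p i ^ e i}) →ₗ[R] ((i : ι) → R ⧸ Ideal.span {p i ^ e i}),
      f (ones p e) = 0 → f = 0) (i j : ι) (hij : i ≠ j) :
    IsCoprime (p i ^ e i) (p j ^ e j) := by
  by_contra hnc
  have hei : e i ≠ 0 := by
    intro h0; apply hnc; rw [h0, pow_zero]; exact isCoprime_one_left
  have hej : e j ≠ 0 := by
    intro h0; apply hnc; rw [h0, pow_zero]; exact isCoprime_one_right
  have hnc' : ¬ IsCoprime (p i) (p j) := fun hc => hnc (hc.pow)
  have hdvd : p i ∣ p j := by
    by_contra hnd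
    exact hnc' ((hp i).coprime_iff_not_dvd.mpr hnd)
  have hdvd' : p j ∣ p i := (hp i).dvd_symm (hp j) hdvd
  set t : R := p j ^ (e j - 1) with ht
  have hpj : p j ^ e j = t * p j := by
    rw [ht, ← pow_succ]; congr 1; omega
  have hpi : p i ^ e i = p i ^ (e i - 1) * p i := by
    rw [← pow_succ]; congr 1; omega
  have hle : Ideal.span {p i ^ e i} ≤
      Submodule.comap (t • (LinearMap.id : R →ₗ[R] R)) (Ideal.span {p j ^ e j}) := by
    intro a ha
    rw [Ideal.mem_span_singleton] at ha
    obtain ⟨c, rfl⟩ := ha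
    obtain ⟨d, hd⟩ := hdvd'
    simp only [Submodule.mem_comap, LinearMap.smul_apply, LinearMap.id_coe, id_eq, smul_eq_mul]
    have key : p i ^ e i = p i ^ (e i - 1) * (p j * d) := by rw [← hd]; exact hpi
    rw [Ideal.mem_span_singleton, hpj, key]
    exact ⟨p i ^ (e i - 1) * d * c, by ring⟩
  let hmap : (R ⧸ Ideal.span {p i ^ e i}) →ₗ[R] (R ⧸ Ideal.span {p j ^ e j}) :=
    Submodule.mapQ _ _ (t • (LinearMap.id : R →ₗ[R] R)) hle
  have hmap1 : hmap 1 = Ideal.Quotient.mk _ t := by
    change hmap (Submodule.Quotient.mk 1) = _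
    rw [Submodule.mapQ_apply]
    simp
  let f : ((i : ι) → R ⧸ Ideal.span {p i ^ e i}) →ₗ[R] ((i : ι) → R ⧸ Ideal.span {p i ^ e i}) :=
    (LinearMap.single R (fun i => R ⧸ Ideal.span {p i ^ e i}) j) ∘ₗ
      (hmap ∘ₗ LinearMap.proj i - t • LinearMap.proj j)
  have hf1 : f (ones p e) = 0 := by
    simp only [f, LinearMap.comp_apply, LinearMap.sub_apply, LinearMap.smul_apply,
      LinearMap.proj_apply, ones]
    rw [hmap1, Algebra.smul_def, mul_one]
    simp
  have hf0 := h f hf1
  have hne : f (Pi.single i 1) ≠ 0 := by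
    simp only [f, LinearMap.comp_apply, LinearMap.sub_apply, LinearMap.smul_apply,
      LinearMap.proj_apply, Pi.single_eq_same, Pi.single_eq_of_ne hij.symm, smul_zero, sub_zero]
    rw [hmap1]
    intro h0
    have h1 := congrFun h0 j
    simp only [LinearMap.coe_single, Pi.single_eq_same, Pi.zero_apply] at h1
    rw [Ideal.Quotient.eq_zero_iff_mem, Ideal.mem_span_singleton, hpj] at h1
    obtain ⟨c, hc⟩ := h1
    have ht0 : t ≠ 0 := pow_ne_zero _ (hp j).ne_zero
    have : p j * c = 1 := by
      apply mul_left_cancel₀ ht0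
      rw [mul_one, ← mul_assoc, ← hc]
    exact (hp j).not_isUnit (IsUnit.of_mul_eq_one _ this)
  exact hne (by rw [hf0]; rfl)

theorem exists_smul_ones (hp : ∀ i, Irreducible (p i))
    (h : ∀ f : ((i : ι) → R ⧸ Ideal.span {p i ^ e i}) →ₗ[R] ((i : ι) → R ⧸ Ideal.span {p i ^ e i}),
      f (ones p e) = 0 → f = 0) (m : (i : ι) → R ⧸ Ideal.span {p i ^ e i}) :
    ∃ r : R, r • ones p e = m := by
  classical
  have hcop : Pairwise (Function.onFun IsCoprime fun i => Ideal.span {p i ^ e i}) := by
    intro i j hij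
    exact (Ideal.isCoprime_span_singleton_iff _ _).mpr (isCoprime_of_faithful p e hp h i j hij)
  choose r hr using fun i => Ideal.Quotient.mk_surjective (m i)
  obtain ⟨s, hs⟩ := Ideal.exists_forall_sub_mem_ideal hcop r
  refine ⟨s, ?_⟩
  funext i
  simp only [Pi.smul_apply, ones]
  rw [← hr i, Algebra.smul_def, mul_one]
  exact Ideal.Quotient.eq.mpr (hs i)

end PID

section Field
variable {K : Type u} [Field K] {n : ℕ}

open Module in
theorem exists_cyclic_vector (g : Matrix (Fin n) (Fin n) K)
    (hreg : Module.finrank K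
      (Subalgebra.centralizer K ({g} : Set (Matrix (Fin n) (Fin n) K))) = n) :
    ∃ v₀ : Fin n → K, ∀ w : Fin n → K, ∃ q : K[X], (aeval g q).mulVec v₀ = w := by
  classical
  set φ : (Fin n → K) →ₗ[K] (Fin n → K) := Matrix.toLin' g with hφ
  have tors : Module.IsTorsion K[X] (AEval' φ) :=
    Module.AEval.isTorsion_of_finiteDimensional K (Fin n → K) φ
  obtain ⟨ι, _, p, hp, e, ⟨Ψ⟩⟩ := Module.equiv_directSum_of_isTorsion tors
  let Φ : AEval' φ ≃ₗ[K[X]] ((i : ι) → K[X] ⧸ Ideal.span {p i ^ e i}) :=
    Ψ.trans (DirectSum.linearEquivFunOnFintype K[X] ι _)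
  set m₀ : AEval' φ := Φ.symm (ones p e) with hm₀
  -- the matrix attached to a `K[X]`-endomorphism
  let cm : (AEval' φ →ₗ[K[X]] AEval' φ) → Matrix (Fin n) (Fin n) K := fun f =>
    LinearMap.toMatrix' ((AEval'.of φ).symm.toLinearMap ∘ₗ (f.restrictScalars K) ∘ₗ
      (AEval'.of φ).toLinearMap)
  have cm_mulVec : ∀ f v, (cm f).mulVec v = (AEval'.of φ).symm (f (AEval'.of φ v)) := by
    intro f v
    rw [← Matrix.toLin'_apply]
    simp only [cm, Matrix.toLin'_toMatrix']
    rfl
  have cm_comm : ∀ f, cm f ∈ Subalgebra.centralizer K ({g} : Set (Matrix (Fin n) (Fin n) K)) := by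
    intro f
    rw [Subalgebra.mem_centralizer_iff]
    intro x hx
    rw [Set.mem_singleton_iff] at hx
    subst hx
    apply Matrix.toLin'.injective
    apply LinearMap.ext
    intro v
    rw [Matrix.toLin'_mul, Matrix.toLin'_mul]
    simp only [LinearMap.comp_apply, Matrix.toLin'_apply]
    have h1 : ∀ w, x.mulVec w = φ w := fun w => (Matrix.toLin'_apply x w).symm
    rw [cm_mulVec, cm_mulVec, h1, h1, ← AEval'.of_symm_X_smul, ← AEval'.X_smul_of, f.map_smul]
  -- conjugating endomorphisms of the product to endomorphisms of `AEval' φ`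
  let conj : (((i : ι) → K[X] ⧸ Ideal.span {p i ^ e i}) →ₗ[K[X]]
      ((i : ι) → K[X] ⧸ Ideal.span {p i ^ e i})) → (AEval' φ →ₗ[K[X]] AEval' φ) := fun f' =>
    Φ.symm.toLinearMap ∘ₗ f' ∘ₗ Φ.toLinearMap
  have conj_m₀ : ∀ f', conj f' m₀ = Φ.symm (f' (ones p e)) := by
    intro f'
    simp only [conj, LinearMap.comp_apply, LinearEquiv.coe_coe, hm₀, LinearEquiv.apply_symm_apply]
  set v₀ : Fin n → K := (AEval'.of φ).symm m₀ with hv₀
  -- evaluation at `v₀` on the centralizer
  let ev : Subalgebra.centralizer K ({g} : Set (Matrix (Fin n) (Fin n) K)) →ₗ[K] (Fin n → K) :=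
    (LinearMap.applyₗ v₀) ∘ₗ (Matrix.toLin' : Matrix (Fin n) (Fin n) K ≃ₗ[K] _).toLinearMap ∘ₗ
      (Subalgebra.centralizer K ({g} : Set (Matrix (Fin n) (Fin n) K))).val.toLinearMap
  have ev_apply : ∀ c, ev c = c.1.mulVec v₀ := by
    intro c
    simp only [ev, LinearMap.comp_apply, LinearMap.applyₗ_apply_apply]
    rfl
  have ev_surj : Function.Surjective ev := by
    intro w
    obtain ⟨f', hf'⟩ := exists_end_ones p e (Φ (AEval'.of φ w))
    refine ⟨⟨cm (conj f'), cm_comm _⟩, ?_⟩
    rw [ev_apply, cm_mulVec, hv₀, LinearEquiv.apply_symm_apply, conj_m₀, hf',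
      LinearEquiv.symm_apply_apply, LinearEquiv.symm_apply_apply]
  have ev_inj : Function.Injective ev := by
    have hfr : Module.finrank K
        (Subalgebra.centralizer K ({g} : Set (Matrix (Fin n) (Fin n) K))) =
        Module.finrank K (Fin n → K) := by rw [hreg, Module.finrank_fin_fun]
    exact (LinearMap.injective_iff_surjective_of_finrank_eq_finrank hfr).mpr ev_surj
  have faithful : ∀ f' : ((i : ι) → K[X] ⧸ Ideal.span {p i ^ e i}) →ₗ[K[X]]
      ((i : ι) → K[X] ⧸ Ideal.span {p i ^ e i}), f' (ones p e) = 0 → f' = 0 := by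
    intro f' hf'
    have h0 : (⟨cm (conj f'), cm_comm _⟩ :
        Subalgebra.centralizer K ({g} : Set (Matrix (Fin n) (Fin n) K))) = 0 := by
      apply ev_inj
      rw [ev_apply, map_zero, cm_mulVec, hv₀, LinearEquiv.apply_symm_apply, conj_m₀, hf',
        map_zero, map_zero]
    have h1 : cm (conj f') = 0 := congrArg Subtype.val h0
    apply LinearMap.ext
    intro m
    have h2 : (cm (conj f')).mulVec ((AEval'.of φ).symm (Φ.symm m)) = 0 := by
      rw [h1, Matrix.zero_mulVec]
    rw [cm_mulVec, LinearEquiv.apply_symm_apply] at h2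
    have h3 : conj f' (Φ.symm m) = 0 := by
      have := congrArg (AEval'.of φ) h2
      rwa [LinearEquiv.apply_symm_apply, map_zero] at this
    simp only [conj, LinearMap.comp_apply, LinearEquiv.coe_coe, LinearEquiv.apply_symm_apply] at h3
    have := congrArg Φ h3
    rwa [LinearEquiv.apply_symm_apply, map_zero] at this
  refine ⟨v₀, fun w => ?_⟩
  obtain ⟨r, hr⟩ := exists_smul_ones p e hp faithful (Φ (AEval'.of φ w))
  refine ⟨r, ?_⟩
  have h4 : r • m₀ = AEval'.of φ w := by
    rw [hm₀, ← map_smul, hr, LinearEquiv.symm_apply_apply]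
  have h5 : r • AEval'.of φ v₀ = AEval'.of φ w := by
    rw [hv₀, LinearEquiv.apply_symm_apply]; exact h4
  rw [← Module.AEval.of_aeval_smul] at h5
  have h6 := (AEval'.of φ).injective h5
  rw [← h6, hφ]
  have h7 : aeval (Matrix.toLin' g) r = Matrix.toLin' (aeval g r) :=
    (Polynomial.aeval_algHom_apply (Matrix.toLinAlgEquiv' : _ ≃ₐ[K] _).toAlgHom g r)
  rw [h7]
  exact (Matrix.toLin'_apply _ _).symm

end Field

section Cyclic
variable {R : Type u} [CommRing R] {n : ℕ}

/-- If `g` has a cyclic vector, then everything commuting with `g` is a polynomial in `g`. -/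
theorem exists_aeval_eq_of_cyclic (g : Matrix (Fin n) (Fin n) R) (v : Fin n → R)
    (hv : ∀ w : Fin n → R, ∃ q : R[X], (aeval g q).mulVec v = w)
    (x : Matrix (Fin n) (Fin n) R) (hx : x * g = g * x) :
    ∃ q : R[X], x = aeval g q := by
  obtain ⟨q, hq⟩ := hv (x.mulVec v)
  refine ⟨q, ?_⟩
  have hcomm : ∀ r : R[X], x * aeval g r = aeval g r * x := by
    intro r
    have h1 : Commute x g := hx
    exact (Algebra.commute_of_mem_adjoin_singleton_of_commute (R := R)
      (Polynomial.aeval_mem_adjoin_singleton R g) h1).eq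
  apply Matrix.toLin'.injective
  apply LinearMap.ext
  intro w
  obtain ⟨r, hr⟩ := hv w
  rw [Matrix.toLin'_apply, Matrix.toLin'_apply, ← hr, Matrix.mulVec_mulVec, hcomm,
    ← Matrix.mulVec_mulVec, ← hq, Matrix.mulVec_mulVec, Matrix.mulVec_mulVec]
  congr 1
  exact (Polynomial.aeval_mul (R := R) g).symm.trans
    ((congrArg _ (mul_comm r q)).trans (Polynomial.aeval_mul g))

theorem commute_of_cyclic (g : Matrix (Fin n) (Fin n) R) (v : Fin n → R)
    (hv : ∀ w : Fin n → R, ∃ q : R[X], (aeval g q).mulVec v = w)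
    (x z : Matrix (Fin n) (Fin n) R) (hx : x * g = g * x) (hz : z * g = g * z) :
    x * z = z * x := by
  obtain ⟨q, rfl⟩ := exists_aeval_eq_of_cyclic g v hv x hx
  obtain ⟨r, rfl⟩ := exists_aeval_eq_of_cyclic g v hv z hz
  rw [← Polynomial.aeval_mul, ← Polynomial.aeval_mul, mul_comm]

end Cyclic

section Local
variable {R : Type u} [CommRing R] [IsLocalRing R] {n : ℕ}

open IsLocalRing in
/-- A cyclic vector over the residue field lifts to a cyclic vector over the local ring. -/
theorem exists_cyclic_of_residue (g : Matrix (Fin n) (Fin n) R)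
    (h : ∃ v₀ : Fin n → ResidueField R, ∀ w : Fin n → ResidueField R,
      ∃ q : (ResidueField R)[X],
        (aeval (g.map (algebraMap R (ResidueField R))) q).mulVec v₀ = w) :
    ∃ v : Fin n → R, ∀ w : Fin n → R, ∃ q : R[X], (aeval g q).mulVec v = w := by
  classical
  obtain ⟨v₀, hv₀⟩ := h
  have hsurj : Function.Surjective (algebraMap R (ResidueField R)) :=
    IsLocalRing.residue_surjective
  choose v hv using fun i => hsurj (v₀ i)
  refine ⟨v, ?_⟩
  -- the orbit map
  let L : R[X] →ₗ[R] (Fin n → R) :=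
    (LinearMap.applyₗ v) ∘ₗ (Matrix.toLin' : Matrix (Fin n) (Fin n) R ≃ₗ[R] _).toLinearMap ∘ₗ
      (aeval g).toLinearMap
  have L_apply : ∀ q, L q = (aeval g q).mulVec v := by
    intro q
    simp only [L, LinearMap.comp_apply, LinearMap.applyₗ_apply_apply]
    rfl
  -- compatibility with reduction
  have hred : ∀ (q : R[X]) (i : Fin n), algebraMap R (ResidueField R) ((aeval g q).mulVec v i) =
      (aeval (g.map (algebraMap R (ResidueField R))) (q.map (algebraMap R (ResidueField R)))).mulVec
        v₀ i := by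
    intro q i
    rw [RingHom.map_mulVec]
    have h1 : (aeval g q).map (algebraMap R (ResidueField R)) =
        aeval (g.map (algebraMap R (ResidueField R))) (q.map (algebraMap R (ResidueField R))) := by
      rw [Polynomial.aeval_map_algebraMap]
      exact (Polynomial.aeval_algHom_apply
        ((IsScalarTower.toAlgHom R R (ResidueField R)).mapMatrix (m := Fin n)) g q).symm
    rw [h1]
    congr 1
    funext j
    exact hv j
  have htop : (⊤ : Submodule R (Fin n → R)) ≤ LinearMap.range L := by
    apply Submodule.le_of_le_smul_of_le_jacobson_bot (I := maximalIdeal R) Module.Finite.fg_top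
      (maximalIdeal_le_jacobson _)
    intro w _
    obtain ⟨q₀, hq₀⟩ := hv₀ (fun i => algebraMap R (ResidueField R) (w i))
    obtain ⟨q, rfl⟩ := Polynomial.map_surjective _ hsurj q₀
    have hmem : ∀ i, (w - L q) i ∈ maximalIdeal R := by
      intro i
      rw [← IsLocalRing.residue_eq_zero_iff, ← IsLocalRing.ResidueField.algebraMap_eq,
        Pi.sub_apply, map_sub, L_apply, hred, hq₀]
      exact sub_self _
    have hdecomp : w - L q = ∑ i, (w - L q) i • (Pi.single i (1 : R) : Fin n → R) := by
      funext j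
      simp [Finset.sum_apply, Pi.single_apply]
    have h2 : w - L q ∈ maximalIdeal R • (⊤ : Submodule R (Fin n → R)) := by
      rw [hdecomp]
      exact Submodule.sum_mem _ fun i _ => Submodule.smul_mem_smul (hmem i) Submodule.mem_top
    have : w = L q + (w - L q) := by abel
    rw [this]
    exact Submodule.add_mem_sup (LinearMap.mem_range_self L q) h2
  intro w
  obtain ⟨q, hq⟩ := htop (Submodule.mem_top : w ∈ ⊤)
  exact ⟨q, by rw [← L_apply, hq]⟩

end Local

section Global

/-- Fiberwise regular matrices have commutative centralizer over every base. -/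
theorem commute_of_fiberwise_regular (A : Type u) [CommRing A] (n : ℕ)
    (g : Matrix (Fin n) (Fin n) A)
    (hreg : ∀ (K : Type u) [Field K] (φ : A →+* K),
      Module.finrank K (Subalgebra.centralizer K ({g.map φ} : Set (Matrix (Fin n) (Fin n) K))) = n)
    (B : Type u) [CommRing B] [Algebra A B] (x z : Matrix (Fin n) (Fin n) B)
    (hx : x * g.map (algebraMap A B) = g.map (algebraMap A B) * x)
    (hz : z * g.map (algebraMap A B) = g.map (algebraMap A B) * z) :
    x * z = z * x := by
  rw [← sub_eq_zero]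
  ext i j
  apply eq_zero_of_localization
  intro J hJ
  set f : B →+* Localization.AtPrime J := algebraMap B (Localization.AtPrime J) with hf
  have hkey : x.map f * z.map f = z.map f * x.map f := by
    set gR : Matrix (Fin n) (Fin n) (Localization.AtPrime J) := (g.map (algebraMap A B)).map f
      with hgR
    have hxR : x.map f * gR = gR * x.map f := by
      rw [hgR, ← Matrix.map_mul, hx, Matrix.map_mul]
    have hzR : z.map f * gR = gR * z.map f := by
      rw [hgR, ← Matrix.map_mul, hz, Matrix.map_mul]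
    obtain ⟨v, hv⟩ := exists_cyclic_of_residue gR (by
      have h1 := hreg (IsLocalRing.ResidueField (Localization.AtPrime J))
        ((algebraMap (Localization.AtPrime J) (IsLocalRing.ResidueField (Localization.AtPrime J))).comp
          (f.comp (algebraMap A B)))
      have h2 : g.map ((algebraMap (Localization.AtPrime J)
          (IsLocalRing.ResidueField (Localization.AtPrime J))).comp (f.comp (algebraMap A B))) =
          gR.map (algebraMap (Localization.AtPrime J)
            (IsLocalRing.ResidueField (Localization.AtPrime J))) := by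
        rw [hgR, Matrix.map_map, Matrix.map_map]
        rfl
      rw [h2] at h1
      exact exists_cyclic_vector _ h1)
    exact commute_of_cyclic gR v hv _ _ hxR hzR
  have : f ((x * z - z * x) i j) = (x.map f * z.map f - z.map f * x.map f) i j := by
    rw [← Matrix.map_mul, ← Matrix.map_mul, Matrix.sub_apply, Matrix.sub_apply, map_sub,
      Matrix.map_apply, Matrix.map_apply]
  rw [this, hkey, sub_self, Matrix.zero_apply]

end Global

end Groth.Agent.Lib.RegularCentralizer
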