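import Groth.Agent.Lib.RegularCentralizer

/-
Lib/RegularFlat (helper75): flatness of the commutant scheme of a fiberwise regular matrix.
* `krylov g v`: matrix with columns `g^k v`; `isUnit_krylov`: invertible when `v` is cyclic.
* `coeff_sum`, `eq_sum_of_commute`: with the Krylov matrix invertible, everything commuting with `g`
  is `∑ c_k g^k` with explicit linear coefficients.
* `genPoly g = ∑ t_k g^k`; `bijective_of_generic`: abstract criterion for `Q' ≅ R[t_0..t_{n-1}]`.
* `commIdeal A n g`: ideal of entries of `X g - g X` in `A[x_ij]`;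
  `flat_quotient_of_regular`, `flat_away_of_regular`: the quotient (and any `Localization.Away` of it)
  is flat over `A` when `g` is fiberwise regular.
-/

set_option autoImplicit false
universe u v
open Polynomial

namespace Groth.Agent.Lib.RegularFlat

section Krylov
variable {R : Type u} [CommRing R] {n : ℕ}

/-- Krylov matrix with columns `g ^ k *ᵥ v`, `k < n`. -/
def krylov (g : Matrix (Fin n) (Fin n) R) (v : Fin n → R) : Matrix (Fin n) (Fin n) R :=
  Matrix.of fun i k => ((g ^ (k : ℕ)).mulVec v) i

theorem krylov_mulVec (g : Matrix (Fin n) (Fin n) R) (v : Fin n → R) (b : Fin n → R) :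
    (krylov g v).mulVec b = (∑ k, b k • g ^ (k : ℕ)).mulVec v := by
  rw [Matrix.sum_mulVec]
  funext i
  simp only [krylov, Matrix.mulVec, dotProduct, Matrix.of_apply, Finset.sum_apply, Matrix.smul_apply,
    smul_eq_mul]
  apply Finset.sum_congr rfl
  intro k _
  rw [Finset.sum_mul]
  apply Finset.sum_congr rfl
  intro j _
  ring

theorem mul_krylov (x g : Matrix (Fin n) (Fin n) R) (v : Fin n → R) :
    x * krylov g v = Matrix.of fun i (k : Fin n) => (x.mulVec ((g ^ (k : ℕ)).mulVec v)) i := by
  ext i k
  simp only [krylov, Matrix.mul_apply, Matrix.of_apply, Matrix.mulVec, dotProduct]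

theorem krylov_map {B : Type v} [CommRing B] (ψ : R →+* B) (g : Matrix (Fin n) (Fin n) R)
    (v : Fin n → R) : (krylov g v).map ψ = krylov (g.map ψ) (ψ ∘ v) := by
  ext i k
  simp only [krylov, Matrix.map_apply, Matrix.of_apply]
  rw [RingHom.map_mulVec, Matrix.map_pow]

theorem isUnit_krylov (g : Matrix (Fin n) (Fin n) R) (v : Fin n → R)
    (hv : ∀ w : Fin n → R, ∃ q : R[X], (aeval g q).mulVec v = w) : IsUnit (krylov g v) := by
  rw [← Matrix.mulVec_surjective_iff_isUnit]
  intro w
  rcases subsingleton_or_nontrivial R with hsub | hnt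
  · exact ⟨0, Subsingleton.elim _ _⟩
  obtain ⟨q, hq⟩ := hv w
  have hmonic : g.charpoly.Monic := Matrix.charpoly_monic g
  set r := q %ₘ g.charpoly with hr
  have hdeg : r.natDegree < n ∨ n = 0 := by
    rcases Nat.eq_zero_or_pos n with h0 | hpos
    · exact Or.inr h0
    · left
      have h1 : g.charpoly.natDegree = n := by
        rw [Matrix.charpoly_natDegree_eq_dim, Fintype.card_fin]
      have hne1 : g.charpoly ≠ 1 := by
        intro h; rw [h, natDegree_one] at h1; omega
      have := Polynomial.natDegree_modByMonic_lt q hmonic hne1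
      rwa [h1] at this
  rcases hdeg with hdeg | h0
  · have hqr : aeval g q = aeval g r := by
      have := Polynomial.modByMonic_add_div q g.charpoly
      conv_lhs => rw [← this]
      rw [map_add, map_mul, Matrix.aeval_self_charpoly, zero_mul, add_zero]
    refine ⟨fun k => r.coeff k, ?_⟩
    rw [krylov_mulVec, ← hq, hqr, Polynomial.aeval_eq_sum_range' hdeg, Finset.sum_range]
  · subst h0
    exact ⟨0, Subsingleton.elim _ _⟩

end Krylov

section Core
variable {n : ℕ}

theorem coeff_sum {B : Type v} [CommRing B] (g' : Matrix (Fin n) (Fin n) B) (v' : Fin n → B)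
    (W' : Matrix (Fin n) (Fin n) B) (hWV : W' * krylov g' v' = 1) (b : Fin n → B) :
    W'.mulVec ((∑ k, b k • g' ^ (k : ℕ)).mulVec v') = b := by
  rw [← krylov_mulVec, Matrix.mulVec_mulVec, hWV, Matrix.one_mulVec]

theorem eq_sum_of_commute {B : Type v} [CommRing B] (g' : Matrix (Fin n) (Fin n) B) (v' : Fin n → B)
    (W' : Matrix (Fin n) (Fin n) B) (hVW : krylov g' v' * W' = 1)
    (x : Matrix (Fin n) (Fin n) B) (hx : x * g' = g' * x) :
    x = ∑ k, (W'.mulVec (x.mulVec v')) k • g' ^ (k : ℕ) := by
  set c := W'.mulVec (x.mulVec v') with hc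
  set p := ∑ k, c k • g' ^ (k : ℕ) with hp
  have hpv : p.mulVec v' = x.mulVec v' := by
    rw [hp, ← krylov_mulVec, hc, Matrix.mulVec_mulVec, hVW, Matrix.one_mulVec]
  have hpc : Commute p g' := by
    rw [hp]
    apply Commute.sum_left
    intro k _
    exact ((Commute.refl g').pow_left _).smul_left _
  have hxc : Commute x g' := hx
  have hdc : Commute (x - p) g' := hxc.sub_left hpc
  have hdv : (x - p).mulVec v' = 0 := by
    rw [Matrix.sub_mulVec, hpv, sub_self]
  have hdK : (x - p) * krylov g' v' = 0 := by
    rw [mul_krylov]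
    ext i k
    simp only [Matrix.of_apply, Matrix.zero_apply]
    rw [Matrix.mulVec_mulVec, (hdc.pow_right _).eq, ← Matrix.mulVec_mulVec, hdv, Matrix.mulVec_zero]
    rfl
  have : x - p = 0 := by
    calc x - p = (x - p) * (krylov g' v' * W') := by rw [hVW, mul_one]
      _ = 0 := by rw [← mul_assoc, hdK, zero_mul]
  exact sub_eq_zero.mp this

/-- The generic polynomial `∑ t_k g^k` in `g`. -/
noncomputable def genPoly {R : Type u} [CommRing R] (g : Matrix (Fin n) (Fin n) R) :
    Matrix (Fin n) (Fin n) (MvPolynomial (Fin n) R) :=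
  ∑ k : Fin n, (MvPolynomial.X k : MvPolynomial (Fin n) R) • (g.map MvPolynomial.C) ^ (k : ℕ)

theorem genPoly_comm {R : Type u} [CommRing R] (g : Matrix (Fin n) (Fin n) R) :
    genPoly g * g.map MvPolynomial.C = g.map MvPolynomial.C * genPoly g := by
  have : Commute (genPoly g) (g.map MvPolynomial.C) := by
    unfold genPoly
    apply Commute.sum_left
    intro k _
    exact ((Commute.refl _).pow_left _).smul_left _
  exact this.eq

end Core

section Bij
variable {R : Type u} [CommRing R] {n : ℕ}

theorem bijective_of_generic (g : Matrix (Fin n) (Fin n) R) (v : Fin n → R)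
    (W : Matrix (Fin n) (Fin n) R) (hWV : W * krylov g v = 1) (hVW : krylov g v * W = 1)
    (Q' : Type v) [CommRing Q'] [Algebra R Q'] (x : Matrix (Fin n) (Fin n) Q')
    (hx : x * g.map (algebraMap R Q') = g.map (algebraMap R Q') * x)
    (α' : Q' →+* MvPolynomial (Fin n) R)
    (hα : ∀ r, α' (algebraMap R Q' r) = MvPolynomial.C r)
    (hαx : x.map α' = genPoly g)
    (hgen : ∀ f₁ f₂ : Q' →+* Q', (∀ r, f₁ (algebraMap R Q' r) = f₂ (algebraMap R Q' r)) →
      (∀ i j, f₁ (x i j) = f₂ (x i j)) → f₁ = f₂) :
    Function.Bijective α' := by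
  set c : Fin n → Q' := (W.map (algebraMap R Q')).mulVec (x.mulVec (algebraMap R Q' ∘ v)) with hc
  let β : MvPolynomial (Fin n) R →ₐ[R] Q' := MvPolynomial.aeval c
  have hβC : ∀ r, β (MvPolynomial.C r) = algebraMap R Q' r := fun r => by
    simp only [β, MvPolynomial.aeval_C]
  have hβX : ∀ k, β (MvPolynomial.X k) = c k := fun k => by
    simp only [β, MvPolynomial.aeval_X]
  have hαalg : (fun r => α' (algebraMap R Q' r)) = (MvPolynomial.C : R → _) := funext hα
  have h1 : α'.comp β.toRingHom = RingHom.id _ := by
    apply MvPolynomial.ringHom_ext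
    · intro r
      simp only [RingHom.comp_apply, AlgHom.toRingHom_eq_coe, RingHom.coe_coe, hβC, hα,
        RingHom.id_apply]
    · intro k
      simp only [RingHom.comp_apply, AlgHom.toRingHom_eq_coe, RingHom.coe_coe, hβX,
        RingHom.id_apply]
      rw [hc, RingHom.map_mulVec, Matrix.map_map]
      have e1 : (⇑α' ∘ (x.mulVec (algebraMap R Q' ∘ v))) =
          (x.map α').mulVec (α' ∘ (algebraMap R Q' ∘ v)) := by
        funext i
        exact RingHom.map_mulVec α' x _ i
      have e2 : (⇑α' ∘ (⇑(algebraMap R Q') ∘ v)) = (MvPolynomial.C ∘ v : Fin n → _) := by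
        funext i; exact hα (v i)
      have e3 : W.map (⇑α' ∘ ⇑(algebraMap R Q')) = W.map (MvPolynomial.C : R → MvPolynomial (Fin n) R) := by
        refine Matrix.ext fun i j => ?_
        exact hα (W i j)
      rw [e1, e2, e3, hαx]
      unfold genPoly
      have hWV' : W.map (MvPolynomial.C : R →+* MvPolynomial (Fin n) R) *
          krylov (g.map (MvPolynomial.C : R →+* MvPolynomial (Fin n) R))
            ((MvPolynomial.C : R →+* MvPolynomial (Fin n) R) ∘ v) = 1 := by
        rw [← krylov_map, ← Matrix.map_mul, hWV, Matrix.map_one _ (map_zero _) (map_one _)]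
      exact congrFun (coeff_sum _ _ _ hWV' (fun k => MvPolynomial.X k)) k
  have h2 : β.toRingHom.comp α' = RingHom.id _ := by
    apply hgen
    · intro r
      simp only [RingHom.comp_apply, AlgHom.toRingHom_eq_coe, RingHom.coe_coe, hα, hβC,
        RingHom.id_apply]
    · intro i j
      simp only [RingHom.comp_apply, AlgHom.toRingHom_eq_coe, RingHom.coe_coe, RingHom.id_apply]
      have e1 : α' (x i j) = genPoly g i j := by rw [← hαx]; rfl
      rw [e1]
      have hVW' : krylov (g.map (algebraMap R Q')) (algebraMap R Q' ∘ v) *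
          W.map (algebraMap R Q') = 1 := by
        rw [← krylov_map, ← Matrix.map_mul, hVW, Matrix.map_one _ (map_zero _) (map_one _)]
      have e2 := eq_sum_of_commute _ _ _ hVW' x hx
      have e3 : (genPoly g).map β = ∑ k, c k • (g.map (algebraMap R Q')) ^ (k : ℕ) := by
        have : (genPoly g).map β = β.toRingHom.mapMatrix (genPoly g) := rfl
        rw [this]
        unfold genPoly
        rw [map_sum]
        apply Finset.sum_congr rfl
        intro k _
        refine Matrix.ext fun a b => ?_
        simp only [RingHom.mapMatrix_apply, Matrix.map_apply, Matrix.smul_apply, smul_eq_mul,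
          AlgHom.toRingHom_eq_coe, RingHom.coe_coe, map_mul, hβX]
        congr 1
        have e4 : β (((g.map (MvPolynomial.C : R → MvPolynomial (Fin n) R)) ^ (k : ℕ)) a b) =
            (((g.map (MvPolynomial.C : R → MvPolynomial (Fin n) R)) ^ (k : ℕ)).map β) a b := rfl
        rw [e4]
        have e5 : ((g.map (MvPolynomial.C : R → MvPolynomial (Fin n) R)) ^ (k : ℕ)).map β =
            (g.map (algebraMap R Q')) ^ (k : ℕ) := by
          have : ((g.map (MvPolynomial.C : R → MvPolynomial (Fin n) R)) ^ (k : ℕ)).map β =
              β.toRingHom.mapMatrix ((g.map (MvPolynomial.C : R → MvPolynomial (Fin n) R)) ^ (k : ℕ)) := rfl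
          rw [this, map_pow]
          congr 1
          refine Matrix.ext fun a b => ?_
          simp only [RingHom.mapMatrix_apply, Matrix.map_apply, AlgHom.toRingHom_eq_coe,
            RingHom.coe_coe, hβC]
        rw [e5]
      have e6 : β (genPoly g i j) = ((genPoly g).map β) i j := rfl
      rw [e6, e3, ← hc] at *
      exact (congrFun (congrFun e2 i) j).symm
  constructor
  · intro y₁ y₂ h
    have := congrArg β h
    have k1 := RingHom.congr_fun h2 y₁
    have k2 := RingHom.congr_fun h2 y₂
    simp only [RingHom.comp_apply, AlgHom.toRingHom_eq_coe, RingHom.coe_coe, RingHom.id_apply] at k1 k2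
    rw [← k1, ← k2, this]
  · intro z
    refine ⟨β z, ?_⟩
    have k1 := RingHom.congr_fun h1 z
    simpa using k1

end Bij

section Main
open MvPolynomial

variable (A : Type u) [CommRing A] (n : ℕ) (g : Matrix (Fin n) (Fin n) A)

/-- The ideal of the commutant scheme of `g`. -/
noncomputable def commIdeal : Ideal (MvPolynomial (Fin n × Fin n) A) :=
  Ideal.span (Set.range fun ij : Fin n × Fin n =>
        (Matrix.mvPolynomialX (Fin n) (Fin n) A * g.map MvPolynomial.C -
          g.map MvPolynomial.C * Matrix.mvPolynomialX (Fin n) (Fin n) A :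
            Matrix (Fin n) (Fin n) (MvPolynomial (Fin n × Fin n) A)) ij.1 ij.2)

/-- The evaluation at the generic polynomial in `g` (over an `A`-algebra `R`). -/
noncomputable def evalGen (R : Type u) [CommRing R] [Algebra A R] :
    MvPolynomial (Fin n × Fin n) A →ₐ[A] MvPolynomial (Fin n) R :=
  MvPolynomial.aeval (fun ij => genPoly (g.map (algebraMap A R)) ij.1 ij.2)

theorem evalGen_mem (R : Type u) [CommRing R] [Algebra A R] :
    ∀ p ∈ commIdeal A n g, evalGen A n g R p = 0 := by
  intro p hp
  have hle : commIdeal A n g ≤ RingHom.ker (evalGen A n g R).toRingHom := by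
    unfold commIdeal
    rw [Ideal.span_le]
    rintro _ ⟨ij, rfl⟩
    rw [SetLike.mem_coe, RingHom.mem_ker]
    have h1 : (evalGen A n g R).toRingHom.mapMatrix (Matrix.mvPolynomialX (Fin n) (Fin n) A) =
        genPoly (g.map (algebraMap A R)) := by
      refine Matrix.ext fun i j => ?_
      simp only [RingHom.mapMatrix_apply, Matrix.map_apply, Matrix.mvPolynomialX_apply,
        AlgHom.toRingHom_eq_coe, RingHom.coe_coe, evalGen, MvPolynomial.aeval_X]
    have h2 : (evalGen A n g R).toRingHom.mapMatrix (g.map MvPolynomial.C) =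
        (g.map (algebraMap A R)).map MvPolynomial.C := by
      refine Matrix.ext fun i j => ?_
      simp only [RingHom.mapMatrix_apply, Matrix.map_apply,
        AlgHom.toRingHom_eq_coe, RingHom.coe_coe, evalGen, MvPolynomial.aeval_C]
      rw [IsScalarTower.algebraMap_apply A R (MvPolynomial (Fin n) R)]
      rfl
    have h3 : (evalGen A n g R).toRingHom
        ((Matrix.mvPolynomialX (Fin n) (Fin n) A * g.map MvPolynomial.C -
          g.map MvPolynomial.C * Matrix.mvPolynomialX (Fin n) (Fin n) A :
            Matrix (Fin n) (Fin n) (MvPolynomial (Fin n × Fin n) A)) ij.1 ij.2) =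
        ((evalGen A n g R).toRingHom.mapMatrix
          (Matrix.mvPolynomialX (Fin n) (Fin n) A * g.map MvPolynomial.C -
          g.map MvPolynomial.C * Matrix.mvPolynomialX (Fin n) (Fin n) A)) ij.1 ij.2 := rfl
    rw [h3, map_sub, map_mul, map_mul, h1, h2, genPoly_comm, sub_self]
    rfl
  exact hle hp

end Main

section Local2
open MvPolynomial

variable (A : Type u) [CommRing A] (n : ℕ) (g : Matrix (Fin n) (Fin n) A)

theorem nonempty_linearEquiv_of_krylov (S : Submonoid A) (R : Type u) [CommRing R] [Algebra A R]
    [IsLocalization S R] (QS : Type u) [CommRing QS]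
    [Algebra (MvPolynomial (Fin n × Fin n) A ⧸ commIdeal A n g) QS] [Algebra A QS] [Algebra R QS]
    [IsScalarTower A (MvPolynomial (Fin n × Fin n) A ⧸ commIdeal A n g) QS] [IsScalarTower A R QS]
    [IsLocalization (Algebra.algebraMapSubmonoid
      (MvPolynomial (Fin n × Fin n) A ⧸ commIdeal A n g) S) QS]
    (v : Fin n → R) (W : Matrix (Fin n) (Fin n) R)
    (hWV : W * krylov (g.map (algebraMap A R)) v = 1)
    (hVW : krylov (g.map (algebraMap A R)) v * W = 1) :
    Nonempty (QS ≃ₗ[A] MvPolynomial (Fin n) R) := by
  -- the comparison maps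
  let α : (MvPolynomial (Fin n × Fin n) A ⧸ commIdeal A n g) →ₐ[A] MvPolynomial (Fin n) R :=
    Ideal.Quotient.liftₐ (commIdeal A n g) (evalGen A n g R) (evalGen_mem A n g R)
  have hαmk : ∀ p, α (Ideal.Quotient.mk _ p) = evalGen A n g R p := fun p => rfl
  have hαunit : ∀ y : Algebra.algebraMapSubmonoid
      (MvPolynomial (Fin n × Fin n) A ⧸ commIdeal A n g) S, IsUnit (α y) := by
    rintro ⟨y, s, hs, rfl⟩
    simp only [AlgHom.commutes]
    rw [IsScalarTower.algebraMap_apply A R (MvPolynomial (Fin n) R)]
    exact (IsLocalization.map_units R ⟨s, hs⟩).map _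
  let αS : QS →ₐ[A] MvPolynomial (Fin n) R :=
    IsLocalization.liftAlgHom (S := QS) (M := Algebra.algebraMapSubmonoid
      (MvPolynomial (Fin n × Fin n) A ⧸ commIdeal A n g) S) (f := α) hαunit
  have hαS : ∀ q, αS (algebraMap _ QS q) = α q := fun q => by
    simp only [αS, IsLocalization.coe_liftAlgHom, IsLocalization.lift_eq]
    rfl
  -- the generic commuting matrix over `QS`
  let ι : MvPolynomial (Fin n × Fin n) A →+* QS :=
    (algebraMap (MvPolynomial (Fin n × Fin n) A ⧸ commIdeal A n g) QS).comp
      (Ideal.Quotient.mk (commIdeal A n g))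
  set x : Matrix (Fin n) (Fin n) QS := (Matrix.mvPolynomialX (Fin n) (Fin n) A).map ι with hxdef
  have hιC : ∀ a : A, ι (MvPolynomial.C a) = algebraMap R QS (algebraMap A R a) := by
    intro a
    rw [← IsScalarTower.algebraMap_apply A R QS, IsScalarTower.algebraMap_apply A
      (MvPolynomial (Fin n × Fin n) A ⧸ commIdeal A n g) QS]
    rfl
  have hgQS : (g.map (algebraMap A R)).map (algebraMap R QS) = (g.map MvPolynomial.C).map ι := by
    rw [Matrix.map_map, Matrix.map_map]
    refine Matrix.ext fun i j => ?_
    simp only [Matrix.map_apply, Function.comp_apply]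
    exact (hιC _).symm
  have hx : x * (g.map (algebraMap A R)).map (algebraMap R QS) =
      (g.map (algebraMap A R)).map (algebraMap R QS) * x := by
    have e1 : x * (g.map (algebraMap A R)).map (algebraMap R QS) =
        (Matrix.mvPolynomialX (Fin n) (Fin n) A * g.map MvPolynomial.C).map ι := by
      rw [hgQS, hxdef, Matrix.map_mul]
    have e2 : (g.map (algebraMap A R)).map (algebraMap R QS) * x =
        (g.map MvPolynomial.C * Matrix.mvPolynomialX (Fin n) (Fin n) A).map ι := by
      rw [hgQS, hxdef, Matrix.map_mul]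
    rw [e1, e2]
    refine Matrix.ext fun i j => ?_
    simp only [Matrix.map_apply, ι, RingHom.comp_apply]
    congr 1
    apply Ideal.Quotient.eq.mpr
    have hmem : (Matrix.mvPolynomialX (Fin n) (Fin n) A * g.map MvPolynomial.C -
          g.map MvPolynomial.C * Matrix.mvPolynomialX (Fin n) (Fin n) A :
            Matrix (Fin n) (Fin n) (MvPolynomial (Fin n × Fin n) A)) i j ∈ commIdeal A n g :=
      Ideal.subset_span ⟨(i, j), rfl⟩
    rwa [Matrix.sub_apply] at hmem
  have hbij : Function.Bijective αS.toRingHom := by
    apply bijective_of_generic (g.map (algebraMap A R)) v W hWV hVW QS x hx αS.toRingHom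
    · -- compatibility with scalars
      intro r
      have : (αS.toRingHom.comp (algebraMap R QS)) = (MvPolynomial.C : R →+* _) := by
        apply IsLocalization.ringHom_ext S
        apply RingHom.ext
        intro a
        simp only [RingHom.comp_apply, AlgHom.toRingHom_eq_coe, RingHom.coe_coe]
        rw [← IsScalarTower.algebraMap_apply A R QS, AlgHom.commutes,
          IsScalarTower.algebraMap_apply A R (MvPolynomial (Fin n) R)]
        rfl
      exact RingHom.congr_fun this r
    · -- value on the generic matrix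
      refine Matrix.ext fun i j => ?_
      simp only [Matrix.map_apply, hxdef, ι, RingHom.comp_apply, AlgHom.toRingHom_eq_coe,
        RingHom.coe_coe, hαS, hαmk, Matrix.mvPolynomialX_apply, evalGen, MvPolynomial.aeval_X]
    · -- generation
      intro f₁ f₂ hr hxx
      apply IsLocalization.ringHom_ext (Algebra.algebraMapSubmonoid
        (MvPolynomial (Fin n × Fin n) A ⧸ commIdeal A n g) S)
      apply Ideal.Quotient.ringHom_ext
      apply MvPolynomial.ringHom_ext
      · intro a
        simp only [RingHom.comp_apply]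
        have := hιC a
        simp only [ι, RingHom.comp_apply] at this
        rw [this]
        exact hr _
      · intro ij
        simp only [RingHom.comp_apply]
        have := hxx ij.1 ij.2
        simpa [hxdef, ι, Matrix.mvPolynomialX_apply] using this
  exact ⟨LinearEquiv.ofBijective αS.toLinearMap hbij⟩

end Local2

section Main2
open MvPolynomial

variable (A : Type u) [CommRing A] (n : ℕ) (g : Matrix (Fin n) (Fin n) A)

theorem exists_krylov_inverse
    (hreg : ∀ (K : Type u) [Field K] (φ : A →+* K),
      Module.finrank K (Subalgebra.centralizer K ({g.map φ} : Set (Matrix (Fin n) (Fin n) K))) = n)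
    (R : Type u) [CommRing R] [IsLocalRing R] [Algebra A R] :
    ∃ (v : Fin n → R) (W : Matrix (Fin n) (Fin n) R),
      W * krylov (g.map (algebraMap A R)) v = 1 ∧ krylov (g.map (algebraMap A R)) v * W = 1 := by
  obtain ⟨v, hv⟩ := Groth.Agent.Lib.RegularCentralizer.exists_cyclic_of_residue
    (g.map (algebraMap A R)) (by
    have h1 := hreg (IsLocalRing.ResidueField R)
      ((algebraMap R (IsLocalRing.ResidueField R)).comp (algebraMap A R))
    have h2 : g.map ((algebraMap R (IsLocalRing.ResidueField R)).comp (algebraMap A R)) =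
        (g.map (algebraMap A R)).map (algebraMap R (IsLocalRing.ResidueField R)) := by
      rw [Matrix.map_map]
      rfl
    rw [h2] at h1
    exact Groth.Agent.Lib.RegularCentralizer.exists_cyclic_vector _ h1)
  have hunit := isUnit_krylov (g.map (algebraMap A R)) v hv
  obtain ⟨W, hVW, hWV⟩ := isUnit_iff_exists.mp hunit
  exact ⟨v, W, hWV, hVW⟩

theorem flat_localization_of_regular
    (hreg : ∀ (K : Type u) [Field K] (φ : A →+* K),
      Module.finrank K (Subalgebra.centralizer K ({g.map φ} : Set (Matrix (Fin n) (Fin n) K))) = n)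
    (𝔪 : Ideal A) [𝔪.IsMaximal] :
    Module.Flat A (Localization (Algebra.algebraMapSubmonoid
      (MvPolynomial (Fin n × Fin n) A ⧸ commIdeal A n g) 𝔪.primeCompl)) := by
  obtain ⟨v, W, hWV, hVW⟩ := exists_krylov_inverse A n g hreg (Localization.AtPrime 𝔪)
  obtain ⟨e⟩ := nonempty_linearEquiv_of_krylov A n g 𝔪.primeCompl (Localization.AtPrime 𝔪)
    (Localization (Algebra.algebraMapSubmonoid
      (MvPolynomial (Fin n × Fin n) A ⧸ commIdeal A n g) 𝔪.primeCompl)) v W hWV hVW
  have : Module.Flat A (MvPolynomial (Fin n) (Localization.AtPrime 𝔪)) :=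
    Module.Flat.trans A (Localization.AtPrime 𝔪) _
  exact Module.Flat.of_linearEquiv e

theorem flat_quotient_of_regular
    (hreg : ∀ (K : Type u) [Field K] (φ : A →+* K),
      Module.finrank K (Subalgebra.centralizer K ({g.map φ} : Set (Matrix (Fin n) (Fin n) K))) = n) :
    Module.Flat A (MvPolynomial (Fin n × Fin n) A ⧸ commIdeal A n g) := by
  apply Module.flat_of_localized_maximal
  intro P _
  have : IsLocalizedModule P.primeCompl
      ((IsScalarTower.toAlgHom A (MvPolynomial (Fin n × Fin n) A ⧸ commIdeal A n g)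
        (Localization (Algebra.algebraMapSubmonoid
          (MvPolynomial (Fin n × Fin n) A ⧸ commIdeal A n g) P.primeCompl))).toLinearMap) :=
    (isLocalizedModule_iff_isLocalization (S := P.primeCompl)
      (A := MvPolynomial (Fin n × Fin n) A ⧸ commIdeal A n g)
      (Aₛ := Localization (Algebra.algebraMapSubmonoid
          (MvPolynomial (Fin n × Fin n) A ⧸ commIdeal A n g) P.primeCompl))).mpr inferInstance
  have e : LocalizedModule P.primeCompl (MvPolynomial (Fin n × Fin n) A ⧸ commIdeal A n g) ≃ₗ[A]
      Localization (Algebra.algebraMapSubmonoid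
        (MvPolynomial (Fin n × Fin n) A ⧸ commIdeal A n g) P.primeCompl) :=
    IsLocalizedModule.linearEquiv P.primeCompl
      (LocalizedModule.mkLinearMap P.primeCompl (MvPolynomial (Fin n × Fin n) A ⧸ commIdeal A n g))
      ((IsScalarTower.toAlgHom A (MvPolynomial (Fin n × Fin n) A ⧸ commIdeal A n g)
        (Localization (Algebra.algebraMapSubmonoid
          (MvPolynomial (Fin n × Fin n) A ⧸ commIdeal A n g) P.primeCompl))).toLinearMap)
  have := flat_localization_of_regular A n g hreg P
  exact Module.Flat.of_linearEquiv e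

theorem flat_away_of_regular
    (hreg : ∀ (K : Type u) [Field K] (φ : A →+* K),
      Module.finrank K (Subalgebra.centralizer K ({g.map φ} : Set (Matrix (Fin n) (Fin n) K))) = n)
    (d : MvPolynomial (Fin n × Fin n) A ⧸ commIdeal A n g) :
    Module.Flat A (Localization.Away d) := by
  have := flat_quotient_of_regular A n g hreg
  have : Module.Flat (MvPolynomial (Fin n × Fin n) A ⧸ commIdeal A n g) (Localization.Away d) :=
    IsLocalization.flat _ (Submonoid.powers d)
  exact Module.Flat.trans A (MvPolynomial (Fin n × Fin n) A ⧸ commIdeal A n g) _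

end Main2

end Groth.Agent.Lib.RegularFlat
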