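import Groth.Agent.Lib.H87RegImm
import Groth.Agent.Lib.SmoothRegular
import Groth.Agent.S15821
import Groth.Prelude.Def_LCI2
import Mathlib.RingTheory.RingHom.Surjective
import Mathlib.RingTheory.Localization.Algebra

/-!
# Finite type maps between regular rings are local complete intersections (helper32)

Namespace `Groth.Agent.Lib.RegularLCI`.

* `isKoszulRegularIdeal_ker_of_regular` : a surjection of regular rings has Koszul-regular kernel.
* `isLCI_of_regular` : `A`, `B` regular rings, `B` of finite type over `A` ⟹ `LCI.IsLCI A B`.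
-/

set_option autoImplicit false
universe u

namespace Groth.Agent.Lib.RegularLCI

open Groth.Agent.Lib.H87RegImm

/-- a surjection of regular rings has Koszul-regular kernel -/
theorem isKoszulRegularIdeal_ker_of_regular {P B : Type u} [CommRing P] [CommRing B]
    [IsRegularRing P] [IsRegularRing B] (φ : P →+* B) (hφ : Function.Surjective φ) :
    LCI.IsKoszulRegularIdeal (RingHom.ker φ) := by
  intro 𝔓 h𝔓
  have h𝔓prime : 𝔓.asIdeal.IsPrime := 𝔓.isPrime
  let 𝔫 : Ideal B := 𝔓.asIdeal.map φ
  have h𝔫 : 𝔫.IsPrime := Ideal.map_isPrime_of_surjective hφ h𝔓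
  have hcomap : 𝔫.comap φ = 𝔓.asIdeal := by
    rw [Ideal.comap_map_of_surjective φ hφ]
    exact sup_eq_left.2 h𝔓
  have hprime : (𝔫.comap φ).IsPrime := hcomap ▸ h𝔓prime
  have hsurj : Function.Surjective (Localization.localRingHom (𝔫.comap φ) 𝔫 φ rfl) :=
    RingHom.surjective_localRingHom_of_surjective φ hφ 𝔫
  have hT : Submonoid.map φ (𝔫.comap φ).primeCompl = 𝔫.primeCompl := by
    ext x
    constructor
    · rintro ⟨r, hr, rfl⟩
      exact hr
    · intro hx
      obtain ⟨r, rfl⟩ := hφ x
      exact ⟨r, hx, rfl⟩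
  have hker : RingHom.ker (Localization.localRingHom (𝔫.comap φ) 𝔫 φ rfl) =
      (RingHom.ker φ).map (algebraMap P (Localization.AtPrime (𝔫.comap φ))) :=
    IsLocalization.ker_map (S := Localization.AtPrime (𝔫.comap φ)) (Localization.AtPrime 𝔫) φ hT
  have hreg : CInt.IsRegularIdeal (RingHom.ker (Localization.localRingHom (𝔫.comap φ) 𝔫 φ rfl)) :=
    (isRegularLocalRing_iff_isRegularIdeal_ker _ hsurj).1 inferInstance
  rw [hker] at hreg
  have hle : RingHom.ker φ ≤ 𝔫.comap φ := hcomap ▸ h𝔓
  obtain ⟨g, hg, hT'⟩ := exists_away_isRegularIdeal (𝔫.comap φ) (RingHom.ker φ) hle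
    (Localization.AtPrime (𝔫.comap φ)) hreg
  refine ⟨g, ?_, ?_⟩
  · rw [← hcomap]
    exact hg
  · obtain ⟨rs, hrs, hI⟩ := hT' (Localization.Away g)
    exact ⟨rs, (Groth.Agent.S15821.result _ rs hrs.toIsWeaklyRegular).1, hI.symm⟩

/-- a finite type algebra between regular rings is a local complete intersection -/
theorem isLCI_of_regular (A B : Type u) [CommRing A] [CommRing B] [Algebra A B]
    [IsRegularRing A] [IsRegularRing B] [hft : Algebra.FiniteType A B] : LCI.IsLCI A B := by
  obtain ⟨n, f, hf⟩ := Algebra.FiniteType.iff_quotient_mvPolynomial''.1 hft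
  have : Algebra.Smooth A (MvPolynomial (Fin n) A) := {}
  have : IsRegularRing (MvPolynomial (Fin n) A) :=
    Groth.Agent.Lib.SmoothRegular.isRegularRing_of_smooth A (MvPolynomial (Fin n) A)
  exact ⟨hft, n, f, hf, isKoszulRegularIdeal_ker_of_regular f.toRingHom hf⟩

end Groth.Agent.Lib.RegularLCI
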