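import Groth.Agent.Lib.RegularLocal
import Groth.Agent.Lib.DepthRees
import Mathlib.Data.Fin.Tuple.Take

/-!
# Kernels of surjections of regular local rings are generated by regular sequences
-/

set_option autoImplicit false
universe u

namespace Groth.Agent.Lib.RegularLocalKer

open RingTheory.Sequence IsLocalRing

theorem exists_isRegular_ker_of_surjective {R S : Type u} [CommRing R] [CommRing S]
    [IsRegularLocalRing R] [IsRegularLocalRing S] (φ : R →+* S) (hφ : Function.Surjective φ) :
    ∃ rs : List R, IsRegular R rs ∧ RingHom.ker φ = Ideal.ofList rs := by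
  let e : (R ⧸ RingHom.ker φ) ≃+* S := RingHom.quotientKerEquivOfSurjective hφ
  haveI : IsRegularLocalRing (R ⧸ RingHom.ker φ) := IsRegularLocalRing.of_ringEquiv e.symm
  have hd : ringKrullDim R = ((maximalIdeal R).spanFinrank : ℕ) :=
    (IsRegularLocalRing.spanFinrank_maximalIdeal (R := R)).symm
  obtain ⟨x, c, hc, hx, hI⟩ := Groth.Agent.Lib.RegularLocal.exists_generators R _ hd (RingHom.ker φ)
  have hreg := Groth.Agent.Lib.RegularLocal.isRegular_ofFn R _ hd x hx
  refine ⟨(List.ofFn x).take c, ?_, ?_⟩
  · rw [IsLocalRing.isRegular_iff_isWeaklyRegular_of_subset_maximalIdeal]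
    · exact Groth.Agent.Lib.DepthRees.isWeaklyRegular_take hreg.toIsWeaklyRegular c
    · intro r hr
      have hr' : r ∈ List.ofFn x := List.mem_of_mem_take hr
      rw [List.mem_ofFn] at hr'
      obtain ⟨j, rfl⟩ := hr'
      rw [← hx]
      exact Ideal.subset_span ⟨j, rfl⟩
  · rw [hI, ← Fin.ofFn_take_eq_take_ofFn hc x, Ideal.ofList]
    congr 1
    ext r
    simp only [Set.mem_range, List.mem_ofFn, Fin.take_apply]
    rfl

end Groth.Agent.Lib.RegularLocalKer
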