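import Groth.Agent.Lib.CechAcyc4

/-!
# Relative Cartan criterion (helper95)

Let `𝒦` be a class of sheaves of sets and `𝒞` a class of morphisms of sheaves of sets such that
every epimorphism onto a member of `𝒦` is refined by an epimorphism in `𝒞`, and such that the
terms of the Čech nerve of a member of `𝒞` are `Ext^1(ℤ[-], F)`-acyclic as soon as all members of
`𝒦` are.  Then an abelian sheaf which is Čech-acyclic for all epimorphisms in `𝒞` has vanishing
higher cohomology on all members of `𝒦`.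
-/

universe u

open CategoryTheory Limits Opposite Abelian AlgebraicTopology Simplicial

set_option linter.unusedSectionVars false

namespace Groth.Agent.Lib.RelCartan

open Groth.Agent.Lib.CechAcyc1 Groth.Agent.Lib.CechAcyc2 Groth.Agent.Lib.CechAcyc3
  Groth.Agent.Lib.CechAcyc4

variable {C : Type u} [SmallCategory C] {J : GrothendieckTopology C}
  (𝒦 : Set (Sheaf J (Type u)))
  (𝒞 : ∀ ⦃K' K : Sheaf J (Type u)⦄, (K' ⟶ K) → Prop)

/-- `F` is Čech-acyclic with respect to every epimorphism in the class `𝒞`. -/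
def RelCechAcyclic (F : Sheaf J AddCommGrpCat.{u}) : Prop :=
  ∀ (K' K : Sheaf J (Type u)) (f : K' ⟶ K), Epi f → 𝒞 f → ∀ n, HomExactAt (R f) F n

variable {𝒦 𝒞}
  (hrefine : ∀ K ∈ 𝒦, ∀ (X : Sheaf J (Type u)) (g : X ⟶ K), Epi g →
    ∃ (K' : Sheaf J (Type u)) (h : K' ⟶ X), Epi (h ≫ g) ∧ 𝒞 (h ≫ g))
  (hW : ∀ (K' K : Sheaf J (Type u)) (f : K' ⟶ K), Epi f → 𝒞 f → ∀ (n : ℕ)
    (F : Sheaf J AddCommGrpCat.{u}), (∀ L ∈ 𝒦, Subsingleton (Ext ((T J).obj L) F 1)) →
      Subsingleton (Ext ((R f).X n) F 1))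

include hrefine in
lemma subsingleton_ext_one_of_relCechAcyclic (F : Sheaf J AddCommGrpCat.{u})
    (hF : RelCechAcyclic 𝒞 F) (K : Sheaf J (Type u)) (hK : K ∈ 𝒦) :
    Subsingleton (Ext ((T J).obj K) F 1) := by
  refine subsingleton_ext_one (injSC_shortExact F) ((T J).obj K) (fun φ => ?_)
  have hepi : Epi (injSC F).g := (injSC_shortExact F).epi_g
  obtain ⟨K₁, f₁, hf₁, t₁, ht₁⟩ := exists_epi_lift (injSC F).g φ
  obtain ⟨K', h, hf, hC⟩ := hrefine K hK K₁ f₁ hf₁
  have ht : ((T J).map h ≫ t₁) ≫ (injSC F).g = (T J).map (h ≫ f₁) ≫ φ := by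
    rw [Category.assoc, ht₁, ← Category.assoc, ← Functor.map_comp]
  refine exists_lift_of_homExactAt_zero (R := R (h ≫ f₁)) (injSC_shortExact F)
    ((π (h ≫ f₁)).f 0)
    (d_comp_f_zero (π (h ≫ f₁))) (isColimitCokernelCofork (π (h ≫ f₁)))
    (hF K' K (h ≫ f₁) hf hC 0) φ
    ((T J).map (WidePullback.π (fun _ : Fin (0 + 1) => h ≫ f₁) 0) ≫ (T J).map h ≫ t₁) ?_
  have h2 : (π (h ≫ f₁)).f 0 = (T J).map (WidePullback.base (fun _ : Fin (0 + 1) => h ≫ f₁)) := by
    rw [π, AlternatingFaceMapComplex.ε_app_f_zero]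
    dsimp [SimplicialObject.Augmented.whiskering, SimplicialObject.Augmented.whiskeringObj]
    exact Category.comp_id _
  rw [Category.assoc, ht, ← Category.assoc, ← Functor.map_comp, h2, WidePullback.π_arrow]
  rfl

include hrefine hW in
lemma relCechAcyclic_quotient (F : Sheaf J AddCommGrpCat.{u}) (hF : RelCechAcyclic 𝒞 F) :
    RelCechAcyclic 𝒞 (injSC F).X₃ := by
  intro K' K f hf hC n
  exact homExactAt_quotient (exactAt_R f) (injSC_shortExact F) n (hF K' K f hf hC (n + 1))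
    (hW K' K f hf hC (n + 1) F
      (fun L hL => subsingleton_ext_one_of_relCechAcyclic hrefine F hF L hL))

include hrefine hW in
/-- **Relative Cartan criterion.** -/
theorem subsingleton_ext_of_relCechAcyclic (p : ℕ) :
    ∀ (F : Sheaf J AddCommGrpCat.{u}), RelCechAcyclic 𝒞 F →
      ∀ K ∈ 𝒦, Subsingleton (Ext ((T J).obj K) F (p + 1)) := by
  induction p with
  | zero => exact fun F hF K hK => subsingleton_ext_one_of_relCechAcyclic hrefine F hF K hK
  | succ p ih =>
    intro F hF K hK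
    exact subsingleton_ext_succ_succ (injSC_shortExact F) ((T J).obj K) p
      (ih _ (relCechAcyclic_quotient hrefine hW F hF) K hK)

end Groth.Agent.Lib.RelCartan
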