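import Groth.Agent.Lib.CycBCShift
import Groth.Agent.Lib.H30LowerBound
import Mathlib

/-!
# Points of `X ×_S (S' ×_S S')` over a pair of points of `X ×_S S'` with maximal residue
transcendence degree (helper37)

* `max_of_rt_eq`: in a cartesian square `X' = X ×_S S'`, a point `x'` over a point `x` which is maximal
  in its fibre, with the same residue transcendence degree, is maximal in its fibre.
* `isPullback_diag`: `X'' = X' ×_X X'` in the situation of Stacks "relative cycles".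
* `aux`: the statement when `x` is maximal in its fibre.
* `main`: the general case, by replacing `X` with a closed subscheme supported on the closure of `x`.
-/

set_option autoImplicit false
universe u
open CategoryTheory CategoryTheory.Limits AlgebraicGeometry

namespace Groth.Agent.Lib.RelCycPts37

open Groth.Agent.Lib.H30DimRel Groth.Agent.Lib.H30IrrFib Groth.Agent.Lib.CycBCShift

theorem max_of_rt_eq {X S X' S' : Scheme.{u}} (f : X ⟶ S) [LocallyOfFiniteType f] (g : S' ⟶ S)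
    (g' : X' ⟶ X) (f' : X' ⟶ S') [LocallyOfFiniteType f'] (hsq : IsPullback g' f' f g) (x' : X')
    (hmax : ∀ w : X, f w = f (g' x') → w ⤳ g' x' → w = g' x')
    (hrt : rt f' x' = rt f (g' x')) :
    ∀ w : X', f' w = f' x' → w ⤳ x' → w = x' := by
  obtain ⟨v, hv1, hv2, hv3, hv4⟩ := exists_rt_eq_fibreDimAt f' x'
  have h1 := Groth.Agent.Lib.H30FibBC.fibreDimAt_eq_of_isPullback f g g' f' hsq x'
  have h2 := rt_eq_fibreDimAt_of_max f (g' x') hmax
  have h3 : rt f' v = rt f' x' := by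
    have : ((rt f' v : ℕ) : WithBot ℕ∞) = ((rt f' x' : ℕ) : WithBot ℕ∞) := by
      rw [hv4, h1, ← h2, hrt]
    exact_mod_cast this
  have hvx : v = x' := by
    by_contra hne
    have := Groth.Agent.Lib.H30LowerBound.rt_lt_of_specializes_ne f' x' v hv1 hv2 hne
    omega
  rw [hvx] at hv3
  exact hv3

theorem isPullback_diag {X S S' S'' X' X'' : Scheme.{u}}
    {f : X ⟶ S} {g : S' ⟶ S} {p q : S'' ⟶ S'} (hS : IsPullback p q g g)
    {f' : X' ⟶ S'} {g' : X' ⟶ X} (hX : IsPullback g' f' f g)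
    {f'' : X'' ⟶ S''} {p' q' : X'' ⟶ X'} (hp : IsPullback p' f'' f' p)
    (hq : IsPullback q' f'' f' q) (hpq : p' ≫ g' = q' ≫ g') : IsPullback p' q' g' g' := by
  have B : IsPullback (f'' ≫ p) q' g (f' ≫ g) := hq.flip.paste_horiz hS
  have B' : IsPullback (p' ≫ f') q' g (g' ≫ f) := by rw [hp.w, hX.w]; exact B
  exact IsPullback.of_right B' hpq hX.flip

theorem aux {X S S' S'' X' X'' : Scheme.{u}}
    (f : X ⟶ S) [LocallyOfFiniteType f] (g : S' ⟶ S)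
    (p q : S'' ⟶ S') (hS : IsPullback p q g g)
    (f' : X' ⟶ S') [LocallyOfFiniteType f'] (g' : X' ⟶ X) (hX : IsPullback g' f' f g)
    (f'' : X'' ⟶ S'') [LocallyOfFiniteType f''] (p' q' : X'' ⟶ X')
    (hp : IsPullback p' f'' f' p) (hq : IsPullback q' f'' f' q)
    (hpq : p' ≫ g' = q' ≫ g')
    (x : X) (hmax : ∀ w : X, f w = f x → w ⤳ x → w = x)
    (x₁ x₂ : X') (h₁ : g' x₁ = x) (h₂ : g' x₂ = x)
    (hx₁ : rt f' x₁ = rt f x) (hx₂ : rt f' x₂ = rt f x) :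
    ∃ x'' : X'', rt f'' x'' = rt f x ∧ p' x'' = x₁ ∧ q' x'' = x₂ := by
  have hPQ : IsPullback p' q' g' g' := isPullback_diag hS hX hp hq hpq
  obtain ⟨w₀, hw₀1, hw₀2⟩ :=
    Scheme.exists_preimage_of_isPullback hPQ x₁ x₂ (h₁.trans h₂.symm)
  obtain ⟨w, hw1, hw2, hw3, -⟩ := exists_rt_eq_fibreDimAt f'' w₀
  have hm₁ : ∀ w : X', f' w = f' x₁ → w ⤳ x₁ → w = x₁ :=
    max_of_rt_eq f g g' f' hX x₁ (by rw [h₁]; exact hmax) (by rw [h₁]; exact hx₁)
  have hm₂ : ∀ w : X', f' w = f' x₂ → w ⤳ x₂ → w = x₂ :=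
    max_of_rt_eq f g g' f' hX x₂ (by rw [h₂]; exact hmax) (by rw [h₂]; exact hx₂)
  have cp : ∀ z : X'', f' (p' z) = p (f'' z) := fun z =>
    congrArg (fun φ : X'' ⟶ S' => φ z) hp.w
  have cq : ∀ z : X'', f' (q' z) = q (f'' z) := fun z =>
    congrArg (fun φ : X'' ⟶ S' => φ z) hq.w
  have e1 : p' w = x₁ := by
    apply hm₁
    · rw [cp, hw1, ← cp, hw₀1]
    · rw [← hw₀1]; exact hw2.map p'.continuous
  have e2 : q' w = x₂ := by
    apply hm₂
    · rw [cq, hw1, ← cq, hw₀2]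
    · rw [← hw₀2]; exact hw2.map q'.continuous
  refine ⟨w, ?_, e1, e2⟩
  have hw3' : ∀ w' : X'', f'' w' = f'' w → w' ⤳ w → w' = w := fun w' h h' =>
    hw3 w' (h.trans hw1) h'
  have key := rt_eq_of_isPullback_of_max f' p p' f'' hp w hw3' (by rw [e1]; exact hm₁)
  refine key.trans ?_
  rw [e1, hx₁]

theorem exists_closedImmersion_range_eq_closure {X : Scheme.{u}} (x : X) :
    ∃ (Z : Scheme.{u}) (i : Z ⟶ X), IsClosedImmersion i ∧ Set.range i = closure {x} := by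
  refine ⟨_, (Scheme.IdealSheafData.vanishingIdeal ⟨closure {x}, isClosed_closure⟩).subschemeι,
    inferInstance, ?_⟩
  rw [Scheme.IdealSheafData.range_subschemeι]
  simp

theorem main {X S S' S'' X' X'' : Scheme.{u}}
    (f : X ⟶ S) [LocallyOfFiniteType f] (g : S' ⟶ S)
    (p q : S'' ⟶ S') (hS : IsPullback p q g g)
    (f' : X' ⟶ S') [LocallyOfFiniteType f'] (g' : X' ⟶ X) (hX : IsPullback g' f' f g)
    (f'' : X'' ⟶ S'') [LocallyOfFiniteType f''] (p' q' : X'' ⟶ X')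
    (hp : IsPullback p' f'' f' p) (hq : IsPullback q' f'' f' q)
    (hpq : p' ≫ g' = q' ≫ g')
    (x : X) (x₁ x₂ : X') (h₁ : g' x₁ = x) (h₂ : g' x₂ = x)
    (hx₁ : rt f' x₁ = rt f x) (hx₂ : rt f' x₂ = rt f x) :
    ∃ x'' : X'', rt f'' x'' = rt f x ∧ p' x'' = x₁ ∧ q' x'' = x₂ := by
  obtain ⟨Z, i, hi, hrange⟩ := exists_closedImmersion_range_eq_closure x
  haveI := hi
  obtain ⟨x₀, hx₀⟩ : x ∈ Set.range i := by rw [hrange]; exact subset_closure rfl
  have hmax : ∀ w : Z, (i ≫ f) w = (i ≫ f) x₀ → w ⤳ x₀ → w = x₀ := by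
    intro w _ hsp
    have h1 : i w ⤳ x := by rw [← hx₀]; exact hsp.map i.continuous
    have h2 : x ⤳ i w := by
      rw [specializes_iff_mem_closure, ← hrange]; exact ⟨w, rfl⟩
    have h3 : i w = i x₀ := by rw [hx₀]; exact (h1.antisymm h2).eq
    exact i.isEmbedding.injective h3
  obtain ⟨Z', gZ, i', sq1, hi'⟩ : ∃ (Z' : Scheme.{u}) (gZ : Z' ⟶ Z) (i' : Z' ⟶ X'),
      IsPullback gZ i' i g' ∧ IsClosedImmersion i' :=
    ⟨pullback i g', pullback.fst i g', pullback.snd i g', IsPullback.of_hasPullback i g',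
      inferInstance⟩
  haveI := hi'
  obtain ⟨Z'', pZ, i'', sq2, hi''⟩ : ∃ (Z'' : Scheme.{u}) (pZ : Z'' ⟶ Z') (i'' : Z'' ⟶ X''),
      IsPullback pZ i'' i' p' ∧ IsClosedImmersion i'' :=
    ⟨pullback i' p', pullback.fst i' p', pullback.snd i' p', IsPullback.of_hasPullback i' p',
      inferInstance⟩
  haveI := hi''
  have hcomm : (pZ ≫ gZ) ≫ i = (i'' ≫ q') ≫ g' := by
    rw [Category.assoc, sq1.w, ← Category.assoc, sq2.w, Category.assoc, hpq, Category.assoc]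
  obtain ⟨qZ, hqZ1, hqZ2⟩ : ∃ qZ : Z'' ⟶ Z', qZ ≫ gZ = pZ ≫ gZ ∧ qZ ≫ i' = i'' ≫ q' :=
    ⟨sq1.lift (pZ ≫ gZ) (i'' ≫ q') hcomm, sq1.lift_fst _ _ _, sq1.lift_snd _ _ _⟩
  have sq3 : IsPullback qZ i'' i' q' := by
    have big : IsPullback (pZ ≫ gZ) i'' i (p' ≫ g') := sq2.paste_horiz sq1
    have big' : IsPullback (qZ ≫ gZ) i'' i (q' ≫ g') := by rw [hqZ1, ← hpq]; exact big
    exact IsPullback.of_right big' hqZ2 sq1
  have hXZ : IsPullback gZ (i' ≫ f') (i ≫ f) g := sq1.paste_vert hX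
  have hpZ : IsPullback pZ (i'' ≫ f'') (i' ≫ f') p := sq2.paste_vert hp
  have hqZ : IsPullback qZ (i'' ≫ f'') (i' ≫ f') q := sq3.paste_vert hq
  obtain ⟨z₁, hz₁a, hz₁b⟩ :=
    Scheme.exists_preimage_of_isPullback sq1 x₀ x₁ (hx₀.trans h₁.symm)
  obtain ⟨z₂, hz₂a, hz₂b⟩ :=
    Scheme.exists_preimage_of_isPullback sq1 x₀ x₂ (hx₀.trans h₂.symm)
  have r0 : rt (i ≫ f) x₀ = rt f x := by rw [rt_comp_of_isPreimmersion f i x₀, hx₀]
  have r1 : rt (i' ≫ f') z₁ = rt (i ≫ f) x₀ := by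
    rw [rt_comp_of_isPreimmersion f' i' z₁, hz₁b, hx₁, r0]
  have r2 : rt (i' ≫ f') z₂ = rt (i ≫ f) x₀ := by
    rw [rt_comp_of_isPreimmersion f' i' z₂, hz₂b, hx₂, r0]
  obtain ⟨z, hz1, hz2, hz3⟩ := aux (i ≫ f) g p q hS (i' ≫ f') gZ hXZ (i'' ≫ f'') pZ qZ hpZ hqZ
    hqZ1.symm x₀ hmax z₁ z₂ hz₁a hz₂a r1 r2
  have c2 : ∀ z : Z'', i' (pZ z) = p' (i'' z) := fun z =>
    congrArg (fun φ : Z'' ⟶ X' => φ z) sq2.w
  have c3 : ∀ z : Z'', i' (qZ z) = q' (i'' z) := fun z =>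
    congrArg (fun φ : Z'' ⟶ X' => φ z) sq3.w
  refine ⟨i'' z, ?_, ?_, ?_⟩
  · rw [← rt_comp_of_isPreimmersion f'' i'' z, hz1, r0]
  · rw [← c2, hz2, hz₁b]
  · rw [← c3, hz3, hz₂b]

end Groth.Agent.Lib.RelCycPts37
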