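import Groth.Agent.Lib.SheafHomDual23
import Groth.Agent.Lib.ProjFormulaFLF23

/-!
# Relative Ext sheaves and finite locally free modules (helper23)

* `sheafHomTensorComm F M hM : ℋom(F, -) ⋙ (- ⊗ M) ≅ (- ⊗ M) ⋙ ℋom(F, -)` for `M` finite locally free.
* `relHomProjIso f F N hN : (ℋom(F,-) ⋙ f_*) ⋙ (- ⊗ N) ≅ (- ⊗ f^*N) ⋙ (ℋom(F,-) ⋙ f_*)`.
* `relHomDualIso f F L hL : ℋom(F ⊗ L,-) ⋙ f_* ≅ (- ⊗ L^∨) ⋙ (ℋom(F,-) ⋙ f_*)`.
* `nonempty_relExt_iso`: `Ext^p_f(F ⊗ L, G ⊗ f^*N) ≅ Ext^p_f(F, G ⊗ L^∨) ⊗ N`.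
-/

set_option autoImplicit false
set_option linter.unusedVariables false
universe u
open CategoryTheory CategoryTheory.Limits AlgebraicGeometry MonoidalCategory
open Groth.Agent.Lib.OXModTensor Groth.Agent.Lib.TwistEquiv
open Groth.Agent.Lib.SheafHom23 Groth.Agent.Lib.DualPair23 Groth.Agent.Lib.DualFLF23
open Groth.Agent.Lib.SheafHomDual23

namespace Groth.Agent.Lib.RelExtDual23

variable {X Y : Scheme.{u}}

/-- `(- ⊗ A) ⋙ (- ⊗ B) ≅ (- ⊗ B) ⋙ (- ⊗ A)` -/
noncomputable def tensorRightSwapIso (A B : X.Modules) :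
    tensorRightFunctor A ⋙ tensorRightFunctor B ≅ tensorRightFunctor B ⋙ tensorRightFunctor A :=
  (tensorRightCompIso A B).symm ≪≫ tensorRightFunctorIso (braiding A B) ≪≫ tensorRightCompIso B A

/-- `ℋom(F, -)` commutes with `- ⊗ M` for `M` finite locally free. -/
noncomputable def sheafHomTensorComm (F M : X.Modules) (hM : FlatMod.IsFinLocFree M)
    [ModSite.HasSheafHom (O := X.sheaf) F] :
    ModSite.sheafHom (O := X.sheaf) F ⋙ tR M ≅ tR M ⋙ ModSite.sheafHom (O := X.sheaf) F :=
  let adjM : tensorRightFunctor (dual M) ⊣ tR M := dualAdj' hM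
  let adjF : tensorRightFunctor F ⊣ ModSite.sheafHom (O := X.sheaf) F :=
    (ModSite.sheafHomAdj (O := X.sheaf) F).ofNatIsoLeft (flipIso F).symm
  (adjM.comp adjF).rightAdjointUniq
    ((adjF.comp adjM).ofNatIsoLeft (tensorRightSwapIso F (dual M)))

variable (f : X ⟶ Y)

/-- `f_* ℋom(F, -) ⊗ N ≅ f_* ℋom(F, - ⊗ f^* N)` for `N` finite locally free. -/
noncomputable def relHomProjIso (F : X.Modules) (N : Y.Modules) (hN : FlatMod.IsFinLocFree N)
    [ModSite.HasSheafHom (O := X.sheaf) F] :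
    (ModSite.sheafHom (O := X.sheaf) F ⋙ Scheme.Modules.pushforward f) ⋙ tensorRightFunctor N ≅
      tR ((Scheme.Modules.pullback f).obj N) ⋙
        (ModSite.sheafHom (O := X.sheaf) F ⋙ Scheme.Modules.pushforward f) :=
  Functor.associator _ _ _ ≪≫
    Functor.isoWhiskerLeft (ModSite.sheafHom (O := X.sheaf) F)
      (Groth.Agent.Lib.ProjFormulaFLF23.projNatIso f N hN) ≪≫
    (Functor.associator _ _ _).symm ≪≫
    Functor.isoWhiskerRight (sheafHomTensorComm F ((Scheme.Modules.pullback f).obj N)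
      (Groth.Agent.Lib.FinLocFree2.isFinLocFree_pullback f hN)) (Scheme.Modules.pushforward f) ≪≫
    Functor.associator _ _ _

/-- `f_* ℋom(F ⊗ L, -) ≅ f_* ℋom(F, - ⊗ L^∨)` for `L` finite locally free. -/
noncomputable def relHomDualIso (F L : X.Modules) (hL : FlatMod.IsFinLocFree L)
    [ModSite.HasSheafHom (O := X.sheaf) F] [ModSite.HasSheafHom (O := X.sheaf) L]
    [ModSite.HasSheafHom (O := X.sheaf) (CohB1.tensorMod F L)] :
    (ModSite.sheafHom (O := X.sheaf) (CohB1.tensorMod F L) ⋙ Scheme.Modules.pushforward f) ⋙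
        𝟭 Y.Modules ≅
      tR (dualSh L) ⋙ (ModSite.sheafHom (O := X.sheaf) F ⋙ Scheme.Modules.pushforward f) :=
  Functor.rightUnitor _ ≪≫
    Functor.isoWhiskerRight (sheafHomCompIso F L ≪≫
      Functor.isoWhiskerRight (sheafHomTensorIso hL) (ModSite.sheafHom (O := X.sheaf) F))
      (Scheme.Modules.pushforward f) ≪≫
    Functor.associator _ _ _

lemma injective_tR_dualSh {L : X.Modules} (hL : FlatMod.IsFinLocFree L)
    [ModSite.HasSheafHom (O := X.sheaf) L] (I : ModSite.Mod X.sheaf) (hI : Injective I) :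
    Injective ((tR (dualSh L)).obj I) := by
  let adj : tensorRightFunctor L ⊣ tR (dualSh L) :=
    (adjDual hL).ofNatIsoRight (tensorRightFunctorIso (dualShIso L).symm)
  have hflat : PreservesFiniteLimits (tensorRightFunctor L) :=
    Groth.Agent.Lib.ProjFormulaFLF23.preservesFiniteLimits_tensorRightFunctor L
      (Groth.Agent.Lib.FlatModClosure.isFlat_of_isFinLocFree hL)
  have hmono : (tensorRightFunctor L).PreservesMonomorphisms := by
    have : PreservesLimitsOfShape WalkingCospan (tensorRightFunctor L) := inferInstance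
    exact preservesMonomorphisms_of_preservesLimitsOfShape _
  exact @Injective.injective_of_adjoint _ _ _ _ _ _ hmono adj I hI

lemma preservesFiniteLimits_tR {M : X.Modules} (hM : FlatMod.IsFinLocFree M) :
    PreservesFiniteLimits (tR M) :=
  Groth.Agent.Lib.ProjFormulaFLF23.preservesFiniteLimits_tensorRightFunctor M
    (Groth.Agent.Lib.FlatModClosure.isFlat_of_isFinLocFree hM)

/-- `Ext^p_f(F ⊗ L, G ⊗ f^*N) ≅ Ext^p_f(F, G ⊗ L^∨) ⊗ N` -/
theorem nonempty_relExt_iso (F G L : X.Modules) (N : Y.Modules)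
    (hL : FlatMod.IsFinLocFree L) (hN : FlatMod.IsFinLocFree N) (p : ℕ)
    [ModSite.HasSheafHom (O := X.sheaf) F] [ModSite.HasSheafHom (O := X.sheaf) L]
    [ModSite.HasSheafHom (O := X.sheaf) (CohB1.tensorMod F L)]
    [HasInjectiveResolutions (ModSite.Mod X.sheaf)]
    [(ModSite.sheafHom (O := X.sheaf) F ⋙ Scheme.Modules.pushforward f).Additive]
    [(ModSite.sheafHom (O := X.sheaf) (CohB1.tensorMod F L) ⋙ Scheme.Modules.pushforward f).Additive] :
    Nonempty (((ModSite.sheafHom (O := X.sheaf) (CohB1.tensorMod F L) ⋙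
          Scheme.Modules.pushforward f).rightDerived p).obj
        (CohB1.tensorMod G ((Scheme.Modules.pullback f).obj N)) ≅
      CohB1.tensorMod (((ModSite.sheafHom (O := X.sheaf) F ⋙
          Scheme.Modules.pushforward f).rightDerived p).obj
        (CohB1.tensorMod G (dualSh L))) N) := by
  have hfN := Groth.Agent.Lib.FinLocFree2.isFinLocFree_pullback f hN
  have h1 := preservesFiniteLimits_tR_dualSh hL
  have h2 := preservesFiniteLimits_sheafHom (X := X) F
  have h3 := preservesFiniteLimits_sheafHom (X := X) (CohB1.tensorMod F L)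
  have h4 : PreservesFiniteLimits (tR ((Scheme.Modules.pullback f).obj N)) :=
    preservesFiniteLimits_tR hfN
  have h5 : PreservesFiniteLimits (tensorRightFunctor N) := preservesFiniteLimits_tR hN
  have hp : PreservesFiniteLimits (Scheme.Modules.pushforward f) := inferInstance
  have h6 : PreservesFiniteLimits (ModSite.sheafHom (O := X.sheaf) F ⋙
      Scheme.Modules.pushforward f) :=
    @comp_preservesFiniteLimits _ _ _ _ _ _ (ModSite.sheafHom (O := X.sheaf) F)
      (Scheme.Modules.pushforward f) h2 hp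
  have h7 : PreservesFiniteLimits (ModSite.sheafHom (O := X.sheaf) (CohB1.tensorMod F L) ⋙
      Scheme.Modules.pushforward f) :=
    @comp_preservesFiniteLimits _ _ _ _ _ _ (ModSite.sheafHom (O := X.sheaf) (CohB1.tensorMod F L))
      (Scheme.Modules.pushforward f) h3 hp
  obtain ⟨i1⟩ := Groth.Agent.Lib.DerivedBCAcyc.nonempty_natIso
    (Φ := ModSite.sheafHom (O := X.sheaf) (CohB1.tensorMod F L) ⋙ Scheme.Modules.pushforward f)
    (Φ' := ModSite.sheafHom (O := X.sheaf) F ⋙ Scheme.Modules.pushforward f)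
    (R := tR (dualSh L)) (S := 𝟭 Y.Modules) (relHomDualIso f F L hL)
    (fun I hI q => by
      have := injective_tR_dualSh hL I hI
      exact Functor.isZero_rightDerived_obj_injective_succ _ q _) p
  obtain ⟨i2⟩ := Groth.Agent.Lib.DerivedBCAcyc.nonempty_natIso
    (Φ := ModSite.sheafHom (O := X.sheaf) F ⋙ Scheme.Modules.pushforward f)
    (Φ' := ModSite.sheafHom (O := X.sheaf) F ⋙ Scheme.Modules.pushforward f)
    (R := tR ((Scheme.Modules.pullback f).obj N)) (S := tensorRightFunctor N)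
    (relHomProjIso f F N hN)
    (fun I hI q => by
      have : Injective ((tR ((Scheme.Modules.pullback f).obj N)).obj I) :=
        @injective_tensorMod_right _ _ hfN I hI
      exact Functor.isZero_rightDerived_obj_injective_succ _ q _) p
  exact ⟨i1.app _ ≪≫
    ((ModSite.sheafHom (O := X.sheaf) F ⋙ Scheme.Modules.pushforward f).rightDerived p).mapIso
      ((tensorRightSwapIso ((Scheme.Modules.pullback f).obj N) (dualSh L)).app G) ≪≫
    (i2.app _).symm⟩

end Groth.Agent.Lib.RelExtDual23
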