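import Mathlib

/-!
# Relative finite presentation of modules (helper81)

`FPvia φ M`: the `A`-module `M` is finitely presented as a `P`-module through `φ : P →+* A`.
Transfer along surjections, independence of the polynomial presentation, base change.
-/

set_option autoImplicit false
set_option linter.style.haveILetI false

universe u

open TensorProduct

namespace Groth.Agent.Lib.RelFP81

section basic

variable {T P A : Type*} [CommRing T] [CommRing P] [CommRing A]

/-- `M` is finitely presented over `P` through the ring map `φ : P → A`. -/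
def FPvia (φ : P →+* A) (M : Type*) [AddCommGroup M] [Module A M] : Prop :=
  @Module.FinitePresentation P M _ _ (Module.compHom M φ)

theorem FPvia.congr {φ ψ : P →+* A} (h : φ = ψ) {M : Type*} [AddCommGroup M] [Module A M]
    (hM : FPvia φ M) : FPvia ψ M := h ▸ hM

/-- restriction along a surjection with finitely generated kernel. -/
theorem FPvia.comp_of_surjective_of_fg {π : T →+* P} (hπ : Function.Surjective π)
    (hker : (RingHom.ker π).FG) (φ : P →+* A) (M : Type*) [AddCommGroup M] [Module A M]
    (h : FPvia φ M) : FPvia (φ.comp π) M := by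
  letI : Module P M := Module.compHom M φ
  letI : Module T M := Module.compHom M (φ.comp π)
  letI : Algebra T P := π.toAlgebra
  haveI : IsScalarTower T P M := ⟨fun t p m => by
    change φ (π t * p) • m = (φ (π t)) • (φ p • m)
    rw [map_mul, mul_smul]⟩
  haveI : Module.FinitePresentation P M := h
  haveI : Module.FinitePresentation T P := by
    apply Module.finitePresentation_of_surjective (Algebra.linearMap T P) hπ
    have : LinearMap.ker (Algebra.linearMap T P) = RingHom.ker π := by
      ext x
      simp only [LinearMap.mem_ker, Algebra.linearMap_apply, RingHom.mem_ker]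
      rfl
    rw [this]
    exact hker
  exact Module.FinitePresentation.trans T M P

/-- descent along a surjection. -/
theorem FPvia.of_comp_of_surjective {π : T →+* P} (hπ : Function.Surjective π)
    (φ : P →+* A) (M : Type*) [AddCommGroup M] [Module A M]
    (h : FPvia (φ.comp π) M) : FPvia φ M := by
  letI : Module P M := Module.compHom M φ
  letI : Module T M := Module.compHom M (φ.comp π)
  letI : Algebra T P := π.toAlgebra
  haveI : IsScalarTower T P M := ⟨fun t p m => by
    change φ (π t * p) • m = (φ (π t)) • (φ p • m)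
    rw [map_mul, mul_smul]⟩
  haveI : Module.FinitePresentation T M := h
  have hbc : IsBaseChange P (LinearMap.id : M →ₗ[T] M) := by
    apply IsBaseChange.of_lift_unique
    intro Q _ _ _ _ g
    refine ⟨{ toFun := g, map_add' := g.map_add, map_smul' := ?_ }, ?_, ?_⟩
    · intro p m
      obtain ⟨t, rfl⟩ := hπ p
      have h1 : (π t) • m = t • m := (algebraMap_smul P t m)
      have h2 : (π t) • g m = t • g m := (algebraMap_smul P t (g m))
      simp only [RingHom.id_apply]
      rw [h1, h2, g.map_smul]
    · ext m
      rfl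
    · intro g' hg'
      ext m
      exact LinearMap.congr_fun hg' m
  exact FinitePresentation.of_isBaseChange _ hbc

end basic

section indep

variable {R A : Type*} [CommRing R] [CommRing A] [Algebra R A]
variable {σ τ : Type*} [Finite σ] [Finite τ]

/-- independence of the polynomial presentation. -/
theorem FPvia.indep (φ : MvPolynomial σ R →ₐ[R] A) (ψ : MvPolynomial τ R →ₐ[R] A)
    (hφ : Function.Surjective φ) (hψ : Function.Surjective ψ)
    (M : Type*) [AddCommGroup M] [Module A M]
    (h : FPvia φ.toRingHom M) : FPvia ψ.toRingHom M := by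
  choose g hg using fun j : τ => hφ (ψ (MvPolynomial.X j))
  choose h' hh using fun i : σ => hψ (φ (MvPolynomial.X i))
  let πP : MvPolynomial (σ ⊕ τ) R →ₐ[R] MvPolynomial σ R :=
    MvPolynomial.aeval (Sum.elim MvPolynomial.X g)
  let πQ : MvPolynomial (σ ⊕ τ) R →ₐ[R] MvPolynomial τ R :=
    MvPolynomial.aeval (Sum.elim h' MvPolynomial.X)
  have hcomm : φ.comp πP = ψ.comp πQ := by
    apply MvPolynomial.algHom_ext
    rintro (i | j)
    · simp [πP, πQ, hh]
    · simp [πP, πQ, hg]
  have hsP : Function.Surjective πP := by
    intro p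
    refine ⟨MvPolynomial.rename Sum.inl p, ?_⟩
    simp only [πP, MvPolynomial.aeval_rename]
    have : (Sum.elim MvPolynomial.X g ∘ Sum.inl : σ → MvPolynomial σ R) = MvPolynomial.X := rfl
    rw [this, MvPolynomial.aeval_X_left, AlgHom.id_apply]
  have hsQ : Function.Surjective πQ := by
    intro p
    refine ⟨MvPolynomial.rename Sum.inr p, ?_⟩
    simp only [πQ, MvPolynomial.aeval_rename]
    have : (Sum.elim h' MvPolynomial.X ∘ Sum.inr : τ → MvPolynomial τ R) = MvPolynomial.X := rfl
    rw [this, MvPolynomial.aeval_X_left, AlgHom.id_apply]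
  have hkP : (RingHom.ker πP.toRingHom).FG :=
    Algebra.FinitePresentation.ker_fG_of_surjective πP hsP
  have h1 := FPvia.comp_of_surjective_of_fg (π := πP.toRingHom) hsP hkP φ.toRingHom M h
  have h2 : FPvia (ψ.toRingHom.comp πQ.toRingHom) M :=
    h1.congr (congrArg AlgHom.toRingHom hcomm)
  exact FPvia.of_comp_of_surjective (π := πQ.toRingHom) hsQ ψ.toRingHom M h2

end indep

section poly

variable {P A : Type*} [CommRing P] [CommRing A]

/-- polynomial extension: if `M` is f.p. over `P` through `α : P → A`, then `A[σ] ⊗_A M` is f.p.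
over `P[σ]` through `map α`. -/
theorem FPvia.mvPolynomial (α : P →+* A) (σ : Type*) (M : Type*) [AddCommGroup M] [Module A M]
    (hM : FPvia α M) :
    FPvia (MvPolynomial.map α : MvPolynomial σ P →+* MvPolynomial σ A)
      (MvPolynomial σ A ⊗[A] M) := by
  classical
  letI : Module P M := Module.compHom M α
  haveI : Module.FinitePresentation P M := hM
  letI : Module (MvPolynomial σ P) (MvPolynomial σ A ⊗[A] M) :=
    Module.compHom _ (MvPolynomial.map α : MvPolynomial σ P →+* MvPolynomial σ A)
  letI : Module P (MvPolynomial σ A ⊗[A] M) :=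
    Module.compHom _ ((MvPolynomial.map α : MvPolynomial σ P →+* MvPolynomial σ A).comp
      (algebraMap P (MvPolynomial σ P)))
  haveI : IsScalarTower P (MvPolynomial σ P) (MvPolynomial σ A ⊗[A] M) :=
    IsScalarTower.of_algebraMap_smul (fun p x => rfl)
  let f : M →ₗ[P] (MvPolynomial σ A ⊗[A] M) :=
    { toFun := fun m => 1 ⊗ₜ m
      map_add' := tmul_add 1
      map_smul' := by
        intro p m
        change (1 : MvPolynomial σ A) ⊗ₜ[A] (α p • m) =
          ((MvPolynomial.map α (MvPolynomial.C p) : MvPolynomial σ A)) •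
            ((1 : MvPolynomial σ A) ⊗ₜ[A] m)
        rw [MvPolynomial.map_C, TensorProduct.smul_tmul', smul_eq_mul, mul_one,
          ← TensorProduct.smul_tmul, MvPolynomial.smul_eq_C_mul, mul_one] }
  let Φ : MvPolynomial σ P ⊗[P] M →ₗ[MvPolynomial σ P] (MvPolynomial σ A ⊗[A] M) :=
    f.liftBaseChange (MvPolynomial σ P)
  let eT : MvPolynomial σ P ⊗[P] M ≃ₗ[P] ((σ →₀ ℕ) →₀ M) :=
    (TensorProduct.congr (MvPolynomial.basisMonomials σ P).repr (LinearEquiv.refl P M)).trans
      (TensorProduct.finsuppScalarLeft P M (σ →₀ ℕ))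
  let eB : MvPolynomial σ A ⊗[A] M ≃ₗ[A] ((σ →₀ ℕ) →₀ M) :=
    (TensorProduct.congr (MvPolynomial.basisMonomials σ A).repr (LinearEquiv.refl A M)).trans
      (TensorProduct.finsuppScalarLeft A M (σ →₀ ℕ))
  have key : ∀ x, eB (Φ x) = eT x := by
    intro x
    induction x using TensorProduct.induction_on with
    | zero => simp
    | tmul t m =>
      ext d
      have h1 : Φ (t ⊗ₜ[P] m) = (MvPolynomial.map α t : MvPolynomial σ A) ⊗ₜ[A] m := by
        change (MvPolynomial.map α t : MvPolynomial σ A) • ((1 : MvPolynomial σ A) ⊗ₜ[A] m) = _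
        rw [TensorProduct.smul_tmul', smul_eq_mul, mul_one]
      rw [h1]
      simp only [eB, eT, LinearEquiv.trans_apply, TensorProduct.congr_tmul, LinearEquiv.refl_apply,
        TensorProduct.finsuppScalarLeft_apply_tmul_apply]
      change MvPolynomial.coeff d (MvPolynomial.map α t) • m = α (MvPolynomial.coeff d t) • m
      rw [MvPolynomial.coeff_map]
    | add x y hx hy => rw [map_add, map_add, map_add, hx, hy]
  have hbij : Function.Bijective Φ := by
    have h2 : (Φ : _ → _) = eB.symm ∘ eT := by
      funext x
      rw [Function.comp_apply, ← key x, LinearEquiv.symm_apply_apply]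
    rw [h2]
    exact eB.symm.bijective.comp eT.bijective
  exact Module.FinitePresentation.of_equiv (LinearEquiv.ofBijective Φ hbij)

end poly

section quot

theorem fg_smul {B X : Type*} [CommRing B] [AddCommGroup X] [Module B X] {I : Ideal B}
    {N : Submodule B X} (hI : I.FG) (hN : N.FG) : (I • N).FG := by
  classical
  obtain ⟨s, rfl⟩ := hI
  obtain ⟨t, rfl⟩ := hN
  rw [Submodule.span_smul_span]
  refine ⟨s.biUnion fun a => t.image fun b => a • b, ?_⟩
  congr 1
  ext x
  simp only [Finset.coe_biUnion, Finset.coe_image, Set.mem_iUnion, Set.mem_image, Finset.mem_coe,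
    exists_prop]
  constructor
  · rintro ⟨a, ha, b, hb, rfl⟩
    exact ⟨a, ha, b, hb, rfl⟩
  · rintro ⟨a, ha, b, hb, rfl⟩
    exact ⟨a, ha, b, hb, rfl⟩

variable {T A B A' : Type*} [CommRing T] [CommRing A] [CommRing B] [CommRing A']
  [Algebra A B] [Algebra A A']

set_option backward.isDefEq.respectTransparency false in
/-- quotient step: if `B ⊗_A M` is f.p. over `T` through a surjection `χ₀ : T → B` and
`β : B → A'` is a surjective `A`-algebra map with f.g. kernel then `A' ⊗_A M` is f.p. over `T`
through `β ∘ χ₀`. -/
theorem FPvia.quot (χ₀ : T →+* B) (hχ₀ : Function.Surjective χ₀) (β : B →ₐ[A] A')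
    (hβ : Function.Surjective β) (hker : (RingHom.ker β.toRingHom).FG)
    (M : Type*) [AddCommGroup M] [Module A M] (hX : FPvia χ₀ (B ⊗[A] M)) :
    FPvia (β.toRingHom.comp χ₀) (A' ⊗[A] M) := by
  letI : Algebra T B := χ₀.toAlgebra
  letI : Module T (B ⊗[A] M) := Module.compHom _ χ₀
  haveI : IsScalarTower T B (B ⊗[A] M) := IsScalarTower.of_algebraMap_smul (fun t x => rfl)
  haveI : Module.FinitePresentation T (B ⊗[A] M) := hX
  letI : Module B (A' ⊗[A] M) := Module.compHom _ β.toRingHom
  letI : Module T (A' ⊗[A] M) := Module.compHom _ (β.toRingHom.comp χ₀)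
  haveI : IsScalarTower T B (A' ⊗[A] M) := IsScalarTower.of_algebraMap_smul (fun t x => rfl)
  haveI : IsScalarTower A B (A' ⊗[A] M) := ⟨fun a b x => by
    change β (a • b) • x = a • (β b • x)
    rw [map_smul, smul_assoc]⟩
  let g : M →ₗ[A] (A' ⊗[A] M) := TensorProduct.mk A A' M 1
  let Φ : B ⊗[A] M →ₗ[B] (A' ⊗[A] M) := g.liftBaseChange B
  have hΦ : ∀ x, Φ x = LinearMap.rTensor M β.toLinearMap x := by
    intro x
    induction x using TensorProduct.induction_on with
    | zero => simp
    | tmul b m =>
      change β b • ((1 : A') ⊗ₜ[A] m) = (β b) ⊗ₜ[A] m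
      rw [TensorProduct.smul_tmul', smul_eq_mul, mul_one]
    | add x y hx hy => rw [map_add, map_add, hx, hy]
  have hsurj : Function.Surjective Φ := by
    intro y
    obtain ⟨x, hx⟩ := LinearMap.rTensor_surjective M (g := β.toLinearMap) hβ y
    exact ⟨x, (hΦ x).trans hx⟩
  have hmem : ∀ z : (LinearMap.ker β.toLinearMap) ⊗[A] M,
      LinearMap.rTensor M (LinearMap.ker β.toLinearMap).subtype z ∈
        (RingHom.ker β.toRingHom) • (⊤ : Submodule B (B ⊗[A] M)) := by
    intro z
    induction z using TensorProduct.induction_on with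
    | zero => simp
    | tmul k m =>
      change ((k : B) ⊗ₜ[A] m) ∈ _
      have h1 : (k : B) ⊗ₜ[A] m = (k : B) • ((1 : B) ⊗ₜ[A] m) := by
        rw [TensorProduct.smul_tmul', smul_eq_mul, mul_one]
      rw [h1]
      have hk : (k : B) ∈ RingHom.ker β.toRingHom := LinearMap.mem_ker.mp k.2
      exact Submodule.smul_mem_smul hk Submodule.mem_top
    | add x y hx hy =>
      rw [map_add]
      exact Submodule.add_mem _ hx hy
  have hkerΦ : LinearMap.ker Φ =
      (RingHom.ker β.toRingHom) • (⊤ : Submodule B (B ⊗[A] M)) := by
    apply le_antisymm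
    · intro x hx
      rw [LinearMap.mem_ker, hΦ] at hx
      have hex := rTensor_exact M (LinearMap.exact_subtype_ker_map β.toLinearMap) hβ
      obtain ⟨z, rfl⟩ := (hex x).mp hx
      exact hmem z
    · rw [Submodule.smul_le]
      intro k hk x _
      rw [LinearMap.mem_ker, map_smul]
      change β k • Φ x = 0
      have hk0 : β k = 0 := (RingHom.mem_ker).mp hk
      rw [hk0, zero_smul]
  have hfin : (⊤ : Submodule B (B ⊗[A] M)).FG := by
    have h1 : Module.Finite T (B ⊗[A] M) := inferInstance
    have h2 : Module.Finite B (B ⊗[A] M) := Module.Finite.of_restrictScalars_finite T B _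
    exact h2.fg_top
  have hfgB : (LinearMap.ker Φ).FG := hkerΦ ▸ fg_smul hker hfin
  have hfgT : (LinearMap.ker (Φ.restrictScalars T)).FG := by
    rw [LinearMap.ker_restrictScalars]
    exact hfgB.restrictScalars_of_surjective hχ₀
  exact Module.finitePresentation_of_surjective (Φ.restrictScalars T) hsurj hfgT

end quot

section baseChange

variable {P A A' : Type*} [CommRing P] [CommRing A] [CommRing A'] [Algebra A A']
  [Algebra.FinitePresentation A A']

/-- base change along a finitely presented algebra `A → A'`: there is a surjection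
`χ : P[y₁..y_m] → A'` extending `P → A → A'` through which `A' ⊗_A M` is finitely presented. -/
theorem FPvia.baseChange_core (α : P →+* A) (hα : Function.Surjective α)
    (M : Type*) [AddCommGroup M] [Module A M] (hM : FPvia α M) :
    ∃ (m : ℕ) (χ : MvPolynomial (Fin m) P →+* A'), Function.Surjective χ ∧
      (∀ p : P, χ (MvPolynomial.C p) = algebraMap A A' (α p)) ∧ FPvia χ (A' ⊗[A] M) := by
  obtain ⟨m, β, hβ, hker⟩ := Algebra.FinitePresentation.out (R := A) (A := A')
  refine ⟨m, β.toRingHom.comp (MvPolynomial.map α),
    hβ.comp (MvPolynomial.map_surjective α hα), ?_, ?_⟩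
  · intro p
    change β (MvPolynomial.map α (MvPolynomial.C p)) = _
    rw [MvPolynomial.map_C, ← MvPolynomial.algebraMap_eq, β.commutes]
  · exact FPvia.quot (MvPolynomial.map α) (MvPolynomial.map_surjective α hα) β hβ hker M
      (FPvia.mvPolynomial α (Fin m) M hM)

end baseChange

section indep2

variable {R A : Type*} [CommRing R] [CommRing A] [Algebra R A]

/-- independence, general form: f.p. through a surjection from any finitely presented
`R`-algebra implies f.p. through any surjection from a polynomial ring over `R`. -/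
theorem FPvia.of_finitePresentation {P' : Type*} [CommRing P'] [Algebra R P']
    [Algebra.FinitePresentation R P'] (θ : P' →ₐ[R] A) (hθ : Function.Surjective θ)
    {τ : Type*} [Finite τ] (ψ : MvPolynomial τ R →ₐ[R] A) (hψ : Function.Surjective ψ)
    (M : Type*) [AddCommGroup M] [Module A M] (h : FPvia θ.toRingHom M) :
    FPvia ψ.toRingHom M := by
  obtain ⟨n, ρ, hρ, hker⟩ := Algebra.FinitePresentation.out (R := R) (A := P')
  have h1 := FPvia.comp_of_surjective_of_fg (π := ρ.toRingHom) hρ hker θ.toRingHom M h
  exact FPvia.indep (θ.comp ρ) ψ (hθ.comp hρ) hψ M h1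

end indep2

section equiv

variable {P A : Type*} [CommRing P] [CommRing A]

/-- transport along an `A`-linear equivalence. -/
theorem FPvia.of_linearEquiv (φ : P →+* A) {M N : Type*} [AddCommGroup M] [Module A M]
    [AddCommGroup N] [Module A N] (e : M ≃ₗ[A] N) (h : FPvia φ M) : FPvia φ N := by
  letI : Module P M := Module.compHom M φ
  letI : Module P N := Module.compHom N φ
  haveI : Module.FinitePresentation P M := h
  let e' : M ≃ₗ[P] N :=
    { e.toAddEquiv with
      map_smul' := fun p m => by
        change e (φ p • m) = φ p • e m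
        rw [e.map_smul] }
  exact Module.FinitePresentation.of_equiv e'

end equiv

end Groth.Agent.Lib.RelFP81
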