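import Groth.Agent.Lib.RelFP81

/-!
# Relative finite presentation of modules, part 2 (helper81)

Localization gluing for `FPvia`.
-/

set_option autoImplicit false
set_option linter.style.haveILetI false

universe u

open TensorProduct

namespace Groth.Agent.Lib.RelFP81

section ofPoly

variable {R A : Type*} [CommRing R] [CommRing A] [Algebra R A]

/-- f.p. through a polynomial surjection implies f.p. through any surjection from a
finite type `R`-algebra. -/
theorem FPvia.of_polynomial {P' : Type*} [CommRing P'] [Algebra R P'] [hP : Algebra.FiniteType R P']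
    (θ : P' →ₐ[R] A) (hθ : Function.Surjective θ)
    {τ : Type*} [Finite τ] (ψ : MvPolynomial τ R →ₐ[R] A) (hψ : Function.Surjective ψ)
    (M : Type*) [AddCommGroup M] [Module A M] (h : FPvia ψ.toRingHom M) :
    FPvia θ.toRingHom M := by
  obtain ⟨n, ρ, hρ⟩ := Algebra.FiniteType.iff_quotient_mvPolynomial''.mp hP
  have h1 : FPvia (θ.comp ρ).toRingHom M := FPvia.indep ψ (θ.comp ρ) hψ (hθ.comp hρ) M h
  exact FPvia.of_comp_of_surjective (π := ρ.toRingHom) hρ θ.toRingHom M h1

end ofPoly

section loc

/-- from f.p. of `M_f` through `θ : P_F → A'` to f.p. of the `P`-module localization `M_F`. -/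
theorem fp_localizedModule_of_FPvia {P A : Type*} [CommRing P] [CommRing A] [Algebra P A]
    (F : P) (f : A) (hFf : algebraMap P A F = f)
    (A' : Type*) [CommRing A'] [Algebra A A']
    (θ : Localization.Away F →+* A')
    (hθ : ∀ p : P, θ (algebraMap P (Localization.Away F) p) = algebraMap A A' (algebraMap P A p))
    (M : Type*) [AddCommGroup M] [Module A M] [Module P M] [IsScalarTower P A M]
    (N : Type*) [AddCommGroup N] [Module A N] [Module A' N] [IsScalarTower A A' N]
    (g : M →ₗ[A] N) [hg : IsLocalizedModule (Submonoid.powers f) g]
    (h : FPvia θ N) :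
    Module.FinitePresentation (Localization.Away F) (LocalizedModule (Submonoid.powers F) M) := by
  subst hFf
  letI : Module (Localization.Away F) N := Module.compHom N θ
  letI : Module P N := Module.compHom N (algebraMap P A)
  haveI : IsScalarTower P A N := ⟨fun p a n => by
    change (p • a) • n = algebraMap P A p • (a • n)
    rw [Algebra.smul_def, mul_smul]⟩
  haveI : IsScalarTower P (Localization.Away F) N := ⟨fun p q n => by
    change θ (p • q) • n = algebraMap P A p • (θ q • n)
    rw [Algebra.smul_def, map_mul, hθ, mul_smul, algebraMap_smul]⟩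
  haveI : Module.FinitePresentation (Localization.Away F) N := h
  haveI : IsLocalizedModule (Submonoid.powers F) (g.restrictScalars P) :=
    IsLocalizedModule.restrictScalars_powers F g
  let e : LocalizedModule (Submonoid.powers F) M ≃ₗ[P] N :=
    IsLocalizedModule.iso (Submonoid.powers F) (g.restrictScalars P)
  let e' : LocalizedModule (Submonoid.powers F) M ≃ₗ[Localization.Away F] N :=
    e.extendScalarsOfIsLocalization (Submonoid.powers F) (Localization.Away F)
  exact Module.FinitePresentation.of_equiv e'.symm

/-- gluing: `M` is f.p. over `P` if the localizations `M_{F i}` are f.p. over `P_{F i}`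
for elements `F i` whose images generate the unit ideal of a quotient `A` of `P` over which
`M` is a module. -/
theorem fp_of_cover {P A : Type*} [CommRing P] [CommRing A] [Algebra P A]
    (hα : Function.Surjective (algebraMap P A))
    (M : Type*) [AddCommGroup M] [Module A M] [Module P M] [IsScalarTower P A M]
    {ι : Type*} (F : ι → P)
    (hF : Ideal.span (Set.range (fun i => algebraMap P A (F i))) = ⊤)
    (h : ∀ i, Module.FinitePresentation (Localization.Away (F i))
      (LocalizedModule (Submonoid.powers (F i)) M)) :
    Module.FinitePresentation P M := by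
  classical
  have h1 : (1 : A) ∈ Ideal.span (Set.range (fun i => algebraMap P A (F i))) := by
    rw [hF]; exact Submodule.mem_top
  obtain ⟨c, hc⟩ := (Finsupp.mem_span_range_iff_exists_finsupp).mp h1
  choose c' hc' using fun i => hα (c i)
  let G : P := 1 - c.sum (fun i _ => c' i * F i)
  have hG : algebraMap P A G = 0 := by
    simp only [G, map_sub, map_one, Finsupp.sum, map_sum, map_mul, hc']
    rw [sub_eq_zero]
    rw [← hc]
    simp [Finsupp.sum]
  let s : Set P := Set.range F ∪ {G}
  have hs : Ideal.span s = ⊤ := by
    rw [Ideal.eq_top_iff_one]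
    have : (1 : P) = G + c.sum (fun i _ => c' i * F i) := by simp [G]
    rw [this]
    refine Ideal.add_mem _ (Ideal.subset_span (Or.inr rfl)) ?_
    refine Ideal.sum_mem _ fun i _ => ?_
    exact Ideal.mul_mem_left _ _ (Ideal.subset_span (Or.inl ⟨i, rfl⟩))
  refine Module.FinitePresentation.of_localizationSpan s hs ?_
  rintro ⟨g, (⟨i, rfl⟩ | hg)⟩
  · exact h i
  · have hg' : g = G := hg
    subst hg'
    haveI : Subsingleton (LocalizedModule (Submonoid.powers G) M) := by
      rw [LocalizedModule.subsingleton_iff]
      intro m
      refine ⟨G, Submonoid.mem_powers G, ?_⟩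
      rw [← algebraMap_smul A G m, hG, zero_smul]
    infer_instance

end loc

end Groth.Agent.Lib.RelFP81
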