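import Groth.Agent.Lib.TorCoker21
import Groth.Agent.Lib.TorAmpTri21
import Mathlib.Algebra.Homology.Embedding.CochainComplex

/-!
# Derived-tensor tor amplitude implies flat-representative tor amplitude (helper21)
-/

set_option autoImplicit false
universe u v
open CategoryTheory Limits AlgebraicGeometry
attribute [local instance] HasDerivedCategory.standard

namespace Groth.Agent.Lib.TorAmpFlat21

open Groth.Agent.Lib.ModSiteKFlatBdd66 Groth.Agent.Lib.LTensorMod21 Groth.Agent.Lib.TorAmp21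
  Groth.Agent.Lib.ModSiteFlat Groth.Agent.Lib.TorOne21 Groth.Agent.Lib.TorCoker21

variable {X : Scheme.{u}}

/-- the unit module `O_X` -/
noncomputable abbrev unitMod (X : Scheme.{u}) : X.Modules := ModSite.unit X.sheaf

/-- `- ⊗ O_X ≅ id` on modules -/
noncomputable def tensorRightModUnitIso : DCoh.tensorRightMod (unitMod X) ≅ 𝟭 X.Modules :=
  tensorRightModIso (unitMod X) ≪≫
    (Groth.Agent.Lib.ModSiteTensorSymm66.braidBi X.sheaf).symm.app (unitMod X) ≪≫ unitTensIso X.sheaf

/-- `- ⊗ O_X ≅ id` on complexes -/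
noncomputable def tensorCxModUnitIso :
    tensorCxMod (unitMod X) ≅ 𝟭 (CochainComplex X.Modules ℤ) :=
  NatIso.mapHomologicalComplex tensorRightModUnitIso (ComplexShape.up ℤ) ≪≫
    Functor.mapHomologicalComplexIdIso X.Modules (ComplexShape.up ℤ)

theorem hasTorAmplitudeIn_of_iso {K L : DCoh.D X} (e : K ≅ L) (a b : ℤ)
    (h : DCoh.HasTorAmplitudeIn a b K) : DCoh.HasTorAmplitudeIn a b L := by
  intro F _ i hi
  exact (h F i hi).of_iso ((DerivedCategory.homologyFunctor X.Modules i).mapIso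
    ((DCoh.LTensorMod F).mapIso e.symm))

/-- the termwise tensor product of a K-flat complex of tor amplitude `[a, b]` is exact outside `[a, b]` -/
theorem exactAt_tensorCxMod (P : CochainComplex X.Modules ℤ) (hP : ModSite.IsKFlat (O := X.sheaf) P)
    (a b : ℤ) (h : DCoh.HasTorAmplitudeIn a b (DCoh.toD X P)) (G : X.Modules) (i : ℤ)
    (hi : i < a ∨ b < i) : ((tensorCxMod G).obj P).ExactAt i := by
  have := hasLTensorMod G
  rw [HomologicalComplex.exactAt_iff_isZero_homology]
  exact (h G i hi).of_iso (HDIso G P hP i).symm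

/-- a K-flat complex of tor amplitude `[a, b]` is exact outside `[a, b]` -/
theorem exactAt_of_torAmp (P : CochainComplex X.Modules ℤ) (hP : ModSite.IsKFlat (O := X.sheaf) P)
    (a b : ℤ) (h : DCoh.HasTorAmplitudeIn a b (DCoh.toD X P)) (i : ℤ)
    (hi : i < a ∨ b < i) : P.ExactAt i :=
  (exactAt_tensorCxMod P hP a b h (unitMod X) i hi).of_iso (tensorCxModUnitIso.app P)

/-- bounded above flat resolutions, typed on `X.Modules` -/
theorem exists_flat_resolution_le (W : CochainComplex X.Modules ℤ) (b : ℤ) (hW : W.IsStrictlyLE b) :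
    ∃ (P : CochainComplex X.Modules ℤ) (r : P ⟶ W),
      P.IsStrictlyLE b ∧ (∀ n, ModSite.IsFlat (O := X.sheaf) (P.X n)) ∧ QuasiIso r := by
  obtain ⟨P, r, hP, hfl, -, hr⟩ :=
    @Groth.Agent.Lib.ModSiteKFlatRes66.exists_flat_resolution _ _ _ X.sheaf W b hW
  exact ⟨P, r, hP, hfl, hr⟩

/-- **derived-tensor tor amplitude implies flat-representative tor amplitude** -/
theorem hasFlatAmplitudeIn_of_hasTorAmplitudeIn (E : DCoh.D X) (a b : ℤ)
    (h : DCoh.HasTorAmplitudeIn a b E) : DCoh.HasFlatAmplitudeIn a b E := by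
  -- a K-flat representative
  let E₀ : CochainComplex X.Modules ℤ := DerivedCategory.Q.objPreimage E
  let e₀ : DerivedCategory.Q.obj E₀ ≅ E := DerivedCategory.Q.objObjPreimageIso E
  obtain ⟨P, p, hP, -, hp⟩ := Groth.Agent.Lib.TorAmpTri21.exists_resolution E₀
  have ip : IsIso (DerivedCategory.Q.map p) := inferInstance
  let e₁ : DCoh.toD X P ≅ E := @asIso _ _ _ _ (DerivedCategory.Q.map p) ip ≪≫ e₀
  have hP' : DCoh.HasTorAmplitudeIn a b (DCoh.toD X P) := hasTorAmplitudeIn_of_iso e₁.symm a b h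
  -- truncate above
  have hPle : P.IsLE b := by
    rw [CochainComplex.isLE_iff]
    intro i hi
    exact exactAt_of_torAmp P hP a b hP' i (Or.inr hi)
  have q1 : QuasiIso (P.ιTruncLE b) := inferInstance
  -- bounded above flat resolution
  obtain ⟨P₁, r, hP₁le, hfl, hr⟩ := exists_flat_resolution_le (P.truncLE b) b inferInstance
  have hP₁K : ModSite.IsKFlat (O := X.sheaf) P₁ :=
    @isKFlat_of_isStrictlyLE _ _ _ X.sheaf P₁ b hP₁le hfl
  have ir : IsIso (DerivedCategory.Q.map r) := inferInstance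
  have iι : IsIso (DerivedCategory.Q.map (P.ιTruncLE b)) := inferInstance
  let e₂ : DCoh.toD X P₁ ≅ E := @asIso _ _ _ _ (DerivedCategory.Q.map r) ir ≪≫
    @asIso _ _ _ _ (DerivedCategory.Q.map (P.ιTruncLE b)) iι ≪≫ e₁
  have hP₁' : DCoh.HasTorAmplitudeIn a b (DCoh.toD X P₁) := hasTorAmplitudeIn_of_iso e₂.symm a b h
  -- truncate below
  have hP₁ge : P₁.IsGE a := by
    rw [CochainComplex.isGE_iff]
    intro i hi
    exact exactAt_of_torAmp P₁ hP₁K a b hP₁' i (Or.inl hi)
  have q2 : QuasiIso (P₁.πTruncGE a) := inferInstance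
  have iπ : IsIso (DerivedCategory.Q.map (P₁.πTruncGE a)) := inferInstance
  let e₃ : DCoh.toD X (P₁.truncGE a) ≅ E :=
    (@asIso _ _ _ _ (DerivedCategory.Q.map (P₁.πTruncGE a)) iπ).symm ≪≫ e₂
  have hGE : (P₁.truncGE a).IsStrictlyGE a := inferInstance
  have hLE : (P₁.truncGE a).IsStrictlyLE b := inferInstance
  refine ⟨P₁.truncGE a, ?_, ?_, ⟨e₃⟩⟩
  · intro i hi
    rcases hi with hi | hi
    · exact (P₁.truncGE a).isZero_of_isStrictlyGE a i hi
    · exact (P₁.truncGE a).isZero_of_isStrictlyLE b i hi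
  · intro i
    apply Groth.Agent.Lib.StalkFlatConverse66.isFlat_stalkwise_of_siteFlat
    rcases lt_trichotomy i a with hi | rfl | hi
    · exact isFlat_of_isZero ((P₁.truncGE a).isZero_of_isStrictlyGE a i hi)
    · -- the cokernel
      have hc : ModSite.IsFlat (O := X.sheaf) (cokernel (P₁.d (i - 1) i)) :=
        isFlat_cokernel_of_exactAt P₁ (i - 1 - 1) (i - 1) i (by omega) (by omega) (hfl i)
          (fun G => exactAt_tensorCxMod P₁ hP₁K i b hP₁' G (i - 1) (Or.inl (by omega)))
      have e1 := IsColimit.coconePointUniqueUpToIso (cokernelIsCokernel (P₁.d (i - 1) i))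
          (P₁.opcyclesIsCokernel (i - 1) i (by simp))
      have e : cokernel (P₁.d (i - 1) i) ≅ (P₁.truncGE i).X i :=
        e1 ≪≫ (P₁.truncGEXIsoOpcycles i).symm
      exact isFlat_of_iso e hc
    · exact isFlat_of_iso (P₁.truncGEXIso a i hi).symm (hfl i)

end Groth.Agent.Lib.TorAmpFlat21
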