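/-
helper81: absolute flat amplitude of a bounded-above complex of O_X-modules is stalkwise (S6200).
-/
import Groth.Agent.Lib.TorAmpStalk81
import Groth.Agent.Lib.TorAmpKFlat35
import Groth.Agent.Lib.TorAmpFlat21
import Groth.Agent.Lib.LTensorMod21
import Groth.Agent.Lib.SemiFreeKProj35
import Groth.Agent.Lib.DCopower
import Groth.Agent.S11132

set_option autoImplicit false
set_option linter.style.haveILetI false
universe u
open CategoryTheory CategoryTheory.Limits AlgebraicGeometry MonoidalCategory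
attribute [local instance] HasDerivedCategory.standard

namespace Groth.Agent.Lib.TorAmpStalk81

open Groth.Agent.Lib.KFlat35 DerivedCategory Groth.Agent.Lib.TorAmpKFlat35

section Ring

variable {R : Type u} [CommRing R]

/-- the homology of `L ⊗ E` depends only on the class in the derived category of the K-flat complex `E` -/
theorem nonempty_homology_tensor_iso {E₁ E₂ : DRing.Cx R} (h₁ : IsKFlat E₁) (h₂ : IsKFlat E₂)
    (e : Q.obj E₁ ≅ Q.obj E₂) (L : DRing.Cx R) (i : ℤ) :
    Nonempty ((L ⊗ E₁).homology i ≅ (L ⊗ E₂).homology i) := by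
  obtain ⟨P, s, hP, hPf, -, hs, -⟩ :=
    Groth.Agent.Lib.SemiFreeKProj35.exists_kprojective_resolution E₁
  haveI := hP
  haveI := hs
  obtain ⟨t, ht⟩ := Groth.Agent.Lib.DCopower.exists_Q_map_eq P E₂ (Q.map s ≫ e.hom)
  haveI : IsIso (Q.map t) := by
    rw [ht]
    infer_instance
  haveI : QuasiIso t := (DerivedCategory.isIso_Q_map_iff_quasiIso (φ := t)).1 inferInstance
  haveI := quasiIso_tensorHom_left s hPf h₁ L
  haveI := quasiIso_tensorHom_left t hPf h₂ L
  exact ⟨(asIso (HomologicalComplex.homologyMap (HomologicalComplex.tensorHom (𝟙 L) s) i)).symm ≪≫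
    asIso (HomologicalComplex.homologyMap (HomologicalComplex.tensorHom (𝟙 L) t) i)⟩

/-- a K-flat complex of tor amplitude `[a, b]` (flat representative form): `N ⊗ C` is termwise exact outside `[a, b]` -/
theorem exact_whiskerLeft_of_hasTorAmplitudeIn (C : DRing.Cx R) (hC : IsKFlat C) (a b : ℤ)
    (h : DRing.HasTorAmplitudeIn R a b (DRing.toD C)) (N : ModuleCat.{u} R) (n : ℤ)
    (hn : n + 1 < a ∨ b < n + 1) :
    Function.Exact (N ◁ C.d n (n + 1)).hom (N ◁ C.d (n + 1) (n + 1 + 1)).hom := by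
  obtain ⟨E, hE, hfl, ⟨e⟩⟩ := h
  apply exact_whiskerLeft_of_isZero_homology
  have hEK : IsKFlat E := by
    refine isKFlat_of_flat_of_bddAbove E hfl b (fun i hi => hE i (Or.inr hi))
  obtain ⟨j⟩ := nonempty_homology_tensor_iso hC hEK e.symm (sg N) (n + 1)
  refine IsZero.of_iso ?_ j
  have h0 : IsZero ((HomologicalComplex.tensorObj (sg N) E).X (n + 1)) :=
    isZero_tensor_X N E (n + 1) (hE (n + 1) hn)
  exact (HomologicalComplex.exactAt_iff_isZero_homology _ _).1
    (HomologicalComplex.ExactAt.of_isZero h0)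

end Ring

section Sch

open Groth.Agent.Lib.StalkTensor81 Groth.Agent.Lib.LTensorMod21

variable {X : Scheme.{u}}

example (G M : X.Modules) : (DCoh.tensorRightMod G).obj M = (DCoh.tensorBi.obj M).obj G := rfl
example (G : X.Modules) {M M' : X.Modules} (φ : M ⟶ M') :
    (DCoh.tensorRightMod G).map φ = (DCoh.tensorBi.map φ).app G := rfl

/-- stalk of `M ⊗ G`, with `G_x` on the left -/
noncomputable def stalkTensorRightIso (x : X) (G M : X.Modules) :
    (DerSch.stalkFunctor X x).obj ((DCoh.tensorRightMod G).obj M) ≅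
      (DerSch.stalkFunctor X x).obj G ⊗ (DerSch.stalkFunctor X x).obj M :=
  stalkTensorIso x M G ≪≫ β_ _ _

theorem stalkTensorRightIso_naturality (x : X) (G : X.Modules) {M M' : X.Modules} (φ : M ⟶ M') :
    (DerSch.stalkFunctor X x).map ((DCoh.tensorRightMod G).map φ) ≫ (stalkTensorRightIso x G M').hom =
      (stalkTensorRightIso x G M).hom ≫
        (DerSch.stalkFunctor X x).obj G ◁ (DerSch.stalkFunctor X x).map φ := by
  have h := stalkTensorIso_naturality_left x φ G
  change (DerSch.stalkFunctor X x).map ((DCoh.tensorBi.map φ).app G) ≫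
    ((stalkTensorIso x M' G).hom ≫ (β_ _ _).hom) = ((stalkTensorIso x M G).hom ≫ (β_ _ _).hom) ≫ _
  rw [← Category.assoc, h, Category.assoc, Category.assoc]
  congr 1
  exact BraidedCategory.braiding_naturality_left _ _

theorem isZero_homology_stalk_tensorCxMod (G : X.Modules) (P : CochainComplex X.Modules ℤ) (x : X) (n : ℤ)
    (hex : Function.Exact
      ((DerSch.stalkFunctor X x).obj G ◁ ((stalkCx x).obj P).d n (n + 1)).hom
      ((DerSch.stalkFunctor X x).obj G ◁ ((stalkCx x).obj P).d (n + 1) (n + 1 + 1)).hom) :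
    IsZero (((stalkCx x).obj ((tensorCxMod G).obj P)).homology (n + 1)) := by
  rw [← HomologicalComplex.exactAt_iff_isZero_homology,
    HomologicalComplex.exactAt_iff' _ n (n + 1) (n + 1 + 1) (by simp) (by simp)]
  let S₂ : ShortComplex (ModuleCat.{u} (X.presheaf.stalk x)) :=
    ShortComplex.mk ((DerSch.stalkFunctor X x).obj G ◁ ((stalkCx x).obj P).d n (n + 1))
      ((DerSch.stalkFunctor X x).obj G ◁ ((stalkCx x).obj P).d (n + 1) (n + 1 + 1))
      (by rw [← MonoidalCategory.whiskerLeft_comp, HomologicalComplex.d_comp_d,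
        MonoidalPreadditive.whiskerLeft_zero])
  have h2 : S₂.Exact := (ShortComplex.ShortExact.moduleCat_exact_iff_function_exact S₂).2 hex
  let S₁ : ShortComplex (ModuleCat.{u} (X.presheaf.stalk x)) :=
    ShortComplex.mk ((DerSch.stalkFunctor X x).map ((DCoh.tensorRightMod G).map (P.d n (n + 1))))
      ((DerSch.stalkFunctor X x).map ((DCoh.tensorRightMod G).map (P.d (n + 1) (n + 1 + 1))))
      (by rw [← Functor.map_comp, ← Functor.map_comp, HomologicalComplex.d_comp_d, Functor.map_zero,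
        Functor.map_zero])
  have c1 := stalkTensorRightIso_naturality x G (P.d n (n + 1))
  have c2 := stalkTensorRightIso_naturality x G (P.d (n + 1) (n + 1 + 1))
  have e : S₁ ≅ S₂ := ShortComplex.isoMk (stalkTensorRightIso x G (P.X n))
    (stalkTensorRightIso x G (P.X (n + 1))) (stalkTensorRightIso x G (P.X (n + 1 + 1)))
    c1.symm c2.symm
  refine ShortComplex.exact_of_iso ?_ (ShortComplex.exact_of_iso e.symm h2)
  exact Iso.refl _

/-- the stalk complex over the identity is the stalk complex -/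
noncomputable def stalkCxOverIdIso (x : X) (F : CochainComplex X.Modules ℤ) :
    (DerSch.stalkCxOver (𝟙 X) x).obj F ≅ (stalkCx x).obj F :=
  HomologicalComplex.Hom.isoOfComponents
    (fun i => ModuleCat.restrictScalarsId'App ((𝟙 X : X ⟶ X).stalkMap x).hom
      (by rw [Scheme.Hom.stalkMap_id]; rfl) ((DerSch.stalkFunctor X x).obj (F.X i)))
    (by
      intro i j _
      ext m
      rfl)

theorem hasTorAmplitudeAt_id_iff (x : X) (F : CochainComplex X.Modules ℤ) (a b : ℤ) :
    DerSch.HasTorAmplitudeAt (𝟙 X) a b F x ↔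
      DRing.HasTorAmplitudeIn (X.presheaf.stalk x) a b (DRing.toD ((stalkCx x).obj F)) := by
  constructor
  · intro h
    exact Groth.Agent.Lib.TorAmpBasic21.hasTorAmplitudeIn_of_iso _
      ((DerivedCategory.Q (C := ModuleCat.{u} (X.presheaf.stalk x))).mapIso (stalkCxOverIdIso x F)) h
  · intro h
    exact Groth.Agent.Lib.TorAmpBasic21.hasTorAmplitudeIn_of_iso _
      ((DerivedCategory.Q (C := ModuleCat.{u} (X.presheaf.stalk x))).mapIso (stalkCxOverIdIso x F).symm) h

/-- the stalk functor on derived categories: an iso in `D(O_X)` gives an iso of stalk complexes in `D(O_x)` -/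
noncomputable def stalkDIso (x : X) {E F : CochainComplex X.Modules ℤ}
    (e : DCoh.toD X E ≅ DCoh.toD X F) :
    DRing.toD ((stalkCx x).obj E) ≅ DRing.toD ((stalkCx x).obj F) :=
  ((DerSch.stalkFunctor X x).mapDerivedCategoryFactors.app E).symm ≪≫
    (DerSch.stalkFunctor X x).mapDerivedCategory.mapIso e ≪≫
    (DerSch.stalkFunctor X x).mapDerivedCategoryFactors.app F

theorem hasTorAmplitude_id_of_hasFlatAmplitudeIn (F : CochainComplex X.Modules ℤ) (a b : ℤ)
    (h : DCoh.HasFlatAmplitudeIn a b (DCoh.toD X F)) : DerSch.HasTorAmplitude (𝟙 X) a b F := by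
  obtain ⟨E, hE, hfl, ⟨e⟩⟩ := h
  intro x
  rw [hasTorAmplitudeAt_id_iff]
  exact ⟨(stalkCx x).obj E, fun i hi => (DerSch.stalkFunctor X x).map_isZero (hE i hi),
    fun i => hfl i x, ⟨stalkDIso x e⟩⟩

theorem hasTorAmplitudeIn_of_hasTorAmplitude_id (F : CochainComplex X.Modules ℤ) (a b : ℤ)
    (h : DerSch.HasTorAmplitude (𝟙 X) a b F) : DCoh.HasTorAmplitudeIn a b (DCoh.toD X F) := by
  intro G _ i hi
  obtain ⟨P, p, hP, -, hp⟩ := Groth.Agent.Lib.TorAmpTri21.exists_resolution F
  haveI := hp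
  have e : DCoh.toD X P ≅ DCoh.toD X F := asIso (DerivedCategory.Q.map p)
  refine IsZero.of_iso ?_ ((DerivedCategory.homologyFunctor X.Modules i).mapIso
    ((DCoh.LTensorMod G).mapIso e.symm) ≪≫ Groth.Agent.Lib.TorAmp21.HDIso G P hP i)
  rw [isZero_homology_iff_stalk]
  intro x
  obtain ⟨n, rfl⟩ : ∃ n : ℤ, i = n + 1 := ⟨i - 1, by ring⟩
  apply isZero_homology_stalk_tensorCxMod
  have hK : IsKFlat ((stalkCx x).obj P) :=
    (Groth.Agent.Lib.KFlat35.isKFlat_iff _).2 ((Groth.Agent.S11132.result X P).1 hP x)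
  have hx := (hasTorAmplitudeAt_id_iff x F a b).1 (h x)
  exact exact_whiskerLeft_of_hasTorAmplitudeIn _ hK a b
    (Groth.Agent.Lib.TorAmpBasic21.hasTorAmplitudeIn_of_iso _ (stalkDIso x e).symm hx) _ n hi

theorem hasFlatAmplitudeIn_iff_hasTorAmplitude_id (F : CochainComplex X.Modules ℤ) (a b : ℤ) :
    DCoh.HasFlatAmplitudeIn a b (DCoh.toD X F) ↔ DerSch.HasTorAmplitude (𝟙 X) a b F :=
  ⟨hasTorAmplitude_id_of_hasFlatAmplitudeIn F a b, fun h =>
    Groth.Agent.Lib.TorAmpFlat21.hasFlatAmplitudeIn_of_hasTorAmplitudeIn _ a b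
      (hasTorAmplitudeIn_of_hasTorAmplitude_id F a b h)⟩

end Sch

end Groth.Agent.Lib.TorAmpStalk81
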