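/-
helper81: stalks of pushforward along inducing morphisms as a functor/complex iso; S6191 (closed immersion into smooth:
absolute flat amplitude of i_*F => relative tor amplitude of F).
-/
import Groth.Agent.Lib.TorAmpStalk81B
import Groth.Agent.Lib.PushStalk81

set_option autoImplicit false
set_option linter.style.haveILetI false
universe u
open CategoryTheory CategoryTheory.Limits AlgebraicGeometry MonoidalCategory
attribute [local instance] HasDerivedCategory.standard

namespace Groth.Agent.Lib.TorAmpStalk81

open Groth.Agent.Lib.PushStalk81 Groth.Agent.Lib.StalkTensor81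

section Push

variable {X Y : Scheme.{u}} (p : X ⟶ Y)

/-- for an inducing morphism, the stalk of `p_* M` at `p z` is `M_z` with scalars restricted along the stalk map -/
noncomputable def pushStalkIso (hp : Topology.IsInducing p) (M : X.Modules) (z : X) :
    (DerSch.stalkFunctor Y (p z)).obj ((Scheme.Modules.pushforward p).obj M) ≅
      (DerSch.stalkOver p z).obj M :=
  (LinearEquiv.ofBijective
    (({ toFun := pushStalk p M z
        map_add' := map_add _
        map_smul' := fun r m => pushStalk_smul p M z r m }) :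
      ↑((DerSch.stalkFunctor Y (p z)).obj ((Scheme.Modules.pushforward p).obj M)) →ₗ[Y.presheaf.stalk (p z)]
        ↑((DerSch.stalkOver p z).obj M))
    (pushStalk_bijective p hp M z)).toModuleIso

theorem pushStalkIso_hom_apply (hp : Topology.IsInducing p) (M : X.Modules) (z : X)
    (m : ((Scheme.Modules.pushforward p).obj M).presheaf.stalk (p z)) :
    (pushStalkIso p hp M z).hom m = pushStalk p M z m := rfl

theorem pushStalkIso_naturality (hp : Topology.IsInducing p) {M M' : X.Modules} (φ : M ⟶ M') (z : X) :
    (DerSch.stalkFunctor Y (p z)).map ((Scheme.Modules.pushforward p).map φ) ≫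
        (pushStalkIso p hp M' z).hom =
      (pushStalkIso p hp M z).hom ≫ (DerSch.stalkOver p z).map φ := by
  ext m
  obtain ⟨U, hzU, s, rfl⟩ :=
    TopCat.Presheaf.exists_germ_eq ((Scheme.Modules.pushforward p).obj M).presheaf m
  change pushStalk p M' z ((DerSch.stalkFunctor Y (p z)).map ((Scheme.Modules.pushforward p).map φ)
      (((Scheme.Modules.pushforward p).obj M).presheaf.germ U (p z) hzU s)) =
    (DerSch.stalkFunctor X z).map φ (pushStalk p M z
      (((Scheme.Modules.pushforward p).obj M).presheaf.germ U (p z) hzU s))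
  rw [DerSch.stalkFunctor_map_germ, pushStalk_germ, pushStalk_germ]
  exact (DerSch.stalkFunctor_map_germ z φ (p ⁻¹ᵁ U) hzU s).symm

/-- complex version -/
noncomputable def stalkPushCxIso (hp : Topology.IsInducing p) (F : CochainComplex X.Modules ℤ) (z : X) :
    (stalkCx (p z)).obj (((Scheme.Modules.pushforward p).mapHomologicalComplex (ComplexShape.up ℤ)).obj F) ≅
      (DerSch.stalkCxOver p z).obj F :=
  HomologicalComplex.Hom.isoOfComponents (fun n => pushStalkIso p hp (F.X n) z)
    (fun n n' _ => (pushStalkIso_naturality p hp (F.d n n') z).symm)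

end Push

section RingFlat

variable {A B : Type u} [CommRing A] [CommRing B]

/-- restriction of scalars along a flat ring map preserves tor amplitude -/
theorem hasTorAmplitudeIn_restrictD_of_flat (φ : A →+* B) (hφ : φ.Flat) (K : Dual.D B) (a b : ℤ)
    (hK : DRing.HasTorAmplitudeIn B a b K) :
    DRing.HasTorAmplitudeIn A a b ((DRing.restrictD φ).obj K) := by
  obtain ⟨E, hE, hfl, ⟨e⟩⟩ := hK
  refine ⟨(DRing.restrictCx φ).obj E, fun i hi => (ModuleCat.restrictScalars.{u} φ).map_isZero (hE i hi),
    fun i => ?_, ⟨((ModuleCat.restrictScalars.{u} φ).mapDerivedCategoryFactors.app E).symm ≪≫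
      (DRing.restrictD φ).mapIso e⟩⟩
  letI : Algebra A B := φ.toAlgebra
  haveI : Module.Flat A B := hφ
  haveI : Module.Flat B (E.X i) := hfl i
  change Module.Flat A ↑((ModuleCat.restrictScalars.{u} φ).obj (E.X i))
  haveI : IsScalarTower A B ↑((ModuleCat.restrictScalars.{u} φ).obj (E.X i)) :=
    IsScalarTower.of_algebraMap_smul fun r x => rfl
  haveI : Module.Flat B ↑((ModuleCat.restrictScalars.{u} φ).obj (E.X i)) := hfl i
  exact Module.Flat.trans A B _

end RingFlat

section ClosedImm

variable {X X' Y : Scheme.{u}}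

/-- S6191-type: if `i` is inducing (e.g. a closed immersion), `f'` flat, and `i_* F` has absolute flat amplitude `[a, b]` on `X'`,
then `F` has tor amplitude `[a, b]` relative to `i ≫ f'`. -/
theorem hasTorAmplitude_comp_of_hasFlatAmplitudeIn_push (i : X ⟶ X') (hi : Topology.IsInducing i)
    (f' : X' ⟶ Y) [Flat f'] (F : CochainComplex X.Modules ℤ) (a b : ℤ)
    (hF : DCoh.HasFlatAmplitudeIn a b (DCoh.toD X'
      (((Scheme.Modules.pushforward i).mapHomologicalComplex (ComplexShape.up ℤ)).obj F))) :
    DerSch.HasTorAmplitude (i ≫ f') a b F := by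
  intro x
  have h1 := (hasTorAmplitudeAt_id_iff (i x) _ a b).1
    (hasTorAmplitude_id_of_hasFlatAmplitudeIn _ a b hF (i x))
  have h2 : DRing.HasTorAmplitudeIn (X'.presheaf.stalk (i x)) a b
      (DRing.toD ((DerSch.stalkCxOver i x).obj F)) :=
    Groth.Agent.Lib.TorAmpBasic21.hasTorAmplitudeIn_of_iso _
      ((DerivedCategory.Q (C := ModuleCat.{u} (X'.presheaf.stalk (i x)))).mapIso
        (stalkPushCxIso i hi F x)) h1
  have key := hasTorAmplitudeIn_restrictD_of_flat (f'.stalkMap (i x)).hom (Flat.stalkMap f' (i x)) _ a b h2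
  refine Groth.Agent.Lib.TorAmpBasic21.hasTorAmplitudeIn_of_iso _ ?_ key
  exact ((ModuleCat.restrictScalars.{u} (f'.stalkMap (i x)).hom).mapDerivedCategoryFactors).app _ ≪≫
    (DerivedCategory.Q (C := ModuleCat.{u} (Y.presheaf.stalk (f' (i x))))).mapIso
      (stalkCxOverCompIso i f' x F).symm

end ClosedImm

end Groth.Agent.Lib.TorAmpStalk81
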