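/-
helper81: `unit_bijective`/`unitCxIso κ hκ K : K ≅ (K ⊗_C C')|_C` for bijective κ; `hasTorAmplitudeIn_of_res_bijective`;
`stalkRestrictCxIso U u F` (stalks of F|_U), `stalkCxOverιIso`, `hasTorAmplitudeAt_ι_comp`, `hasTorAmplitudeAt_of_comp_ι`,
`hasTorAmplitude_morphismRestrict` (relative tor amplitude restricts along f ∣_ V); `isZero_HD_lTensor_lpull` (H^i(Lg^*M ⊗^L F) = 0 outside the
tor amplitude of F rel. g), `isZero_HD_lTensor_lpull_restrict` (S6241).
-/
import Groth.Agent.Lib.TorAmpTensor81D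
import Groth.Agent.Lib.TorAmpStalk81C

set_option autoImplicit false
set_option linter.style.haveILetI false
universe u
open CategoryTheory CategoryTheory.Limits Category MonoidalCategory AlgebraicGeometry

attribute [local instance] HasDerivedCategory.standard

namespace Groth.Agent.Lib.TorAmpTensor81

section UnitIso

open ChangeOfRings TensorProduct

variable {C C' : Type u} [CommRing C] [CommRing C'] (κ : C →+* C') (hκ : Function.Bijective κ)

set_option backward.isDefEq.respectTransparency false in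
include hκ in
lemma unit_bijective (M : ModuleCat.{u} C) :
    Function.Bijective ((ModuleCat.extendRestrictScalarsAdj.{u, u, u} κ).unit.app M).hom := by
  let e : C ≃+* C' := RingEquiv.ofBijective κ hκ
  constructor
  · -- injective, via a retraction
    let ℓ : TensorProduct C ((ModuleCat.restrictScalars κ).obj (ModuleCat.of C' C')) M →ₗ[C] M :=
      TensorProduct.lift (LinearMap.mk₂ C
        (fun (s : (ModuleCat.restrictScalars κ).obj (ModuleCat.of C' C')) (m : M) =>
          e.symm (show C' from s) • m)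
        (fun s s' m => by
          change e.symm ((show C' from s) + (show C' from s')) • m = _
          rw [map_add, add_smul])
        (fun c s m => by
          change e.symm (κ c * (show C' from s)) • m = c • (e.symm (show C' from s) • m)
          rw [map_mul, mul_smul, show e.symm (κ c) = c from e.symm_apply_apply c])
        (fun s m m' => smul_add _ _ _)
        (fun c s m => smul_comm _ _ _))
    intro m m' h
    have h' := congrArg ℓ h
    change ℓ ((1 : C') ⊗ₜ[C, κ] m) = ℓ ((1 : C') ⊗ₜ[C, κ] m') at h'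
    simpa [ℓ, TensorProduct.lift.tmul] using h'
  · intro z
    change TensorProduct C ((ModuleCat.restrictScalars κ).obj (ModuleCat.of C' C')) M at z
    induction z using TensorProduct.induction_on with
    | zero => exact ⟨0, map_zero _⟩
    | tmul s m =>
      obtain ⟨c, rfl⟩ := hκ.2 (show C' from s)
      refine ⟨c • m, ?_⟩
      change (1 : C') ⊗ₜ[C, κ] (c • m) = _
      have := TensorProduct.smul_tmul (R := C) (R' := C)
        (M := ((ModuleCat.restrictScalars κ).obj (ModuleCat.of C' C'))) (N := M) c (1 : C') m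
      refine this.symm.trans ?_
      congr 1
      exact mul_one (κ c)
    | add x y hx hy =>
      obtain ⟨a, ha⟩ := hx
      obtain ⟨b, hb⟩ := hy
      exact ⟨a + b, by rw [map_add, ha, hb]⟩

end UnitIso


section UnitIso2

open DTen DerivedCategory

variable {C C' : Type u} [CommRing C] [CommRing C'] (κ : C →+* C') (hκ : Function.Bijective κ)

include hκ in
lemma isIso_unitCx_app (K : DRing.Cx C) : IsIso ((unitCx κ).app K) := by
  have : ∀ i : ℤ, IsIso (((unitCx κ).app K).f i) := fun i =>
    (ConcreteCategory.isIso_iff_bijective _).2 (unit_bijective κ hκ (K.X i))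
  exact HomologicalComplex.Hom.isIso_of_components _

/-- for a bijective ring map, `K ≅ (K ⊗_C C')|_C` -/
noncomputable def unitCxIso (K : DRing.Cx C) : K ≅ (resCx κ).obj ((extCx κ).obj K) :=
  @asIso _ _ _ _ ((unitCx κ).app K) (isIso_unitCx_app κ hκ K)

variable {B B' : Type u} [CommRing B] [CommRing B'] (lam : B →+* B') (hlam : Function.Bijective lam)

/-- restriction along a ring map and then along a section of it -/
noncomputable def resResIso (μ : B' →+* B) (h : lam.comp μ = RingHom.id B') (X' : DRing.Cx B') :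
    (resCx μ).obj ((resCx lam).obj X') ≅ X' :=
  HomologicalComplex.Hom.isoOfComponents
    (fun i => (ModuleCat.restrictScalarsComp'App μ lam (lam.comp μ) rfl (X'.X i)).symm ≪≫
      ModuleCat.restrictScalarsId'App (lam.comp μ) h (X'.X i))
    (by
      intro i j _
      ext m
      rfl)

include hlam in
/-- tor amplitude over `B'` from tor amplitude over `B` along a bijective ring map -/
theorem hasTorAmplitudeIn_of_res_bijective (X' : DRing.Cx B') (a b : ℤ)
    (h : DRing.HasTorAmplitudeIn B a b (Q.obj ((resCx lam).obj X'))) :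
    DRing.HasTorAmplitudeIn B' a b (Q.obj X') := by
  let e : B ≃+* B' := RingEquiv.ofBijective lam hlam
  let μ : B' →+* B := e.symm.toRingHom
  have hμ : μ.Flat := RingHom.Flat.of_bijective e.symm.bijective
  have hc : lam.comp μ = RingHom.id B' := by
    ext x
    exact e.apply_symm_apply x
  have key := Groth.Agent.Lib.TorAmpStalk81.hasTorAmplitudeIn_restrictD_of_flat μ hμ _ a b h
  exact Groth.Agent.Lib.TorAmpBasic21.hasTorAmplitudeIn_of_iso _
    ((resFactors μ).app _ ≪≫ Q.mapIso (resResIso lam μ hc X')) key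

end UnitIso2


section OpenRestrict

open Groth.Agent.Lib.StalkTensor81 Groth.Agent.Lib.TorAmpStalk81 DerivedCategory DTen
  Groth.Agent.Lib.LpullKFlat35 Groth.Agent.Lib.LpullHyp35

variable {X Y : Scheme.{u}}

/-- stalks of the restriction of a complex to an open subscheme -/
noncomputable def stalkRestrictCxIso (U : X.Opens) (u : (U : Scheme.{u}))
    (F : CochainComplex X.Modules ℤ) :
    (stalkCx u).obj ((DCoh.restrictCx U).obj F) ≅
      (extCx (U.ι.stalkMap u).hom).obj ((stalkCx (U.ι.base u)).obj F) :=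
  (stalkCx u).mapIso ((NatIso.mapHomologicalComplex
    (Scheme.Modules.restrictFunctorIsoPullback (f := U.ι)) (ComplexShape.up ℤ)).app F) ≪≫
    stalkPullCxIso U.ι u F

lemma bijective_stalkMap_ι (U : X.Opens) (u : (U : Scheme.{u})) :
    Function.Bijective (U.ι.stalkMap u).hom :=
  (ConcreteCategory.isIso_iff_bijective (U.ι.stalkMap u)).1 inferInstance

/-- the stalk complex of `F|_U` over `U.ι` is the stalk complex of `F` -/
noncomputable def stalkCxOverιIso (U : X.Opens) (u : (U : Scheme.{u}))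
    (F : CochainComplex X.Modules ℤ) :
    (DerSch.stalkCxOver U.ι u).obj ((DCoh.restrictCx U).obj F) ≅ (stalkCx (U.ι.base u)).obj F :=
  stalkCxOverIso U.ι u _ ≪≫ (resCx (U.ι.stalkMap u).hom).mapIso (stalkRestrictCxIso U u F) ≪≫
    (unitCxIso (U.ι.stalkMap u).hom (bijective_stalkMap_ι U u) _).symm

/-- relative tor amplitude restricts to open subschemes of the source -/
theorem hasTorAmplitudeAt_ι_comp (f : X ⟶ Y) (U : X.Opens) (F : CochainComplex X.Modules ℤ)
    (a b : ℤ) (u : (U : Scheme.{u})) (hF : DerSch.HasTorAmplitudeAt f a b F (U.ι.base u)) :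
    DerSch.HasTorAmplitudeAt (U.ι ≫ f) a b ((DCoh.restrictCx U).obj F) u := by
  refine Groth.Agent.Lib.TorAmpBasic21.hasTorAmplitudeIn_of_iso _ ?_ hF
  refine Q.mapIso ?_
  exact stalkCxOverIso f (U.ι.base u) F ≪≫
    (resCx (f.stalkMap (U.ι.base u)).hom).mapIso (stalkCxOverιIso U u F).symm ≪≫
    (stalkCxOverCompIso U.ι f u _).symm

/-- relative tor amplitude descends along an open immersion of the target -/
theorem hasTorAmplitudeAt_of_comp_ι {W : Scheme.{u}} (V : Y.Opens) (g : W ⟶ (V : Scheme.{u}))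
    (F : CochainComplex W.Modules ℤ) (a b : ℤ) (w : W)
    (h : DerSch.HasTorAmplitudeAt (g ≫ V.ι) a b F w) :
    DerSch.HasTorAmplitudeAt g a b F w := by
  refine hasTorAmplitudeIn_of_res_bijective (V.ι.stalkMap (g.base w)).hom
    (bijective_stalkMap_ι V (g.base w)) _ a b ?_
  exact Groth.Agent.Lib.TorAmpBasic21.hasTorAmplitudeIn_of_iso _
    (Q.mapIso (stalkCxOverCompIso g V.ι w F)) h

/-- **restriction**: `F` of tor amplitude `[a,b]` rel. `f` ⇒ `F|_{f⁻¹V}` of tor amplitude `[a,b]` rel. `f ∣_ V` -/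
theorem hasTorAmplitude_morphismRestrict (f : X ⟶ Y) (V : Y.Opens) (F : CochainComplex X.Modules ℤ)
    (a b : ℤ) (hF : DerSch.HasTorAmplitude f a b F) :
    DerSch.HasTorAmplitude (f ∣_ V) a b ((DCoh.restrictCx (f ⁻¹ᵁ V)).obj F) := by
  intro u
  apply hasTorAmplitudeAt_of_comp_ι V (f ∣_ V)
  have h1 := hasTorAmplitudeAt_ι_comp f (f ⁻¹ᵁ V) F a b u (hF _)
  rw [← morphismRestrict_ι f V] at h1
  exact h1

end OpenRestrict


section Vanish

open Groth.Agent.Lib.StalkTensor81 Groth.Agent.Lib.TorAmpStalk81 DerivedCategory DTen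
  Groth.Agent.Lib.PCohAmp Groth.Agent.Lib.DRingPerfAmp Groth.Agent.Lib.FlatAmp
  Groth.Agent.Lib.LpullKFlat35 Groth.Agent.Lib.LpullHyp35 Groth.Agent.Lib.HomTensor25

variable {X Y : Scheme.{u}}

/-- `H^i(Lg^*M ⊗^L F) = 0` outside `[m, n]` when `F` has tor amplitude `[m, n]` relative to `g` -/
theorem isZero_HD_lTensor_lpull (g : X ⟶ Y) (F : CochainComplex X.Modules ℤ) (m n : ℤ)
    (hF : DerSch.HasTorAmplitude g m n F) (M : Y.Modules) [DCoh.HasLpull g] [DCoh.HasLTensorCx F]
    (i : ℤ) (hi : i < m ∨ n < i) :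
    IsZero (DCoh.HD ((DCoh.LTensorCx F).obj ((DCoh.Lpull g).obj (DCoh.inD Y M))) i) := by
  obtain ⟨P, p, hP, -, hp⟩ := Groth.Agent.Lib.TorAmpTri21.exists_resolution
    ((HomologicalComplex.single Y.Modules (ComplexShape.up ℤ) 0).obj M)
  haveI := hp
  let e1 : DCoh.toD Y P ≅ DCoh.inD Y M :=
    asIso (Q.map p) ≪≫ ((DerivedCategory.singleFunctorIsoCompQ Y.Modules 0).app M).symm
  have hfP : DCoh.IsKFlat ((pullCx g).obj P) := kflatHyp g P hP
  let W := (DCoh.tensorCx.obj ((pullCx g).obj P)).obj F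
  let e3 : (DCoh.LTensorCx F).obj ((DCoh.Lpull g).obj (DCoh.inD Y M)) ≅ DCoh.toD X W :=
    (DCoh.LTensorCx F).mapIso ((DCoh.Lpull g).mapIso e1.symm ≪≫ lpullIso (acycHyp g) P hP) ≪≫
      lTensorObjIsoLeft F _ hfP
  refine IsZero.of_iso ?_ ((DerivedCategory.homologyFunctor X.Modules i).mapIso e3 ≪≫
    (DerivedCategory.homologyFunctorFactors X.Modules i).app W)
  change IsZero (W.homology i)
  rw [isZero_homology_iff_stalk]
  intro x
  rw [← HomologicalComplex.exactAt_iff_isZero_homology]
  let N := (stalkCx (g.base x)).obj P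
  let Fx := (stalkCx x).obj F
  have hN : Groth.Agent.Lib.KFlat35.IsKFlat N := isKFlat_stalk hP (g.base x)
  have hL : PA (FL _) m n (Q.obj ((resCx (g.stalkMap x).hom).obj Fx)) := by
    have h1 := hF x
    rw [DerSch.HasTorAmplitudeAt, hasTorAmplitudeIn_iff_pa] at h1
    exact pa_of_iso (Q.mapIso (stalkCxOverIso g x F)) h1
  let s : N ⟶ sg ((DerSch.stalkFunctor Y (g.base x)).obj M) :=
    (stalkCx (g.base x)).map p ≫
      (HomologicalComplex.singleMapHomologicalComplex (DerSch.stalkFunctor Y (g.base x))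
        (ComplexShape.up ℤ) 0).hom.app M
  haveI : QuasiIso s := by
    dsimp only [s]
    infer_instance
  have key := exactAt_tensor_of_pa ((resCx (g.stalkMap x).hom).obj Fx) m n hL _ N hN s i hi
  refine exactAt_of_iso (stalkTensorCxIso x _ F ≪≫
    whiskerRightIso (stalkPullCxIso g x P) Fx).symm i ?_
  apply exactAt_of_map (ModuleCat.restrictScalars (g.stalkMap x).hom)
  refine exactAt_of_iso ((Groth.Agent.Lib.ProjFormula35.pfIso (g.stalkMap x).hom Fx N) ≪≫
    (resCx (g.stalkMap x).hom).mapIso (DTen.braidCx _ _)) i key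

/-- S6241 -/
theorem isZero_HD_lTensor_lpull_restrict (f : X ⟶ Y) (F : CochainComplex X.Modules ℤ) (m n : ℤ)
    (hF : DerSch.HasTorAmplitude f m n F) (V : Y.Opens) (M : (V : Scheme.{u}).Modules)
    [DCoh.HasLpull (f ∣_ V)] [DCoh.HasLTensorCx ((DCoh.restrictCx (f ⁻¹ᵁ V)).obj F)]
    (i : ℤ) (hi : i < m ∨ n < i) :
    IsZero (DCoh.HD ((DCoh.LTensorCx ((DCoh.restrictCx (f ⁻¹ᵁ V)).obj F)).obj
      ((DCoh.Lpull (f ∣_ V)).obj (DCoh.inD (V : Scheme.{u}) M))) i) :=
  isZero_HD_lTensor_lpull (f ∣_ V) _ m n (hasTorAmplitude_morphismRestrict f V F m n hF) M i hi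

end Vanish

end Groth.Agent.Lib.TorAmpTensor81
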