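import Groth.Agent.Lib.TorAmpLocal81C
import Groth.Agent.Lib.TorAmpTensor81E
import Groth.Agent.Lib.PerfectIffPC

set_option autoImplicit false
set_option linter.style.haveILetI false
universe u
open CategoryTheory CategoryTheory.Limits AlgebraicGeometry
attribute [local instance] HasDerivedCategory.standard

namespace Groth.Agent.Lib.TorAmpLocal81
open Groth.Agent.Lib.TildeStalk81 Groth.Agent.Lib.TorAmpStalk81
  Groth.Agent.Lib.StalkTensor81 Groth.Agent.Lib.TorAmpTensor81
open DTen (extCx resCx resFactors)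

variable {X : Scheme.{u}}

/-- flat amplitude restricts to opens -/
theorem hasFlatAmplitudeIn_restrict (V : X.Opens) (F : CochainComplex X.Modules ℤ) (a b : ℤ)
    (h : DCoh.HasFlatAmplitudeIn a b (DCoh.toD X F)) :
    DCoh.HasFlatAmplitudeIn a b (DerivedCategory.Q.obj ((DCoh.restrictCx V).obj F)) := by
  obtain ⟨E, hE, hfl, ⟨e⟩⟩ := h
  refine ⟨(DCoh.restrictCx V).obj E,
    fun i hi => (Scheme.Modules.restrictFunctor V.ι).map_isZero (hE i hi),
    fun i => Groth.Agent.Lib.PerfectFlatAmp.isFlat_restrict V.ι (hfl i), ⟨?_⟩⟩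
  exact ((Scheme.Modules.restrictFunctor V.ι).mapDerivedCategoryFactors.app E).symm ≪≫
    (DCoh.restrictD V.ι).mapIso e ≪≫
    (Scheme.Modules.restrictFunctor V.ι).mapDerivedCategoryFactors.app F

/-- flat amplitude on an open gives the tor amplitude of the stalks at its points -/
theorem hasTorAmplitudeIn_stalk_of_restrict (V : X.Opens) (F : CochainComplex X.Modules ℤ)
    (a b : ℤ)
    (h : DCoh.HasFlatAmplitudeIn a b (DerivedCategory.Q.obj ((DCoh.restrictCx V).obj F)))
    (u : (V : Scheme.{u})) :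
    DRing.HasTorAmplitudeIn (X.presheaf.stalk (V.ι.base u)) a b
      (DRing.toD ((stalkCx (V.ι.base u)).obj F)) := by
  have h1 := (hasTorAmplitudeAt_id_iff u _ a b).1
    ((hasFlatAmplitudeIn_iff_hasTorAmplitude_id _ a b).1 h u)
  have hfl : (V.ι.stalkMap u).hom.Flat :=
    RingHom.Flat.of_bijective (bijective_stalkMap_ι V u)
  have h2 := hasTorAmplitudeIn_restrictD_of_flat (V.ι.stalkMap u).hom hfl _ a b h1
  refine Groth.Agent.Lib.TorAmpBasic21.hasTorAmplitudeIn_of_iso _ ?_ h2
  exact (resFactors (V.ι.stalkMap u).hom).app _ ≪≫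
    DerivedCategory.Q.mapIso ((stalkCxOverIso V.ι u _).symm ≪≫ stalkCxOverιIso V u F)

/-- on a quasi-compact scheme, locally finite tor dimension is finite tor dimension -/
theorem locHasFiniteTorDim_iff_of_compact [CompactSpace X] (F : CochainComplex X.Modules ℤ) :
    DCoh.LocHasFiniteTorDim (DCoh.toD X F) ↔
      ∃ a b : ℤ, DCoh.HasFlatAmplitudeIn a b (DCoh.toD X F) := by
  constructor
  · intro h
    choose V a b hxV hV using h
    have hV' : ∀ x, DCoh.HasFlatAmplitudeIn (a x) (b x)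
        (DerivedCategory.Q.obj ((DCoh.restrictCx (V x)).obj F)) := fun x => hV x F ⟨Iso.refl _⟩
    obtain ⟨t, ht⟩ := isCompact_univ.elim_finite_subcover (fun x => ((V x : X.Opens) : Set X))
      (fun x => (V x).isOpen) (fun x _ => Set.mem_iUnion.2 ⟨x, hxV x⟩)
    refine ⟨- ∑ i ∈ t, |a i|, ∑ i ∈ t, |b i|, ?_⟩
    rw [hasFlatAmplitudeIn_iff_hasTorAmplitude_id]
    intro x
    rw [hasTorAmplitudeAt_id_iff]
    obtain ⟨i, hi, hxi⟩ : ∃ i ∈ t, x ∈ V i := by
      have := ht (Set.mem_univ x)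
      simpa using this
    have h3 := hasTorAmplitudeIn_stalk_of_restrict (V i) F (a i) (b i) (hV' i) ⟨x, hxi⟩
    have ha : - ∑ j ∈ t, |a j| ≤ a i := by
      have h4 : |a i| ≤ ∑ j ∈ t, |a j| :=
        Finset.single_le_sum (f := fun j => |a j|) (fun j _ => abs_nonneg _) hi
      have h5 := neg_abs_le (a i)
      linarith
    have hb : b i ≤ ∑ j ∈ t, |b j| := by
      have h4 : |b i| ≤ ∑ j ∈ t, |b j| :=
        Finset.single_le_sum (f := fun j => |b j|) (fun j _ => abs_nonneg _) hi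
      have h5 := le_abs_self (b i)
      linarith
    exact Groth.Agent.Lib.TorAmpBasic21.hasTorAmplitudeIn_mono _ ha hb h3
  · rintro ⟨a, b, h⟩ x
    refine ⟨⊤, a, b, trivial, fun F' ⟨e⟩ => ?_⟩
    exact hasFlatAmplitudeIn_restrict ⊤ F' a b (hasFlatAmplitudeIn_of_iso e.symm a b h)

end Groth.Agent.Lib.TorAmpLocal81
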