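/-
helper81: RF keystone. Over a FLAT morphism f : X ⟶ S, the representative form of relative tor amplitude (DCoh.HasRelFlatAmplitudeIn f a b: complex in [a,b] of
O_X-modules flat over S) is the stalkwise form (DerSch.HasTorAmplitude f a b): hasRelFlatAmplitudeIn_iff; local form locHasFiniteRelTorDim_iff
(DCoh.LocHasFiniteRelTorDim f (toD X F) ↔ DerSch.LocFiniteTorAmplitude f F); locFiniteTorAmplitude_iff_of_compact. Also: isFlatOverAt_iff, isFlatOver_of_isFlat,
flat_restrictScalars, stalkOverDIso', hasTorAmplitude_of_iso, hasTorAmplitudeAt_of_iso, exactAt_of_hasTorAmplitude, stalkOverOpcyclesIso, hasTorAmplitudeAt_ι_comp_iff;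
ring level isZero_homology_of_hasTorAmplitudeIn, flat_opcycles_of_hasTorAmplitudeIn.
-/
import Groth.Agent.Lib.TorAmpLocal81D
import Groth.Agent.Lib.TorAmpFlat21

set_option autoImplicit false
set_option linter.style.haveILetI false
universe u
open CategoryTheory CategoryTheory.Limits AlgebraicGeometry MonoidalCategory
attribute [local instance] HasDerivedCategory.standard

namespace Groth.Agent.Lib.RelFlatAmp81
open Groth.Agent.Lib.TildeStalk81 Groth.Agent.Lib.TorAmpStalk81
  Groth.Agent.Lib.StalkTensor81 Groth.Agent.Lib.TorAmpTensor81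
open Groth.Agent.Lib.KFlat35 (IsKFlat)
open DTen (extCx resCx resFactors)

section Ring

variable {R : Type u} [CommRing R]

/-- a complex of tor amplitude `[a, b]` has no cohomology outside `[a, b]` -/
theorem isZero_homology_of_hasTorAmplitudeIn (G : DRing.Cx R) (a b : ℤ)
    (h : DRing.HasTorAmplitudeIn R a b (DRing.toD G)) (i : ℤ) (hi : i < a ∨ b < i) :
    IsZero (G.homology i) := by
  obtain ⟨E, hE, -, ⟨e⟩⟩ := h
  have h1 : IsZero (E.homology i) :=
    (HomologicalComplex.exactAt_iff_isZero_homology _ _).1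
      (HomologicalComplex.ExactAt.of_isZero (hE i hi))
  exact h1.of_iso (((DerivedCategory.homologyFunctorFactors (ModuleCat.{u} R) i).app G).symm ≪≫
    (DerivedCategory.homologyFunctor (ModuleCat.{u} R) i).mapIso e.symm ≪≫
    (DerivedCategory.homologyFunctorFactors (ModuleCat.{u} R) i).app E)

/-- the bottom cokernel of a K-flat complex of tor amplitude `[a, b]` is flat -/
theorem flat_opcycles_of_hasTorAmplitudeIn (G : DRing.Cx R) (hG : IsKFlat G) (a b : ℤ)
    (h : DRing.HasTorAmplitudeIn R a b (DRing.toD G)) (hfl : Module.Flat R (G.X a)) :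
    Module.Flat R (G.opcycles a) := by
  obtain ⟨n, rfl⟩ : ∃ n : ℤ, a = n + 1 + 1 := ⟨a - 2, by ring⟩
  haveI := hfl
  refine Groth.Agent.Lib.TorAmpKFlat35.flat_opcycles G n (fun I => ?_)
  exact exact_whiskerLeft_of_hasTorAmplitudeIn G hG (n + 1 + 1) b h
    (ModuleCat.of R (R ⧸ I)) n (Or.inl (by omega))

end Ring

section Sch

variable {X S : Scheme.{u}} (f : X ⟶ S)

/-- flatness over the base at a point, in terms of `DerSch.stalkOver` -/
theorem isFlatOverAt_iff (M : X.Modules) (x : X) :
    FlatMod.IsFlatOverAt f M x ↔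
      Module.Flat (S.presheaf.stalk (f.base x)) ((DerSch.stalkOver f x).obj M) := Iff.rfl

/-- restriction of scalars of a flat module along a flat ring map is flat -/
theorem flat_restrictScalars {A B : Type u} [CommRing A] [CommRing B] (φ : A →+* B) (hφ : φ.Flat)
    (N : ModuleCat.{u} B) (hN : Module.Flat B N) :
    Module.Flat A ((ModuleCat.restrictScalars φ).obj N) := by
  letI := φ.toAlgebra
  haveI : Module.Flat A B := hφ
  haveI : IsScalarTower A B ((ModuleCat.restrictScalars φ).obj N) :=
    ⟨fun a b n => by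
      rw [ModuleCat.restrictScalars.smul_def, Algebra.smul_def, mul_smul]
      rfl⟩
  haveI : Module.Flat B ((ModuleCat.restrictScalars φ).obj N) := hN
  exact Module.Flat.trans A B _

/-- over a flat morphism, flat modules are flat over the base -/
theorem isFlatOver_of_isFlat [Flat f] (M : X.Modules) (hM : FlatMod.IsFlat M) :
    FlatMod.IsFlatOver f M := by
  intro x
  rw [isFlatOverAt_iff]
  exact flat_restrictScalars (f.stalkMap x).hom (Flat.stalkMap f x)
    ((DerSch.stalkFunctor X x).obj M) (hM x)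

/-- an iso in `D(O_X)` gives an iso of the stalk complexes over the base -/
noncomputable def stalkOverDIso' (x : X) {E F : CochainComplex X.Modules ℤ}
    (e : DCoh.toD X E ≅ DCoh.toD X F) :
    DRing.toD ((DerSch.stalkCxOver f x).obj E) ≅ DRing.toD ((DerSch.stalkCxOver f x).obj F) :=
  stalkOverDIso f x E _ (stalkDIso x e) ≪≫
    DerivedCategory.Q.mapIso (stalkCxOverIso f x F).symm

/-- relative tor amplitude only depends on the object of `D(O_X)` -/
theorem hasTorAmplitude_of_iso {E F : CochainComplex X.Modules ℤ}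
    (e : DCoh.toD X E ≅ DCoh.toD X F) (a b : ℤ) (h : DerSch.HasTorAmplitude f a b E) :
    DerSch.HasTorAmplitude f a b F := fun x =>
  Groth.Agent.Lib.TorAmpBasic21.hasTorAmplitudeIn_of_iso _ (stalkOverDIso' f x e) (h x)

/-- **RF, easy direction**: a representative by modules flat over the base gives the stalkwise tor amplitude -/
theorem hasTorAmplitude_of_hasRelFlatAmplitudeIn (F : CochainComplex X.Modules ℤ) (a b : ℤ)
    (h : DCoh.HasRelFlatAmplitudeIn f a b (DCoh.toD X F)) : DerSch.HasTorAmplitude f a b F := by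
  obtain ⟨E, hE, hfl, ⟨e⟩⟩ := h
  intro x
  exact ⟨(DerSch.stalkCxOver f x).obj E,
    fun i hi => (DerSch.stalkOver f x).map_isZero (hE i hi),
    fun i => hfl i x, ⟨stalkOverDIso' f x e⟩⟩

/-- the cohomology of a complex of relative tor amplitude `[a, b]` vanishes outside `[a, b]` -/
theorem exactAt_of_hasTorAmplitude (F : CochainComplex X.Modules ℤ) (a b : ℤ)
    (h : DerSch.HasTorAmplitude f a b F) (i : ℤ) (hi : i < a ∨ b < i) : F.ExactAt i := by
  rw [HomologicalComplex.exactAt_iff_isZero_homology, isZero_homology_iff_stalk]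
  intro x
  have h1 := isZero_homology_of_hasTorAmplitudeIn _ a b (h x) i hi
  have h2 := h1.of_iso ((HomologicalComplex.homologyFunctor _ _ i).mapIso
    (stalkCxOverIso f x F).symm)
  exact (Groth.Agent.Lib.H47TorCrit.isZero_homology_resCx_iff _ _ i).1 h2

/-- the stalk functor over the base commutes with the cokernel of the differential -/
noncomputable def stalkOverOpcyclesIso (P : CochainComplex X.Modules ℤ) (x : X) (a : ℤ) :
    ((DerSch.stalkCxOver f x).obj P).opcycles a ≅ (DerSch.stalkOver f x).obj (P.opcycles a) :=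
  (P.sc a).mapOpcyclesIso (DerSch.stalkOver f x)

/-- **RF, main direction**: over a flat morphism, stalkwise tor amplitude `[a, b]` relative to the base gives a
representative placed in `[a, b]` by modules flat over the base. -/
theorem hasRelFlatAmplitudeIn_of_hasTorAmplitude [Flat f] (F : CochainComplex X.Modules ℤ)
    (a b : ℤ) (h : DerSch.HasTorAmplitude f a b F) :
    DCoh.HasRelFlatAmplitudeIn f a b (DCoh.toD X F) := by
  -- truncate above
  have hFle : F.IsLE b := by
    rw [CochainComplex.isLE_iff]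
    intro i hi
    exact exactAt_of_hasTorAmplitude f F a b h i (Or.inr hi)
  have iι : IsIso (DerivedCategory.Q.map (F.ιTruncLE b)) := inferInstance
  -- bounded above flat resolution
  obtain ⟨P₁, r, hP₁le, hfl, hr⟩ :=
    Groth.Agent.Lib.TorAmpFlat21.exists_flat_resolution_le (F.truncLE b) b inferInstance
  have ir : IsIso (DerivedCategory.Q.map r) := inferInstance
  let e₂ : DCoh.toD X P₁ ≅ DCoh.toD X F := @asIso _ _ _ _ (DerivedCategory.Q.map r) ir ≪≫
    @asIso _ _ _ _ (DerivedCategory.Q.map (F.ιTruncLE b)) iι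
  have hP₁ : DerSch.HasTorAmplitude f a b P₁ := hasTorAmplitude_of_iso f e₂.symm a b h
  have hfl' : ∀ i, FlatMod.IsFlat (P₁.X i) := fun i =>
    Groth.Agent.Lib.StalkFlatConverse66.isFlat_stalkwise_of_siteFlat _ (hfl i)
  -- truncate below
  have hP₁ge : P₁.IsGE a := by
    rw [CochainComplex.isGE_iff]
    intro i hi
    exact exactAt_of_hasTorAmplitude f P₁ a b hP₁ i (Or.inl hi)
  have iπ : IsIso (DerivedCategory.Q.map (P₁.πTruncGE a)) := inferInstance
  let e₃ : DCoh.toD X (P₁.truncGE a) ≅ DCoh.toD X F :=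
    (@asIso _ _ _ _ (DerivedCategory.Q.map (P₁.πTruncGE a)) iπ).symm ≪≫ e₂
  have hGE : (P₁.truncGE a).IsStrictlyGE a := inferInstance
  have hLE : (P₁.truncGE a).IsStrictlyLE b := inferInstance
  refine ⟨P₁.truncGE a, ?_, ?_, ⟨e₃⟩⟩
  · intro i hi
    rcases hi with hi | hi
    · exact (P₁.truncGE a).isZero_of_isStrictlyGE a i hi
    · exact (P₁.truncGE a).isZero_of_isStrictlyLE b i hi
  · intro i x
    rw [isFlatOverAt_iff]
    rcases lt_trichotomy i a with hi | rfl | hi
    · have hz : IsZero ((DerSch.stalkOver f x).obj ((P₁.truncGE a).X i)) :=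
        (DerSch.stalkOver f x).map_isZero ((P₁.truncGE a).isZero_of_isStrictlyGE a i hi)
      exact Groth.Agent.Lib.TorAmpKFlat35.flat_of_isZero _ hz
    · -- the cokernel
      let G := (DerSch.stalkCxOver f x).obj P₁
      have hGfl : ∀ j, Module.Flat (S.presheaf.stalk (f.base x)) (G.X j) := fun j =>
        (isFlatOverAt_iff f (P₁.X j) x).1 (isFlatOver_of_isFlat f (P₁.X j) (hfl' j) x)
      have hGK : IsKFlat G :=
        Groth.Agent.Lib.TorAmpKFlat35.isKFlat_of_flat_of_bddAbove G hGfl b (fun j hj =>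
          (DerSch.stalkOver f x).map_isZero (P₁.isZero_of_isStrictlyLE b j hj))
      have hop := flat_opcycles_of_hasTorAmplitudeIn G hGK i b (hP₁ x) (hGfl i)
      have e : (DerSch.stalkOver f x).obj ((P₁.truncGE i).X i) ≅ G.opcycles i :=
        (DerSch.stalkOver f x).mapIso (P₁.truncGEXIsoOpcycles i) ≪≫
          (stalkOverOpcyclesIso f P₁ x i).symm
      exact Module.Flat.of_linearEquiv e.toLinearEquiv
    · have e : (DerSch.stalkOver f x).obj ((P₁.truncGE a).X i) ≅
          (DerSch.stalkOver f x).obj (P₁.X i) :=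
        (DerSch.stalkOver f x).mapIso (P₁.truncGEXIso a i hi)
      haveI := (isFlatOverAt_iff f (P₁.X i) x).1 (isFlatOver_of_isFlat f (P₁.X i) (hfl' i) x)
      exact Module.Flat.of_linearEquiv e.toLinearEquiv

/-- **RF**: over a flat morphism, the representative form of relative tor amplitude is the stalkwise form -/
theorem hasRelFlatAmplitudeIn_iff [Flat f] (F : CochainComplex X.Modules ℤ) (a b : ℤ) :
    DCoh.HasRelFlatAmplitudeIn f a b (DCoh.toD X F) ↔ DerSch.HasTorAmplitude f a b F :=
  ⟨hasTorAmplitude_of_hasRelFlatAmplitudeIn f F a b,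
    hasRelFlatAmplitudeIn_of_hasTorAmplitude f F a b⟩

/-- relative tor amplitude at a point of an open subscheme of the source -/
theorem hasTorAmplitudeAt_ι_comp_iff (U : X.Opens) (F : CochainComplex X.Modules ℤ)
    (a b : ℤ) (u : (U : Scheme.{u})) :
    DerSch.HasTorAmplitudeAt (U.ι ≫ f) a b ((DCoh.restrictCx U).obj F) u ↔
      DerSch.HasTorAmplitudeAt f a b F (U.ι.base u) := by
  have e : DRing.toD ((DerSch.stalkCxOver f (U.ι.base u)).obj F) ≅
      DRing.toD ((DerSch.stalkCxOver (U.ι ≫ f) u).obj ((DCoh.restrictCx U).obj F)) :=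
    DerivedCategory.Q.mapIso (stalkCxOverIso f (U.ι.base u) F ≪≫
      (resCx (f.stalkMap (U.ι.base u)).hom).mapIso (stalkCxOverιIso U u F).symm ≪≫
      (stalkCxOverCompIso U.ι f u _).symm)
  exact ⟨fun h => Groth.Agent.Lib.TorAmpBasic21.hasTorAmplitudeIn_of_iso _ e.symm h,
    fun h => Groth.Agent.Lib.TorAmpBasic21.hasTorAmplitudeIn_of_iso _ e h⟩

/-- relative tor amplitude at a point only depends on the object of `D(O_X)` -/
theorem hasTorAmplitudeAt_of_iso {E F : CochainComplex X.Modules ℤ}
    (e : DCoh.toD X E ≅ DCoh.toD X F) (a b : ℤ) (x : X) (h : DerSch.HasTorAmplitudeAt f a b E x) :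
    DerSch.HasTorAmplitudeAt f a b F x :=
  Groth.Agent.Lib.TorAmpBasic21.hasTorAmplitudeIn_of_iso _ (stalkOverDIso' f x e) h

/-- **RF, local form**: over a flat morphism, "locally of finite tor dimension relative to the base" in the representative
form is the stalkwise notion. -/
theorem locHasFiniteRelTorDim_iff [Flat f] (F : CochainComplex X.Modules ℤ) :
    DCoh.LocHasFiniteRelTorDim f (DCoh.toD X F) ↔ DerSch.LocFiniteTorAmplitude f F := by
  constructor
  · intro h x
    obtain ⟨V, a, b, hxV, hV⟩ := h x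
    refine ⟨V, a, b, hxV, fun x' hx' => ?_⟩
    have h1 := hasTorAmplitude_of_hasRelFlatAmplitudeIn (V.ι ≫ f) _ a b (hV F ⟨Iso.refl _⟩)
    exact (hasTorAmplitudeAt_ι_comp_iff f V F a b ⟨x', hx'⟩).1 (h1 ⟨x', hx'⟩)
  · intro h x
    obtain ⟨V, a, b, hxV, hV⟩ := h x
    refine ⟨V, a, b, hxV, fun F' ⟨e⟩ => ?_⟩
    apply hasRelFlatAmplitudeIn_of_hasTorAmplitude (V.ι ≫ f)
    intro u
    rw [hasTorAmplitudeAt_ι_comp_iff]
    exact hasTorAmplitudeAt_of_iso f e.symm a b _ (hV _ u.2)

/-- on a quasi-compact scheme, locally finite relative tor amplitude is finite relative tor amplitude -/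
theorem locFiniteTorAmplitude_iff_of_compact [CompactSpace X] (F : CochainComplex X.Modules ℤ) :
    DerSch.LocFiniteTorAmplitude f F ↔ ∃ a b : ℤ, DerSch.HasTorAmplitude f a b F := by
  constructor
  · intro h
    choose V a b hxV hV using h
    obtain ⟨t, ht⟩ := isCompact_univ.elim_finite_subcover (fun x => ((V x : X.Opens) : Set X))
      (fun x => (V x).isOpen) (fun x _ => Set.mem_iUnion.2 ⟨x, hxV x⟩)
    refine ⟨- ∑ i ∈ t, |a i|, ∑ i ∈ t, |b i|, fun x => ?_⟩
    obtain ⟨i, hi, hxi⟩ : ∃ i ∈ t, x ∈ V i := by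
      have := ht (Set.mem_univ x)
      simpa using this
    have ha : - ∑ j ∈ t, |a j| ≤ a i := by
      have h4 : |a i| ≤ ∑ j ∈ t, |a j| :=
        Finset.single_le_sum (f := fun j => |a j|) (fun j _ => abs_nonneg _) hi
      have h5 := neg_abs_le (a i)
      linarith
    have hb : b i ≤ ∑ j ∈ t, |b j| := by
      have h4 : |b i| ≤ ∑ j ∈ t, |b j| :=
        Finset.single_le_sum (f := fun j => |b j|) (fun j _ => abs_nonneg _) hi
      have h5 := le_abs_self (b i)
      linarith
    exact Groth.Agent.Lib.TorAmpBasic21.hasTorAmplitudeIn_mono _ ha hb (hV i x hxi)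
  · rintro ⟨a, b, h⟩ x
    exact ⟨⊤, a, b, trivial, fun x' _ => h x'⟩

end Sch

end Groth.Agent.Lib.RelFlatAmp81
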