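import Groth.Agent.Lib.RelFlatSch64
import Groth.Agent.Lib.H72PullbackStalk
import Groth.Agent.Lib.FibreFreeSch88

/-!
# Free locus of a finitely presented module flat over the base commutes with base change (helper64)

* `isFlatOverAt_id_iff`: `IsFlatOverAt (𝟙 X) F x ↔ Module.Flat O_{X,x} F_x`.
* `free_stalk_iff_of_isPullback`: for `f : X → S` l.f.p., `F` f.p. and flat over `S`, and a cartesian
  square `X' = X ×_S S'`: `(g'^*F)_{x'}` is free iff `F_{g' x'}` is free.
-/

set_option autoImplicit false
set_option maxHeartbeats 1000000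
set_option linter.style.haveILetI false
universe u

open CategoryTheory AlgebraicGeometry TopologicalSpace Opposite TensorProduct Limits

namespace Groth.Agent.Lib.RelFlatFree64

/-- Flatness over `X` itself (via the identity) is flatness of the stalk. -/
theorem isFlatOverAt_id_iff {X : Scheme.{u}} (F : X.Modules) (x : X) :
    FlatMod.IsFlatOverAt (𝟙 X) F x ↔ Module.Flat (X.presheaf.stalk x) (F.presheaf.stalk x) := by
  unfold FlatMod.IsFlatOverAt
  have h : ∀ (r : X.presheaf.stalk x), ((𝟙 X : X ⟶ X).stalkMap x).hom r = r := by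
    intro r
    rw [Scheme.Hom.stalkMap_id]
    rfl
  have hsm : ∀ (r : X.presheaf.stalk x) (n : F.presheaf.stalk x),
      @HSMul.hSMul _ _ _ (@instHSMul _ _ (FlatMod.moduleStalkOver (𝟙 X) F x).toSMul) r n = r • n := by
    intro r n
    change ((𝟙 X : X ⟶ X).stalkMap x).hom r • n = r • n
    rw [h]
  constructor
  · intro hfl
    exact @Groth.Agent.Lib.CritFibA88.flat_of_ringEquiv_semilinear (X.presheaf.stalk x)
      (X.presheaf.stalk x) (F.presheaf.stalk x) (F.presheaf.stalk x) _ _ _
      (FlatMod.moduleStalkOver (𝟙 X) F x) _ _ (RingEquiv.refl _) (AddEquiv.refl _)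
      (fun a n => hsm a n) hfl
  · intro hfl
    exact @Groth.Agent.Lib.CritFibA88.flat_of_ringEquiv_semilinear (X.presheaf.stalk x)
      (X.presheaf.stalk x) (F.presheaf.stalk x) (F.presheaf.stalk x) _ _ _ _ _
      (FlatMod.moduleStalkOver (𝟙 X) F x) (RingEquiv.refl _) (AddEquiv.refl _)
      (fun a n => (hsm a n).symm) hfl

/-- **The stalkwise-free locus of a finitely presented module flat over the base commutes with
arbitrary base change.** -/
theorem free_stalk_iff_of_isPullback {X S X' S' : Scheme.{u}} (f : X ⟶ S)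
    [LocallyOfFinitePresentation f] (F : X.Modules) (hF : CohB1.IsFP F)
    (hfl : FlatMod.IsFlatOver f F) (g : S' ⟶ S) (f' : X' ⟶ S') (g' : X' ⟶ X)
    (hc : IsPullback g' f' f g) (x' : X') :
    Module.Free (X'.presheaf.stalk x') (((Scheme.Modules.pullback g').obj F).presheaf.stalk x') ↔
      Module.Free (X.presheaf.stalk (g' x')) (F.presheaf.stalk (g' x')) := by
  haveI : SheafOfModules.IsFinitePresentation (R := X.ringCatSheaf) F := hF
  haveI : F.IsQuasicoherent := inferInstance
  constructor
  · intro hfree
    have hflat : Module.Flat (X'.presheaf.stalk x')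
        (((Scheme.Modules.pullback g').obj F).presheaf.stalk x') := Module.Flat.of_free
    have h1 : FlatMod.IsFlatOverAt (𝟙 X') ((Scheme.Modules.pullback g').obj F) x' :=
      (isFlatOverAt_id_iff _ x').mpr hflat
    have e : 𝟙 X ≫ f = f := Category.id_comp f
    haveI : LocallyOfFinitePresentation (𝟙 X ≫ f) := by rw [e]; infer_instance
    haveI : LocallyOfFiniteType f := inferInstance
    have hX : IsPullback g' (𝟙 X' ≫ f') (𝟙 X ≫ f) g := by
      rw [Category.id_comp, Category.id_comp]; exact hc
    have hS : FlatMod.IsFlatOverAt (𝟙 X ≫ f) F (g' x') := by rw [e]; exact hfl (g' x')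
    have h2 := Groth.Agent.Lib.RelFlatSch64.isFlatOverAt_of_baseChange (𝟙 X) f F g g' f' hc g'
      (𝟙 X') hX (by rw [Category.comp_id, Category.id_comp]) x' hS h1
    haveI := (isFlatOverAt_id_iff F (g' x')).mp h2
    haveI := Groth.Agent.Lib.FibreFreeSch88.finitePresentation_stalk_of_isFP F hF (g' x')
    exact Module.free_of_flat_of_isLocalRing
  · intro hfree
    letI : Algebra (X.presheaf.stalk (g' x')) (X'.presheaf.stalk x') :=
      (g'.stalkMap x').hom.toAlgebra
    letI : Module (X.presheaf.stalk (g' x'))
        (((Scheme.Modules.pullback g').obj F).presheaf.stalk x') :=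
      Module.compHom _ (g'.stalkMap x').hom
    haveI : IsScalarTower (X.presheaf.stalk (g' x')) (X'.presheaf.stalk x')
        (((Scheme.Modules.pullback g').obj F).presheaf.stalk x') :=
      .of_algebraMap_smul fun _ _ => rfl
    obtain ⟨τ, hτ⟩ := Groth.Agent.Lib.H72PullbackStalk.exists_isBaseChange_stalk_pullback g' F x'
    exact hτ.free

end Groth.Agent.Lib.RelFlatFree64
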