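import Groth.Agent.Lib.RelGlueHom
import Groth.Agent.Lib.H4TensorPair
import Groth.Agent.Lib.H78TensorGen

/-!
# Gluing a bilinear pairing of `O_X`-modules from chartwise pairings (helper28)

Bilinear analogue of `Lib/RelGlueHom`.  Data: modules `L L' N` on `X`, opens `V i`, modules `T i`, `T' i`, `T'' i` with
morphisms `lam i : L ⟶ T i`, `lam' i : L' ⟶ T' i`, `mu i : N ⟶ T'' i` and pairings `τ i : T i × T' i → T'' i`
(helper4's `Pairing`).  If every `mu i` is bijective on sections over the opens inside `V i`, the `V i` cover `X`, and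
any two of the relations `mu i t = τ i (lam i s) (lam' i s')` can be compared on a smaller member around every
point of `V i ⊓ V j`, then there is a pairing `β : L × L' → N` with `mu i (β s s') = τ i (lam i s) (lam' i s')` over
every open inside `V i` (`exists_pairing`).
-/

set_option autoImplicit false
universe u

open CategoryTheory AlgebraicGeometry TopologicalSpace Opposite
open AlgebraicGeometry.Scheme AlgebraicGeometry.Scheme.Modules
open Groth.Agent.Lib.H4TensorPair Groth.Agent.Lib.H78TensorGen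

namespace Groth.Agent.Lib.RelGluePair

variable {X : Scheme.{u}}

theorem app_rs {M N : X.Modules} (φ : M ⟶ N) {W W' : X.Opens} (h : W' ≤ W) (s : Γ(M, W)) :
    φ.app W' (rs M h s) = rs N h (φ.app W s) :=
  Groth.Agent.Lib.RelGlueHom.app_res φ h s

theorem Pairing.map_rs {L L' N : X.Modules} (β : Pairing L L' N) {W W' : X.Opens} (h : W' ≤ W)
    (a : Γ(L, W)) (b : Γ(L', W)) : rs N h (β.toFun W a b) = β.toFun W' (rs L h a) (rs L' h b) :=
  β.map h a b

variable {L L' N : X.Modules} {ι : Type*} (V : ι → X.Opens)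
  {T T' T'' : ι → X.Modules} (lam : ∀ i, L ⟶ T i) (lam' : ∀ i, L' ⟶ T' i) (mu : ∀ i, N ⟶ T'' i)
  (τ : ∀ i, Pairing (T i) (T' i) (T'' i))

/-- The relation "`t` is the product of `s` and `s'`" read in the chart `i`. -/
def RelP (i : ι) (W : X.Opens) (s : Γ(L, W)) (s' : Γ(L', W)) (t : Γ(N, W)) : Prop :=
  (mu i).app W t = (τ i).toFun W ((lam i).app W s) ((lam' i).app W s')

variable {lam lam' mu τ}

theorem RelP.res {i : ι} {W W' : X.Opens} (h : W' ≤ W) {s : Γ(L, W)} {s' : Γ(L', W)} {t : Γ(N, W)}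
    (hst : RelP lam lam' mu τ i W s s' t) :
    RelP lam lam' mu τ i W' (rs L h s) (rs L' h s') (rs N h t) := by
  unfold RelP at hst ⊢
  rw [app_rs, app_rs, app_rs, hst, Pairing.map_rs]

variable (lam lam' mu τ)

/-- GLUING of pairings: see the module docstring. -/
theorem exists_pairing
    (hcov : ∀ x : X, ∃ i, x ∈ V i)
    (hbij : ∀ (i : ι) (W : X.Opens), W ≤ V i → Function.Bijective ((mu i).app W))
    (hloc : ∀ (i j : ι) (x : X), x ∈ V i → x ∈ V j → ∃ k, x ∈ V k ∧ V k ≤ V i ∧ V k ≤ V j ∧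
      (∀ (W : X.Opens), W ≤ V k → ∀ (s : Γ(L, W)) (s' : Γ(L', W)) (t : Γ(N, W)),
        RelP lam lam' mu τ i W s s' t → RelP lam lam' mu τ k W s s' t) ∧
      (∀ (W : X.Opens), W ≤ V k → ∀ (s : Γ(L, W)) (s' : Γ(L', W)) (t : Γ(N, W)),
        RelP lam lam' mu τ j W s s' t → RelP lam lam' mu τ k W s s' t)) :
    ∃ β : Pairing L L' N, ∀ (i : ι) (W : X.Opens), W ≤ V i → ∀ (s : Γ(L, W)) (s' : Γ(L', W)),
      RelP lam lam' mu τ i W s s' (β.toFun W s s') := by
  classical
  -- existence and uniqueness in one chart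
  have hex : ∀ (i : ι) (W : X.Opens), W ≤ V i → ∀ (s : Γ(L, W)) (s' : Γ(L', W)),
      ∃ t : Γ(N, W), RelP lam lam' mu τ i W s s' t := fun i W hW s s' => (hbij i W hW).2 _
  have huniq : ∀ (i : ι) (W : X.Opens), W ≤ V i → ∀ (s : Γ(L, W)) (s' : Γ(L', W)) (t t' : Γ(N, W)),
      RelP lam lam' mu τ i W s s' t → RelP lam lam' mu τ i W s s' t' → t = t' :=
    fun i W hW s s' t t' h h' => (hbij i W hW).1 (h.trans h'.symm)
  -- independence of the chart
  have hindep : ∀ (i j : ι) (W : X.Opens), W ≤ V i → W ≤ V j → ∀ (s : Γ(L, W)) (s' : Γ(L', W))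
      (t t' : Γ(N, W)), RelP lam lam' mu τ i W s s' t → RelP lam lam' mu τ j W s s' t' → t = t' := by
    intro i j W hWi hWj s s' t t' h h'
    refine sec_ext N t t' fun x hx => ?_
    obtain ⟨k, hk1, hk2, hk3, hk4, hk5⟩ := hloc i j x (hWi hx) (hWj hx)
    refine ⟨W ⊓ V k, inf_le_left, ⟨hx, hk1⟩, ?_⟩
    exact huniq k _ inf_le_right _ _ _ _ (hk4 _ inf_le_right _ _ _ (h.res inf_le_left))
      (hk5 _ inf_le_right _ _ _ (h'.res inf_le_left))
  -- the good sections
  let Good : ∀ (W : X.Opens), Γ(L, W) → Γ(L', W) → Γ(N, W) → Prop := fun W s s' t =>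
    ∀ (i : ι) (W' : X.Opens) (h : W' ≤ W), W' ≤ V i → RelP lam lam' mu τ i W' (rs L h s) (rs L' h s') (rs N h t)
  have hGood_res : ∀ (W W₁ : X.Opens) (h₁ : W₁ ≤ W) (s : Γ(L, W)) (s' : Γ(L', W)) (t : Γ(N, W)),
      Good W s s' t → Good W₁ (rs L h₁ s) (rs L' h₁ s') (rs N h₁ t) := by
    intro W W₁ h₁ s s' t hg i W' h hi
    rw [rs_rs, rs_rs, rs_rs]
    exact hg i W' (h.trans h₁) hi
  have hGood_uniq : ∀ (W : X.Opens) (s : Γ(L, W)) (s' : Γ(L', W)) (t t' : Γ(N, W)),
      Good W s s' t → Good W s s' t' → t = t' := by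
    intro W s s' t t' hg hg'
    refine sec_ext N t t' fun x hx => ?_
    obtain ⟨i, hi⟩ := hcov x
    exact ⟨W ⊓ V i, inf_le_left, ⟨hx, hi⟩,
      huniq i _ inf_le_right _ _ _ _ (hg i _ inf_le_left inf_le_right) (hg' i _ inf_le_left inf_le_right)⟩
  have hGood_ex : ∀ (W : X.Opens) (s : Γ(L, W)) (s' : Γ(L', W)), ∃ t : Γ(N, W), Good W s s' t := by
    intro W s s'
    choose ψ hψ using fun i : ι => hex i (W ⊓ V i) inf_le_right (rs L inf_le_left s) (rs L' inf_le_left s')
    obtain ⟨t, ht⟩ := sec_glue N (fun i : ι => W ⊓ V i) (fun i => inf_le_left)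
      (by
        intro x hx
        obtain ⟨i, hi⟩ := hcov x
        exact Opens.mem_iSup.2 ⟨i, ⟨hx, hi⟩⟩) ψ
      (by
        intro i j
        refine hindep i j _ (inf_le_left.trans inf_le_right) (inf_le_right.trans inf_le_right)
          (rs L (inf_le_left.trans inf_le_left) s) (rs L' (inf_le_left.trans inf_le_left) s') _ _ ?_ ?_
        · have := (hψ i).res (inf_le_left : (W ⊓ V i) ⊓ (W ⊓ V j) ≤ W ⊓ V i)
          rwa [rs_rs, rs_rs] at this
        · have := (hψ j).res (inf_le_right : (W ⊓ V i) ⊓ (W ⊓ V j) ≤ W ⊓ V j)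
          rwa [rs_rs, rs_rs] at this)
    refine ⟨t, fun i W' h hi => ?_⟩
    have h' : W' ≤ W ⊓ V i := le_inf h hi
    have := (hψ i).res h'
    rwa [rs_rs, rs_rs, ← ht i, rs_rs] at this
  choose β hβ using hGood_ex
  have key : ∀ (W : X.Opens) (s : Γ(L, W)) (s' : Γ(L', W)) (t : Γ(N, W)), Good W s s' t → β W s s' = t :=
    fun W s s' t ht => hGood_uniq W s s' _ _ (hβ W s s') ht
  refine ⟨{ toFun := β, add_left := ?_, add_right := ?_, smul_left := ?_, smul_right := ?_, map := ?_ }, ?_⟩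
  · intro W a a' b
    refine key W _ _ _ fun i W' h hi => ?_
    have h1 := hβ W a b i W' h hi
    have h2 := hβ W a' b i W' h hi
    unfold RelP at h1 h2 ⊢
    have e1 : rs L h (a + a') = rs L h a + rs L h a' := map_add _ _ _
    have e2 : rs N h (β W a b + β W a' b) = rs N h (β W a b) + rs N h (β W a' b) := map_add _ _ _
    rw [e1, e2, map_add, map_add, h1, h2, (τ i).add_left]
  · intro W a b b'
    refine key W _ _ _ fun i W' h hi => ?_
    have h1 := hβ W a b i W' h hi
    have h2 := hβ W a b' i W' h hi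
    unfold RelP at h1 h2 ⊢
    have e1 : rs L' h (b + b') = rs L' h b + rs L' h b' := map_add _ _ _
    have e2 : rs N h (β W a b + β W a b') = rs N h (β W a b) + rs N h (β W a b') := map_add _ _ _
    rw [e1, e2, map_add, map_add, h1, h2, (τ i).add_right]
  · intro W r a b
    refine key W _ _ _ fun i W' h hi => ?_
    have h1 := hβ W a b i W' h hi
    unfold RelP at h1 ⊢
    have e1 : rs L h (r • a) = (X.presheaf.map (homOfLE h).op r) • rs L h a := L.map_smul _ r a
    have e2 : rs N h (r • β W a b) = (X.presheaf.map (homOfLE h).op r) • rs N h (β W a b) := N.map_smul _ r _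
    rw [e1, e2, Hom.app_smul, Hom.app_smul, h1, (τ i).smul_left]
  · intro W r a b
    refine key W _ _ _ fun i W' h hi => ?_
    have h1 := hβ W a b i W' h hi
    unfold RelP at h1 ⊢
    have e1 : rs L' h (r • b) = (X.presheaf.map (homOfLE h).op r) • rs L' h b := L'.map_smul _ r b
    have e2 : rs N h (r • β W a b) = (X.presheaf.map (homOfLE h).op r) • rs N h (β W a b) := N.map_smul _ r _
    rw [e1, e2, Hom.app_smul, Hom.app_smul, h1, (τ i).smul_right]
  · intro W W₁ h a b
    exact (key W₁ _ _ _ (hGood_res W W₁ h a b _ (hβ W a b))).symm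
  · intro i W hW s s'
    have := hβ W s s' i W le_rfl hW
    rwa [rs_self, rs_self, rs_self] at this

end Groth.Agent.Lib.RelGluePair
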