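import Groth.Agent.Lib.HilbertFin38
import Groth.Agent.Lib.ComodSurj

/-!
# Relative Hilbert finiteness (helper55)

`k` a field, `H` a commutative bialgebra, `A` a comodule algebra.  For a multiplicative matrix
`m : ι → ι → H` the polynomial ring `MvPolynomial ι A` is a comodule algebra (`relComod`): the
coaction is that of `A` on coefficients and `X i ↦ Σ X j ⊗ m j i` on variables.  It preserves
degrees, so that homogeneous components of invariants are invariant, and Hilbert's argument gives:
for `H` linearly reductive and `A` Noetherian, the invariants of `MvPolynomial ι A` are generated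
over the invariants of `A` by finitely many invariants (`exists_finset_invariants_adjoin_rel`).
-/

set_option autoImplicit false
set_option linter.unusedSectionVars false
universe u
open TensorProduct

namespace Groth.Agent.Lib.RelHilbert
open Groth.Agent.Lib.Comod Groth.Agent.Lib.Reynolds38 Groth.Agent.Lib.GLinGrading38
  Groth.Agent.Lib.HilbertFin38

section RelPoly
variable {k : Type u} [Field k] {H : Type u} [CommRing H] [Bialgebra k H]
  {A : Type u} [CommRing A] [Algebra k A] [cA : HopfRep.Comod k H A] [GLin.IsCoactAlg k H A]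
  {ι : Type u} [Fintype ι] [DecidableEq ι]

variable (k H A ι) in
/-- `C` as a `k`-algebra map. -/
noncomputable abbrev Cₐ : A →ₐ[k] MvPolynomial ι A := IsScalarTower.toAlgHom k A (MvPolynomial ι A)

omit cA [GLin.IsCoactAlg k H A] [Fintype ι] [DecidableEq ι] [Bialgebra k H] [CommRing H] in
theorem Cₐ_apply (a : A) : Cₐ k A ι a = MvPolynomial.C a := rfl

variable (k H A ι) in
/-- the coaction on coefficients: `a ↦ (C ⊗ id)(ρ a)`. -/
noncomputable def coeffHom : A →ₐ[k] MvPolynomial ι A ⊗[k] H :=
  (Algebra.TensorProduct.map (Cₐ k A ι) (AlgHom.id k H)).comp (GLin.coactAlgHom k H A)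

/-- the coaction on `MvPolynomial ι A`. -/
noncomputable def relCoact (m : ι → ι → H) : MvPolynomial ι A →ₐ[k] MvPolynomial ι A ⊗[k] H :=
  MvPolynomial.aevalTower (coeffHom k H A ι)
    (fun i => ∑ j, (MvPolynomial.X j : MvPolynomial ι A) ⊗ₜ[k] m j i)

@[simp] theorem relCoact_X (m : ι → ι → H) (i : ι) :
    relCoact (k := k) (A := A) m (MvPolynomial.X i) =
      ∑ j, (MvPolynomial.X j : MvPolynomial ι A) ⊗ₜ[k] m j i := by
  simp [relCoact]

@[simp] theorem relCoact_C (m : ι → ι → H) (a : A) :
    relCoact (k := k) (A := A) m (MvPolynomial.C a) =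
      Algebra.TensorProduct.map (Cₐ k A ι) (AlgHom.id k H) (GLin.coactAlgHom k H A a) := by
  simp [relCoact, coeffHom]

theorem relCoact_comp_Cₐ (m : ι → ι → H) :
    (relCoact (k := k) (A := A) m).comp (Cₐ k A ι) = coeffHom k H A ι :=
  MvPolynomial.aevalTower_comp_toAlgHom _ _

theorem assoc_map_relCoact_map_C (m : ι → ι → H) (t : A ⊗[k] H) :
    (Algebra.TensorProduct.assoc k k k (MvPolynomial ι A) H H)
      ((Algebra.TensorProduct.map (relCoact (k := k) (A := A) m) (AlgHom.id k H))
        ((Algebra.TensorProduct.map (Cₐ k A ι) (AlgHom.id k H)) t)) =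
    (Algebra.TensorProduct.map (Cₐ k A ι) (AlgHom.id k (H ⊗[k] H)))
      ((Algebra.TensorProduct.assoc k k k A H H)
        ((Algebra.TensorProduct.map (GLin.coactAlgHom k H A) (AlgHom.id k H)) t)) := by
  induction t using TensorProduct.induction_on with
  | zero => simp
  | add x y hx hy => simp only [map_add, hx, hy]
  | tmul a h =>
    simp only [Algebra.TensorProduct.map_tmul, AlgHom.id_apply, Cₐ_apply, relCoact_C]
    generalize GLin.coactAlgHom k H A a = t'
    induction t' using TensorProduct.induction_on with
    | zero => simp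
    | add x y hx hy => simp only [map_add, TensorProduct.add_tmul, hx, hy]
    | tmul a' h' => simp

theorem coactAlgHom_coassoc (a : A) :
    (Algebra.TensorProduct.assoc k k k A H H)
      ((Algebra.TensorProduct.map (GLin.coactAlgHom k H A) (AlgHom.id k H))
        (GLin.coactAlgHom k H A a)) =
    (Algebra.TensorProduct.map (AlgHom.id k A) (Bialgebra.comulAlgHom k H))
      (GLin.coactAlgHom k H A a) := by
  have hco := LinearMap.congr_fun (HopfRep.Comod.coassoc (k := k) (A := H) (V := A)) a
  simp only [LinearMap.coe_comp, LinearEquiv.coe_coe, Function.comp_apply] at hco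
  rw [algMap_rTensor, algMap_lTensor]
  exact hco

theorem map_C_map_comul (t : A ⊗[k] H) :
    (Algebra.TensorProduct.map (Cₐ k A ι) (AlgHom.id k (H ⊗[k] H)))
      ((Algebra.TensorProduct.map (AlgHom.id k A) (Bialgebra.comulAlgHom k H)) t) =
    (Algebra.TensorProduct.map (AlgHom.id k (MvPolynomial ι A)) (Bialgebra.comulAlgHom k H))
      ((Algebra.TensorProduct.map (Cₐ k A ι) (AlgHom.id k H)) t) := by
  induction t using TensorProduct.induction_on with
  | zero => simp
  | add x y hx hy => simp only [map_add, hx, hy]
  | tmul a h => simp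

/-- the comodule structure on `MvPolynomial ι A` given by the coaction of `A` and a multiplicative
matrix. -/
@[reducible] noncomputable def relComod (m : ι → ι → H)
    (hΔ : ∀ l i, CoalgebraStruct.comul (R := k) (m l i) = ∑ j, m l j ⊗ₜ[k] m j i)
    (hε : ∀ l i, CoalgebraStruct.counit (R := k) (m l i) = if l = i then (1 : k) else 0) :
    HopfRep.Comod k H (MvPolynomial ι A) where
  coact := (relCoact (k := k) (A := A) m).toLinearMap
  coassoc := by
    have h : (Algebra.TensorProduct.assoc k k k (MvPolynomial ι A) H H).toAlgHom.comp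
        ((Algebra.TensorProduct.map (relCoact (k := k) (A := A) m) (AlgHom.id k H)).comp
          (relCoact (k := k) (A := A) m)) =
        (Algebra.TensorProduct.map (AlgHom.id k (MvPolynomial ι A)) (Bialgebra.comulAlgHom k H)).comp
          (relCoact (k := k) (A := A) m) := by
      apply MvPolynomial.algHom_ext'
      · apply AlgHom.ext
        intro a
        simp only [AlgHom.comp_apply, Cₐ_apply, relCoact_C]
        refine (assoc_map_relCoact_map_C m _).trans ?_
        rw [coactAlgHom_coassoc, map_C_map_comul]
      · intro i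
        simp only [AlgHom.comp_apply, relCoact_X, map_sum, Algebra.TensorProduct.map_tmul,
          AlgHom.id_apply, Bialgebra.comulAlgHom_apply, hΔ,
          TensorProduct.tmul_sum, TensorProduct.sum_tmul]
        rw [Finset.sum_comm]
        rfl
    apply LinearMap.ext
    intro x
    have hx := AlgHom.congr_fun h x
    simp only [AlgHom.comp_apply] at hx
    rw [algMap_rTensor, algMap_lTensor] at hx
    exact hx
  counit_comp := by
    have h : (Algebra.TensorProduct.map (AlgHom.id k (MvPolynomial ι A)) (Bialgebra.counitAlgHom k H)).comp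
          (relCoact (k := k) (A := A) m) = Algebra.TensorProduct.includeLeft := by
      apply MvPolynomial.algHom_ext'
      · apply AlgHom.ext
        intro a
        simp only [AlgHom.comp_apply, Cₐ_apply, relCoact_C]
        have hcu := LinearMap.congr_fun (HopfRep.Comod.counit_comp (k := k) (A := H) (V := A)) a
        simp only [LinearMap.coe_comp, Function.comp_apply, LinearMap.flip_apply,
          TensorProduct.mk_apply] at hcu
        have key : ∀ t : A ⊗[k] H,
            (Algebra.TensorProduct.map (AlgHom.id k (MvPolynomial ι A)) (Bialgebra.counitAlgHom k H))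
              ((Algebra.TensorProduct.map (Cₐ k A ι) (AlgHom.id k H)) t) =
            (Algebra.TensorProduct.map (Cₐ k A ι) (AlgHom.id k k))
              ((CoalgebraStruct.counit (R := k) (A := H)).lTensor A t) := by
          intro t
          induction t using TensorProduct.induction_on with
          | zero => simp
          | add x y hx hy => simp only [map_add, hx, hy]
          | tmul a h => simp
        rw [GLin.coactAlgHom_apply, key, hcu]
        simp
      · intro i
        simp only [AlgHom.comp_apply, relCoact_X, map_sum, Algebra.TensorProduct.map_tmul,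
          AlgHom.id_apply, Bialgebra.counitAlgHom_apply, hε, Algebra.TensorProduct.includeLeft_apply]
        rw [Finset.sum_eq_single i]
        · simp
        · intro j _ hji; simp [hji]
        · intro h; exact absurd (Finset.mem_univ i) h
    apply LinearMap.ext
    intro x
    have hx := AlgHom.congr_fun h x
    simp only [AlgHom.comp_apply] at hx
    rw [algMap_lTensor] at hx
    simpa using hx

theorem relComod_isCoactAlg (m : ι → ι → H)
    (hΔ : ∀ l i, CoalgebraStruct.comul (R := k) (m l i) = ∑ j, m l j ⊗ₜ[k] m j i)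
    (hε : ∀ l i, CoalgebraStruct.counit (R := k) (m l i) = if l = i then (1 : k) else 0) :
    @GLin.IsCoactAlg k _ H _ _ (MvPolynomial ι A) _ _ (relComod (A := A) m hΔ hε) :=
  @GLin.IsCoactAlg.mk k _ H _ _ (MvPolynomial ι A) _ _ (relComod (A := A) m hΔ hε)
    (map_one (relCoact (k := k) (A := A) m)) (fun f g => map_mul (relCoact (k := k) (A := A) m) f g)

end RelPoly

section Grading
variable {k : Type u} [Field k] {H : Type u} [CommRing H] [Bialgebra k H]
  {A : Type u} [CommRing A] [Algebra k A] {ι : Type u}

variable (k A ι) in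
/-- the degree `d` part of `MvPolynomial ι A` as a `k`-submodule. -/
noncomputable def Bd (d : ℕ) : Submodule k (MvPolynomial ι A) :=
  (MvPolynomial.homogeneousSubmodule ι A d).restrictScalars k

variable (k H A ι) in
/-- The image of `B_d ⊗ H` in `B ⊗ H`. -/
noncomputable def Md (d : ℕ) : Submodule k (MvPolynomial ι A ⊗[k] H) :=
  LinearMap.range ((Bd k A ι d).subtype.rTensor H)

variable (k A ι) in
/-- the projection to the degree `d` part, as a `k`-linear map. -/
noncomputable def πd (d : ℕ) : MvPolynomial ι A →ₗ[k] MvPolynomial ι A :=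
  (MvPolynomial.homogeneousComponent d).restrictScalars k

theorem πd_apply (d : ℕ) (F : MvPolynomial ι A) :
    πd k A ι d F = MvPolynomial.homogeneousComponent d F := rfl

theorem tmul_mem_Md {d : ℕ} {y : MvPolynomial ι A} (hy : y.IsHomogeneous d) (h : H) :
    y ⊗ₜ[k] h ∈ Md k H A ι d :=
  ⟨(⟨y, hy⟩ : Bd k A ι d) ⊗ₜ[k] h, by simp⟩

theorem mul_mem_Md {d e : ℕ} {s t : MvPolynomial ι A ⊗[k] H} (hs : s ∈ Md k H A ι d)
    (ht : t ∈ Md k H A ι e) : s * t ∈ Md k H A ι (d + e) := by
  obtain ⟨s', rfl⟩ := hs
  obtain ⟨t', rfl⟩ := ht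
  induction s' using TensorProduct.induction_on with
  | zero => simp
  | add a b ha hb => rw [map_add, add_mul]; exact add_mem ha hb
  | tmul y a =>
    induction t' using TensorProduct.induction_on with
    | zero => simp
    | add c d' hc hd => rw [map_add, mul_add]; exact add_mem hc hd
    | tmul z b =>
      simp only [LinearMap.rTensor_tmul, Submodule.subtype_apply,
        Algebra.TensorProduct.tmul_mul_tmul]
      exact tmul_mem_Md (MvPolynomial.IsHomogeneous.mul y.2 z.2) _

theorem one_mem_Md : (1 : MvPolynomial ι A ⊗[k] H) ∈ Md k H A ι 0 := by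
  rw [Algebra.TensorProduct.one_def]
  exact tmul_mem_Md (MvPolynomial.isHomogeneous_one ι A) 1

theorem pow_mem_Md {d : ℕ} {s : MvPolynomial ι A ⊗[k] H} (hs : s ∈ Md k H A ι d) (n : ℕ) :
    s ^ n ∈ Md k H A ι (d * n) := by
  induction n with
  | zero => simpa using one_mem_Md
  | succ n ih =>
    rw [pow_succ, Nat.mul_succ]
    exact mul_mem_Md ih hs

/-- `π_d ⊗ id` on `Md e`. -/
theorem rTensor_πd_of_mem_Md {d e : ℕ} {t : MvPolynomial ι A ⊗[k] H}
    (ht : t ∈ Md k H A ι e) :
    (πd k A ι d).rTensor H t = if d = e then t else 0 := by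
  obtain ⟨t', rfl⟩ := ht
  rw [← LinearMap.comp_apply, ← LinearMap.rTensor_comp]
  have : πd k A ι d ∘ₗ (Bd k A ι e).subtype =
      if d = e then (Bd k A ι e).subtype else 0 := by
    apply LinearMap.ext
    intro y
    rw [LinearMap.comp_apply, Submodule.subtype_apply, πd_apply,
      MvPolynomial.homogeneousComponent_of_mem y.2]
    split_ifs <;> simp
  rw [this]
  split_ifs <;> simp

variable [Fintype ι] [HopfRep.Comod k H (MvPolynomial ι A)]
  [GLin.IsCoactAlg k H (MvPolynomial ι A)]

theorem coact_pow (F : MvPolynomial ι A) (n : ℕ) :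
    HopfRep.Comod.coact (k := k) (A := H) (F ^ n) =
      (HopfRep.Comod.coact (k := k) (A := H) F) ^ n := by
  induction n with
  | zero => rw [pow_zero, pow_zero, GLin.IsCoactAlg.coact_one (k := k) (A := H)]
  | succ n ih => rw [pow_succ, pow_succ, GLin.IsCoactAlg.coact_mul, ih]

theorem coact_monomial_mem_Md
    (hX : ∀ i, HopfRep.Comod.coact (k := k) (A := H) (MvPolynomial.X i : MvPolynomial ι A) ∈
      Md k H A ι 1) (α : ι →₀ ℕ) :
    HopfRep.Comod.coact (k := k) (A := H) (MvPolynomial.monomial α (1 : A)) ∈
      Md k H A ι α.degree := by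
  induction α using Finsupp.induction_linear with
  | zero =>
    have : (MvPolynomial.monomial (0 : ι →₀ ℕ) (1 : A)) = 1 := rfl
    rw [this, GLin.IsCoactAlg.coact_one (k := k) (A := H)]
    simpa using one_mem_Md (k := k) (H := H) (A := A) (ι := ι)
  | add f g hf hg =>
    have : MvPolynomial.monomial (f + g) (1 : A) =
        MvPolynomial.monomial f 1 * MvPolynomial.monomial g 1 := by
      rw [MvPolynomial.monomial_mul, one_mul]
    rw [this, GLin.IsCoactAlg.coact_mul, map_add]
    exact mul_mem_Md hf hg
  | single i n =>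
    have h1 : MvPolynomial.monomial (Finsupp.single i n) (1 : A) = (MvPolynomial.X i) ^ n := by
      rw [MvPolynomial.X_pow_eq_monomial]
    rw [h1, coact_pow, Finsupp.degree_single]
    have := pow_mem_Md (hX i) n
    rwa [one_mul] at this

theorem coact_mem_Md
    (hX : ∀ i, HopfRep.Comod.coact (k := k) (A := H) (MvPolynomial.X i : MvPolynomial ι A) ∈
      Md k H A ι 1)
    (hC : ∀ a : A, HopfRep.Comod.coact (k := k) (A := H) (MvPolynomial.C a : MvPolynomial ι A) ∈
      Md k H A ι 0)
    {F : MvPolynomial ι A} {d : ℕ} (hF : F.IsHomogeneous d) :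
    HopfRep.Comod.coact (k := k) (A := H) F ∈ Md k H A ι d := by
  rw [← MvPolynomial.support_sum_monomial_coeff F, map_sum]
  refine Submodule.sum_mem _ fun α hα => ?_
  have h1 : MvPolynomial.monomial α (MvPolynomial.coeff α F) =
      MvPolynomial.C (MvPolynomial.coeff α F) * MvPolynomial.monomial α (1 : A) := by
    rw [MvPolynomial.C_mul_monomial, mul_one]
  rw [h1, GLin.IsCoactAlg.coact_mul]
  have hdeg : α.degree = d := by
    have := hF (MvPolynomial.mem_support_iff.1 hα)
    rw [← this, Finsupp.degree_eq_weight_one]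
    rfl
  have := mul_mem_Md (hC (MvPolynomial.coeff α F)) (coact_monomial_mem_Md hX α)
  rwa [zero_add, hdeg] at this

/-- A degree-preserving coaction commutes with taking homogeneous components. -/
theorem rTensor_πd_coact
    (hX : ∀ i, HopfRep.Comod.coact (k := k) (A := H) (MvPolynomial.X i : MvPolynomial ι A) ∈
      Md k H A ι 1)
    (hC : ∀ a : A, HopfRep.Comod.coact (k := k) (A := H) (MvPolynomial.C a : MvPolynomial ι A) ∈
      Md k H A ι 0) (d : ℕ) (F : MvPolynomial ι A) :
    (πd k A ι d).rTensor H (HopfRep.Comod.coact (k := k) (A := H) F) =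
      HopfRep.Comod.coact (k := k) (A := H) (MvPolynomial.homogeneousComponent d F) := by
  conv_lhs => rw [← MvPolynomial.sum_homogeneousComponent F]
  rw [map_sum, map_sum]
  have : ∀ e ∈ Finset.range (F.totalDegree + 1),
      (πd k A ι d).rTensor H
        (HopfRep.Comod.coact (k := k) (A := H) (MvPolynomial.homogeneousComponent e F)) =
      if d = e then HopfRep.Comod.coact (k := k) (A := H) (MvPolynomial.homogeneousComponent e F)
        else 0 := fun e _ =>
    rTensor_πd_of_mem_Md
      (coact_mem_Md hX hC (MvPolynomial.homogeneousComponent_isHomogeneous e F))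
  rw [Finset.sum_congr rfl this, Finset.sum_ite_eq]
  split_ifs with h
  · rfl
  · rw [Finset.mem_range, not_lt] at h
    rw [MvPolynomial.homogeneousComponent_eq_zero _ _ (by omega), map_zero]

theorem homogeneousComponent_mem_invariants_rel
    (hX : ∀ i, HopfRep.Comod.coact (k := k) (A := H) (MvPolynomial.X i : MvPolynomial ι A) ∈
      Md k H A ι 1)
    (hC : ∀ a : A, HopfRep.Comod.coact (k := k) (A := H) (MvPolynomial.C a : MvPolynomial ι A) ∈
      Md k H A ι 0) (d : ℕ)
    {F : MvPolynomial ι A} (hF : F ∈ GLin.invariants k H (MvPolynomial ι A)) :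
    MvPolynomial.homogeneousComponent d F ∈ GLin.invariants k H (MvPolynomial ι A) := by
  rw [GLin.mem_invariants_iff] at hF ⊢
  rw [← rTensor_πd_coact hX hC, hF, LinearMap.rTensor_tmul, πd_apply]

end Grading

section Hilbert
variable {k : Type u} [Field k] {H : Type u} [CommRing H] [Bialgebra k H]
  {A : Type u} [CommRing A] [Algebra k A] [IsNoetherianRing A]
  [cA : HopfRep.Comod k H A] [GLin.IsCoactAlg k H A]
  {ι : Type u} [Fintype ι] [HopfRep.Comod k H (MvPolynomial ι A)]
  [GLin.IsCoactAlg k H (MvPolynomial ι A)]

/-- Hilbert's argument, relative to a Noetherian coefficient comodule algebra. -/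
theorem exists_finset_invariants_adjoin_rel (hG : HopfRep.IsLinearlyReductive k H)
    (hX : ∀ i, HopfRep.Comod.coact (k := k) (A := H) (MvPolynomial.X i : MvPolynomial ι A) ∈
      Md k H A ι 1)
    (hC : ∀ a : A, HopfRep.Comod.coact (k := k) (A := H) (MvPolynomial.C a : MvPolynomial ι A) ∈
      Md k H A ι 0)
    (hC0 : ∀ a : A, (MvPolynomial.C a : MvPolynomial ι A) ∈
      GLin.invariants k H (MvPolynomial ι A) → a ∈ GLin.invariants k H A) :
    ∃ T : Finset (MvPolynomial ι A), (∀ f ∈ T, f ∈ GLin.invariants k H (MvPolynomial ι A)) ∧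
      ∀ f ∈ GLin.invariants k H (MvPolynomial ι A),
        f ∈ Algebra.adjoin k ((MvPolynomial.C '' (GLin.invariants k H A : Set A)) ∪
          (T : Set (MvPolynomial ι A))) := by
  classical
  let gens : Set (MvPolynomial ι A) :=
    {f | f ∈ GLin.invariants k H (MvPolynomial ι A) ∧ ∃ d : ℕ, 0 < d ∧ f.IsHomogeneous d}
  have hfg : (Submodule.span (MvPolynomial ι A) gens).FG := IsNoetherian.noetherian _
  obtain ⟨T, hTsub, hTspan⟩ := (Submodule.fg_span_iff_fg_span_finset_subset gens).1 hfg
  refine ⟨T, fun f hf => (hTsub hf).1, ?_⟩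
  obtain ⟨E, hE⟩ := exists_isReynolds hG (MvPolynomial ι A)
  set 𝒮 := Algebra.adjoin k ((MvPolynomial.C '' (GLin.invariants k H A : Set A)) ∪
          (T : Set (MvPolynomial ι A))) with h𝒮
  have hTadj : ∀ t ∈ T, t ∈ 𝒮 := fun t ht => Algebra.subset_adjoin (Or.inr ht)
  have hom : ∀ d : ℕ, ∀ f : MvPolynomial ι A, f ∈ GLin.invariants k H (MvPolynomial ι A) →
      f.IsHomogeneous d → f ∈ 𝒮 := by
    intro d
    induction d using Nat.strong_induction_on with
    | _ d ih =>
      intro f hf hfd
      rcases Nat.eq_zero_or_pos d with rfl | hd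
      · have h0 : f = MvPolynomial.C (MvPolynomial.coeff 0 f) := by
          rw [← MvPolynomial.homogeneousComponent_zero, MvPolynomial.homogeneousComponent_of_mem hfd,
            if_pos rfl]
        rw [h0] at hf ⊢
        exact Algebra.subset_adjoin (Or.inl ⟨_, hC0 _ hf, rfl⟩)
      · have key : ∀ g : MvPolynomial ι A, g ∈ GLin.invariants k H (MvPolynomial ι A) → ∀ t ∈ T,
            MvPolynomial.homogeneousComponent d (g * t) ∈ 𝒮 := by
          intro g hg t ht
          obtain ⟨dt, hdt, htd⟩ := (hTsub ht).2
          have hg_sum : g * t = ∑ e ∈ Finset.range (g.totalDegree + 1),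
              MvPolynomial.homogeneousComponent e g * t := by
            rw [← Finset.sum_mul, MvPolynomial.sum_homogeneousComponent]
          rw [hg_sum, map_sum]
          refine Subalgebra.sum_mem _ fun e _ => ?_
          have hhom : (MvPolynomial.homogeneousComponent e g * t).IsHomogeneous (e + dt) :=
            (MvPolynomial.homogeneousComponent_isHomogeneous e g).mul htd
          rw [MvPolynomial.homogeneousComponent_of_mem hhom]
          split_ifs with hde
          · refine Subalgebra.mul_mem _ ?_ (hTadj t ht)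
            exact ih e (by omega) _ (homogeneousComponent_mem_invariants_rel hX hC e hg)
              (MvPolynomial.homogeneousComponent_isHomogeneous e g)
          · exact Subalgebra.zero_mem _
        have hfI : f ∈ Submodule.span (MvPolynomial ι A) gens :=
          Submodule.subset_span ⟨hf, d, hd, hfd⟩
        rw [hTspan] at hfI
        obtain ⟨a, -, ha⟩ := Submodule.mem_span_finset.1 hfI
        have hEf : E f = f := (hE.2.2 f).2 hf
        have h1 : f = ∑ t ∈ T, E (a t) * t := by
          conv_lhs => rw [← hEf, ← ha, map_sum]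
          refine Finset.sum_congr rfl fun t ht => ?_
          rw [smul_eq_mul]
          exact hE.map_mul_invariant hG (a t) t (hTsub ht).1
        have h2 : f = MvPolynomial.homogeneousComponent d f := by
          rw [MvPolynomial.homogeneousComponent_of_mem hfd, if_pos rfl]
        rw [h2, h1, map_sum]
        exact Subalgebra.sum_mem _ fun t ht =>
          key _ (mem_invariants_of_mem_fixedPts (hE.apply_mem (a t))) t ht
  intro f hf
  rw [← MvPolynomial.sum_homogeneousComponent f]
  exact Subalgebra.sum_mem _ fun e _ =>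
    hom e _ (homogeneousComponent_mem_invariants_rel hX hC e hf)
      (MvPolynomial.homogeneousComponent_isHomogeneous e f)

end Hilbert

section Instance
variable {k : Type u} [Field k] {H : Type u} [CommRing H] [Bialgebra k H]
  {A : Type u} [CommRing A] [Algebra k A]
  [cA : HopfRep.Comod k H A] [GLin.IsCoactAlg k H A]
  {ι : Type u} [Fintype ι] [DecidableEq ι]

theorem map_Cₐ_mem_Md (t : A ⊗[k] H) :
    Algebra.TensorProduct.map (Cₐ k A ι) (AlgHom.id k H) t ∈ Md k H A ι 0 := by
  induction t using TensorProduct.induction_on with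
  | zero => simp
  | add x y hx hy => rw [map_add]; exact add_mem hx hy
  | tmul a h =>
    rw [Algebra.TensorProduct.map_tmul]
    exact tmul_mem_Md (MvPolynomial.isHomogeneous_C ι a) _

theorem relCoact_X_mem (m : ι → ι → H) (i : ι) :
    relCoact (k := k) (A := A) m (MvPolynomial.X i) ∈ Md k H A ι 1 := by
  rw [relCoact_X]
  exact Submodule.sum_mem _ fun j _ => tmul_mem_Md (MvPolynomial.isHomogeneous_X A j) _

theorem relCoact_C_mem (m : ι → ι → H) (a : A) :
    relCoact (k := k) (A := A) m (MvPolynomial.C a) ∈ Md k H A ι 0 := by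
  rw [relCoact_C]
  exact map_Cₐ_mem_Md _

theorem mem_invariants_of_relCoact_C (m : ι → ι → H) (a : A)
    (h : relCoact (k := k) (A := A) m (MvPolynomial.C a) =
      (MvPolynomial.C a : MvPolynomial ι A) ⊗ₜ[k] (1 : H)) :
    a ∈ GLin.invariants k H A := by
  rw [GLin.mem_invariants_iff]
  rw [relCoact_C, algMap_rTensor] at h
  have hinj : Function.Injective ((Cₐ k A ι).toLinearMap.rTensor H) :=
    Module.Flat.rTensor_preserves_injective_linearMap _ (MvPolynomial.C_injective ι A)
  apply hinj
  rw [GLin.coactAlgHom_apply] at h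
  rw [h, LinearMap.rTensor_tmul]
  rfl

end Instance

end Groth.Agent.Lib.RelHilbert
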