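import Groth.Prelude.Def_CohTop
import Mathlib.CategoryTheory.Abelian.Refinements

/-!
# Short exactness of a Mayer–Vietoris-shaped sequence of abelian sheaves from sections (helper31)
-/

set_option autoImplicit false

universe u

open CategoryTheory Limits TopologicalSpace Opposite

namespace Groth.Agent.SheafSectionsExact31

variable {Y : TopCat.{u}} {A B₁ B₂ E : CohTop.Ab Y}
  (a₁ : A ⟶ B₁) (a₂ : A ⟶ B₂) (c₁ : B₁ ⟶ E) (c₂ : B₂ ⟶ E)

lemma hom_eq_zero_of_sections {T T' : CohTop.Ab Y} (t : T ⟶ T')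
    (h : ∀ (W : (Opens Y)ᵒᵖ) (s : T.obj.obj W), t.hom.app W s = 0) : t = 0 := by
  ext W s
  exact h W s

theorem shortExact_of_sections (w : a₁ ≫ c₁ = a₂ ≫ c₂)
    (h₁ : ∀ (W : (Opens Y)ᵒᵖ) (x : A.obj.obj W),
      a₁.hom.app W x = 0 → a₂.hom.app W x = 0 → x = 0)
    (h₂ : ∀ (W : (Opens Y)ᵒᵖ) (y₁ : B₁.obj.obj W) (y₂ : B₂.obj.obj W),
      c₁.hom.app W y₁ = c₂.hom.app W y₂ →
        ∃ x : A.obj.obj W, a₁.hom.app W x = y₁ ∧ a₂.hom.app W x = y₂)
    (h₃ : ∀ (W : (Opens Y)ᵒᵖ) (z : E.obj.obj W),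
      ∃ (y₁ : B₁.obj.obj W) (y₂ : B₂.obj.obj W), c₁.hom.app W y₁ - c₂.hom.app W y₂ = z) :
    ∃ w', (ShortComplex.mk (biprod.lift a₁ a₂) (biprod.desc c₁ (-c₂)) w').ShortExact := by
  have w' : biprod.lift a₁ a₂ ≫ biprod.desc c₁ (-c₂) = 0 := by simp [w]
  refine ⟨w', ?_⟩
  have hmono : Mono (biprod.lift a₁ a₂) := by
    refine Preadditive.mono_of_cancel_zero _ (fun {T} t ht => ?_)
    have ht₁ : t ≫ a₁ = 0 := by
      have := congrArg (· ≫ biprod.fst) ht
      simpa using this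
    have ht₂ : t ≫ a₂ = 0 := by
      have := congrArg (· ≫ biprod.snd) ht
      simpa using this
    refine hom_eq_zero_of_sections t (fun W s => h₁ W _ ?_ ?_)
    · have := congrArg (fun φ => φ.hom.app W s) ht₁
      exact this
    · have := congrArg (fun φ => φ.hom.app W s) ht₂
      exact this
  have hepi : Epi (biprod.desc c₁ (-c₂)) := by
    refine Preadditive.epi_of_cancel_zero _ (fun {T} t ht => ?_)
    have ht₁ : c₁ ≫ t = 0 := by
      have := congrArg (biprod.inl ≫ ·) ht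
      simpa using this
    have ht₂ : c₂ ≫ t = 0 := by
      have := congrArg (biprod.inr ≫ ·) ht
      simpa using this
    refine hom_eq_zero_of_sections t (fun W z => ?_)
    obtain ⟨y₁, y₂, rfl⟩ := h₃ W z
    have e₁ : t.hom.app W (c₁.hom.app W y₁) = 0 :=
      congrArg (fun φ => φ.hom.app W y₁) ht₁
    have e₂ : t.hom.app W (c₂.hom.app W y₂) = 0 :=
      congrArg (fun φ => φ.hom.app W y₂) ht₂
    rw [map_sub, e₁, e₂, sub_zero]
  refine ShortComplex.ShortExact.mk' ?_ hmono hepi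
  rw [ShortComplex.exact_iff_exact_up_to_refinements]
  intro T x₂ hx₂
  dsimp at x₂ hx₂
  refine ⟨T, 𝟙 T, inferInstance, ?_⟩
  let y₁ : T ⟶ B₁ := x₂ ≫ biprod.fst
  let y₂ : T ⟶ B₂ := x₂ ≫ biprod.snd
  have hy : y₁ ≫ c₁ = y₂ ≫ c₂ := by
    have hx : x₂ = biprod.lift y₁ y₂ := by
      refine biprod.hom_ext _ _ ?_ ?_
      · rw [biprod.lift_fst]
      · rw [biprod.lift_snd]
    rw [hx] at hx₂
    have h0 : y₁ ≫ c₁ + -y₂ ≫ c₂ = 0 := by simpa using hx₂
    have h0' : y₁ ≫ c₁ - y₂ ≫ c₂ = 0 := by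
      rw [sub_eq_add_neg]
      exact h0
    exact sub_eq_zero.1 h0'
  have hy' : ∀ (W : (Opens Y)ᵒᵖ) (s : T.obj.obj W),
      c₁.hom.app W (y₁.hom.app W s) = c₂.hom.app W (y₂.hom.app W s) := fun W s =>
    congrArg (fun φ => φ.hom.app W s) hy
  choose φ hφ₁ hφ₂ using fun W s => h₂ W _ _ (hy' W s)
  have hinj : ∀ (W : (Opens Y)ᵒᵖ) (x x' : A.obj.obj W),
      a₁.hom.app W x = a₁.hom.app W x' → a₂.hom.app W x = a₂.hom.app W x' → x = x' := by
    intro W x x' e₁ e₂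
    rw [← sub_eq_zero]
    apply h₁ W
    · rw [map_sub, e₁, sub_self]
    · rw [map_sub, e₂, sub_self]
  let x₁ : T ⟶ A :=
    ⟨{ app := fun W => AddCommGrpCat.ofHom (AddMonoidHom.mk' (φ W) (by
          intro s s'
          apply hinj W
          · rw [map_add, hφ₁, hφ₁, hφ₁, map_add]
          · rw [map_add, hφ₂, hφ₂, hφ₂, map_add]))
       naturality := by
          intro W W' i
          ext s
          apply hinj W'
          · change a₁.hom.app W' (φ W' (T.obj.map i s)) = a₁.hom.app W' (A.obj.map i (φ W s))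
            rw [hφ₁, NatTrans.naturality_apply, NatTrans.naturality_apply, hφ₁]
          · change a₂.hom.app W' (φ W' (T.obj.map i s)) = a₂.hom.app W' (A.obj.map i (φ W s))
            rw [hφ₂, NatTrans.naturality_apply, NatTrans.naturality_apply, hφ₂] }⟩
  refine ⟨x₁, ?_⟩
  change 𝟙 T ≫ x₂ = x₁ ≫ biprod.lift a₁ a₂
  rw [Category.id_comp]
  refine biprod.hom_ext _ _ ?_ ?_
  · rw [Category.assoc, biprod.lift_fst]
    ext W s
    exact (hφ₁ W s).symm
  · rw [Category.assoc, biprod.lift_snd]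
    ext W s
    exact (hφ₂ W s).symm

end Groth.Agent.SheafSectionsExact31
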