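import Groth.Prelude.Def_CohCx
import Groth.Agent.Lib.FunctorSESLES31
import Groth.Agent.Lib.SheafSectionsExact31
import Groth.Agent.Lib.FlasqueAcyclic
import Mathlib.Topology.Sheaves.MayerVietoris

/-!
# Relative Mayer–Vietoris: the short exact sequence on injectives (helper31)
-/

set_option autoImplicit false

universe u

open CategoryTheory Limits TopologicalSpace Opposite

namespace Groth.Agent.RelMV31

variable {X Y : TopCat.{u}} (f : X ⟶ Y)

/-- the open `U ∩ f⁻¹ W` of `X`, in the form appearing in `a_* (F|_U)`. -/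
def oR (U : Opens X) (W : Opens Y) : Opens X :=
  ⟨(Subtype.val : U → X) '' ((Opens.map (CohCx.incl U ≫ f)).obj W).1,
    U.isOpenEmbedding.isOpenMap _ ((Opens.map (CohCx.incl U ≫ f)).obj W).2⟩

lemma mem_oR (U : Opens X) (W : Opens Y) (x : X) : x ∈ oR f U W ↔ x ∈ U ∧ f x ∈ W := by
  constructor
  · rintro ⟨y, hy, rfl⟩
    exact ⟨y.2, hy⟩
  · rintro ⟨hU, hW⟩
    exact ⟨⟨x, hU⟩, hW, rfl⟩

example (U : Opens X) (W : Opens Y) (I : CohTop.Ab X) :
    ((CohTop.restrFunctor U ⋙ CohTop.push (CohCx.incl U ≫ f)).obj I).obj.obj (op W) =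
      I.obj.obj (op (oR f U W)) := rfl

example (U : Opens X) (W : Opens Y) (I : CohTop.Ab X) :
    ((CohTop.push f).obj I).obj.obj (op W) = I.obj.obj (op ((Opens.map f).obj W)) := rfl

lemma oR_le (U : Opens X) (W : Opens Y) : oR f U W ≤ (Opens.map f).obj W := fun x hx =>
  ((mem_oR f U W x).1 hx).2

lemma oR_mono {U V : Opens X} (h : V ≤ U) (W : Opens Y) : oR f V W ≤ oR f U W := fun x hx =>
  (mem_oR f U W x).2 ⟨h ((mem_oR f V W x).1 hx).1, ((mem_oR f V W x).1 hx).2⟩

example (U : Opens X) (W : Opens Y) (I : CohTop.Ab X) :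
    ((CohCx.pushToRestrPush f U).app I).hom.app (op W) = I.obj.map (homOfLE (oR_le f U W)).op := rfl

example {U V : Opens X} (h : V ≤ U) (W : Opens Y) (I : CohTop.Ab X) :
    ((CohCx.restrPushToRestrPush f h).app I).hom.app (op W) =
      I.obj.map (homOfLE (oR_mono f h W)).op := rfl


section Square

variable (U V : Opens X) (W : Opens Y)

/-- the Mayer–Vietoris square of opens of `X` lying over `W`. -/
def sq : Square (Opens X) where
  X₁ := oR f (U ⊓ V) W
  X₂ := oR f U W
  X₃ := oR f V W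
  X₄ := (Opens.map f).obj W
  f₁₂ := homOfLE (oR_mono f inf_le_left W)
  f₁₃ := homOfLE (oR_mono f inf_le_right W)
  f₂₄ := homOfLE (oR_le f U W)
  f₃₄ := homOfLE (oR_le f V W)
  fac := Subsingleton.elim _ _

lemma sq_h₄ (hUV : U ⊔ V = ⊤) : (sq f U V W).X₄ = (sq f U V W).X₂ ⊔ (sq f U V W).X₃ := by
  apply le_antisymm
  · intro x hx
    have hx' : f x ∈ W := hx
    have : x ∈ U ⊔ V := by rw [hUV]; trivial
    rcases this with h | h
    · exact Or.inl ((mem_oR f U W x).2 ⟨h, hx'⟩)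
    · exact Or.inr ((mem_oR f V W x).2 ⟨h, hx'⟩)
  · exact sup_le (oR_le f U W) (oR_le f V W)

lemma sq_h₁ : (sq f U V W).X₁ = (sq f U V W).X₂ ⊓ (sq f U V W).X₃ := by
  apply le_antisymm
  · exact le_inf (oR_mono f inf_le_left W) (oR_mono f inf_le_right W)
  · rintro x ⟨h₂, h₃⟩
    have h₂' := (mem_oR f U W x).1 h₂
    have h₃' := (mem_oR f V W x).1 h₃
    exact (mem_oR f (U ⊓ V) W x).2 ⟨⟨h₂'.1, h₃'.1⟩, h₂'.2⟩

/-- the Mayer–Vietoris square (in the sense of sites) -/
noncomputable def mvs (hUV : U ⊔ V = ⊤) : (Opens.grothendieckTopology X).MayerVietorisSquare :=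
  Opens.mayerVietorisSquare' (sq f U V W) (sq_h₄ f U V W hUV) (sq_h₁ f U V W)

lemma cond (hUV : U ⊔ V = ⊤) (I : CohTop.Ab X) :
    (mvs f U V W hUV).SheafCondition (I.obj ⋙ forget AddCommGrpCat.{u}) :=
  (mvs f U V W hUV).sheafCondition_of_sheaf
    ((sheafCompose (Opens.grothendieckTopology X) (forget AddCommGrpCat.{u})).obj I)

variable (I : CohTop.Ab X)

lemma sections_ext (hUV : U ⊔ V = ⊤) (x : I.obj.obj (op ((Opens.map f).obj W)))
    (h₂ : I.obj.map (homOfLE (oR_le f U W)).op x = 0)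
    (h₃ : I.obj.map (homOfLE (oR_le f V W)).op x = 0) : x = 0 := by
  refine (cond f U V W hUV I).ext (x := x) (y := (0 : I.obj.obj (op ((Opens.map f).obj W)))) ?_ ?_
  · change I.obj.map (homOfLE (oR_le f U W)).op x = I.obj.map (homOfLE (oR_le f U W)).op 0
    rw [h₂, map_zero]
  · change I.obj.map (homOfLE (oR_le f V W)).op x = I.obj.map (homOfLE (oR_le f V W)).op 0
    rw [h₃, map_zero]

lemma sections_glue (hUV : U ⊔ V = ⊤) (y₂ : I.obj.obj (op (oR f U W))) (y₃ : I.obj.obj (op (oR f V W)))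
    (h : I.obj.map (homOfLE (oR_mono f (inf_le_left : U ⊓ V ≤ U) W)).op y₂ =
      I.obj.map (homOfLE (oR_mono f (inf_le_right : U ⊓ V ≤ V) W)).op y₃) :
    ∃ x : I.obj.obj (op ((Opens.map f).obj W)),
      I.obj.map (homOfLE (oR_le f U W)).op x = y₂ ∧
      I.obj.map (homOfLE (oR_le f V W)).op x = y₃ :=
  ⟨(cond f U V W hUV I).glue y₂ y₃ h, (cond f U V W hUV I).map_f₂₄_op_glue y₂ y₃ h,
    (cond f U V W hUV I).map_f₃₄_op_glue y₂ y₃ h⟩

end Square


section Main

variable (U V : Opens X)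

lemma comm :
    CohCx.pushToRestrPush f U ≫ CohCx.restrPushToRestrPush f (inf_le_left : U ⊓ V ≤ U) =
      CohCx.pushToRestrPush f V ≫ CohCx.restrPushToRestrPush f (inf_le_right : U ⊓ V ≤ V) := by
  ext I : 2
  ext W : 3
  change I.obj.map _ ≫ I.obj.map _ = I.obj.map _ ≫ I.obj.map _
  rw [← I.obj.map_comp, ← I.obj.map_comp]
  rfl

lemma shortExact_of_injective (hUV : U ⊔ V = ⊤) (I : CohTop.Ab X) [Injective I] :
    ∃ w', (ShortComplex.mk
      (biprod.lift ((CohCx.pushToRestrPush f U).app I) ((CohCx.pushToRestrPush f V).app I))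
      (biprod.desc ((CohCx.restrPushToRestrPush f (inf_le_left : U ⊓ V ≤ U)).app I)
        (-((CohCx.restrPushToRestrPush f (inf_le_right : U ⊓ V ≤ V)).app I))) w').ShortExact := by
  have hfl : TopCat.Sheaf.IsFlasque I := Groth.Agent.Lib.FlasqueAcyclic.isFlasque_of_injective I
  refine Groth.Agent.SheafSectionsExact31.shortExact_of_sections _ _ _ _
    (congrArg (fun t => t.app I) (comm f U V)) ?_ ?_ ?_
  · rintro ⟨W⟩ x h₂ h₃
    exact sections_ext f U V W I hUV x h₂ h₃
  · rintro ⟨W⟩ y₂ y₃ h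
    exact sections_glue f U V W I hUV y₂ y₃ h
  · rintro ⟨W⟩ z
    have hepi : Epi (I.obj.map (homOfLE (oR_mono f (inf_le_left : U ⊓ V ≤ U) W)).op) :=
      hfl.epi _
    rw [AddCommGrpCat.epi_iff_surjective] at hepi
    obtain ⟨y₁, hy₁⟩ := hepi z
    refine ⟨y₁, 0, ?_⟩
    rw [map_zero, sub_zero]
    exact hy₁

/-- **Relative Mayer–Vietoris** for higher direct images. -/
theorem relMV (hUV : U ⊔ V = ⊤) (F : CohTop.Ab X) :
    ∃ δ : ∀ n : ℕ, (CohCx.RpushOn f (U ⊓ V) n).obj F ⟶ (CohTop.Rpush f (n + 1)).obj F,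
      Mono (biprod.lift ((NatTrans.rightDerived (CohCx.pushToRestrPush f U) 0).app F)
        ((NatTrans.rightDerived (CohCx.pushToRestrPush f V) 0).app F)) ∧
      ∀ n : ℕ,
        (ComposableArrows.mk₂
          (biprod.lift ((NatTrans.rightDerived (CohCx.pushToRestrPush f U) n).app F)
            ((NatTrans.rightDerived (CohCx.pushToRestrPush f V) n).app F))
          (biprod.desc
            ((NatTrans.rightDerived (CohCx.restrPushToRestrPush f (inf_le_left : U ⊓ V ≤ U)) n).app F)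
            (-((NatTrans.rightDerived (CohCx.restrPushToRestrPush f (inf_le_right : U ⊓ V ≤ V)) n).app F)))).Exact ∧
        (ComposableArrows.mk₂
          (biprod.desc
            ((NatTrans.rightDerived (CohCx.restrPushToRestrPush f (inf_le_left : U ⊓ V ≤ U)) n).app F)
            (-((NatTrans.rightDerived (CohCx.restrPushToRestrPush f (inf_le_right : U ⊓ V ≤ V)) n).app F)))
          (δ n)).Exact ∧
        (ComposableArrows.mk₂ (δ n)
          (biprod.lift ((NatTrans.rightDerived (CohCx.pushToRestrPush f U) (n + 1)).app F)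
            ((NatTrans.rightDerived (CohCx.pushToRestrPush f V) (n + 1)).app F))).Exact :=
  Groth.Agent.FunctorSESLES31.exists_δ _ _ _ _ (comm f U V)
    (fun I hI => shortExact_of_injective f U V hUV I) F

end Main

end Groth.Agent.RelMV31
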