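import Groth.Agent.Lib.RelPCHomology17

/-!
# Relative versus absolute pseudo-coherence over a pseudo-coherent morphism (helper17)
-/

set_option autoImplicit false
universe u
open CategoryTheory CategoryTheory.Limits AlgebraicGeometry TopologicalSpace Opposite
attribute [local instance] HasDerivedCategory.standard

namespace Groth.Agent.Lib.RelPCAbs17

open Groth.Agent.Lib.RelPCModule17 Groth.Agent.Lib.RelPCChart17 Groth.Agent.Lib.RelPCMoves17
  Groth.Agent.Lib.RelPCAll17 Groth.Agent.Lib.ClosedPushPC17 Groth.Agent.Lib.PseudoCohTriangle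
  Groth.Agent.Lib.RelPCQCoh17 Groth.Agent.Lib.RelPCTri17 Groth.Agent.Lib.PseudoCohSummand
  Groth.Agent.Lib.RelPCMorphism17

variable {Y Z : Scheme.{u}} (g : Y ⟶ Z) [LocallyOfFiniteType g]

/-- For a pseudo-coherent morphism, the direct image of the structure sheaf along any chart is a
pseudo-coherent module. -/
theorem pcMod_push_chart (hg : ∀ n : ℤ, DerSch.IsNPseudoCoherent g n) {U : Y.Opens}
    (hU : IsAffineOpen U) {V : Z.Opens} (hV : IsAffineOpen V) (h : U ≤ g ⁻¹ᵁ V) {k : ℕ}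
    (φ : MvPolynomial (Fin k) Γ(Z, V) →+* Γ(Y, U)) (hφ : DerSch.IsChart g U V h φ)
    [IsClosedImmersion (DerSch.chartImm U φ)] :
    PCMod ((Scheme.Modules.pushforward (DerSch.chartImm U φ)).obj
      (Coh.structureModule (U : Scheme.{u}))) := by
  intro n
  have h1 : DerSch.IsPseudoCoherentRel g n (DCoh.inD Y (Coh.structureModule Y)) :=
    isPseudoCoherentRel_of_iso g (unitCxIso Y) n (hg n)
  have h2 := (hasPCChart_of_isPseudoCoherentRel h1 hU hV h).chartPC hU h φ hφ
  rw [chartPC_inD_iff] at h2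
  exact Groth.Agent.Lib.PseudoCohHomology17.isPseudoCoherentD_inD_of_iso
    ((Scheme.Modules.pushforward (DerSch.chartImm U φ)).mapIso
      (Scheme.Modules.restrictUnitIso U.ι)) h2

/-- Over a pseudo-coherent morphism, absolute and relative pseudo-coherence agree. -/
theorem isPseudoCoherentD_iff_isPseudoCoherentRel (hg : ∀ n : ℤ, DerSch.IsNPseudoCoherent g n)
    (r : ℤ) (E : DCoh.D Y) :
    DCoh.IsPseudoCoherentD r E ↔ DerSch.IsPseudoCoherentRel g r E := by
  constructor
  · intro hE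
    apply isPseudoCoherentRel_of_forall g r E
    intro U V h
    obtain ⟨k, φ, hφC, hφs⟩ := Groth.Agent.Lib.H72RelFP.exists_presentation g U.2 V.2 h
    have hφ : DerSch.IsChart g (U : Y.Opens) (V : Z.Opens) h φ := ⟨hφs, hφC⟩
    haveI := isClosedImmersion_chartImm (U : Y.Opens) U.2 φ hφ.1
    refine ⟨k, φ, hφ, ?_⟩
    rw [chartPC_iff]
    exact isPseudoCoherentD_pushD _ (pcMod_push_chart g hg U.2 V.2 h φ hφ)
      (isPseudoCoherentD_restrict hE _)
  · intro hE
    apply isPseudoCoherentD_of_locally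
    intro y
    obtain ⟨_, ⟨V, hV, rfl⟩, hyV, -⟩ :=
      Z.isBasis_affineOpens.exists_subset_of_mem_open (Set.mem_univ (g y)) isOpen_univ
    obtain ⟨_, ⟨U, hU, rfl⟩, hyU, hUV⟩ :=
      Y.isBasis_affineOpens.exists_subset_of_mem_open (show y ∈ (g ⁻¹ᵁ V : Set Y) from hyV)
        (g ⁻¹ᵁ V).2
    have h : U ≤ g ⁻¹ᵁ V := hUV
    obtain ⟨k, φ, hφ, hPC⟩ := (hasPCChart_of_isPseudoCoherentRel hE hU hV h).exists_chart h
    haveI := isClosedImmersion_chartImm U hU φ hφ.1
    rw [chartPC_iff] at hPC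
    exact ⟨U, hyU, isPseudoCoherentD_of_pushD _ (pcMod_push_chart g hg hU hV h φ hφ) hPC⟩

end Groth.Agent.Lib.RelPCAbs17
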