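import Groth.Agent.Lib.RelPCMoves17
import Groth.Agent.Lib.H72RelFPScheme

/-!
# Relative pseudo-coherence: all affine pairs (helper17)

`HasPCChart f m E W V`: the pair of opens `(W, V)` carries a chart along which `E` is
`m`-pseudo-coherent.  We prove the moves (localization on the source, change of the base between
`V` and a basic open `D(r)`, gluing along standard covers) for this predicate, and deduce that a
relatively pseudo-coherent object has a good chart on every affine pair.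
-/

set_option autoImplicit false
universe u
open CategoryTheory CategoryTheory.Limits AlgebraicGeometry TopologicalSpace Opposite
attribute [local instance] HasDerivedCategory.standard

namespace Groth.Agent.Lib.RelPCAll17

open Groth.Agent.Lib.RelPCModule17 Groth.Agent.Lib.RelPCChart17 Groth.Agent.Lib.RelPCMoves17

variable {X S : Scheme.{u}} (f : X ⟶ S) (m : ℤ) (E : DCoh.D X)

/-- The pair of opens `(W, V)` carries a chart along which `E` is `m`-pseudo-coherent. -/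
def HasPCChart (W : X.Opens) (V : S.Opens) : Prop :=
  ∃ (h : W ≤ f ⁻¹ᵁ V) (n : ℕ) (φ : MvPolynomial (Fin n) Γ(S, V) →+* Γ(X, W)),
    DerSch.IsChart f W V h φ ∧ DerSch.ChartPC m E W V φ

variable {f m E}

theorem HasPCChart.le {W : X.Opens} {V : S.Opens} (H : HasPCChart f m E W V) : W ≤ f ⁻¹ᵁ V :=
  H.1

theorem HasPCChart.exists_chart {W : X.Opens} {V : S.Opens} (H : HasPCChart f m E W V)
    (h : W ≤ f ⁻¹ᵁ V) :
    ∃ (n : ℕ) (φ : MvPolynomial (Fin n) Γ(S, V) →+* Γ(X, W)),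
      DerSch.IsChart f W V h φ ∧ DerSch.ChartPC m E W V φ := by
  obtain ⟨_, n, φ, hφ, hPC⟩ := H
  exact ⟨n, φ, hφ, hPC⟩

/-- Localization on the source. -/
theorem HasPCChart.basicOpen {U : X.Opens} (hU : IsAffineOpen U) {V : S.Opens}
    (H : HasPCChart f m E U V) (g : Γ(X, U)) : HasPCChart f m E (X.basicOpen g) V := by
  obtain ⟨h, n, φ, hφ, hPC⟩ := H
  obtain ⟨k, ψ, hψ, hPC'⟩ := exists_chartPC_basicOpen f hU V h m E φ hφ hPC g
  exact ⟨_, k, ψ, hψ, hPC'⟩

/-- Independence of the chart. -/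
theorem HasPCChart.chartPC {U : X.Opens} (hU : IsAffineOpen U) {V : S.Opens}
    (H : HasPCChart f m E U V) (h : U ≤ f ⁻¹ᵁ V) {n : ℕ}
    (φ : MvPolynomial (Fin n) Γ(S, V) →+* Γ(X, U)) (hφ : DerSch.IsChart f U V h φ) :
    DerSch.ChartPC m E U V φ := by
  obtain ⟨_, k, ψ, hψ, hPC⟩ := H
  exact chartPC_of_chartPC U hU V m E ψ hψ.1 φ hφ.1 (hψ.2.trans hφ.2.symm) hPC

/-- Changing the base between `V` and a basic open `D(r)` of `V`. -/
theorem hasPCChart_basicOpen_base_iff [LocallyOfFiniteType f] {U : X.Opens} (hU : IsAffineOpen U)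
    {V : S.Opens} (hV : IsAffineOpen V) (r : Γ(S, V)) (hUr : U ≤ f ⁻¹ᵁ S.basicOpen r) :
    HasPCChart f m E U (S.basicOpen r) ↔ HasPCChart f m E U V := by
  have hUV : U ≤ f ⁻¹ᵁ V := hUr.trans (f.preimage_mono (S.basicOpen_le r))
  constructor
  · rintro ⟨_, n, φ, hφ, hPC⟩
    exact ⟨hUV, 1 + n, baseChart hV r φ, isChart_baseChart f hV r φ hUr hφ hUV,
      (chartPC_baseChart_iff hU hV r φ m E hφ.1).1 hPC⟩
  · intro H
    obtain ⟨k, α, hα, hαs⟩ :=
      Groth.Agent.Lib.H72RelFP.exists_presentation f hU (hV.basicOpen r) hUr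
    have hα' : DerSch.IsChart f U (S.basicOpen r) hUr α := ⟨hαs, hα⟩
    have hc := isChart_baseChart f hV r α hUr hα' hUV
    exact ⟨hUr, k, α, hα', (chartPC_baseChart_iff hU hV r α m E hαs).2 (H.chartPC hU hUV _ hc)⟩

/-- Gluing along a family of basic opens of the source generating the unit ideal. -/
theorem hasPCChart_of_span_eq_top [LocallyOfFiniteType f] {U : X.Opens} (hU : IsAffineOpen U)
    {V : S.Opens} (hV : IsAffineOpen V) (h : U ≤ f ⁻¹ᵁ V) (s : Set Γ(X, U))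
    (hs : Ideal.span s = ⊤) (H : ∀ g ∈ s, HasPCChart f m E (X.basicOpen g) V) :
    HasPCChart f m E U V := by
  obtain ⟨s', hs's, hs'⟩ := (Ideal.span_eq_top_iff_finite s).1 hs
  obtain ⟨n, φ, hφ, hφs⟩ := Groth.Agent.Lib.H72RelFP.exists_presentation f hU hV h
  have hφ' : DerSch.IsChart f U V h φ := ⟨hφs, hφ⟩
  let g : Fin s'.card → Γ(X, U) := fun j => (s'.equivFin.symm j : Γ(X, U))
  have hrange : Set.range g = (s' : Set Γ(X, U)) := by
    ext y
    constructor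
    · rintro ⟨j, rfl⟩
      exact (s'.equivFin.symm j).2
    · intro hy
      exact ⟨s'.equivFin ⟨y, hy⟩, by simp [g]⟩
  refine ⟨h, n, φ, hφ', chartPC_of_forall_basicOpen f hU V h m E φ hφ' g (hrange ▸ hs') ?_⟩
  intro j
  exact (H (g j) (hs's (s'.equivFin.symm j).2)).exists_chart _

/-- A relatively pseudo-coherent object has a good chart on every affine pair. -/
theorem hasPCChart_of_isPseudoCoherentRel [LocallyOfFiniteType f]
    (hE : DerSch.IsPseudoCoherentRel f m E) {U₀ : X.Opens} (hU₀ : IsAffineOpen U₀)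
    {V₀ : S.Opens} (hV₀ : IsAffineOpen V₀) (h₀ : U₀ ≤ f ⁻¹ᵁ V₀) : HasPCChart f m E U₀ V₀ := by
  apply hasPCChart_of_span_eq_top hU₀ hV₀ h₀ {c | HasPCChart f m E (X.basicOpen c) V₀} ?_
    (fun g hg => hg)
  rw [← hU₀.self_le_iSup_basicOpen_iff]
  intro x hx
  obtain ⟨U, V, h, n, φ, hxU, hφs, hφC, hPC⟩ := exists_chart_of_isPseudoCoherentRel f m E hE x
  have H0 : HasPCChart f m E (U : X.Opens) (V : S.Opens) := ⟨h, n, φ, ⟨hφs, hφC⟩, hPC⟩
  have hfxV : f x ∈ (V : S.Opens) := h hxU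
  have hfxV₀ : f x ∈ V₀ := h₀ hx
  obtain ⟨r, r₀, er, hfx⟩ := exists_basicOpen_le_affine_inter V.2 hV₀ (f x) ⟨hfxV, hfxV₀⟩
  -- shrink `U` and `U₀` into the preimage of `D(r) = D(r₀)`
  set a := (f.appLE (V : S.Opens) (U : X.Opens) h).hom r with ha
  set a₀ := (f.appLE V₀ U₀ h₀).hom r₀ with ha₀
  have eU' : X.basicOpen a = (U : X.Opens) ⊓ f ⁻¹ᵁ S.basicOpen r :=
    Scheme.basicOpen_appLE f _ _ h r
  have eU₀' : X.basicOpen a₀ = U₀ ⊓ f ⁻¹ᵁ S.basicOpen r₀ := Scheme.basicOpen_appLE f _ _ h₀ r₀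
  have hxa : x ∈ X.basicOpen a := eU' ▸ ⟨hxU, hfx⟩
  have hxa₀ : x ∈ X.basicOpen a₀ := eU₀' ▸ ⟨hx, er ▸ hfx⟩
  obtain ⟨b, b₀, eb, hxb⟩ := exists_basicOpen_le_affine_inter (U.2.basicOpen a)
    (hU₀.basicOpen a₀) x ⟨hxa, hxa₀⟩
  obtain ⟨c₀, hc₀⟩ := hU₀.basicOpen_basicOpen_is_basicOpen a₀ b₀
  -- the moves
  have H1 : HasPCChart f m E (X.basicOpen b) (V : S.Opens) :=
    (H0.basicOpen U.2 a).basicOpen (U.2.basicOpen a) b
  have hWaff : IsAffineOpen (X.basicOpen b) := (U.2.basicOpen a).basicOpen b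
  have hWr : X.basicOpen b ≤ f ⁻¹ᵁ S.basicOpen r :=
    (X.basicOpen_le b).trans (eU' ▸ inf_le_right)
  have H2 : HasPCChart f m E (X.basicOpen b) (S.basicOpen r) :=
    (hasPCChart_basicOpen_base_iff hWaff V.2 r hWr).2 H1
  rw [er] at H2 hWr
  have H3 : HasPCChart f m E (X.basicOpen b) V₀ :=
    (hasPCChart_basicOpen_base_iff hWaff hV₀ r₀ hWr).1 H2
  rw [eb, ← hc₀] at H3
  have hxc : x ∈ X.basicOpen c₀ := by rw [hc₀, ← eb]; exact hxb
  exact Opens.mem_iSup.2 ⟨⟨c₀, H3⟩, hxc⟩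

end Groth.Agent.Lib.RelPCAll17
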