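import Groth.Agent.Lib.RelPCSummand17
import Groth.Agent.Lib.KRegImm
import Groth.Agent.Lib.KoszulImmPerfect
import Groth.Agent.Lib.PerfectIffPC

/-!
# Independence of the chart in relative pseudo-coherence, for a fixed pair of affine opens (helper17)
-/

set_option autoImplicit false
universe u
open CategoryTheory CategoryTheory.Limits AlgebraicGeometry TopologicalSpace Opposite
attribute [local instance] HasDerivedCategory.standard

namespace Groth.Agent.Lib.RelPCChart17

open Groth.Agent.Lib.PseudoCohTriangle Groth.Agent.Lib.PseudoCohSummand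
  Groth.Agent.Lib.RelPCMorphism17 Groth.Agent.Lib.RelPCModule17 Groth.Agent.Lib.ClosedPushPC17
  Groth.Agent.Lib.PerfectD Groth.Agent.Lib.RelPCQCoh17

variable {X Y : Scheme.{u}}

section General

/-- The object tested by `ChartPC`, for a complex representing `E`. -/
noncomputable def chartObjIsoD {A : Scheme.{u}} (E : DCoh.D X) (G : CochainComplex X.Modules ℤ)
    (e : DCoh.toD X G ≅ E) (U : X.Opens) (c : (U : Scheme.{u}) ⟶ A) [IsClosedImmersion c] :
    DCoh.toD A ((DerSch.pushCx c).obj ((DCoh.restrictCx U).obj G)) ≅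
      (pushD c).obj ((DCoh.restrictD U.ι).obj E) :=
  ((Scheme.Modules.pushforward c).mapDerivedCategoryFactors.app ((DCoh.restrictCx U).obj G)).symm ≪≫
    (pushD c).mapIso
      (((Scheme.Modules.restrictFunctor U.ι).mapDerivedCategoryFactors.app G).symm ≪≫
        (DCoh.restrictD U.ι).mapIso e)

/-- `ChartPC` in terms of the derived direct image. -/
theorem chartPC_iff (m : ℤ) (E : DCoh.D X) (U : X.Opens) (V : Y.Opens) {n : ℕ}
    (φ : MvPolynomial (Fin n) Γ(Y, V) →+* Γ(X, U)) [IsClosedImmersion (DerSch.chartImm U φ)] :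
    DerSch.ChartPC m E U V φ ↔
      DCoh.IsPseudoCoherentD m ((pushD (DerSch.chartImm U φ)).obj ((DCoh.restrictD U.ι).obj E)) := by
  constructor
  · intro h
    let G : CochainComplex X.Modules ℤ := DerivedCategory.Q.objPreimage E
    let e : DCoh.toD X G ≅ E := DerivedCategory.Q.objObjPreimageIso _
    exact isPseudoCoherentD_of_iso (chartObjIsoD E G e U (DerSch.chartImm U φ)) (h G ⟨e⟩)
  · intro h G ⟨e⟩
    exact isPseudoCoherentD_of_iso (chartObjIsoD E G e U (DerSch.chartImm U φ)).symm h

variable {Z A₁ A₂ : Scheme.{u}}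

/-- Direct images along closed immersions compose on derived categories. -/
noncomputable def pushDCompIso (c₁ : Z ⟶ A₁) (s : A₁ ⟶ A₂) (c₂ : Z ⟶ A₂) (h : c₁ ≫ s = c₂)
    [IsClosedImmersion c₁] [IsClosedImmersion s] [IsClosedImmersion c₂] :
    pushD c₁ ⋙ pushD s ≅ pushD c₂ :=
  mapDerivedCategoryCompIso (Scheme.Modules.pushforward c₁) (Scheme.Modules.pushforward s)
    (Scheme.Modules.pushforward c₂)
    (Scheme.Modules.pushforwardComp c₁ s ≪≫ Scheme.Modules.pushforwardCongr h)

/-- Pseudo-coherence of a direct image does not change under a further closed immersion with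
pseudo-coherent structure sheaf. -/
theorem isPseudoCoherentD_pushD_iff (c₁ : Z ⟶ A₁) (s : A₁ ⟶ A₂) (c₂ : Z ⟶ A₂) (h : c₁ ≫ s = c₂)
    [IsClosedImmersion c₁] [IsClosedImmersion s] [IsClosedImmersion c₂]
    (hO : PCMod ((Scheme.Modules.pushforward s).obj (Coh.structureModule A₁)))
    (K : DCoh.D Z) (m : ℤ) :
    DCoh.IsPseudoCoherentD m ((pushD c₁).obj K) ↔ DCoh.IsPseudoCoherentD m ((pushD c₂).obj K) := by
  constructor
  · intro hK
    exact isPseudoCoherentD_of_iso ((pushDCompIso c₁ s c₂ h).app K)
      (isPseudoCoherentD_pushD s hO hK)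
  · intro hK
    exact isPseudoCoherentD_of_pushD s hO
      (isPseudoCoherentD_of_iso ((pushDCompIso c₁ s c₂ h).app K).symm hK)

/-- The structure sheaf of a section of a smooth morphism is pseudo-coherent on the total space. -/
theorem pcMod_push_of_section (s : A₁ ⟶ A₂) [IsClosedImmersion s] (p : A₂ ⟶ A₁) [Smooth p]
    (h : s ≫ p = 𝟙 A₁) :
    PCMod ((Scheme.Modules.pushforward s).obj (Coh.structureModule A₁)) := fun m =>
  Groth.Agent.Lib.PerfectIffPC.isPseudoCoherentD_of_isPerfect m
    (Groth.Agent.Lib.PerfectClosedImm17.isPerfect_push_structureModule s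
      (Groth.Agent.Lib.KoszulImmPerfect.isPerfectMor_of_isRegularImmersion_koszul s
        (Groth.Agent.Lib.KRegImm.isRegularImmersion_koszul_of_section p s h)))

end General

section Ring

variable (U : X.Opens) (hU : IsAffineOpen U) {P Q : Type u} [CommRing P] [CommRing Q]

include hU in
theorem isClosedImmersion_chartMap (θ : Q →+* Γ(X, U)) (hθ : Function.Surjective θ) :
    IsClosedImmersion (chartMap U (CommRingCat.ofHom θ)) := by
  have : IsClosedImmersion (Spec.map (CommRingCat.ofHom θ)) :=
    IsClosedImmersion.spec_of_surjective _ hθ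
  show IsClosedImmersion (U.toSpecΓ ≫ Spec.map (CommRingCat.ofHom θ))
  rw [← hU.isoSpec_hom]
  infer_instance

include hU in
/-- Replacing the ring of a chart by a ring retracting smoothly onto it does not change the test. -/
theorem isPseudoCoherentD_chartMap_iff (σ : P →+* Q) (ι : Q →+* P) (hι : ι.Smooth)
    (hσι : σ.comp ι = RingHom.id Q) (θ : Q →+* Γ(X, U)) (hθ : Function.Surjective θ)
    (K : DCoh.D (U : Scheme.{u})) (m : ℤ) :
    haveI := isClosedImmersion_chartMap U hU θ hθ
    haveI := isClosedImmersion_chartMap U hU (θ.comp σ)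
      (hθ.comp (fun q => ⟨ι q, congr($hσι q)⟩))
    DCoh.IsPseudoCoherentD m ((pushD (chartMap U (CommRingCat.ofHom θ))).obj K) ↔
      DCoh.IsPseudoCoherentD m ((pushD (chartMap U (CommRingCat.ofHom (θ.comp σ)))).obj K) := by
  have hσ : Function.Surjective σ := fun q => ⟨ι q, congr($hσι q)⟩
  haveI := isClosedImmersion_chartMap U hU θ hθ
  haveI := isClosedImmersion_chartMap U hU (θ.comp σ) (hθ.comp hσ)
  haveI : IsClosedImmersion (Spec.map (CommRingCat.ofHom σ)) :=
    IsClosedImmersion.spec_of_surjective _ hσ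
  haveI : Smooth (Spec.map (CommRingCat.ofHom ι)) :=
    (HasRingHomProperty.Spec_iff (P := @Smooth)).2 hι
  have h1 : Spec.map (CommRingCat.ofHom σ) ≫ Spec.map (CommRingCat.ofHom ι) = 𝟙 _ := by
    rw [← Spec.map_comp, ← CommRingCat.ofHom_comp, hσι]
    exact Spec.map_id _
  have h2 : chartMap U (CommRingCat.ofHom θ) ≫ Spec.map (CommRingCat.ofHom σ) =
      chartMap U (CommRingCat.ofHom (θ.comp σ)) := by
    rw [Category.assoc, ← Spec.map_comp, ← CommRingCat.ofHom_comp]
  exact isPseudoCoherentD_pushD_iff _ _ _ h2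
    (pcMod_push_of_section _ (Spec.map (CommRingCat.ofHom ι)) h1) K m

end Ring

section Charts

variable {A B : Type u} [CommRing A] [CommRing B] {n k : ℕ}

/-- The retraction of `R[y_1, …, y_k]` onto `R` sending `y_j` to `g j`. -/
noncomputable def retr {R : Type u} [CommRing R] (g : Fin k → R) :
    MvPolynomial (Fin k) R →+* R :=
  MvPolynomial.eval₂Hom (RingHom.id R) g

theorem retr_comp_C {R : Type u} [CommRing R] (g : Fin k → R) :
    (retr g).comp MvPolynomial.C = RingHom.id R := by
  ext r
  simp [retr]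

theorem retr_X {R : Type u} [CommRing R] (g : Fin k → R) (j : Fin k) :
    retr g (MvPolynomial.X j) = g j := by
  simp [retr]

theorem retr_C {R : Type u} [CommRing R] (g : Fin k → R) (r : R) :
    retr g (MvPolynomial.C r) = r := by
  simp [retr]

theorem smooth_C {R : Type u} [CommRing R] :
    (MvPolynomial.C : R →+* MvPolynomial (Fin k) R).Smooth := by
  have : (MvPolynomial.C : R →+* MvPolynomial (Fin k) R) = algebraMap R _ := rfl
  rw [this, RingHom.smooth_algebraMap]
  exact ⟨inferInstance, inferInstance⟩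

/-- The two enlarged charts agree up to exchanging the two sets of variables. -/
theorem comp_commAlgEquiv (φ : MvPolynomial (Fin n) A →+* B) (ψ : MvPolynomial (Fin k) A →+* B)
    (hC : φ.comp MvPolynomial.C = ψ.comp MvPolynomial.C)
    (g : Fin k → MvPolynomial (Fin n) A) (hg : ∀ j, φ (g j) = ψ (MvPolynomial.X j))
    (h : Fin n → MvPolynomial (Fin k) A) (hh : ∀ i, ψ (h i) = φ (MvPolynomial.X i)) :
    ((ψ.comp (retr h)).comp
      (MvPolynomial.commAlgEquiv A (Fin k) (Fin n)).toRingEquiv.toRingHom) =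
      φ.comp (retr g) := by
  have key : (ψ.comp (retr h)).comp (MvPolynomial.map MvPolynomial.C) = φ := by
    apply MvPolynomial.ringHom_ext
    · intro a
      simp only [RingHom.coe_comp, Function.comp_apply, MvPolynomial.map_C, retr_C]
      exact (congr($hC a)).symm
    · intro i
      simp only [RingHom.coe_comp, Function.comp_apply, MvPolynomial.map_X, retr_X]
      exact hh i
  apply MvPolynomial.ringHom_ext
  · intro p
    simp only [RingHom.coe_comp, Function.comp_apply, retr_C]
    change ψ (retr h (MvPolynomial.commAlgEquiv A (Fin k) (Fin n) (MvPolynomial.C p))) = φ p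
    rw [MvPolynomial.commAlgEquiv_C]
    exact congr($key p)
  · intro j
    simp only [RingHom.coe_comp, Function.comp_apply, retr_X]
    change ψ (retr h (MvPolynomial.commAlgEquiv A (Fin k) (Fin n) (MvPolynomial.X j))) = φ (g j)
    rw [MvPolynomial.commAlgEquiv_X, retr_C, hg]

end Charts

section Main

variable (U : X.Opens) (hU : IsAffineOpen U) (V : Y.Opens)

theorem isPseudoCoherentD_chartMap_congr {P : Type u} [CommRing P] {θ θ' : P →+* Γ(X, U)}
    (h : θ = θ') [IsClosedImmersion (chartMap U (CommRingCat.ofHom θ))]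
    [IsClosedImmersion (chartMap U (CommRingCat.ofHom θ'))] (K : DCoh.D (U : Scheme.{u})) (m : ℤ) :
    DCoh.IsPseudoCoherentD m ((pushD (chartMap U (CommRingCat.ofHom θ))).obj K) ↔
      DCoh.IsPseudoCoherentD m ((pushD (chartMap U (CommRingCat.ofHom θ'))).obj K) := by
  subst h
  exact Iff.rfl

include hU in
/-- Independence of the chart, for a fixed pair of opens. -/
theorem chartPC_of_chartPC (m : ℤ) (E : DCoh.D X) {n k : ℕ}
    (φ : MvPolynomial (Fin n) Γ(Y, V) →+* Γ(X, U)) (hφ : Function.Surjective φ)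
    (ψ : MvPolynomial (Fin k) Γ(Y, V) →+* Γ(X, U)) (hψ : Function.Surjective ψ)
    (hC : φ.comp MvPolynomial.C = ψ.comp MvPolynomial.C)
    (hE : DerSch.ChartPC m E U V φ) : DerSch.ChartPC m E U V ψ := by
  haveI := isClosedImmersion_chartImm U hU φ hφ
  haveI := isClosedImmersion_chartImm U hU ψ hψ
  rw [chartPC_iff] at hE ⊢
  choose g hg using fun j : Fin k => hφ (ψ (MvPolynomial.X j))
  choose h hh using fun i : Fin n => hψ (φ (MvPolynomial.X i))
  let K := (DCoh.restrictD U.ι).obj E
  have h1 := (isPseudoCoherentD_chartMap_iff U hU (retr g) MvPolynomial.C smooth_C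
    (retr_comp_C g) φ hφ K m).1 hE
  have h2 := (isPseudoCoherentD_chartMap_iff U hU (retr h) MvPolynomial.C smooth_C
    (retr_comp_C h) ψ hψ K m)
  have hΨ : Function.Surjective (ψ.comp (retr h)) :=
    hψ.comp (fun q => ⟨MvPolynomial.C q, retr_C h q⟩)
  let τ := (MvPolynomial.commAlgEquiv Γ(Y, V) (Fin k) (Fin n)).toRingEquiv
  have h3 := (isPseudoCoherentD_chartMap_iff U hU τ.toRingHom τ.symm.toRingHom
    (RingHom.Smooth.of_bijective τ.symm.bijective)
    (RingHom.ext fun x => τ.apply_symm_apply x)
    (ψ.comp (retr h)) hΨ K m)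
  have h4 := comp_commAlgEquiv φ ψ hC g hg h hh
  refine h2.2 (h3.2 ?_)
  haveI := isClosedImmersion_chartMap U hU (φ.comp (retr g))
    (hφ.comp (fun q => ⟨MvPolynomial.C q, retr_C g q⟩))
  haveI := isClosedImmersion_chartMap U hU ((ψ.comp (retr h)).comp τ.toRingHom)
    (hΨ.comp τ.surjective)
  exact (isPseudoCoherentD_chartMap_congr U h4 K m).2 h1

end Main

end Groth.Agent.Lib.RelPCChart17
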