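import Groth.Agent.Lib.RelPCHomology17

/-!
# Relative pseudo-coherence and restriction to opens of the source (helper17)
-/

set_option autoImplicit false
universe u
open CategoryTheory CategoryTheory.Limits AlgebraicGeometry TopologicalSpace Opposite
attribute [local instance] HasDerivedCategory.standard

namespace Groth.Agent.Lib.RelPCOpen17

open Groth.Agent.Lib.RelPCModule17 Groth.Agent.Lib.RelPCChart17 Groth.Agent.Lib.RelPCMoves17
  Groth.Agent.Lib.RelPCAll17 Groth.Agent.Lib.ClosedPushPC17 Groth.Agent.Lib.PseudoCohTriangle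
  Groth.Agent.Lib.RelPCQCoh17 Groth.Agent.Lib.PerfectD Groth.Agent.Lib.PushIso17
  Groth.Agent.Lib.RelPCMorphism17

variable {X Y : Scheme.{u}} (f : X ⟶ Y) (U : X.Opens) (W' : (U : Scheme.{u}).Opens) (V : Y.Opens)

theorem le_pre : W' ≤ U.ι ⁻¹ᵁ (U.ι ''ᵁ W') := (U.ι.preimage_image_eq W').ge

/-- The isomorphism from an open `W'` of the open subscheme `U` to its image in `X`. -/
noncomputable def imgHom : (W' : Scheme.{u}) ⟶ ((U.ι ''ᵁ W' : X.Opens) : Scheme.{u}) :=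
  U.ι.resLE (U.ι ''ᵁ W') W' (le_pre U W')

theorem imgHom_ι : imgHom U W' ≫ (U.ι ''ᵁ W').ι = W'.ι ≫ U.ι := Scheme.Hom.resLE_comp_ι _ _

instance : IsIso (imgHom U W') := by
  have : imgHom U W' = (U.ι.isoImage W').hom := by
    rw [← cancel_mono (U.ι ''ᵁ W').ι, imgHom_ι, Scheme.Hom.isoImage_hom_ι]
  rw [this]; infer_instance

theorem appLE_eq_id : U.ι.appLE (U.ι ''ᵁ W') W' (le_pre U W') = 𝟙 _ := by
  rw [Scheme.Opens.ι_appLE]
  exact X.presheaf.map_id _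

theorem toSpecΓ_eq : W'.toSpecΓ = imgHom U W' ≫ (U.ι ''ᵁ W').toSpecΓ := by
  have h := Scheme.Opens.toSpecΓ_SpecMap_appLE U.ι (U.ι ''ᵁ W') W' (le_pre U W')
  rw [appLE_eq_id] at h
  have h2 : W'.toSpecΓ ≫ Spec.map (𝟙 Γ(X, U.ι ''ᵁ W')) = W'.toSpecΓ :=
    (congrArg (fun t => W'.toSpecΓ ≫ t) (Spec.map_id Γ(X, U.ι ''ᵁ W'))).trans
      (Category.comp_id W'.toSpecΓ)
  exact h2.symm.trans h

theorem chartImm_eq {k : ℕ} (φ : MvPolynomial (Fin k) Γ(Y, V) →+* Γ(X, U.ι ''ᵁ W')) :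
    DerSch.chartImm W' φ = imgHom U W' ≫ DerSch.chartImm (U.ι ''ᵁ W') φ := by
  unfold DerSch.chartImm
  exact (congrArg (fun t => t ≫ Spec.map (CommRingCat.ofHom φ)) (toSpecΓ_eq U W')).trans
    (Category.assoc _ _ _)

theorem image_le_iff : U.ι ''ᵁ W' ≤ f ⁻¹ᵁ V ↔ W' ≤ (U.ι ≫ f) ⁻¹ᵁ V := by
  constructor
  · intro h x hx
    exact h ⟨x, hx, rfl⟩
  · rintro h _ ⟨x, hx, rfl⟩
    exact h hx

theorem appLE_eq (h : U.ι ''ᵁ W' ≤ f ⁻¹ᵁ V) (h' : W' ≤ (U.ι ≫ f) ⁻¹ᵁ V) :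
    (U.ι ≫ f).appLE V W' h' = f.appLE V (U.ι ''ᵁ W') h := by
  have := Scheme.Hom.appLE_comp_appLE U.ι f V (U.ι ''ᵁ W') W' h (le_pre U W')
  rw [appLE_eq_id] at this
  exact this.symm.trans (Category.comp_id _)

/-- Charts on `W' ⊆ U` and on its image in `X` are the same thing. -/
theorem isChart_image_iff (h : U.ι ''ᵁ W' ≤ f ⁻¹ᵁ V) (h' : W' ≤ (U.ι ≫ f) ⁻¹ᵁ V) {k : ℕ}
    (φ : MvPolynomial (Fin k) Γ(Y, V) →+* Γ(X, U.ι ''ᵁ W')) :
    DerSch.IsChart (U.ι ≫ f) W' V h' φ ↔ DerSch.IsChart f (U.ι ''ᵁ W') V h φ := by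
  unfold DerSch.IsChart
  rw [appLE_eq f U W' V h h']
  exact Iff.rfl

/-- The chart test on `W' ⊆ U` for `E|_U` and on the image of `W'` in `X` for `E` agree. -/
theorem chartPC_image_iff (hW' : IsAffineOpen W') (m : ℤ) (E : DCoh.D X) {k : ℕ}
    (φ : MvPolynomial (Fin k) Γ(Y, V) →+* Γ(X, U.ι ''ᵁ W')) (hφ : Function.Surjective φ) :
    DerSch.ChartPC m ((DCoh.restrictD U.ι).obj E) W' V φ ↔
      DerSch.ChartPC m E (U.ι ''ᵁ W') V φ := by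
  haveI h1 : IsClosedImmersion (DerSch.chartImm (U.ι ''ᵁ W') φ) :=
    isClosedImmersion_chartImm (U.ι ''ᵁ W') (hW'.image_of_isOpenImmersion U.ι) φ hφ
  haveI h2 : IsClosedImmersion (DerSch.chartImm W' φ) :=
    isClosedImmersion_chartImm W' hW' φ hφ
  rw [chartPC_iff m E (U.ι ''ᵁ W') V φ, chartPC_iff m ((DCoh.restrictD U.ι).obj E) W' V φ]
  let K := (DCoh.restrictD (U.ι ''ᵁ W').ι).obj E
  let e1 : (DCoh.restrictD W'.ι).obj ((DCoh.restrictD U.ι).obj E) ≅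
      (DCoh.restrictD (imgHom U W')).obj K :=
    (restrictDCompIso W'.ι U.ι (W'.ι ≫ U.ι) rfl).app E ≪≫
      ((restrictDCompIso (imgHom U W') (U.ι ''ᵁ W').ι (W'.ι ≫ U.ι) (imgHom_ι U W')).app E).symm
  let e2 : (pushD (DerSch.chartImm W' φ)).obj ((DCoh.restrictD (imgHom U W')).obj K) ≅
      (pushD (DerSch.chartImm (U.ι ''ᵁ W') φ)).obj K :=
    ((pushDCompIso (imgHom U W') (DerSch.chartImm (U.ι ''ᵁ W') φ) (DerSch.chartImm W' φ)
      (chartImm_eq U W' V φ).symm).app _).symm ≪≫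
      (pushD (DerSch.chartImm (U.ι ''ᵁ W') φ)).mapIso ((restrictPushDIso (imgHom U W')).app K)
  exact ⟨fun h => isPseudoCoherentD_of_iso ((pushD _).mapIso e1 ≪≫ e2) h,
    fun h => isPseudoCoherentD_of_iso ((pushD _).mapIso e1 ≪≫ e2).symm h⟩

theorem hasPCChart_image_iff (hW' : IsAffineOpen W') (m : ℤ) (E : DCoh.D X) :
    HasPCChart (U.ι ≫ f) m ((DCoh.restrictD U.ι).obj E) W' V ↔
      HasPCChart f m E (U.ι ''ᵁ W') V := by
  constructor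
  · rintro ⟨h', k, φ, hφ, hPC⟩
    have h := (image_le_iff f U W' V).2 h'
    exact ⟨h, k, φ, (isChart_image_iff f U W' V h h' φ).1 hφ,
      (chartPC_image_iff U W' V hW' m E φ hφ.1).1 hPC⟩
  · rintro ⟨h, k, φ, hφ, hPC⟩
    have h' := (image_le_iff f U W' V).1 h
    exact ⟨h', k, φ, (isChart_image_iff f U W' V h h' φ).2 hφ,
      (chartPC_image_iff U W' V hW' m E φ hφ.1).2 hPC⟩

/-- Local criterion for relative pseudo-coherence. -/
theorem isPseudoCoherentRel_of_forall_exists [LocallyOfFiniteType f] (m : ℤ) (K : DCoh.D X)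
    (H : ∀ (V : Y.affineOpens) (x : X), x ∈ f ⁻¹ᵁ (V : Y.Opens) →
      ∃ W : X.affineOpens, x ∈ (W : X.Opens) ∧ HasPCChart f m K (W : X.Opens) (V : Y.Opens)) :
    DerSch.IsPseudoCoherentRel f m K := by
  refine ⟨inferInstance, Set.univ, ?_, fun V _ =>
    ⟨{W | HasPCChart f m K (W : X.Opens) (V : Y.Opens)}, ?_, ?_⟩⟩
  · rw [eq_top_iff]
    intro y _
    obtain ⟨_, ⟨V, hV, rfl⟩, hyV, -⟩ :=
      Y.isBasis_affineOpens.exists_subset_of_mem_open (Set.mem_univ y) isOpen_univ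
    simp only [Opens.mem_iSup]
    exact ⟨⟨V, hV⟩, Set.mem_univ _, hyV⟩
  · apply le_antisymm
    · refine iSup₂_le fun W hW => hW.le
    · intro x hx
      obtain ⟨W, hxW, hW⟩ := H V x hx
      simp only [Opens.mem_iSup]
      exact ⟨W, hW, hxW⟩
  · intro W hW h
    exact hW.exists_chart h

/-- Restriction to an open of the source. -/
theorem isPseudoCoherentRel_restrictD (m : ℤ) (E : DCoh.D X)
    (hE : DerSch.IsPseudoCoherentRel f m E) :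
    DerSch.IsPseudoCoherentRel (U.ι ≫ f) m ((DCoh.restrictD U.ι).obj E) := by
  haveI : LocallyOfFiniteType f := hE.1
  apply isPseudoCoherentRel_of_forall
  intro W' V h'
  have h := (image_le_iff f U W' V).2 h'
  exact ((hasPCChart_image_iff f U W' V W'.2 m E).2 (hasPCChart_of_isPseudoCoherentRel hE
    (W'.2.image_of_isOpenImmersion U.ι) V.2 h)).exists_chart h'

/-- Locality on the source. -/
theorem isPseudoCoherentRel_of_openCover [LocallyOfFiniteType f] (m : ℤ) (E : DCoh.D X)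
    {ι : Type*} (𝒰 : ι → X.Opens) (h𝒰 : ⨆ i, 𝒰 i = ⊤)
    (h : ∀ i, DerSch.IsPseudoCoherentRel ((𝒰 i).ι ≫ f) m ((DCoh.restrictD (𝒰 i).ι).obj E)) :
    DerSch.IsPseudoCoherentRel f m E := by
  apply isPseudoCoherentRel_of_forall_exists
  intro V x hx
  have hx' : x ∈ (⊤ : X.Opens) := trivial
  rw [← h𝒰] at hx'
  obtain ⟨i, hi⟩ := Opens.mem_iSup.1 hx'
  let x' : ((𝒰 i : X.Opens) : Scheme.{u}) := ⟨x, hi⟩
  have hx'V : x' ∈ (((𝒰 i).ι ≫ f) ⁻¹ᵁ (V : Y.Opens) : Set _) := hx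
  obtain ⟨_, ⟨W', hW', rfl⟩, hxW', hW'V⟩ :=
    (𝒰 i : Scheme.{u}).isBasis_affineOpens.exists_subset_of_mem_open hx'V
      (((𝒰 i).ι ≫ f) ⁻¹ᵁ (V : Y.Opens)).2
  have h' : W' ≤ ((𝒰 i).ι ≫ f) ⁻¹ᵁ (V : Y.Opens) := hW'V
  refine ⟨⟨(𝒰 i).ι ''ᵁ W', hW'.image_of_isOpenImmersion (𝒰 i).ι⟩, ⟨x', hxW', rfl⟩, ?_⟩
  exact (hasPCChart_image_iff f (𝒰 i) W' V hW' m E).1
    (hasPCChart_of_isPseudoCoherentRel (h i) hW' V.2 h')

end Groth.Agent.Lib.RelPCOpen17
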