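import Groth.Agent.Lib.RelPCRing17
import Groth.Agent.Lib.RelPCOpen17
import Groth.Agent.Lib.FlatFPPerfect

/-!
# Relative pseudo-coherence and closed immersions; pseudo-coherent morphisms (helper17)
-/

set_option autoImplicit false
universe u
open CategoryTheory CategoryTheory.Limits AlgebraicGeometry TopologicalSpace Opposite
attribute [local instance] HasDerivedCategory.standard

namespace Groth.Agent.Lib.RelPCClosed17

open Groth.Agent.Lib.PseudoCohTriangle Groth.Agent.Lib.PseudoCohSummand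
  Groth.Agent.Lib.ClosedPushPC17 Groth.Agent.Lib.PCModTilde17 Groth.Agent.Lib.PCohRestrict
  Groth.Agent.Lib.DRingPCoh21 Groth.Agent.Lib.PushIso17 Groth.Agent.Lib.RelPCModule17
  Groth.Agent.Lib.RelPCQCoh17 Groth.Agent.Lib.RelPCAll17 Groth.Agent.Lib.RelPCMorphism17
  Groth.Agent.Lib.RelPCRing17 Groth.Agent.Lib.RelPCChart17 Groth.Agent.Lib.RelPCOpen17

section Ring

variable (A : Type u) [CommRing A]

theorem ring_of_iso {m : ℤ} {K L : Dual.D A} (e : K ≅ L) (h : DRing.IsPseudoCoherent A m K) :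
    DRing.IsPseudoCoherent A m L := by
  rw [isPseudoCoherent_iff] at h ⊢
  obtain ⟨E, hE, ⟨i⟩⟩ := h
  exact ⟨E, hE, ⟨i ≪≫ e⟩⟩

end Ring

section Mor

variable {Y Z : Scheme.{u}} (g : Y ⟶ Z) [LocallyOfFiniteType g]

/-- A pseudo-coherent morphism (ring-level definition) is `n`-pseudo-coherent in chart form for
every `n`. -/
theorem isNPseudoCoherent_of_isPseudoCoherentMor (hg : MoreMor.IsPseudoCoherentMor g) (n : ℤ) :
    DerSch.IsNPseudoCoherent g n := by
  apply isPseudoCoherentRel_of_iso g (unitCxIso Y).symm n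
  apply isPseudoCoherentRel_of_forall g n _
  intro U V h
  letI := (g.appLE (V : Z.Opens) (U : Y.Opens) h).hom.toAlgebra
  obtain ⟨k, φ, hφ, hpc⟩ := hg U V U.2 V.2 h
  refine ⟨k, φ.toRingHom, ⟨hφ, RingHom.ext fun r => φ.commutes r⟩, ?_⟩
  haveI := isClosedImmersion_chartImm (U : Y.Opens) U.2 φ.toRingHom hφ
  rw [chartPC_unit_iff U.2 (V : Z.Opens) φ.toRingHom n]
  letI := φ.toRingHom.toAlgebra
  have h1 := (isPseudoCoherent'_iff_forall _ _).1 hpc n
  exact ring_of_iso _ ((DerivedCategory.singleFunctor _ 0).mapIso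
    (Groth.Agent.Lib.FlatBaseChangeD.restrictEquiv
      (A := MvPolynomial (Fin k) Γ(Z, (V : Z.Opens))) (B := Γ(Y, (U : Y.Opens)))).toModuleIso.symm) h1

end Mor

section Closed

variable {X P S : Scheme.{u}} (i : X ⟶ P) [IsClosedImmersion i] (g : P ⟶ S)
  (U : P.Opens) (V : S.Opens) {k : ℕ} (φ : MvPolynomial (Fin k) Γ(S, V) →+* Γ(P, U))

theorem chartImm_preimage_eq :
    DerSch.chartImm (i ⁻¹ᵁ U) ((i.app U).hom.comp φ) = (i ∣_ U) ≫ DerSch.chartImm U φ := by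
  unfold DerSch.chartImm
  have h1 : Spec.map (CommRingCat.ofHom ((i.app U).hom.comp φ)) =
      Spec.map (i.app U) ≫ Spec.map (CommRingCat.ofHom φ) := by
    rw [← Spec.map_comp]; rfl
  rw [h1, ← Category.assoc, Scheme.Opens.toSpecΓ_naturality, Category.assoc]

theorem chartPC_pushD_iff (hU : IsAffineOpen U) (hφ : Function.Surjective φ) (m : ℤ)
    (K : DCoh.D X) :
    DerSch.ChartPC m ((pushD i).obj K) U V φ ↔
      DerSch.ChartPC m K (i ⁻¹ᵁ U) V ((i.app U).hom.comp φ) := by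
  have hφ' : Function.Surjective ((i.app U).hom.comp φ) :=
    (i.app_surjective U hU).comp hφ
  haveI := isClosedImmersion_chartImm U hU φ hφ
  haveI := isClosedImmersion_chartImm (i ⁻¹ᵁ U) (hU.preimage i) _ hφ'
  rw [chartPC_iff, chartPC_iff]
  let K' := (DCoh.restrictD (i ⁻¹ᵁ U).ι).obj K
  let e : (pushD (DerSch.chartImm U φ)).obj ((DCoh.restrictD U.ι).obj ((pushD i).obj K)) ≅
      (pushD (DerSch.chartImm (i ⁻¹ᵁ U) ((i.app U).hom.comp φ))).obj K' :=
    (pushD (DerSch.chartImm U φ)).mapIso ((pushRestrictD i U).app K) ≪≫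
      (pushDCompIso (i ∣_ U) (DerSch.chartImm U φ)
        (DerSch.chartImm (i ⁻¹ᵁ U) ((i.app U).hom.comp φ))
        (chartImm_preimage_eq i U V φ).symm).app K'
  exact ⟨fun h => isPseudoCoherentD_of_iso e h, fun h => isPseudoCoherentD_of_iso e.symm h⟩

theorem isChart_preimage (h : U ≤ g ⁻¹ᵁ V) (hU : IsAffineOpen U)
    (hφ : DerSch.IsChart g U V h φ) (h' : i ⁻¹ᵁ U ≤ (i ≫ g) ⁻¹ᵁ V) :
    DerSch.IsChart (i ≫ g) (i ⁻¹ᵁ U) V h' ((i.app U).hom.comp φ) := by
  refine ⟨(i.app_surjective U hU).comp hφ.1, ?_⟩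
  rw [RingHom.comp_assoc, hφ.2]
  have h1 := Scheme.Hom.appLE_comp_appLE i g V U (i ⁻¹ᵁ U) h le_rfl
  rw [Scheme.Hom.appLE_eq_app] at h1
  exact congrArg CommRingCat.Hom.hom h1

variable [LocallyOfFiniteType g]

theorem preimage_le (h : U ≤ g ⁻¹ᵁ V) : i ⁻¹ᵁ U ≤ (i ≫ g) ⁻¹ᵁ V := fun _ hx => h hx

/-- Relative pseudo-coherence of a direct image along a closed immersion. -/
theorem isPseudoCoherentRel_pushD_iff (m : ℤ) (K : DCoh.D X) :
    DerSch.IsPseudoCoherentRel (i ≫ g) m K ↔ DerSch.IsPseudoCoherentRel g m ((pushD i).obj K) := by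
  haveI : LocallyOfFiniteType (i ≫ g) := inferInstance
  constructor
  · intro hK
    apply isPseudoCoherentRel_of_forall g m _
    intro U V h
    obtain ⟨k, φ, hφC, hφs⟩ := Groth.Agent.Lib.H72RelFP.exists_presentation g U.2 V.2 h
    have hφ : DerSch.IsChart g (U : P.Opens) (V : S.Opens) h φ := ⟨hφs, hφC⟩
    have h' : i ⁻¹ᵁ (U : P.Opens) ≤ (i ≫ g) ⁻¹ᵁ (V : S.Opens) := preimage_le i g U V h
    have hU' : IsAffineOpen (i ⁻¹ᵁ (U : P.Opens)) := U.2.preimage i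
    have hc := isChart_preimage i g (U : P.Opens) (V : S.Opens) φ h U.2 hφ h'
    have h1 : HasPCChart (i ≫ g) m K (i ⁻¹ᵁ (U : P.Opens)) (V : S.Opens) :=
      hasPCChart_of_isPseudoCoherentRel hK hU' V.2 h'
    have h2 := h1.chartPC hU' h' _ hc
    exact ⟨k, φ, hφ, (chartPC_pushD_iff i (U : P.Opens) (V : S.Opens) φ U.2 hφs m K).2 h2⟩
  · intro hK
    apply isPseudoCoherentRel_of_forall_exists (i ≫ g) m K
    intro V x hx
    obtain ⟨_, ⟨U, hU, rfl⟩, hxU, hUV⟩ :=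
      P.isBasis_affineOpens.exists_subset_of_mem_open (show i x ∈ (g ⁻¹ᵁ (V : S.Opens) : Set P)
        from hx) (g ⁻¹ᵁ (V : S.Opens)).2
    have h : U ≤ g ⁻¹ᵁ (V : S.Opens) := hUV
    have h' : i ⁻¹ᵁ U ≤ (i ≫ g) ⁻¹ᵁ (V : S.Opens) := preimage_le i g U V h
    have h1 : HasPCChart g m ((pushD i).obj K) U (V : S.Opens) :=
      hasPCChart_of_isPseudoCoherentRel hK hU V.2 h
    obtain ⟨k, φ, hφ, hPC⟩ := h1.exists_chart h
    have hc := isChart_preimage i g U (V : S.Opens) φ h hU hφ h'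
    have h2 := (chartPC_pushD_iff i U (V : S.Opens) φ hU hφ.1 m K).1 hPC
    exact ⟨⟨i ⁻¹ᵁ U, hU.preimage i⟩, hxU, h', k, _, hc, h2⟩

end Closed

end Groth.Agent.Lib.RelPCClosed17
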