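import Groth.Agent.Lib.RelPCClosed17
import Groth.Agent.Lib.PCohRelPoly

/-!
# Relative pseudo-coherence and composition with a pseudo-coherent morphism (helper17)
-/

set_option autoImplicit false
universe u
open CategoryTheory CategoryTheory.Limits AlgebraicGeometry TopologicalSpace Opposite
attribute [local instance] HasDerivedCategory.standard

namespace Groth.Agent.Lib.RelPCComp17

open Groth.Agent.Lib.PseudoCohTriangle Groth.Agent.Lib.PseudoCohSummand
  Groth.Agent.Lib.ClosedPushPC17 Groth.Agent.Lib.PCModTilde17 Groth.Agent.Lib.PCohRestrict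
  Groth.Agent.Lib.DRingPCoh21 Groth.Agent.Lib.PushIso17 Groth.Agent.Lib.RelPCModule17
  Groth.Agent.Lib.RelPCQCoh17 Groth.Agent.Lib.RelPCAll17 Groth.Agent.Lib.RelPCMorphism17
  Groth.Agent.Lib.RelPCRing17 Groth.Agent.Lib.RelPCChart17 Groth.Agent.Lib.RelPCOpen17
  Groth.Agent.Lib.RelPCLocal17 Groth.Agent.Lib.RelPCClosed17

section SpecLevel

variable {P Q C : Type u} [CommRing P] [CommRing Q] [CommRing C]

/-- Enlarging the ring of a chart along a surjection `σ : P → Q` making `Q` a pseudo-coherent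
`P`-module does not change the test. -/
theorem isPseudoCoherentD_specMap_comp_iff_of_pc (σ : P →+* Q) (hσ : Function.Surjective σ)
    (hpc : ∀ a : ℤ, DRing.IsPseudoCoherent P a ((Φ σ).obj (ModuleCat.of Q Q)))
    (θ : Q →+* C) (hθ : Function.Surjective θ) (K : DCoh.D (Spec (CommRingCat.of C))) (m : ℤ) :
    haveI : IsClosedImmersion (Spec.map (CommRingCat.ofHom θ)) :=
      IsClosedImmersion.spec_of_surjective _ hθ
    haveI : IsClosedImmersion (Spec.map (CommRingCat.ofHom (θ.comp σ))) :=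
      IsClosedImmersion.spec_of_surjective _ (hθ.comp hσ)
    DCoh.IsPseudoCoherentD m ((pushD (Spec.map (CommRingCat.ofHom θ))).obj K) ↔
      DCoh.IsPseudoCoherentD m ((pushD (Spec.map (CommRingCat.ofHom (θ.comp σ)))).obj K) := by
  haveI : IsClosedImmersion (Spec.map (CommRingCat.ofHom θ)) :=
    IsClosedImmersion.spec_of_surjective _ hθ
  haveI : IsClosedImmersion (Spec.map (CommRingCat.ofHom (θ.comp σ))) :=
    IsClosedImmersion.spec_of_surjective _ (hθ.comp hσ)
  haveI : IsClosedImmersion (Spec.map (CommRingCat.ofHom σ)) :=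
    IsClosedImmersion.spec_of_surjective _ hσ
  have h : Spec.map (CommRingCat.ofHom θ) ≫ Spec.map (CommRingCat.ofHom σ) =
      Spec.map (CommRingCat.ofHom (θ.comp σ)) := by
    rw [← Spec.map_comp]; rfl
  exact isPseudoCoherentD_pushD_iff _ _ _ h ((pcMod_push_spec_iff σ).2 hpc) K m

end SpecLevel

section Poly

variable (A : Type u) [CommRing A] (k l : ℕ)

/-- `A[z_1, …, z_{k+l}] ≃ A[y_1, …, y_l][x_1, …, x_k]`. -/
noncomputable def tauEquiv₂ :
    MvPolynomial (Fin (k + l)) A ≃ₐ[A] MvPolynomial (Fin k) (MvPolynomial (Fin l) A) :=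
  (MvPolynomial.renameEquiv A finSumFinEquiv).symm.trans
    (MvPolynomial.sumAlgEquiv A (Fin k) (Fin l))

variable {A k l} {B C : Type u} [CommRing B] [CommRing C]
  (φB : MvPolynomial (Fin l) A →+* B) (φC : MvPolynomial (Fin k) B →+* C)

/-- The composite chart. -/
noncomputable def compChart : MvPolynomial (Fin (k + l)) A →+* C :=
  (φC.comp (MvPolynomial.map φB)).comp (tauEquiv₂ A k l).toRingEquiv.toRingHom

theorem compChart_surjective (hB : Function.Surjective φB) (hC : Function.Surjective φC) :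
    Function.Surjective (compChart φB φC) :=
  (hC.comp (MvPolynomial.map_surjective φB hB)).comp (tauEquiv₂ A k l).surjective

theorem compChart_C (a : A) :
    compChart φB φC (MvPolynomial.C a) = φC (MvPolynomial.C (φB (MvPolynomial.C a))) := by
  have h1 : (tauEquiv₂ A k l) (MvPolynomial.C a) = MvPolynomial.C (MvPolynomial.C a) :=
    (tauEquiv₂ A k l).commutes a
  change φC (MvPolynomial.map φB ((tauEquiv₂ A k l) (MvPolynomial.C a))) = _
  rw [h1, MvPolynomial.map_C]

/-- If `B` is a pseudo-coherent `A[y]`-module then the tests along `φC` and along the composite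
chart agree. -/
theorem isPseudoCoherentD_compChart_iff (hB : Function.Surjective φB)
    (hC : Function.Surjective φC)
    (hpc : ∀ a : ℤ, DRing.IsPseudoCoherent (MvPolynomial (Fin l) A) a
      ((Φ φB).obj (ModuleCat.of B B)))
    (K : DCoh.D (Spec (CommRingCat.of C))) (m : ℤ) :
    haveI : IsClosedImmersion (Spec.map (CommRingCat.ofHom φC)) :=
      IsClosedImmersion.spec_of_surjective _ hC
    haveI : IsClosedImmersion (Spec.map (CommRingCat.ofHom (compChart φB φC))) :=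
      IsClosedImmersion.spec_of_surjective _ (compChart_surjective φB φC hB hC)
    DCoh.IsPseudoCoherentD m ((pushD (Spec.map (CommRingCat.ofHom φC))).obj K) ↔
      DCoh.IsPseudoCoherentD m
        ((pushD (Spec.map (CommRingCat.ofHom (compChart φB φC)))).obj K) := by
  have hσ : Function.Surjective (MvPolynomial.map (σ := Fin k) φB) :=
    MvPolynomial.map_surjective φB hB
  have hpc' : ∀ a : ℤ, DRing.IsPseudoCoherent (MvPolynomial (Fin k) (MvPolynomial (Fin l) A)) a
      ((Φ (MvPolynomial.map (σ := Fin k) φB)).obj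
        (ModuleCat.of (MvPolynomial (Fin k) B) (MvPolynomial (Fin k) B))) := by
    intro a
    rw [isPseudoCoherent_iff]
    exact Groth.Agent.Lib.PCohRelPoly.npc_Φ_mvPolynomial φB (Fin k)
      (fun a => (isPseudoCoherent_iff _ a _).1 (hpc a)) a
  let τ := (tauEquiv₂ A k l).toRingEquiv
  exact (isPseudoCoherentD_specMap_comp_iff_of_pc (MvPolynomial.map (σ := Fin k) φB) hσ hpc' φC hC
      K m).trans
    (isPseudoCoherentD_specMap_comp_iff τ.toRingHom τ.symm.toRingHom
      (RingHom.Smooth.of_bijective τ.symm.bijective)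
      (RingHom.ext fun x => τ.apply_symm_apply x) (φC.comp (MvPolynomial.map φB))
      (hC.comp hσ) K m)

end Poly

section Scheme

variable {X Y S : Scheme.{u}} (f : X ⟶ Y) (g : Y ⟶ S) [LocallyOfFiniteType f]
  [LocallyOfFiniteType g]

/-- Over a pseudo-coherent `g`, good charts for `f` on `(U, V)` and good charts for `f ≫ g` on
`(U, W)` are equivalent (`U ⊆ f⁻¹V`, `V ⊆ g⁻¹W` affine). -/
theorem hasPCChart_comp_iff (hg : ∀ n : ℤ, DerSch.IsNPseudoCoherent g n) {U : X.Opens}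
    (hU : IsAffineOpen U) {V : Y.Opens} (hV : IsAffineOpen V) {W : S.Opens}
    (hW : IsAffineOpen W) (hUV : U ≤ f ⁻¹ᵁ V) (hVW : V ≤ g ⁻¹ᵁ W) (m : ℤ) (E : DCoh.D X) :
    HasPCChart f m E U V ↔ HasPCChart (f ≫ g) m E U W := by
  have hUW : U ≤ (f ≫ g) ⁻¹ᵁ W := fun x hx => hVW (hUV hx)
  obtain ⟨l, φB, hφBC, hφBs⟩ := Groth.Agent.Lib.H72RelFP.exists_presentation g hV hW hVW
  obtain ⟨k, φC, hφCC, hφCs⟩ := Groth.Agent.Lib.H72RelFP.exists_presentation f hU hV hUV
  have hcB : DerSch.IsChart g V W hVW φB := ⟨hφBs, hφBC⟩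
  have hcC : DerSch.IsChart f U V hUV φC := ⟨hφCs, hφCC⟩
  have hpc : ∀ a : ℤ, DRing.IsPseudoCoherent (MvPolynomial (Fin l) Γ(S, W)) a
      ((Φ φB).obj (ModuleCat.of Γ(Y, V) Γ(Y, V))) := by
    intro a
    haveI := isClosedImmersion_chartImm V hV φB hφBs
    rw [← chartPC_unit_iff hV W φB a]
    exact (hasPCChart_of_isPseudoCoherentRel
      (isPseudoCoherentRel_of_iso g (unitCxIso Y) a (hg a)) hV hW hVW).chartPC hV hVW φB hcB
  have hcψ : DerSch.IsChart (f ≫ g) U W hUW (compChart φB φC) := by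
    refine ⟨compChart_surjective φB φC hφBs hφCs, RingHom.ext fun a => ?_⟩
    change compChart φB φC (MvPolynomial.C a) = _
    rw [compChart_C]
    have h1 : φB (MvPolynomial.C a) = (g.appLE W V hVW).hom a := congr($hφBC a)
    have h2 : ∀ b, φC (MvPolynomial.C b) = (f.appLE V U hUV).hom b := fun b => congr($hφCC b)
    rw [h1, h2]
    exact congr($(Scheme.Hom.appLE_comp_appLE f g W V U hVW hUV) a)
  have key := isPseudoCoherentD_compChart_iff φB φC hφBs hφCs hpc (specObj hU E) m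
  constructor
  · intro H
    have h1 := H.chartPC hU hUV φC hcC
    rw [chartPC_iff_specObj m E hU V φC hφCs] at h1
    refine ⟨hUW, _, compChart φB φC, hcψ, ?_⟩
    rw [chartPC_iff_specObj m E hU W _ hcψ.1]
    exact key.1 h1
  · intro H
    have h1 := H.chartPC hU hUW _ hcψ
    rw [chartPC_iff_specObj m E hU W _ hcψ.1] at h1
    refine ⟨hUV, _, φC, hcC, ?_⟩
    rw [chartPC_iff_specObj m E hU V φC hφCs]
    exact key.2 h1

omit [LocallyOfFiniteType g] in
/-- Local criterion for relative pseudo-coherence, with a chosen affine cover of the target. -/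
theorem isPseudoCoherentRel_of_cover (m : ℤ) (K : DCoh.D X) (𝒱 : Set Y.affineOpens)
    (h𝒱 : (⨆ V ∈ 𝒱, (V : Y.Opens)) = ⊤)
    (H : ∀ V ∈ 𝒱, ∀ x : X, x ∈ f ⁻¹ᵁ (V : Y.Opens) →
      ∃ W : X.affineOpens, x ∈ (W : X.Opens) ∧ HasPCChart f m K (W : X.Opens) (V : Y.Opens)) :
    DerSch.IsPseudoCoherentRel f m K := by
  refine ⟨inferInstance, 𝒱, h𝒱, fun V hV =>
    ⟨{W | HasPCChart f m K (W : X.Opens) (V : Y.Opens)}, ?_, ?_⟩⟩
  · apply le_antisymm
    · refine iSup₂_le fun W hW => hW.le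
    · intro x hx
      obtain ⟨W, hxW, hW⟩ := H V hV x hx
      simp only [Opens.mem_iSup]
      exact ⟨W, hW, hxW⟩
  · intro W hW h
    exact hW.exists_chart h

/-- Relative pseudo-coherence with respect to `f` and with respect to `f ≫ g` agree when `g` is
pseudo-coherent. -/
theorem isPseudoCoherentRel_comp_iff (hg : ∀ n : ℤ, DerSch.IsNPseudoCoherent g n) (m : ℤ)
    (E : DCoh.D X) :
    DerSch.IsPseudoCoherentRel f m E ↔ DerSch.IsPseudoCoherentRel (f ≫ g) m E := by
  haveI : LocallyOfFiniteType (f ≫ g) := inferInstance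
  constructor
  · intro hE
    apply isPseudoCoherentRel_of_forall_exists (f ≫ g) m E
    intro W x hx
    obtain ⟨_, ⟨V, hV, rfl⟩, hxV, hVW⟩ :=
      Y.isBasis_affineOpens.exists_subset_of_mem_open
        (show f x ∈ (g ⁻¹ᵁ (W : S.Opens) : Set Y) from hx) (g ⁻¹ᵁ (W : S.Opens)).2
    obtain ⟨_, ⟨U, hU, rfl⟩, hxU, hUV⟩ :=
      X.isBasis_affineOpens.exists_subset_of_mem_open
        (show x ∈ (f ⁻¹ᵁ V : Set X) from hxV) (f ⁻¹ᵁ V).2
    have hUV' : U ≤ f ⁻¹ᵁ V := hUV
    have hVW' : V ≤ g ⁻¹ᵁ (W : S.Opens) := hVW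
    exact ⟨⟨U, hU⟩, hxU, (hasPCChart_comp_iff f g hg hU hV W.2 hUV' hVW' m E).1
      (hasPCChart_of_isPseudoCoherentRel hE hU hV hUV')⟩
  · intro hE
    apply isPseudoCoherentRel_of_cover f m E
      {V | ∃ W : S.affineOpens, (V : Y.Opens) ≤ g ⁻¹ᵁ (W : S.Opens)}
    · rw [eq_top_iff]
      intro y _
      obtain ⟨_, ⟨W, hW, rfl⟩, hyW, -⟩ :=
        S.isBasis_affineOpens.exists_subset_of_mem_open (Set.mem_univ (g y)) isOpen_univ
      obtain ⟨_, ⟨V, hV, rfl⟩, hyV, hVW⟩ :=
        Y.isBasis_affineOpens.exists_subset_of_mem_open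
          (show y ∈ (g ⁻¹ᵁ W : Set Y) from hyW) (g ⁻¹ᵁ W).2
      simp only [Opens.mem_iSup]
      exact ⟨⟨V, hV⟩, ⟨⟨W, hW⟩, hVW⟩, hyV⟩
    · rintro V ⟨W, hVW⟩ x hx
      obtain ⟨_, ⟨U, hU, rfl⟩, hxU, hUV⟩ :=
        X.isBasis_affineOpens.exists_subset_of_mem_open
          (show x ∈ (f ⁻¹ᵁ (V : Y.Opens) : Set X) from hx) (f ⁻¹ᵁ (V : Y.Opens)).2
      have hUV' : U ≤ f ⁻¹ᵁ (V : Y.Opens) := hUV
      have hUW : U ≤ (f ≫ g) ⁻¹ᵁ (W : S.Opens) := fun z hz => hVW (hUV' hz)
      exact ⟨⟨U, hU⟩, hxU, (hasPCChart_comp_iff f g hg hU V.2 W.2 hUV' hVW m E).2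
        (hasPCChart_of_isPseudoCoherentRel hE hU W.2 hUW)⟩

end Scheme

end Groth.Agent.Lib.RelPCComp17
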