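import Groth.Agent.Lib.ClosedPushPCIdx17

/-!
# Relative pseudo-coherence and composition, with indices (helper17)
-/

set_option autoImplicit false
universe u
open CategoryTheory CategoryTheory.Limits AlgebraicGeometry TopologicalSpace Opposite
attribute [local instance] HasDerivedCategory.standard

namespace Groth.Agent.Lib.RelPCCompIdx17

open Groth.Agent.Lib.PseudoCohTriangle Groth.Agent.Lib.PseudoCohSummand
  Groth.Agent.Lib.ClosedPushPC17 Groth.Agent.Lib.PCModTilde17 Groth.Agent.Lib.PCohRestrict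
  Groth.Agent.Lib.DRingPCoh21 Groth.Agent.Lib.PushIso17 Groth.Agent.Lib.RelPCModule17
  Groth.Agent.Lib.RelPCQCoh17 Groth.Agent.Lib.RelPCAll17 Groth.Agent.Lib.RelPCMorphism17
  Groth.Agent.Lib.RelPCRing17 Groth.Agent.Lib.RelPCChart17 Groth.Agent.Lib.RelPCOpen17
  Groth.Agent.Lib.RelPCLocal17 Groth.Agent.Lib.RelPCClosed17 Groth.Agent.Lib.RelPCComp17
  Groth.Agent.Lib.ClosedPushPCIdx17

section Ring

attribute [local instance] MvPolynomial.algebraMvPolynomial

open Groth.Agent.Lib.FlatBaseChangeD in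
theorem pc_mvPolynomial_idx' {S A : Type u} [CommRing S] [CommRing A] [Algebra S A] (τ : Type)
    (a : ℤ) (hA : DRing.IsPseudoCoherent S a ((Φ (algebraMap S A)).obj (ModuleCat.of A A))) :
    DRing.IsPseudoCoherent (MvPolynomial τ S) a
      ((Φ (algebraMap (MvPolynomial τ S) (MvPolynomial τ A))).obj
        (ModuleCat.of (MvPolynomial τ A) (MvPolynomial τ A))) := by
  have h2 := isPseudoCoherent_FD (B := MvPolynomial τ S) hA
  refine ring_of_iso _ ?_ h2
  refine ((F S (MvPolynomial τ S)).mapDerivedCategorySingleFunctor 0).app _ ≪≫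
    (DerivedCategory.singleFunctor (ModuleCat.{u} (MvPolynomial τ S)) 0).mapIso ?_
  refine (F S (MvPolynomial τ S)).mapIso (restrictEquiv (A := S) (B := A)).toModuleIso ≪≫
    objIso (A := S) (B := MvPolynomial τ S) A ≪≫ ?_ ≪≫
    (restrictEquiv (A := MvPolynomial τ S) (B := MvPolynomial τ A)).symm.toModuleIso
  exact (Algebra.IsPushout.out (R := S) (S := MvPolynomial τ S) (R' := A)
    (S' := MvPolynomial τ A)).equiv.toModuleIso

/-- Flat base change to polynomial rings, degree by degree. -/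
theorem pc_mvPolynomial_idx {S A : Type u} [CommRing S] [CommRing A] (φ : S →+* A) (τ : Type)
    (a : ℤ) (hA : DRing.IsPseudoCoherent S a ((Φ φ).obj (ModuleCat.of A A))) :
    DRing.IsPseudoCoherent (MvPolynomial τ S) a
      ((Φ (MvPolynomial.map (σ := τ) φ)).obj
        (ModuleCat.of (MvPolynomial τ A) (MvPolynomial τ A))) := by
  let _ : Algebra S A := φ.toAlgebra
  exact pc_mvPolynomial_idx' (S := S) (A := A) τ a hA

end Ring

section SpecLevel

variable {A B C : Type u} [CommRing A] [CommRing B] [CommRing C] {k l : ℕ}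
  (φB : MvPolynomial (Fin l) A →+* B) (φC : MvPolynomial (Fin k) B →+* C)

/-- Composite charts, push direction, with indices. -/
theorem isPseudoCoherentD_compChart_of_idx (hB : Function.Surjective φB)
    (hC : Function.Surjective φC) (m b : ℤ)
    (hpc : DRing.IsPseudoCoherent (MvPolynomial (Fin l) A) (m - b)
      ((Φ φB).obj (ModuleCat.of B B)))
    (K : DCoh.D (Spec (CommRingCat.of C))) (hz : ∀ j : ℤ, b < j → IsZero (DCoh.HD K j)) :
    haveI : IsClosedImmersion (Spec.map (CommRingCat.ofHom φC)) :=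
      IsClosedImmersion.spec_of_surjective _ hC
    haveI : IsClosedImmersion (Spec.map (CommRingCat.ofHom (compChart φB φC))) :=
      IsClosedImmersion.spec_of_surjective _ (compChart_surjective φB φC hB hC)
    DCoh.IsPseudoCoherentD m ((pushD (Spec.map (CommRingCat.ofHom φC))).obj K) →
      DCoh.IsPseudoCoherentD m
        ((pushD (Spec.map (CommRingCat.ofHom (compChart φB φC)))).obj K) := by
  have hσ : Function.Surjective (MvPolynomial.map (σ := Fin k) φB) :=
    MvPolynomial.map_surjective φB hB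
  haveI : IsClosedImmersion (Spec.map (CommRingCat.ofHom φC)) :=
    IsClosedImmersion.spec_of_surjective _ hC
  haveI : IsClosedImmersion (Spec.map (CommRingCat.ofHom (MvPolynomial.map (σ := Fin k) φB))) :=
    IsClosedImmersion.spec_of_surjective _ hσ
  haveI : IsClosedImmersion (Spec.map (CommRingCat.ofHom
      (φC.comp (MvPolynomial.map (σ := Fin k) φB)))) :=
    IsClosedImmersion.spec_of_surjective _ (hC.comp hσ)
  intro hK
  have hO : PCa (m - b) ((Scheme.Modules.pushforward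
      (Spec.map (CommRingCat.ofHom (MvPolynomial.map (σ := Fin k) φB)))).obj
        (Coh.structureModule (Spec (CommRingCat.of (MvPolynomial (Fin k) B))))) :=
    (isPseudoCoherentD_push_spec_iff _ (m - b)).2 (pc_mvPolynomial_idx φB (Fin k) (m - b) hpc)
  have hzL : ∀ j : ℤ, b < j →
      IsZero (DCoh.HD ((pushD (Spec.map (CommRingCat.ofHom φC))).obj K) j) :=
    fun j hj => (isZero_HD_pushD_iff _ K j).2 (hz j hj)
  have h1 := isPseudoCoherentD_pushD_idx
    (Spec.map (CommRingCat.ofHom (MvPolynomial.map (σ := Fin k) φB))) _ m b hzL hO hK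
  have hcomp : Spec.map (CommRingCat.ofHom φC) ≫
      Spec.map (CommRingCat.ofHom (MvPolynomial.map (σ := Fin k) φB)) =
      Spec.map (CommRingCat.ofHom (φC.comp (MvPolynomial.map (σ := Fin k) φB))) := by
    rw [← Spec.map_comp]; rfl
  have h2 : DCoh.IsPseudoCoherentD m ((pushD (Spec.map (CommRingCat.ofHom
      (φC.comp (MvPolynomial.map (σ := Fin k) φB))))).obj K) :=
    isPseudoCoherentD_of_iso ((pushDCompIso _ _ _ hcomp).app K) h1
  let τ := (tauEquiv₂ A k l).toRingEquiv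
  exact (isPseudoCoherentD_specMap_comp_iff τ.toRingHom τ.symm.toRingHom
    (RingHom.Smooth.of_bijective τ.symm.bijective)
    (RingHom.ext fun x => τ.apply_symm_apply x) (φC.comp (MvPolynomial.map φB))
    (hC.comp hσ) K m).1 h2

/-- Composite charts, descent direction, with indices. -/
theorem isPseudoCoherentD_of_compChart_idx (hB : Function.Surjective φB)
    (hC : Function.Surjective φC) (m b : ℤ)
    (hpc : DRing.IsPseudoCoherent (MvPolynomial (Fin l) A) (m + 1 - b)
      ((Φ φB).obj (ModuleCat.of B B)))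
    (K : DCoh.D (Spec (CommRingCat.of C))) (hz : ∀ j : ℤ, b < j → IsZero (DCoh.HD K j)) :
    haveI : IsClosedImmersion (Spec.map (CommRingCat.ofHom φC)) :=
      IsClosedImmersion.spec_of_surjective _ hC
    haveI : IsClosedImmersion (Spec.map (CommRingCat.ofHom (compChart φB φC))) :=
      IsClosedImmersion.spec_of_surjective _ (compChart_surjective φB φC hB hC)
    DCoh.IsPseudoCoherentD m
        ((pushD (Spec.map (CommRingCat.ofHom (compChart φB φC)))).obj K) →
      DCoh.IsPseudoCoherentD m ((pushD (Spec.map (CommRingCat.ofHom φC))).obj K) := by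
  have hσ : Function.Surjective (MvPolynomial.map (σ := Fin k) φB) :=
    MvPolynomial.map_surjective φB hB
  haveI : IsClosedImmersion (Spec.map (CommRingCat.ofHom φC)) :=
    IsClosedImmersion.spec_of_surjective _ hC
  haveI : IsClosedImmersion (Spec.map (CommRingCat.ofHom (MvPolynomial.map (σ := Fin k) φB))) :=
    IsClosedImmersion.spec_of_surjective _ hσ
  haveI : IsClosedImmersion (Spec.map (CommRingCat.ofHom
      (φC.comp (MvPolynomial.map (σ := Fin k) φB)))) :=
    IsClosedImmersion.spec_of_surjective _ (hC.comp hσ)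
  intro hK
  let τ := (tauEquiv₂ A k l).toRingEquiv
  have h2 := (isPseudoCoherentD_specMap_comp_iff τ.toRingHom τ.symm.toRingHom
    (RingHom.Smooth.of_bijective τ.symm.bijective)
    (RingHom.ext fun x => τ.apply_symm_apply x) (φC.comp (MvPolynomial.map φB))
    (hC.comp hσ) K m).2 hK
  have hcomp : Spec.map (CommRingCat.ofHom φC) ≫
      Spec.map (CommRingCat.ofHom (MvPolynomial.map (σ := Fin k) φB)) =
      Spec.map (CommRingCat.ofHom (φC.comp (MvPolynomial.map (σ := Fin k) φB))) := by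
    rw [← Spec.map_comp]; rfl
  have h1 : DCoh.IsPseudoCoherentD m
      ((pushD (Spec.map (CommRingCat.ofHom (MvPolynomial.map (σ := Fin k) φB)))).obj
        ((pushD (Spec.map (CommRingCat.ofHom φC))).obj K)) :=
    isPseudoCoherentD_of_iso ((pushDCompIso _ _ _ hcomp).app K).symm h2
  have hO : PCa (m + 1 - b) ((Scheme.Modules.pushforward
      (Spec.map (CommRingCat.ofHom (MvPolynomial.map (σ := Fin k) φB)))).obj
        (Coh.structureModule (Spec (CommRingCat.of (MvPolynomial (Fin k) B))))) :=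
    (isPseudoCoherentD_push_spec_iff _ (m + 1 - b)).2
      (pc_mvPolynomial_idx φB (Fin k) (m + 1 - b) hpc)
  have hzL : ∀ j : ℤ, b < j →
      IsZero (DCoh.HD ((pushD (Spec.map (CommRingCat.ofHom φC))).obj K) j) :=
    fun j hj => (isZero_HD_pushD_iff _ K j).2 (hz j hj)
  exact isPseudoCoherentD_of_pushD_idx
    (Spec.map (CommRingCat.ofHom (MvPolynomial.map (σ := Fin k) φB))) _ m b hzL hO h1

end SpecLevel

section Scheme

variable {X Y S : Scheme.{u}} (f : X ⟶ Y) (g : Y ⟶ S)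
  {U : X.Opens} (hU : IsAffineOpen U) {V : Y.Opens} (hV : IsAffineOpen V) {W : S.Opens}
  (hUV : U ≤ f ⁻¹ᵁ V) (hVW : V ≤ g ⁻¹ᵁ W) {k l : ℕ}
  (φB : MvPolynomial (Fin l) Γ(S, W) →+* Γ(Y, V)) (φC : MvPolynomial (Fin k) Γ(Y, V) →+* Γ(X, U))

theorem isChart_compChart (hcB : DerSch.IsChart g V W hVW φB) (hcC : DerSch.IsChart f U V hUV φC)
    (hUW : U ≤ (f ≫ g) ⁻¹ᵁ W) : DerSch.IsChart (f ≫ g) U W hUW (compChart φB φC) := by
  refine ⟨compChart_surjective φB φC hcB.1 hcC.1, RingHom.ext fun a => ?_⟩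
  change compChart φB φC (MvPolynomial.C a) = _
  rw [compChart_C]
  have h1 : φB (MvPolynomial.C a) = (g.appLE W V hVW).hom a := congr($(hcB.2) a)
  have h2 : ∀ b, φC (MvPolynomial.C b) = (f.appLE V U hUV).hom b := fun b => congr($(hcC.2) b)
  rw [h1, h2]
  exact congr($(Scheme.Hom.appLE_comp_appLE f g W V U hVW hUV) a)

include hU in
theorem isZero_HD_specObj (E : DCoh.D X) (b : ℤ) [E.IsLE b] (j : ℤ) (hj : b < j) :
    IsZero (DCoh.HD (specObj hU E) j) :=
  (isZero_HD_pushD_iff hU.isoSpec.hom _ j).2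
    (isZero_homology_restrictD E U j (DerivedCategory.isZero_of_isLE E b j hj))

include hU hV in
/-- Push direction on charts. -/
theorem chartPC_compChart_of_idx (hcB : DerSch.IsChart g V W hVW φB)
    (hcC : DerSch.IsChart f U V hUV φC) (m b : ℤ) (E : DCoh.D X) [E.IsLE b]
    (hB : DerSch.ChartPC (m - b) (DCoh.inD Y (Coh.structureModule Y)) V W φB)
    (hE : DerSch.ChartPC m E U V φC) : DerSch.ChartPC m E U W (compChart φB φC) := by
  haveI := isClosedImmersion_chartImm V hV φB hcB.1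
  rw [chartPC_unit_iff hV W φB (m - b)] at hB
  rw [chartPC_iff_specObj m E hU V φC hcC.1] at hE
  rw [chartPC_iff_specObj m E hU W _ (compChart_surjective φB φC hcB.1 hcC.1)]
  exact isPseudoCoherentD_compChart_of_idx φB φC hcB.1 hcC.1 m b hB (specObj hU E)
    (isZero_HD_specObj hU E b) hE

include hU hV in
/-- Descent direction on charts. -/
theorem chartPC_of_compChart_idx (hcB : DerSch.IsChart g V W hVW φB)
    (hcC : DerSch.IsChart f U V hUV φC) (m b : ℤ) (E : DCoh.D X) [E.IsLE b]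
    (hB : DerSch.ChartPC (m + 1 - b) (DCoh.inD Y (Coh.structureModule Y)) V W φB)
    (hE : DerSch.ChartPC m E U W (compChart φB φC)) : DerSch.ChartPC m E U V φC := by
  haveI := isClosedImmersion_chartImm V hV φB hcB.1
  rw [chartPC_unit_iff hV W φB (m + 1 - b)] at hB
  rw [chartPC_iff_specObj m E hU W _ (compChart_surjective φB φC hcB.1 hcC.1)] at hE
  rw [chartPC_iff_specObj m E hU V φC hcC.1]
  exact isPseudoCoherentD_of_compChart_idx φB φC hcB.1 hcC.1 m b hB (specObj hU E)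
    (isZero_HD_specObj hU E b) hE

end Scheme

section Global

variable {X Y S : Scheme.{u}} (f : X ⟶ Y) (g : Y ⟶ S)

theorem chartPC_of_le {m m' : ℤ} (h : m ≤ m') {K : DCoh.D X} {U : X.Opens} {V : Y.Opens} {n : ℕ}
    (φ : MvPolynomial (Fin n) Γ(Y, V) →+* Γ(X, U)) (hK : DerSch.ChartPC m K U V φ) :
    DerSch.ChartPC m' K U V φ :=
  fun G hG => isPseudoCoherentD_of_le h (hK G hG)

/-- Relative pseudo-coherence is monotone in the index. -/
theorem isPseudoCoherentRel_of_le {m m' : ℤ} (h : m ≤ m') {K : DCoh.D X}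
    (hK : DerSch.IsPseudoCoherentRel f m K) : DerSch.IsPseudoCoherentRel f m' K := by
  obtain ⟨h0, 𝒱, h𝒱, H⟩ := hK
  refine ⟨h0, 𝒱, h𝒱, fun V hV => ?_⟩
  obtain ⟨𝒰, h𝒰, H'⟩ := H V hV
  refine ⟨𝒰, h𝒰, fun U hU hUV => ?_⟩
  obtain ⟨n, φ, hchart, hPC⟩ := H' U hU hUV
  exact ⟨n, φ, hchart, chartPC_of_le h φ hPC⟩

variable [LocallyOfFiniteType f] [LocallyOfFiniteType g]

/-- If `E ∈ D^{≤ b}` is `m`-pseudo-coherent relative to `f` and `g` is `(m - b)`-pseudo-coherent,
then `E` is `m`-pseudo-coherent relative to `f ≫ g`. -/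
theorem isPseudoCoherentRel_comp_of_idx (m b : ℤ) (E : DCoh.D X) [E.IsLE b]
    (hg : DerSch.IsNPseudoCoherent g (m - b)) (hE : DerSch.IsPseudoCoherentRel f m E) :
    DerSch.IsPseudoCoherentRel (f ≫ g) m E := by
  haveI : LocallyOfFiniteType (f ≫ g) := inferInstance
  have hg' := isPseudoCoherentRel_of_iso g (unitCxIso Y) (m - b) hg
  apply isPseudoCoherentRel_of_forall_exists (f ≫ g) m E
  intro W x hx
  obtain ⟨_, ⟨V, hV, rfl⟩, hxV, hVW⟩ :=
    Y.isBasis_affineOpens.exists_subset_of_mem_open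
      (show f x ∈ (g ⁻¹ᵁ (W : S.Opens) : Set Y) from hx) (g ⁻¹ᵁ (W : S.Opens)).2
  obtain ⟨_, ⟨U, hU, rfl⟩, hxU, hUV⟩ :=
    X.isBasis_affineOpens.exists_subset_of_mem_open
      (show x ∈ (f ⁻¹ᵁ V : Set X) from hxV) (f ⁻¹ᵁ V).2
  have hUV' : U ≤ f ⁻¹ᵁ V := hUV
  have hVW' : V ≤ g ⁻¹ᵁ (W : S.Opens) := hVW
  have hUW : U ≤ (f ≫ g) ⁻¹ᵁ (W : S.Opens) := fun z hz => hVW' (hUV' hz)
  obtain ⟨l, φB, hφBC, hφBs⟩ := Groth.Agent.Lib.H72RelFP.exists_presentation g hV W.2 hVW'
  obtain ⟨k, φC, hφCC, hφCs⟩ := Groth.Agent.Lib.H72RelFP.exists_presentation f hU hV hUV'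
  have hcB : DerSch.IsChart g V (W : S.Opens) hVW' φB := ⟨hφBs, hφBC⟩
  have hcC : DerSch.IsChart f U V hUV' φC := ⟨hφCs, hφCC⟩
  have hB := (hasPCChart_of_isPseudoCoherentRel hg' hV W.2 hVW').chartPC hV hVW' φB hcB
  have hC := (hasPCChart_of_isPseudoCoherentRel hE hU hV hUV').chartPC hU hUV' φC hcC
  exact ⟨⟨U, hU⟩, hxU, hUW, _, compChart φB φC, isChart_compChart f g hUV' hVW' φB φC hcB hcC hUW,
    chartPC_compChart_of_idx f g hU hV hUV' hVW' φB φC hcB hcC m b E hB hC⟩

/-- If `E ∈ D^{≤ b}` is `m`-pseudo-coherent relative to `f ≫ g` and `g` is `(m + 1 - b)`-pseudo-coherent,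
then `E` is `m`-pseudo-coherent relative to `f`. -/
theorem isPseudoCoherentRel_of_comp_idx (m b : ℤ) (E : DCoh.D X) [E.IsLE b]
    (hg : DerSch.IsNPseudoCoherent g (m + 1 - b)) (hE : DerSch.IsPseudoCoherentRel (f ≫ g) m E) :
    DerSch.IsPseudoCoherentRel f m E := by
  haveI : LocallyOfFiniteType (f ≫ g) := inferInstance
  have hg' := isPseudoCoherentRel_of_iso g (unitCxIso Y) (m + 1 - b) hg
  apply isPseudoCoherentRel_of_cover f m E
    {V | ∃ W : S.affineOpens, (V : Y.Opens) ≤ g ⁻¹ᵁ (W : S.Opens)}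
  · rw [eq_top_iff]
    intro y _
    obtain ⟨_, ⟨W, hW, rfl⟩, hyW, -⟩ :=
      S.isBasis_affineOpens.exists_subset_of_mem_open (Set.mem_univ (g y)) isOpen_univ
    obtain ⟨_, ⟨V, hV, rfl⟩, hyV, hVW⟩ :=
      Y.isBasis_affineOpens.exists_subset_of_mem_open
        (show y ∈ (g ⁻¹ᵁ W : Set Y) from hyW) (g ⁻¹ᵁ W).2
    simp only [Opens.mem_iSup]
    exact ⟨⟨V, hV⟩, ⟨⟨W, hW⟩, hVW⟩, hyV⟩
  · rintro V ⟨W, hVW⟩ x hx
    obtain ⟨_, ⟨U, hU, rfl⟩, hxU, hUV⟩ :=
      X.isBasis_affineOpens.exists_subset_of_mem_open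
        (show x ∈ (f ⁻¹ᵁ (V : Y.Opens) : Set X) from hx) (f ⁻¹ᵁ (V : Y.Opens)).2
    have hUV' : U ≤ f ⁻¹ᵁ (V : Y.Opens) := hUV
    have hUW : U ≤ (f ≫ g) ⁻¹ᵁ (W : S.Opens) := fun z hz => hVW (hUV' hz)
    obtain ⟨l, φB, hφBC, hφBs⟩ := Groth.Agent.Lib.H72RelFP.exists_presentation g V.2 W.2 hVW
    obtain ⟨k, φC, hφCC, hφCs⟩ := Groth.Agent.Lib.H72RelFP.exists_presentation f hU V.2 hUV'
    have hcB : DerSch.IsChart g (V : Y.Opens) (W : S.Opens) hVW φB := ⟨hφBs, hφBC⟩
    have hcC : DerSch.IsChart f U (V : Y.Opens) hUV' φC := ⟨hφCs, hφCC⟩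
    have hB := (hasPCChart_of_isPseudoCoherentRel hg' V.2 W.2 hVW).chartPC V.2 hVW φB hcB
    have hC := (hasPCChart_of_isPseudoCoherentRel hE hU W.2 hUW).chartPC hU hUW _
      (isChart_compChart f g hUV' hVW φB φC hcB hcC hUW)
    exact ⟨⟨U, hU⟩, hxU, hUV', _, φC, hcC,
      chartPC_of_compChart_idx f g hU V.2 hUV' hVW φB φC hcB hcC m b E hB hC⟩

end Global

end Groth.Agent.Lib.RelPCCompIdx17
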