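import Groth.Agent.Lib.RelPCFlatBC17

/-!
# Faithfully flat descent of relative pseudo-coherence of morphisms (helper17)
-/

set_option autoImplicit false
universe u
open CategoryTheory CategoryTheory.Limits AlgebraicGeometry TopologicalSpace Opposite
attribute [local instance] HasDerivedCategory.standard

namespace Groth.Agent.Lib.RelPCDescent17

open Groth.Agent.Lib.PseudoCohTriangle Groth.Agent.Lib.PseudoCohSummand
  Groth.Agent.Lib.ClosedPushPC17 Groth.Agent.Lib.PCModTilde17 Groth.Agent.Lib.PCohRestrict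
  Groth.Agent.Lib.DRingPCoh21 Groth.Agent.Lib.PushIso17 Groth.Agent.Lib.RelPCModule17
  Groth.Agent.Lib.RelPCQCoh17 Groth.Agent.Lib.RelPCAll17 Groth.Agent.Lib.RelPCMorphism17
  Groth.Agent.Lib.RelPCRing17 Groth.Agent.Lib.RelPCChart17 Groth.Agent.Lib.RelPCOpen17
  Groth.Agent.Lib.RelPCLocal17 Groth.Agent.Lib.RelPCClosed17 Groth.Agent.Lib.RelPCComp17
  Groth.Agent.Lib.ClosedPushPCIdx17 Groth.Agent.Lib.RelPCCompIdx17 Groth.Agent.Lib.RelPCFlatBC17

section RingFF

open Groth.Agent.Lib.FlatBaseChangeD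

variable {A B : Type u} [CommRing A] [CommRing B] [Algebra A B] [Module.FaithfullyFlat A B]

theorem finite_of_finite_obj (M : ModuleCat.{u} A) (h : Module.Finite B ((F A B).obj M)) :
    Module.Finite A M := by
  haveI : Module.Finite B (TensorProduct A B M) :=
    Module.Finite.equiv (objEquiv (A := A) (B := B) M)
  exact Module.Finite.of_finite_tensorProduct_of_faithfullyFlat B

/-- Faithfully flat descent of pseudo-coherence of a module, for `m = -n`. -/
theorem pc_of_ff_aux (n : ℕ) : ∀ M : ModuleCat.{u} A,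
    DRing.IsPseudoCoherent B (-(n : ℤ))
      ((DerivedCategory.singleFunctor (ModuleCat.{u} B) 0).obj ((F A B).obj M)) →
    DRing.IsPseudoCoherent A (-(n : ℤ))
      ((DerivedCategory.singleFunctor (ModuleCat.{u} A) 0).obj M) := by
  induction n with
  | zero =>
    intro M h
    simp only [Nat.cast_zero, neg_zero] at h ⊢
    rw [isPseudoCoherent_single_zero_iff] at h ⊢
    exact finite_of_finite_obj M h
  | succ n ih =>
    intro M h
    have h0 := ring_of_le (CommRingCat.of B) (m := -((n + 1 : ℕ) : ℤ)) (m' := 0) (by omega) h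
    rw [isPseudoCoherent_single_zero_iff] at h0
    haveI hfin : Module.Finite A M := finite_of_finite_obj M h0
    obtain ⟨S, hS, hE, ⟨e⟩⟩ := exists_shortExact_of_finite (CommRingCat.of A) M
    have hS' : (S.map (F A B)).ShortExact := hS.map_of_exact (F A B)
    have hE' : FF B (S.map (F A B)).X₂ := by
      haveI := hE.1
      haveI := hE.2
      exact ⟨finite_obj S.X₂, free_obj S.X₂⟩
    have h1 := ring_iff_of_shortExact (CommRingCat.of B) (S.map (F A B)) hS' hE' (-((n + 1 : ℕ) : ℤ))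
    have h2 := ring_iff_of_shortExact (CommRingCat.of A) S hS hE (-((n + 1 : ℕ) : ℤ))
    have e0 : -((n + 1 : ℕ) : ℤ) + 1 = -(n : ℤ) := by push_cast; ring
    rw [e0] at h1 h2
    have h3 : DRing.IsPseudoCoherent B (-((n + 1 : ℕ) : ℤ))
        ((DerivedCategory.singleFunctor (ModuleCat.{u} B) 0).obj ((F A B).obj S.X₃)) :=
      ring_of_iso _ ((DerivedCategory.singleFunctor _ 0).mapIso ((F A B).mapIso e.symm)) h
    have h4 := ih S.X₁ (h1.1 h3)
    exact ring_of_iso _ ((DerivedCategory.singleFunctor _ 0).mapIso e) (h2.2 h4)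

/-- Faithfully flat descent of pseudo-coherence of a module. -/
theorem pc_of_ff (m : ℤ) (M : ModuleCat.{u} A)
    (h : DRing.IsPseudoCoherent B m
      ((DerivedCategory.singleFunctor (ModuleCat.{u} B) 0).obj ((F A B).obj M))) :
    DRing.IsPseudoCoherent A m ((DerivedCategory.singleFunctor (ModuleCat.{u} A) 0).obj M) := by
  by_cases hm : 0 < m
  · exact ring_of_pos (CommRingCat.of A) M m hm
  · obtain ⟨n, rfl⟩ : ∃ n : ℕ, m = -(n : ℤ) := ⟨(-m).toNat, by omega⟩
    exact pc_of_ff_aux n M h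

end RingFF

section RingChart

attribute [local instance] MvPolynomial.algebraMvPolynomial

variable {R R' C C' : Type u} [CommRing R] [CommRing R'] [CommRing C] [CommRing C'] {k : ℕ}
  (ψ : R →+* R') (φ : MvPolynomial (Fin k) R →+* C) (c : C →+* C') (r' : R' →+* C')
  (hpo : IsPushout (CommRingCat.ofHom (φ.comp MvPolynomial.C)) (CommRingCat.ofHom ψ)
      (CommRingCat.ofHom c) (CommRingCat.ofHom r'))

open Groth.Agent.Lib.FlatBaseChangeD in
include hpo in
/-- Faithfully flat descent of pseudo-coherence of a chart. -/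
theorem pc_of_bcChart (hψ : ψ.FaithfullyFlat) (n : ℤ)
    (h : DRing.IsPseudoCoherent (MvPolynomial (Fin k) R') n
      ((Φ (bcChart φ c r')).obj (ModuleCat.of C' C'))) :
    DRing.IsPseudoCoherent (MvPolynomial (Fin k) R) n ((Φ φ).obj (ModuleCat.of C C)) := by
  have hw : c.comp (φ.comp MvPolynomial.C) = r'.comp ψ := congr($(hpo.w).hom)
  have hcm := bcChart_comp_map ψ φ c r' hw
  letI : Algebra R R' := ψ.toAlgebra
  letI : Algebra (MvPolynomial (Fin k) R) C := φ.toAlgebra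
  letI : Algebra (MvPolynomial (Fin k) R') C' := (bcChart φ c r').toAlgebra
  letI : Algebra C C' := c.toAlgebra
  letI : Algebra (MvPolynomial (Fin k) R) C' :=
    ((bcChart φ c r').comp (MvPolynomial.map ψ)).toAlgebra
  haveI : IsScalarTower (MvPolynomial (Fin k) R) (MvPolynomial (Fin k) R') C' :=
    .of_algebraMap_eq fun _ => rfl
  haveI : IsScalarTower (MvPolynomial (Fin k) R) C C' :=
    .of_algebraMap_eq fun x => congr($hcm x)
  have hP : Algebra.IsPushout (MvPolynomial (Fin k) R) (MvPolynomial (Fin k) R') C C' :=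
    CommRingCat.isPushout_iff_isPushout.mp (pushout_bcChart ψ φ c r' hpo)
  have hψ' : (algebraMap R R').FaithfullyFlat := hψ
  haveI : Algebra.IsPushout R R' (MvPolynomial (Fin k) R) (MvPolynomial (Fin k) R') :=
    (inferInstance : Algebra.IsPushout R (MvPolynomial (Fin k) R) R'
      (MvPolynomial (Fin k) R')).symm
  have hff : (algebraMap (MvPolynomial (Fin k) R) (MvPolynomial (Fin k) R')).FaithfullyFlat :=
    RingHom.FaithfullyFlat.isStableUnderBaseChange R R' (MvPolynomial (Fin k) R)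
      (MvPolynomial (Fin k) R') hψ'
  haveI : Module.FaithfullyFlat (MvPolynomial (Fin k) R) (MvPolynomial (Fin k) R') :=
    RingHom.faithfullyFlat_algebraMap_iff.mp hff
  have iso : (DerivedCategory.singleFunctor (ModuleCat.{u} (MvPolynomial (Fin k) R')) 0).obj
      ((F (MvPolynomial (Fin k) R) (MvPolynomial (Fin k) R')).obj
        ((ModuleCat.restrictScalars φ).obj (ModuleCat.of C C))) ≅
      (Φ (bcChart φ c r')).obj (ModuleCat.of C' C') := by
    refine (DerivedCategory.singleFunctor (ModuleCat.{u} (MvPolynomial (Fin k) R')) 0).mapIso ?_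
    refine (F (MvPolynomial (Fin k) R) (MvPolynomial (Fin k) R')).mapIso
      (restrictEquiv (A := MvPolynomial (Fin k) R) (B := C)).toModuleIso ≪≫
      objIso (A := MvPolynomial (Fin k) R) (B := MvPolynomial (Fin k) R') C ≪≫ ?_ ≪≫
      (restrictEquiv (A := MvPolynomial (Fin k) R') (B := C')).symm.toModuleIso
    exact hP.out.equiv.toModuleIso
  exact pc_of_ff n _ (ring_of_iso _ iso.symm h)

end RingChart

section Scheme

variable {X Y Y' X' : Scheme.{u}} {f : X ⟶ Y} {h : Y' ⟶ Y} {p : X' ⟶ X} {f' : X' ⟶ Y'}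
  (H : IsPullback p f' f h)
  {U : X.Opens} {V : Y.Opens} {V' : Y'.Opens}
  (hU : IsAffineOpen U) (hV : IsAffineOpen V) (hV' : IsAffineOpen V')
  (hUV : U ≤ f ⁻¹ᵁ V) (hV'V : V' ≤ h ⁻¹ᵁ V)

include H hU hV hV' hUV hV'V in
theorem isAffineOpen_box : IsAffineOpen (p ⁻¹ᵁ U ⊓ f' ⁻¹ᵁ V') := by
  haveI : IsAffine V := hV
  haveI : IsAffine V' := hV'
  haveI : IsAffine U := hU
  have hP := Scheme.Hom.isPullback_resLE H (US := V) (UT := V')
    (UX := U) hV'V hUV (UY := p ⁻¹ᵁ U ⊓ f' ⁻¹ᵁ V') rfl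
  exact IsAffine.of_isIso hP.isoPullback.hom

include H hU hV hV' in
theorem isPushout_box :
    IsPushout (f.appLE V U hUV) (h.appLE V V' hV'V)
      (p.appLE U (p ⁻¹ᵁ U ⊓ f' ⁻¹ᵁ V') inf_le_left)
      (f'.appLE V' (p ⁻¹ᵁ U ⊓ f' ⁻¹ᵁ V') inf_le_right) := by
  have hiso := isIso_pushoutSection_of_isAffineOpen H (US := V)
    (UT := V') (UX := U) hV'V hUV (UY := p ⁻¹ᵁ U ⊓ f' ⁻¹ᵁ V') rfl hV hV' hU
  exact (isIso_pushoutSection_iff H _ _ rfl).mp hiso

include H hU hV hV' hUV in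
/-- Descent of the chart test for the structure sheaf along a faithfully flat base change. -/
theorem hasPCChart_of_box [LocallyOfFiniteType f]
    (hff : (h.appLE V V' hV'V).hom.FaithfullyFlat) (n : ℤ)
    (hPC : HasPCChart f' n (DCoh.inD X' (Coh.structureModule X')) (p ⁻¹ᵁ U ⊓ f' ⁻¹ᵁ V') V') :
    HasPCChart f n (DCoh.inD X (Coh.structureModule X)) U V := by
  obtain ⟨k, φ, hφC, hφs⟩ := Groth.Agent.Lib.H72RelFP.exists_presentation f hU hV hUV
  have hW := isAffineOpen_box H hU hV hV' hUV hV'V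
  have hpo := isPushout_box H hU hV hV' hUV hV'V
  have hpo' : IsPushout (CommRingCat.ofHom (φ.comp MvPolynomial.C))
      (CommRingCat.ofHom (h.appLE V V' hV'V).hom)
      (CommRingCat.ofHom (p.appLE U (p ⁻¹ᵁ U ⊓ f' ⁻¹ᵁ V') inf_le_left).hom)
      (CommRingCat.ofHom (f'.appLE V' (p ⁻¹ᵁ U ⊓ f' ⁻¹ᵁ V') inf_le_right).hom) := by
    rw [hφC]
    exact hpo
  have hsurj := bcChart_surjective _ φ _ _ hpo' hφs
  haveI := isClosedImmersion_chartImm U hU φ hφs
  haveI := isClosedImmersion_chartImm (p ⁻¹ᵁ U ⊓ f' ⁻¹ᵁ V') hW _ hsurj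
  have h1 := hPC.chartPC hW inf_le_right (bcChart φ _ _) ⟨hsurj, bcChart_comp_C φ _ _⟩
  rw [chartPC_unit_iff hW V' _ n] at h1
  refine ⟨hUV, k, φ, ⟨hφs, hφC⟩, ?_⟩
  rw [chartPC_unit_iff hU V φ n]
  exact pc_of_bcChart _ φ _ _ hpo' hff n h1

end Scheme

section FF

/-- A flat morphism from an affine scheme onto an affine open induces a faithfully flat ring map. -/
theorem faithfullyFlat_appLE_top {T Y : Scheme.{u}} [IsAffine T] (h : T ⟶ Y) [Flat h]
    {V : Y.Opens} (hV : IsAffineOpen V) (hle : (⊤ : T.Opens) ≤ h ⁻¹ᵁ V)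
    (hsurj : (V : Set Y) ⊆ Set.range h) :
    (h.appLE V ⊤ hle).hom.FaithfullyFlat := by
  rw [RingHom.FaithfullyFlat.iff_flat_and_comap_surjective]
  have hT := isAffineOpen_top T
  refine ⟨Scheme.Hom.flat_appLE h hV hT hle, fun 𝔭 => ?_⟩
  have key : Spec.map (h.appLE V ⊤ hle) ≫ hV.fromSpec = hT.fromSpec ≫ h :=
    IsAffineOpen.SpecMap_appLE_fromSpec h hV hT hle
  have hy : hV.fromSpec 𝔭 ∈ (V : Set Y) := by
    have : hV.fromSpec 𝔭 ∈ Set.range hV.fromSpec := ⟨𝔭, rfl⟩
    rwa [hV.range_fromSpec] at this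
  obtain ⟨t, ht⟩ := hsurj hy
  have ht' : t ∈ Set.range hT.fromSpec := by
    rw [hT.range_fromSpec]
    trivial
  obtain ⟨𝔮, rfl⟩ := ht'
  refine ⟨𝔮, ?_⟩
  have h1 : hV.fromSpec (Spec.map (h.appLE V ⊤ hle) 𝔮) = h (hT.fromSpec 𝔮) := by
    rw [← Scheme.Hom.comp_apply, ← Scheme.Hom.comp_apply, key]
  have h2 : hV.fromSpec (Spec.map (h.appLE V ⊤ hle) 𝔮) = hV.fromSpec 𝔭 := h1.trans ht
  exact hV.fromSpec.injective h2

end FF

section Global

variable {X Y Y' : Scheme.{u}} (f : X ⟶ Y) (h : Y' ⟶ Y)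

/-- **fpqc descent** of `n`-pseudo-coherence of a morphism. -/
theorem isNPseudoCoherent_of_pullback_snd [LocallyOfFiniteType f] (n : ℤ)
    [Flat h] [Surjective h] [QuasiCompact h]
    (hf' : DerSch.IsNPseudoCoherent (pullback.snd f h) n) : DerSch.IsNPseudoCoherent f n := by
  refine isPseudoCoherentRel_of_iso f (unitCxIso X).symm n ?_
  apply isPseudoCoherentRel_of_forall_exists f n _
  intro V x hx
  obtain ⟨_, ⟨U, hU, rfl⟩, hxU, hUV⟩ :=
    X.isBasis_affineOpens.exists_subset_of_mem_open hx (f ⁻¹ᵁ (V : Y.Opens)).2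
  have hUV' : U ≤ f ⁻¹ᵁ (V : Y.Opens) := hUV
  refine ⟨⟨U, hU⟩, hxU, ?_⟩
  have hZc : IsCompact ((h ⁻¹ᵁ (V : Y.Opens) : Y'.Opens) : Set Y') :=
    QuasiCompact.isCompact_preimage (f := h) _ (V : Y.Opens).2 V.2.isCompact
  haveI : CompactSpace ((h ⁻¹ᵁ (V : Y.Opens) : Y'.Opens) : Scheme.{u}) :=
    isCompact_iff_compactSpace.mp hZc
  obtain ⟨T, p, hps, hpf, hT⟩ :=
    ((h ⁻¹ᵁ (V : Y.Opens) : Y'.Opens) : Scheme.{u}).exists_hom_isAffine_of_isZariskiLocalAtSource
      @Flat
  haveI : Flat p := hpf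
  let q : T ⟶ Y' := p ≫ (h ⁻¹ᵁ (V : Y.Opens)).ι
  haveI : Flat q := inferInstanceAs (Flat (p ≫ (h ⁻¹ᵁ (V : Y.Opens)).ι))
  haveI : LocallyOfFiniteType (pullback.snd f h) := inferInstance
  have h2 := isNPseudoCoherent_pullback_snd (pullback.snd f h) q n hf'
  haveI : LocallyOfFiniteType (pullback.snd (pullback.snd f h) q) := inferInstance
  have h2' := isPseudoCoherentRel_of_iso _ (unitCxIso _) n h2
  have HP : IsPullback (pullback.fst (pullback.snd f h) q ≫ pullback.fst f h)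
      (pullback.snd (pullback.snd f h) q) f (q ≫ h) :=
    (IsPullback.of_hasPullback (pullback.snd f h) q).paste_horiz (IsPullback.of_hasPullback f h)
  have hle : (⊤ : T.Opens) ≤ (q ≫ h) ⁻¹ᵁ (V : Y.Opens) := by
    intro t _
    change h (q t) ∈ (V : Y.Opens)
    have : q t = ((h ⁻¹ᵁ (V : Y.Opens)).ι) (p t) := Scheme.Hom.comp_apply _ _ _
    rw [this]
    exact (p t).2
  have hsurj : ((V : Y.Opens) : Set Y) ⊆ Set.range (q ≫ h) := by
    intro y hy
    obtain ⟨y', rfl⟩ := h.surjective y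
    obtain ⟨t, ht⟩ := p.surjective ⟨y', hy⟩
    refine ⟨t, ?_⟩
    rw [Scheme.Hom.comp_apply]
    have : q t = ((h ⁻¹ᵁ (V : Y.Opens)).ι) (p t) := Scheme.Hom.comp_apply _ _ _
    rw [this, ht]
    rfl
  haveI : Flat (q ≫ h) := inferInstance
  have hff := faithfullyFlat_appLE_top (q ≫ h) V.2 hle hsurj
  have hTop := isAffineOpen_top T
  have hW := isAffineOpen_box HP hU V.2 hTop hUV' hle
  exact hasPCChart_of_box HP hU V.2 hTop hUV' (hV'V := hle) hff n
    (hasPCChart_of_isPseudoCoherentRel h2' hW hTop inf_le_right)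

end Global

end Groth.Agent.Lib.RelPCDescent17
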