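import Groth.Agent.Lib.RelPCCompIdx17

/-!
# Relative pseudo-coherence and flat base change (helper17)
-/

set_option autoImplicit false
universe u
open CategoryTheory CategoryTheory.Limits AlgebraicGeometry TopologicalSpace Opposite
attribute [local instance] HasDerivedCategory.standard

namespace Groth.Agent.Lib.RelPCFlatBC17

open Groth.Agent.Lib.PseudoCohTriangle Groth.Agent.Lib.PseudoCohSummand
  Groth.Agent.Lib.ClosedPushPC17 Groth.Agent.Lib.PCModTilde17 Groth.Agent.Lib.PCohRestrict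
  Groth.Agent.Lib.DRingPCoh21 Groth.Agent.Lib.PushIso17 Groth.Agent.Lib.RelPCModule17
  Groth.Agent.Lib.RelPCQCoh17 Groth.Agent.Lib.RelPCAll17 Groth.Agent.Lib.RelPCMorphism17
  Groth.Agent.Lib.RelPCRing17 Groth.Agent.Lib.RelPCChart17 Groth.Agent.Lib.RelPCOpen17
  Groth.Agent.Lib.RelPCLocal17 Groth.Agent.Lib.RelPCClosed17 Groth.Agent.Lib.RelPCComp17
  Groth.Agent.Lib.ClosedPushPCIdx17 Groth.Agent.Lib.RelPCCompIdx17

section Ring

attribute [local instance] MvPolynomial.algebraMvPolynomial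

variable {R R' C C' : Type u} [CommRing R] [CommRing R'] [CommRing C] [CommRing C'] {k : ℕ}
  (ψ : R →+* R') (φ : MvPolynomial (Fin k) R →+* C) (c : C →+* C') (r' : R' →+* C')

/-- The base-changed chart. -/
noncomputable def bcChart : MvPolynomial (Fin k) R' →+* C' :=
  MvPolynomial.eval₂Hom r' (fun i => c (φ (MvPolynomial.X i)))

@[simp] theorem bcChart_C (a : R') : bcChart φ c r' (MvPolynomial.C a) = r' a := by
  simp [bcChart]

@[simp] theorem bcChart_X (i : Fin k) :
    bcChart φ c r' (MvPolynomial.X i) = c (φ (MvPolynomial.X i)) := by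
  simp [bcChart]

theorem bcChart_comp_C : (bcChart φ c r').comp MvPolynomial.C = r' :=
  RingHom.ext fun a => bcChart_C φ c r' a

theorem bcChart_comp_map (hw : c.comp (φ.comp MvPolynomial.C) = r'.comp ψ) :
    (bcChart φ c r').comp (MvPolynomial.map ψ) = c.comp φ := by
  apply MvPolynomial.ringHom_ext
  · intro a
    simp only [RingHom.comp_apply, MvPolynomial.map_C, bcChart_C]
    exact (congr($hw a)).symm
  · intro i
    simp

open Groth.Agent.Lib.FlatBaseChangeD in
theorem pushout_bcChart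
    (hpo : IsPushout (CommRingCat.ofHom (φ.comp MvPolynomial.C)) (CommRingCat.ofHom ψ)
      (CommRingCat.ofHom c) (CommRingCat.ofHom r')) :
    IsPushout (CommRingCat.ofHom (MvPolynomial.map (σ := Fin k) ψ)) (CommRingCat.ofHom φ)
      (CommRingCat.ofHom (bcChart φ c r')) (CommRingCat.ofHom c) := by
  have hw : c.comp (φ.comp MvPolynomial.C) = r'.comp ψ := by
    have := hpo.w
    exact congr($(this).hom)
  letI : Algebra R R' := ψ.toAlgebra
  have hleft : IsPushout (CommRingCat.ofHom (MvPolynomial.C : R →+* MvPolynomial (Fin k) R))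
      (CommRingCat.ofHom ψ) (CommRingCat.ofHom (MvPolynomial.map (σ := Fin k) ψ))
      (CommRingCat.ofHom (MvPolynomial.C : R' →+* MvPolynomial (Fin k) R')) :=
    CommRingCat.isPushout_of_isPushout R (MvPolynomial (Fin k) R) R' (MvPolynomial (Fin k) R')
  have houter : IsPushout
      (CommRingCat.ofHom (MvPolynomial.C : R →+* MvPolynomial (Fin k) R) ≫ CommRingCat.ofHom φ)
      (CommRingCat.ofHom ψ) (CommRingCat.ofHom c)
      (CommRingCat.ofHom (MvPolynomial.C : R' →+* MvPolynomial (Fin k) R') ≫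
        CommRingCat.ofHom (bcChart φ c r')) := by
    have e1 : CommRingCat.ofHom (MvPolynomial.C : R →+* MvPolynomial (Fin k) R) ≫
        CommRingCat.ofHom φ = CommRingCat.ofHom (φ.comp MvPolynomial.C) := rfl
    have e2 : CommRingCat.ofHom (MvPolynomial.C : R' →+* MvPolynomial (Fin k) R') ≫
        CommRingCat.ofHom (bcChart φ c r') = CommRingCat.ofHom r' := by
      rw [← CommRingCat.ofHom_comp, bcChart_comp_C]
    rw [e1, e2]
    exact hpo
  refine (houter.of_left ?_ hleft).flip
  rw [← CommRingCat.ofHom_comp, ← CommRingCat.ofHom_comp, bcChart_comp_map ψ φ c r' hw]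

section Alg

variable (hpo : IsPushout (CommRingCat.ofHom (φ.comp MvPolynomial.C)) (CommRingCat.ofHom ψ)
      (CommRingCat.ofHom c) (CommRingCat.ofHom r'))

include hpo in
theorem bcChart_surjective (hφ : Function.Surjective φ) :
    Function.Surjective (bcChart φ c r') := by
  have hw : c.comp (φ.comp MvPolynomial.C) = r'.comp ψ := congr($(hpo.w).hom)
  have hcm := bcChart_comp_map ψ φ c r' hw
  letI : Algebra R R' := ψ.toAlgebra
  letI : Algebra (MvPolynomial (Fin k) R) C := φ.toAlgebra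
  letI : Algebra (MvPolynomial (Fin k) R') C' := (bcChart φ c r').toAlgebra
  letI : Algebra C C' := c.toAlgebra
  letI : Algebra (MvPolynomial (Fin k) R) C' :=
    ((bcChart φ c r').comp (MvPolynomial.map ψ)).toAlgebra
  haveI : IsScalarTower (MvPolynomial (Fin k) R) (MvPolynomial (Fin k) R') C' :=
    .of_algebraMap_eq fun _ => rfl
  haveI : IsScalarTower (MvPolynomial (Fin k) R) C C' :=
    .of_algebraMap_eq fun x => congr($hcm x)
  have hP : Algebra.IsPushout (MvPolynomial (Fin k) R) (MvPolynomial (Fin k) R') C C' :=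
    CommRingCat.isPushout_iff_isPushout.mp (pushout_bcChart ψ φ c r' hpo)
  intro x
  refine hP.out.inductionOn x (motive := fun x => ∃ y, bcChart φ c r' y = x) ⟨0, map_zero _⟩
    ?_ ?_ ?_
  · intro m
    obtain ⟨a, rfl⟩ := hφ m
    exact ⟨MvPolynomial.map ψ a, congr($hcm a)⟩
  · rintro b n ⟨y, rfl⟩
    exact ⟨b * y, by rw [map_mul]; rfl⟩
  · rintro n₁ n₂ ⟨y₁, rfl⟩ ⟨y₂, rfl⟩
    exact ⟨y₁ + y₂, map_add _ _ _⟩

open Groth.Agent.Lib.FlatBaseChangeD in
include hpo in
/-- Flat base change of pseudo-coherence of a chart. -/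
theorem pc_bcChart (hψ : ψ.Flat) (n : ℤ)
    (h : DRing.IsPseudoCoherent (MvPolynomial (Fin k) R) n ((Φ φ).obj (ModuleCat.of C C))) :
    DRing.IsPseudoCoherent (MvPolynomial (Fin k) R') n
      ((Φ (bcChart φ c r')).obj (ModuleCat.of C' C')) := by
  have hw : c.comp (φ.comp MvPolynomial.C) = r'.comp ψ := congr($(hpo.w).hom)
  have hcm := bcChart_comp_map ψ φ c r' hw
  letI : Algebra R R' := ψ.toAlgebra
  letI : Algebra (MvPolynomial (Fin k) R) C := φ.toAlgebra
  letI : Algebra (MvPolynomial (Fin k) R') C' := (bcChart φ c r').toAlgebra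
  letI : Algebra C C' := c.toAlgebra
  letI : Algebra (MvPolynomial (Fin k) R) C' :=
    ((bcChart φ c r').comp (MvPolynomial.map ψ)).toAlgebra
  haveI : IsScalarTower (MvPolynomial (Fin k) R) (MvPolynomial (Fin k) R') C' :=
    .of_algebraMap_eq fun _ => rfl
  haveI : IsScalarTower (MvPolynomial (Fin k) R) C C' :=
    .of_algebraMap_eq fun x => congr($hcm x)
  have hP : Algebra.IsPushout (MvPolynomial (Fin k) R) (MvPolynomial (Fin k) R') C C' :=
    CommRingCat.isPushout_iff_isPushout.mp (pushout_bcChart ψ φ c r' hpo)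
  haveI : Module.Flat R R' := hψ
  haveI : Module.Flat (MvPolynomial (Fin k) R) (MvPolynomial (Fin k) R') :=
    Module.Flat.isBaseChange (R := R) (S := MvPolynomial (Fin k) R) (M := R')
      (N := MvPolynomial (Fin k) R')
      (Algebra.IsPushout.out (R := R) (S := MvPolynomial (Fin k) R) (R' := R')
        (S' := MvPolynomial (Fin k) R'))
  have h2 := isPseudoCoherent_FD (B := MvPolynomial (Fin k) R') h
  refine ring_of_iso _ ?_ h2
  refine ((F (MvPolynomial (Fin k) R) (MvPolynomial (Fin k) R')).mapDerivedCategorySingleFunctor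
    0).app _ ≪≫
    (DerivedCategory.singleFunctor (ModuleCat.{u} (MvPolynomial (Fin k) R')) 0).mapIso ?_
  refine (F (MvPolynomial (Fin k) R) (MvPolynomial (Fin k) R')).mapIso
    (restrictEquiv (A := MvPolynomial (Fin k) R) (B := C)).toModuleIso ≪≫
    objIso (A := MvPolynomial (Fin k) R) (B := MvPolynomial (Fin k) R') C ≪≫ ?_ ≪≫
    (restrictEquiv (A := MvPolynomial (Fin k) R') (B := C')).symm.toModuleIso
  exact hP.out.equiv.toModuleIso

end Alg

end Ring

section Scheme

variable {X Y Y' : Scheme.{u}} (f : X ⟶ Y) (h : Y' ⟶ Y)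

/-- The open `pr₁⁻¹ U ∩ pr₂⁻¹ V'` of the fibre product. -/
noncomputable def boxOpen (U : X.Opens) (V' : Y'.Opens) : (pullback f h).Opens :=
  pullback.fst f h ⁻¹ᵁ U ⊓ pullback.snd f h ⁻¹ᵁ V'

variable {U : X.Opens} {V : Y.Opens} {V' : Y'.Opens}
  (hU : IsAffineOpen U) (hV : IsAffineOpen V) (hV' : IsAffineOpen V')
  (hUV : U ≤ f ⁻¹ᵁ V) (hV'V : V' ≤ h ⁻¹ᵁ V)

include hU hV hV' hUV hV'V in
theorem isAffineOpen_boxOpen : IsAffineOpen (boxOpen f h U V') := by
  haveI : IsAffine V := hV
  haveI : IsAffine V' := hV'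
  haveI : IsAffine U := hU
  have hP := Scheme.Hom.isPullback_resLE (IsPullback.of_hasPullback f h) (US := V) (UT := V')
    (UX := U) hV'V hUV (UY := boxOpen f h U V') rfl
  exact IsAffine.of_isIso hP.isoPullback.hom

include hU hV hV' in
theorem isPushout_boxOpen :
    IsPushout (f.appLE V U hUV) (h.appLE V V' hV'V)
      ((pullback.fst f h).appLE U (boxOpen f h U V') inf_le_left)
      ((pullback.snd f h).appLE V' (boxOpen f h U V') inf_le_right) := by
  have hiso := isIso_pushoutSection_of_isAffineOpen (IsPullback.of_hasPullback f h) (US := V)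
    (UT := V') (UX := U) hV'V hUV (UY := boxOpen f h U V') rfl hV hV' hU
  exact (isIso_pushoutSection_iff (IsPullback.of_hasPullback f h) _ _ rfl).mp hiso

include hU hV hV' hV'V in
/-- The chart test for the structure sheaf passes to the box open of a flat base change. -/
theorem hasPCChart_boxOpen [Flat h] (n : ℤ)
    (hPC : HasPCChart f n (DCoh.inD X (Coh.structureModule X)) U V) :
    HasPCChart (pullback.snd f h) n
      (DCoh.inD (pullback f h) (Coh.structureModule (pullback f h))) (boxOpen f h U V') V' := by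
  obtain ⟨hUV, k, φ, hc, hpc⟩ := hPC
  have hW := isAffineOpen_boxOpen f h hU hV hV' hUV hV'V
  have hpo := isPushout_boxOpen f h hU hV hV' hUV hV'V
  have hpo' : IsPushout (CommRingCat.ofHom (φ.comp MvPolynomial.C))
      (CommRingCat.ofHom (h.appLE V V' hV'V).hom)
      (CommRingCat.ofHom ((pullback.fst f h).appLE U (boxOpen f h U V') inf_le_left).hom)
      (CommRingCat.ofHom ((pullback.snd f h).appLE V' (boxOpen f h U V') inf_le_right).hom) := by
    rw [hc.2]
    exact hpo
  have hsurj := bcChart_surjective _ φ _ _ hpo' hc.1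
  haveI := isClosedImmersion_chartImm U hU φ hc.1
  haveI := isClosedImmersion_chartImm (boxOpen f h U V') hW _ hsurj
  refine ⟨inf_le_right, k, bcChart φ _ _, ⟨hsurj, bcChart_comp_C φ _ _⟩, ?_⟩
  rw [chartPC_unit_iff hW V' _ n]
  rw [chartPC_unit_iff hU V φ n] at hpc
  exact pc_bcChart _ φ _ _ hpo' (Scheme.Hom.flat_appLE h hV hV' hV'V) n hpc

end Scheme

section Global

variable {X Y Y' : Scheme.{u}} (f : X ⟶ Y) (h : Y' ⟶ Y)

/-- **Flat base change** of an `n`-pseudo-coherent morphism is `n`-pseudo-coherent. -/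
theorem isNPseudoCoherent_pullback_snd [LocallyOfFiniteType f] [Flat h] (n : ℤ)
    (hf : DerSch.IsNPseudoCoherent f n) : DerSch.IsNPseudoCoherent (pullback.snd f h) n := by
  haveI : LocallyOfFiniteType (pullback.snd f h) := inferInstance
  have hf' := isPseudoCoherentRel_of_iso f (unitCxIso X) n hf
  refine isPseudoCoherentRel_of_iso _ (unitCxIso _).symm n ?_
  apply isPseudoCoherentRel_of_cover (pullback.snd f h) n _
    {V' | ∃ V : Y.affineOpens, (V' : Y'.Opens) ≤ h ⁻¹ᵁ (V : Y.Opens)}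
  · rw [eq_top_iff]
    intro y _
    obtain ⟨_, ⟨V, hV, rfl⟩, hyV, -⟩ :=
      Y.isBasis_affineOpens.exists_subset_of_mem_open (Set.mem_univ (h y)) isOpen_univ
    obtain ⟨_, ⟨V', hV', rfl⟩, hyV', hV'V⟩ :=
      Y'.isBasis_affineOpens.exists_subset_of_mem_open
        (show y ∈ (h ⁻¹ᵁ V : Set Y') from hyV) (h ⁻¹ᵁ V).2
    simp only [Opens.mem_iSup]
    exact ⟨⟨V', hV'⟩, ⟨⟨V, hV⟩, hV'V⟩, hyV'⟩
  · rintro V' ⟨V, hV'V⟩ x' hx'
    have e : f (pullback.fst f h x') = h (pullback.snd f h x') := by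
      rw [← Scheme.Hom.comp_apply, ← Scheme.Hom.comp_apply, pullback.condition]
    have hx : pullback.fst f h x' ∈ (f ⁻¹ᵁ (V : Y.Opens) : Set X) := by
      change f (pullback.fst f h x') ∈ (V : Y.Opens)
      rw [e]
      exact hV'V hx'
    obtain ⟨_, ⟨U, hU, rfl⟩, hxU, hUV⟩ :=
      X.isBasis_affineOpens.exists_subset_of_mem_open hx (f ⁻¹ᵁ (V : Y.Opens)).2
    have hUV' : U ≤ f ⁻¹ᵁ (V : Y.Opens) := hUV
    exact ⟨⟨boxOpen f h U V', isAffineOpen_boxOpen f h hU V.2 V'.2 hUV' hV'V⟩, ⟨hxU, hx'⟩,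
      hasPCChart_boxOpen f h hU V.2 V'.2 hV'V n
        (hasPCChart_of_isPseudoCoherentRel hf' hU V.2 hUV')⟩

end Global

end Groth.Agent.Lib.RelPCFlatBC17
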