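import Groth.Agent.Lib.RelPCTri17
import Groth.Agent.Lib.PseudoCohHomology17

/-!
# Relative pseudo-coherence from the cohomology sheaves / from the terms (helper17)
-/

set_option autoImplicit false
universe u
open CategoryTheory CategoryTheory.Limits AlgebraicGeometry TopologicalSpace Opposite
  Pretriangulated
attribute [local instance] HasDerivedCategory.standard

namespace Groth.Agent.Lib.RelPCHomology17

open Groth.Agent.Lib.RelPCModule17 Groth.Agent.Lib.RelPCChart17 Groth.Agent.Lib.RelPCMoves17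
  Groth.Agent.Lib.RelPCAll17 Groth.Agent.Lib.ClosedPushPC17 Groth.Agent.Lib.PseudoCohTriangle
  Groth.Agent.Lib.RelPCQCoh17 Groth.Agent.Lib.RelPCTri17 Groth.Agent.Lib.PseudoCohHomology17
  Groth.Agent.Lib.FlatBaseChangeD

variable {X Y : Scheme.{u}}

section Chart

variable (U : X.Opens) (V : Y.Opens) {k : ℕ} (φ : MvPolynomial (Fin k) Γ(Y, V) →+* Γ(X, U))
  [IsClosedImmersion (DerSch.chartImm U φ)]

/-- The cohomology sheaves of the object tested on a chart. -/
noncomputable def HDchartDIso (E : DCoh.D X) (i : ℤ) :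
    DCoh.HD ((chartD U V φ).obj E) i ≅
      (Scheme.Modules.pushforward (DerSch.chartImm U φ)).obj ((DCoh.HD E i).restrict U.ι) :=
  HDpushDIso (DerSch.chartImm U φ) ((DCoh.restrictD U.ι).obj E) i ≪≫
    (Scheme.Modules.pushforward (DerSch.chartImm U φ)).mapIso
      ((mapDerivedCategoryHomologyIso (Scheme.Modules.restrictFunctor U.ι) i).app E)

theorem isLE_chartD (E : DCoh.D X) (b : ℤ) [E.IsLE b] : ((chartD U V φ).obj E).IsLE b := by
  rw [DerivedCategory.isLE_iff]
  intro i hi
  have hz : IsZero (DCoh.HD E i) := DerivedCategory.isZero_of_isLE E b i hi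
  exact ((Scheme.Modules.pushforward (DerSch.chartImm U φ)).map_isZero
    ((Scheme.Modules.restrictFunctor U.ι).map_isZero hz)).of_iso (HDchartDIso U V φ E i)

theorem chartPC_of_homology (E : DCoh.D X) (b m : ℤ) [E.IsLE b]
    (h : ∀ i : ℤ, m ≤ i → DerSch.ChartPC (m - i) (DCoh.inD X (DCoh.HD E i)) U V φ) :
    DerSch.ChartPC m E U V φ := by
  rw [chartPC_iff_chartD]
  haveI := isLE_chartD U V φ E b
  apply isPseudoCoherentD_of_homology _ b m
  intro i hi
  have := (chartPC_inD_iff (m - i) (DCoh.HD E i) U V φ).1 (h i hi)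
  exact isPseudoCoherentD_inD_of_iso (HDchartDIso U V φ E i).symm this

theorem chartPC_of_termwise (F : CochainComplex X.Modules ℤ) (b m : ℤ)
    (hb : ∀ i : ℤ, b < i → IsZero (F.X i))
    (h : ∀ i : ℤ, m ≤ i → DerSch.ChartPC (m - i) (DCoh.inD X (F.X i)) U V φ) :
    DerSch.ChartPC m (DCoh.toD X F) U V φ := by
  rw [chartPC_iff]
  refine isPseudoCoherentD_of_iso
    (chartObjIsoD (DCoh.toD X F) F (Iso.refl _) U (DerSch.chartImm U φ)) ?_
  apply isPseudoCoherentD_of_termwise _ b m
  · intro i hi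
    exact (Scheme.Modules.pushforward (DerSch.chartImm U φ)).map_isZero
      ((Scheme.Modules.restrictFunctor U.ι).map_isZero (hb i hi))
  · intro i hi
    exact (chartPC_inD_iff (m - i) (F.X i) U V φ).1 (h i hi)

end Chart

variable (f : X ⟶ Y) [LocallyOfFiniteType f]

/-- Reduce a relative-pseudo-coherence implication with a family of hypotheses to a common chart
of each affine pair. -/
theorem isPseudoCoherentRel_of_family {ι : Type*} (a : ι → ℤ) (A : ι → DCoh.D X)
    (hA : ∀ j, DerSch.IsPseudoCoherentRel f (a j) (A j)) (c : ℤ) (C : DCoh.D X)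
    (H : ∀ (U : X.Opens) (V : Y.Opens) {k : ℕ} (φ : MvPolynomial (Fin k) Γ(Y, V) →+* Γ(X, U))
      [IsClosedImmersion (DerSch.chartImm U φ)], (∀ j, DerSch.ChartPC (a j) (A j) U V φ) →
        DerSch.ChartPC c C U V φ) :
    DerSch.IsPseudoCoherentRel f c C := by
  apply isPseudoCoherentRel_of_forall f c C
  intro U V h
  obtain ⟨k, φ, hφC, hφs⟩ := Groth.Agent.Lib.H72RelFP.exists_presentation f U.2 V.2 h
  have hφ : DerSch.IsChart f (U : X.Opens) (V : Y.Opens) h φ := ⟨hφs, hφC⟩
  haveI := isClosedImmersion_chartImm (U : X.Opens) U.2 φ hφ.1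
  exact ⟨k, φ, hφ, H _ _ φ fun j =>
    (hasPCChart_of_isPseudoCoherentRel (hA j) U.2 V.2 h).chartPC U.2 h φ hφ⟩

theorem isPseudoCoherentRel_of_homology (m : ℤ) (E : DCoh.D X) (b : ℤ) [E.IsLE b]
    (h : ∀ i : ℤ, DerSch.IsPseudoCoherentRel f (m - i) (DCoh.inD X (DCoh.HD E i))) :
    DerSch.IsPseudoCoherentRel f m E :=
  isPseudoCoherentRel_of_family f (fun i : ℤ => m - i) (fun i => DCoh.inD X (DCoh.HD E i)) h m E
    fun U V _ φ _ hj => chartPC_of_homology U V φ E b m fun i _ => hj i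

theorem isPseudoCoherentRel_of_termwise (m : ℤ) (F : CochainComplex X.Modules ℤ) (b : ℤ)
    (hb : ∀ i : ℤ, b < i → IsZero (F.X i))
    (h : ∀ i : ℤ, DerSch.IsPseudoCoherentRel f (m - i) (DCoh.inD X (F.X i))) :
    DerSch.IsPseudoCoherentRel f m (DCoh.toD X F) :=
  isPseudoCoherentRel_of_family f (fun i : ℤ => m - i) (fun i => DCoh.inD X (F.X i)) h m _
    fun U V _ φ _ hj => chartPC_of_termwise U V φ F b m hb fun i _ => hj i

end Groth.Agent.Lib.RelPCHomology17
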