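import Groth.Agent.Lib.RelPCBounded17
import Groth.Agent.Lib.PerfectClosedImm17
import Groth.Agent.Lib.H72RelFPScheme

/-!
# Relative pseudo-coherence (chart form) of a single module (helper17)
-/

set_option autoImplicit false
universe u
open CategoryTheory CategoryTheory.Limits AlgebraicGeometry TopologicalSpace Opposite
attribute [local instance] HasDerivedCategory.standard

namespace Groth.Agent.Lib.RelPCModule17

open Groth.Agent.Lib.ClosedPushExact17 Groth.Agent.Lib.ClosedPushQCoh17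
  Groth.Agent.Lib.PerfectCoh Groth.Agent.Lib.CohLocal Groth.Agent.Lib.RelPCQCoh17
  Groth.Agent.Lib.PseudoCohD Groth.Agent.Lib.PseudoCohTriangle Groth.Agent.Lib.ClosedPushPC17

variable {X Y : Scheme.{u}}

section ChartObj

variable {A : Scheme.{u}}

/-- The object tested by `ChartPC`, for a complex representing a module in degree `0`. -/
noncomputable def chartObjIso (M : X.Modules) (G : CochainComplex X.Modules ℤ)
    (e : DCoh.toD X G ≅ DCoh.inD X M) (U : X.Opens) (c : (U : Scheme.{u}) ⟶ A)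
    [IsClosedImmersion c] :
    DCoh.toD A ((DerSch.pushCx c).obj ((DCoh.restrictCx U).obj G)) ≅
      DCoh.inD A ((Scheme.Modules.pushforward c).obj (M.restrict U.ι)) :=
  ((Scheme.Modules.pushforward c).mapDerivedCategoryFactors.app ((DCoh.restrictCx U).obj G)).symm ≪≫
    (pushD c).mapIso
      (((Scheme.Modules.restrictFunctor U.ι).mapDerivedCategoryFactors.app G).symm ≪≫
        (DCoh.restrictD U.ι).mapIso e ≪≫ restrictInDIso M U) ≪≫
    ((Scheme.Modules.pushforward c).mapDerivedCategorySingleFunctor 0).app (M.restrict U.ι)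

end ChartObj

/-- `ChartPC` for a module in degree `0`, in terms of the direct image of the module. -/
theorem chartPC_inD_iff (m : ℤ) (M : X.Modules) (U : X.Opens) (V : Y.Opens) {n : ℕ}
    (φ : MvPolynomial (Fin n) Γ(Y, V) →+* Γ(X, U)) [IsClosedImmersion (DerSch.chartImm U φ)] :
    DerSch.ChartPC m (DCoh.inD X M) U V φ ↔
      DCoh.IsPseudoCoherentD m (DCoh.inD _
        ((Scheme.Modules.pushforward (DerSch.chartImm U φ)).obj (M.restrict U.ι))) := by
  constructor
  · intro h
    let G : CochainComplex X.Modules ℤ := DerivedCategory.Q.objPreimage (DCoh.inD X M)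
    let e : DCoh.toD X G ≅ DCoh.inD X M := DerivedCategory.Q.objObjPreimageIso _
    exact isPseudoCoherentD_of_iso (chartObjIso M G e U (DerSch.chartImm U φ)) (h G ⟨e⟩)
  · intro h G ⟨e⟩
    exact isPseudoCoherentD_of_iso (chartObjIso M G e U (DerSch.chartImm U φ)).symm h

section PushFT

variable {Z A : Scheme.{u}} (c : Z ⟶ A) [IsClosedImmersion c]

/-- For a closed immersion `c`, the canonical map `O_A ⟶ c_* O_Z` is an epimorphism. -/
theorem epi_unitToPush : Epi (ClSub.unitToPush c) := by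
  apply Groth.Agent.Lib.IdealMod.epi_of_locally_surjective
  intro U s x hx
  obtain ⟨V, hV, hxV, hVU'⟩ := TopologicalSpace.Opens.isBasis_iff_nbhd.1 A.isBasis_affineOpens hx
  refine ⟨V, hVU', hxV, ?_⟩
  obtain ⟨t, ht⟩ := c.app_surjective V hV
    ((((Scheme.Modules.pushforward c).obj (Coh.structureModule Z)).val.map (homOfLE hVU').op) s)
  exact ⟨t, ht⟩

/-- The direct image of a finite free module along a closed immersion is a quotient of a finite
free module. -/
theorem exists_epi_freeMod_push (n : ℕ) :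
    ∃ p : FlatMod.freeMod A n ⟶ (Scheme.Modules.pushforward c).obj (FlatMod.freeMod Z n),
      Epi p := by
  haveI := preservesFiniteColimits_pushforward c c.isClosedEmbedding
  haveI : ∀ _ : Fin n, Epi (ClSub.unitToPush c) := fun _ => epi_unitToPush c
  let e := PreservesCoproduct.iso (Scheme.Modules.pushforward c)
    (fun _ : Fin n => Coh.structureModule Z)
  exact ⟨Limits.Sigma.map (fun _ : Fin n => ClSub.unitToPush c) ≫ e.inv, epi_comp _ _⟩

/-- Direct image along a closed immersion preserves modules of finite type. -/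
theorem isFT_pushforward {N : Z.Modules} (hN : CohB1.IsFT N) :
    CohB1.IsFT ((Scheme.Modules.pushforward c).obj N) := by
  apply Groth.Agent.Lib.LocalFlex.isFT_of_forall_exists_epi
  intro x
  by_cases hx : x ∈ Set.range c
  · obtain ⟨z, rfl⟩ := hx
    obtain ⟨W, n, q, hzW, hq⟩ := Groth.Agent.Lib.PseudoCohNoeth.exists_epi_freeMod_of_isFT N hN z
    obtain ⟨V', hV'open, hV'⟩ := c.isEmbedding.isInducing.isOpen_iff.1 W.2
    have hW : W = c ⁻¹ᵁ ⟨V', hV'open⟩ := Opens.ext hV'.symm
    subst hW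
    let V : A.Opens := ⟨V', hV'open⟩
    obtain ⟨p, hp⟩ := exists_epi_freeMod_push (c ∣_ V) n
    haveI : Epi ((Scheme.Modules.pushforward (c ∣_ V)).map q) :=
      epi_pushforward_map (c ∣_ V) (c ∣_ V).isClosedEmbedding q
    refine ⟨V, V.ι, inferInstance, n,
      p ≫ (Scheme.Modules.pushforward (c ∣_ V)).map q ≫
        ((Groth.Agent.Lib.PushRestrict.pushRestrictIso c V).app N).inv, ⟨⟨c z, hzW⟩, rfl⟩, ?_⟩
    exact epi_comp _ _
  · let V : A.Opens := ⟨(Set.range c)ᶜ, c.isClosedEmbedding.isClosed_range.isOpen_compl⟩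
    have hz := isZero_restrict_push_compl c N V (fun y hy => hy)
    exact ⟨V, V.ι, inferInstance, 0, 0, ⟨⟨x, hx⟩, rfl⟩,
      Groth.Agent.Lib.PseudoCohSingle.epi_of_isZero_tgt hz _⟩

end PushFT

section LocalFT

/-- Finite type can be checked on an open cover. -/
theorem isFT_of_forall_restrict_opens (M : X.Modules)
    (h : ∀ x : X, ∃ U : X.Opens, x ∈ U ∧ CohB1.IsFT (M.restrict U.ι)) : CohB1.IsFT M := by
  apply Groth.Agent.Lib.LocalFlex.isFT_of_forall_exists_epi
  intro x
  obtain ⟨U, hxU, hU⟩ := h x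
  obtain ⟨W, n, q, hxW, hq⟩ :=
    Groth.Agent.Lib.PseudoCohNoeth.exists_epi_freeMod_of_isFT _ hU ⟨x, hxU⟩
  exact ⟨W, W.ι ≫ U.ι, inferInstance, n,
    q ≫ ((Groth.Agent.Lib.PerfectLocal.restrictFactorIso W.ι U.ι (W.ι ≫ U.ι) rfl).app M).hom,
    ⟨⟨⟨x, hxU⟩, hxW⟩, rfl⟩, epi_comp _ _⟩

end LocalFT

section Sections

open AlgebraicGeometry.Scheme AlgebraicGeometry.Scheme.Modules
open Groth.Agent.Lib.H90OXModAffine

variable (M : X.Modules) (U : X.Opens) {P : CommRingCat.{u}} (φ : P ⟶ Γ(X, U))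

/-- The morphism `U ⟶ Spec P` attached to a ring map `P ⟶ Γ(X, U)`. -/
noncomputable abbrev chartMap : (U : Scheme.{u}) ⟶ Spec P := U.toSpecΓ ≫ Spec.map φ

theorem chartMap_appTop :
    (Scheme.ΓSpecIso P).inv ≫ (chartMap U φ).appTop = φ ≫ U.topIso.inv := by
  rw [Scheme.Hom.comp_appTop, ← Scheme.ΓSpecIso_inv_naturality_assoc,
    Scheme.Opens.toSpecΓ_appTop, Iso.inv_hom_id_assoc]

theorem image_preimage_top : U.ι ''ᵁ (chartMap U φ ⁻¹ᵁ ⊤) = U := by
  show U.ι ''ᵁ ⊤ = U
  exact U.ι_image_top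

/-- The module whose finite presentation is tested by a chart. -/
noncomputable abbrev pushMod : (Spec P).Modules :=
  (Scheme.Modules.pushforward (chartMap U φ)).obj (M.restrict U.ι)

theorem smul_ΓSpec_pushMod (p : P) (x : ΓSpec (pushMod M U φ)) :
    p • x = (show Γ(M, U.ι ''ᵁ (chartMap U φ ⁻¹ᵁ ⊤)) from
      (X.presheaf.map (eqToHom (image_preimage_top U φ)).op (φ p)) •
        (show Γ(M, U.ι ''ᵁ (chartMap U φ ⁻¹ᵁ ⊤)) from x)) := by
  have h1 : (chartMap U φ).appTop ((Scheme.ΓSpecIso P).inv p) = U.topIso.inv (φ p) :=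
    congr($(chartMap_appTop U φ) p)
  change ((Spec P).presheaf.map (⊤ : (Spec P).Opens).leTop.op
    ((Scheme.ΓSpecIso P).inv p)) • (show Γ(pushMod M U φ, ⊤) from x) = _
  have : (Spec P).presheaf.map (⊤ : (Spec P).Opens).leTop.op = 𝟙 _ :=
    (Spec P).presheaf.map_id _
  rw [this]
  change ((U.ι.appIso (chartMap U φ ⁻¹ᵁ ⊤)).inv
      ((chartMap U φ).app ⊤ ((Scheme.ΓSpecIso P).inv p))) •
    (show Γ(M, U.ι ''ᵁ (chartMap U φ ⁻¹ᵁ ⊤)) from x) = _
  have h2 : (chartMap U φ).app ⊤ ((Scheme.ΓSpecIso P).inv p) = U.topIso.inv (φ p) := h1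
  have h3 : (U.ι.appIso (chartMap U φ ⁻¹ᵁ ⊤)).inv (U.topIso.inv (φ p)) =
      X.presheaf.map (eqToHom (image_preimage_top U φ)).op (φ p) := by
    rw [Scheme.Opens.ι_appIso]
    rfl
  rw [h2, h3]

/-- Sections of `M` over `U`, with scalars restricted along `φ`, are the global sections of the direct
image of `M|_U` along the chart morphism. -/
noncomputable def pushSectionsEquiv :
    letI : Module P Γ(M, U) := Module.compHom Γ(M, U) φ.hom
    Γ(M, U) ≃ₗ[P] ΓSpec (pushMod M U φ) :=
  letI : Module P Γ(M, U) := Module.compHom Γ(M, U) φ.hom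
  { toFun := fun m => M.presheaf.map (eqToHom (image_preimage_top U φ)).op m
    map_add' := map_add _
    map_smul' := fun p m => by
      refine Eq.trans ?_ (smul_ΓSpec_pushMod M U φ p _).symm
      exact M.map_smul _ (φ p) m
    invFun := fun x => M.presheaf.map (eqToHom (image_preimage_top U φ).symm).op x
    left_inv := fun m => by
      change (M.presheaf.map _ ≫ M.presheaf.map _) m = m
      rw [← Functor.map_comp]
      change M.presheaf.map (𝟙 _) m = m
      rw [M.presheaf.map_id]; rfl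
    right_inv := fun x => by
      change (M.presheaf.map _ ≫ M.presheaf.map _) x = x
      rw [← Functor.map_comp]
      change M.presheaf.map (𝟙 _) x = x
      rw [M.presheaf.map_id]; rfl }

theorem finitePresentation_ΓSpec_pushMod_iff :
    Module.FinitePresentation P (ΓSpec (pushMod M U φ)) ↔
      (letI : Module P Γ(M, U) := Module.compHom Γ(M, U) φ.hom
       Module.FinitePresentation P Γ(M, U)) := by
  letI : Module P Γ(M, U) := Module.compHom Γ(M, U) φ.hom
  exact ⟨fun h => Module.FinitePresentation.of_equiv (pushSectionsEquiv M U φ).symm,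
    fun h => Module.FinitePresentation.of_equiv (pushSectionsEquiv M U φ)⟩

end Sections

section FPIso

open Groth.Agent.Lib.H90OXModFP Groth.Agent.Lib.LocalFlex

set_option backward.isDefEq.respectTransparency false in
/-- Finite presentation is invariant under isomorphisms. -/
theorem isFP_of_iso {M N : X.Modules} (e : M ≅ N) (h : CohB1.IsFP M) : CohB1.IsFP N := by
  haveI : SheafOfModules.IsFinitePresentation (R := X.ringCatSheaf) M := h
  obtain ⟨ι, U, P, hP, hcov, -⟩ := exists_isOpenCover_finite_presentation M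
  apply isFP_of_forall_exists_presentation
  intro x
  obtain ⟨i, hxi⟩ := hcov.exists_mem x
  haveI := hP i
  exact ⟨U i, (U i).ι, inferInstance, ⟨⟨x, hxi⟩, rfl⟩,
    (P i).ofIsIso ((Scheme.Modules.restrictFunctor (U i).ι).map e.hom), inferInstance⟩

/-- The restriction of a module of finite type to an open subscheme is of finite type. -/
theorem isFT_restrict {M : X.Modules} (h : CohB1.IsFT M) (V : X.Opens) :
    CohB1.IsFT (M.restrict V.ι) := by
  haveI : M.IsFiniteType := h
  exact Groth.Agent.Lib.PseudoCohSingle.isFT_of_iso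
    ((Scheme.Modules.restrictFunctorIsoPullback V.ι).app M).symm
    (Groth.Agent.Lib.SupportTensor.isFiniteType_pullback V.ι M)

end FPIso

section ChartLevel

open Groth.Agent.Lib.H90OXModAffine Groth.Agent.Lib.H90OXModTilde Groth.Agent.Lib.H90OXModFP
  Groth.Agent.Lib.PseudoCohSingle

variable (M : X.Modules) (U : X.Opens) (V : Y.Opens) {n : ℕ}
  (φ : MvPolynomial (Fin n) Γ(Y, V) →+* Γ(X, U))

theorem chartImm_eq_chartMap :
    DerSch.chartImm U φ = chartMap U (CommRingCat.ofHom φ) := rfl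

/-- Every module is `m`-pseudo-coherent on a chart for `m > 0`. -/
theorem chartPC_inD_of_pos [IsClosedImmersion (DerSch.chartImm U φ)] (m : ℤ) (hm : 0 < m) :
    DerSch.ChartPC m (DCoh.inD X M) U V φ := by
  rw [chartPC_inD_iff]
  apply Groth.Agent.Lib.PseudoCohSummand.isPseudoCoherentD_of_isZero_homology
  intro i hi
  exact isZero_HD_inD _ i (by omega)

/-- `0`-pseudo-coherence on a chart is finite type. -/
theorem chartPC_inD_zero_iff [IsClosedImmersion (DerSch.chartImm U φ)] :
    DerSch.ChartPC 0 (DCoh.inD X M) U V φ ↔ CohB1.IsFT (M.restrict U.ι) := by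
  rw [chartPC_inD_iff]
  constructor
  · intro h
    have h1 := isFT_HD_of_isPseudoCoherentD 0 _ h (fun i hi => isZero_HD_inD _ i (by omega))
    exact isFT_of_isFT_pushforward (DerSch.chartImm U φ) (isFT_of_iso (HDinDIso _) h1)
  · intro h
    exact isPseudoCoherentD_zero_of_isFT _ (isFT_pushforward _ h)

set_option backward.isDefEq.respectTransparency false in
/-- `(-1)`-pseudo-coherence on a chart is quasi-coherence plus finite presentation over the
polynomial ring. -/
theorem chartPC_inD_neg_one_iff [IsClosedImmersion (DerSch.chartImm U φ)] :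
    DerSch.ChartPC (-1) (DCoh.inD X M) U V φ ↔
      ((M.restrict U.ι).IsQuasicoherent ∧
        (letI : Module (MvPolynomial (Fin n) Γ(Y, V)) Γ(M, U) := Module.compHom Γ(M, U) φ
         Module.FinitePresentation (MvPolynomial (Fin n) Γ(Y, V)) Γ(M, U))) := by
  rw [chartPC_inD_iff]
  haveI : IsClosedImmersion (chartMap U (CommRingCat.ofHom φ)) :=
    inferInstanceAs (IsClosedImmersion (DerSch.chartImm U φ))
  constructor
  · intro h
    have h1 := isFP_HD_of_isPseudoCoherentD (-1) _ h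
      (fun i hi => isZero_HD_inD _ i (by omega))
    have h0 : (-1 : ℤ) + 1 = 0 := by norm_num
    rw [h0] at h1
    have h2 : CohB1.IsFP (pushMod M U (CommRingCat.ofHom φ)) := isFP_of_iso (HDinDIso _) h1
    haveI : SheafOfModules.IsFinitePresentation (R := (Spec _).ringCatSheaf)
      (pushMod M U (CommRingCat.ofHom φ)) := h2
    haveI : (pushMod M U (CommRingCat.ofHom φ)).IsQuasicoherent := inferInstance
    refine ⟨isQuasicoherent_of_pushforward (chartMap U (CommRingCat.ofHom φ)) _, ?_⟩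
    have h3 := finitePresentation_sections (pushMod M U (CommRingCat.ofHom φ))
      (isAffineOpen_top _)
    exact (finitePresentation_ΓSpec_pushMod_iff M U (CommRingCat.ofHom φ)).1
      (finitePresentation_ΓSpec_of_finitePresentation _ h3)
  · rintro ⟨hq, hfp⟩
    haveI := hq
    haveI : (pushMod M U (CommRingCat.ofHom φ)).IsQuasicoherent :=
      Groth.Agent.Lib.H90OXModPush.isQuasicoherent_pushforward _ _
    have h1 := (finitePresentation_ΓSpec_pushMod_iff M U (CommRingCat.ofHom φ)).2 hfp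
    obtain ⟨Pr, hPr⟩ := exists_presentation_of_finitePresentation _ h1
    exact isPseudoCoherentD_neg_one_of_isFP _ (isFinitePresentation_of_presentation _ Pr)

end ChartLevel

section Global

open Groth.Agent.Lib.H72RelFP Groth.Agent.Lib.RelFP

variable (f : X ⟶ Y)

/-- Every point of the source lies in a member of the covers of a relative pseudo-coherence datum. -/
theorem exists_chart_of_isPseudoCoherentRel (m : ℤ) (E : DCoh.D X)
    (hE : DerSch.IsPseudoCoherentRel f m E) (x : X) :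
    ∃ (U : X.affineOpens) (V : Y.affineOpens) (_ : (U : X.Opens) ≤ f ⁻¹ᵁ (V : Y.Opens)) (n : ℕ)
      (φ : MvPolynomial (Fin n) Γ(Y, (V : Y.Opens)) →+* Γ(X, (U : X.Opens))),
      x ∈ (U : X.Opens) ∧ Function.Surjective φ ∧
        φ.comp MvPolynomial.C = (f.appLE (V : Y.Opens) (U : X.Opens) ‹_›).hom ∧
        DerSch.ChartPC m E (U : X.Opens) (V : Y.Opens) φ := by
  obtain ⟨_, 𝒱, h𝒱, h⟩ := hE
  have hx : f x ∈ (⊤ : Y.Opens) := trivial
  rw [← h𝒱] at hx
  obtain ⟨V, hV⟩ := Opens.mem_iSup.mp hx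
  obtain ⟨hV𝒱, hxV⟩ := Opens.mem_iSup.mp hV
  obtain ⟨𝒰, h𝒰, h'⟩ := h V hV𝒱
  have hx' : x ∈ f ⁻¹ᵁ (V : Y.Opens) := hxV
  rw [← h𝒰] at hx'
  obtain ⟨U, hU⟩ := Opens.mem_iSup.mp hx'
  obtain ⟨hU𝒰, hxU⟩ := Opens.mem_iSup.mp hU
  have hle : (U : X.Opens) ≤ f ⁻¹ᵁ (V : Y.Opens) := by
    rw [← h𝒰]
    exact le_iSup₂ (f := fun (U : X.affineOpens) (_ : U ∈ 𝒰) => (U : X.Opens)) U hU𝒰
  obtain ⟨n, φ, hchart, hPC⟩ := h' U hU𝒰 hle
  exact ⟨U, V, hle, n, φ, hxU, hchart.1, hchart.2, hPC⟩

/-- Relative pseudo-coherence from charts on all pairs of affine opens. -/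
theorem isPseudoCoherentRel_of_forall [LocallyOfFiniteType f] (m : ℤ) (E : DCoh.D X)
    (H : ∀ (U : X.affineOpens) (V : Y.affineOpens) (h : (U : X.Opens) ≤ f ⁻¹ᵁ (V : Y.Opens)),
      ∃ (n : ℕ) (φ : MvPolynomial (Fin n) Γ(Y, (V : Y.Opens)) →+* Γ(X, (U : X.Opens))),
        DerSch.IsChart f (U : X.Opens) (V : Y.Opens) h φ ∧
          DerSch.ChartPC m E (U : X.Opens) (V : Y.Opens) φ) :
    DerSch.IsPseudoCoherentRel f m E := by
  refine ⟨inferInstance, Set.univ, ?_,
    fun V _ => ⟨{U | (U : X.Opens) ≤ f ⁻¹ᵁ (V : Y.Opens)}, ?_, ?_⟩⟩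
  · rw [eq_top_iff]
    intro y _
    obtain ⟨_, ⟨V, hV, rfl⟩, hyV, -⟩ :=
      Y.isBasis_affineOpens.exists_subset_of_mem_open (Set.mem_univ y) isOpen_univ
    simp only [Opens.mem_iSup]
    exact ⟨⟨V, hV⟩, Set.mem_univ _, hyV⟩
  · apply le_antisymm
    · exact iSup₂_le fun U hU => hU
    · intro x hx
      obtain ⟨_, ⟨U, hU, rfl⟩, hxU, hUV⟩ :=
        X.isBasis_affineOpens.exists_subset_of_mem_open hx (f ⁻¹ᵁ (V : Y.Opens)).isOpen
      simp only [Opens.mem_iSup]
      exact ⟨⟨U, hU⟩, hUV, hxU⟩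
  · intro U _ h
    exact H U V h

variable (M : X.Modules)

/-- Every module is `m`-pseudo-coherent relative to a morphism locally of finite type, `m > 0`. -/
theorem isPseudoCoherentRel_inD_of_pos [LocallyOfFiniteType f] (m : ℤ) (hm : 0 < m) :
    DerSch.IsPseudoCoherentRel f m (DCoh.inD X M) := by
  apply isPseudoCoherentRel_of_forall
  intro U V h
  obtain ⟨n, α, hα, hs⟩ := exists_presentation f U.2 V.2 h
  haveI := isClosedImmersion_chartImm (U : X.Opens) U.2 α hs
  exact ⟨n, α, ⟨hs, hα⟩, chartPC_inD_of_pos M _ _ α m hm⟩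

/-- `0`-pseudo-coherence relative to `f` of a module is finite type. -/
theorem isPseudoCoherentRel_inD_zero_iff [LocallyOfFiniteType f] :
    DerSch.IsPseudoCoherentRel f 0 (DCoh.inD X M) ↔ CohB1.IsFT M := by
  constructor
  · intro hE
    apply isFT_of_forall_restrict_opens
    intro x
    obtain ⟨U, V, h, n, φ, hxU, hs, -, hPC⟩ := exists_chart_of_isPseudoCoherentRel f 0 _ hE x
    haveI := isClosedImmersion_chartImm (U : X.Opens) U.2 φ hs
    exact ⟨U, hxU, (chartPC_inD_zero_iff M _ _ φ).1 hPC⟩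
  · intro hM
    apply isPseudoCoherentRel_of_forall
    intro U V h
    obtain ⟨n, α, hα, hs⟩ := exists_presentation f U.2 V.2 h
    haveI := isClosedImmersion_chartImm (U : X.Opens) U.2 α hs
    exact ⟨n, α, ⟨hs, hα⟩, (chartPC_inD_zero_iff M _ _ α).2 (isFT_restrict hM _)⟩

/-- `(-1)`-pseudo-coherence relative to `f` of a module is quasi-coherence plus relative finite
presentation. -/
theorem isPseudoCoherentRel_inD_neg_one_iff [LocallyOfFiniteType f] :
    DerSch.IsPseudoCoherentRel f (-1) (DCoh.inD X M) ↔ (Coh.IsQCoh M ∧ Flatn.IsRelFP f M) := by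
  constructor
  · intro hE
    have hq : M.IsQuasicoherent := by
      apply isQuasicoherent_of_forall_restrict_opens
      intro x
      obtain ⟨U, V, h, n, φ, hxU, hs, -, hPC⟩ :=
        exists_chart_of_isPseudoCoherentRel f (-1) _ hE x
      haveI := isClosedImmersion_chartImm (U : X.Opens) U.2 φ hs
      exact ⟨U, hxU, ((chartPC_inD_neg_one_iff M _ _ φ).1 hPC).1⟩
    refine ⟨hq, ?_⟩
    obtain ⟨_, 𝒱, h𝒱, H⟩ := hE
    refine ⟨𝒱, h𝒱, fun V hV => ?_⟩
    obtain ⟨𝒰, h𝒰, H'⟩ := H V hV
    refine ⟨𝒰, h𝒰, fun U hU h => ?_⟩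
    obtain ⟨n, φ, hchart, hPC⟩ := H' U hU h
    haveI := isClosedImmersion_chartImm (U : X.Opens) U.2 φ hchart.1
    rw [relFPOn_iff]
    exact ⟨n, φ, hchart.2, hchart.1, ((chartPC_inD_neg_one_iff M _ _ φ).1 hPC).2⟩
  · rintro ⟨hq, hfp⟩
    haveI : M.IsQuasicoherent := hq
    have H := (isRelFP_iff f M).1 hfp
    apply isPseudoCoherentRel_of_forall
    intro U V h
    obtain ⟨n, α, hα, hs, hfpv⟩ := H U V U.2 V.2 h
    haveI := isClosedImmersion_chartImm (U : X.Opens) U.2 α hs
    exact ⟨n, α, ⟨hs, hα⟩, (chartPC_inD_neg_one_iff M _ _ α).2 ⟨inferInstance, hfpv⟩⟩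

end Global

end Groth.Agent.Lib.RelPCModule17
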