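import Groth.Agent.Lib.RelPCModule17

/-!
# `(-1)`-pseudo-coherent morphisms are the morphisms locally of finite presentation (helper17)

* `relFPHom_self_iff` : `B` is finitely presented relative to `ψ : R → B` iff `ψ` is of finite presentation.
* `isRelFP_structureModule_iff` : `O_X` is finitely presented relative to `f` iff `f` is locally of finite
  presentation (`f` locally of finite type).
* `isPseudoCoherentRel_of_iso` : relative pseudo-coherence is invariant under isomorphisms.
* `isNPseudoCoherent_neg_one_iff`.
-/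

set_option autoImplicit false
universe u
open CategoryTheory CategoryTheory.Limits AlgebraicGeometry TopologicalSpace Opposite
attribute [local instance] HasDerivedCategory.standard

namespace Groth.Agent.Lib.RelPCMorphism17

open Groth.Agent.Lib.H72RelFP Groth.Agent.Lib.RelFP Groth.Agent.Lib.RelPCModule17

section Ring

theorem fpVia_of_linearEquiv {S A : Type*} [CommRing S] [CommRing A] (α : S →+* A)
    {N N' : Type*} [AddCommGroup N] [Module A N] [AddCommGroup N'] [Module A N']
    (e : N ≃ₗ[A] N') (h : FPVia α N) : FPVia α N' := by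
  unfold FPVia at h ⊢
  letI := Module.compHom N α
  letI := Module.compHom N' α
  let e' : N ≃ₗ[S] N' := { e.toAddEquiv with map_smul' := fun s x => e.map_smul (α s) x }
  exact Module.FinitePresentation.of_equiv e'

theorem relFPHom_of_linearEquiv {R B : Type*} [CommRing R] [CommRing B] (ψ : R →+* B)
    {N N' : Type*} [AddCommGroup N] [Module B N] [AddCommGroup N'] [Module B N']
    (e : N ≃ₗ[B] N') (h : RelFPHom ψ N) : RelFPHom ψ N' := by
  obtain ⟨n, α, hα, hs, hfp⟩ := h
  exact ⟨n, α, hα, hs, fpVia_of_linearEquiv α e hfp⟩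

theorem ker_fg_of_fpVia {S A : Type*} [CommRing S] [CommRing A] (α : S →+* A)
    (hs : Function.Surjective α) (h : FPVia α A) : (RingHom.ker α).FG := by
  unfold FPVia at h
  letI := Module.compHom A α
  let l : S →ₗ[S] A :=
    { toFun := α
      map_add' := map_add α
      map_smul' := fun p q => by
        change α (p * q) = α p * α q
        exact map_mul α p q }
  have h1 : (LinearMap.ker l).FG := Module.FinitePresentation.fg_ker l hs
  have h2 : LinearMap.ker l = RingHom.ker α := by
    ext x
    rfl
  rw [← h2]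
  exact h1

theorem relFPHom_self_iff {R B : Type u} [CommRing R] [CommRing B] (ψ : R →+* B) :
    RelFPHom ψ B ↔ ψ.FinitePresentation := by
  constructor
  · rintro ⟨n, α, hα, hs, hfp⟩
    rw [← hα]
    refine RingHom.FinitePresentation.comp
      (RingHom.FinitePresentation.of_surjective α hs (ker_fg_of_fpVia α hs hfp)) ?_
    have : (MvPolynomial.C : R →+* MvPolynomial (Fin n) R) = algebraMap R _ := rfl
    rw [this, RingHom.finitePresentation_algebraMap]
    infer_instance
  · intro h
    rw [relFPHom_iff_fpVia ψ ψ h (RingHom.id B) Function.surjective_id (by simp) B, fpVia_id]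
    infer_instance

end Ring

section Scheme

variable {X Y : Scheme.{u}}

/-- Sections of the structure module. -/
noncomputable def structureSectionsEquiv (U : X.Opens) :
    Γ(X, U) ≃ₗ[Γ(X, U)] Γ(Coh.structureModule X, U) :=
  { toFun := fun x => x
    invFun := fun x => x
    map_add' := fun _ _ => rfl
    map_smul' := fun _ _ => rfl
    left_inv := fun _ => rfl
    right_inv := fun _ => rfl }

theorem isRelFP_structureModule_iff (f : X ⟶ Y) [LocallyOfFiniteType f] :
    Flatn.IsRelFP f (Coh.structureModule X) ↔ LocallyOfFinitePresentation f := by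
  haveI : (Coh.structureModule X).IsQuasicoherent :=
    Groth.Agent.Lib.StructureModule.isQuasicoherent_structureModule X
  rw [isRelFP_iff f (Coh.structureModule X),
    HasRingHomProperty.iff_appLE (P := @LocallyOfFinitePresentation)]
  constructor
  · intro H V U e
    exact (relFPHom_self_iff _).1
      (relFPHom_of_linearEquiv _ (structureSectionsEquiv U.1).symm (H U.1 V.1 U.2 V.2 e))
  · intro H U V hU hV e
    exact relFPHom_of_linearEquiv _ (structureSectionsEquiv U)
      ((relFPHom_self_iff _).2 (H ⟨V, hV⟩ ⟨U, hU⟩ e))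

theorem chartPC_of_iso {K K' : DCoh.D X} (e : K ≅ K') (m : ℤ) (U : X.Opens) (V : Y.Opens) {n : ℕ}
    (φ : MvPolynomial (Fin n) Γ(Y, V) →+* Γ(X, U)) (h : DerSch.ChartPC m K U V φ) :
    DerSch.ChartPC m K' U V φ :=
  fun G ⟨e'⟩ => h G ⟨e' ≪≫ e.symm⟩

/-- Relative pseudo-coherence is invariant under isomorphisms. -/
theorem isPseudoCoherentRel_of_iso (f : X ⟶ Y) {K K' : DCoh.D X} (e : K ≅ K') (m : ℤ)
    (h : DerSch.IsPseudoCoherentRel f m K) : DerSch.IsPseudoCoherentRel f m K' := by
  obtain ⟨h0, 𝒱, h𝒱, H⟩ := h
  refine ⟨h0, 𝒱, h𝒱, fun V hV => ?_⟩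
  obtain ⟨𝒰, h𝒰, H'⟩ := H V hV
  refine ⟨𝒰, h𝒰, fun U hU h => ?_⟩
  obtain ⟨n, φ, hchart, hPC⟩ := H' U hU h
  exact ⟨n, φ, hchart, chartPC_of_iso e m _ _ φ hPC⟩

/-- The structure sheaf in degree `0`, as a complex and as an object. -/
noncomputable def unitCxIso (X : Scheme.{u}) :
    DCoh.toD X (DerSch.unitCx X) ≅ DCoh.inD X (Coh.structureModule X) :=
  ((DerivedCategory.singleFunctorIsoCompQ X.Modules 0).app (Coh.structureModule X)).symm

/-- A morphism locally of finite type is `(-1)`-pseudo-coherent iff it is locally of finite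
presentation. -/
theorem isNPseudoCoherent_neg_one_iff (f : X ⟶ Y) [LocallyOfFiniteType f] :
    DerSch.IsNPseudoCoherent f (-1) ↔ LocallyOfFinitePresentation f := by
  have hq : Coh.IsQCoh (Coh.structureModule X) :=
    Groth.Agent.Lib.StructureModule.isQuasicoherent_structureModule X
  rw [← isRelFP_structureModule_iff f]
  constructor
  · intro h
    exact ((isPseudoCoherentRel_inD_neg_one_iff f _).1
      (isPseudoCoherentRel_of_iso f (unitCxIso X) (-1) h)).2
  · intro h
    exact isPseudoCoherentRel_of_iso f (unitCxIso X).symm (-1)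
      ((isPseudoCoherentRel_inD_neg_one_iff f _).2 ⟨hq, h⟩)

end Scheme

end Groth.Agent.Lib.RelPCMorphism17
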