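import Groth.Agent.Lib.RelPCLocal17

/-!
# Relative pseudo-coherence: localization on the source (helper17)
-/

set_option autoImplicit false
universe u
open CategoryTheory CategoryTheory.Limits AlgebraicGeometry TopologicalSpace Opposite
attribute [local instance] HasDerivedCategory.standard

namespace Groth.Agent.Lib.RelPCMoves17

open Groth.Agent.Lib.PseudoCohTriangle Groth.Agent.Lib.PseudoCohSummand
  Groth.Agent.Lib.RelPCMorphism17 Groth.Agent.Lib.RelPCModule17 Groth.Agent.Lib.ClosedPushPC17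
  Groth.Agent.Lib.PerfectD Groth.Agent.Lib.RelPCQCoh17 Groth.Agent.Lib.RelPCChart17
  Groth.Agent.Lib.PushIso17 Groth.Agent.Lib.RelPCLocal17 Groth.Agent.Lib.FlatBaseChangeD

section Compl

variable {Z X : Scheme.{u}}

/-- The direct image along a closed immersion is pseudo-coherent away from the image. -/
theorem isPseudoCoherentD_restrict_compl_pushD (i : Z ⟶ X) [IsClosedImmersion i] (E : DCoh.D Z)
    (m : ℤ) (V : X.Opens) (hV : ∀ x ∈ V, x ∉ Set.range i) :
    DCoh.IsPseudoCoherentD m ((DCoh.restrictD V.ι).obj ((pushD i).obj E)) := by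
  apply isPseudoCoherentD_of_isZero_homology
  intro j _
  have e : DCoh.HD ((DCoh.restrictD V.ι).obj ((pushD i).obj E)) j ≅
      ((Scheme.Modules.pushforward i).obj (DCoh.HD E j)).restrict V.ι :=
    (mapDerivedCategoryHomologyIso (Scheme.Modules.restrictFunctor V.ι) j).app _ ≪≫
      (Scheme.Modules.restrictFunctor V.ι).mapIso (HDpushDIso i E j)
  exact (isZero_restrict_push_compl i (DCoh.HD E j) V hV).of_iso e

end Compl

section M1

variable {X Y : Scheme.{u}} {U : X.Opens} (hU : IsAffineOpen U) (V : Y.Opens) {n : ℕ}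
  (φ : MvPolynomial (Fin n) Γ(Y, V) →+* Γ(X, U))

/-- The chart of the basic open `D(φ g')` obtained from a chart `φ` of `U`. -/
noncomputable def basicOpenChart (g' : MvPolynomial (Fin n) Γ(Y, V)) :
    MvPolynomial (Fin (1 + n)) Γ(Y, V) →+* Γ(X, X.basicOpen (φ g')) :=
  haveI := hU.isLocalization_basicOpen (φ g')
  enlarge (Pg := Localization.Away g') g' (awayHom φ g')

theorem basicOpenChart_surjective (hφ : Function.Surjective φ)
    (g' : MvPolynomial (Fin n) Γ(Y, V)) : Function.Surjective (basicOpenChart hU V φ g') := by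
  haveI := hU.isLocalization_basicOpen (φ g')
  exact enlarge_surjective g' _ (awayHom_surjective φ g' hφ)

theorem basicOpenChart_C (g' : MvPolynomial (Fin n) Γ(Y, V)) (a : Γ(Y, V)) :
    basicOpenChart hU V φ g' (MvPolynomial.C a) =
      X.presheaf.map (homOfLE (X.basicOpen_le (φ g'))).op (φ (MvPolynomial.C a)) := by
  haveI := hU.isLocalization_basicOpen (φ g')
  unfold basicOpenChart
  rw [enlarge_C]
  exact congr($(awayHom_comp φ g') (MvPolynomial.C a))

theorem isChart_basicOpenChart (f : X ⟶ Y) (h : U ≤ f ⁻¹ᵁ V) (hφ : DerSch.IsChart f U V h φ)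
    (g' : MvPolynomial (Fin n) Γ(Y, V)) :
    DerSch.IsChart f (X.basicOpen (φ g')) V ((X.basicOpen_le (φ g')).trans h)
      (basicOpenChart hU V φ g') := by
  refine ⟨basicOpenChart_surjective hU V φ hφ.1 g', ?_⟩
  ext a
  change basicOpenChart hU V φ g' (MvPolynomial.C a) = _
  rw [basicOpenChart_C]
  have h1 : φ (MvPolynomial.C a) = (f.appLE V U h).hom a := congr($(hφ.2) a)
  rw [h1]
  exact congr($(Scheme.Hom.appLE_map f h (homOfLE (X.basicOpen_le (φ g'))).op) a)

variable (m : ℤ) (E : DCoh.D X)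

/-- The test on `D(g)` for `basicOpenChart` is the restriction to `D(g')` of the test on `U`. -/
theorem chartPC_basicOpenChart_iff (hφ : Function.Surjective φ)
    (g' : MvPolynomial (Fin n) Γ(Y, V)) :
    haveI : IsClosedImmersion (Spec.map (CommRingCat.ofHom φ)) :=
      IsClosedImmersion.spec_of_surjective _ hφ
    DerSch.ChartPC m E (X.basicOpen (φ g')) V (basicOpenChart hU V φ g') ↔
      DCoh.IsPseudoCoherentD m
        ((DCoh.restrictD (Spec.map (CommRingCat.ofHom
          (algebraMap (MvPolynomial (Fin n) Γ(Y, V)) (Localization.Away g'))))).obj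
          ((pushD (Spec.map (CommRingCat.ofHom φ))).obj (specObj hU E))) := by
  haveI : IsClosedImmersion (Spec.map (CommRingCat.ofHom φ)) :=
    IsClosedImmersion.spec_of_surjective _ hφ
  haveI := hU.isLocalization_basicOpen (φ g')
  have hW : IsAffineOpen (X.basicOpen (φ g')) := hU.basicOpen (φ g')
  rw [chartPC_iff_specObj m E hW V _ (basicOpenChart_surjective hU V φ hφ g')]
  haveI : IsClosedImmersion (Spec.map (CommRingCat.ofHom
      (awayHom (B' := Γ(X, X.basicOpen (φ g'))) φ g'))) :=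
    IsClosedImmersion.spec_of_surjective _ (awayHom_surjective φ g' hφ)
  haveI : IsOpenImmersion (Spec.map (CommRingCat.ofHom
      (algebraMap Γ(X, U) Γ(X, X.basicOpen (φ g'))))) :=
    IsOpenImmersion.of_isLocalization (φ g')
  haveI : IsOpenImmersion (Spec.map (X.presheaf.map (homOfLE (X.basicOpen_le (φ g'))).op)) :=
    inferInstanceAs (IsOpenImmersion (Spec.map (CommRingCat.ofHom
      (algebraMap Γ(X, U) Γ(X, X.basicOpen (φ g'))))))
  let e1 := restrictPushSpecIso (B' := Γ(X, X.basicOpen (φ g'))) φ g' hφ (specObj hU E)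
  let e2 := specObjRestrictIso hU hW (X.basicOpen_le (φ g')) E
  let e3 := (pushD (Spec.map (CommRingCat.ofHom
      (awayHom (B' := Γ(X, X.basicOpen (φ g'))) φ g')))).mapIso e2
  have key := isPseudoCoherentD_enlarge_iff (Pg := Localization.Away g') g'
    (awayHom (B' := Γ(X, X.basicOpen (φ g'))) φ g') (awayHom_surjective φ g' hφ)
    (specObj hW E) m
  constructor
  · intro h
    exact isPseudoCoherentD_of_iso (e1 ≪≫ e3).symm (key.2 h)
  · intro h
    exact key.1 (isPseudoCoherentD_of_iso (e1 ≪≫ e3) h)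

/-- Localization on the source: from `U` to a basic open. -/
theorem chartPC_basicOpenChart (hφ : Function.Surjective φ)
    (g' : MvPolynomial (Fin n) Γ(Y, V)) (hE : DerSch.ChartPC m E U V φ) :
    DerSch.ChartPC m E (X.basicOpen (φ g')) V (basicOpenChart hU V φ g') := by
  rw [chartPC_basicOpenChart_iff hU V φ m E hφ g']
  rw [chartPC_iff_specObj m E hU V φ hφ] at hE
  exact isPseudoCoherentD_restrictD hE _

/-- Gluing on the source: from a standard cover of `U` to `U`. -/
theorem chartPC_of_forall_basicOpenChart (hφ : Function.Surjective φ) {k : ℕ}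
    (g' : Fin k → MvPolynomial (Fin n) Γ(Y, V))
    (hg : Ideal.span (Set.range fun j => φ (g' j)) = ⊤)
    (H : ∀ j, DerSch.ChartPC m E (X.basicOpen (φ (g' j))) V (basicOpenChart hU V φ (g' j))) :
    DerSch.ChartPC m E U V φ := by
  rw [chartPC_iff_specObj m E hU V φ hφ]
  haveI : IsClosedImmersion (Spec.map (CommRingCat.ofHom φ)) :=
    IsClosedImmersion.spec_of_surjective _ hφ
  apply isPseudoCoherentD_of_forall_restrictD
  intro x
  by_cases hx : x ∈ Set.range (Spec.map (CommRingCat.ofHom φ))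
  · obtain ⟨y, rfl⟩ := hx
    have hex : ∃ j, g' j ∉ ((Spec.map (CommRingCat.ofHom φ)) y).asIdeal := by
      by_contra hcon
      have hall : ∀ j, φ (g' j) ∈ y.asIdeal := fun j => by
        by_contra hj
        exact hcon ⟨j, hj⟩
      have hle : Ideal.span (Set.range fun j => φ (g' j)) ≤ y.asIdeal :=
        Ideal.span_le.2 (by rintro _ ⟨j, rfl⟩; exact hall j)
      rw [hg] at hle
      exact y.isPrime.ne_top (top_le_iff.1 hle)
    obtain ⟨j, hj⟩ := hex
    refine ⟨_, Spec.map (CommRingCat.ofHom (algebraMap (MvPolynomial (Fin n) Γ(Y, V))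
      (Localization.Away (g' j)))), inferInstance, ?_,
      (chartPC_basicOpenChart_iff hU V φ m E hφ (g' j)).1 (H j)⟩
    have hr := PrimeSpectrum.localization_away_comap_range (Localization.Away (g' j)) (g' j)
    have hmem : (Spec.map (CommRingCat.ofHom φ)) y ∈
        (PrimeSpectrum.basicOpen (g' j) : Set (PrimeSpectrum (MvPolynomial (Fin n) Γ(Y, V)))) := hj
    rw [← hr] at hmem
    exact hmem
  · let V₀ : (Spec (CommRingCat.of (MvPolynomial (Fin n) Γ(Y, V)))).Opens :=
      ⟨(Set.range (Spec.map (CommRingCat.ofHom φ)))ᶜ,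
        (Spec.map (CommRingCat.ofHom φ)).isClosedEmbedding.isClosed_range.isOpen_compl⟩
    exact ⟨V₀, V₀.ι, inferInstance, ⟨⟨x, hx⟩, rfl⟩,
      isPseudoCoherentD_restrict_compl_pushD _ _ m V₀ (fun y hy => hy)⟩

end M1

section M1'

variable {X Y : Scheme.{u}} (f : X ⟶ Y) {U : X.Opens} (hU : IsAffineOpen U) (V : Y.Opens)
  (h : U ≤ f ⁻¹ᵁ V) (m : ℤ) (E : DCoh.D X)

include hU in
/-- Localization on the source, existential form. -/
theorem exists_chartPC_basicOpen {n : ℕ} (φ : MvPolynomial (Fin n) Γ(Y, V) →+* Γ(X, U))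
    (hφ : DerSch.IsChart f U V h φ) (hE : DerSch.ChartPC m E U V φ) (g : Γ(X, U)) :
    ∃ (k : ℕ) (ψ : MvPolynomial (Fin k) Γ(Y, V) →+* Γ(X, X.basicOpen g)),
      DerSch.IsChart f (X.basicOpen g) V ((X.basicOpen_le g).trans h) ψ ∧
        DerSch.ChartPC m E (X.basicOpen g) V ψ := by
  obtain ⟨g', rfl⟩ := hφ.1 g
  exact ⟨1 + n, basicOpenChart hU V φ g', isChart_basicOpenChart hU V φ f h hφ g',
    chartPC_basicOpenChart hU V φ m E hφ.1 g' hE⟩

include hU in
/-- Gluing on the source, existential form. -/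
theorem chartPC_of_forall_basicOpen {n : ℕ} (φ : MvPolynomial (Fin n) Γ(Y, V) →+* Γ(X, U))
    (hφ : DerSch.IsChart f U V h φ) {k : ℕ} (g : Fin k → Γ(X, U))
    (hg : Ideal.span (Set.range g) = ⊤)
    (H : ∀ j : Fin k, ∃ (n' : ℕ) (ψ : MvPolynomial (Fin n') Γ(Y, V) →+* Γ(X, X.basicOpen (g j))),
      DerSch.IsChart f (X.basicOpen (g j)) V ((X.basicOpen_le (g j)).trans h) ψ ∧
        DerSch.ChartPC m E (X.basicOpen (g j)) V ψ) :
    DerSch.ChartPC m E U V φ := by
  choose g' hg' using fun j => hφ.1 (g j)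
  have hgg : g = fun j => φ (g' j) := funext fun j => (hg' j).symm
  subst hgg
  apply chartPC_of_forall_basicOpenChart hU V φ m E hφ.1 g' hg
  intro j
  obtain ⟨n', ψ, hψ, hPC⟩ := H j
  have hc := isChart_basicOpenChart hU V φ f h hφ (g' j)
  exact chartPC_of_chartPC (X.basicOpen (φ (g' j))) (hU.basicOpen (φ (g' j))) V m E ψ hψ.1
    (basicOpenChart hU V φ (g' j)) hc.1 (hψ.2.trans hc.2.symm) hPC

end M1'

section M2

variable {X Y : Scheme.{u}} (f : X ⟶ Y) {U : X.Opens} (hU : IsAffineOpen U) {V : Y.Opens}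
  (hV : IsAffineOpen V) (r : Γ(Y, V)) {n : ℕ}
  (φr : MvPolynomial (Fin n) Γ(Y, Y.basicOpen r) →+* Γ(X, U))

attribute [local instance] MvPolynomial.algebraMvPolynomial

include hV in
theorem isLocalization_away_C :
    IsLocalization.Away (MvPolynomial.C r : MvPolynomial (Fin n) Γ(Y, V))
      (MvPolynomial (Fin n) Γ(Y, Y.basicOpen r)) := by
  haveI := hV.isLocalization_basicOpen r
  have := MvPolynomial.isLocalization (σ := Fin n) (Submonoid.powers r) Γ(Y, Y.basicOpen r)
  rwa [Submonoid.map_powers] at this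

/-- The chart over `V` obtained from a chart over the basic open `D(r)` of `V`. -/
noncomputable def baseChart : MvPolynomial (Fin (1 + n)) Γ(Y, V) →+* Γ(X, U) :=
  haveI := isLocalization_away_C hV r (n := n)
  enlarge (Pg := MvPolynomial (Fin n) Γ(Y, Y.basicOpen r)) (MvPolynomial.C r) φr

theorem baseChart_surjective (hφr : Function.Surjective φr) :
    Function.Surjective (baseChart hV r φr) := by
  haveI := isLocalization_away_C hV r (n := n)
  exact enlarge_surjective _ _ hφr

theorem baseChart_C (a : Γ(Y, V)) :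
    baseChart hV r φr (MvPolynomial.C a) =
      φr (MvPolynomial.C (Y.presheaf.map (homOfLE (Y.basicOpen_le r)).op a)) := by
  haveI := isLocalization_away_C hV r (n := n)
  unfold baseChart
  rw [enlarge_C, MvPolynomial.algebraMap_def, MvPolynomial.map_C]
  rfl

theorem isChart_baseChart (h_r : U ≤ f ⁻¹ᵁ Y.basicOpen r)
    (hφr : DerSch.IsChart f U (Y.basicOpen r) h_r φr) (h : U ≤ f ⁻¹ᵁ V) :
    DerSch.IsChart f U V h (baseChart hV r φr) := by
  refine ⟨baseChart_surjective hV r φr hφr.1, ?_⟩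
  ext a
  change baseChart hV r φr (MvPolynomial.C a) = _
  rw [baseChart_C]
  have h1 : φr (MvPolynomial.C (Y.presheaf.map (homOfLE (Y.basicOpen_le r)).op a)) =
      (f.appLE (Y.basicOpen r) U h_r).hom (Y.presheaf.map (homOfLE (Y.basicOpen_le r)).op a) :=
    congr($(hφr.2) _)
  rw [h1]
  exact congr($(Scheme.Hom.map_appLE f h_r (homOfLE (Y.basicOpen_le r)).op) a)

include hU in
/-- Changing the base from a basic open `D(r)` of `V` to `V`. -/
theorem chartPC_baseChart_iff (m : ℤ) (E : DCoh.D X) (hφr : Function.Surjective φr) :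
    DerSch.ChartPC m E U (Y.basicOpen r) φr ↔ DerSch.ChartPC m E U V (baseChart hV r φr) := by
  haveI := isLocalization_away_C hV r (n := n)
  rw [chartPC_iff_specObj m E hU (Y.basicOpen r) φr hφr,
    chartPC_iff_specObj m E hU V _ (baseChart_surjective hV r φr hφr)]
  exact isPseudoCoherentD_enlarge_iff (Pg := MvPolynomial (Fin n) Γ(Y, Y.basicOpen r))
    (MvPolynomial.C r) φr hφr (specObj hU E) m

end M2

end Groth.Agent.Lib.RelPCMoves17
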