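import Groth.Prelude.Def_DerSch2
import Groth.Agent.Lib.ClosedPushQCoh17
import Groth.Agent.Lib.PseudoCohQCoh
import Groth.Agent.Lib.PerfectCoh

/-!
# Relative pseudo-coherence (chart form) ⇒ quasi-coherent cohomology (helper17)
-/

set_option autoImplicit false
universe u
open CategoryTheory CategoryTheory.Limits AlgebraicGeometry TopologicalSpace Opposite
attribute [local instance] HasDerivedCategory.standard

namespace Groth.Agent.Lib.RelPCQCoh17

open Groth.Agent.Lib.ClosedPushExact17 Groth.Agent.Lib.ClosedPushQCoh17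
  Groth.Agent.Lib.PerfectCoh Groth.Agent.Lib.CohLocal

variable {X Y : Scheme.{u}}

/-- The chart morphism of an affine open along a surjective ring map is a closed immersion. -/
theorem isClosedImmersion_chartImm (U : X.Opens) (hU : IsAffineOpen U) {R : Type u} [CommRing R]
    {n : ℕ} (φ : MvPolynomial (Fin n) R →+* Γ(X, U)) (hφ : Function.Surjective φ) :
    IsClosedImmersion (DerSch.chartImm U φ) := by
  have : IsClosedImmersion (Spec.map (CommRingCat.ofHom φ)) :=
    IsClosedImmersion.spec_of_surjective _ hφ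
  unfold DerSch.chartImm
  rw [← hU.isoSpec_hom]
  infer_instance

/-- Direct image along a closed immersion commutes with homology of complexes. -/
noncomputable def pushHomologyIso {Z : Scheme.{u}} (c : Z ⟶ Y) [IsClosedImmersion c]
    (F : CochainComplex Z.Modules ℤ) (i : ℤ) :
    ((DerSch.pushCx c).obj F).homology i ≅ (Scheme.Modules.pushforward c).obj (F.homology i) := by
  haveI : PreservesFiniteLimits (Scheme.Modules.pushforward c) := inferInstance
  haveI : PreservesFiniteColimits (Scheme.Modules.pushforward c) := inferInstance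
  haveI : (Scheme.Modules.pushforward c).PreservesHomology := inferInstance
  exact (F.sc i).mapHomologyIso (Scheme.Modules.pushforward c)

theorem isQCoh_HD_of_isPseudoCoherentRel (f : X ⟶ Y) (m : ℤ) (E : DCoh.D X)
    (hE : DerSch.IsPseudoCoherentRel f m E) (i : ℤ) (hi : m < i) : Coh.IsQCoh (DCoh.HD E i) := by
  obtain ⟨_, 𝒱, h𝒱, h⟩ := hE
  let G : CochainComplex X.Modules ℤ := DerivedCategory.Q.objPreimage E
  let e : DCoh.toD X G ≅ E := DerivedCategory.Q.objObjPreimageIso E
  apply isQuasicoherent_of_forall_restrict_opens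
  intro x
  have hx : f x ∈ (⊤ : Y.Opens) := trivial
  rw [← h𝒱] at hx
  obtain ⟨V, hV⟩ := Opens.mem_iSup.mp hx
  obtain ⟨hV𝒱, hxV⟩ := Opens.mem_iSup.mp hV
  obtain ⟨𝒰, h𝒰, h'⟩ := h V hV𝒱
  have hx' : x ∈ f ⁻¹ᵁ (V : Y.Opens) := hxV
  rw [← h𝒰] at hx'
  obtain ⟨U, hU⟩ := Opens.mem_iSup.mp hx'
  obtain ⟨hU𝒰, hxU⟩ := Opens.mem_iSup.mp hU
  have hle : (U : X.Opens) ≤ f ⁻¹ᵁ (V : Y.Opens) := by
    rw [← h𝒰]
    exact le_iSup₂ (f := fun (U : X.affineOpens) (_ : U ∈ 𝒰) => (U : X.Opens)) U hU𝒰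
  obtain ⟨n, φ, hchart, hPC⟩ := h' U hU𝒰 hle
  refine ⟨U, hxU, ?_⟩
  haveI : IsClosedImmersion (DerSch.chartImm (U : X.Opens) φ) :=
    isClosedImmersion_chartImm (U : X.Opens) U.2 φ hchart.1
  have pcm := hPC G ⟨e⟩
  have hq := Groth.Agent.Lib.PseudoCohQCoh.isQCoh_HD_of_isPseudoCoherentD m _ pcm i hi
  let G' := (DCoh.restrictCx (U : X.Opens)).obj G
  let c := DerSch.chartImm (U : X.Opens) φ
  let P : Scheme.{u} := Spec (CommRingCat.of (MvPolynomial (Fin n) Γ(Y, (V : Y.Opens))))
  have e0 : DCoh.HD (DCoh.toD P ((DerSch.pushCx c).obj G')) i ≅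
      (Scheme.Modules.pushforward c).obj (G'.homology i) :=
    HDIso ((DerSch.pushCx c).obj G') i ≪≫ pushHomologyIso c G' i
  haveI hq0 : (DCoh.HD (DCoh.toD P ((DerSch.pushCx c).obj G')) i).IsQuasicoherent := hq
  haveI hq1 : ((Scheme.Modules.pushforward c).obj (G'.homology i)).IsQuasicoherent :=
    Groth.Agent.Lib.H90CohRestrict.isQuasicoherent_of_iso e0
  haveI hq2 : (G'.homology i).IsQuasicoherent := isQuasicoherent_of_pushforward c _
  have e1 : DCoh.HD E i ≅ G.homology i :=
    (DerivedCategory.homologyFunctor X.Modules i).mapIso e.symm ≪≫ HDIso G i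
  have e2 : G'.homology i ≅ (DCoh.HD E i).restrict (U : X.Opens).ι :=
    restrictHomologyIso (U : X.Opens) G i ≪≫
      (Scheme.Modules.restrictFunctor (U : X.Opens).ι).mapIso e1.symm
  exact Groth.Agent.Lib.H90CohRestrict.isQuasicoherent_of_iso e2

end Groth.Agent.Lib.RelPCQCoh17
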