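import Groth.Agent.Lib.PCModTilde17
import Groth.Agent.Lib.PuncturedCoh9b
import Groth.Agent.Lib.PCohRestrict
import Groth.Agent.Lib.RelPCAbs17

/-!
# Pseudo-coherence of `(Spec σ)_* O` versus ring-level pseudo-coherence (helper17)
-/

set_option autoImplicit false
universe u
open CategoryTheory CategoryTheory.Limits AlgebraicGeometry TopologicalSpace Opposite
attribute [local instance] HasDerivedCategory.standard

namespace Groth.Agent.Lib.RelPCRing17

open Groth.Agent.Lib.PseudoCohTriangle Groth.Agent.Lib.PseudoCohSummand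
  Groth.Agent.Lib.ClosedPushPC17 Groth.Agent.Lib.PCModTilde17 Groth.Agent.Lib.PCohRestrict
  Groth.Agent.Lib.DRingPCoh21 Groth.Agent.Lib.PushIso17

section Spec

variable {P Q : Type u} [CommRing P] [CommRing Q] (σ : P →+* Q)

/-- `(Spec σ)_* O_{Spec Q}` is the module associated with `Q` as a `P`-module. -/
noncomputable def pushSpecTildeIso :
    (Scheme.Modules.pushforward (Spec.map (CommRingCat.ofHom σ))).obj
        (Coh.structureModule (Spec (CommRingCat.of Q))) ≅
      tilde ((ModuleCat.restrictScalars σ).obj (ModuleCat.of Q Q)) :=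
  (Groth.Agent.Lib.PuncturedCoh9.tildeRestrictScalarsIso (CommRingCat.ofHom σ)
    (ModuleCat.of Q Q)).symm

/-- **Ring bridge**: `(Spec σ)_* O` is a pseudo-coherent module iff `Q` is a pseudo-coherent
`P`-module. -/
theorem pcMod_push_spec_iff :
    PCMod ((Scheme.Modules.pushforward (Spec.map (CommRingCat.ofHom σ))).obj
        (Coh.structureModule (Spec (CommRingCat.of Q)))) ↔
      ∀ a : ℤ, DRing.IsPseudoCoherent P a ((Φ σ).obj (ModuleCat.of Q Q)) := by
  constructor
  · intro h a
    exact (isPseudoCoherentD_inD_tilde_iff (CommRingCat.of P) a _).1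
      (Groth.Agent.Lib.PseudoCohHomology17.isPseudoCoherentD_inD_of_iso (pushSpecTildeIso σ) (h a))
  · intro h a
    exact Groth.Agent.Lib.PseudoCohHomology17.isPseudoCoherentD_inD_of_iso (pushSpecTildeIso σ).symm
      ((isPseudoCoherentD_inD_tilde_iff (CommRingCat.of P) a _).2 (h a))

theorem isPseudoCoherentD_push_spec_iff (a : ℤ) :
    DCoh.IsPseudoCoherentD a (DCoh.inD _
      ((Scheme.Modules.pushforward (Spec.map (CommRingCat.ofHom σ))).obj
        (Coh.structureModule (Spec (CommRingCat.of Q))))) ↔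
      DRing.IsPseudoCoherent P a ((Φ σ).obj (ModuleCat.of Q Q)) :=
  ⟨fun h => (isPseudoCoherentD_inD_tilde_iff (CommRingCat.of P) a _).1
      (Groth.Agent.Lib.PseudoCohHomology17.isPseudoCoherentD_inD_of_iso (pushSpecTildeIso σ) h),
    fun h => Groth.Agent.Lib.PseudoCohHomology17.isPseudoCoherentD_inD_of_iso
      (pushSpecTildeIso σ).symm ((isPseudoCoherentD_inD_tilde_iff (CommRingCat.of P) a _).2 h)⟩

end Spec

end Groth.Agent.Lib.RelPCRing17

namespace Groth.Agent.Lib.RelPCRing17

open Groth.Agent.Lib.PseudoCohTriangle Groth.Agent.Lib.PseudoCohSummand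
  Groth.Agent.Lib.ClosedPushPC17 Groth.Agent.Lib.PCModTilde17 Groth.Agent.Lib.PCohRestrict
  Groth.Agent.Lib.DRingPCoh21 Groth.Agent.Lib.PushIso17 Groth.Agent.Lib.RelPCModule17
  Groth.Agent.Lib.RelPCQCoh17 Groth.Agent.Lib.RelPCAll17 Groth.Agent.Lib.RelPCMorphism17

section Chart

variable {X Y : Scheme.{u}} {U : X.Opens} (hU : IsAffineOpen U) (V : Y.Opens) {n : ℕ}
  (φ : MvPolynomial (Fin n) Γ(Y, V) →+* Γ(X, U))

/-- The direct image of `O_U` along the isomorphism `U ≅ Spec Γ(X, U)` is the structure sheaf. -/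
noncomputable def pushIsoSpecUnitIso :
    (Scheme.Modules.pushforward hU.isoSpec.hom).obj ((Coh.structureModule X).restrict U.ι) ≅
      Coh.structureModule (Spec Γ(X, U)) :=
  (Scheme.Modules.pushforward hU.isoSpec.hom).mapIso
      (Scheme.Modules.restrictUnitIso U.ι ≪≫
        (Scheme.Modules.restrictUnitIso hU.isoSpec.hom).symm) ≪≫
    (restrictPushIso hU.isoSpec.hom).app (Coh.structureModule (Spec Γ(X, U)))

/-- The direct image of `O_U` along a chart. -/
noncomputable def pushChartUnitIso :
    (Scheme.Modules.pushforward (DerSch.chartImm U φ)).obj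
        ((Coh.structureModule X).restrict U.ι) ≅
      (Scheme.Modules.pushforward (Spec.map (CommRingCat.ofHom φ))).obj
        (Coh.structureModule (Spec (CommRingCat.of Γ(X, U)))) :=
  ((Scheme.Modules.pushforwardComp hU.isoSpec.hom (Spec.map (CommRingCat.ofHom φ))).app _).symm ≪≫
    (Scheme.Modules.pushforward (Spec.map (CommRingCat.ofHom φ))).mapIso (pushIsoSpecUnitIso hU)

include hU in
/-- **Chart bridge**: the chart test for the structure sheaf is ring-level pseudo-coherence of
`Γ(X, U)` over the polynomial ring. -/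
theorem chartPC_unit_iff [IsClosedImmersion (DerSch.chartImm U φ)] (a : ℤ) :
    DerSch.ChartPC a (DCoh.inD X (Coh.structureModule X)) U V φ ↔
      DRing.IsPseudoCoherent (MvPolynomial (Fin n) Γ(Y, V)) a
        ((Φ φ).obj (ModuleCat.of Γ(X, U) Γ(X, U))) := by
  rw [chartPC_inD_iff, ← isPseudoCoherentD_push_spec_iff φ a]
  exact ⟨fun h => Groth.Agent.Lib.PseudoCohHomology17.isPseudoCoherentD_inD_of_iso
      (pushChartUnitIso hU V φ) h,
    fun h => Groth.Agent.Lib.PseudoCohHomology17.isPseudoCoherentD_inD_of_iso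
      (pushChartUnitIso hU V φ).symm h⟩

end Chart

end Groth.Agent.Lib.RelPCRing17
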