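import Groth.Agent.Lib.RelPCMorphism17

/-!
# Direct summands of relatively pseudo-coherent objects (helper17)
-/

set_option autoImplicit false
universe u
open CategoryTheory CategoryTheory.Limits AlgebraicGeometry TopologicalSpace Opposite
attribute [local instance] HasDerivedCategory.standard

namespace Groth.Agent.Lib.RelPCSummand17

open Groth.Agent.Lib.PseudoCohTriangle Groth.Agent.Lib.PseudoCohSummand
  Groth.Agent.Lib.RelPCMorphism17

variable {X Y : Scheme.{u}}

/-- The functor computing the object tested on a chart. -/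
noncomputable abbrev chartFunctor (U : X.Opens) {A : Scheme.{u}} (c : (U : Scheme.{u}) ⟶ A) :
    CochainComplex X.Modules ℤ ⥤ DCoh.D A :=
  DCoh.restrictCx U ⋙ DerSch.pushCx c ⋙ DerivedCategory.Q

theorem chartPC_fst (m : ℤ) (E K : DCoh.D X) [HasBinaryBiproduct E K] (U : X.Opens) (V : Y.Opens)
    {n : ℕ} (φ : MvPolynomial (Fin n) Γ(Y, V) →+* Γ(X, U))
    (h : DerSch.ChartPC m (E ⊞ K) U V φ) : DerSch.ChartPC m E U V φ := by
  intro G ⟨e⟩
  let G' : CochainComplex X.Modules ℤ := DerivedCategory.Q.objPreimage K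
  let e' : DCoh.toD X G' ≅ K := DerivedCategory.Q.objObjPreimageIso K
  haveI : PreservesBinaryBiproduct G G' (DerivedCategory.Q (C := X.Modules)) :=
    preservesBinaryBiproduct_of_preservesBiproduct _ G G'
  have e₁ : DCoh.toD X (G ⊞ G') ≅ E ⊞ K :=
    (DerivedCategory.Q (C := X.Modules)).mapBiprod G G' ≪≫ biprod.mapIso e e'
  have h1 := h (G ⊞ G') ⟨e₁⟩
  let F := chartFunctor U (DerSch.chartImm U φ)
  haveI : PreservesBinaryBiproduct G G' F := preservesBinaryBiproduct_of_preservesBiproduct _ G G'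
  have h2 : DCoh.IsPseudoCoherentD m (F.obj G ⊞ F.obj G') :=
    isPseudoCoherentD_of_iso (F.mapBiprod G G') h1
  exact isPseudoCoherentD_fst h2

theorem isPseudoCoherentRel_fst (f : X ⟶ Y) (m : ℤ) (E K : DCoh.D X) [HasBinaryBiproduct E K]
    (h : DerSch.IsPseudoCoherentRel f m (E ⊞ K)) : DerSch.IsPseudoCoherentRel f m E := by
  obtain ⟨h0, 𝒱, h𝒱, H⟩ := h
  refine ⟨h0, 𝒱, h𝒱, fun V hV => ?_⟩
  obtain ⟨𝒰, h𝒰, H'⟩ := H V hV
  refine ⟨𝒰, h𝒰, fun U hU h => ?_⟩
  obtain ⟨n, φ, hchart, hPC⟩ := H' U hU h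
  exact ⟨n, φ, hchart, chartPC_fst m E K _ _ φ hPC⟩

theorem isPseudoCoherentRel_snd (f : X ⟶ Y) (m : ℤ) (E K : DCoh.D X) [HasBinaryBiproduct E K]
    (h : DerSch.IsPseudoCoherentRel f m (E ⊞ K)) : DerSch.IsPseudoCoherentRel f m K :=
  isPseudoCoherentRel_fst f m K E (isPseudoCoherentRel_of_iso f (biprod.braiding E K) m h)

end Groth.Agent.Lib.RelPCSummand17
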