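import Groth.Agent.Lib.RelPCAll17

/-!
# Relative pseudo-coherence and distinguished triangles (helper17)
-/

set_option autoImplicit false
universe u
open CategoryTheory CategoryTheory.Limits AlgebraicGeometry TopologicalSpace Opposite
  Pretriangulated
attribute [local instance] HasDerivedCategory.standard

namespace Groth.Agent.Lib.RelPCTri17

open Groth.Agent.Lib.RelPCModule17 Groth.Agent.Lib.RelPCChart17 Groth.Agent.Lib.RelPCMoves17
  Groth.Agent.Lib.RelPCAll17 Groth.Agent.Lib.ClosedPushPC17 Groth.Agent.Lib.PseudoCohTriangle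
  Groth.Agent.Lib.RelPCQCoh17

variable {X Y : Scheme.{u}}

section Chart

variable (U : X.Opens) (V : Y.Opens) {k : ℕ} (φ : MvPolynomial (Fin k) Γ(Y, V) →+* Γ(X, U))
  [IsClosedImmersion (DerSch.chartImm U φ)]

/-- The triangulated functor underlying the chart test. -/
noncomputable abbrev chartD : DCoh.D X ⥤ DCoh.D (Spec (CommRingCat.of (MvPolynomial (Fin k) Γ(Y, V)))) :=
  DCoh.restrictD U.ι ⋙ pushD (DerSch.chartImm U φ)

theorem chartPC_iff_chartD (m : ℤ) (E : DCoh.D X) :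
    DerSch.ChartPC m E U V φ ↔ DCoh.IsPseudoCoherentD m ((chartD U V φ).obj E) :=
  chartPC_iff m E U V φ

theorem chartPC_obj₃ (n : ℤ) (T : Triangle (DCoh.D X)) (hT : T ∈ distTriang (DCoh.D X))
    (h₁ : DerSch.ChartPC (n + 1) T.obj₁ U V φ) (h₂ : DerSch.ChartPC n T.obj₂ U V φ) :
    DerSch.ChartPC n T.obj₃ U V φ := by
  rw [chartPC_iff_chartD] at h₁ h₂ ⊢
  exact isPseudoCoherentD_obj₃ n _ ((chartD U V φ).map_distinguished T hT) h₁ h₂

theorem chartPC_obj₂ (n : ℤ) (T : Triangle (DCoh.D X)) (hT : T ∈ distTriang (DCoh.D X))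
    (h₁ : DerSch.ChartPC n T.obj₁ U V φ) (h₃ : DerSch.ChartPC n T.obj₃ U V φ) :
    DerSch.ChartPC n T.obj₂ U V φ := by
  rw [chartPC_iff_chartD] at h₁ h₃ ⊢
  exact isPseudoCoherentD_obj₂ n _ ((chartD U V φ).map_distinguished T hT) h₁ h₃

theorem chartPC_obj₁ (n : ℤ) (T : Triangle (DCoh.D X)) (hT : T ∈ distTriang (DCoh.D X))
    (h₂ : DerSch.ChartPC n T.obj₂ U V φ) (h₃ : DerSch.ChartPC (n - 1) T.obj₃ U V φ) :
    DerSch.ChartPC n T.obj₁ U V φ := by
  rw [chartPC_iff_chartD] at h₂ h₃ ⊢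
  have e : n - 1 + 1 = n := by omega
  have h := isPseudoCoherentD_obj₁ (n - 1) _ ((chartD U V φ).map_distinguished T hT)
    (by rw [e]; exact h₂) h₃
  rw [e] at h
  exact h

end Chart

variable (f : X ⟶ Y) [LocallyOfFiniteType f]

/-- A two-out-of-three principle for relative pseudo-coherence: it suffices to argue on a common
chart of every affine pair. -/
theorem isPseudoCoherentRel_of_two {a b c : ℤ} {A B C : DCoh.D X}
    (hA : DerSch.IsPseudoCoherentRel f a A) (hB : DerSch.IsPseudoCoherentRel f b B)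
    (H : ∀ (U : X.Opens) (V : Y.Opens) {k : ℕ} (φ : MvPolynomial (Fin k) Γ(Y, V) →+* Γ(X, U))
      [IsClosedImmersion (DerSch.chartImm U φ)], DerSch.ChartPC a A U V φ →
        DerSch.ChartPC b B U V φ → DerSch.ChartPC c C U V φ) :
    DerSch.IsPseudoCoherentRel f c C := by
  apply isPseudoCoherentRel_of_forall f c C
  intro U V h
  obtain ⟨k, φ, hφ, hPC⟩ := (hasPCChart_of_isPseudoCoherentRel hA U.2 V.2 h).exists_chart h
  have hPC' := (hasPCChart_of_isPseudoCoherentRel hB U.2 V.2 h).chartPC U.2 h φ hφ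
  haveI := isClosedImmersion_chartImm (U : X.Opens) U.2 φ hφ.1
  exact ⟨k, φ, hφ, H _ _ φ hPC hPC'⟩

theorem isPseudoCoherentRel_triangle (n : ℤ) (T : Triangle (DCoh.D X))
    (hT : T ∈ distTriang (DCoh.D X)) :
    (DerSch.IsPseudoCoherentRel f (n + 1) T.obj₁ → DerSch.IsPseudoCoherentRel f n T.obj₂ →
        DerSch.IsPseudoCoherentRel f n T.obj₃) ∧
      (DerSch.IsPseudoCoherentRel f n T.obj₁ → DerSch.IsPseudoCoherentRel f n T.obj₃ →
        DerSch.IsPseudoCoherentRel f n T.obj₂) ∧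
      (DerSch.IsPseudoCoherentRel f n T.obj₂ → DerSch.IsPseudoCoherentRel f (n - 1) T.obj₃ →
        DerSch.IsPseudoCoherentRel f n T.obj₁) :=
  ⟨fun h₁ h₂ => isPseudoCoherentRel_of_two f h₁ h₂ fun U V _ φ _ => chartPC_obj₃ U V φ n T hT,
    fun h₁ h₃ => isPseudoCoherentRel_of_two f h₁ h₃ fun U V _ φ _ => chartPC_obj₂ U V φ n T hT,
    fun h₂ h₃ => isPseudoCoherentRel_of_two f h₂ h₃ fun U V _ φ _ => chartPC_obj₁ U V φ n T hT⟩

end Groth.Agent.Lib.RelPCTri17
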