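import Groth.Agent.Lib.LBaseChangeFlat
import Groth.Agent.Lib.FlatBaseChangeD
import Mathlib.RingTheory.IsTensorProduct

/-!
# Base change of relatively perfect complexes

* `hasTorAmplitudeIn_bcCx`: for a bounded above complex `G` of flat `R`-modules with tor amplitude in `[a, c]`,
  the termwise base change `G ⊗_R R'` has tor amplitude in `[a, c]` over `R'` (no derived functors involved).
* `cmpIso`: for `A' = R' ⊗_R A` the Beck–Chevalley isomorphism `(A' ⊗_A M)|_{R'} ≅ R' ⊗_R (M|_R)`,
  natural in the `A`-module `M`; `cmpCx` is the induced isomorphism of complexes.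
-/

set_option autoImplicit false
universe u

open CategoryTheory CategoryTheory.Limits Category TensorProduct

attribute [local instance] HasDerivedCategory.standard

namespace Groth.Agent.Lib.RelPerfBC

open DerivedCategory Groth.Agent.Lib.FlatBaseChangeD

section TorAmp

variable {R R' : Type u} [CommRing R] [CommRing R'] [Algebra R R']

/-- Tor amplitude of a bounded above complex of flat modules is preserved by termwise base change. -/
theorem hasTorAmplitudeIn_bcCx (G : DRing.Cx R) (hG : DRing.TermwiseFlat G) (b : ℤ)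
    (hb : DRing.VanishesAbove G b) (a c : ℤ) (h : DRing.HasTorAmplitudeIn R a c (DRing.toD G)) :
    DRing.HasTorAmplitudeIn R' a c (DRing.toD (bcCx R' G)) := by
  obtain ⟨Fl, vF, hF, ⟨e⟩⟩ := h
  have hGb : G.IsStrictlyLE (max b c) := by
    rw [CochainComplex.isStrictlyLE_iff]
    exact fun i hi => hb i (lt_of_le_of_lt (le_max_left _ _) hi)
  obtain ⟨P, p, hp, hP, hPb⟩ :=
    Groth.Agent.Lib.ProjResolution.exists_quasiIso_projective G (max b c)
  have hPflat : ∀ i, Module.Flat R (P.X i) := fun i => by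
    have := hP i
    have : Module.Projective R (P.X i) := ModuleCat.projective_of_module_projective (P.X i)
    infer_instance
  have := CochainComplex.isKProjective_of_projective P (max b c)
  obtain ⟨q, hq⟩ := Groth.Agent.Lib.DCopower.exists_Q_map_eq P Fl (Q.map p ≫ e.inv)
  have : IsIso (Q.map p) := by
    rw [DerivedCategory.isIso_Q_map_iff_quasiIso]
    exact hp
  have : IsIso (Q.map q) := by rw [hq]; infer_instance
  have hq' : QuasiIso q := (DerivedCategory.isIso_Q_map_iff_quasiIso (φ := q)).1 this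
  have hK := Groth.Agent.Lib.LBaseChangeFlat.killsFlatAcyclic_extendScalars (A := R) (B := R')
  have h1 : QuasiIso (((F R R').mapHomologicalComplex (ComplexShape.up ℤ)).map p) :=
    Groth.Agent.Lib.LBaseChangeFlat.quasiIso_map_of_flat hK p hPflat hG (max b c)
      (fun i hi => P.isZero_of_isStrictlyLE (max b c) i hi)
      (fun i hi => hb i (lt_of_le_of_lt (le_max_left _ _) hi))
  have h2 : QuasiIso (((F R R').mapHomologicalComplex (ComplexShape.up ℤ)).map q) :=
    Groth.Agent.Lib.LBaseChangeFlat.quasiIso_map_of_flat hK q hPflat hF (max b c)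
      (fun i hi => P.isZero_of_isStrictlyLE (max b c) i hi)
      (fun i hi => vF i (Or.inr (lt_of_le_of_lt (le_max_right _ _) hi)))
  have i1 : IsIso (Q.map (((F R R').mapHomologicalComplex (ComplexShape.up ℤ)).map p)) := by
    rw [DerivedCategory.isIso_Q_map_iff_quasiIso]
    exact h1
  have i2 : IsIso (Q.map (((F R R').mapHomologicalComplex (ComplexShape.up ℤ)).map q)) := by
    rw [DerivedCategory.isIso_Q_map_iff_quasiIso]
    exact h2
  exact ⟨bcCx R' Fl, vanishesOutside_bcCx vF, termwiseFlat_bcCx hF,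
    ⟨(asIso (Q.map (((F R R').mapHomologicalComplex (ComplexShape.up ℤ)).map q))).symm ≪≫
      asIso (Q.map (((F R R').mapHomologicalComplex (ComplexShape.up ℤ)).map p))⟩⟩

end TorAmp

section BeckChevalley

variable {R A R' : Type u} [CommRing R] [CommRing A] [Algebra R A] [CommRing R'] [Algebra R R']

attribute [local instance] Algebra.TensorProduct.rightAlgebra

variable (R R') in
/-- `(A' ⊗_A M)|_{R'}` for `A' = R' ⊗_R A` -/
noncomputable abbrev lhs (M : ModuleCat.{u} A) : ModuleCat.{u} R' :=
  (ModuleCat.restrictScalars.{u} (algebraMap R' (R' ⊗[R] A))).obj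
    ((ModuleCat.extendScalars.{u, u, u} (algebraMap A (R' ⊗[R] A))).obj M)

variable (R R') in
/-- `R' ⊗_R (M|_R)` -/
noncomputable abbrev rhs (M : ModuleCat.{u} A) : ModuleCat.{u} R' :=
  (ModuleCat.extendScalars.{u, u, u} (algebraMap R R')).obj
    ((ModuleCat.restrictScalars.{u} (algebraMap R A)).obj M)

variable (R R') in
/-- the `R`-module structure on an `A`-module -/
noncomputable abbrev resMod (M : ModuleCat.{u} A) : ModuleCat.{u} R :=
  (ModuleCat.restrictScalars.{u} (algebraMap R A)).obj M

instance (M : ModuleCat.{u} A) : IsScalarTower R A (resMod R M) :=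
  IsScalarTower.of_algebraMap_smul fun _ _ => rfl

variable (R R') in
/-- the middle term `(R' ⊗_R A) ⊗_A M` as an `R'`-module -/
noncomputable abbrev mid (M : ModuleCat.{u} A) : ModuleCat.{u} R' :=
  ModuleCat.of R' ((R' ⊗[R] A) ⊗[A] (resMod R M))

variable (R R') in
/-- `R' ⊗_R M` as an `R'`-module -/
noncomputable abbrev tgt (M : ModuleCat.{u} A) : ModuleCat.{u} R' :=
  ModuleCat.of R' (R' ⊗[R] (resMod R M))

variable (R R') in
/-- `(A' ⊗_A M)|_{R'} ≃ (R' ⊗_R A) ⊗_A M` -/
noncomputable def e₁ (M : ModuleCat.{u} A) : lhs R R' M ≃ₗ[R'] mid R R' M :=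
  AddEquiv.toLinearEquiv (objEquiv (A := A) (B := R' ⊗[R] A) M).toAddEquiv (by
    intro r x
    exact ((objEquiv (A := A) (B := R' ⊗[R] A) M).map_smul (algebraMap R' (R' ⊗[R] A) r) x).trans
      (algebraMap_smul (R' ⊗[R] A) r _))

variable (R R') in
/-- `(R' ⊗_R A) ⊗_A M ≃ R' ⊗_R M` -/
noncomputable def e₂ (M : ModuleCat.{u} A) : mid R R' M ≃ₗ[R'] tgt R R' M :=
  Algebra.IsPushout.cancelBaseChange R R' A (R' ⊗[R] A) (resMod R M)

variable (R R') in
/-- `R' ⊗_R (M|_R)` as an extension of scalars -/
noncomputable def e₃ (M : ModuleCat.{u} A) : rhs R R' M ≃ₗ[R'] tgt R R' M :=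
  objEquiv (A := R) (B := R') (resMod R M)

variable (R R') in
/-- the Beck–Chevalley isomorphism -/
noncomputable def cmp (M : ModuleCat.{u} A) : rhs R R' M ≃ₗ[R'] lhs R R' M :=
  (e₃ R R' M).trans ((e₂ R R' M).symm.trans (e₁ R R' M).symm)

open ChangeOfRings in
lemma cmp_tmul (M : ModuleCat.{u} A) (r : R') (m : resMod R M) :
    cmp R R' M (r ⊗ₜ[R, algebraMap R R'] m) =
      ((algebraMap R' (R' ⊗[R] A) r) ⊗ₜ[A, algebraMap A (R' ⊗[R] A)] (m : M)) := by
  change (e₁ R R' M).symm ((e₂ R R' M).symm (e₃ R R' M (r ⊗ₜ[R, algebraMap R R'] m))) = _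
  have h3 : e₃ R R' M (r ⊗ₜ[R, algebraMap R R'] m) = (r ⊗ₜ[R] m) := rfl
  rw [h3]
  have h2 : (e₂ R R' M).symm (r ⊗ₜ[R] m) =
      (algebraMap R' (R' ⊗[R] A) r) ⊗ₜ[A] m :=
    Algebra.IsPushout.cancelBaseChange_symm_tmul R R' A (R' ⊗[R] A) (resMod R M) r m
  rw [h2]
  rfl

variable (R R') in
/-- the Beck–Chevalley isomorphism as an isomorphism of `R'`-modules -/
noncomputable def cmpIso (M : ModuleCat.{u} A) : rhs R R' M ≅ lhs R R' M :=
  (cmp R R' M).toModuleIso

/-- naturality of the Beck–Chevalley isomorphism -/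
lemma cmpIso_hom_naturality {M N : ModuleCat.{u} A} (f : M ⟶ N) :
    (ModuleCat.extendScalars.{u, u, u} (algebraMap R R')).map
      ((ModuleCat.restrictScalars.{u} (algebraMap R A)).map f) ≫ (cmpIso R R' N).hom =
    (cmpIso R R' M).hom ≫ (ModuleCat.restrictScalars.{u} (algebraMap R' (R' ⊗[R] A))).map
      ((ModuleCat.extendScalars.{u, u, u} (algebraMap A (R' ⊗[R] A))).map f) := by
  apply ModuleCat.ExtendScalars.hom_ext
  intro m
  have hN := cmp_tmul (R := R) (R' := R') N 1 (f.hom m)
  have hM := cmp_tmul (R := R) (R' := R') M 1 m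
  exact hN.trans (congrArg
    ((ModuleCat.extendScalars.{u, u, u} (algebraMap A (R' ⊗[R] A))).map f).hom hM).symm

variable (R R') in
/-- the Beck–Chevalley isomorphism for complexes -/
noncomputable def cmpCx (E : DRing.Cx A) :
    ((ModuleCat.extendScalars.{u, u, u} (algebraMap R R')).mapHomologicalComplex
        (ComplexShape.up ℤ)).obj
      (((ModuleCat.restrictScalars.{u} (algebraMap R A)).mapHomologicalComplex
        (ComplexShape.up ℤ)).obj E) ≅
    ((ModuleCat.restrictScalars.{u} (algebraMap R' (R' ⊗[R] A))).mapHomologicalComplex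
        (ComplexShape.up ℤ)).obj
      (((ModuleCat.extendScalars.{u, u, u} (algebraMap A (R' ⊗[R] A))).mapHomologicalComplex
        (ComplexShape.up ℤ)).obj E) :=
  HomologicalComplex.Hom.isoOfComponents (fun i => cmpIso R R' (E.X i))
    (fun i j _ => (cmpIso_hom_naturality (R := R) (R' := R') (E.d i j)).symm)

end BeckChevalley

section Main

variable {R A R' : Type u} [CommRing R] [CommRing A] [Algebra R A] [CommRing R'] [Algebra R R']
  [Module.Flat R A]

attribute [local instance] Algebra.TensorProduct.rightAlgebra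

lemma flat_resMod (M : ModuleCat.{u} A) [h : Module.Flat A M] : Module.Flat R (resMod R M) :=
  have : Module.Flat A (resMod R M) := h
  Module.Flat.trans R A (resMod R M)

/-- Base change of the tor amplitude over the base, for a bounded above complex of finite free modules
over a flat algebra. -/
theorem hasTorAmplitudeIn_restrict_bcCx (E : DRing.Cx A) (b : ℤ) (vE : DRing.VanishesAbove E b)
    (hE : DRing.TermwiseFiniteFree E) (a c : ℤ)
    (hTor : DRing.HasTorAmplitudeIn R a c ((DRing.restrictD (algebraMap R A)).obj (DRing.toD E))) :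
    DRing.HasTorAmplitudeIn R' a c ((DRing.restrictD (algebraMap R' (R' ⊗[R] A))).obj
      (DRing.toD (bcCx (R' ⊗[R] A) E))) := by
  let G : DRing.Cx R := ((ModuleCat.restrictScalars.{u} (algebraMap R A)).mapHomologicalComplex
    (ComplexShape.up ℤ)).obj E
  have hGflat : DRing.TermwiseFlat G := fun i => by
    have := (hE i).2
    exact flat_resMod (R := R) (E.X i)
  have hGb : DRing.VanishesAbove G b := fun i hi =>
    (ModuleCat.restrictScalars.{u} (algebraMap R A)).map_isZero (vE i hi)
  have e1 : (DRing.restrictD (algebraMap R A)).obj (DRing.toD E) ≅ DRing.toD G :=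
    ((ModuleCat.restrictScalars.{u} (algebraMap R A)).mapDerivedCategoryFactors).app E
  have h1 := hasTorAmplitudeIn_bcCx (R' := R') G hGflat b hGb a c
    (hasTorAmplitudeIn_of_iso (A := R) e1 hTor)
  have e2 : (DRing.restrictD (algebraMap R' (R' ⊗[R] A))).obj
      (DRing.toD (bcCx (R' ⊗[R] A) E)) ≅ DRing.toD (bcCx R' G) :=
    ((ModuleCat.restrictScalars.{u} (algebraMap R' (R' ⊗[R] A))).mapDerivedCategoryFactors).app _ ≪≫
      Q.mapIso (cmpCx R R' E).symm
  exact hasTorAmplitudeIn_of_iso (A := R') e2.symm h1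

end Main

end Groth.Agent.Lib.RelPerfBC
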