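/-
# Closed subschemes of a relative projective space as relative Proj, part 1 (helper85)

General lemmas:
* `degMap_map`, `rho_map`, `map_mem_kerIdeal`: naturality of helper3's `ProjClosedSub.kerIdeal` under a graded ring hom
  covered by a morphism of the closed subschemes;
* `exists_pow_smul_mem_kerIdeal`: when `Z_B ⟶ Z_A` is an open immersion onto the basic open of `r`, membership in the
  ideal of `Z_B` descends to `Z_A` up to a power of `r`;
* `map_mem_of_basic`: a grading on the affine sections of a `RelSpec.QCAlg` compatible with restriction to basic opens is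
  compatible with all restrictions between affine opens (the `map_mem` field of `RelProj.QCGrAlg`);
* `isIso_projMap`, `comapGrTo`, `comapGrFrom`: `Proj.map` of mutually inverse graded homs is an iso;
* `isLocalization_away_quotientMap`: quotients of localizations;
* `toBaseSpec`, `tOf`, `rho_awayAlgMap`, `exists_pow_smul_mem_kerIdeal'`: the same with the range of `g` given as the
  preimage of `D(r) ⊆ Spec R`.
-/
import Groth.Agent.Lib.ProjClosedSub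
import Groth.Agent.Lib.H4TwistGamma
import Groth.Agent.Lib.RelProjExists
import Groth.Agent.Lib.H60GrSym

set_option autoImplicit false
universe u
open HomogeneousLocalization CategoryTheory AlgebraicGeometry Graded TopologicalSpace Opposite
open scoped HomogeneousIdeal

namespace Groth.Agent.Lib.RelProjQuot85
open Groth.Agent.Lib.ProjBaseChange Groth.Agent.Lib.GradedQuot Groth.Agent.Lib.ProjClosedSub


section naturality
variable {R A R' B : Type u} [CommRing R] [CommRing A] [Algebra R A] (𝒜 : ℕ → Submodule R A)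
  [GradedAlgebra 𝒜] [CommRing R'] [CommRing B] [Algebra R' B] (ℬ : ℕ → Submodule R' B)
  [GradedAlgebra ℬ] (ψ : 𝒜 →+*ᵍ ℬ)

lemma degMap_map {f : A} (hf : f ∈ 𝒜 1) (k : ℕ) (a : A) :
    degMap ℬ (map_mem ψ hf) k (ψ a) = Away.map ψ f (degMap 𝒜 hf k a) := by
  rw [degMap_apply, degMap_apply, Away.map_mk]
  congr 1
  exact (ψ.map_directSumDecompose).symm

variable (hψ : ℬ₊ ≤ 𝒜₊.map ψ)
  {ZA ZB : Scheme.{u}} (iA : ZA ⟶ Proj 𝒜) (iB : ZB ⟶ Proj ℬ) (g : ZB ⟶ ZA)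
  (hg : g ≫ iA = iB ≫ Proj.map ψ hψ)

include hg in
lemma preimage_eq (f : A) :
    iB ⁻¹ᵁ Proj.basicOpen ℬ (ψ f) = g ⁻¹ᵁ (iA ⁻¹ᵁ Proj.basicOpen 𝒜 f) := by
  rw [← Proj.map_preimage_basicOpen ψ hψ f, ← Scheme.Hom.comp_preimage, ← hg,
    Scheme.Hom.comp_preimage]

include hg in
lemma preimage_le (f : A) :
    iB ⁻¹ᵁ Proj.basicOpen ℬ (ψ f) ≤ g ⁻¹ᵁ (iA ⁻¹ᵁ Proj.basicOpen 𝒜 f) :=
  (preimage_eq 𝒜 ℬ ψ hψ iA iB g hg f).le

include hg in
lemma rho_map_cat (f : A) {d : ℕ} (hf : f ∈ 𝒜 d) :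
    CommRingCat.ofHom (Away.map ψ f) ≫ Proj.awayToSection ℬ (ψ f) ≫
        iB.app (Proj.basicOpen ℬ (ψ f)) =
      Proj.awayToSection 𝒜 f ≫ iA.app (Proj.basicOpen 𝒜 f) ≫
        g.appLE (iA ⁻¹ᵁ Proj.basicOpen 𝒜 f) (iB ⁻¹ᵁ Proj.basicOpen ℬ (ψ f))
          (preimage_le 𝒜 ℬ ψ hψ iA iB g hg f) := by
  rw [← Proj.awayToSection_comp_appLE_assoc ψ hψ hf]
  congr 1
  rw [Scheme.Hom.app_eq_appLE, Scheme.Hom.app_eq_appLE, Scheme.Hom.appLE_comp_appLE,
    Scheme.Hom.appLE_comp_appLE]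
  simp only [hg]

include hg in
lemma rho_map (f : A) {d : ℕ} (hf : f ∈ 𝒜 d) (y : Away 𝒜 f) :
    rho ℬ iB (ψ f) (Away.map ψ f y) =
      g.appLE (iA ⁻¹ᵁ Proj.basicOpen 𝒜 f) (iB ⁻¹ᵁ Proj.basicOpen ℬ (ψ f))
        (preimage_le 𝒜 ℬ ψ hψ iA iB g hg f) (rho 𝒜 iA f y) :=
  congr($(rho_map_cat 𝒜 ℬ ψ hψ iA iB g hg f hf) y)

variable (s : Finset A) (hs1 : ∀ f ∈ s, f ∈ 𝒜 1) (s' : Finset B) (hs1' : ∀ f ∈ s', f ∈ ℬ 1)

attribute [local instance] awayAlgebra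

include hg in
/-- Naturality of the ideal of a closed subscheme of `Proj`. -/
theorem map_mem_kerIdeal (hss : ∀ f' ∈ s', ∃ f ∈ s, ψ f = f') {p : A}
    (hp : p ∈ kerIdeal 𝒜 s hs1 iA) : ψ p ∈ kerIdeal ℬ s' hs1' iB := by
  intro f' hf' k
  obtain ⟨f, hf, rfl⟩ := hss f' hf'
  have h1 := hp f hf k
  rw [degMap_map 𝒜 ℬ ψ (hs1 f hf) k p, rho_map 𝒜 ℬ ψ hψ iA iB g hg f (hs1 f hf), h1, map_zero]

include hg in
/-- If `g : Z_B ⟶ Z_A` is an open immersion onto the basic open of a function `t` inducing `r` on the charts,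
then membership in the ideal of `Z_B` descends to `Z_A` up to a power of `r`. -/
theorem exists_pow_smul_mem_kerIdeal [QuasiCompact iA] [IsOpenImmersion g]
    (hss : ∀ f ∈ s, ψ f ∈ s') (r : R) (t : Γ(ZA, ⊤)) (hgr : g.opensRange = ZA.basicOpen t)
    (ht : ∀ f ∈ s, rho 𝒜 iA f (awayAlgMap 𝒜 f r) =
      ZA.presheaf.map (homOfLE (le_top : iA ⁻¹ᵁ Proj.basicOpen 𝒜 f ≤ ⊤)).op t)
    {q : A} (hq : ψ q ∈ kerIdeal ℬ s' hs1' iB) :
    ∃ M : ℕ, r ^ M • q ∈ kerIdeal 𝒜 s hs1 iA := by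
  classical
  -- the key pointwise statement
  have key : ∀ (f : A) (hf : f ∈ s) (k : ℕ), ∃ M : ℕ,
      rho 𝒜 iA f (awayAlgMap 𝒜 f r) ^ M * rho 𝒜 iA f (degMap 𝒜 (hs1 f hf) k q) = 0 := by
    intro f hf k
    have h1 := hq (ψ f) (hss f hf) k
    rw [degMap_map 𝒜 ℬ ψ (hs1 f hf) k q, rho_map 𝒜 ℬ ψ hψ iA iB g hg f (hs1 f hf)] at h1
    set W := iA ⁻¹ᵁ Proj.basicOpen 𝒜 f with hW
    set W' := iB ⁻¹ᵁ Proj.basicOpen ℬ (ψ f) with hW'
    set z := rho 𝒜 iA f (degMap 𝒜 (hs1 f hf) k q) with hz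
    have hcomp : IsCompact (W : Set ZA) :=
      iA.isCompact_preimage (Proj.isAffineOpen_basicOpen 𝒜 f (hs1 f hf) one_pos).isCompact
    have h2 := congr($(Scheme.Hom.appLE_appIso_inv g
      (preimage_le 𝒜 ℬ ψ hψ iA iB g hg f)) z)
    rw [CommRingCat.comp_apply, h1, map_zero] at h2
    rw [ht f hf]
    apply exists_pow_mul_eq_zero_of_res_basicOpen_eq_zero_of_isCompact ZA hcomp
    have hle : ZA.basicOpen (ZA.presheaf.map (homOfLE (le_top : W ≤ ⊤)).op t) ≤ g ''ᵁ W' := by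
      rw [Scheme.basicOpen_res, ← hgr, hW', preimage_eq 𝒜 ℬ ψ hψ iA iB g hg f,
        Scheme.Hom.image_preimage_eq_opensRange_inf, inf_comm]
    have h3 : ZA.presheaf.map (homOfLE hle).op (ZA.presheaf.map (homOfLE
      ((g.image_mono (preimage_le 𝒜 ℬ ψ hψ iA iB g hg f)).trans
          (g.image_preimage_eq_opensRange_inf W ▸ inf_le_right))).op z) = 0 := by
      rw [← h2, map_zero]
    rw [← CommRingCat.comp_apply, ← Functor.map_comp] at h3
    exact h3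
  choose Mf hMf using key
  let K : Finset ℕ := (DirectSum.decompose 𝒜 q).support
  let M : ℕ := (s.attach ×ˢ K).sup (fun x => Mf x.1.1 x.1.2 x.2)
  refine ⟨M, ?_⟩
  intro f hf k
  rw [(degMap 𝒜 (hs1 f hf) k).map_smul, smul_eq, map_mul, map_pow, map_pow]
  by_cases hk : k ∈ K
  · have hmem : ((⟨f, hf⟩, k) : {x // x ∈ s} × ℕ) ∈ s.attach ×ˢ K :=
      Finset.mem_product.2 ⟨Finset.mem_attach s ⟨f, hf⟩, hk⟩
    have hle : Mf f hf k ≤ M :=
      Finset.le_sup (f := fun x : {x // x ∈ s} × ℕ => Mf x.1.1 x.1.2 x.2) hmem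
    obtain ⟨c, hc⟩ := Nat.exists_eq_add_of_le hle
    rw [hc, pow_add, mul_comm (_ ^ Mf f hf k), mul_assoc, hMf f hf k, mul_zero]
  · have h0 : DirectSum.decompose 𝒜 q k = 0 := by
      simpa [K] using hk
    have h1 : degMap 𝒜 (hs1 f hf) k q = 0 := by
      apply HomogeneousLocalization.val_injective
      have h2 : (DirectSum.decompose 𝒜 q (k • 1) : A) = 0 := by
        have : k • 1 = k := by simp
        rw [this, h0]; rfl
      rw [degMap_apply, Away.val_mk, h2, HomogeneousLocalization.val_zero, Localization.mk_zero]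
    rw [h1, map_zero, mul_zero]

end naturality



section mapmem
variable {S : Scheme.{u}} (𝒜 : RelSpec.QCAlg S)
  (deg : ∀ (U : S.Opens), IsAffineOpen U → ℕ → AddSubgroup (𝒜.presheaf.obj (op U)))
  (graded : ∀ (U : S.Opens) (hU : IsAffineOpen U), GradedRing (deg U hU))
  (hb : ∀ {U W : S.Opens} (hU : IsAffineOpen U) (hW : IsAffineOpen W)
    (_ : ∃ r : Γ(S, U), S.basicOpen r = W) (j : W ≤ U) (d : ℕ) (x : 𝒜.presheaf.obj (op U)),
    x ∈ deg U hU d → (𝒜.presheaf.map (homOfLE j).op).hom x ∈ deg W hW d)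

include graded hb in
/-- A grading on the sections over affine opens which is compatible with restriction to basic opens is compatible
with restriction between arbitrary affine opens. -/
theorem map_mem_of_basic {U V : S.Opens} (hU : IsAffineOpen U) (hV : IsAffineOpen V) (i : V ≤ U)
    {d : ℕ} {x : 𝒜.presheaf.obj (op U)} (hx : x ∈ deg U hU d) :
    (𝒜.presheaf.map (homOfLE i).op).hom x ∈ deg V hV d := by
  classical
  let _ := graded
  set y := (𝒜.presheaf.map (homOfLE i).op).hom x with hy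
  suffices h : ∀ e : ℕ, e ≠ d → ((DirectSum.decompose (deg V hV) y e : deg V hV e) :
      𝒜.presheaf.obj (op V)) = 0 by
    have h1 : y = ((DirectSum.decompose (deg V hV) y d : deg V hV d) : 𝒜.presheaf.obj (op V)) := by
      conv_lhs => rw [← DirectSum.sum_support_decompose (deg V hV) y]
      apply Finset.sum_eq_single d
      · intro e _ hed
        exact h e hed
      · intro hd
        rw [DFinsupp.notMem_support_iff] at hd
        rw [hd]; rfl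
    rw [h1]
    exact SetLike.coe_mem _
  intro e hed
  set ye : 𝒜.presheaf.obj (op V) := ((DirectSum.decompose (deg V hV) y e : deg V hV e) :
      𝒜.presheaf.obj (op V)) with hye
  -- local vanishing
  have hloc : ∀ v : V, ∃ (W : S.Opens) (hWV : W ≤ V), (v : S) ∈ W ∧
      (𝒜.presheaf.map (homOfLE hWV).op).hom ye = 0 := by
    intro v
    obtain ⟨a, b, hab, hv⟩ := exists_basicOpen_le_affine_inter hU hV v.1 ⟨i v.2, v.2⟩
    have hWV : S.basicOpen b ≤ V := S.basicOpen_le b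
    have hW : IsAffineOpen (S.basicOpen b) := hV.basicOpen b
    refine ⟨S.basicOpen b, hWV, hab ▸ hv, ?_⟩
    -- the graded ring hom V → W
    let ρ : deg V hV →+*ᵍ deg (S.basicOpen b) hW :=
      { (𝒜.presheaf.map (homOfLE hWV).op).hom with
        map_mem := fun {d x} hx => hb hV hW ⟨b, rfl⟩ hWV d x hx }
    have h1 : (𝒜.presheaf.map (homOfLE hWV).op).hom ye =
        ((DirectSum.decompose (deg (S.basicOpen b) hW) (ρ y) e : deg (S.basicOpen b) hW e) :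
          𝒜.presheaf.obj (op (S.basicOpen b))) :=
      (ρ.map_directSumDecompose (x := y) (i := e))
    rw [h1]
    have h2 : ρ y ∈ deg (S.basicOpen b) hW d := by
      have h3 : ρ y = (𝒜.presheaf.map (homOfLE (hWV.trans i)).op).hom x := by
        change (𝒜.presheaf.map (homOfLE hWV).op).hom ((𝒜.presheaf.map (homOfLE i).op).hom x) = _
        rw [← CommRingCat.comp_apply, ← Functor.map_comp]
        rfl
      rw [h3]
      exact hb hU hW ⟨a, hab⟩ (hWV.trans i) d x hx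
    rw [DirectSum.decompose_of_mem_ne (deg (S.basicOpen b) hW) h2 (Ne.symm hed)]
  choose W hWV hvW hW0 using hloc
  refine TopCat.Sheaf.eq_of_locally_eq' (⟨𝒜.presheaf, 𝒜.isSheaf⟩ : TopCat.Sheaf CommRingCat S.carrier)
    W V (fun v => homOfLE (hWV v)) (fun v hv => ?_) ye 0 (fun v => ?_)
  · exact Opens.mem_iSup.2 ⟨⟨v, hv⟩, hvW ⟨v, hv⟩⟩
  · rw [map_zero]
    exact hW0 v

end mapmem



section projiso
variable {A B σ τ : Type u} [CommRing A] [SetLike σ A] [AddSubgroupClass σ A]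
  [CommRing B] [SetLike τ B] [AddSubgroupClass τ B]
  {𝒜 : ℕ → σ} {ℬ : ℕ → τ} [GradedRing 𝒜] [GradedRing ℬ]

lemma irrelevant_le_map_of_rightInverse (φ : 𝒜 →+*ᵍ ℬ) (ψ : ℬ →+*ᵍ 𝒜) (h2 : ∀ b, φ (ψ b) = b) :
    ℬ₊ ≤ 𝒜₊.map φ := by
  rw [HomogeneousIdeal.irrelevant_le]
  intro i hi b hb
  change b ∈ Ideal.map φ (𝒜₊.toIdeal)
  rw [← h2 b]
  exact Ideal.mem_map_of_mem _ (HomogeneousIdeal.mem_irrelevant_of_mem _ hi (ψ.map_mem hb))

lemma projMap_comp_of_inverse (φ : 𝒜 →+*ᵍ ℬ) (ψ : ℬ →+*ᵍ 𝒜) (h1 : ∀ a, ψ (φ a) = a)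
    (hφ : ℬ₊ ≤ 𝒜₊.map φ) (hψ : 𝒜₊ ≤ ℬ₊.map ψ) :
    Proj.map ψ hψ ≫ Proj.map φ hφ = 𝟙 _ := by
  rw [← Proj.map_comp]
  have h : ψ.comp φ = GradedRingHom.id 𝒜 := by
    ext a; exact h1 a
  rw [Groth.Agent.Lib.RelProjExists.projMap_congr h _ (by simp)]
  exact Proj.map_id

lemma isIso_projMap (φ : 𝒜 →+*ᵍ ℬ) (ψ : ℬ →+*ᵍ 𝒜) (h1 : ∀ a, ψ (φ a) = a) (h2 : ∀ b, φ (ψ b) = b)
    (hφ : ℬ₊ ≤ 𝒜₊.map φ) : IsIso (Proj.map φ hφ) :=
  ⟨Proj.map ψ (irrelevant_le_map_of_rightInverse ψ φ h1),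
    projMap_comp_of_inverse ψ φ h2 _ _, projMap_comp_of_inverse φ ψ h1 _ _⟩

end projiso

section comap
open Groth.Agent.Lib.H60GrSym
variable {A B τ : Type u} [CommRing A] [CommRing B] [SetLike τ B] [AddSubgroupClass τ B]
  (e : A ≃+* B) (ℬ : ℕ → τ) [GradedRing ℬ]

/-- the graded ring hom `comapGr e ℬ → ℬ` -/
def comapGrTo : comapGr e ℬ →+*ᵍ ℬ :=
  { e.toRingHom with map_mem := fun {_ _} hx => hx }

/-- the graded ring hom `ℬ → comapGr e ℬ` -/
def comapGrFrom : ℬ →+*ᵍ comapGr e ℬ :=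
  { e.symm.toRingHom with
    map_mem := fun {i x} hx => by
      change e (e.symm x) ∈ ℬ i
      rw [RingEquiv.apply_symm_apply]; exact hx }

omit [GradedRing ℬ] in
@[simp] lemma comapGrTo_apply (a : A) : comapGrTo e ℬ a = e a := rfl
omit [GradedRing ℬ] in
@[simp] lemma comapGrFrom_apply (b : B) : comapGrFrom e ℬ b = e.symm b := rfl

end comap



section quotloc
variable {P P' : Type u} [CommRing P] [CommRing P'] (ψ : P →+* P') (r : P) (I : Ideal P) (I' : Ideal P')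
  (hI : I ≤ I'.comap ψ)

/-- A quotient of a localization is a localization of a quotient. -/
theorem isLocalization_away_quotientMap
    (hu : IsUnit (ψ r))
    (hs : ∀ p' : P', ∃ (N : ℕ) (p : P), ψ p = ψ r ^ N * p')
    (hk : ∀ q : P, ψ q ∈ I' → ∃ M : ℕ, r ^ M * q ∈ I) :
    letI := (Ideal.quotientMap I' ψ hI).toAlgebra
    IsLocalization.Away (Ideal.Quotient.mk I r) (P' ⧸ I') := by
  letI := (Ideal.quotientMap I' ψ hI).toAlgebra
  have halg : ∀ x : P ⧸ I, algebraMap (P ⧸ I) (P' ⧸ I') x = Ideal.quotientMap I' ψ hI x := fun _ => rfl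
  rw [IsLocalization.Away, isLocalization_iff]
  refine ⟨?_, ?_, ?_⟩
  · rintro ⟨_, k, rfl⟩
    rw [halg, map_pow, Ideal.quotientMap_mk]
    exact (hu.map (Ideal.Quotient.mk I')).pow k
  · intro z
    obtain ⟨p', rfl⟩ := Ideal.Quotient.mk_surjective z
    obtain ⟨N, p, hp⟩ := hs p'
    refine ⟨⟨Ideal.Quotient.mk I p, ⟨Ideal.Quotient.mk I r ^ N, N, rfl⟩⟩, ?_⟩
    simp only [halg, map_pow, Ideal.quotientMap_mk]
    rw [hp, map_mul, map_pow, mul_comm]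
  · intro x y hxy
    obtain ⟨q₁, rfl⟩ := Ideal.Quotient.mk_surjective x
    obtain ⟨q₂, rfl⟩ := Ideal.Quotient.mk_surjective y
    simp only [halg, Ideal.quotientMap_mk] at hxy
    rw [← sub_eq_zero, ← map_sub, ← map_sub, Ideal.Quotient.eq_zero_iff_mem] at hxy
    obtain ⟨M, hM⟩ := hk _ hxy
    refine ⟨⟨Ideal.Quotient.mk I r ^ M, M, rfl⟩, ?_⟩
    change Ideal.Quotient.mk I r ^ M * _ = Ideal.Quotient.mk I r ^ M * _
    rw [← sub_eq_zero, ← mul_sub, ← map_sub, ← map_pow, ← map_mul, Ideal.Quotient.eq_zero_iff_mem]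
    exact hM

end quotloc

section generic
variable {R A : Type u} [CommRing R] [CommRing A] [Algebra R A] (𝒜 : ℕ → Submodule R A)
  [GradedAlgebra 𝒜]

/-- the structure morphism `Proj 𝒜 ⟶ Spec R` -/
noncomputable def toBaseSpec : Proj 𝒜 ⟶ Spec (CommRingCat.of R) :=
  Proj.toSpecZero 𝒜 ≫ Spec.map (CommRingCat.ofHom (algebraMap R (𝒜 0)))

variable {Z : Scheme.{u}} (j : Z ⟶ Proj 𝒜)

/-- the function `r ∈ R` pulled back to `Z` -/
noncomputable def tOf (r : R) : Γ(Z, ⊤) :=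
  (j ≫ toBaseSpec 𝒜).appTop ((Scheme.ΓSpecIso (CommRingCat.of R)).inv r)

lemma basicOpen_tOf (r : R) :
    Z.basicOpen (tOf 𝒜 j r) = (j ≫ toBaseSpec 𝒜) ⁻¹ᵁ PrimeSpectrum.basicOpen r := by
  unfold tOf
  rw [← Scheme.preimage_basicOpen_top]
  congr 1
  exact (basicOpen_eq_of_affine' _).trans (by simp)

lemma rho_awayAlgMap_aux {m : ℕ} (f : A) (hf : f ∈ 𝒜 m) (hm : 0 < m) :
    (Scheme.ΓSpecIso (CommRingCat.of R)).inv ≫ (j ≫ toBaseSpec 𝒜).appTop ≫
      Z.presheaf.map (homOfLE (le_top : j ⁻¹ᵁ Proj.basicOpen 𝒜 f ≤ ⊤)).op =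
      CommRingCat.ofHom (algebraMap R (𝒜 0)) ≫
        CommRingCat.ofHom (fromZeroRingHom 𝒜 (Submonoid.powers f)) ≫
          Proj.awayToSection 𝒜 f ≫ j.app (Proj.basicOpen 𝒜 f) := by
  have H := Groth.Agent.Lib.H4Twist.toSpecZero_appTop_res 𝒜 f hf hm
  have hnat : j.appTop ≫ Z.presheaf.map (homOfLE (le_top : j ⁻¹ᵁ Proj.basicOpen 𝒜 f ≤ ⊤)).op =
      (Proj 𝒜).presheaf.map (homOfLE (le_top : Proj.basicOpen 𝒜 f ≤ ⊤)).op ≫
        j.app (Proj.basicOpen 𝒜 f) :=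
    (j.naturality (homOfLE (le_top : Proj.basicOpen 𝒜 f ≤ ⊤)).op).symm
  rw [toBaseSpec, Scheme.Hom.comp_appTop, Scheme.Hom.comp_appTop, Category.assoc, Category.assoc,
    hnat, ← Scheme.ΓSpecIso_inv_naturality_assoc, reassoc_of% H]

lemma rho_awayAlgMap {m : ℕ} (f : A) (hf : f ∈ 𝒜 m) (hm : 0 < m) (r : R) :
    rho 𝒜 j f (awayAlgMap 𝒜 f r) =
      Z.presheaf.map (homOfLE (le_top : j ⁻¹ᵁ Proj.basicOpen 𝒜 f ≤ ⊤)).op (tOf 𝒜 j r) := by
  have key2 := congr($(rho_awayAlgMap_aux 𝒜 j f hf hm) r)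
  rw [rho_apply]
  unfold tOf awayAlgMap
  simp only [RingHom.comp_apply] at key2 ⊢
  exact key2.symm

end generic

section rpow
variable {R A R' B : Type u} [CommRing R] [CommRing A] [Algebra R A] (𝒜 : ℕ → Submodule R A)
  [GradedAlgebra 𝒜] [CommRing R'] [CommRing B] [Algebra R' B] (ℬ : ℕ → Submodule R' B)
  [GradedAlgebra ℬ] (ψ : 𝒜 →+*ᵍ ℬ) (hψ : ℬ₊ ≤ 𝒜₊.map ψ)
  {ZA ZB : Scheme.{u}} (iA : ZA ⟶ Proj 𝒜) (iB : ZB ⟶ Proj ℬ) (g : ZB ⟶ ZA)
  (hg : g ≫ iA = iB ≫ Proj.map ψ hψ)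
  (s : Finset A) (hs1 : ∀ f ∈ s, f ∈ 𝒜 1) (s' : Finset B) (hs1' : ∀ f ∈ s', f ∈ ℬ 1)

attribute [local instance] awayAlgebra

include hg in
/-- Variant of `exists_pow_smul_mem_kerIdeal` with the hypothesis on the range of `g` in terms of opens only. -/
theorem exists_pow_smul_mem_kerIdeal' [QuasiCompact iA] [IsOpenImmersion g]
    (hss : ∀ f ∈ s, ψ f ∈ s') (r : R)
    (hgr : g.opensRange = (iA ≫ toBaseSpec 𝒜) ⁻¹ᵁ PrimeSpectrum.basicOpen r)
    {q : A} (hq : ψ q ∈ kerIdeal ℬ s' hs1' iB) :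
    ∃ M : ℕ, r ^ M • q ∈ kerIdeal 𝒜 s hs1 iA :=
  exists_pow_smul_mem_kerIdeal 𝒜 ℬ ψ hψ iA iB g hg s hs1 s' hs1' hss r (tOf 𝒜 iA r)
    (hgr.trans (basicOpen_tOf 𝒜 iA r).symm)
    (fun f hf => rho_awayAlgMap 𝒜 iA f (hs1 f hf) one_pos r) hq

end rpow

end Groth.Agent.Lib.RelProjQuot85
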