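/-
# Closed subschemes of a relative Proj are projective (helper28)

For `𝒯 : RelProj.QCGrAlg Y` generated in degree one with degree-one part of finite type, `p : P ⟶ Y` its
relative Proj (`RelProj.IsRelProj 𝒯 p chart`) and a closed immersion `i : Z ⟶ P`:
* `IU 𝒯 p chart i U hU`: the (largest) homogeneous ideal of `𝒯(U)` cutting out `(i ≫ p)⁻¹(U)` in `Proj 𝒯(U)`;
  `res_mem_IU`, `exists_pow_mul_mem_IU`, `IU_le_comap`: compatibility with restrictions;
* `Data`: the bundled data; `Data.qAlg`, `Data.qGrAlg` (the quotient graded algebra `𝒯/I`), `Data.qEquiv`,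
  `Data.isGenDegOne`, `Data.isFTDeg_one`, `Data.chart'`, `Data.isRelProj`;
* `isProjective_comp_of_isClosedImmersion`, `isProjective_comp`: `i ≫ p` is projective (`RelProj.IsProjective`);
  generalises helper85's `RelProjQuot85.isProjective` from `P^n_S` to any such relative Proj.
-/
import Groth.Agent.Lib.ProjVanIdeal
import Groth.Agent.Lib.H60CanonPhi
import Groth.Agent.Lib.RelTwistInv
import Groth.Agent.Lib.RelProjQuot85a
import Groth.Agent.Lib.QCAlgOfAffine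
import Groth.Prelude.Def_RelProj2

set_option autoImplicit false
set_option linter.unusedSectionVars false
universe u
open HomogeneousLocalization CategoryTheory AlgebraicGeometry Graded TopologicalSpace Opposite
open scoped HomogeneousIdeal
open Groth.Agent.Lib.GradedQuotAdd Groth.Agent.Lib.ProjVanIdeal
open Groth.Agent.Lib.H60GrSym Groth.Agent.Lib.QCAlgOfAffine Groth.Agent.Lib.RelProjQuot85

namespace Groth.Agent.Lib.RelProjClosed

/-! ## part 1 -/
section generic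
variable {A σ : Type u} [CommRing A] [SetLike σ A] [AddSubgroupClass σ A] (𝒜 : ℕ → σ) [GradedRing 𝒜]
  {R : CommRingCat.{u}} (φ : R ⟶ CommRingCat.of (𝒜 0))

/-- the structure morphism `Proj 𝒜 ⟶ Spec R` -/
noncomputable def toBase : Proj 𝒜 ⟶ Spec R := Proj.toSpecZero 𝒜 ≫ Spec.map φ

variable {Z : Scheme.{u}} (ι : Z ⟶ Proj 𝒜)

/-- the function `r ∈ R` pulled back to `Z` -/
noncomputable def tOf (r : R) : Γ(Z, ⊤) :=
  (ι ≫ toBase 𝒜 φ).appTop ((Scheme.ΓSpecIso R).inv r)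

lemma basicOpen_tOf (r : R) :
    Z.basicOpen (tOf 𝒜 φ ι r) = (ι ≫ toBase 𝒜 φ) ⁻¹ᵁ PrimeSpectrum.basicOpen r := by
  unfold tOf
  rw [← Scheme.preimage_basicOpen_top]
  congr 1
  exact (basicOpen_eq_of_affine' _).trans (by simp)

lemma zmk_eq_fromZero {m : ℕ} (f : A) (hf : f ∈ 𝒜 m) (s : 𝒜 0) :
    zmk 𝒜 hf (s : A) s.2 = fromZeroRingHom 𝒜 (Submonoid.powers f) s := by
  apply HomogeneousLocalization.val_injective
  rw [val_zmk]
  rfl

lemma rho_zmk_aux {m : ℕ} (f : A) (hf : f ∈ 𝒜 m) (hm : 0 < m) :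
    (Scheme.ΓSpecIso R).inv ≫ (ι ≫ toBase 𝒜 φ).appTop ≫
      Z.presheaf.map (homOfLE (le_top : ι ⁻¹ᵁ Proj.basicOpen 𝒜 f ≤ ⊤)).op =
      φ ≫ CommRingCat.ofHom (fromZeroRingHom 𝒜 (Submonoid.powers f)) ≫
          Proj.awayToSection 𝒜 f ≫ ι.app (Proj.basicOpen 𝒜 f) := by
  have H := Groth.Agent.Lib.H60CanonPhi.toSpecZero_appTop_res 𝒜 f hf hm
  have hnat : ι.appTop ≫ Z.presheaf.map (homOfLE (le_top : ι ⁻¹ᵁ Proj.basicOpen 𝒜 f ≤ ⊤)).op =
      (Proj 𝒜).presheaf.map (homOfLE (le_top : Proj.basicOpen 𝒜 f ≤ ⊤)).op ≫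
        ι.app (Proj.basicOpen 𝒜 f) :=
    (ι.naturality (homOfLE (le_top : Proj.basicOpen 𝒜 f ≤ ⊤)).op).symm
  rw [toBase, Scheme.Hom.comp_appTop, Scheme.Hom.comp_appTop, Category.assoc, Category.assoc,
    hnat, ← Scheme.ΓSpecIso_inv_naturality_assoc, reassoc_of% H]

lemma rho_zmk {m : ℕ} (f : A) (hf : f ∈ 𝒜 m) (hm : 0 < m) (r : R) :
    rho 𝒜 ι f (zmk 𝒜 hf ((φ.hom r : 𝒜 0) : A) (φ.hom r).2) =
      Z.presheaf.map (homOfLE (le_top : ι ⁻¹ᵁ Proj.basicOpen 𝒜 f ≤ ⊤)).op (tOf 𝒜 φ ι r) := by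
  have key2 := congr($(rho_zmk_aux 𝒜 φ ι f hf hm) r)
  rw [rho_apply, zmk_eq_fromZero]
  unfold tOf
  exact key2.symm

end generic

/-! ## part 2 -/
section geom
variable {Y P Z : Scheme.{u}} (𝒯 : RelProj.QCGrAlg Y) (p : P ⟶ Y)
  (chart : ∀ (U : Y.Opens) (hU : IsAffineOpen U),
    (((p ⁻¹ᵁ U : P.Opens) : Scheme.{u}) ≅ Proj (𝒯.deg U hU)))
  (i : Z ⟶ P)

/-- the preimage of `U` in `Z` -/
abbrev ZU (U : Y.Opens) : Z.Opens := (i ≫ p) ⁻¹ᵁ U

lemma opensRange_emb (U : Y.Opens) (hU : IsAffineOpen U) :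
    (RelProj.emb p chart U hU).opensRange = p ⁻¹ᵁ U := by
  unfold RelProj.emb
  rw [Scheme.Hom.opensRange_comp_of_isIso, Scheme.Opens.opensRange_ι]

lemma range_ι_comp_subset (U : Y.Opens) (hU : IsAffineOpen U) :
    Set.range ((ZU p i U).ι ≫ i) ⊆ Set.range (RelProj.emb p chart U hU) := by
  rintro _ ⟨x, rfl⟩
  have h : ((ZU p i U).ι ≫ i) x ∈ (RelProj.emb p chart U hU).opensRange := by
    rw [opensRange_emb]
    exact x.2
  exact h

/-- the morphism `(i ≫ p)⁻¹(U) ⟶ Proj 𝒯(U)` -/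
noncomputable def iU (U : Y.Opens) (hU : IsAffineOpen U) :
    ((ZU p i U : Z.Opens) : Scheme.{u}) ⟶ Proj (𝒯.deg U hU) :=
  IsOpenImmersion.lift (RelProj.emb p chart U hU) ((ZU p i U).ι ≫ i)
    (range_ι_comp_subset 𝒯 p chart i U hU)

@[reassoc]
lemma iU_emb (U : Y.Opens) (hU : IsAffineOpen U) :
    iU 𝒯 p chart i U hU ≫ RelProj.emb p chart U hU = (ZU p i U).ι ≫ i :=
  IsOpenImmersion.lift_fac _ _ _

lemma isPullback_iU (U : Y.Opens) (hU : IsAffineOpen U) :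
    IsPullback (iU 𝒯 p chart i U hU) (ZU p i U).ι (RelProj.emb p chart U hU) i := by
  refine IsOpenImmersion.isPullback _ _ _ _ (iU_emb 𝒯 p chart i U hU).symm ?_
  rw [opensRange_emb, Scheme.Opens.opensRange_ι]
  rfl

instance [IsClosedImmersion i] (U : Y.Opens) (hU : IsAffineOpen U) :
    IsClosedImmersion (iU 𝒯 p chart i U hU) :=
  MorphismProperty.of_isPullback (P := @IsClosedImmersion)
    (isPullback_iU 𝒯 p chart i U hU).flip inferInstance

variable (hP : RelProj.IsRelProj 𝒯 p chart)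

include hP in
lemma emb_toBase (U : Y.Opens) (hU : IsAffineOpen U) :
    toBase (𝒯.deg U hU) (𝒯.strZero U hU) ≫ hU.fromSpec = RelProj.emb p chart U hU ≫ p := by
  have e := hP.chart_over U hU
  unfold RelProj.emb toBase
  rw [Category.assoc, Category.assoc, ← e, Iso.inv_hom_id_assoc]

include hP in
lemma iU_toBase (U : Y.Opens) (hU : IsAffineOpen U) :
    iU 𝒯 p chart i U hU ≫ toBase (𝒯.deg U hU) (𝒯.strZero U hU) ≫ hU.fromSpec =
      (ZU p i U).ι ≫ i ≫ p := by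
  rw [emb_toBase 𝒯 p chart hP, iU_emb_assoc]

include hP in
lemma homOfLE_iU (U : Y.Opens) (hU : IsAffineOpen U) (r : Γ(Y, U)) :
    Z.homOfLE ((i ≫ p).preimage_mono (Y.basicOpen_le r)) ≫ iU 𝒯 p chart i U hU =
      iU 𝒯 p chart i (Y.basicOpen r) (hU.basicOpen r) ≫
        Proj.map (𝒯.res hU (hU.basicOpen r) (Y.basicOpen_le r)) (𝒯.irrelevant_le_map U hU r) := by
  rw [← cancel_mono (RelProj.emb p chart U hU), Category.assoc, Category.assoc, iU_emb,
    RelProj.map_res_emb hP U hU r, iU_emb, Scheme.homOfLE_ι_assoc]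

include hP in
lemma opensRange_homOfLE_basicOpen (U : Y.Opens) (hU : IsAffineOpen U) (r : Γ(Y, U)) :
    (Z.homOfLE ((i ≫ p).preimage_mono (Y.basicOpen_le r))).opensRange =
      (iU 𝒯 p chart i U hU ≫ toBase (𝒯.deg U hU) (𝒯.strZero U hU)) ⁻¹ᵁ
        PrimeSpectrum.basicOpen r := by
  rw [Scheme.opensRange_homOfLE, ← hU.fromSpec_preimage_basicOpen]
  change _ = ((iU 𝒯 p chart i U hU ≫ toBase (𝒯.deg U hU) (𝒯.strZero U hU)) ≫ hU.fromSpec) ⁻¹ᵁ
    Y.basicOpen r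
  rw [Category.assoc, iU_toBase 𝒯 p chart i hP]
  rfl

end geom

/-! ## part 3 -/
section ideal
variable {Y P Z : Scheme.{u}} (𝒯 : RelProj.QCGrAlg Y) (p : P ⟶ Y)
  (chart : ∀ (U : Y.Opens) (hU : IsAffineOpen U),
    (((p ⁻¹ᵁ U : P.Opens) : Scheme.{u}) ≅ Proj (𝒯.deg U hU)))
  (i : Z ⟶ P)

/-- the homogeneous ideal of `(i ≫ p)⁻¹(U)` in `𝒯(U)` -/
noncomputable def IU (U : Y.Opens) (hU : IsAffineOpen U) : Ideal (𝒯.presheaf.obj (op U)) :=
  vanIdeal (𝒯.deg U hU) (iU 𝒯 p chart i U hU)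

lemma IU_isHomogeneous (U : Y.Opens) (hU : IsAffineOpen U) :
    (IU 𝒯 p chart i U hU).IsHomogeneous (𝒯.deg U hU) :=
  vanIdeal_isHomogeneous _ _

variable (hgen : 𝒯.IsGenDegOne)

include hgen in
lemma exists_degOne (U : Y.Opens) (hU : IsAffineOpen U) (x : Proj (𝒯.deg U hU)) :
    ∃ f ∈ 𝒯.deg U hU 1, x ∈ Proj.basicOpen (𝒯.deg U hU) f := by
  obtain ⟨f, hf, hfx⟩ :=
    Groth.Agent.Lib.RelTwistInv.exists_degree_one_notMem_of_closure (𝒜 := 𝒯.deg U hU) (hgen U hU) x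
  exact ⟨f, hf, (Proj.mem_basicOpen (𝒯.deg U hU) _ _).mpr hfx⟩

variable (hft : 𝒯.IsFTDeg 1)

include hgen hft in
lemma exists_finset_cover (U : Y.Opens) (hU : IsAffineOpen U) :
    ∃ G : Finset (𝒯.presheaf.obj (op U)), (∀ g ∈ G, g ∈ 𝒯.deg U hU 1) ∧
      ∀ x : Proj (𝒯.deg U hU), ∃ g ∈ G, x ∈ Proj.basicOpen (𝒯.deg U hU) g := by
  classical
  obtain ⟨T, hT1, hT⟩ := hft U hU
  refine ⟨T, fun g hg => hT1 hg, fun x => ?_⟩
  obtain ⟨f, hf, hfx⟩ := exists_degOne 𝒯 hgen U hU x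
  by_contra H
  push Not at H
  apply (Proj.mem_basicOpen _ f x).1 hfx
  obtain ⟨c, hc⟩ := hT f hf
  rw [hc]
  refine Ideal.sum_mem _ fun t ht => Ideal.mul_mem_left _ _ ?_
  have := H t ht
  rw [Proj.mem_basicOpen, not_not] at this
  exact this

variable (hP : RelProj.IsRelProj 𝒯 p chart)

include hP hgen in
/-- restriction to a basic open preserves the ideals -/
theorem res_mem_IU (U : Y.Opens) (hU : IsAffineOpen U) (r : Γ(Y, U))
    {a : 𝒯.presheaf.obj (op U)} (ha : a ∈ IU 𝒯 p chart i U hU) :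
    𝒯.res hU (hU.basicOpen r) (Y.basicOpen_le r) a ∈
      IU 𝒯 p chart i (Y.basicOpen r) (hU.basicOpen r) := by
  refine map_mem_vanIdeal (𝒯.deg U hU) (𝒯.deg (Y.basicOpen r) (hU.basicOpen r))
    (𝒯.res hU (hU.basicOpen r) (Y.basicOpen_le r)) (𝒯.irrelevant_le_map U hU r)
    (iU 𝒯 p chart i U hU) (iU 𝒯 p chart i (Y.basicOpen r) (hU.basicOpen r))
    (Z.homOfLE ((i ≫ p).preimage_mono (Y.basicOpen_le r)))
    (homOfLE_iU 𝒯 p chart i hP U hU r) ?_ ha
  intro z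
  obtain ⟨f, hf, hfx⟩ := exists_degOne 𝒯 hgen U hU
    ((Proj.map (𝒯.res hU (hU.basicOpen r) (Y.basicOpen_le r)) (𝒯.irrelevant_le_map U hU r)).base
      ((iU 𝒯 p chart i (Y.basicOpen r) (hU.basicOpen r)).base z))
  refine ⟨f, hf, ?_⟩
  have h1 := Proj.map_preimage_basicOpen (𝒯.res hU (hU.basicOpen r) (Y.basicOpen_le r))
    (𝒯.irrelevant_le_map U hU r) f
  rw [← h1]
  exact hfx

include hP hgen hft in
/-- descending membership in the ideals from a basic open, up to a power -/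
theorem exists_pow_mul_mem_IU [IsClosedImmersion i] (U : Y.Opens) (hU : IsAffineOpen U) (r : Γ(Y, U))
    (q : 𝒯.presheaf.obj (op U))
    (hq : 𝒯.res hU (hU.basicOpen r) (Y.basicOpen_le r) q ∈
      IU 𝒯 p chart i (Y.basicOpen r) (hU.basicOpen r)) :
    ∃ M : ℕ, (𝒯.str.app (op U)).hom r ^ M * q ∈ IU 𝒯 p chart i U hU := by
  obtain ⟨G, hG1, hG⟩ := exists_finset_cover 𝒯 hgen hft U hU
  refine exists_pow_mul_mem_vanIdeal (𝒯.deg U hU) (𝒯.deg (Y.basicOpen r) (hU.basicOpen r))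
    (𝒯.res hU (hU.basicOpen r) (Y.basicOpen_le r)) (𝒯.irrelevant_le_map U hU r)
    (iU 𝒯 p chart i U hU) (iU 𝒯 p chart i (Y.basicOpen r) (hU.basicOpen r))
    (Z.homOfLE ((i ≫ p).preimage_mono (Y.basicOpen_le r)))
    (homOfLE_iU 𝒯 p chart i hP U hU r) G hG1 (fun z => hG _)
    ((𝒯.str.app (op U)).hom r) (𝒯.str_mem U hU r)
    (tOf (𝒯.deg U hU) (𝒯.strZero U hU) (iU 𝒯 p chart i U hU) r) ?_ ?_ hq
  · rw [basicOpen_tOf]
    exact opensRange_homOfLE_basicOpen 𝒯 p chart i hP U hU r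
  · intro f hf
    exact rho_zmk (𝒯.deg U hU) (𝒯.strZero U hU) (iU 𝒯 p chart i U hU) f (hG1 f hf) one_pos r

end ideal

/-! ## part 4 -/
section ideal
variable {Y P Z : Scheme.{u}} (𝒯 : RelProj.QCGrAlg Y) (p : P ⟶ Y)
  (chart : ∀ (U : Y.Opens) (hU : IsAffineOpen U),
    (((p ⁻¹ᵁ U : P.Opens) : Scheme.{u}) ≅ Proj (𝒯.deg U hU)))
  (i : Z ⟶ P)
variable (hgen : 𝒯.IsGenDegOne) (hft : 𝒯.IsFTDeg 1) (hP : RelProj.IsRelProj 𝒯 p chart)

include hP hgen in
theorem res_mem_IU' (U W : Y.Opens) (hU : IsAffineOpen U) (hW : IsAffineOpen W) (r : Γ(Y, U))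
    (h : W = Y.basicOpen r) (hWU : W ≤ U)
    {a : 𝒯.presheaf.obj (op U)} (ha : a ∈ IU 𝒯 p chart i U hU) :
    (𝒯.presheaf.map (homOfLE hWU).op).hom a ∈ IU 𝒯 p chart i W hW := by
  subst h
  exact res_mem_IU 𝒯 p chart i hgen hP U hU r ha

include hP hgen hft in
theorem exists_pow_mul_mem_IU' [IsClosedImmersion i] (U W : Y.Opens) (hU : IsAffineOpen U)
    (hW : IsAffineOpen W) (r : Γ(Y, U)) (h : W = Y.basicOpen r) (hWU : W ≤ U)
    (q : 𝒯.presheaf.obj (op U))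
    (hq : (𝒯.presheaf.map (homOfLE hWU).op).hom q ∈ IU 𝒯 p chart i W hW) :
    ∃ M : ℕ, (𝒯.str.app (op U)).hom r ^ M * q ∈ IU 𝒯 p chart i U hU := by
  subst h
  exact exists_pow_mul_mem_IU 𝒯 p chart i hgen hft hP U hU r q hq

include hP hgen hft in
theorem IU_le_comap [IsClosedImmersion i] {U V : Y.Opens} (hU : IsAffineOpen U)
    (hV : IsAffineOpen V) (h : V ≤ U) :
    IU 𝒯 p chart i U hU ≤ (IU 𝒯 p chart i V hV).comap (𝒯.presheaf.map (homOfLE h).op).hom := by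
  intro a ha
  rw [Ideal.mem_comap]
  set b := (𝒯.presheaf.map (homOfLE h).op).hom a with hb
  let J : Ideal Γ(Y, V) :=
    { carrier := {s | (𝒯.str.app (op V)).hom s * b ∈ IU 𝒯 p chart i V hV}
      add_mem' := fun {s t} hs ht => by
        change (𝒯.str.app (op V)).hom (s + t) * b ∈ IU 𝒯 p chart i V hV
        rw [map_add, add_mul]
        exact Ideal.add_mem _ hs ht
      zero_mem' := by
        change (𝒯.str.app (op V)).hom 0 * b ∈ IU 𝒯 p chart i V hV
        rw [map_zero, zero_mul]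
        exact Ideal.zero_mem _
      smul_mem' := fun c {s} hs => by
        change (𝒯.str.app (op V)).hom (c * s) * b ∈ IU 𝒯 p chart i V hV
        rw [map_mul, mul_assoc]
        exact Ideal.mul_mem_left _ _ hs }
  have hJ : J = ⊤ := by
    rw [← Ideal.radical_eq_top, eq_top_iff]
    let S : Set Γ(Y, V) := {s | ∃ r : Γ(Y, U), Y.basicOpen r = Y.basicOpen s}
    have hS : Ideal.span S = ⊤ := by
      rw [← hV.self_le_iSup_basicOpen_iff]
      intro x hx
      obtain ⟨r, s, hrs, hxr⟩ := exists_basicOpen_le_affine_inter hU hV x ⟨h hx, hx⟩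
      rw [Opens.mem_iSup]
      exact ⟨⟨s, r, hrs⟩, hrs ▸ hxr⟩
    rw [← hS, Ideal.span_le]
    rintro s ⟨r, hrs⟩
    have hWV : Y.basicOpen s ≤ V := Y.basicOpen_le s
    have hWU : Y.basicOpen s ≤ U := hWV.trans h
    have h1 : (𝒯.presheaf.map (homOfLE hWV).op).hom b ∈
        IU 𝒯 p chart i (Y.basicOpen s) (hV.basicOpen s) := by
      have h2 : (𝒯.presheaf.map (homOfLE hWV).op).hom b =
          (𝒯.presheaf.map (homOfLE hWU).op).hom a := by
        rw [hb, ← CommRingCat.comp_apply, ← Functor.map_comp]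
        rfl
      rw [h2]
      exact res_mem_IU' 𝒯 p chart i hgen hP U _ hU (hV.basicOpen s) r hrs.symm hWU ha
    obtain ⟨M, hM⟩ := exists_pow_mul_mem_IU' 𝒯 p chart i hgen hft hP V _ hV (hV.basicOpen s) s rfl
      hWV b h1
    refine ⟨M, ?_⟩
    change (𝒯.str.app (op V)).hom (s ^ M) * b ∈ IU 𝒯 p chart i V hV
    rwa [map_pow]
  have h1 : (1 : Γ(Y, V)) ∈ J := hJ ▸ Submodule.mem_top
  have h2 : (𝒯.str.app (op V)).hom 1 * b ∈ IU 𝒯 p chart i V hV := h1
  rwa [map_one, one_mul] at h2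

end ideal

/-! ## part 5 -/
/-- the data of a closed subscheme of a relative Proj of an algebra generated in degree one, of finite type -/
structure Data (Y : Scheme.{u}) where
  P : Scheme.{u}
  Z : Scheme.{u}
  𝒯 : RelProj.QCGrAlg Y
  p : P ⟶ Y
  chart : ∀ (U : Y.Opens) (hU : IsAffineOpen U),
    (((p ⁻¹ᵁ U : P.Opens) : Scheme.{u}) ≅ Proj (𝒯.deg U hU))
  i : Z ⟶ P
  hi : IsClosedImmersion i
  hgen : 𝒯.IsGenDegOne
  hft : 𝒯.IsFTDeg 1
  hP : RelProj.IsRelProj 𝒯 p chart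

namespace Data
variable {Y : Scheme.{u}} (D : Data Y)

instance : IsClosedImmersion D.i := D.hi

/-- the ideal of `Z` over `U` -/
noncomputable def I (U : Y.Opens) (hU : IsAffineOpen U) : Ideal (D.𝒯.presheaf.obj (op U)) :=
  IU D.𝒯 D.p D.chart D.i U hU

lemma I_isHomogeneous (U : Y.Opens) (hU : IsAffineOpen U) :
    (D.I U hU).IsHomogeneous (D.𝒯.deg U hU) :=
  IU_isHomogeneous _ _ _ _ U hU

lemma I_le_comap {U V : Y.Opens} (hU : IsAffineOpen U) (hV : IsAffineOpen V) (h : V ≤ U) :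
    D.I U hU ≤ (D.I V hV).comap (D.𝒯.presheaf.map (homOfLE h).op).hom :=
  IU_le_comap D.𝒯 D.p D.chart D.i D.hgen D.hft D.hP hU hV h

section functor
open Scheme.AffineZariskiSite

/-- `F(U) = 𝒯(U)/I_U` -/
noncomputable def Fobj (U : Y.AffineZariskiSite) : CommRingCat.{u} :=
  CommRingCat.of (D.𝒯.presheaf.obj (op U.1) ⧸ D.I U.1 U.2)

/-- restriction maps of `F` -/
noncomputable def Fmap {U V : Y.AffineZariskiSite} (h : V ≤ U) : D.Fobj U ⟶ D.Fobj V :=
  CommRingCat.ofHom (Ideal.quotientMap (D.I V.1 V.2)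
    (D.𝒯.presheaf.map (homOfLE (toOpens_mono h)).op).hom
    (D.I_le_comap U.2 V.2 (toOpens_mono h)))

lemma Fmap_mk {U V : Y.AffineZariskiSite} (h : V ≤ U) (a : D.𝒯.presheaf.obj (op U.1)) :
    (D.Fmap h).hom (Ideal.Quotient.mk _ a) =
      Ideal.Quotient.mk _ ((D.𝒯.presheaf.map (homOfLE (toOpens_mono h)).op).hom a) :=
  rfl

/-- the functor `U ↦ 𝒯(U)/I_U` on the affine Zariski site -/
noncomputable def F : Y.AffineZariskiSiteᵒᵖ ⥤ CommRingCat.{u} where
  obj U := D.Fobj U.unop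
  map j := D.Fmap j.unop.le
  map_id U := by
    ext x
    obtain ⟨a, rfl⟩ := Ideal.Quotient.mk_surjective x
    rw [Fmap_mk]
    have : D.𝒯.presheaf.map (homOfLE (toOpens_mono (𝟙 U).unop.le)).op = 𝟙 _ :=
      D.𝒯.presheaf.map_id _
    rw [this]
    rfl
  map_comp {U V W} j k := by
    ext x
    obtain ⟨a, rfl⟩ := Ideal.Quotient.mk_surjective x
    rw [CommRingCat.comp_apply, Fmap_mk, Fmap_mk, Fmap_mk]
    congr 1
    rw [← CommRingCat.comp_apply, ← Functor.map_comp]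
    rfl

/-- the structure map of `F` -/
noncomputable def α : (toOpensFunctor Y).op ⋙ Y.presheaf ⟶ D.F where
  app U := CommRingCat.ofHom ((Ideal.Quotient.mk (D.I U.unop.1 U.unop.2)).comp
    (D.𝒯.str.app (op U.unop.1)).hom)
  naturality U V j := by
    ext r
    symm
    change (D.Fmap j.unop.le).hom (Ideal.Quotient.mk _ ((D.𝒯.str.app (op U.unop.1)).hom r)) = _
    rw [Fmap_mk]
    have := congr($(D.𝒯.str.naturality (homOfLE (toOpens_mono j.unop.le)).op) r)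
    change Ideal.Quotient.mk _ _ = Ideal.Quotient.mk _ _
    congr 1
    exact this.symm

theorem coequifibered_α : D.α.Coequifibered := by
  refine Scheme.AffineZariskiSite.coequifibered_iff_forall_isLocalizationAway.mpr fun U r => ?_
  refine Groth.Agent.Lib.RelProjQuot85.isLocalization_away_quotientMap
    (D.𝒯.presheaf.map (homOfLE (toOpens_mono (U.basicOpen_le r))).op).hom
    ((D.𝒯.str.app (op U.1)).hom r) (D.I U.1 U.2) (D.I (U.basicOpen r).1 (U.basicOpen r).2)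
    (D.I_le_comap U.2 (U.basicOpen r).2 (toOpens_mono (U.basicOpen_le r))) ?_ ?_ ?_
  · have h1 := congr($(D.𝒯.str.naturality (homOfLE (toOpens_mono (U.basicOpen_le r))).op) r)
    have h2 : (D.𝒯.presheaf.map (homOfLE (toOpens_mono (U.basicOpen_le r))).op).hom
        ((D.𝒯.str.app (op U.1)).hom r) = (D.𝒯.str.app (op (U.basicOpen r).1)).hom
          ((Y.presheaf.map (homOfLE (toOpens_mono (U.basicOpen_le r))).op).hom r) := h1.symm
    rw [h2]
    exact (RingedSpace.isUnit_res_basicOpen Y.toRingedSpace r).map _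
  · intro (p' : D.𝒯.presheaf.obj (op (Y.basicOpen r)))
    letI := (D.𝒯.presheaf.map (homOfLE (Y.basicOpen_le r)).op).hom.toAlgebra
    haveI : IsLocalization.Away ((D.𝒯.str.app (op U.1)).hom r)
      (D.𝒯.presheaf.obj (op (Y.basicOpen r))) := D.𝒯.isQC U.1 U.2 r
    obtain ⟨⟨a, ⟨_, ⟨N, rfl⟩⟩⟩, ha⟩ := IsLocalization.surj
      (Submonoid.powers ((D.𝒯.str.app (op U.1)).hom r)) p'
    refine ⟨N, a, ?_⟩
    have ha' : p' * (D.𝒯.presheaf.map (homOfLE (Y.basicOpen_le r)).op).hom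
        ((D.𝒯.str.app (op U.1)).hom r ^ N) =
        (D.𝒯.presheaf.map (homOfLE (Y.basicOpen_le r)).op).hom a := ha
    rw [map_pow, mul_comm] at ha'
    exact ha'.symm
  · intro q hq
    exact exists_pow_mul_mem_IU D.𝒯 D.p D.chart D.i D.hgen D.hft D.hP U.1 U.2 r q hq

end functor

end Data

/-! ## part 6 -/
namespace Data
variable {Y : Scheme.{u}} (D : Data Y)

/-- the quotient algebra `𝒯/I` as a quasi-coherent algebra -/
noncomputable def qAlg : RelSpec.QCAlg Y := alg D.coequifibered_α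

/-- `ℬ(U) ≃+* 𝒯(U)/I_U` -/
noncomputable def qEquiv (U : Y.Opens) (hU : IsAffineOpen U) :
    D.qAlg.presheaf.obj (op U) ≃+* (D.𝒯.presheaf.obj (op U) ⧸ D.I U hU) :=
  haveI := isIso_gammaAff D.coequifibered_α U hU
  (asIso (gammaAff D.coequifibered_α U hU)).commRingCatIsoToRingEquiv

lemma qEquiv_apply (U : Y.Opens) (hU : IsAffineOpen U) (x : D.qAlg.presheaf.obj (op U)) :
    D.qEquiv U hU x = (gammaAff D.coequifibered_α U hU).hom x := rfl

/-- `qEquiv` and restriction -/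
lemma qEquiv_res {U W : Y.Opens} (hU : IsAffineOpen U) (hW : IsAffineOpen W)
    (h : ∃ r : Γ(Y, U), Y.basicOpen r = W) (j : W ≤ U) (x : D.qAlg.presheaf.obj (op U)) :
    D.qEquiv W hW ((D.qAlg.presheaf.map (homOfLE j).op).hom x) =
      (D.Fmap (U := QCAlgOfAffine.mk U hU) (V := QCAlgOfAffine.mk W hW) h).hom
        (D.qEquiv U hU x) := by
  have hnat := gammaAff_naturality D.coequifibered_α (U := QCAlgOfAffine.mk U hU)
    (V := QCAlgOfAffine.mk W hW) (homOfLE h)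
  exact congr($hnat x)

/-- `qEquiv` and the structure map -/
lemma qEquiv_str (U : Y.Opens) (hU : IsAffineOpen U) (r : Γ(Y, U)) :
    D.qEquiv U hU ((D.qAlg.str.app (op U)).hom r) =
      Ideal.Quotient.mk _ ((D.𝒯.str.app (op U)).hom r) := by
  have h := str_gammaAff D.coequifibered_α U hU
  exact congr($h r)

/-- the grading of `𝒯(U)/I_U` -/
noncomputable abbrev qGr (U : Y.Opens) (hU : IsAffineOpen U) :
    ℕ → AddSubgroup (D.𝒯.presheaf.obj (op U) ⧸ D.I U hU) :=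
  quotDeg (D.𝒯.deg U hU) (D.I U hU)

noncomputable instance qGr_gradedRing (U : Y.Opens) (hU : IsAffineOpen U) :
    GradedRing (D.qGr U hU) :=
  GradedQuotAdd.gradedRing _ (D.I_isHomogeneous U hU)

/-- the grading of `ℬ(U)` -/
noncomputable def qDeg (U : Y.Opens) (hU : IsAffineOpen U) (d : ℕ) :
    AddSubgroup (D.qAlg.presheaf.obj (op U)) :=
  comapGr (D.qEquiv U hU) (D.qGr U hU) d

lemma mem_qDeg {U : Y.Opens} {hU : IsAffineOpen U} {d : ℕ} {x : D.qAlg.presheaf.obj (op U)} :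
    x ∈ D.qDeg U hU d ↔ D.qEquiv U hU x ∈ D.qGr U hU d := Iff.rfl

noncomputable instance qDeg_gradedRing (U : Y.Opens) (hU : IsAffineOpen U) :
    GradedRing (D.qDeg U hU) :=
  gradedRingComap (D.qEquiv U hU) (D.qGr U hU)

lemma Fmap_mem {U V : Y.AffineZariskiSite} (h : V ≤ U) {d : ℕ}
    {y : D.𝒯.presheaf.obj (op U.1) ⧸ D.I U.1 U.2} (hy : y ∈ D.qGr U.1 U.2 d) :
    (D.Fmap h).hom y ∈ D.qGr V.1 V.2 d := by
  obtain ⟨a, ha, rfl⟩ := (mem_quotDeg _ _).1 hy
  rw [Fmap_mk]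
  exact mk_mem_quotDeg _ _ (D.𝒯.map_mem U.2 V.2 _ ha)

/-- the quotient algebra as a quasi-coherent graded algebra -/
noncomputable def qGrAlg : RelProj.QCGrAlg Y where
  toQCAlg := D.qAlg
  deg := D.qDeg
  graded := D.qDeg_gradedRing
  map_mem := by
    intro U V hU hV j d x hx
    refine map_mem_of_basic D.qAlg D.qDeg D.qDeg_gradedRing ?_ hU hV j hx
    intro U W hU hW h j d x hx
    rw [mem_qDeg] at hx ⊢
    rw [D.qEquiv_res hU hW h j x]
    exact D.Fmap_mem (U := QCAlgOfAffine.mk U hU) (V := QCAlgOfAffine.mk W hW) h hx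
  str_mem := by
    intro U hU r
    rw [mem_qDeg, qEquiv_str]
    exact mk_mem_quotDeg _ _ (D.𝒯.str_mem U hU r)

section charts
variable (U : Y.Opens) (hU : IsAffineOpen U)

/-- the surjective graded hom `𝒯(U) → ℬ(U)` -/
noncomputable def qMap : D.𝒯.deg U hU →+*ᵍ D.qDeg U hU :=
  (comapGrFrom (D.qEquiv U hU) (D.qGr U hU)).comp
    (mkGraded (D.𝒯.deg U hU) (I := D.I U hU))

lemma qMap_apply (a : D.𝒯.presheaf.obj (op U)) :
    D.qMap U hU a = (D.qEquiv U hU).symm (Ideal.Quotient.mk _ a) := rfl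

lemma qMap_surjective {d : ℕ} {y : D.qAlg.presheaf.obj (op U)} (hy : y ∈ D.qDeg U hU d) :
    ∃ x ∈ D.𝒯.deg U hU d, D.qMap U hU x = y := by
  obtain ⟨a, ha, hay⟩ := (mem_quotDeg _ _).1 (D.mem_qDeg.1 hy)
  refine ⟨a, ha, ?_⟩
  rw [qMap_apply, hay, RingEquiv.symm_apply_apply]

lemma qMap_surjective' : Function.Surjective (D.qMap U hU) := by
  intro y
  obtain ⟨a, ha⟩ := Ideal.Quotient.mk_surjective (D.qEquiv U hU y)
  refine ⟨a, ?_⟩
  rw [qMap_apply, ha, RingEquiv.symm_apply_apply]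

lemma qMap_str (r : Γ(Y, U)) :
    D.qMap U hU ((D.𝒯.str.app (op U)).hom r) = (D.qAlg.str.app (op U)).hom r := by
  rw [qMap_apply, RingEquiv.symm_apply_eq, qEquiv_str]

end charts

theorem isGenDegOne : D.qGrAlg.IsGenDegOne := by
  intro U hU
  rw [eq_top_iff]
  intro x hx
  clear hx
  obtain ⟨a, rfl⟩ := D.qMap_surjective' U hU x
  have ha : a ∈ Subring.closure ((D.𝒯.deg U hU 0 : Set (D.𝒯.presheaf.obj (op U))) ∪
      (D.𝒯.deg U hU 1 : Set _)) := by
    rw [D.hgen U hU]; exact Subring.mem_top a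
  induction ha using Subring.closure_induction with
  | mem a ha =>
    apply Subring.subset_closure
    rcases ha with ha | ha
    · left; exact (D.qMap U hU).map_mem ha
    · right; exact (D.qMap U hU).map_mem ha
  | zero => rw [map_zero]; exact zero_mem _
  | one => rw [map_one]; exact one_mem _
  | add a b _ _ ha hb => rw [map_add]; exact add_mem ha hb
  | neg a _ ha => rw [map_neg]; exact neg_mem ha
  | mul a b _ _ ha hb => rw [map_mul]; exact mul_mem ha hb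

theorem isFTDeg_one : D.qGrAlg.IsFTDeg 1 := by
  classical
  intro U hU
  obtain ⟨T, hT1, hT⟩ := D.hft U hU
  refine ⟨T.image (D.qMap U hU), ?_, ?_⟩
  · intro t ht
    obtain ⟨k, hk, rfl⟩ := Finset.mem_image.1 (Finset.mem_coe.1 ht)
    exact (D.qMap U hU).map_mem (hT1 hk)
  · intro x hx
    obtain ⟨a, ha, rfl⟩ := D.qMap_surjective U hU hx
    obtain ⟨c, hc⟩ := hT a ha
    have hx2 : D.qMap U hU a = ∑ k ∈ T, (D.qAlg.str.app (op U)).hom (c k) * D.qMap U hU k := by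
      conv_lhs => rw [hc]
      rw [map_sum]
      refine Finset.sum_congr rfl fun k _ => ?_
      rw [map_mul, qMap_str]
    refine ⟨fun t => ∑ k ∈ T.filter (fun k => D.qMap U hU k = t), c k, ?_⟩
    rw [hx2]
    symm
    refine Finset.sum_image' (fun k => (D.qAlg.str.app (op U)).hom (c k) * D.qMap U hU k)
      (fun k _ => ?_)
    change (D.qAlg.str.app (op U)).hom (∑ k' ∈ T.filter
      (fun k' => D.qMap U hU k' = D.qMap U hU k), c k') * D.qMap U hU k = _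
    rw [map_sum, Finset.sum_mul]
    refine Finset.sum_congr rfl fun k' hk' => ?_
    rw [(Finset.mem_filter.1 hk').2]

end Data

/-! ## part 7 -/
namespace Data
variable {Y : Scheme.{u}} (D : Data Y)

section charts
variable (U : Y.Opens) (hU : IsAffineOpen U)

lemma irrelevant_le_qMap :
    (D.qDeg U hU)₊ ≤ ((D.𝒯.deg U hU)₊).map (D.qMap U hU) := by
  rw [HomogeneousIdeal.irrelevant_le]
  intro d hd y hy
  obtain ⟨x, hx, rfl⟩ := D.qMap_surjective U hU hy
  exact Ideal.mem_map_of_mem _ (HomogeneousIdeal.mem_irrelevant_of_mem _ hd hx)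

/-- the closed immersion `Proj ℬ(U) ⟶ Proj 𝒯(U)` -/
noncomputable def mU : Proj (D.qDeg U hU) ⟶ Proj (D.𝒯.deg U hU) :=
  Proj.map (D.qMap U hU) (D.irrelevant_le_qMap U hU)

instance : IsClosedImmersion (D.mU U hU) :=
  Groth.Agent.Lib.ProjMapImm.isClosedImmersion_map _ _ 0
    (fun _ _ _ hy => D.qMap_surjective U hU hy)

/-- the immersion of `Z` over `U` -/
noncomputable abbrev jU : ((ZU D.p D.i U : D.Z.Opens) : Scheme.{u}) ⟶ Proj (D.𝒯.deg U hU) :=
  iU D.𝒯 D.p D.chart D.i U hU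

lemma exists_chartHom :
    ∃ c : ((ZU D.p D.i U : D.Z.Opens) : Scheme.{u}) ⟶ Proj (D.qDeg U hU),
      IsIso c ∧ c ≫ D.mU U hU = D.jU U hU := by
  obtain ⟨G, hG1, hG⟩ := exists_finset_cover D.𝒯 D.hgen D.hft U hU
  letI : GradedRing (quotDeg (D.𝒯.deg U hU) (vanIdeal (D.𝒯.deg U hU) (D.jU U hU))) :=
    D.qGr_gradedRing U hU
  obtain ⟨e, he⟩ : ∃ e : ((ZU D.p D.i U : D.Z.Opens) : Scheme.{u}) ≅ Proj (D.qGr U hU),
      e.hom ≫ Proj.map (mkGraded (D.𝒯.deg U hU) (I := D.I U hU))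
        (irrelevant_le_map_mkGraded _ _) = D.jU U hU :=
    exists_iso (D.𝒯.deg U hU) (D.jU U hU) (D.𝒯.deg U hU 1 : Set _) (fun f hf => hf)
      (fun x => exists_degOne D.𝒯 D.hgen U hU x) G hG1 (fun z => hG _)
  have hirr := irrelevant_le_map_of_rightInverse (comapGrTo (D.qEquiv U hU) (D.qGr U hU))
    (comapGrFrom (D.qEquiv U hU) (D.qGr U hU)) (fun b => (D.qEquiv U hU).apply_symm_apply b)
  have h2 : IsIso (Proj.map (comapGrTo (D.qEquiv U hU) (D.qGr U hU)) hirr) :=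
    isIso_projMap _ (comapGrFrom (D.qEquiv U hU) (D.qGr U hU))
      (fun a => (D.qEquiv U hU).symm_apply_apply a)
      (fun b => (D.qEquiv U hU).apply_symm_apply b) hirr
  refine ⟨e.hom ≫ Proj.map (comapGrTo (D.qEquiv U hU) (D.qGr U hU)) hirr,
    @IsIso.comp_isIso _ _ _ _ _ _ _ (Iso.isIso_hom e) h2, ?_⟩
  rw [Category.assoc, ← he]
  congr 1
  unfold mU
  rw [← Proj.map_comp]
  refine Groth.Agent.Lib.RelProjExists.projMap_congr ?_ _ _
  refine DFunLike.ext _ _ (fun a => ?_)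
  change D.qEquiv U hU ((D.qEquiv U hU).symm (Ideal.Quotient.mk _ a)) = Ideal.Quotient.mk _ a
  rw [RingEquiv.apply_symm_apply]

/-- the chart `(i ≫ p)⁻¹(U) ⟶ Proj ℬ(U)` -/
noncomputable def chartHom : ((ZU D.p D.i U : D.Z.Opens) : Scheme.{u}) ⟶ Proj (D.qDeg U hU) :=
  (D.exists_chartHom U hU).choose

instance : IsIso (D.chartHom U hU) := (D.exists_chartHom U hU).choose_spec.1

@[reassoc]
lemma chartHom_mU : D.chartHom U hU ≫ D.mU U hU = D.jU U hU :=
  (D.exists_chartHom U hU).choose_spec.2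

end charts

section relproj

/-- the charts of `Z` as the relative Proj of the quotient algebra -/
noncomputable def chartIso (U : Y.Opens) (hU : IsAffineOpen U) :
    ((ZU D.p D.i U : D.Z.Opens) : Scheme.{u}) ≅ Proj (D.qDeg U hU) :=
  asIso (D.chartHom U hU)

/-- the charts, typed for `RelProj.IsRelProj` -/
noncomputable def chart' (U : Y.Opens) (hU : IsAffineOpen U) :
    ((((D.i ≫ D.p) ⁻¹ᵁ U : D.Z.Opens) : Scheme.{u})) ≅ Proj (D.qGrAlg.deg U hU) :=
  D.chartIso U hU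

lemma mU_toSpecZero (U : Y.Opens) (hU : IsAffineOpen U) :
    D.mU U hU ≫ toBase (D.𝒯.deg U hU) (D.𝒯.strZero U hU) =
      Proj.toSpecZero (D.qDeg U hU) ≫ Spec.map (D.qGrAlg.strZero U hU) :=
  Groth.Agent.Lib.ProjMapImm.map_toSpecZero (D.qMap U hU) (D.irrelevant_le_qMap U hU)
    (D.𝒯.strZero U hU) (D.qGrAlg.strZero U hU)
    (fun r => D.qMap_str U hU r)

lemma res_qMap {U V : Y.Opens} (hU : IsAffineOpen U) (hV : IsAffineOpen V)
    (h : ∃ r : Γ(Y, U), Y.basicOpen r = V) (j : V ≤ U) (a : D.𝒯.presheaf.obj (op U)) :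
    (D.qAlg.presheaf.map (homOfLE j).op).hom (D.qMap U hU a) =
      D.qMap V hV ((D.𝒯.presheaf.map (homOfLE j).op).hom a) := by
  apply (D.qEquiv V hV).injective
  rw [D.qEquiv_res hU hV h j, qMap_apply, qMap_apply, RingEquiv.apply_symm_apply,
    RingEquiv.apply_symm_apply]
  rfl

lemma projMap_res_mU (U : Y.Opens) (hU : IsAffineOpen U) (r : Γ(Y, U)) :
    Proj.map (D.qGrAlg.res hU (hU.basicOpen r) (Y.basicOpen_le r))
        (D.qGrAlg.irrelevant_le_map U hU r) ≫ D.mU U hU =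
      D.mU (Y.basicOpen r) (hU.basicOpen r) ≫
        Proj.map (D.𝒯.res hU (hU.basicOpen r) (Y.basicOpen_le r))
          (D.𝒯.irrelevant_le_map U hU r) := by
  have h : (D.qGrAlg.res hU (hU.basicOpen r) (Y.basicOpen_le r)).comp (D.qMap U hU) =
      (D.qMap (Y.basicOpen r) (hU.basicOpen r)).comp
        (D.𝒯.res hU (hU.basicOpen r) (Y.basicOpen_le r)) :=
    DFunLike.ext _ _ (fun a => D.res_qMap hU (hU.basicOpen r) ⟨r, rfl⟩ (Y.basicOpen_le r) a)
  exact (Proj.map_comp _ _ _ _).symm.trans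
    ((Groth.Agent.Lib.RelProjExists.projMap_congr h _
      (HomogeneousIdeal.irrelevant_le_map_comp (D.𝒯.irrelevant_le_map U hU r)
        (D.irrelevant_le_qMap _ _))).trans (Proj.map_comp _ _ _ _))

theorem isRelProj :
    RelProj.IsRelProj D.qGrAlg (D.i ≫ D.p) D.chart' where
  chart_over U hU := by
    change D.chartHom U hU ≫ Proj.toSpecZero (D.qDeg U hU) ≫
      Spec.map (D.qGrAlg.strZero U hU) ≫ hU.fromSpec = _
    rw [← reassoc_of% (D.mU_toSpecZero U hU), chartHom_mU_assoc]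
    exact iU_toBase D.𝒯 D.p D.chart D.i D.hP U hU
  chart_res U hU r := by
    change D.Z.homOfLE _ ≫ D.chartHom U hU = D.chartHom (Y.basicOpen r) (hU.basicOpen r) ≫ _
    rw [← cancel_mono (D.mU U hU), Category.assoc, Category.assoc, chartHom_mU]
    refine Eq.trans ?_ (congrArg (D.chartHom (Y.basicOpen r) (hU.basicOpen r) ≫ ·)
      (D.projMap_res_mU U hU r)).symm
    refine Eq.trans ?_ (D.chartHom_mU_assoc (Y.basicOpen r) (hU.basicOpen r) _).symm
    exact homOfLE_iU D.𝒯 D.p D.chart D.i D.hP U hU r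

/-- A closed subscheme of the relative Proj of a quasi-coherent graded algebra generated in degree one with
degree-one part of finite type is projective over the base. -/
theorem isProjective : RelProj.IsProjective (D.i ≫ D.p) :=
  ⟨D.qGrAlg, D.Z, D.i ≫ D.p, D.chart', Iso.refl D.Z, D.isGenDegOne, D.isFTDeg_one,
    D.isRelProj, Category.id_comp _⟩

end relproj

end Data

/-- **Closed subschemes of projective-type relative Proj's are projective.** -/
theorem isProjective_comp_of_isClosedImmersion {Y P Z : Scheme.{u}} (𝒯 : RelProj.QCGrAlg Y)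
    (p : P ⟶ Y)
    (chart : ∀ (U : Y.Opens) (hU : IsAffineOpen U),
      (((p ⁻¹ᵁ U : P.Opens) : Scheme.{u}) ≅ Proj (𝒯.deg U hU)))
    (hgen : 𝒯.IsGenDegOne) (hft : 𝒯.IsFTDeg 1) (hP : RelProj.IsRelProj 𝒯 p chart)
    (i : Z ⟶ P) [hi : IsClosedImmersion i] : RelProj.IsProjective (i ≫ p) :=
  Data.isProjective ⟨P, Z, 𝒯, p, chart, i, hi, hgen, hft, hP⟩

/-- the same for a projective morphism followed by... : if `f` is projective and `i` a closed immersion,
`i ≫ f` is projective. -/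
theorem isProjective_comp {X Y Z : Scheme.{u}} (f : X ⟶ Y) (hf : RelProj.IsProjective f)
    (i : Z ⟶ X) [IsClosedImmersion i] : RelProj.IsProjective (i ≫ f) := by
  obtain ⟨𝒮, P, p, chart, e, hgen, hft, hP, rfl⟩ := hf
  have := isProjective_comp_of_isClosedImmersion 𝒮 p chart hgen hft hP (i ≫ e.hom)
  rwa [Category.assoc] at this

end Groth.Agent.Lib.RelProjClosed
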