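/-
# Closed subschemes of a relative projective space as relative Proj, part 2 (helper85)

For a morphism `i : X ⟶ P^n_S` (a closed immersion from `IU` on):
* `gmapHom`, `βHom φ : P^n_B ⟶ P^n_A`, `pIso`, `βHom_pIso`: base change of projective spaces along ring homs;
* `cU n U hU : P^n_{Γ(S,U)} ⟶ P^n_S` (open immersion onto the preimage of the affine open `U`), `βHom_cU`;
* `XU n i U = f⁻¹(U)`, `iU n i U hU : f⁻¹(U) ⟶ P^n_{Γ(S,U)}` (pullback of `i`, closed immersion), `homOfLE_iU`;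
* `IU n i U hU`: the homogeneous ideal of `f⁻¹(U)` in `Γ(S,U)[x₀..xₙ]` (helper3's `kerIdeal`), `IU_le_comap`
  (functoriality for affine `V ≤ U`), `exists_pow_mul_mem_IU` (localization property for basic opens);
* `F n i`, `α n i`, `coequifibered_α`: the functor `U ↦ Γ(S,U)[x]/I_U` on the affine Zariski site is a
  "quasi-coherent algebra" in the sense of Mathlib's `NatTrans.Coequifibered`.
-/
import Groth.Agent.Lib.RelProjQuot85a
import Groth.Agent.Lib.ProjOfAmpleH3
import Groth.Agent.Lib.ChowGen85b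
import Groth.Agent.Lib.QCAlgOfAffine

set_option autoImplicit false
universe u
open HomogeneousLocalization CategoryTheory CategoryTheory.Limits AlgebraicGeometry Graded TopologicalSpace
  Opposite CohB1
open scoped HomogeneousIdeal

namespace Groth.Agent.Lib.RelProjQuot85
open Groth.Agent.Lib.ProjBaseChange Groth.Agent.Lib.GradedQuot Groth.Agent.Lib.ProjClosedSub
open Groth.Agent.Lib.VeryAmpleH3 Groth.Agent.Lib.HQuasiProjH3 Groth.Agent.Lib.ProjOfAmpleH3
open Groth.Agent.Lib.ChowGen85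

noncomputable section

section poly
variable (n : ℕ) {A B C : Type u} [CommRing A] [CommRing B] [CommRing C]

/-- the graded map of polynomial rings induced by a ring hom -/
def gmapHom (φ : A →+* B) : polyGrading n A →+*ᵍ polyGrading n B where
  toRingHom := MvPolynomial.map φ
  map_mem := fun {i x} hx => by
    rw [MvPolynomial.mem_homogeneousSubmodule] at hx ⊢
    exact hx.map _

@[simp] lemma gmapHom_apply (φ : A →+* B) (p : MvPolynomial (Fin (n + 1)) A) :
    gmapHom n φ p = MvPolynomial.map φ p := rfl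

lemma gmapHom_eq (φ : A →+* B) :
    letI := φ.toAlgebra
    gmapHom n φ = Groth.Agent.Lib.H90ProjBC.gmap n A B := rfl

lemma irrelevant_le_gmapHom (φ : A →+* B) :
    (polyGrading n B)₊ ≤ ((polyGrading n A)₊).map (gmapHom n φ) := by
  letI := φ.toAlgebra
  exact Groth.Agent.Lib.H90ProjBC.irrelevant_le n A B

/-- `P^n_B ⟶ P^n_A` induced by a ring hom -/
def βHom (φ : A →+* B) : Proj (polyGrading n B) ⟶ Proj (polyGrading n A) :=
  Proj.map (gmapHom n φ) (irrelevant_le_gmapHom n φ)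

/-- `ProjSpace.toSpec`, typed on `Proj` -/
abbrev toSpecP (A : Type u) [CommRing A] : Proj (polyGrading n A) ⟶ Spec (CommRingCat.of A) :=
  ProjSpace.toSpec n A

lemma βHom_eq (φ : A →+* B) :
    letI := φ.toAlgebra
    βHom n φ = Groth.Agent.Lib.H90ProjBC.β n A B := rfl

lemma βHom_toSpec (φ : A →+* B) :
    βHom n φ ≫ toSpecP n A = toSpecP n B ≫ Spec.map (CommRingCat.ofHom φ) := by
  letI := φ.toAlgebra
  exact Groth.Agent.Lib.H90ProjBC.β_toSpec n A B

lemma isPullback_βHom (φ : A →+* B) :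
    IsPullback (βHom n φ) (toSpecP n B) (toSpecP n A)
      (Spec.map (CommRingCat.ofHom φ)) := by
  letI := φ.toAlgebra
  exact Groth.Agent.Lib.H90ProjBC.isPullback_β n A B

lemma gmapHom_comp (φ : A →+* B) (ψ : B →+* C) :
    gmapHom n (ψ.comp φ) = (gmapHom n ψ).comp (gmapHom n φ) := by
  refine DFunLike.ext _ _ (fun p => ?_)
  change MvPolynomial.map (ψ.comp φ) p = MvPolynomial.map ψ (MvPolynomial.map φ p)
  rw [MvPolynomial.map_map]

lemma βHom_comp (φ : A →+* B) (ψ : B →+* C) : βHom n (ψ.comp φ) = βHom n ψ ≫ βHom n φ :=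
  (Groth.Agent.Lib.RelProjExists.projMap_congr (gmapHom_comp n φ ψ) _
    (HomogeneousIdeal.irrelevant_le_map_comp (irrelevant_le_gmapHom n φ)
      (irrelevant_le_gmapHom n ψ))).trans (Proj.map_comp _ _ _ _)

attribute [local instance] ULift.algebra'

lemma βHom_β (φ : A →+* B) :
    βHom n φ ≫ Groth.Agent.Lib.H90ProjBC.β n ZZ.{u} A = Groth.Agent.Lib.H90ProjBC.β n ZZ.{u} B := by
  have h : φ.comp (algebraMap ZZ.{u} A) = algebraMap ZZ.{u} B := by
    ext z
    simp
  have h1 : βHom n (φ.comp (algebraMap ZZ.{u} A)) = βHom n (algebraMap ZZ.{u} B) := by rw [h]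
  exact (βHom_comp n (algebraMap ZZ.{u} A) φ).symm.trans h1

/-- `projSpaceIso`, typed on `Proj` -/
def pIso (A : Type u) [CommRing A] :
    Proj (polyGrading n A) ≅ ProjSpaceOver n (Spec (CommRingCat.of A)) := projSpaceIso n A

lemma pIso_hom_fst :
    (pIso n A).hom ≫ fstP n (Spec (CommRingCat.of A)) =
      (Groth.Agent.Lib.H90ProjBC.β n ZZ.{u} A : Proj (polyGrading n A) ⟶ Proj (polyGrading n ZZ.{u})) :=
  (isPullback_projSpace n A).isoPullback_hom_fst

@[reassoc]
lemma pIso_hom_snd :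
    (pIso n A).hom ≫ sndP n (Spec (CommRingCat.of A)) = toSpecP n A :=
  projSpaceIso_hom_snd n A

/-- naturality of `P^n_A ≅ P^n_ℤ × Spec A` -/
lemma βHom_pIso (φ : A →+* B) :
    βHom n φ ≫ (pIso n A).hom =
      (pIso n B).hom ≫ projSpaceOverMap n (Spec.map (CommRingCat.ofHom φ)) := by
  apply projSpaceOver_hom_ext
  · rw [Category.assoc, Category.assoc, projSpaceOverMap_fst, pIso_hom_fst, pIso_hom_fst]
    exact βHom_β n φ
  · rw [Category.assoc, Category.assoc, projSpaceOverMap_snd, pIso_hom_snd,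
      pIso_hom_snd_assoc, βHom_toSpec]

end poly
section geom
variable {S : Scheme.{u}} (n : ℕ)

/-- the chart `P^n_{Γ(S,U)} ⟶ P^n_S` over an affine open `U` -/
def cU (U : S.Opens) (hU : IsAffineOpen U) : Proj (polyGrading n Γ(S, U)) ⟶ ProjSpaceOver n S :=
  (pIso n Γ(S, U)).hom ≫ projSpaceOverMap n hU.fromSpec

instance (U : S.Opens) (hU : IsAffineOpen U) : IsOpenImmersion (cU n U hU) := by
  unfold cU
  infer_instance

lemma cU_toBase (U : S.Opens) (hU : IsAffineOpen U) :
    cU n U hU ≫ ProjSpaceOver.toBase n S = toSpecP n Γ(S, U) ≫ hU.fromSpec := by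
  unfold cU
  rw [Category.assoc, projSpaceOverMap_toBase]
  exact pIso_hom_snd_assoc n _

lemma opensRange_cU (U : S.Opens) (hU : IsAffineOpen U) :
    (cU n U hU).opensRange = ProjSpaceOver.toBase n S ⁻¹ᵁ U := by
  apply Opens.ext
  have h := Scheme.image_preimage_eq_of_isPullback (isPullback_projSpaceOverMap n hU.fromSpec).flip
    Set.univ
  simp only [Set.preimage_univ, Set.image_univ] at h
  have h2 : Set.range (cU n U hU) = Set.range (projSpaceOverMap n hU.fromSpec) := by
    unfold cU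
    rw [Scheme.Hom.comp_base, TopCat.coe_comp, Set.range_comp]
    have : Set.range (pIso n Γ(S, U)).hom = Set.univ :=
      Set.range_eq_univ.2 (pIso n Γ(S, U)).hom.surjective
    rw [this, Set.image_univ]
  change Set.range (cU n U hU) = _
  rw [h2, h, hU.range_fromSpec]
  rfl

lemma βHom_cU {U V : S.Opens} (hU : IsAffineOpen U) (hV : IsAffineOpen V) (h : V ≤ U) :
    βHom n (S.presheaf.map (homOfLE h).op).hom ≫ cU n U hU = cU n V hV := by
  unfold cU
  rw [reassoc_of% (βHom_pIso n (S.presheaf.map (homOfLE h).op).hom), ← projSpaceOverMap_comp]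
  congr 2
  exact hU.map_fromSpec hV (homOfLE h).op

variable {X : Scheme.{u}} (i : X ⟶ ProjSpaceOver n S)

/-- the preimage of `U` in `X` -/
abbrev XU (U : S.Opens) : X.Opens := (i ≫ ProjSpaceOver.toBase n S) ⁻¹ᵁ U

lemma range_ι_comp_subset (U : S.Opens) (hU : IsAffineOpen U) :
    Set.range ((XU n i U).ι ≫ i) ⊆ Set.range (cU n U hU) := by
  rintro _ ⟨x, rfl⟩
  have h : ((XU n i U).ι ≫ i) x ∈ (cU n U hU).opensRange := by
    rw [opensRange_cU]
    exact x.2
  exact h

/-- the closed immersion `f⁻¹(U) ⟶ P^n_{Γ(S,U)}` -/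
def iU (U : S.Opens) (hU : IsAffineOpen U) : ((XU n i U : X.Opens) : Scheme.{u}) ⟶ Proj (polyGrading n Γ(S, U)) :=
  IsOpenImmersion.lift (cU n U hU) ((XU n i U).ι ≫ i) (range_ι_comp_subset n i U hU)

@[reassoc]
lemma iU_cU (U : S.Opens) (hU : IsAffineOpen U) :
    iU n i U hU ≫ cU n U hU = (XU n i U).ι ≫ i :=
  IsOpenImmersion.lift_fac _ _ _

lemma isPullback_iU (U : S.Opens) (hU : IsAffineOpen U) :
    IsPullback (iU n i U hU) (XU n i U).ι (cU n U hU) i := by
  refine IsOpenImmersion.isPullback _ _ _ _ (iU_cU n i U hU).symm ?_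
  rw [opensRange_cU, Scheme.Opens.opensRange_ι]
  rfl

instance [IsClosedImmersion i] (U : S.Opens) (hU : IsAffineOpen U) :
    IsClosedImmersion (iU n i U hU) :=
  MorphismProperty.of_isPullback (P := @IsClosedImmersion) (isPullback_iU n i U hU).flip inferInstance

lemma iU_toSpec (U : S.Opens) (hU : IsAffineOpen U) :
    iU n i U hU ≫ toSpecP n Γ(S, U) ≫ hU.fromSpec =
      (XU n i U).ι ≫ i ≫ ProjSpaceOver.toBase n S := by
  rw [← cU_toBase, iU_cU_assoc]

lemma homOfLE_iU {U V : S.Opens} (hU : IsAffineOpen U) (hV : IsAffineOpen V) (h : V ≤ U) :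
    X.homOfLE ((i ≫ ProjSpaceOver.toBase n S).preimage_mono h) ≫ iU n i U hU =
      iU n i V hV ≫ βHom n (S.presheaf.map (homOfLE h).op).hom := by
  rw [← cancel_mono (cU n U hU), Category.assoc, Category.assoc, iU_cU, βHom_cU n hU hV h, iU_cU,
    Scheme.homOfLE_ι_assoc]

section ideal
variable (A : Type u) [CommRing A]

/-- the variables, as a finset -/
def sX : Finset (MvPolynomial (Fin (n + 1)) A) :=
  letI := Classical.decEq (MvPolynomial (Fin (n + 1)) A)
  Finset.univ.image (MvPolynomial.X (R := A))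

lemma mem_sX {g : MvPolynomial (Fin (n + 1)) A} : g ∈ sX n A ↔ ∃ k, MvPolynomial.X k = g := by
  unfold sX
  letI := Classical.decEq (MvPolynomial (Fin (n + 1)) A)
  rw [Finset.mem_image]
  simp

lemma sX_deg : ∀ g ∈ sX n A, g ∈ polyGrading n A 1 := by
  intro g hg
  obtain ⟨k, rfl⟩ := (mem_sX n A).1 hg
  exact (MvPolynomial.mem_homogeneousSubmodule _ _).2 (MvPolynomial.isHomogeneous_X A k)

lemma irrelevant_eq_span_sX :
    (HomogeneousIdeal.irrelevant (polyGrading n A)).toIdeal =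
      Ideal.span (sX n A : Set (MvPolynomial (Fin (n + 1)) A)) := by
  rw [Groth.Agent.Lib.VeryAmpleAmpleH3.irrelevant_eq_span_X n A]
  congr 1
  ext g
  simp only [Set.image_univ, Set.mem_range, Finset.mem_coe, mem_sX]

variable {A} in
lemma map_mem_sX {B : Type u} [CommRing B] (φ : A →+* B) {g : MvPolynomial (Fin (n + 1)) A}
    (hg : g ∈ sX n A) : gmapHom n φ g ∈ sX n B := by
  obtain ⟨k, rfl⟩ := (mem_sX n A).1 hg
  rw [gmapHom_apply, MvPolynomial.map_X]
  exact (mem_sX n B).2 ⟨k, rfl⟩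

variable {A} in
lemma exists_mem_sX {B : Type u} [CommRing B] (φ : A →+* B) {g' : MvPolynomial (Fin (n + 1)) B}
    (hg : g' ∈ sX n B) : ∃ g ∈ sX n A, gmapHom n φ g = g' := by
  obtain ⟨k, rfl⟩ := (mem_sX n B).1 hg
  exact ⟨MvPolynomial.X k, (mem_sX n A).2 ⟨k, rfl⟩, by
    rw [gmapHom_apply, MvPolynomial.map_X]⟩

end ideal

/-- the homogeneous ideal of `f⁻¹(U)` in `Γ(S,U)[x₀..xₙ]` -/
def IU (U : S.Opens) (hU : IsAffineOpen U) : Ideal (MvPolynomial (Fin (n + 1)) Γ(S, U)) :=
  kerIdeal (polyGrading n Γ(S, U)) (sX n Γ(S, U)) (sX_deg n Γ(S, U)) (iU n i U hU)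

lemma IU_isHomogeneous (U : S.Opens) (hU : IsAffineOpen U) :
    (IU n i U hU).IsHomogeneous (polyGrading n Γ(S, U)) :=
  kerIdeal_isHomogeneous _ _ _ _

lemma IU_le_comap {U V : S.Opens} (hU : IsAffineOpen U) (hV : IsAffineOpen V) (h : V ≤ U) :
    IU n i U hU ≤ (IU n i V hV).comap (MvPolynomial.map (S.presheaf.map (homOfLE h).op).hom) := by
  intro p hp
  exact map_mem_kerIdeal (polyGrading n Γ(S, U)) (polyGrading n Γ(S, V))
    (gmapHom n (S.presheaf.map (homOfLE h).op).hom) (irrelevant_le_gmapHom n _)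
    (iU n i U hU) (iU n i V hV) (X.homOfLE ((i ≫ ProjSpaceOver.toBase n S).preimage_mono h))
    (homOfLE_iU n i hU hV h) (sX n Γ(S, U)) (sX_deg n _) (sX n Γ(S, V)) (sX_deg n _)
    (fun g' hg' => exists_mem_sX n _ hg') hp

section rpow
variable (U : S.Opens) (hU : IsAffineOpen U) (r : Γ(S, U))

lemma toSpecP_eq (A : Type u) [CommRing A] : toSpecP n A = toBaseSpec (polyGrading n A) := rfl

lemma opensRange_homOfLE_basicOpen :
    (X.homOfLE ((i ≫ ProjSpaceOver.toBase n S).preimage_mono (S.basicOpen_le r))).opensRange =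
      (iU n i U hU ≫ toBaseSpec (polyGrading n Γ(S, U))) ⁻¹ᵁ PrimeSpectrum.basicOpen r := by
  rw [Scheme.opensRange_homOfLE, ← toSpecP_eq, ← hU.fromSpec_preimage_basicOpen]
  change _ = ((iU n i U hU ≫ toSpecP n Γ(S, U)) ≫ hU.fromSpec) ⁻¹ᵁ S.basicOpen r
  rw [Category.assoc, iU_toSpec]
  rfl

variable [IsClosedImmersion i]

/-- descending membership in the ideals from a basic open, up to a power -/
theorem exists_pow_mul_mem_IU (q : MvPolynomial (Fin (n + 1)) Γ(S, U))
    (hq : MvPolynomial.map (S.presheaf.map (homOfLE (S.basicOpen_le r)).op).hom q ∈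
      IU n i (S.basicOpen r) (hU.basicOpen r)) :
    ∃ M : ℕ, MvPolynomial.C r ^ M * q ∈ IU n i U hU := by
  obtain ⟨M, hM⟩ := exists_pow_smul_mem_kerIdeal' (polyGrading n Γ(S, U))
    (polyGrading n Γ(S, S.basicOpen r))
    (gmapHom n (S.presheaf.map (homOfLE (S.basicOpen_le r)).op).hom) (irrelevant_le_gmapHom n _)
    (iU n i U hU) (iU n i (S.basicOpen r) (hU.basicOpen r))
    (X.homOfLE ((i ≫ ProjSpaceOver.toBase n S).preimage_mono (S.basicOpen_le r)))
    (homOfLE_iU n i hU (hU.basicOpen r) (S.basicOpen_le r)) (sX n Γ(S, U)) (sX_deg n _)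
    (sX n Γ(S, S.basicOpen r)) (sX_deg n _) (fun g hg => map_mem_sX n _ hg) r
    (opensRange_homOfLE_basicOpen n i U hU r) hq
  refine ⟨M, ?_⟩
  rwa [MvPolynomial.smul_eq_C_mul, map_pow] at hM

end rpow


section functor
variable [IsClosedImmersion i]
open Scheme.AffineZariskiSite

/-- `F(U) = Γ(S,U)[x₀..xₙ]/I_U` -/
def Fobj (U : S.AffineZariskiSite) : CommRingCat.{u} :=
  CommRingCat.of (MvPolynomial (Fin (n + 1)) Γ(S, U.1) ⧸ IU n i U.1 U.2)

/-- restriction maps of `F` -/
def Fmap {U V : S.AffineZariskiSite} (h : V ≤ U) : Fobj n i U ⟶ Fobj n i V :=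
  CommRingCat.ofHom (Ideal.quotientMap (IU n i V.1 V.2)
    (MvPolynomial.map (S.presheaf.map (homOfLE (toOpens_mono h)).op).hom)
    (IU_le_comap n i U.2 V.2 (toOpens_mono h)))

omit [IsClosedImmersion i] in
lemma Fmap_mk {U V : S.AffineZariskiSite} (h : V ≤ U) (p : MvPolynomial (Fin (n + 1)) Γ(S, U.1)) :
    (Fmap n i h).hom (Ideal.Quotient.mk _ p) =
      Ideal.Quotient.mk _ (MvPolynomial.map (S.presheaf.map (homOfLE (toOpens_mono h)).op).hom p) :=
  rfl

/-- the functor `U ↦ Γ(S,U)[x]/I_U` on the affine Zariski site -/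
def F : S.AffineZariskiSiteᵒᵖ ⥤ CommRingCat.{u} where
  obj U := Fobj n i U.unop
  map j := Fmap n i j.unop.le
  map_id U := by
    ext x
    obtain ⟨p, rfl⟩ := Ideal.Quotient.mk_surjective x
    rw [Fmap_mk]
    have : S.presheaf.map (homOfLE (toOpens_mono (𝟙 U).unop.le)).op = 𝟙 _ := S.presheaf.map_id _
    rw [this]
    change Ideal.Quotient.mk _ (MvPolynomial.map (RingHom.id _) p) = Ideal.Quotient.mk _ p
    rw [MvPolynomial.map_id]
  map_comp {U V W} j k := by
    ext x
    obtain ⟨p, rfl⟩ := Ideal.Quotient.mk_surjective x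
    rw [CommRingCat.comp_apply, Fmap_mk, Fmap_mk, Fmap_mk, MvPolynomial.map_map]
    congr 2
    rw [← CommRingCat.hom_comp, ← Functor.map_comp]
    rfl

/-- the structure map of `F` -/
def α : (toOpensFunctor S).op ⋙ S.presheaf ⟶ F n i where
  app U := CommRingCat.ofHom ((Ideal.Quotient.mk (IU n i U.unop.1 U.unop.2)).comp MvPolynomial.C)
  naturality U V j := by
    ext r
    symm
    change (Fmap n i j.unop.le).hom (Ideal.Quotient.mk _ (MvPolynomial.C r)) = _
    rw [Fmap_mk, MvPolynomial.map_C]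
    rfl

attribute [local instance] MvPolynomial.algebraMvPolynomial in
lemma exists_map_eq_pow_mul {A B : Type u} [CommRing A] [CommRing B] (φ : A →+* B) (r : A)
    (hloc : letI := φ.toAlgebra; IsLocalization.Away r B) (p' : MvPolynomial (Fin (n + 1)) B) :
    ∃ (N : ℕ) (p : MvPolynomial (Fin (n + 1)) A),
      MvPolynomial.map φ p = MvPolynomial.map φ (MvPolynomial.C r) ^ N * p' := by
  letI := φ.toAlgebra
  haveI : IsLocalization.Away r B := hloc
  obtain ⟨⟨p, ⟨m, hm⟩⟩, hp⟩ := IsLocalization.surj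
    ((Submonoid.powers r).map (MvPolynomial.C (σ := Fin (n + 1)))) p'
  obtain ⟨_, ⟨N, rfl⟩, rfl⟩ := hm
  refine ⟨N, p, ?_⟩
  have h1 : algebraMap (MvPolynomial (Fin (n + 1)) A) (MvPolynomial (Fin (n + 1)) B) =
      MvPolynomial.map φ := rfl
  simp only [h1] at hp
  rw [← hp, map_pow, map_pow, mul_comm]

theorem coequifibered_α : (α n i).Coequifibered := by
  refine Scheme.AffineZariskiSite.coequifibered_iff_forall_isLocalizationAway.mpr fun U r => ?_
  refine isLocalization_away_quotientMap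
    (MvPolynomial.map (S.presheaf.map (homOfLE (toOpens_mono (U.basicOpen_le r))).op).hom)
    (MvPolynomial.C r) (IU n i U.1 U.2) (IU n i (U.basicOpen r).1 (U.basicOpen r).2)
    (IU_le_comap n i U.2 (U.basicOpen r).2 (toOpens_mono (U.basicOpen_le r))) ?_ ?_ ?_
  · rw [MvPolynomial.map_C]
    exact (RingedSpace.isUnit_res_basicOpen S.toRingedSpace r).map MvPolynomial.C
  · exact exists_map_eq_pow_mul n _ r (U.2.isLocalization_basicOpen r)
  · intro q hq
    exact exists_pow_mul_mem_IU n i U.1 U.2 r q hq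

end functor

end geom

end

end Groth.Agent.Lib.RelProjQuot85
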