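/-
# Closed subschemes of a relative projective space as relative Proj, part 3 (helper85)

For a closed immersion `i : X ⟶ P^n_S`:
* `qAlg n i : RelSpec.QCAlg S`: the quasi-coherent algebra `O_S[x₀..xₙ]/I`, with
  `qEquiv n i U hU : ℬ(U) ≃+* Γ(S,U)[x]/I_U` on affine opens (`qEquiv_res`, `qEquiv_str`);
* `qGrAlg n i : RelProj.QCGrAlg S`, generated in degree one (`isGenDegOne`), of finite type in degree one
  (`isFTDeg_one`);
* `qMap`, `mU : Proj ℬ(U) ⟶ P^n_{Γ(S,U)}` (closed immersion), `chartHom`/`chart`: `f⁻¹(U) ≅ Proj ℬ(U)`;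
* `isRelProj`: `X` is the relative Proj of `qGrAlg n i`;
* `isProjective : RelProj.IsProjective (i ≫ ProjSpaceOver.toBase n S)`.
-/
import Groth.Agent.Lib.RelProjQuot85b

set_option autoImplicit false
universe u
open HomogeneousLocalization CategoryTheory CategoryTheory.Limits AlgebraicGeometry Graded TopologicalSpace
  Opposite CohB1
open scoped HomogeneousIdeal

namespace Groth.Agent.Lib.RelProjQuot85
open Groth.Agent.Lib.ProjBaseChange Groth.Agent.Lib.GradedQuot Groth.Agent.Lib.ProjClosedSub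
open Groth.Agent.Lib.H60GrSym Groth.Agent.Lib.QCAlgOfAffine

noncomputable section

variable {S X : Scheme.{u}} (n : ℕ) (i : X ⟶ ProjSpaceOver n S) [IsClosedImmersion i]

/-- the quotient algebra `O_S[x₀..xₙ]/I` as a quasi-coherent algebra -/
def qAlg : RelSpec.QCAlg S := alg (coequifibered_α n i)

/-- `ℬ(U) ≃+* Γ(S,U)[x]/I_U` -/
def qEquiv (U : S.Opens) (hU : IsAffineOpen U) :
    (qAlg n i).presheaf.obj (op U) ≃+* (MvPolynomial (Fin (n + 1)) Γ(S, U) ⧸ IU n i U hU) :=
  haveI := isIso_gammaAff (coequifibered_α n i) U hU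
  (asIso (gammaAff (coequifibered_α n i) U hU)).commRingCatIsoToRingEquiv

lemma qEquiv_apply (U : S.Opens) (hU : IsAffineOpen U) (x : (qAlg n i).presheaf.obj (op U)) :
    qEquiv n i U hU x = (gammaAff (coequifibered_α n i) U hU).hom x := rfl

/-- `qEquiv` and restriction to a basic open -/
lemma qEquiv_res {U W : S.Opens} (hU : IsAffineOpen U) (hW : IsAffineOpen W)
    (h : ∃ r : Γ(S, U), S.basicOpen r = W) (j : W ≤ U) (x : (qAlg n i).presheaf.obj (op U)) :
    qEquiv n i W hW (((qAlg n i).presheaf.map (homOfLE j).op).hom x) =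
      (Fmap n i (U := mk U hU) (V := mk W hW) h).hom (qEquiv n i U hU x) := by
  have hnat := gammaAff_naturality (coequifibered_α n i) (U := mk U hU) (V := mk W hW) (homOfLE h)
  exact congr($hnat x)

/-- `qEquiv` and the structure map -/
lemma qEquiv_str (U : S.Opens) (hU : IsAffineOpen U) (r : Γ(S, U)) :
    qEquiv n i U hU (((qAlg n i).str.app (op U)).hom r) = Ideal.Quotient.mk _ (MvPolynomial.C r) := by
  have h := str_gammaAff (coequifibered_α n i) U hU
  exact congr($h r)

/-- the grading of `Γ(S,U)[x]/I_U` -/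
abbrev qGr (U : S.Opens) (hU : IsAffineOpen U) :
    ℕ → Submodule Γ(S, U) (MvPolynomial (Fin (n + 1)) Γ(S, U) ⧸ IU n i U hU) :=
  quotGrading (polyGrading n Γ(S, U)) (IU n i U hU)

instance qGr_gradedAlgebra (U : S.Opens) (hU : IsAffineOpen U) : GradedAlgebra (qGr n i U hU) :=
  GradedQuot.gradedAlgebra _ (IU_isHomogeneous n i U hU)

/-- the grading of `ℬ(U)` -/
def qDeg (U : S.Opens) (hU : IsAffineOpen U) (d : ℕ) : AddSubgroup ((qAlg n i).presheaf.obj (op U)) :=
  comapGr (qEquiv n i U hU) (qGr n i U hU) d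

lemma mem_qDeg {U : S.Opens} {hU : IsAffineOpen U} {d : ℕ} {x : (qAlg n i).presheaf.obj (op U)} :
    x ∈ qDeg n i U hU d ↔ qEquiv n i U hU x ∈ qGr n i U hU d := Iff.rfl

instance qDeg_gradedRing (U : S.Opens) (hU : IsAffineOpen U) : GradedRing (qDeg n i U hU) :=
  gradedRingComap (qEquiv n i U hU) (qGr n i U hU)

omit [IsClosedImmersion i] in
lemma Fmap_mem {U V : S.AffineZariskiSite} (h : V ≤ U) {d : ℕ}
    {y : MvPolynomial (Fin (n + 1)) Γ(S, U.1) ⧸ IU n i U.1 U.2} (hy : y ∈ qGr n i U.1 U.2 d) :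
    (Fmap n i h).hom y ∈ qGr n i V.1 V.2 d := by
  obtain ⟨p, hp, rfl⟩ := (mem_quotGrading _ _).1 hy
  rw [Fmap_mk]
  exact mk_mem_quotGrading _ _ ((gmapHom n _).map_mem hp)

/-- the quotient algebra as a quasi-coherent graded algebra -/
def qGrAlg : RelProj.QCGrAlg S where
  toQCAlg := qAlg n i
  deg := qDeg n i
  graded := qDeg_gradedRing n i
  map_mem := by
    intro U V hU hV j d x hx
    refine map_mem_of_basic (qAlg n i) (qDeg n i) (qDeg_gradedRing n i) ?_ hU hV j hx
    intro U W hU hW h j d x hx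
    rw [mem_qDeg] at hx ⊢
    rw [qEquiv_res n i hU hW h j x]
    exact Fmap_mem n i (U := mk U hU) (V := mk W hW) h hx
  str_mem := by
    intro U hU r
    rw [mem_qDeg, qEquiv_str]
    exact mk_mem_quotGrading _ _
      ((MvPolynomial.mem_homogeneousSubmodule _ _).2 (MvPolynomial.isHomogeneous_C _ r))


/-- the class of the variable `x_k` in `ℬ(U)` -/
def xi (U : S.Opens) (hU : IsAffineOpen U) (k : Fin (n + 1)) : (qAlg n i).presheaf.obj (op U) :=
  (qEquiv n i U hU).symm (Ideal.Quotient.mk _ (MvPolynomial.X k))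

lemma xi_mem (U : S.Opens) (hU : IsAffineOpen U) (k : Fin (n + 1)) :
    xi n i U hU k ∈ qDeg n i U hU 1 := by
  rw [mem_qDeg, xi, RingEquiv.apply_symm_apply]
  exact mk_mem_quotGrading _ _
    ((MvPolynomial.mem_homogeneousSubmodule _ _).2 (MvPolynomial.isHomogeneous_X _ k))

lemma symm_mk_C (U : S.Opens) (hU : IsAffineOpen U) (r : Γ(S, U)) :
    (qEquiv n i U hU).symm (Ideal.Quotient.mk _ (MvPolynomial.C r)) =
      ((qAlg n i).str.app (op U)).hom r := by
  rw [RingEquiv.symm_apply_eq, qEquiv_str]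

theorem isGenDegOne : (qGrAlg n i).IsGenDegOne := by
  intro U hU
  rw [eq_top_iff]
  suffices h : ∀ p : MvPolynomial (Fin (n + 1)) Γ(S, U),
      (qEquiv n i U hU).symm (Ideal.Quotient.mk _ p) ∈
        Subring.closure ((((qGrAlg n i).deg U hU 0 : Set ((qGrAlg n i).presheaf.obj (op U)))) ∪
          ((qGrAlg n i).deg U hU 1 : Set _)) by
    intro x _
    obtain ⟨y, rfl⟩ := (qEquiv n i U hU).symm.surjective x
    obtain ⟨p, rfl⟩ := Ideal.Quotient.mk_surjective y
    exact h p
  intro p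
  induction p using MvPolynomial.induction_on with
  | C a =>
    apply Subring.subset_closure
    left
    rw [symm_mk_C]
    exact (qGrAlg n i).str_mem U hU a
  | add p q hp hq =>
    rw [map_add, map_add]
    exact add_mem hp hq
  | mul_X p k hp =>
    rw [map_mul, map_mul]
    refine mul_mem hp (Subring.subset_closure ?_)
    right
    exact xi_mem n i U hU k

theorem isFTDeg_one : (qGrAlg n i).IsFTDeg 1 := by
  classical
  intro U hU
  refine ⟨Finset.univ.image (xi n i U hU), ?_, ?_⟩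
  · intro t ht
    obtain ⟨k, -, rfl⟩ := Finset.mem_image.1 (Finset.mem_coe.1 ht)
    exact xi_mem n i U hU k
  · intro x hx
    have hx' : qEquiv n i U hU x ∈ qGr n i U hU 1 := hx
    obtain ⟨p, hp, hpx⟩ := (mem_quotGrading _ _).1 hx'
    have hp' : p ∈ Submodule.span Γ(S, U) (Set.range (MvPolynomial.X (R := Γ(S, U)) (σ := Fin (n + 1)))) := by
      rw [← MvPolynomial.homogeneousSubmodule_one_eq_span_X]
      exact hp
    obtain ⟨c, hc⟩ := (Submodule.mem_span_range_iff_exists_fun _).1 hp'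
    have hx2 : x = ∑ k, ((qAlg n i).str.app (op U)).hom (c k) * xi n i U hU k := by
      apply (qEquiv n i U hU).injective
      rw [← hpx, ← hc, map_sum, map_sum]
      refine Finset.sum_congr rfl fun k _ => ?_
      rw [map_mul, qEquiv_str, xi, RingEquiv.apply_symm_apply, ← map_mul, MvPolynomial.smul_eq_C_mul]
    refine ⟨fun t => ∑ k ∈ Finset.univ.filter (fun k => xi n i U hU k = t), c k, ?_⟩
    rw [hx2]
    symm
    refine Finset.sum_image' (fun k => ((qAlg n i).str.app (op U)).hom (c k) * xi n i U hU k)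
      (fun k _ => ?_)
    change ((qAlg n i).str.app (op U)).hom (∑ k' ∈ Finset.univ.filter
      (fun k' => xi n i U hU k' = xi n i U hU k), c k') * xi n i U hU k = _
    rw [map_sum, Finset.sum_mul]
    refine Finset.sum_congr rfl fun k' hk' => ?_
    rw [(Finset.mem_filter.1 hk').2]

section charts
variable (U : S.Opens) (hU : IsAffineOpen U)

/-- the surjective graded hom `Γ(S,U)[x] → ℬ(U)` -/
def qMap : polyGrading n Γ(S, U) →+*ᵍ qDeg n i U hU :=
  (comapGrFrom (qEquiv n i U hU) (qGr n i U hU)).comp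
    (mkGraded (polyGrading n Γ(S, U)) (I := IU n i U hU))

lemma qMap_apply (p : MvPolynomial (Fin (n + 1)) Γ(S, U)) :
    qMap n i U hU p = (qEquiv n i U hU).symm (Ideal.Quotient.mk _ p) := rfl

lemma qMap_surjective {d : ℕ} {y : (qAlg n i).presheaf.obj (op U)} (hy : y ∈ qDeg n i U hU d) :
    ∃ x ∈ polyGrading n Γ(S, U) d, qMap n i U hU x = y := by
  obtain ⟨p, hp, hpy⟩ := (mem_quotGrading _ _).1 ((mem_qDeg n i).1 hy)
  refine ⟨p, hp, ?_⟩
  rw [qMap_apply, hpy, RingEquiv.symm_apply_apply]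

lemma irrelevant_le_qMap :
    (qDeg n i U hU)₊ ≤ ((polyGrading n Γ(S, U))₊).map (qMap n i U hU) := by
  rw [HomogeneousIdeal.irrelevant_le]
  intro d hd y hy
  obtain ⟨x, hx, rfl⟩ := qMap_surjective n i U hU hy
  exact Ideal.mem_map_of_mem _ (HomogeneousIdeal.mem_irrelevant_of_mem _ hd hx)

/-- the closed immersion `Proj ℬ(U) ⟶ P^n_{Γ(S,U)}` -/
def mU : Proj (qDeg n i U hU) ⟶ Proj (polyGrading n Γ(S, U)) :=
  Proj.map (qMap n i U hU) (irrelevant_le_qMap n i U hU)

instance : IsClosedImmersion (mU n i U hU) :=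
  Groth.Agent.Lib.ProjMapImm.isClosedImmersion_map _ _ 0
    (fun _ _ _ hy => qMap_surjective n i U hU hy)

lemma exists_chartHom :
    ∃ c : ((XU n i U : X.Opens) : Scheme.{u}) ⟶ Proj (qDeg n i U hU),
      IsIso c ∧ c ≫ mU n i U hU = iU n i U hU := by
  obtain ⟨e, he⟩ : ∃ e : ((XU n i U : X.Opens) : Scheme.{u}) ≅ Proj (qGr n i U hU),
      e.hom ≫ Proj.map (mkGraded (polyGrading n Γ(S, U)) (I := IU n i U hU))
        (irrelevant_le_map_mkGraded _ _) = iU n i U hU :=
    @exists_iso _ _ _ _ _ (polyGrading n Γ(S, U)) _ (sX n Γ(S, U)) (sX_deg n Γ(S, U)) _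
      (iU n i U hU) (irrelevant_eq_span_sX n Γ(S, U)) (qGr_gradedAlgebra n i U hU) _
  have hirr := irrelevant_le_map_of_rightInverse (comapGrTo (qEquiv n i U hU) (qGr n i U hU))
    (comapGrFrom (qEquiv n i U hU) (qGr n i U hU)) (fun b => (qEquiv n i U hU).apply_symm_apply b)
  have h2 : IsIso (Proj.map (comapGrTo (qEquiv n i U hU) (qGr n i U hU)) hirr) :=
    isIso_projMap _ (comapGrFrom (qEquiv n i U hU) (qGr n i U hU))
      (fun a => (qEquiv n i U hU).symm_apply_apply a)
      (fun b => (qEquiv n i U hU).apply_symm_apply b) hirr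
  refine ⟨e.hom ≫ Proj.map (comapGrTo (qEquiv n i U hU) (qGr n i U hU)) hirr,
    @IsIso.comp_isIso _ _ _ _ _ _ _ (Iso.isIso_hom e) h2, ?_⟩
  rw [Category.assoc, ← he]
  congr 1
  unfold mU
  rw [← Proj.map_comp]
  refine Groth.Agent.Lib.RelProjExists.projMap_congr ?_ _ _
  refine DFunLike.ext _ _ (fun p => ?_)
  change qEquiv n i U hU ((qEquiv n i U hU).symm (Ideal.Quotient.mk _ p)) = Ideal.Quotient.mk _ p
  rw [RingEquiv.apply_symm_apply]

/-- the chart `f⁻¹(U) ⟶ Proj ℬ(U)` -/
def chartHom : ((XU n i U : X.Opens) : Scheme.{u}) ⟶ Proj (qDeg n i U hU) :=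
  (exists_chartHom n i U hU).choose

instance : IsIso (chartHom n i U hU) := (exists_chartHom n i U hU).choose_spec.1

@[reassoc]
lemma chartHom_mU : chartHom n i U hU ≫ mU n i U hU = iU n i U hU :=
  (exists_chartHom n i U hU).choose_spec.2

end charts

section relproj

/-- the charts of `X` as the relative Proj of the quotient algebra -/
def chartIso (U : S.Opens) (hU : IsAffineOpen U) :
    ((XU n i U : X.Opens) : Scheme.{u}) ≅ Proj (qDeg n i U hU) :=
  asIso (chartHom n i U hU)

/-- the charts of `X` as the relative Proj of the quotient algebra, typed for `RelProj.IsRelProj` -/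
def chart (U : S.Opens) (hU : IsAffineOpen U) :
    ((((i ≫ ProjSpaceOver.toBase n S) ⁻¹ᵁ U : X.Opens) : Scheme.{u})) ≅ Proj ((qGrAlg n i).deg U hU) :=
  chartIso n i U hU

lemma mU_toSpecZero (U : S.Opens) (hU : IsAffineOpen U) :
    mU n i U hU ≫ toSpecP n Γ(S, U) =
      Proj.toSpecZero (qDeg n i U hU) ≫ Spec.map ((qGrAlg n i).strZero U hU) :=
  Groth.Agent.Lib.ProjMapImm.map_toSpecZero (qMap n i U hU) (irrelevant_le_qMap n i U hU)
    (CommRingCat.ofHom (algebraMap Γ(S, U) (polyGrading n Γ(S, U) 0))) ((qGrAlg n i).strZero U hU)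
    (fun r => symm_mk_C n i U hU r)

lemma res_qMap {U V : S.Opens} (hU : IsAffineOpen U) (hV : IsAffineOpen V)
    (h : ∃ r : Γ(S, U), S.basicOpen r = V) (j : V ≤ U) (p : MvPolynomial (Fin (n + 1)) Γ(S, U)) :
    ((qAlg n i).presheaf.map (homOfLE j).op).hom (qMap n i U hU p) =
      qMap n i V hV (MvPolynomial.map (S.presheaf.map (homOfLE j).op).hom p) := by
  apply (qEquiv n i V hV).injective
  rw [qEquiv_res n i hU hV h j, qMap_apply, qMap_apply, RingEquiv.apply_symm_apply,
    RingEquiv.apply_symm_apply]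
  rfl

lemma projMap_res_mU (U : S.Opens) (hU : IsAffineOpen U) (r : Γ(S, U)) :
    Proj.map ((qGrAlg n i).res hU (hU.basicOpen r) (S.basicOpen_le r))
        ((qGrAlg n i).irrelevant_le_map U hU r) ≫ mU n i U hU =
      mU n i (S.basicOpen r) (hU.basicOpen r) ≫
        βHom n (S.presheaf.map (homOfLE (S.basicOpen_le r)).op).hom := by
  have h : ((qGrAlg n i).res hU (hU.basicOpen r) (S.basicOpen_le r)).comp (qMap n i U hU) =
      (qMap n i (S.basicOpen r) (hU.basicOpen r)).comp
        (gmapHom n (S.presheaf.map (homOfLE (S.basicOpen_le r)).op).hom) :=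
    DFunLike.ext _ _ (fun p => res_qMap n i hU (hU.basicOpen r) ⟨r, rfl⟩ (S.basicOpen_le r) p)
  exact (Proj.map_comp _ _ _ _).symm.trans
    ((Groth.Agent.Lib.RelProjExists.projMap_congr h _
      (HomogeneousIdeal.irrelevant_le_map_comp (irrelevant_le_gmapHom n _)
        (irrelevant_le_qMap n i _ _))).trans (Proj.map_comp _ _ _ _))

theorem isRelProj :
    RelProj.IsRelProj (qGrAlg n i) (i ≫ ProjSpaceOver.toBase n S) (chart n i) where
  chart_over U hU := by
    change chartHom n i U hU ≫ Proj.toSpecZero (qDeg n i U hU) ≫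
      Spec.map ((qGrAlg n i).strZero U hU) ≫ hU.fromSpec = _
    rw [← reassoc_of% (mU_toSpecZero n i U hU), chartHom_mU_assoc, iU_toSpec]
  chart_res U hU r := by
    change X.homOfLE _ ≫ chartHom n i U hU = chartHom n i (S.basicOpen r) (hU.basicOpen r) ≫ _
    rw [← cancel_mono (mU n i U hU), Category.assoc, Category.assoc, chartHom_mU]
    refine Eq.trans ?_ (congrArg (chartHom n i (S.basicOpen r) (hU.basicOpen r) ≫ ·)
      (projMap_res_mU n i U hU r)).symm
    refine Eq.trans ?_ (chartHom_mU_assoc n i (S.basicOpen r) (hU.basicOpen r) _).symm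
    exact homOfLE_iU n i hU (hU.basicOpen r) (S.basicOpen_le r)

/-- **A closed subscheme of `P^n_S` is projective over `S`** (in the sense of `RelProj.IsProjective`). -/
theorem isProjective : RelProj.IsProjective (i ≫ ProjSpaceOver.toBase n S) :=
  ⟨qGrAlg n i, X, i ≫ ProjSpaceOver.toBase n S, chart n i, Iso.refl X, isGenDegOne n i, isFTDeg_one n i,
    isRelProj n i, Category.id_comp _⟩

end relproj

end

end Groth.Agent.Lib.RelProjQuot85
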