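/-
# Projective morphisms are locally H-projective (helper85)

* `evFin`, `exists_closedImmersion`: for a graded ring `𝒜` generated in degrees `0, 1` with `𝒜 1` spanned over `R`
  by a finite set, `Proj 𝒜` is a closed subscheme of `P^m_R` over `Spec R` (reindexing of helper60's `evGr`);
* `isHProjective_comp_of_isIso`, `isHProjective_of_arrowIso`;
* `isHProjective_restrict_of_isRelProj`, `isHProjective_restrict_of_isProjective`: a projective morphism is
  H-projective over every affine open of the base;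
* `isLocallyProjective_iff`: locally projective ⇔ locally H-projective (S9704).
-/
import Groth.Agent.Lib.H60ProjProper
import Groth.Agent.Lib.RelProjQuot85c

set_option autoImplicit false
universe u
open CategoryTheory CategoryTheory.Limits AlgebraicGeometry MvPolynomial CohB1
open scoped HomogeneousIdeal

namespace Groth.Agent.Lib.RelProjLoc85

open Groth.Agent.Lib.H60ProjProper Groth.Agent.Lib.RelProjQuot85

attribute [local instance] MvPolynomial.gradedAlgebra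

section ring

variable {A : Type u} [CommRing A] (𝒜 : ℕ → AddSubgroup A) [GradedRing 𝒜] {R : Type u} [CommRing R]
  (ψ : R →+* 𝒜 0) (T : Finset A) {m : ℕ} (e : Fin (m + 1) ≃ ↥T)

/-- `evGr` reindexed by `Fin (m + 1)` -/
noncomputable def evFin (hT : ∀ t ∈ T, t ∈ 𝒜 1) : polyGrading m R →+*ᵍ 𝒜 where
  toRingHom := (ev 𝒜 ψ T).comp (rename e : MvPolynomial (Fin (m + 1)) R →ₐ[R] MvPolynomial (↥T) R)
  map_mem := fun {d x} hx => by
    refine ev_mem 𝒜 ψ hT ?_
    rw [mem_homogeneousSubmodule] at hx ⊢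
    exact hx.rename_isHomogeneous

lemma evFin_apply (hT : ∀ t ∈ T, t ∈ 𝒜 1) (p : MvPolynomial (Fin (m + 1)) R) :
    evFin 𝒜 ψ T e hT p = ev 𝒜 ψ T (rename e p) := rfl

lemma evFin_C (hT : ∀ t ∈ T, t ∈ 𝒜 1) (r : R) : evFin 𝒜 ψ T e hT (C r) = (ψ r : A) := by
  rw [evFin_apply, rename_C, ev_C]

theorem evFin_surj (hT : ∀ t ∈ T, t ∈ 𝒜 1)
    (hspan : ∀ x ∈ 𝒜 1, ∃ c : A → R, x = ∑ t ∈ T, (ψ (c t) : A) * t)
    (hgen : Subring.closure ((𝒜 0 : Set A) ∪ (𝒜 1 : Set A)) = ⊤) :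
    ∀ k, 1 ≤ k → ∀ y ∈ 𝒜 k, ∃ x ∈ polyGrading m R k, evFin 𝒜 ψ T e hT x = y := by
  intro k hk y hy
  obtain ⟨x, hx, rfl⟩ := ev_surj 𝒜 ψ hT hspan hgen k hk y hy
  refine ⟨rename e.symm x, ?_, ?_⟩
  · rw [mem_homogeneousSubmodule] at hx ⊢
    exact hx.rename_isHomogeneous
  · rw [evFin_apply, rename_rename]
    have : (⇑e ∘ ⇑e.symm) = id := by
      funext t
      simp
    rw [this, rename_id_apply]

theorem irrelevant_le_evFin (hT : ∀ t ∈ T, t ∈ 𝒜 1)
    (hspan : ∀ x ∈ 𝒜 1, ∃ c : A → R, x = ∑ t ∈ T, (ψ (c t) : A) * t)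
    (hgen : Subring.closure ((𝒜 0 : Set A) ∪ (𝒜 1 : Set A)) = ⊤) :
    𝒜₊ ≤ (HomogeneousIdeal.irrelevant (polyGrading m R)).map (evFin 𝒜 ψ T e hT) := by
  rw [HomogeneousIdeal.irrelevant_le]
  intro d hd b hb
  obtain ⟨a, ha, rfl⟩ := evFin_surj 𝒜 ψ T e hT hspan hgen d hd b hb
  exact Ideal.mem_map_of_mem _ (HomogeneousIdeal.mem_irrelevant_of_mem _ hd ha)

end ring

/-- `Proj 𝒜` is a closed subscheme of `P^m_R` over `Spec R` when `A` is generated in degrees `0`, `1` and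
`𝒜 1` is spanned over `R` by a finite set. -/
theorem exists_closedImmersion {A : Type u} [CommRing A] (𝒜 : ℕ → AddSubgroup A) [GradedRing 𝒜]
    {R : CommRingCat.{u}} (ψ : R ⟶ CommRingCat.of (𝒜 0)) (T : Finset A)
    (hT : ∀ t' ∈ T, t' ∈ 𝒜 1)
    (hspan : ∀ x ∈ 𝒜 1, ∃ c : A → R, x = ∑ t ∈ T, (ψ.hom (c t) : A) * t)
    (hgen : Subring.closure ((𝒜 0 : Set A) ∪ (𝒜 1 : Set A)) = ⊤) :
    ∃ (m : ℕ) (c : Proj 𝒜 ⟶ Proj (polyGrading m R)), IsClosedImmersion c ∧
      c ≫ toSpecP m R = Proj.toSpecZero 𝒜 ≫ Spec.map ψ := by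
  classical
  -- add `0` to `T` to make it nonempty
  let T' : Finset A := insert 0 T
  have hT' : ∀ t' ∈ T', t' ∈ 𝒜 1 := by
    intro t ht
    rcases Finset.mem_insert.mp ht with rfl | h
    · exact zero_mem _
    · exact hT t h
  have hspan' : ∀ x ∈ 𝒜 1, ∃ c : A → R, x = ∑ t ∈ T', (ψ.hom (c t) : A) * t := by
    intro x hx
    obtain ⟨c, hc⟩ := hspan x hx
    refine ⟨c, ?_⟩
    by_cases h0 : (0 : A) ∈ T
    · change x = ∑ t ∈ insert 0 T, _
      rw [Finset.insert_eq_of_mem h0]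
      exact hc
    · change x = ∑ t ∈ insert 0 T, _
      rw [Finset.sum_insert h0, mul_zero, zero_add]
      exact hc
  have hne : T'.card ≠ 0 := Finset.card_ne_zero.mpr ⟨0, Finset.mem_insert_self _ _⟩
  obtain ⟨m, hm⟩ := Nat.exists_eq_succ_of_ne_zero hne
  let e : Fin (m + 1) ≃ ↥T' := (finCongr hm.symm).trans T'.equivFin.symm
  have hirr := irrelevant_le_evFin 𝒜 ψ.hom T' e hT' hspan' hgen
  have h1 : IsClosedImmersion (Proj.map (evFin 𝒜 ψ.hom T' e hT') hirr) :=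
    Groth.Agent.Lib.ProjMapImm.isClosedImmersion_map _ _ 1 (evFin_surj 𝒜 ψ.hom T' e hT' hspan' hgen)
  have h2 := Groth.Agent.Lib.ProjMapImm.map_toSpecZero (evFin 𝒜 ψ.hom T' e hT') hirr
    (CommRingCat.ofHom (algebraMap R (polyGrading m R 0))) ψ (fun r => evFin_C 𝒜 ψ.hom T' e hT' r)
  exact ⟨m, Proj.map (evFin 𝒜 ψ.hom T' e hT') hirr, h1, h2⟩


section scheme

open Groth.Agent.Lib.HQuasiProjH3 Groth.Agent.Lib.ChowGen85 Groth.Agent.Lib.VeryAmpleH3

/-- precomposing with an isomorphism preserves H-projectivity -/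
theorem isHProjective_comp_of_isIso {X' X S : Scheme.{u}} (a : X' ⟶ X) (ha : IsIso a) {q : X ⟶ S}
    (h : RelProj.IsHProjective q) : RelProj.IsHProjective (a ≫ q) := by
  obtain ⟨n, i, hi, hiq⟩ := h
  exact ⟨n, a ≫ i, inferInstance, by rw [Category.assoc, hiq]⟩

/-- H-projectivity is invariant under isomorphism of arrows -/
theorem isHProjective_of_arrowIso {Y₁ T₁ Y₂ T₂ : Scheme.{u}} {g₁ : Y₁ ⟶ T₁} {g₂ : Y₂ ⟶ T₂}
    (e : Arrow.mk g₁ ≅ Arrow.mk g₂) (h : RelProj.IsHProjective g₁) : RelProj.IsHProjective g₂ := by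
  obtain ⟨n, i, himm, hi⟩ := h
  have hw : e.hom.left ≫ g₂ = g₁ ≫ e.hom.right := e.hom.w
  have : IsIso (e.hom.left : Y₁ ⟶ Y₂) := inferInstanceAs (IsIso e.hom.left)
  have : IsIso (e.hom.right : T₁ ⟶ T₂) := inferInstanceAs (IsIso e.hom.right)
  refine ⟨n, inv (e.hom.left : Y₁ ⟶ Y₂) ≫ i ≫ projSpaceOverMap n (e.hom.right : T₁ ⟶ T₂),
    inferInstance, ?_⟩
  rw [Category.assoc, Category.assoc, projSpaceOverMap_toBase, reassoc_of% hi, ← hw,
    IsIso.inv_hom_id_assoc]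

variable {Y P : Scheme.{u}} {𝒮 : RelProj.QCGrAlg Y} {p : P ⟶ Y}
  {chart : ∀ (U : Y.Opens) (hU : IsAffineOpen U),
    (((p ⁻¹ᵁ U : P.Opens) : Scheme.{u}) ≅ Proj (𝒮.deg U hU))}

theorem restrict_eq (hP : RelProj.IsRelProj 𝒮 p chart) (U : Y.Opens) (hU : IsAffineOpen U) :
    p ∣_ U = (chart U hU).hom ≫ (Proj.toSpecZero (𝒮.deg U hU) ≫ Spec.map (𝒮.strZero U hU)) ≫
      hU.isoSpec.inv := by
  rw [← cancel_mono U.ι, morphismRestrict_ι, ← hP.chart_over U hU]
  simp only [Category.assoc, IsAffineOpen.isoSpec_inv_ι]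

/-- a relative Proj (generated in degree one, of finite type in degree one) is H-projective over every
affine open of the base -/
theorem isHProjective_restrict_of_isRelProj (hgen : 𝒮.IsGenDegOne) (hFT : 𝒮.IsFTDeg 1)
    (hP : RelProj.IsRelProj 𝒮 p chart) (V : Y.Opens) (hV : IsAffineOpen V) :
    RelProj.IsHProjective (p ∣_ V) := by
  obtain ⟨T, hT, hspan⟩ := hFT V hV
  have hT' : ∀ t' ∈ T, t' ∈ 𝒮.deg V hV 1 := fun t ht => hT ht
  obtain ⟨m, c, hc, hcomp⟩ := exists_closedImmersion (𝒮.deg V hV) (𝒮.strZero V hV) T hT' hspan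
    (hgen V hV)
  refine ⟨m, (chart V hV).hom ≫ c ≫ (pIso m Γ(Y, V)).hom ≫ projSpaceOverMap m hV.isoSpec.inv,
    inferInstance, ?_⟩
  rw [restrict_eq hP V hV]
  simp only [Category.assoc]
  rw [projSpaceOverMap_toBase]
  have h1 : (pIso m Γ(Y, V)).hom ≫ ProjSpaceOver.toBase m (Spec (CommRingCat.of Γ(Y, V))) =
      toSpecP m Γ(Y, V) := pIso_hom_snd m
  rw [reassoc_of% h1, reassoc_of% hcomp]

/-- a projective morphism is H-projective over every affine open of the base -/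
theorem isHProjective_restrict_of_isProjective {X : Scheme.{u}} {f : X ⟶ Y}
    (hf : RelProj.IsProjective f) (V : Y.Opens) (hV : IsAffineOpen V) :
    RelProj.IsHProjective (f ∣_ V) := by
  obtain ⟨𝒮, P, p, chart, e, hgen, hFT, hP, rfl⟩ := hf
  rw [morphismRestrict_comp]
  have h1 : IsIso (e.hom ∣_ (p ⁻¹ᵁ V)) := inferInstance
  exact isHProjective_comp_of_isIso _ h1 (isHProjective_restrict_of_isRelProj hgen hFT hP V hV)

/-- **S9704** -/
theorem isLocallyProjective_iff {X S : Scheme.{u}} (f : X ⟶ S) :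
    RelProj.IsLocallyProjective f ↔
      ∀ s : S, ∃ U : S.Opens, s ∈ U ∧ RelProj.IsHProjective (f ∣_ U) := by
  constructor
  · intro h s
    obtain ⟨U, hsU, hU⟩ := h s
    obtain ⟨V, hV, hsV, -⟩ := TopologicalSpace.Opens.isBasis_iff_nbhd.1 U.toScheme.isBasis_affineOpens
      (show (⟨s, hsU⟩ : U.toScheme) ∈ (⊤ : U.toScheme.Opens) from trivial)
    refine ⟨U.ι ''ᵁ V, ⟨⟨s, hsU⟩, hsV, rfl⟩, ?_⟩
    exact isHProjective_of_arrowIso (morphismRestrictRestrict f U V)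
      (isHProjective_restrict_of_isProjective hU V hV)
  · intro h s
    obtain ⟨U, hsU, n, i, hi, hiq⟩ := h s
    refine ⟨U, hsU, ?_⟩
    rw [← hiq]
    exact isProjective n i

end scheme

end Groth.Agent.Lib.RelProjLoc85
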