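/-
# H-projective morphisms and base change (helper85)

* `isHProjective_of_isPullback`: H-projectivity is stable under base change;
* `isPullback_restrict`: `(pullback.snd f g) ∣_ g⁻¹U` is the base change of `f ∣_ U` along `g ∣_ U`;
* `isLocallyProjective_baseChange`: locally projective morphisms are stable under base change (S9713).
-/
import Groth.Agent.Lib.RelProjLoc85

set_option autoImplicit false
universe u
open CategoryTheory CategoryTheory.Limits AlgebraicGeometry CohB1

namespace Groth.Agent.Lib.RelProjLoc85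

open Groth.Agent.Lib.HQuasiProjH3 Groth.Agent.Lib.ChowGen85

/-- H-projectivity is stable under base change -/
theorem isHProjective_of_isPullback {Z T Z' T' : Scheme.{u}} {q : Z ⟶ T} {q' : Z' ⟶ T'} {a : Z' ⟶ Z}
    {b : T' ⟶ T} (sq : IsPullback a q' q b) (h : RelProj.IsHProjective q) :
    RelProj.IsHProjective q' := by
  obtain ⟨n, i, hi, hiq⟩ := h
  have hw : (a ≫ i) ≫ ProjSpaceOver.toBase n T = q' ≫ b := by
    rw [Category.assoc, hiq, sq.w]
  let i' : Z' ⟶ ProjSpaceOver n T' := (isPullback_projSpaceOverMap n b).lift (a ≫ i) q' hw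
  have h1 : i' ≫ projSpaceOverMap n b = a ≫ i := (isPullback_projSpaceOverMap n b).lift_fst _ _ _
  have h2 : i' ≫ ProjSpaceOver.toBase n T' = q' := (isPullback_projSpaceOverMap n b).lift_snd _ _ _
  have h3 : IsPullback i' a (projSpaceOverMap n b) i := by
    refine IsPullback.of_right ?_ h1 (isPullback_projSpaceOverMap n b).flip
    rw [h2, hiq]
    exact sq.flip
  have h4 : IsClosedImmersion i' :=
    MorphismProperty.of_isPullback (P := @IsClosedImmersion) h3.flip hi
  exact ⟨n, i', h4, h2⟩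

/-- base change of a morphism restricted over an open -/
theorem isPullback_restrict {X S S' : Scheme.{u}} (f : X ⟶ S) (g : S' ⟶ S) (U : S.Opens) :
    ∃ a : ((pullback.snd f g ⁻¹ᵁ (g ⁻¹ᵁ U) : (pullback f g).Opens) : Scheme.{u}) ⟶
        ((f ⁻¹ᵁ U : X.Opens) : Scheme.{u}),
      IsPullback a (pullback.snd f g ∣_ (g ⁻¹ᵁ U)) (f ∣_ U) (g ∣_ U) := by
  have hr : Set.range ((pullback.snd f g ⁻¹ᵁ (g ⁻¹ᵁ U)).ι ≫ pullback.fst f g) ⊆
      Set.range (f ⁻¹ᵁ U).ι := by
    rintro _ ⟨w, rfl⟩
    rw [Scheme.Opens.range_ι]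
    change f ((pullback.fst f g) w.1) ∈ U
    rw [← Scheme.Hom.comp_apply, pullback.condition, Scheme.Hom.comp_apply]
    exact w.2
  let a := IsOpenImmersion.lift (f ⁻¹ᵁ U).ι ((pullback.snd f g ⁻¹ᵁ (g ⁻¹ᵁ U)).ι ≫ pullback.fst f g) hr
  have ha : a ≫ (f ⁻¹ᵁ U).ι = (pullback.snd f g ⁻¹ᵁ (g ⁻¹ᵁ U)).ι ≫ pullback.fst f g :=
    IsOpenImmersion.lift_fac _ _ _
  refine ⟨a, ?_⟩
  refine IsPullback.of_right ?_ ?_ (isPullback_morphismRestrict f U).flip
  · rw [ha, morphismRestrict_ι]
    exact (isPullback_morphismRestrict (pullback.snd f g) (g ⁻¹ᵁ U)).flip.paste_horiz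
      (IsPullback.of_hasPullback f g)
  · rw [← cancel_mono U.ι, Category.assoc, Category.assoc, morphismRestrict_ι, morphismRestrict_ι,
      reassoc_of% ha, morphismRestrict_ι_assoc, pullback.condition]

/-- **S9713**: locally projective morphisms are stable under base change -/
theorem isLocallyProjective_baseChange {X S S' : Scheme.{u}} (f : X ⟶ S)
    (hf : RelProj.IsLocallyProjective f) (g : S' ⟶ S) :
    RelProj.IsLocallyProjective (pullback.snd f g) := by
  rw [isLocallyProjective_iff] at hf ⊢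
  intro s'
  obtain ⟨U, hsU, hU⟩ := hf (g s')
  obtain ⟨a, ha⟩ := isPullback_restrict f g U
  exact ⟨g ⁻¹ᵁ U, hsU, isHProjective_of_isPullback ha hU⟩

end Groth.Agent.Lib.RelProjLoc85
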