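import Groth.Prelude.Def_RelSpec
import Mathlib.AlgebraicGeometry.Morphisms.Basic

/-!
# Chartwise criteria for morphisms of relative spectra (helper28)

* `isPullback_ι_specMap`: the chart square of `specMap ψ` is cartesian.
* `specMap_of_forall`: a property local at the target holds for `specMap ψ` as soon as it holds for every
  `Spec.map (ψ(U))`, `U` affine.
* `π_of_forall`: a property local at the source, stable under composition and satisfied by open immersions holds for
  the structure morphism `A.π` as soon as it holds for every `Spec.map (A.str(U))`, `U` affine.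
-/

set_option autoImplicit false
universe u

open CategoryTheory CategoryTheory.Limits AlgebraicGeometry TopologicalSpace Opposite

namespace Groth.Agent.Lib.RelSpecLocal

variable {S : Scheme.{u}} {A B : RelSpec.QCAlg S}

theorem specMap_preimage_opensRange (ψ : A ⟶ B) (U : S.Opens) (hU : IsAffineOpen U) :
    RelSpec.QCAlg.specMap ψ ⁻¹ᵁ (A.ι U hU).opensRange = (B.ι U hU).opensRange := by
  rw [← A.π_preimage U hU, ← Scheme.Hom.comp_preimage, RelSpec.QCAlg.specMap_π, B.π_preimage U hU]

theorem isPullback_ι_specMap (ψ : A ⟶ B) (U : S.Opens) (hU : IsAffineOpen U) :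
    IsPullback (Spec.map (ψ.hom.app (op U))) (B.ι U hU) (A.ι U hU) (RelSpec.QCAlg.specMap ψ) :=
  IsOpenImmersion.isPullback _ _ _ _ (RelSpec.QCAlg.ι_specMap U hU ψ) (specMap_preimage_opensRange ψ U hU)

/-- A property local at the target holds for `specMap ψ` if it holds chartwise. -/
theorem specMap_of_forall {P : MorphismProperty Scheme.{u}} [IsZariskiLocalAtTarget P] (ψ : A ⟶ B)
    (H : ∀ (U : S.Opens) (_ : IsAffineOpen U), P (Spec.map (ψ.hom.app (op U)))) :
    P (RelSpec.QCAlg.specMap ψ) := by
  refine IsZariskiLocalAtTarget.of_openCover A.glueData.cover fun U => ?_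
  have h := (isPullback_ι_specMap ψ U.1 U.2).flip
  have e : h.isoPullback.hom ≫ pullback.snd (RelSpec.QCAlg.specMap ψ) (A.ι U.1 U.2) =
      Spec.map (ψ.hom.app (op U.1)) := h.isoPullback_hom_snd
  change P (pullback.snd (RelSpec.QCAlg.specMap ψ) (A.ι U.1 U.2))
  rw [← P.cancel_left_of_respectsIso h.isoPullback.hom, e]
  exact H U.1 U.2

/-- A property local at the source, stable under composition and containing open immersions, holds for `A.π` if it
holds chartwise. -/
theorem π_of_forall {P : MorphismProperty Scheme.{u}} [IsZariskiLocalAtSource P] [P.IsStableUnderComposition]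
    (hP : ∀ {X Y : Scheme.{u}} (f : X ⟶ Y) [IsOpenImmersion f], P f) (A : RelSpec.QCAlg S)
    (H : ∀ (U : S.Opens) (_ : IsAffineOpen U), P (Spec.map (A.str.app (op U)))) : P A.π := by
  refine IsZariskiLocalAtSource.of_openCover A.glueData.cover fun U => ?_
  change P (A.ι U.1 U.2 ≫ A.π)
  rw [A.ι_π U.1 U.2]
  exact P.comp_mem _ _ (H U.1 U.2) (hP _)

end Groth.Agent.Lib.RelSpecLocal
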