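import Groth.Agent.Lib.RelTildeFT
import Groth.Agent.Lib.QCohStalk
import Groth.Agent.Lib.GrModTN
import Groth.Agent.Lib.H78TensorGen

/-!
# `ℳ~ = 0` on a relative Proj implies (TN) under (TF), base quasi-compact (helper28)

* `sections_eq_zero_of_isZero`: if `F = ℳ~` is zero, all sections of the chart modules `(ℳ(U))~` vanish.
* `deg_eq_zero_basicOpen`: if `ℳ(U)_k = 0` then `ℳ(D(r))_k = 0` (quasi-coherence).
* `isTN_of_isZero` (S8326).
-/

set_option autoImplicit false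
universe u

open CategoryTheory CategoryTheory.Limits AlgebraicGeometry Opposite TopologicalSpace
open scoped HomogeneousIdeal

noncomputable section

namespace Groth.Agent.Lib.RelTildeTN

open Groth.Agent.Lib.RelTildeGlue Groth.Agent.Lib.RelTildeVal2 Groth.Agent.Lib.RelTildeLocal
open Groth.Agent.Lib.GrModQCoh Groth.Agent.Lib.QCohStalk

variable {Y P : Scheme.{u}} {𝒮 : RelProj.QCGrAlg Y} {p : P ⟶ Y}
  {chart : ∀ (U : Y.Opens) (hU : IsAffineOpen U), (((p ⁻¹ᵁ U : P.Opens) : Scheme.{u}) ≅ Proj (𝒮.deg U hU))}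

/-- If `F = (ℳ(n))~` is zero, all sections of the chart modules vanish. -/
theorem sections_eq_zero_of_isZero {ℳ : RelProj.GrModule 𝒮} {n : ℤ} {F : P.Modules}
    {lam : ∀ (U : Y.Opens) (hU : IsAffineOpen U),
      F ⟶ (Scheme.Modules.pushforward (RelProj.emb p chart U hU)).obj (GrMod.tilde (𝒮.deg U hU) (ℳ.deg U hU) n)}
    (hF : RelProj.IsRelTilde 𝒮 p chart ℳ n F lam) (h0 : IsZero F) (U : Y.Opens) (hU : IsAffineOpen U)
    (V : (Proj (𝒮.deg U hU)).Opens) (t : Γ(GrMod.tilde (𝒮.deg U hU) (ℳ.deg U hU) n, V)) : t = 0 := by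
  have hW := image_emb_le (p := p) (chart := chart) U hU V
  have he : RelProj.emb p chart U hU ⁻¹ᵁ (RelProj.emb p chart U hU ''ᵁ V) = V :=
    (RelProj.emb p chart U hU).preimage_image_eq V
  obtain ⟨s, hs⟩ := (hF.bijective U hU _ hW).2
    ((GrMod.tilde (𝒮.deg U hU) (ℳ.deg U hU) n).presheaf.map (homOfLE he.le).op t)
  have hs0 : s = 0 := by
    have h1 : (𝟙 F : F ⟶ F) = 0 := (IsZero.iff_id_eq_zero F).mp h0
    have h2 := congrArg (fun φ : F ⟶ F => φ.app (RelProj.emb p chart U hU ''ᵁ V) s) h1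
    exact h2
  rw [hs0, map_zero] at hs
  refine tsec_ext fun y => ?_
  have hy : y.1 ∈ RelProj.emb p chart U hU ⁻¹ᵁ (RelProj.emb p chart U hU ''ᵁ V) := by rw [he]; exact y.2
  have h3 := congrArg (fun τ => tval τ ⟨y.1, hy⟩) hs
  simp only [tval_res] at h3
  rw [tval_zero]
  exact h3.symm

variable (ℳ : RelProj.GrModule 𝒮)

/-- The `O_Y`-module underlying `ℳ`. -/
abbrev oMod : Y.Modules := (AMod.toOS 𝒮.toQCAlg).obj ℳ.mod

/-- If `ℳ(U)_k = 0` then `ℳ(D(r))_k = 0`, for `ℳ` quasi-coherent. -/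
theorem deg_eq_zero_basicOpen (hℳ : Coh.IsQCoh (oMod ℳ)) (U : Y.Opens) (hU : IsAffineOpen U) (r : Γ(Y, U)) (k : ℕ)
    (hk : ∀ m ∈ ℳ.deg U hU k, m = 0) : ∀ m ∈ ℳ.deg (Y.basicOpen r) (hU.basicOpen r) k, m = 0 := by
  classical
  intro m hm
  haveI : (oMod ℳ).IsQuasicoherent := hℳ
  set r' : Γ(Y, Y.basicOpen r) := resO Y (Y.basicOpen_le r) r with hr'
  set a : 𝒮.presheaf.obj (op (Y.basicOpen r)) := (𝒮.str.app (op (Y.basicOpen r))).hom r' with ha
  obtain ⟨n, s, h1⟩ : ∃ (n : ℕ) (s : ℳ.mod.val.obj (op U)),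
      a ^ n • m = ℳ.res hU (hU.basicOpen r) (Y.basicOpen_le r) s := by
    obtain ⟨n, s, hns⟩ := exists_pow_smul_eq_res (oMod ℳ) hU r (show Γ(oMod ℳ, Y.basicOpen r) from m)
    refine ⟨n, s, ?_⟩
    have e1 : (r' ^ n • (show Γ(oMod ℳ, Y.basicOpen r) from m) : Γ(oMod ℳ, Y.basicOpen r)) =
        (show Γ(oMod ℳ, Y.basicOpen r) from ((𝒮.str.app (op (Y.basicOpen r))).hom (r' ^ n) • m)) := rfl
    rw [e1, map_pow] at hns
    exact hns
  -- degree considerations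
  have ha0 : a ∈ 𝒮.deg (Y.basicOpen r) (hU.basicOpen r) 0 := 𝒮.str_mem _ _ r'
  have han : a ^ n ∈ 𝒮.deg (Y.basicOpen r) (hU.basicOpen r) 0 := by
    have := SetLike.pow_mem_graded n ha0
    rwa [smul_zero] at this
  have hlhs : a ^ n • m ∈ ℳ.deg (Y.basicOpen r) (hU.basicOpen r) k := by
    have := SetLike.GradedSMul.smul_mem han hm
    rwa [vadd_eq_add, zero_add] at this
  -- the component of degree `k` of the right-hand side
  have hrhs : (DirectSum.decompose (ℳ.deg (Y.basicOpen r) (hU.basicOpen r))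
      (ℳ.res hU (hU.basicOpen r) (Y.basicOpen_le r) s) k : ℳ.mod.val.obj (op (Y.basicOpen r))) = 0 := by
    conv_lhs => rw [← DirectSum.sum_support_decompose (ℳ.deg U hU) s]
    rw [map_sum, DirectSum.decompose_sum, DFinsupp.finsetSum_apply, AddSubmonoidClass.coe_finsetSum]
    refine Finset.sum_eq_zero fun j _ => ?_
    have hj : ℳ.res hU (hU.basicOpen r) (Y.basicOpen_le r) (DirectSum.decompose (ℳ.deg U hU) s j : _) ∈
        ℳ.deg (Y.basicOpen r) (hU.basicOpen r) j := ℳ.res_mem hU (hU.basicOpen r) _ j _ (SetLike.coe_mem _)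
    by_cases hjk : j = k
    · subst hjk
      rw [hk _ (SetLike.coe_mem (DirectSum.decompose (ℳ.deg U hU) s j)), map_zero, DirectSum.decompose_zero]
      rfl
    · rw [DirectSum.decompose_of_mem_ne _ hj hjk]
  have h2 : a ^ n • m = 0 := by
    have := DirectSum.decompose_of_mem_same (ℳ.deg (Y.basicOpen r) (hU.basicOpen r)) hlhs
    rw [← this, h1]
    exact hrhs
  -- `a` is a unit
  have hu : IsUnit r' := Y.toRingedSpace.isUnit_res_basicOpen r
  have hua : IsUnit (a ^ n) := (hu.map (𝒮.str.app (op (Y.basicOpen r))).hom).pow n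
  obtain ⟨u, hu'⟩ := hua
  have : (↑u⁻¹ : 𝒮.presheaf.obj (op (Y.basicOpen r))) • (a ^ n • m) = m := by
    rw [← hu', smul_smul, Units.inv_mul, one_smul]
  rw [← this, h2, smul_zero]

variable {ℳ}

/-- `ℳ~ = 0` implies (TN) under (TF), for `𝒮` generated by `𝒮_1` of finite type and a quasi-compact base (S8326). -/
theorem isTN_of_isZero [CompactSpace Y] (hgen : 𝒮.IsGenDegOne) (hft : 𝒮.IsFTDeg 1)
    (hℳ : Coh.IsQCoh (oMod ℳ)) (hTF : ℳ.IsTF) {F : P.Modules}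
    {lam : ∀ (U : Y.Opens) (hU : IsAffineOpen U),
      F ⟶ (Scheme.Modules.pushforward (RelProj.emb p chart U hU)).obj (GrMod.tilde (𝒮.deg U hU) (ℳ.deg U hU) 0)}
    (hF : RelProj.IsRelTilde 𝒮 p chart ℳ 0 F lam) (h0 : IsZero F) : ℳ.IsTN := by
  classical
  obtain ⟨n₀, hn₀⟩ := hTF
  -- the bound over each affine open
  have hloc : ∀ U : Y.affineOpens, ∃ n : ℕ, ∀ k : ℕ, n ≤ k → ∀ m ∈ ℳ.deg U.1 U.2 k, m = 0 := by
    rintro ⟨U, hU⟩
    obtain ⟨T, hT, hspan⟩ := hft U hU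
    have hfg : ((𝒮.deg U hU)₊).toIdeal.FG :=
      Groth.Agent.Lib.RelTildeFT.irrelevant_fg (hgen U hU) T hT fun x hx => by
        obtain ⟨c, hc⟩ := hspan x hx
        exact ⟨fun t => (𝒮.str.app (op U)).hom (c t), hc⟩
    exact Groth.Agent.Lib.GrModTN.TN_of_sections_eq_zero hfg
      (Groth.Agent.Lib.RelTildeFT.irrelevant_eq_span_of_closure (hgen U hU)) ⟨n₀, hn₀ U hU⟩
      (fun V t => sections_eq_zero_of_isZero hF h0 U hU V t)
  choose N hN using hloc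
  -- a finite affine cover
  obtain ⟨t, ht⟩ := isCompact_univ.elim_finite_subcover (fun U : Y.affineOpens => ((U.1 : Y.Opens) : Set Y))
    (fun U => U.1.2) (by
      intro x _
      obtain ⟨W, hW, hxW, -⟩ := exists_isAffineOpen_mem_and_subset (x := x) (U := ⊤) trivial
      exact Set.mem_iUnion.2 ⟨⟨W, hW⟩, hxW⟩)
  refine ⟨t.sup N, fun U hU k hk m hm => ?_⟩
  haveI : (oMod ℳ).IsQuasicoherent := hℳ
  refine Groth.Agent.Lib.H78TensorGen.sec_ext (oMod ℳ) (show Γ(oMod ℳ, U) from m) 0 fun x hx => ?_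
  obtain ⟨Ui, hUit, hxUi⟩ := Set.mem_iUnion₂.1 (ht (Set.mem_univ x))
  obtain ⟨f, g, hfg, hxf⟩ := exists_basicOpen_le_affine_inter Ui.2 hU x ⟨hxUi, hx⟩
  have hle : Y.basicOpen f ≤ U := hfg.trans_le (Y.basicOpen_le g)
  refine ⟨Y.basicOpen f, hle, hxf, ?_⟩
  have hkN : N Ui ≤ k := (Finset.le_sup hUit).trans hk
  have h1 := deg_eq_zero_basicOpen ℳ hℳ Ui.1 Ui.2 f k (hN Ui k hkN)
  have h2 : ℳ.res hU (Ui.2.basicOpen f) hle m ∈ ℳ.deg (Y.basicOpen f) (Ui.2.basicOpen f) k :=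
    ℳ.res_mem hU (Ui.2.basicOpen f) hle k m hm
  have h3 := h1 _ h2
  have h4 : Groth.Agent.Lib.H78TensorGen.rs (oMod ℳ) hle (0 : Γ(oMod ℳ, U)) = 0 :=
    map_zero ((oMod ℳ).presheaf.map (homOfLE hle).op).hom
  exact h3.trans h4.symm

end Groth.Agent.Lib.RelTildeTN
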