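import Groth.Prelude.Def_RelProj3
import Groth.Agent.Lib.H60ModGlue
import Groth.Agent.Lib.H60RelTwistExists
import Groth.Agent.Lib.GrModComapLoc
import Groth.Agent.Lib.RelTildeTN

/-!
# Existence of the modules `(ℳ(n))~` on a relative Proj (helper28)

Port of helper60's `H60RelTwistExists` (existence of `O_P(n)`) to the modules `GrMod.tilde` attached to a quasi-coherent graded
`𝒮`-module: the chart modules `(emb U)_* (ℳ(U)(n))~` are glued along the refinement maps `GrMod.comap` of the restrictions to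
basic opens (bijective inside `p⁻¹(D(r))` since `ℳ(D(r)) = ℳ(U)_r`), by the abstract gluing of `H60ModGlue`.
-/

set_option autoImplicit false
universe u
open CategoryTheory CategoryTheory.Limits AlgebraicGeometry Opposite TopologicalSpace
open scoped HomogeneousIdeal
noncomputable section

namespace Groth.Agent.Lib.RelTildeExists

open Groth.Agent.Lib.H60ModGlue Groth.Agent.Lib.QCohStalk Groth.Agent.Lib.H60RelTwistExists

section ring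
variable {A σ : Type u} [CommRing A] [SetLike σ A] [AddSubgroupClass σ A] {𝒜 : ℕ → σ} [GradedRing 𝒜]
variable {B τ : Type u} [CommRing B] [SetLike τ B] [AddSubgroupClass τ B] {ℬ : ℕ → τ} [GradedRing ℬ]
variable {C ρ : Type u} [CommRing C] [SetLike ρ C] [AddSubgroupClass ρ C] {𝒞 : ℕ → ρ} [GradedRing 𝒞]
variable {M₁ τ₁ : Type u} [AddCommGroup M₁] [Module A M₁] [SetLike τ₁ M₁] [AddSubgroupClass τ₁ M₁] {ℳ₁ : ℕ → τ₁}
  [SetLike.GradedSMul 𝒜 ℳ₁]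
variable {M₂ : Type u} [AddCommGroup M₂] [Module B M₂]
variable {M₃ : Type u} [AddCommGroup M₃] [Module C M₃]

/-- Values of a section read through a commutative triangle of graded ring homomorphisms and semilinear maps. -/
theorem locModMap_triangle (ψ₁ : 𝒜 →+*ᵍ ℬ) (h₁ : ℬ₊ ≤ (𝒜₊).map ψ₁) (ψ₂ : ℬ →+*ᵍ 𝒞) (h₂ : 𝒞₊ ≤ (ℬ₊).map ψ₂)
    (ψ₃ : 𝒜 →+*ᵍ 𝒞) (h₃ : 𝒞₊ ≤ (𝒜₊).map ψ₃)
    (v₁ : M₁ →ₛₗ[ψ₁.toRingHom] M₂) (v₂ : M₂ →ₛₗ[ψ₂.toRingHom] M₃) (v₃ : M₁ →ₛₗ[ψ₃.toRingHom] M₃)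
    (hcomm : ∀ a : A, ψ₂ (ψ₁ a) = ψ₃ a) (hcommM : ∀ m : M₁, v₂ (v₁ m) = v₃ m)
    {n : ℤ} {V : (Proj 𝒜).Opens} (t : Γ(GrMod.tilde 𝒜 ℳ₁ n, V))
    (y : ProjectiveSpectrum 𝒞)
    (h : ProjectiveSpectrum.comap ψ₁ h₁ (ProjectiveSpectrum.comap ψ₂ h₂ y) ∈ V)
    (h' : ProjectiveSpectrum.comap ψ₃ h₃ y ∈ V) :
    GrMod.locModMap ψ₂ h₂ v₂ y (GrMod.locModMap ψ₁ h₁ v₁ _ (GrMod.val t ⟨_, h⟩)) =
      GrMod.locModMap ψ₃ h₃ v₃ y (GrMod.val t ⟨_, h'⟩) := by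
  have hx : ProjectiveSpectrum.comap ψ₁ h₁ (ProjectiveSpectrum.comap ψ₂ h₂ y) =
      ProjectiveSpectrum.comap ψ₃ h₃ y := by
    apply ProjectiveSpectrum.ext
    apply HomogeneousIdeal.ext
    ext a
    change ψ₂ (ψ₁ a) ∈ y.asHomogeneousIdeal ↔ ψ₃ a ∈ y.asHomogeneousIdeal
    rw [hcomm]
  obtain ⟨V₀, hxV₀, hV₀, i, j, a, s, s_nin, -, w⟩ := Groth.Agent.Lib.GrModComapLoc.exists_frac_at t ⟨_, h⟩
  have hx' : ProjectiveSpectrum.comap ψ₃ h₃ y ∈ V₀ := by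
    rw [← hx]; exact hxV₀
  have w1 := w ⟨_, hxV₀⟩
  have w2 := w ⟨_, hx'⟩
  have e1 : GrMod.val t ⟨_, h⟩ = LocalizedModule.mk a.1 ⟨s.1, s_nin ⟨_, hxV₀⟩⟩ := w1
  have e2 : GrMod.val t ⟨_, h'⟩ = LocalizedModule.mk a.1 ⟨s.1, s_nin ⟨_, hx'⟩⟩ := w2
  rw [e1, e2, GrMod.locModMap_mk, GrMod.locModMap_mk, GrMod.locModMap_mk]
  congr 1
  · exact hcommM _
  · exact Subtype.ext (hcomm _)

end ring

section rel

variable {Y P : Scheme.{u}} (𝒮 : RelProj.QCGrAlg Y) (p : P ⟶ Y)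
  (chart : ∀ (U : Y.Opens) (hU : IsAffineOpen U), (((p ⁻¹ᵁ U : P.Opens) : Scheme.{u}) ≅ Proj (𝒮.deg U hU)))
  (ℳ : RelProj.GrModule 𝒮) (n : ℤ)

/-- The direct images of the chartwise modules `(ℳ(U)(n))~`. -/
def TM (i : Idx Y) : P.Modules :=
  (Scheme.Modules.pushforward (RelProj.emb p chart i.1 i.2)).obj (GrMod.tilde (𝒮.deg i.1 i.2) (ℳ.deg i.1 i.2) n)

/-- The refinement map for general data. -/
def rhoMG {U D : Y.Opens} (hU : IsAffineOpen U) (hD : IsAffineOpen D) (hle : D ≤ U)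
    (hirr : (𝒮.deg D hD)₊ ≤ ((𝒮.deg U hU)₊).map (𝒮.res hU hD hle))
    (hemb : Proj.map (𝒮.res hU hD hle) hirr ≫ RelProj.emb p chart U hU = RelProj.emb p chart D hD) :
    TM 𝒮 p chart ℳ n ⟨U, hU⟩ ⟶ TM 𝒮 p chart ℳ n ⟨D, hD⟩ :=
  (Scheme.Modules.pushforward (RelProj.emb p chart U hU)).map
      (GrMod.comap (𝒮.res hU hD hle) hirr (ℳ.res hU hD hle) (ℳ.res_mem hU hD hle) n) ≫
    (Scheme.Modules.pushforwardComp (Proj.map (𝒮.res hU hD hle) hirr) (RelProj.emb p chart U hU)).hom.app _ ≫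
    (Scheme.Modules.pushforwardCongr hemb).hom.app _

variable {𝒮 p chart ℳ}

/-- The refinement maps `(ℳ(U)(n))~ ⟶ (ℳ(D)(n))~` pushed to `P`, for `D` a basic open of `U`. -/
def rhoM (hP : RelProj.IsRelProj 𝒮 p chart) (i k : Idx Y) (h : EE i k) :
    TM 𝒮 p chart ℳ n i ⟶ TM 𝒮 p chart ℳ n k :=
  rhoMG 𝒮 p chart ℳ n i.2 k.2 (EE.data hP h).choose (EE.data hP h).choose_spec.choose
    (EE.data hP h).choose_spec.choose_spec

theorem rhoM_app_val (hP : RelProj.IsRelProj 𝒮 p chart) (i k : Idx Y) (h : EE i k)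
    (hle : k.1 ≤ i.1) (hirr : (𝒮.deg k.1 k.2)₊ ≤ ((𝒮.deg i.1 i.2)₊).map (𝒮.res i.2 k.2 hle))
    (W : P.Opens) (t : Γ(TM 𝒮 p chart ℳ n i, W)) (y : ProjectiveSpectrum (𝒮.deg k.1 k.2))
    (hy : (RelProj.emb p chart k.1 k.2).base y ∈ W)
    (hy' : (RelProj.emb p chart i.1 i.2).base (ProjectiveSpectrum.comap (𝒮.res i.2 k.2 hle) hirr y) ∈ W) :
    GrMod.val (V := RelProj.emb p chart k.1 k.2 ⁻¹ᵁ W) ((rhoM n hP i k h).app W t) ⟨y, hy⟩ =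
      GrMod.locModMap (𝒮.res i.2 k.2 hle) hirr (ℳ.res i.2 k.2 hle) y
        (GrMod.val (V := RelProj.emb p chart i.1 i.2 ⁻¹ᵁ W) t ⟨_, hy'⟩) := rfl

open Groth.Agent.Lib.RelTildeTN in
/-- `ℳ(D(r))` is generated by the image of `ℳ(U)` up to powers of `r`, for `ℳ` quasi-coherent. -/
theorem res_surj_away (hℳ : Coh.IsQCoh (oMod ℳ)) (U : Y.Opens) (hU : IsAffineOpen U) (r : Γ(Y, U))
    (b : ℳ.mod.val.obj (op (Y.basicOpen r))) :
    ∃ (k : ℕ) (a : ℳ.mod.val.obj (op U)),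
      (𝒮.res hU (hU.basicOpen r) (Y.basicOpen_le r)) ((𝒮.str.app (op U)).hom r) ^ k • b =
        ℳ.res hU (hU.basicOpen r) (Y.basicOpen_le r) a := by
  haveI : (oMod ℳ).IsQuasicoherent := hℳ
  obtain ⟨k, s, hks⟩ := exists_pow_smul_eq_res (oMod ℳ) hU r (show Γ(oMod ℳ, Y.basicOpen r) from b)
  refine ⟨k, s, ?_⟩
  have e1 : ((resO Y (Y.basicOpen_le r) r) ^ k • (show Γ(oMod ℳ, Y.basicOpen r) from b) : Γ(oMod ℳ, Y.basicOpen r)) =
      (show Γ(oMod ℳ, Y.basicOpen r) from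
        ((𝒮.str.app (op (Y.basicOpen r))).hom ((resO Y (Y.basicOpen_le r) r) ^ k) • b)) := rfl
  rw [e1, map_pow] at hks
  have e2 : (𝒮.res hU (hU.basicOpen r) (Y.basicOpen_le r)) ((𝒮.str.app (op U)).hom r) =
      (𝒮.str.app (op (Y.basicOpen r))).hom (resO Y (Y.basicOpen_le r) r) := by
    rw [RelProj.QCGrAlg.res_apply]
    exact (congrArg (fun φ => φ.hom r) (𝒮.str.naturality (homOfLE (Y.basicOpen_le r)).op)).symm
  rw [e2]
  exact hks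

open Groth.Agent.Lib.RelTildeTN in
/-- An element of `ℳ(U)` vanishing on `D(r)` is killed by a power of `r`, for `ℳ` quasi-coherent. -/
theorem res_inj_away (hℳ : Coh.IsQCoh (oMod ℳ)) (U : Y.Opens) (hU : IsAffineOpen U) (r : Γ(Y, U))
    (a : ℳ.mod.val.obj (op U)) (ha : ℳ.res hU (hU.basicOpen r) (Y.basicOpen_le r) a = 0) :
    ∃ k : ℕ, ((𝒮.str.app (op U)).hom r) ^ k • a = 0 := by
  haveI : (oMod ℳ).IsQuasicoherent := hℳ
  obtain ⟨k, hk⟩ := exists_pow_smul_eq_zero (oMod ℳ) hU r (show Γ(oMod ℳ, U) from a) ha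
  refine ⟨k, ?_⟩
  have e1 : (r ^ k • (show Γ(oMod ℳ, U) from a) : Γ(oMod ℳ, U)) =
      (show Γ(oMod ℳ, U) from ((𝒮.str.app (op U)).hom (r ^ k) • a)) := rfl
  rw [e1, map_pow] at hk
  exact hk

open Groth.Agent.Lib.RelTildeTN in
theorem rhoM_app_bijective (hP : RelProj.IsRelProj 𝒮 p chart) (hℳ : Coh.IsQCoh (oMod ℳ)) (i k : Idx Y) (h : EE i k)
    (W : P.Opens) (hW : W ≤ VV p k) : Function.Bijective ((rhoM (ℳ := ℳ) n hP i k h).app W) := by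
  obtain ⟨U, hU⟩ := i
  obtain ⟨D, hD⟩ := k
  obtain ⟨hle, hirr, hemb⟩ := EE.data hP h
  have hrho : rhoM (ℳ := ℳ) n hP ⟨U, hU⟩ ⟨D, hD⟩ h = rhoMG 𝒮 p chart ℳ n hU hD hle hirr hemb := rfl
  rw [hrho]
  obtain ⟨r, hr⟩ := h
  change D = Y.basicOpen r at hr
  subst hr
  -- the localization data
  have hc : (𝒮.str.app (op U)).hom r ∈ 𝒮.deg U hU 0 := 𝒮.str_mem U hU r
  have hloc : letI := (𝒮.res hU hD hle).toRingHom.toAlgebra
      IsLocalization.Away ((𝒮.str.app (op U)).hom r) (𝒮.presheaf.obj (op (Y.basicOpen r))) :=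
    𝒮.isQC U hU r
  haveI := Groth.Agent.Lib.ProjLocalization.isOpenImmersion_map (𝒮.res hU hD hle) hirr hc hloc
  have h1 : Function.Bijective ((GrMod.comap (𝒮.res hU hD hle) hirr (ℳ.res hU hD hle) (ℳ.res_mem hU hD hle) n).app
      (RelProj.emb p chart U hU ⁻¹ᵁ W)) := by
    refine Groth.Agent.Lib.GrModComapLoc.comap_app_bijective_of_away (𝒮.res hU hD hle) hirr (ℳ.res hU hD hle)
      (ℳ.res_mem hU hD hle) hloc (res_surj_away hℳ U hU r) (res_inj_away hℳ U hU r) hc n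
      (Proj.map (𝒮.res hU hD hle) hirr).isOpenEmbedding.isOpenMap
      (Proj.map (𝒮.res hU hD hle) hirr).isOpenEmbedding.injective _ ?_
    intro y hy
    have hy1 : (RelProj.emb p chart U hU).base y ∈ p ⁻¹ᵁ (Y.basicOpen r) := hW hy
    rw [← Groth.Agent.Lib.H60RelTwist.opensRange_emb (p := p) (chart := chart) (Y.basicOpen r) hD] at hy1
    obtain ⟨y', hy'⟩ := hy1
    refine ⟨y', ?_⟩
    apply (RelProj.emb p chart U hU).isOpenEmbedding.injective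
    rw [← hy', ← hemb]
    rfl
  unfold rhoMG
  have h2 := bijective_app_of_isIso ((Scheme.Modules.pushforwardComp (Proj.map (𝒮.res hU hD hle) hirr)
    (RelProj.emb p chart U hU)).hom.app (GrMod.tilde (𝒮.deg (Y.basicOpen r) hD) (ℳ.deg (Y.basicOpen r) hD) n)) W
  have h3 := bijective_app_of_isIso ((Scheme.Modules.pushforwardCongr hemb).hom.app
    (GrMod.tilde (𝒮.deg (Y.basicOpen r) hD) (ℳ.deg (Y.basicOpen r) hD) n)) W
  exact h3.comp (h2.comp h1)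

theorem rhoM_trans (hP : RelProj.IsRelProj 𝒮 p chart) (i k l : Idx Y) (h : EE i k) (h' : EE k l)
    (h'' : EE i l) (W : P.Opens) (s : Γ(TM 𝒮 p chart ℳ n i, W)) :
    (rhoM n hP k l h').app W ((rhoM n hP i k h).app W s) = (rhoM n hP i l h'').app W s := by
  obtain ⟨hle1, hirr1, -⟩ := EE.data hP h
  obtain ⟨hle2, hirr2, -⟩ := EE.data hP h'
  obtain ⟨hle3, hirr3, -⟩ := EE.data hP h''
  apply Groth.Agent.Lib.RelTildeGlue.sec_ext (V := RelProj.emb p chart l.1 l.2 ⁻¹ᵁ W)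
  rintro ⟨y, hy⟩
  have hy2 := emb_comap_mem hP h' hle2 hirr2 W y hy
  have hy1 := emb_comap_mem hP h hle1 hirr1 W _ hy2
  have hy3 := emb_comap_mem hP h'' hle3 hirr3 W y hy
  rw [rhoM_app_val n hP k l h' hle2 hirr2 W _ y hy hy2, rhoM_app_val n hP i k h hle1 hirr1 W _ _ hy2 hy1,
    rhoM_app_val n hP i l h'' hle3 hirr3 W _ y hy hy3]
  refine locModMap_triangle (𝒮.res i.2 k.2 hle1) hirr1 (𝒮.res k.2 l.2 hle2) hirr2 (𝒮.res i.2 l.2 hle3) hirr3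
    (ℳ.res i.2 k.2 hle1) (ℳ.res k.2 l.2 hle2) (ℳ.res i.2 l.2 hle3) ?_ ?_
    (V := RelProj.emb p chart i.1 i.2 ⁻¹ᵁ W) s y hy1 hy3
  · intro a
    rw [RelProj.QCGrAlg.res_apply, RelProj.QCGrAlg.res_apply, RelProj.QCGrAlg.res_apply,
      ← CommRingCat.comp_apply, ← Functor.map_comp]
    rfl
  · intro m
    rw [RelProj.GrModule.res_apply, RelProj.GrModule.res_apply, RelProj.GrModule.res_apply]
    exact (congrArg (fun φ => φ.hom m) (ℳ.mod.val.map_comp (homOfLE hle1).op (homOfLE hle2).op)).symm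

open Groth.Agent.Lib.RelTildeTN in
variable (𝒮 p chart ℳ) in
theorem glueHypM (hP : RelProj.IsRelProj 𝒮 p chart) (hℳ : Coh.IsQCoh (oMod ℳ)) :
    GlueHyp (TM 𝒮 p chart ℳ n) EE (rhoM n hP) (VV p) where
  hsupp := by
    intro i W
    refine pushforward_res_bijective _ _ _ ?_
    intro y hy
    exact ⟨hy, Groth.Agent.Lib.RelTildeGlue.emb_mem i.1 i.2 y⟩
  hle := by
    intro i k h x hx
    exact h.le hx
  hbij := fun i k h W hW => rhoM_app_bijective n hP hℳ i k h W hW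
  htrans := fun i k l h h' => ⟨h.trans h', fun W _ s => rhoM_trans n hP i k l h h' (h.trans h') W s⟩
  hloc := by
    intro i j x hxi hxj
    obtain ⟨f, g, hfg, hx⟩ := exists_basicOpen_le_affine_inter i.2 j.2 (p.base x) ⟨hxi, hxj⟩
    exact ⟨⟨Y.basicOpen f, i.2.basicOpen f⟩, hx, ⟨f, rfl⟩, ⟨g, hfg⟩⟩

/-- EXISTENCE of the module `(ℳ(n))~` on a relative Proj, for `ℳ` quasi-coherent (= S8321). -/
theorem exists_relTilde (hP : RelProj.IsRelProj 𝒮 p chart)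
    (hℳ : Coh.IsQCoh ((AMod.toOS 𝒮.toQCAlg).obj ℳ.mod)) (n : ℤ) :
    ∃ (F : P.Modules) (lam : ∀ (U : Y.Opens) (hU : IsAffineOpen U),
      F ⟶ (Scheme.Modules.pushforward (RelProj.emb p chart U hU)).obj
        (GrMod.tilde (𝒮.deg U hU) (ℳ.deg U hU) n)),
      RelProj.IsRelTilde 𝒮 p chart ℳ n F lam := by
  refine ⟨glue (TM 𝒮 p chart ℳ n) EE (rhoM n hP),
    fun U hU => lam (TM 𝒮 p chart ℳ n) EE (rhoM n hP) ⟨U, hU⟩, ?_, ?_⟩
  · intro U hU W hW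
    exact (glueHypM 𝒮 p chart ℳ n hP hℳ).lam_bijective ⟨U, hU⟩ W hW
  · intro U hU r W s y hy hy'
    have hE : EE (⟨U, hU⟩ : Idx Y) ⟨Y.basicOpen r, hU.basicOpen r⟩ := ⟨r, rfl⟩
    have hc := lam_comp (TM 𝒮 p chart ℳ n) EE (rhoM n hP) ⟨U, hU⟩ ⟨Y.basicOpen r, hU.basicOpen r⟩ hE
    have h1 : (lam (TM 𝒮 p chart ℳ n) EE (rhoM n hP) ⟨Y.basicOpen r, hU.basicOpen r⟩).app W s =
        (rhoM n hP ⟨U, hU⟩ ⟨Y.basicOpen r, hU.basicOpen r⟩ hE).app W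
          ((lam (TM 𝒮 p chart ℳ n) EE (rhoM n hP) ⟨U, hU⟩).app W s) := by
      rw [← hc]; rfl
    have h2 := rhoM_app_val n hP ⟨U, hU⟩ ⟨Y.basicOpen r, hU.basicOpen r⟩ hE (Y.basicOpen_le r)
      (𝒮.irrelevant_le_map U hU r) W ((lam (TM 𝒮 p chart ℳ n) EE (rhoM n hP) ⟨U, hU⟩).app W s) y hy hy'
    rw [← h1] at h2
    exact h2

end rel

end Groth.Agent.Lib.RelTildeExists
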