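import Groth.Agent.Lib.RelTwistMul
import Groth.Agent.Lib.GrModTwist

/-!
# `(ℳ(m))~ × O_P(n) → (ℳ(m + n))~` on a relative Proj (helper28)

* `relP_basicOpen`: the relation "`t = s' · s`" read over `U` implies the one read over `D(r)`.
* `exists_smulPairing`: the multiplication pairing `(ℳ(m))~ × O_P(n) → (ℳ(k))~`, `k = m + n`.
* `nonempty_tensor_iso` : `(ℳ(m))~ ⊗ O_P(n) ≅ (ℳ(m + n))~` if `𝒮` is generated by `𝒮_1` (S8337 for `m = 0`).
-/

set_option autoImplicit false
universe u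

open CategoryTheory CategoryTheory.Limits AlgebraicGeometry Opposite TopologicalSpace
open scoped HomogeneousIdeal

noncomputable section

namespace Groth.Agent.Lib.RelTildeTwist

open Groth.Agent.Lib.RelTildeGlue Groth.Agent.Lib.RelTildeVal2 Groth.Agent.Lib.RelTildeLocal
open Groth.Agent.Lib.H90Invertible Groth.Agent.Lib.H4TensorPair Groth.Agent.Lib.GrTwistMul
open Groth.Agent.Lib.RelGluePair Groth.Agent.Lib.GrModTwist Groth.Agent.Lib.RelTwistMul
open Groth.Agent.Lib.H78TensorGen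

variable {Y P : Scheme.{u}} {𝒮 : RelProj.QCGrAlg Y} {p : P ⟶ Y}
  {chart : ∀ (U : Y.Opens) (hU : IsAffineOpen U), (((p ⁻¹ᵁ U : P.Opens) : Scheme.{u}) ≅ Proj (𝒮.deg U hU))}

/-- The chartwise multiplication pairing. -/
abbrev τM (ℳ : RelProj.GrModule 𝒮) (m n k : ℤ) (h : m + n = k) (U : Y.Opens) (hU : IsAffineOpen U) :
    Pairing ((Scheme.Modules.pushforward (RelProj.emb p chart U hU)).obj
        (GrMod.tilde (𝒮.deg U hU) (ℳ.deg U hU) m))
      ((Scheme.Modules.pushforward (RelProj.emb p chart U hU)).obj (GrTwist.twist (𝒮.deg U hU) n))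
      ((Scheme.Modules.pushforward (RelProj.emb p chart U hU)).obj
        (GrMod.tilde (𝒮.deg U hU) (ℳ.deg U hU) k)) :=
  pushPairing (RelProj.emb p chart U hU) (smulPairing (𝒮.deg U hU) (ℳ.deg U hU) m n k h)

variable {ℳ : RelProj.GrModule 𝒮} {m n k : ℤ} {F L F' : P.Modules}
  {lam : ∀ (U : Y.Opens) (hU : IsAffineOpen U),
    F ⟶ (Scheme.Modules.pushforward (RelProj.emb p chart U hU)).obj (GrMod.tilde (𝒮.deg U hU) (ℳ.deg U hU) m)}
  {lamL : ∀ (U : Y.Opens) (hU : IsAffineOpen U),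
    L ⟶ (Scheme.Modules.pushforward (RelProj.emb p chart U hU)).obj (GrTwist.twist (𝒮.deg U hU) n)}
  {lam' : ∀ (U : Y.Opens) (hU : IsAffineOpen U),
    F' ⟶ (Scheme.Modules.pushforward (RelProj.emb p chart U hU)).obj (GrMod.tilde (𝒮.deg U hU) (ℳ.deg U hU) k)}

/-- The relation "`t = s' · s`" read in the chart over `U` implies the one read over `D(r)`. -/
theorem relP_basicOpen (hP : RelProj.IsRelProj 𝒮 p chart) (h : m + n = k)
    (hF : RelProj.IsRelTilde 𝒮 p chart ℳ m F lam) (hL : RelProj.IsRelTwist 𝒮 p chart n L lamL)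
    (hF' : RelProj.IsRelTilde 𝒮 p chart ℳ k F' lam')
    (U : Y.Opens) (hU : IsAffineOpen U) (r : Γ(Y, U)) (W : P.Opens) (s : Γ(F, W)) (s' : Γ(L, W)) (t : Γ(F', W))
    (hst : (lam' U hU).app W t =
      (τM (p := p) (chart := chart) ℳ m n k h U hU).toFun W ((lam U hU).app W s) ((lamL U hU).app W s')) :
    (lam' (Y.basicOpen r) (hU.basicOpen r)).app W t =
      (τM (p := p) (chart := chart) ℳ m n k h (Y.basicOpen r) (hU.basicOpen r)).toFun W
        ((lam (Y.basicOpen r) (hU.basicOpen r)).app W s) ((lamL (Y.basicOpen r) (hU.basicOpen r)).app W s') := by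
  refine Groth.Agent.Lib.RelTildeGlue.sec_ext
    (V := RelProj.emb p chart (Y.basicOpen r) (hU.basicOpen r) ⁻¹ᵁ W) _ _ fun y => ?_
  have hy' := mem_of_mem hP U hU r W y.1 y.2
  have h1 := hF'.compat U hU r W t y.1 y.2 hy'
  have h2 := hF.compat U hU r W s y.1 y.2 hy'
  have h3 := hL.compat U hU r W s' y.1 y.2 hy'
  refine h1.trans ?_
  rw [hst]
  change GrMod.locModMap _ _ _ _ (_ • _) = _ • _
  rw [GrMod.locModMap_smul]
  exact congrArg₂ (· • ·) h3.symm h2.symm

/-- The multiplication pairing `(ℳ(m))~ × O_P(n) → (ℳ(k))~`, `k = m + n`, on a relative Proj. -/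
theorem exists_smulPairing (hP : RelProj.IsRelProj 𝒮 p chart) (h : m + n = k)
    (hF : RelProj.IsRelTilde 𝒮 p chart ℳ m F lam) (hL : RelProj.IsRelTwist 𝒮 p chart n L lamL)
    (hF' : RelProj.IsRelTilde 𝒮 p chart ℳ k F' lam') :
    ∃ β : Pairing F L F', ∀ (U : Y.Opens) (hU : IsAffineOpen U) (W : P.Opens), W ≤ p ⁻¹ᵁ U →
      ∀ (s : Γ(F, W)) (s' : Γ(L, W)), (lam' U hU).app W (β.toFun W s s') =
        (τM (p := p) (chart := chart) ℳ m n k h U hU).toFun W ((lam U hU).app W s) ((lamL U hU).app W s') := by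
  have key := RelGluePair.exists_pairing (X := P) (L := F) (L' := L) (N := F') (ι := Y.affineOpens)
    (fun i => p ⁻¹ᵁ i.1) (fun i => lam i.1 i.2) (fun i => lamL i.1 i.2) (fun i => lam' i.1 i.2)
    (fun i => τM (p := p) (chart := chart) ℳ m n k h i.1 i.2) ?_ ?_ ?_
  · obtain ⟨β, hβ⟩ := key
    exact ⟨β, fun U hU W hW s s' => hβ ⟨U, hU⟩ W hW s s'⟩
  · intro x
    obtain ⟨W, hW, hxW, -⟩ := exists_isAffineOpen_mem_and_subset (x := p.base x) (U := ⊤) trivial
    exact ⟨⟨W, hW⟩, hxW⟩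
  · intro i W hW
    exact hF'.bijective i.1 i.2 W hW
  · rintro ⟨U₁, h₁⟩ ⟨U₂, h₂⟩ x hx₁ hx₂
    obtain ⟨f, g, hfg, hxf⟩ := exists_basicOpen_le_affine_inter h₁ h₂ (p.base x) ⟨hx₁, hx₂⟩
    refine ⟨⟨Y.basicOpen f, h₁.basicOpen f⟩, hxf, p.preimage_mono (Y.basicOpen_le f),
      p.preimage_mono (hfg.trans_le (Y.basicOpen_le g)), ?_, ?_⟩
    · intro W _ s s' t hst
      exact relP_basicOpen hP h hF hL hF' U₁ h₁ f W s s' t hst
    · intro W _ s s' t hst
      have key : ∀ (U' : Y.Opens) (hU' : IsAffineOpen U') (_ : Y.basicOpen g = U'),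
          (lam' U' hU').app W t =
            (τM (p := p) (chart := chart) ℳ m n k h U' hU').toFun W ((lam U' hU').app W s)
              ((lamL U' hU').app W s') := by
        intro U' hU' e
        subst e
        exact relP_basicOpen hP h hF hL hF' U₂ h₂ g W s s' t hst
      exact key _ (h₁.basicOpen f) hfg.symm

/-- If `𝒮` is generated by `𝒮_1`, then `(ℳ(m))~ ⊗ O_P(n) ≅ (ℳ(m + n))~`. -/
theorem nonempty_tensor_iso (hP : RelProj.IsRelProj 𝒮 p chart) (hgen : 𝒮.IsGenDegOne) (h : m + n = k)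
    (hF : RelProj.IsRelTilde 𝒮 p chart ℳ m F lam) (hL : RelProj.IsRelTwist 𝒮 p chart n L lamL)
    (hF' : RelProj.IsRelTilde 𝒮 p chart ℳ k F' lam') : Nonempty (CohB1.tensorMod F L ≅ F') := by
  obtain ⟨β, hβ⟩ := exists_smulPairing hP h hF hL hF'
  refine ⟨β.isoOfRight ?_⟩
  intro x
  obtain ⟨U, hU, hxU, -⟩ := exists_isAffineOpen_mem_and_subset (x := p.base x) (U := ⊤) trivial
  obtain ⟨y, rfl⟩ := exists_emb_eq (p := p) (chart := chart) U hU hxU
  obtain ⟨f, hf, hfy⟩ := Groth.Agent.Lib.RelTwistInv.exists_degree_one_notMem_of_closure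
    (𝒜 := 𝒮.deg U hU) (hgen U hU) y
  have hV := image_emb_le (p := p) (chart := chart) U hU (Proj.basicOpen (𝒮.deg U hU) f)
  have hfV := notMem_of_mem_preimage_image (p := p) (chart := chart) U hU f
  obtain ⟨s', hs', hsg'⟩ := exists_gen_section (a := n) hL U hU hf (by simp) hfV
  refine ⟨_, s', Set.mem_image_of_mem _ ((Proj.mem_basicOpen (𝒮.deg U hU) _ _).mpr hfy), hsg', ?_⟩
  intro W hW
  have hfW : ∀ z : (RelProj.emb p chart U hU ⁻¹ᵁ W : (Proj (𝒮.deg U hU)).Opens), f ∉ z.1.asHomogeneousIdeal :=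
    fun z => hfV ⟨z.1, (RelProj.emb p chart U hU).preimage_mono hW z.2⟩
  have h1 := hF.bijective U hU W (hW.trans hV)
  have h2 := hF'.bijective U hU W (hW.trans hV)
  have h3 := smulSec_genAt_bijective (ℳ := ℳ.deg U hU) (m := m) (k := k) hf hfW n h (by simp)
  have key : ((lam' U hU).app W) ∘ (fun a : Γ(F, W) => β.toFun W a (L.presheaf.map (homOfLE hW).op s')) =
      (fun t => smulSec h t (genAt hf hfW n n (by simp))) ∘ ((lam U hU).app W) := by
    funext a
    simp only [Function.comp_apply]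
    rw [hβ U hU W (hW.trans hV) a _]
    have e : (lamL U hU).app W (L.presheaf.map (homOfLE hW).op s') = genAt hf hfW n n (by simp) := by
      have := app_rs (lamL U hU) hW s'
      rw [hs'] at this
      exact this
    rw [e]
    rfl
  have h4 : Function.Bijective (((lam' U hU).app W) ∘
      (fun a : Γ(F, W) => β.toFun W a (L.presheaf.map (homOfLE hW).op s'))) := by
    rw [key]; exact h3.comp h1
  exact (Function.Bijective.of_comp_iff' h2 _).mp h4

end Groth.Agent.Lib.RelTildeTwist
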