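import Groth.Agent.Lib.RelTildeGlue
import Groth.Agent.Lib.GrModVal
import Groth.Agent.Lib.QCohBiproduct
import Groth.Agent.Lib.IdealMod

/-!
# Vanishing, injectivity for the modules `(ℳ(n))~` on a relative Proj, valuewise (helper28)

* `isBasis_rel`: the opens inside the `p⁻¹(U)`, `U` affine, form a basis of `P`.
* `isZero_of_TN`: (TN) ⇒ `(ℳ(n))~ = 0`.
* `mono_of_TN_injective`: a (TN)-injective `u` induces a monomorphism.
-/

set_option autoImplicit false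
universe u

open CategoryTheory CategoryTheory.Limits AlgebraicGeometry Opposite TopologicalSpace
open scoped HomogeneousIdeal

noncomputable section

namespace Groth.Agent.Lib.RelTildeVal

open Groth.Agent.Lib.RelTildeGlue Groth.Agent.Lib.GrModVal

variable {Y P : Scheme.{u}} {𝒮 : RelProj.QCGrAlg Y} {p : P ⟶ Y}
  {chart : ∀ (U : Y.Opens) (hU : IsAffineOpen U), (((p ⁻¹ᵁ U : P.Opens) : Scheme.{u}) ≅ Proj (𝒮.deg U hU))}

/-- The opens inside the `p⁻¹(U)`, `U` affine, form a basis. -/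
theorem isBasis_rel (p : P ⟶ Y) :
    Opens.IsBasis (Set.range (fun a : (Σ i : Y.affineOpens, {W : P.Opens // W ≤ p ⁻¹ᵁ i.1}) => a.2.1)) := by
  rw [Opens.isBasis_iff_nbhd]
  intro U x hx
  obtain ⟨W, hW, hxW, -⟩ := exists_isAffineOpen_mem_and_subset (x := p.base x) (U := ⊤) trivial
  exact ⟨U ⊓ p ⁻¹ᵁ W, ⟨⟨⟨W, hW⟩, ⟨U ⊓ p ⁻¹ᵁ W, inf_le_right⟩⟩, rfl⟩, ⟨hx, hxW⟩, inf_le_left⟩

/-- A section of a module on `P` vanishes as soon as its restrictions to the opens `W ⊓ p⁻¹(U)`, `U` affine, vanish. -/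
theorem eq_zero_of_rel (p : P ⟶ Y) (F : P.Modules) (W : P.Opens) (s : Γ(F, W))
    (h : ∀ (U : Y.Opens) (_ : IsAffineOpen U),
      F.presheaf.map (homOfLE (inf_le_left : W ⊓ p ⁻¹ᵁ U ≤ W)).op s = 0) : s = 0 := by
  refine TopCat.Sheaf.eq_of_locally_eq' (⟨F.presheaf, F.isSheaf⟩ : TopCat.Sheaf Ab P)
    (fun i : Y.affineOpens => W ⊓ p ⁻¹ᵁ i.1) W (fun i => homOfLE inf_le_left) ?_ s 0 ?_
  · intro x hx
    obtain ⟨U, hU, hxU, -⟩ := exists_isAffineOpen_mem_and_subset (x := p.base x) (U := ⊤) trivial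
    exact Opens.mem_iSup.mpr ⟨⟨U, hU⟩, ⟨hx, hxU⟩⟩
  · intro i
    rw [map_zero]
    exact h i.1 i.2

/-- (TN) ⇒ `(ℳ(n))~ = 0`. -/
theorem isZero_of_TN {ℳ : RelProj.GrModule 𝒮} (hTN : ℳ.IsTN) (n : ℤ) {F : P.Modules}
    {lam : ∀ (U : Y.Opens) (hU : IsAffineOpen U),
      F ⟶ (Scheme.Modules.pushforward (RelProj.emb p chart U hU)).obj (GrMod.tilde (𝒮.deg U hU) (ℳ.deg U hU) n)}
    (hF : RelProj.IsRelTilde 𝒮 p chart ℳ n F lam) : IsZero F := by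
  obtain ⟨n₀, hn₀⟩ := hTN
  rw [IsZero.iff_id_eq_zero]
  refine ModHomBasis.hom_ext_of_basis (isBasis_rel p) _ _ ?_
  rintro ⟨⟨U, hU⟩, W, hW⟩
  change (𝟙 F : F ⟶ F).app W = (0 : F ⟶ F).app W
  ext s
  change s = 0
  apply (hF.bijective U hU W hW).1
  rw [map_zero]
  refine eq_zero_of_val (V := RelProj.emb p chart U hU ⁻¹ᵁ W) _ fun y => ?_
  exact tildeAt_eq_zero_of_TN n₀ (hn₀ U hU) n y.1 _
    (((lam U hU).app W s : GrMod.sect (𝒮.deg U hU) (ℳ.deg U hU) n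
      (op (RelProj.emb p chart U hU ⁻¹ᵁ W))).1 y).2

/-- A (TN)-injective degree-preserving `u : ℳ ⟶ 𝒩` induces a monomorphism `(ℳ(n))~ ⟶ (𝒩(n))~`. -/
theorem mono_of_TN_injective {ℳ 𝒩 : RelProj.GrModule 𝒮} (u : ℳ.mod ⟶ 𝒩.mod) (hu : RelProj.IsGrModHom u)
    (hinj : ∃ n₀ : ℕ, ∀ (U : Y.Opens) (hU : IsAffineOpen U) (k : ℕ), n₀ ≤ k →
      ∀ m ∈ ℳ.deg U hU k, (u.val.app (op U)).hom m = 0 → m = 0)
    (n : ℤ) {F G : P.Modules}
    {lam : ∀ (U : Y.Opens) (hU : IsAffineOpen U),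
      F ⟶ (Scheme.Modules.pushforward (RelProj.emb p chart U hU)).obj (GrMod.tilde (𝒮.deg U hU) (ℳ.deg U hU) n)}
    (hF : RelProj.IsRelTilde 𝒮 p chart ℳ n F lam)
    {lam' : ∀ (U : Y.Opens) (hU : IsAffineOpen U),
      G ⟶ (Scheme.Modules.pushforward (RelProj.emb p chart U hU)).obj (GrMod.tilde (𝒮.deg U hU) (𝒩.deg U hU) n)}
    (ut : F ⟶ G)
    (hut : ∀ (U : Y.Opens) (hU : IsAffineOpen U),
      ut ≫ lam' U hU = lam U hU ≫ tmap (p := p) (chart := chart) u hu n U hU) : Mono ut := by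
  obtain ⟨n₀, hn₀⟩ := hinj
  refine QCohBiproduct.mono_of_injective_app ut fun W => ?_
  rw [injective_iff_map_eq_zero]
  intro s hs
  refine eq_zero_of_rel p F W s fun U hU => ?_
  set W' : P.Opens := W ⊓ p ⁻¹ᵁ U with hW'
  set s' : Γ(F, W') := F.presheaf.map (homOfLE (inf_le_left : W ⊓ p ⁻¹ᵁ U ≤ W)).op s with hs'
  have hs0 : ut.app W' s' = 0 := by
    rw [hs', RelGlueHom.app_res, hs, map_zero]
  apply (hF.bijective U hU W' inf_le_right).1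
  rw [map_zero]
  have h1 : (tmap (p := p) (chart := chart) u hu n U hU).app W' ((lam U hU).app W' s') = 0 := by
    have := congrArg (fun f => (Scheme.Modules.Hom.app f W') s') (hut U hU)
    simp only [Scheme.Modules.Hom.comp_app] at this
    change (lam' U hU).app W' (ut.app W' s') = _ at this
    rw [hs0, map_zero] at this
    exact this.symm
  refine eq_zero_of_val (V := RelProj.emb p chart U hU ⁻¹ᵁ W') _ fun y => ?_
  have h2 := tmap_app_val (p := p) (chart := chart) u hu n U hU W' ((lam U hU).app W' s') y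
  rw [h1] at h2
  obtain ⟨V', hyV', hV', i, j, m, f, hf, -, hval⟩ :=
    exists_frac (V := RelProj.emb p chart U hU ⁻¹ᵁ W') ((lam U hU).app W' s') y
  have h3 := hval ⟨y.1, hyV'⟩
  change GrMod.val (V := RelProj.emb p chart U hU ⁻¹ᵁ W') ((lam U hU).app W' s') y = _ at h3
  rw [h3] at h2 ⊢
  rw [GrMod.locMap_mk] at h2
  have h4 : (LocalizedModule.mk (linAt u U (m : ℳ.mod.val.obj (op U))) ⟨(f : 𝒮.presheaf.obj (op U)), hf ⟨y.1, hyV'⟩⟩ :
      GrMod.LocMod (𝒮.deg U hU) (M := 𝒩.mod.val.obj (op U)) y.1) = 0 := h2.symm.trans (val_zero _)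
  obtain ⟨k, g, hg, hgm⟩ := (mk_eq_zero_iff_homog (ℳ := 𝒩.deg U hU) y.1
    (show linAt u U (m : ℳ.mod.val.obj (op U)) ∈ 𝒩.deg U hU i from hu U hU i _ m.2) _).mp h4
  obtain ⟨d, hd, h, hh⟩ := exists_pos_notMem (𝒜 := 𝒮.deg U hU) y.1
  rw [mk_eq_zero_iff]
  refine ⟨(h : 𝒮.presheaf.obj (op U)) ^ n₀ * (g : 𝒮.presheaf.obj (op U)), ?_, ?_⟩
  · intro hmem
    rcases y.1.isPrime.mem_or_mem hmem with h5 | h5
    · exact hh (y.1.isPrime.mem_of_pow_mem _ h5)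
    · exact hg h5
  · have e1 : (g : 𝒮.presheaf.obj (op U)) • (m : ℳ.mod.val.obj (op U)) ∈ ℳ.deg U hU (k + i) :=
      SetLike.GradedSMul.smul_mem g.2 m.2
    have e2 : (h : 𝒮.presheaf.obj (op U)) ^ n₀ ∈ 𝒮.deg U hU (n₀ • d) := SetLike.pow_mem_graded n₀ h.2
    have e3 : (h : 𝒮.presheaf.obj (op U)) ^ n₀ • ((g : 𝒮.presheaf.obj (op U)) • (m : ℳ.mod.val.obj (op U))) ∈
        ℳ.deg U hU (n₀ • d + (k + i)) := SetLike.GradedSMul.smul_mem e2 e1
    rw [mul_smul]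
    refine hn₀ U hU _ ?_ _ e3 ?_
    · have : n₀ ≤ n₀ * d := Nat.le_mul_of_pos_right n₀ hd
      simp only [smul_eq_mul]
      omega
    · change linAt u U _ = 0
      rw [LinearMap.map_smul, LinearMap.map_smul, hgm, smul_zero]

end Groth.Agent.Lib.RelTildeVal
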