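import Groth.Agent.Lib.RelTwistEpi
import Groth.Agent.Lib.H78GlobGen
import Groth.Agent.Lib.H78PullAmple2

/-!
# Ampleness of `O_P(1)` on quasi-compact unions of standard charts of a relative Proj; very ample ⇒ ample (helper28)
-/

set_option autoImplicit false
universe u
open CategoryTheory CategoryTheory.Limits AlgebraicGeometry TopologicalSpace Opposite
open scoped HomogeneousIdeal

noncomputable section
namespace Groth.Agent.Lib.RelTwistAmple

open Groth.Agent.Lib.H90Invertible Groth.Agent.Lib.H78TensorGen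
open Groth.Agent.Lib.RelTildeGlue Groth.Agent.Lib.RelTildeVal2 Groth.Agent.Lib.RelTildeLocal
open Groth.Agent.Lib.GrTwistMul Groth.Agent.Lib.GrTwistTilde Groth.Agent.Lib.GrTwistInv Groth.Agent.Lib.GrModQCoh
open Groth.Agent.Lib.H60RelTwist Groth.Agent.Lib.H78Restrict

section ring

variable {A σ : Type u} [CommRing A] [SetLike σ A] [AddSubgroupClass σ A] {𝒜 : ℕ → σ} [GradedRing 𝒜]

/-- The global section `a / 1` of `O(k)` for `a ∈ 𝒜 i`, `k = i`. -/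
def numSec {a : A} {i : ℕ} (ha : a ∈ 𝒜 i) (k : ℤ) (hk : k = i) : Γ(GrTwist.twist 𝒜 k, ⊤) :=
  (⟨fun x => ⟨Localization.mk a 1,
      mk_mem_twistAt x.1 (n := k) (i := i) (j := 0) (by simp [hk]) ha SetLike.GradedOne.one_mem
        (one_notMem x.1)⟩,
    fun x => ⟨⊤, x.2, 𝟙 _, i, 0, ⟨a, ha⟩, ⟨1, SetLike.GradedOne.one_mem⟩, fun y => one_notMem y.1,
      Or.inl (by simp [hk]), fun _ => rfl⟩⟩ : GrTwist.sectN (𝒜 := 𝒜) k (op ⊤))

@[simp] theorem sval_numSec {a : A} {i : ℕ} (ha : a ∈ 𝒜 i) (k : ℤ) (hk : k = i) (x : (⊤ : (Proj 𝒜).Opens)) :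
    sval (numSec ha k hk) x = algebraMap A (GrTwist.Loc 𝒜 x.1) a :=
  Localization.mk_one_eq_algebraMap a

/-- A section of `O(1)` with values `a / 1` which is a free generator over `U` does not vanish on `U`. -/
theorem notMem_of_isGen (hcov : ∀ y : ProjectiveSpectrum 𝒜, ∃ b ∈ 𝒜 1, b ∉ y.asHomogeneousIdeal)
    {a : A} {U : (Proj 𝒜).Opens} (t : Γ(GrTwist.twist 𝒜 1, U))
    (hval : ∀ y : U, sval t y = algebraMap A (GrTwist.Loc 𝒜 y.1) a) (ht : IsGen (GrTwist.twist 𝒜 1) U t)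
    (y : U) : a ∉ y.1.asHomogeneousIdeal := by
  intro ha
  obtain ⟨b, hb, hby⟩ := hcov y.1
  have hb' : ∀ z : (U ⊓ Proj.basicOpen 𝒜 b : (Proj 𝒜).Opens), b ∉ z.1.asHomogeneousIdeal :=
    fun z => (Proj.mem_basicOpen 𝒜 _ _).mp z.2.2
  obtain ⟨c, hc⟩ := (ht (U ⊓ Proj.basicOpen 𝒜 b) inf_le_left).2 (genAt (d := 1) hb hb' 1 1 (by simp))
  have hy : y.1 ∈ (U ⊓ Proj.basicOpen 𝒜 b : (Proj 𝒜).Opens) := ⟨y.2, (Proj.mem_basicOpen 𝒜 _ _).mpr hby⟩
  have h1 := congrArg (fun s => sval s ⟨y.1, hy⟩) hc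
  simp only at h1
  rw [sval_smul, sval_map, sval_genAt, zpow_one, fUnit_val, hval, Localization.mk_one_eq_algebraMap] at h1
  have h2 : algebraMap A (GrTwist.Loc 𝒜 y.1) a ∈ IsLocalRing.maximalIdeal (GrTwist.Loc 𝒜 y.1) :=
    (IsLocalization.AtPrime.to_map_mem_maximal_iff (GrTwist.Loc 𝒜 y.1) y.1.asHomogeneousIdeal.toIdeal a).mpr ha
  have h3 : algebraMap A (GrTwist.Loc 𝒜 y.1) b ∈ IsLocalRing.maximalIdeal (GrTwist.Loc 𝒜 y.1) := by
    rw [← h1]
    exact Ideal.mul_mem_left _ _ h2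
  exact hby ((IsLocalization.AtPrime.to_map_mem_maximal_iff (GrTwist.Loc 𝒜 y.1)
    y.1.asHomogeneousIdeal.toIdeal b).mp h3)

end ring

theorem bijective_congr_open {X : Scheme.{u}} (L : X.Modules) {V : X.Opens} (τ : Γ(L, V)) {V₁ V₂ : X.Opens}
    (e : V₁ = V₂) (h₁ : V₁ ≤ V) (h₂ : V₂ ≤ V)
    (h : Function.Bijective (fun c : Γ(X, V₁) => c • L.presheaf.map (homOfLE h₁).op τ)) :
    Function.Bijective (fun c : Γ(X, V₂) => c • L.presheaf.map (homOfLE h₂).op τ) := by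
  subst e
  exact h

variable {Y P : Scheme.{u}} {𝒮 : RelProj.QCGrAlg Y} {p : P ⟶ Y}
  {chart : ∀ (U : Y.Opens) (hU : IsAffineOpen U), (((p ⁻¹ᵁ U : P.Opens) : Scheme.{u}) ≅ Proj (𝒮.deg U hU))}
  {n : ℤ} {L : P.Modules}
  {lam : ∀ (U : Y.Opens) (hU : IsAffineOpen U),
      L ⟶ (Scheme.Modules.pushforward (RelProj.emb p chart U hU)).obj (GrTwist.twist (𝒮.deg U hU) n)}

/-- Converse of `isGen_of_lamS`: the chart image of a free generator is a free generator. -/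
theorem isGen_lamS (hL : RelProj.IsRelTwist 𝒮 p chart n L lam) (U : Y.Opens)
    (hU : IsAffineOpen U) (W : P.Opens) (hW : W ≤ p ⁻¹ᵁ U) (s : Γ(L, W)) (hs : IsGen L W s) :
    IsGen (GrTwist.twist (𝒮.deg U hU) n) (RelProj.emb p chart U hU ⁻¹ᵁ W) (lamS lam U hU W s) := by
  intro V'' hV''
  have hW₁ : RelProj.emb p chart U hU ''ᵁ V'' ≤ W := image_le_of_le_preimage _ hV''
  have he : RelProj.emb p chart U hU ⁻¹ᵁ (RelProj.emb p chart U hU ''ᵁ V'') = V'' :=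
    (RelProj.emb p chart U hU).preimage_image_eq V''
  refine bijective_congr_open _ _ he ((RelProj.emb p chart U hU).preimage_mono hW₁) hV'' ?_
  have h1 := hs (RelProj.emb p chart U hU ''ᵁ V'') hW₁
  have hle : RelProj.emb p chart U hU ''ᵁ V'' ≤ (RelProj.emb p chart U hU).opensRange :=
    (RelProj.emb p chart U hU).image_le_opensRange _
  haveI := (RelProj.emb p chart U hU).isIso_app _ hle
  have h2 : Function.Bijective ((RelProj.emb p chart U hU).app (RelProj.emb p chart U hU ''ᵁ V'')).hom :=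
    (ConcreteCategory.isIso_iff_bijective _).mp inferInstance
  have h3 := lamS_bijective hL U hU _ (hW₁.trans hW)
  have key : (lamS lam U hU (RelProj.emb p chart U hU ''ᵁ V'')) ∘
      (fun a : Γ(P, RelProj.emb p chart U hU ''ᵁ V'') => a • L.presheaf.map (homOfLE hW₁).op s) =
      (fun b : Γ(Proj (𝒮.deg U hU), RelProj.emb p chart U hU ⁻¹ᵁ (RelProj.emb p chart U hU ''ᵁ V'')) =>
        b • (GrTwist.twist (𝒮.deg U hU) n).presheaf.map
          (homOfLE ((RelProj.emb p chart U hU).preimage_mono hW₁)).op (lamS lam U hU W s)) ∘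
        ((RelProj.emb p chart U hU).app (RelProj.emb p chart U hU ''ᵁ V'')).hom := by
    funext a
    simp only [Function.comp_apply]
    rw [lamS_smul]
    congr 1
    exact lamS_rs U hU hW₁ s
  have h4 : Function.Bijective ((fun b : Γ(Proj (𝒮.deg U hU),
      RelProj.emb p chart U hU ⁻¹ᵁ (RelProj.emb p chart U hU ''ᵁ V'')) =>
        b • (GrTwist.twist (𝒮.deg U hU) n).presheaf.map
          (homOfLE ((RelProj.emb p chart U hU).preimage_mono hW₁)).op (lamS lam U hU W s)) ∘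
        ((RelProj.emb p chart U hU).app (RelProj.emb p chart U hU ''ᵁ V'')).hom) := by
    rw [← key]; exact h3.comp h1
  exact (Function.Bijective.of_comp_iff _ h2).mp h4

variable {O1 : P.Modules}
  {lam1 : ∀ (U : Y.Opens) (hU : IsAffineOpen U),
      O1 ⟶ (Scheme.Modules.pushforward (RelProj.emb p chart U hU)).obj (GrTwist.twist (𝒮.deg U hU) 1)}

/-- The section of `O_P(1)` over `p⁻¹(U)` with chart value `a / 1`, `a ∈ 𝒮(U)_1`. -/
theorem exists_sec_val (hO1 : RelProj.IsRelTwist 𝒮 p chart 1 O1 lam1) (U : Y.Opens) (hU : IsAffineOpen U)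
    {a : 𝒮.presheaf.obj (op U)} (ha : a ∈ 𝒮.deg U hU 1) :
    ∃ σ : Γ(O1, p ⁻¹ᵁ U), ∀ y : ↥(RelProj.emb p chart U hU ⁻¹ᵁ (p ⁻¹ᵁ U)),
      GrTwist.val (V := RelProj.emb p chart U hU ⁻¹ᵁ (p ⁻¹ᵁ U)) ((lam1 U hU).app (p ⁻¹ᵁ U) σ) y =
        algebraMap (𝒮.presheaf.obj (op U)) (GrTwist.Loc (𝒮.deg U hU) y.1) a := by
  obtain ⟨σ, hσ⟩ := (hO1.bijective U hU (p ⁻¹ᵁ U) le_rfl).2
    ((GrTwist.twist (𝒮.deg U hU) 1).presheaf.map
      (homOfLE (le_top : RelProj.emb p chart U hU ⁻¹ᵁ (p ⁻¹ᵁ U) ≤ ⊤)).op (numSec ha 1 (by simp)))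
  refine ⟨σ, fun y => ?_⟩
  have h1 := congrArg (fun t => sval t y) hσ
  simp only at h1
  rw [sval_map, sval_numSec] at h1
  exact h1

/-- `O_P(1)` restricted to a finite union of standard charts `D₊(a_i)`, `a_i ∈ 𝒮(U)_1`, is ample. -/
theorem isAmple_restrict_iSup (hgen : 𝒮.IsGenDegOne) (hO1 : RelProj.IsRelTwist 𝒮 p chart 1 O1 lam1)
    (U : Y.Opens) (hU : IsAffineOpen U) {ι : Type*} [Finite ι] (a : ι → 𝒮.presheaf.obj (op U))
    (ha : ∀ i, a i ∈ 𝒮.deg U hU 1) :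
    CohB1.IsAmple (O1.restrict
      (⨆ i, RelProj.emb p chart U hU ''ᵁ Proj.basicOpen (𝒮.deg U hU) (a i) : P.Opens).ι) := by
  set D : ι → P.Opens := fun i => RelProj.emb p chart U hU ''ᵁ Proj.basicOpen (𝒮.deg U hU) (a i) with hDdef
  have hDaff : ∀ i, IsAffineOpen (D i) := fun i =>
    (Proj.isAffineOpen_basicOpen (𝒮.deg U hU) (a i) (ha i) one_pos).image_of_isOpenImmersion
      (RelProj.emb p chart U hU)
  have hDU : ∀ i, D i ≤ p ⁻¹ᵁ U := fun i => image_emb_le U hU _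
  set P' : P.Opens := ⨆ i, D i with hP'
  have hDP' : ∀ i, D i ≤ P' := fun i => le_iSup D i
  have hP'U : P' ≤ p ⁻¹ᵁ U := iSup_le hDU
  haveI : CompactSpace ↥(P' : Scheme.{u}) := by
    refine isCompact_iff_compactSpace.1 ?_
    have : (P' : Set P) = ⋃ i, (D i : Set P) := by rw [hP', Opens.coe_iSup]
    rw [this]
    exact isCompact_iUnion fun i => (hDaff i).isCompact
  have hinv : PicF.IsInvertible (O1.restrict P'.ι) :=
    isInvertible_restrict _ (Groth.Agent.Lib.RelTwistInv.isInvertible_relTwist_of_gen hgen 1 hO1)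
  refine Groth.Agent.Lib.H78GlobGen.isAmple_of_hasAffSec hinv fun x => ?_
  obtain ⟨i, hi⟩ := Opens.mem_iSup.1 x.2
  obtain ⟨σ, hσ⟩ := exists_sec_val hO1 U hU (ha i)
  have hle : P'.ι ''ᵁ ⊤ ≤ p ⁻¹ᵁ U := (Scheme.Opens.ι_image_le P' ⊤).trans hP'U
  have hloc : CohB1.genLocus (O1.restrict P'.ι) (ofSection (M := O1.restrict P'.ι)
      (toR P'.ι O1 ⊤ (rs O1 hle σ))) = P'.ι ⁻¹ᵁ D i := by
    ext y
    rw [SetLike.mem_coe, Groth.Agent.Lib.H78SecCoord.mem_genLocus_iff, Groth.Agent.Lib.H78SecCoord.sec_ofSection]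
    constructor
    · rintro ⟨W, hyW, hW⟩
      have hWU : P'.ι ''ᵁ W ≤ p ⁻¹ᵁ U := (Scheme.Opens.ι_image_le P' W).trans hP'U
      have e : rs (O1.restrict P'.ι) (le_top : W ≤ ⊤) (toR P'.ι O1 ⊤ (rs O1 hle σ)) =
          toR P'.ι O1 W (rs O1 hWU σ) := by
        change rs O1 _ (rs O1 hle σ) = _
        rw [rs_rs]
        rfl
      rw [e] at hW
      have h1 : IsGen O1 (P'.ι ''ᵁ W) (rs O1 hWU σ) := (isGen_restrict_iff P'.ι O1 W _).mp hW
      have h2 := isGen_lamS hO1 U hU _ hWU _ h1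
      obtain ⟨y', hy'⟩ := exists_emb_eq (p := p) (chart := chart) U hU (hP'U y.2)
      have hy'W : y' ∈ RelProj.emb p chart U hU ⁻¹ᵁ (P'.ι ''ᵁ W) := by
        change (RelProj.emb p chart U hU).base y' ∈ P'.ι ''ᵁ W
        rw [hy']
        exact ⟨y, hyW, rfl⟩
      have h3 := notMem_of_isGen (a := a i)
        (fun z => Groth.Agent.Lib.RelTwistInv.exists_degree_one_notMem_of_closure (hgen U hU) z) _
        (fun z => ?_) h2 ⟨y', hy'W⟩
      · change (P'.ι.base y) ∈ D i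
        change y.1 ∈ D i
        rw [← hy']
        exact Set.mem_image_of_mem _ ((Proj.mem_basicOpen (𝒮.deg U hU) _ _).mpr h3)
      · have e1 := lamS_rs (lam := lam1) U hU hWU σ
        rw [e1, sval_map]
        exact hσ ⟨z.1, (RelProj.emb p chart U hU).preimage_mono hWU z.2⟩
    · intro hy
      refine ⟨P'.ι ⁻¹ᵁ D i, hy, ?_⟩
      have hle2 : P'.ι ''ᵁ (P'.ι ⁻¹ᵁ D i) ≤ D i := P'.ι.image_preimage_le (D i)
      have e : rs (O1.restrict P'.ι) (le_top : P'.ι ⁻¹ᵁ D i ≤ ⊤) (toR P'.ι O1 ⊤ (rs O1 hle σ)) =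
          toR P'.ι O1 (P'.ι ⁻¹ᵁ D i) (rs O1 hle2 (rs O1 (hDU i) σ)) := by
        change rs O1 _ (rs O1 hle σ) = _
        rw [rs_rs, rs_rs]
        rfl
      rw [e]
      refine (isGen_restrict_iff P'.ι O1 _ _).mpr ?_
      refine IsGen.mono ?_ hle2
      refine Groth.Agent.Lib.RelTwistEpi.isGen_of_val hO1 U hU (ha i) _ (hDU i) _ (fun z => ?_) (fun z => ?_)
      · obtain ⟨z, hz⟩ := z
        rw [(RelProj.emb p chart U hU).preimage_image_eq] at hz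
        exact (Proj.mem_basicOpen (𝒮.deg U hU) _ _).mp hz
      · have e1 := lamS_rs (lam := lam1) U hU (hDU i) σ
        unfold lamS at e1
        rw [e1]
        exact hσ ⟨z.1, (RelProj.emb p chart U hU).preimage_mono (hDU i) z.2⟩
  refine ⟨(toR P'.ι O1 ⊤ (rs O1 hle σ)), ?_, ?_⟩
  · rw [hloc]; exact hi
  · rw [hloc]
    refine (hDaff i).preimage_of_isOpenImmersion P'.ι ?_
    rw [Scheme.Opens.opensRange_ι]
    exact hDP' i

/-- **S5722**: a `Y`-morphism `g : X ⟶ P(E)` which is a topological embedding, with `X` quasi-compact over `Y`,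
pulls `O_P(1)` back to a relatively ample module. -/
theorem isRelAmple_pullback_of_isEmbedding {X : Scheme.{u}} (f : X ⟶ Y) [QuasiCompact f]
    (hgen : 𝒮.IsGenDegOne) (hO1 : RelProj.IsRelTwist 𝒮 p chart 1 O1 lam1)
    (g : X ⟶ P) (hg : g ≫ p = f) (hemb : Topology.IsEmbedding g.base) :
    RelAmple.IsRelAmple f ((Scheme.Modules.pullback g).obj O1) := by
  classical
  subst hg
  refine ⟨inferInstance, fun V => ?_⟩
  have hcomp : IsCompact (((g ≫ p) ⁻¹ᵁ V.1 : X.Opens) : Set X) :=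
    QuasiCompact.isCompact_preimage (f := g ≫ p) _ V.1.2 V.2.isCompact
  have hcov : ∀ x : ↥((g ≫ p) ⁻¹ᵁ V.1), ∃ a : 𝒮.presheaf.obj (op V.1), a ∈ 𝒮.deg V.1 V.2 1 ∧
      g.base x.1 ∈ RelProj.emb p chart V.1 V.2 ''ᵁ Proj.basicOpen (𝒮.deg V.1 V.2) a := by
    intro x
    have hx' : g.base x.1 ∈ p ⁻¹ᵁ V.1 := x.2
    obtain ⟨y, hy⟩ := exists_emb_eq (p := p) (chart := chart) V.1 V.2 hx'
    obtain ⟨a, ha, hay⟩ := Groth.Agent.Lib.RelTwistInv.exists_degree_one_notMem_of_closure (hgen V.1 V.2) y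
    refine ⟨a, ha, ?_⟩
    rw [← hy]
    exact Set.mem_image_of_mem _ ((Proj.mem_basicOpen (𝒮.deg V.1 V.2) _ _).mpr hay)
  choose a ha hga using hcov
  obtain ⟨t, ht⟩ := hcomp.elim_finite_subcover
    (fun x : ↥((g ≫ p) ⁻¹ᵁ V.1) =>
      ((g ⁻¹ᵁ (RelProj.emb p chart V.1 V.2 ''ᵁ Proj.basicOpen (𝒮.deg V.1 V.2) (a x)) : X.Opens) : Set X))
    (fun x => (g ⁻¹ᵁ (RelProj.emb p chart V.1 V.2 ''ᵁ Proj.basicOpen (𝒮.deg V.1 V.2) (a x))).2)
    (fun x hx => Set.mem_iUnion.2 ⟨⟨x, hx⟩, hga ⟨x, hx⟩⟩)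
  have hample := isAmple_restrict_iSup hgen hO1 V.1 V.2 (fun i : ↥t => a i.1) (fun i => ha i.1)
  have hle : (g ≫ p) ⁻¹ᵁ V.1 ≤ g ⁻¹ᵁ (⨆ i : ↥t, RelProj.emb p chart V.1 V.2 ''ᵁ
      Proj.basicOpen (𝒮.deg V.1 V.2) (a i.1) : P.Opens) := by
    intro x hx
    obtain ⟨i, hit, hi⟩ := Set.mem_iUnion₂.1 (ht hx)
    exact Opens.mem_iSup.2 ⟨⟨i, hit⟩, hi⟩
  haveI : CompactSpace ↥(((g ≫ p) ⁻¹ᵁ V.1 : X.Opens) : Scheme.{u}) := isCompact_iff_compactSpace.1 hcomp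
  refine Groth.Agent.Lib.H78AmpleUnit.isAmple_of_iso
    (Groth.Agent.Lib.H78PullAmple.resLEPullbackIso g _ ((g ≫ p) ⁻¹ᵁ V.1) hle O1).symm
    (Groth.Agent.S9815.result _ ?_ _ hample)
  have h1 : Topology.IsEmbedding
      ((⨆ i : ↥t, RelProj.emb p chart V.1 V.2 ''ᵁ Proj.basicOpen (𝒮.deg V.1 V.2) (a i.1) : P.Opens).ι.base ∘
        (g.resLE _ ((g ≫ p) ⁻¹ᵁ V.1) hle).base) := by
    have h2 : (⨆ i : ↥t, RelProj.emb p chart V.1 V.2 ''ᵁ Proj.basicOpen (𝒮.deg V.1 V.2) (a i.1) : P.Opens).ι.base ∘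
        (g.resLE _ ((g ≫ p) ⁻¹ᵁ V.1) hle).base = g.base ∘ ((g ≫ p) ⁻¹ᵁ V.1).ι.base := by
      funext z
      have h3 := Scheme.Hom.resLE_comp_ι g hle
      have h4 := congrArg (fun φ : _ ⟶ P => φ z) h3
      simp only [Scheme.Hom.comp_apply] at h4
      exact h4
    rw [h2]
    exact hemb.comp ((g ≫ p) ⁻¹ᵁ V.1).ι.isOpenEmbedding.isEmbedding
  exact Topology.IsEmbedding.of_comp (Scheme.Hom.continuous _) (Scheme.Hom.continuous _) h1

omit chart lam lam1 in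
/-- Relative ampleness is invariant under isomorphism of modules. -/
theorem isRelAmple_of_iso {X : Scheme.{u}} {f : X ⟶ Y} {L L' : X.Modules} (e : L ≅ L')
    (h : RelAmple.IsRelAmple f L) : RelAmple.IsRelAmple f L' :=
  ⟨h.1, fun V => Groth.Agent.Lib.H78AmpleUnit.isAmple_of_iso
    ((Scheme.Modules.restrictFunctor (f ⁻¹ᵁ V.1).ι).mapIso e) (h.2 V)⟩

omit chart lam lam1 in
/-- **S5721**: relatively very ample ⇒ relatively ample, for a quasi-compact morphism. -/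
theorem isRelAmple_of_isRelVeryAmple {X : Scheme.{u}} (f : X ⟶ Y) [QuasiCompact f] (L : X.Modules)
    (h : RelProj.IsRelVeryAmple f L) : RelAmple.IsRelAmple f L := by
  obtain ⟨E, hE, 𝒮, j, hj, P, p, chart, hP, O1, lam, hO1, i, hi, hif, ⟨e⟩⟩ := h
  have hgen : 𝒮.IsGenDegOne := Groth.Agent.Lib.H60LineSym.isGenDegOne E hE 𝒮 j hj
  exact isRelAmple_of_iso e.symm
    (isRelAmple_pullback_of_isEmbedding f hgen hO1 i hif i.isEmbedding)

omit chart lam lam1 in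
/-- **S5723**: if a positive tensor power of `L` is relatively very ample, `L` is relatively ample. -/
theorem isRelAmple_of_tensorPow_isRelVeryAmple {X : Scheme.{u}} (f : X ⟶ Y) [QuasiCompact f] (L : X.Modules)
    (hL : PicF.IsInvertible L) (n : ℕ) (hn : 0 < n) (h : RelProj.IsRelVeryAmple f (CohB1.tensorPow L n)) : RelAmple.IsRelAmple f L := by
  have h1 := isRelAmple_of_isRelVeryAmple f _ h
  refine ⟨h1.1, fun V => ?_⟩
  have h2 := Groth.Agent.Lib.H78AmpleUnit.isAmple_of_iso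
    (Groth.Agent.Lib.H78Restrict.restrictTensorPowIso (f ⁻¹ᵁ V.1).ι L n) (h1.2 V)
  haveI : CompactSpace ↥((f ⁻¹ᵁ V.1 : X.Opens) : Scheme.{u}) :=
    isCompact_iff_compactSpace.1 (QuasiCompact.isCompact_preimage (f := f) _ V.1.2 V.2.isCompact)
  exact (Groth.Agent.Lib.H78AmpleOps.isAmple_tensorPow_iff (isInvertible_restrict _ hL) hn).mpr h2

end Groth.Agent.Lib.RelTwistAmple
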