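import Groth.Agent.Lib.RelTwistAmple

/-!
# Graded rings of finite type: uniform degree covers of `Proj`; `O_X(d)` relatively ample (helper28)
-/

set_option autoImplicit false
universe u
open CategoryTheory CategoryTheory.Limits AlgebraicGeometry TopologicalSpace Opposite
open scoped HomogeneousIdeal

noncomputable section
namespace Groth.Agent.Lib.RelTwistAmpleD

open Groth.Agent.Lib.H90Invertible Groth.Agent.Lib.H78TensorGen
open Groth.Agent.Lib.RelTildeGlue Groth.Agent.Lib.RelTildeVal2 Groth.Agent.Lib.RelTildeLocal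
open Groth.Agent.Lib.GrTwistMul Groth.Agent.Lib.GrTwistTilde Groth.Agent.Lib.GrTwistInv Groth.Agent.Lib.GrModQCoh
open Groth.Agent.Lib.H60RelTwist Groth.Agent.Lib.H78Restrict Groth.Agent.Lib.RelTwistAmple

section ring

variable {A σ : Type u} [CommRing A] [SetLike σ A] [AddSubgroupClass σ A] {𝒜 : ℕ → σ} [GradedRing 𝒜]

/-- If the ring is generated by `𝒜 0` and a set `T` of homogeneous elements of positive degree, every point of `Proj`
avoids an element of `T`. -/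
theorem exists_notMem_of_closure_pos (T : Set A) (hT : ∀ t ∈ T, ∃ i : ℕ, 0 < i ∧ t ∈ 𝒜 i)
    (h : Subring.closure ((𝒜 0 : Set A) ∪ T) = ⊤) (x : ProjectiveSpectrum 𝒜) :
    ∃ f ∈ T, f ∉ x.asHomogeneousIdeal := by
  classical
  by_contra H
  simp only [not_exists, not_and, not_not] at H
  apply x.not_irrelevant_le
  let q : A →+* A ⧸ x.asHomogeneousIdeal.toIdeal := Ideal.Quotient.mk _
  let g : A →+* A ⧸ x.asHomogeneousIdeal.toIdeal := q.comp (GradedRing.projZeroRingHom 𝒜)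
  have hle : Subring.closure ((𝒜 0 : Set A) ∪ T) ≤ RingHom.eqLocus q g := by
    rw [Subring.closure_le]
    rintro a (ha | ha)
    · change q a = q (GradedRing.projZeroRingHom 𝒜 a)
      rw [GradedRing.projZeroRingHom_apply, DirectSum.decompose_of_mem_same 𝒜 ha]
    · change q a = q (GradedRing.projZeroRingHom 𝒜 a)
      obtain ⟨i, hi, hai⟩ := hT a ha
      rw [GradedRing.projZeroRingHom_apply, DirectSum.decompose_of_mem_ne 𝒜 hai (Nat.pos_iff_ne_zero.mp hi),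
        map_zero]
      exact Ideal.Quotient.eq_zero_iff_mem.mpr (H a ha)
  rw [h] at hle
  intro z hz
  have h1 : q z = g z := hle (Subring.mem_top z)
  have h2 : GradedRing.projZeroRingHom 𝒜 z = 0 := hz
  change z ∈ x.asHomogeneousIdeal.toIdeal
  rw [← Ideal.Quotient.eq_zero_iff_mem]
  change q z = 0
  rw [h1]
  change q (GradedRing.projZeroRingHom 𝒜 z) = 0
  rw [h2, map_zero]

/-- A graded ring of finite type over a ring mapping into degree `0` is generated by `𝒜 0` and finitely many homogeneous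
elements of positive degree. -/
theorem exists_finset_homogeneous_gens {R : Type u} [CommRing R] (φ : R →+* A) (hφ0 : ∀ r, φ r ∈ 𝒜 0)
    (hft : φ.FiniteType) :
    ∃ T : Finset A, (∀ t ∈ T, ∃ i : ℕ, 0 < i ∧ t ∈ 𝒜 i) ∧
      Subring.closure ((𝒜 0 : Set A) ∪ (T : Set A)) = ⊤ := by
  classical
  letI := φ.toAlgebra
  obtain ⟨s, hs⟩ := (hft : Algebra.FiniteType R A).out
  let T : Finset A := s.biUnion fun x => ((DirectSum.decompose 𝒜 x).support.filter (0 < ·)).image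
    fun i => (DirectSum.decompose 𝒜 x i : A)
  refine ⟨T, ?_, ?_⟩
  · intro t ht
    simp only [T, Finset.mem_biUnion, Finset.mem_image, Finset.mem_filter] at ht
    obtain ⟨x, -, i, ⟨-, hi⟩, rfl⟩ := ht
    exact ⟨i, hi, SetLike.coe_mem _⟩
  · rw [eq_top_iff]
    rintro z -
    have hz : z ∈ Algebra.adjoin R (s : Set A) := by rw [hs]; trivial
    induction hz using Algebra.adjoin_induction with
    | mem x hx =>
      rw [← DirectSum.sum_support_decompose 𝒜 x]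
      refine Subring.sum_mem _ fun i hi => ?_
      rcases Nat.eq_zero_or_pos i with h0 | h0
      · subst h0
        exact Subring.subset_closure (Or.inl (SetLike.coe_mem _))
      · refine Subring.subset_closure (Or.inr ?_)
        simp only [T, Finset.coe_biUnion, Finset.coe_image, Set.mem_iUnion, Set.mem_image, Finset.coe_filter]
        exact ⟨x, hx, i, ⟨hi, h0⟩, rfl⟩
    | algebraMap r => exact Subring.subset_closure (Or.inl (hφ0 r))
    | add y z _ _ ihy ihz => exact add_mem ihy ihz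
    | mul y z _ _ ihy ihz => exact mul_mem ihy ihz

/-- Uniform degree: there is `d₀ > 0` such that for every positive multiple `d` of `d₀` the `D₊(g)`, `g ∈ 𝒜 d`, cover `Proj`. -/
theorem exists_degree_cover (T : Finset A) (hT : ∀ t ∈ T, ∃ i : ℕ, 0 < i ∧ t ∈ 𝒜 i)
    (h : Subring.closure ((𝒜 0 : Set A) ∪ (T : Set A)) = ⊤) :
    ∃ d₀ : ℕ, 0 < d₀ ∧ ∀ d : ℕ, d₀ ∣ d → ∀ y : ProjectiveSpectrum 𝒜, ∃ g ∈ 𝒜 d, g ∉ y.asHomogeneousIdeal := by
  classical
  choose! deg hdeg using hT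
  refine ⟨∏ t ∈ T, deg t, Finset.prod_pos fun t ht => (hdeg t ht).1, fun d hd y => ?_⟩
  obtain ⟨t, ht, hty⟩ := exists_notMem_of_closure_pos (T : Set A)
    (fun t ht => ⟨deg t, hdeg t ht⟩) h y
  obtain ⟨k, rfl⟩ := (Finset.dvd_prod_of_mem deg ht).trans hd
  refine ⟨t ^ k, ?_, fun hmem => hty (y.isPrime.mem_of_pow_mem k hmem)⟩
  have := SetLike.pow_mem_graded k (hdeg t ht).2
  rwa [smul_eq_mul, mul_comm] at this

/-- `Proj` of a graded ring generated by `𝒜 0` and finitely many homogeneous elements of positive degree is quasi-compact. -/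
theorem compactSpace_proj (T : Finset A) (hT : ∀ t ∈ T, ∃ i : ℕ, 0 < i ∧ t ∈ 𝒜 i)
    (h : Subring.closure ((𝒜 0 : Set A) ∪ (T : Set A)) = ⊤) : CompactSpace (Proj 𝒜) := by
  classical
  have H : ∀ t ∈ T, IsCompact ((Proj.basicOpen 𝒜 t : (Proj 𝒜).Opens) : Set (Proj 𝒜)) := fun t ht => by
    obtain ⟨i, hi, hti⟩ := hT t ht
    exact (Proj.isAffineOpen_basicOpen 𝒜 t hti hi).isCompact
  have hcov : (⋃ t ∈ T, ((Proj.basicOpen 𝒜 t : (Proj 𝒜).Opens) : Set (Proj 𝒜))) = Set.univ := by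
    apply Set.eq_univ_of_forall
    intro x
    obtain ⟨t, ht, hx⟩ := exists_notMem_of_closure_pos (T : Set A) hT h x
    exact Set.mem_iUnion₂.mpr ⟨t, ht, hx⟩
  constructor
  rw [← hcov]
  exact T.isCompact_biUnion H

/-- A section of `O(n)`, `n = d`, with values `a / 1` which is a free generator over `U` does not vanish on `U`
(if the `D₊(b)`, `b ∈ 𝒜 d`, cover). -/
theorem notMem_of_isGen_deg {d : ℕ} {n : ℤ} (hn : n = d)
    (hcov : ∀ y : ProjectiveSpectrum 𝒜, ∃ b ∈ 𝒜 d, b ∉ y.asHomogeneousIdeal)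
    {a : A} {U : (Proj 𝒜).Opens} (t : Γ(GrTwist.twist 𝒜 n, U))
    (hval : ∀ y : U, sval t y = algebraMap A (GrTwist.Loc 𝒜 y.1) a) (ht : IsGen (GrTwist.twist 𝒜 n) U t)
    (y : U) : a ∉ y.1.asHomogeneousIdeal := by
  intro ha
  obtain ⟨b, hb, hby⟩ := hcov y.1
  have hb' : ∀ z : (U ⊓ Proj.basicOpen 𝒜 b : (Proj 𝒜).Opens), b ∉ z.1.asHomogeneousIdeal :=
    fun z => (Proj.mem_basicOpen 𝒜 _ _).mp z.2.2
  obtain ⟨c, hc⟩ := (ht (U ⊓ Proj.basicOpen 𝒜 b) inf_le_left).2 (genAt hb hb' 1 n (by rw [hn]; ring))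
  have hy : y.1 ∈ (U ⊓ Proj.basicOpen 𝒜 b : (Proj 𝒜).Opens) := ⟨y.2, (Proj.mem_basicOpen 𝒜 _ _).mpr hby⟩
  have h1 := congrArg (fun s => sval s ⟨y.1, hy⟩) hc
  simp only at h1
  rw [sval_smul, sval_map, sval_genAt, zpow_one, fUnit_val, hval, Localization.mk_one_eq_algebraMap] at h1
  have h2 : algebraMap A (GrTwist.Loc 𝒜 y.1) a ∈ IsLocalRing.maximalIdeal (GrTwist.Loc 𝒜 y.1) :=
    (IsLocalization.AtPrime.to_map_mem_maximal_iff (GrTwist.Loc 𝒜 y.1) y.1.asHomogeneousIdeal.toIdeal a).mpr ha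
  have h3 : algebraMap A (GrTwist.Loc 𝒜 y.1) b ∈ IsLocalRing.maximalIdeal (GrTwist.Loc 𝒜 y.1) := by
    rw [← h1]
    exact Ideal.mul_mem_left _ _ h2
  exact hby ((IsLocalization.AtPrime.to_map_mem_maximal_iff (GrTwist.Loc 𝒜 y.1)
    y.1.asHomogeneousIdeal.toIdeal b).mp h3)

end ring

variable {Y P : Scheme.{u}} {𝒮 : RelProj.QCGrAlg Y} {p : P ⟶ Y}
  {chart : ∀ (U : Y.Opens) (hU : IsAffineOpen U), (((p ⁻¹ᵁ U : P.Opens) : Scheme.{u}) ≅ Proj (𝒮.deg U hU))}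
  {n : ℤ} {L : P.Modules}
  {lam : ∀ (U : Y.Opens) (hU : IsAffineOpen U),
      L ⟶ (Scheme.Modules.pushforward (RelProj.emb p chart U hU)).obj (GrTwist.twist (𝒮.deg U hU) n)}

/-- A section of `O_P(n)`, `n = d`, whose value on the chart is `f/1`, `f ∈ 𝒮(U)_d` vanishing nowhere, is a free generator. -/
theorem isGen_of_val_deg (hL : RelProj.IsRelTwist 𝒮 p chart n L lam) {d : ℕ} (hn : n = d)
    (U : Y.Opens) (hU : IsAffineOpen U)
    {f : 𝒮.presheaf.obj (op U)} (hf : f ∈ 𝒮.deg U hU d) (W : P.Opens) (hW : W ≤ p ⁻¹ᵁ U) (s : Γ(L, W))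
    (hne : ∀ y : (RelProj.emb p chart U hU ⁻¹ᵁ W : (Proj (𝒮.deg U hU)).Opens), f ∉ y.1.asHomogeneousIdeal)
    (hval : ∀ y : (RelProj.emb p chart U hU ⁻¹ᵁ W : (Proj (𝒮.deg U hU)).Opens),
      GrTwist.val (V := RelProj.emb p chart U hU ⁻¹ᵁ W) ((lam U hU).app W s) y =
        algebraMap (𝒮.presheaf.obj (op U)) (GrTwist.Loc (𝒮.deg U hU) y.1) f) : IsGen L W s := by
  apply isGen_of_lamS hL U hU W hW s
  have e : lamS lam U hU W s = genAt hf hne 1 n (by rw [hn]; ring) := by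
    refine sec_ext fun y => ?_
    rw [sval_genAt, zpow_one, fUnit_val]
    exact (hval y).trans (Localization.mk_one_eq_algebraMap _).symm
  rw [e]
  exact isGen_genAt _ _ _ _ _

/-- The section of `O_P(n)`, `n = d`, over `p⁻¹(U)` with chart value `a / 1`, `a ∈ 𝒮(U)_d`. -/
theorem exists_sec_val_deg (hL : RelProj.IsRelTwist 𝒮 p chart n L lam) {d : ℕ} (hn : n = d)
    (U : Y.Opens) (hU : IsAffineOpen U)
    {a : 𝒮.presheaf.obj (op U)} (ha : a ∈ 𝒮.deg U hU d) :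
    ∃ σ : Γ(L, p ⁻¹ᵁ U), ∀ y : ↥(RelProj.emb p chart U hU ⁻¹ᵁ (p ⁻¹ᵁ U)),
      GrTwist.val (V := RelProj.emb p chart U hU ⁻¹ᵁ (p ⁻¹ᵁ U)) ((lam U hU).app (p ⁻¹ᵁ U) σ) y =
        algebraMap (𝒮.presheaf.obj (op U)) (GrTwist.Loc (𝒮.deg U hU) y.1) a := by
  obtain ⟨σ, hσ⟩ := (hL.bijective U hU (p ⁻¹ᵁ U) le_rfl).2
    ((GrTwist.twist (𝒮.deg U hU) n).presheaf.map
      (homOfLE (le_top : RelProj.emb p chart U hU ⁻¹ᵁ (p ⁻¹ᵁ U) ≤ ⊤)).op (numSec ha n hn))
  refine ⟨σ, fun y => ?_⟩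
  have h1 := congrArg (fun t => sval t y) hσ
  simp only at h1
  rw [sval_map, sval_numSec] at h1
  exact h1

/-- `O_P(d)`, if invertible, restricted to a finite union of standard charts `D₊(a_i)`, `a_i ∈ 𝒮(U)_d`, is ample, provided the
`D₊(b)`, `b ∈ 𝒮(U)_d`, cover `Proj 𝒮(U)`. -/
theorem isAmple_restrict_iSup_deg (hL : RelProj.IsRelTwist 𝒮 p chart n L lam) {d : ℕ} (hn : n = d) (hd : 0 < d)
    (hinv : PicF.IsInvertible L) (U : Y.Opens) (hU : IsAffineOpen U)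
    (hcov : ∀ y : ProjectiveSpectrum (𝒮.deg U hU), ∃ b ∈ 𝒮.deg U hU d, b ∉ y.asHomogeneousIdeal)
    {ι : Type*} [Finite ι] (a : ι → 𝒮.presheaf.obj (op U)) (ha : ∀ i, a i ∈ 𝒮.deg U hU d) :
    CohB1.IsAmple (L.restrict
      (⨆ i, RelProj.emb p chart U hU ''ᵁ Proj.basicOpen (𝒮.deg U hU) (a i) : P.Opens).ι) := by
  set D : ι → P.Opens := fun i => RelProj.emb p chart U hU ''ᵁ Proj.basicOpen (𝒮.deg U hU) (a i) with hDdef
  have hDaff : ∀ i, IsAffineOpen (D i) := fun i =>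
    (Proj.isAffineOpen_basicOpen (𝒮.deg U hU) (a i) (ha i) hd).image_of_isOpenImmersion
      (RelProj.emb p chart U hU)
  have hDU : ∀ i, D i ≤ p ⁻¹ᵁ U := fun i => image_emb_le U hU _
  set P' : P.Opens := ⨆ i, D i with hP'
  have hDP' : ∀ i, D i ≤ P' := fun i => le_iSup D i
  have hP'U : P' ≤ p ⁻¹ᵁ U := iSup_le hDU
  haveI : CompactSpace ↥(P' : Scheme.{u}) := by
    refine isCompact_iff_compactSpace.1 ?_
    have : (P' : Set P) = ⋃ i, (D i : Set P) := by rw [hP', Opens.coe_iSup]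
    rw [this]
    exact isCompact_iUnion fun i => (hDaff i).isCompact
  have hinv' : PicF.IsInvertible (L.restrict P'.ι) := isInvertible_restrict _ hinv
  refine Groth.Agent.Lib.H78GlobGen.isAmple_of_hasAffSec hinv' fun x => ?_
  obtain ⟨i, hi⟩ := Opens.mem_iSup.1 x.2
  obtain ⟨σ, hσ⟩ := exists_sec_val_deg hL hn U hU (ha i)
  have hle : P'.ι ''ᵁ ⊤ ≤ p ⁻¹ᵁ U := (Scheme.Opens.ι_image_le P' ⊤).trans hP'U
  have hloc : CohB1.genLocus (L.restrict P'.ι) (ofSection (M := L.restrict P'.ι)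
      (toR P'.ι L ⊤ (rs L hle σ))) = P'.ι ⁻¹ᵁ D i := by
    ext y
    rw [SetLike.mem_coe, Groth.Agent.Lib.H78SecCoord.mem_genLocus_iff, Groth.Agent.Lib.H78SecCoord.sec_ofSection]
    constructor
    · rintro ⟨W, hyW, hW⟩
      have hWU : P'.ι ''ᵁ W ≤ p ⁻¹ᵁ U := (Scheme.Opens.ι_image_le P' W).trans hP'U
      have e : rs (L.restrict P'.ι) (le_top : W ≤ ⊤) (toR P'.ι L ⊤ (rs L hle σ)) =
          toR P'.ι L W (rs L hWU σ) := by
        change rs L _ (rs L hle σ) = _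
        rw [rs_rs]
        rfl
      rw [e] at hW
      have h1 : IsGen L (P'.ι ''ᵁ W) (rs L hWU σ) := (isGen_restrict_iff P'.ι L W _).mp hW
      have h2 := isGen_lamS hL U hU _ hWU _ h1
      obtain ⟨y', hy'⟩ := exists_emb_eq (p := p) (chart := chart) U hU (hP'U y.2)
      have hy'W : y' ∈ RelProj.emb p chart U hU ⁻¹ᵁ (P'.ι ''ᵁ W) := by
        change (RelProj.emb p chart U hU).base y' ∈ P'.ι ''ᵁ W
        rw [hy']
        exact ⟨y, hyW, rfl⟩
      have h3 := notMem_of_isGen_deg (a := a i) hn hcov _ (fun z => ?_) h2 ⟨y', hy'W⟩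
      · change (P'.ι.base y) ∈ D i
        change y.1 ∈ D i
        rw [← hy']
        exact Set.mem_image_of_mem _ ((Proj.mem_basicOpen (𝒮.deg U hU) _ _).mpr h3)
      · have e1 := lamS_rs (lam := lam) U hU hWU σ
        rw [e1, sval_map]
        exact hσ ⟨z.1, (RelProj.emb p chart U hU).preimage_mono hWU z.2⟩
    · intro hy
      refine ⟨P'.ι ⁻¹ᵁ D i, hy, ?_⟩
      have hle2 : P'.ι ''ᵁ (P'.ι ⁻¹ᵁ D i) ≤ D i := P'.ι.image_preimage_le (D i)
      have e : rs (L.restrict P'.ι) (le_top : P'.ι ⁻¹ᵁ D i ≤ ⊤) (toR P'.ι L ⊤ (rs L hle σ)) =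
          toR P'.ι L (P'.ι ⁻¹ᵁ D i) (rs L hle2 (rs L (hDU i) σ)) := by
        change rs L _ (rs L hle σ) = _
        rw [rs_rs, rs_rs]
        rfl
      rw [e]
      refine (isGen_restrict_iff P'.ι L _ _).mpr ?_
      refine IsGen.mono ?_ hle2
      refine isGen_of_val_deg hL hn U hU (ha i) _ (hDU i) _ (fun z => ?_) (fun z => ?_)
      · obtain ⟨z, hz⟩ := z
        rw [(RelProj.emb p chart U hU).preimage_image_eq] at hz
        exact (Proj.mem_basicOpen (𝒮.deg U hU) _ _).mp hz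
      · have e1 := lamS_rs (lam := lam) U hU (hDU i) σ
        unfold lamS at e1
        rw [e1]
        exact hσ ⟨z.1, (RelProj.emb p chart U hU).preimage_mono (hDU i) z.2⟩
  refine ⟨(toR P'.ι L ⊤ (rs L hle σ)), ?_, ?_⟩
  · rw [hloc]; exact hi
  · rw [hloc]
    refine (hDaff i).preimage_of_isOpenImmersion P'.ι ?_
    rw [Scheme.Opens.opensRange_ι]
    exact hDP' i

omit n L lam in
/-- Transfer of a degree cover to a basic open. -/
theorem cover_basicOpen (U : Y.Opens) (hU : IsAffineOpen U) (r : Γ(Y, U)) {d : ℕ}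
    (hcov : ∀ y : ProjectiveSpectrum (𝒮.deg U hU), ∃ g ∈ 𝒮.deg U hU d, g ∉ y.asHomogeneousIdeal)
    (y : ProjectiveSpectrum (𝒮.deg (Y.basicOpen r) (hU.basicOpen r))) :
    ∃ g ∈ 𝒮.deg (Y.basicOpen r) (hU.basicOpen r) d, g ∉ y.asHomogeneousIdeal := by
  obtain ⟨g, hg, hgy⟩ := hcov (ProjectiveSpectrum.comap (𝒮.res hU (hU.basicOpen r) (Y.basicOpen_le r))
    (𝒮.irrelevant_le_map U hU r) y)
  exact ⟨𝒮.res hU (hU.basicOpen r) (Y.basicOpen_le r) g,
    (𝒮.res hU (hU.basicOpen r) (Y.basicOpen_le r)).map_mem hg, hgy⟩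

omit n L lam in
/-- Core of S5724: given a finite affine cover of `Y` over whose members the `D₊(g)`, `g` of degree `d`, cover the charts,
`O_P(d)` is invertible and relatively ample. -/
theorem isRelAmple_of_degree_cover
    (hcompact : ∀ (U : Y.Opens) (hU : IsAffineOpen U), CompactSpace (Proj (𝒮.deg U hU)))
    (t : Finset Y.affineOpens) (htcov : ∀ y : Y, ∃ U ∈ t, y ∈ U.1) (d : ℕ) (hdpos : 0 < d)
    (hcovU : ∀ U ∈ t, ∀ y : ProjectiveSpectrum (𝒮.deg U.1 U.2), ∃ g ∈ 𝒮.deg U.1 U.2 d, g ∉ y.asHomogeneousIdeal)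
    (L : P.Modules)
    (lam : ∀ (U : Y.Opens) (hU : IsAffineOpen U),
      L ⟶ (Scheme.Modules.pushforward (RelProj.emb p chart U hU)).obj (GrTwist.twist (𝒮.deg U hU) (d : ℤ)))
    (hL : RelProj.IsRelTwist 𝒮 p chart (d : ℤ) L lam) :
    PicF.IsInvertible L ∧ RelAmple.IsRelAmple p L := by
  classical
  -- invertibility
  have hinv : PicF.IsInvertible L := by
    rw [isInvertible_iff_exists_isGen]
    intro x
    obtain ⟨U, hUt, hxU⟩ := htcov (p.base x)
    obtain ⟨y, rfl⟩ := exists_emb_eq (p := p) (chart := chart) U.1 U.2 hxU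
    obtain ⟨g, hg, hgy⟩ := hcovU U hUt y
    exact ⟨RelProj.emb p chart U.1 U.2 ''ᵁ Proj.basicOpen (𝒮.deg U.1 U.2) g,
      Set.mem_image_of_mem _ ((Proj.mem_basicOpen (𝒮.deg U.1 U.2) _ _).mpr hgy),
      Groth.Agent.Lib.RelTwistInv.exists_isGen_relTwist (d : ℤ) hL U.1 U.2 hg (dvd_refl _)⟩
  refine ⟨hinv, ?_⟩
  -- quasi-compactness
  haveI : QuasiCompact p := by
    rw [quasiCompact_iff_forall_isAffineOpen]
    intro U hU
    haveI := hcompact U hU
    have h1 : ((p ⁻¹ᵁ U : P.Opens) : Set P) = Set.range (RelProj.emb p chart U hU).base := by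
      rw [← opensRange_emb (p := p) (chart := chart) U hU]
      rfl
    rw [h1]
    exact isCompact_range (RelProj.emb p chart U hU).continuous
  refine Groth.Agent.Lib.H78RelAmple.isRelAmple_of_local p L
    {D | ∃ U ∈ t, ∃ r : Γ(Y, U.1), D = Y.basicOpen r} ?_ ?_
  · rintro D ⟨U, hUt, r, rfl⟩
    have hD : IsAffineOpen (Y.basicOpen r) := U.2.basicOpen r
    have hcovD := cover_basicOpen (𝒮 := 𝒮) U.1 U.2 r (hcovU U hUt)
    haveI := hcompact (Y.basicOpen r) hD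
    choose g hg hgy using hcovD
    obtain ⟨t', ht'⟩ := isCompact_univ.elim_finite_subcover
      (fun y : ProjectiveSpectrum (𝒮.deg (Y.basicOpen r) hD) =>
        ((Proj.basicOpen (𝒮.deg (Y.basicOpen r) hD) (g y) : (Proj (𝒮.deg (Y.basicOpen r) hD)).Opens) :
          Set (Proj (𝒮.deg (Y.basicOpen r) hD))))
      (fun y => (Proj.basicOpen (𝒮.deg (Y.basicOpen r) hD) (g y)).2)
      (fun y _ => Set.mem_iUnion.2 ⟨y, (Proj.mem_basicOpen (𝒮.deg (Y.basicOpen r) hD) _ _).mpr (hgy y)⟩)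
    have hample := isAmple_restrict_iSup_deg hL rfl hdpos hinv (Y.basicOpen r) hD
      (cover_basicOpen (𝒮 := 𝒮) U.1 U.2 r (hcovU U hUt)) (fun i : ↥t' => g i.1) (fun i => hg i.1)
    have hP' : (⨆ i : ↥t', RelProj.emb p chart (Y.basicOpen r) hD ''ᵁ
        Proj.basicOpen (𝒮.deg (Y.basicOpen r) hD) (g i.1) : P.Opens) = p ⁻¹ᵁ (Y.basicOpen r) := by
      apply le_antisymm
      · exact iSup_le fun i => image_emb_le _ hD _
      · intro x hx
        obtain ⟨y, rfl⟩ := exists_emb_eq (p := p) (chart := chart) _ hD hx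
        obtain ⟨i, hit, hi⟩ := Set.mem_iUnion₂.1 (ht' (Set.mem_univ y))
        exact Opens.mem_iSup.2 ⟨⟨i, hit⟩, Set.mem_image_of_mem _ hi⟩
    rw [hP'] at hample
    exact hample
  · intro V hV y hyV
    obtain ⟨U, hUt, hyU⟩ := htcov y
    obtain ⟨f, g, e, hf⟩ := exists_basicOpen_le_affine_inter hV U.2 y ⟨hyV, hyU⟩
    exact ⟨f, hf, U, hUt, g, e⟩

omit n L lam in
/-- **S5724**: over a quasi-compact base, for `𝒮` of finite type, some `O_X(d)`, `d > 0`, is invertible and relatively ample. -/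
theorem exists_isRelAmple_relTwist [CompactSpace Y]
    (hft : ∀ (U : Y.Opens) (hU : IsAffineOpen U), (𝒮.str.app (op U)).hom.FiniteType) :
    ∃ d : ℕ, 0 < d ∧ ∀ (L : P.Modules)
      (lam : ∀ (U : Y.Opens) (hU : IsAffineOpen U),
        L ⟶ (Scheme.Modules.pushforward (RelProj.emb p chart U hU)).obj (GrTwist.twist (𝒮.deg U hU) (d : ℤ))),
      RelProj.IsRelTwist 𝒮 p chart (d : ℤ) L lam → PicF.IsInvertible L ∧ RelAmple.IsRelAmple p L := by
  classical
  -- generators over each affine open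
  have hgens : ∀ U : Y.affineOpens, ∃ T : Finset (𝒮.presheaf.obj (op U.1)),
      (∀ t ∈ T, ∃ i : ℕ, 0 < i ∧ t ∈ 𝒮.deg U.1 U.2 i) ∧
      Subring.closure (((𝒮.deg U.1 U.2 0 : AddSubgroup (𝒮.presheaf.obj (op U.1))) : Set (𝒮.presheaf.obj (op U.1))) ∪
        (T : Set (𝒮.presheaf.obj (op U.1)))) = ⊤ := fun U =>
    exists_finset_homogeneous_gens (𝒜 := 𝒮.deg U.1 U.2) (𝒮.str.app (op U.1)).hom
      (fun r => 𝒮.str_mem U.1 U.2 r) (hft U.1 U.2)
  choose T hT hTcl using hgens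
  have hcompact : ∀ (U : Y.Opens) (hU : IsAffineOpen U), CompactSpace (Proj (𝒮.deg U hU)) := fun U hU =>
    compactSpace_proj (T ⟨U, hU⟩) (hT ⟨U, hU⟩) (hTcl ⟨U, hU⟩)
  have hdeg : ∀ U : Y.affineOpens, ∃ d₀ : ℕ, 0 < d₀ ∧ ∀ d : ℕ, d₀ ∣ d →
      ∀ y : ProjectiveSpectrum (𝒮.deg U.1 U.2), ∃ g ∈ 𝒮.deg U.1 U.2 d, g ∉ y.asHomogeneousIdeal := fun U =>
    exists_degree_cover (T U) (hT U) (hTcl U)
  choose d₀ hd₀pos hd₀ using hdeg
  -- a finite affine cover of `Y`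
  obtain ⟨t, ht⟩ := isCompact_univ.elim_finite_subcover (fun U : Y.affineOpens => ((U.1 : Y.Opens) : Set Y))
    (fun U => U.1.2) (fun y _ => by
      obtain ⟨U, hU, hyU, -⟩ := exists_isAffineOpen_mem_and_subset (x := y) (U := ⊤) trivial
      exact Set.mem_iUnion.2 ⟨⟨U, hU⟩, hyU⟩)
  have htcov : ∀ y : Y, ∃ U ∈ t, y ∈ U.1 := fun y => by
    obtain ⟨U, hUt, hy⟩ := Set.mem_iUnion₂.1 (ht (Set.mem_univ y))
    exact ⟨U, hUt, hy⟩
  refine ⟨∏ U ∈ t, d₀ U, Finset.prod_pos fun U _ => hd₀pos U, fun L lam hL => ?_⟩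
  exact isRelAmple_of_degree_cover hcompact t htcov _ (Finset.prod_pos fun U _ => hd₀pos U)
    (fun U hU => hd₀ U _ (Finset.dvd_prod_of_mem d₀ hU)) L lam hL

end Groth.Agent.Lib.RelTwistAmpleD
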