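import Groth.Agent.Lib.GrModFTn
import Groth.Agent.Lib.RelTildeFT
import Groth.Agent.Lib.RelTwistInv

/-!
# `O_X(n)` is coherent on `Proj` of a finite-type graded algebra over a Noetherian base (helper28)

* `finite_sections_twist` : `Γ(D₊(f), O(n))` is finite over `Γ(D₊(f), O)` for a Noetherian graded ring;
* `isCoh_relTwist_of_noetherian` (S5747).
-/

set_option autoImplicit false
universe u

open CategoryTheory CategoryTheory.Limits AlgebraicGeometry Opposite TopologicalSpace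
open scoped HomogeneousIdeal

noncomputable section

namespace Groth.Agent.Lib.RelTwistCoh

open Groth.Agent.Lib.RelTildeGlue Groth.Agent.Lib.RelTildeVal2 Groth.Agent.Lib.RelTildeLocal
open Groth.Agent.Lib.RelTildeFT

section ring

variable {A σ : Type u} [CommRing A] [SetLike σ A] [AddSubgroupClass σ A] (𝒜 : ℕ → σ) [GradedRing 𝒜]

/-- `Γ(D₊(f), O(n))` is finite over `Γ(D₊(f), O)` for a Noetherian graded ring. -/
theorem finite_sections_twist [IsNoetherianRing A] (n : ℤ) {d : ℕ} {f : A} (hf : f ∈ 𝒜 d) (hd : 0 < d) :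
    Module.Finite Γ(Proj 𝒜, Proj.basicOpen 𝒜 f) Γ(GrTwist.twist 𝒜 n, Proj.basicOpen 𝒜 f) := by
  haveI : Module.Finite Γ(Proj 𝒜, Proj.basicOpen 𝒜 f) Γ(GrMod.tilde 𝒜 𝒜 n, Proj.basicOpen 𝒜 f) :=
    Groth.Agent.Lib.GrModFTn.finite_sections_basicOpen_of_noetherian (𝒜 := 𝒜) (ℳ := 𝒜) n hf hd
  exact finite_of_bijective_semilinear (RingHom.id _) Function.surjective_id
    ((Groth.Agent.Lib.GrTwistTilde.twistTildeIso 𝒜 n).hom.app (Proj.basicOpen 𝒜 f)).hom
    ((ConcreteCategory.isIso_iff_bijective _).mp inferInstance)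
    (fun r m => Scheme.Modules.Hom.app_smul (Groth.Agent.Lib.GrTwistTilde.twistTildeIso 𝒜 n).hom r m)

end ring

variable {Y P : Scheme.{u}} {𝒮 : RelProj.QCGrAlg Y} {p : P ⟶ Y}
  {chart : ∀ (U : Y.Opens) (hU : IsAffineOpen U), (((p ⁻¹ᵁ U : P.Opens) : Scheme.{u}) ≅ Proj (𝒮.deg U hU))}

/-- Over a Noetherian base, for `𝒮` of finite type, the twisting sheaves `O_P(n)` are coherent (S5747). -/
theorem isCoh_relTwist_of_noetherian [AlgebraicGeometry.IsNoetherian Y]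
    (hft : ∀ (U : Y.Opens) (hU : IsAffineOpen U), (𝒮.str.app (op U)).hom.FiniteType)
    (n : ℤ) {L : P.Modules}
    {lam : ∀ (U : Y.Opens) (hU : IsAffineOpen U),
      L ⟶ (Scheme.Modules.pushforward (RelProj.emb p chart U hU)).obj (GrTwist.twist (𝒮.deg U hU) n)}
    (hL : RelProj.IsRelTwist 𝒮 p chart n L lam) : Coh.IsCoh L := by
  have hq : Coh.IsQCoh L := isQCoh_relTwist n hL
  haveI : L.IsQuasicoherent := hq
  refine ⟨hq, ?_⟩
  refine Groth.Agent.Lib.H90OXModAffineFT.isFiniteType_of_affine_cover L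
    (fun q : (Σ U : Y.affineOpens, {q : (𝒮.presheaf.obj (op U.1)) × ℕ // 0 < q.2 ∧ q.1 ∈ 𝒮.deg U.1 U.2 q.2}) =>
      RelProj.emb p chart q.1.1 q.1.2 ''ᵁ Proj.basicOpen (𝒮.deg q.1.1 q.1.2) q.2.1.1) ?_ ?_ ?_
  · rw [eq_top_iff]
    intro x _
    obtain ⟨U, hU, d, hd, f, hf, hx⟩ :=
      Groth.Agent.Lib.RelTwistInv.exists_mem_image_basicOpen (𝒮 := 𝒮) (p := p) (chart := chart) x
    exact TopologicalSpace.Opens.mem_iSup.mpr ⟨⟨⟨U, hU⟩, ⟨(f, d), hd, hf⟩⟩, hx⟩
  · rintro ⟨⟨U, hU⟩, ⟨⟨f, d⟩, hd, hf⟩⟩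
    exact (Proj.isAffineOpen_basicOpen (𝒮.deg U hU) f hf hd).image_of_isOpenImmersion (RelProj.emb p chart U hU)
  · rintro ⟨⟨U, hU⟩, ⟨⟨f, d⟩, hd, hf⟩⟩
    change Module.Finite Γ(P, RelProj.emb p chart U hU ''ᵁ Proj.basicOpen (𝒮.deg U hU) f)
      Γ(L, RelProj.emb p chart U hU ''ᵁ Proj.basicOpen (𝒮.deg U hU) f)
    haveI : IsNoetherianRing Γ(Y, U) := IsLocallyNoetherian.component_noetherian ⟨U, hU⟩
    haveI : IsNoetherianRing (𝒮.presheaf.obj (op U)) := by
      letI := (𝒮.str.app (op U)).hom.toAlgebra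
      haveI : Algebra.FiniteType Γ(Y, U) (𝒮.presheaf.obj (op U)) := hft U hU
      exact Algebra.FiniteType.isNoetherianRing Γ(Y, U) _
    have h1 : Module.Finite Γ(Proj (𝒮.deg U hU), Proj.basicOpen (𝒮.deg U hU) f)
        Γ(GrTwist.twist (𝒮.deg U hU) n, Proj.basicOpen (𝒮.deg U hU) f) :=
      finite_sections_twist (𝒮.deg U hU) n hf hd
    have he : RelProj.emb p chart U hU ⁻¹ᵁ (RelProj.emb p chart U hU ''ᵁ Proj.basicOpen (𝒮.deg U hU) f) =
        Proj.basicOpen (𝒮.deg U hU) f := (RelProj.emb p chart U hU).preimage_image_eq _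
    have h2 : Module.Finite
        Γ(Proj (𝒮.deg U hU), RelProj.emb p chart U hU ⁻¹ᵁ
          (RelProj.emb p chart U hU ''ᵁ Proj.basicOpen (𝒮.deg U hU) f))
        Γ(GrTwist.twist (𝒮.deg U hU) n, RelProj.emb p chart U hU ⁻¹ᵁ
          (RelProj.emb p chart U hU ''ᵁ Proj.basicOpen (𝒮.deg U hU) f)) := by
      rw [he]; exact h1
    have hW := image_emb_le (p := p) (chart := chart) U hU (Proj.basicOpen (𝒮.deg U hU) f)
    have hle : RelProj.emb p chart U hU ''ᵁ Proj.basicOpen (𝒮.deg U hU) f ≤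
        (RelProj.emb p chart U hU).opensRange := (RelProj.emb p chart U hU).image_le_opensRange _
    haveI := (RelProj.emb p chart U hU).isIso_app _ hle
    have h3 : Function.Bijective ((RelProj.emb p chart U hU).app
        (RelProj.emb p chart U hU ''ᵁ Proj.basicOpen (𝒮.deg U hU) f)).hom :=
      (ConcreteCategory.isIso_iff_bijective _).mp inferInstance
    let g : Γ(L, RelProj.emb p chart U hU ''ᵁ Proj.basicOpen (𝒮.deg U hU) f) →+
        Γ(GrTwist.twist (𝒮.deg U hU) n, RelProj.emb p chart U hU ⁻¹ᵁ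
          (RelProj.emb p chart U hU ''ᵁ Proj.basicOpen (𝒮.deg U hU) f)) :=
      ((lam U hU).app (RelProj.emb p chart U hU ''ᵁ Proj.basicOpen (𝒮.deg U hU) f)).hom
    exact finite_of_bijective_semilinear
      ((RelProj.emb p chart U hU).app (RelProj.emb p chart U hU ''ᵁ Proj.basicOpen (𝒮.deg U hU) f)).hom h3.2
      g (hL.bijective U hU _ hW) (fun r m => Scheme.Modules.Hom.app_smul (lam U hU) r m)

end Groth.Agent.Lib.RelTwistCoh
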