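import Groth.Agent.Lib.RelTwistZero

/-!
# `O_X(n)|U ⊗ O_X(-n)|U ≅ O_U` on a relative Proj, `U` quasi-compact, `n` sufficiently divisible (helper28)

* `restrictPairing j β`: restriction of a pairing along an open immersion.
* `exists_dual_restrict` (S8340).
-/

set_option autoImplicit false
universe u

open CategoryTheory CategoryTheory.Limits AlgebraicGeometry Opposite TopologicalSpace
open scoped HomogeneousIdeal

noncomputable section

namespace Groth.Agent.Lib.RelTwistDual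

open Groth.Agent.Lib.RelTildeGlue Groth.Agent.Lib.RelTildeVal2 Groth.Agent.Lib.RelTildeLocal
open Groth.Agent.Lib.H90Invertible Groth.Agent.Lib.H4TensorPair Groth.Agent.Lib.GrTwistMul
open Groth.Agent.Lib.RelTwistMul Groth.Agent.Lib.RelTwistZero Groth.Agent.Lib.RelTwistInv

/-- Restriction of a pairing along an open immersion. -/
def restrictPairing {X U : Scheme.{u}} (j : U ⟶ X) [IsOpenImmersion j] {L L' N : X.Modules} (β : Pairing L L' N) :
    Pairing (L.restrict j) (L'.restrict j) (N.restrict j) where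
  toFun W a b := β.toFun (j ''ᵁ W) a b
  add_left W a a' b := β.add_left (j ''ᵁ W) a a' b
  add_right W a b b' := β.add_right (j ''ᵁ W) a b b'
  smul_left W r a b := β.smul_left (j ''ᵁ W) ((j.appIso W).inv r) a b
  smul_right W r a b := β.smul_right (j ''ᵁ W) ((j.appIso W).inv r) a b
  map h a b := β.map (j.image_mono h) a b

variable {Y P : Scheme.{u}} {𝒮 : RelProj.QCGrAlg Y} {p : P ⟶ Y}
  {chart : ∀ (U : Y.Opens) (hU : IsAffineOpen U), (((p ⁻¹ᵁ U : P.Opens) : Scheme.{u}) ≅ Proj (𝒮.deg U hU))}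

/-- Over the image of `D₊(f)`, `f ∈ 𝒮(U)_d`, `n = a * d`: generators of `O_P(n)`, `O_P(-n)` whose product under a
multiplication pairing into `O_P` is a generator. -/
theorem exists_gens_pairing (hP : RelProj.IsRelProj 𝒮 p chart) {n : ℤ} {L L' : P.Modules}
    {lam : ∀ (U : Y.Opens) (hU : IsAffineOpen U),
      L ⟶ (Scheme.Modules.pushforward (RelProj.emb p chart U hU)).obj (GrTwist.twist (𝒮.deg U hU) n)}
    {lam' : ∀ (U : Y.Opens) (hU : IsAffineOpen U),
      L' ⟶ (Scheme.Modules.pushforward (RelProj.emb p chart U hU)).obj (GrTwist.twist (𝒮.deg U hU) (-n))}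
    (hL : RelProj.IsRelTwist 𝒮 p chart n L lam) (hL' : RelProj.IsRelTwist 𝒮 p chart (-n) L' lam')
    (β : Pairing L L' (Coh.structureModule P))
    (hβ : ∀ (U : Y.Opens) (hU : IsAffineOpen U) (W : P.Opens), W ≤ p ⁻¹ᵁ U →
      ∀ (s : Γ(L, W)) (s' : Γ(L', W)), (mu0 p chart U hU).app W (β.toFun W s s') =
        (τP (p := p) (chart := chart) n (-n) 0 (add_neg_cancel n) U hU).toFun W
          ((lam U hU).app W s) ((lam' U hU).app W s'))
    (U : Y.Opens) (hU : IsAffineOpen U) {f : 𝒮.presheaf.obj (op U)} {d : ℕ} (hfd : f ∈ 𝒮.deg U hU d)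
    (hn : (d : ℤ) ∣ n) :
    ∃ (s : Γ(L, RelProj.emb p chart U hU ''ᵁ Proj.basicOpen (𝒮.deg U hU) f))
      (s' : Γ(L', RelProj.emb p chart U hU ''ᵁ Proj.basicOpen (𝒮.deg U hU) f)),
      IsGen L _ s ∧ IsGen L' _ s' ∧ IsGen (Coh.structureModule P) _ (β.toFun _ s s') := by
  obtain ⟨a, rfl⟩ := hn
  have hW := image_emb_le (p := p) (chart := chart) U hU (Proj.basicOpen (𝒮.deg U hU) f)
  have hfW := notMem_of_mem_preimage_image (p := p) (chart := chart) U hU f
  obtain ⟨s, hs, hsg⟩ := exists_gen_section (a := a) hL U hU hfd (mul_comm _ _) hfW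
  obtain ⟨s', hs', hsg'⟩ := exists_gen_section (a := -a) hL' U hU hfd (by ring) hfW
  refine ⟨s, s', hsg, hsg', Groth.Agent.Lib.H60RelTwist.isGen_of_lamS (isRelTwist_structure hP) U hU _ hW _ ?_⟩
  unfold Groth.Agent.Lib.H60RelTwist.lamS
  rw [hβ U hU _ hW s s', hs, hs']
  change IsGen _ _ (mulSec (add_neg_cancel _) _ _)
  rw [mulSec_genAt hfd hfW a (-a) (add_neg_cancel _) _ _ (by simp)]
  exact isGen_genAt hfd hfW _ _ _

/-- For a quasi-compact open `W` of `P` there is `d > 0` such that `O_P(n)|W ⊗ O_P(-n)|W ≅ O_W` for every `n` divisible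
by `d` (S8340). -/
theorem exists_dual_restrict (hP : RelProj.IsRelProj 𝒮 p chart) (W : P.Opens) (hW : IsCompact (W : Set P)) :
    ∃ d : ℕ, 0 < d ∧ ∀ (n : ℤ), (d : ℤ) ∣ n →
      ∀ (L : P.Modules)
        (lam : ∀ (V : Y.Opens) (hV : IsAffineOpen V),
          L ⟶ (Scheme.Modules.pushforward (RelProj.emb p chart V hV)).obj (GrTwist.twist (𝒮.deg V hV) n)),
        RelProj.IsRelTwist 𝒮 p chart n L lam →
      ∀ (L' : P.Modules)
        (lam' : ∀ (V : Y.Opens) (hV : IsAffineOpen V),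
          L' ⟶ (Scheme.Modules.pushforward (RelProj.emb p chart V hV)).obj (GrTwist.twist (𝒮.deg V hV) (-n))),
        RelProj.IsRelTwist 𝒮 p chart (-n) L' lam' →
          Nonempty (CohB1.tensorMod (L.restrict W.ι) (L'.restrict W.ι) ≅ Coh.structureModule (W : Scheme.{u})) := by
  classical
  choose U hU d hd f hf hx using exists_mem_image_basicOpen (𝒮 := 𝒮) (p := p) (chart := chart)
  obtain ⟨t, ht⟩ := hW.elim_finite_subcover
    (fun x : P => ((RelProj.emb p chart (U x) (hU x) ''ᵁ Proj.basicOpen (𝒮.deg (U x) (hU x)) (f x) : P.Opens) : Set P))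
    (fun x => (RelProj.emb p chart (U x) (hU x) ''ᵁ Proj.basicOpen (𝒮.deg (U x) (hU x)) (f x) : P.Opens).2)
    (fun x _ => Set.mem_iUnion.2 ⟨x, hx x⟩)
  refine ⟨∏ x ∈ t, d x, Finset.prod_pos fun x _ => hd x, fun n hn L lam hL L' lam' hL' => ?_⟩
  obtain ⟨β, hβ⟩ := exists_mulPairing hP (add_neg_cancel n) hL hL' (isRelTwist_structure hP)
  obtain ⟨e2⟩ := (nonempty_restrict_ι_iso_iff (Coh.structureModule P) W).mpr ⟨_, isGen_one W⟩
  refine ⟨(restrictPairing W.ι β).iso ?_ ≪≫ e2⟩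
  intro y
  obtain ⟨x, hxt, hyx⟩ := Set.mem_iUnion₂.1 (ht y.2)
  have hdn : ((d x : ℕ) : ℤ) ∣ n :=
    (Int.natCast_dvd_natCast.mpr (Finset.dvd_prod_of_mem d hxt)).trans hn
  obtain ⟨s, s', hs, hs', hss⟩ := exists_gens_pairing hP hL hL' β hβ (U x) (hU x) (hf x) hdn
  have hle := W.ι.image_preimage_le
    (RelProj.emb p chart (U x) (hU x) ''ᵁ Proj.basicOpen (𝒮.deg (U x) (hU x)) (f x))
  refine ⟨W.ι ⁻¹ᵁ (RelProj.emb p chart (U x) (hU x) ''ᵁ Proj.basicOpen (𝒮.deg (U x) (hU x)) (f x)),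
    L.presheaf.map (homOfLE hle).op s, L'.presheaf.map (homOfLE hle).op s', hyx,
    (isGen_restrict_iff W.ι L _ _).mpr (hs.mono hle), (isGen_restrict_iff W.ι L' _ _).mpr (hs'.mono hle), ?_⟩
  refine (isGen_restrict_iff W.ι (Coh.structureModule P) _ _).mpr ?_
  change IsGen _ _ (β.toFun _ _ _)
  rw [← β.map hle s s']
  exact hss.mono hle

end Groth.Agent.Lib.RelTwistDual
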