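import Groth.Agent.Lib.RelGluePair
import Groth.Agent.Lib.GrTwistMul
import Groth.Agent.Lib.RelTwistInv
import Groth.Agent.Lib.H60RelTwist

/-!
# Multiplication of the twisting sheaves `O_P(m) × O_P(n) → O_P(m + n)` on a relative Proj (helper28)

* `pushPairing f β`: direct image of a pairing.
* `relP_basicOpen`: the relation "`t = s · s'`" read over `U` implies the one read over `D(r)`.
* `exists_mulPairing`: the multiplication pairing `O_P(m) × O_P(n) → O_P(k)`, `k = m + n`.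
* `nonempty_tensor_iso` (S8336): `O_P(m) ⊗ O_P(n) ≅ O_P(m + n)` if `𝒮` is generated by `𝒮_1`.
-/

set_option autoImplicit false
universe u

open CategoryTheory CategoryTheory.Limits AlgebraicGeometry Opposite TopologicalSpace
open scoped HomogeneousIdeal

noncomputable section

namespace Groth.Agent.Lib.RelTwistMul

open Groth.Agent.Lib.RelTildeGlue Groth.Agent.Lib.RelTildeVal2 Groth.Agent.Lib.RelTildeLocal
open Groth.Agent.Lib.H90Invertible Groth.Agent.Lib.H4TensorPair Groth.Agent.Lib.GrTwistMul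
open Groth.Agent.Lib.RelGluePair

/-- Direct image of a pairing. -/
def pushPairing {X Z : Scheme.{u}} (f : Z ⟶ X) {M M' M'' : Z.Modules} (β : Pairing M M' M'') :
    Pairing ((Scheme.Modules.pushforward f).obj M) ((Scheme.Modules.pushforward f).obj M')
      ((Scheme.Modules.pushforward f).obj M'') where
  toFun W a b := β.toFun (f ⁻¹ᵁ W) a b
  add_left W a a' b := β.add_left (f ⁻¹ᵁ W) a a' b
  add_right W a b b' := β.add_right (f ⁻¹ᵁ W) a b b'
  smul_left W r a b := β.smul_left (f ⁻¹ᵁ W) (f.app W r) a b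
  smul_right W r a b := β.smul_right (f ⁻¹ᵁ W) (f.app W r) a b
  map h a b := β.map (f.preimage_mono h) a b

variable {Y P : Scheme.{u}} {𝒮 : RelProj.QCGrAlg Y} {p : P ⟶ Y}
  {chart : ∀ (U : Y.Opens) (hU : IsAffineOpen U), (((p ⁻¹ᵁ U : P.Opens) : Scheme.{u}) ≅ Proj (𝒮.deg U hU))}

/-- The chartwise multiplication pairing. -/
abbrev τP (m n k : ℤ) (h : m + n = k) (U : Y.Opens) (hU : IsAffineOpen U) :
    Pairing ((Scheme.Modules.pushforward (RelProj.emb p chart U hU)).obj (GrTwist.twist (𝒮.deg U hU) m))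
      ((Scheme.Modules.pushforward (RelProj.emb p chart U hU)).obj (GrTwist.twist (𝒮.deg U hU) n))
      ((Scheme.Modules.pushforward (RelProj.emb p chart U hU)).obj (GrTwist.twist (𝒮.deg U hU) k)) :=
  pushPairing (RelProj.emb p chart U hU) (mulPairing (𝒮.deg U hU) m n k h)

variable {m n k : ℤ} {L L' L'' : P.Modules}
  {lam : ∀ (U : Y.Opens) (hU : IsAffineOpen U),
    L ⟶ (Scheme.Modules.pushforward (RelProj.emb p chart U hU)).obj (GrTwist.twist (𝒮.deg U hU) m)}
  {lam' : ∀ (U : Y.Opens) (hU : IsAffineOpen U),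
    L' ⟶ (Scheme.Modules.pushforward (RelProj.emb p chart U hU)).obj (GrTwist.twist (𝒮.deg U hU) n)}
  {lam'' : ∀ (U : Y.Opens) (hU : IsAffineOpen U),
    L'' ⟶ (Scheme.Modules.pushforward (RelProj.emb p chart U hU)).obj (GrTwist.twist (𝒮.deg U hU) k)}

/-- The relation "`t = s · s'`" read in the chart over `U` implies the one read over `D(r)`. -/
theorem relP_basicOpen (hP : RelProj.IsRelProj 𝒮 p chart) (h : m + n = k)
    (hL : RelProj.IsRelTwist 𝒮 p chart m L lam) (hL' : RelProj.IsRelTwist 𝒮 p chart n L' lam')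
    (hL'' : RelProj.IsRelTwist 𝒮 p chart k L'' lam'')
    (U : Y.Opens) (hU : IsAffineOpen U) (r : Γ(Y, U)) (W : P.Opens) (s : Γ(L, W)) (s' : Γ(L', W)) (t : Γ(L'', W))
    (hst : (lam'' U hU).app W t =
      (τP (p := p) (chart := chart) m n k h U hU).toFun W ((lam U hU).app W s) ((lam' U hU).app W s')) :
    (lam'' (Y.basicOpen r) (hU.basicOpen r)).app W t =
      (τP (p := p) (chart := chart) m n k h (Y.basicOpen r) (hU.basicOpen r)).toFun W
        ((lam (Y.basicOpen r) (hU.basicOpen r)).app W s) ((lam' (Y.basicOpen r) (hU.basicOpen r)).app W s') := by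
  refine Groth.Agent.Lib.GrTwistTilde.sec_ext
    (U := RelProj.emb p chart (Y.basicOpen r) (hU.basicOpen r) ⁻¹ᵁ W) fun y => ?_
  have hy' := mem_of_mem hP U hU r W y.1 y.2
  have h1 := hL''.compat U hU r W t y.1 y.2 hy'
  have h2 := hL.compat U hU r W s y.1 y.2 hy'
  have h3 := hL'.compat U hU r W s' y.1 y.2 hy'
  refine h1.trans ?_
  rw [hst]
  change GrTwist.locMap _ _ _ (_ * _) = _ * _
  rw [map_mul]
  exact congrArg₂ (· * ·) h2.symm h3.symm

/-- The multiplication pairing `O_P(m) × O_P(n) → O_P(k)`, `k = m + n`, on a relative Proj. -/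
theorem exists_mulPairing (hP : RelProj.IsRelProj 𝒮 p chart) (h : m + n = k)
    (hL : RelProj.IsRelTwist 𝒮 p chart m L lam) (hL' : RelProj.IsRelTwist 𝒮 p chart n L' lam')
    (hL'' : RelProj.IsRelTwist 𝒮 p chart k L'' lam'') :
    ∃ β : Pairing L L' L'', ∀ (U : Y.Opens) (hU : IsAffineOpen U) (W : P.Opens), W ≤ p ⁻¹ᵁ U →
      ∀ (s : Γ(L, W)) (s' : Γ(L', W)), (lam'' U hU).app W (β.toFun W s s') =
        (τP (p := p) (chart := chart) m n k h U hU).toFun W ((lam U hU).app W s) ((lam' U hU).app W s') := by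
  have key := RelGluePair.exists_pairing (X := P) (L := L) (L' := L') (N := L'') (ι := Y.affineOpens)
    (fun i => p ⁻¹ᵁ i.1) (fun i => lam i.1 i.2) (fun i => lam' i.1 i.2) (fun i => lam'' i.1 i.2)
    (fun i => τP (p := p) (chart := chart) m n k h i.1 i.2) ?_ ?_ ?_
  · obtain ⟨β, hβ⟩ := key
    exact ⟨β, fun U hU W hW s s' => hβ ⟨U, hU⟩ W hW s s'⟩
  · intro x
    obtain ⟨W, hW, hxW, -⟩ := exists_isAffineOpen_mem_and_subset (x := p.base x) (U := ⊤) trivial
    exact ⟨⟨W, hW⟩, hxW⟩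
  · intro i W hW
    exact hL''.bijective i.1 i.2 W hW
  · rintro ⟨U₁, h₁⟩ ⟨U₂, h₂⟩ x hx₁ hx₂
    obtain ⟨f, g, hfg, hxf⟩ := exists_basicOpen_le_affine_inter h₁ h₂ (p.base x) ⟨hx₁, hx₂⟩
    refine ⟨⟨Y.basicOpen f, h₁.basicOpen f⟩, hxf, p.preimage_mono (Y.basicOpen_le f),
      p.preimage_mono (hfg.trans_le (Y.basicOpen_le g)), ?_, ?_⟩
    · intro W _ s s' t hst
      exact relP_basicOpen hP h hL hL' hL'' U₁ h₁ f W s s' t hst
    · intro W _ s s' t hst
      have key : ∀ (U' : Y.Opens) (hU' : IsAffineOpen U') (_ : Y.basicOpen g = U'),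
          (lam'' U' hU').app W t =
            (τP (p := p) (chart := chart) m n k h U' hU').toFun W ((lam U' hU').app W s)
              ((lam' U' hU').app W s') := by
        intro U' hU' e
        subst e
        exact relP_basicOpen hP h hL hL' hL'' U₂ h₂ g W s s' t hst
      exact key _ (h₁.basicOpen f) hfg.symm

/-- A section of `L` over the image of `D₊(f)`, `f ∈ 𝒮(U)_d`, corresponding to `f ^ a` in the chart over `U`. -/
theorem exists_gen_section {a : ℤ} (hL : RelProj.IsRelTwist 𝒮 p chart m L lam) (U : Y.Opens) (hU : IsAffineOpen U)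
    {f : 𝒮.presheaf.obj (op U)} {d : ℕ} (hfd : f ∈ 𝒮.deg U hU d) (hm : m = a * d)
    (hfW : ∀ z : (RelProj.emb p chart U hU ⁻¹ᵁ
      (RelProj.emb p chart U hU ''ᵁ Proj.basicOpen (𝒮.deg U hU) f) : (Proj (𝒮.deg U hU)).Opens),
      f ∉ z.1.asHomogeneousIdeal) :
    ∃ s : Γ(L, RelProj.emb p chart U hU ''ᵁ Proj.basicOpen (𝒮.deg U hU) f),
      (lam U hU).app _ s = genAt hfd hfW a m hm ∧
        IsGen L (RelProj.emb p chart U hU ''ᵁ Proj.basicOpen (𝒮.deg U hU) f) s := by
  have hW := image_emb_le (p := p) (chart := chart) U hU (Proj.basicOpen (𝒮.deg U hU) f)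
  obtain ⟨s, hs⟩ := (hL.bijective U hU _ hW).2 (genAt hfd hfW a m hm)
  refine ⟨s, hs, Groth.Agent.Lib.H60RelTwist.isGen_of_lamS hL U hU _ hW s ?_⟩
  unfold Groth.Agent.Lib.H60RelTwist.lamS
  rw [hs]
  exact isGen_genAt hfd hfW a m hm

theorem notMem_of_mem_preimage_image (U : Y.Opens) (hU : IsAffineOpen U) (f : 𝒮.presheaf.obj (op U))
    (z : (RelProj.emb p chart U hU ⁻¹ᵁ
      (RelProj.emb p chart U hU ''ᵁ Proj.basicOpen (𝒮.deg U hU) f) : (Proj (𝒮.deg U hU)).Opens)) :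
    f ∉ z.1.asHomogeneousIdeal := by
  obtain ⟨z, hz⟩ := z
  rw [(RelProj.emb p chart U hU).preimage_image_eq] at hz
  exact (Proj.mem_basicOpen (𝒮.deg U hU) f z).mp hz

/-- If `𝒮` is generated by `𝒮_1`, then `O_P(m) ⊗ O_P(n) ≅ O_P(m + n)` (S8336). -/
theorem nonempty_tensor_iso (hP : RelProj.IsRelProj 𝒮 p chart) (hgen : 𝒮.IsGenDegOne) (h : m + n = k)
    (hL : RelProj.IsRelTwist 𝒮 p chart m L lam) (hL' : RelProj.IsRelTwist 𝒮 p chart n L' lam')
    (hL'' : RelProj.IsRelTwist 𝒮 p chart k L'' lam'') : Nonempty (CohB1.tensorMod L L' ≅ L'') := by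
  obtain ⟨β, hβ⟩ := exists_mulPairing hP h hL hL' hL''
  refine ⟨β.iso ?_⟩
  intro x
  obtain ⟨U, hU, hxU, -⟩ := exists_isAffineOpen_mem_and_subset (x := p.base x) (U := ⊤) trivial
  obtain ⟨y, rfl⟩ := exists_emb_eq (p := p) (chart := chart) U hU hxU
  obtain ⟨f, hf, hfy⟩ := Groth.Agent.Lib.RelTwistInv.exists_degree_one_notMem_of_closure
    (𝒜 := 𝒮.deg U hU) (hgen U hU) y
  have hW := image_emb_le (p := p) (chart := chart) U hU (Proj.basicOpen (𝒮.deg U hU) f)
  have hfW := notMem_of_mem_preimage_image (p := p) (chart := chart) U hU f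
  obtain ⟨s, hs, hsg⟩ := exists_gen_section (a := m) hL U hU hf (by simp) hfW
  obtain ⟨s', hs', hsg'⟩ := exists_gen_section (a := n) hL' U hU hf (by simp) hfW
  refine ⟨_, s, s', ?_, hsg, hsg', Groth.Agent.Lib.H60RelTwist.isGen_of_lamS hL'' U hU _ hW _ ?_⟩
  · exact Set.mem_image_of_mem _ ((Proj.mem_basicOpen (𝒮.deg U hU) _ _).mpr hfy)
  · unfold Groth.Agent.Lib.H60RelTwist.lamS
    rw [hβ U hU _ hW s s', hs, hs']
    change IsGen _ _ (mulSec h _ _)
    rw [mulSec_genAt hf hfW m n h _ _ (by rw [← h]; simp)]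
    exact isGen_genAt hf hfW _ _ _

end Groth.Agent.Lib.RelTwistMul
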