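import Mathlib

/-!
# Counting pairs (quadratic, degree n) with nonvanishing resultant over a finite field
(helper75, for S18925 / S18924)
-/

set_option autoImplicit false
set_option linter.unusedSimpArgs false
set_option linter.unusedSectionVars false
set_option linter.unusedVariables false
open Polynomial

namespace Groth.Agent.Lib.ResCount75

section polys

variable {F : Type*} [Field F]

/-- the polynomial with coefficient vector `a`. -/
noncomputable def poly {k : ℕ} (a : Fin k → F) : F[X] := ∑ i : Fin k, C (a i) * X ^ (i : ℕ)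

theorem coeff_poly {k : ℕ} (a : Fin k → F) (j : ℕ) :
    (poly a).coeff j = if h : j < k then a ⟨j, h⟩ else 0 := by
  unfold poly
  rw [finsetSum_coeff]
  simp only [coeff_C_mul, coeff_X_pow]
  split_ifs with h
  · rw [Finset.sum_eq_single ⟨j, h⟩]
    · simp
    · intro b _ hb
      have : j ≠ (b : ℕ) := fun e => hb (Fin.ext e.symm)
      simp [this]
    · simp
  · apply Finset.sum_eq_zero
    intro b _
    have : j ≠ (b : ℕ) := fun e => h (e ▸ b.2)
    simp [this]

theorem coeff_poly_fin {k : ℕ} (a : Fin k → F) (j : Fin k) : (poly a).coeff j = a j := by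
  rw [coeff_poly, dif_pos j.2]

theorem natDegree_poly_le {k : ℕ} (a : Fin (k + 1) → F) : (poly a).natDegree ≤ k := by
  rw [natDegree_le_iff_coeff_eq_zero]
  intro N hN
  rw [coeff_poly, dif_neg (by omega)]

theorem poly_add {k : ℕ} (a b : Fin k → F) : poly (a + b) = poly a + poly b := by
  unfold poly
  rw [← Finset.sum_add_distrib]
  refine Finset.sum_congr rfl fun i _ => ?_
  simp [add_mul]

theorem poly_smul {k : ℕ} (c : F) (a : Fin k → F) : poly (c • a) = C c * poly a := by
  unfold poly
  rw [Finset.mul_sum]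
  refine Finset.sum_congr rfl fun i _ => ?_
  simp [mul_assoc]

theorem poly_coeff_eq {k : ℕ} (p : F[X]) (hp : p.natDegree < k) :
    poly (fun i : Fin k => p.coeff i) = p := by
  ext j
  rw [coeff_poly]
  split_ifs with h
  · rfl
  · exact (coeff_eq_zero_of_natDegree_lt (by omega)).symm

theorem eval_poly {k : ℕ} (a : Fin k → F) (β : F) :
    eval β (poly a) = ∑ i : Fin k, a i * β ^ (i : ℕ) := by
  unfold poly
  rw [eval_finsetSum]
  simp

/-- `poly` as a linear map. -/
noncomputable def polyL (k : ℕ) : (Fin k → F) →ₗ[F] F[X] where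
  toFun := poly
  map_add' := poly_add
  map_smul' c a := by rw [poly_smul, RingHom.id_apply, smul_eq_C_mul]

theorem poly_two (r : Fin 2 → F) : poly r = C (r 0) + C (r 1) * X := by
  unfold poly
  rw [Fin.sum_univ_two]
  simp

theorem poly_three (a : Fin 3 → F) : poly a = C (a 0) + C (a 1) * X + C (a 2) * X ^ 2 := by
  unfold poly
  rw [Fin.sum_univ_three]
  simp

/-- explicit `3 × 3` resultant. -/
theorem resultant_two_one (f : F[X]) (hf : f.natDegree ≤ 2) (r : Fin 2 → F) :
    resultant f (poly r) 2 1 =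
      f.coeff 2 * r 0 ^ 2 - f.coeff 1 * r 0 * r 1 + f.coeff 0 * r 1 ^ 2 := by
  rw [poly_two]
  by_cases h1 : r 1 = 0
  · rw [h1]
    have : (C (r 0) + C 0 * X : F[X]) = C (r 0) := by simp
    rw [this, resultant_C_right]
    ring
  · have e : (C (r 0) + C (r 1) * X : F[X]) = C (r 1) * (X + C (r 0 / r 1)) := by
      rw [mul_add, ← C_mul, mul_div_cancel₀ _ h1, add_comm]
    rw [e, resultant_C_mul_right, resultant_X_add_C_right _ _ _ hf]
    rw [eval_eq_sum_range' (n := 3) (by omega)]
    simp [Finset.sum_range_succ]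
    field_simp
    ring

/-- Case `a 2 = 0`, `a 1 = 0`. -/
theorem resultant_caseC {n : ℕ} (a : Fin 3 → F) (h2 : a 2 = 0) (h1 : a 1 = 0) (g : F[X]) :
    resultant (poly a) g 2 n = g.coeff n ^ 2 * a 0 ^ n := by
  have : poly a = C (a 0) := by rw [poly_three, h1, h2]; simp
  rw [this, resultant_C_left]
  rw [pow_mul]
  simp

/-- Case `a 2 = 0`, `a 1 ≠ 0`. -/
theorem resultant_caseB {n : ℕ} (a : Fin 3 → F) (h2 : a 2 = 0) (h1 : a 1 ≠ 0) (g : F[X])
    (hg : g.natDegree ≤ n) :
    resultant (poly a) g 2 n = (-1) ^ n * g.coeff n * (a 1 ^ n * eval (-(a 0 / a 1)) g) := by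
  have e : poly a = C (a 1) * (X + C (a 0 / a 1)) := by
    rw [poly_three, h2, mul_add, ← C_mul, mul_div_cancel₀ _ h1]
    simp [add_comm]
  have hdeg : (poly a).natDegree ≤ 1 := by
    rw [e]
    refine (natDegree_C_mul_le _ _).trans ?_
    exact (natDegree_X_add_C _).le
  rw [resultant_succ_left_deg _ _ _ _ hdeg, e, resultant_C_mul_left, resultant_X_add_C_left _ _ _ hg]

/-- Case `a 2 ≠ 0`: reduction modulo `f`. -/
theorem resultant_caseA {n : ℕ} (hn : 1 ≤ n) (a : Fin 3 → F) (h2 : a 2 ≠ 0) (g : F[X])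
    (hg : g.natDegree ≤ n) :
    resultant (poly a) g 2 n =
      a 2 ^ (n - 1) * resultant (poly a) (g %ₘ (C (a 2)⁻¹ * poly a)) 2 1 := by
  have hdeg : (poly a).natDegree ≤ 2 := natDegree_poly_le a
  have hdeg2 : (poly a).natDegree = 2 := by
    apply le_antisymm hdeg
    apply le_natDegree_of_ne_zero
    have := coeff_poly_fin a 2
    simp only [Fin.isValue, Fin.val_two] at this
    rw [this]; exact h2
  have hlead : (poly a).leadingCoeff = a 2 := by
    rw [leadingCoeff, hdeg2]
    exact coeff_poly_fin a 2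
  have hne : poly a ≠ 0 := by
    intro h; rw [h] at hdeg2; simp at hdeg2
  have hmonic : (C (a 2)⁻¹ * poly a).Monic := by
    rw [Monic, leadingCoeff_mul, leadingCoeff_C, hlead, inv_mul_cancel₀ h2]
  have hdeg1 : (C (a 2)⁻¹ * poly a).natDegree = 2 := by
    rw [natDegree_C_mul (inv_ne_zero h2), hdeg2]
  set f₁ := C (a 2)⁻¹ * poly a with hf₁
  have hdecomp : g = g %ₘ f₁ + poly a * (C (a 2)⁻¹ * (g /ₘ f₁)) := by
    conv_lhs => rw [← modByMonic_add_div g f₁]
    rw [hf₁]; ring
  have hp : (C (a 2)⁻¹ * (g /ₘ f₁)).natDegree + 2 ≤ n ∨ g /ₘ f₁ = 0 := by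
    by_cases h0 : g /ₘ f₁ = 0
    · exact Or.inr h0
    · left
      have h3 : (g /ₘ f₁).natDegree = g.natDegree - 2 := by
        rw [natDegree_divByMonic g hmonic, hdeg1]
      have h4 : 2 ≤ g.natDegree := by
        by_contra hlt
        apply h0
        rw [divByMonic_eq_zero_iff hmonic]
        rw [degree_eq_natDegree hmonic.ne_zero, hdeg1]
        exact lt_of_le_of_lt degree_le_natDegree (by exact_mod_cast not_le.mp hlt)
      have := natDegree_C_mul_le (a 2)⁻¹ (g /ₘ f₁)
      omega
  have hr : (g %ₘ f₁).natDegree ≤ 1 := by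
    have := natDegree_modByMonic_lt g hmonic (by
      intro h1; rw [h1] at hdeg1; simp at hdeg1)
    omega
  have step1 : resultant (poly a) g 2 n = resultant (poly a) (g %ₘ f₁) 2 n := by
    rcases hp with hp | hp
    · conv_lhs => rw [hdecomp]
      exact resultant_add_mul_right _ _ _ _ _ hp hdeg
    · conv_lhs => rw [hdecomp, hp, mul_zero, mul_zero, add_zero]
  rw [step1]
  obtain ⟨k, rfl⟩ : ∃ k, n = 1 + k := ⟨n - 1, by omega⟩
  rw [resultant_add_right_deg _ _ _ _ _ hr]
  have : (poly a).coeff 2 = a 2 := coeff_poly_fin a 2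
  rw [this]
  simp


end polys

section tools

variable {F : Type*} [Field F] [Fintype F] [DecidableEq F]

theorem card_pi_mem {ι : Type*} [Fintype ι] [DecidableEq ι] (t : ι → Finset F) :
    Nat.card {b : ι → F // ∀ i, b i ∈ t i} = ∏ i, (t i).card := by
  classical
  rw [Nat.card_eq_fintype_card, ← Fintype.card_piFinset, Fintype.card_subtype]
  congr 1
  ext b
  simp [Fintype.mem_piFinset]

theorem card_erase_zero : (Finset.univ.erase (0 : F)).card = Fintype.card F - 1 := by
  rw [Finset.card_erase_of_mem (Finset.mem_univ _), Finset.card_univ]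

theorem card3_B : Nat.card {a : Fin 3 → F // a 2 = 0 ∧ a 1 ≠ 0} =
    Fintype.card F * (Fintype.card F - 1) := by
  have := card_pi_mem (F := F) (ι := Fin 3) ![Finset.univ, Finset.univ.erase 0, {0}]
  rw [Fin.prod_univ_three] at this
  simp only [Matrix.cons_val_zero, Matrix.cons_val_one, Matrix.cons_val_two, Matrix.head_cons,
    Matrix.tail_cons, Finset.card_univ, card_erase_zero, Finset.card_singleton, mul_one] at this
  rw [← this]
  refine Nat.card_congr (Equiv.subtypeEquivRight fun a => ?_)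
  simp [Fin.forall_fin_succ, and_comm]

theorem card3_C : Nat.card {a : Fin 3 → F // a 2 = 0 ∧ a 1 = 0 ∧ a 0 ≠ 0} =
    (Fintype.card F - 1) := by
  have := card_pi_mem (F := F) (ι := Fin 3) ![Finset.univ.erase 0, {0}, {0}]
  rw [Fin.prod_univ_three] at this
  simp only [Matrix.cons_val_zero, Matrix.cons_val_one, Matrix.cons_val_two, Matrix.head_cons,
    Matrix.tail_cons, Finset.card_univ, card_erase_zero, Finset.card_singleton, mul_one] at this
  rw [← this]
  refine Nat.card_congr (Equiv.subtypeEquivRight fun a => ?_)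
  simp [Fin.forall_fin_succ]
  tauto

theorem card3_20 : Nat.card {a : Fin 3 → F // a 2 ≠ 0 ∧ a 0 ≠ 0} =
    (Fintype.card F - 1) ^ 2 * Fintype.card F := by
  have := card_pi_mem (F := F) (ι := Fin 3) ![Finset.univ.erase 0, Finset.univ, Finset.univ.erase 0]
  rw [Fin.prod_univ_three] at this
  simp only [Matrix.cons_val_zero, Matrix.cons_val_one, Matrix.cons_val_two, Matrix.head_cons,
    Matrix.tail_cons, Finset.card_univ, card_erase_zero, Finset.card_singleton, mul_one] at this
  rw [show (Fintype.card F - 1) ^ 2 * Fintype.card F =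
    (Fintype.card F - 1) * Fintype.card F * (Fintype.card F - 1) by ring, ← this]
  refine Nat.card_congr (Equiv.subtypeEquivRight fun a => ?_)
  simp [Fin.forall_fin_succ]
  tauto

theorem card3_2 : Nat.card {a : Fin 3 → F // a 2 ≠ 0} =
    (Fintype.card F - 1) * Fintype.card F ^ 2 := by
  have := card_pi_mem (F := F) (ι := Fin 3) ![Finset.univ, Finset.univ, Finset.univ.erase 0]
  rw [Fin.prod_univ_three] at this
  simp only [Matrix.cons_val_zero, Matrix.cons_val_one, Matrix.cons_val_two, Matrix.head_cons,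
    Matrix.tail_cons, Finset.card_univ, card_erase_zero, Finset.card_singleton, mul_one] at this
  rw [show (Fintype.card F - 1) * Fintype.card F ^ 2 =
    Fintype.card F * Fintype.card F * (Fintype.card F - 1) by ring, ← this]
  refine Nat.card_congr (Equiv.subtypeEquivRight fun a => ?_)
  simp [Fin.forall_fin_succ]

theorem card2_1 : Nat.card {r : Fin 2 → F // r 1 ≠ 0} =
    Fintype.card F * (Fintype.card F - 1) := by
  have := card_pi_mem (F := F) (ι := Fin 2) ![Finset.univ, Finset.univ.erase 0]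
  rw [Fin.prod_univ_two] at this
  simp only [Matrix.cons_val_zero, Matrix.cons_val_one, Matrix.head_cons,
    Finset.card_univ, card_erase_zero] at this
  rw [← this]
  refine Nat.card_congr (Equiv.subtypeEquivRight fun a => ?_)
  simp [Fin.forall_fin_succ]

theorem card2_0 : Nat.card {r : Fin 2 → F // r 1 = 0 ∧ r 0 ≠ 0} =
    (Fintype.card F - 1) := by
  have := card_pi_mem (F := F) (ι := Fin 2) ![Finset.univ.erase 0, {0}]
  rw [Fin.prod_univ_two] at this
  simp only [Matrix.cons_val_zero, Matrix.cons_val_one, Matrix.head_cons,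
    Finset.card_univ, card_erase_zero, Finset.card_singleton, mul_one] at this
  rw [← this]
  refine Nat.card_congr (Equiv.subtypeEquivRight fun a => ?_)
  simp [Fin.forall_fin_succ, and_comm]

theorem sum_ite_card {α : Type*} [Fintype α] (P : α → Prop) [DecidablePred P] (K : ℕ) :
    ∑ a : α, (if P a then K else 0) = Nat.card {a // P a} * K := by
  rw [Finset.sum_ite, Finset.sum_const_zero, add_zero, Finset.sum_const, smul_eq_mul,
    Nat.card_eq_fintype_card, Fintype.card_subtype]

/-- counting functions with prescribed nonvanishing coordinates. -/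
theorem card_pi_ne_zero {ι : Type*} [Fintype ι] [DecidableEq ι] (S : Finset ι) :
    Nat.card {b : ι → F // ∀ i ∈ S, b i ≠ 0} =
      (Fintype.card F - 1) ^ S.card * Fintype.card F ^ (Fintype.card ι - S.card) := by
  classical
  have h : Nat.card {b : ι → F // ∀ i ∈ S, b i ≠ 0} =
      Nat.card {b : ι → F // ∀ i, b i ∈
        (fun i => if i ∈ S then (Finset.univ.erase (0 : F)) else Finset.univ) i} := by
    refine Nat.card_congr (Equiv.subtypeEquivRight fun b => ?_)
    constructor
    · intro hb i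
      show b i ∈ if i ∈ S then _ else _
      split_ifs with hi
      · simp [hb i hi]
      · simp
    · intro hb i hi
      have := hb i
      simp only [if_pos hi] at this
      simpa using this
  rw [h, card_pi_mem]
  have : ∀ i, (if i ∈ S then (Finset.univ.erase (0 : F)) else Finset.univ).card =
      if i ∈ S then Fintype.card F - 1 else Fintype.card F := by
    intro i
    split_ifs
    · rw [card_erase_zero]
    · rw [Finset.card_univ]
  simp only [this]
  rw [Finset.prod_ite, Finset.prod_const, Finset.prod_const]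
  congr 2
  · congr 1
    ext i
    simp
  · rw [Finset.filter_not, Finset.card_sdiff_of_subset (Finset.filter_subset _ _), Finset.card_univ]
    congr 2
    ext i
    simp

theorem card_subtype_sum {A B : Type*} [Fintype A] [Fintype B] (P : A → B → Prop) :
    Nat.card {p : A × B // P p.1 p.2} = ∑ a : A, Nat.card {b : B // P a b} := by
  classical
  simp only [Nat.card_eq_fintype_card]
  rw [← Fintype.card_sigma]
  refine Fintype.card_congr ⟨fun p => ⟨p.1.1, p.1.2, p.2⟩, fun s => ⟨(s.1, s.2.1), s.2.2⟩, ?_, ?_⟩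
  · intro p; rfl
  · intro s; rfl

/-- fibres of a surjective linear map all have the same size. -/
theorem card_preimage_linear {V W : Type*} [AddCommGroup V] [Module F V] [AddCommGroup W]
    [Module F W] [Fintype V] [Fintype W] (ρ : V →ₗ[F] W) (hρ : Function.Surjective ρ)
    (Q : W → Prop) [DecidablePred Q] :
    Fintype.card {v : V // Q (ρ v)} * Fintype.card W = Fintype.card V * Fintype.card {w : W // Q w} := by
  classical
  obtain ⟨s, hs⟩ := ρ.exists_rightInverse_of_surjective (LinearMap.range_eq_top.mpr hρ)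
  have hs' : ∀ w, ρ (s w) = w := fun w => LinearMap.congr_fun hs w
  let e : V ≃ W × LinearMap.ker ρ :=
    { toFun := fun v => (ρ v, ⟨v - s (ρ v), by simp [hs']⟩)
      invFun := fun p => s p.1 + p.2.1
      left_inv := fun v => by simp
      right_inv := fun p => by
        obtain ⟨w, ⟨k, hk⟩⟩ := p
        have hk' : ρ k = 0 := hk
        simp [hs', hk'] }
  have hV : Fintype.card V = Fintype.card W * Fintype.card (LinearMap.ker ρ) := by
    rw [Fintype.card_congr e, Fintype.card_prod]
  let e2 : {v : V // Q (ρ v)} ≃ {w : W // Q w} × LinearMap.ker ρ :=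
    { toFun := fun v => (⟨ρ v.1, v.2⟩, (e v.1).2)
      invFun := fun p => ⟨e.symm (p.1.1, p.2), by
        have : ρ (e.symm (p.1.1, p.2)) = p.1.1 := by
          have := congrArg Prod.fst (e.apply_symm_apply (p.1.1, p.2))
          exact this
        rw [this]; exact p.1.2⟩
      left_inv := fun v => by
        apply Subtype.ext
        show e.symm (ρ v.1, (e v.1).2) = v.1
        have : (ρ v.1, (e v.1).2) = e v.1 := rfl
        rw [this, e.symm_apply_apply]
      right_inv := fun p => by
        obtain ⟨⟨w, hw⟩, k⟩ := p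
        have h1 := e.apply_symm_apply (w, k)
        apply Prod.ext
        · apply Subtype.ext
          exact congrArg Prod.fst h1
        · show (e (e.symm (w, k))).2 = k
          rw [h1] }
  rw [Fintype.card_congr e2, Fintype.card_prod, hV]
  ring


/-- shear bijection in the coordinate `i0`. -/
noncomputable def shear {ι : Type*} [DecidableEq ι] (i0 : ι) (c : F) (hc : c ≠ 0)
    (ψ : (ι → F) → F) (hψ : ∀ b x, ψ (Function.update b i0 x) = ψ b) : (ι → F) ≃ (ι → F) where
  toFun b := Function.update b i0 (c * b i0 + ψ b)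
  invFun b := Function.update b i0 (c⁻¹ * (b i0 - ψ b))
  left_inv b := by
    simp only [Function.update_self, hψ, Function.update_idem]
    rw [add_sub_cancel_right, inv_mul_cancel_left₀ hc, Function.update_eq_self]
  right_inv b := by
    simp only [Function.update_self, hψ, Function.update_idem]
    rw [mul_inv_cancel_left₀ hc, sub_add_cancel, Function.update_eq_self]


end tools


section counts

variable {F : Type*} [Field F] [Fintype F] [DecidableEq F] {n : ℕ}

theorem coeff_poly_last (b : Fin (n + 1) → F) : (poly b).coeff n = b (Fin.last n) := by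
  have := coeff_poly_fin b (Fin.last n)
  simpa using this

theorem count_caseD (hn : 1 ≤ n) (a : Fin 3 → F) (h2 : a 2 = 0) (h1 : a 1 = 0) (h0 : a 0 = 0) :
    Nat.card {b : Fin (n + 1) → F // resultant (poly a) (poly b) 2 n ≠ 0} = 0 := by
  have : ∀ b : Fin (n + 1) → F, resultant (poly a) (poly b) 2 n = 0 := by
    intro b
    rw [resultant_caseC a h2 h1, h0, zero_pow (by omega), mul_zero]
  simp only [this, ne_eq, not_true_eq_false]
  rw [Nat.card_eq_zero]
  left
  exact ⟨fun x => x.2⟩

theorem count_caseC (hn : 1 ≤ n) (a : Fin 3 → F) (h2 : a 2 = 0) (h1 : a 1 = 0) (h0 : a 0 ≠ 0) :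
    Nat.card {b : Fin (n + 1) → F // resultant (poly a) (poly b) 2 n ≠ 0} =
      (Fintype.card F - 1) * Fintype.card F ^ n := by
  have h := card_pi_ne_zero (F := F) ({Fin.last n} : Finset (Fin (n + 1)))
  simp only [Finset.card_singleton, pow_one, Fintype.card_fin, Nat.add_sub_cancel] at h
  rw [← h]
  refine Nat.card_congr (Equiv.subtypeEquivRight fun b => ?_)
  rw [resultant_caseC a h2 h1, coeff_poly_last]
  simp [h0]

theorem count_caseB (hn : 1 ≤ n) (a : Fin 3 → F) (h2 : a 2 = 0) (h1 : a 1 ≠ 0) :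
    Nat.card {b : Fin (n + 1) → F // resultant (poly a) (poly b) 2 n ≠ 0} =
      (Fintype.card F - 1) ^ 2 * Fintype.card F ^ (n - 1) := by
  set β : F := -(a 0 / a 1) with hβ
  have hne : (0 : Fin (n + 1)) ≠ Fin.last n := by
    intro h
    have := congrArg Fin.val h
    simp at this
    omega
  have h := card_pi_ne_zero (F := F) ({0, Fin.last n} : Finset (Fin (n + 1)))
  rw [Finset.card_pair hne, Fintype.card_fin] at h
  have e1 : n + 1 - 2 = n - 1 := by omega
  rw [e1] at h
  rw [← h]
  -- the shear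
  let ψ : (Fin (n + 1) → F) → F := fun b => ∑ i : Fin n, b i.succ * β ^ (i.succ : ℕ)
  have hψ : ∀ b x, ψ (Function.update b 0 x) = ψ b := by
    intro b x
    refine Finset.sum_congr rfl fun i _ => ?_
    rw [Function.update_of_ne (Fin.succ_ne_zero i)]
  let e := shear (F := F) (0 : Fin (n + 1)) 1 one_ne_zero ψ hψ
  have he0 : ∀ b, e b 0 = eval β (poly b) := by
    intro b
    show Function.update b 0 (1 * b 0 + ψ b) 0 = _
    rw [Function.update_self, eval_poly, Fin.sum_univ_succ]
    simp [ψ]
  have hel : ∀ b, e b (Fin.last n) = b (Fin.last n) := by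
    intro b
    show Function.update b 0 (1 * b 0 + ψ b) (Fin.last n) = _
    rw [Function.update_of_ne hne.symm]
  refine Nat.card_congr (e.subtypeEquiv fun b => ?_)
  rw [resultant_caseB a h2 h1 _ (natDegree_poly_le b), coeff_poly_last]
  simp only [Finset.mem_insert, Finset.mem_singleton, forall_eq_or_imp, forall_eq, he0, hel]
  simp [h1]
  tauto

/-- the binary quadratic form `a` evaluated at `(r 0, -r 1)` (the `3 × 3` resultant). -/
def E (a : Fin 3 → F) (r : Fin 2 → F) : F := a 2 * r 0 ^ 2 - a 1 * r 0 * r 1 + a 0 * r 1 ^ 2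

theorem count_caseA (hn : 1 ≤ n) (a : Fin 3 → F) (h2 : a 2 ≠ 0) :
    Nat.card {b : Fin (n + 1) → F // resultant (poly a) (poly b) 2 n ≠ 0} =
      Fintype.card F ^ (n - 1) * Nat.card {r : Fin 2 → F // E a r ≠ 0} := by
  classical
  set f₁ := C (a 2)⁻¹ * poly a with hf₁
  have hdeg2 : (poly a).natDegree = 2 := by
    apply le_antisymm (natDegree_poly_le a)
    apply le_natDegree_of_ne_zero
    have := coeff_poly_fin a 2
    simp only [Fin.isValue, Fin.val_two] at this
    rw [this]; exact h2
  have hlead : (poly a).leadingCoeff = a 2 := by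
    rw [leadingCoeff, hdeg2]
    exact coeff_poly_fin a 2
  have hmonic : f₁.Monic := by
    rw [Monic, hf₁, leadingCoeff_mul, leadingCoeff_C, hlead, inv_mul_cancel₀ h2]
  have hdeg1 : f₁.natDegree = 2 := by
    rw [hf₁, natDegree_C_mul (inv_ne_zero h2), hdeg2]
  have hf1ne : f₁ ≠ 1 := by
    intro h1; rw [h1] at hdeg1; simp at hdeg1
  -- the reduction map
  let ρ : (Fin (n + 1) → F) →ₗ[F] (Fin 2 → F) :=
    LinearMap.pi fun i : Fin 2 =>
      (lcoeff F (i : ℕ)) ∘ₗ (modByMonicHom f₁) ∘ₗ (polyL (n + 1))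
  have hρ_apply : ∀ b i, ρ b i = ((poly b) %ₘ f₁).coeff (i : ℕ) := fun b i => rfl
  have hρ_poly : ∀ b, poly (ρ b) = (poly b) %ₘ f₁ := by
    intro b
    have hlt : ((poly b) %ₘ f₁).natDegree < 2 := by
      have := natDegree_modByMonic_lt (poly b) hmonic hf1ne
      omega
    rw [← poly_coeff_eq _ hlt]
    rfl
  have hsurj : Function.Surjective ρ := by
    intro r
    refine ⟨fun i => if h : (i : ℕ) < 2 then r ⟨i, h⟩ else 0, ?_⟩
    have hp : poly (fun i : Fin (n + 1) => if h : (i : ℕ) < 2 then r ⟨i, h⟩ else 0) = poly r := by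
      ext j
      rw [coeff_poly, coeff_poly]
      by_cases hj : j < 2
      · have : j < n + 1 := by omega
        simp [hj, this]
      · by_cases hj' : j < n + 1
        · simp [hj, hj']
        · simp [hj, hj']
    funext i
    rw [hρ_apply, hp]
    have hmod : poly r %ₘ f₁ = poly r := by
      rw [modByMonic_eq_self_iff hmonic, degree_eq_natDegree hmonic.ne_zero, hdeg1]
      exact lt_of_le_of_lt degree_le_natDegree (by exact_mod_cast Nat.lt_succ_of_le (natDegree_poly_le r))
    rw [hmod, coeff_poly_fin]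
  have key := card_preimage_linear ρ hsurj (fun r => E a r ≠ 0)
  simp only [Fintype.card_pi, Finset.prod_const, Finset.card_univ, Fintype.card_fin] at key
  have hcongr : Nat.card {b : Fin (n + 1) → F // resultant (poly a) (poly b) 2 n ≠ 0} =
      Fintype.card {v : Fin (n + 1) → F // E a (ρ v) ≠ 0} := by
    rw [← Nat.card_eq_fintype_card]
    refine Nat.card_congr (Equiv.subtypeEquivRight fun b => ?_)
    rw [resultant_caseA hn a h2 _ (natDegree_poly_le b), ← hρ_poly,
      resultant_two_one _ (natDegree_poly_le a)]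
    have c2 : (poly a).coeff 2 = a 2 := coeff_poly_fin a 2
    have c1 : (poly a).coeff 1 = a 1 := coeff_poly_fin a 1
    have c0 : (poly a).coeff 0 = a 0 := coeff_poly_fin a 0
    rw [c2, c1, c0]
    simp [E, h2]
  rw [hcongr, Nat.card_eq_fintype_card]
  have hq : 0 < Fintype.card F ^ 2 := pow_pos Fintype.card_pos 2
  apply Nat.eq_of_mul_eq_mul_right hq
  rw [key]
  obtain ⟨k, rfl⟩ : ∃ k, n = k + 1 := ⟨n - 1, by omega⟩
  simp only [Nat.add_sub_cancel]
  ring

theorem count_E (r : Fin 2 → F) :
    Nat.card {a : Fin 3 → F // a 2 ≠ 0 ∧ E a r ≠ 0} =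
      (if r 1 ≠ 0 then (Fintype.card F - 1) ^ 2 * Fintype.card F else 0) +
      (if r 1 = 0 ∧ r 0 ≠ 0 then (Fintype.card F - 1) * Fintype.card F ^ 2 else 0) := by
  by_cases h1 : r 1 = 0
  · by_cases h0 : r 0 = 0
    · simp only [h1, h0, ne_eq, not_true_eq_false, if_false, and_false, add_zero]
      rw [Nat.card_eq_zero]
      left
      refine ⟨fun x => x.2.2 ?_⟩
      simp [E, h1, h0]
    · simp only [h1, h0, ne_eq, not_true_eq_false, if_false, not_false_eq_true, and_self, if_true,
        zero_add]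
      rw [← card3_2]
      refine Nat.card_congr (Equiv.subtypeEquivRight fun a => ?_)
      simp [E, h1, h0]
  · simp only [h1, ne_eq, not_false_eq_true, if_true, false_and, if_false, add_zero]
    rw [← card3_20]
    let ψ : (Fin 3 → F) → F := fun a => a 2 * r 0 ^ 2 - a 1 * r 0 * r 1
    have hψ : ∀ a x, ψ (Function.update a 0 x) = ψ a := by
      intro a x
      simp [ψ, Function.update]
    let e := shear (F := F) (0 : Fin 3) (r 1 ^ 2) (pow_ne_zero 2 h1) ψ hψ
    have he0 : ∀ a, e a 0 = E a r := by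
      intro a
      show Function.update a 0 (r 1 ^ 2 * a 0 + ψ a) 0 = _
      rw [Function.update_self]
      simp only [ψ, E]
      ring
    have he2 : ∀ a, e a 2 = a 2 := by
      intro a
      show Function.update a 0 (r 1 ^ 2 * a 0 + ψ a) 2 = _
      rw [Function.update_of_ne (by decide)]
    refine Nat.card_congr (e.subtypeEquiv fun a => ?_)
    rw [he0, he2]

theorem sum_count_E :
    ∑ a : Fin 3 → F, (if a 2 ≠ 0 then Nat.card {r : Fin 2 → F // E a r ≠ 0} else 0) =
      Fintype.card F * (Fintype.card F - 1) * ((Fintype.card F - 1) ^ 2 * Fintype.card F) +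
      (Fintype.card F - 1) * ((Fintype.card F - 1) * Fintype.card F ^ 2) := by
  have h1 : ∀ a : Fin 3 → F, (if a 2 ≠ 0 then Nat.card {r : Fin 2 → F // E a r ≠ 0} else 0) =
      Nat.card {r : Fin 2 → F // a 2 ≠ 0 ∧ E a r ≠ 0} := by
    intro a
    split_ifs with h
    · exact Nat.card_congr (Equiv.subtypeEquivRight fun r => by simp [h])
    · symm
      rw [Nat.card_eq_zero]
      left
      exact ⟨fun x => h x.2.1⟩
  simp only [h1]
  rw [← card_subtype_sum (fun (a : Fin 3 → F) (r : Fin 2 → F) => a 2 ≠ 0 ∧ E a r ≠ 0)]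
  have h2 : Nat.card {p : (Fin 3 → F) × (Fin 2 → F) // p.1 2 ≠ 0 ∧ E p.1 p.2 ≠ 0} =
      Nat.card {p : (Fin 2 → F) × (Fin 3 → F) // p.2 2 ≠ 0 ∧ E p.2 p.1 ≠ 0} :=
    Nat.card_congr ((Equiv.prodComm _ _).subtypeEquiv fun p => Iff.rfl)
  rw [h2, card_subtype_sum (fun (r : Fin 2 → F) (a : Fin 3 → F) => a 2 ≠ 0 ∧ E a r ≠ 0)]
  simp only [count_E]
  rw [Finset.sum_add_distrib, sum_ite_card, sum_ite_card, card2_1, card2_0]

theorem total_count (hn : 1 ≤ n) :
    Nat.card {p : (Fin 3 → F) × (Fin (n + 1) → F) // resultant (poly p.1) (poly p.2) 2 n ≠ 0} =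
      Fintype.card F ^ (n - 1) *
        (Fintype.card F * (Fintype.card F - 1) * ((Fintype.card F - 1) ^ 2 * Fintype.card F) +
          (Fintype.card F - 1) * ((Fintype.card F - 1) * Fintype.card F ^ 2)) +
      Fintype.card F * (Fintype.card F - 1) *
        ((Fintype.card F - 1) ^ 2 * Fintype.card F ^ (n - 1)) +
      (Fintype.card F - 1) * ((Fintype.card F - 1) * Fintype.card F ^ n) := by
  rw [card_subtype_sum (fun (a : Fin 3 → F) (b : Fin (n + 1) → F) =>
    resultant (poly a) (poly b) 2 n ≠ 0)]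
  have hN : ∀ a : Fin 3 → F,
      Nat.card {b : Fin (n + 1) → F // resultant (poly a) (poly b) 2 n ≠ 0} =
      Fintype.card F ^ (n - 1) *
        (if a 2 ≠ 0 then Nat.card {r : Fin 2 → F // E a r ≠ 0} else 0) +
      (if a 2 = 0 ∧ a 1 ≠ 0 then (Fintype.card F - 1) ^ 2 * Fintype.card F ^ (n - 1) else 0) +
      (if a 2 = 0 ∧ a 1 = 0 ∧ a 0 ≠ 0 then (Fintype.card F - 1) * Fintype.card F ^ n else 0) := by
    intro a
    by_cases h2 : a 2 = 0
    · by_cases h1 : a 1 = 0
      · by_cases h0 : a 0 = 0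
        · rw [count_caseD hn a h2 h1 h0]
          simp [h2, h1, h0]
        · rw [count_caseC hn a h2 h1 h0]
          simp [h2, h1, h0]
      · rw [count_caseB hn a h2 h1]
        simp [h2, h1]
    · rw [count_caseA hn a h2]
      simp [h2]
  simp only [hN]
  rw [Finset.sum_add_distrib, Finset.sum_add_distrib, ← Finset.mul_sum, sum_count_E,
    sum_ite_card, sum_ite_card, card3_B, card3_C]

theorem total_count' (hn : 1 ≤ n) :
    Nat.card {p : (Fin 3 → F) × (Fin (n + 1) → F) // resultant (poly p.1) (poly p.2) 2 n ≠ 0} =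
      Fintype.card F ^ (n + 1) * (Fintype.card F - 1) ^ 2 * (Fintype.card F + 1) := by
  rw [total_count hn]
  obtain ⟨k, rfl⟩ : ∃ k, n = k + 1 := ⟨n - 1, by omega⟩
  obtain ⟨m, hm⟩ : ∃ m, Fintype.card F = m + 1 := ⟨Fintype.card F - 1, by
    have := Fintype.card_pos (α := F); omega⟩
  rw [hm]
  simp only [Nat.add_sub_cancel]
  ring

theorem final_arith (q n : ℕ) (hq : 2 ≤ q) :
    q ^ (n + 1) * (q - 1) ^ 2 * (q + 1) = q ^ (n + 4) - q ^ (n + 3) - q ^ (n + 2) + q ^ (n + 1) := by
  obtain ⟨m, rfl⟩ : ∃ m, q = m + 1 := ⟨q - 1, by omega⟩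
  simp only [Nat.add_sub_cancel]
  have h1 : (m + 1) ^ (n + 3) + (m + 1) ^ (n + 2) ≤ (m + 1) ^ (n + 4) := by
    have : (m + 1) ^ (n + 2) * ((m + 1) + 1) ≤ (m + 1) ^ (n + 2) * ((m + 1) ^ 2) := by
      apply Nat.mul_le_mul_left
      nlinarith
    calc (m + 1) ^ (n + 3) + (m + 1) ^ (n + 2) = (m + 1) ^ (n + 2) * ((m + 1) + 1) := by ring
      _ ≤ (m + 1) ^ (n + 2) * ((m + 1) ^ 2) := this
      _ = (m + 1) ^ (n + 4) := by ring
  have h2 : (m + 1) ^ (n + 4) - (m + 1) ^ (n + 3) - (m + 1) ^ (n + 2) =
      (m + 1) ^ (n + 4) - ((m + 1) ^ (n + 3) + (m + 1) ^ (n + 2)) := by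
    rw [Nat.sub_sub]
  rw [h2]
  have h3 : (m + 1) ^ (n + 1) * m ^ 2 * (m + 1 + 1) + ((m + 1) ^ (n + 3) + (m + 1) ^ (n + 2)) =
      (m + 1) ^ (n + 4) + (m + 1) ^ (n + 1) := by ring
  omega

end counts

section scaling

variable {F : Type*} [Field F] {n : ℕ}

theorem resultant_smul_smul (t s : F) (a : Fin 3 → F) (b : Fin (n + 1) → F) :
    resultant (poly (t • a)) (poly (s • b)) 2 n = t ^ n * s ^ 2 * resultant (poly a) (poly b) 2 n := by
  rw [poly_smul, poly_smul, resultant_C_mul_left, resultant_C_mul_right]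
  ring

/-- the scaling bijection `(f, g) ↦ (t f, t^{-k} g)`. -/
def scale (k : ℕ) (t : F) (ht : t ≠ 0) :
    ((Fin 3 → F) × (Fin (n + 1) → F)) ≃ ((Fin 3 → F) × (Fin (n + 1) → F)) where
  toFun p := (t • p.1, (t⁻¹) ^ k • p.2)
  invFun p := (t⁻¹ • p.1, t ^ k • p.2)
  left_inv p := by
    ext i
    · simp only [Pi.smul_apply, smul_eq_mul]
      rw [← mul_assoc, inv_mul_cancel₀ ht, one_mul]
    · simp only [Pi.smul_apply, smul_eq_mul]
      rw [← mul_assoc, ← mul_pow, mul_inv_cancel₀ ht, one_pow, one_mul]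
  right_inv p := by
    ext i
    · simp only [Pi.smul_apply, smul_eq_mul]
      rw [← mul_assoc, mul_inv_cancel₀ ht, one_mul]
    · simp only [Pi.smul_apply, smul_eq_mul]
      rw [← mul_assoc, ← mul_pow, inv_mul_cancel₀ ht, one_pow, one_mul]

theorem resultant_scale (k : ℕ) (hk : n = 2 * k + 1) (t : F) (ht : t ≠ 0)
    (p : (Fin 3 → F) × (Fin (n + 1) → F)) :
    resultant (poly (scale k t ht p).1) (poly (scale k t ht p).2) 2 n =
      t * resultant (poly p.1) (poly p.2) 2 n := by
  show resultant (poly (t • p.1)) (poly ((t⁻¹) ^ k • p.2)) 2 n = _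
  rw [resultant_smul_smul]
  congr 1
  have : t ^ n = t ^ (2 * k + 1) := by rw [hk]
  rw [this, pow_succ, mul_comm 2 k, pow_mul, mul_right_comm, ← mul_pow, ← mul_pow,
    mul_inv_cancel₀ ht]
  simp

variable [Fintype F] [DecidableEq F]

theorem card_ne_zero_eq (k : ℕ) (hk : n = 2 * k + 1) :
    Nat.card {p : (Fin 3 → F) × (Fin (n + 1) → F) // resultant (poly p.1) (poly p.2) 2 n ≠ 0} =
      (Fintype.card F - 1) *
        Nat.card {p : (Fin 3 → F) × (Fin (n + 1) → F) // resultant (poly p.1) (poly p.2) 2 n = 1} := by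
  have hq : Nat.card {t : F // t ≠ 0} = Fintype.card F - 1 := by
    rw [Nat.card_eq_fintype_card, Fintype.card_subtype_compl, Fintype.card_subtype_eq]
  rw [← hq, ← Nat.card_prod]
  refine Nat.card_congr ?_
  refine
    { toFun := fun p => (⟨resultant (poly p.1.1) (poly p.1.2) 2 n, p.2⟩,
        ⟨scale k (resultant (poly p.1.1) (poly p.1.2) 2 n)⁻¹ (inv_ne_zero p.2) p.1, by
          rw [resultant_scale k hk, inv_mul_cancel₀ p.2]⟩)
      invFun := fun x => ⟨scale k x.1.1 x.1.2 x.2.1, by
        rw [resultant_scale k hk, x.2.2, mul_one]; exact x.1.2⟩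
      left_inv := ?_
      right_inv := ?_ }
  · intro p
    apply Subtype.ext
    show scale k _ _ (scale k _ _ p.1) = p.1
    ext i
    · simp only [scale, Equiv.coe_fn_mk, Pi.smul_apply, smul_eq_mul]
      rw [← mul_assoc, mul_inv_cancel₀ p.2, one_mul]
    · simp only [scale, Equiv.coe_fn_mk, Pi.smul_apply, smul_eq_mul, inv_inv]
      rw [← mul_assoc, ← mul_pow, inv_mul_cancel₀ p.2, one_pow, one_mul]
  · rintro ⟨⟨t, ht⟩, ⟨p, hp⟩⟩
    have h1 : resultant (poly (scale k t ht p).1) (poly (scale k t ht p).2) 2 n = t := by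
      rw [resultant_scale k hk, hp, mul_one]
    apply Prod.ext
    · apply Subtype.ext
      exact h1
    · apply Subtype.ext
      show scale k (resultant (poly (scale k t ht p).1) (poly (scale k t ht p).2) 2 n)⁻¹ _
        (scale k t ht p) = p
      ext i
      · simp only [h1]
        simp only [scale, Equiv.coe_fn_mk, Pi.smul_apply, smul_eq_mul]
        rw [← mul_assoc, inv_mul_cancel₀ ht, one_mul]
      · simp only [h1]
        simp only [scale, Equiv.coe_fn_mk, Pi.smul_apply, smul_eq_mul, inv_inv]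
        rw [← mul_assoc, ← mul_pow, mul_inv_cancel₀ ht, one_pow, one_mul]

end scaling


end Groth.Agent.Lib.ResCount75
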