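/-
EGA 0_III 10.3.1, variant of the final theorem with the residue field isomorphism as an algebra
isomorphism, and the completed version (existence of Cohen-type algebras).
Author: helper89
-/
import Groth.Agent.Lib.ResExtZorn
import Groth.Agent.Lib.AdicNoeth
import Mathlib.RingTheory.AdicCompletion.LocalRing
import Mathlib.RingTheory.AdicCompletion.AsTensorProduct

set_option autoImplicit false

namespace Groth.Agent.Lib.ResExt

open IsLocalRing

universe u

variable (A : Type u) [CommRing A] [IsLocalRing A] [IsNoetherianRing A]
  (K : Type u) [Field K] [Algebra (ResidueField A) K]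

/-- **EGA 0_III 10.3.1**, with the identification of the residue field as an algebra isomorphism. -/
theorem exists_flat_local_algebra' :
    ∃ (B : Type u) (_ : CommRing B) (_ : IsLocalRing B) (_ : Algebra A B)
      (_ : IsLocalHom (algebraMap A B)),
      IsNoetherianRing B ∧ Module.Flat A B ∧
      (maximalIdeal A).map (algebraMap A B) = maximalIdeal B ∧
      Nonempty (ResidueField B ≃ₐ[ResidueField A] K) := by
  obtain ⟨T, hT⟩ := exists_isMax A K
  have hsurj : Function.Surjective T.res := by
    by_contra hns
    have : ∃ t, t ∉ Set.range T.res := by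
      by_contra h
      push Not at h
      exact hns h
    obtain ⟨t, ht⟩ := this
    have htS : t ∉ T.S := fun h => ht ⟨T.gen t, T.hgen t h⟩
    obtain ⟨T', hT'S, hT'H⟩ := exists_extension_of_notMem_range T t ht
    have hle : T ≤ T' := Or.inr ⟨by rw [hT'S]; exact Set.ssubset_insert htS, hT'H⟩
    have hge := Stage.subset_of_le (hT hle)
    rw [hT'S] at hge
    exact htS (hge (Set.mem_insert _ _))
  have hloc := T.isLocalHom_algebraMap
  refine ⟨T.B, inferInstance, inferInstance, inferInstance, hloc, inferInstance, inferInstance,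
    T.hmax, ⟨?_⟩⟩
  let e : ResidueField T.B ≃+* K :=
    (Ideal.quotEquivOfEq T.hker.symm).trans (RingHom.quotientKerEquivOfSurjective hsurj)
  have he : ∀ b : T.B, e (residue T.B b) = T.res b := fun b => by
    show (RingHom.quotientKerEquivOfSurjective hsurj)
      ((Ideal.quotEquivOfEq T.hker.symm) (Ideal.Quotient.mk _ b)) = _
    rw [Ideal.quotEquivOfEq_mk, RingHom.quotientKerEquivOfSurjective_apply_mk]
  refine AlgEquiv.ofRingEquiv (f := e) ?_
  intro x
  obtain ⟨a, rfl⟩ := residue_surjective x
  rw [← T.hres a, ← he]
  rfl

/-- Existence of complete Noetherian local flat `A`-algebras with `m_A B = m_B` and prescribed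
residue field. -/
theorem exists_complete_flat_local_algebra :
    ∃ (B : Type u) (_ : CommRing B) (_ : IsLocalRing B) (_ : Algebra A B)
      (_ : IsLocalHom (algebraMap A B)),
      IsNoetherianRing B ∧ IsAdicComplete (maximalIdeal B) B ∧ Module.Flat A B ∧
      (maximalIdeal A).map (algebraMap A B) = maximalIdeal B ∧
      Nonempty (ResidueField B ≃ₐ[ResidueField A] K) := by
  obtain ⟨B₀, _, _, _, hloc, hN, hflat, hmax, ⟨e⟩⟩ := exists_flat_local_algebra' A K
  have htower : IsScalarTower A B₀ (AdicCompletion (maximalIdeal B₀) B₀) :=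
    IsScalarTower.of_algebraMap_eq (fun a => rfl)
  have hNB : IsNoetherianRing (AdicCompletion (maximalIdeal B₀) B₀) :=
    Groth.Agent.Lib.AdicNoeth.isNoetherianRing_adicCompletion _
  have hlocB : IsLocalHom (algebraMap A (AdicCompletion (maximalIdeal B₀) B₀)) := by
    rw [IsScalarTower.algebraMap_eq A B₀ (AdicCompletion (maximalIdeal B₀) B₀)]
    exact RingHom.isLocalHom_comp _ _
  refine ⟨AdicCompletion (maximalIdeal B₀) B₀, inferInstance, inferInstance, inferInstance, hlocB,
    hNB, inferInstance, Module.Flat.trans A B₀ _, ?_, ⟨?_⟩⟩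
  · rw [AdicCompletion.maximalIdeal_eq_map, ← hmax, Ideal.map_map,
      ← IsScalarTower.algebraMap_eq]
  · -- the residue field
    let e₁ : ResidueField B₀ ≃+* ResidueField (AdicCompletion (maximalIdeal B₀) B₀) :=
      RingEquiv.ofBijective _ (AdicCompletion.residueField_map_bijective B₀)
    have he₁ : ∀ b : B₀, e₁ (residue B₀ b) =
        residue _ (algebraMap B₀ (AdicCompletion (maximalIdeal B₀) B₀) b) := fun b => rfl
    refine AlgEquiv.ofRingEquiv (f := e₁.symm.trans e.toRingEquiv) ?_
    intro x
    obtain ⟨a, rfl⟩ := residue_surjective x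
    have h1 : algebraMap (ResidueField A) (ResidueField (AdicCompletion (maximalIdeal B₀) B₀))
        (residue A a) = e₁ (residue B₀ (algebraMap A B₀ a)) := by
      rw [he₁, ResidueField.algebraMap_residue, ← IsScalarTower.algebraMap_apply]
    rw [h1, RingEquiv.trans_apply, RingEquiv.symm_apply_apply]
    have h2 : residue B₀ (algebraMap A B₀ a) =
        algebraMap (ResidueField A) (ResidueField B₀) (residue A a) := rfl
    rw [h2]
    exact e.commutes _

end Groth.Agent.Lib.ResExt
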