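import Mathlib.RingTheory.LocalRing.Module
import Mathlib.RingTheory.Localization.BaseChange
import Mathlib.RingTheory.Flat.Localization
import Mathlib.LinearAlgebra.TensorProduct.Tower

set_option autoImplicit false

universe u v

namespace Groth.Agent.Lib.ResidueBC

open TensorProduct

section bc

variable {A : Type*} [CommRing A] (L κ : Type*) [CommRing L] [Algebra A L] [CommRing κ]
  [Algebra A κ] [Algebra L κ] [IsScalarTower A L κ]
  {X Y : Type*} [AddCommGroup X] [Module A X] [AddCommGroup Y] [Module A Y]

/-- `κ ⊗_A f` is injective iff `κ ⊗_L (L ⊗_A f)` is. -/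
theorem lTensor_injective_iff_baseChange (f : X →ₗ[A] Y) :
    Function.Injective (f.lTensor κ) ↔
      Function.Injective ((f.baseChange L).lTensor κ) := by
  have hnat : ∀ z, (f.lTensor κ) (AlgebraTensorModule.cancelBaseChange A L L κ X z) =
      AlgebraTensorModule.cancelBaseChange A L L κ Y (((f.baseChange L).lTensor κ) z) := by
    intro z
    induction z using TensorProduct.induction_on with
    | zero => simp
    | tmul c w =>
      induction w using TensorProduct.induction_on with
      | zero => simp
      | tmul a x => simp
      | add w₁ w₂ h₁ h₂ => simp only [tmul_add, map_add, h₁, h₂]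
    | add z₁ z₂ h₁ h₂ => simp only [map_add, h₁, h₂]
  constructor
  · intro h z₁ z₂ hz
    apply (AlgebraTensorModule.cancelBaseChange A L L κ X).injective
    apply h
    rw [hnat, hnat, hz]
  · intro h z₁ z₂ hz
    obtain ⟨w₁, rfl⟩ := (AlgebraTensorModule.cancelBaseChange A L L κ X).surjective z₁
    obtain ⟨w₂, rfl⟩ := (AlgebraTensorModule.cancelBaseChange A L L κ X).surjective z₂
    rw [hnat, hnat] at hz
    rw [h ((AlgebraTensorModule.cancelBaseChange A L L κ Y).injective hz)]

end bc

section kerexch

variable {A : Type*} [CommRing A] (Q : Type*) [AddCommGroup Q] [Module A Q]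
  {M F : Type*} [AddCommGroup M] [Module A M] [AddCommGroup F] [Module A F]

/-- The kernel of `δ` commutes with `Q ⊗ -` iff `Q ⊗ im δ → Q ⊗ F` is injective. -/
theorem exact_lTensor_ker_iff (δ : M →ₗ[A] F) :
    Function.Exact (LinearMap.lTensor Q (LinearMap.ker δ).subtype) (LinearMap.lTensor Q δ) ↔
      Function.Injective (LinearMap.lTensor Q (LinearMap.range δ).subtype) := by
  have hex : Function.Exact (LinearMap.ker δ).subtype δ.rangeRestrict := by
    rw [LinearMap.exact_iff, LinearMap.ker_rangeRestrict, Submodule.range_subtype]
  have hsurj : Function.Surjective δ.rangeRestrict := δ.surjective_rangeRestrict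
  have hexQ : Function.Exact (LinearMap.lTensor Q (LinearMap.ker δ).subtype)
      (LinearMap.lTensor Q δ.rangeRestrict) := lTensor_exact Q hex hsurj
  have hsurjQ : Function.Surjective (LinearMap.lTensor Q δ.rangeRestrict) :=
    LinearMap.lTensor_surjective Q hsurj
  have hcomp : ∀ w, LinearMap.lTensor Q δ w =
      LinearMap.lTensor Q (LinearMap.range δ).subtype (LinearMap.lTensor Q δ.rangeRestrict w) := by
    intro w
    rw [← LinearMap.comp_apply, ← LinearMap.lTensor_comp, LinearMap.subtype_comp_codRestrict]
  constructor
  · intro h
    rw [injective_iff_map_eq_zero]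
    intro z hz
    obtain ⟨w, rfl⟩ := hsurjQ z
    rw [← hcomp] at hz
    obtain ⟨v, rfl⟩ := (h w).mp hz
    exact (hexQ _).mpr ⟨v, rfl⟩
  · intro h w
    rw [hcomp, ← hexQ w]
    constructor
    · intro hw
      exact h (hw.trans (map_zero _).symm)
    · intro hw
      rw [hw, map_zero]

end kerexch

section localpart

open Function IsLocalRing

variable {L : Type*} [CommRing L]
  {K' M' I' F' C' : Type*} [AddCommGroup K'] [Module L K'] [AddCommGroup M'] [Module L M']
  [AddCommGroup I'] [Module L I'] [AddCommGroup F'] [Module L F'] [AddCommGroup C'] [Module L C']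

/-- A short exact sequence with projective cokernel has a retraction. -/
theorem exists_retraction_of_projective [Module.Projective L C'] (ι : I' →ₗ[L] F')
    (q : F' →ₗ[L] C') (hι : Injective ι) (hq : Surjective q) (hex : Exact ι q) :
    ∃ l : F' →ₗ[L] I', l ∘ₗ ι = LinearMap.id := by
  have h := (Exact.split_tfae hex hι hq).out 0 1
  exact h.mp (Module.projective_lifting_property q LinearMap.id hq)

/-- A split injection stays injective after tensoring. -/
theorem lTensor_injective_of_retraction (Q : Type*) [AddCommGroup Q] [Module L Q]
    (ι : I' →ₗ[L] F') (l : F' →ₗ[L] I') (hl : l ∘ₗ ι = LinearMap.id) :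
    Injective (ι.lTensor Q) := by
  have : l.lTensor Q ∘ₗ ι.lTensor Q = LinearMap.id := by
    rw [← LinearMap.lTensor_comp, hl, LinearMap.lTensor_id]
  exact Function.HasLeftInverse.injective ⟨_, LinearMap.congr_fun this⟩

variable [IsLocalRing L] [Module.Finite L I'] [Module.Finite L F'] [Module.Free L F']

/-- Over a local ring, for `0 → I' → F' → C' → 0` with `F'` finite free and `I'` finite: `C'` is
free iff `k ⊗ I' → k ⊗ F'` is injective. -/
theorem free_iff_lTensor_residueField_injective (ι : I' →ₗ[L] F')
    (q : F' →ₗ[L] C') (hι : Injective ι) (hq : Surjective q) (hex : Exact ι q) :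
    Module.Free L C' ↔ Injective (ι.lTensor (ResidueField L)) := by
  constructor
  · intro hfree
    obtain ⟨l, hl⟩ := exists_retraction_of_projective ι q hι hq hex
    exact lTensor_injective_of_retraction _ ι l hl
  · intro h
    exact Module.free_of_lTensor_residueField_injective ι q hq hex h

/-- In the same situation `I'` is free. -/
theorem free_of_lTensor_residueField_injective' (ι : I' →ₗ[L] F')
    (h : Injective (ι.lTensor (ResidueField L))) : Module.Free L I' := by
  obtain ⟨l, hl⟩ := (IsLocalRing.split_injective_iff_lTensor_residueField_injective ι).mpr h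
  have : Module.Projective L I' := Module.Projective.of_split ι l hl
  exact Module.free_of_flat_of_isLocalRing

end localpart

section locfree

variable (A : Type*) [CommRing A] (p : Ideal A) [p.IsPrime]

/-- Freeness of the localized module versus freeness of the base change. -/
theorem free_localizedModule_iff (X : Type*) [AddCommGroup X] [Module A X] :
    Module.Free (Localization.AtPrime p) (LocalizedModule p.primeCompl X) ↔
      Module.Free (Localization.AtPrime p) ((Localization.AtPrime p) ⊗[A] X) := by
  have e : (Localization.AtPrime p) ⊗[A] X ≃ₗ[Localization.AtPrime p]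
      LocalizedModule p.primeCompl X :=
    (IsLocalizedModule.isBaseChange p.primeCompl (Localization.AtPrime p)
      (LocalizedModule.mkLinearMap p.primeCompl X)).equiv
  exact ⟨fun h => Module.Free.of_equiv e.symm, fun h => Module.Free.of_equiv e⟩

end locfree

end Groth.Agent.Lib.ResidueBC
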