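import Mathlib

/-!
# Residue fields of `E ⊗[A] A'` purely inseparable over `E` iff the separable part of the
residue field of `A'` splits in the residue field of `E` (helper61)
-/

set_option autoImplicit false
set_option linter.unusedSectionVars false
universe u

namespace Groth.Agent.Lib.ResidueTensorPI61

open IsLocalRing TensorProduct

section Field

/-- If there are as many `k`-embeddings `L → M` as the degree of `L`, every `k`-embedding of `L`
into an extension `F` of `M` lands in `M`. -/
theorem mem_range_of_card_eq {k L M F : Type*} [Field k] [Field L] [Field M] [Field F]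
    [Algebra k L] [Algebra k M] [Algebra k F] [FiniteDimensional k L]
    (ι : M →ₐ[k] F) (hcard : Nat.card (L →ₐ[k] M) = Module.finrank k L) (τ : L →ₐ[k] F) (s : L) :
    τ s ∈ ι.range := by
  classical
  have hinj : Function.Injective (fun σ : L →ₐ[k] M => ι.comp σ) := by
    intro σ σ' h
    ext x
    have h1 := congrArg (fun f : L →ₐ[k] F => f x) h
    exact ι.toRingHom.injective h1
  have hle : Fintype.card (L →ₐ[k] F) ≤ Module.finrank k L := by
    rw [← Module.finrank_linearMap_self k F L]
    exact (linearIndependent_toLinearMap k L F).fintype_card_le_finrank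
  have hbij : Function.Bijective (fun σ : L →ₐ[k] M => ι.comp σ) := by
    rw [Fintype.bijective_iff_injective_and_card]
    refine ⟨hinj, le_antisymm (Fintype.card_le_of_injective _ hinj) ?_⟩
    rw [← Nat.card_eq_fintype_card (α := L →ₐ[k] M), hcard]
    exact hle
  obtain ⟨σ, hσ⟩ := hbij.2 τ
  exact ⟨σ s, by rw [← hσ]; rfl⟩

/-- A separable element with a `p^n`-th power in the base field lies in the base field. -/
theorem mem_range_of_isSeparable_of_pow_mem {K Ω : Type*} [Field K] [Field Ω] [Algebra K Ω]
    (p : ℕ) [ExpChar K p] (ω : Ω) (hsep : IsSeparable K ω) (n : ℕ)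
    (h : ω ^ p ^ n ∈ (algebraMap K Ω).range) : ω ∈ (algebraMap K Ω).range := by
  have h1 : ω ∈ separableClosure K Ω ⊓ perfectClosure K Ω :=
    ⟨hsep, (mem_perfectClosure_iff_pow_mem p).mpr ⟨n, h⟩⟩
  rw [separableClosure_inf_perfectClosure] at h1
  exact IntermediateField.mem_bot.mp h1

/-- exponential characteristic descends along an injective ring hom of domains. -/
theorem expChar_of_injective' {R B : Type*} [CommRing R] [IsDomain R] [CommRing B] [IsDomain B]
    (f : R →+* B) (hf : Function.Injective f) (p : ℕ) [hB : ExpChar B p] : ExpChar R p := by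
  have hq : ExpChar R (ringExpChar R) := ringExpChar.expChar _
  have h1 : ExpChar B (ringExpChar R) := expChar_of_injective_ringHom hf _
  have h2 : p = ringExpChar R := ExpChar.eq hB h1
  rw [h2]; exact hq

end Field


section Main

variable (A E A' : Type u) [CommRing A] [IsLocalRing A] [CommRing E] [IsLocalRing E] [Algebra A E]
  [IsLocalHom (algebraMap A E)] [CommRing A'] [IsLocalRing A'] [Algebra A A']
  [IsLocalHom (algebraMap A A')] [Algebra.IsIntegral A A']

/-- maximal ideals of `E ⊗ A'` contract to the maximal ideal of `E`. -/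
lemma comap_left (𝔐 : Ideal (E ⊗[A] A')) [𝔐.IsMaximal] :
    𝔐.comap (algebraMap E (E ⊗[A] A')) = maximalIdeal E := by
  have : (𝔐.comap (algebraMap E (E ⊗[A] A'))).IsMaximal :=
    Ideal.isMaximal_comap_of_isIntegral_of_isMaximal 𝔐
  exact IsLocalRing.eq_maximalIdeal this

/-- prime ideals of `E ⊗ A'` over the maximal ideal of `E` contract to the maximal ideal of `A'`. -/
lemma comap_right (𝔐 : Ideal (E ⊗[A] A')) [𝔐.IsPrime]
    (h : 𝔐.comap (algebraMap E (E ⊗[A] A')) = maximalIdeal E) :
    𝔐.comap (Algebra.TensorProduct.includeRight : A' →ₐ[A] E ⊗[A] A').toRingHom =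
      maximalIdeal A' := by
  set 𝔮 := 𝔐.comap (Algebra.TensorProduct.includeRight : A' →ₐ[A] E ⊗[A] A').toRingHom with h𝔮
  have hp : 𝔮.IsPrime := Ideal.comap_isPrime _ _
  have h1 : 𝔮.comap (algebraMap A A') = maximalIdeal A := by
    rw [h𝔮, Ideal.comap_comap]
    have h2 : ((Algebra.TensorProduct.includeRight : A' →ₐ[A] E ⊗[A] A').toRingHom).comp
        (algebraMap A A') = (algebraMap E (E ⊗[A] A')).comp (algebraMap A E) := by
      ext x
      simp only [AlgHom.toRingHom_eq_coe, RingHom.coe_comp, RingHom.coe_coe, Function.comp_apply,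
        AlgHom.commutes]
      rw [IsScalarTower.algebraMap_apply A E (E ⊗[A] A')]
    rw [h2, ← Ideal.comap_comap, h]
    exact ((local_hom_TFAE (algebraMap A E)).out 0 4).mp (inferInstance : IsLocalHom (algebraMap A E))
  have hmax : 𝔮.IsMaximal := by
    apply Ideal.isMaximal_of_isIntegral_of_isMaximal_comap (R := A) 𝔮
    rw [h1]; infer_instance
  exact IsLocalRing.eq_maximalIdeal hmax


/-- If the separable part of the residue field of `A'` splits in the residue field of `E`, all
residue fields of `E ⊗ A'` are purely inseparable over the residue field of `E`. -/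
theorem pi_of_card [FiniteDimensional (ResidueField A) (ResidueField A')]
    (hcard : Nat.card (separableClosure (ResidueField A) (ResidueField A') →ₐ[ResidueField A]
        ResidueField E) =
      Module.finrank (ResidueField A) (separableClosure (ResidueField A) (ResidueField A')))
    (𝔐 : Ideal (E ⊗[A] A')) [𝔐.IsMaximal] (x : (E ⊗[A] A') ⧸ 𝔐) :
    ∃ n : ℕ, x ^ (ringExpChar ((E ⊗[A] A') ⧸ 𝔐)) ^ n ∈
      ((Ideal.Quotient.mk 𝔐).comp (algebraMap E (E ⊗[A] A'))).range := by
  classical
  let _ : Field ((E ⊗[A] A') ⧸ 𝔐) := Ideal.Quotient.field 𝔐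
  set p := ringExpChar ((E ⊗[A] A') ⧸ 𝔐) with hp
  have hpF : ExpChar ((E ⊗[A] A') ⧸ 𝔐) p := ringExpChar.expChar _
  let a : E →+* (E ⊗[A] A') ⧸ 𝔐 := (Ideal.Quotient.mk 𝔐).comp (algebraMap E (E ⊗[A] A'))
  let b : A' →+* (E ⊗[A] A') ⧸ 𝔐 := (Ideal.Quotient.mk 𝔐).comp
    (Algebra.TensorProduct.includeRight : A' →ₐ[A] E ⊗[A] A').toRingHom
  have hak : ∀ e ∈ maximalIdeal E, a e = 0 := by
    intro e he
    rw [← comap_left A E A' 𝔐] at he
    exact Ideal.Quotient.eq_zero_iff_mem.mpr he
  have hbk : ∀ y ∈ maximalIdeal A', b y = 0 := by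
    intro y hy
    rw [← comap_right A E A' 𝔐 (comap_left A E A' 𝔐)] at hy
    exact Ideal.Quotient.eq_zero_iff_mem.mpr hy
  have hal : IsLocalHom a := ⟨fun e he => by
    by_contra hne
    exact he.ne_zero (hak e hne)⟩
  have hbl : IsLocalHom b := ⟨fun y hy => by
    by_contra hne
    exact hy.ne_zero (hbk y hne)⟩
  let ar : ResidueField E →+* (E ⊗[A] A') ⧸ 𝔐 := ResidueField.lift a
  let br : ResidueField A' →+* (E ⊗[A] A') ⧸ 𝔐 := ResidueField.lift b
  have har : ∀ e, ar (residue E e) = a e := fun e => ResidueField.lift_residue_apply a e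
  have hbr : ∀ y, br (residue A' y) = b y := fun y => ResidueField.lift_residue_apply b y
  let _ : Algebra (ResidueField A) ((E ⊗[A] A') ⧸ 𝔐) :=
    (ar.comp (algebraMap (ResidueField A) (ResidueField E))).toAlgebra
  let arA : ResidueField E →ₐ[ResidueField A] (E ⊗[A] A') ⧸ 𝔐 :=
    { ar with commutes' := fun _ => rfl }
  have hcomm : ∀ c, br (algebraMap (ResidueField A) (ResidueField A') c) =
      algebraMap (ResidueField A) ((E ⊗[A] A') ⧸ 𝔐) c := by
    intro c
    obtain ⟨z, rfl⟩ := residue_surjective c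
    show _ = ar (algebraMap (ResidueField A) (ResidueField E) (residue A z))
    rw [ResidueField.algebraMap_residue, ResidueField.algebraMap_residue, har, hbr]
    show Ideal.Quotient.mk 𝔐 (Algebra.TensorProduct.includeRight (algebraMap A A' z)) =
      Ideal.Quotient.mk 𝔐 (algebraMap E (E ⊗[A] A') (algebraMap A E z))
    rw [AlgHom.commutes, ← IsScalarTower.algebraMap_apply A E (E ⊗[A] A')]
  let brA : ResidueField A' →ₐ[ResidueField A] (E ⊗[A] A') ⧸ 𝔐 :=
    { br with commutes' := hcomm }
  -- exponential characteristic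
  have hpk' : ExpChar (ResidueField A') p := expChar_of_injective' br br.injective p
  have hpks : ExpChar (separableClosure (ResidueField A) (ResidueField A')) p :=
    expChar_of_injective'
      (algebraMap (separableClosure (ResidueField A) (ResidueField A')) (ResidueField A'))
      (algebraMap (separableClosure (ResidueField A) (ResidueField A')) (ResidueField A')).injective p
  -- the key claim
  have key : ∀ r : E ⊗[A] A', ∃ n : ℕ, (Ideal.Quotient.mk 𝔐 r) ^ p ^ n ∈ ar.range := by
    intro r
    induction r with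
    | zero => exact ⟨0, 0, by simp⟩
    | tmul e y =>
      obtain ⟨n, s, hs⟩ := IsPurelyInseparable.pow_mem
        (separableClosure (ResidueField A) (ResidueField A')) p (residue A' y)
      let τ : separableClosure (ResidueField A) (ResidueField A') →ₐ[ResidueField A]
          (E ⊗[A] A') ⧸ 𝔐 := brA.comp (IntermediateField.val _)
      obtain ⟨c, hc⟩ := mem_range_of_card_eq arA hcard τ s
      refine ⟨n, residue E e ^ p ^ n * c, ?_⟩
      have h1 : Ideal.Quotient.mk 𝔐 (e ⊗ₜ[A] y) = a e * b y := by
        show _ = Ideal.Quotient.mk 𝔐 (e ⊗ₜ[A] 1) * Ideal.Quotient.mk 𝔐 (1 ⊗ₜ[A] y)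
        rw [← map_mul, Algebra.TensorProduct.tmul_mul_tmul, mul_one, one_mul]
      rw [h1, mul_pow, map_mul, map_pow, har]
      congr 1
      have hc' : ar c = br (algebraMap _ (ResidueField A') s) := hc
      rw [hc', hs, map_pow, hbr]
    | add r₁ r₂ h₁ h₂ =>
      obtain ⟨n₁, c₁, hc₁⟩ := h₁
      obtain ⟨n₂, c₂, hc₂⟩ := h₂
      refine ⟨n₁ + n₂, c₁ ^ p ^ n₂ + c₂ ^ p ^ n₁, ?_⟩
      show ar (c₁ ^ p ^ n₂ + c₂ ^ p ^ n₁) = Ideal.Quotient.mk 𝔐 (r₁ + r₂) ^ p ^ (n₁ + n₂)
      rw [map_add (Ideal.Quotient.mk 𝔐) r₁ r₂, add_pow_expChar_pow, map_add ar, map_pow, map_pow,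
        hc₁, hc₂, ← pow_mul, ← pow_mul, ← pow_add, ← pow_add, add_comm n₂ n₁]
  obtain ⟨r, rfl⟩ := Ideal.Quotient.mk_surjective x
  obtain ⟨n, c, hc⟩ := key r
  obtain ⟨e, rfl⟩ := residue_surjective c
  exact ⟨n, e, by rw [← hc, har]⟩


/-- If all residue fields of `E ⊗ A'` are purely inseparable over the residue field of `E`, the
separable part of the residue field of `A'` splits in the residue field of `E`. -/
theorem card_of_pi [FiniteDimensional (ResidueField A) (ResidueField A')]
    (H : ∀ (𝔐 : Ideal (E ⊗[A] A')) [𝔐.IsMaximal], ∀ x : (E ⊗[A] A') ⧸ 𝔐, ∃ n : ℕ,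
      x ^ (ringExpChar ((E ⊗[A] A') ⧸ 𝔐)) ^ n ∈
        ((Ideal.Quotient.mk 𝔐).comp (algebraMap E (E ⊗[A] A'))).range) :
    Nat.card (separableClosure (ResidueField A) (ResidueField A') →ₐ[ResidueField A]
        ResidueField E) =
      Module.finrank (ResidueField A) (separableClosure (ResidueField A) (ResidueField A')) := by
  classical
  apply AlgHom.natCard_of_splits
  intro s
  apply Polynomial.Splits.of_splits_map
    (algebraMap (ResidueField E) (AlgebraicClosure (ResidueField E))) (IsAlgClosed.splits _)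
  intro ω hω
  -- `ω` is a root of the minimal polynomial of `s`
  have hg0 : minpoly (ResidueField A) s ≠ 0 := minpoly.ne_zero (Algebra.IsIntegral.isIntegral s)
  have hroot : Polynomial.aeval ω (minpoly (ResidueField A) s) = 0 := by
    rw [Polynomial.mem_roots', Polynomial.IsRoot.def, Polynomial.map_map,
      ← IsScalarTower.algebraMap_eq, Polynomial.eval_map_algebraMap] at hω
    exact hω.2
  have hmin : minpoly (ResidueField A) (s : ResidueField A') = minpoly (ResidueField A) s :=
    (minpoly.algebraMap_eq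
      (algebraMap (separableClosure (ResidueField A) (ResidueField A')) (ResidueField A')).injective
      s)
  obtain ⟨brA, hbrA⟩ := IntermediateField.exists_algHom_of_splits_of_aeval
    (F := ResidueField A) (E := ResidueField A') (K := AlgebraicClosure (ResidueField E))
    (fun t => ⟨Algebra.IsIntegral.isIntegral t, IsAlgClosed.splits _⟩)
    (x := (s : ResidueField A')) (y := ω) (by rw [hmin]; exact hroot)
  -- the ring map `E ⊗ A' → Ω`
  let _ : Algebra A (AlgebraicClosure (ResidueField E)) :=
    ((algebraMap (ResidueField E) (AlgebraicClosure (ResidueField E))).comp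
      ((residue E).comp (algebraMap A E))).toAlgebra
  let f : E →ₐ[A] AlgebraicClosure (ResidueField E) :=
    { (algebraMap (ResidueField E) (AlgebraicClosure (ResidueField E))).comp (residue E) with
      commutes' := fun _ => rfl }
  let g : A' →ₐ[A] AlgebraicClosure (ResidueField E) :=
    { (brA : ResidueField A' →+* AlgebraicClosure (ResidueField E)).comp (residue A') with
      commutes' := fun z => by
        show brA (residue A' (algebraMap A A' z)) =
          algebraMap (ResidueField E) _ (residue E (algebraMap A E z))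
        rw [← ResidueField.algebraMap_residue, ← ResidueField.algebraMap_residue, brA.commutes,
          ← IsScalarTower.algebraMap_apply] }
  let Φ : E ⊗[A] A' →ₐ[A] AlgebraicClosure (ResidueField E) :=
    Algebra.TensorProduct.productMap f g
  have hΦ : ∀ e y, Φ (e ⊗ₜ[A] y) = algebraMap (ResidueField E) _ (residue E e) * brA (residue A' y) :=
    fun e y => Algebra.TensorProduct.productMap_apply_tmul f g e y
  set 𝔐 : Ideal (E ⊗[A] A') := RingHom.ker Φ.toRingHom with h𝔐
  have hprime : 𝔐.IsPrime := RingHom.ker_isPrime _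
  have hcomap : 𝔐.comap (algebraMap E (E ⊗[A] A')) = maximalIdeal E := by
    have hle : maximalIdeal E ≤ 𝔐.comap (algebraMap E (E ⊗[A] A')) := by
      intro e he
      rw [Ideal.mem_comap, h𝔐, RingHom.mem_ker]
      show Φ (e ⊗ₜ[A] 1) = 0
      rw [hΦ, (residue_eq_zero_iff e).mpr he, map_zero, zero_mul]
    have hne : 𝔐.comap (algebraMap E (E ⊗[A] A')) ≠ ⊤ :=
      (Ideal.comap_isPrime _ _).ne_top
    exact ((maximalIdeal.isMaximal E).eq_of_le hne hle).symm
  have hmax : 𝔐.IsMaximal := by
    apply Ideal.isMaximal_of_isIntegral_of_isMaximal_comap (R := E) 𝔐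
    rw [hcomap]; infer_instance
  obtain ⟨y, hy⟩ := residue_surjective (s : ResidueField A')
  obtain ⟨n, e, he⟩ := H 𝔐 (Ideal.Quotient.mk 𝔐 (1 ⊗ₜ[A] y))
  -- exponential characteristic
  set p := ringExpChar ((E ⊗[A] A') ⧸ 𝔐) with hp
  let _ : Field ((E ⊗[A] A') ⧸ 𝔐) := Ideal.Quotient.field 𝔐
  have hpF : ExpChar ((E ⊗[A] A') ⧸ 𝔐) p := ringExpChar.expChar _
  let a : E →+* (E ⊗[A] A') ⧸ 𝔐 := (Ideal.Quotient.mk 𝔐).comp (algebraMap E (E ⊗[A] A'))
  have hak : ∀ e ∈ maximalIdeal E, a e = 0 := by
    intro e he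
    rw [← hcomap] at he
    exact Ideal.Quotient.eq_zero_iff_mem.mpr he
  have hal : IsLocalHom a := ⟨fun e he => by
    by_contra hne
    exact he.ne_zero (hak e hne)⟩
  have hpE : ExpChar (ResidueField E) p :=
    expChar_of_injective' (ResidueField.lift a) (ResidueField.lift a).injective p
  -- `ω ^ p ^ n` lies in the residue field of `E`
  have hpow : ω ^ p ^ n ∈ (algebraMap (ResidueField E) (AlgebraicClosure (ResidueField E))).range := by
    refine ⟨residue E e, ?_⟩
    have h1 : (Ideal.Quotient.mk 𝔐) (algebraMap E (E ⊗[A] A') e) =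
        (Ideal.Quotient.mk 𝔐) ((1 ⊗ₜ[A] y) ^ p ^ n) := by
      rw [map_pow]; exact he
    rw [Ideal.Quotient.eq, h𝔐, RingHom.mem_ker, map_sub, sub_eq_zero] at h1
    have h2 : Φ (algebraMap E (E ⊗[A] A') e) = algebraMap (ResidueField E) _ (residue E e) := by
      show Φ (e ⊗ₜ[A] 1) = _
      rw [hΦ, map_one, map_one, mul_one]
    have h3 : Φ ((1 ⊗ₜ[A] y) ^ p ^ n) = ω ^ p ^ n := by
      rw [map_pow, hΦ, map_one, map_one, one_mul, hy, hbrA]
    exact h2.symm.trans (h1.trans h3)
  -- `ω` is separable over the residue field of `E`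
  have hsep : IsSeparable (ResidueField E) ω := by
    have hs : IsSeparable (ResidueField A) s := Algebra.IsSeparable.isSeparable _ s
    have h1 : (minpoly (ResidueField A) s).Separable := hs
    have h2 : ((minpoly (ResidueField A) s).map
        (algebraMap (ResidueField A) (ResidueField E))).Separable := h1.map
    refine h2.of_dvd (minpoly.dvd _ _ ?_)
    rw [Polynomial.aeval_map_algebraMap]; exact hroot
  exact mem_range_of_isSeparable_of_pow_mem p ω hsep n hpow

end Main

end Groth.Agent.Lib.ResidueTensorPI61
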