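import Mathlib
import Groth.Agent.Lib.PBW58d

/-!
# Restricted PBW, part 1: exponent vectors (helper58)

For a Lie algebra with a basis indexed by `Fin n`, the PBW basis of the enveloping algebra
reindexed by exponent vectors `c : Fin n → ℕ`; the degree filtration in terms of this basis.
-/

set_option autoImplicit false
set_option linter.unusedSectionVars false
set_option linter.unusedVariables false

namespace Groth.Agent.Lib.RestrPBW58

open Groth.Agent.Lib.PBW58

section Flat

variable {n : ℕ}

/-- The sorted word with `c i` copies of `i`. -/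
def flat (c : Fin n → ℕ) : List (Fin n) := (List.ofFn fun i => List.replicate (c i) i).flatten

theorem count_flat (c : Fin n → ℕ) (i : Fin n) : (flat c).count i = c i := by
  unfold flat
  rw [List.count_flatten, List.map_ofFn, List.sum_ofFn]
  have : ∀ j : Fin n, ((List.count i) ∘ fun i => List.replicate (c i) i) j =
      if j = i then c j else 0 := by
    intro j
    simp [List.count_replicate]
  rw [Finset.sum_congr rfl (fun j _ => this j)]
  simp

theorem sorted_flat (c : Fin n → ℕ) : (flat c).SortedLE := by
  rw [List.sortedLE_iff_pairwise]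
  unfold flat
  rw [List.pairwise_flatten]
  refine ⟨?_, ?_⟩
  · intro l hl
    rw [List.mem_ofFn] at hl
    obtain ⟨i, rfl⟩ := hl
    exact List.pairwise_replicate_of_refl
  · rw [List.pairwise_ofFn]
    intro i j hij x hx y hy
    rw [List.mem_replicate] at hx hy
    rw [hx.2, hy.2]
    exact hij.le

theorem length_flat (c : Fin n → ℕ) : (flat c).length = ∑ i, c i := by
  unfold flat
  rw [List.length_flatten, List.map_ofFn, List.sum_ofFn]
  simp

theorem flat_count {l : List (Fin n)} (h : l.SortedLE) : flat (fun i => l.count i) = l := by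
  apply List.Perm.eq_of_sortedLE (sorted_flat _) h
  rw [List.perm_iff_count]
  intro i
  rw [count_flat]

theorem perm_flat_count (l : List (Fin n)) : l.Perm (flat (fun i => l.count i)) := by
  rw [List.perm_iff_count]
  intro i
  rw [count_flat]

/-- Exponent vectors versus sorted words. -/
def expEquiv : (Fin n → ℕ) ≃ {l : List (Fin n) // l.SortedLE} where
  toFun c := ⟨flat c, sorted_flat c⟩
  invFun l := fun i => l.1.count i
  left_inv c := by
    funext i
    exact count_flat c i
  right_inv l := by
    apply Subtype.ext
    exact flat_count l.2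

/-- The degree of an exponent vector. -/
def deg (c : Fin n → ℕ) : ℕ := ∑ i, c i

end Flat

section Env

attribute [local instance 100] LieRing.ofAssociativeRing

variable {n : ℕ} {k : Type*} [CommRing k] {L : Type*} [LieRing L] [LieAlgebra k L]
  (b : Module.Basis (Fin n) k L)

local notation "ιU" => UniversalEnvelopingAlgebra.ι k (L := L)
local notation "UL" => UniversalEnvelopingAlgebra k L

/-- The PBW basis indexed by exponent vectors. -/
noncomputable def expBasis : Module.Basis (Fin n → ℕ) k UL :=
  (pbwBasis b).reindex expEquiv.symm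

theorem expBasis_apply (c : Fin n → ℕ) : expBasis b c = prodU b (flat c) := by
  unfold expBasis
  rw [Module.Basis.reindex_apply, Equiv.symm_symm, pbwBasis_apply]
  rfl

theorem prodU_replicate (m : ℕ) (i : Fin n) : prodU b (List.replicate m i) = (ιU (b i)) ^ m := by
  induction m with
  | zero => simp
  | succ m ih => rw [List.replicate_succ, prodU_cons, ih, pow_succ']

theorem prodU_flatten (ls : List (List (Fin n))) :
    prodU b ls.flatten = (ls.map (prodU b)).prod := by
  induction ls with
  | nil => simp
  | cons l ls ih => rw [List.flatten_cons, prodU_append, ih, List.map_cons, List.prod_cons]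

theorem prodU_flat (c : Fin n → ℕ) :
    prodU b (flat c) = (List.ofFn fun i => (ιU (b i)) ^ c i).prod := by
  unfold flat
  rw [prodU_flatten, List.map_ofFn]
  congr 1
  apply congrArg
  funext i
  exact prodU_replicate b (c i) i

theorem expBasis_zero : expBasis b (0 : Fin n → ℕ) = 1 := by
  rw [expBasis_apply, prodU_flat]
  simp

/-- The span of the sorted monomials of degree `< d`. -/
def G (d : ℕ) : Submodule k UL :=
  Submodule.span k {x | ∃ c : Fin n → ℕ, deg c < d ∧ x = expBasis b c}

theorem expBasis_mem_G {c : Fin n → ℕ} {d : ℕ} (h : deg c < d) : expBasis b c ∈ G b d :=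
  Submodule.subset_span ⟨c, h, rfl⟩

theorem G_mono {d e : ℕ} (h : d ≤ e) : G b d ≤ G b e := by
  apply Submodule.span_mono
  rintro x ⟨c, hc, rfl⟩
  exact ⟨c, lt_of_lt_of_le hc h, rfl⟩

theorem Fil_le_G (d : ℕ) : Fil b d ≤ G b d := by
  induction d using Nat.strong_induction_on with
  | _ d ih =>
    apply Submodule.span_le.mpr
    rintro x ⟨l, hl, rfl⟩
    have h1 := perm_sub_mem b (perm_flat_count l)
    have h2 : prodU b (flat fun i => l.count i) ∈ G b d := by
      rw [← expBasis_apply]
      apply expBasis_mem_G
      unfold deg
      rw [← length_flat, ← (perm_flat_count l).length_eq]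
      exact hl
    have h3 := G_mono b hl.le (ih _ hl h1)
    have := add_mem h3 h2
    rwa [sub_add_cancel] at this

theorem exists_mem_G (u : UL) : ∃ d, u ∈ G b d := by
  have hu : u ∈ Submodule.span k (Set.range (expBasis b)) := by
    rw [(expBasis b).span_eq]
    exact Submodule.mem_top
  induction hu using Submodule.span_induction with
  | mem x hx =>
    obtain ⟨c, rfl⟩ := hx
    exact ⟨deg c + 1, expBasis_mem_G b (Nat.lt_succ_self _)⟩
  | zero => exact ⟨0, Submodule.zero_mem _⟩
  | add x y _ _ hx hy =>
    obtain ⟨d, hd⟩ := hx
    obtain ⟨e, he⟩ := hy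
    exact ⟨max d e, add_mem (G_mono b (le_max_left _ _) hd) (G_mono b (le_max_right _ _) he)⟩
  | smul a x _ hx =>
    obtain ⟨d, hd⟩ := hx
    exact ⟨d, Submodule.smul_mem _ _ hd⟩

end Env

end Groth.Agent.Lib.RestrPBW58
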