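import Mathlib
import Groth.Agent.Lib.RestrPBW58

/-!
# Restricted PBW, part 2: a basis `Z^q X^r` of the enveloping algebra (helper58)

Given central elements `z i` with `z i ≡ (x i)^p` modulo lower filtration, the elements
`Z(c / p) * X(c % p)` form a basis of the enveloping algebra.
-/

set_option autoImplicit false
set_option linter.unusedSectionVars false
set_option linter.unusedVariables false

namespace Groth.Agent.Lib.RestrPBW58

open Groth.Agent.Lib.PBW58

attribute [local instance 100] LieRing.ofAssociativeRing

variable {n : ℕ} {k : Type*} [CommRing k] {L : Type*} [LieRing L] [LieAlgebra k L]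
  (b : Module.Basis (Fin n) k L)

local notation "ιU" => UniversalEnvelopingAlgebra.ι k (L := L)
local notation "UL" => UniversalEnvelopingAlgebra k L

section Fil

theorem Fil_mul_Fil {m m' : ℕ} {x y : UL} (hx : x ∈ Fil b m) (hy : y ∈ Fil b m') :
    x * y ∈ Fil b (m + m' - 1) := by
  induction hx using Submodule.span_induction with
  | mem x hx =>
    obtain ⟨l, hl, rfl⟩ := hx
    induction hy using Submodule.span_induction with
    | mem y hy =>
      obtain ⟨l', hl', rfl⟩ := hy
      rw [← prodU_append]
      apply prodU_mem_Fil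
      rw [List.length_append]
      omega
    | zero => rw [mul_zero]; exact zero_mem _
    | add y y' _ _ h h' => rw [mul_add]; exact add_mem h h'
    | smul a y _ h => rw [mul_smul_comm]; exact Submodule.smul_mem _ _ h
  | zero => rw [zero_mul]; exact zero_mem _
  | add x x' _ _ h h' => rw [add_mul]; exact add_mem h h'
  | smul a x _ h => rw [smul_mul_assoc]; exact Submodule.smul_mem _ _ h

/-- `a` equals the monomial of the word `w` modulo lower filtration. -/
def Sim (a : UL) (w : List (Fin n)) : Prop := a - prodU b w ∈ Fil b w.length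

theorem sim_prodU (w : List (Fin n)) : Sim b (prodU b w) w := by
  unfold Sim
  rw [sub_self]
  exact zero_mem _

theorem Sim.mem_Fil {a : UL} {w : List (Fin n)} (h : Sim b a w) : a ∈ Fil b (w.length + 1) := by
  have h1 := Fil_mono b (Nat.le_succ w.length) h
  have h2 := prodU_mem_Fil b (Nat.lt_succ_self w.length)
  have := add_mem h1 h2
  rwa [sub_add_cancel] at this

theorem Sim.mul {a a' : UL} {w w' : List (Fin n)} (h : Sim b a w) (h' : Sim b a' w') :
    Sim b (a * a') (w ++ w') := by
  unfold Sim
  have e : a * a' - prodU b (w ++ w') = (a - prodU b w) * a' + prodU b w * (a' - prodU b w') := by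
    rw [prodU_append]
    noncomm_ring
  rw [e, List.length_append]
  apply add_mem
  · have := Fil_mul_Fil b h (h'.mem_Fil b)
    have e2 : w.length + (w'.length + 1) - 1 = w.length + w'.length := by omega
    rwa [e2] at this
  · have := Fil_mul_Fil b (prodU_mem_Fil b (Nat.lt_succ_self w.length)) h'
    have e2 : w.length + 1 + w'.length - 1 = w.length + w'.length := by omega
    rwa [e2] at this

theorem Sim.pow {a : UL} {w : List (Fin n)} (h : Sim b a w) (e : ℕ) :
    ∃ w' : List (Fin n), (∀ j, w'.count j = e * w.count j) ∧ Sim b (a ^ e) w' := by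
  induction e with
  | zero =>
    refine ⟨[], fun j => by simp, ?_⟩
    rw [pow_zero]
    have := sim_prodU b ([] : List (Fin n))
    rwa [prodU_nil] at this
  | succ e ih =>
    obtain ⟨w', hw', hs⟩ := ih
    refine ⟨w ++ w', fun j => ?_, ?_⟩
    · rw [List.count_append, hw']
      ring
    · rw [pow_succ']
      exact h.mul b hs

end Fil

section Z

variable (p : ℕ) (z : Fin n → UniversalEnvelopingAlgebra k L)
  (hzc : ∀ i, z i ∈ Subalgebra.center k (UniversalEnvelopingAlgebra k L))

/-- `z i` as an element of the centre. -/
def zc (i : Fin n) : Subalgebra.center k UL := ⟨z i, hzc i⟩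

/-- The central monomial `∏ z_i ^ q_i`. -/
noncomputable def Z (q : Fin n → ℕ) : UL :=
  ((∏ i, zc z hzc i ^ q i : Subalgebra.center k UL) : UL)

theorem Z_zero : Z z hzc (0 : Fin n → ℕ) = 1 := by
  unfold Z
  simp

theorem Z_add (q q' : Fin n → ℕ) : Z z hzc (q + q') = Z z hzc q * Z z hzc q' := by
  unfold Z
  rw [← Subalgebra.coe_mul, ← Finset.prod_mul_distrib]
  congr 1
  refine Finset.prod_congr rfl (fun i _ => ?_)
  rw [Pi.add_apply, pow_add]

theorem Z_comm (q : Fin n → ℕ) (u : UL) : Z z hzc q * u = u * Z z hzc q := by
  unfold Z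
  exact ((Subalgebra.mem_center_iff.mp (∏ i, zc z hzc i ^ q i : Subalgebra.center k UL).2) u).symm

theorem Z_single (i : Fin n) : Z z hzc (Pi.single i 1) = z i := by
  classical
  unfold Z
  rw [Finset.prod_eq_single i]
  · rw [Pi.single_eq_same, pow_one]
    rfl
  · intro j _ hj
    rw [Pi.single_eq_of_ne hj, pow_zero]
  · intro h
    exact absurd (Finset.mem_univ i) h

variable (hz : ∀ i, z i - (UniversalEnvelopingAlgebra.ι k (b i)) ^ p ∈ Fil b p)

include hz in
theorem sim_z (i : Fin n) : Sim b (z i) (List.replicate p i) := by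
  unfold Sim
  rw [prodU_replicate, List.length_replicate]
  exact hz i

include hz in
theorem sim_Z (q : Fin n → ℕ) :
    ∃ w : List (Fin n), (∀ j, w.count j = p * q j) ∧ Sim b (Z z hzc q) w := by
  classical
  have key : ∀ s : Finset (Fin n), ∃ w : List (Fin n),
      (∀ j, w.count j = if j ∈ s then p * q j else 0) ∧
        Sim b ((∏ i ∈ s, zc z hzc i ^ q i : Subalgebra.center k UL) : UL) w := by
    intro s
    induction s using Finset.induction_on with
    | empty =>
      refine ⟨[], fun j => by simp, ?_⟩
      rw [Finset.prod_empty]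
      have := sim_prodU b ([] : List (Fin n))
      rwa [prodU_nil] at this
    | insert a s ha ih =>
      obtain ⟨w, hw, hs⟩ := ih
      obtain ⟨w', hw', hs'⟩ := (sim_z b p z hz a).pow b (q a)
      refine ⟨w' ++ w, fun j => ?_, ?_⟩
      · rw [List.count_append, hw', hw, List.count_replicate]
        by_cases hj : j = a
        · subst hj
          simp [ha, mul_comm]
        · have : ¬ (a == j) = true := by simpa using fun h => hj h.symm
          simp [hj, this]
      · rw [Finset.prod_insert ha, Subalgebra.coe_mul, Subalgebra.coe_pow]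
        exact hs'.mul b hs
  obtain ⟨w, hw, hs⟩ := key Finset.univ
  exact ⟨w, fun j => by rw [hw j, if_pos (Finset.mem_univ j)], hs⟩

/-- The candidate basis vector `Z(c / p) * X(c % p)`. -/
noncomputable def mvec (c : Fin n → ℕ) : UL :=
  Z z hzc (fun i => c i / p) * expBasis b (fun i => c i % p)

include hz in
theorem mvec_sub_mem (c : Fin n → ℕ) : mvec b p z hzc c - expBasis b c ∈ Fil b (deg c) := by
  obtain ⟨w, hw, hs⟩ := sim_Z b p z hzc hz (fun i => c i / p)
  have h1 : Sim b (mvec b p z hzc c) (w ++ flat (fun i => c i % p)) := by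
    unfold mvec
    rw [expBasis_apply]
    exact hs.mul b (sim_prodU b _)
  have hperm : (w ++ flat (fun i => c i % p)).Perm (flat c) := by
    rw [List.perm_iff_count]
    intro j
    rw [List.count_append, hw, count_flat, count_flat]
    exact Nat.div_add_mod (c j) p
  have h2 := perm_sub_mem b hperm
  have hlen : (w ++ flat (fun i => c i % p)).length = deg c := by
    rw [hperm.length_eq, length_flat]
    rfl
  unfold Sim at h1
  rw [hlen] at h1 h2
  have := add_mem h1 h2
  rw [expBasis_apply]
  rwa [sub_add_sub_cancel] at this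

/-- The linear map `X^c ↦ Z(c/p) X(c%p)`. -/
noncomputable def T : UL →ₗ[k] UL := (expBasis b).constr k (mvec b p z hzc)

theorem T_expBasis (c : Fin n → ℕ) : T b p z hzc (expBasis b c) = mvec b p z hzc c := by
  unfold T
  exact (expBasis b).constr_basis k _ c

include hz in
theorem T_sub_mem {d : ℕ} {u : UL} (hu : u ∈ G b (d + 1)) : T b p z hzc u - u ∈ G b d := by
  induction hu using Submodule.span_induction with
  | mem x hx =>
    obtain ⟨c, hc, rfl⟩ := hx
    rw [T_expBasis]
    exact G_mono b (Nat.lt_succ_iff.mp hc) (Fil_le_G b _ (mvec_sub_mem b p z hzc hz c))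
  | zero => rw [map_zero, sub_zero]; exact zero_mem _
  | add x y _ _ hx hy =>
    rw [map_add, add_sub_add_comm]
    exact add_mem hx hy
  | smul a x _ hx =>
    rw [map_smul, ← smul_sub]
    exact Submodule.smul_mem _ _ hx

theorem G_zero : G b 0 = ⊥ := by
  unfold G
  rw [Submodule.span_eq_bot]
  rintro x ⟨c, hc, -⟩
  exact absurd hc (Nat.not_lt_zero _)

include hz in
theorem T_injective : Function.Injective (T b p z hzc) := by
  have key : ∀ d : ℕ, ∀ u ∈ G b d, T b p z hzc u = 0 → u = 0 := by
    intro d
    induction d with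
    | zero =>
      intro u hu _
      rw [G_zero] at hu
      exact (Submodule.mem_bot k).mp hu
    | succ d ih =>
      intro u hu hT
      have h1 := T_sub_mem b p z hzc hz hu
      rw [hT, zero_sub] at h1
      exact ih u (by simpa using (G b d).neg_mem h1) hT
  rw [injective_iff_map_eq_zero]
  intro u hu
  obtain ⟨d, hd⟩ := exists_mem_G b u
  exact key d u hd hu

include hz in
theorem T_surjective : Function.Surjective (T b p z hzc) := by
  have key : ∀ d : ℕ, G b d ≤ LinearMap.range (T b p z hzc) := by
    intro d
    induction d with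
    | zero => rw [G_zero]; exact bot_le
    | succ d ih =>
      apply Submodule.span_le.mpr
      rintro x ⟨c, hc, rfl⟩
      have h1 : T b p z hzc (expBasis b c) - expBasis b c ∈ G b d :=
        T_sub_mem b p z hzc hz (expBasis_mem_G b hc)
      have h2 := ih h1
      have h3 : T b p z hzc (expBasis b c) ∈ LinearMap.range (T b p z hzc) := ⟨_, rfl⟩
      have := sub_mem h3 h2
      rwa [sub_sub_cancel] at this
  intro u
  obtain ⟨d, hd⟩ := exists_mem_G b u
  exact key d hd

/-- The basis `Z(c/p) X(c%p)` of the enveloping algebra. -/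
noncomputable def mBasis : Module.Basis (Fin n → ℕ) k UL :=
  (expBasis b).map (LinearEquiv.ofBijective (T b p z hzc)
    ⟨T_injective b p z hzc hz, T_surjective b p z hzc hz⟩)

theorem mBasis_apply (c : Fin n → ℕ) : mBasis b p z hzc hz c = mvec b p z hzc c := by
  unfold mBasis
  rw [Module.Basis.map_apply, LinearEquiv.ofBijective_apply, T_expBasis]

end Z

end Groth.Agent.Lib.RestrPBW58
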