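import Mathlib
import Groth.Agent.Lib.RestrPBW58b

/-!
# Restricted PBW, part 3: the quotient by the central elements (helper58)

The quotient of the enveloping algebra by the ideal generated by the central elements `z i`
has the basis `X^r`, `r : Fin n → Fin p`.
-/

set_option autoImplicit false
set_option linter.unusedSectionVars false
set_option linter.unusedVariables false

namespace Groth.Agent.Lib.RestrPBW58

open Groth.Agent.Lib.PBW58

attribute [local instance 100] LieRing.ofAssociativeRing

variable {n : ℕ} {k : Type*} [CommRing k] {L : Type*} [LieRing L] [LieAlgebra k L]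
  (b : Module.Basis (Fin n) k L)

local notation "ιU" => UniversalEnvelopingAlgebra.ι k (L := L)
local notation "UL" => UniversalEnvelopingAlgebra k L

variable (p : ℕ) (hp : 0 < p) (z : Fin n → UniversalEnvelopingAlgebra k L)
  (hzc : ∀ i, z i ∈ Subalgebra.center k (UniversalEnvelopingAlgebra k L))
  (hz : ∀ i, z i - (UniversalEnvelopingAlgebra.ι k (b i)) ^ p ∈ Fil b p)

/-- The exponent vectors that are not restricted. -/
def Big (c : Fin n → ℕ) : Prop := ∃ i, p ≤ c i

/-- The span of the basis vectors `Z(c/p) X(c%p)` with `c / p ≠ 0`. -/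
def S : Submodule k UL :=
  Submodule.span k ((mBasis b p z hzc hz) '' {c | Big p c})

include hp in
theorem Z_mul_mvec (q c : Fin n → ℕ) :
    Z z hzc q * mvec b p z hzc c = mvec b p z hzc (fun i => c i + p * q i) := by
  unfold mvec
  rw [← mul_assoc, ← Z_add]
  congr 2
  · funext i
    rw [Pi.add_apply, Nat.add_mul_div_left _ _ hp, add_comm]
  · funext i
    rw [Nat.add_mul_mod_self_left]

include hp in
theorem Z_mul_mem_S (q : Fin n → ℕ) (hq : ∃ i, 1 ≤ q i) (u : UL) :
    Z z hzc q * u ∈ S b p z hzc hz := by
  have hu : u ∈ Submodule.span k (Set.range (mBasis b p z hzc hz)) := by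
    rw [(mBasis b p z hzc hz).span_eq]
    exact Submodule.mem_top
  induction hu using Submodule.span_induction with
  | mem x hx =>
    obtain ⟨c, rfl⟩ := hx
    rw [mBasis_apply, Z_mul_mvec b p hp z hzc, ← mBasis_apply b p z hzc hz]
    apply Submodule.subset_span
    refine ⟨_, ?_, rfl⟩
    obtain ⟨i, hi⟩ := hq
    refine ⟨i, ?_⟩
    calc p = p * 1 := (mul_one p).symm
      _ ≤ p * q i := Nat.mul_le_mul_left p hi
      _ ≤ c i + p * q i := Nat.le_add_left _ _
  | zero => rw [mul_zero]; exact zero_mem _
  | add x y _ _ hx hy => rw [mul_add]; exact add_mem hx hy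
  | smul a x _ hx => rw [mul_smul_comm]; exact Submodule.smul_mem _ _ hx

include hp in
theorem mul_mem_S (u : UL) {x : UL} (hx : x ∈ S b p z hzc hz) : u * x ∈ S b p z hzc hz := by
  induction hx using Submodule.span_induction with
  | mem x hx =>
    obtain ⟨c, hc, rfl⟩ := hx
    rw [mBasis_apply]
    unfold mvec
    rw [← mul_assoc, ← Z_comm, mul_assoc]
    apply Z_mul_mem_S b p hp z hzc hz
    obtain ⟨i, hi⟩ := hc
    exact ⟨i, (Nat.one_le_div_iff hp).mpr hi⟩
  | zero => rw [mul_zero]; exact zero_mem _
  | add x y _ _ hx hy => rw [mul_add]; exact add_mem hx hy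
  | smul a x _ hx => rw [mul_smul_comm]; exact Submodule.smul_mem _ _ hx

/-- The ideal generated by the `z i`. -/
def zIdeal : Ideal UL := Ideal.span (Set.range z)

include hzc in
theorem zIdeal_isTwoSided : (zIdeal (k := k) (L := L) z).IsTwoSided := by
  constructor
  intro a c ha
  unfold zIdeal at ha ⊢
  induction ha using Submodule.span_induction with
  | mem x hx =>
    obtain ⟨i, rfl⟩ := hx
    rw [(Subalgebra.mem_center_iff.mp (hzc i) c).symm]
    exact Ideal.mul_mem_left _ _ (Ideal.subset_span ⟨i, rfl⟩)
  | zero => rw [zero_mul]; exact zero_mem _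
  | add x y _ _ hx hy => rw [add_mul]; exact add_mem hx hy
  | smul a x _ hx =>
    rw [smul_eq_mul, mul_assoc]
    exact Ideal.mul_mem_left _ _ hx

include hp in
theorem zIdeal_le_S : ∀ x ∈ zIdeal (k := k) (L := L) z, x ∈ S b p z hzc hz := by
  let SI : Ideal UL :=
    { carrier := S b p z hzc hz
      add_mem' := fun ha hb => add_mem ha hb
      zero_mem' := zero_mem _
      smul_mem' := fun u x hx => mul_mem_S b p hp z hzc hz u hx }
  have h : zIdeal (k := k) (L := L) z ≤ SI := by
    unfold zIdeal
    rw [Ideal.span_le]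
    rintro x ⟨i, rfl⟩
    show z i ∈ S b p z hzc hz
    have := Z_mul_mem_S b p hp z hzc hz (Pi.single i 1) ⟨i, by simp⟩ 1
    rwa [mul_one, Z_single] at this
  intro x hx
  exact h hx

include hp in
theorem S_le_zIdeal : ∀ x ∈ S b p z hzc hz, x ∈ zIdeal (k := k) (L := L) z := by
  classical
  intro x hx
  induction hx using Submodule.span_induction with
  | mem x hx =>
    obtain ⟨c, ⟨i, hi⟩, rfl⟩ := hx
    rw [mBasis_apply]
    unfold mvec
    have hq : (fun j => c j / p) =
        (Pi.single i 1 : Fin n → ℕ) + (fun j => c j / p - (Pi.single i 1 : Fin n → ℕ) j) := by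
      funext j
      rw [Pi.add_apply]
      by_cases hj : j = i
      · subst hj
        rw [Pi.single_eq_same]
        have : 1 ≤ c j / p := (Nat.one_le_div_iff hp).mpr hi
        omega
      · rw [Pi.single_eq_of_ne hj, Nat.sub_zero, zero_add]
    rw [hq, Z_add, Z_single, mul_assoc, (Subalgebra.mem_center_iff.mp (hzc i) _).symm]
    exact Ideal.mul_mem_left _ _ (Ideal.subset_span ⟨i, rfl⟩)
  | zero => exact zero_mem _
  | add x y _ _ hx hy => exact add_mem hx hy
  | smul a x _ hx =>
    rw [Algebra.smul_def]
    exact Ideal.mul_mem_left _ _ hx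

/-- Restricted exponent vectors as exponent vectors. -/
def emb (r : Fin n → Fin p) : Fin n → ℕ := fun i => (r i : ℕ)

theorem emb_injective : Function.Injective (emb (n := n) p) :=
  fun r r' h => funext fun i => Fin.ext (congrFun h i)

theorem not_big_emb (r : Fin n → Fin p) : ¬ Big p (emb p r) := by
  rintro ⟨i, hi⟩
  exact absurd (r i).2 (not_lt.mpr hi)

theorem exists_emb_of_not_big {c : Fin n → ℕ} (h : ¬ Big p c) : ∃ r, emb p r = c := by
  unfold Big at h
  push Not at h
  exact ⟨fun i => ⟨c i, h i⟩, rfl⟩

/-- The coordinates of an element of the enveloping algebra at the restricted basis vectors. -/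
noncomputable def rho : UL →ₗ[k] ((Fin n → Fin p) →₀ k) :=
  (Finsupp.lcomapDomain (emb p) (emb_injective p)) ∘ₗ (mBasis b p z hzc hz).repr.toLinearMap

theorem rho_apply (u : UL) (r : Fin n → Fin p) :
    rho b p z hzc hz u r = (mBasis b p z hzc hz).repr u (emb p r) := by
  unfold rho
  rw [LinearMap.comp_apply, Finsupp.lcomapDomain_apply, Finsupp.comapDomain_apply]
  rfl

theorem rho_mBasis_emb (r : Fin n → Fin p) :
    rho b p z hzc hz (mBasis b p z hzc hz (emb p r)) = Finsupp.single r 1 := by
  classical
  ext r'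
  rw [rho_apply, Module.Basis.repr_self, Finsupp.single_apply, Finsupp.single_apply]
  by_cases h : r = r'
  · subst h
    simp
  · rw [if_neg h, if_neg (fun h' => h (emb_injective p h'))]

theorem rho_eq_zero_iff (u : UL) : rho b p z hzc hz u = 0 ↔ u ∈ S b p z hzc hz := by
  unfold S
  rw [Module.Basis.mem_span_image]
  constructor
  · intro h c hc
    by_contra hb
    obtain ⟨r, rfl⟩ := exists_emb_of_not_big p hb
    have h1 := DFunLike.congr_fun h r
    rw [rho_apply, Finsupp.zero_apply] at h1
    exact (Finsupp.mem_support_iff.mp hc) h1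
  · intro h
    ext r
    rw [rho_apply, Finsupp.zero_apply]
    by_contra hne
    exact not_big_emb p r (h (Finsupp.mem_support_iff.mpr hne))

theorem rho_surjective : Function.Surjective (rho b p z hzc hz) := by
  intro f
  induction f using Finsupp.induction_linear with
  | zero => exact ⟨0, map_zero _⟩
  | add f g hf hg =>
    obtain ⟨u, rfl⟩ := hf
    obtain ⟨v, rfl⟩ := hg
    exact ⟨u + v, map_add _ _ _⟩
  | single r a =>
    refine ⟨a • mBasis b p z hzc hz (emb p r), ?_⟩
    rw [map_smul, rho_mBasis_emb, Finsupp.smul_single, smul_eq_mul, mul_one]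

theorem mBasis_emb (r : Fin n → Fin p) :
    mBasis b p z hzc hz (emb p r) = expBasis b (emb p r) := by
  rw [mBasis_apply]
  unfold mvec
  have h1 : (fun i => emb p r i / p) = 0 := by
    funext i
    exact Nat.div_eq_of_lt (r i).2
  have h2 : (fun i => emb p r i % p) = emb p r := by
    funext i
    exact Nat.mod_eq_of_lt (r i).2
  rw [h1, h2, Z_zero, one_mul]

section Quot

variable [hI : (zIdeal (k := k) (L := L) z).IsTwoSided]

include hp in
theorem rho_ker_le : (zIdeal (k := k) (L := L) z).restrictScalars k ≤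
    LinearMap.ker (rho b p z hzc hz) := by
  intro x hx
  rw [LinearMap.mem_ker, rho_eq_zero_iff]
  exact zIdeal_le_S b p hp z hzc hz x hx

/-- The coordinate map on the quotient. -/
noncomputable def rhoBar (h : (zIdeal (k := k) (L := L) z).restrictScalars k ≤
    LinearMap.ker (rho b p z hzc hz)) :
    (UL ⧸ zIdeal (k := k) (L := L) z) →ₗ[k] ((Fin n → Fin p) →₀ k) :=
  Submodule.liftQ ((zIdeal (k := k) (L := L) z).restrictScalars k) (rho b p z hzc hz) h

theorem rhoBar_mk (h : (zIdeal (k := k) (L := L) z).restrictScalars k ≤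
    LinearMap.ker (rho b p z hzc hz)) (u : UL) :
    rhoBar b p z hzc hz h (Ideal.Quotient.mk _ u) = rho b p z hzc hz u := rfl

include hp in
theorem rhoBar_bijective (h : (zIdeal (k := k) (L := L) z).restrictScalars k ≤
    LinearMap.ker (rho b p z hzc hz)) : Function.Bijective (rhoBar b p z hzc hz h) := by
  constructor
  · rw [injective_iff_map_eq_zero]
    intro x hx
    obtain ⟨u, rfl⟩ := Ideal.Quotient.mk_surjective x
    rw [rhoBar_mk, rho_eq_zero_iff] at hx
    exact Ideal.Quotient.eq_zero_iff_mem.mpr (S_le_zIdeal b p hp z hzc hz u hx)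
  · intro f
    obtain ⟨u, rfl⟩ := rho_surjective b p z hzc hz f
    exact ⟨Ideal.Quotient.mk _ u, rfl⟩

/-- **Restricted PBW**: the basis `X^r`, `r : Fin n → Fin p`, of the quotient. -/
noncomputable def uBasis : Module.Basis (Fin n → Fin p) k (UL ⧸ zIdeal (k := k) (L := L) z) :=
  Module.Basis.ofRepr (LinearEquiv.ofBijective (rhoBar b p z hzc hz (rho_ker_le b p hp z hzc hz))
    (rhoBar_bijective b p hp z hzc hz _))

theorem uBasis_apply (r : Fin n → Fin p) :
    uBasis b p hp z hzc hz r = Ideal.Quotient.mk _ (expBasis b (emb p r)) := by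
  unfold uBasis
  apply (LinearEquiv.ofBijective (rhoBar b p z hzc hz (rho_ker_le b p hp z hzc hz))
    (rhoBar_bijective b p hp z hzc hz _)).injective
  have h1 : (LinearEquiv.ofBijective (rhoBar b p z hzc hz (rho_ker_le b p hp z hzc hz))
      (rhoBar_bijective b p hp z hzc hz _))
      ((Module.Basis.ofRepr (LinearEquiv.ofBijective (rhoBar b p z hzc hz
        (rho_ker_le b p hp z hzc hz)) (rhoBar_bijective b p hp z hzc hz _))) r) =
      Finsupp.single r 1 := Module.Basis.repr_self _ r
  rw [h1, LinearEquiv.ofBijective_apply, rhoBar_mk, ← mBasis_emb b p z hzc hz, rho_mBasis_emb]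

end Quot

end Groth.Agent.Lib.RestrPBW58
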