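import Mathlib
import Groth.Agent.Lib.RestrPBW58c
import Groth.Agent.S13773

/-!
# The restricted enveloping algebra of a restricted Lie algebra (helper58)

For a Lie algebra `L` over a commutative ring `k` of characteristic `p` with a basis `b` indexed by
`Fin n` and a `p`-map `φ`: the quotient `u(L)` of the enveloping algebra by the (central) elements
`x^p - φ x`, its basis `X^r` (`r : Fin n → Fin p`), and the restricted embedding `L → u(L)`.
-/

set_option autoImplicit false
set_option linter.unusedSectionVars false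
set_option linter.unusedVariables false

namespace Groth.Agent.Lib.RestrEnv58

open Groth.Agent.Lib.PBW58 Groth.Agent.Lib.RestrPBW58 Groth.Agent.Lib.JacobsonFormula9 PLie

attribute [local instance 100] LieRing.ofAssociativeRing

variable {n : ℕ} {k : Type*} [CommRing k] {p : ℕ} [Fact p.Prime] [CharP k p]
  {L : Type*} [LieRing L] [LieAlgebra k L] (b : Module.Basis (Fin n) k L) (φ : PLie.PMap k p L)

local notation "ιU" => UniversalEnvelopingAlgebra.ι k (L := L)
local notation "UL" => UniversalEnvelopingAlgebra k L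

/-- The elements `x_i^p - φ(x_i)`. -/
noncomputable def zr (i : Fin n) : UL := (ιU (b i)) ^ p - ιU (φ (b i))

theorem zr_eq (i : Fin n) : zr b φ i = Groth.Agent.S13773.z (p := p) b (fun i => φ (b i)) i := rfl

theorem hy (i : Fin n) : LieAlgebra.ad k L (b i) ^ p = LieAlgebra.ad k L (φ (b i)) :=
  (φ.ad_map (b i)).symm

include b in
theorem commute_of_forall_iota (a : UL) (h : ∀ w : L, a * ιU w = ιU w * a) (u : UL) :
    a * u = u * a := by
  have hu : u ∈ Submodule.span k (Set.range (prodU (k := k) b)) := by
    rw [span_prodU_eq_top]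
    exact Submodule.mem_top
  induction hu using Submodule.span_induction with
  | mem x hx =>
    obtain ⟨l, rfl⟩ := hx
    induction l with
    | nil => simp
    | cons i l ih => rw [prodU_cons, ← mul_assoc, h, mul_assoc, ih, mul_assoc]
  | zero => simp
  | add x y _ _ hx hy => rw [mul_add, add_mul, hx, hy]
  | smul c x _ hx => rw [mul_smul_comm, smul_mul_assoc, hx]

theorem zr_mem_center (i : Fin n) : zr b φ i ∈ Subalgebra.center k UL := by
  rw [Subalgebra.mem_center_iff]
  intro u
  symm
  apply commute_of_forall_iota b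
  intro w
  have := Groth.Agent.S13773.z_comm (p := p) b (fun i => φ (b i)) (hy b φ) i w
  rw [LieRing.of_associative_ring_bracket, sub_eq_zero] at this
  exact this

theorem iota_mem_Fil (y : L) : (ιU y : UL) ∈ Fil b 2 := by
  rw [iotaU_eq_sum b y, Finsupp.sum]
  refine Submodule.sum_mem _ fun t _ => Submodule.smul_mem _ _ ?_
  have : (ιU (b t) : UL) = prodU b [t] := by simp
  rw [this]
  exact prodU_mem_Fil b (by simp)

theorem zr_sub_mem (i : Fin n) : zr b φ i - (ιU (b i)) ^ p ∈ Fil b p := by
  have hp : p.Prime := Fact.out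
  unfold zr
  rw [sub_sub_cancel_left]
  exact (Fil b p).neg_mem (Fil_mono b hp.two_le (iota_mem_Fil b _))

/-- The ideal of the restricted enveloping algebra. -/
noncomputable abbrev rIdeal : Ideal UL := zIdeal (zr b φ)

instance : (rIdeal b φ).IsTwoSided := zIdeal_isTwoSided (zr b φ) (zr_mem_center b φ)

/-- The restricted enveloping algebra. -/
abbrev RU : Type _ := UL ⧸ rIdeal b φ

/-- **Restricted PBW**. -/
noncomputable def ruBasis : Module.Basis (Fin n → Fin p) k (RU b φ) :=
  uBasis b p (Fact.out : p.Prime).pos (zr b φ) (zr_mem_center b φ) (zr_sub_mem b φ)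

theorem ruBasis_apply (r : Fin n → Fin p) :
    ruBasis b φ r = Ideal.Quotient.mk (rIdeal b φ) (expBasis b (emb p r)) :=
  uBasis_apply b p _ (zr b φ) (zr_mem_center b φ) (zr_sub_mem b φ) r

instance : Module.Finite k (RU b φ) := Module.Finite.of_basis (ruBasis b φ)

instance : Module.Free k (RU b φ) := Module.Free.of_basis (ruBasis b φ)

/-- `x^p - φ x` as Jacobson's semilinear correction. -/
theorem pow_sub_eq_zeta (x : L) :
    (ιU x : UL) ^ p - ιU (φ x) = Groth.Agent.S13773.ζ (p := p) b (fun i => φ (b i)) x := by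
  have hp : p.Prime := Fact.out
  let S : Submodule k L :=
    { carrier := {x | (ιU x : UL) ^ p - ιU (φ x) =
        Groth.Agent.S13773.ζ (p := p) b (fun i => φ (b i)) x}
      add_mem' := by
        intro x x' hx hx'
        simp only [Set.mem_ofPred_eq] at hx hx' ⊢
        rw [map_add, jacobson_formula k p, Groth.Agent.S13773.ζ_add, φ.map_add, map_sub, map_add,
          Groth.Agent.S13771.map_jacobson (p := p) ιU x x', ← hx, ← hx']
        abel
      zero_mem' := by
        simp only [Set.mem_ofPred_eq]
        have h1 : Groth.Agent.S13773.ζ (p := p) b (fun i => φ (b i)) (0 : L) = 0 := by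
          have := Groth.Agent.S13773.ζ_smul (p := p) b (fun i => φ (b i)) (0 : k) (0 : L)
          rwa [zero_smul, zero_pow hp.ne_zero, zero_smul] at this
        have h2 : φ (0 : L) = 0 := by
          have := φ.map_smul (0 : k) (0 : L)
          rwa [zero_smul, zero_pow hp.ne_zero, zero_smul] at this
        rw [h1, h2, map_zero, zero_pow hp.ne_zero, sub_zero]
      smul_mem' := by
        intro c x hx
        simp only [Set.mem_ofPred_eq] at hx ⊢
        rw [map_smul, smul_pow, Groth.Agent.S13773.ζ_smul, φ.map_smul, map_smul, ← smul_sub, hx] }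
  have hS : S = ⊤ := by
    rw [eq_top_iff, ← b.span_eq, Submodule.span_le]
    rintro _ ⟨i, rfl⟩
    show (ιU (b i) : UL) ^ p - ιU (φ (b i)) = _
    rw [Groth.Agent.S13773.ζ_basis]
    rfl
  have : x ∈ S := hS ▸ Submodule.mem_top
  exact this

theorem pow_sub_mem (x : L) : (ιU x : UL) ^ p - ιU (φ x) ∈ rIdeal b φ := by
  rw [pow_sub_eq_zeta b φ]
  unfold Groth.Agent.S13773.ζ
  rw [Finsupp.sum]
  refine Ideal.sum_mem _ fun i _ => ?_
  rw [Algebra.smul_def]
  exact Ideal.mul_mem_left _ _ (Ideal.subset_span ⟨i, rfl⟩)

/-- The canonical map `L → u(L)`. -/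
noncomputable def iotaR : L →ₗ[k] RU b φ :=
  (Ideal.Quotient.mkₐ k (rIdeal b φ)).toLinearMap ∘ₗ (ιU : L →ₗ⁅k⁆ UL).toLinearMap

theorem iotaR_apply (x : L) : iotaR b φ x = Ideal.Quotient.mk (rIdeal b φ) (ιU x) := rfl

theorem iotaR_lie (x y : L) :
    iotaR b φ ⁅x, y⁆ = iotaR b φ x * iotaR b φ y - iotaR b φ y * iotaR b φ x := by
  rw [iotaR_apply, iotaR_apply, iotaR_apply, LieHom.map_lie, LieRing.of_associative_ring_bracket,
    map_sub, map_mul, map_mul]

theorem iotaR_pmap (x : L) : iotaR b φ (φ x) = iotaR b φ x ^ p := by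
  rw [iotaR_apply, iotaR_apply, ← map_pow]
  symm
  rw [← sub_eq_zero, ← map_sub]
  exact Ideal.Quotient.eq_zero_iff_mem.mpr (pow_sub_mem b φ x)

/-- The restricted exponent vector `e_i`. -/
def unitVec (i : Fin n) : Fin n → Fin p :=
  fun j => if j = i then ⟨1, (Fact.out : p.Prime).one_lt⟩ else ⟨0, (Fact.out : p.Prime).pos⟩

theorem unitVec_injective : Function.Injective (unitVec (n := n) (p := p)) := by
  intro i j h
  have := congrFun h i
  unfold unitVec at this
  rw [if_pos rfl] at this
  by_contra hij
  rw [if_neg hij] at this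
  simpa using congrArg Fin.val this

theorem flat_emb_unitVec (i : Fin n) : flat (emb p (unitVec (p := p) i)) = [i] := by
  have h1 : emb p (unitVec (p := p) i) = fun j => ([i] : List (Fin n)).count j := by
    funext j
    unfold emb unitVec
    by_cases hj : j = i
    · subst hj
      simp
    · rw [if_neg hj]
      have : ¬ (i = j) := fun h => hj h.symm
      simp [this]
  rw [h1]
  exact flat_count (List.sortedLE_iff_pairwise.mpr (List.pairwise_singleton _ i))

theorem ruBasis_unitVec (i : Fin n) : ruBasis b φ (unitVec i) = iotaR b φ (b i) := by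
  rw [ruBasis_apply, expBasis_apply, flat_emb_unitVec, iotaR_apply]
  simp

theorem iotaR_eq_sum (x : L) : iotaR b φ x = ∑ i, b.repr x i • ruBasis b φ (unitVec i) := by
  conv_lhs => rw [← b.sum_repr x, map_sum]
  refine Finset.sum_congr rfl fun i _ => ?_
  rw [map_smul, ruBasis_unitVec]

theorem iotaR_injective : Function.Injective (iotaR b φ) := by
  classical
  rw [injective_iff_map_eq_zero]
  intro x hx
  apply b.repr.injective
  ext j
  have h1 := congrArg (fun v => (ruBasis b φ).repr v (unitVec j)) hx
  simp only [map_zero, Finsupp.zero_apply] at h1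
  rw [iotaR_eq_sum, map_sum, Finsupp.finsetSum_apply] at h1
  rw [Finset.sum_eq_single j] at h1
  · rw [map_smul, Module.Basis.repr_self, Finsupp.smul_apply, Finsupp.single_eq_same, smul_eq_mul,
      mul_one] at h1
    rw [h1, map_zero, Finsupp.zero_apply]
  · intro i _ hij
    rw [map_smul, Module.Basis.repr_self, Finsupp.smul_apply,
      Finsupp.single_eq_of_ne (fun h => hij (unitVec_injective h).symm), smul_zero]
  · intro h
    exact absurd (Finset.mem_univ j) h

theorem one_eq_ruBasis : (1 : RU b φ) = ruBasis b φ (fun _ => ⟨0, (Fact.out : p.Prime).pos⟩) := by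
  rw [ruBasis_apply]
  have : emb p (fun _ : Fin n => (⟨0, (Fact.out : p.Prime).pos⟩ : Fin p)) = 0 := rfl
  rw [this, expBasis_zero, map_one]

end Groth.Agent.Lib.RestrEnv58
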