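import Mathlib
import Groth.Agent.Lib.RestrEnv58
import Groth.Agent.Lib.UEAHopf58

/-!
# The restricted enveloping algebra as a Hopf algebra (helper58)
-/

set_option autoImplicit false
set_option linter.unusedSectionVars false
set_option linter.unusedVariables false

namespace Groth.Agent.Lib.RestrEnv58

open Groth.Agent.Lib.PBW58 Groth.Agent.Lib.RestrPBW58 Groth.Agent.Lib.JacobsonFormula9 PLie
  Groth.Agent.Lib.UEAHopf58 TensorProduct

attribute [local instance 100] LieRing.ofAssociativeRing

variable {n : ℕ} {k : Type*} [CommRing k] {p : ℕ} [Fact p.Prime] [CharP k p]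
  {L : Type*} [LieRing L] [LieAlgebra k L] (b : Module.Basis (Fin n) k L) (φ : PLie.PMap k p L)

local notation "ιU" => UniversalEnvelopingAlgebra.ι k (L := L)
local notation "UL" => UniversalEnvelopingAlgebra k L

omit [CharP k p] in
theorem nontrivial_k [CharP k p] : Nontrivial k :=
  CharP.nontrivial_of_char_ne_one (R := k) (Fact.out : p.Prime).ne_one

theorem charP_tensor : CharP (UL ⊗[k] UL) p := by
  have := nontrivial_k (k := k) (p := p)
  let f : UL ⊗[k] UL →ₐ[k] k :=
    (Algebra.TensorProduct.lmul' k).comp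
      (Algebra.TensorProduct.map (counitAlg k L) (counitAlg k L))
  have : Nontrivial (UL ⊗[k] UL) := f.toRingHom.domain_nontrivial
  exact charP_of_algebra k p (UL ⊗[k] UL)

theorem charP_UL : CharP UL p := by
  have := nontrivial_k (k := k) (p := p)
  have : Nontrivial UL := (counitAlg k L).toRingHom.domain_nontrivial
  exact charP_of_algebra k p UL

theorem comul_zr (i : Fin n) :
    comulAlg k L (zr b φ i) = zr b φ i ⊗ₜ[k] (1 : UL) + (1 : UL) ⊗ₜ[k] zr b φ i := by
  have := charP_tensor (k := k) (p := p) (L := L)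
  unfold zr
  rw [map_sub, map_pow, comulAlg_ι, comulAlg_ι, add_pow_char_of_commute p,
    Algebra.TensorProduct.tmul_pow, Algebra.TensorProduct.tmul_pow, one_pow, sub_tmul, tmul_sub]
  · abel
  · show _ * _ = _ * _
    rw [Algebra.TensorProduct.tmul_mul_tmul, Algebra.TensorProduct.tmul_mul_tmul, one_mul, mul_one]

theorem counit_zr (i : Fin n) : counitAlg k L (zr b φ i) = 0 := by
  unfold zr
  rw [map_sub, map_pow, counitAlg_ι, counitAlg_ι, zero_pow (Fact.out : p.Prime).ne_zero, sub_zero]

theorem anti_pow (a : UL) (m : ℕ) : anti k L (a ^ m) = anti k L a ^ m := by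
  induction m with
  | zero => rw [pow_zero, pow_zero, anti_one]
  | succ m ih => rw [pow_succ, anti_mul, ih, pow_succ']

theorem anti_zr (i : Fin n) : anti k L (zr b φ i) = -(zr b φ i) := by
  have := charP_UL (k := k) (p := p) (L := L)
  unfold zr
  rw [map_sub, anti_pow, anti_ι, anti_ι, neg_pow, neg_one_pow_char UL p]
  noncomm_ring

theorem counit_rIdeal {x : UL} (hx : x ∈ rIdeal b φ) : counitAlg k L x = 0 := by
  have h : rIdeal b φ ≤ RingHom.ker (counitAlg k L).toRingHom := by
    unfold rIdeal zIdeal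
    rw [Ideal.span_le]
    rintro _ ⟨i, rfl⟩
    exact counit_zr b φ i
  exact h hx

/-- `(π ⊗ π) ∘ Δ`. -/
noncomputable def psi : UL →ₐ[k] RU b φ ⊗[k] RU b φ :=
  (Algebra.TensorProduct.map (Ideal.Quotient.mkₐ k (rIdeal b φ))
    (Ideal.Quotient.mkₐ k (rIdeal b φ))).comp (comulAlg k L)

theorem psi_rIdeal {x : UL} (hx : x ∈ rIdeal b φ) : psi b φ x = 0 := by
  have h : rIdeal b φ ≤ RingHom.ker (psi b φ).toRingHom := by
    unfold rIdeal zIdeal
    rw [Ideal.span_le]
    rintro _ ⟨i, rfl⟩
    show psi b φ (zr b φ i) = 0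
    unfold psi
    rw [AlgHom.comp_apply, comul_zr, map_add, Algebra.TensorProduct.map_tmul,
      Algebra.TensorProduct.map_tmul]
    have hz : Ideal.Quotient.mkₐ k (rIdeal b φ) (zr b φ i) = 0 :=
      Ideal.Quotient.eq_zero_iff_mem.mpr (Ideal.subset_span ⟨i, rfl⟩)
    rw [hz, zero_tmul, tmul_zero, add_zero]
  exact h hx

theorem anti_rIdeal {x : UL} (hx : x ∈ rIdeal b φ) : anti k L x ∈ rIdeal b φ := by
  unfold rIdeal zIdeal at hx
  induction hx using Submodule.span_induction with
  | mem x hx =>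
    obtain ⟨i, rfl⟩ := hx
    rw [anti_zr]
    exact (rIdeal b φ).neg_mem (Ideal.subset_span ⟨i, rfl⟩)
  | zero => rw [map_zero]; exact zero_mem _
  | add x y _ _ hx hy => rw [map_add]; exact add_mem hx hy
  | smul a x _ hx =>
    rw [smul_eq_mul, anti_mul]
    exact Ideal.mul_mem_right _ _ hx

instance instIsHopfIdeal : (rIdeal b φ).IsHopfIdeal k where
  counit_eq_zero := fun x hx => counit_rIdeal b φ hx
  map_mkQ_comul_eq_zero := fun x hx => psi_rIdeal b φ hx
  antipode_mem := fun x hx => anti_rIdeal b φ hx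

noncomputable instance : HopfAlgebra k (RU b φ) := inferInstance

end Groth.Agent.Lib.RestrEnv58
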