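import Mathlib
import Groth.Agent.Lib.RestrHopf58
import Groth.Agent.Lib.PrimSplit58

/-!
# The primitive elements of the restricted enveloping algebra (helper58)
-/

set_option autoImplicit false
set_option linter.unusedSectionVars false
set_option linter.unusedVariables false

namespace Groth.Agent.Lib.RestrEnv58

open Groth.Agent.Lib.PBW58 Groth.Agent.Lib.RestrPBW58 PLie
  Groth.Agent.Lib.UEAHopf58 Groth.Agent.Lib.PrimSplit58 TensorProduct

attribute [local instance 100] LieRing.ofAssociativeRing

variable {n : ℕ} {k : Type*} [Field k] {p : ℕ} [Fact p.Prime] [CharP k p]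
  {L : Type*} [LieRing L] [LieAlgebra k L] (b : Module.Basis (Fin n) k L) (φ : PLie.PMap k p L)

local notation "ιU" => UniversalEnvelopingAlgebra.ι k (L := L)
local notation "UL" => UniversalEnvelopingAlgebra k L

theorem comul_mk' (u : UL) :
    Coalgebra.comul (R := k) (Ideal.Quotient.mk (rIdeal b φ) u) =
      TensorProduct.map (Ideal.Quotient.mkₐ k (rIdeal b φ)).toLinearMap
        (Ideal.Quotient.mkₐ k (rIdeal b φ)).toLinearMap (Coalgebra.comul (R := k) u) :=
  Bialgebra.Quotient.comul_mk (rIdeal b φ) u

theorem counit_mk' (u : UL) :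
    Coalgebra.counit (R := k) (Ideal.Quotient.mk (rIdeal b φ) u) = Coalgebra.counit (R := k) u :=
  Bialgebra.Quotient.counit_mk (rIdeal b φ) u

theorem comul_iotaR (x : L) :
    Coalgebra.comul (R := k) (iotaR b φ x) =
      iotaR b φ x ⊗ₜ[k] (1 : RU b φ) + (1 : RU b φ) ⊗ₜ[k] iotaR b φ x := by
  rw [iotaR_apply, comul_mk', comul_ι, map_add, TensorProduct.map_tmul, TensorProduct.map_tmul]
  simp

theorem counit_iotaR (x : L) : Coalgebra.counit (R := k) (iotaR b φ x) = 0 := by
  rw [iotaR_apply, counit_mk', counit_ι]

/-- The generators of the restricted enveloping algebra. -/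
noncomputable def gen (i : Fin n) : RU b φ := iotaR b φ (b i)

theorem prodH_gen (l : List (Fin n)) :
    prodH (gen b φ) l = Ideal.Quotient.mk (rIdeal b φ) (prodU b l) := by
  induction l with
  | nil => simp
  | cons a l ih =>
    rw [prodH_cons, ih, prodU_cons, map_mul]
    rfl

theorem ruBasis_eq_prodH (r : Fin n → Fin p) :
    ruBasis b φ r = prodH (gen b φ) (flat (emb p r)) := by
  rw [ruBasis_apply, expBasis_apply, prodH_gen]

/-- The restricted exponent vector of a sublist of a restricted sorted word. -/
def subVec (r : Fin n → Fin p) (t : List (Fin n)) (ht : t.Sublist (flat (emb p r))) :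
    Fin n → Fin p :=
  fun i => ⟨t.count i, lt_of_le_of_lt (ht.count_le i) (by rw [count_flat]; exact (r i).2)⟩

theorem prodH_sublist (r : Fin n → Fin p) (t : List (Fin n))
    (ht : t.Sublist (flat (emb p r))) :
    prodH (gen b φ) t = ruBasis b φ (subVec r t ht) := by
  rw [ruBasis_eq_prodH]
  congr 1
  have hs : t.SortedLE := by
    rw [List.sortedLE_iff_pairwise]
    exact ((List.sortedLE_iff_pairwise.mp (sorted_flat _)).sublist ht)
  exact (flat_count hs).symm

/-- The coordinate functional at `x_j`. -/
noncomputable def xi (j : Fin n) : RU b φ →ₗ[k] k := (ruBasis b φ).coord (unitVec j)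

theorem xi_prodH_sublist (r : Fin n → Fin p) (j : Fin n) (t : List (Fin n))
    (ht : t.Sublist (flat (emb p r))) :
    xi b φ j (prodH (gen b φ) t) = if t = [j] then 1 else 0 := by
  classical
  rw [prodH_sublist b φ r t ht]
  unfold xi
  rw [Module.Basis.coord_apply, Module.Basis.repr_self, Finsupp.single_apply]
  by_cases h : t = [j]
  · rw [if_pos h, if_pos]
    subst h
    funext i
    apply Fin.ext
    unfold subVec unitVec
    by_cases hi : i = j
    · subst hi
      simp
    · have : ¬ (j = i) := fun h => hi h.symm
      simp [hi, this]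
  · rw [if_neg h, if_neg]
    intro h2
    apply h
    have h3 : t.Perm [j] := by
      rw [List.perm_iff_count]
      intro i
      have := congrArg (fun f => (f i : ℕ)) h2
      unfold subVec unitVec at this
      simp only at this
      rw [this]
      by_cases hi : i = j
      · subst hi
        simp
      · have : ¬ (j = i) := fun h => hi h.symm
        simp [hi, this]
    exact List.perm_singleton.mp h3

/-- Lower the `j`-th exponent by one. -/
def predVec (j : Fin n) (r : Fin n → Fin p) : Fin n → Fin p :=
  Function.update r j ⟨(r j : ℕ) - 1, lt_of_le_of_lt (Nat.sub_le _ _) (r j).2⟩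

theorem flat_erase (j : Fin n) (r : Fin n → Fin p) (hr : 0 < (r j : ℕ)) :
    (flat (emb p r)).erase j = flat (emb p (predVec j r)) := by
  apply List.Perm.eq_of_sortedLE
  · rw [List.sortedLE_iff_pairwise]
    exact (List.sortedLE_iff_pairwise.mp (sorted_flat _)).sublist List.erase_sublist
  · exact sorted_flat _
  · rw [List.perm_iff_count]
    intro i
    rw [List.count_erase, count_flat, count_flat]
    unfold emb predVec
    by_cases hi : i = j
    · subst hi
      simp
    · have : ¬ (j = i) := fun h => hi h.symm
      simp [Function.update_of_ne hi, this]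

theorem Theta_xi_ruBasis (j : Fin n) (r : Fin n → Fin p) :
    Theta (xi b φ j) (ruBasis b φ r) = ((r j : ℕ) : k) • ruBasis b φ (predVec j r) := by
  rw [ruBasis_eq_prodH, Theta_prodH_sorted (gen b φ) (fun i => comul_iotaR b φ (b i)) (xi b φ j) j
    (flat (emb p r)) (List.sortedLE_iff_pairwise.mp (sorted_flat _))
    (fun t ht => xi_prodH_sublist b φ r j t ht), count_flat]
  show ((r j : ℕ)) • _ = _
  by_cases hr : 0 < (r j : ℕ)
  · rw [flat_erase j r hr, ← ruBasis_eq_prodH, Nat.cast_smul_eq_nsmul]
  · have : (r j : ℕ) = 0 := by omega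
    rw [this, zero_smul, Nat.cast_zero, zero_smul]

/-- The zero exponent vector. -/
def zeroVec : Fin n → Fin p := fun _ => ⟨0, (Fact.out : p.Prime).pos⟩

theorem one_eq_ruBasis' : (1 : RU b φ) = ruBasis b φ zeroVec := one_eq_ruBasis b φ

theorem unitVec_ne_zeroVec (j : Fin n) : unitVec (p := p) j ≠ zeroVec := by
  intro h
  have := congrArg (fun f => (f j : ℕ)) h
  unfold unitVec zeroVec at this
  simp at this

/-- Raise the `j`-th exponent by one. -/
def succVec (j : Fin n) (s : Fin n → Fin p) (h : (s j : ℕ) + 1 < p) : Fin n → Fin p :=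
  Function.update s j ⟨(s j : ℕ) + 1, h⟩

theorem predVec_succVec (j : Fin n) (s : Fin n → Fin p) (h : (s j : ℕ) + 1 < p) :
    predVec j (succVec j s h) = s := by
  unfold predVec succVec
  funext i
  by_cases hi : i = j
  · subst hi
    simp
  · simp [Function.update_of_ne hi]

theorem succVec_predVec (j : Fin n) (r : Fin n → Fin p) (hr : 0 < (r j : ℕ))
    (h : ((predVec j r) j : ℕ) + 1 < p) : succVec j (predVec j r) h = r := by
  unfold predVec succVec
  funext i
  by_cases hi : i = j
  · subst hi
    apply Fin.ext
    simp
    omega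
  · simp [Function.update_of_ne hi]

theorem coord_Theta (j : Fin n) (s : Fin n → Fin p) (h : (s j : ℕ) + 1 < p) (w : RU b φ) :
    (ruBasis b φ).coord s (Theta (xi b φ j) w) =
      (((s j : ℕ) + 1 : ℕ) : k) * (ruBasis b φ).repr w (succVec j s h) := by
  classical
  have key : (ruBasis b φ).coord s ∘ₗ Theta (xi b φ j) =
      (((s j : ℕ) + 1 : ℕ) : k) • (ruBasis b φ).coord (succVec j s h) := by
    apply (ruBasis b φ).ext
    intro r'
    rw [LinearMap.comp_apply, Theta_xi_ruBasis, map_smul, LinearMap.smul_apply,
      Module.Basis.coord_apply, Module.Basis.coord_apply, Module.Basis.repr_self,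
      Module.Basis.repr_self, Finsupp.single_apply, Finsupp.single_apply, smul_eq_mul, smul_eq_mul]
    by_cases h1 : r' = succVec j s h
    · subst h1
      rw [if_pos (predVec_succVec j s h), if_pos rfl]
      unfold succVec
      simp
    · rw [if_neg h1, mul_zero]
      by_cases h2 : predVec j r' = s
      · rw [if_pos h2, mul_one]
        by_cases h3 : 0 < (r' j : ℕ)
        · exfalso
          apply h1
          subst h2
          exact (succVec_predVec j r' h3 h).symm
        · have : (r' j : ℕ) = 0 := by omega
          rw [this, Nat.cast_zero]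
      · rw [if_neg h2, mul_zero]
  have := LinearMap.congr_fun key w
  rw [LinearMap.comp_apply, LinearMap.smul_apply, Module.Basis.coord_apply, smul_eq_mul] at this
  exact this

theorem counit_ruBasis (r : Fin n → Fin p) :
    Coalgebra.counit (R := k) (ruBasis b φ r) = if r = zeroVec then 1 else 0 := by
  by_cases h : r = zeroVec
  · rw [if_pos h, h, ← one_eq_ruBasis', Bialgebra.counit_one]
  · rw [if_neg h, ruBasis_eq_prodH]
    have hne : flat (emb p r) ≠ [] := by
      intro h0
      apply h
      have h1 := length_flat (emb p r)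
      rw [h0, List.length_nil] at h1
      funext i
      apply Fin.ext
      have h2 : emb p r i = 0 := by
        have := Finset.sum_eq_zero_iff.mp h1.symm i (Finset.mem_univ i)
        exact this
      exact h2
    obtain ⟨i, l, hl⟩ := List.exists_cons_of_ne_nil hne
    rw [hl, prodH_cons, Bialgebra.counit_mul]
    unfold gen
    rw [counit_iotaR, zero_mul]

theorem counit_eq_coord : (Coalgebra.counit : RU b φ →ₗ[k] k) = (ruBasis b φ).coord zeroVec := by
  classical
  apply (ruBasis b φ).ext
  intro r
  rw [counit_ruBasis, Module.Basis.coord_apply, Module.Basis.repr_self, Finsupp.single_apply]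

/-- The primitive elements of the restricted enveloping algebra are the elements of `L`. -/
theorem mem_range_iotaR_of_primitive (w : RU b φ)
    (hw : Coalgebra.comul (R := k) w = w ⊗ₜ[k] (1 : RU b φ) + (1 : RU b φ) ⊗ₜ[k] w) :
    w ∈ LinearMap.range (iotaR b φ) := by
  classical
  have hp : p.Prime := Fact.out
  have hxi1 : ∀ j, xi b φ j (1 : RU b φ) = 0 := by
    intro j
    unfold xi
    rw [one_eq_ruBasis', Module.Basis.coord_apply, Module.Basis.repr_self,
      Finsupp.single_eq_of_ne (unitVec_ne_zeroVec j)]
  have hθ : ∀ j, Theta (xi b φ j) w = xi b φ j w • (1 : RU b φ) := by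
    intro j
    unfold Theta
    rw [LinearMap.comp_apply, LinearMap.comp_apply, hw, map_add, LinearMap.lTensor_tmul,
      LinearMap.lTensor_tmul, map_add, hxi1]
    rw [tmul_zero, map_zero, zero_add, LinearEquiv.coe_coe, TensorProduct.rid_tmul]
  have hε : Coalgebra.counit (R := k) w = 0 := by
    have h1 := congrArg (fun t => TensorProduct.lid k (RU b φ)
      ((LinearMap.rTensor (RU b φ) (Coalgebra.counit (R := k))) t)) hw
    rw [Coalgebra.rTensor_counit_comul] at h1
    simp only [map_add, LinearMap.rTensor_tmul, TensorProduct.lid_tmul, Bialgebra.counit_one,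
      one_smul] at h1
    have h2 : Coalgebra.counit (R := k) w • (1 : RU b φ) = 0 := by
      have h5 : (0 : RU b φ) + w = Coalgebra.counit (R := k) w • (1 : RU b φ) + w := by
        rw [zero_add]
        exact h1
      exact (add_right_cancel h5).symm
    have h3 := congrArg (Coalgebra.counit (R := k)) h2
    rw [map_smul, Bialgebra.counit_one, smul_eq_mul, mul_one, map_zero] at h3
    exact h3
  have ha0 : (ruBasis b φ).repr w zeroVec = 0 := by
    rw [← Module.Basis.coord_apply, ← counit_eq_coord, hε]
  have ha : ∀ r : Fin n → Fin p, r ≠ zeroVec → (∀ j, r ≠ unitVec j) →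
      (ruBasis b φ).repr w r = 0 := by
    intro r hr0 hru
    have hex : ∃ j, 0 < (r j : ℕ) := by
      by_contra hcon
      push Not at hcon
      apply hr0
      funext i
      apply Fin.ext
      have := hcon i
      unfold zeroVec
      simp only
      omega
    obtain ⟨j, hj⟩ := hex
    have hlt : ((predVec j r) j : ℕ) + 1 < p := by
      unfold predVec
      simp only [Function.update_self]
      have := (r j).2
      omega
    have h1 := coord_Theta b φ j (predVec j r) hlt w
    rw [hθ, map_smul, one_eq_ruBasis', Module.Basis.coord_apply, Module.Basis.repr_self,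
      succVec_predVec j r hj hlt] at h1
    have hs : predVec j r ≠ zeroVec := by
      intro h0
      apply hru j
      rw [← succVec_predVec j r hj hlt]
      funext i
      unfold succVec unitVec
      by_cases hi : i = j
      · subst hi
        apply Fin.ext
        simp [h0, zeroVec]
      · rw [Function.update_of_ne hi, h0, if_neg hi]
        rfl
    rw [Finsupp.single_eq_of_ne hs, smul_zero] at h1
    have hc : ((((predVec j r) j : ℕ) + 1 : ℕ) : k) ≠ 0 := by
      rw [Ne, CharP.cast_eq_zero_iff k p]
      intro hdvd
      exact absurd (Nat.le_of_dvd (Nat.succ_pos _) hdvd) (not_le.mpr hlt)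
    rcases mul_eq_zero.mp h1.symm with h2 | h2
    · exact absurd h2 hc
    · exact h2
  rw [← (ruBasis b φ).sum_repr w]
  refine Submodule.sum_mem _ fun r _ => ?_
  by_cases h0 : r = zeroVec
  · rw [h0, ha0, zero_smul]
    exact zero_mem _
  · by_cases hu : ∃ j, r = unitVec j
    · obtain ⟨j, rfl⟩ := hu
      rw [ruBasis_unitVec]
      exact Submodule.smul_mem _ _ ⟨_, rfl⟩
    · push Not at hu
      rw [ha r h0 hu, zero_smul]
      exact zero_mem _

end Groth.Agent.Lib.RestrEnv58
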