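import Mathlib
import Groth.Agent.Lib.RestrPrim58
import Groth.Agent.Lib.HopfDualDer58

/-!
# The height-one group scheme of a restricted Lie algebra (helper58)
-/

set_option autoImplicit false
set_option linter.unusedSectionVars false
set_option linter.unusedVariables false

namespace Groth.Agent.Lib.RestrEnv58

open Groth.Agent.Lib.PBW58 Groth.Agent.Lib.RestrPBW58 PLie
  Groth.Agent.Lib.UEAHopf58 Groth.Agent.Lib.HopfDualDer58 TensorProduct

attribute [local instance 100] LieRing.ofAssociativeRing

variable {n : ℕ} {k : Type*} [Field k] {p : ℕ} [Fact p.Prime] [CharP k p]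
  {L : Type*} [LieRing L] [LieAlgebra k L] (b : Module.Basis (Fin n) k L) (φ : PLie.PMap k p L)

local notation "ιU" => UniversalEnvelopingAlgebra.ι k (L := L)
local notation "UL" => UniversalEnvelopingAlgebra k L

theorem map_comm_aux {M N : Type*} [AddCommGroup M] [Module k M] [AddCommGroup N] [Module k N]
    (f : M →ₗ[k] N) (t : M ⊗[k] M) :
    TensorProduct.comm k N N (TensorProduct.map f f t) =
      TensorProduct.map f f (TensorProduct.comm k M M t) := by
  induction t using TensorProduct.induction_on with
  | zero => simp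
  | tmul a c => simp
  | add t t' ht ht' => simp only [map_add, ht, ht']

instance instIsCocommRU : Coalgebra.IsCocomm k (RU b φ) := by
  constructor
  apply LinearMap.ext
  intro x
  obtain ⟨u, rfl⟩ := Ideal.Quotient.mk_surjective x
  rw [LinearMap.comp_apply, comul_mk', LinearEquiv.coe_coe, map_comm_aux]
  congr 1
  exact LinearMap.congr_fun (Coalgebra.comm_comp_comul k UL) u

/-- The dual of the restricted enveloping algebra. -/
abbrev GA : Type _ := CartDual.D k (RU b φ)

/-- The invariant derivation attached to `x ∈ L`. -/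
noncomputable def eDer : L →ₗ[k] Derivation k (GA b φ) (GA b φ) where
  toFun x := Derivation.mk' (rmul k (RU b φ) (iotaR b φ x)) (by
    intro f g
    rw [rmul_mul_of_primitive k (RU b φ) (iotaR b φ x) (comul_iotaR b φ x), smul_eq_mul,
      smul_eq_mul, mul_comm (rmul k (RU b φ) (iotaR b φ x) f) g, add_comm])
  map_add' x y := by
    apply Derivation.ext
    intro f
    show rmul k (RU b φ) (iotaR b φ (x + y)) f =
      rmul k (RU b φ) (iotaR b φ x) f + rmul k (RU b φ) (iotaR b φ y) f
    rw [map_add, map_add, LinearMap.add_apply]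
  map_smul' c x := by
    apply Derivation.ext
    intro f
    show rmul k (RU b φ) (iotaR b φ (c • x)) f = c • rmul k (RU b φ) (iotaR b φ x) f
    rw [map_smul, map_smul, LinearMap.smul_apply]

theorem eDer_apply (x : L) (f : GA b φ) : eDer b φ x f = rmul k (RU b φ) (iotaR b φ x) f := rfl

theorem eDer_toLinearMap (x : L) :
    (eDer b φ x).toLinearMap = rmul k (RU b φ) (iotaR b φ x) := rfl

theorem eDer_injective : Function.Injective (eDer b φ) := by
  rw [injective_iff_map_eq_zero]
  intro x hx
  apply iotaR_injective b φ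
  rw [map_zero, ← Module.forall_dual_apply_eq_zero_iff k]
  intro F
  have h1 := congrArg (fun D : Derivation k (GA b φ) (GA b φ) =>
    (D (WithConv.toConv F : GA b φ)) (1 : RU b φ)) hx
  have h2 : (eDer b φ x (WithConv.toConv F : GA b φ)) (1 : RU b φ) = F (iotaR b φ x) := by
    rw [eDer_apply, rmul_apply, one_mul]
  rw [← h2]
  exact h1

theorem eDer_lie (x y : L) : eDer b φ ⁅x, y⁆ = ⁅eDer b φ x, eDer b φ y⁆ := by
  apply Derivation.ext
  intro f
  rw [Derivation.commutator_apply, eDer_apply, eDer_apply, eDer_apply, eDer_apply, eDer_apply,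
    iotaR_lie, map_sub, map_mul, map_mul]
  rfl

theorem eDer_pmap (x : L) :
    (eDer b φ (φ x)).toLinearMap = (eDer b φ x).toLinearMap ^ p := by
  rw [eDer_toLinearMap, eDer_toLinearMap, iotaR_pmap, map_pow]

theorem range_eDer :
    Set.range (eDer b φ) = {D : Derivation k (GA b φ) (GA b φ) |
      CoalgebraStruct.comul (R := k) (A := GA b φ) ∘ₗ D.toLinearMap =
        LinearMap.lTensor (GA b φ) D.toLinearMap ∘ₗ
          CoalgebraStruct.comul (R := k) (A := GA b φ)} := by
  apply Set.eq_of_subset_of_subset
  · rintro _ ⟨x, rfl⟩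
    show _ = _
    apply LinearMap.ext
    intro f
    rw [LinearMap.comp_apply, LinearMap.comp_apply, eDer_toLinearMap]
    exact comul_rmul k (RU b φ) (iotaR b φ x) f
  · intro D hD
    obtain ⟨h, hh⟩ := exists_rmul_of_leftInvariant k (RU b φ) D.toLinearMap hD
    have hL : ∀ f g : GA b φ, rmul k (RU b φ) h (f * g) =
        rmul k (RU b φ) h f * g + f * rmul k (RU b φ) h g := by
      intro f g
      rw [← hh]
      show D (f * g) = D f * g + f * D g
      rw [D.leibniz, smul_eq_mul, smul_eq_mul, mul_comm g (D f), add_comm]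
    have hprim := primitive_of_leibniz k (RU b φ) h hL
    obtain ⟨x, rfl⟩ := mem_range_iotaR_of_primitive b φ h hprim
    refine ⟨x, ?_⟩
    apply Derivation.ext
    intro f
    rw [eDer_apply]
    exact (LinearMap.congr_fun hh f).symm

theorem pow_eq_zero_of_apply_one (f : GA b φ) (hf : f (1 : RU b φ) = 0) : f ^ p = 0 := by
  have hp : p.Prime := Fact.out
  apply WithConv.ofConv_injective
  apply LinearMap.ext
  intro w
  obtain ⟨u, rfl⟩ := Ideal.Quotient.mk_surjective w
  show (f ^ p) (Ideal.Quotient.mk (rIdeal b φ) u) = 0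
  revert u
  refine induction_right ?_ ?_ ?_ ?_
  · rw [map_one, pow_apply_one, hf, zero_pow hp.ne_zero]
  · intro u v hu hv
    rw [map_add, CartDual.coe_apply, map_add, ← CartDual.coe_apply, ← CartDual.coe_apply, hu, hv,
      add_zero]
  · intro r u hu
    have h1 : Ideal.Quotient.mk (rIdeal b φ) (r • u) = r • Ideal.Quotient.mk (rIdeal b φ) u := rfl
    rw [h1, CartDual.coe_apply, map_smul, ← CartDual.coe_apply, hu, smul_zero]
  · intro x u _
    rw [map_mul]
    have h1 : (f ^ p) (Ideal.Quotient.mk (rIdeal b φ) u *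
        Ideal.Quotient.mk (rIdeal b φ) (ιU x)) =
        (eDer b φ x (f ^ p)) (Ideal.Quotient.mk (rIdeal b φ) u) := rfl
    rw [h1, Derivation.leibniz_pow, ← Nat.cast_smul_eq_nsmul k, CharP.cast_eq_zero k p, zero_smul]
    rfl

end Groth.Agent.Lib.RestrEnv58
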