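/-
helper35: NATURALITY of helper42's `OXModRestrict.restrictTensorIso` (restriction of O_X-modules to an open subscheme
commutes with `tensorMod`), and the complex-level consequence:
`restrictCx (K ⊗ L) ≅ (restrictCx K) ⊗ (restrictCx L)` for `DCoh.tensorCx`.
-/
import Groth.Agent.Lib.OXModRestrict
import Groth.Agent.Lib.TotalFunctor66
import Groth.Prelude.Def_DCoh4

set_option autoImplicit false
universe u
open CategoryTheory CategoryTheory.Limits MonoidalCategory Opposite TopologicalSpace AlgebraicGeometry CohB1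

namespace Groth.Agent.Lib.RestrictTensorNat35

open Groth.Agent.Lib.OXModTensorW Groth.Agent.Lib.OXModTensor Groth.Agent.Lib.OXModRestrict

variable {U X : Scheme.{u}} (f : U ⟶ X) [IsOpenImmersion f]

/-- `resPre` is compatible with the forgetful functors. -/
lemma resPre_map_fg {M M' : X.Modules} (φ : M ⟶ M') :
    (resPre f).map ((fg X).map φ) = (fg U).map ((Scheme.Modules.restrictFunctor f).map φ) := rfl

lemma isoOfLocBij_hom {X : Scheme.{u}} {P : PMod X} {F : X.Modules} (g : P ⟶ toPMod F) (hi : LocInj g)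
    (hs : LocSurj g) :
    (isoOfLocBij g hi hs).hom = (sh X).map g ≫ (adj (X := X)).counit.app F := rfl

lemma shResIso_hom (P : PMod X) :
    (shResIso f P).hom = (sh U).map ((resPre f).map (η P)) ≫
      (adj (X := U)).counit.app (((sh X).obj P).restrict f) := rfl

/-- naturality of `shResIso` -/
lemma shResIso_naturality {P P' : PMod X} (φ : P ⟶ P') :
    (sh U).map ((resPre f).map φ) ≫ (shResIso f P').hom =
      (shResIso f P).hom ≫ (Scheme.Modules.restrictFunctor f).map ((sh X).map φ) := by
  have hη : φ ≫ η P' = η P ≫ (fg X).map ((sh X).map φ) := (adj (X := X)).unit.naturality φ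
  have hc : (sh U).map ((fg U).map ((Scheme.Modules.restrictFunctor f).map ((sh X).map φ))) ≫
      (adj (X := U)).counit.app (((sh X).obj P').restrict f) =
      (adj (X := U)).counit.app (((sh X).obj P).restrict f) ≫
        (Scheme.Modules.restrictFunctor f).map ((sh X).map φ) :=
    (adj (X := U)).counit.naturality ((Scheme.Modules.restrictFunctor f).map ((sh X).map φ))
  have h1 : (sh U).map ((resPre f).map φ) ≫ (sh U).map ((resPre f).map (η P')) =
      (sh U).map ((resPre f).map (η P)) ≫
        (sh U).map ((fg U).map ((Scheme.Modules.restrictFunctor f).map ((sh X).map φ))) :=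
    (((sh U).map_comp _ _).symm.trans
      ((congrArg (sh U).map ((resPre f).map_comp _ _).symm).trans
        ((congrArg (fun t => (sh U).map ((resPre f).map t)) hη).trans
          ((congrArg (sh U).map ((resPre f).map_comp _ _)).trans ((sh U).map_comp _ _)))))
  rw [shResIso_hom, shResIso_hom]
  exact (Category.assoc _ _ _).symm.trans ((congrArg (· ≫ _) h1).trans
    ((Category.assoc _ _ _).trans ((congrArg (_ ≫ ·) hc).trans (Category.assoc _ _ _).symm)))

end Groth.Agent.Lib.RestrictTensorNat35

namespace Groth.Agent.Lib.RestrictTensorNat35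

open Groth.Agent.Lib.OXModTensorW Groth.Agent.Lib.OXModTensor Groth.Agent.Lib.OXModRestrict

section Presheaf

variable {C : Type*} [Category C] {S R' : Cᵒᵖ ⥤ CommRingCat.{u}} (ψ : S ⟶ R')

open Functor.LaxMonoidal

lemma rsμ_natural {P P' Q Q' : PresheafOfModules.{u} (R' ⋙ forget₂ _ RingCat)} (a : P ⟶ P') (b : Q ⟶ Q') :
    ((rs ψ).map a ⊗ₘ (rs ψ).map b) ≫ rsμ ψ P' Q' = rsμ ψ P Q ≫ (rs ψ).map (a ⊗ₘ b) := by
  ext1 X
  exact μ_natural (ModuleCat.restrictScalars (ψ.app X).hom) (a.app X) (b.app X)

end Presheaf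


variable {U X : Scheme.{u}} (f : U ⟶ X) [IsOpenImmersion f]

lemma resPreTensorIso_hom (P Q : PMod X) :
    (resPreTensorIso f P Q).hom = rsμ (ringMap f) _ _ ≫ (rs (ringMap f)).map
      (Functor.LaxMonoidal.μ (PresheafOfModules.pushforward₀OfCommRingCat f.opensFunctor X.presheaf) P Q) := rfl

/-- naturality of `resPreTensorIso` -/
lemma resPreTensorIso_naturality {P P' Q Q' : PMod X} (a : P ⟶ P') (b : Q ⟶ Q') :
    ((resPre f).map a ⊗ₘ (resPre f).map b) ≫ (resPreTensorIso f P' Q').hom =
      (resPreTensorIso f P Q).hom ≫ (resPre f).map (a ⊗ₘ b) := by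
  have h1 := rsμ_natural (ringMap f)
    ((PresheafOfModules.pushforward₀OfCommRingCat f.opensFunctor X.presheaf).map a)
    ((PresheafOfModules.pushforward₀OfCommRingCat f.opensFunctor X.presheaf).map b)
  have h2 := Functor.LaxMonoidal.μ_natural
    (PresheafOfModules.pushforward₀OfCommRingCat f.opensFunctor X.presheaf) a b
  rw [resPreTensorIso_hom, resPreTensorIso_hom]
  refine (Category.assoc _ _ _).symm.trans ((congrArg (· ≫ _) h1).trans ((Category.assoc _ _ _).trans ?_))
  refine (congrArg (_ ≫ ·) ?_).trans (Category.assoc _ _ _).symm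
  exact ((rs (ringMap f)).map_comp _ _).symm.trans
    ((congrArg (rs (ringMap f)).map h2).trans ((rs (ringMap f)).map_comp _ _))


/-- presheaf-level comparison: `a(res P ⊗ res Q) ⟶ (a (P ⊗ Q))|_U` -/
noncomputable def θ (P Q : PMod X) :
    (sh U).obj ((resPre f).obj P ⊗ (resPre f).obj Q) ⟶ ((sh X).obj (P ⊗ Q)).restrict f :=
  (sh U).map (resPreTensorIso f P Q).hom ≫ (shResIso f (P ⊗ Q)).hom

lemma θ_naturality {P P' Q Q' : PMod X} (a : P ⟶ P') (b : Q ⟶ Q') :
    (sh U).map ((resPre f).map a ⊗ₘ (resPre f).map b) ≫ θ f P' Q' =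
      θ f P Q ≫ (Scheme.Modules.restrictFunctor f).map ((sh X).map (a ⊗ₘ b)) := by
  have h1 := resPreTensorIso_naturality f a b
  have h2 := shResIso_naturality f (a ⊗ₘ b)
  have h3 : (sh U).map ((resPre f).map a ⊗ₘ (resPre f).map b) ≫
      (sh U).map (resPreTensorIso f P' Q').hom =
      (sh U).map (resPreTensorIso f P Q).hom ≫ (sh U).map ((resPre f).map (a ⊗ₘ b)) :=
    ((sh U).map_comp _ _).symm.trans ((congrArg (sh U).map h1).trans ((sh U).map_comp _ _))
  unfold θ
  exact (Category.assoc _ _ _).symm.trans ((congrArg (· ≫ _) h3).trans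
    ((Category.assoc _ _ _).trans ((congrArg (_ ≫ ·) h2).trans (Category.assoc _ _ _).symm)))


lemma θ_naturality_left {P P' : PMod X} (a : P ⟶ P') (Q : PMod X) :
    (sh U).map ((resPre f).map a ▷ (resPre f).obj Q) ≫ θ f P' Q =
      θ f P Q ≫ (Scheme.Modules.restrictFunctor f).map ((sh X).map (a ▷ Q)) := by
  have h := θ_naturality f a (𝟙 Q)
  rw [CategoryTheory.Functor.map_id, tensorHom_id, tensorHom_id] at h
  exact h

lemma θ_naturality_right (P : PMod X) {Q Q' : PMod X} (b : Q ⟶ Q') :
    (sh U).map ((resPre f).obj P ◁ (resPre f).map b) ≫ θ f P Q' =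
      θ f P Q ≫ (Scheme.Modules.restrictFunctor f).map ((sh X).map (P ◁ b)) := by
  have h := θ_naturality f (𝟙 P) b
  rw [CategoryTheory.Functor.map_id, id_tensorHom, id_tensorHom] at h
  exact h

lemma restrictTensorIso_inv_eq (M N : X.Modules) :
    (restrictTensorIso f M N).inv = θ f (toPMod M) (toPMod N) := rfl


/-- `restrictTensorIso`, typed with `DCoh.tensorBi` -/
noncomputable def rtIso (M N : X.Modules) :
    (Scheme.Modules.restrictFunctor f).obj ((DCoh.tensorBi.obj M).obj N) ≅
      (DCoh.tensorBi.obj ((Scheme.Modules.restrictFunctor f).obj M)).obj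
        ((Scheme.Modules.restrictFunctor f).obj N) :=
  restrictTensorIso f M N

lemma rtIso_inv (M N : X.Modules) : (rtIso f M N).inv = θ f (toPMod M) (toPMod N) := rfl

theorem inv_naturality_left {M M' : X.Modules} (φ : M ⟶ M') (N : X.Modules) :
    (DCoh.tensorBi.map ((Scheme.Modules.restrictFunctor f).map φ)).app
        ((Scheme.Modules.restrictFunctor f).obj N) ≫ (rtIso f M' N).inv =
      (rtIso f M N).inv ≫
        (Scheme.Modules.restrictFunctor f).map ((DCoh.tensorBi.map φ).app N) :=
  θ_naturality_left f (show toPMod M ⟶ toPMod M' from φ.val) (toPMod N)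

theorem inv_naturality_right (M : X.Modules) {N N' : X.Modules} (ψ : N ⟶ N') :
    (DCoh.tensorBi.obj ((Scheme.Modules.restrictFunctor f).obj M)).map
        ((Scheme.Modules.restrictFunctor f).map ψ) ≫ (rtIso f M N').inv =
      (rtIso f M N).inv ≫
        (Scheme.Modules.restrictFunctor f).map ((DCoh.tensorBi.obj M).map ψ) :=
  θ_naturality_right f (toPMod M) (show toPMod N ⟶ toPMod N' from ψ.val)

theorem hom_naturality_left {M M' : X.Modules} (φ : M ⟶ M') (N : X.Modules) :
    (Scheme.Modules.restrictFunctor f).map ((DCoh.tensorBi.map φ).app N) ≫ (rtIso f M' N).hom =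
      (rtIso f M N).hom ≫
        (DCoh.tensorBi.map ((Scheme.Modules.restrictFunctor f).map φ)).app
          ((Scheme.Modules.restrictFunctor f).obj N) := by
  rw [← cancel_epi (rtIso f M N).inv, ← cancel_mono (rtIso f M' N).inv]
  simp only [Category.assoc, Iso.hom_inv_id, Category.comp_id, Iso.inv_hom_id_assoc]
  exact (inv_naturality_left f φ N).symm

theorem hom_naturality_right (M : X.Modules) {N N' : X.Modules} (ψ : N ⟶ N') :
    (Scheme.Modules.restrictFunctor f).map ((DCoh.tensorBi.obj M).map ψ) ≫ (rtIso f M N').hom =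
      (rtIso f M N).hom ≫
        (DCoh.tensorBi.obj ((Scheme.Modules.restrictFunctor f).obj M)).map
          ((Scheme.Modules.restrictFunctor f).map ψ) := by
  rw [← cancel_epi (rtIso f M N).inv, ← cancel_mono (rtIso f M N').inv]
  simp only [Category.assoc, Iso.hom_inv_id, Category.comp_id, Iso.inv_hom_id_assoc]
  exact (inv_naturality_right f M ψ).symm

end Groth.Agent.Lib.RestrictTensorNat35

namespace Groth.Agent.Lib.RestrictTensorNat35

open Groth.Agent.Lib.OXModRestrict Groth.Agent.Lib.TotalFunctor66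

variable {U X : Scheme.{u}} (f : U ⟶ X) [IsOpenImmersion f]

/-- restriction of complexes along an open immersion -/
noncomputable abbrev resCx : CochainComplex X.Modules ℤ ⥤ CochainComplex U.Modules ℤ :=
  (Scheme.Modules.restrictFunctor f).mapHomologicalComplex (ComplexShape.up ℤ)

/-- the bicomplex `L^p ⊗ E^q` -/
noncomputable abbrev tensorBicx {Y : Scheme.{u}} (L E : CochainComplex Y.Modules ℤ) :
    HomologicalComplex₂ Y.Modules (ComplexShape.up ℤ) (ComplexShape.up ℤ) :=
  (((DCoh.tensorBi (X := Y)).mapBifunctorHomologicalComplex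
    (ComplexShape.up ℤ) (ComplexShape.up ℤ)).obj L).obj E

/-- the bicomplex `(L^p ⊗ E^q)|_U` -/
noncomputable abbrev B₁ (L E : CochainComplex X.Modules ℤ) :
    HomologicalComplex₂ U.Modules (ComplexShape.up ℤ) (ComplexShape.up ℤ) :=
  mapBicomplex (tensorBicx L E) (Scheme.Modules.restrictFunctor f)

/-- the bicomplex `L^p|_U ⊗ E^q|_U` -/
noncomputable abbrev B₂ (L E : CochainComplex X.Modules ℤ) :
    HomologicalComplex₂ U.Modules (ComplexShape.up ℤ) (ComplexShape.up ℤ) :=
  tensorBicx ((resCx f).obj L) ((resCx f).obj E)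

/-- restriction of the tensor bicomplex -/
noncomputable def bicIso (L E : CochainComplex X.Modules ℤ) : B₁ f L E ≅ B₂ f L E :=
  HomologicalComplex.Hom.isoOfComponents
    (fun p => HomologicalComplex.Hom.isoOfComponents (fun q => rtIso f (L.X p) (E.X q))
      (by
        intro q q' _
        exact (hom_naturality_right f (L.X p) (E.d q q')).symm))
    (by
      intro p p' _
      refine HomologicalComplex.hom_ext _ _ (fun q => ?_)
      exact (hom_naturality_left f (L.d p p') (E.X q)).symm)

instance preservesTotal (L E : CochainComplex X.Modules ℤ) :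
    PreservesTotal (tensorBicx L E) (ComplexShape.up ℤ) (Scheme.Modules.restrictFunctor f) := by
  intro n
  infer_instance

/-- restriction to an open subscheme commutes with the tensor product of complexes -/
noncomputable def restrictTensorCxIso (L E : CochainComplex X.Modules ℤ) :
    (resCx f).obj ((DCoh.tensorCx.obj L).obj E) ≅
      (DCoh.tensorCx.obj ((resCx f).obj L)).obj ((resCx f).obj E) :=
  haveI := hasTotal_mapBicomplex (B := tensorBicx L E) (c₁₂ := ComplexShape.up ℤ)
    (Scheme.Modules.restrictFunctor f)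
  mapTotalIso (Scheme.Modules.restrictFunctor f) ≪≫
    HomologicalComplex₂.total.mapIso (bicIso f L E) (ComplexShape.up ℤ)

end Groth.Agent.Lib.RestrictTensorNat35
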