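import Groth.Agent.Lib.RgammaZSupp66
import Groth.Agent.Lib.DerivedAdj66
import Groth.Agent.Lib.LpullAdj35
import Groth.Agent.Lib.LpullHyp35

/-!
# `Rf_* RΓ_{Z'} ≅ RΓ_Z Rf_*` (towards S14364)
-/

set_option autoImplicit false
universe u

open CategoryTheory CategoryTheory.Limits AlgebraicGeometry

namespace Groth.Agent.Lib.RgammaZPush66

open Groth.Agent.Lib.RDFCrit66 Groth.Agent.Lib.RgammaZUnit66 Groth.Agent.Lib.RgammaZSupp66
  Groth.Agent.Lib.MVMod66

section Abstract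

open Pretriangulated

variable {D : Type*} [Category* D] [Preadditive D] [HasZeroObject D] [HasShift D ℤ]
  [∀ n : ℤ, (shiftFunctor D n).Additive] [Pretriangulated D]

/-- if `Hom(A, T₃) = 0 = Hom(A, T₃[-1])` then composition with `T₁ ⟶ T₂` is bijective on
`Hom(A, -)` -/
theorem bijective_comp_mor₁ (T : Triangle D) (hT : T ∈ distTriang D) (A : D)
    (h0 : ∀ g : A ⟶ T.obj₃, g = 0) (h1 : ∀ g : A ⟶ T.obj₃⟦(-1 : ℤ)⟧, g = 0) :
    Function.Bijective (fun g : A ⟶ T.obj₁ => g ≫ T.mor₁) := by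
  constructor
  · intro g₁ g₂ h
    have h' : (g₁ - g₂) ≫ T.invRotate.mor₂ = 0 := by
      change (g₁ - g₂) ≫ T.mor₁ = 0
      rw [Preadditive.sub_comp]
      exact sub_eq_zero.2 h
    obtain ⟨g', hg'⟩ := Triangle.coyoneda_exact₂ T.invRotate (inv_rot_of_distTriang _ hT) _ h'
    have : g' = 0 := h1 g'
    rw [this, zero_comp] at hg'
    exact sub_eq_zero.1 hg'
  · intro k
    obtain ⟨g, hg⟩ := Triangle.coyoneda_exact₂ T hT k (h0 _)
    exact ⟨g, hg.symm⟩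

omit [Preadditive D] [HasShift D ℤ] [HasZeroObject D] [∀ n : ℤ, (shiftFunctor D n).Additive] [Pretriangulated D] in
/-- Yoneda: a morphism inducing bijections on `Hom(A, -)` and `Hom(B, -)` is an isomorphism -/
theorem isIso_of_bijective_comp {A B : D} (α : A ⟶ B)
    (hA : Function.Bijective (fun g : A ⟶ A => g ≫ α))
    (hB : Function.Bijective (fun g : B ⟶ A => g ≫ α)) : IsIso α := by
  obtain ⟨β, hβ⟩ := hB.2 (𝟙 B)
  refine ⟨β, ?_, hβ⟩
  apply hA.1
  change (α ≫ β) ≫ α = 𝟙 A ≫ α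
  rw [Category.assoc, show β ≫ α = 𝟙 B from hβ, Category.comp_id, Category.id_comp]

end Abstract

section Scheme

attribute [local instance] HasDerivedCategory.standard

variable {Y : Scheme.{u}}

/-- `Hom(A, Rj_* B) = 0` when `A|_U = 0` -/
theorem hom_Rpush_eq_zero (U : Y.Opens) [DCoh.HasRpush U.ι] (A : DCoh.D Y)
    (hA : IsZero ((DCoh.restrictD U.ι).obj A)) (B : DCoh.D (U : Scheme.{u}))
    (g : A ⟶ (DCoh.Rpush U.ι).obj B) : g = 0 := by
  obtain ⟨adj⟩ := Groth.Agent.Lib.DerivedAdj66.nonempty_derivedAdjunction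
    (Scheme.Modules.restrictAdjunction U.ι) (Groth.Agent.Lib.SchKInj66.enoughKInj (U : Scheme.{u}))
  have adj' : DCoh.restrictD U.ι ⊣ DCoh.Rpush U.ι := adj
  apply (adj'.homEquiv A B).symm.injective
  exact hA.eq_of_src _ _

/-- `Hom(A, (Rj_* B)[-1]) = 0` when `A|_U = 0` -/
theorem hom_Rpush_shift_eq_zero (U : Y.Opens) [DCoh.HasRpush U.ι] (A : DCoh.D Y)
    (hA : IsZero ((DCoh.restrictD U.ι).obj A)) (B : DCoh.D (U : Scheme.{u}))
    (g : A ⟶ ((DCoh.Rpush U.ι).obj B)⟦(-1 : ℤ)⟧) : g = 0 := by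
  have hA1 : IsZero ((DCoh.restrictD U.ι).obj (A⟦(1 : ℤ)⟧)) :=
    ((shiftFunctor _ (1 : ℤ)).map_isZero hA).of_iso
      (((DCoh.restrictD U.ι).commShiftIso (1 : ℤ)).app A)
  let e := shiftFunctorCompIsoId (DCoh.D Y) (-1 : ℤ) 1 (by simp)
  have h := hom_Rpush_eq_zero U (A⟦(1 : ℤ)⟧) hA1 B
    (g⟦(1 : ℤ)⟧' ≫ e.hom.app ((DCoh.Rpush U.ι).obj B))
  have h2 : g⟦(1 : ℤ)⟧' = 0 := by
    have hm : Mono (e.hom.app ((DCoh.Rpush U.ι).obj B)) := inferInstance
    exact (cancel_mono (e.hom.app ((DCoh.Rpush U.ι).obj B))).1 (h.trans zero_comp.symm)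
  apply (shiftFunctor (DCoh.D Y) (1 : ℤ)).map_injective
  rw [h2, Functor.map_zero]


/-- the component of `gammaZKhι` at (the image of) a complex -/
theorem gammaZKhι_app {U X : Scheme.{u}} (j : U ⟶ X) [IsOpenImmersion j]
    (I : CochainComplex X.Modules ℤ) :
    (CxOX.gammaZKhι j).app ((HomotopyCategory.quotient _ _).obj I) =
      DerivedCategory.Qh.map (((DCoh.gammaZ j).mapHomotopyCategoryFactors
          (ComplexShape.up ℤ)).hom.app I) ≫
        DerivedCategory.Qh.map ((HomotopyCategory.quotient _ _).map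
          ((NatTrans.mapHomologicalComplex (CxOX.gammaZι j) (ComplexShape.up ℤ)).app I)) ≫
        DerivedCategory.Qh.map ((HomotopyCategory.quotient _ _).map
          ((Functor.mapHomologicalComplexIdIso X.Modules (ComplexShape.up ℤ)).hom.app I)) := by
  unfold CxOX.gammaZKhι
  erw [Quotient.natTransLift_app]
  simp
  erw [Category.comp_id]
  rfl

/-- on a K-injective complex, `RΓ_Z I ⟶ I` is the termwise inclusion -/
theorem RgammaZToId_app_Q {U X : Scheme.{u}} (j : U ⟶ X) [IsOpenImmersion j] [CxOX.HasRgammaZ j]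
    (I : CochainComplex X.Modules ℤ) [I.IsKInjective] :
    (CxOX.RgammaZToId j).app (DerivedCategory.Q.obj I) =
      (RDObjIso (Groth.Agent.Lib.SchKInj66.enoughKInj X) (DCoh.gammaZ j) I).hom ≫
        DerivedCategory.Q.map
          ((NatTrans.mapHomologicalComplex (CxOX.gammaZι j) (ComplexShape.up ℤ)).app I) ≫
        DerivedCategory.Q.map
          ((Functor.mapHomologicalComplexIdIso X.Modules (ComplexShape.up ℤ)).hom.app I) := by
  have hu : IsIso ((RDunit (DCoh.gammaZ j)).app ((HomotopyCategory.quotient _ (.up ℤ)).obj I)) :=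
    Groth.Agent.KInjComp31.isIso_totalRightDerivedUnit_app
      (Groth.Agent.Lib.SchKInj66.enoughKInj X) _ I
  have hfac : (RDunit (DCoh.gammaZ j)).app ((HomotopyCategory.quotient _ (.up ℤ)).obj I) ≫
      (CxOX.RgammaZToId j).app (DerivedCategory.Qh.obj ((HomotopyCategory.quotient _ (.up ℤ)).obj I)) =
      (CxOX.gammaZKhι j).app ((HomotopyCategory.quotient _ _).obj I) := by
    unfold CxOX.RgammaZToId
    erw [Functor.rightDerived_fac_app]
    simp
  have hnat := (CxOX.RgammaZToId j).naturality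
    ((DerivedCategory.quotientCompQhIso X.Modules).inv.app I)
  rw [gammaZKhι_app] at hfac
  unfold RDObjIso
  simp only [Iso.trans_hom, Iso.symm_hom, Functor.mapIso_hom, Iso.app_hom, Iso.app_inv,
    asIso_inv, Category.assoc]
  rw [← DerivedCategory.quotientCompQhIso_hom_naturality_assoc,
    ← DerivedCategory.quotientCompQhIso_hom_naturality]
  have hfac' := hfac =≫ (DerivedCategory.quotientCompQhIso X.Modules).hom.app I
  simp only [Category.assoc] at hfac'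
  erw [← hfac']
  rw [IsIso.inv_hom_id_assoc]
  have hnat' := hnat =≫ (DerivedCategory.quotientCompQhIso X.Modules).hom.app I
  simp only [Category.assoc, Functor.id_map, Iso.inv_hom_id_app] at hnat'
  exact ((Category.comp_id _).symm.trans hnat'.symm)


open Pretriangulated in
/-- the distinguished triangle `RΓ_Z M ⟶ M ⟶ Rt_* B ⟶` (with `B = M|_T`) -/
theorem exists_triangle_RgammaZ (T : Y.Opens) [CxOX.HasRgammaZ T.ι] [DCoh.HasRpush T.ι]
    (M : DCoh.D Y) :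
    ∃ (B : DCoh.D (T : Scheme.{u})) (b : M ⟶ (DCoh.Rpush T.ι).obj B)
      (d : (DCoh.Rpush T.ι).obj B ⟶ ((CxOX.RgammaZ T.ι).obj M)⟦(1 : ℤ)⟧),
      Triangle.mk ((CxOX.RgammaZToId T.ι).app M) b d ∈ distTriang (DCoh.D Y) := by
  let c := ComplexShape.up ℤ
  have := Groth.Agent.Lib.SchKInj66.isGrothendieckAbelian_modules Y
  obtain ⟨I, a, hI, ha, -, hinj⟩ :=
    Groth.Agent.KInjMain31.exists_kinjective_resolution (DerivedCategory.Q.objPreimage M)
  have : IsIso (DerivedCategory.Q.map a) := inferInstance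
  let eM : M ≅ DerivedCategory.Q.obj I :=
    (DerivedCategory.Q.objObjPreimageIso M).symm ≪≫ asIso (DerivedCategory.Q.map a)
  obtain ⟨δ, hT⟩ := exists_distinguished_of_ses' (CxOX.gammaZι T.ι) (β T) I
    (fun n => kernel.condition _)
    (fun n => haveI := hinj n; shortExact_gammaZ_of_injective T (I.X n))
  let I' := ((Scheme.Modules.restrictFunctor T.ι).mapHomologicalComplex c).obj I
  have hI' : CochainComplex.IsKInjective I' :=
    Groth.Agent.Lib.SchKInj66.isKInjective_restrict T I hI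
  let e₁ : (CxOX.RgammaZ T.ι).obj M ≅
      DerivedCategory.Q.obj (((DCoh.gammaZ T.ι).mapHomologicalComplex c).obj I) :=
    (CxOX.RgammaZ T.ι).mapIso eM ≪≫
      RDObjIso (Groth.Agent.Lib.SchKInj66.enoughKInj Y) (DCoh.gammaZ T.ι) I
  let e₂ : M ≅ DerivedCategory.Q.obj (((𝟭 Y.Modules).mapHomologicalComplex c).obj I) :=
    eM ≪≫ DerivedCategory.Q.mapIso ((Functor.mapHomologicalComplexIdIso _ c).app I).symm
  let e₃ : (DCoh.Rpush T.ι).obj (DerivedCategory.Q.obj I') ≅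
      DerivedCategory.Q.obj (((G T).mapHomologicalComplex c).obj I) :=
    RDObjIso (Groth.Agent.Lib.SchKInj66.enoughKInj _) (Scheme.Modules.pushforward T.ι) I'
  let T₀ := Triangle.mk
        (DerivedCategory.Q.map ((NatTrans.mapHomologicalComplex (CxOX.gammaZι T.ι) c).app I))
        (DerivedCategory.Q.map ((NatTrans.mapHomologicalComplex (β T) c).app I)) δ
  refine ⟨DerivedCategory.Q.obj I', e₂.hom ≫ T₀.mor₂ ≫ e₃.inv,
    e₃.hom ≫ T₀.mor₃ ≫ e₁.inv⟦(1 : ℤ)⟧', ?_⟩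
  refine isomorphic_distinguished _ hT _ (Triangle.isoMk _ _ e₁ e₂ e₃ ?_ ?_ ?_)
  · have hnat := (CxOX.RgammaZToId T.ι).naturality eM.hom
    have hid := RgammaZToId_app_Q T.ι I
    change (CxOX.RgammaZToId T.ι).app M ≫ eM.hom ≫ DerivedCategory.Q.map
        ((Functor.mapHomologicalComplexIdIso _ c).inv.app I) =
      ((CxOX.RgammaZ T.ι).map eM.hom ≫
        (RDObjIso (Groth.Agent.Lib.SchKInj66.enoughKInj Y) (DCoh.gammaZ T.ι) I).hom) ≫
      DerivedCategory.Q.map ((NatTrans.mapHomologicalComplex (CxOX.gammaZι T.ι) c).app I)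
    rw [Functor.id_map] at hnat
    rw [← reassoc_of% hnat, hid]
    simp only [Category.assoc]
    rw [← Functor.map_comp, Iso.hom_inv_id_app, CategoryTheory.Functor.map_id, Category.comp_id]
  · change (e₂.hom ≫ T₀.mor₂ ≫ e₃.inv) ≫ e₃.hom = e₂.hom ≫ T₀.mor₂
    have h : e₃.inv ≫ e₃.hom = 𝟙 _ := e₃.inv_hom_id
    rw [Category.assoc, Category.assoc]
    erw [h, Category.comp_id]
    rfl
  · change (e₃.hom ≫ T₀.mor₃ ≫ e₁.inv⟦(1 : ℤ)⟧') ≫ e₁.hom⟦(1 : ℤ)⟧' = e₃.hom ≫ T₀.mor₃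
    have h : e₁.inv ≫ e₁.hom = 𝟙 _ := e₁.inv_hom_id
    rw [Category.assoc, Category.assoc, ← Functor.map_comp]
    erw [h, CategoryTheory.Functor.map_id, Category.comp_id]
    rfl


/-- (P2) if `A|_T = 0` then `Hom(A, RΓ_Z M) → Hom(A, M)` is bijective -/
theorem bijective_comp_RgammaZToId (T : Y.Opens) [CxOX.HasRgammaZ T.ι] (A M : DCoh.D Y)
    (hA : IsZero ((DCoh.restrictD T.ι).obj A)) :
    Function.Bijective
      (fun g : A ⟶ (CxOX.RgammaZ T.ι).obj M => g ≫ (CxOX.RgammaZToId T.ι).app M) := by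
  have hR : DCoh.HasRpush T.ι := hasRightDerivedFunctor (Groth.Agent.Lib.SchKInj66.enoughKInj _) _
  obtain ⟨B, b, d, hT⟩ := exists_triangle_RgammaZ T M
  exact bijective_comp_mor₁ _ hT A (hom_Rpush_eq_zero T A hA B) (hom_Rpush_shift_eq_zero T A hA B)

/-- `Rpush` only depends on the morphism up to equality -/
theorem nonempty_Rpush_congr {X : Scheme.{u}} {g g' : X ⟶ Y} (h : g = g') [DCoh.HasRpush g]
    [DCoh.HasRpush g'] : Nonempty (DCoh.Rpush g ≅ DCoh.Rpush g') := by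
  subst h
  exact ⟨Iso.refl _⟩

open Pretriangulated in
/-- (Q2) if `A|_U = 0` then `Hom(A, Rf_* RΓ_{Z'} K) → Hom(A, Rf_* K)` is bijective -/
theorem bijective_comp_Rpush_RgammaZToId {X : Scheme.{u}} (f : X ⟶ Y) (U : Y.Opens)
    [CxOX.HasRgammaZ (f ⁻¹ᵁ U).ι] [DCoh.HasRpush f] (K : DCoh.D X) (A : DCoh.D Y)
    (hA : IsZero ((DCoh.restrictD U.ι).obj A)) :
    Function.Bijective
      (fun g : A ⟶ (DCoh.Rpush f).obj ((CxOX.RgammaZ (f ⁻¹ᵁ U).ι).obj K) =>
        g ≫ (DCoh.Rpush f).map ((CxOX.RgammaZToId (f ⁻¹ᵁ U).ι).app K)) := by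
  have hR1 : DCoh.HasRpush (f ⁻¹ᵁ U).ι :=
    hasRightDerivedFunctor (Groth.Agent.Lib.SchKInj66.enoughKInj _) _
  have hR2 : DCoh.HasRpush U.ι :=
    hasRightDerivedFunctor (Groth.Agent.Lib.SchKInj66.enoughKInj _) _
  have hR3 : DCoh.HasRpush (f ∣_ U) :=
    hasRightDerivedFunctor (Groth.Agent.Lib.SchKInj66.enoughKInj _) _
  have hR4 : DCoh.HasRpush ((f ⁻¹ᵁ U).ι ≫ f) :=
    hasRightDerivedFunctor (Groth.Agent.Lib.SchKInj66.enoughKInj _) _
  have hR5 : DCoh.HasRpush ((f ∣_ U) ≫ U.ι) :=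
    hasRightDerivedFunctor (Groth.Agent.Lib.SchKInj66.enoughKInj _) _
  obtain ⟨B, b, d, hT⟩ := exists_triangle_RgammaZ (f ⁻¹ᵁ U) K
  obtain ⟨δ, hT'⟩ := Groth.Agent.RFTriang31.exists_distinguished
    (Groth.Agent.Lib.SchKInj66.enoughKInj X) (Kh (Scheme.Modules.pushforward f)) (DCoh.Rpush f)
    (RDunit _) _ hT
  obtain ⟨e1⟩ := Groth.Agent.Lib.LpullKFlat35.nonempty_rpush_comp
    (Groth.Agent.Lib.LpullHyp35.acycHyp (f ⁻¹ᵁ U).ι) (Groth.Agent.Lib.LpullHyp35.acycHyp f)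
    (Groth.Agent.Lib.LpullHyp35.acycHyp ((f ⁻¹ᵁ U).ι ≫ f)) (Groth.Agent.Lib.LpullHyp35.kflatHyp f)
  obtain ⟨e2⟩ := Groth.Agent.Lib.LpullKFlat35.nonempty_rpush_comp
    (Groth.Agent.Lib.LpullHyp35.acycHyp (f ∣_ U)) (Groth.Agent.Lib.LpullHyp35.acycHyp U.ι)
    (Groth.Agent.Lib.LpullHyp35.acycHyp ((f ∣_ U) ≫ U.ι)) (Groth.Agent.Lib.LpullHyp35.kflatHyp U.ι)
  obtain ⟨e3⟩ := nonempty_Rpush_congr (morphismRestrict_ι f U)
  let e : (DCoh.Rpush f).obj ((DCoh.Rpush (f ⁻¹ᵁ U).ι).obj B) ≅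
      (DCoh.Rpush U.ι).obj ((DCoh.Rpush (f ∣_ U)).obj B) :=
    e1.app B ≪≫ (e3.app B).symm ≪≫ (e2.app B).symm
  refine bijective_comp_mor₁ _ hT' A ?_ ?_
  · intro g
    have h := hom_Rpush_eq_zero U A hA _ (g ≫ e.hom)
    exact (cancel_mono e.hom).1 (h.trans zero_comp.symm)
  · intro g
    have h := hom_Rpush_shift_eq_zero U A hA _ (g ≫ e.hom⟦(-1 : ℤ)⟧')
    exact (cancel_mono (e.hom⟦(-1 : ℤ)⟧')).1 (h.trans zero_comp.symm)


/-- **`Rf_* RΓ_{f⁻¹Z} ≅ RΓ_Z Rf_*`**: existence and uniqueness-up-to-iso of the comparison -/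
theorem rpush_RgammaZ_preimage {X : Scheme.{u}} (f : X ⟶ Y) (U : Y.Opens)
    [CxOX.HasRgammaZ U.ι] [CxOX.HasRgammaZ (f ⁻¹ᵁ U).ι] [DCoh.HasRpush f] (K : DCoh.D X) :
    (∃ α : (DCoh.Rpush f).obj ((CxOX.RgammaZ (f ⁻¹ᵁ U).ι).obj K) ⟶
          (CxOX.RgammaZ U.ι).obj ((DCoh.Rpush f).obj K),
        α ≫ (CxOX.RgammaZToId U.ι).app ((DCoh.Rpush f).obj K) =
          (DCoh.Rpush f).map ((CxOX.RgammaZToId (f ⁻¹ᵁ U).ι).app K)) ∧
    ∀ α : (DCoh.Rpush f).obj ((CxOX.RgammaZ (f ⁻¹ᵁ U).ι).obj K) ⟶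
          (CxOX.RgammaZ U.ι).obj ((DCoh.Rpush f).obj K),
        α ≫ (CxOX.RgammaZToId U.ι).app ((DCoh.Rpush f).obj K) =
          (DCoh.Rpush f).map ((CxOX.RgammaZToId (f ⁻¹ᵁ U).ι).app K) → IsIso α := by
  have hA : IsZero ((DCoh.restrictD U.ι).obj
      ((DCoh.Rpush f).obj ((CxOX.RgammaZ (f ⁻¹ᵁ U).ι).obj K))) :=
    isZero_restrictD_Rpush_of_preimage_le f (f ⁻¹ᵁ U) U le_rfl _
      (isZero_restrictD_RgammaZ (f ⁻¹ᵁ U) K)
  have hB : IsZero ((DCoh.restrictD U.ι).obj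
      ((CxOX.RgammaZ U.ι).obj ((DCoh.Rpush f).obj K))) :=
    isZero_restrictD_RgammaZ U _
  constructor
  · obtain ⟨α, hα⟩ := (bijective_comp_RgammaZToId U _ ((DCoh.Rpush f).obj K) hA).2
      ((DCoh.Rpush f).map ((CxOX.RgammaZToId (f ⁻¹ᵁ U).ι).app K))
    exact ⟨α, hα⟩
  · intro α hα
    apply isIso_of_bijective_comp
    · have h1 := bijective_comp_RgammaZToId U _ ((DCoh.Rpush f).obj K) hA
      have h2 := bijective_comp_Rpush_RgammaZToId f U K _ hA
      refine (Function.Bijective.of_comp_iff' h1 _).1 ?_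
      convert h2 using 1
      funext g
      simp only [Function.comp_apply, Category.assoc, hα]
    · have h1 := bijective_comp_RgammaZToId U _ ((DCoh.Rpush f).obj K) hB
      have h2 := bijective_comp_Rpush_RgammaZToId f U K _ hB
      refine (Function.Bijective.of_comp_iff' h1 _).1 ?_
      convert h2 using 1
      funext g
      simp only [Function.comp_apply, Category.assoc, hα]

end Scheme

end Groth.Agent.Lib.RgammaZPush66
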