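import Groth.Agent.Lib.RgammaZUnit66
import Groth.Agent.Lib.ModInjFlasque92b
import Groth.Agent.Lib.KInjMain31
import Groth.Agent.Lib.LpullQCoh35
import Groth.Agent.Lib.MVMod66
import Groth.Agent.Lib.KInjAdj

/-!
# Unbounded `RΓ_Z` and `Rj_*` for an open immersion `j`: supports (towards S14366)
-/

set_option autoImplicit false
universe u

open CategoryTheory CategoryTheory.Limits AlgebraicGeometry

namespace Groth.Agent.Lib.RgammaZSupp66

open Groth.Agent.Lib.RDFCrit66 Groth.Agent.Lib.RgammaZUnit66 Groth.Agent.Lib.MVMod66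

section Abstract

variable {A B : Type*} [Category* A] [Abelian A] [Category* B] [Abelian B] [HasDerivedCategory B]

open Pretriangulated in
/-- variant of `MVDer66.exists_distinguished_of_ses` asking exactness only at the terms of `K` -/
theorem exists_distinguished_of_ses' {F₁ F₂ F₃ : A ⥤ B} [F₁.Additive] [F₂.Additive] [F₃.Additive]
    (a : F₁ ⟶ F₂) (b : F₂ ⟶ F₃) (K : CochainComplex A ℤ)
    (w : ∀ n, a.app (K.X n) ≫ b.app (K.X n) = 0)
    (h : ∀ n, (ShortComplex.mk (a.app (K.X n)) (b.app (K.X n)) (w n)).ShortExact) :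
    ∃ c : DerivedCategory.Q.obj ((F₃.mapHomologicalComplex (ComplexShape.up ℤ)).obj K) ⟶
        (DerivedCategory.Q.obj ((F₁.mapHomologicalComplex (ComplexShape.up ℤ)).obj K))⟦(1 : ℤ)⟧,
      Triangle.mk
        (DerivedCategory.Q.map ((NatTrans.mapHomologicalComplex a (ComplexShape.up ℤ)).app K))
        (DerivedCategory.Q.map ((NatTrans.mapHomologicalComplex b (ComplexShape.up ℤ)).app K)) c ∈
        distTriang (DerivedCategory B) := by
  let S : ShortComplex (CochainComplex B ℤ) :=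
    ShortComplex.mk ((NatTrans.mapHomologicalComplex a (ComplexShape.up ℤ)).app K)
      ((NatTrans.mapHomologicalComplex b (ComplexShape.up ℤ)).app K)
      (by ext n; exact w n)
  have hS : S.ShortExact :=
    HomologicalComplex.shortExact_of_degreewise_shortExact S (fun n => h n)
  exact ⟨DerivedCategory.triangleOfSESδ hS, DerivedCategory.triangleOfSES_distinguished hS⟩

end Abstract

section Scheme

attribute [local instance] HasDerivedCategory.standard

variable {X Xbar : Scheme.{u}}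

/-- the sequence `0 → Γ_Z I → I → j_* j^* I → 0` is short exact for `I` injective -/
theorem shortExact_gammaZ_of_injective (T : Xbar.Opens) (I : Xbar.Modules) [Injective I] :
    (ShortComplex.mk ((CxOX.gammaZι T.ι).app I) ((β T).app I)
      (kernel.condition _)).ShortExact := by
  have hmono : Mono ((CxOX.gammaZι T.ι).app I) := by
    change Mono (kernel.ι _)
    infer_instance
  obtain ⟨s, hs⟩ := Groth.Agent.Lib.ModInjFlasque92.exists_section_unit_restrictAdjunction Xbar T I
  have hepi : Epi ((β T).app I) := epi_of_epi_fac hs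
  have hex : (ShortComplex.mk ((CxOX.gammaZι T.ι).app I) ((β T).app I)
      (kernel.condition _)).Exact :=
    ShortComplex.exact_of_f_is_kernel _ (kernelIsKernel _)
  exact ShortComplex.ShortExact.mk' hex hmono hepi

open Pretriangulated in
/-- `RΓ_Z C ≅ C` when `C` vanishes on the open complement of `Z` -/
theorem nonempty_RgammaZ_iso_of_isZero_restrictD (T : Xbar.Opens) [CxOX.HasRgammaZ T.ι]
    (C : DCoh.D Xbar) (hC : IsZero ((DCoh.restrictD T.ι).obj C)) :
    Nonempty ((CxOX.RgammaZ T.ι).obj C ≅ C) := by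
  let c := ComplexShape.up ℤ
  have := Groth.Agent.Lib.SchKInj66.isGrothendieckAbelian_modules Xbar
  obtain ⟨I, a, hI, ha, -, hinj⟩ :=
    Groth.Agent.KInjMain31.exists_kinjective_resolution (DerivedCategory.Q.objPreimage C)
  have : IsIso (DerivedCategory.Q.map a) := inferInstance
  let eC : C ≅ DerivedCategory.Q.obj I :=
    (DerivedCategory.Q.objObjPreimageIso C).symm ≪≫ asIso (DerivedCategory.Q.map a)
  obtain ⟨δ, hT⟩ := exists_distinguished_of_ses' (CxOX.gammaZι T.ι) (β T) I
    (fun n => kernel.condition _)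
    (fun n => haveI := hinj n; shortExact_gammaZ_of_injective T (I.X n))
  -- the third vertex vanishes
  let I' := ((Scheme.Modules.restrictFunctor T.ι).mapHomologicalComplex c).obj I
  have hI' : CochainComplex.IsKInjective I' :=
    Groth.Agent.Lib.SchKInj66.isKInjective_restrict T I hI
  have hQI' : IsZero (DerivedCategory.Q.obj I') :=
    hC.of_iso (((Scheme.Modules.restrictFunctor T.ι).mapDerivedCategoryFactors.app I).symm ≪≫
      (DCoh.restrictD T.ι).mapIso eC.symm)
  have hR : DCoh.HasRpush T.ι := hasRightDerivedFunctor (Groth.Agent.Lib.SchKInj66.enoughKInj _) _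
  have hadd : (DCoh.Rpush T.ι).Additive := Groth.Agent.RFTriang31.additive
    (Groth.Agent.Lib.SchKInj66.enoughKInj _) (Kh (Scheme.Modules.pushforward T.ι))
    (RD (Scheme.Modules.pushforward T.ι)) (RDunit _)
  have h3 : IsZero (DerivedCategory.Q.obj
      (((Scheme.Modules.pushforward T.ι).mapHomologicalComplex c).obj I')) :=
    ((DCoh.Rpush T.ι).map_isZero hQI').of_iso
      (RDObjIso (Groth.Agent.Lib.SchKInj66.enoughKInj _) (Scheme.Modules.pushforward T.ι) I').symm
  have h1 : IsIso (DerivedCategory.Q.map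
      ((NatTrans.mapHomologicalComplex (CxOX.gammaZι T.ι) c).app I)) :=
    (Triangle.isZero₃_iff_isIso₁ _ hT).1 h3
  exact ⟨(CxOX.RgammaZ T.ι).mapIso eC ≪≫
    RDObjIso (Groth.Agent.Lib.SchKInj66.enoughKInj Xbar) (DCoh.gammaZ T.ι) I ≪≫
    asIso (DerivedCategory.Q.map ((NatTrans.mapHomologicalComplex (CxOX.gammaZι T.ι) c).app I)) ≪≫
    DerivedCategory.Q.mapIso ((Functor.mapHomologicalComplexIdIso _ c).app I) ≪≫ eC.symm⟩

variable (j : X ⟶ Xbar) [IsOpenImmersion j]

omit [IsOpenImmersion j] in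
/-- for `j(X) ⊆ T` the unit `j_* M ⟶ t_* t^* j_* M` is an isomorphism -/
theorem isIso_β_push (T : Xbar.Opens) (hT : Set.range j.base ⊆ (T : Set Xbar)) (M : X.Modules) :
    IsIso ((β T).app ((Scheme.Modules.pushforward j).obj M)) := by
  rw [Scheme.Modules.Hom.isIso_iff_isIso_app]
  intro V
  have h1 : j ⁻¹ᵁ (cap T V) ≤ j ⁻¹ᵁ V := Scheme.Hom.preimage_mono _ (cap_le T V)
  have h2 : j ⁻¹ᵁ V ≤ j ⁻¹ᵁ (cap T V) := by
    intro x hx
    change j x ∈ cap T V
    rw [cap_eq]
    exact ⟨hT ⟨x, rfl⟩, hx⟩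
  exact isIso_presheaf_map M h1 h2

/-- `RΓ_Z (Rj_* F) = 0` when `Z` is disjoint from `j(X)` -/
theorem isZero_RgammaZ_Rpush (T : Xbar.Opens) (hT : Set.range j.base ⊆ (T : Set Xbar))
    [CxOX.HasRgammaZ T.ι] [DCoh.HasRpush j] (F : DCoh.D X) :
    IsZero ((CxOX.RgammaZ T.ι).obj ((DCoh.Rpush j).obj F)) := by
  let c := ComplexShape.up ℤ
  obtain ⟨I, a, hI, ha⟩ := Groth.Agent.Lib.SchKInj66.enoughKInj X (DerivedCategory.Q.objPreimage F)
  have : IsIso (DerivedCategory.Q.map a) := inferInstance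
  let eF : F ≅ DerivedCategory.Q.obj I :=
    (DerivedCategory.Q.objObjPreimageIso F).symm ≪≫ asIso (DerivedCategory.Q.map a)
  let J := ((Scheme.Modules.pushforward j).mapHomologicalComplex c).obj I
  have hJ : CochainComplex.IsKInjective J :=
    Groth.Agent.Lib.KInjAdj.isKInjective_map (Scheme.Modules.restrictAdjunction j) I
  let e1 : (DCoh.Rpush j).obj F ≅ DerivedCategory.Q.obj J :=
    (DCoh.Rpush j).mapIso eF ≪≫
      RDObjIso (Groth.Agent.Lib.SchKInj66.enoughKInj X) (Scheme.Modules.pushforward j) I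
  let e2 : (CxOX.RgammaZ T.ι).obj ((DCoh.Rpush j).obj F) ≅
      DerivedCategory.Q.obj (((DCoh.gammaZ T.ι).mapHomologicalComplex c).obj J) :=
    (CxOX.RgammaZ T.ι).mapIso e1 ≪≫
      RDObjIso (Groth.Agent.Lib.SchKInj66.enoughKInj Xbar) (DCoh.gammaZ T.ι) J
  have hz : IsZero (((DCoh.gammaZ T.ι).mapHomologicalComplex c).obj J) :=
    isZero_of_isZero_X _ (fun n => by
      have := isIso_β_push j T hT (I.X n)
      exact isZero_kernel_of_mono ((β T).app ((Scheme.Modules.pushforward j).obj (I.X n))))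
  exact (DerivedCategory.Q.map_isZero hz).of_iso e2

omit [IsOpenImmersion j] in
/-- if `j⁻¹ U' ⊆ U` and `F|_U = 0` then `(Rj_* F)|_{U'} = 0` -/
theorem isZero_restrictD_Rpush_of_preimage_le [DCoh.HasRpush j] (U : X.Opens) (U' : Xbar.Opens)
    (hle : j ⁻¹ᵁ U' ≤ U) (F : DCoh.D X) (hF : IsZero ((DCoh.restrictD U.ι).obj F)) :
    IsZero ((DCoh.restrictD U'.ι).obj ((DCoh.Rpush j).obj F)) := by
  have hR : DCoh.HasRpush (j ∣_ U') :=
    hasRightDerivedFunctor (Groth.Agent.Lib.SchKInj66.enoughKInj _) _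
  obtain ⟨e1⟩ := Groth.Agent.S6508.result j U'
  have h1 : IsZero ((DCoh.restrictD (X.homOfLE hle)).obj ((DCoh.restrictD U.ι).obj F)) :=
    Functor.map_isZero _ hF
  have h2 : IsZero ((DCoh.restrictD (j ⁻¹ᵁ U').ι).obj F) :=
    h1.of_iso ((Groth.Agent.Lib.PerfectD.restrictDCompIso (X.homOfLE hle) U.ι (j ⁻¹ᵁ U').ι
      (X.homOfLE_ι hle)).app F).symm
  have hadd : (DCoh.Rpush (j ∣_ U')).Additive := Groth.Agent.RFTriang31.additive
    (Groth.Agent.Lib.SchKInj66.enoughKInj _) (Kh (Scheme.Modules.pushforward (j ∣_ U')))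
    (RD (Scheme.Modules.pushforward (j ∣_ U'))) (RDunit _)
  have h3 : IsZero ((DCoh.Rpush (j ∣_ U')).obj ((DCoh.restrictD (j ⁻¹ᵁ U').ι).obj F)) :=
    Functor.map_isZero _ h2
  exact h3.of_iso (e1.app F)

omit [IsOpenImmersion j] in
/-- objects supported off `U` restrict to zero on `U` -/
theorem isZero_restrictD_of_isSuppD (U : X.Opens) (F : DCoh.D X) (h : CxOX.IsSuppD U.ι F) :
    IsZero ((DCoh.restrictD U.ι).obj F) := by
  apply Groth.Agent.Lib.SuppD66.isZero_restrictD U F
  intro i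
  have h1 := h i
  have h2 : Set.range U.ι.base = (U : Set X) := Scheme.Opens.range_ι U
  rw [h2] at h1
  exact h1

omit [IsOpenImmersion j] in
/-- objects restricting to zero on `U` are supported off `U` -/
theorem isSuppD_of_isZero_restrictD (U : X.Opens) (F : DCoh.D X)
    (h : IsZero ((DCoh.restrictD U.ι).obj F)) : CxOX.IsSuppD U.ι F := by
  intro i
  have h2 : Set.range U.ι.base = (U : Set X) := Scheme.Opens.range_ι U
  rw [h2]
  have h1 : IsZero ((Scheme.Modules.restrictFunctor U.ι).obj (DCoh.HD F i)) :=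
    ((DerivedCategory.homologyFunctor _ i).map_isZero h).of_iso
      ((Groth.Agent.Lib.FlatBaseChangeD.mapDerivedCategoryHomologyIso
        (Scheme.Modules.restrictFunctor U.ι) i).app F).symm
  exact (Groth.Agent.Lib.H90QCohLocalization.isZero_restrict_iff _ U).1 h1

/-- an object vanishing on `U'` and on `j(X)` vanishes on `T = U' ∪ j(X)` -/
theorem isZero_restrictD_union (U' T : Xbar.Opens)
    (hT : (T : Set Xbar) = (U' : Set Xbar) ∪ Set.range j.base) (C : DCoh.D Xbar)
    (hU' : IsZero ((DCoh.restrictD U'.ι).obj C)) (hj : IsZero ((DCoh.restrictD j).obj C)) :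
    IsZero ((DCoh.restrictD T.ι).obj C) := by
  apply Groth.Agent.Lib.SuppD66.isZero_restrictD T C
  intro n y hy hyT
  have hyT' : y ∈ (U' : Set Xbar) ∪ Set.range j.base := by rw [← hT]; exact hyT
  apply hy
  rcases hyT' with hy' | ⟨x, rfl⟩
  · have h1 : IsZero ((Scheme.Modules.restrictFunctor U'.ι).obj (DCoh.HD C n)) :=
      ((DerivedCategory.homologyFunctor _ n).map_isZero hU').of_iso
        ((Groth.Agent.Lib.FlatBaseChangeD.mapDerivedCategoryHomologyIso
          (Scheme.Modules.restrictFunctor U'.ι) n).app C).symm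
    exact Groth.Agent.Lib.ModStalk.subsingleton_stalk_of_isZero_restrict _ U' h1 y hy'
  · have h1 : IsZero ((Scheme.Modules.restrictFunctor j).obj (DCoh.HD C n)) :=
      ((DerivedCategory.homologyFunctor _ n).map_isZero hj).of_iso
        ((Groth.Agent.Lib.FlatBaseChangeD.mapDerivedCategoryHomologyIso
          (Scheme.Modules.restrictFunctor j) n).app C).symm
    exact subsingleton_stalk_of_isZero_restrict j _ h1 x

/-- `j^*` of the unit of any adjunction `j^* ⊣ Rj_*` is an isomorphism -/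
theorem isIso_restrictD_map_unit [DCoh.HasRpush j] (adj : DCoh.restrictD j ⊣ DCoh.Rpush j)
    (E : DCoh.D Xbar) : IsIso ((DCoh.restrictD j).map (adj.unit.app E)) := by
  have hcounit : IsIso adj.counit := isIso_counit_of_adj j adj
  have h := adj.left_triangle_components E
  have h1 : IsIso ((DCoh.restrictD j).map (adj.unit.app E) ≫
      adj.counit.app ((DCoh.restrictD j).obj E)) := by rw [h]; exact IsIso.id _
  exact IsIso.of_isIso_comp_right _ (adj.counit.app ((DCoh.restrictD j).obj E))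

open Pretriangulated in
/-- the unit `G ⟶ Rj_* j^* G` is an isomorphism when `G` vanishes on `U'` and
`RΓ_{X̄ ∖ (U' ∪ j(X))} G = 0` -/
theorem isIso_unit_of_isZero_RgammaZ [DCoh.HasRpush j] (adj : DCoh.restrictD j ⊣ DCoh.Rpush j)
    (U' T : Xbar.Opens) (hT : (T : Set Xbar) = (U' : Set Xbar) ∪ Set.range j.base)
    [CxOX.HasRgammaZ T.ι] (G : DCoh.D Xbar) (hGU' : IsZero ((DCoh.restrictD U'.ι).obj G))
    (hGT : IsZero ((CxOX.RgammaZ T.ι).obj G)) : IsIso (adj.unit.app G) := by
  obtain ⟨C, p, q, hTr⟩ := distinguished_cocone_triangle (adj.unit.app G)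
  have hTU' := (DCoh.restrictD U'.ι).map_distinguished _ hTr
  have hTj := (DCoh.restrictD j).map_distinguished _ hTr
  have hCU' : IsZero ((DCoh.restrictD U'.ι).obj C) :=
    (Triangle.isZero₃_iff_isIso₁ _ hTU').2
      (isIso_of_isZero _ hGU' (isZero_restrictD_Rpush_restrictD j U' G hGU'))
  have hCj : IsZero ((DCoh.restrictD j).obj C) :=
    (Triangle.isZero₃_iff_isIso₁ _ hTj).2 (isIso_restrictD_map_unit j adj G)
  have hCT : IsZero ((DCoh.restrictD T.ι).obj C) := isZero_restrictD_union j U' T hT C hCU' hCj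
  obtain ⟨eC⟩ := nonempty_RgammaZ_iso_of_isZero_restrictD T C hCT
  obtain ⟨δ, hTΓ⟩ := Groth.Agent.RFTriang31.exists_distinguished
    (Groth.Agent.Lib.SchKInj66.enoughKInj Xbar) (CxOX.gammaZKh T.ι) (CxOX.RgammaZ T.ι)
    ((CxOX.gammaZKh T.ι).totalRightDerivedUnit DerivedCategory.Qh
      (HomotopyCategory.quasiIso Xbar.Modules (ComplexShape.up ℤ))) _ hTr
  have hsub : Set.range j.base ⊆ (T : Set Xbar) := by rw [hT]; exact Set.subset_union_right
  have hΓC : IsZero ((CxOX.RgammaZ T.ι).obj C) :=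
    (Triangle.isZero₃_iff_isIso₁ _ hTΓ).2
      (isIso_of_isZero _ hGT (isZero_RgammaZ_Rpush j T hsub _))
  have hC : IsZero C := hΓC.of_iso eC.symm
  exact (Triangle.isZero₃_iff_isIso₁ _ hTr).1 hC

/-- the support of `H^i(j^* G)` is the preimage of the support of `H^i(G)` (one inclusion) -/
theorem mem_support_of_mem_support_restrictD (G : DCoh.D Xbar) (i : ℤ) (x : X)
    (hx : x ∈ CohB1.support (DCoh.HD ((DCoh.restrictD j).obj G) i)) :
    j x ∈ CohB1.support (DCoh.HD G i) := by
  intro hsub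
  apply hx
  have h0 : IsZero ((DCoh.HD G i).presheaf.stalk (j x)) := AddCommGrpCat.isZero_of_subsingleton _
  have e1 := (Scheme.Modules.restrictStalkNatIso j x).app (DCoh.HD G i)
  have h1 : IsZero ((Groth.Agent.Lib.ModStalk.stalkFunctor x).obj
      ((Scheme.Modules.restrictFunctor j).obj (DCoh.HD G i))) := h0.of_iso e1
  have h2 : IsZero ((Groth.Agent.Lib.ModStalk.stalkFunctor x).obj
      (DCoh.HD ((DCoh.restrictD j).obj G) i)) :=
    h1.of_iso ((Groth.Agent.Lib.ModStalk.stalkFunctor x).mapIso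
      (Groth.Agent.Lib.LpullQCoh35.hdRestrictIso j G i))
  exact AddCommGrpCat.subsingleton_of_isZero h2

/-- **S14366** (the hypotheses `IsNoetherian`, `RpushPreservesQCoh` and quasi-coherence of `F` are
not needed) -/
theorem openImmersion_equiv_supported (U : X.Opens) (U' T : Xbar.Opens)
    (hU' : (U' : Set Xbar) = (closure (j.base '' ((U : Set X)ᶜ)))ᶜ)
    (hT : (T : Set Xbar) = (U' : Set Xbar) ∪ Set.range j.base)
    [DCoh.HasRpush j] [CxOX.HasRgammaZ T.ι] (adj : DCoh.restrictD j ⊣ DCoh.Rpush j) :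
    (∀ F : DCoh.D X, CxOX.IsSuppD U.ι F →
        CxOX.IsSuppD U'.ι ((DCoh.Rpush j).obj F) ∧
          IsZero ((CxOX.RgammaZ T.ι).obj ((DCoh.Rpush j).obj F))) ∧
    (∀ F : DCoh.D X, IsIso (adj.counit.app F)) ∧
    (∀ G : DCoh.D Xbar, DCoh.IsQCohD G → CxOX.IsSuppD U'.ι G →
        IsZero ((CxOX.RgammaZ T.ι).obj G) →
        IsIso (adj.unit.app G) ∧ DCoh.IsQCohD ((DCoh.restrictD j).obj G) ∧
          CxOX.IsSuppD U.ι ((DCoh.restrictD j).obj G)) := by
  have hsub : Set.range j.base ⊆ (T : Set Xbar) := by rw [hT]; exact Set.subset_union_right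
  have hle : j ⁻¹ᵁ U' ≤ U := by
    intro x hx
    by_contra hxU
    have h1 : j x ∈ (U' : Set Xbar) := hx
    rw [hU'] at h1
    exact h1 (subset_closure ⟨x, hxU, rfl⟩)
  refine ⟨fun F hF => ⟨?_, isZero_RgammaZ_Rpush j T hsub F⟩, fun F => ?_, fun G hG hGs hGT => ⟨?_, ?_, ?_⟩⟩
  · exact isSuppD_of_isZero_restrictD U' _
      (isZero_restrictD_Rpush_of_preimage_le j U U' hle F (isZero_restrictD_of_isSuppD U F hF))
  · have := isIso_counit_of_adj j adj
    infer_instance
  · exact isIso_unit_of_isZero_RgammaZ j adj U' T hT G (isZero_restrictD_of_isSuppD U' G hGs) hGT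
  · exact Groth.Agent.Lib.LpullQCoh35.isQCohD_restrictD j G hG
  · intro i x hx
    have h1 := mem_support_of_mem_support_restrictD j G i x hx
    have h2 := hGs i h1
    have h3 : Set.range U'.ι.base = (U' : Set Xbar) := Scheme.Opens.range_ι U'
    rw [h3, hU', compl_compl] at h2
    have h4 : Set.range U.ι.base = (U : Set X) := Scheme.Opens.range_ι U
    rw [h4]
    have h5 : x ∈ closure ((U : Set X)ᶜ) := by
      rw [j.isOpenEmbedding.isInducing.closure_eq_preimage_closure_image]
      exact h2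
    rwa [U.isOpen.isClosed_compl.closure_eq] at h5

end Scheme

end Groth.Agent.Lib.RgammaZSupp66
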