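import Mathlib
import Groth.Agent.Lib.RDFCrit66
import Groth.Agent.Lib.MVDer66
import Groth.Agent.Lib.SchKInj66
import Groth.Agent.Lib.SuppD66
import Groth.Agent.Lib.PerfectD
import Groth.Agent.Lib.RgammaZPlusSupp92
import Groth.Agent.Lib.FlatBaseChangeD
import Groth.Agent.Lib.ModStalk
import Groth.Agent.Lib.H90QCohLocalization
import Groth.Agent.S6508
import Groth.Prelude.Def_CxOX

/-!
# Unbounded `RΓ_Z`: vanishing off `Z`, and the unit `E ⟶ Rj_* j^* E` for `E` supported in `j(X)`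
-/

set_option autoImplicit false
universe u

open CategoryTheory CategoryTheory.Limits AlgebraicGeometry

namespace Groth.Agent.Lib.RgammaZUnit66

open Groth.Agent.Lib.RDFCrit66

section General

variable {𝒜 : Type*} [Category* 𝒜] [Abelian 𝒜]

/-- a complex with vanishing terms is zero -/
lemma isZero_of_isZero_X (K : CochainComplex 𝒜 ℤ) (h : ∀ n, IsZero (K.X n)) : IsZero K := by
  rw [IsZero.iff_id_eq_zero]
  ext n
  exact (h n).eq_of_src _ _

/-- `(𝟭 A).mapHomotopyCategory ≅ 𝟭` -/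
noncomputable def mapHomotopyCategoryIdIso :
    (𝟭 𝒜).mapHomotopyCategory (ComplexShape.up ℤ) ≅ 𝟭 (HomotopyCategory 𝒜 (ComplexShape.up ℤ)) :=
  Quotient.natIsoLift _
    (Functor.isoWhiskerRight (Functor.mapHomologicalComplexIdIso 𝒜 (ComplexShape.up ℤ))
      (HomotopyCategory.quotient 𝒜 (ComplexShape.up ℤ)) ≪≫
      Functor.leftUnitor _ ≪≫ (Functor.rightUnitor _).symm)

end General

section DerId

variable {𝒜 ℬ : Type*} [Category* 𝒜] [Abelian 𝒜] [HasDerivedCategory 𝒜]
  [Category* ℬ] [Abelian ℬ] [HasDerivedCategory ℬ]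

/-- `Kh 𝟭 ≅ Qh` -/
noncomputable def khIdIso : Kh (𝟭 𝒜) ≅ (DerivedCategory.Qh : _ ⥤ DerivedCategory 𝒜) :=
  Functor.isoWhiskerRight mapHomotopyCategoryIdIso DerivedCategory.Qh ≪≫ Functor.leftUnitor _

/-- if `F ⋙ E ≅ 𝟭` with `E` exact then `RD F ⋙ E.mapDerivedCategory ≅ 𝟭` -/
theorem nonempty_RD_comp_exact_iso_id (hKinj : EnoughKInj 𝒜) (F : 𝒜 ⥤ ℬ) [F.Additive]
    (E : ℬ ⥤ 𝒜) [E.Additive] [PreservesFiniteLimits E] [PreservesFiniteColimits E]
    [(Kh F).HasRightDerivedFunctor (HomotopyCategory.quasiIso 𝒜 (ComplexShape.up ℤ))]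
    (e : F ⋙ E ≅ 𝟭 𝒜) :
    Nonempty (RD F ⋙ E.mapDerivedCategory ≅ 𝟭 (DerivedCategory 𝒜)) := by
  let Φ₁ : HomotopyCategory 𝒜 (ComplexShape.up ℤ) ⥤ DerivedCategory 𝒜 :=
    Kh F ⋙ E.mapDerivedCategory
  let eΦ : Φ₁ ≅ DerivedCategory.Qh := khPostIso F E ≪≫ khCongr e ≪≫ khIdIso
  let α₁ : Φ₁ ⟶ DerivedCategory.Qh ⋙ (RD F ⋙ E.mapDerivedCategory) :=
    Functor.whiskerRight (RDunit F) E.mapDerivedCategory ≫ (Functor.associator _ _ _).hom
  let α₂ : (DerivedCategory.Qh : _ ⥤ DerivedCategory 𝒜) ⟶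
      DerivedCategory.Qh ⋙ 𝟭 (DerivedCategory 𝒜) := (Functor.rightUnitor _).inv
  refine nonempty_iso_of_isIso_kinj hKinj eΦ _ _ α₁ α₂ (fun I hI => ?_) (fun I hI => ?_)
  · have h3 : IsIso ((RDunit F).app ((HomotopyCategory.quotient 𝒜 (.up ℤ)).obj I)) :=
      Groth.Agent.KInjComp31.isIso_totalRightDerivedUnit_app hKinj _ I
    dsimp [α₁]
    infer_instance
  · dsimp [α₂]
    infer_instance

end DerId

section Scheme

attribute [local instance] HasDerivedCategory.standard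

variable {X Xbar : Scheme.{u}} (j : X ⟶ Xbar) [IsOpenImmersion j]

/-- the counit of any adjunction `j^* ⊣ Rj_*` (for an open immersion `j`) is an isomorphism -/
theorem isIso_counit_of_adj [DCoh.HasRpush j] (adj : DCoh.restrictD j ⊣ DCoh.Rpush j) :
    IsIso adj.counit := by
  obtain ⟨e⟩ := nonempty_RD_comp_exact_iso_id (Groth.Agent.Lib.SchKInj66.enoughKInj X)
    (Scheme.Modules.pushforward j) (Scheme.Modules.restrictFunctor j)
    (asIso (Scheme.Modules.restrictAdjunction j).counit)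
  exact adj.isIso_counit_of_iso e

/-- `(RΓ_Z G)|_W = 0` for `Z` the complement of `W` -/
theorem isZero_restrictD_RgammaZ (W : Xbar.Opens) [CxOX.HasRgammaZ W.ι] (G : DCoh.D Xbar) :
    IsZero ((DCoh.restrictD W.ι).obj ((CxOX.RgammaZ W.ι).obj G)) := by
  let c := ComplexShape.up ℤ
  let K := DerivedCategory.Q.objPreimage G
  obtain ⟨I, a, hI, ha⟩ := Groth.Agent.Lib.SchKInj66.enoughKInj Xbar K
  have : IsIso (DerivedCategory.Q.map a) := inferInstance
  let eG : G ≅ DerivedCategory.Q.obj I :=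
    (DerivedCategory.Q.objObjPreimageIso G).symm ≪≫ asIso (DerivedCategory.Q.map a)
  let L := ((DCoh.gammaZ W.ι).mapHomologicalComplex c).obj I
  let e1 : (CxOX.RgammaZ W.ι).obj G ≅ DerivedCategory.Q.obj L :=
    (CxOX.RgammaZ W.ι).mapIso eG ≪≫
      RDObjIso (Groth.Agent.Lib.SchKInj66.enoughKInj Xbar) (DCoh.gammaZ W.ι) I
  let e2 : (DCoh.restrictD W.ι).obj ((CxOX.RgammaZ W.ι).obj G) ≅
      DerivedCategory.Q.obj (((Scheme.Modules.restrictFunctor W.ι).mapHomologicalComplex c).obj L) :=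
    (DCoh.restrictD W.ι).mapIso e1 ≪≫
      (Scheme.Modules.restrictFunctor W.ι).mapDerivedCategoryFactors.app L
  have hz : IsZero (((Scheme.Modules.restrictFunctor W.ι).mapHomologicalComplex c).obj L) :=
    isZero_of_isZero_X _ (fun n =>
      Groth.Agent.Lib.RgammaZPlusSupp92.isZero_restrict_gammaZ W.ι (I.X n))
  exact (DerivedCategory.Q.map_isZero hz).of_iso e2

/-- if `E|_W = 0` then `(Rj_* j^* E)|_W = 0` -/
theorem isZero_restrictD_Rpush_restrictD [DCoh.HasRpush j] (W : Xbar.Opens) (E : DCoh.D Xbar)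
    (hE : IsZero ((DCoh.restrictD W.ι).obj E)) :
    IsZero ((DCoh.restrictD W.ι).obj ((DCoh.Rpush j).obj ((DCoh.restrictD j).obj E))) := by
  have hR : DCoh.HasRpush (j ∣_ W) :=
    hasRightDerivedFunctor (Groth.Agent.Lib.SchKInj66.enoughKInj _) _
  obtain ⟨e1⟩ := Groth.Agent.S6508.result j W
  let k : (j ⁻¹ᵁ W : Scheme.{u}) ⟶ Xbar := (j ⁻¹ᵁ W).ι ≫ j
  have h1 : IsZero ((DCoh.restrictD (j ∣_ W)).obj ((DCoh.restrictD W.ι).obj E)) :=
    Functor.map_isZero _ hE
  have h2 : IsZero ((DCoh.restrictD k).obj E) :=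
    h1.of_iso ((Groth.Agent.Lib.PerfectD.restrictDCompIso (j ∣_ W) W.ι k
      (morphismRestrict_ι j W)).app E).symm
  have h3 : IsZero ((DCoh.restrictD (j ⁻¹ᵁ W).ι).obj ((DCoh.restrictD j).obj E)) :=
    h2.of_iso ((Groth.Agent.Lib.PerfectD.restrictDCompIso (j ⁻¹ᵁ W).ι j k rfl).app E)
  have hadd : (DCoh.Rpush (j ∣_ W)).Additive := Groth.Agent.RFTriang31.additive
    (Groth.Agent.Lib.SchKInj66.enoughKInj _) (Kh (Scheme.Modules.pushforward (j ∣_ W)))
    (RD (Scheme.Modules.pushforward (j ∣_ W))) (RDunit _)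
  have h4 : IsZero ((DCoh.Rpush (j ∣_ W)).obj
      ((DCoh.restrictD (j ⁻¹ᵁ W).ι).obj ((DCoh.restrictD j).obj E))) := Functor.map_isZero _ h3
  exact h4.of_iso (e1.app ((DCoh.restrictD j).obj E))

/-- a module whose restriction along an open immersion vanishes has vanishing stalks on the image -/
theorem subsingleton_stalk_of_isZero_restrict (N : Xbar.Modules)
    (h : IsZero ((Scheme.Modules.restrictFunctor j).obj N)) (x : X) :
    Subsingleton (N.presheaf.stalk (j x)) := by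
  have h1 : IsZero ((Groth.Agent.Lib.ModStalk.stalkFunctor x).obj
      ((Scheme.Modules.restrictFunctor j).obj N)) :=
    (Groth.Agent.Lib.ModStalk.stalkFunctor x).map_isZero h
  have e := (Scheme.Modules.restrictStalkNatIso j x).app N
  have h2 : IsZero (N.presheaf.stalk (j x)) := h1.of_iso e.symm
  exact AddCommGrpCat.subsingleton_of_isZero h2

/-- an object of `D(O_X̄)` vanishing on `W` and on `j(X)` is zero when `W ∪ j(X) = X̄` -/
theorem isZero_of_isZero_restrictD (W : Xbar.Opens)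
    (hcov : ∀ y : Xbar, y ∈ W ∨ y ∈ Set.range j.base) (C : DCoh.D Xbar)
    (hW : IsZero ((DCoh.restrictD W.ι).obj C)) (hj : IsZero ((DCoh.restrictD j).obj C)) :
    IsZero C := by
  apply Groth.Agent.Lib.SuppD66.isZero_of_homology
  intro n
  apply Groth.Agent.Lib.H90QCohLocalization.isZero_of_stalks
  intro y
  rcases hcov y with hy | ⟨x, rfl⟩
  · have h1 : IsZero ((Scheme.Modules.restrictFunctor W.ι).obj
        ((DerivedCategory.homologyFunctor Xbar.Modules n).obj C)) :=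
      ((DerivedCategory.homologyFunctor _ n).map_isZero hW).of_iso
        ((Groth.Agent.Lib.FlatBaseChangeD.mapDerivedCategoryHomologyIso
          (Scheme.Modules.restrictFunctor W.ι) n).app C).symm
    exact Groth.Agent.Lib.ModStalk.subsingleton_stalk_of_isZero_restrict _ W h1 y hy
  · have h1 : IsZero ((Scheme.Modules.restrictFunctor j).obj
        ((DerivedCategory.homologyFunctor Xbar.Modules n).obj C)) :=
      ((DerivedCategory.homologyFunctor _ n).map_isZero hj).of_iso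
        ((Groth.Agent.Lib.FlatBaseChangeD.mapDerivedCategoryHomologyIso
          (Scheme.Modules.restrictFunctor j) n).app C).symm
    exact subsingleton_stalk_of_isZero_restrict j _ h1 x

lemma isIso_of_isZero {𝒞 : Type*} [Category* 𝒞] [HasZeroMorphisms 𝒞] {A B : 𝒞} (f : A ⟶ B)
    (hA : IsZero A) (hB : IsZero B) : IsIso f :=
  ⟨0, hA.eq_of_src _ _, hB.eq_of_src _ _⟩

open Pretriangulated in
/-- for an open immersion `j` and any adjunction `j^* ⊣ Rj_*`, the unit `E ⟶ Rj_* j^* E` is an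
isomorphism when `E` vanishes on an open `W` with `W ∪ j(X) = X̄` -/
theorem isIso_unit_of_isZero_restrictD [DCoh.HasRpush j] (adj : DCoh.restrictD j ⊣ DCoh.Rpush j)
    (W : Xbar.Opens) (hcov : ∀ y : Xbar, y ∈ W ∨ y ∈ Set.range j.base) (E : DCoh.D Xbar)
    (hE : IsZero ((DCoh.restrictD W.ι).obj E)) : IsIso (adj.unit.app E) := by
  obtain ⟨C, p, q, hT⟩ := distinguished_cocone_triangle (adj.unit.app E)
  have hTW := (DCoh.restrictD W.ι).map_distinguished _ hT
  have hTj := (DCoh.restrictD j).map_distinguished _ hT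
  have hCW : IsZero ((DCoh.restrictD W.ι).obj C) :=
    (Triangle.isZero₃_iff_isIso₁ _ hTW).2
      (isIso_of_isZero _ hE (isZero_restrictD_Rpush_restrictD j W E hE))
  have hcounit : IsIso adj.counit := isIso_counit_of_adj j adj
  have hη : IsIso ((DCoh.restrictD j).map (adj.unit.app E)) := by
    have h := adj.left_triangle_components E
    have h1 : IsIso ((DCoh.restrictD j).map (adj.unit.app E) ≫
        adj.counit.app ((DCoh.restrictD j).obj E)) := by rw [h]; exact IsIso.id _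
    exact IsIso.of_isIso_comp_right _ (adj.counit.app ((DCoh.restrictD j).obj E))
  have hCj : IsZero ((DCoh.restrictD j).obj C) := (Triangle.isZero₃_iff_isIso₁ _ hTj).2 hη
  have hC : IsZero C := isZero_of_isZero_restrictD j W hcov C hCW hCj
  exact (Triangle.isZero₃_iff_isIso₁ _ hT).1 hC

/-- **S14368** -/
theorem isIso_unit_RgammaZ [DCoh.HasRpush j] (adj : DCoh.restrictD j ⊣ DCoh.Rpush j)
    (W : Xbar.Opens) (hW : (W : Set Xbar)ᶜ ⊆ Set.range j.base) [CxOX.HasRgammaZ W.ι]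
    (G : DCoh.D Xbar) : IsIso (adj.unit.app ((CxOX.RgammaZ W.ι).obj G)) := by
  apply isIso_unit_of_isZero_restrictD j adj W _ _ (isZero_restrictD_RgammaZ W G)
  intro y
  by_cases hy : y ∈ W
  · exact Or.inl hy
  · exact Or.inr (hW hy)

end Scheme

end Groth.Agent.Lib.RgammaZUnit66
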