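import Mathlib
import Groth.Prelude.Def_Exal

/-!
# Sections `B₀ → B/t^n` from rigidity (helper1)

`B` a `k`-algebra, `t : B` a non-zero-divisor, `ρ : B → B₀` surjective with kernel `tB`.  If every `k`-extension of `B₀` by `B₀`
is trivial, then for each `n` the reduction `B/t^(n+1) → B₀` has a `k`-algebra section (`exists_section`).
-/

set_option autoImplicit false
set_option linter.unusedSectionVars false
universe u

namespace Groth.Agent.Lib.RigidSections

variable {k : Type u} [Field k] {B B₀ : Type u} [CommRing B] [CommRing B₀] [Algebra k B] [Algebra k B₀]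
  (t : B) (ρ : B →ₐ[k] B₀) (hρ : Function.Surjective ρ)
  (hker : ∀ b, ρ b = 0 ↔ ∃ b', b = t * b')
  (ht : ∀ b, t * b = 0 → b = 0)

/-- `B/t^n`. -/
abbrev Bn (n : ℕ) : Type u := B ⧸ Ideal.span {t ^ n}

/-- the reduction `B/t^(n+1) → B/t^n`. -/
def pi (n : ℕ) : Bn t (n + 1) →ₐ[k] Bn t n :=
  Ideal.Quotient.factorₐ k (Ideal.span_singleton_le_span_singleton.mpr ⟨t, pow_succ t n⟩)

theorem pi_mk (n : ℕ) (b : B) : pi (k := k) t n (Ideal.Quotient.mk _ b) = Ideal.Quotient.mk _ b := rfl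

include hker in
theorem rho_t : ρ t = 0 := (hker t).mpr ⟨1, (mul_one t).symm⟩

/-- the reduction `B/t^(n+1) → B₀`. -/
def rhoN (n : ℕ) : Bn t (n + 1) →ₐ[k] B₀ :=
  Ideal.Quotient.liftₐ (Ideal.span {t ^ (n + 1)}) ρ (fun b hb => by
    obtain ⟨c, rfl⟩ := Ideal.mem_span_singleton.mp hb
    rw [map_mul, map_pow, rho_t t ρ hker, zero_pow (Nat.succ_ne_zero n), zero_mul])

theorem rhoN_mk (n : ℕ) (b : B) : rhoN t ρ hker n (Ideal.Quotient.mk _ b) = ρ b := rfl

theorem rhoN_pi (n : ℕ) (y : Bn t (n + 2)) : rhoN t ρ hker n (pi (k := k) t (n + 1) y) = rhoN t ρ hker (n + 1) y := by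
  obtain ⟨b, rfl⟩ := Ideal.Quotient.mk_surjective y
  rfl

section Step

variable (n : ℕ) (s : B₀ →ₐ[k] Bn t (n + 1)) (hs : ∀ c, rhoN t ρ hker n (s c) = c)

/-- multiplication by `t^(n+1)` as a map `B → B/t^(n+2)`. -/
def mulT : B →+ Bn t (n + 2) where
  toFun b := Ideal.Quotient.mk _ (t ^ (n + 1) * b)
  map_zero' := by rw [mul_zero, map_zero]
  map_add' x y := by rw [mul_add, map_add]

include hker in
theorem ker_le_ker_mulT : ρ.toRingHom.toAddMonoidHom.ker ≤ (mulT t n).ker := by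
  intro b hb
  rw [AddMonoidHom.mem_ker] at hb ⊢
  obtain ⟨b', rfl⟩ := (hker b).mp hb
  change Ideal.Quotient.mk _ (t ^ (n + 1) * (t * b')) = 0
  rw [Ideal.Quotient.eq_zero_iff_mem, Ideal.mem_span_singleton]
  exact ⟨b', by ring⟩

/-- `B₀ → B/t^(n+2)`, `ρ b ↦ t^(n+1) b`. -/
noncomputable def mu : B₀ →+ Bn t (n + 2) :=
  AddMonoidHom.liftOfRightInverse ρ.toRingHom.toAddMonoidHom (Function.surjInv hρ)
    (Function.rightInverse_surjInv hρ) ⟨mulT t n, ker_le_ker_mulT t ρ hker n⟩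

theorem mu_rho (b : B) : mu t ρ hρ hker n (ρ b) = Ideal.Quotient.mk _ (t ^ (n + 1) * b) :=
  AddMonoidHom.liftOfRightInverse_comp_apply _ _ _ ⟨mulT t n, ker_le_ker_mulT t ρ hker n⟩ b

theorem pi_mu (c : B₀) : pi (k := k) t (n + 1) (mu t ρ hρ hker n c) = 0 := by
  obtain ⟨b, rfl⟩ := hρ c
  rw [mu_rho, pi_mk, Ideal.Quotient.eq_zero_iff_mem, Ideal.mem_span_singleton]
  exact ⟨b, rfl⟩

/-- the pulled-back extension ring. -/
def XE : Subalgebra k (B₀ × Bn t (n + 2)) :=
  AlgHom.equalizer (s.comp (AlgHom.fst k B₀ (Bn t (n + 2))))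
    ((pi t (n + 1)).comp (AlgHom.snd k B₀ (Bn t (n + 2))))

theorem mem_XE {x : B₀ × Bn t (n + 2)} : x ∈ XE t n s ↔ s x.1 = pi (k := k) t (n + 1) x.2 := Iff.rfl

/-- projection. -/
def Xproj : XE t n s →ₐ[k] B₀ := (AlgHom.fst k B₀ (Bn t (n + 2))).comp (XE t n s).val

/-- inclusion. -/
noncomputable def Xincl : B₀ →+ XE t n s where
  toFun c := ⟨(0, mu t ρ hρ hker n c), by rw [mem_XE, map_zero, pi_mu]⟩
  map_zero' := by apply Subtype.ext; simp
  map_add' x y := by apply Subtype.ext; simp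

include hs ht in
theorem isExtension : Exal.IsExtension (Xproj t n s) (Xincl t ρ hρ hker n s) where
  proj_surjective := fun c => by
    obtain ⟨y, hy⟩ := Ideal.Quotient.factor_surjective
      (Ideal.span_singleton_le_span_singleton.mpr ⟨t, pow_succ t (n + 1)⟩) (s c)
    exact ⟨⟨(c, y), by rw [mem_XE]; exact hy.symm⟩, rfl⟩
  incl_injective := by
    rw [injective_iff_map_eq_zero]
    intro c hc
    have h2 : mu t ρ hρ hker n c = 0 := congrArg (fun x : XE t n s => x.1.2) hc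
    obtain ⟨b, rfl⟩ := hρ c
    rw [mu_rho, Ideal.Quotient.eq_zero_iff_mem, Ideal.mem_span_singleton] at h2
    obtain ⟨b', hb'⟩ := h2
    have h3 : t ^ (n + 1) * (b - t * b') = 0 := by rw [mul_sub, hb']; ring
    have h4 : ∀ (m : ℕ) (x : B), t ^ m * x = 0 → x = 0 := by
      intro m
      induction m with
      | zero => intro x hx; simpa using hx
      | succ m ih => intro x hx; exact ih x (ht _ (by rw [← hx]; ring))
    have h5 := h4 _ _ h3
    rw [sub_eq_zero] at h5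
    exact (hker b).mpr ⟨b', h5⟩
  exact := fun x => by
    constructor
    · intro hx
      obtain ⟨⟨c, y⟩, hxy⟩ := x
      change c = 0 at hx
      subst hx
      rw [mem_XE, map_zero] at hxy
      obtain ⟨b, rfl⟩ := Ideal.Quotient.mk_surjective y
      have h1 : Ideal.Quotient.mk (Ideal.span {t ^ (n + 1)}) b = 0 := hxy.symm
      rw [Ideal.Quotient.eq_zero_iff_mem, Ideal.mem_span_singleton] at h1
      obtain ⟨b', rfl⟩ := h1
      refine ⟨ρ b', Subtype.ext (Prod.ext rfl ?_)⟩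
      change mu t ρ hρ hker n (ρ b') = _
      rw [mu_rho]
    · rintro ⟨c, rfl⟩
      rfl
  mul_incl := fun x c => by
    obtain ⟨⟨c₀, y⟩, hxy⟩ := x
    apply Subtype.ext
    apply Prod.ext
    · change c₀ * 0 = 0
      rw [mul_zero]
    · change y * mu t ρ hρ hker n c = mu t ρ hρ hker n (c₀ • c)
      rw [mem_XE] at hxy
      obtain ⟨b, rfl⟩ := Ideal.Quotient.mk_surjective y
      obtain ⟨b', rfl⟩ := hρ c
      have h1 : c₀ = ρ b := by
        have := hs c₀
        rw [hxy, rhoN_pi] at this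
        exact this.symm
      rw [h1, smul_eq_mul, ← map_mul, mu_rho, mu_rho, ← map_mul]
      congr 1
      ring

/-- the extension. -/
noncomputable def X : Exal.Ext k B₀ B₀ where
  E := XE t n s
  proj := Xproj t n s
  incl := Xincl t ρ hρ hker n s
  isExtension := isExtension t ρ hρ hker ht n s hs

include hρ hs ht in
theorem step (hrig : ∀ X : Exal.Ext k B₀ B₀, X.IsTrivial) :
    ∃ s' : B₀ →ₐ[k] Bn t (n + 2), ∀ c, rhoN t ρ hker (n + 1) (s' c) = c := by
  obtain ⟨σ, hσ⟩ := hrig (X t ρ hρ hker ht n s hs)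
  let σ' : B₀ →ₐ[k] XE t n s := σ
  have hσ' : ∀ c, (σ' c).1.1 = c := hσ
  refine ⟨((AlgHom.snd k B₀ (Bn t (n + 2))).comp (XE t n s).val).comp σ', fun c => ?_⟩
  change rhoN t ρ hker (n + 1) (σ' c).1.2 = c
  have h1 : s (σ' c).1.1 = pi (k := k) t (n + 1) (σ' c).1.2 := (σ' c).2
  rw [← rhoN_pi, ← h1, hσ', hs]

end Step

include hρ ht in
theorem exists_section (hrig : ∀ X : Exal.Ext k B₀ B₀, X.IsTrivial) (n : ℕ) :
    ∃ s : B₀ →ₐ[k] Bn t (n + 1), ∀ c, rhoN t ρ hker n (s c) = c := by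
  induction n with
  | zero =>
    have hk : RingHom.ker ρ.toRingHom ≤ RingHom.ker (Ideal.Quotient.mkₐ k (Ideal.span {t ^ (0 + 1)})).toRingHom := by
      intro b hb
      rw [RingHom.mem_ker] at hb ⊢
      obtain ⟨b', rfl⟩ := (hker b).mp hb
      change Ideal.Quotient.mk _ (t * b') = 0
      rw [Ideal.Quotient.eq_zero_iff_mem, Ideal.mem_span_singleton]
      exact ⟨b', by ring⟩
    refine ⟨AlgHom.liftOfSurjective ρ hρ (Ideal.Quotient.mkₐ k (Ideal.span {t ^ (0 + 1)})) hk, fun c => ?_⟩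
    obtain ⟨b, rfl⟩ := hρ c
    rw [AlgHom.liftOfSurjective_apply]
    rfl
  | succ n ih =>
    obtain ⟨s, hs⟩ := ih
    exact step t ρ hρ hker ht n s hs hrig

end Groth.Agent.Lib.RigidSections
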