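import Mathlib

/-!
# Trivial deformations over `k[τ]/τ^N`-like bases (helper1)

`Λ` a `k`-algebra with `Λ = k + τΛ` and `τ ^ N = 0`; `R` a `Λ`-algebra "flat" in the sense `τ^j r = 0 → r ∈ τ^(N-j) R`,
with a `k`-algebra section `s : R₀ → R` of a surjection `ρ : R → R₀` with kernel `τR`.  Then
`phi s : Λ ⊗[k] R₀ →ₐ[Λ] R`, `a ⊗ c ↦ a • s c` is bijective (`phi_surjective`, `phi_injective`).
-/

set_option autoImplicit false
set_option linter.unusedSectionVars false
universe u
open scoped TensorProduct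

namespace Groth.Agent.Lib.TrivDefAlg

section Expansion

variable {k : Type*} [Field k] {Λ : Type*} [CommRing Λ] [Algebra k Λ] (τ : Λ)
  (hres : ∀ a : Λ, ∃ c : k, a - algebraMap k Λ c ∈ Ideal.span {τ})

include hres in
theorem exists_expansion (m : ℕ) (a : Λ) :
    ∃ (κ : ℕ → k) (a' : Λ), a = ∑ j ∈ Finset.range m, algebraMap k Λ (κ j) * τ ^ j + τ ^ m * a' := by
  induction m generalizing a with
  | zero => exact ⟨fun _ => 0, a, by simp⟩
  | succ m ih =>
    obtain ⟨c, hc⟩ := hres a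
    obtain ⟨a₁, ha₁⟩ := Ideal.mem_span_singleton'.mp hc
    obtain ⟨κ, a', h⟩ := ih a₁
    refine ⟨fun j => if j = 0 then c else κ (j - 1), a', ?_⟩
    rw [Finset.sum_range_succ']
    simp only [Nat.add_eq_zero_iff, one_ne_zero, and_false, ↓reduceIte, Nat.add_sub_cancel, pow_zero, mul_one]
    have : a = algebraMap k Λ c + a₁ * τ := by rw [ha₁]; ring
    rw [this, h, add_mul, Finset.sum_mul]
    have h2 : ∀ j ∈ Finset.range m, algebraMap k Λ (κ j) * τ ^ j * τ = algebraMap k Λ (κ j) * τ ^ (j + 1) := by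
      intro j _; ring
    rw [Finset.sum_congr rfl h2]
    ring

include hres in
theorem exists_expansion_of_pow_eq_zero (N : ℕ) (hτ : τ ^ N = 0) (a : Λ) :
    ∃ κ : ℕ → k, a = ∑ j ∈ Finset.range N, algebraMap k Λ (κ j) * τ ^ j := by
  obtain ⟨κ, a', h⟩ := exists_expansion τ hres N a
  exact ⟨κ, by rw [h, hτ, zero_mul, add_zero]⟩

include hres in
theorem exists_tensor_expansion (N : ℕ) (hτ : τ ^ N = 0) {R₀ : Type*} [AddCommGroup R₀] [Module k R₀]
    (z : Λ ⊗[k] R₀) : ∃ c : ℕ → R₀, z = ∑ j ∈ Finset.range N, (τ ^ j) ⊗ₜ[k] c j := by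
  induction z using TensorProduct.induction_on with
  | zero => exact ⟨fun _ => 0, by simp⟩
  | tmul a r =>
    obtain ⟨κ, h⟩ := exists_expansion_of_pow_eq_zero τ hres N hτ a
    refine ⟨fun j => κ j • r, ?_⟩
    rw [h, TensorProduct.sum_tmul]
    refine Finset.sum_congr rfl fun j _ => ?_
    rw [← Algebra.smul_def, TensorProduct.smul_tmul]
  | add x y hx hy =>
    obtain ⟨c, hc⟩ := hx
    obtain ⟨c', hc'⟩ := hy
    refine ⟨fun j => c j + c' j, ?_⟩
    rw [hc, hc', ← Finset.sum_add_distrib]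
    refine Finset.sum_congr rfl fun j _ => ?_
    rw [TensorProduct.tmul_add]

end Expansion


section Phi

variable {k : Type*} [Field k] {Λ : Type*} [CommRing Λ] [Algebra k Λ] (τ : Λ)
  {R : Type*} [CommRing R] [Algebra Λ R] [Algebra k R] [IsScalarTower k Λ R]
  {R₀ : Type*} [CommRing R₀] [Algebra k R₀]
  (ρ : R →ₐ[k] R₀) (s : R₀ →ₐ[k] R)

/-- the comparison map `Λ ⊗ R₀ → R`. -/
noncomputable def phi : Λ ⊗[k] R₀ →ₐ[Λ] R :=
  Algebra.TensorProduct.lift (Algebra.ofId Λ R) s (fun _ _ => Commute.all _ _)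

theorem phi_tmul (a : Λ) (c : R₀) : phi (k := k) s (a ⊗ₜ c) = algebraMap Λ R a * s c := by
  simp [phi, Algebra.ofId_apply]

variable (hρs : ∀ c, ρ (s c) = c)
  (hker : ∀ r, ρ r = 0 → ∃ r', r = algebraMap Λ R τ * r')
  (hρτ : ρ (algebraMap Λ R τ) = 0)

include hρs hker in
theorem phi_surjective (N : ℕ) (hτ : τ ^ N = 0) : Function.Surjective (phi (k := k) (Λ := Λ) s) := by
  have key : ∀ (j : ℕ) (r : R), ∃ (z : Λ ⊗[k] R₀) (r' : R), r - phi s z = algebraMap Λ R τ ^ j * r' := by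
    intro j
    induction j with
    | zero => intro r; exact ⟨0, r, by simp⟩
    | succ j ih =>
      intro r
      obtain ⟨z, r', h⟩ := ih r
      obtain ⟨r'', h''⟩ := hker (r' - s (ρ r')) (by rw [map_sub, hρs, sub_self])
      refine ⟨z + (τ ^ j) ⊗ₜ ρ r', r'', ?_⟩
      rw [map_add, phi_tmul, map_pow, pow_succ, mul_assoc, ← h'', mul_sub, ← h]
      ring
  intro r
  obtain ⟨z, r', h⟩ := key N r
  refine ⟨z, ?_⟩
  rw [← map_pow, hτ, map_zero, zero_mul, sub_eq_zero] at h
  exact h.symm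

include hρs hρτ in
theorem coeff_eq_zero (N : ℕ)
    (hT : ∀ j ≤ N, ∀ r : R, algebraMap Λ R τ ^ j * r = 0 → ∃ r', r = algebraMap Λ R τ ^ (N - j) * r')
    (m : ℕ) (hm : m ≤ N) (c : ℕ → R₀)
    (h : algebraMap Λ R τ ^ (N - m) * ∑ j ∈ Finset.range m, algebraMap Λ R τ ^ j * s (c j) = 0) :
    ∀ j < m, c j = 0 := by
  induction m generalizing c with
  | zero => intro j hj; exact absurd hj (Nat.not_lt_zero j)
  | succ m ih =>
    rw [Finset.sum_range_succ'] at h
    obtain ⟨r', hr'⟩ := hT (N - (m + 1)) (Nat.sub_le _ _) _ h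
    have hN : N - (N - (m + 1)) = m + 1 := by omega
    rw [hN] at hr'
    have h0 : c 0 = 0 := by
      have := congrArg ρ hr'
      rw [map_add, pow_zero, one_mul, hρs, pow_succ', mul_assoc, map_mul ρ (algebraMap Λ R τ), hρτ, zero_mul,
        map_sum] at this
      have h2 : ∀ j ∈ Finset.range m, ρ (algebraMap Λ R τ ^ (j + 1) * s (c (j + 1))) = 0 := by
        intro j _
        rw [pow_succ', mul_assoc, map_mul, hρτ, zero_mul]
      rw [Finset.sum_eq_zero h2, zero_add] at this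
      exact this
    have h1 : algebraMap Λ R τ ^ (N - m) * ∑ j ∈ Finset.range m, algebraMap Λ R τ ^ j * s (c (j + 1)) = 0 := by
      rw [h0, map_zero, mul_zero, add_zero] at h
      have hNm : N - m = (N - (m + 1)) + 1 := by omega
      rw [hNm, pow_succ, mul_assoc, Finset.mul_sum]
      rw [← h]
      congr 1
      refine Finset.sum_congr rfl fun j _ => ?_
      ring
    intro j hj
    cases j with
    | zero => exact h0
    | succ j => exact ih (by omega) (fun j => c (j + 1)) h1 j (by omega)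

include hρs hρτ in
theorem phi_injective (hres : ∀ a : Λ, ∃ c : k, a - algebraMap k Λ c ∈ Ideal.span {τ})
    (N : ℕ) (hτ : τ ^ N = 0)
    (hT : ∀ j ≤ N, ∀ r : R, algebraMap Λ R τ ^ j * r = 0 → ∃ r', r = algebraMap Λ R τ ^ (N - j) * r') :
    Function.Injective (phi (k := k) (Λ := Λ) s) := by
  rw [injective_iff_map_eq_zero]
  intro z hz
  obtain ⟨c, rfl⟩ := exists_tensor_expansion τ hres N hτ z
  rw [map_sum] at hz
  have h : algebraMap Λ R τ ^ (N - N) * ∑ j ∈ Finset.range N, algebraMap Λ R τ ^ j * s (c j) = 0 := by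
    rw [Nat.sub_self, pow_zero, one_mul, ← hz]
    refine Finset.sum_congr rfl fun j _ => ?_
    rw [phi_tmul, map_pow]
  have hc := coeff_eq_zero τ ρ s hρs hρτ N hT N le_rfl c h
  refine Finset.sum_eq_zero fun j hj => ?_
  rw [hc j (Finset.mem_range.mp hj), TensorProduct.tmul_zero]

end Phi

end Groth.Agent.Lib.TrivDefAlg
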