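import Mathlib
import Groth.Agent.Lib.TrivDefAlg
import Groth.Agent.Lib.RigidSections
import Groth.Agent.Lib.ExalTransfer2
import Groth.Agent.Lib.BaseChangeRetract
import Groth.Agent.S12292

/-!
# A rigid fibre of a family with `t^n`-split conormal sequence is formally smooth (helper1)

Core of Hartshorne, Deformation Theory, Thm 29.6 (rigid singularities are not smoothable), algebraic form:
`formallySmooth_of_rigid`.
-/

set_option autoImplicit false
set_option linter.unusedSectionVars false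
set_option linter.style.haveILetI false
set_option linter.unusedVariables false
universe u
open scoped TensorProduct

namespace Groth.Agent.Lib.RigidSmooth

open Groth.Agent.Lib

attribute [local instance] Exal.opModule Exal.isCentralScalar_opModule

theorem isTrivial_of_equiv_trivial {A : Type u} {B M : Type u} [CommRing A] [CommRing B] [Algebra A B]
    [AddCommGroup M] [Module B M] (X : Exal.Ext A B M) (eq : X.Equiv (Exal.Ext.trivial A B M)) :
    X.IsTrivial := by
  let s₀ : B →ₐ[A] (Exal.Ext.trivial A B M).E :=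
    { (show B →+* (Exal.Ext.trivial A B M).E from TrivSqZeroExt.inlHom B M) with
      commutes' := fun _ => rfl }
  refine ⟨(eq.toAlgEquiv.symm : _ →ₐ[A] _).comp s₀, fun b => ?_⟩
  have h := eq.proj_apply (eq.toAlgEquiv.symm (s₀ b))
  rw [AlgEquiv.apply_symm_apply] at h
  change X.proj (eq.toAlgEquiv.symm (s₀ b)) = b
  rw [← h]
  rfl

theorem isTrivial_of_subsingleton_T1 (k B₀ : Type u) [CommRing k] [CommRing B₀] [Algebra k B₀]
    (h : Subsingleton (CotT.T1 (CotT.canon k B₀) B₀)) (X : Exal.Ext k B₀ B₀) : X.IsTrivial := by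
  obtain ⟨e, he⟩ := Groth.Agent.S12292.result k B₀ B₀
  have h1 : X.cl = (Exal.Ext.trivial k B₀ B₀).cl := e.injective (Subsingleton.elim _ _)
  obtain ⟨eq⟩ := Quotient.exact h1
  exact isTrivial_of_equiv_trivial X eq


section Quot

variable {k : Type u} [Field k] {A B B₀ : Type u} [CommRing A] [CommRing B] [CommRing B₀]
  [Algebra k A] [Algebra A B] [Algebra k B] [IsScalarTower k A B] [Algebra k B₀]
  (t : A) (N : ℕ)

/-- algebra structure of `B/f^N` over `A/t^N`. -/
@[instance_reducible]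
noncomputable def quotAlgebra :
    Algebra (A ⧸ Ideal.span {t ^ N}) (B ⧸ Ideal.span {algebraMap A B t ^ N}) :=
  (Ideal.Quotient.lift _ ((Ideal.Quotient.mk (Ideal.span {algebraMap A B t ^ N})).comp (algebraMap A B)) (by
    intro a ha
    obtain ⟨a', rfl⟩ := Ideal.mem_span_singleton.mp ha
    rw [RingHom.comp_apply, map_mul, map_pow, Ideal.Quotient.eq_zero_iff_mem]
    exact Ideal.mem_span_singleton.mpr ⟨_, rfl⟩)).toAlgebra

attribute [local instance] quotAlgebra

theorem quotAlgebra_mk (a : A) :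
    algebraMap (A ⧸ Ideal.span {t ^ N}) (B ⧸ Ideal.span {algebraMap A B t ^ N}) (Ideal.Quotient.mk _ a) =
      Ideal.Quotient.mk _ (algebraMap A B a) := rfl

instance : IsScalarTower A (A ⧸ Ideal.span {t ^ N}) (B ⧸ Ideal.span {algebraMap A B t ^ N}) :=
  IsScalarTower.of_algebraMap_eq (fun _ => rfl)

instance : IsScalarTower k (A ⧸ Ideal.span {t ^ N}) (B ⧸ Ideal.span {algebraMap A B t ^ N}) :=
  IsScalarTower.of_algebraMap_eq (fun c => by
    change Ideal.Quotient.mk _ (algebraMap k B c) = Ideal.Quotient.mk _ (algebraMap A B (algebraMap k A c))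
    rw [← IsScalarTower.algebraMap_apply])

variable (hresA : ∀ a : A, ∃ c : k, a - algebraMap k A c ∈ Ideal.span {t})
  (htB : ∀ b : B, algebraMap A B t * b = 0 → b = 0)
  (ρ : B →ₐ[k] B₀) (hρ : Function.Surjective ρ)
  (hker : ∀ b, ρ b = 0 ↔ ∃ b', b = algebraMap A B t * b')
  (n₀ : ℕ) (s : B₀ →ₐ[k] RigidSections.Bn (algebraMap A B t) (n₀ + 1))
  (hs : ∀ c, RigidSections.rhoN (algebraMap A B t) ρ hker n₀ (s c) = c)

include hresA htB hρ hs in
theorem phi_bijective :
    Function.Bijective (TrivDefAlg.phi (k := k) (Λ := A ⧸ Ideal.span {t ^ (n₀ + 1)})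
      (R := RigidSections.Bn (algebraMap A B t) (n₀ + 1)) s) := by
  have hτ : (Ideal.Quotient.mk (Ideal.span {t ^ (n₀ + 1)}) t) ^ (n₀ + 1) = 0 := by
    rw [← map_pow, Ideal.Quotient.eq_zero_iff_mem]
    exact Ideal.mem_span_singleton_self _
  have hres : ∀ a : A ⧸ Ideal.span {t ^ (n₀ + 1)}, ∃ c : k,
      a - algebraMap k _ c ∈ Ideal.span {Ideal.Quotient.mk (Ideal.span {t ^ (n₀ + 1)}) t} := by
    intro a
    obtain ⟨a, rfl⟩ := Ideal.Quotient.mk_surjective a
    obtain ⟨c, hc⟩ := hresA a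
    refine ⟨c, ?_⟩
    obtain ⟨a', ha'⟩ := Ideal.mem_span_singleton'.mp hc
    rw [Ideal.mem_span_singleton']
    refine ⟨Ideal.Quotient.mk _ a', ?_⟩
    change _ = Ideal.Quotient.mk _ a - Ideal.Quotient.mk _ (algebraMap k A c)
    rw [← map_mul, ha', map_sub]
  have hτR : algebraMap (A ⧸ Ideal.span {t ^ (n₀ + 1)}) (RigidSections.Bn (algebraMap A B t) (n₀ + 1))
      (Ideal.Quotient.mk _ t) = Ideal.Quotient.mk _ (algebraMap A B t) := rfl
  have hkerN : ∀ r, RigidSections.rhoN (algebraMap A B t) ρ hker n₀ r = 0 →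
      ∃ r', r = algebraMap (A ⧸ Ideal.span {t ^ (n₀ + 1)}) (RigidSections.Bn (algebraMap A B t) (n₀ + 1))
        (Ideal.Quotient.mk _ t) * r' := by
    intro r hr
    obtain ⟨b, rfl⟩ := Ideal.Quotient.mk_surjective r
    obtain ⟨b', rfl⟩ := (hker b).mp hr
    exact ⟨Ideal.Quotient.mk _ b', by rw [hτR, ← map_mul]⟩
  have hρτ : RigidSections.rhoN (algebraMap A B t) ρ hker n₀
      (algebraMap (A ⧸ Ideal.span {t ^ (n₀ + 1)}) (RigidSections.Bn (algebraMap A B t) (n₀ + 1))
        (Ideal.Quotient.mk _ t)) = 0 := by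
    rw [hτR]
    exact RigidSections.rho_t (algebraMap A B t) ρ hker
  have hpow : ∀ (m : ℕ) (x : B), algebraMap A B t ^ m * x = 0 → x = 0 := by
    intro m
    induction m with
    | zero => intro x hx; simpa using hx
    | succ m ih => intro x hx; exact ih x (htB _ (by rw [← hx]; ring))
  have hT : ∀ j ≤ n₀ + 1, ∀ r : RigidSections.Bn (algebraMap A B t) (n₀ + 1),
      algebraMap (A ⧸ Ideal.span {t ^ (n₀ + 1)}) (RigidSections.Bn (algebraMap A B t) (n₀ + 1))
        (Ideal.Quotient.mk _ t) ^ j * r = 0 →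
      ∃ r', r = algebraMap (A ⧸ Ideal.span {t ^ (n₀ + 1)}) (RigidSections.Bn (algebraMap A B t) (n₀ + 1))
        (Ideal.Quotient.mk _ t) ^ (n₀ + 1 - j) * r' := by
    intro j hj r hr
    obtain ⟨b, rfl⟩ := Ideal.Quotient.mk_surjective r
    have hr' : Ideal.Quotient.mk (Ideal.span {algebraMap A B t ^ (n₀ + 1)}) (algebraMap A B t ^ j * b) = 0 := by
      rw [map_mul, map_pow]; exact hr
    rw [Ideal.Quotient.eq_zero_iff_mem, Ideal.mem_span_singleton] at hr'
    obtain ⟨b'', hb''⟩ := hr'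
    have h1 : algebraMap A B t ^ j * (b - algebraMap A B t ^ (n₀ + 1 - j) * b'') = 0 := by
      rw [mul_sub, hb'', ← mul_assoc, ← pow_add, Nat.add_sub_cancel' hj, sub_self]
    have h2 := hpow j _ h1
    rw [sub_eq_zero] at h2
    refine ⟨Ideal.Quotient.mk _ b'', ?_⟩
    have h3 : Ideal.Quotient.mk (Ideal.span {algebraMap A B t ^ (n₀ + 1)}) b =
        Ideal.Quotient.mk _ (algebraMap A B t) ^ (n₀ + 1 - j) * Ideal.Quotient.mk _ b'' := by
      conv_lhs => rw [h2]
      rw [map_mul, map_pow]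
    exact h3
  exact ⟨TrivDefAlg.phi_injective _ (RigidSections.rhoN (algebraMap A B t) ρ hker n₀) s hs hρτ hres (n₀ + 1) hτ hT,
    TrivDefAlg.phi_surjective _ (RigidSections.rhoN (algebraMap A B t) ρ hker n₀) s hs hkerN (n₀ + 1) hτ⟩

section Ext

variable (k A B₀)

/-- the base ring `A/t^(n₀+1)`. -/
abbrev Lam (t : A) (n₀ : ℕ) : Type u := A ⧸ Ideal.span {t ^ (n₀ + 1)}

/-- the standard extension of `B₀` over `k`. -/
noncomputable abbrev E0 : Algebra.Extension.{u} k B₀ := (Algebra.Generators.self k B₀).toExtension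

/-- its base change to `A/t^(n₀+1)`. -/
noncomputable abbrev E1 (t : A) (n₀ : ℕ) : Algebra.Extension.{u} (Lam A t n₀) (Lam A t n₀ ⊗[k] B₀) :=
  (E0 k B₀).baseChange (T := Lam A t n₀)

noncomputable instance instAlgE1 (t : A) (n₀ : ℕ) : Algebra A (E1 k A B₀ t n₀).Ring :=
  inferInstanceAs (Algebra A (Lam A t n₀ ⊗[k] (E0 k B₀).Ring))

instance (t : A) (n₀ : ℕ) : IsScalarTower A (Lam A t n₀) (E1 k A B₀ t n₀).Ring :=
  inferInstanceAs (IsScalarTower A (Lam A t n₀) (Lam A t n₀ ⊗[k] (E0 k B₀).Ring))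

instance (t : A) (n₀ : ℕ) : IsScalarTower A (E1 k A B₀ t n₀).Ring (Lam A t n₀ ⊗[k] B₀) :=
  IsScalarTower.of_algebraMap_eq (fun a => by
    rw [IsScalarTower.algebraMap_apply A (Lam A t n₀) (Lam A t n₀ ⊗[k] B₀),
      IsScalarTower.algebraMap_apply (Lam A t n₀) (E1 k A B₀ t n₀).Ring (Lam A t n₀ ⊗[k] B₀),
      ← IsScalarTower.algebraMap_apply A (Lam A t n₀) (E1 k A B₀ t n₀).Ring])

end Ext

include hresA htB hρ hs in
theorem formallySmooth_of_section
    (htA : t ^ n₀ ∉ Ideal.span {t ^ (n₀ + 1)})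
    {ι : Type u} (P : Algebra.Generators A B ι)
    (g : P.toExtension.CotangentSpace →ₗ[B] P.toExtension.Cotangent)
    (hg : ∀ c, g (P.toExtension.cotangentComplex c) = algebraMap A B (t ^ n₀) • c) :
    Algebra.FormallySmooth k B₀ := by
  let Λ := Lam A t n₀
  let R := RigidSections.Bn (algebraMap A B t) (n₀ + 1)
  let B' := Λ ⊗[k] B₀
  let Φ : B' ≃ₐ[Λ] R := AlgEquiv.ofBijective (TrivDefAlg.phi s) (phi_bijective t hresA htB ρ hρ hker n₀ s hs)
  let ψ : B →ₐ[A] B' := ((Φ.symm : R →ₐ[Λ] B').restrictScalars A).comp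
    (Ideal.Quotient.mkₐ A (Ideal.span {algebraMap A B t ^ (n₀ + 1)}))
  have hψ : ∀ b, ψ b = Φ.symm (Ideal.Quotient.mk _ b) := fun b => rfl
  letI : Algebra B B' := ψ.toRingHom.toAlgebra
  haveI : IsScalarTower A B B' := IsScalarTower.of_algebraMap_eq (fun a => (ψ.commutes a).symm)
  have hβ : Function.Surjective (algebraMap B B') := by
    intro b'
    obtain ⟨b, hb⟩ := Ideal.Quotient.mk_surjective (Φ b')
    refine ⟨b, ?_⟩
    change ψ b = b'
    rw [hψ, hb, AlgEquiv.symm_apply_apply]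
  have hα : Function.Surjective (algebraMap A Λ) := Ideal.Quotient.mk_surjective
  have hkerβ : ∀ b, algebraMap B B' b = 0 → ∃ a b₁, algebraMap A Λ a = 0 ∧ b = algebraMap A B a * b₁ := by
    intro b hb
    change ψ b = 0 at hb
    rw [hψ, map_eq_zero_iff _ Φ.symm.injective, Ideal.Quotient.eq_zero_iff_mem, Ideal.mem_span_singleton] at hb
    obtain ⟨b₁, rfl⟩ := hb
    refine ⟨t ^ (n₀ + 1), b₁, ?_, by rw [map_pow]⟩
    change Ideal.Quotient.mk _ (t ^ (n₀ + 1)) = 0
    rw [Ideal.Quotient.eq_zero_iff_mem]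
    exact Ideal.mem_span_singleton_self _
  -- extensions
  let E := P.toExtension
  let E₀ : Algebra.Extension.{u} k B₀ := E0 k B₀
  let E' : Algebra.Extension.{u} Λ B' := E1 k A B₀ t n₀
  have hsurj' : Function.Surjective (algebraMap E'.Ring B') := E'.algebraMap_surjective
  let gi : ι → E'.Ring := fun i => Function.surjInv hsurj' (ψ (P.val i))
  have hgi : ∀ i, algebraMap E'.Ring B' (gi i) = ψ (P.val i) := fun i =>
    Function.surjInv_eq hsurj' (ψ (P.val i))
  let F : MvPolynomial ι A →ₐ[A] E'.Ring := MvPolynomial.aeval gi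
  have hF1 : ∀ x : MvPolynomial ι A, algebraMap E'.Ring B' (F x) = ψ (MvPolynomial.aeval P.val x) := by
    intro x
    have h1 : (IsScalarTower.toAlgHom A E'.Ring B').comp F = ψ.comp (MvPolynomial.aeval P.val) := by
      apply MvPolynomial.algHom_ext
      intro i
      change algebraMap E'.Ring B' (F (MvPolynomial.X i)) = ψ (MvPolynomial.aeval P.val (MvPolynomial.X i))
      rw [MvPolynomial.aeval_X, MvPolynomial.aeval_X]
      exact hgi i
    exact AlgHom.congr_fun h1 x
  let fhom : E.Hom E' :=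
    { toRingHom := F.toRingHom
      toRingHom_algebraMap := fun a => by
        change F (algebraMap A (MvPolynomial ι A) a) = _
        rw [F.commutes, IsScalarTower.algebraMap_apply A Λ E'.Ring]
      algebraMap_toRingHom := fun x => by
        change algebraMap E'.Ring B' (F x) = ψ (algebraMap E.Ring B x)
        refine (hF1 x).trans ?_
        congr 1
        exact (P.algebraMap_apply x).symm }
  obtain ⟨g', hg'⟩ := ExalTransfer.exists_retract_up_to hα hβ hkerβ E E' fhom (t ^ n₀) g hg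
  -- the functional
  let τ : Λ := Ideal.Quotient.mk _ (t ^ n₀)
  have hτ0 : τ ≠ 0 := by
    intro h
    exact htA (Ideal.Quotient.eq_zero_iff_mem.mp h)
  have hinj : LinearMap.ker (LinearMap.toSpanSingleton k Λ τ) = ⊥ := by
    rw [LinearMap.ker_eq_bot]
    intro c c' hcc'
    have h1 : (c - c') • τ = 0 := by
      rw [sub_smul, sub_eq_zero]; exact hcc'
    rcases smul_eq_zero.mp h1 with h | h
    · exact sub_eq_zero.mp h
    · exact absurd h hτ0
  obtain ⟨lam, hlam⟩ := LinearMap.exists_leftInverse_of_injective (LinearMap.toSpanSingleton k Λ τ) hinj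
  have hlam1 : lam τ = 1 := by
    have := LinearMap.congr_fun hlam 1
    simpa using this
  have hg'' : ∀ c', g' (E'.cotangentComplex c') = (τ ⊗ₜ[k] (1 : B₀) : B') • c' := by
    intro c'
    rw [hg' c']
    congr 1
  obtain ⟨l, hl⟩ := BaseChangeRetract.exists_retraction E₀ Λ τ lam hlam1 g' hg''
  haveI : Algebra.FormallySmooth k (E0 k B₀).Ring :=
    inferInstanceAs (Algebra.FormallySmooth k (MvPolynomial B₀ k))
  exact (Algebra.Extension.formallySmooth_iff_split_injection (E0 k B₀)).mpr ⟨l, hl⟩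

include hresA htB hρ hker in
theorem formallySmooth_of_rigid (hrig : ∀ X : Exal.Ext k B₀ B₀, X.IsTrivial)
    (htA : t ^ n₀ ∉ Ideal.span {t ^ (n₀ + 1)})
    {ι : Type u} (P : Algebra.Generators A B ι)
    (g : P.toExtension.CotangentSpace →ₗ[B] P.toExtension.Cotangent)
    (hg : ∀ c, g (P.toExtension.cotangentComplex c) = algebraMap A B (t ^ n₀) • c) :
    Algebra.FormallySmooth k B₀ := by
  obtain ⟨s, hs⟩ := RigidSections.exists_section (algebraMap A B t) ρ hρ hker htB hrig n₀
  exact formallySmooth_of_section t hresA htB ρ hρ hker n₀ s hs htA P g hg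

end Quot

end Groth.Agent.Lib.RigidSmooth
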