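import Groth.Agent.Lib.ThetaBij31

/-!
# Cohomology sheaves of a derived limit (helper31)

`H^q(R lim K_n) ≅ lim H^q(K_n)` when the cohomology sheaves of the `K_n` are acyclic on a covering
class `B` and the towers `H^q(K_n)(U)`, `U ∈ B`, have vanishing `R¹lim`.
-/

set_option autoImplicit false
set_option linter.unusedSectionVars false

open CategoryTheory CategoryTheory.Limits Opposite Pretriangulated DerivedCategory
  DerivedCategory.TStructure

universe u

namespace Groth.Agent.RlimCoh31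

open Groth.Agent.FreeSheaf31 Groth.Agent.SingleMaps31 Groth.Agent.HomologySheafLocal31
  Groth.Agent.HyperLocal31 Groth.Agent.RlimLocal31 Groth.Agent.RlimSheaf31
  Groth.Agent.RlimTower31 Groth.Agent.TruncStep31 Groth.Agent.RlimTrunc31
  Groth.Agent.RlimMilnor31 Groth.Agent.ThetaBij31

variable {C : Type u} [SmallCategory C] {J : GrothendieckTopology C}
  [HasDerivedCategory.{u} (Sheaf J AddCommGrpCat.{u})]

section Beta

/-- `H⁰(K[j]) ≅ H^j(K)` -/
noncomputable def eIso (K : DerivedCategory (Sheaf J AddCommGrpCat.{u})) (j : ℤ) :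
    (homologyFunctor (Sheaf J AddCommGrpCat.{u}) 0).obj ((shiftFunctor _ j).obj K) ≅
      (homologyFunctor (Sheaf J AddCommGrpCat.{u}) j).obj K :=
  ((homologyFunctor (Sheaf J AddCommGrpCat.{u}) 0).shiftIso j 0 j (add_zero j)).app K

lemma eIso_naturality {K₁ K₂ : DerivedCategory (Sheaf J AddCommGrpCat.{u})} (α : K₁ ⟶ K₂)
    (j : ℤ) :
    (homologyFunctor (Sheaf J AddCommGrpCat.{u}) 0).map ((shiftFunctor _ j).map α) ≫
      (eIso K₂ j).hom = (eIso K₁ j).hom ≫ (homologyFunctor (Sheaf J AddCommGrpCat.{u}) j).map α :=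
  ((homologyFunctor (Sheaf J AddCommGrpCat.{u}) 0).shiftIso j 0 j (add_zero j)).hom.naturality α

/-- the induced map on sections -/
noncomputable def eSec (U : C) (K : DerivedCategory (Sheaf J AddCommGrpCat.{u})) (j : ℤ) :
    ((homologyFunctor (Sheaf J AddCommGrpCat.{u}) 0).obj ((shiftFunctor _ j).obj K)).obj.obj (op U) →+
      ((homologyFunctor (Sheaf J AddCommGrpCat.{u}) j).obj K).obj.obj (op U) :=
  ((eIso K j).hom.hom.app (op U)).hom

lemma eSec_bijective (U : C) (K : DerivedCategory (Sheaf J AddCommGrpCat.{u})) (j : ℤ) :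
    Function.Bijective (eSec U K j) :=
  ConcreteCategory.bijective_of_isIso
    ((sheafToPresheaf J AddCommGrpCat.{u} ⋙ ev U).map (eIso K j).hom)

lemma eSec_naturality (U : C) {K₁ K₂ : DerivedCategory (Sheaf J AddCommGrpCat.{u})}
    (α : K₁ ⟶ K₂) (j : ℤ)
    (x : ((homologyFunctor (Sheaf J AddCommGrpCat.{u}) 0).obj
      ((shiftFunctor _ j).obj K₁)).obj.obj (op U)) :
    eSec U K₂ j (((homologyFunctor (Sheaf J AddCommGrpCat.{u}) 0).map
      ((shiftFunctor _ j).map α)).hom.app (op U) x) =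
      ((homologyFunctor (Sheaf J AddCommGrpCat.{u}) j).map α).hom.app (op U) (eSec U K₁ j x) := by
  let Φ := sheafToPresheaf J AddCommGrpCat.{u} ⋙ ev U
  have h2 : Φ.map ((homologyFunctor (Sheaf J AddCommGrpCat.{u}) 0).map
      ((shiftFunctor _ j).map α)) ≫ Φ.map (eIso K₂ j).hom =
      Φ.map (eIso K₁ j).hom ≫ Φ.map ((homologyFunctor (Sheaf J AddCommGrpCat.{u}) j).map α) := by
    rw [← Φ.map_comp, ← Φ.map_comp, eIso_naturality]
  exact ConcreteCategory.congr_hom h2 x

/-- the comparison map `Hom_D(ℤ_U, K[j]) → H^j(K)(U)` -/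
noncomputable def β (U : C) (K : DerivedCategory (Sheaf J AddCommGrpCat.{u})) (j : ℤ)
    (ξ : ZD J U ⟶ (shiftFunctor _ j).obj K) :
    ((homologyFunctor (Sheaf J AddCommGrpCat.{u}) j).obj K).obj.obj (op U) :=
  eSec U K j (θfun U ((shiftFunctor _ j).obj K) ξ)

lemma β_sub (U : C) (K : DerivedCategory (Sheaf J AddCommGrpCat.{u})) (j : ℤ)
    (ξ ξ' : ZD J U ⟶ (shiftFunctor _ j).obj K) : β U K j (ξ - ξ') = β U K j ξ - β U K j ξ' := by
  unfold β
  rw [θfun_sub, map_sub]

lemma β_zero (U : C) (K : DerivedCategory (Sheaf J AddCommGrpCat.{u})) (j : ℤ) :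
    β U K j 0 = 0 := by
  unfold β
  rw [θfun_zero, map_zero]

lemma β_comp (U : C) {K₁ K₂ : DerivedCategory (Sheaf J AddCommGrpCat.{u})} (α : K₁ ⟶ K₂) (j : ℤ)
    (ξ : ZD J U ⟶ (shiftFunctor _ j).obj K₁) :
    β U K₂ j (ξ ≫ (shiftFunctor _ j).map α) =
      ((homologyFunctor (Sheaf J AddCommGrpCat.{u}) j).map α).hom.app (op U) (β U K₁ j ξ) := by
  unfold β
  rw [θfun_comp, eSec_naturality]

lemma β_bijective (U : C) (K : DerivedCategory (Sheaf J AddCommGrpCat.{u})) (j : ℤ)
    (h : Function.Bijective (θfun U ((shiftFunctor _ j).obj K))) :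
    Function.Bijective (β U K j) :=
  (eSec_bijective U K j).comp h

end Beta

section Main

variable (K : ℕ → DerivedCategory (Sheaf J AddCommGrpCat.{u})) (t : ∀ n, K (n + 1) ⟶ K n)
  [HasProduct K] (L : DerivedCategory (Sheaf J AddCommGrpCat.{u})) (a : ∀ n, L ⟶ K n)
  (hL : CohCx.IsRlimVia K t L a) (q : ℤ)

/-- the tower of cohomology sheaves -/
noncomputable abbrev HT : ℕᵒᵖ ⥤ Sheaf J AddCommGrpCat.{u} :=
  CohCx.opSequence (fun n => (homologyFunctor (Sheaf J AddCommGrpCat.{u}) q).obj (K n))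
    (fun n => (homologyFunctor (Sheaf J AddCommGrpCat.{u}) q).map (t n))

include hL in
lemma cone_compat (n : ℕ) :
    (homologyFunctor (Sheaf J AddCommGrpCat.{u}) q).map (a (n + 1)) ≫
      (homologyFunctor (Sheaf J AddCommGrpCat.{u}) q).map (t n) =
    (homologyFunctor (Sheaf J AddCommGrpCat.{u}) q).map (a n) := by
  rw [← Functor.map_comp, RlimTri31.a_succ K t L a hL]

/-- the cone on `H^q(L)` -/
noncomputable def coneH : Cone (HT K t q) where
  pt := (homologyFunctor (Sheaf J AddCommGrpCat.{u}) q).obj L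
  π := NatTrans.ofOpSequence
    (F := (Functor.const ℕᵒᵖ).obj ((homologyFunctor (Sheaf J AddCommGrpCat.{u}) q).obj L))
    (G := HT K t q)
    (fun n => (homologyFunctor (Sheaf J AddCommGrpCat.{u}) q).map (a n)) (fun n => by
      dsimp
      rw [Category.id_comp, Functor.ofOpSequence_map_homOfLE_succ]
      exact (cone_compat K t L a hL q n).symm)

/-- the comparison morphism `H^q(L) ⟶ lim H^q(K n)` -/
noncomputable def Ψ : (homologyFunctor (Sheaf J AddCommGrpCat.{u}) q).obj L ⟶ limit (HT K t q) :=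
  limit.lift _ (coneH K t L a hL q)

lemma Ψ_π (n : ℕ) : Ψ K t L a hL q ≫ limit.π (HT K t q) (op n) =
    (homologyFunctor (Sheaf J AddCommGrpCat.{u}) q).map (a n) :=
  limit.lift_π _ _

variable (V : C)

/-- the projections on sections -/
noncomputable def πS (n : ℕ) : (limit (HT K t q)).obj.obj (op V) →+
    ((homologyFunctor (Sheaf J AddCommGrpCat.{u}) q).obj (K n)).obj.obj (op V) :=
  ((limit.π (HT K t q) (op n)).hom.app (op V)).hom

lemma πS_ext (s s' : (limit (HT K t q)).obj.obj (op V))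
    (h : ∀ n, πS K t q V n s = πS K t q V n s') : s = s' := by
  let Φ := sheafToPresheaf J AddCommGrpCat.{u} ⋙ ev V
  have hlim : IsLimit (Φ.mapCone (limit.cone (HT K t q))) :=
    isLimitOfPreserves Φ (limit.isLimit (HT K t q))
  exact Concrete.isLimit_ext _ hlim s s' (fun ⟨n⟩ => h n)

lemma πS_succ (n : ℕ) (s : (limit (HT K t q)).obj.obj (op V)) :
    ((homologyFunctor (Sheaf J AddCommGrpCat.{u}) q).map (t n)).hom.app (op V)
      (πS K t q V (n + 1) s) = πS K t q V n s := by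
  have h1 := limit.w (HT K t q) (homOfLE (Nat.le_add_right n 1)).op
  rw [Functor.ofOpSequence_map_homOfLE_succ] at h1
  let Φ := sheafToPresheaf J AddCommGrpCat.{u} ⋙ ev V
  have h2 : Φ.map (limit.π (HT K t q) (op (n + 1))) ≫
      Φ.map ((homologyFunctor (Sheaf J AddCommGrpCat.{u}) q).map (t n)) =
      Φ.map (limit.π (HT K t q) (op n)) :=
    (Φ.map_comp _ _).symm.trans (congrArg Φ.map h1)
  exact ConcreteCategory.congr_hom h2 s

lemma πS_Ψ (n : ℕ) (x : ((homologyFunctor (Sheaf J AddCommGrpCat.{u}) q).obj L).obj.obj (op V)) :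
    πS K t q V n ((Ψ K t L a hL q).hom.app (op V) x) =
      ((homologyFunctor (Sheaf J AddCommGrpCat.{u}) q).map (a n)).hom.app (op V) x := by
  let Φ := sheafToPresheaf J AddCommGrpCat.{u} ⋙ ev V
  have h2 : Φ.map (Ψ K t L a hL q) ≫ Φ.map (limit.π (HT K t q) (op n)) =
      Φ.map ((homologyFunctor (Sheaf J AddCommGrpCat.{u}) q).map (a n)) :=
    (Φ.map_comp _ _).symm.trans (congrArg Φ.map (Ψ_π K t L a hL q n))
  exact ConcreteCategory.congr_hom h2 x

/-- the composite `Hom_D(ℤ_V, L[q]) → H^q(L)(V) → (lim H^q(K n))(V)` is bijective when the `β` for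
the `K n` are bijective in degrees `q`, `q - 1` and `R¹lim H^{q-1}(K n)(V) = 0` -/
theorem bijective_comp (hβ : ∀ n, Function.Bijective (β V (K n) q))
    (hβ' : ∀ n, Function.Bijective (β V (K n) (q - 1)))
    (h2 : CohCx.LimOneIsZero
      (fun n => ((homologyFunctor (Sheaf J AddCommGrpCat.{u}) (q - 1)).obj (K n)).obj.obj (op V))
      (fun n => (((homologyFunctor (Sheaf J AddCommGrpCat.{u}) (q - 1)).map (t n)).hom.app
        (op V)).hom)) :
    Function.Bijective (fun ξ : ZD J V ⟶ (shiftFunctor _ q).obj L =>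
      (Ψ K t L a hL q).hom.app (op V) (β V L q ξ)) := by
  -- R¹lim of the Hom groups vanishes
  have hlim : CohCx.LimOneIsZero (fun n => (ZD J V ⟶ (shiftFunctor _ (q - 1)).obj (K n)))
      (fun n => Preadditive.rightComp (ZD J V) ((shiftFunctor _ (q - 1)).map (t n))) := by
    have hinv : ∀ n x, β V (K n) (q - 1) (Function.surjInv (hβ' n).2 x) = x :=
      fun n x => Function.surjInv_eq (hβ' n).2 x
    refine limOneIsZero_of_surj _ _ (fun n => Function.surjInv (hβ' n).2)
      (fun n ξ => ⟨β V (K n) (q - 1) ξ, (hβ' n).1 (hinv n _)⟩) (fun n x y => ?_)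
      (fun n x => ?_) h2
    · apply (hβ' n).1
      rw [β_sub, hinv, hinv, hinv]
    · apply (hβ' n).1
      rw [hinv]
      change _ = β V (K n) (q - 1) (_ ≫ (shiftFunctor _ (q - 1)).map (t n))
      rw [β_comp, hinv]
  have hcomp : ∀ (ξ : ZD J V ⟶ (shiftFunctor _ q).obj L) (n : ℕ),
      πS K t q V n ((Ψ K t L a hL q).hom.app (op V) (β V L q ξ)) =
        β V (K n) q (ξ ≫ (shiftFunctor _ q).map (a n)) := by
    intro ξ n
    rw [πS_Ψ, β_comp]
  constructor
  · intro ξ ξ' hξ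
    rw [← sub_eq_zero]
    refine eq_zero_of_forall_comp_eq_zero K t L a hL (ZD J V) q hlim (ξ - ξ') (fun n => ?_)
    apply (hβ n).1
    rw [β_zero, Preadditive.sub_comp, β_sub, sub_eq_zero, ← hcomp, ← hcomp]
    exact congrArg _ hξ
  · intro s
    let y : ∀ n, ZD J V ⟶ (shiftFunctor _ q).obj (K n) :=
      fun n => Function.surjInv (hβ n).2 (πS K t q V n s)
    have hy : ∀ n, β V (K n) q (y n) = πS K t q V n s :=
      fun n => Function.surjInv_eq (hβ n).2 _
    have hyc : ∀ n, y (n + 1) ≫ (shiftFunctor _ q).map (t n) = y n := by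
      intro n
      apply (hβ n).1
      rw [β_comp, hy, hy, πS_succ]
    obtain ⟨ξ, hξ⟩ := exists_of_compatible K t L a hL (ZD J V) q y hyc
    refine ⟨ξ, πS_ext K t q V _ _ (fun n => ?_)⟩
    rw [hcomp, hξ, hy]

end Main

section Final

variable (K : ℕ → DerivedCategory (Sheaf J AddCommGrpCat.{u})) (t : ∀ n, K (n + 1) ⟶ K n)
  [HasProduct K] (L : DerivedCategory (Sheaf J AddCommGrpCat.{u}))

/-- **S0878**: `H^q(R lim K n) ≅ lim H^q(K n)` -/
theorem nonempty_iso (hL : DCoh.IsRlim K t L) (B : Set C) (hB : Covers J B)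
    (h1 : ∀ U ∈ B, ∀ (p : ℕ) (q : ℤ) (n : ℕ),
      Subsingleton (CohSite.HU (CohCx.HD (K n) q) (p + 1) U))
    (h2 : ∀ U ∈ B, ∀ (q : ℤ), CohCx.LimOneIsZero (fun n => (CohCx.HD (K n) q).obj.obj (op U))
      (fun n => (((homologyFunctor (Sheaf J AddCommGrpCat.{u}) q).map (t n)).hom.app (op U)).hom))
    (q : ℤ) :
    Nonempty (CohCx.HD L q ≅ limit (HT K t q)) := by
  obtain ⟨a₀, c, hT⟩ := hL
  have hL' := RlimHeart31.isRlimVia_of_triangle K t a₀ c hT
  let Θ : HP ((shiftFunctor _ q).obj L) ⟶ (P J).obj (limit (HT K t q)) :=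
    θ ((shiftFunctor _ q).obj L) ≫ (P J).map (eIso L q).hom ≫
      (P J).map (Ψ K t L (fun n => a₀ ≫ Pi.π K n) hL' q)
  have hΘ : J.W Θ := by
    refine W_of_bijective_on hB Θ (fun V hV => ?_)
    exact bijective_comp K t L (fun n => a₀ ≫ Pi.π K n) hL' q V
      (fun n => β_bijective V (K n) q
        (θfun_bijective (K n) B (fun U hU p q => h1 U hU p q n) hB V hV q))
      (fun n => β_bijective V (K n) (q - 1)
        (θfun_bijective (K n) B (fun U hU p q => h1 U hU p q n) hB V hV (q - 1)))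
      (h2 V hV (q - 1))
  have h3 := (J.W_iff _).1 hΘ
  have h4 := (J.W_iff _).1 (W_θ ((shiftFunctor _ q).obj L))
  have h5 : IsIso ((a J).map ((P J).map (Ψ K t L (fun n => a₀ ≫ Pi.π K n) hL' q))) := by
    have h : (a J).map Θ = ((a J).map (θ ((shiftFunctor _ q).obj L)) ≫
        (a J).map ((P J).map (eIso L q).hom)) ≫
        (a J).map ((P J).map (Ψ K t L (fun n => a₀ ≫ Pi.π K n) hL' q)) := by
      rw [← Functor.map_comp, ← Functor.map_comp, Category.assoc]
    rw [h] at h3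
    exact IsIso.of_isIso_comp_left ((a J).map (θ ((shiftFunctor _ q).obj L)) ≫
        (a J).map ((P J).map (eIso L q).hom)) _
  have h6 : IsIso (Ψ K t L (fun n => a₀ ≫ Pi.π K n) hL' q) := by
    have h := cIso_hom_naturality J (Ψ K t L (fun n => a₀ ≫ Pi.π K n) hL' q)
    have h' : Ψ K t L (fun n => a₀ ≫ Pi.π K n) hL' q = (cIso J _).inv ≫
        (a J).map ((P J).map (Ψ K t L (fun n => a₀ ≫ Pi.π K n) hL' q)) ≫ (cIso J _).hom := by
      rw [h, Iso.inv_hom_id_assoc]
    rw [h']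
    infer_instance
  exact ⟨asIso (Ψ K t L (fun n => a₀ ≫ Pi.π K n) hL' q)⟩

end Final

end Groth.Agent.RlimCoh31
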