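import Groth.Agent.Lib.DProd31
import Groth.Agent.Lib.DerivedProd
import Groth.Agent.Lib.KInjComp31
import Groth.Agent.Lib.KInjMain31
import Groth.Prelude.Def_DCoh2

/-!
# Right derived functors commute with derived limits (helper31)
-/

set_option autoImplicit false

open CategoryTheory Limits Pretriangulated

namespace Groth.Agent.RlimRF31

section General

variable {T : Type*} [Category* T] [Preadditive T] [HasZeroObject T] [HasShift T ℤ]
  [∀ n : ℤ, (shiftFunctor T n).Additive] [Pretriangulated T]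

/-- transport a limit fan along isomorphisms of the factors -/
noncomputable def isLimitFanOfIsos {C : Type*} [Category* C] {J : Type*} {X Y : J → C} {pt : C}
    (π : ∀ j, pt ⟶ X j) (h : IsLimit (Fan.mk pt π)) (e : ∀ j, X j ≅ Y j) :
    IsLimit (Fan.mk pt (fun j => π j ≫ (e j).hom)) :=
  mkFanLimit _ (fun s => Fan.IsLimit.lift h (fun j => s.proj j ≫ (e j).inv))
    (fun s j => by
      have := Fan.IsLimit.fac h (fun j => s.proj j ≫ (e j).inv) j
      dsimp at this ⊢
      rw [reassoc_of% this, Iso.inv_hom_id, Category.comp_id])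
    (fun s m hm => by
      apply Fan.IsLimit.hom_ext h
      intro j
      have := Fan.IsLimit.fac h (fun j => s.proj j ≫ (e j).inv) j
      dsimp at this ⊢
      rw [this, ← hm j]
      simp)

/-- criterion for being a derived limit, in terms of any product cone -/
lemma isRlim_of_triangle (K : ℕ → T) (t : ∀ n, K (n + 1) ⟶ K n) [HasProduct K]
    {X X' P : T} (eX : X' ≅ X) (p : ∀ n, P ⟶ K n) (hp : IsLimit (Fan.mk P p))
    (a : X ⟶ P) (ψ : P ⟶ P) (c : P ⟶ X⟦(1 : ℤ)⟧) (hT : Triangle.mk a ψ c ∈ distTriang T)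
    (hψ : ∀ n, ψ ≫ p n = p n - p (n + 1) ≫ t n) : DCoh.IsRlim K t X' := by
  let e : P ≅ ∏ᶜ K := hp.conePointUniqueUpToIso (limit.isLimit _)
  have he : ∀ n, e.hom ≫ Pi.π K n = p n := fun n =>
    hp.conePointUniqueUpToIso_hom_comp (limit.isLimit _) ⟨n⟩
  have hcomm : e.hom ≫ (Pi.lift fun n => Pi.π K n - Pi.π K (n + 1) ≫ t n) = ψ ≫ e.hom := by
    apply Pi.hom_ext
    intro n
    rw [Category.assoc, Category.assoc, Pi.lift_π, Preadditive.comp_sub, he,
      reassoc_of% (he (n + 1)), hψ]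
  refine ⟨eX.hom ≫ a ≫ e.hom, e.inv ≫ c ≫ eX.inv⟦(1 : ℤ)⟧', ?_⟩
  refine isomorphic_distinguished _ hT _ (Triangle.isoMk _ _ eX e.symm e.symm ?_ ?_ ?_)
  · change (eX.hom ≫ a ≫ e.hom) ≫ e.inv = eX.hom ≫ a
    rw [Category.assoc, Category.assoc, Iso.hom_inv_id, Category.comp_id]
  · change (Pi.lift fun n => Pi.π K n - Pi.π K (n + 1) ≫ t n) ≫ e.inv = e.inv ≫ ψ
    rw [← cancel_epi e.hom, Iso.hom_inv_id_assoc, reassoc_of% hcomm, Iso.hom_inv_id,
      Category.comp_id]
  · change (e.inv ≫ c ≫ eX.inv⟦(1 : ℤ)⟧') ≫ eX.hom⟦(1 : ℤ)⟧' = e.inv ≫ c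
    rw [Category.assoc, Category.assoc, ← Functor.map_comp, Iso.inv_hom_id,
      CategoryTheory.Functor.map_id, Category.comp_id]

/-- derived limits are unique up to isomorphism -/
lemma IsRlim.unique (K : ℕ → T) (t : ∀ n, K (n + 1) ⟶ K n) [HasProduct K] {L L' : T}
    (h : DCoh.IsRlim K t L) (h' : DCoh.IsRlim K t L') : Nonempty (L ≅ L') := by
  obtain ⟨a, c, hT⟩ := h
  obtain ⟨a', c', hT'⟩ := h'
  obtain ⟨f, hf₁, hf₃⟩ := complete_distinguished_triangle_morphism₁ _ _ hT hT' (𝟙 _) (𝟙 _)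
    ((Category.comp_id _).trans (Category.id_comp _).symm)
  let φ : Triangle.mk a (Pi.lift fun n => Pi.π K n - Pi.π K (n + 1) ≫ t n) c ⟶
      Triangle.mk a' (Pi.lift fun n => Pi.π K n - Pi.π K (n + 1) ≫ t n) c' :=
    { hom₁ := f
      hom₂ := 𝟙 _
      hom₃ := 𝟙 _
      comm₁ := hf₁
      comm₂ := (Category.comp_id _).trans (Category.id_comp _).symm
      comm₃ := hf₃ }
  have h2 : IsIso φ.hom₂ := by
    change IsIso (𝟙 (∏ᶜ K))
    infer_instance
  have h3 : IsIso φ.hom₃ := by
    change IsIso (𝟙 (∏ᶜ K))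
    infer_instance
  have h1 : IsIso φ.hom₁ := isIso₁_of_isIso₂₃ φ hT hT' h2 h3
  exact ⟨@asIso _ _ _ _ φ.hom₁ h1⟩

end General

section Fan

universe w v u

variable {A : Type*} [Category* A] [Abelian A] [HasProductsOfShape ℕ A]
  {B : Type u} [Category.{v} B] [Abelian B] [HasDerivedCategory.{w} B]
  [HasProductsOfShape ℕ B] [HasExactLimitsOfShape (Discrete ℕ) B]
  (F : A ⥤ B) [F.Additive] [PreservesLimitsOfShape (Discrete ℕ) F]
  (I : ℕ → CochainComplex A ℤ)

open Groth.Agent.DProd31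

/-- the image of the product complex under `F` is a product in `Ch(B)` -/
noncomputable def isLimitFanMapHC :
    IsLimit (Fan.mk ((F.mapHomologicalComplex (ComplexShape.up ℤ)).obj (prodCx I))
      (fun n => (F.mapHomologicalComplex (ComplexShape.up ℤ)).map (prodπ I n))) := by
  apply HomologicalComplex.isLimitOfEval
  intro i
  refine (isLimitMapConeFanMkEquiv _ _ _).symm ?_
  exact isLimitFanMkObjOfIsLimit F (fun n => (I n).X i) (fun n => Pi.π (fun n => (I n).X i) n)
    (productIsProduct _)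

/-- the image of the product complex under `F` followed by `Q` is a product in `D(B)` -/
noncomputable def isLimitFanQ :
    IsLimit (Fan.mk
      (DerivedCategory.Q.obj ((F.mapHomologicalComplex (ComplexShape.up ℤ)).obj (prodCx I)))
      (fun n => DerivedCategory.Q.map
        ((F.mapHomologicalComplex (ComplexShape.up ℤ)).map (prodπ I n)))) :=
  isLimitFanMkObjOfIsLimit DerivedCategory.Q _ _ (isLimitFanMapHC F I)

end Fan

section Main

universe w w' v v' u u'

variable {A : Type u} [Category.{v} A] [Abelian A] [IsGrothendieckAbelian.{v} A]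
  [HasDerivedCategory.{w} A]
  {B : Type u'} [Category.{v'} B] [Abelian B] [HasDerivedCategory.{w'} B]
  [HasProductsOfShape ℕ B] [HasExactLimitsOfShape (Discrete ℕ) B]
  (F : A ⥤ B) [F.Additive] [PreservesLimitsOfShape (Discrete ℕ) F]

open Groth.Agent.DProd31 DerivedCategory

/-- the functor to be derived -/
noncomputable abbrev Φ : HomotopyCategory A (ComplexShape.up ℤ) ⥤ DerivedCategory B :=
  F.mapHomotopyCategory (ComplexShape.up ℤ) ⋙ DerivedCategory.Qh

variable [(Φ F).HasRightDerivedFunctor (HomotopyCategory.quasiIso A (ComplexShape.up ℤ))]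

/-- the total right derived functor -/
noncomputable abbrev RF : DerivedCategory A ⥤ DerivedCategory B :=
  (Φ F).totalRightDerived DerivedCategory.Qh (HomotopyCategory.quasiIso A (ComplexShape.up ℤ))

/-- the unit -/
noncomputable abbrev η : Φ F ⟶ DerivedCategory.Qh ⋙ RF F :=
  (Φ F).totalRightDerivedUnit DerivedCategory.Qh (HomotopyCategory.quasiIso A (ComplexShape.up ℤ))

lemma hKinj (X : CochainComplex A ℤ) : ∃ (I : CochainComplex A ℤ) (f : X ⟶ I),
    I.IsKInjective ∧ QuasiIso f := by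
  obtain ⟨I, f, h1, h2, -, -⟩ := Groth.Agent.KInjMain31.exists_kinjective_resolution X
  exact ⟨I, f, h1, h2⟩

lemma isIso_η (I : CochainComplex A ℤ) [I.IsKInjective] :
    IsIso ((η F).app ((HomotopyCategory.quotient A (ComplexShape.up ℤ)).obj I)) :=
  Groth.Agent.KInjComp31.isIso_totalRightDerivedUnit_app hKinj (Φ F) I

/-- `RF` at a K-injective complex -/
noncomputable def ρ (I : CochainComplex A ℤ) [I.IsKInjective] :
    (Φ F).obj ((HomotopyCategory.quotient A (ComplexShape.up ℤ)).obj I) ≅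
      (RF F).obj (Q.obj I) :=
  haveI := isIso_η F I
  (asIso ((η F).app ((HomotopyCategory.quotient A (ComplexShape.up ℤ)).obj I)) :
    (Φ F).obj ((HomotopyCategory.quotient A (ComplexShape.up ℤ)).obj I) ≅
      (DerivedCategory.Qh ⋙ RF F).obj ((HomotopyCategory.quotient A (ComplexShape.up ℤ)).obj I))

lemma ρ_hom (I : CochainComplex A ℤ) [I.IsKInjective] :
    (ρ F I).hom = (η F).app ((HomotopyCategory.quotient A (ComplexShape.up ℤ)).obj I) := rfl

lemma ρ_naturality {I I' : CochainComplex A ℤ} [I.IsKInjective] [I'.IsKInjective] (f : I ⟶ I') :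
    (Φ F).map ((HomotopyCategory.quotient A (ComplexShape.up ℤ)).map f) ≫ (ρ F I').hom =
      (ρ F I).hom ≫ (RF F).map (Q.map f) := by
  rw [ρ_hom, ρ_hom]
  exact (η F).naturality ((HomotopyCategory.quotient A (ComplexShape.up ℤ)).map f)

omit [HasProductsOfShape ℕ B] [HasExactLimitsOfShape (Discrete ℕ) B]
  [PreservesLimitsOfShape (Discrete ℕ) F] in
lemma hasProductsOfShape_nat : HasProductsOfShape ℕ A := by
  have : HasLimitsOfSize.{0, 0} A := hasLimitsOfSizeShrink.{0, 0, v, v} A
  infer_instance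

theorem isRlim_RF (K : ℕ → DerivedCategory A) (t : ∀ n, K (n + 1) ⟶ K n) (L : DerivedCategory A)
    [HasProduct K] [HasProduct fun n => (RF F).obj (K n)] (hL : DCoh.IsRlim K t L) :
    DCoh.IsRlim (fun n => (RF F).obj (K n)) (fun n => (RF F).map (t n)) ((RF F).obj L) := by
  haveI : HasProductsOfShape ℕ A := hasProductsOfShape_nat
  -- K-injective models
  have hmodel : ∀ n, ∃ (I : CochainComplex A ℤ), I.IsKInjective ∧ Nonempty (Q.obj I ≅ K n) := by
    intro n
    obtain ⟨I, f, hI, hf⟩ := hKinj (Q.objPreimage (K n))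
    have : IsIso (Q.map f) := by rw [isIso_Q_map_iff_quasiIso]; exact hf
    exact ⟨I, hI, ⟨(asIso (Q.map f)).symm ≪≫ Q.objObjPreimageIso (K n)⟩⟩
  choose I hI he using hmodel
  let e : ∀ n, Q.obj (I n) ≅ K n := fun n => (he n).some
  have hτ : ∀ n, ∃ τ : I (n + 1) ⟶ I n, Q.map τ = (e (n + 1)).hom ≫ t n ≫ (e n).inv :=
    fun n => exists_Q_map_eq _ _ _
  choose τ hτ using hτ
  have hτ' : ∀ n, Q.map (τ n) ≫ (e n).hom = (e (n + 1)).hom ≫ t n := fun n => by
    rw [hτ, Category.assoc, Category.assoc, Iso.inv_hom_id, Category.comp_id]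
  -- the product complex and the shift map
  let ψ : prodCx I ⟶ prodCx I := prodLift (fun n => prodπ I n - prodπ I (n + 1) ≫ τ n)
  have hψ : ∀ n, ψ ≫ prodπ I n = prodπ I n - prodπ I (n + 1) ≫ τ n := fun n => prodLift_π _ n
  haveI : (prodCx I).IsKInjective := isKInjective_prodCx I
  -- a distinguished triangle in `K(A)`
  obtain ⟨Xh, a, c, hT⟩ :=
    distinguished_cocone_triangle₁ ((HomotopyCategory.quotient A (.up ℤ)).map ψ)
  haveI hX : CochainComplex.IsKInjective Xh.as := by
    rw [CochainComplex.isKInjective_iff_rightOrthogonal]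
    exact ObjectProperty.ext_of_isTriangulatedClosed₁ _ _ hT
      (CochainComplex.IsKInjective.rightOrthogonal (prodCx I))
      (CochainComplex.IsKInjective.rightOrthogonal (prodCx I))
  -- the derived limit in `D(A)`
  have h1 : DCoh.IsRlim K t (Qh.obj Xh) := by
    have hT₁ := Qh.map_distinguished _ hT
    refine isRlim_of_triangle K t (Iso.refl _)
      (fun n => Q.map (prodπ I n) ≫ (e n).hom) (isLimitFanOfIsos _ (isLimitFan I) e)
      _ _ _ hT₁ (fun n => ?_)
    change Q.map ψ ≫ Q.map (prodπ I n) ≫ (e n).hom =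
      Q.map (prodπ I n) ≫ (e n).hom - (Q.map (prodπ I (n + 1)) ≫ (e (n + 1)).hom) ≫ t n
    rw [← Functor.map_comp_assoc, hψ, Functor.map_sub, Functor.map_comp, Preadditive.sub_comp,
      Category.assoc, hτ', Category.assoc]
  obtain ⟨eL⟩ := IsRlim.unique K t hL h1
  -- the derived limit in `D(B)`
  have hT₂ := (Φ F).map_distinguished _ hT
  refine isRlim_of_triangle _ _ ((RF F).mapIso eL ≪≫ (ρ F Xh.as).symm)
    (fun n => Q.map ((F.mapHomologicalComplex (ComplexShape.up ℤ)).map (prodπ I n)) ≫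
      ((ρ F (I n)).hom ≫ (RF F).map (e n).hom))
    (isLimitFanOfIsos _ (isLimitFanQ F I) (fun n => ρ F (I n) ≪≫ (RF F).mapIso (e n)))
    _ _ _ hT₂ (fun n => ?_)
  change (Φ F).map ((HomotopyCategory.quotient A (.up ℤ)).map ψ) ≫
      (Φ F).map ((HomotopyCategory.quotient A (.up ℤ)).map (prodπ I n)) ≫
        ((ρ F (I n)).hom ≫ (RF F).map (e n).hom) =
    (Φ F).map ((HomotopyCategory.quotient A (.up ℤ)).map (prodπ I n)) ≫
        ((ρ F (I n)).hom ≫ (RF F).map (e n).hom) -
      ((Φ F).map ((HomotopyCategory.quotient A (.up ℤ)).map (prodπ I (n + 1))) ≫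
        ((ρ F (I (n + 1))).hom ≫ (RF F).map (e (n + 1)).hom)) ≫ (RF F).map (t n)
  rw [← Functor.map_comp_assoc, ← Functor.map_comp, hψ, Functor.map_sub, Functor.map_sub,
    Functor.map_comp, Functor.map_comp, Preadditive.sub_comp]
  congr 1
  have hn := ρ_naturality F (τ n)
  have h5 : (RF F).map (Q.map (τ n)) ≫ (RF F).map (e n).hom =
      (RF F).map (e (n + 1)).hom ≫ (RF F).map (t n) := by
    rw [← Functor.map_comp, hτ', Functor.map_comp]
  calc _ = (Φ F).map ((HomotopyCategory.quotient A (.up ℤ)).map (prodπ I (n + 1))) ≫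
        ((Φ F).map ((HomotopyCategory.quotient A (.up ℤ)).map (τ n)) ≫ (ρ F (I n)).hom) ≫
          (RF F).map (e n).hom := by simp only [Category.assoc]
    _ = (Φ F).map ((HomotopyCategory.quotient A (.up ℤ)).map (prodπ I (n + 1))) ≫
        ((ρ F (I (n + 1))).hom ≫ (RF F).map (Q.map (τ n))) ≫ (RF F).map (e n).hom := by rw [hn]
    _ = _ := by simp only [Category.assoc, h5]

end Main

end Groth.Agent.RlimRF31
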