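import Groth.Agent.Lib.PolLawCoeff23
import Groth.Agent.Lib.PolyCoeffT23
import Groth.Agent.Lib.NormAlt23
import Groth.Agent.Lib.PolLawExt23
import Groth.Agent.Lib.PolLawGen23
import Mathlib.Data.Finsupp.Weight
import Mathlib.LinearAlgebra.PiTensorProduct.Basis

/-!
# Roby's theorem for free modules (helper23)

For a family `e : I → M` indexed by an arbitrary type and a law `F : M →ₚₗ[A] N`:
`genJ`, `cfJ` (coefficients of `F` at the generic combination over a finite subset `J`, inside the one polynomial ring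
`MvPolynomial I A`), `robyJ` (Roby's formula), `cfJ_mono` (independence of `J`), `aco` (global coefficients),
`degree_of_cfJ_ne_zero` (homogeneous laws have coefficients in degree `d`).
Words: `cont`, `exists_word`, `repOf`.
Main result `exists_linear_of_basis`: if `P` is an `A`-algebra with a module basis, every homogeneous law `F : P → N` of degree `d`
is `f ∘ (x ↦ x ⊗ ⋯ ⊗ x)` for a linear map `f` on the `d`-fold tensor power.
-/

set_option autoImplicit false
universe u
open scoped TensorProduct
open MvPolynomial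

namespace Groth.Agent.Lib.RobyFree23

open Groth.Agent.Lib.PolLawSpan23 Groth.Agent.Lib.PolLawCoeff23 Groth.Agent.Lib.PolyCoeffT23
  Groth.Agent.Lib.PolLawExt23 Groth.Agent.Lib.PolLawGen23

section Coeff

variable {A : Type u} [CommRing A] {M N : Type u} [AddCommGroup M] [Module A M] [AddCommGroup N] [Module A N]
  (F : M →ₚₗ[A] N) {I : Type u} (e : I → M)

/-- The generic linear combination of the `e i`, `i ∈ J`, over the polynomial ring in all the variables. -/
noncomputable def genJ (J : Finset I) : MvPolynomial I A ⊗[A] M := ∑ i ∈ J, X i ⊗ₜ[A] e i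

theorem rTensor_genJ {P : Type u} [CommRing P] [Algebra A P] (θ : I → P) (J : Finset I) :
    (aeval θ : MvPolynomial I A →ₐ[A] P).toLinearMap.rTensor M (genJ e J) = ∑ i ∈ J, θ i ⊗ₜ[A] e i := by
  simp [genJ]

/-- The coefficients of `F` at the generic combination over `J`. -/
noncomputable def cfJ (J : Finset I) : (I →₀ ℕ) →₀ N := by
  classical
  exact TensorProduct.equivFinsuppOfBasisLeft (N := N) (MvPolynomial.basisMonomials I A)
    (F.toFun' _ (genJ e J))

theorem cfJ_apply (J : Finset I) (ν : I →₀ ℕ) :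
    cfJ F e J ν = evalFun N ((MvPolynomial.basisMonomials I A).coord ν) (F.toFun' _ (genJ e J)) := by
  classical
  rw [cfJ, TensorProduct.equivFinsuppOfBasisLeft_apply]
  rfl

theorem expandJ (J : Finset I) : F.toFun' _ (genJ e J) =
    ∑ ν ∈ (cfJ F e J).support, (monomial ν (1 : A)) ⊗ₜ[A] cfJ F e J ν := by
  classical
  have hu : F.toFun' _ (genJ e J) =
      (cfJ F e J).sum fun ν c => (MvPolynomial.basisMonomials I A) ν ⊗ₜ[A] c := by
    rw [cfJ, ← TensorProduct.equivFinsuppOfBasisLeft_symm_apply, LinearEquiv.symm_apply_apply]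
  rw [hu, Finsupp.sum]
  refine Finset.sum_congr rfl fun ν _ => ?_
  rw [MvPolynomial.coe_basisMonomials]

/-- Roby's formula over a finite subfamily. -/
theorem robyJ {P : Type u} [CommRing P] [Algebra A P] (θ : I → P) (J : Finset I) :
    F.toFun' P (∑ i ∈ J, θ i ⊗ₜ[A] e i) =
      ∑ ν ∈ (cfJ F e J).support, (ν.prod fun i k => θ i ^ k) ⊗ₜ[A] cfJ F e J ν := by
  rw [← rTensor_genJ, ← PolynomialLaw.isCompat_apply', expandJ, map_sum]
  refine Finset.sum_congr rfl fun ν _ => ?_
  rw [LinearMap.rTensor_tmul, AlgHom.toLinearMap_apply, aeval_monomial, map_one, one_mul]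

theorem coordI_apply (ν : I →₀ ℕ) (p : MvPolynomial I A) :
    (MvPolynomial.basisMonomials I A).coord ν p = coeff ν p := rfl

/-- Specializing the variables outside `J` to zero. -/
theorem prod_ite_X [DecidableEq I] (J : Finset I) (ν : I →₀ ℕ) :
    (ν.prod fun i k => (if i ∈ J then (X i : MvPolynomial I A) else 0) ^ k) =
      if ν.support ⊆ J then monomial ν 1 else 0 := by
  by_cases h : ν.support ⊆ J
  · rw [if_pos h, monomial_eq, map_one, one_mul]
    refine Finset.prod_congr rfl fun i hi => ?_
    show (if i ∈ J then (X i : MvPolynomial I A) else 0) ^ (ν i) = X i ^ (ν i)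
    rw [if_pos (h hi)]
  · rw [if_neg h]
    obtain ⟨i, hi, hiJ⟩ := Finset.not_subset.1 h
    refine Finset.prod_eq_zero hi ?_
    show (if i ∈ J then (X i : MvPolynomial I A) else 0) ^ (ν i) = 0
    rw [if_neg hiJ, zero_pow (Finsupp.mem_support_iff.1 hi)]

theorem cfJ_mono [DecidableEq I] {J J' : Finset I} (h : J ⊆ J') (ν : I →₀ ℕ) :
    cfJ F e J ν = if ν.support ⊆ J then cfJ F e J' ν else 0 := by
  have h1 : genJ (A := A) e J = ∑ i ∈ J', (if i ∈ J then (X i : MvPolynomial I A) else 0) ⊗ₜ[A] e i := by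
    rw [genJ, ← Finset.sum_subset h]
    · refine Finset.sum_congr rfl fun i hi => ?_
      rw [if_pos hi]
    · intro i _ hi
      rw [if_neg hi, TensorProduct.zero_tmul]
  rw [cfJ_apply, h1, robyJ, map_sum]
  simp only [prod_ite_X, evalFun_tmul, coordI_apply]
  by_cases hν : ν.support ⊆ J
  · rw [if_pos hν]
    by_cases h0 : ν ∈ (cfJ F e J').support
    · rw [Finset.sum_eq_single ν]
      · rw [if_pos hν, coeff_monomial, if_pos rfl, one_smul]
      · intro ν' _ hν'
        split_ifs
        · rw [coeff_monomial, if_neg hν', zero_smul]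
        · rw [coeff_zero, zero_smul]
      · intro h'
        exact absurd h0 h'
    · rw [Finsupp.notMem_support_iff.1 h0]
      refine Finset.sum_eq_zero fun ν' hν' => ?_
      have : ν' ≠ ν := fun h' => h0 (h' ▸ hν')
      split_ifs
      · rw [coeff_monomial, if_neg this, zero_smul]
      · rw [coeff_zero, zero_smul]
  · rw [if_neg hν]
    refine Finset.sum_eq_zero fun ν' _ => ?_
    split_ifs with h2
    · have : ν' ≠ ν := fun h' => hν (h' ▸ h2)
      rw [coeff_monomial, if_neg this, zero_smul]
    · rw [coeff_zero, zero_smul]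

theorem support_subset_of_cfJ_ne_zero [DecidableEq I] {J : Finset I} {ν : I →₀ ℕ} (h : cfJ F e J ν ≠ 0) :
    ν.support ⊆ J := by
  by_contra hc
  apply h
  rw [cfJ_mono F e (Finset.Subset.refl J) ν, if_neg hc]

/-- The global coefficient of `F` with respect to the family `e`. -/
noncomputable def aco (ν : I →₀ ℕ) : N := cfJ F e ν.support ν

theorem cfJ_eq_aco [DecidableEq I] {J : Finset I} {ν : I →₀ ℕ} (h : ν.support ⊆ J) : cfJ F e J ν = aco F e ν := by
  rw [aco, cfJ_mono F e h ν, if_pos (Finset.Subset.refl _)]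


section Degree

/-- The total-degree bookkeeping for the substitution `X i ↦ X i * T`. -/
theorem prod_C_mul_T (ν : I →₀ ℕ) :
    (ν.prod fun i k => (Polynomial.C (X i : MvPolynomial I A) * Polynomial.X) ^ k) =
      Polynomial.monomial ν.degree (monomial ν (1 : A)) := by
  simp only [mul_pow, Finsupp.prod_mul]
  rw [← Polynomial.C_mul_X_pow_eq_monomial]
  congr 1
  · rw [monomial_eq, map_one, one_mul]
    simp only [Finsupp.prod, map_prod, map_pow]
  · rw [Finsupp.prod, Finset.prod_pow_eq_pow_sum]
    rfl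

/-- The coefficients of a homogeneous law live in degree `d`. -/
theorem degree_of_cfJ_ne_zero {d : ℕ} (hF : PolLaw.IsHomog F d) {J : Finset I} {ν₀ : I →₀ ℕ}
    (h : cfJ F e J ν₀ ≠ 0) : ν₀.degree = d := by
  classical
  set z' : Polynomial (MvPolynomial I A) ⊗[A] M :=
    (Cm (A := A) (MvPolynomial I A)).toLinearMap.rTensor M (genJ e J) with hz'
  have h1 : (Polynomial.X : Polynomial (MvPolynomial I A)) • z' =
      ∑ i ∈ J, (Polynomial.C (X i : MvPolynomial I A) * Polynomial.X) ⊗ₜ[A] e i := by
    rw [hz', genJ, map_sum, Finset.smul_sum]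
    refine Finset.sum_congr rfl fun i _ => ?_
    rw [LinearMap.rTensor_tmul, AlgHom.toLinearMap_apply, Cm_apply, TensorProduct.smul_tmul', smul_eq_mul,
      mul_comm]
  have h2 := hF (Polynomial (MvPolynomial I A)) Polynomial.X z'
  rw [h1, robyJ, hz', ← PolynomialLaw.isCompat_apply', expandJ, map_sum, Finset.smul_sum] at h2
  simp only [prod_C_mul_T, LinearMap.rTensor_tmul, AlgHom.toLinearMap_apply, Cm_apply,
    TensorProduct.smul_tmul', smul_eq_mul] at h2
  set Lk : Polynomial (MvPolynomial I A) →ₗ[A] A :=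
    ((MvPolynomial.basisMonomials I A).coord ν₀) ∘ₗ (cT (A := A) (MvPolynomial I A) ν₀.degree) with hLk
  have h3 := congrArg (evalFun N Lk) h2
  rw [map_sum, map_sum] at h3
  simp only [evalFun_tmul] at h3
  have hν₀ : ν₀ ∈ (cfJ F e J).support := Finsupp.mem_support_iff.2 h
  rw [Finset.sum_eq_single ν₀, Finset.sum_eq_single ν₀] at h3
  · rw [hLk, LinearMap.comp_apply, LinearMap.comp_apply, cT_apply, cT_apply, Polynomial.coeff_monomial,
      if_pos rfl, coordI_apply, coeff_monomial, if_pos rfl, one_smul, mul_comm (Polynomial.X ^ d),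
      Polynomial.coeff_C_mul_X_pow] at h3
    by_contra hne
    rw [if_neg hne, coordI_apply, coeff_zero, zero_smul] at h3
    exact h h3
  · intro ν _ hν
    rw [hLk, LinearMap.comp_apply, cT_apply, mul_comm (Polynomial.X ^ d), Polynomial.coeff_C_mul_X_pow]
    split_ifs
    · rw [coordI_apply, coeff_monomial, if_neg hν, zero_smul]
    · rw [map_zero, zero_smul]
  · intro h'
    exact absurd hν₀ h'
  · intro ν _ hν
    rw [hLk, LinearMap.comp_apply, cT_apply, Polynomial.coeff_monomial]
    split_ifs
    · rw [coordI_apply, coeff_monomial, if_neg hν, zero_smul]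
    · rw [map_zero, zero_smul]
  · intro h'
    exact absurd hν₀ h'

end Degree

end Coeff

section Words

variable {I : Type u} {d : ℕ}

/-- The content (multiset of letters, as a finitely supported function) of a word. -/
noncomputable def cont (w : Fin d → I) : I →₀ ℕ := ∑ k, Finsupp.single (w k) 1

theorem cont_degree (w : Fin d → I) : (cont w).degree = d := by
  rw [cont, map_sum]
  simp

theorem mem_support_cont (w : Fin d → I) (k : Fin d) : w k ∈ (cont w).support := by
  classical
  rw [Finsupp.mem_support_iff, cont, Finsupp.finsetSum_apply]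
  have h : 0 < ∑ k', (Finsupp.single (w k') 1 : I →₀ ℕ) (w k) := by
    refine Finset.sum_pos' (fun _ _ => Nat.zero_le _) ⟨k, Finset.mem_univ _, ?_⟩
    simp
  omega

theorem prod_eq_cont {S : Type*} [CommMonoid S] (σ : I → S) (w : Fin d → I) :
    ∏ k, σ (w k) = (cont w).prod (fun i n => σ i ^ n) := by
  rw [cont, ← Finsupp.prod_finsetSum_index (fun _ => pow_zero _) (fun _ _ _ => pow_add _ _ _)]
  refine Finset.prod_congr rfl fun k _ => ?_
  rw [Finsupp.prod_single_index (h := fun i n => σ i ^ n) (pow_zero _), pow_one]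

theorem exists_word : ∀ (d : ℕ) (ν : I →₀ ℕ), ν.degree = d → ∃ w : Fin d → I, cont w = ν := by
  classical
  intro d
  induction d with
  | zero =>
    intro ν h
    refine ⟨Fin.elim0, ?_⟩
    rw [(Finsupp.degree_eq_zero_iff ν).1 h, cont]
    simp
  | succ d ih =>
    intro ν h
    have hne : ν ≠ 0 := by
      intro h0
      rw [h0, map_zero] at h
      omega
    obtain ⟨i, hi⟩ := Finsupp.support_nonempty_iff.2 hne
    have h1 : 1 ≤ ν i := Nat.one_le_iff_ne_zero.2 (Finsupp.mem_support_iff.1 hi)
    have h2 : ν - Finsupp.single i 1 + Finsupp.single i 1 = ν := by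
      ext j
      by_cases hj : j = i
      · subst hj
        simp
        omega
      · simp [Ne.symm hj]
    have h3 : (ν - Finsupp.single i 1).degree = d := by
      have := congrArg Finsupp.degree h2
      rw [map_add, Finsupp.degree_single, h] at this
      omega
    obtain ⟨w', hw'⟩ := ih _ h3
    refine ⟨Fin.cons i w', ?_⟩
    rw [cont, Fin.sum_univ_succ]
    simp only [Fin.cons_zero, Fin.cons_succ]
    rw [← cont, hw', add_comm, h2]

/-- A chosen word with given content. -/
noncomputable def repOf (ν : I →₀ ℕ) (h : ∃ w : Fin d → I, cont w = ν) : Fin d → I := Classical.choose h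

theorem cont_repOf (ν : I →₀ ℕ) (h : ∃ w : Fin d → I, cont w = ν) : cont (repOf ν h) = ν :=
  Classical.choose_spec h

theorem repOf_congr {ν ν' : I →₀ ℕ} (hν : ν = ν') (h : ∃ w : Fin d → I, cont w = ν)
    (h' : ∃ w : Fin d → I, cont w = ν') : repOf ν h = repOf ν' h' := by
  subst hν
  rfl

end Words

section Main

variable {A : Type u} [CommRing A] {P : Type u} [CommRing P] [Algebra A P]
  {N : Type u} [AddCommGroup N] [Module A N] (F : P →ₚₗ[A] N) {I : Type u} (e : Module.Basis I A P) (d : ℕ)

/-- Every element of `S ⊗ P` is a finite combination of the basis. -/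
theorem exists_finsupp_repr {S : Type u} [CommRing S] [Algebra A S] (z : S ⊗[A] P) :
    ∃ σ : I →₀ S, z = σ.sum fun i s => s ⊗ₜ[A] e i := by
  classical
  induction z using TensorProduct.induction_on with
  | zero => exact ⟨0, by simp⟩
  | tmul s p =>
    refine ⟨(e.repr p).mapRange (fun a => a • s) (zero_smul _ _), ?_⟩
    rw [Finsupp.sum_mapRange_index (h := fun i (s : S) => s ⊗ₜ[A] e i) (fun i => TensorProduct.zero_tmul _ _)]
    conv_lhs => rw [← e.linearCombination_repr p, Finsupp.linearCombination_apply, Finsupp.sum,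
      TensorProduct.tmul_sum]
    rw [Finsupp.sum]
    refine Finset.sum_congr rfl fun i _ => ?_
    rw [TensorProduct.tmul_smul, TensorProduct.smul_tmul']
  | add x y hx hy =>
    obtain ⟨σ, rfl⟩ := hx
    obtain ⟨σ', rfl⟩ := hy
    refine ⟨σ + σ', ?_⟩
    rw [Finsupp.sum_add_index' (h := fun i (s : S) => s ⊗ₜ[A] e i) (fun i => TensorProduct.zero_tmul _ _)
      (fun i s s' => TensorProduct.add_tmul _ _ _)]

open Classical in
/-- The linear form on the tensor power attached to a homogeneous law on a free module. -/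
noncomputable def ftil : (⨂[A] _ : Fin d, P) →ₗ[A] N :=
  (Basis.piTensorProduct (fun _ : Fin d => e)).constr A
    (fun w => if w = repOf (cont w) ⟨w, rfl⟩ then aco F (fun i => e i) (cont w) else 0)

open Classical in
theorem ftil_tprod (w : Fin d → I) :
    ftil F e d (PiTensorProduct.tprod A (fun k => e (w k))) =
      if w = repOf (cont w) ⟨w, rfl⟩ then aco F (fun i => e i) (cont w) else 0 := by
  rw [ftil, ← Basis.piTensorProduct_apply, Module.Basis.constr_basis]


theorem exists_of_mem_support_cont {I : Type u} {d : ℕ} (w : Fin d → I) {i : I} (hi : i ∈ (cont w).support) :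
    ∃ k, w k = i := by
  classical
  rw [Finsupp.mem_support_iff, cont, Finsupp.finsetSum_apply] at hi
  obtain ⟨k, _, hk⟩ := Finset.exists_ne_zero_of_sum_ne_zero hi
  refine ⟨k, ?_⟩
  by_contra hne
  exact hk (Finsupp.single_eq_of_ne' hne)

/-- The tensor-power law on a finite combination. -/
theorem tpowLaw_sum_finset {S : Type u} [CommRing S] [Algebra A S] (J : Finset I) (σ : I → S) (b : I → P) :
    (SymTen.tpowLaw A P d).law.toFun' S (∑ i ∈ J, σ i ⊗ₜ[A] b i) =
      ∑ w ∈ Fintype.piFinset (fun _ : Fin d => J), (∏ k, σ (w k)) ⊗ₜ[A] PiTensorProduct.tprod A (fun k => b (w k)) := by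
  classical
  rw [SymTen.tpowLaw, PolLaw.MulLaw.prodMap_toFun']
  simp only [map_sum, Algebra.TensorProduct.map_tmul, AlgHom.id_apply]
  rw [Finset.prod_univ_sum]
  refine Finset.sum_congr rfl fun w _ => ?_
  rw [Groth.Agent.Lib.NormAlt23.prod_tmul, Groth.Agent.Lib.NormAlt23.prod_single]

open Classical in
/-- **Roby**: on a free module, a homogeneous law of degree `d` is a linear form on the tensor power composed with
`x ↦ x ⊗ ⋯ ⊗ x`. -/
theorem ftil_tpow (hF : PolLaw.IsHomog F d) (S : Type u) [CommRing S] [Algebra A S] (z : S ⊗[A] P) :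
    (ftil F e d).lTensor S ((SymTen.tpowLaw A P d).law.toFun' S z) = F.toFun' S z := by
  obtain ⟨σ, rfl⟩ := exists_finsupp_repr e z
  set J := σ.support with hJ
  rw [Finsupp.sum, tpowLaw_sum_finset, map_sum, robyJ F (fun i => e i) (fun i => σ i) J]
  simp only [LinearMap.lTensor_tmul, ftil_tprod]
  set T : (I →₀ ℕ) → S ⊗[A] N := fun ν => (ν.prod fun i k => σ i ^ k) ⊗ₜ[A] aco F (fun i => e i) ν with hT
  set W := (Fintype.piFinset (fun _ : Fin d => J)).filter (fun w => w = repOf (cont w) ⟨w, rfl⟩) with hW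
  have h1 : ∀ w ∈ Fintype.piFinset (fun _ : Fin d => J),
      (∏ k, σ (w k)) ⊗ₜ[A] (if w = repOf (cont w) ⟨w, rfl⟩ then aco F (fun i => e i) (cont w) else 0) =
        if w = repOf (cont w) ⟨w, rfl⟩ then T (cont w) else 0 := by
    intro w _
    split_ifs
    · rw [hT, prod_eq_cont]
    · rw [TensorProduct.tmul_zero]
  rw [Finset.sum_congr rfl h1, ← Finset.sum_filter, ← hW]
  have hinj : ∀ w ∈ W, ∀ w' ∈ W, cont w = cont w' → w = w' := by
    intro w hw w' hw' hc
    rw [(Finset.mem_filter.1 hw).2, (Finset.mem_filter.1 hw').2]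
    exact repOf_congr hc _ _
  rw [← Finset.sum_image (f := T) hinj]
  have h2 : ∀ ν ∈ (cfJ F (fun i => e i) J).support,
      (ν.prod fun i k => σ i ^ k) ⊗ₜ[A] cfJ F (fun i => e i) J ν = T ν := by
    intro ν hν
    rw [hT, cfJ_eq_aco F _ (support_subset_of_cfJ_ne_zero F _ (Finsupp.mem_support_iff.1 hν))]
  rw [Finset.sum_congr rfl h2]
  symm
  apply Finset.sum_subset
  · intro ν hν
    have hne := Finsupp.mem_support_iff.1 hν
    have hsub := support_subset_of_cfJ_ne_zero F _ hne
    have hdeg := degree_of_cfJ_ne_zero F _ hF hne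
    obtain ⟨w₀, hw₀⟩ := exists_word d ν hdeg
    set w := repOf ν ⟨w₀, hw₀⟩ with hw
    have hcw : cont w = ν := cont_repOf ν ⟨w₀, hw₀⟩
    refine Finset.mem_image.2 ⟨w, ?_, hcw⟩
    rw [hW, Finset.mem_filter, Fintype.mem_piFinset]
    refine ⟨fun k => hsub ?_, ?_⟩
    · rw [← hcw]
      exact mem_support_cont w k
    · exact (repOf_congr hcw _ _).symm
  · intro ν hν hν'
    obtain ⟨w, hw, rfl⟩ := Finset.mem_image.1 hν
    have hwJ := Fintype.mem_piFinset.1 (Finset.mem_filter.1 hw).1
    have hsub : (cont w).support ⊆ J := by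
      intro i hi
      obtain ⟨k, rfl⟩ := exists_of_mem_support_cont w hi
      exact hwJ k
    show ((cont w).prod fun i k => σ i ^ k) ⊗ₜ[A] aco F (fun i => e i) (cont w) = 0
    rw [← cfJ_eq_aco F _ hsub, Finsupp.notMem_support_iff.1 hν', TensorProduct.tmul_zero]

/-- Law form of `ftil_tpow`. -/
theorem postcomp_ftil (hF : PolLaw.IsHomog F d) :
    PolLaw.postcomp (ftil F e d) (SymTen.tpowLaw A P d).law = F := by
  apply ext_of_poly
  intro n
  funext z
  rw [postcomp_toFun']
  exact ftil_tpow F e d hF _ z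

end Main

end Groth.Agent.Lib.RobyFree23
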